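import Mathlib.CategoryTheory.Limits.Constructions.Filtered
import Mathlib.CategoryTheory.Limits.Preserves.Finite
import Mathlib.CategoryTheory.Limits.Preserves.Shapes.Products

/-!
# A functor preserving finite coproducts and filtered colimits preserves coproducts (helper95)
-/

set_option autoImplicit false
set_option linter.unusedSectionVars false

open CategoryTheory CategoryTheory.Limits

universe w

namespace Groth.Agent.Lib.CoprodFinFilt95

open CoproductsFromFiniteFiltered

variable {A : Type*} [Category A] {B : Type*} [Category B] {ι : Type w}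
  [HasFiniteCoproducts A] [HasColimitsOfShape (Finset (Discrete ι)) A]
  (G : A ⥤ B) [PreservesFiniteCoproducts G] [PreservesColimitsOfShape (Finset (Discrete ι)) G]

section

variable (K : Discrete ι ⥤ A)

/-- the image of the finite coproduct cocone is a colimit -/
noncomputable def hS (S : Finset (Discrete ι)) : IsColimit (G.mapCocone
    (colimit.cocone (Discrete.functor fun x : S => K.obj x))) :=
  isColimitOfPreserves G (colimit.isColimit _)

/-- the image of the filtered colimit cocone is a colimit -/
noncomputable def hc : IsColimit (G.mapCocone (colimit.cocone (liftToFinsetObj K))) :=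
  isColimitOfPreserves G (colimit.isColimit _)

/-- the inclusion of a summand into a finite subcoproduct -/
noncomputable def inc (S : Finset (Discrete ι)) (x : S) :
    K.obj x.1 ⟶ (liftToFinsetObj K).obj S :=
  Sigma.ι (fun x : S => K.obj x) x

/-- the inclusion of a finite subcoproduct -/
noncomputable def incS (S : Finset (Discrete ι)) :
    (liftToFinsetObj K).obj S ⟶ colimit (liftToFinsetObj K) :=
  colimit.ι (liftToFinsetObj K) S

variable {G K}

/-- the cocone over a finite subcoproduct induced by a cocone over `K ⋙ G` -/
def finCocone (s : Cocone (K ⋙ G)) (S : Finset (Discrete ι)) :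
    Cocone ((Discrete.functor fun x : S => K.obj x) ⋙ G) where
  pt := s.pt
  ι := Discrete.natTrans fun x => s.ι.app x.as.1

/-- the induced map out of the image of a finite subcoproduct -/
noncomputable def finDesc (s : Cocone (K ⋙ G)) (S : Finset (Discrete ι)) :
    G.obj ((liftToFinsetObj K).obj S) ⟶ s.pt :=
  (hS G K S).desc (finCocone s S)

lemma ι_finDesc (s : Cocone (K ⋙ G)) (S : Finset (Discrete ι)) (x : S) :
    G.map (inc K S x) ≫ finDesc s S = s.ι.app x.1 :=
  (hS G K S).fac (finCocone s S) ⟨x⟩

lemma fin_hom_ext (S : Finset (Discrete ι)) {T : B}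
    {a b : G.obj ((liftToFinsetObj K).obj S) ⟶ T}
    (h : ∀ x : S, G.map (inc K S x) ≫ a = G.map (inc K S x) ≫ b) : a = b :=
  (hS G K S).hom_ext (fun ⟨x⟩ => h x)

lemma inc_map (S S' : Finset (Discrete ι)) (h : S ⟶ S') (x : S) :
    inc K S x ≫ (liftToFinsetObj K).map h = inc K S' ⟨x.1, h.down.down x.2⟩ := by
  simp [liftToFinsetObj, inc]

/-- the cocone over the filtered diagram induced by a cocone over `K ⋙ G` -/
noncomputable def filtCocone (s : Cocone (K ⋙ G)) : Cocone (liftToFinsetObj K ⋙ G) where
  pt := s.pt
  ι :=
    { app := fun S => finDesc s S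
      naturality := by
        intro S S' h
        apply fin_hom_ext S
        intro x
        have h1 : G.map (inc K S x) ≫ G.map ((liftToFinsetObj K).map h) ≫ finDesc s S' =
            s.ι.app x.1 := by
          rw [← G.map_comp_assoc, inc_map, ι_finDesc]
        have h2 : G.map (inc K S x) ≫ finDesc s S ≫ 𝟙 s.pt = s.ι.app x.1 := by
          rw [Category.comp_id, ι_finDesc]
        exact h1.trans h2.symm }

/-- the induced map out of the image of the filtered colimit -/
noncomputable def filtDesc (s : Cocone (K ⋙ G)) :
    G.obj (colimit (liftToFinsetObj K)) ⟶ s.pt :=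
  (hc G K).desc (filtCocone s)

lemma ι_filtDesc (s : Cocone (K ⋙ G)) (S : Finset (Discrete ι)) :
    G.map (incS K S) ≫ filtDesc s = finDesc s S :=
  (hc G K).fac (filtCocone s) S

lemma filt_hom_ext {T : B} {a b : G.obj (colimit (liftToFinsetObj K)) ⟶ T}
    (h : ∀ S, G.map (incS K S) ≫ a = G.map (incS K S) ≫ b) : a = b :=
  (hc G K).hom_ext h

variable (K) in
/-- the coprojections of the colimit cocone `liftToFinsetColimitCocone K` -/
noncomputable def coneι (j : Discrete ι) : K.obj j ⟶ colimit (liftToFinsetObj K) :=
  (liftToFinsetColimitCocone K).cocone.ι.app j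

lemma cocone_ι_app (j : Discrete ι) :
    coneι K j = inc K {j} ⟨j, by simp⟩ ≫ incS K {j} := rfl

lemma incS_w (S S' : Finset (Discrete ι)) (h : S ⟶ S') :
    (liftToFinsetObj K).map h ≫ incS K S' = incS K S :=
  colimit.w (liftToFinsetObj K) h

lemma inc_incS (S : Finset (Discrete ι)) (x : S) :
    inc K S x ≫ incS K S = coneι K x.1 := by
  have hle : ({x.1} : Finset (Discrete ι)) ≤ S := Finset.singleton_subset_iff.2 x.2
  rw [cocone_ι_app, ← incS_w _ _ (homOfLE hle), ← Category.assoc, inc_map]

end

/-- `G` maps the colimit cocone `liftToFinsetColimitCocone K` to a colimit cocone. -/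
noncomputable def isColimitMapCocone (K : Discrete ι ⥤ A) :
    IsColimit (G.mapCocone (liftToFinsetColimitCocone K).cocone) where
  desc s := filtDesc s
  fac s := by
    rintro j
    show G.map (coneι K j) ≫ filtDesc s = s.ι.app j
    rw [cocone_ι_app, G.map_comp, Category.assoc, ι_filtDesc, ι_finDesc]
  uniq s m hm := by
    have hm' : ∀ j, G.map (coneι K j) ≫
      (show G.obj (colimit (liftToFinsetObj K)) ⟶ s.pt from m) = s.ι.app j := hm
    show (show G.obj (colimit (liftToFinsetObj K)) ⟶ s.pt from m) = filtDesc s
    generalize (show G.obj (colimit (liftToFinsetObj K)) ⟶ s.pt from m) = m' at hm'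
    apply filt_hom_ext
    intro S
    rw [ι_filtDesc]
    apply fin_hom_ext S
    intro x
    rw [ι_finDesc, ← G.map_comp_assoc, inc_incS]
    exact hm' x.1

theorem preservesColimitsOfShape_discrete : PreservesColimitsOfShape (Discrete ι) G where
  preservesColimit {K} :=
    preservesColimit_of_preserves_colimit_cocone (liftToFinsetColimitCocone K).isColimit
      (isColimitMapCocone G K)

end Groth.Agent.Lib.CoprodFinFilt95
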