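import Mathlib.Algebra.Homology.DerivedCategory.TStructure
import Mathlib.Algebra.Homology.DerivedCategory.Fractions
import Mathlib.Algebra.Homology.DerivedCategory.SingleTriangle
import Mathlib.Algebra.Homology.SingleHomology
import Mathlib.CategoryTheory.Triangulated.TStructure.TruncLEGT
import Mathlib.CategoryTheory.Triangulated.Yoneda

/-!
# Finite `Ext`-dimension and maps into `D^{≤ -n}` (helper31)

Let `P₀` be an object of an abelian category `A`.

* `exists_epi_comp_eq_zero`: a map `P₀[0] ⟶ M` in `D(A)` with `M ∈ D^{≤ -1}` is killed by an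
  epimorphism `P₁ ↠ P₀`.
* `exists_factor`: a map `P₀[0] ⟶ M` with `M ∈ D^{≤ -n}` factors through an object of `D^{[-n,-n]}`.
* `eq_zero_of_ext_vanish`: if `Hom(P₀[0], Z[n]) = 0` for all `Z : A`, then `Hom(P₀[0], M) = 0` for all
  `M ∈ D^{≤ -n}` (no boundedness assumption on `M`).
-/

set_option autoImplicit false

open CategoryTheory CategoryTheory.Limits Pretriangulated DerivedCategory
  DerivedCategory.TStructure HomologicalComplex

universe w v u

namespace Groth.Agent.ExtVanish31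

variable {A : Type u} [Category.{v} A] [Abelian A]

lemma epi_f_of_quasiIso_single {N : CochainComplex A ℤ} (P₀ : A)
    (s : N ⟶ (single A (ComplexShape.up ℤ) 0).obj P₀) [QuasiIso s] :
    Epi (s.f 0 ≫ (singleObjXSelf (ComplexShape.up ℤ) 0 P₀).hom) := by
  have h1 : N.iCycles 0 ≫ s.f 0 ≫ (singleObjXSelf (ComplexShape.up ℤ) 0 P₀).hom =
      N.homologyπ 0 ≫ homologyMap s 0 ≫
        (singleObjHomologySelfIso (ComplexShape.up ℤ) 0 P₀).hom := by
    rw [← cyclesMap_i_assoc, homologyπ_naturality_assoc,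
      homologyπ_singleObjHomologySelfIso_hom, singleObjCyclesSelfIso_hom]
  have h2 : Epi (N.iCycles 0 ≫ s.f 0 ≫ (singleObjXSelf (ComplexShape.up ℤ) 0 P₀).hom) := by
    rw [h1]
    infer_instance
  exact epi_of_epi (N.iCycles 0) _

variable [HasDerivedCategory.{w} A]

/-- a map `P₀[0] ⟶ M` with `M ∈ D^{≤ -1}` is killed by an epimorphism onto `P₀` -/
lemma exists_epi_comp_eq_zero (P₀ : A) (M : DerivedCategory A) [M.IsLE (-1)]
    (f : (singleFunctor A 0).obj P₀ ⟶ M) :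
    ∃ (P₁ : A) (p : P₁ ⟶ P₀), Epi p ∧ (singleFunctor A 0).map p ≫ f = 0 := by
  obtain ⟨Y, hY, ⟨eM⟩⟩ := exists_iso_Q_obj_of_isLE M (-1)
  -- the comparison `P[0] ≅ Q (single P)`, with clean types
  let eS : ∀ X : A, (singleFunctor A 0).obj X ≅ Q.obj ((single A (ComplexShape.up ℤ) 0).obj X) :=
    fun X => (singleFunctorIsoCompQ A 0).app X
  have eS_nat : ∀ {X X' : A} (φ : X ⟶ X'), (singleFunctor A 0).map φ ≫ (eS X').hom =
      (eS X).hom ≫ Q.map ((single A (ComplexShape.up ℤ) 0).map φ) :=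
    fun φ => (singleFunctorIsoCompQ A 0).hom.naturality φ
  obtain ⟨N, hN, s, hs, g, hfac⟩ := right_fac_of_isStrictlyLE
    ((eS P₀).inv ≫ f ≫ eM.hom) 0
  have hqi : QuasiIso s := (isIso_Q_map_iff_quasiIso A s).1 hs
  refine ⟨N.X 0, s.f 0 ≫ (singleObjXSelf (ComplexShape.up ℤ) 0 P₀).hom, epi_f_of_quasiIso_single P₀ s, ?_⟩
  let j : (single A (ComplexShape.up ℤ) 0).obj (N.X 0) ⟶ N :=
    mkHomFromSingle (𝟙 (N.X 0)) (fun k hk => by
      have hk' : (0 : ℤ) + 1 = k := hk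
      exact (N.isZero_of_isStrictlyLE 0 k (by omega)).eq_of_tgt _ _)
  have hj1 : j ≫ s = (single A (ComplexShape.up ℤ) 0).map (s.f 0 ≫ (singleObjXSelf (ComplexShape.up ℤ) 0 P₀).hom) := by
    apply from_single_hom_ext
    rw [comp_f, mkHomFromSingle_f, single_map_f_self, Category.comp_id, Category.assoc,
      Iso.hom_inv_id, Category.comp_id]
  have hj2 : j ≫ g = 0 := by
    apply from_single_hom_ext
    exact (Y.isZero_of_isStrictlyLE (-1) 0 (by omega)).eq_of_tgt _ _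
  have h3 : Q.map ((single A (ComplexShape.up ℤ) 0).map (s.f 0 ≫ (singleObjXSelf (ComplexShape.up ℤ) 0 P₀).hom)) ≫
      ((eS P₀).inv ≫ f ≫ eM.hom) = 0 := by
    rw [hfac, ← hj1, Q.map_comp, Category.assoc, IsIso.hom_inv_id_assoc, ← Q.map_comp, hj2,
      Q.map_zero]
  rw [← cancel_mono eM.hom, zero_comp, Category.assoc]
  have h4 : (singleFunctor A 0).map (s.f 0 ≫ (singleObjXSelf (ComplexShape.up ℤ) 0 P₀).hom) ≫ f ≫ eM.hom =
      ((singleFunctor A 0).map (s.f 0 ≫ (singleObjXSelf (ComplexShape.up ℤ) 0 P₀).hom) ≫ (eS P₀).hom) ≫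
        ((eS P₀).inv ≫ f ≫ eM.hom) := by
    rw [Category.assoc, Iso.hom_inv_id_assoc]
  rw [h4, eS_nat, Category.assoc, h3, comp_zero]

/-- a map `P₀[0] ⟶ M` with `M ∈ D^{≤ -n}` factors through an object concentrated in degree `-n` -/
theorem exists_factor (n : ℕ) : ∀ (P₀ : A) (M : DerivedCategory A), M.IsLE (-(n : ℤ)) →
    ∀ f : (singleFunctor A 0).obj P₀ ⟶ M,
    ∃ (W : DerivedCategory A) (_ : W.IsGE (-(n : ℤ))) (_ : W.IsLE (-(n : ℤ)))
      (u : (singleFunctor A 0).obj P₀ ⟶ W) (v : W ⟶ M), f = u ≫ v := by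
  induction n with
  | zero =>
    intro P₀ M _ f
    refine ⟨(singleFunctor A 0).obj P₀, ?_, ?_, 𝟙 _, f, (Category.id_comp f).symm⟩
    · simp only [Nat.cast_zero, neg_zero]
      infer_instance
    · simp only [Nat.cast_zero, neg_zero]
      infer_instance
  | succ n ih =>
    intro P₀ M hM f
    have hM1 : M.IsLE (-1) := t.isLE_of_le M (-((n + 1 : ℕ) : ℤ)) (-1) (by push_cast; omega)
    obtain ⟨P₁, p, hp, hpf⟩ := exists_epi_comp_eq_zero P₀ M f
    let S : ShortComplex A := ShortComplex.mk (kernel.ι p) p (kernel.condition p)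
    have hS : S.ShortExact :=
      { exact := ShortComplex.exact_of_f_is_kernel _ (kernelIsKernel p)
        mono_f := inferInstanceAs (Mono (kernel.ι p))
        epi_g := hp }
    have hT := hS.singleTriangle_distinguished
    obtain ⟨f', hf'⟩ := Triangle.yoneda_exact₃ _ hT f hpf
    -- `f' : (K[0])⟦1⟧ ⟶ M`
    let c : (M⟦(-1 : ℤ)⟧)⟦(1 : ℤ)⟧ ≅ M := shiftNegShift M (1 : ℤ)
    have hM' : (M⟦(-1 : ℤ)⟧).IsLE (-(n : ℤ)) :=
      t.isLE_shift M (-((n + 1 : ℕ) : ℤ)) (-1) (-(n : ℤ)) (by push_cast; omega)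
    let f'' : (singleFunctor A 0).obj (kernel p) ⟶ M⟦(-1 : ℤ)⟧ :=
      (shiftFunctor (DerivedCategory A) (1 : ℤ)).preimage (f' ≫ c.inv)
    obtain ⟨W', hW'1, hW'2, u', v', huv⟩ := ih (kernel p) (M⟦(-1 : ℤ)⟧) hM' f''
    refine ⟨W'⟦(1 : ℤ)⟧, ?_, ?_, hS.singleδ ≫ u'⟦(1 : ℤ)⟧', v'⟦(1 : ℤ)⟧' ≫ c.hom, ?_⟩
    · exact t.isGE_shift W' (-(n : ℤ)) 1 (-((n + 1 : ℕ) : ℤ)) (by push_cast; omega)
    · exact t.isLE_shift W' (-(n : ℤ)) 1 (-((n + 1 : ℕ) : ℤ)) (by push_cast; omega)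
    · rw [Category.assoc, ← Functor.map_comp_assoc, ← huv, Functor.map_preimage, Category.assoc,
        Iso.inv_hom_id, Category.comp_id]
      exact hf'

/-- **finite `Ext`-dimension kills maps into `D^{≤ -n}`** -/
theorem eq_zero_of_ext_vanish (P₀ : A) (n : ℕ)
    (hExt : ∀ (Z : A) (u : (singleFunctor A 0).obj P₀ ⟶ (singleFunctor A (-(n : ℤ))).obj Z), u = 0)
    (M : DerivedCategory A) (hM : M.IsLE (-(n : ℤ))) (f : (singleFunctor A 0).obj P₀ ⟶ M) :
    f = 0 := by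
  obtain ⟨W, hW1, hW2, u, v, rfl⟩ := exists_factor n P₀ M hM f
  obtain ⟨Z, ⟨e⟩⟩ := exists_iso_singleFunctor_obj_of_isGE_of_isLE W (-(n : ℤ))
  have hu : u = 0 := by
    rw [← cancel_mono e.hom, zero_comp]
    exact hExt Z _
  rw [hu, zero_comp]

end Groth.Agent.ExtVanish31
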