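import Groth.Agent.Lib.CompactBdd31
import Groth.Agent.Lib.ExtVanish31
import Groth.Agent.Lib.DerivedCoprod
import Groth.Prelude.Def_CohCx
import Groth.Prelude.Def_CohSite
import Mathlib.Algebra.Category.Grp.AB
import Mathlib.CategoryTheory.Abelian.GrothendieckAxioms.Sheaf
import Mathlib.CategoryTheory.Sites.Limits
import Mathlib.CategoryTheory.Sites.SheafCohomology.Basic

/-!
# Compactness of the free abelian sheaf `ℤ[h_U]^#` in `D(Sh(C, J))` (helper31)

Let `U` be an object of a small site such that the functors `H^p(U, -)` commute with direct sums.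

* `finSupp_of_isGE` (S0936): maps from `ℤ_U[0]` into a coproduct of a uniformly bounded below family
  are finitely supported.
* `finSupp_of_finite_dim` (S0872): if moreover `H^p(U, -) = 0` for `p > d`, the same holds for all
  families, i.e. `ℤ_U[0]` is a compact object of `D(Sh(C, J))`.
-/

set_option autoImplicit false

open CategoryTheory CategoryTheory.Limits Opposite Pretriangulated DerivedCategory
  DerivedCategory.TStructure

universe u

namespace Groth.Agent.CompactFree31

open Groth.Agent.FinSupp31 Groth.Agent.CompactBdd31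

section Ab

/-- in `Ab`, the point of a colimit cocone over a discrete diagram is generated by the images of the
injections -/
lemma closure_range_eq_top {ι : Type u} {K : Discrete ι ⥤ AddCommGrpCat.{u}} (c : Cocone K)
    (hc : IsColimit c) :
    AddSubgroup.closure (⋃ j, Set.range fun x => ((c.ι.app j).hom x : c.pt) : Set c.pt) = ⊤ := by
  set S := AddSubgroup.closure (⋃ j, Set.range fun x => ((c.ι.app j).hom x : c.pt) : Set c.pt) with hS
  let q : c.pt ⟶ AddCommGrpCat.of (c.pt ⧸ S) := AddCommGrpCat.ofHom (QuotientAddGroup.mk' S)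
  have hq : q = 0 := by
    refine hc.hom_ext (fun j => ?_)
    ext x
    change QuotientAddGroup.mk' S ((c.ι.app j).hom x) = 0
    rw [QuotientAddGroup.mk'_apply, QuotientAddGroup.eq_zero_iff]
    exact AddSubgroup.subset_closure (Set.mem_iUnion.2 ⟨j, ⟨x, rfl⟩⟩)
  rw [eq_top_iff]
  intro x _
  have : QuotientAddGroup.mk' S x = 0 := by
    have := ConcreteCategory.congr_hom hq x
    exact this
  rwa [QuotientAddGroup.mk'_apply, QuotientAddGroup.eq_zero_iff] at this

end Ab

variable {C : Type u} [SmallCategory C] (J : GrothendieckTopology C)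

/-- coproducts of abelian sheaves -/
lemma hasColimitsOfShape_discrete (ι : Type u) :
    HasColimitsOfShape (Discrete ι) (Sheaf J AddCommGrpCat.{u}) :=
  Sheaf.instHasColimitsOfShape

/-- coproducts of abelian sheaves are exact -/
lemma hasExactColimitsOfShape_discrete (ι : Type u) :
    have := hasColimitsOfShape_discrete J ι
    HasExactColimitsOfShape (Discrete ι) (Sheaf J AddCommGrpCat.{u}) :=
  have := hasColimitsOfShape_discrete J ι
  Sheaf.hasExactColimitsOfShape J

variable [HasDerivedCategory.{u} (Sheaf J AddCommGrpCat.{u})]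

lemma hasCoproductsOfShape (ι : Type u) :
    HasCoproductsOfShape ι (DerivedCategory (Sheaf J AddCommGrpCat.{u})) :=
  have := hasColimitsOfShape_discrete J ι
  have := hasExactColimitsOfShape_discrete J ι
  inferInstance

lemma preservesColimitsOfShape_homologyFunctor (ι : Type u) (n : ℤ) :
    PreservesColimitsOfShape (Discrete ι)
      (homologyFunctor (Sheaf J AddCommGrpCat.{u}) n) :=
  have := hasColimitsOfShape_discrete J ι
  have := hasExactColimitsOfShape_discrete J ι
  inferInstance

lemma preservesColimitsOfShape_singleFunctor (ι : Type u) (n : ℤ) :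
    PreservesColimitsOfShape (Discrete ι)
      (singleFunctor (Sheaf J AddCommGrpCat.{u}) n) := by
  have := hasColimitsOfShape_discrete J ι
  have := hasExactColimitsOfShape_discrete J ι
  have h1 : PreservesColimitsOfShape (Discrete ι)
      (HomologicalComplex.single (Sheaf J AddCommGrpCat.{u}) (ComplexShape.up ℤ) n) :=
    inferInstance
  have h1' : PreservesColimitsOfShape (Discrete ι)
      (CochainComplex.singleFunctor (Sheaf J AddCommGrpCat.{u}) n) := h1
  have h2 : PreservesColimitsOfShape (Discrete ι)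
      (CochainComplex.singleFunctor (Sheaf J AddCommGrpCat.{u}) n ⋙ DerivedCategory.Q) :=
    inferInstance
  exact preservesColimitsOfShape_of_natIso (singleFunctorIsoCompQ (Sheaf J AddCommGrpCat.{u}) n).symm

variable (U : C)

/-- `ℤ_U[0]` -/
noncomputable abbrev P : DerivedCategory (Sheaf J AddCommGrpCat.{u}) :=
  (singleFunctor (Sheaf J AddCommGrpCat.{u}) 0).obj (CohCx.freeSheaf J U)

section Base

variable (h2 : ∀ (p : ℕ) (ι : Type u), PreservesColimitsOfShape (Discrete ι)
      ((Sheaf.cohomologyPresheafFunctor J p).flip.obj (op U)))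
  (ι : Type u) [HasCoproductsOfShape ι (DerivedCategory (Sheaf J AddCommGrpCat.{u}))]

include h2 in
/-- maps from `ℤ_U[0]` to `(∐ F i)[0]⟦k⟧` are finitely supported -/
lemma finSupp_shift_single (F : ι → Sheaf J AddCommGrpCat.{u}) (k : ℕ) :
    FinSupp (fun i => ((singleFunctor (Sheaf J AddCommGrpCat.{u}) 0).obj (F i))⟦(k : ℤ)⟧)
      (P J U) := by
  have := hasColimitsOfShape_discrete J ι
  have := preservesColimitsOfShape_singleFunctor J ι 0
  let G : Sheaf J AddCommGrpCat.{u} ⥤ DerivedCategory (Sheaf J AddCommGrpCat.{u}) :=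
    singleFunctor (Sheaf J AddCommGrpCat.{u}) 0 ⋙ shiftFunctor _ (k : ℤ)
  -- the colimit cofan `G (∐ F)`
  let c : Cofan (fun i => ((singleFunctor (Sheaf J AddCommGrpCat.{u}) 0).obj (F i))⟦(k : ℤ)⟧) :=
    Cofan.mk (G.obj (∐ F)) (fun i => G.map (Sigma.ι F i))
  have hc : IsColimit c := isColimitCofanMkObjOfIsColimit G _ _ (coproductIsCoproduct F)
  refine finSupp_of_cofan c hc ?_
  -- the `Ext` side
  have := h2 k ι
  let H := (Sheaf.cohomologyPresheafFunctor J k).flip.obj (op U)
  have hH : IsColimit (H.mapCocone (colimit.cocone (Discrete.functor F))) :=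
    isColimitOfPreserves H (colimit.isColimit _)
  have hgen := closure_range_eq_top _ hH
  rw [eq_top_iff]
  intro f _
  -- `f` corresponds to an `Ext` class
  let x : Abelian.Ext (CohCx.freeSheaf J U) (∐ F) k :=
    (Abelian.Ext.homEquiv (X := CohCx.freeSheaf J U) (Y := ∐ F) (n := k)).symm f
  have hx : x.hom = f := Equiv.apply_symm_apply _ _
  have hxmem : x ∈ AddSubgroup.closure
      (⋃ j, Set.range fun x => (((H.mapCocone (colimit.cocone (Discrete.functor F))).ι.app j).hom x :
          (H.mapCocone (colimit.cocone (Discrete.functor F))).pt) :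
          Set (H.mapCocone (colimit.cocone (Discrete.functor F))).pt) := by
    rw [hgen]; trivial
  have key : ∀ y : Abelian.Ext (CohCx.freeSheaf J U) (∐ F) k,
      y ∈ AddSubgroup.closure
        (⋃ j, Set.range fun x => (((H.mapCocone (colimit.cocone (Discrete.functor F))).ι.app j).hom x :
          (H.mapCocone (colimit.cocone (Discrete.functor F))).pt) :
          Set (H.mapCocone (colimit.cocone (Discrete.functor F))).pt) →
      (y.hom : P J U ⟶ c.pt) ∈ AddSubgroup.closure
        {f : P J U ⟶ c.pt | ∃ (i : ι) (g : P J U ⟶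
          ((singleFunctor (Sheaf J AddCommGrpCat.{u}) 0).obj (F i))⟦(k : ℤ)⟧), f = g ≫ c.inj i} := by
    intro y hy
    induction hy using AddSubgroup.closure_induction with
    | mem y hy =>
      obtain ⟨⟨i⟩, z, rfl⟩ := Set.mem_iUnion.1 hy
      refine AddSubgroup.subset_closure ⟨i, (z : Abelian.Ext (CohCx.freeSheaf J U) (F i) k).hom, ?_⟩
      change ((z : Abelian.Ext (CohCx.freeSheaf J U) (F i) k).comp
        (Abelian.Ext.mk₀ (Sigma.ι F i)) (add_zero k)).hom = _
      rw [Abelian.Ext.comp_hom, Abelian.Ext.mk₀_hom, ShiftedHom.comp_mk₀]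
      rfl
    | zero =>
      change (0 : Abelian.Ext (CohCx.freeSheaf J U) (∐ F) k).hom ∈ _
      rw [Abelian.Ext.zero_hom]
      exact zero_mem _
    | add y z _ _ hy hz =>
      change ((y : Abelian.Ext (CohCx.freeSheaf J U) (∐ F) k) +
        (z : Abelian.Ext (CohCx.freeSheaf J U) (∐ F) k)).hom ∈ _
      rw [Abelian.Ext.add_hom]
      exact add_mem hy hz
    | neg y _ hy =>
      change (-(y : Abelian.Ext (CohCx.freeSheaf J U) (∐ F) k)).hom ∈ _
      rw [Abelian.Ext.neg_hom]
      exact neg_mem hy
  have := key x hxmem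
  rw [hx] at this
  exact this

include h2 in
/-- the base case of the dévissage -/
theorem base [∀ n : ℤ, PreservesColimitsOfShape (Discrete ι)
    (homologyFunctor (Sheaf J AddCommGrpCat.{u}) n)] : Base ι (P J U) := by
  intro F p
  by_cases hp : 0 < p
  · -- no maps for degree reasons
    refine finSupp_of_forall_eq_zero _ _ (fun f => ?_)
    have hGE : (∐ fun i => (singleFunctor (Sheaf J AddCommGrpCat.{u}) p).obj (F i)).IsGE p :=
      isGE_sigma _ p (fun i => inferInstance)
    have hLE : (P J U).IsLE 0 := inferInstance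
    exact t.zero_of_isLE_of_isGE f 0 p hp hLE hGE
  · obtain ⟨k, hk⟩ : ∃ k : ℕ, (k : ℤ) + p = 0 := ⟨(-p).toNat, by omega⟩
    refine finSupp_of_iso (fun i => ?_) (finSupp_shift_single J U h2 ι F k)
    exact ((singleFunctors (Sheaf J AddCommGrpCat.{u})).shiftIso (k : ℤ) p 0 hk).app (F i)

end Base

section Vanish

lemma isLE_P : (P J U).IsLE 0 := inferInstance

/-- finite cohomological dimension of `U` kills maps from `ℤ_U[0]` to `D^{≤ -(d+1)}` -/
theorem vanish (d : ℕ)
    (h1 : ∀ (F : Sheaf J AddCommGrpCat.{u}) (p : ℕ), d < p → Subsingleton (CohSite.HU F p U))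
    (M : DerivedCategory (Sheaf J AddCommGrpCat.{u})) (hM : M.IsLE (-((d + 1 : ℕ) : ℤ)))
    (f : P J U ⟶ M) : f = 0 := by
  refine Groth.Agent.ExtVanish31.eq_zero_of_ext_vanish (CohCx.freeSheaf J U) (d + 1) ?_ M hM f
  intro Z u
  have h' : Subsingleton (Abelian.Ext (CohCx.freeSheaf J U) Z (d + 1)) :=
    h1 Z (d + 1) (Nat.lt_succ_self d)
  have h'' : Subsingleton (P J U ⟶
      ((singleFunctor (Sheaf J AddCommGrpCat.{u}) 0).obj Z)⟦((d + 1 : ℕ) : ℤ)⟧) :=
    (Abelian.Ext.homEquiv (X := CohCx.freeSheaf J U) (Y := Z) (n := d + 1)).symm.subsingleton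
  let γ := ((singleFunctors (Sheaf J AddCommGrpCat.{u})).shiftIso ((d + 1 : ℕ) : ℤ)
    (-((d + 1 : ℕ) : ℤ)) 0 (by omega)).app Z
  rw [← cancel_mono γ.inv, zero_comp]
  exact h''.elim _ _

end Vanish

end Groth.Agent.CompactFree31
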