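import Groth.Prelude.Def_CohDer
import Mathlib.CategoryTheory.Triangulated.Pretriangulated
import Mathlib.CategoryTheory.Limits.Shapes.Products
import Mathlib.CategoryTheory.Limits.Shapes.ZeroMorphisms
import Mathlib.CategoryTheory.Preadditive.Basic

/-!
# Finitely supported maps into a coproduct (helper31)

For a family `Y : ι → D` in a preadditive category with coproduct `∐ Y`, a map `f : P ⟶ ∐ Y` is
*finitely supported* when `f ≫ e Y s = f` for a finite set `s`, where `e Y s` is the idempotent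
projecting onto the summands indexed by `s`.

* `FinSupp Y P`: every map `P ⟶ ∐ Y` is finitely supported.
* `bijective_of_finSupp`: then `CohDer.homSumToHomCoprod P Y` is bijective (injectivity is automatic).
* `finSupp_obj₂`: in a pretriangulated category, for a family of distinguished triangles,
  `FinSupp` for the first and third vertices implies `FinSupp` for the second.
* `finSupp_of_cofan`: recognition through any colimit cofan.
-/

set_option autoImplicit false

open CategoryTheory CategoryTheory.Limits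

universe w v u

namespace Groth.Agent.FinSupp31

open Classical in
/-- the idempotent of `∐ Y` projecting onto the summands indexed by `s` -/
noncomputable def e {D : Type u} [Category.{v} D] [Preadditive D] {ι : Type w} (Y : ι → D)
    [HasCoproduct Y] (s : Finset ι) : ∐ Y ⟶ ∐ Y :=
  ∑ i ∈ s, Sigma.π Y i ≫ Sigma.ι Y i

section Basic

variable {D : Type u} [Category.{v} D] [Preadditive D] {ι : Type w} (Y : ι → D) [HasCoproduct Y]

open Classical in
lemma ι_e (s : Finset ι) (j : ι) :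
    Sigma.ι Y j ≫ e Y s = if j ∈ s then Sigma.ι Y j else 0 := by
  unfold e
  rw [Preadditive.comp_sum]
  by_cases hj : j ∈ s
  · rw [if_pos hj, Finset.sum_eq_single j]
    · rw [Sigma.ι_π_eq_id_assoc]
    · intro i _ hij
      rw [Sigma.ι_π_of_ne_assoc _ (Ne.symm hij), zero_comp]
    · intro h
      exact absurd hj h
  · rw [if_neg hj]
    refine Finset.sum_eq_zero (fun i hi => ?_)
    have hij : j ≠ i := by
      rintro rfl
      exact hj hi
    rw [Sigma.ι_π_of_ne_assoc _ hij, zero_comp]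

lemma ι_e_of_mem {s : Finset ι} {j : ι} (hj : j ∈ s) : Sigma.ι Y j ≫ e Y s = Sigma.ι Y j := by
  rw [ι_e, if_pos hj]

lemma ι_e_of_not_mem {s : Finset ι} {j : ι} (hj : j ∉ s) : Sigma.ι Y j ≫ e Y s = 0 := by
  rw [ι_e, if_neg hj]

lemma e_e {s t : Finset ι} (h : s ⊆ t) : e Y s ≫ e Y t = e Y s := by
  apply Sigma.hom_ext
  intro j
  by_cases hj : j ∈ s
  · rw [← Category.assoc, ι_e_of_mem Y hj, ι_e_of_mem Y (h hj)]
  · rw [← Category.assoc, ι_e_of_not_mem Y hj, zero_comp]

lemma map_e {Y' : ι → D} [HasCoproduct Y'] (c : ∀ i, Y i ⟶ Y' i) (s : Finset ι) :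
    Limits.Sigma.map c ≫ e Y' s = e Y s ≫ Limits.Sigma.map c := by
  apply Sigma.hom_ext
  intro j
  rw [Sigma.ι_map_assoc]
  by_cases hj : j ∈ s
  · rw [ι_e_of_mem Y' hj, ← Category.assoc, ι_e_of_mem Y hj, Sigma.ι_map]
  · rw [ι_e_of_not_mem Y' hj, ← Category.assoc, ι_e_of_not_mem Y hj, comp_zero, zero_comp]

open Classical in
lemma comp_e_eq_sum {P : D} (f : P ⟶ ∐ Y) (s : Finset ι) :
    f ≫ e Y s = ∑ i ∈ s, (f ≫ Sigma.π Y i) ≫ Sigma.ι Y i := by
  unfold e
  rw [Preadditive.comp_sum]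
  refine Finset.sum_congr rfl (fun i _ => ?_)
  rw [Category.assoc]

variable (P : D)

/-- the subgroup of finitely supported maps `P ⟶ ∐ Y` -/
noncomputable def finSub : AddSubgroup (P ⟶ ∐ Y) where
  carrier := {f | ∃ s : Finset ι, f ≫ e Y s = f}
  zero_mem' := ⟨∅, zero_comp⟩
  add_mem' := by
    classical
    rintro f g ⟨s, hs⟩ ⟨t, ht⟩
    refine ⟨s ∪ t, ?_⟩
    rw [Preadditive.add_comp]
    conv_lhs => rw [← hs, ← ht]
    rw [Category.assoc, Category.assoc, e_e Y Finset.subset_union_left,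
      e_e Y Finset.subset_union_right, hs, ht]
  neg_mem' := by
    rintro f ⟨s, hs⟩
    exact ⟨s, by rw [Preadditive.neg_comp, hs]⟩

lemma mem_finSub_iff (f : P ⟶ ∐ Y) : f ∈ finSub Y P ↔ ∃ s : Finset ι, f ≫ e Y s = f := Iff.rfl

lemma comp_ι_mem_finSub (i : ι) (g : P ⟶ Y i) : g ≫ Sigma.ι Y i ∈ finSub Y P := by
  classical
  exact ⟨{i}, by rw [Category.assoc, ι_e_of_mem Y (Finset.mem_singleton_self i)]⟩

/-- every map `P ⟶ ∐ Y` is finitely supported -/
def FinSupp : Prop := ∀ f : P ⟶ ∐ Y, ∃ s : Finset ι, f ≫ e Y s = f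

lemma finSupp_iff : FinSupp Y P ↔ finSub Y P = ⊤ := by
  constructor
  · intro h
    rw [eq_top_iff]
    intro f _
    exact h f
  · intro h f
    have : f ∈ finSub Y P := by rw [h]; trivial
    exact this

lemma finSupp_of_forall_eq_zero (h : ∀ f : P ⟶ ∐ Y, f = 0) : FinSupp Y P := by
  intro f
  exact ⟨∅, by rw [h f, zero_comp]⟩

variable {Y P} in
/-- recognition of `FinSupp` through an arbitrary colimit cofan -/
lemma finSupp_of_cofan (c : Cofan Y) (hc : IsColimit c)
    (h : AddSubgroup.closure {f : P ⟶ c.pt | ∃ (i : ι) (g : P ⟶ Y i), f = g ≫ c.inj i} = ⊤) :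
    FinSupp Y P := by
  let φ : c.pt ≅ ∐ Y := hc.coconePointUniqueUpToIso (colimit.isColimit _)
  have hφ : ∀ i, c.inj i ≫ φ.hom = Sigma.ι Y i := fun i =>
    hc.comp_coconePointUniqueUpToIso_hom (colimit.isColimit _) ⟨i⟩
  intro f
  have hf : f ≫ φ.inv ∈ AddSubgroup.closure
      {f : P ⟶ c.pt | ∃ (i : ι) (g : P ⟶ Y i), f = g ≫ c.inj i} := by
    rw [h]; trivial
  have key : ∀ x : P ⟶ c.pt, x ∈ AddSubgroup.closure
      {f : P ⟶ c.pt | ∃ (i : ι) (g : P ⟶ Y i), f = g ≫ c.inj i} → x ≫ φ.hom ∈ finSub Y P := by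
    intro x hx
    induction hx using AddSubgroup.closure_induction with
    | mem x hx =>
      obtain ⟨i, g, rfl⟩ := hx
      rw [Category.assoc, hφ]
      exact comp_ι_mem_finSub Y P i g
    | zero => rw [zero_comp]; exact zero_mem _
    | add x y _ _ hx hy => rw [Preadditive.add_comp]; exact add_mem hx hy
    | neg x _ hx => rw [Preadditive.neg_comp]; exact neg_mem hx
  have := key _ hf
  rw [Category.assoc, Iso.inv_hom_id, Category.comp_id] at this
  exact this

variable {Y P} in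
/-- `FinSupp` is invariant under isomorphisms of families -/
lemma finSupp_of_iso {Y' : ι → D} [HasCoproduct Y'] (ε : ∀ i, Y i ≅ Y' i) (h : FinSupp Y P) :
    FinSupp Y' P := by
  intro f
  have hinv : Limits.Sigma.map (fun i => (ε i).inv) ≫ Limits.Sigma.map (fun i => (ε i).hom) =
      𝟙 (∐ Y') := by
    apply Sigma.hom_ext
    intro j
    rw [Sigma.ι_map_assoc, Sigma.ι_map, Iso.inv_hom_id_assoc, Category.comp_id]
  obtain ⟨s, hs⟩ := h (f ≫ Limits.Sigma.map (fun i => (ε i).inv))
  refine ⟨s, ?_⟩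
  calc f ≫ e Y' s
      = f ≫ (Limits.Sigma.map (fun i => (ε i).inv) ≫ Limits.Sigma.map (fun i => (ε i).hom)) ≫
          e Y' s := by rw [hinv, Category.id_comp]
    _ = ((f ≫ Limits.Sigma.map (fun i => (ε i).inv)) ≫ e Y s) ≫
          Limits.Sigma.map (fun i => (ε i).hom) := by
        rw [Category.assoc, Category.assoc, Category.assoc, map_e]
    _ = f := by rw [hs, Category.assoc, hinv, Category.comp_id]

end Basic

section Compact

variable {D : Type u} [Category.{v} D] [Preadditive D] {ι : Type v} (Y : ι → D) [HasCoproduct Y]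
  (P : D)

open Classical in
lemma homSumToHomCoprod_of (i : ι) (g : P ⟶ Y i) :
    CohDer.homSumToHomCoprod P Y (DirectSum.of (fun i => P ⟶ Y i) i g) = g ≫ Sigma.ι Y i := by
  classical
  rw [CohDer.homSumToHomCoprod]
  exact DirectSum.toAddMonoid_of (fun i => Preadditive.rightComp P (Sigma.ι Y i)) i g

open Classical in
lemma homSumToHomCoprod_comp_π (x : DirectSum ι (fun i => P ⟶ Y i)) (i : ι) :
    CohDer.homSumToHomCoprod P Y x ≫ Sigma.π Y i = x i := by
  induction x using DirectSum.induction_on with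
  | zero => rw [map_zero, zero_comp]; rfl
  | of j g =>
    rw [homSumToHomCoprod_of, Category.assoc]
    by_cases hji : j = i
    · subst hji
      rw [Sigma.ι_π_eq_id, Category.comp_id, DirectSum.of_eq_same]
    · rw [Sigma.ι_π_of_ne _ hji, comp_zero, DirectSum.of_eq_of_ne _ _ _ (Ne.symm hji)]
  | add a b ha hb =>
    rw [map_add, Preadditive.add_comp, ha, hb]
    rfl

/-- the comparison map is always injective -/
lemma injective_homSumToHomCoprod : Function.Injective (CohDer.homSumToHomCoprod P Y) := by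
  classical
  rw [injective_iff_map_eq_zero]
  intro x hx
  refine DFinsupp.ext (fun i => ?_)
  rw [← homSumToHomCoprod_comp_π Y P x i, hx, zero_comp]
  rfl

variable {Y P} in
theorem bijective_of_finSupp (h : FinSupp Y P) :
    Function.Bijective (CohDer.homSumToHomCoprod P Y) := by
  classical
  refine ⟨injective_homSumToHomCoprod Y P, fun f => ?_⟩
  obtain ⟨s, hs⟩ := h f
  refine ⟨∑ i ∈ s, DirectSum.of (fun i => P ⟶ Y i) i (f ≫ Sigma.π Y i), ?_⟩
  calc CohDer.homSumToHomCoprod P Y (∑ i ∈ s, DirectSum.of (fun i => P ⟶ Y i) i (f ≫ Sigma.π Y i))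
      = ∑ i ∈ s, CohDer.homSumToHomCoprod P Y
          (DirectSum.of (fun i => P ⟶ Y i) i (f ≫ Sigma.π Y i)) := map_sum _ _ _
    _ = ∑ i ∈ s, (f ≫ Sigma.π Y i) ≫ Sigma.ι Y i :=
        Finset.sum_congr rfl (fun i _ => homSumToHomCoprod_of Y P i _)
    _ = f ≫ e Y s := (comp_e_eq_sum Y f s).symm
    _ = f := hs

end Compact

section Triangles

open Pretriangulated

variable {D : Type u} [Category.{v} D] [Preadditive D] [HasZeroObject D] [HasShift D ℤ]
  [∀ n : ℤ, (shiftFunctor D n).Additive] [Pretriangulated D]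
  {ι : Type w} (T : ι → Triangle D) (hT : ∀ i, T i ∈ distTriang D)
  [HasCoproduct (fun i => (T i).obj₁)] [HasCoproduct (fun i => (T i).obj₂)]
  [HasCoproduct (fun i => (T i).obj₃)]

include hT in
/-- exactness of `Hom(P, ∐ obj₁) → Hom(P, ∐ obj₂) → Hom(P, ∐ obj₃)` -/
lemma exists_lift_sigma {P : D} (f : P ⟶ ∐ fun i => (T i).obj₂)
    (hf : f ≫ Limits.Sigma.map (fun i => (T i).mor₂) = 0) :
    ∃ a : P ⟶ ∐ fun i => (T i).obj₁, a ≫ Limits.Sigma.map (fun i => (T i).mor₁) = f := by
  obtain ⟨Z, β, γ, hT'⟩ := distinguished_cocone_triangle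
    (Limits.Sigma.map (fun i => (T i).mor₁))
  have hψ : ∀ i, ∃ ψ : (T i).obj₃ ⟶ Z,
      (T i).mor₂ ≫ ψ = Sigma.ι (fun i => (T i).obj₂) i ≫ β := by
    intro i
    obtain ⟨ψ, hψ, _⟩ := complete_distinguished_triangle_morphism (T i) _ (hT i) hT'
      (Sigma.ι (fun i => (T i).obj₁) i) (Sigma.ι (fun i => (T i).obj₂) i)
      (Sigma.ι_map (f := fun i => (T i).obj₁) (g := fun i => (T i).obj₂)
        (fun i => (T i).mor₁) i).symm
    exact ⟨ψ, hψ⟩
  choose ψ hψ using hψ
  have hβ : Limits.Sigma.map (fun i => (T i).mor₂) ≫ Sigma.desc ψ = β := by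
    apply Sigma.hom_ext
    intro i
    rw [Sigma.ι_map_assoc, Sigma.ι_desc, hψ]
  have hfβ : f ≫ β = 0 := by
    rw [← hβ, ← Category.assoc, hf, zero_comp]
  obtain ⟨a, ha⟩ := Triangle.coyoneda_exact₂ _ hT' f hfβ
  exact ⟨a, ha.symm⟩

include hT in
/-- **dévissage**: `FinSupp` for the outer vertices of a family of distinguished triangles implies
`FinSupp` for the middle vertices -/
theorem finSupp_obj₂ (P : D) (h₁ : FinSupp (fun i => (T i).obj₁) P)
    (h₃ : FinSupp (fun i => (T i).obj₃) P) : FinSupp (fun i => (T i).obj₂) P := by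
  classical
  intro f
  obtain ⟨s, hs⟩ := h₃ (f ≫ Limits.Sigma.map (fun i => (T i).mor₂))
  have hf' : (f - f ≫ e _ s) ≫ Limits.Sigma.map (fun i => (T i).mor₂) = 0 := by
    rw [Preadditive.sub_comp, Category.assoc, ← map_e, ← Category.assoc, hs, sub_self]
  obtain ⟨a, ha⟩ := exists_lift_sigma T hT _ hf'
  obtain ⟨s', hs'⟩ := h₁ a
  have h' : (f - f ≫ e _ s) ≫ e _ s' = f - f ≫ e _ s := by
    rw [← ha, Category.assoc, map_e, ← Category.assoc, hs']
  refine ⟨s ∪ s', ?_⟩
  have h1 : f = f ≫ e _ s + (f - f ≫ e _ s) := by abel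
  conv_lhs => rw [h1]
  rw [Preadditive.add_comp, Category.assoc, e_e _ Finset.subset_union_left]
  conv_lhs => rw [← h']
  rw [Category.assoc, e_e _ Finset.subset_union_right, h']
  abel

end Triangles

end Groth.Agent.FinSupp31
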