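/-
helper66: quasi-compact objects of a site (`CohCx.IsQcObject (h_U^#)`): every covering family of `U` has a finite
covering subfamily.
-/
import Groth.Prelude.Def_CohCx
import Mathlib.CategoryTheory.Sites.LocallyBijective

set_option autoImplicit false
universe u
open CategoryTheory CategoryTheory.Limits Opposite

namespace Groth.Agent.Lib.QcObject66

variable {C : Type u} [SmallCategory C] {J : GrothendieckTopology C}

/-- the sheaf `h_U^#` -/
noncomputable abbrev hSh (J : GrothendieckTopology C) (U : C) : Sheaf J (Type u) :=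
  (presheafToSheaf J (Type u)).obj (yoneda.obj U)

/-- the canonical section of `h_U^#` over `V` attached to `a : V ⟶ U` -/
noncomputable def η (J : GrothendieckTopology C) {U V : C} (a : V ⟶ U) : (hSh J U).obj.obj (op V) :=
  (toSheafify J (yoneda.obj U)).app (op V) a

lemma η_res {U V V' : C} (a : V ⟶ U) (b : V' ⟶ V) :
    (hSh J U).obj.map b.op (η J a) = η J (b ≫ a) := by
  have := NatTrans.naturality_apply (toSheafify J (yoneda.obj U)) b.op a
  exact this.symm

lemma η_map {U U' V : C} (f : U ⟶ U') (a : V ⟶ U) :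
    ((presheafToSheaf J (Type u)).map (yoneda.map f)).hom.app (op V) (η J a) = η J (a ≫ f) := by
  have h := toSheafify_naturality J (yoneda.map f)
  have := congrArg (fun φ => φ.app (op V) a) h
  exact this.symm

/-- sections of `h_U^#` are locally of the form `η a` -/
lemma exists_local_η {U V : C} (s : (hSh J U).obj.obj (op V)) :
    ∃ S ∈ J V, ∀ ⦃V' : C⦄ (g : V' ⟶ V), S.arrows g →
      ∃ a : V' ⟶ U, η J a = (hSh J U).obj.map g.op s := by
  refine ⟨_, Presheaf.imageSieve_mem J (toSheafify J (yoneda.obj U)) s, ?_⟩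
  intro V' g hg
  obtain ⟨a, ha⟩ := hg
  exact ⟨a, ha⟩

/-- `η a = η b` implies that `a` and `b` are locally equal -/
lemma exists_local_eq {U V : C} (a b : V ⟶ U) (h : η J a = η J b) :
    ∃ S ∈ J V, ∀ ⦃V' : C⦄ (g : V' ⟶ V), S.arrows g → g ≫ a = g ≫ b := by
  refine ⟨_, Presheaf.equalizerSieve_mem J (toSheafify J (yoneda.obj U)) (X := op V) a b h, ?_⟩
  intro V' g hg
  exact hg

/-- **finite subcovers**: for a quasi-compact object `U`, a covering family has a finite covering subfamily -/
theorem exists_finite_subfamily {U : C} (hU : CohCx.IsQcObject (hSh J U)) {ι : Type u} (Y : ι → C)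
    (f : ∀ i, Y i ⟶ U) (h : Sieve.ofArrows Y f ∈ J U) :
    ∃ t : Finset ι, Sieve.ofArrows (fun i : t => Y i.1) (fun i => f i.1) ∈ J U := by
  -- joint surjectivity of `h_{Y i}^# ⟶ h_U^#`
  have hjs : CohCx.JointlySurjective (K := hSh J U) (L := fun i => hSh J (Y i))
      (fun i => (presheafToSheaf J (Type u)).map (yoneda.map (f i))) := by
    intro V s
    obtain ⟨S₁, hS₁, hS₁'⟩ := exists_local_η s
    refine ⟨Sieve.bind S₁ (fun V' g _ => (Sieve.ofArrows Y f).pullback
      (Classical.choose (hS₁' g ‹_›))), J.bind_covering hS₁ (fun V' g hg => J.pullback_stable _ h), ?_⟩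
    rintro V'' k ⟨V', b, g, hg, hb, rfl⟩
    have ha := Classical.choose_spec (hS₁' g hg)
    set a := Classical.choose (hS₁' g hg)
    obtain ⟨W, c, d, ⟨i⟩, hcd⟩ := hb
    refine ⟨i, η J c, ?_⟩
    rw [η_map, hcd, op_comp, Functor.map_comp]
    exact (η_res a b).symm.trans (congrArg _ ha)
  obtain ⟨t, ht⟩ := hU ι (fun i => hSh J (Y i))
    (fun i => (presheafToSheaf J (Type u)).map (yoneda.map (f i))) hjs
  refine ⟨t, ?_⟩
  obtain ⟨S, hS, hS'⟩ := ht U (η J (𝟙 U))
  refine J.transitive hS _ (fun V' g hg => ?_)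
  obtain ⟨i, x, hx⟩ := hS' V' g hg
  obtain ⟨S₂, hS₂, hS₂'⟩ := exists_local_η x
  refine J.transitive hS₂ _ (fun V'' b hb => ?_)
  obtain ⟨c, hc⟩ := hS₂' b hb
  have h1 : η J (c ≫ f i.1) = η J ((b ≫ g) ≫ 𝟙 U) := by
    rw [← η_map, hc, ← η_res, op_comp, Functor.map_comp]
    have h2 := NatTrans.naturality_apply
      ((presheafToSheaf J (Type u)).map (yoneda.map (f i.1))).hom b.op x
    refine h2.trans ?_
    change (hSh J U).obj.map b.op _ = (hSh J U).obj.map b.op ((hSh J U).obj.map g.op (η J (𝟙 U)))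
    exact congrArg _ hx
  obtain ⟨S₃, hS₃, hS₃'⟩ := exists_local_eq _ _ h1
  refine J.superset_covering ?_ hS₃
  intro V''' d hd
  have h3 := hS₃' d hd
  change (Sieve.ofArrows _ _).arrows ((d ≫ b) ≫ g)
  rw [Category.comp_id] at h3
  have h4 : (d ≫ b) ≫ g = (d ≫ c) ≫ f i.1 := by
    rw [Category.assoc, Category.assoc, h3]
  rw [h4]
  exact Sieve.downward_closed _ (Sieve.ofArrows_mk _ _ i) _

end Groth.Agent.Lib.QcObject66
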