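import Groth.Prelude.Def_CohCx
import Mathlib.CategoryTheory.Triangulated.Yoneda

/-!
# Derived limits in a pretriangulated category: injectivity criterion (helper31)

For a tower `K n` with derived limit `L` (through `a n`), a test object `W` and `m : ℤ`:
if `R¹lim Hom(W, K n[m-1]) = 0` and `Hom(W, K (nV+k)[m]) → Hom(W, K nV[m])` is injective
for all `k`, then `Hom(W, L[m]) → Hom(W, K nV[m])` is injective.
-/

set_option autoImplicit false
set_option linter.unusedSectionVars false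

open CategoryTheory CategoryTheory.Limits Opposite Pretriangulated

universe v' u'

namespace Groth.Agent.RlimTri31

variable {T : Type u'} [Category.{v'} T] [Preadditive T] [HasZeroObject T] [HasShift T ℤ]
  [∀ n : ℤ, (shiftFunctor T n).Additive] [Pretriangulated T]

section Prod

variable (K : ℕ → T) [HasProduct K] (j : ℤ)

/-- `(∏ K)[j]` is a product of the `K n [j]` -/
noncomputable def shiftProdIsLimit :
    IsLimit (Fan.mk _ (fun n => (Pi.π K n)⟦j⟧') : Fan fun n => (K n)⟦j⟧) :=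
  isLimitOfHasProductOfPreservesLimit (shiftFunctor T j) K

lemma shiftProd_ext {W : T} (f g : W ⟶ (∏ᶜ K)⟦j⟧)
    (h : ∀ n, f ≫ (Pi.π K n)⟦j⟧' = g ≫ (Pi.π K n)⟦j⟧') : f = g :=
  (shiftProdIsLimit K j).hom_ext (fun ⟨n⟩ => h n)

/-- lift into the shifted product -/
noncomputable def shiftProdLift {W : T} (b : ∀ n, W ⟶ (K n)⟦j⟧) : W ⟶ (∏ᶜ K)⟦j⟧ :=
  (shiftProdIsLimit K j).lift (Fan.mk W b)

@[reassoc (attr := simp)]
lemma shiftProdLift_π {W : T} (b : ∀ n, W ⟶ (K n)⟦j⟧) (n : ℕ) :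
    shiftProdLift K j b ≫ (Pi.π K n)⟦j⟧' = b n :=
  (shiftProdIsLimit K j).fac (Fan.mk W b) ⟨n⟩

end Prod

variable (K : ℕ → T) (t : ∀ n, K (n + 1) ⟶ K n) [HasProduct K] (L : T) (a : ∀ n, L ⟶ K n)

/-- the map `(x_n) ↦ (x_n - t_n x_{n+1})` -/
noncomputable abbrev φ : ∏ᶜ K ⟶ ∏ᶜ K := Pi.lift fun n => Pi.π K n - Pi.π K (n + 1) ≫ t n

include K t L a in
lemma a_succ (hL : CohCx.IsRlimVia K t L a) (n : ℕ) : a (n + 1) ≫ t n = a n := by
  obtain ⟨c, hc⟩ := hL
  have h : Pi.lift a ≫ φ K t = 0 := comp_distTriang_mor_zero₁₂ _ hc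
  have h2 : (Pi.lift a ≫ φ K t) ≫ Pi.π K n = 0 := by rw [h, zero_comp]
  rw [Category.assoc, Pi.lift_π, Preadditive.comp_sub, Pi.lift_π, Pi.lift_π_assoc] at h2
  exact (sub_eq_zero.1 h2).symm

lemma a_transition (hL : CohCx.IsRlimVia K t L a) (n k : ℕ) :
    a (n + k) ≫ CohCx.transition K t n k = a n := by
  induction k with
  | zero => exact Category.comp_id _
  | succ k ih =>
    change a (n + k + 1) ≫ t (n + k) ≫ CohCx.transition K t n k = a n
    rw [← Category.assoc, a_succ K t L a hL, ih]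

/-- **injectivity criterion** -/
theorem eq_zero_of_comp_eq_zero (hL : CohCx.IsRlimVia K t L a) (W : T) (m : ℤ) (nV : ℕ)
    (h1 : CohCx.LimOneIsZero (fun n => (W ⟶ (K n)⟦m - 1⟧))
      (fun n => Preadditive.rightComp W ((shiftFunctor T (m - 1)).map (t n))))
    (h2 : ∀ k : ℕ, Function.Injective
      (Preadditive.rightComp W ((shiftFunctor T m).map (CohCx.transition K t nV k))))
    (ξ : W ⟶ L⟦m⟧) (hξ : ξ ≫ (a nV)⟦m⟧' = 0) : ξ = 0 := by
  -- step 3: all components vanish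
  have h3 : ∀ n, ξ ≫ (a n)⟦m⟧' = 0 := by
    intro n
    rcases le_total n nV with hn | hn
    · obtain ⟨k, rfl⟩ := Nat.exists_eq_add_of_le hn
      rw [← a_transition K t L a hL n k, Functor.map_comp, ← Category.assoc, hξ, zero_comp]
    · obtain ⟨k, rfl⟩ := Nat.exists_eq_add_of_le hn
      apply h2 k
      change (ξ ≫ (a (nV + k))⟦m⟧') ≫ (CohCx.transition K t nV k)⟦m⟧' = 0 ≫ _
      rw [Category.assoc, ← Functor.map_comp, a_transition K t L a hL, hξ, zero_comp]
  -- step 4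
  have h4 : ξ ≫ (Pi.lift a)⟦m⟧' = 0 := by
    apply shiftProd_ext K m
    intro n
    rw [Category.assoc, ← Functor.map_comp, Pi.lift_π, h3, zero_comp]
  obtain ⟨c, hc⟩ := hL
  -- step 5: exactness
  let F := preadditiveCoyoneda.obj (op W)
  have hex := F.homologySequence_exact₁ _ hc (m - 1) m (by omega)
  rw [ShortComplex.ab_exact_iff] at hex
  obtain ⟨η, hη⟩ := hex ξ h4
  -- step 6
  let η' : W ⟶ (∏ᶜ K)⟦m - 1⟧ := η
  obtain ⟨b, hb⟩ := h1 (fun n => η' ≫ (Pi.π K n)⟦m - 1⟧')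
  have hb' : ∀ n, b n - b (n + 1) ≫ (t n)⟦m - 1⟧' = η' ≫ (Pi.π K n)⟦m - 1⟧' :=
    fun n => congrFun hb n
  have h6 : shiftProdLift K (m - 1) b ≫ (φ K t)⟦m - 1⟧' = η' := by
    apply shiftProd_ext K (m - 1)
    intro n
    rw [Category.assoc, ← Functor.map_comp, Pi.lift_π, Functor.map_sub, Functor.map_comp,
      Preadditive.comp_sub, shiftProdLift_π, shiftProdLift_π_assoc, hb']
  have h7 := F.comp_homologySequenceδ _ hc (m - 1) m (by omega)
  have h8 := congrArg (fun f => f.hom (shiftProdLift K (m - 1) b)) h7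
  rw [← hη]
  have h9 : η = ((F.shift (m - 1)).map (φ K t)).hom (shiftProdLift K (m - 1) b) := h6.symm
  rw [h9]
  exact h8

end Groth.Agent.RlimTri31
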