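import Groth.Agent.Lib.LocGen31
import Groth.Agent.Lib.RlimTri31

/-!
# Hypercohomology over local generators vs. cohomology sheaves (helper31)

Port of `HyperLocal31` / `RlimLocal31` to an abelian category `𝒜` with local generators
(`LocGen31.Gen Γ`): for `K : D(𝒜)` the map `θfun : Hom_D(Z U[0], K) → Γ(H⁰ K)(U)` is locally
bijective, and the local criterion for injectivity of `Γ(H^m α)(V)`.
-/

set_option autoImplicit false
set_option linter.unusedSectionVars false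

open CategoryTheory CategoryTheory.Limits Opposite HomologicalComplex DerivedCategory

universe w v' u' u

namespace Groth.Agent.LocGen31

open Groth.Agent.SingleMaps31

variable {C : Type u} [SmallCategory C] {J : GrothendieckTopology C}
  {𝒜 : Type u'} [Category.{v'} 𝒜] [Abelian 𝒜] [HasDerivedCategory.{w} 𝒜]
  {Γ : 𝒜 ⥤ Sheaf J AddCommGrpCat.{u}} [Γ.Additive] [Γ.PreservesEpimorphisms] (𝒢 : Gen Γ)

namespace Gen

/-- `Z U [0]` in the derived category -/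
noncomputable abbrev ZD (U : C) : DerivedCategory 𝒜 :=
  Q.obj ((s0 (𝒜 := 𝒜)).obj (𝒢.Z U))

/-- restriction maps `Z V[0] ⟶ Z U[0]` -/
noncomputable abbrev ZDmap {U V : C} (h : V ⟶ U) : 𝒢.ZD V ⟶ 𝒢.ZD U :=
  Q.map ((s0 (𝒜 := 𝒜)).map (𝒢.Zmap h))

/-- the comparison map on sections -/
noncomputable def θfun (U : C) (K : DerivedCategory 𝒜) (f : 𝒢.ZD U ⟶ K) :
    (Γ.obj ((homologyFunctor 𝒜 0).obj K)).obj.obj (op U) :=
  𝒢.e U _ (σ (𝒢.Z U) ≫ (homologyFunctor 𝒜 0).map f)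

lemma θfun_zero (U : C) (K : DerivedCategory 𝒜) : 𝒢.θfun U K 0 = 0 := by
  unfold θfun
  rw [Functor.map_zero, comp_zero, 𝒢.e_zero]

lemma θfun_add (U : C) (K : DerivedCategory 𝒜) (f g : 𝒢.ZD U ⟶ K) :
    𝒢.θfun U K (f + g) = 𝒢.θfun U K f + 𝒢.θfun U K g := by
  unfold θfun
  rw [Functor.map_add, Preadditive.comp_add, 𝒢.e_add]

lemma θfun_sub (U : C) (K : DerivedCategory 𝒜) (f g : 𝒢.ZD U ⟶ K) :
    𝒢.θfun U K (f - g) = 𝒢.θfun U K f - 𝒢.θfun U K g := by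
  rw [eq_sub_iff_add_eq, ← θfun_add, sub_add_cancel]

lemma θfun_comp (U : C) {K K' : DerivedCategory 𝒜} (f : 𝒢.ZD U ⟶ K) (α : K ⟶ K') :
    𝒢.θfun U K' (f ≫ α) =
      (Γ.map ((homologyFunctor 𝒜 0).map α)).hom.app (op U) (𝒢.θfun U K f) := by
  unfold θfun
  rw [Functor.map_comp, ← Category.assoc, 𝒢.e_comp]

lemma θfun_map {U V : C} (h : V ⟶ U) {K : DerivedCategory 𝒜} (f : 𝒢.ZD U ⟶ K) :
    𝒢.θfun V K (𝒢.ZDmap h ≫ f) =
      (Γ.obj ((homologyFunctor 𝒜 0).obj K)).obj.map h.op (𝒢.θfun U K f) := by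
  unfold θfun
  rw [Functor.map_comp, ← Category.assoc, σ_naturality, Category.assoc, 𝒢.e_map]

lemma θfun_gOf {U : C} {M : CochainComplex 𝒜 ℤ} (z : 𝒢.Z U ⟶ M.cycles 0) :
    𝒢.θfun U (Q.obj M) (Q.map (gOf z)) = 𝒢.e U _ (z ≫ M.homologyπ 0 ≫ (φI M).inv) := by
  unfold θfun
  rw [σ_gOf']

omit [HasDerivedCategory.{w} 𝒜] in
/-- a cocycle whose class vanishes in the cohomology object is locally a coboundary -/
lemma exists_local_bdry {U : C} {M : CochainComplex 𝒜 ℤ}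
    (z : 𝒢.Z U ⟶ M.cycles 0) (hz : z ≫ M.homologyπ 0 = 0) :
    ∃ S ∈ J U, ∀ ⦃V : C⦄ (h : V ⟶ U), S.arrows h →
      ∃ x : 𝒢.Z V ⟶ M.X (-1), x ≫ M.toCycles (-1) 0 = 𝒢.Zmap h ≫ z := by
  have hex : (ShortComplex.mk (M.toCycles (-1) 0) (M.homologyπ 0)
      (M.toCycles_comp_homologyπ (-1) 0)).Exact :=
    ShortComplex.exact_of_g_is_cokernel _ (M.homologyIsCokernel (-1) 0 (by simp))
  rw [ShortComplex.exact_iff_epi_kernel_lift] at hex
  obtain ⟨S, hS, hS'⟩ := 𝒢.exists_local_lift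
    (kernel.lift (M.homologyπ 0) (M.toCycles (-1) 0) (M.toCycles_comp_homologyπ (-1) 0))
    (kernel.lift (M.homologyπ 0) z hz)
  refine ⟨S, hS, fun V h hh => ?_⟩
  obtain ⟨b, hb⟩ := hS' h hh
  refine ⟨b, ?_⟩
  have := congrArg (· ≫ kernel.ι (M.homologyπ 0)) hb
  simpa using this

/-- local surjectivity of the comparison map, for `Q.obj M` -/
lemma θfun_locally_surjective (M : CochainComplex 𝒜 ℤ) (U : C)
    (s : (Γ.obj ((homologyFunctor 𝒜 0).obj (Q.obj M))).obj.obj (op U)) :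
    ∃ S ∈ J U, ∀ ⦃V : C⦄ (h : V ⟶ U), S.arrows h → ∃ f : 𝒢.ZD V ⟶ Q.obj M,
      𝒢.θfun V (Q.obj M) f =
        (Γ.obj ((homologyFunctor 𝒜 0).obj (Q.obj M))).obj.map h.op s := by
  obtain ⟨S, hS, hS'⟩ := 𝒢.exists_local_lift (M.homologyπ 0)
    ((𝒢.e U _).symm s ≫ (φI M).hom)
  refine ⟨S, hS, fun V h hh => ?_⟩
  obtain ⟨b, hb⟩ := hS' h hh
  refine ⟨Q.map (gOf b), ?_⟩
  rw [θfun_gOf, ← Category.assoc, hb, Category.assoc, Category.assoc, Iso.hom_inv_id,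
    Category.comp_id, 𝒢.e_map, Equiv.apply_symm_apply]

/-- local injectivity of the comparison map, for `Q.obj M` -/
lemma θfun_locally_injective (M : CochainComplex 𝒜 ℤ) (U : C)
    (f : 𝒢.ZD U ⟶ Q.obj M) (hf : 𝒢.θfun U (Q.obj M) f = 0) :
    ∃ S ∈ J U, ∀ ⦃V : C⦄ (h : V ⟶ U), S.arrows h → 𝒢.ZDmap h ≫ f = 0 := by
  obtain ⟨Y', g, s, hs, rfl⟩ := left_fac f
  have h1 : 𝒢.θfun U (Q.obj Y') (Q.map g) = 0 := by
    have := 𝒢.θfun_comp U (Q.map g ≫ inv (Q.map s)) (Q.map s)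
    rw [Category.assoc, IsIso.inv_hom_id, Category.comp_id, hf, map_zero] at this
    exact this
  rw [← gOf_zOf g, θfun_gOf] at h1
  have h2 := 𝒢.eq_zero_of_e_eq_zero U _ h1
  have h3 : zOf g ≫ Y'.homologyπ 0 = 0 := by
    have := congrArg (· ≫ (φI Y').hom) h2
    simpa using this
  obtain ⟨S, hS, hS'⟩ := 𝒢.exists_local_bdry (zOf g) h3
  refine ⟨S, hS, fun V h hh => ?_⟩
  obtain ⟨x, hx⟩ := hS' h hh
  have h4 : Q.map ((s0 (𝒜 := 𝒜)).map (𝒢.Zmap h) ≫ g) = 0 := by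
    rw [← gOf_zOf g, gOf_comp]
    exact Q_map_gOf_eq_zero _ x hx
  rw [← Category.assoc, ← Functor.map_comp, h4, zero_comp]

/-- local surjectivity of the comparison map -/
lemma θfun_loc_surj (K : DerivedCategory 𝒜) (U : C)
    (s : (Γ.obj ((homologyFunctor 𝒜 0).obj K)).obj.obj (op U)) :
    ∃ S ∈ J U, ∀ ⦃V : C⦄ (h : V ⟶ U), S.arrows h → ∃ f : 𝒢.ZD V ⟶ K,
      𝒢.θfun V K f = (Γ.obj ((homologyFunctor 𝒜 0).obj K)).obj.map h.op s := by
  let i : Q.obj (Q.objPreimage K) ≅ K := Q.objObjPreimageIso K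
  let ψ := Γ.map ((homologyFunctor 𝒜 0).map i.hom)
  let ψ' := Γ.map ((homologyFunctor 𝒜 0).map i.inv)
  have hψ : ∀ (W : C) (x : (Γ.obj ((homologyFunctor 𝒜 0).obj K)).obj.obj (op W)),
      ψ.hom.app (op W) (ψ'.hom.app (op W) x) = x := by
    intro W x
    have : ψ' ≫ ψ = 𝟙 _ := by
      rw [← Γ.map_comp, ← Functor.map_comp, i.inv_hom_id, CategoryTheory.Functor.map_id,
        CategoryTheory.Functor.map_id]
    have h := congrArg (fun φ => φ.hom.app (op W) x) this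
    exact h
  obtain ⟨S, hS, hS'⟩ := 𝒢.θfun_locally_surjective (Q.objPreimage K) U (ψ'.hom.app (op U) s)
  refine ⟨S, hS, fun V h hh => ?_⟩
  obtain ⟨f, hf⟩ := hS' h hh
  refine ⟨f ≫ i.hom, ?_⟩
  rw [θfun_comp, hf]
  have := NatTrans.naturality_apply ψ.hom h.op (ψ'.hom.app (op U) s)
  exact this.trans (congrArg _ (hψ U s))

/-- local injectivity of the comparison map -/
lemma θfun_loc_inj (K : DerivedCategory 𝒜) (U : C) (f : 𝒢.ZD U ⟶ K) (hf : 𝒢.θfun U K f = 0) :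
    ∃ S ∈ J U, ∀ ⦃V : C⦄ (h : V ⟶ U), S.arrows h → 𝒢.ZDmap h ≫ f = 0 := by
  let i : Q.obj (Q.objPreimage K) ≅ K := Q.objObjPreimageIso K
  have h0 : 𝒢.θfun U _ (f ≫ i.inv) = 0 := by
    rw [θfun_comp, hf, map_zero]
  obtain ⟨S, hS, hS'⟩ := 𝒢.θfun_locally_injective (Q.objPreimage K) U (f ≫ i.inv) h0
  refine ⟨S, hS, fun V h hh => ?_⟩
  have h1 := hS' h hh
  have h2 : 𝒢.ZDmap h ≫ f = (𝒢.ZDmap h ≫ f ≫ i.inv) ≫ i.hom := by
    rw [Category.assoc, Category.assoc, i.inv_hom_id, Category.comp_id]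
  rw [h2, h1, zero_comp]

/-- **local criterion for injectivity on `H⁰`** -/
theorem injective_of_local {L' K' : DerivedCategory 𝒜} (α : L' ⟶ K') (V : C)
    (h : ∀ T ∈ J V, ∃ (ι : Type u) (Y : ι → C) (f : ∀ i, Y i ⟶ V), (∀ i, T.arrows (f i)) ∧
      Sieve.ofArrows Y f ∈ J V ∧ ∀ i, ∀ ξ : 𝒢.ZD (Y i) ⟶ L', ξ ≫ α = 0 → ξ = 0) :
    Function.Injective ((Γ.map ((homologyFunctor 𝒜 0).map α)).hom.app (op V)) := by
  rw [injective_iff_map_eq_zero]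
  intro s hs
  -- the sieve of good arrows
  let T : Sieve V :=
    { arrows := fun W g => ∃ ξ : 𝒢.ZD W ⟶ L',
        𝒢.θfun W L' ξ = (Γ.obj ((homologyFunctor 𝒜 0).obj L')).obj.map g.op s ∧ ξ ≫ α = 0
      downward_closed := by
        rintro W W' g ⟨ξ, hξ1, hξ2⟩ k
        refine ⟨𝒢.ZDmap k ≫ ξ, ?_, ?_⟩
        · rw [θfun_map, hξ1, op_comp, Functor.map_comp]
          rfl
        · rw [Category.assoc, hξ2, comp_zero] }
  have hT : T ∈ J V := by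
    obtain ⟨S₁, hS₁, hS₁'⟩ := 𝒢.θfun_loc_surj L' V s
    refine J.transitive hS₁ T (fun W g hg => ?_)
    obtain ⟨ξ, hξ⟩ := hS₁' g hg
    have h0 : 𝒢.θfun W K' (ξ ≫ α) = 0 := by
      rw [θfun_comp, hξ]
      have := NatTrans.naturality_apply (Γ.map ((homologyFunctor 𝒜 0).map α)).hom g.op s
      rw [this, hs, map_zero]
    obtain ⟨S₂, hS₂, hS₂'⟩ := 𝒢.θfun_loc_inj K' W (ξ ≫ α) h0
    refine J.superset_covering ?_ hS₂
    intro W' k hk
    refine ⟨𝒢.ZDmap k ≫ ξ, ?_, ?_⟩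
    · rw [θfun_map, hξ, op_comp, Functor.map_comp]
      rfl
    · rw [Category.assoc]
      exact hS₂' k hk
  obtain ⟨ι, Y', f, hf, hcov, hinj⟩ := h T hT
  -- separatedness
  have hsep := Sheaf.isSeparated (Γ.obj ((homologyFunctor 𝒜 0).obj L'))
  refine hsep V _ hcov s 0 ?_
  rintro W g ⟨W₀, k, g₀, hg₀, rfl⟩
  obtain ⟨i⟩ := hg₀
  obtain ⟨ξ, hξ1, hξ2⟩ := hf i
  have hξ0 := hinj i ξ hξ2
  rw [hξ0, θfun_zero] at hξ1
  rw [op_comp, Functor.map_comp, ConcreteCategory.comp_apply, ← hξ1, map_zero, map_zero]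

/-- transfer of injectivity along the shift isomorphism `H⁰(K[m]) ≅ H^m(K)` -/
lemma injective_shift_transfer (Φ : 𝒜 ⥤ AddCommGrpCat.{u})
    {L' K' : DerivedCategory 𝒜} (α : L' ⟶ K') (m : ℤ)
    (h0 : Function.Injective (Φ.map ((homologyFunctor 𝒜 0).map ((shiftFunctor _ m).map α)))) :
    Function.Injective (Φ.map ((homologyFunctor 𝒜 m).map α)) := by
  let e := (homologyFunctor 𝒜 0).shiftIso m 0 m (add_zero m)
  let eL : (homologyFunctor 𝒜 0).obj ((shiftFunctor _ m).obj L') ≅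
      (homologyFunctor 𝒜 m).obj L' := e.app L'
  let eK : (homologyFunctor 𝒜 0).obj ((shiftFunctor _ m).obj K') ≅
      (homologyFunctor 𝒜 m).obj K' := e.app K'
  have hnat : (homologyFunctor 𝒜 0).map ((shiftFunctor _ m).map α) ≫ eK.hom =
      eL.hom ≫ (homologyFunctor 𝒜 m).map α := e.hom.naturality α
  have hnat' : Φ.map ((homologyFunctor 𝒜 0).map ((shiftFunctor _ m).map α)) ≫ Φ.map eK.hom =
      Φ.map eL.hom ≫ Φ.map ((homologyFunctor 𝒜 m).map α) := by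
    rw [← Φ.map_comp, ← Φ.map_comp, hnat]
  have hbL := ConcreteCategory.bijective_of_isIso (Φ.map eL.hom)
  have hbK := ConcreteCategory.bijective_of_isIso (Φ.map eK.hom)
  intro x y hxy
  obtain ⟨x', rfl⟩ := hbL.2 x
  obtain ⟨y', rfl⟩ := hbL.2 y
  change (Φ.map eL.hom ≫ Φ.map ((homologyFunctor _ m).map α)) x' =
    (Φ.map eL.hom ≫ Φ.map ((homologyFunctor _ m).map α)) y' at hxy
  rw [← hnat'] at hxy
  have h1 : Φ.map ((homologyFunctor 𝒜 0).map ((shiftFunctor _ m).map α)) x' =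
      Φ.map ((homologyFunctor _ 0).map ((shiftFunctor _ m).map α)) y' := hbK.1 hxy
  rw [h0 h1]

/-- **local criterion for injectivity on `H^m`** -/
theorem injective_of_local_shift {L' K' : DerivedCategory 𝒜} (α : L' ⟶ K') (m : ℤ) (V : C)
    (h : ∀ T ∈ J V, ∃ (ι : Type u) (Y : ι → C) (f : ∀ i, Y i ⟶ V), (∀ i, T.arrows (f i)) ∧
      Sieve.ofArrows Y f ∈ J V ∧ ∀ i, ∀ ξ : 𝒢.ZD (Y i) ⟶ (shiftFunctor _ m).obj L',
        ξ ≫ (shiftFunctor _ m).map α = 0 → ξ = 0) :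
    Function.Injective ((Γ.map ((homologyFunctor 𝒜 m).map α)).hom.app (op V)) :=
  injective_shift_transfer
    (Γ ⋙ sheafToPresheaf J AddCommGrpCat.{u} ⋙ (evaluation Cᵒᵖ AddCommGrpCat.{u}).obj (op V))
    α m (𝒢.injective_of_local ((shiftFunctor _ m).map α) V h)

end Gen

end Groth.Agent.LocGen31
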