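/-
helper66: a local criterion (over local generators, helper31's `LocGen31.Gen`) for a morphism
`α : M[0] ⟶ K'` in `D(𝒜)` to be an isomorphism, and its application to units of adjunctions
`G.mapDerivedCategory ⊣ R`.
-/
import Groth.Agent.Lib.LocGenHyper31
import Groth.Agent.Lib.LocGenEpi31
import Groth.Agent.Lib.HomologySheafLocal31
import Mathlib.Algebra.Homology.DerivedCategory.ExactFunctor
import Mathlib.CategoryTheory.Triangulated.Adjunction

set_option autoImplicit false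
set_option linter.unusedSectionVars false

open CategoryTheory CategoryTheory.Limits Opposite HomologicalComplex DerivedCategory

universe w v' u' u

namespace Groth.Agent.Lib.UnitIsoLocal66

open Groth.Agent.LocGen31 Groth.Agent.HomologySheafLocal31

variable {C : Type u} [SmallCategory C] {J : GrothendieckTopology C}

/-- refinement of a covering sieve by a covering family with members in a covering class `B` -/
lemma exists_refinement {B : Set C} (hB : Covers J B) (V : C) (T : Sieve V) (hT : T ∈ J V) :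
    ∃ (ι : Type u) (Y : ι → C) (f : ∀ i, Y i ⟶ V), (∀ i, T.arrows (f i)) ∧
      Sieve.ofArrows Y f ∈ J V ∧ ∀ i, Y i ∈ B := by
  choose ι₀ Y₀ f₀ hcov hY₀ using hB
  refine ⟨Σ (W : C) (g : {g : W ⟶ V // T.arrows g}), ι₀ W, fun i => Y₀ i.1 i.2.2,
    fun i => f₀ i.1 i.2.2 ≫ i.2.1.1, fun i => T.downward_closed i.2.1.2 _, ?_, fun i => hY₀ _ _⟩
  refine J.transitive hT _ (fun W g hg => ?_)
  refine J.superset_covering ?_ (hcov W)
  rw [Sieve.ofArrows, Sieve.generate_le_iff]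
  rintro Z k ⟨j⟩
  exact ⟨_, 𝟙 _, _, ⟨(⟨W, ⟨g, hg⟩, j⟩ : Σ (W : C) (g : {g : W ⟶ V // T.arrows g}), ι₀ W)⟩,
    by simp⟩

variable {𝒜 : Type u'} [Category.{v'} 𝒜] [Abelian 𝒜] [HasDerivedCategory.{w} 𝒜]
  {Γ : 𝒜 ⥤ Sheaf J AddCommGrpCat.{u}} [Γ.Additive] [Γ.PreservesEpimorphisms] [Γ.Faithful]
  (𝒢 : Gen Γ)

/-- local criterion for `H⁰(α)` to be a monomorphism -/
theorem mono_of_local {L' K' : DerivedCategory 𝒜} (α : L' ⟶ K') {B : Set C} (hB : Covers J B)
    (hinj : ∀ V ∈ B, ∀ ξ : 𝒢.ZD V ⟶ L', ξ ≫ α = 0 → ξ = 0) :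
    Mono ((homologyFunctor 𝒜 0).map α) := by
  apply Γ.mono_of_mono_map
  have hinj' : ∀ V : C, Function.Injective
      ((Γ.map ((homologyFunctor 𝒜 0).map α)).hom.app (op V)) := fun V =>
    𝒢.injective_of_local α V (fun T hT => by
      obtain ⟨ι, Y, f, h1, h2, h3⟩ := exists_refinement hB V T hT
      exact ⟨ι, Y, f, h1, h2, fun i ξ hξ => hinj _ (h3 i) ξ hξ⟩)
  have : Mono (Γ.map ((homologyFunctor 𝒜 0).map α)).hom := by
    apply (config := { allowSynthFailures := true }) NatTrans.mono_of_mono_app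
    intro X
    rw [AddCommGrpCat.mono_iff_injective]
    exact hinj' X.unop
  exact Sheaf.Hom.mono_of_presheaf_mono _ _ _

/-- local criterion for `H^m(α)` to be an epimorphism -/
theorem epi_of_local {L' K' : DerivedCategory 𝒜} (α : L' ⟶ K') (m : ℤ) {B : Set C}
    (hB : Covers J B)
    (hsurj : ∀ V ∈ B, ∀ ξ : 𝒢.ZD V ⟶ (shiftFunctor _ m).obj K',
      ∃ ζ : 𝒢.ZD V ⟶ (shiftFunctor _ m).obj L', ζ ≫ (shiftFunctor _ m).map α = ξ) :
    Epi ((homologyFunctor 𝒜 m).map α) :=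
  𝒢.epi_of_local_shift α m hB (fun V _ T hT => by
    obtain ⟨ι, Y, f, h1, h2, h3⟩ := exists_refinement hB V T hT
    exact ⟨ι, Y, f, h1, h2, fun i ξ => hsurj _ (h3 i) ξ⟩)

/-- local criterion for `H⁰(α)` to be an epimorphism (no shift) -/
theorem epi_of_local_zero {L' K' : DerivedCategory 𝒜} (α : L' ⟶ K') {B : Set C}
    (hB : Covers J B)
    (hsurj : ∀ V ∈ B, ∀ ξ : 𝒢.ZD V ⟶ K', ∃ ζ : 𝒢.ZD V ⟶ L', ζ ≫ α = ξ) :
    Epi ((homologyFunctor 𝒜 0).map α) :=
  Gen.epi_of_locallySurjective_on hB _ (fun V _ s =>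
    𝒢.imageSieve_mem_of_local α V (fun T hT => by
      obtain ⟨ι, Y, f, h1, h2, h3⟩ := exists_refinement hB V T hT
      exact ⟨ι, Y, f, h1, h2, fun i ξ => hsurj _ (h3 i) ξ⟩) s)

/-- **local criterion for a morphism out of a single object to be an isomorphism** -/
theorem isIso_of_local_single (M : 𝒜) {K' : DerivedCategory 𝒜}
    (α : (singleFunctor 𝒜 0).obj M ⟶ K') {B : Set C} (hB : Covers J B)
    (hvan : ∀ V ∈ B, ∀ m : ℤ, m ≠ 0 → ∀ ξ : 𝒢.ZD V ⟶ (shiftFunctor _ m).obj K', ξ = 0)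
    (hsurj0 : ∀ V ∈ B, ∀ ξ : 𝒢.ZD V ⟶ K', ∃ ζ : 𝒢.ZD V ⟶ (singleFunctor 𝒜 0).obj M, ζ ≫ α = ξ)
    (hinj0 : ∀ V ∈ B, ∀ ξ : 𝒢.ZD V ⟶ (singleFunctor 𝒜 0).obj M, ξ ≫ α = 0 → ξ = 0) :
    IsIso α := by
  rw [DerivedCategory.isIso_iff]
  intro m
  by_cases hm : m = 0
  · subst hm
    have h1 := mono_of_local 𝒢 α hB hinj0
    have h2 := epi_of_local_zero 𝒢 α hB hsurj0
    exact isIso_of_mono_of_epi _
  · have hepi : Epi ((homologyFunctor 𝒜 m).map α) :=
      epi_of_local 𝒢 α m hB (fun V hV ξ => ⟨0, by rw [zero_comp, hvan V hV m hm ξ]⟩)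
    have hz : IsZero ((homologyFunctor 𝒜 m).obj ((singleFunctor 𝒜 0).obj M)) := by
      rcases lt_or_gt_of_ne hm with h | h
      · exact isZero_of_isGE _ 0 m h
      · exact isZero_of_isLE _ 0 m h
    have hz' : IsZero ((homologyFunctor 𝒜 m).obj K') := by
      rw [IsZero.iff_id_eq_zero, ← cancel_epi ((homologyFunctor 𝒜 m).map α)]
      rw [comp_zero]
      exact hz.eq_of_src _ _
    exact ⟨⟨0, hz.eq_of_src _ _, hz'.eq_of_src _ _⟩⟩


section Adjunction

variable {ℬ : Type*} [Category ℬ] [Abelian ℬ] [HasDerivedCategory.{w} ℬ]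
  (G : 𝒜 ⥤ ℬ) [G.Additive] [PreservesFiniteLimits G] [PreservesFiniteColimits G]
  (R : DerivedCategory ℬ ⥤ DerivedCategory 𝒜) (adj : G.mapDerivedCategory ⊣ R)

include adj in
/-- **local criterion for the unit of `G.mapDerivedCategory ⊣ R` at `M[0]` to be invertible** -/
theorem isIso_unit_of_local (M : 𝒜) {B : Set C} (hB : Covers J B)
    (hvan : ∀ V ∈ B, ∀ m : ℤ, m ≠ 0 → ∀ ξ : G.mapDerivedCategory.obj (𝒢.ZD V) ⟶
      (shiftFunctor _ m).obj (G.mapDerivedCategory.obj ((singleFunctor 𝒜 0).obj M)), ξ = 0)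
    (hbij : ∀ V ∈ B, Function.Bijective
      (fun φ : 𝒢.ZD V ⟶ (singleFunctor 𝒜 0).obj M => G.mapDerivedCategory.map φ)) :
    IsIso (adj.unit.app ((singleFunctor 𝒜 0).obj M)) := by
  let _ : R.CommShift ℤ := adj.rightAdjointCommShift ℤ
  have : R.Additive := adj.right_adjoint_additive
  refine isIso_of_local_single 𝒢 M (adj.unit.app ((singleFunctor 𝒜 0).obj M)) hB ?_ ?_ ?_
  · intro V hV m hm ξ
    let e := (R.commShiftIso m).app (G.mapDerivedCategory.obj ((singleFunctor 𝒜 0).obj M))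
    have h0 : (adj.homEquiv _ _).symm (ξ ≫ e.inv) = 0 := hvan V hV m hm _
    have h1 : ξ ≫ e.inv = 0 := by
      have := congrArg (adj.homEquiv _ _) h0
      rw [Equiv.apply_symm_apply] at this
      rw [this, Adjunction.homEquiv_unit, Functor.map_zero, comp_zero]
    rw [← cancel_mono e.inv, h1, zero_comp]
  · intro V hV ξ
    obtain ⟨ζ, hζ⟩ := (hbij V hV).2 ((adj.homEquiv _ _).symm ξ)
    refine ⟨ζ, ?_⟩
    have h1 := adj.unit.naturality ζ
    simp only [Functor.id_map, Functor.comp_map] at h1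
    have hζ' : G.mapDerivedCategory.map ζ = (adj.homEquiv _ _).symm ξ := hζ
    rw [h1, hζ']
    exact (Adjunction.homEquiv_unit adj _ _ _).symm.trans (Equiv.apply_symm_apply _ _)
  · intro V hV ξ hξ
    have h1 := adj.unit.naturality ξ
    simp only [Functor.id_map, Functor.comp_map] at h1
    rw [hξ] at h1
    have h2 : G.mapDerivedCategory.map ξ = 0 := by
      apply (adj.homEquiv _ _).injective
      rw [Adjunction.homEquiv_unit, ← h1, Adjunction.homEquiv_unit, Functor.map_zero, comp_zero]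
    apply (hbij V hV).1
    change G.mapDerivedCategory.map ξ = G.mapDerivedCategory.map 0
    rw [h2, Functor.map_zero]

end Adjunction

end Groth.Agent.Lib.UnitIsoLocal66
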