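/-
helper66: modules of "type A" on a ringed site: cokernels of maps between finite direct sums of `j_{U!}O_U`
with `U` in a class `B` of quasi-compact objects.
-/
import Groth.Agent.Lib.QcObject66
import Groth.Agent.Lib.UnitIsoLocal66
import Groth.Agent.Lib.ModGen31

set_option autoImplicit false
universe u
open CategoryTheory CategoryTheory.Limits Opposite

namespace Groth.Agent.Lib.TypeA66

open Groth.Agent.LocGen31 Groth.Agent.HomologySheafLocal31 Groth.Agent.Lib.QcObject66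

section Abstract

variable {𝒜 : Type*} [Category 𝒜] [Abelian 𝒜]

/-- cokernel of `α : F ⟶ G` computed from a presentation `P_G ⟶ G` of `G`, an epimorphism `P' ⟶ F` and a lift
of `P' ⟶ F ⟶ G` to `P_G` -/
noncomputable def cokernelIsoOfLift {Q_G P_G G P' F R : 𝒜} (ψ_G : Q_G ⟶ P_G) (p_G : P_G ⟶ G)
    (w : ψ_G ≫ p_G = 0) (hG : IsColimit (CokernelCofork.ofπ p_G w)) (e : P' ⟶ F) [Epi e]
    (α : F ⟶ G) (l : P' ⟶ P_G) (hl : l ≫ p_G = e ≫ α) (Ψ : R ⟶ P_G)
    (h1 : Ψ ≫ p_G ≫ cokernel.π α = 0)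
    (h2 : ψ_G ≫ cokernel.π Ψ = 0) (h3 : l ≫ cokernel.π Ψ = 0) :
    cokernel α ≅ cokernel Ψ := by
  haveI : Epi p_G := epi_of_isColimit_cofork hG
  let h' : G ⟶ cokernel Ψ := hG.desc (CokernelCofork.ofπ (cokernel.π Ψ) h2)
  have hh' : p_G ≫ h' = cokernel.π Ψ := hG.fac (CokernelCofork.ofπ (cokernel.π Ψ) h2) WalkingParallelPair.one
  have h4 : α ≫ h' = 0 := by
    rw [← cancel_epi e, ← Category.assoc, ← hl, Category.assoc, hh', h3, comp_zero]
  refine ⟨cokernel.desc α h' h4, cokernel.desc Ψ (p_G ≫ cokernel.π α) h1, ?_, ?_⟩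
  · rw [← cancel_epi (cokernel.π α), ← cancel_epi p_G]
    simp only [cokernel.π_desc_assoc, Category.comp_id]
    rw [← Category.assoc, hh', cokernel.π_desc]
  · rw [← cancel_epi (cokernel.π Ψ)]
    simp only [cokernel.π_desc_assoc, Category.comp_id, Category.assoc, cokernel.π_desc]
    rw [← hh']

end Abstract

variable {C : Type u} [SmallCategory C] {J : GrothendieckTopology C} (O : Sheaf J CommRingCat.{u})

/-- the free module `j_{U!}O_U` -/
noncomputable abbrev Z (U : C) : ModSite.Mod O := ModSite.freeOn O U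

/-- a morphism out of `j_{U!}O_U` vanishing on a covering family vanishes -/
lemma eq_zero_of_cover {U : C} {M : ModSite.Mod O} (a : Z O U ⟶ M) {ι : Type*} (Y : ι → C)
    (f : ∀ i, Y i ⟶ U) (hcov : Sieve.ofArrows Y f ∈ J U)
    (h : ∀ i, (Groth.Agent.ModGen31.gen O).Zmap (f i) ≫ a = 0) : a = 0 := by
  apply (Groth.Agent.ModGen31.gen O).eq_zero_of_e_eq_zero
  have hsep := Sheaf.isSeparated ((Groth.Agent.ModGen31.Γ O).obj M)
  refine hsep U _ hcov _ 0 ?_
  rintro W g ⟨W₀, k, g₀, hg₀, rfl⟩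
  obtain ⟨i⟩ := hg₀
  have h1 := (Groth.Agent.ModGen31.gen O).e_map (f i) a
  rw [h i, (Groth.Agent.ModGen31.gen O).e_zero] at h1
  rw [op_comp, Functor.map_comp, ConcreteCategory.comp_apply, ← h1, map_zero, map_zero]

/-- modules of type A: cokernels of maps between finite direct sums of `j_{U!}O_U` with `U ∈ B` -/
def IsTypeA (B : Set C) (F : ModSite.Mod O) : Prop :=
  ∃ (m' n' : ℕ) (V' : Fin m' → C) (U' : Fin n' → C)
    (ψ : (∐ fun j => ModSite.freeOn O (V' j)) ⟶ ∐ fun i => ModSite.freeOn O (U' i)),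
    (∀ j, V' j ∈ B) ∧ (∀ i, U' i ∈ B) ∧ Nonempty (F ≅ cokernel ψ)

/-- type A with arbitrary finite index types -/
lemma isTypeA_of_fintype (B : Set C) (F : ModSite.Mod O) {α : Type*} {β : Type*} [Fintype α]
    [Fintype β]
    (V : α → C) (U : β → C) (hV : ∀ a, V a ∈ B) (hU : ∀ b, U b ∈ B)
    (ψ : (∐ fun a => ModSite.freeOn O (V a)) ⟶ ∐ fun b => ModSite.freeOn O (U b))
    (e : F ≅ cokernel ψ) : IsTypeA O B F := by
  let eα := (Fintype.equivFin α).symm
  let eβ := (Fintype.equivFin β).symm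
  let iα : (∐ fun j => ModSite.freeOn O (V (eα j))) ≅ ∐ fun a => ModSite.freeOn O (V a) :=
    Sigma.reindex eα (fun a => ModSite.freeOn O (V a))
  let iβ : (∐ fun j => ModSite.freeOn O (U (eβ j))) ≅ ∐ fun b => ModSite.freeOn O (U b) :=
    Sigma.reindex eβ (fun b => ModSite.freeOn O (U b))
  refine ⟨_, _, fun j => V (eα j), fun i => U (eβ i), iα.hom ≫ ψ ≫ iβ.inv, fun j => hV _,
    fun i => hU _, ⟨e ≪≫ ?_⟩⟩
  exact (cokernelEpiComp iα.hom ψ).symm ≪≫ (cokernelCompIsIso (iα.hom ≫ ψ) iβ.inv).symm ≪≫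
    (cokernelIsoOfEq (Category.assoc _ _ _))


/-- presentation data of a type A module: an epimorphism from a finite sum of free modules which is a cokernel
of a map from another finite sum -/
lemma exists_presentation (B : Set C) (F : ModSite.Mod O) (hF : IsTypeA O B F) :
    ∃ (m' n' : ℕ) (V' : Fin m' → C) (U' : Fin n' → C)
      (ψ : (∐ fun j => ModSite.freeOn O (V' j)) ⟶ ∐ fun i => ModSite.freeOn O (U' i))
      (p : (∐ fun i => ModSite.freeOn O (U' i)) ⟶ F) (w : ψ ≫ p = 0),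
      (∀ j, V' j ∈ B) ∧ (∀ i, U' i ∈ B) ∧ Nonempty (IsColimit (CokernelCofork.ofπ p w)) := by
  obtain ⟨m', n', V', U', ψ, hV, hU, ⟨e⟩⟩ := hF
  refine ⟨m', n', V', U', ψ, cokernel.π ψ ≫ e.inv, by rw [← Category.assoc, cokernel.condition, zero_comp],
    hV, hU, ⟨?_⟩⟩
  exact IsColimit.ofIsoColimit (cokernelIsCokernel ψ) (Cofork.ext e.symm (by simp))

variable (B : Set C) (hB₁ : Covers J B)
  (hB₂ : ∀ U ∈ B, CohCx.IsQcObject (hSh J U))

include hB₁ hB₂ in
/-- local lifting of a map out of `j_{U!}O_U` (`U ∈ B`) along an epimorphism, over a FINITE covering family with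
members in `B` -/
lemma exists_finite_local_lift {P G : ModSite.Mod O} (π : P ⟶ G) [Epi π] {U : C} (hU : U ∈ B)
    (t : Z O U ⟶ G) :
    ∃ (κ : Type u) (_ : Fintype κ) (Y : κ → C) (g : ∀ k, Y k ⟶ U) (b : ∀ k, Z O (Y k) ⟶ P),
      (∀ k, Y k ∈ B) ∧ Sieve.ofArrows Y g ∈ J U ∧
      ∀ k, b k ≫ π = (Groth.Agent.ModGen31.gen O).Zmap (g k) ≫ t := by
  obtain ⟨S, hS, hS'⟩ := (Groth.Agent.ModGen31.gen O).exists_local_lift π t
  obtain ⟨ι, Y, g, h1, h2, h3⟩ := Groth.Agent.Lib.UnitIsoLocal66.exists_refinement hB₁ U S hS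
  obtain ⟨s, hs⟩ := exists_finite_subfamily (hB₂ U hU) Y g h2
  choose b hb using fun k : s => hS' (g k.1) (h1 k.1)
  exact ⟨s, inferInstance, fun k => Y k.1, fun k => g k.1, b, fun k => h3 k.1, hs, hb⟩

include hB₁ hB₂ in
/-- **type A modules are closed under cokernels** -/
theorem isTypeA_cokernel {F G : ModSite.Mod O} (α : F ⟶ G) (hF : IsTypeA O B F)
    (hG : IsTypeA O B G) : IsTypeA O B (cokernel α) := by
  obtain ⟨mF, nF, VF, UF, ψF, pF, wF, hVF, hUF, ⟨hcF⟩⟩ := exists_presentation O B F hF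
  obtain ⟨mG, nG, VG, UG, ψG, pG, wG, hVG, hUG, ⟨hcG⟩⟩ := exists_presentation O B G hG
  have : Epi pF := epi_of_isColimit_cofork hcF
  have : Epi pG := epi_of_isColimit_cofork hcG
  -- local lifts of the generators of `F`
  choose κ hκ Y g b hY hcov hb using fun i : Fin nF =>
    exists_finite_local_lift O B hB₁ hB₂ pG (hUF i) (Sigma.ι (fun i => ModSite.freeOn O (UF i)) i ≫ pF ≫ α)
  haveI : ∀ i, Fintype (κ i) := hκ
  -- the refined presentation of `F`
  let T := Σ i : Fin nF, κ i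
  let W : T → C := fun x => Y x.1 x.2
  let q : (∐ fun x : T => ModSite.freeOn O (W x)) ⟶ ∐ fun i => ModSite.freeOn O (UF i) :=
    Sigma.desc (fun x => (Groth.Agent.ModGen31.gen O).Zmap (g x.1 x.2) ≫
      Sigma.ι (fun i => ModSite.freeOn O (UF i)) x.1)
  have hq : Epi q := by
    refine Preadditive.epi_of_cancel_zero _ (fun {M} h hh => ?_)
    apply Sigma.hom_ext
    intro i
    rw [comp_zero]
    refine eq_zero_of_cover O _ (Y i) (g i) (hcov i) (fun k => ?_)
    have h1 : Sigma.ι (fun x : T => ModSite.freeOn O (W x)) ⟨i, k⟩ ≫ q ≫ h = 0 := by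
      rw [hh, comp_zero]
    rw [← Category.assoc, Sigma.ι_desc, Category.assoc] at h1
    exact h1
  let l : (∐ fun x : T => ModSite.freeOn O (W x)) ⟶ ∐ fun i => ModSite.freeOn O (UG i) :=
    Sigma.desc (fun x => b x.1 x.2)
  have hl : l ≫ pG = (q ≫ pF) ≫ α := by
    apply Sigma.hom_ext
    intro x
    rw [← Category.assoc, Sigma.ι_desc, hb, Category.assoc, ← Category.assoc (Sigma.ι _ x),
      Sigma.ι_desc]
    simp only [Category.assoc]
    rfl
  have : Epi (q ≫ pF) := epi_comp _ _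
  -- the new relations
  let S := Fin mG ⊕ T
  let V'' : S → C := Sum.elim VG W
  let Ψ : (∐ fun s : S => ModSite.freeOn O (V'' s)) ⟶ ∐ fun i => ModSite.freeOn O (UG i) :=
    Sigma.desc (fun s => match s with
      | Sum.inl j => Sigma.ι (fun j => ModSite.freeOn O (VG j)) j ≫ ψG
      | Sum.inr x => Sigma.ι (fun x : T => ModSite.freeOn O (W x)) x ≫ l)
  have hΨl : ∀ j, Sigma.ι (fun s : S => ModSite.freeOn O (V'' s)) (Sum.inl j) ≫ Ψ =
      Sigma.ι (fun j => ModSite.freeOn O (VG j)) j ≫ ψG := fun j => Sigma.ι_desc _ _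
  have hΨr : ∀ x, Sigma.ι (fun s : S => ModSite.freeOn O (V'' s)) (Sum.inr x) ≫ Ψ =
      Sigma.ι (fun x : T => ModSite.freeOn O (W x)) x ≫ l := fun x => Sigma.ι_desc _ _
  have h1 : Ψ ≫ pG ≫ cokernel.π α = 0 := by
    apply Sigma.hom_ext
    rintro (j | x)
    · calc Sigma.ι (fun s : S => ModSite.freeOn O (V'' s)) (Sum.inl j) ≫ Ψ ≫ pG ≫ cokernel.π α
          = (Sigma.ι (fun s : S => ModSite.freeOn O (V'' s)) (Sum.inl j) ≫ Ψ) ≫
              pG ≫ cokernel.π α := (Category.assoc _ _ _).symm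
        _ = (Sigma.ι (fun j => ModSite.freeOn O (VG j)) j ≫ ψG) ≫ pG ≫ cokernel.π α :=
            congrArg (fun t => t ≫ pG ≫ cokernel.π α) (hΨl j)
        _ = 0 := by rw [Category.assoc, reassoc_of% wG, zero_comp, comp_zero]
        _ = _ := comp_zero.symm
    · calc Sigma.ι (fun s : S => ModSite.freeOn O (V'' s)) (Sum.inr x) ≫ Ψ ≫ pG ≫ cokernel.π α
          = (Sigma.ι (fun s : S => ModSite.freeOn O (V'' s)) (Sum.inr x) ≫ Ψ) ≫
              pG ≫ cokernel.π α := (Category.assoc _ _ _).symm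
        _ = (Sigma.ι (fun x : T => ModSite.freeOn O (W x)) x ≫ l) ≫ pG ≫ cokernel.π α :=
            congrArg (fun t => t ≫ pG ≫ cokernel.π α) (hΨr x)
        _ = 0 := by
            rw [Category.assoc, reassoc_of% hl, cokernel.condition, comp_zero, comp_zero,
              comp_zero]
        _ = _ := comp_zero.symm
  have h2 : ψG ≫ cokernel.π Ψ = 0 := by
    apply Sigma.hom_ext
    intro j
    calc Sigma.ι (fun j => ModSite.freeOn O (VG j)) j ≫ ψG ≫ cokernel.π Ψ
        = (Sigma.ι (fun j => ModSite.freeOn O (VG j)) j ≫ ψG) ≫ cokernel.π Ψ :=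
          (Category.assoc _ _ _).symm
      _ = (Sigma.ι (fun s : S => ModSite.freeOn O (V'' s)) (Sum.inl j) ≫ Ψ) ≫ cokernel.π Ψ :=
          congrArg (fun t => t ≫ cokernel.π Ψ) (hΨl j).symm
      _ = 0 := by rw [Category.assoc, cokernel.condition, comp_zero]
      _ = _ := comp_zero.symm
  have h3 : l ≫ cokernel.π Ψ = 0 := by
    apply Sigma.hom_ext
    intro x
    calc Sigma.ι (fun x : T => ModSite.freeOn O (W x)) x ≫ l ≫ cokernel.π Ψ
        = (Sigma.ι (fun x : T => ModSite.freeOn O (W x)) x ≫ l) ≫ cokernel.π Ψ :=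
          (Category.assoc _ _ _).symm
      _ = (Sigma.ι (fun s : S => ModSite.freeOn O (V'' s)) (Sum.inr x) ≫ Ψ) ≫ cokernel.π Ψ :=
          congrArg (fun t => t ≫ cokernel.π Ψ) (hΨr x).symm
      _ = 0 := by rw [Category.assoc, cokernel.condition, comp_zero]
      _ = _ := comp_zero.symm
  have e := cokernelIsoOfLift ψG pG wG hcG (q ≫ pF) α l hl Ψ h1 h2 h3
  refine isTypeA_of_fintype O B _ V'' UG ?_ hUG Ψ e
  rintro (j | x)
  · exact hVG j
  · exact hY x.1 x.2

end Groth.Agent.Lib.TypeA66
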