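/-
helper66: kernels of maps between modules of type A (cokernels of maps between finite sums of `j_{U!}O_U`,
`U ∈ B`), assuming kernels of maps between finite free sums are of type A.
-/
import Groth.Agent.Lib.TypeA66
import Mathlib.CategoryTheory.Abelian.Refinements

set_option autoImplicit false
universe u
open CategoryTheory CategoryTheory.Limits Opposite

namespace Groth.Agent.Lib.TypeAKer66

section Abstract

variable {𝒜 : Type*} [Category 𝒜] [Abelian 𝒜]

/-- an epimorphism is the cokernel of any of its kernels -/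
noncomputable def isoCokernelOfEpi {K X Y : 𝒜} (f : X ⟶ Y) [Epi f] (k : K ⟶ X) (w : k ≫ f = 0)
    (hk : IsLimit (KernelFork.ofι k w)) : Y ≅ cokernel k :=
  IsColimit.coconePointUniqueUpToIso (Abelian.epiIsCokernelOfKernel (KernelFork.ofι k w) hk)
    (colimit.isColimit (parallelPair k 0))

/-- `kernel α` as the cokernel of `kernel e ⟶ kernel (e ≫ α)` for an epimorphism `e` -/
noncomputable def kernelIsoCokernelOfEpiComp {P F G : 𝒜} (e : P ⟶ F) [Epi e] (α : F ⟶ G) :
    kernel α ≅ cokernel (kernel.lift (e ≫ α) (kernel.ι e) (by rw [kernel.condition_assoc, zero_comp])) := by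
  let f : kernel (e ≫ α) ⟶ kernel α := kernel.lift α (kernel.ι (e ≫ α) ≫ e)
    (by rw [Category.assoc, kernel.condition])
  have hf : f ≫ kernel.ι α = kernel.ι (e ≫ α) ≫ e := kernel.lift_ι _ _ _
  haveI : Epi f := by
    rw [epi_iff_surjective_up_to_refinements]
    intro A y
    obtain ⟨A', π, hπ, x, hx⟩ := surjective_up_to_refinements_of_epi e (y ≫ kernel.ι α)
    refine ⟨A', π, hπ, kernel.lift (e ≫ α) x ?_, ?_⟩
    · rw [← Category.assoc, ← hx, Category.assoc, Category.assoc, kernel.condition, comp_zero,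
        comp_zero]
    · rw [← cancel_mono (kernel.ι α), Category.assoc, Category.assoc, hf, kernel.lift_ι_assoc, hx]
  refine isoCokernelOfEpi f _ ?_ ?_
  · rw [← cancel_mono (kernel.ι α), Category.assoc, hf, kernel.lift_ι_assoc, kernel.condition,
      zero_comp]
  · refine KernelFork.IsLimit.ofι _ _
      (fun {W} g hg => kernel.lift e (g ≫ kernel.ι (e ≫ α)) ?_) ?_ ?_
    · rw [Category.assoc, ← hf, reassoc_of% hg, zero_comp]
    · intro W g hg
      rw [← cancel_mono (kernel.ι (e ≫ α))]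
      simp only [Category.assoc, kernel.lift_ι]
    · intro W g hg b hb
      rw [← cancel_mono (kernel.ι e), kernel.lift_ι, ← hb, Category.assoc, kernel.lift_ι]

/-- `kernel (l ≫ p)`, for `p` a cokernel of `ψ`, as the cokernel of
`kernel ψ ⟶ kernel (biprod.desc l ψ)` -/
noncomputable def kernelCompIsoCokernel {P' Q P G : 𝒜} (l : P' ⟶ P) (ψ : Q ⟶ P) (p : P ⟶ G)
    (w : ψ ≫ p = 0) (hp : IsColimit (CokernelCofork.ofπ p w)) :
    kernel (l ≫ p) ≅ cokernel (kernel.lift (biprod.desc l ψ) (kernel.ι ψ ≫ biprod.inr)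
      (by rw [Category.assoc, biprod.inr_desc, kernel.condition])) := by
  have h0 : kernel.ι (biprod.desc l ψ) ≫ biprod.fst ≫ l =
      - kernel.ι (biprod.desc l ψ) ≫ biprod.snd ≫ ψ := by
    have h1 : kernel.ι (biprod.desc l ψ) ≫ (biprod.fst ≫ l + biprod.snd ≫ ψ) = 0 := by
      rw [← biprod.desc_eq, kernel.condition]
    rw [Preadditive.comp_add] at h1
    exact eq_neg_of_add_eq_zero_left h1
  let f : kernel (biprod.desc l ψ) ⟶ kernel (l ≫ p) :=
    kernel.lift (l ≫ p) (kernel.ι _ ≫ biprod.fst) (by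
      rw [Category.assoc, reassoc_of% h0, Preadditive.neg_comp, Category.assoc, Category.assoc, w,
        comp_zero, comp_zero, neg_zero])
  have hf : f ≫ kernel.ι (l ≫ p) = kernel.ι _ ≫ biprod.fst := kernel.lift_ι _ _ _
  haveI : Epi f := by
    rw [epi_iff_surjective_up_to_refinements]
    intro A y
    have hy : (y ≫ kernel.ι (l ≫ p) ≫ l) ≫ (CokernelCofork.ofπ p w).π = 0 := by
      change (y ≫ kernel.ι (l ≫ p) ≫ l) ≫ p = 0
      rw [Category.assoc, Category.assoc, kernel.condition, comp_zero]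
    obtain ⟨A', π, hπ, x, hx⟩ :=
      (CokernelCofork.IsColimit.comp_π_eq_zero_iff_up_to_refinements hp _).1 hy
    refine ⟨A', π, hπ, kernel.lift (biprod.desc l ψ) (biprod.lift (π ≫ y ≫ kernel.ι (l ≫ p)) (-x)) ?_,
      ?_⟩
    · rw [biprod.lift_desc, Preadditive.neg_comp, ← hx]
      simp
    · rw [← cancel_mono (kernel.ι (l ≫ p)), Category.assoc, Category.assoc, hf,
        kernel.lift_ι_assoc, biprod.lift_fst]
  refine isoCokernelOfEpi f _ ?_ ?_
  · rw [← cancel_mono (kernel.ι (l ≫ p)), Category.assoc, hf, kernel.lift_ι_assoc, Category.assoc,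
      biprod.inr_fst, comp_zero, zero_comp]
  · have key : ∀ {W : 𝒜} (g : W ⟶ kernel (biprod.desc l ψ)), g ≫ f = 0 →
        g ≫ kernel.ι _ = (g ≫ kernel.ι _ ≫ biprod.snd) ≫ biprod.inr := by
      intro W g hg
      have h1 : g ≫ kernel.ι _ ≫ biprod.fst = 0 := by
        rw [← hf, reassoc_of% hg, zero_comp]
      apply biprod.hom_ext
      · rw [Category.assoc, h1, Category.assoc, biprod.inr_fst, comp_zero]
      · simp
    refine KernelFork.IsLimit.ofι _ _
      (fun {W} g hg => kernel.lift ψ (g ≫ kernel.ι _ ≫ biprod.snd) ?_) ?_ ?_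
    · have h2 := key g hg
      have h3 : g ≫ kernel.ι (biprod.desc l ψ) ≫ biprod.desc l ψ = 0 := by
        rw [kernel.condition, comp_zero]
      rw [← Category.assoc, h2, Category.assoc, biprod.inr_desc] at h3
      exact h3
    · intro W g hg
      rw [← cancel_mono (kernel.ι (biprod.desc l ψ)), Category.assoc, kernel.lift_ι,
        kernel.lift_ι_assoc, key g hg]
    · intro W g hg b hb
      rw [← cancel_mono (kernel.ι ψ), kernel.lift_ι, ← hb, Category.assoc, kernel.lift_ι_assoc,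
        Category.assoc, biprod.inr_snd, Category.comp_id]

/-- a coproduct over a sum type is the biproduct of the two partial coproducts -/
noncomputable def sigmaSumIso {a b : Type*} (F : a ⊕ b → 𝒜) [HasCoproduct F]
    [HasCoproduct (fun x => F (Sum.inl x))] [HasCoproduct (fun y => F (Sum.inr y))] :
    (∐ F) ≅ (∐ fun x => F (Sum.inl x)) ⊞ (∐ fun y => F (Sum.inr y)) where
  hom := Sigma.desc (fun s => match s with
    | Sum.inl x => Sigma.ι (fun x => F (Sum.inl x)) x ≫ biprod.inl
    | Sum.inr y => Sigma.ι (fun y => F (Sum.inr y)) y ≫ biprod.inr)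
  inv := biprod.desc (Sigma.desc (fun x => Sigma.ι F (Sum.inl x)))
    (Sigma.desc (fun y => Sigma.ι F (Sum.inr y)))
  hom_inv_id := by
    apply Sigma.hom_ext
    rintro (x | y)
    · simp
    · simp
  inv_hom_id := by
    apply biprod.hom_ext'
    · apply Sigma.hom_ext
      intro x
      simp
    · apply Sigma.hom_ext
      intro y
      simp

end Abstract

open Groth.Agent.Lib.TypeA66 Groth.Agent.LocGen31 Groth.Agent.HomologySheafLocal31
  Groth.Agent.Lib.QcObject66

variable {C : Type u} [SmallCategory C] {J : GrothendieckTopology C} (O : Sheaf J CommRingCat.{u})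
  (B : Set C)

lemma isTypeA_of_iso {F F' : ModSite.Mod O} (e : F ≅ F') (h : IsTypeA O B F') : IsTypeA O B F := by
  obtain ⟨m', n', V', U', ψ, hV, hU, ⟨i⟩⟩ := h
  exact ⟨m', n', V', U', ψ, hV, hU, ⟨e ≪≫ i⟩⟩

/-- the hypothesis that kernels of maps between finite free sums are of type A -/
def HasTypeAKernels : Prop :=
  ∀ (m n : ℕ) (V : Fin m → C) (U : Fin n → C)
    (φ : (∐ fun j => ModSite.freeOn O (V j)) ⟶ ∐ fun i => ModSite.freeOn O (U i)),
    (∀ j, V j ∈ B) → (∀ i, U i ∈ B) → IsTypeA O B (kernel φ)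

variable {O B}

/-- kernels of maps between finite free sums indexed by arbitrary finite types -/
lemma HasTypeAKernels.of_fintype (hker : HasTypeAKernels O B) {α : Type*} {β : Type*} [Fintype α]
    [Fintype β] (V : α → C) (U : β → C) (hV : ∀ a, V a ∈ B) (hU : ∀ b, U b ∈ B)
    (φ : (∐ fun a => ModSite.freeOn O (V a)) ⟶ ∐ fun b => ModSite.freeOn O (U b)) :
    IsTypeA O B (kernel φ) := by
  let eα := (Fintype.equivFin α).symm
  let eβ := (Fintype.equivFin β).symm
  let iα : (∐ fun j => ModSite.freeOn O (V (eα j))) ≅ ∐ fun a => ModSite.freeOn O (V a) :=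
    Sigma.reindex eα (fun a => ModSite.freeOn O (V a))
  let iβ : (∐ fun j => ModSite.freeOn O (U (eβ j))) ≅ ∐ fun b => ModSite.freeOn O (U b) :=
    Sigma.reindex eβ (fun b => ModSite.freeOn O (U b))
  have h := hker _ _ (fun j => V (eα j)) (fun i => U (eβ i)) (iα.hom ≫ φ ≫ iβ.inv)
    (fun j => hV _) (fun i => hU _)
  refine isTypeA_of_iso O B ?_ h
  exact (kernelIsIsoComp iα.hom φ).symm ≪≫ (kernelCompMono (iα.hom ≫ φ) iβ.inv).symm ≪≫
    kernelIsoOfEq (Category.assoc _ _ _)


variable (hB₁ : Covers J B) (hB₂ : ∀ U ∈ B, CohCx.IsQcObject (hSh J U))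

include hB₁ hB₂ in
/-- local lifting of a map out of a finite free sum along an epimorphism, over a refinement which is again a
finite free sum -/
lemma exists_refined_lift {n : ℕ} (U : Fin n → C) (hU : ∀ i, U i ∈ B) {P G : ModSite.Mod O}
    (π : P ⟶ G) [Epi π] (t : (∐ fun i => ModSite.freeOn O (U i)) ⟶ G) :
    ∃ (T : Type u) (_ : Fintype T) (W : T → C)
      (q : (∐ fun x : T => ModSite.freeOn O (W x)) ⟶ ∐ fun i => ModSite.freeOn O (U i))
      (l : (∐ fun x : T => ModSite.freeOn O (W x)) ⟶ P),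
      (∀ x, W x ∈ B) ∧ Epi q ∧ l ≫ π = q ≫ t := by
  choose κ hκ Y g b hY hcov hb using fun i : Fin n =>
    exists_finite_local_lift O B hB₁ hB₂ π (hU i) (Sigma.ι (fun i => ModSite.freeOn O (U i)) i ≫ t)
  haveI : ∀ i, Fintype (κ i) := hκ
  let T := Σ i : Fin n, κ i
  let W : T → C := fun x => Y x.1 x.2
  let q : (∐ fun x : T => ModSite.freeOn O (W x)) ⟶ ∐ fun i => ModSite.freeOn O (U i) :=
    Sigma.desc (fun x => (Groth.Agent.ModGen31.gen O).Zmap (g x.1 x.2) ≫
      Sigma.ι (fun i => ModSite.freeOn O (U i)) x.1)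
  have hq : Epi q := by
    refine Preadditive.epi_of_cancel_zero _ (fun {M} h hh => ?_)
    apply Sigma.hom_ext
    intro i
    rw [comp_zero]
    refine eq_zero_of_cover O _ (Y i) (g i) (hcov i) (fun k => ?_)
    have h1 : Sigma.ι (fun x : T => ModSite.freeOn O (W x)) ⟨i, k⟩ ≫ q ≫ h = 0 := by
      rw [hh, comp_zero]
    rw [← Category.assoc, Sigma.ι_desc, Category.assoc] at h1
    exact h1
  let l : (∐ fun x : T => ModSite.freeOn O (W x)) ⟶ P := Sigma.desc (fun x => b x.1 x.2)
  have hl : l ≫ π = q ≫ t := by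
    apply Sigma.hom_ext
    intro x
    rw [← Category.assoc, Sigma.ι_desc, hb, ← Category.assoc (Sigma.ι _ x), Sigma.ι_desc]
    simp only [Category.assoc]
    rfl
  exact ⟨T, inferInstance, W, q, l, fun x => hY x.1 x.2, hq, hl⟩

include hB₁ hB₂ in
/-- the kernel of `l ≫ p` for `l` a map between finite free sums and `p` the projection of a finite presentation
is of type A -/
lemma isTypeA_kernel_comp (hker : HasTypeAKernels O B) {T : Type u} [Fintype T] (W : T → C)
    (hW : ∀ x, W x ∈ B) {m n : ℕ} (V : Fin m → C) (U : Fin n → C) (hV : ∀ j, V j ∈ B)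
    (hU : ∀ i, U i ∈ B) {G : ModSite.Mod O}
    (l : (∐ fun x : T => ModSite.freeOn O (W x)) ⟶ ∐ fun i => ModSite.freeOn O (U i))
    (ψ : (∐ fun j => ModSite.freeOn O (V j)) ⟶ ∐ fun i => ModSite.freeOn O (U i))
    (p : (∐ fun i => ModSite.freeOn O (U i)) ⟶ G) (w : ψ ≫ p = 0)
    (hp : IsColimit (CokernelCofork.ofπ p w)) : IsTypeA O B (kernel (l ≫ p)) := by
  refine isTypeA_of_iso O B (kernelCompIsoCokernel l ψ p w hp) ?_
  refine isTypeA_cokernel O B hB₁ hB₂ _ (hker m n V U ψ hV hU) ?_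
  -- the kernel of `biprod.desc l ψ`
  let V'' : T ⊕ Fin m → C := Sum.elim W V
  have hV'' : ∀ s, V'' s ∈ B := by
    rintro (x | j)
    · exact hW x
    · exact hV j
  let i : (∐ fun s => ModSite.freeOn O (V'' s)) ≅
      (∐ fun x : T => ModSite.freeOn O (W x)) ⊞ (∐ fun j => ModSite.freeOn O (V j)) :=
    sigmaSumIso (fun s => ModSite.freeOn O (V'' s))
  have h := hker.of_fintype V'' U hV'' hU (i.hom ≫ biprod.desc l ψ)
  exact isTypeA_of_iso O B (kernelIsIsoComp i.hom (biprod.desc l ψ)).symm h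

include hB₁ hB₂ in
/-- **type A modules are closed under kernels**, if kernels of maps between finite free sums are of type A -/
theorem isTypeA_kernel (hker : HasTypeAKernels O B) {F G : ModSite.Mod O} (α : F ⟶ G)
    (hF : IsTypeA O B F) (hG : IsTypeA O B G) : IsTypeA O B (kernel α) := by
  obtain ⟨mF, nF, VF, UF, ψF, pF, wF, hVF, hUF, ⟨hcF⟩⟩ := exists_presentation O B F hF
  obtain ⟨mG, nG, VG, UG, ψG, pG, wG, hVG, hUG, ⟨hcG⟩⟩ := exists_presentation O B G hG
  have : Epi pF := epi_of_isColimit_cofork hcF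
  have : Epi pG := epi_of_isColimit_cofork hcG
  obtain ⟨T, hT, W, q, l, hW, hq, hl⟩ := exists_refined_lift hB₁ hB₂ UF hUF pG (pF ≫ α)
  haveI := hT
  haveI := hq
  haveI : Epi (q ≫ pF) := epi_comp _ _
  refine isTypeA_of_iso O B (kernelIsoCokernelOfEpiComp (q ≫ pF) α) ?_
  refine isTypeA_cokernel O B hB₁ hB₂ _ ?_ ?_
  · exact isTypeA_kernel_comp hB₁ hB₂ hker W hW VF UF hVF hUF q ψF pF wF hcF
  · have h := isTypeA_kernel_comp hB₁ hB₂ hker W hW VG UG hVG hUG l ψG pG wG hcG
    refine isTypeA_of_iso O B (kernelIsoOfEq ?_) h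
    rw [hl, Category.assoc]

end Groth.Agent.Lib.TypeAKer66
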