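/-
helper66: modules of type A on a ringed site are closed under extensions (Čech presentation of refinement maps,
finitely generated modules, kernel sequences).
-/
import Groth.Agent.Lib.TypeAKer66
import Mathlib.CategoryTheory.Sites.Whiskering
import Mathlib.Algebra.Homology.ShortComplex.ShortExact

set_option autoImplicit false
universe u
open CategoryTheory CategoryTheory.Limits Opposite

namespace Groth.Agent.Lib.TypeAExt66

open Groth.Agent.Lib.TypeA66 Groth.Agent.Lib.TypeAKer66 Groth.Agent.LocGen31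
  Groth.Agent.HomologySheafLocal31 Groth.Agent.Lib.QcObject66

section Abstract

variable {𝒜 : Type*} [Category 𝒜] [Abelian 𝒜]

/-- A1 : generators of an extension -/
lemma epi_biprod_desc_of_exact (S : ShortComplex 𝒜) (hS : S.Exact) {P₁ P₃ : 𝒜} (p₁ : P₁ ⟶ S.X₁)
    [Epi p₁] (l : P₃ ⟶ S.X₂) [Epi (l ≫ S.g)] : Epi (biprod.desc (p₁ ≫ S.f) l) := by
  rw [epi_iff_surjective_up_to_refinements]
  intro A y
  obtain ⟨A₁, π₁, hπ₁, b, hb⟩ := surjective_up_to_refinements_of_epi (l ≫ S.g) (y ≫ S.g)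
  have h0 : (π₁ ≫ y - b ≫ l) ≫ S.g = 0 := by
    rw [Preadditive.sub_comp, Category.assoc, Category.assoc, hb, sub_self]
  obtain ⟨A₂, π₂, hπ₂, x₁, hx₁⟩ := hS.exact_up_to_refinements _ h0
  obtain ⟨A₃, π₃, hπ₃, a, ha⟩ := surjective_up_to_refinements_of_epi p₁ x₁
  refine ⟨A₃, π₃ ≫ π₂ ≫ π₁, inferInstance, biprod.lift a (π₃ ≫ π₂ ≫ b), ?_⟩
  rw [biprod.lift_desc, ← Category.assoc a, ← ha, Category.assoc π₃ x₁, ← hx₁]
  simp

/-- A5 : for a cokernel `p` of `ψ`, the canonical map to `kernel p` is an epimorphism -/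
lemma epi_kernel_lift_of_isColimit {Q P G : 𝒜} (ψ : Q ⟶ P) (p : P ⟶ G) (w : ψ ≫ p = 0)
    (hp : IsColimit (CokernelCofork.ofπ p w)) : Epi (kernel.lift p ψ w) := by
  rw [epi_iff_surjective_up_to_refinements]
  intro A y
  have hy : (y ≫ kernel.ι p) ≫ (CokernelCofork.ofπ p w).π = 0 := by
    change (y ≫ kernel.ι p) ≫ p = 0
    rw [Category.assoc, kernel.condition, comp_zero]
  obtain ⟨A', π, hπ, x, hx⟩ :=
    (CokernelCofork.IsColimit.comp_π_eq_zero_iff_up_to_refinements hp _).1 hy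
  refine ⟨A', π, hπ, x, ?_⟩
  rw [← cancel_mono (kernel.ι p), Category.assoc, Category.assoc, kernel.lift_ι, hx]

/-- A4 : a presentation from generators of the kernel of an epimorphism -/
noncomputable def isoCokernelOfEpiOfEpi {Q P M : 𝒜} (p : P ⟶ M) [Epi p] (x : Q ⟶ kernel p) [Epi x] :
    M ≅ cokernel (x ≫ kernel.ι p) :=
  IsColimit.coconePointUniqueUpToIso
    (Abelian.epiIsCokernelOfKernel (KernelFork.ofι (kernel.ι p) (kernel.condition p))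
      (kernelIsKernel p)) (colimit.isColimit (parallelPair (kernel.ι p) 0)) ≪≫
    (cokernelEpiComp x (kernel.ι p)).symm

/-! A3 : the sequence `kernel e ⟶ kernel (e ≫ α) ⟶ kernel α` -/

noncomputable def kerCompF {P F G : 𝒜} (e : P ⟶ F) (α : F ⟶ G) : kernel e ⟶ kernel (e ≫ α) :=
  kernel.lift (e ≫ α) (kernel.ι e) (by rw [kernel.condition_assoc, zero_comp])

noncomputable def kerCompG {P F G : 𝒜} (e : P ⟶ F) (α : F ⟶ G) : kernel (e ≫ α) ⟶ kernel α :=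
  kernel.lift α (kernel.ι (e ≫ α) ≫ e) (by rw [Category.assoc, kernel.condition])

@[reassoc]
lemma kerCompF_ι {P F G : 𝒜} (e : P ⟶ F) (α : F ⟶ G) :
    kerCompF e α ≫ kernel.ι (e ≫ α) = kernel.ι e := kernel.lift_ι _ _ _

@[reassoc]
lemma kerCompG_ι {P F G : 𝒜} (e : P ⟶ F) (α : F ⟶ G) :
    kerCompG e α ≫ kernel.ι α = kernel.ι (e ≫ α) ≫ e := kernel.lift_ι _ _ _

@[reassoc]
lemma kerComp_zero {P F G : 𝒜} (e : P ⟶ F) (α : F ⟶ G) : kerCompF e α ≫ kerCompG e α = 0 := by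
  rw [← cancel_mono (kernel.ι α), Category.assoc, kerCompG_ι, kerCompF_ι_assoc,
    kernel.condition, zero_comp]

instance epi_kerCompG {P F G : 𝒜} (e : P ⟶ F) [Epi e] (α : F ⟶ G) : Epi (kerCompG e α) := by
  rw [epi_iff_surjective_up_to_refinements]
  intro A y
  obtain ⟨A', π, hπ, x, hx⟩ := surjective_up_to_refinements_of_epi e (y ≫ kernel.ι α)
  refine ⟨A', π, hπ, kernel.lift (e ≫ α) x ?_, ?_⟩
  · rw [← Category.assoc, ← hx, Category.assoc, Category.assoc, kernel.condition, comp_zero,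
      comp_zero]
  · rw [← cancel_mono (kernel.ι α), Category.assoc, Category.assoc, kerCompG_ι,
      kernel.lift_ι_assoc, hx]

lemma kerComp_exact {P F G : 𝒜} (e : P ⟶ F) (α : F ⟶ G) :
    (ShortComplex.mk _ _ (kerComp_zero e α)).Exact := by
  apply ShortComplex.exact_of_f_is_kernel
  refine KernelFork.IsLimit.ofι _ _
    (fun {W} g hg => kernel.lift e (g ≫ kernel.ι (e ≫ α)) ?_) ?_ ?_
  · change g ≫ kerCompG e α = 0 at hg
    rw [Category.assoc, ← kerCompG_ι, reassoc_of% hg, zero_comp]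
  · intro W g hg
    change _ ≫ kerCompF e α = g
    rw [← cancel_mono (kernel.ι (e ≫ α)), Category.assoc, kerCompF_ι, kernel.lift_ι]
  · intro W g hg b hb
    change b ≫ kerCompF e α = g at hb
    rw [← cancel_mono (kernel.ι e), kernel.lift_ι, ← hb, Category.assoc, kerCompF_ι]

/-! A2 : the sequence `kernel p₁ ⟶ kernel (biprod.desc (p₁ ≫ f) t) ⟶ kernel (t ≫ g)` for a short
complex `f, g` -/

noncomputable def kerExtF (S : ShortComplex 𝒜) {P₁ P₃ : 𝒜} (p₁ : P₁ ⟶ S.X₁) (t : P₃ ⟶ S.X₂) :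
    kernel p₁ ⟶ kernel (biprod.desc (p₁ ≫ S.f) t) :=
  kernel.lift (biprod.desc (p₁ ≫ S.f) t) (kernel.ι p₁ ≫ biprod.inl)
    (by rw [Category.assoc, biprod.inl_desc, kernel.condition_assoc, zero_comp])

noncomputable def kerExtG (S : ShortComplex 𝒜) {P₁ P₃ : 𝒜} (p₁ : P₁ ⟶ S.X₁) (t : P₃ ⟶ S.X₂) :
    kernel (biprod.desc (p₁ ≫ S.f) t) ⟶ kernel (t ≫ S.g) :=
  kernel.lift (t ≫ S.g) (kernel.ι (biprod.desc (p₁ ≫ S.f) t) ≫ biprod.snd) (by
    have h1 : kernel.ι (biprod.desc (p₁ ≫ S.f) t) ≫ (biprod.fst ≫ p₁ ≫ S.f + biprod.snd ≫ t) = 0 := by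
      rw [← biprod.desc_eq, kernel.condition]
    rw [Preadditive.comp_add] at h1
    have h2 := eq_neg_of_add_eq_zero_right h1
    rw [Category.assoc, reassoc_of% h2]
    simp)

@[reassoc]
lemma kerExtG_ι (S : ShortComplex 𝒜) {P₁ P₃ : 𝒜} (p₁ : P₁ ⟶ S.X₁) (t : P₃ ⟶ S.X₂) :
    kerExtG S p₁ t ≫ kernel.ι (t ≫ S.g) =
      kernel.ι (biprod.desc (p₁ ≫ S.f) t) ≫ biprod.snd := kernel.lift_ι _ _ _

@[reassoc]
lemma kerExtF_ι (S : ShortComplex 𝒜) {P₁ P₃ : 𝒜} (p₁ : P₁ ⟶ S.X₁) (t : P₃ ⟶ S.X₂) :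
    kerExtF S p₁ t ≫ kernel.ι (biprod.desc (p₁ ≫ S.f) t) =
      kernel.ι p₁ ≫ biprod.inl := kernel.lift_ι _ _ _

@[reassoc]
lemma kerExt_zero (S : ShortComplex 𝒜) {P₁ P₃ : 𝒜} (p₁ : P₁ ⟶ S.X₁) (t : P₃ ⟶ S.X₂) :
    kerExtF S p₁ t ≫ kerExtG S p₁ t = 0 := by
  rw [← cancel_mono (kernel.ι (t ≫ S.g)), Category.assoc, kerExtG_ι, kerExtF_ι_assoc,
    biprod.inl_snd, comp_zero, zero_comp]

lemma epi_kerExtG (S : ShortComplex 𝒜) (hS : S.Exact) {P₁ P₃ : 𝒜} (p₁ : P₁ ⟶ S.X₁) [Epi p₁]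
    (t : P₃ ⟶ S.X₂) : Epi (kerExtG S p₁ t) := by
  rw [epi_iff_surjective_up_to_refinements]
  intro A y
  have h0 : (y ≫ kernel.ι (t ≫ S.g) ≫ t) ≫ S.g = 0 := by
    rw [Category.assoc, Category.assoc, kernel.condition, comp_zero]
  obtain ⟨A₁, π₁, hπ₁, c, hc⟩ := hS.exact_up_to_refinements _ h0
  obtain ⟨A₂, π₂, hπ₂, a, ha⟩ := surjective_up_to_refinements_of_epi p₁ c
  refine ⟨A₂, π₂ ≫ π₁, inferInstance, kernel.lift (biprod.desc (p₁ ≫ S.f) t)
    (biprod.lift (-a) (π₂ ≫ π₁ ≫ y ≫ kernel.ι (t ≫ S.g))) ?_, ?_⟩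
  · rw [biprod.lift_desc, Preadditive.neg_comp, ← Category.assoc a, ← ha, Category.assoc π₂ c,
      ← hc]
    simp
  · rw [← cancel_mono (kernel.ι (t ≫ S.g)), Category.assoc _ (kerExtG S p₁ t), kerExtG_ι,
      kernel.lift_ι_assoc, biprod.lift_snd]
    simp

lemma kerExt_exact (S : ShortComplex 𝒜) [Mono S.f] {P₁ P₃ : 𝒜} (p₁ : P₁ ⟶ S.X₁) (t : P₃ ⟶ S.X₂) :
    (ShortComplex.mk _ _ (kerExt_zero S p₁ t)).Exact := by
  apply ShortComplex.exact_of_f_is_kernel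
  have key : ∀ {W : 𝒜} (g : W ⟶ kernel (biprod.desc (p₁ ≫ S.f) t)), g ≫ kerExtG S p₁ t = 0 →
      g ≫ kernel.ι _ = (g ≫ kernel.ι _ ≫ biprod.fst) ≫ biprod.inl := by
    intro W g hg
    have h1 : g ≫ kernel.ι _ ≫ biprod.snd = 0 := by
      rw [← kerExtG_ι, reassoc_of% hg, zero_comp]
    apply biprod.hom_ext
    · simp
    · rw [Category.assoc, h1, Category.assoc, biprod.inl_snd, comp_zero]
  refine KernelFork.IsLimit.ofι _ _
    (fun {W} g hg => kernel.lift p₁ (g ≫ kernel.ι (biprod.desc (p₁ ≫ S.f) t) ≫ biprod.fst) ?_) ?_ ?_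
  · change W ⟶ kernel (biprod.desc (p₁ ≫ S.f) t) at g
    change g ≫ kerExtG S p₁ t = 0 at hg
    have h2 := key g hg
    have h3 : g ≫ kernel.ι (biprod.desc (p₁ ≫ S.f) t) ≫ biprod.desc (p₁ ≫ S.f) t = 0 := by
      rw [kernel.condition, comp_zero]
    rw [← Category.assoc, h2, Category.assoc, biprod.inl_desc, ← Category.assoc] at h3
    exact (cancel_mono S.f).1 (h3.trans zero_comp.symm)
  · intro W g hg
    change W ⟶ kernel (biprod.desc (p₁ ≫ S.f) t) at g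
    change g ≫ kerExtG S p₁ t = 0 at hg
    change _ ≫ kerExtF S p₁ t = g
    rw [← cancel_mono (kernel.ι (biprod.desc (p₁ ≫ S.f) t)), Category.assoc, kerExtF_ι,
      kernel.lift_ι_assoc, key g hg]
  · intro W g hg b hb
    change W ⟶ kernel (biprod.desc (p₁ ≫ S.f) t) at g
    change W ⟶ kernel p₁ at b
    change b ≫ kerExtF S p₁ t = g at hb
    rw [← cancel_mono (kernel.ι p₁), kernel.lift_ι, ← hb, Category.assoc,
      kerExtF_ι_assoc, biprod.inl_fst, Category.comp_id]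

end Abstract

variable {C : Type u} [SmallCategory C] {J : GrothendieckTopology C} (O : Sheaf J CommRingCat.{u})
  (B : Set C)

section Glue

variable {O}

/-- gluing sections of a module along a covering family with pullback-compatible sections -/
lemma exists_glue [HasPullbacks C] (M : ModSite.Mod O) {U : C} {κ : Type*} (Y : κ → C)
    (g : ∀ k, Y k ⟶ U) (hcov : Sieve.ofArrows Y g ∈ J U)
    (s : ∀ k, ((Groth.Agent.ModGen31.Γ O).obj M).obj.obj (op (Y k)))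
    (hs : ∀ k l, ((Groth.Agent.ModGen31.Γ O).obj M).obj.map (pullback.fst (g k) (g l)).op (s k) =
      ((Groth.Agent.ModGen31.Γ O).obj M).obj.map (pullback.snd (g k) (g l)).op (s l)) :
    ∃ t : ((Groth.Agent.ModGen31.Γ O).obj M).obj.obj (op U),
      ∀ k, ((Groth.Agent.ModGen31.Γ O).obj M).obj.map (g k).op t = s k := by
  let P : Cᵒᵖ ⥤ Type u := ((Groth.Agent.ModGen31.Γ O).obj M).obj ⋙ forget AddCommGrpCat.{u}
  have hP : Presieve.IsSheaf J P :=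
    (isSheaf_iff_isSheaf_of_type _ _).1
      ((sheafCompose J (forget AddCommGrpCat.{u})).obj ((Groth.Agent.ModGen31.Γ O).obj M)).2
  have h1 : (Presieve.ofArrows Y g).IsSheafFor P :=
    (Presieve.isSheafFor_iff_generate _).2 (hP _ hcov)
  have h2 : Presieve.Arrows.Compatible P g s :=
    (Presieve.Arrows.pullbackCompatible_iff P g s).2 (fun k l => hs k l)
  obtain ⟨t, ht, -⟩ := (Presieve.isSheafFor_arrows_iff P g).1 h1 s h2
  exact ⟨t, ht⟩

end Glue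

section Cech

variable {O B}

/-- finite covering families with members in `B` of quasi-compact objects -/
lemma exists_finite_B_cover (hB₁ : Covers J B) (X : C) (hX : CohCx.IsQcObject (hSh J X)) :
    ∃ (μ : Type u) (_ : Fintype μ) (V : μ → C) (v : ∀ m, V m ⟶ X),
      (∀ m, V m ∈ B) ∧ Sieve.ofArrows V v ∈ J X := by
  obtain ⟨ι, Y, f, hcov, hY⟩ := hB₁ X
  obtain ⟨t, ht⟩ := exists_finite_subfamily hX Y f hcov
  exact ⟨t, inferInstance, fun m => Y m.1, fun m => f m.1, fun m => hY m.1, ht⟩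

variable (O) in
/-- the restriction maps `j_!O_V ⟶ j_!O_U` -/
noncomputable def zm {U V : C} (h : V ⟶ U) : ModSite.freeOn O V ⟶ ModSite.freeOn O U :=
  (Groth.Agent.ModGen31.gen O).Zmap h

variable (O) in
/-- morphisms out of `j_!O_U` are sections over `U` -/
noncomputable def eqv (U : C) (M : ModSite.Mod O) :
    (ModSite.freeOn O U ⟶ M) ≃ ((Groth.Agent.ModGen31.Γ O).obj M).obj.obj (op U) :=
  (Groth.Agent.ModGen31.gen O).e U M

lemma zm_comp {U V W : C} (h : V ⟶ U) (k : W ⟶ V) : zm O (k ≫ h) = zm O k ≫ zm O h :=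
  (Groth.Agent.ModGen31.gen O).Zmap_comp h k

lemma eqv_zm {U V : C} (h : V ⟶ U) {M : ModSite.Mod O} (a : ModSite.freeOn O U ⟶ M) :
    eqv O V M (zm O h ≫ a) = ((Groth.Agent.ModGen31.Γ O).obj M).obj.map h.op (eqv O U M a) :=
  (Groth.Agent.ModGen31.gen O).e_map h a

lemma map_comp_apply' (P : Cᵒᵖ ⥤ AddCommGrpCat.{u}) {W V D : C} (a : W ⟶ V) (b : V ⟶ D)
    (x : P.obj (op D)) : P.map (a ≫ b).op x = P.map a.op (P.map b.op x) := by
  rw [op_comp, Functor.map_comp, ConcreteCategory.comp_apply]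

variable {n : ℕ} (U : Fin n → C) (κ : Fin n → Type u) (Y : ∀ i, κ i → C)
  (g : ∀ i k, Y i k ⟶ U i)

variable (O) in
/-- the refinement map `⊕_{i,k} j_!O_{Y i k} ⟶ ⊕_i j_!O_{U i}` -/
noncomputable def refMap :
    (∐ fun x : (Σ i, κ i) => ModSite.freeOn O (Y x.1 x.2)) ⟶ ∐ fun i => ModSite.freeOn O (U i) :=
  Sigma.desc (fun x => zm O (g x.1 x.2) ≫ Sigma.ι (fun i => ModSite.freeOn O (U i)) x.1)

@[reassoc]
lemma ι_refMap (x : Σ i, κ i) :
    Sigma.ι (fun x : (Σ i, κ i) => ModSite.freeOn O (Y x.1 x.2)) x ≫ refMap O U κ Y g =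
      zm O (g x.1 x.2) ≫ Sigma.ι (fun i => ModSite.freeOn O (U i)) x.1 := Sigma.ι_desc _ _

lemma epi_refMap (hcov : ∀ i, Sieve.ofArrows (Y i) (g i) ∈ J (U i)) : Epi (refMap O U κ Y g) := by
  refine Preadditive.epi_of_cancel_zero _ (fun {M} h hh => ?_)
  apply Sigma.hom_ext
  intro i
  rw [comp_zero]
  refine eq_zero_of_cover O _ (Y i) (g i) (hcov i) (fun k => ?_)
  have h1 : Sigma.ι (fun x : (Σ i, κ i) => ModSite.freeOn O (Y x.1 x.2)) ⟨i, k⟩ ≫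
      refMap O U κ Y g ≫ h = 0 := by
    rw [hh, comp_zero]
  rw [ι_refMap_assoc] at h1
  exact h1

/-- **Čech presentation** : the refinement map is the cokernel of a map from a finite free sum -/
theorem exists_cokernel_refMap [HasPullbacks C] (hB₁ : Covers J B)
    (hB₃ : ∀ (U U₁ U₂ : C) (f₁ : U₁ ⟶ U) (f₂ : U₂ ⟶ U), U ∈ B → U₁ ∈ B → U₂ ∈ B →
      CohCx.IsQcObject (hSh J (pullback f₁ f₂)))
    [∀ i, Fintype (κ i)] (hU : ∀ i, U i ∈ B) (hY : ∀ i k, Y i k ∈ B)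
    (hcov : ∀ i, Sieve.ofArrows (Y i) (g i) ∈ J (U i)) :
    ∃ (R : Type u) (_ : Fintype R) (V : R → C)
      (χ : (∐ fun r => ModSite.freeOn O (V r)) ⟶
        ∐ fun x : (Σ i, κ i) => ModSite.freeOn O (Y x.1 x.2))
      (w : χ ≫ refMap O U κ Y g = 0), (∀ r, V r ∈ B) ∧
      Nonempty (IsColimit (CokernelCofork.ofπ (refMap O U κ Y g) w)) := by
  classical
  choose μ hμ V v hV hvcov using fun (a : Σ i, κ i × κ i) =>
    exists_finite_B_cover hB₁ (pullback (g a.1 a.2.1) (g a.1 a.2.2))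
      (hB₃ _ _ _ _ _ (hU a.1) (hY a.1 a.2.1) (hY a.1 a.2.2))
  haveI : ∀ a, Fintype (μ a) := hμ
  let R := Σ a : (Σ i, κ i × κ i), μ a
  let ZY := fun x : (Σ i, κ i) => ModSite.freeOn O (Y x.1 x.2)
  let A : ∀ r : R, ModSite.freeOn O (V r.1 r.2) ⟶ ∐ ZY := fun r =>
    zm O (v r.1 r.2 ≫ pullback.fst _ _) ≫ Sigma.ι ZY ⟨r.1.1, r.1.2.1⟩
  let A' : ∀ r : R, ModSite.freeOn O (V r.1 r.2) ⟶ ∐ ZY := fun r =>
    zm O (v r.1 r.2 ≫ pullback.snd _ _) ≫ Sigma.ι ZY ⟨r.1.1, r.1.2.2⟩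
  let χ : (∐ fun r : R => ModSite.freeOn O (V r.1 r.2)) ⟶ ∐ ZY :=
    Sigma.desc (fun r => A r - A' r)
  have hχ : ∀ r : R, Sigma.ι (fun r : R => ModSite.freeOn O (V r.1 r.2)) r ≫ χ = A r - A' r :=
    fun r => Sigma.ι_desc _ _
  have hA : ∀ r : R, A r ≫ refMap O U κ Y g = A' r ≫ refMap O U κ Y g := by
    intro r
    have e1 : A r ≫ refMap O U κ Y g = zm O ((v r.1 r.2 ≫ pullback.fst _ _) ≫ g r.1.1 r.1.2.1) ≫
        Sigma.ι (fun i => ModSite.freeOn O (U i)) r.1.1 := by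
      rw [zm_comp, Category.assoc, Category.assoc]
      exact congrArg (fun t => zm O (v r.1 r.2 ≫ pullback.fst _ _) ≫ t)
        (ι_refMap U κ Y g ⟨r.1.1, r.1.2.1⟩)
    have e2 : A' r ≫ refMap O U κ Y g = zm O ((v r.1 r.2 ≫ pullback.snd _ _) ≫ g r.1.1 r.1.2.2) ≫
        Sigma.ι (fun i => ModSite.freeOn O (U i)) r.1.1 := by
      rw [zm_comp, Category.assoc, Category.assoc]
      exact congrArg (fun t => zm O (v r.1 r.2 ≫ pullback.snd _ _) ≫ t)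
        (ι_refMap U κ Y g ⟨r.1.1, r.1.2.2⟩)
    rw [e1, e2, Category.assoc, Category.assoc, pullback.condition]
  have w : χ ≫ refMap O U κ Y g = 0 := by
    apply Sigma.hom_ext
    intro r
    rw [← Category.assoc, hχ, Preadditive.sub_comp, hA, sub_self, comp_zero]
  have hq : Epi (refMap O U κ Y g) := epi_refMap U κ Y g hcov
  refine ⟨R, inferInstance, fun r => V r.1 r.2, χ, w, fun r => hV r.1 r.2, ⟨?_⟩⟩
  refine CokernelCofork.IsColimit.ofπ' _ _ (fun {M} h hh => ?_)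
  -- the sections corresponding to `h`
  have hh' : ∀ r : R, A r ≫ h = A' r ≫ h := by
    intro r
    have h1 : Sigma.ι (fun r : R => ModSite.freeOn O (V r.1 r.2)) r ≫ χ ≫ h = 0 := by
      rw [hh, comp_zero]
    rw [← Category.assoc, hχ, Preadditive.sub_comp] at h1
    exact sub_eq_zero.1 h1
  let s : ∀ x : (Σ i, κ i), ((Groth.Agent.ModGen31.Γ O).obj M).obj.obj (op (Y x.1 x.2)) :=
    fun x => eqv O (Y x.1 x.2) M (Sigma.ι ZY x ≫ h)
  have hs : ∀ (i : Fin n) (k l : κ i),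
      ((Groth.Agent.ModGen31.Γ O).obj M).obj.map (pullback.fst (g i k) (g i l)).op (s ⟨i, k⟩) =
      ((Groth.Agent.ModGen31.Γ O).obj M).obj.map (pullback.snd (g i k) (g i l)).op (s ⟨i, l⟩) := by
    intro i k l
    have hsep := Sheaf.isSeparated ((Groth.Agent.ModGen31.Γ O).obj M)
    refine hsep _ _ (hvcov ⟨i, (k, l)⟩) _ _ ?_
    rintro W b ⟨W₀, c, b₀, hb₀, rfl⟩
    obtain ⟨m⟩ := hb₀
    have h3 := congrArg (eqv O _ M) (hh' ⟨⟨i, (k, l)⟩, m⟩)
    have e1 : eqv O _ M (A ⟨⟨i, (k, l)⟩, m⟩ ≫ h) =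
        ((Groth.Agent.ModGen31.Γ O).obj M).obj.map (v ⟨i, (k, l)⟩ m ≫ pullback.fst _ _).op
          (s ⟨i, k⟩) := by
      rw [← eqv_zm]
      exact congrArg (eqv O _ M) (Category.assoc _ _ _)
    have e2 : eqv O _ M (A' ⟨⟨i, (k, l)⟩, m⟩ ≫ h) =
        ((Groth.Agent.ModGen31.Γ O).obj M).obj.map (v ⟨i, (k, l)⟩ m ≫ pullback.snd _ _).op
          (s ⟨i, l⟩) := by
      rw [← eqv_zm]
      exact congrArg (eqv O _ M) (Category.assoc _ _ _)
    have h4 := e1.symm.trans (h3.trans e2)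
    rw [map_comp_apply', map_comp_apply'] at h4
    rw [map_comp_apply', map_comp_apply']
    exact congrArg _ h4
  choose t ht using fun i : Fin n => exists_glue M (Y i) (g i) (hcov i) (fun k => s ⟨i, k⟩)
    (fun k l => hs i k l)
  refine ⟨Sigma.desc (fun i => (eqv O (U i) M).symm (t i)), ?_⟩
  apply Sigma.hom_ext
  intro x
  rw [ι_refMap_assoc, Sigma.ι_desc]
  apply (eqv O _ M).injective
  rw [eqv_zm, Equiv.apply_symm_apply]
  exact ht x.1 x.2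

end Cech

section FG

/-- finitely generated modules: quotients of finite sums of `j_{U!}O_U`, `U ∈ B` -/
def IsFG (M : ModSite.Mod O) : Prop :=
  ∃ (n : ℕ) (U : Fin n → C) (p : (∐ fun i => ModSite.freeOn O (U i)) ⟶ M), (∀ i, U i ∈ B) ∧ Epi p

variable {O B}

lemma isFG_of_fintype {β : Type*} [Fintype β] (U : β → C) (hU : ∀ b, U b ∈ B) {M : ModSite.Mod O}
    (p : (∐ fun b => ModSite.freeOn O (U b)) ⟶ M) [Epi p] : IsFG O B M := by
  let eβ := (Fintype.equivFin β).symm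
  let iβ : (∐ fun j => ModSite.freeOn O (U (eβ j))) ≅ ∐ fun b => ModSite.freeOn O (U b) :=
    Sigma.reindex eβ (fun b => ModSite.freeOn O (U b))
  exact ⟨_, fun j => U (eβ j), iβ.hom ≫ p, fun j => hU _, epi_comp _ _⟩

lemma isFG_of_epi {M N : ModSite.Mod O} (f : M ⟶ N) [Epi f] (h : IsFG O B M) : IsFG O B N := by
  obtain ⟨n, U, p, hU, hp⟩ := h
  exact ⟨n, U, p ≫ f, hU, epi_comp _ _⟩

lemma isFG_kernel_of_isColimit {β : Type*} [Fintype β] (V : β → C) (hV : ∀ b, V b ∈ B)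
    {P G : ModSite.Mod O} (ψ : (∐ fun b => ModSite.freeOn O (V b)) ⟶ P) (p : P ⟶ G)
    (w : ψ ≫ p = 0) (hp : IsColimit (CokernelCofork.ofπ p w)) : IsFG O B (kernel p) := by
  haveI := epi_kernel_lift_of_isColimit ψ p w hp
  exact isFG_of_fintype V hV (kernel.lift p ψ w)

variable (hB₁ : Covers J B) (hB₂ : ∀ U ∈ B, CohCx.IsQcObject (hSh J U))

include hB₁ hB₂ in
/-- finitely generated modules are closed under extensions -/
lemma isFG_of_exact (S : ShortComplex (ModSite.Mod O)) (hS : S.Exact) (hg : Epi S.g)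
    (h₁ : IsFG O B S.X₁) (h₃ : IsFG O B S.X₃) : IsFG O B S.X₂ := by
  obtain ⟨n₁, U₁, p₁, hU₁, hp₁⟩ := h₁
  obtain ⟨n₃, U₃, p₃, hU₃, hp₃⟩ := h₃
  obtain ⟨T, hT, W, q, l, hW, hq, hl⟩ := exists_refined_lift hB₁ hB₂ U₃ hU₃ S.g p₃
  haveI := hT
  haveI : Epi (l ≫ S.g) := by
    rw [hl]
    exact epi_comp _ _
  have h1 : Epi (biprod.desc (p₁ ≫ S.f) l) := epi_biprod_desc_of_exact S hS p₁ l
  let V'' : Fin n₁ ⊕ T → C := Sum.elim U₁ W
  have hV'' : ∀ s, V'' s ∈ B := by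
    rintro (x | j)
    · exact hU₁ x
    · exact hW j
  let i : (∐ fun s => ModSite.freeOn O (V'' s)) ≅
      (∐ fun j => ModSite.freeOn O (U₁ j)) ⊞ (∐ fun x : T => ModSite.freeOn O (W x)) :=
    sigmaSumIso (fun s => ModSite.freeOn O (V'' s))
  haveI : Epi (i.hom ≫ biprod.desc (p₁ ≫ S.f) l) := epi_comp _ _
  exact isFG_of_fintype V'' hV'' (i.hom ≫ biprod.desc (p₁ ≫ S.f) l)

include hB₁ hB₂ in
/-- local lifting of a map out of a finite free sum along an epimorphism, over a refinement which is again a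
finite free sum, with finitely generated kernel -/
lemma exists_refined_lift' [HasPullbacks C]
    (hB₃ : ∀ (U U₁ U₂ : C) (f₁ : U₁ ⟶ U) (f₂ : U₂ ⟶ U), U ∈ B → U₁ ∈ B → U₂ ∈ B →
      CohCx.IsQcObject (hSh J (pullback f₁ f₂)))
    {n : ℕ} (U : Fin n → C) (hU : ∀ i, U i ∈ B) {P G : ModSite.Mod O}
    (π : P ⟶ G) [Epi π] (t : (∐ fun i => ModSite.freeOn O (U i)) ⟶ G) :
    ∃ (T : Type u) (_ : Fintype T) (W : T → C)
      (q : (∐ fun x : T => ModSite.freeOn O (W x)) ⟶ ∐ fun i => ModSite.freeOn O (U i))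
      (l : (∐ fun x : T => ModSite.freeOn O (W x)) ⟶ P),
      (∀ x, W x ∈ B) ∧ Epi q ∧ l ≫ π = q ≫ t ∧ IsFG O B (kernel q) := by
  choose κ hκ Y g b hY hcov hb using fun i : Fin n =>
    exists_finite_local_lift O B hB₁ hB₂ π (hU i) (Sigma.ι (fun i => ModSite.freeOn O (U i)) i ≫ t)
  haveI : ∀ i, Fintype (κ i) := hκ
  let l : (∐ fun x : (Σ i, κ i) => ModSite.freeOn O (Y x.1 x.2)) ⟶ P :=
    Sigma.desc (fun x => b x.1 x.2)
  have hl : l ≫ π = refMap O U κ Y g ≫ t := by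
    apply Sigma.hom_ext
    intro x
    rw [← Category.assoc, Sigma.ι_desc, hb, ι_refMap_assoc]
    rfl
  obtain ⟨R, hR, V, χ, w, hV, ⟨hc⟩⟩ := exists_cokernel_refMap U κ Y g hB₁ hB₃ hU hY hcov
  haveI := hR
  exact ⟨Σ i, κ i, inferInstance, fun x => Y x.1 x.2, refMap O U κ Y g, l, fun x => hY x.1 x.2,
    epi_refMap U κ Y g hcov, hl, isFG_kernel_of_isColimit V hV χ _ w hc⟩

include hB₁ hB₂ in
/-- **type A modules are closed under extensions** -/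
theorem isTypeA_of_shortExact [HasPullbacks C]
    (hB₃ : ∀ (U U₁ U₂ : C) (f₁ : U₁ ⟶ U) (f₂ : U₂ ⟶ U), U ∈ B → U₁ ∈ B → U₂ ∈ B →
      CohCx.IsQcObject (hSh J (pullback f₁ f₂)))
    (S : ShortComplex (ModSite.Mod O)) (hS : S.ShortExact) (h₁ : IsTypeA O B S.X₁)
    (h₃ : IsTypeA O B S.X₃) : IsTypeA O B S.X₂ := by
  obtain ⟨m₁, n₁, V₁, U₁, ψ₁, p₁, w₁, hV₁, hU₁, ⟨hc₁⟩⟩ := exists_presentation O B _ h₁
  obtain ⟨m₃, n₃, V₃, U₃, ψ₃, p₃, w₃, hV₃, hU₃, ⟨hc₃⟩⟩ := exists_presentation O B _ h₃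
  have : Epi p₁ := epi_of_isColimit_cofork hc₁
  have : Epi p₃ := epi_of_isColimit_cofork hc₃
  have : Epi S.g := hS.epi_g
  have : Mono S.f := hS.mono_f
  have hK₁ : IsFG O B (kernel p₁) := isFG_kernel_of_isColimit V₁ hV₁ ψ₁ p₁ w₁ hc₁
  have hK₃ : IsFG O B (kernel p₃) := isFG_kernel_of_isColimit V₃ hV₃ ψ₃ p₃ w₃ hc₃
  obtain ⟨T, hT, W, q, t, hW, hq, ht, hKq⟩ := exists_refined_lift' hB₁ hB₂ hB₃ U₃ hU₃ S.g p₃
  haveI := hT
  haveI := hq
  have hK₃' : IsFG O B (kernel (q ≫ p₃)) :=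
    isFG_of_exact hB₁ hB₂ (ShortComplex.mk _ _ (kerComp_zero q p₃)) (kerComp_exact q p₃)
      (epi_kerCompG q p₃) hKq hK₃
  have hK₃'' : IsFG O B (kernel (t ≫ S.g)) := by
    haveI : Epi (kernelIsoOfEq ht.symm).hom := inferInstance
    exact isFG_of_epi (kernelIsoOfEq ht.symm).hom hK₃'
  haveI : Epi (t ≫ S.g) := by
    rw [ht]
    exact epi_comp _ _
  haveI hπ₂ : Epi (biprod.desc (p₁ ≫ S.f) t) := epi_biprod_desc_of_exact S hS.exact p₁ t
  have hK₂ : IsFG O B (kernel (biprod.desc (p₁ ≫ S.f) t)) :=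
    isFG_of_exact hB₁ hB₂ (ShortComplex.mk _ _ (kerExt_zero S p₁ t)) (kerExt_exact S p₁ t)
      (epi_kerExtG S hS.exact p₁ t) hK₁ hK₃''
  obtain ⟨n₂, U₂, x, hU₂, hx⟩ := hK₂
  haveI := hx
  have e := isoCokernelOfEpiOfEpi (biprod.desc (p₁ ≫ S.f) t) x
  let V'' : Fin n₁ ⊕ T → C := Sum.elim U₁ W
  have hV'' : ∀ s, V'' s ∈ B := by
    rintro (x | j)
    · exact hU₁ x
    · exact hW j
  let i : (∐ fun s => ModSite.freeOn O (V'' s)) ≅
      (∐ fun j => ModSite.freeOn O (U₁ j)) ⊞ (∐ fun x : T => ModSite.freeOn O (W x)) :=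
    sigmaSumIso (fun s => ModSite.freeOn O (V'' s))
  exact isTypeA_of_fintype O B _ U₂ V'' hU₂ hV'' ((x ≫ kernel.ι _) ≫ i.inv)
    (e ≪≫ (cokernelCompIsIso _ i.inv).symm)

end FG

end Groth.Agent.Lib.TypeAExt66
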