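/-
helper66: compactness of j_!O_W in Mod(O) for quasi-compact W: sections of coproducts are locally finite sums,
maps j_!O_W ⟶ ∐ M are finitely supported, Hom(j_!O_W,-) and Γ(W,-) commute with direct sums.
-/
import Groth.Agent.Lib.TypeAExt66
import Groth.Agent.Lib.CompactFree31
import Groth.Agent.Lib.FinSupp31
import Mathlib.CategoryTheory.Sites.Limits

set_option autoImplicit false
universe u
open CategoryTheory CategoryTheory.Limits Opposite

namespace Groth.Agent.Lib.QcCompact66

open Groth.Agent.FinSupp31 Groth.Agent.Lib.QcObject66 Groth.Agent.Lib.TypeAExt66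
  Groth.Agent.Lib.TypeA66

variable {C : Type u} [SmallCategory C] {J : GrothendieckTopology C}

/-- **local finiteness of sections of a coproduct of abelian sheaves**: every section of the point of a colimit
cocone over a discrete diagram is locally in the subgroup generated by the images of the summands -/
theorem exists_local_mem_closure {ι : Type u} {K : Discrete ι ⥤ Sheaf J AddCommGrpCat.{u}}
    (c : Cocone K) (hc : IsColimit c) {V : C} (t : c.pt.obj.obj (op V)) :
    ∃ R ∈ J V, ∀ ⦃V' : C⦄ (g : V' ⟶ V), R.arrows g →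
      c.pt.obj.map g.op t ∈ AddSubgroup.closure
        (⋃ j, Set.range fun x => ((c.ι.app j).hom.app (op V')).hom x : Set (c.pt.obj.obj (op V'))) := by
  let E := colimit.cocone (K ⋙ sheafToPresheaf J AddCommGrpCat.{u})
  have hE : IsColimit E := colimit.isColimit _
  let c₀ := Sheaf.sheafifyCocone E
  have hc₀ : IsColimit c₀ := Sheaf.isColimitSheafifyCocone E hE
  let α : c.pt ≅ c₀.pt := hc.coconePointUniqueUpToIso hc₀
  have hα : ∀ j, c₀.ι.app j ≫ α.inv = c.ι.app j := fun j =>
    IsColimit.comp_coconePointUniqueUpToIso_inv hc hc₀ j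
  let t₀ := (α.hom.hom.app (op V)).hom t
  refine ⟨_, Presheaf.imageSieve_mem J (toSheafify J E.pt) t₀, ?_⟩
  intro V' g hg
  obtain ⟨y, hy⟩ := hg
  -- the evaluation of `E` at `V'` is a colimit cocone in `Ab`
  have hEV : IsColimit (((evaluation Cᵒᵖ AddCommGrpCat.{u}).obj (op V')).mapCocone E) :=
    isColimitOfPreserves _ hE
  have hgen := Groth.Agent.CompactFree31.closure_range_eq_top _ hEV
  have hymem : y ∈ AddSubgroup.closure (⋃ j, Set.range fun x =>
      ((((evaluation Cᵒᵖ AddCommGrpCat.{u}).obj (op V')).mapCocone E).ι.app j).hom x) := by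
    rw [hgen]; trivial
  -- transport along `ψ`
  let ψ : E.pt.obj (op V') ⟶ c.pt.obj.obj (op V') :=
    (toSheafify J E.pt).app (op V') ≫ α.inv.hom.app (op V')
  have hψ : ∀ (j : Discrete ι) (x : (K.obj j).obj.obj (op V')),
      ψ.hom ((E.ι.app j).app (op V') x) = ((c.ι.app j).hom.app (op V')).hom x := by
    intro j x
    have h1 : (E.ι.app j ≫ toSheafify J E.pt) ≫ α.inv.hom = (c.ι.app j).hom := by
      rw [← Sheaf.sheafifyCocone_ι_app_val]
      exact congrArg (fun φ => φ.hom) (hα j)
    have h2 := congrArg (fun φ => (φ.app (op V')).hom x) h1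
    exact h2
  have hψt : ψ.hom y = c.pt.obj.map g.op t := by
    change (α.inv.hom.app (op V')).hom (((toSheafify J E.pt).app (op V')).hom y) = _
    rw [hy]
    have h1 := NatTrans.naturality_apply α.hom.hom g.op t
    have h2 : ((α.hom ≫ α.inv).hom.app (op V')).hom (c.pt.obj.map g.op t) = c.pt.obj.map g.op t := by
      rw [Iso.hom_inv_id]; rfl
    rw [← h2]
    change _ = (α.inv.hom.app (op V')).hom ((α.hom.hom.app (op V')).hom (c.pt.obj.map g.op t))
    rw [h1]
    rfl
  rw [← hψt]
  have key : ∀ z ∈ AddSubgroup.closure (⋃ j, Set.range fun x =>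
      ((((evaluation Cᵒᵖ AddCommGrpCat.{u}).obj (op V')).mapCocone E).ι.app j).hom x),
      ψ.hom z ∈ AddSubgroup.closure
        (⋃ j, Set.range fun x => ((c.ι.app j).hom.app (op V')).hom x :
          Set (c.pt.obj.obj (op V'))) := by
    intro z hz
    induction hz using AddSubgroup.closure_induction with
    | mem z hz =>
      obtain ⟨j, x, rfl⟩ := Set.mem_iUnion.1 hz
      refine AddSubgroup.subset_closure (Set.mem_iUnion.2 ⟨j, ⟨x, ?_⟩⟩)
      exact (hψ j x).symm
    | zero => rw [map_zero]; exact zero_mem _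
    | add a b _ _ ha hb => rw [map_add]; exact add_mem ha hb
    | neg a _ ha => rw [map_neg]; exact neg_mem ha
  exact key y hymem


section Mod

variable (O : Sheaf J CommRingCat.{u})

/-- `eqv` as an additive equivalence -/
noncomputable def eqvAdd (U : C) (M : ModSite.Mod O) :
    (ModSite.freeOn O U ⟶ M) ≃+ ((Groth.Agent.ModGen31.Γ O).obj M).obj.obj (op U) :=
  { eqv O U M with
    map_add' := fun g g' => (Groth.Agent.ModGen31.gen O).e_add U g g' }

lemma eqvAdd_apply (U : C) (M : ModSite.Mod O) (g : ModSite.freeOn O U ⟶ M) :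
    eqvAdd O U M g = eqv O U M g := rfl

lemma eqvAdd_comp (U : C) {M N : ModSite.Mod O} (g : ModSite.freeOn O U ⟶ M) (f : M ⟶ N) :
    eqvAdd O U N (g ≫ f) = (((Groth.Agent.ModGen31.Γ O).map f).hom.app (op U)).hom (eqvAdd O U M g) :=
  (Groth.Agent.ModGen31.gen O).e_comp U g f

variable {O}

/-- **local finiteness of maps into a coproduct of modules** -/
theorem exists_local_finSub {ι : Type u} (M : ι → ModSite.Mod O) {V : C}
    (f : ModSite.freeOn O V ⟶ ∐ M) :
    ∃ R ∈ J V, ∀ ⦃V' : C⦄ (g : V' ⟶ V), R.arrows g →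
      zm O g ≫ f ∈ finSub M (ModSite.freeOn O V') := by
  let c := (Groth.Agent.ModGen31.Γ O).mapCocone (colimit.cocone (Discrete.functor M))
  have hc : IsColimit c := isColimitOfPreserves _ (colimit.isColimit _)
  obtain ⟨R, hR, hR'⟩ := exists_local_mem_closure c hc (eqvAdd O V (∐ M) f)
  refine ⟨R, hR, fun V' g hg => ?_⟩
  have h1 := hR' g hg
  have h2 : c.pt.obj.map g.op (eqvAdd O V (∐ M) f) = eqvAdd O V' (∐ M) (zm O g ≫ f) :=
    (eqv_zm g f).symm
  rw [h2] at h1
  have key : ∀ x ∈ AddSubgroup.closure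
      (⋃ j, Set.range fun x => ((c.ι.app j).hom.app (op V')).hom x :
        Set (c.pt.obj.obj (op V'))),
      (eqvAdd O V' (∐ M)).symm x ∈ finSub M (ModSite.freeOn O V') := by
    intro x hx
    induction hx using AddSubgroup.closure_induction with
    | mem z hz =>
      obtain ⟨j, y, rfl⟩ := Set.mem_iUnion.1 hz
      have h3 : (eqvAdd O V' (∐ M)).symm (((c.ι.app j).hom.app (op V')).hom y) =
          (eqvAdd O V' (M j.as)).symm y ≫ Sigma.ι M j.as := by
        apply (eqvAdd O V' (∐ M)).injective
        rw [AddEquiv.apply_symm_apply, eqvAdd_comp, AddEquiv.apply_symm_apply]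
        rfl
      rw [h3]
      exact comp_ι_mem_finSub M _ j.as _
    | zero => rw [map_zero]; exact zero_mem _
    | add a b _ _ ha hb => rw [map_add]; exact add_mem ha hb
    | neg a _ ha => rw [map_neg]; exact neg_mem ha
  have h4 := key _ h1
  rwa [AddEquiv.symm_apply_apply] at h4

/-- **compactness of `j_!O_W` for quasi-compact `W`**: maps into coproducts are finitely supported -/
theorem finSupp_freeOn {W : C} (hW : CohCx.IsQcObject (hSh J W)) {ι : Type u}
    (M : ι → ModSite.Mod O) : FinSupp M (ModSite.freeOn O W) := by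
  classical
  intro f
  obtain ⟨R, hR, hR'⟩ := exists_local_finSub M f
  let Y : (Σ V' : C, {g : V' ⟶ W // R.arrows g}) → C := fun a => a.1
  let arr : ∀ a, Y a ⟶ W := fun a => a.2.1
  have hcov : Sieve.ofArrows Y arr ∈ J W := by
    refine J.superset_covering (fun V' g hg => ?_) hR
    exact Sieve.ofArrows_mk Y arr ⟨V', ⟨g, hg⟩⟩
  obtain ⟨t, ht⟩ := exists_finite_subfamily hW Y arr hcov
  choose S hS using fun a : (Σ V' : C, {g : V' ⟶ W // R.arrows g}) => hR' a.2.1 a.2.2
  refine ⟨t.biUnion S, ?_⟩
  apply sub_eq_zero.1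
  refine eq_zero_of_cover O _ (fun i : t => Y i.1) (fun i => arr i.1) ht (fun a => ?_)
  change zm O (arr a.1) ≫ _ = 0
  rw [Preadditive.comp_sub, sub_eq_zero]
  have h := hS a.1
  calc zm O (arr a.1) ≫ f ≫ e M (t.biUnion S)
      = ((zm O (arr a.1) ≫ f) ≫ e M (S a.1)) ≫ e M (t.biUnion S) := by rw [h, Category.assoc]
    _ = (zm O (arr a.1) ≫ f) ≫ e M (S a.1) := by
        rw [Category.assoc _ (e M (S a.1)), e_e M (Finset.subset_biUnion_of_mem S a.2)]
    _ = zm O (arr a.1) ≫ f := h

end Mod

section Abstract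

variable {D : Type*} [Category.{u} D] [Preadditive D]

/-- finitely supported maps into all coproducts of shape `ι` ⇒ `Hom(P, -)` preserves these coproducts -/
theorem preservesCoproducts_of_finSupp (P : D) (ι : Type u) [HasCoproductsOfShape ι D]
    (h : ∀ Y : ι → D, FinSupp Y P) :
    PreservesColimitsOfShape (Discrete ι) (preadditiveCoyoneda.obj (op P)) := by
  classical
  constructor
  intro K
  let Y : ι → D := K.obj ∘ Discrete.mk
  let φ : ∀ (s : Cocone (Discrete.functor Y ⋙ preadditiveCoyoneda.obj (op P))) (i : ι),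
      (P ⟶ Y i) →+ s.pt := fun s i => (s.ι.app ⟨i⟩).hom
  have : PreservesColimit (Discrete.functor Y) (preadditiveCoyoneda.obj (op P)) := by
    refine preservesColimit_of_preserves_colimit_cocone (coproductIsCoproduct Y) ?_
    let β : (DirectSum ι fun i => (P ⟶ Y i)) ≃+ (P ⟶ ∐ Y) :=
      AddEquiv.ofBijective (CohDer.homSumToHomCoprod P Y) (bijective_of_finSupp (h Y))
    have hβ : ∀ (i : ι) (g : P ⟶ Y i), β.symm (g ≫ Sigma.ι Y i) =
        DirectSum.of (fun i => P ⟶ Y i) i g := by
      intro i g
      apply β.injective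
      rw [AddEquiv.apply_symm_apply]
      exact (homSumToHomCoprod_of Y P i g).symm
    refine
      { desc := fun s => AddCommGrpCat.ofHom
          ((DirectSum.toAddMonoid (φ s)).comp β.symm.toAddMonoidHom)
        fac := ?_
        uniq := ?_ }
    · rintro s ⟨i⟩
      ext (g : P ⟶ Y i)
      change (DirectSum.toAddMonoid (φ s)) (β.symm (g ≫ Sigma.ι Y i)) = _
      rw [hβ, DirectSum.toAddMonoid_of]
      rfl
    · intro s m hm
      ext (f : P ⟶ ∐ Y)
      change m.hom f = (DirectSum.toAddMonoid (φ s)) (β.symm f)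
      have h1 : m.hom.comp β.toAddMonoidHom =
          DirectSum.toAddMonoid (φ s) := by
        apply DirectSum.addHom_ext
        intro i g
        rw [DirectSum.toAddMonoid_of]
        change m.hom (CohDer.homSumToHomCoprod P Y (DirectSum.of (fun i => P ⟶ Y i) i g)) = _
        rw [homSumToHomCoprod_of]
        have h2 := ConcreteCategory.congr_hom (hm ⟨i⟩) g
        exact h2
      rw [← h1]
      change m.hom f = m.hom (β (β.symm f))
      rw [AddEquiv.apply_symm_apply]
  exact preservesColimit_of_iso_diagram _ (Discrete.natIsoFunctor (F := K)).symm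

end Abstract


section Final

variable (O : Sheaf J CommRingCat.{u})

/-- `Hom(j_!O_W, -)` commutes with direct sums for quasi-compact `W` -/
theorem preservesCoproducts_coyoneda_freeOn {W : C} (hW : CohCx.IsQcObject (hSh J W)) (ι : Type u) :
    PreservesColimitsOfShape (Discrete ι) (preadditiveCoyoneda.obj (op (ModSite.freeOn O W))) :=
  preservesCoproducts_of_finSupp _ ι (fun Y => finSupp_freeOn hW Y)

/-- `Hom(j_!O_W, -)` is the functor of sections over `W` -/
noncomputable def coyonedaIsoSections (W : C) :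
    preadditiveCoyoneda.obj (op (ModSite.freeOn O W)) ≅
      SheafOfModules.toSheaf (ModSite.ringSh O) ⋙ (sheafSections J AddCommGrpCat.{u}).obj (op W) :=
  NatIso.ofComponents (fun M => (eqvAdd O W M).toAddCommGrpIso) (by
    intro M N f
    ext (g : ModSite.freeOn O W ⟶ M)
    exact eqvAdd_comp O W g f)

/-- `Γ(W, -)` commutes with direct sums for quasi-compact `W` -/
theorem preservesCoproducts_sections {W : C} (hW : CohCx.IsQcObject (hSh J W)) (ι : Type u) :
    PreservesColimitsOfShape (Discrete ι)
      (SheafOfModules.toSheaf (ModSite.ringSh O) ⋙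
        (sheafSections J AddCommGrpCat.{u}).obj (op W)) := by
  haveI := preservesCoproducts_coyoneda_freeOn O hW ι
  exact preservesColimitsOfShape_of_natIso (coyonedaIsoSections O W)

end Final

end Groth.Agent.Lib.QcCompact66
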