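/-
helper66: j_!O_U[0] is a compact object of D(O) for U quasi-compact and weakly contractible
(projectivity of j_!O_U, AB4 for Mod(O), dévissage of helper31).
-/
import Groth.Agent.Lib.QcCompact66
import Groth.Agent.Lib.CompactBdd31
import Groth.Agent.Lib.DerivedCoprod
import Groth.Prelude.Def_CohSite
import Mathlib.Algebra.Homology.DerivedCategory.Ext.EnoughProjectives

set_option autoImplicit false
universe u
open CategoryTheory CategoryTheory.Limits Opposite DerivedCategory

namespace Groth.Agent.Lib.FreeOnCompact66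

open Groth.Agent.FinSupp31 Groth.Agent.CompactBdd31 Groth.Agent.Lib.QcObject66
  Groth.Agent.Lib.TypeAExt66 Groth.Agent.Lib.QcCompact66

variable {C : Type u} [SmallCategory C] {J : GrothendieckTopology C} (O : Sheaf J CommRingCat.{u})

/-- `j_!O_U` is projective for weakly contractible `U` -/
theorem projective_freeOn {U : C} (hwc : CohSite.IsWeaklyContractible J U) :
    Projective (ModSite.freeOn O U) := by
  constructor
  intro E X f π hπ
  have h1 : Sheaf.IsLocallySurjective ((Groth.Agent.ModGen31.Γ O).map π) :=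
    (Sheaf.isLocallySurjective_iff_epi' AddCommGrpCat.{u} ((Groth.Agent.ModGen31.Γ O).map π)).2
      inferInstance
  have h2 : Sheaf.IsLocallySurjective
      ((sheafCompose J (forget AddCommGrpCat.{u})).map ((Groth.Agent.ModGen31.Γ O).map π)) :=
    inferInstance
  have h3 : Epi ((sheafCompose J (forget AddCommGrpCat.{u})).map
      ((Groth.Agent.ModGen31.Γ O).map π)) :=
    (Sheaf.isLocallySurjective_iff_epi _).1 h2
  obtain ⟨x, hx⟩ := hwc _ _ _ h3 (eqvAdd O U X f)
  refine ⟨(eqvAdd O U E).symm x, ?_⟩
  apply (eqvAdd O U X).injective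
  rw [eqvAdd_comp, AddEquiv.apply_symm_apply]
  exact hx

/-- coproducts of modules are exact -/
lemma hasExactColimitsOfShape_discrete (ι : Type u) :
    HasExactColimitsOfShape (Discrete ι) (ModSite.Mod O) := by
  have h1 : HasColimitsOfShape (Discrete ι) (Sheaf J AddCommGrpCat.{u}) :=
    Sheaf.instHasColimitsOfShape
  have h2 : HasExactColimitsOfShape (Discrete ι) (Sheaf J AddCommGrpCat.{u}) :=
    Sheaf.hasExactColimitsOfShape J
  have h3 : ReflectsFiniteLimits (Groth.Agent.ModGen31.Γ O) :=
    ⟨fun K _ _ => reflectsLimitsOfShape_of_reflectsIsomorphisms⟩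
  exact HasExactColimitsOfShape.domain_of_functor (Discrete ι) (Groth.Agent.ModGen31.Γ O)


variable [HasDerivedCategory.{u} (ModSite.Mod O)]

/-- `j_!O_U[0]` -/
noncomputable abbrev P (U : C) : DerivedCategory (ModSite.Mod O) :=
  (singleFunctor (ModSite.Mod O) 0).obj (ModSite.freeOn O U)

/-- maps from `j_!O_U[0]` to `D^{≤ -1}` vanish when `j_!O_U` is projective -/
theorem vanish {U : C} [Projective (ModSite.freeOn O U)] (M : DerivedCategory (ModSite.Mod O))
    (hM : M.IsLE (-1)) (f : P O U ⟶ M) : f = 0 := by
  obtain ⟨L, hL, ⟨e⟩⟩ := exists_iso_Q_obj_of_isLE M (-1)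
  rw [← cancel_mono e.hom, zero_comp]
  let γ := (singleFunctorIsoCompQ (ModSite.Mod O) 0).app (ModSite.freeOn O U)
  rw [← cancel_epi γ.inv, comp_zero]
  exact from_singleFunctor_obj_eq_zero_of_projective (γ.inv ≫ f ≫ e.hom) (-1) (by norm_num)

lemma preservesColimitsOfShape_singleFunctor (ι : Type u) (n : ℤ) :
    PreservesColimitsOfShape (Discrete ι) (singleFunctor (ModSite.Mod O) n) := by
  have := hasExactColimitsOfShape_discrete O ι
  have h1 : PreservesColimitsOfShape (Discrete ι)
      (HomologicalComplex.single (ModSite.Mod O) (ComplexShape.up ℤ) n) :=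
    inferInstance
  have h1' : PreservesColimitsOfShape (Discrete ι)
      (CochainComplex.singleFunctor (ModSite.Mod O) n) := h1
  have h2 : PreservesColimitsOfShape (Discrete ι)
      (CochainComplex.singleFunctor (ModSite.Mod O) n ⋙ DerivedCategory.Q) :=
    inferInstance
  exact preservesColimitsOfShape_of_natIso (singleFunctorIsoCompQ (ModSite.Mod O) n).symm

/-- the base case of the dévissage -/
theorem base {U : C} (hqc : CohCx.IsQcObject (hSh J U)) [Projective (ModSite.freeOn O U)]
    (ι : Type u) [HasCoproductsOfShape ι (DerivedCategory (ModSite.Mod O))]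
    [∀ n : ℤ, PreservesColimitsOfShape (Discrete ι) (homologyFunctor (ModSite.Mod O) n)] :
    Base ι (P O U) := by
  classical
  intro F p
  rcases lt_trichotomy p 0 with hp | rfl | hp
  · refine finSupp_of_forall_eq_zero _ _ (fun f => vanish O _ ?_ f)
    refine isLE_sigma _ (-1) (fun i => ?_)
    have h0 : ((singleFunctor (ModSite.Mod O) p).obj (F i)).IsLE p := inferInstance
    exact TStructure.t.isLE_of_le _ p (-1) (by omega)
  · have := preservesColimitsOfShape_singleFunctor O ι 0
    have hcof : IsColimit (Cofan.mk ((singleFunctor (ModSite.Mod O) 0).obj (∐ F))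
        (fun i => (singleFunctor (ModSite.Mod O) 0).map (Sigma.ι F i))) :=
      isColimitCofanMkObjOfIsColimit (singleFunctor (ModSite.Mod O) 0) _ _ (coproductIsCoproduct F)
    refine finSupp_of_cofan _ hcof ?_
    rw [eq_top_iff]
    intro f _
    obtain ⟨f₀, rfl⟩ := (singleFunctor (ModSite.Mod O) 0).map_surjective f
    obtain ⟨s, hs⟩ := finSupp_freeOn hqc F f₀
    rw [← hs, comp_e_eq_sum, Functor.map_sum]
    refine sum_mem (fun i _ => AddSubgroup.subset_closure
      ⟨i, (singleFunctor (ModSite.Mod O) 0).map (f₀ ≫ Sigma.π F i), ?_⟩)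
    rw [Functor.map_comp]
    rfl
  · refine finSupp_of_forall_eq_zero _ _ (fun f => ?_)
    have hGE : (∐ fun i => (singleFunctor (ModSite.Mod O) p).obj (F i)).IsGE p :=
      isGE_sigma _ p (fun i => inferInstance)
    have hLE : (P O U).IsLE 0 := inferInstance
    exact TStructure.t.zero_of_isLE_of_isGE f 0 p hp hLE hGE

/-- **`j_!O_U[0]` is a compact object of `D(O)` for `U` quasi-compact and weakly contractible** -/
theorem isCompactObject_single_freeOn [HasCoproducts.{u} (DerivedCategory (ModSite.Mod O))] {U : C}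
    (hqc : CohCx.IsQcObject (hSh J U)) (hwc : CohSite.IsWeaklyContractible J U) :
    CohDer.IsCompactObject (P O U) := by
  intro ι X
  have := projective_freeOn O hwc
  have := hasExactColimitsOfShape_discrete O ι
  have hpres : ∀ n : ℤ, PreservesColimitsOfShape (Discrete ι)
      (homologyFunctor (ModSite.Mod O) n) := fun n => inferInstance
  have hLE : (P O U).IsLE 0 := inferInstance
  exact bijective_of_finSupp
    (finSupp_of_vanish (base O hqc ι) hLE 1 (fun M hM f => vanish O M hM f) X)

end Groth.Agent.Lib.FreeOnCompact66
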