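import Groth.Agent.Lib.CompactGen31
import Groth.Agent.Lib.ModGen31
import Groth.Agent.Lib.FreeOnCompact66
import Groth.Agent.Lib.CoprodFinFilt95
import Groth.Agent.S0862

/-!
# `j_{U!} O_U` is compact on `D⁺(O)` for `U` in a "coherent" class (helper31)

Hypotheses of Stacks 0739 (`S0862`): a class `B` of objects and a class `Cov` of finite coverings.
Then `H^p(U, -)` commutes with coproducts of abelian sheaves for `U ∈ B` (`preservesCoproducts_Hp`)
and maps from `j_{U!} O_U[0]` into coproducts of uniformly bounded below families of `D(O)` are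
finitely supported (`finSupp_freeOn`).
-/

set_option autoImplicit false

open CategoryTheory CategoryTheory.Limits Opposite DerivedCategory

universe u

namespace Groth.Agent.CompactCov31

open Groth.Agent.LocGen31 Groth.Agent.FinSupp31

variable {C : Type u} [SmallCategory C] [HasPullbacks C] {J : GrothendieckTopology C}
  (B : Set C) (Cov : ∀ (U : C) (ι : Type u), (ι → Over U) → Prop)
  (h1 : ∀ (U : C) (ι : Type u) (Y : ι → Over U), Cov U ι Y → Finite ι ∧ U ∈ B ∧
    Sieve.ofArrows (fun i => (Y i).left) (fun i => (Y i).hom) ∈ J U ∧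
    ∀ (p : ℕ) (a : Fin (p + 1) → ι), (∏ᶜ fun k => Y (a k)).left ∈ B)
  (h2 : ∀ U ∈ B, ∀ T ∈ J U, ∃ (ι : Type u) (Y : ι → Over U), Cov U ι Y ∧ ∀ i, T.arrows (Y i).hom)

include h1 h2 in
/-- `H^p(U, -)` commutes with coproducts for `U ∈ B` -/
theorem preservesCoproducts_Hp (U : C) (hU : U ∈ B) (p : ℕ) (ι : Type u) :
    PreservesColimitsOfShape (Discrete ι) (Gen.Hp (J := J) p U) := by
  have hfilt : PreservesColimitsOfShape (Finset (Discrete ι)) (Gen.Hp (J := J) p U) :=
    ⟨fun {F} => Groth.Agent.S0862.result J B Cov h1 h2 U hU p (Finset (Discrete ι)) F⟩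
  have hadd : (Gen.Hp (J := J) p U).Additive :=
    inferInstanceAs (Abelian.extFunctorObj (CohCx.freeSheaf J U) p).Additive
  have hfin : PreservesFiniteCoproducts (Gen.Hp (J := J) p U) := inferInstance
  exact Groth.Agent.Lib.CoprodFinFilt95.preservesColimitsOfShape_discrete (Gen.Hp (J := J) p U)

variable (O : Sheaf J CommRingCat.{u}) [HasDerivedCategory.{u} (ModSite.Mod O)]

include h1 h2 in
/-- maps from `j_{U!} O_U[0]` into coproducts of uniformly bounded below families are finitely
supported -/
theorem finSupp_freeOn (U : C) (hU : U ∈ B) {I : Type u}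
    [HasCoproductsOfShape I (DerivedCategory (ModSite.Mod O))]
    (M : I → DerivedCategory (ModSite.Mod O)) (a : ℤ) (hM : ∀ i, (M i).IsGE a) :
    FinSupp M ((singleFunctor (ModSite.Mod O) 0).obj (ModSite.freeOn O U)) := by
  have := Groth.Agent.Lib.FreeOnCompact66.hasExactColimitsOfShape_discrete O I
  have := Groth.Agent.Lib.FreeOnCompact66.preservesColimitsOfShape_singleFunctor O I 0
  have := Groth.Agent.ModGen31.enoughInjectives O
  have hpres : ∀ n : ℤ, PreservesColimitsOfShape (Discrete I)
      (homologyFunctor (ModSite.Mod O) n) := fun n => inferInstance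
  exact (Groth.Agent.ModGen31.gen O).finSupp_of_isGE (Groth.Agent.ModGen31.hacyc O) U
    (fun p => preservesCoproducts_Hp B Cov h1 h2 U hU p I) a M hM

end Groth.Agent.CompactCov31
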