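import Groth.Agent.Lib.BrownCompact
import Groth.Agent.Lib.Hocolim31
import Mathlib.CategoryTheory.Triangulated.Generators

/-!
# Compact objects and triangulated envelopes of finitely many compact generators

Helper library of helper31.
-/

set_option autoImplicit false
set_option linter.unusedSectionVars false

namespace Groth.Agent.Lib.CompactEnv31

open CategoryTheory Limits Pretriangulated ZeroObject CohDer

universe v u

variable {D : Type u} [Category.{v} D] [Preadditive D] [HasZeroObject D] [HasShift D ℤ]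
  [∀ n : ℤ, (shiftFunctor D n).Additive] [Pretriangulated D] [HasCoproducts.{v} D]

section Compact

lemma isCompactObject_of_retract {K K' : D} (r : Retract K' K) (hK : IsCompactObject K) :
    IsCompactObject K' := by
  rw [Groth.Agent.S0475.isCompactObject_iff]
  intro κ X
  rw [eq_top_iff]
  intro f _
  have h1 : r.r ≫ f ∈ Groth.Agent.S0475.FF K (Sigma.ι X) := by
    rw [(Groth.Agent.S0475.isCompactObject_iff K).1 hK κ X]
    trivial
  have h2 := Groth.Agent.S0475.FF_precomp r.i _ h1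
  rwa [← Category.assoc, r.retract, Category.id_comp] at h2

/-- the object property of compact objects -/
abbrev compactProp : ObjectProperty D := fun K : D => IsCompactObject K

instance : (compactProp (D := D)).IsTriangulated := Groth.Agent.S0475.result

instance : (compactProp (D := D)).IsStableUnderRetracts where
  of_retract r h := isCompactObject_of_retract r h

lemma isCompactObject_of_triangEnvelope {P : ObjectProperty D} (hP : ∀ X, P X → IsCompactObject X)
    {X : D} (hX : P.triangEnvelope X) : IsCompactObject X :=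
  (ObjectProperty.triangEnvelope_le_iff (P := P) (Q := compactProp)).2 hP X hX

lemma isCompactObject_ext₁ (T : Triangle D) (hT : T ∈ distTriang D)
    (h₂ : IsCompactObject T.obj₂) (h₃ : IsCompactObject T.obj₃) : IsCompactObject T.obj₁ :=
  (compactProp (D := D)).ext_of_isTriangulatedClosed₁ T hT h₂ h₃

lemma isCompactObject_ext₃ (T : Triangle D) (hT : T ∈ distTriang D)
    (h₁ : IsCompactObject T.obj₁) (h₂ : IsCompactObject T.obj₂) : IsCompactObject T.obj₃ :=
  (compactProp (D := D)).ext_of_isTriangulatedClosed₃ T hT h₁ h₂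

end Compact

section Env

variable [IsTriangulated D] {ι : Type v} (E : ι → D)

/-- being one of the `E i` with `i ∈ s` -/
def famProp (s : Finset ι) : ObjectProperty D := fun Y : D => ∃ i ∈ s, Y = E i

/-- the triangulated envelope of finitely many members of the family -/
abbrev Env (s : Finset ι) : ObjectProperty D := (famProp E s).triangEnvelope

variable {E}

lemma env_mono {s t : Finset ι} (h : s ⊆ t) : Env E s ≤ Env E t :=
  ObjectProperty.monotone_triangEnvelope (fun _ ⟨i, hi, hY⟩ => ⟨i, h hi, hY⟩)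

lemma env_of_mem {s : Finset ι} {i : ι} (hi : i ∈ s) : Env E s (E i) :=
  ObjectProperty.le_triangEnvelope _ _ ⟨i, hi, rfl⟩

lemma famProp_nonempty {s : Finset ι} (hs : s.Nonempty) : (famProp E s).Nonempty := by
  obtain ⟨i, hi⟩ := hs
  exact ⟨E i, i, hi, rfl⟩

lemma env_isTriangulated {s : Finset ι} (hs : s.Nonempty) : (Env E s).IsTriangulated := by
  have := famProp_nonempty (E := E) hs
  infer_instance

lemma env_zero {s : Finset ι} (hs : s.Nonempty) : Env E s (0 : D) := by
  have := env_isTriangulated (E := E) hs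
  exact ObjectProperty.prop_zero _

lemma env_shift {s : Finset ι} {X : D} (hX : Env E s X) (n : ℤ) :
    Env E s ((shiftFunctor D n).obj X) :=
  (Env E s).le_shift n _ hX

lemma env_of_iso {s : Finset ι} {X Y : D} (e : X ≅ Y) (hX : Env E s X) : Env E s Y :=
  (Env E s).prop_of_iso e hX

lemma env_ext₂ {s : Finset ι} (T : Triangle D) (hT : T ∈ distTriang D)
    (h₁ : Env E s T.obj₁) (h₃ : Env E s T.obj₃) : Env E s T.obj₂ :=
  (Env E s).ext_of_isTriangulatedClosed₂ T hT h₁ h₃

lemma env_ext₃ {s : Finset ι} (hs : s.Nonempty) (T : Triangle D) (hT : T ∈ distTriang D)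
    (h₁ : Env E s T.obj₁) (h₂ : Env E s T.obj₂) : Env E s T.obj₃ := by
  have := env_isTriangulated (E := E) hs
  exact (Env E s).ext_of_isTriangulatedClosed₃ T hT h₁ h₂

lemma env_biprod {s : Finset ι} {X Y : D} (hX : Env E s X) (hY : Env E s Y) :
    Env E s (X ⊞ Y) :=
  env_ext₂ _ (binaryBiproductTriangle_distinguished X Y) hX hY

lemma isCompactObject_of_env (hc : ∀ i, IsCompactObject (E i)) {s : Finset ι} {X : D}
    (hX : Env E s X) : IsCompactObject X :=
  isCompactObject_of_triangEnvelope (P := famProp E s)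
    (fun _ ⟨i, _, hY⟩ => hY ▸ hc i) hX

end Env

section Fac

variable [IsTriangulated D] {ι : Type v} (E : ι → D)

/-- `φ` factors through an object of the envelope of finitely many `E i` -/
def Fac {C Z : D} (φ : C ⟶ Z) : Prop :=
  ∃ (s : Finset ι) (E' : D) (g : C ⟶ E') (h : E' ⟶ Z), Env E s E' ∧ g ≫ h = φ

/-- a twisted version: `x : C ⟶ T Z` factors as `C ⟶ T F ⟶ T Z` -/
def FacT (T : D ⥤ D) {C Z : D} (x : C ⟶ T.obj Z) : Prop :=
  ∃ (s : Finset ι) (F : D) (u : C ⟶ T.obj F) (w : F ⟶ Z),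
    s.Nonempty ∧ Env E s F ∧ u ≫ T.map w = x

open Groth.Agent.S0475 in
lemma facT_sum [Nonempty ι] (T : D ⥤ D) [T.Additive]
    [∀ (κ : Type v), PreservesColimitsOfShape (Discrete κ) T]
    {C : D} (hC : IsCompactObject C) {κ : Type v} (a : κ → ι) (m : κ → ℤ)
    (x : C ⟶ T.obj (∐ fun k => (shiftFunctor D (m k)).obj (E (a k)))) : FacT E T x := by
  classical
  let X : κ → D := fun k => (shiftFunctor D (m k)).obj (E (a k))
  have hc : IsColimit (Cofan.mk (T.obj (∐ X)) (fun k => T.map (Sigma.ι X k)) :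
      Cofan fun k => T.obj (X k)) :=
    isColimitOfHasCoproductOfPreservesColimit T X
  have hx : x ∈ FF C (X := fun k => T.obj (X k)) (fun k => T.map (Sigma.ι X k)) := by
    rw [FF_eq_top_of_isColimit hC _ hc]
    trivial
  induction hx using AddSubgroup.closure_induction with
  | mem x hx =>
    obtain ⟨k, g, rfl⟩ := hx
    exact ⟨{a k}, X k, g, Sigma.ι X k, Finset.singleton_nonempty _,
      env_shift (env_of_mem (Finset.mem_singleton_self _)) _, rfl⟩
  | zero =>
    obtain ⟨i₀⟩ := ‹Nonempty ι›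
    exact ⟨{i₀}, 0, 0, 0, Finset.singleton_nonempty _, env_zero (Finset.singleton_nonempty _),
      by simp⟩
  | add x y _ _ hx hy =>
    obtain ⟨s₁, F₁, u₁, w₁, hs₁, hF₁, rfl⟩ := hx
    obtain ⟨s₂, F₂, u₂, w₂, hs₂, hF₂, rfl⟩ := hy
    refine ⟨s₁ ∪ s₂, F₁ ⊞ F₂, u₁ ≫ T.map biprod.inl + u₂ ≫ T.map biprod.inr, biprod.desc w₁ w₂,
      hs₁.mono Finset.subset_union_left,
      env_biprod (env_mono Finset.subset_union_left _ hF₁)
        (env_mono Finset.subset_union_right _ hF₂), ?_⟩
    rw [Preadditive.add_comp, Category.assoc, Category.assoc, ← T.map_comp, ← T.map_comp,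
      biprod.inl_desc, biprod.inr_desc]
  | neg x _ hx =>
    obtain ⟨s, F, u, w, hs, hF, rfl⟩ := hx
    exact ⟨s, F, -u, w, hs, hF, by rw [Preadditive.neg_comp]⟩

/-- the induction step: factorizations pass to the cone of a map from a sum of shifts of `E i` -/
theorem fac_step [Nonempty ι] (hcE : ∀ i, IsCompactObject (E i)) {A B : D} {κ : Type v}
    (a : κ → ι) (m : κ → ℤ)
    (y : (∐ fun k => (shiftFunctor D (m k)).obj (E (a k))) ⟶ A) (f : A ⟶ B)
    (z : B ⟶ (shiftFunctor D (1 : ℤ)).obj (∐ fun k => (shiftFunctor D (m k)).obj (E (a k))))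
    (hT : Triangle.mk y f z ∈ distTriang D)
    (IH : ∀ (C' : D), IsCompactObject C' → ∀ φ' : C' ⟶ A, Fac E φ')
    {C : D} (hC : IsCompactObject C) (φ : C ⟶ B) : Fac E φ := by
  classical
  obtain ⟨s₀, F, u, w, hs₀, hF, huw⟩ := facT_sum E (shiftFunctor D (1 : ℤ)) hC a m (φ ≫ z)
  obtain ⟨C', α, β, hT'⟩ := distinguished_cocone_triangle₂ u
  have hFc : IsCompactObject F := isCompactObject_of_env hcE hF
  have hC' : IsCompactObject C' := Groth.Agent.S0475.isCompactObject_ext₂ _ hT' hFc hC
  obtain ⟨φ', hφ'₁, hφ'₂⟩ : ∃ φ' : C' ⟶ A, α ≫ φ' = w ≫ y ∧ β ≫ φ = φ' ≫ f :=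
    complete_distinguished_triangle_morphism₂ _ _ hT' hT w φ huw
  obtain ⟨s₁, E'', g', h', hE'', hg'h'⟩ := IH C' hC' φ'
  obtain ⟨E', p, q, hT''⟩ := distinguished_cocone_triangle (α ≫ g')
  have ht : (s₀ ∪ s₁).Nonempty := hs₀.mono Finset.subset_union_left
  have hE' : Env E (s₀ ∪ s₁) E' := env_ext₃ ht _ hT''
    (env_mono Finset.subset_union_left _ hF) (env_mono Finset.subset_union_right _ hE'')
  obtain ⟨g, hg₁, hg₂⟩ : ∃ g : C ⟶ E', β ≫ g = g' ≫ p ∧
      u ≫ (shiftFunctor D (1 : ℤ)).map (𝟙 F) = g ≫ q :=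
    complete_distinguished_triangle_morphism _ _ hT' hT'' (𝟙 F) g'
      (by
        show α ≫ g' = 𝟙 F ≫ α ≫ g'
        rw [Category.id_comp])
  obtain ⟨h, hh₁, -⟩ : ∃ h : E' ⟶ B, p ≫ h = h' ≫ f ∧
      q ≫ (shiftFunctor D (1 : ℤ)).map w = h ≫ z :=
    complete_distinguished_triangle_morphism _ _ hT'' hT w h'
      (by
        show (α ≫ g') ≫ h' = w ≫ y
        rw [Category.assoc, hg'h']
        exact hφ'₁)
  have h0 : β ≫ (φ - g ≫ h) = 0 := by
    rw [Preadditive.comp_sub, ← Category.assoc, hg₁, Category.assoc, hh₁, ← Category.assoc,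
      hg'h', hφ'₂, sub_self]
  obtain ⟨d, hd⟩ : ∃ d : (shiftFunctor D (1 : ℤ)).obj F ⟶ B, φ - g ≫ h = u ≫ d :=
    Triangle.yoneda_exact₃ _ hT' (φ - g ≫ h) h0
  have hu : u = g ≫ q := by
    rw [← hg₂, CategoryTheory.Functor.map_id, Category.comp_id]
  refine ⟨s₀ ∪ s₁, E', g, h + q ≫ d, hE', ?_⟩
  rw [Preadditive.comp_add, ← Category.assoc g q d, ← hu, ← hd]
  abel

/-- maps from compact objects into the stages of a cellular tower factor through the envelope of
finitely many generators -/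
theorem fac_tower [Nonempty ι] (hcE : ∀ i, IsCompactObject (E i))
    (K : ℕ → D) (f : ∀ n, K n ⟶ K (n + 1))
    (h0 : ∃ (κ : Type v) (a : κ → ι) (m : κ → ℤ),
      Nonempty (K 0 ≅ ∐ (fun k => (shiftFunctor D (m k)).obj (E (a k)))))
    (hstep : ∀ n, ∃ (κ : Type v) (a : κ → ι) (m : κ → ℤ)
      (y : (∐ fun k => (shiftFunctor D (m k)).obj (E (a k))) ⟶ K n)
      (z : K (n + 1) ⟶ (shiftFunctor D (1 : ℤ)).obj
        (∐ fun k => (shiftFunctor D (m k)).obj (E (a k)))),
      Triangle.mk y (f n) z ∈ distTriang D)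
    (n : ℕ) : ∀ (C : D), IsCompactObject C → ∀ φ : C ⟶ K n, Fac E φ := by
  induction n with
  | zero =>
    intro C hC φ
    obtain ⟨κ, a, m, ⟨e⟩⟩ := h0
    obtain ⟨s, F, u, w, -, hF, huw⟩ := facT_sum E (𝟭 D) hC a m (φ ≫ e.hom)
    refine ⟨s, F, u, w ≫ e.inv, hF, ?_⟩
    dsimp at u huw
    rw [← Category.assoc, huw, Category.assoc, e.hom_inv_id, Category.comp_id]
  | succ n ih =>
    intro C hC φ
    obtain ⟨κ, a, m, y, z, hT⟩ := hstep n
    exact fac_step E hcE a m y (f n) z hT ih hC φ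

end Fac

section Orth

/-- objects with only zero maps to all shifts of `K` -/
def leftOrth (K : D) : ObjectProperty D :=
  fun Y : D => ∀ (n : ℤ) (f : Y ⟶ (shiftFunctor D n).obj K), f = 0

lemma leftOrth_shift {K Y : D} (hY : leftOrth K Y) (a : ℤ) :
    leftOrth K ((shiftFunctor D a).obj Y) := by
  intro n f
  have adj : shiftFunctor D a ⊣ shiftFunctor D (-a) := (shiftEquiv D a).toAdjunction
  let e : (shiftFunctor D (-a)).obj ((shiftFunctor D n).obj K) ≅
      (shiftFunctor D (n + -a)).obj K := ((shiftFunctorAdd' D n (-a) (n + -a) rfl).app K).symm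
  have h := hY (n + -a) (adj.homEquiv _ _ f ≫ e.hom)
  have h' : adj.homEquiv _ _ f = 0 := by
    have := congrArg (fun x => x ≫ e.inv) h
    simpa using this
  apply (adj.homEquiv _ _).injective
  rw [h', Adjunction.homEquiv_unit, Functor.map_zero, comp_zero]

instance (K : D) : (leftOrth K).IsStableUnderRetracts where
  of_retract {Y Y'} r hY' n f := by
    have h := hY' n (r.r ≫ f)
    have : f = r.i ≫ r.r ≫ f := by rw [← Category.assoc, r.retract, Category.id_comp]
    rw [this, h, comp_zero]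

instance (K : D) : (leftOrth K).IsTriangulated where
  exists_zero := ⟨0, isZero_zero D, fun _ _ => (isZero_zero D).eq_of_src _ _⟩
  isStableUnderShiftBy a := ⟨fun _ hY => leftOrth_shift hY a⟩
  ext₂' T hT h₁ h₃ := by
    refine ⟨T.obj₂, fun n f => ?_, ⟨Iso.refl _⟩⟩
    obtain ⟨g, hg⟩ := Triangle.yoneda_exact₂ T hT f (h₁ n _)
    rw [hg, h₃ n g, comp_zero]

end Orth

end Groth.Agent.Lib.CompactEnv31
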