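import Mathlib.Topology.Algebra.Group.OpenMapping
import Mathlib.Topology.Algebra.Group.Pointwise
import Mathlib.Topology.Algebra.Group.Compact
import Mathlib.Topology.Baire.LocallyCompactRegular
import Mathlib.Topology.Compactness.SigmaCompact

/-!
An extension of a compact group by a compact group is compact (for locally compact second
countable Hausdorff abelian groups), via the open mapping theorem.
-/

set_option autoImplicit false
universe u
open scoped Pointwise

namespace Groth.Agent.Lib.CompactExtension

theorem compactSpace_of_exact (A' A A'' : Type u)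
    [AddCommGroup A'] [TopologicalSpace A'] [CompactSpace A']
    [AddCommGroup A] [TopologicalSpace A] [IsTopologicalAddGroup A] [LocallyCompactSpace A]
    [SecondCountableTopology A]
    [AddCommGroup A''] [TopologicalSpace A''] [IsTopologicalAddGroup A''] [T2Space A'']
    [CompactSpace A'']
    (f : A' →+ A) (g : A →+ A'') (hf : Continuous f) (hg : Continuous g)
    (hsurj : Function.Surjective g) (hex : g.ker = f.range) :
    CompactSpace A := by
  classical
  have hopen : IsOpenMap g := AddMonoidHom.isOpenMap_of_sigmaCompact g hsurj hg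
  have hK : ∀ a : A, ∃ K : Set A, IsCompact K ∧ K ∈ nhds a := fun a => exists_compact_mem_nhds a
  choose K hKc hKn using hK
  have hcover : (Set.univ : Set A'') ⊆ ⋃ a : A, g '' interior (K a) := by
    intro y _
    obtain ⟨a, rfl⟩ := hsurj y
    exact Set.mem_iUnion.mpr ⟨a, a, mem_interior_iff_mem_nhds.mpr (hKn a), rfl⟩
  obtain ⟨t, ht⟩ := isCompact_univ.elim_finite_subcover (fun a : A => g '' interior (K a))
    (fun a => hopen _ isOpen_interior) hcover
  have hrange : IsCompact (Set.range f) := isCompact_range hf
  have hunion : IsCompact (⋃ a ∈ t, (K a + Set.range f)) :=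
    t.isCompact_biUnion (fun a _ => (hKc a).add hrange)
  have huniv : (⋃ a ∈ t, (K a + Set.range f)) = (Set.univ : Set A) := by
    rw [Set.eq_univ_iff_forall]
    intro x
    have hx := ht (Set.mem_univ (g x))
    simp only [Set.mem_iUnion] at hx
    obtain ⟨a, hat, y, hy, hyx⟩ := hx
    have hker : x - y ∈ g.ker := by
      rw [AddMonoidHom.mem_ker, map_sub, hyx, sub_self]
    rw [hex] at hker
    obtain ⟨z, hz⟩ := hker
    simp only [Set.mem_iUnion]
    refine ⟨a, hat, Set.mem_add.mpr ⟨y, interior_subset hy, x - y, ⟨z, hz⟩, by abel⟩⟩
  exact isCompact_univ_iff.mp (huniv ▸ hunion)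

end Groth.Agent.Lib.CompactExtension
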