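import Groth.Agent.Lib.ExtSigma31
import Groth.Agent.Lib.LocGenRlim31
import Groth.Agent.Lib.CompactFree31

/-!
# Compactness on `D⁺` of local generators (helper31)

Setting of `LocGen31`: an abelian category `𝒜` with an exact functor `Γ : 𝒜 ⥤ Sheaf J Ab`
preserving `ι`-indexed coproducts, local generators `𝒢 : Gen Γ` and `Γ(injective)` acyclic.  If
`U` is an object of the site such that all `H^p(U, -)` (on abelian sheaves) commute with
`ι`-indexed coproducts, then all `Ext^k(Z U, ∐ F)` are finitely supported (`fin_eq_top`) and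
`Z U[0]` satisfies the base case of the dévissage (`base_ZD`): maps from `Z U[0]` into
`ι`-indexed coproducts of uniformly bounded below families in `D(𝒜)` are finitely supported
(`finSupp_of_isGE`).
-/

set_option autoImplicit false
set_option linter.unusedSectionVars false

open CategoryTheory CategoryTheory.Limits Opposite DerivedCategory Abelian

universe w u

namespace Groth.Agent.LocGen31

open Groth.Agent.ExtSigma31 Groth.Agent.FinSupp31 Groth.Agent.CompactBdd31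

variable {C : Type u} [SmallCategory C] {J : GrothendieckTopology C}
  {𝒜 : Type (u + 1)} [Category.{u} 𝒜] [Abelian 𝒜]
  {Γ : 𝒜 ⥤ Sheaf J AddCommGrpCat.{u}} [Γ.Additive] [PreservesFiniteLimits Γ]
  [PreservesFiniteColimits Γ] (𝒢 : Gen Γ)
  {ι : Type u} [HasColimitsOfShape (Discrete ι) 𝒜] [PreservesColimitsOfShape (Discrete ι) Γ]

namespace Gen

/-- the cohomology functor `H^p(U, -)` on abelian sheaves -/
noncomputable abbrev Hp (p : ℕ) (U : C) : Sheaf J AddCommGrpCat.{u} ⥤ AddCommGrpCat.{u} :=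
  (Sheaf.cohomologyPresheafFunctor J p).flip.obj (op U)

section Van

variable [EnoughInjectives 𝒜] [HasExt.{w} 𝒜]

/-- `Ext^{k+1}(Z U, ∐ I) = 0` for a family of injectives -/
lemma subsingleton_ext_sigma
    (hacyc : ∀ (I : 𝒜), Injective I → ∀ (U : C) (p : ℕ),
      Subsingleton (CohSite.HU (Γ.obj I) (p + 1) U))
    (U : C) (k : ℕ) (hU : PreservesColimitsOfShape (Discrete ι) (Hp (J := J) (k + 1) U))
    (I : ι → 𝒜) (hI : ∀ i, Injective (I i)) :
    Subsingleton (Ext.{w} (𝒢.Z U) (∐ I) (k + 1)) := by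
  apply 𝒢.subsingleton_ext.{w} hacyc U (∐ I) (k + 1)
  let H : 𝒜 ⥤ AddCommGrpCat.{u} := Γ ⋙ Hp (J := J) (k + 1) U
  have hH : PreservesColimitsOfShape (Discrete ι) H := inferInstance
  have hz : IsZero (H.obj (∐ I)) := by
    refine IsZero.of_iso (isZero_sigma (fun i => H.obj (I i)) (fun i => ?_))
      (PreservesCoproduct.iso H I)
    have : Subsingleton (H.obj (I i)) := hacyc (I i) (hI i) U k
    exact AddCommGrpCat.isZero_of_subsingleton _
  exact AddCommGrpCat.subsingleton_of_isZero hz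

end Van

section Zero

/-- the additive map `(Z U ⟶ M) → H⁰(U, Γ M)` -/
noncomputable def β (U : C) (M : 𝒜) : (𝒢.Z U ⟶ M) →+ ((Hp (J := J) 0 U).obj (Γ.obj M)) :=
  AddMonoidHom.mk' (fun φ => (Ext.mk₀ (𝒢.ι U ≫ Γ.map φ) :
    Ext (CohCx.freeSheaf J U) (Γ.obj M) 0)) (by
      intro φ ψ
      rw [Functor.map_add, Preadditive.comp_add, Ext.mk₀_add]
      rfl)

lemma β_bijective (U : C) (M : 𝒜) : Function.Bijective (𝒢.β U M) :=
  (Ext.mk₀_bijective (CohCx.freeSheaf J U) (Γ.obj M)).comp (𝒢.bijective_ι U M)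

lemma β_comp (U : C) {M N : 𝒜} (φ : 𝒢.Z U ⟶ M) (ψ : M ⟶ N) :
    𝒢.β U N (φ ≫ ψ) = ((Hp (J := J) 0 U).map (Γ.map ψ)).hom (𝒢.β U M φ) := by
  change (Ext.mk₀ (𝒢.ι U ≫ Γ.map (φ ≫ ψ)) : Ext (CohCx.freeSheaf J U) (Γ.obj N) 0) =
    (Ext.mk₀ (𝒢.ι U ≫ Γ.map φ) : Ext (CohCx.freeSheaf J U) (Γ.obj M) 0).comp
      (Ext.mk₀ (Γ.map ψ)) (add_zero 0)
  rw [Ext.mk₀_comp_mk₀, Functor.map_comp, Category.assoc]

/-- morphisms `Z U ⟶ ∐ F` are finitely supported when `H⁰(U, -)` commutes with coproducts -/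
lemma closure_hom_eq_top (U : C) (hU : PreservesColimitsOfShape (Discrete ι) (Hp (J := J) 0 U))
    (F : ι → 𝒜) :
    AddSubgroup.closure
      {f : 𝒢.Z U ⟶ ∐ F | ∃ (i : ι) (g : 𝒢.Z U ⟶ F i), f = g ≫ Sigma.ι F i} = ⊤ := by
  let H : 𝒜 ⥤ AddCommGrpCat.{u} := Γ ⋙ Hp (J := J) 0 U
  have hH : PreservesColimitsOfShape (Discrete ι) H := inferInstance
  have hc : IsColimit (H.mapCocone (colimit.cocone (Discrete.functor F))) :=
    isColimitOfPreserves H (colimit.isColimit _)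
  have hgen := Groth.Agent.CompactFree31.closure_range_eq_top _ hc
  set S := AddSubgroup.closure
      {f : 𝒢.Z U ⟶ ∐ F | ∃ (i : ι) (g : 𝒢.Z U ⟶ F i), f = g ≫ Sigma.ι F i} with hS
  have key : ∀ y : (H.mapCocone (colimit.cocone (Discrete.functor F))).pt,
      y ∈ AddSubgroup.closure
        (⋃ j, Set.range fun x => (((H.mapCocone (colimit.cocone (Discrete.functor F))).ι.app j).hom x :
          (H.mapCocone (colimit.cocone (Discrete.functor F))).pt) :
          Set (H.mapCocone (colimit.cocone (Discrete.functor F))).pt) →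
      ∃ f' ∈ S, 𝒢.β U (∐ F) f' = y := by
    intro y hy
    induction hy using AddSubgroup.closure_induction with
    | mem y hy =>
      obtain ⟨⟨i⟩, z, rfl⟩ := Set.mem_iUnion.1 hy
      obtain ⟨g, rfl⟩ := (𝒢.β_bijective U (F i)).2 z
      exact ⟨g ≫ Sigma.ι F i, AddSubgroup.subset_closure ⟨i, g, rfl⟩, 𝒢.β_comp U g (Sigma.ι F i)⟩
    | zero => exact ⟨0, zero_mem _, map_zero _⟩
    | add y z _ _ hy hz =>
      obtain ⟨a, ha, rfl⟩ := hy
      obtain ⟨b, hb, rfl⟩ := hz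
      exact ⟨a + b, add_mem ha hb, map_add _ _ _⟩
    | neg y _ hy =>
      obtain ⟨a, ha, rfl⟩ := hy
      exact ⟨-a, neg_mem ha, map_neg _ _⟩
  rw [eq_top_iff]
  intro f _
  obtain ⟨f', hf', hff'⟩ := key (𝒢.β U (∐ F) f) (by rw [hgen]; trivial)
  rw [← (𝒢.β_bijective U (∐ F)).1 hff']
  exact hf'

end Zero

section Main

variable [EnoughInjectives 𝒜] [HasExactColimitsOfShape (Discrete ι) 𝒜]

/-- all `Ext^k(Z U, ∐ F)` are finitely supported -/
theorem fin_eq_top [HasExt.{w} 𝒜]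
    (hacyc : ∀ (I : 𝒜), Injective I → ∀ (U : C) (p : ℕ),
      Subsingleton (CohSite.HU (Γ.obj I) (p + 1) U))
    (U : C) (hU : ∀ p : ℕ, PreservesColimitsOfShape (Discrete ι) (Hp (J := J) p U))
    (k : ℕ) (F : ι → 𝒜) : fin.{u, w} (𝒢.Z U) F k = ⊤ :=
  ExtSigma31.fin_eq_top (𝒢.Z U)
    (fun F => fin_zero_eq_top (𝒢.Z U) (fun F => 𝒢.closure_hom_eq_top U (hU 0) F) F)
    (fun I hI k => 𝒢.subsingleton_ext_sigma.{w} hacyc U k (hU (k + 1)) I hI) k F

variable [HasDerivedCategory.{w} 𝒜] [HasCoproductsOfShape ι (DerivedCategory 𝒜)]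
  [PreservesColimitsOfShape (Discrete ι) (singleFunctor 𝒜 0)]
  [∀ n : ℤ, PreservesColimitsOfShape (Discrete ι) (homologyFunctor 𝒜 n)]

/-- the base case of the dévissage for `Z U[0]` -/
theorem base_ZD
    (hacyc : ∀ (I : 𝒜), Injective I → ∀ (U : C) (p : ℕ),
      Subsingleton (CohSite.HU (Γ.obj I) (p + 1) U))
    (U : C) (hU : ∀ p : ℕ, PreservesColimitsOfShape (Discrete ι) (Hp (J := J) p U)) :
    Base ι (𝒢.ZD U) := by
  have := hasExt_of_hasDerivedCategory.{w} 𝒜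
  exact ExtSigma31.base (𝒢.Z U) (fun k F => 𝒢.fin_eq_top.{w} hacyc U hU k F)

/-- **maps from `Z U[0]` into coproducts of uniformly bounded below families are finitely
supported** -/
theorem finSupp_of_isGE
    (hacyc : ∀ (I : 𝒜), Injective I → ∀ (U : C) (p : ℕ),
      Subsingleton (CohSite.HU (Γ.obj I) (p + 1) U))
    (U : C) (hU : ∀ p : ℕ, PreservesColimitsOfShape (Discrete ι) (Hp (J := J) p U))
    (a : ℤ) (Y : ι → DerivedCategory 𝒜) (hY : ∀ i, (Y i).IsGE a) : FinSupp Y (𝒢.ZD U) :=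
  CompactBdd31.finSupp_of_isGE (𝒢.base_ZD hacyc U hU) inferInstance a Y hY

end Main

end Gen

end Groth.Agent.LocGen31
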