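import Groth.Prelude.Def_DerLim
import Groth.Prelude.Def_CohDer
import Mathlib.CategoryTheory.Triangulated.Pretriangulated
import Mathlib.CategoryTheory.Limits.Shapes.Products
import Mathlib.CategoryTheory.Limits.Preserves.Shapes.Products
import Mathlib.CategoryTheory.Adjunction.Limits

/-!
# Maps from a compact object to a homotopy colimit (helper21)

For a sequence `F : ℕ ⥤ D` in a pretriangulated category with homotopy colimit `L`, and an object
`K` such that every map from `K` to `∐ F` and to `(∐ F)⟦1⟧` is supported on finitely many summands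
(`z ≫ e N = z` for the truncation idempotent `e N`), every map `K ⟶ L` factors through some stage
and a map `K ⟶ F n` killed by `F n ⟶ L` is killed by some transition map.
-/

set_option autoImplicit false
set_option backward.isDefEq.respectTransparency false
universe v u

open CategoryTheory CategoryTheory.Limits CategoryTheory.Pretriangulated

namespace Groth.Agent.Lib.CompactHocolim

section Preadditive

variable {D : Type u} [Category.{v} D] [Preadditive D] (F : ℕ ⥤ D) [HasCoproduct F.obj]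

/-- The transition maps. -/
abbrev tr (n : ℕ) : F.obj n ⟶ F.obj (n + 1) := F.map (homOfLE (Nat.le_succ n))

/-- The map `𝟙 - shift`. -/
noncomputable abbrev τ : (∐ F.obj) ⟶ ∐ F.obj := 𝟙 _ - DerLim.shiftMap F.obj (tr F)

@[reassoc]
lemma ι_τ (n : ℕ) : Sigma.ι F.obj n ≫ τ F = Sigma.ι F.obj n - tr F n ≫ Sigma.ι F.obj (n + 1) := by
  rw [τ, Preadditive.comp_sub, Category.comp_id, DerLim.shiftMap, Sigma.ι_desc]

/-- The sum of the transition maps into `F k` from the summands of index `≤ k`. -/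
noncomputable def Q (k : ℕ) : (∐ F.obj) ⟶ F.obj k :=
  Sigma.desc (fun j => if h : j ≤ k then F.map (homOfLE h) else 0)

@[reassoc]
lemma ι_Q_of_le {j k : ℕ} (h : j ≤ k) : Sigma.ι F.obj j ≫ Q F k = F.map (homOfLE h) := by
  simp [Q, h]

@[reassoc]
lemma ι_Q_of_lt {j k : ℕ} (h : k < j) : Sigma.ι F.obj j ≫ Q F k = 0 := by
  simp [Q, not_le.mpr h]

lemma τ_Q (k : ℕ) : τ F ≫ Q F k = Sigma.π F.obj k := by
  apply Sigma.hom_ext
  intro j
  rw [ι_τ_assoc, Preadditive.sub_comp, Category.assoc]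
  rcases lt_trichotomy j k with h | h | h
  · rw [ι_Q_of_le F h.le, ι_Q_of_le F (Nat.succ_le_of_lt h), Sigma.ι_π_of_ne _ h.ne,
      ← F.map_comp, sub_eq_zero]
    rfl
  · subst h
    rw [ι_Q_of_le F le_rfl, ι_Q_of_lt F (Nat.lt_succ_self j), comp_zero, sub_zero,
      Sigma.ι_π_eq_id]
    exact F.map_id _
  · rw [ι_Q_of_lt F h, ι_Q_of_lt F (h.trans (Nat.lt_succ_self j)), comp_zero, sub_zero,
      Sigma.ι_π_of_ne _ h.ne']

/-- The idempotent of `∐ F` which keeps the summands of index `< N`. -/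
noncomputable def e (N : ℕ) : (∐ F.obj) ⟶ ∐ F.obj :=
  Sigma.desc (fun j => if j < N then Sigma.ι F.obj j else 0)

@[reassoc]
lemma ι_e_of_lt {j N : ℕ} (h : j < N) : Sigma.ι F.obj j ≫ e F N = Sigma.ι F.obj j := by
  simp [e, h]

@[reassoc]
lemma ι_e_of_le {j N : ℕ} (h : N ≤ j) : Sigma.ι F.obj j ≫ e F N = 0 := by
  simp [e, not_lt.mpr h]

@[reassoc]
lemma e_e {N M : ℕ} (h : N ≤ M) : e F N ≫ e F M = e F N := by
  apply Sigma.hom_ext
  intro j
  by_cases hj : j < N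
  · rw [ι_e_of_lt_assoc F hj, ι_e_of_lt F (hj.trans_le h), ι_e_of_lt F hj]
  · rw [ι_e_of_le_assoc F (not_lt.mp hj), zero_comp, ι_e_of_le F (not_lt.mp hj)]

lemma e_zero : e F 0 = 0 := by
  apply Sigma.hom_ext
  intro j
  rw [ι_e_of_le F (Nat.zero_le j), comp_zero]

lemma e_succ (N : ℕ) : e F (N + 1) = e F N + Sigma.π F.obj N ≫ Sigma.ι F.obj N := by
  apply Sigma.hom_ext
  intro j
  rw [Preadditive.comp_add]
  rcases lt_trichotomy j N with h | h | h
  · rw [ι_e_of_lt F (h.trans (Nat.lt_succ_self N)), ι_e_of_lt F h, Sigma.ι_π_of_ne_assoc _ h.ne,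
      zero_comp, add_zero]
  · subst h
    rw [ι_e_of_lt F (Nat.lt_succ_self j), ι_e_of_le F le_rfl, Sigma.ι_π_eq_id_assoc, zero_add]
  · rw [ι_e_of_le F (Nat.succ_le_of_lt h), ι_e_of_le F h.le, Sigma.ι_π_of_ne_assoc _ h.ne',
      zero_comp, add_zero]

lemma e_π {N k : ℕ} (h : N ≤ k) : e F N ≫ Sigma.π F.obj k = 0 := by
  apply Sigma.hom_ext
  intro j
  by_cases hj : j < N
  · rw [ι_e_of_lt_assoc F hj, Sigma.ι_π_of_ne _ (hj.trans_le h).ne, comp_zero]
  · rw [ι_e_of_le_assoc F (not_lt.mp hj), zero_comp, comp_zero]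

/-- On the summands of index `< N`, a compatible family of maps factors through `Q N`. -/
lemma e_desc {L : D} (i : ∀ n, F.obj n ⟶ L) (hi : ∀ n, tr F n ≫ i (n + 1) = i n) (N : ℕ) :
    e F N ≫ Sigma.desc i = e F N ≫ Q F N ≫ i N := by
  have key : ∀ (d j : ℕ) (h : j ≤ j + d), F.map (homOfLE h) ≫ i (j + d) = i j := by
    intro d
    induction d with
    | zero =>
      intro j h
      have : F.map (homOfLE h) = 𝟙 _ := F.map_id _
      rw [this, Category.id_comp]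
      rfl
    | succ d ih =>
      intro j h
      have e1 : F.map (homOfLE h) = F.map (homOfLE (Nat.le_add_right j d)) ≫ tr F (j + d) := by
        rw [← F.map_comp]
        rfl
      rw [e1, Category.assoc]
      change _ ≫ tr F (j + d) ≫ i (j + d + 1) = _
      rw [hi, ih]
  apply Sigma.hom_ext
  intro j
  by_cases hj : j < N
  · rw [ι_e_of_lt_assoc F hj, ι_e_of_lt_assoc F hj, Sigma.ι_desc, ι_Q_of_le_assoc F hj.le]
    obtain ⟨d, rfl⟩ := Nat.exists_eq_add_of_le hj.le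
    rw [key d j]
  · rw [ι_e_of_le_assoc F (not_lt.mp hj), ι_e_of_le_assoc F (not_lt.mp hj), zero_comp, zero_comp]

end Preadditive

section Compact

variable {D : Type u} [Category.{v} D] [Preadditive D]

/-- Induction principle for the image of `CohDer.homSumToHomCoprod`. -/
lemma homSumToHomCoprod_induction {ι : Type v} (X : ι → D) [HasCoproduct X] (K : D)
    (P : (K ⟶ ∐ X) → Prop) (h0 : P 0) (h1 : ∀ (i : ι) (x : K ⟶ X i), P (x ≫ Sigma.ι X i))
    (hadd : ∀ a b, P a → P b → P (a + b)) (ξ : DirectSum ι (fun i => K ⟶ X i)) :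
    P (CohDer.homSumToHomCoprod K X ξ) := by
  classical
  induction ξ using DirectSum.induction_on with
  | zero => rw [map_zero]; exact h0
  | of i x =>
    have : CohDer.homSumToHomCoprod K X (DirectSum.of (fun i => K ⟶ X i) i x) =
        x ≫ Sigma.ι X i := by
      rw [CohDer.homSumToHomCoprod]
      exact DirectSum.toAddMonoid_of (fun i => Preadditive.rightComp K (Sigma.ι X i)) i x
    rw [this]
    exact h1 i x
  | add a b ha hb => rw [map_add]; exact hadd _ _ ha hb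

variable (F : ℕ ⥤ D) [HasCoproduct F.obj] (K : D)

/-- If every map from `K` to the (`ULift`-indexed) coproduct is a finite sum of maps to the
summands, then every map from `K` to `∐ F` is fixed by some truncation idempotent. -/
lemma exists_e_of_surjective [HasCoproduct (fun i : ULift.{v} ℕ => F.obj i.down)]
    (hsurj : Function.Surjective
      (CohDer.homSumToHomCoprod K (fun i : ULift.{v} ℕ => F.obj i.down)))
    (z : K ⟶ ∐ F.obj) : ∃ N, z ≫ e F N = z := by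
  let X : ULift.{v} ℕ → D := fun i => F.obj i.down
  let φ : (∐ X) ⟶ ∐ F.obj := Sigma.desc (fun i => Sigma.ι F.obj i.down)
  let ψ : (∐ F.obj) ⟶ ∐ X := Sigma.desc (fun n => Sigma.ι X ⟨n⟩)
  have hφ : ∀ i, Sigma.ι X i ≫ φ = Sigma.ι F.obj i.down := fun i => Sigma.ι_desc _ _
  have hψφ : ψ ≫ φ = 𝟙 _ := by
    apply Sigma.hom_ext
    intro n
    rw [Sigma.ι_desc_assoc, hφ, Category.comp_id]
  obtain ⟨ξ, hξ⟩ := hsurj (z ≫ ψ)
  have hz : z = CohDer.homSumToHomCoprod K X ξ ≫ φ := by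
    rw [hξ, Category.assoc, hψφ, Category.comp_id]
  rw [hz]
  refine homSumToHomCoprod_induction X K (fun a => ∃ N, (a ≫ φ) ≫ e F N = a ≫ φ) ?_ ?_ ?_ ξ
  · exact ⟨0, by rw [zero_comp, zero_comp]⟩
  · intro i x
    refine ⟨i.down + 1, ?_⟩
    simp only [Category.assoc]
    rw [reassoc_of% hφ, hφ, ι_e_of_lt F (Nat.lt_succ_self _)]
  · rintro a b ⟨N, hN⟩ ⟨M, hM⟩
    refine ⟨max N M, ?_⟩
    rw [Preadditive.add_comp, Preadditive.add_comp]
    congr 1
    · rw [← hN, Category.assoc, e_e F (le_max_left N M)]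
    · rw [← hM, Category.assoc, e_e F (le_max_right N M)]

end Compact

section ShiftCompact

variable {D : Type u} [Category.{v} D] [Preadditive D] [HasShift D ℤ]
  [∀ n : ℤ, (shiftFunctor D n).Additive]
  (F : ℕ ⥤ D) [HasCoproduct F.obj] [HasCoproduct (F ⋙ shiftFunctor D (1 : ℤ)).obj] (K : D)

/-- Transfer of the finiteness property from `∐ (F⟦1⟧)` to `(∐ F)⟦1⟧`. -/
lemma exists_shift_e
    (h : ∀ z : K ⟶ ∐ (F ⋙ shiftFunctor D (1 : ℤ)).obj,
      ∃ N, z ≫ e (F ⋙ shiftFunctor D (1 : ℤ)) N = z)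
    (w : K ⟶ (∐ F.obj)⟦(1 : ℤ)⟧) : ∃ N, w ≫ (e F N)⟦(1 : ℤ)⟧' = w := by
  let F' := F ⋙ shiftFunctor D (1 : ℤ)
  have : HasCoproduct (fun j => (shiftFunctor D (1 : ℤ)).obj (F.obj j)) :=
    ‹HasCoproduct (F ⋙ shiftFunctor D (1 : ℤ)).obj›
  let ψ : (∐ F'.obj) ≅ (∐ F.obj)⟦(1 : ℤ)⟧ :=
    (PreservesCoproduct.iso (shiftFunctor D (1 : ℤ)) F.obj).symm
  have hψ : ∀ n, Sigma.ι F'.obj n ≫ ψ.hom = (Sigma.ι F.obj n)⟦(1 : ℤ)⟧' := fun n =>
    ι_comp_sigmaComparison (shiftFunctor D (1 : ℤ)) F.obj n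
  have hcomm : ∀ N, ψ.hom ≫ (e F N)⟦(1 : ℤ)⟧' = e F' N ≫ ψ.hom := by
    intro N
    apply Sigma.hom_ext
    intro n
    rw [reassoc_of% hψ, ← Functor.map_comp]
    by_cases hn : n < N
    · rw [ι_e_of_lt F hn, ι_e_of_lt_assoc F' hn, hψ]
    · rw [ι_e_of_le F (not_lt.mp hn), ι_e_of_le_assoc F' (not_lt.mp hn), Functor.map_zero,
        zero_comp]
  obtain ⟨N, hN⟩ := h (w ≫ ψ.inv)
  refine ⟨N, ?_⟩
  have : w = (w ≫ ψ.inv) ≫ ψ.hom := by rw [Category.assoc, Iso.inv_hom_id, Category.comp_id]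
  rw [this, Category.assoc, hcomm, ← Category.assoc, hN]

end ShiftCompact

section Pretriangulated

variable {D : Type u} [Category.{v} D] [Preadditive D] [HasZeroObject D] [HasShift D ℤ]
  [∀ n : ℤ, (shiftFunctor D n).Additive] [Pretriangulated D]
  (F : ℕ ⥤ D) [HasCoproduct F.obj] {L : D} (i : ∀ n, F.obj n ⟶ L)
  (hL : DerLim.IsHocolim F.obj (tr F) L i) (K : D)

include hL in
lemma tr_comp (n : ℕ) : tr F n ≫ i (n + 1) = i n := by
  obtain ⟨δ, hδ⟩ := hL
  have h1 : τ F ≫ Sigma.desc i = 0 := comp_distTriang_mor_zero₁₂ _ hδ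
  have h2 : Sigma.ι F.obj n ≫ τ F ≫ Sigma.desc i = 0 := by rw [h1, comp_zero]
  rw [ι_τ_assoc, Preadditive.sub_comp, Sigma.ι_desc, Category.assoc, Sigma.ι_desc,
    sub_eq_zero] at h2
  exact h2.symm

include hL in
/-- Every map from a compact object to the homotopy colimit factors through some stage. -/
theorem exists_factor
    (hK1 : ∀ w : K ⟶ (∐ F.obj)⟦(1 : ℤ)⟧, ∃ N, w ≫ (e F N)⟦(1 : ℤ)⟧' = w)
    (hK0 : ∀ z : K ⟶ ∐ F.obj, ∃ N, z ≫ e F N = z) (x : K ⟶ L) :
    ∃ (n : ℕ) (y : K ⟶ F.obj n), y ≫ i n = x := by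
  have hi := tr_comp F i hL
  obtain ⟨δ, hδ⟩ := hL
  have hwτ : (x ≫ δ) ≫ (τ F)⟦(1 : ℤ)⟧' = 0 := by
    have : δ ≫ (τ F)⟦(1 : ℤ)⟧' = 0 := comp_distTriang_mor_zero₃₁ _ hδ
    rw [Category.assoc, this, comp_zero]
  have hπ : ∀ k, (x ≫ δ) ≫ (Sigma.π F.obj k)⟦(1 : ℤ)⟧' = 0 := by
    intro k
    rw [← τ_Q, Functor.map_comp, ← Category.assoc, hwτ, zero_comp]
  have he : ∀ N, (x ≫ δ) ≫ (e F N)⟦(1 : ℤ)⟧' = 0 := by
    intro N
    induction N with
    | zero => rw [e_zero, Functor.map_zero, comp_zero]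
    | succ N ih =>
      rw [e_succ, Functor.map_add, Preadditive.comp_add, ih, Functor.map_comp,
        ← Category.assoc, hπ, zero_comp, add_zero]
  have hw : x ≫ δ = 0 := by
    obtain ⟨N, hN⟩ := hK1 (x ≫ δ)
    rw [← hN, he]
  obtain ⟨x', hx'⟩ : ∃ x' : K ⟶ ∐ F.obj, x = x' ≫ Sigma.desc i :=
    Triangle.coyoneda_exact₃ _ hδ x hw
  obtain ⟨N, hN⟩ := hK0 x'
  refine ⟨N, x' ≫ e F N ≫ Q F N, ?_⟩
  rw [hx', Category.assoc, Category.assoc, ← e_desc F i hi N, reassoc_of% hN]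

include hL in
/-- A map from a compact object to a stage which is killed in the homotopy colimit is killed by a
transition map. -/
theorem exists_comp_eq_zero (hK0 : ∀ z : K ⟶ ∐ F.obj, ∃ N, z ≫ e F N = z) (n : ℕ)
    (y : K ⟶ F.obj n) (hy : y ≫ i n = 0) :
    ∃ (m : ℕ) (h : n ≤ m), y ≫ F.map (homOfLE h) = 0 := by
  obtain ⟨δ, hδ⟩ := hL
  have h0 : (y ≫ Sigma.ι F.obj n) ≫ Sigma.desc i = 0 := by
    rw [Category.assoc, Sigma.ι_desc, hy]
  obtain ⟨z, hz⟩ : ∃ z : K ⟶ ∐ F.obj, y ≫ Sigma.ι F.obj n = z ≫ τ F :=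
    Triangle.coyoneda_exact₂ _ hδ _ h0
  obtain ⟨N, hN⟩ := hK0 z
  refine ⟨max N n, le_max_right N n, ?_⟩
  have h1 : (y ≫ Sigma.ι F.obj n) ≫ Q F (max N n) = y ≫ F.map (homOfLE (le_max_right N n)) := by
    rw [Category.assoc, ι_Q_of_le F (le_max_right N n)]
  rw [← h1, hz, Category.assoc, τ_Q, ← hN, Category.assoc, e_π F (le_max_left N n), comp_zero]

end Pretriangulated

end Groth.Agent.Lib.CompactHocolim
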