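import Mathlib.Algebra.Homology.DerivedCategory.KProjective
import Mathlib.Algebra.Category.ModuleCat.Abelian
import Mathlib.LinearAlgebra.Finsupp.LSum

/-!
# Copowers of K-projective complexes in the derived category of modules

For a ring `B`, a K-projective complex `T` of `B`-modules and a set `S : Type u`, the explicit complex
`copCx S T` (termwise `S →₀ T.X i`) is K-projective and `Q.obj (copCx S T)` is the `S`-fold copower of
`Q.obj T` in `DerivedCategory (ModuleCat B)`.
-/

namespace Groth.Agent.Lib.DCopower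

open CategoryTheory Limits

universe u

variable {B : Type u} [Ring B]

section Terms

variable (S : Type u) (M : ModuleCat.{u} B)

/-- inclusion of the `s`-th summand -/
noncomputable def ιX (s : S) : M ⟶ ModuleCat.of B (S →₀ M) :=
  ModuleCat.ofHom (Finsupp.lsingle s)

variable {S M}

/-- maps out of the direct sum -/
noncomputable def descX {N : ModuleCat.{u} B} (g : S → (M ⟶ N)) : ModuleCat.of B (S →₀ M) ⟶ N :=
  ModuleCat.ofHom (Finsupp.lsum ℕ (fun s => (g s).hom))

@[reassoc (attr := simp)]
lemma ιX_descX {N : ModuleCat.{u} B} (g : S → (M ⟶ N)) (s : S) :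
    ιX S M s ≫ descX g = g s := by
  ext x
  simp [ιX, descX]

lemma X_hom_ext {N : ModuleCat.{u} B} (a b : ModuleCat.of B (S →₀ M) ⟶ N)
    (h : ∀ s, ιX S M s ≫ a = ιX S M s ≫ b) : a = b := by
  ext : 1
  apply Finsupp.lhom_ext'
  intro s
  have := congrArg ModuleCat.Hom.hom (h s)
  simpa [ιX] using this

/-- functoriality of the direct sum -/
noncomputable def mapX {M' : ModuleCat.{u} B} (f : M ⟶ M') :
    ModuleCat.of B (S →₀ M) ⟶ ModuleCat.of B (S →₀ M') :=
  descX (fun s => f ≫ ιX S M' s)

@[reassoc (attr := simp)]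
lemma ιX_mapX {M' : ModuleCat.{u} B} (f : M ⟶ M') (s : S) :
    ιX S M s ≫ mapX f = f ≫ ιX S M' s := by
  simp [mapX]

end Terms

variable (S : Type u) (T : CochainComplex (ModuleCat.{u} B) ℤ)

/-- The explicit copower complex. -/
noncomputable def copCx : CochainComplex (ModuleCat.{u} B) ℤ where
  X i := ModuleCat.of B (S →₀ T.X i)
  d i j := mapX (T.d i j)
  shape i j h := by
    apply X_hom_ext
    intro s
    simp [T.shape i j h]
  d_comp_d' i j k _ _ := by
    apply X_hom_ext
    intro s
    simp

/-- inclusion of the `s`-th summand in degree `i` -/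
noncomputable def ιXc (s : S) (i : ℤ) : T.X i ⟶ (copCx S T).X i := ιX S (T.X i) s

variable {S T}

/-- maps out of the degree `i` term -/
noncomputable def descXc (i : ℤ) {N : ModuleCat.{u} B} (g : S → (T.X i ⟶ N)) :
    (copCx S T).X i ⟶ N := descX g

@[reassoc (attr := simp)]
lemma ιXc_descXc (i : ℤ) {N : ModuleCat.{u} B} (g : S → (T.X i ⟶ N)) (s : S) :
    ιXc S T s i ≫ descXc i g = g s := ιX_descX g s

lemma Xc_hom_ext (i : ℤ) {N : ModuleCat.{u} B} (a b : (copCx S T).X i ⟶ N)
    (h : ∀ s, ιXc S T s i ≫ a = ιXc S T s i ≫ b) : a = b := X_hom_ext a b h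

@[reassoc (attr := simp)]
lemma ιXc_d (s : S) (i j : ℤ) :
    ιXc S T s i ≫ (copCx S T).d i j = T.d i j ≫ ιXc S T s j := ιX_mapX (T.d i j) s

variable (S T)

/-- The inclusions `T ⟶ copCx S T`. -/
noncomputable def ι (s : S) : T ⟶ copCx S T where
  f i := ιXc S T s i
  comm' i j _ := by simp

variable {S T}

/-- The morphism out of the copower induced by a family. -/
noncomputable def desc {Z : CochainComplex (ModuleCat.{u} B) ℤ} (g : S → (T ⟶ Z)) :
    copCx S T ⟶ Z where
  f i := descXc i (fun s => (g s).f i)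
  comm' i j _ := by
    apply Xc_hom_ext
    intro s
    simp

@[reassoc (attr := simp)]
lemma ι_desc {Z : CochainComplex (ModuleCat.{u} B) ℤ} (g : S → (T ⟶ Z)) (s : S) :
    ι S T s ≫ desc g = g s := by
  ext i : 1
  simp [ι, desc]

lemma hom_ext {Z : CochainComplex (ModuleCat.{u} B) ℤ} (a b : copCx S T ⟶ Z)
    (h : ∀ s, ι S T s ≫ a = ι S T s ≫ b) : a = b := by
  ext i : 1
  apply Xc_hom_ext
  intro s
  exact congrArg (fun φ => φ.f i) (h s)

/-- Assembling null-homotopies. -/
noncomputable def homotopyZero {Z : CochainComplex (ModuleCat.{u} B) ℤ} (f : copCx S T ⟶ Z)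
    (h : ∀ s, Homotopy (ι S T s ≫ f) 0) : Homotopy f 0 where
  hom i j := descXc i (fun s => (h s).hom i j)
  zero i j hij := by
    apply Xc_hom_ext
    intro s
    simp [(h s).zero i j hij]
  comm i := by
    apply Xc_hom_ext
    intro s
    have hc := (h s).comm i
    rw [dNext_eq _ (show (ComplexShape.up ℤ).Rel i (i + 1) from rfl),
      prevD_eq _ (show (ComplexShape.up ℤ).Rel (i - 1) i by simp)] at hc ⊢
    simp only [HomologicalComplex.comp_f, HomologicalComplex.zero_f, add_zero] at hc
    simp only [HomologicalComplex.zero_f, add_zero, Preadditive.comp_add, ιXc_d_assoc,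
      ιXc_descXc, ιXc_descXc_assoc]
    exact hc

instance [T.IsKProjective] : (copCx S T).IsKProjective where
  nonempty_homotopy_zero {_} f hL :=
    ⟨homotopyZero f (fun s => CochainComplex.IsKProjective.homotopyZero (ι S T s ≫ f) hL)⟩

section Derived

open DerivedCategory

universe w

variable [HasDerivedCategory.{w} (ModuleCat.{u} B)]

lemma exists_Q_map_eq (T Z : CochainComplex (ModuleCat.{u} B) ℤ) [T.IsKProjective]
    (f : Q.obj T ⟶ Q.obj Z) : ∃ g : T ⟶ Z, Q.map g = f := by
  obtain ⟨g', hg'⟩ := (CochainComplex.IsKProjective.Qh_map_bijective T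
    ((HomotopyCategory.quotient _ _).obj Z)).surjective
    ((quotientCompQhIso _).hom.app T ≫ f ≫ (quotientCompQhIso _).inv.app Z)
  obtain ⟨g, rfl⟩ := (HomotopyCategory.quotient _ _).map_surjective g'
  refine ⟨g, ?_⟩
  have := quotientCompQhIso_hom_naturality g
  rw [hg'] at this
  simp only [Category.assoc, Iso.inv_hom_id_app, Functor.comp_obj] at this
  rw [← cancel_epi ((quotientCompQhIso (ModuleCat.{u} B)).hom.app T)]
  rw [← this]
  simp

lemma homotopy_of_Q_map_eq (T Z : CochainComplex (ModuleCat.{u} B) ℤ) [T.IsKProjective]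
    (g g' : T ⟶ Z) (h : Q.map g = Q.map g') : Nonempty (Homotopy g g') := by
  refine ⟨HomotopyCategory.homotopyOfEq _ _ ?_⟩
  apply (CochainComplex.IsKProjective.Qh_map_bijective T
    ((HomotopyCategory.quotient _ _).obj Z)).injective
  rw [← cancel_mono ((quotientCompQhIso (ModuleCat.{u} B)).hom.app Z)]
  rw [quotientCompQhIso_hom_naturality, quotientCompQhIso_hom_naturality, h]

variable (S T) in
/-- the comparison map for the copower in `D(B)` -/
noncomputable def comp (Z : DerivedCategory (ModuleCat.{u} B)) :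
    (Q.obj (copCx S T) ⟶ Z) → (S → (Q.obj T ⟶ Z)) :=
  fun m s => Q.map (ι S T s) ≫ m

lemma comp_bijective_Q [T.IsKProjective] (Z₀ : CochainComplex (ModuleCat.{u} B) ℤ) :
    Function.Bijective (comp S T (Q.obj Z₀)) := by
  constructor
  · intro m m' hmm
    obtain ⟨a, rfl⟩ := exists_Q_map_eq _ _ m
    obtain ⟨a', rfl⟩ := exists_Q_map_eq _ _ m'
    have hs : ∀ s, Nonempty (Homotopy (ι S T s ≫ (a - a')) 0) := by
      intro s
      have := congrFun hmm s
      simp only [comp, ← Functor.map_comp] at this
      obtain ⟨h⟩ := homotopy_of_Q_map_eq _ _ _ _ this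
      refine ⟨(Homotopy.ofEq (by rw [Preadditive.comp_sub, sub_eq_add_neg])).trans
        ((h.add (Homotopy.refl (-(ι S T s ≫ a')))).trans (Homotopy.ofEq (by simp)))⟩
    have h0 := DerivedCategory.Q_map_eq_of_homotopy _ (homotopyZero (a - a') (fun s => (hs s).some))
    rw [Functor.map_sub, Functor.map_zero, sub_eq_zero] at h0
    exact h0
  · intro f
    choose g hg using fun s => exists_Q_map_eq T Z₀ (f s)
    refine ⟨Q.map (desc g), ?_⟩
    funext s
    simp only [comp, ← Functor.map_comp, ι_desc, hg]

lemma comp_bijective [T.IsKProjective] (Z : DerivedCategory (ModuleCat.{u} B)) :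
    Function.Bijective (comp S T Z) := by
  let e : Q.obj (Q.objPreimage Z) ≅ Z := Q.objObjPreimageIso Z
  have h := comp_bijective_Q (S := S) (T := T) (Q.objPreimage Z)
  have : comp S T Z = (fun φ s => φ s ≫ e.hom) ∘ comp S T (Q.obj (Q.objPreimage Z)) ∘
      (fun m => m ≫ e.inv) := by
    funext m s
    simp [comp]
  rw [this]
  refine Function.Bijective.comp ?_ (Function.Bijective.comp h ?_)
  · constructor
    · intro φ φ' hφ
      funext s
      have := congrFun hφ s
      simpa using this
    · intro φ
      exact ⟨fun s => φ s ≫ e.inv, by funext s; simp⟩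
  · constructor
    · intro m m' hm
      simpa using hm
    · intro m
      exact ⟨m ≫ e.hom, by simp⟩

variable (S T) in
/-- The copower cofan in `D(B)`. -/
noncomputable def cofan : Cofan (fun _ : S => (Q.obj T : DerivedCategory (ModuleCat.{u} B))) :=
  Cofan.mk (Q.obj (copCx S T)) (fun s => Q.map (ι S T s))

variable (S T) in
/-- `Q.obj (copCx S T)` is the copower of `Q.obj T`. -/
noncomputable def isColimitCofan [T.IsKProjective] : IsColimit (cofan S T) :=
  Cofan.IsColimit.mk _
    (fun c => (Equiv.ofBijective _ (comp_bijective (S := S) (T := T) c.pt)).symm (fun s => c.inj s))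
    (fun c s => by
      have := (Equiv.ofBijective _ (comp_bijective (S := S) (T := T) c.pt)).apply_symm_apply
        (fun s => c.inj s)
      exact congrFun this s)
    (fun c m hm => by
      apply (comp_bijective (S := S) (T := T) c.pt).injective
      funext s
      have := (Equiv.ofBijective _ (comp_bijective (S := S) (T := T) c.pt)).apply_symm_apply
        (fun s => c.inj s)
      exact (hm s).trans (congrFun this s).symm)

lemma hasCoproduct_of_isKProjective [T.IsKProjective] :
    HasCoproduct (fun _ : S => (Q.obj T : DerivedCategory (ModuleCat.{u} B))) :=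
  ⟨⟨⟨_, isColimitCofan S T⟩⟩⟩

/-- copowers indexed by any `u`-small type -/
lemma hasCoproduct_of_small {J : Type*} [Small.{u} J] [T.IsKProjective] :
    HasCoproduct (fun _ : J => (Q.obj T : DerivedCategory (ModuleCat.{u} B))) := by
  have := hasCoproduct_of_isKProjective (S := Shrink.{u} J) (T := T)
  exact hasCoproduct_of_equiv_of_iso (fun _ : Shrink.{u} J => Q.obj T) _ (equivShrink J)
    (fun _ => Iso.refl _)

end Derived

end Groth.Agent.Lib.DCopower
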