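import Groth.Agent.Lib.SemiFree35
import Groth.Agent.Lib.DerivedHocolim
import Groth.Agent.Lib.DerivedCoprod

/-!
# `D(R)` is generated, as a localizing subcategory, by the shifts of `R` (helper35)

`prop_of_localizing`: a property of objects of `D(R)` which is closed under isomorphisms, cones and
(small) coproducts and which holds for `R[n]` for all `n` holds for every object.

The proof uses the semi-free resolutions of `Lib/SemiFree35` (iterated cones of maps out of free
complexes with zero differential, then a sequential colimit) and `Lib/DerivedHocolim` (helper21).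
-/

set_option autoImplicit false

universe w u

open CategoryTheory CategoryTheory.Limits CategoryTheory.Pretriangulated

namespace Groth.Agent.Lib.LocGen35

open Groth.Agent.Lib.SemiFree35 DerivedCategory

variable {R : Type u} [CommRing R]

/-! ### A cell complex is a coproduct of shifted copies of `R` -/

section Cells

variable (I : ℤ → Type u)

/-- the index type of the cells -/
abbrev CellIdx : Type u := Σ p : ℤ, I p

/-- the shifted copy of `R` attached to a cell -/
noncomputable abbrev cellSummand (j : CellIdx I) : CochainComplex (ModuleCat.{u} R) ℤ :=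
  (HomologicalComplex.single (ModuleCat.{u} R) (ComplexShape.up ℤ) j.1).obj (ModuleCat.of R R)

/-- the inclusion of a summand in the cell complex -/
noncomputable def cellInj (j : CellIdx I) : cellSummand (R := R) I j ⟶ cellCx (R := R) I :=
  HomologicalComplex.mkHomFromSingle (ModuleCat.ofHom (Finsupp.lsingle j.2))
    (fun k _ => by rw [cellCx_d, comp_zero])

lemma cellInj_f (j : CellIdx I) :
    (cellInj (R := R) I j).f j.1 =
      (HomologicalComplex.singleObjXSelf (ComplexShape.up ℤ) j.1 (ModuleCat.of R R)).hom ≫
        ModuleCat.ofHom (Finsupp.lsingle j.2) :=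
  HomologicalComplex.mkHomFromSingle_f _ _

/-- the generator `1` of a summand -/
noncomputable def cellGen (j : CellIdx I) : (cellSummand (R := R) I j).X j.1 :=
  (HomologicalComplex.singleObjXSelf (ComplexShape.up ℤ) j.1 (ModuleCat.of R R)).inv.hom (1 : R)

lemma cellInj_gen (j : CellIdx I) :
    ((cellInj (R := R) I j).f j.1).hom (cellGen I j) = (Finsupp.single j.2 (1 : R) : I j.1 →₀ R) := by
  rw [cellInj_f]
  change (Finsupp.lsingle j.2 : R →ₗ[R] _) ((HomologicalComplex.singleObjXSelf (ComplexShape.up ℤ) j.1
    (ModuleCat.of R R)).hom.hom ((HomologicalComplex.singleObjXSelf (ComplexShape.up ℤ) j.1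
      (ModuleCat.of R R)).inv.hom (1 : R))) = _
  have : (HomologicalComplex.singleObjXSelf (ComplexShape.up ℤ) j.1 (ModuleCat.of R R)).hom.hom
      ((HomologicalComplex.singleObjXSelf (ComplexShape.up ℤ) j.1
      (ModuleCat.of R R)).inv.hom (1 : R)) = 1 := by
    have h := (HomologicalComplex.singleObjXSelf (ComplexShape.up ℤ) j.1 (ModuleCat.of R R)).inv_hom_id
    exact congrArg (fun g => g.hom (1 : R)) h
  rw [this]
  rfl

/-- a map out of a summand is determined by the image of the generator -/
lemma summand_hom_ext {K : CochainComplex (ModuleCat.{u} R) ℤ} (j : CellIdx I)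
    (f g : cellSummand (R := R) I j ⟶ K)
    (h : (f.f j.1).hom (cellGen I j) = (g.f j.1).hom (cellGen I j)) : f = g := by
  apply HomologicalComplex.from_single_hom_ext
  rw [← cancel_epi (HomologicalComplex.singleObjXSelf (ComplexShape.up ℤ) j.1
    (ModuleCat.of R R)).inv]
  apply ModuleCat.hom_ext
  apply LinearMap.ext_ring
  exact h

/-- the cofan exhibiting a cell complex as a coproduct -/
noncomputable def cellCofan : Cofan (cellSummand (R := R) I) :=
  Cofan.mk (cellCx (R := R) I) (cellInj I)

/-- the map out of a cell complex induced by a cofan -/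
noncomputable def cellDesc (s : Cofan (cellSummand (R := R) I)) : cellCx (R := R) I ⟶ s.pt :=
  cellMap (fun p (i : I p) => ((s.inj ⟨p, i⟩).f p).hom (cellGen I ⟨p, i⟩))
    (fun p i => by
      have h := (s.inj ⟨p, i⟩).comm p (p + 1)
      have h2 := congrArg (fun g => g.hom (cellGen (R := R) I ⟨p, i⟩)) h
      refine h2.trans ?_
      change ((s.inj ⟨p, i⟩).f (p + 1)).hom
        (((cellSummand (R := R) I ⟨p, i⟩).d p (p + 1)).hom (cellGen I ⟨p, i⟩)) = 0
      rw [HomologicalComplex.single_obj_d]
      exact map_zero _)

lemma cellDesc_single (s : Cofan (cellSummand (R := R) I)) (p : ℤ) (i : I p) :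
    ((cellDesc I s).f p).hom (Finsupp.single i (1 : R) : I p →₀ R) =
      ((s.inj ⟨p, i⟩).f p).hom (cellGen I ⟨p, i⟩) :=
  cellMap_single _ _ p i

/-- a cell complex is the coproduct of its summands -/
noncomputable def isColimitCellCofan : IsColimit (cellCofan (R := R) I) :=
  mkCofanColimit _ (cellDesc I)
    (fun s j => by
      obtain ⟨p, i⟩ := j
      apply summand_hom_ext
      change ((cellDesc I s).f p).hom (((cellInj (R := R) I ⟨p, i⟩).f p).hom (cellGen I ⟨p, i⟩)) = _
      rw [cellInj_gen, cellDesc_single])
    (fun s m hm => by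
      ext p : 1
      apply ModuleCat.hom_ext
      apply Finsupp.lhom_ext'
      intro a
      apply LinearMap.ext_ring
      change (m.f p).hom (Finsupp.single a (1 : R) : I p →₀ R) =
        ((cellDesc I s).f p).hom (Finsupp.single a (1 : R) : I p →₀ R)
      rw [cellDesc_single, ← hm ⟨p, a⟩, ← cellInj_gen I ⟨p, a⟩]
      rfl)

end Cells

/-! ### The localizing subcategory generated by the `R[n]` -/

section Main

variable [HasDerivedCategory.{w} (ModuleCat.{u} R)]
  (P : ObjectProperty (DerivedCategory (ModuleCat.{u} R))) [P.IsClosedUnderIsomorphisms]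

include P in
omit [P.IsClosedUnderIsomorphisms] in
lemma prop_cell
    (hunit : ∀ p : ℤ, P (Q.obj ((HomologicalComplex.single (ModuleCat.{u} R)
      (ComplexShape.up ℤ) p).obj (ModuleCat.of R R))))
    (hcoprod : ∀ (J : Type u) (X : J → DerivedCategory (ModuleCat.{u} R)) (c : Cofan X),
      IsColimit c → (∀ j, P (X j)) → P c.pt)
    (I : ℤ → Type u) : P (Q.obj (cellCx (R := R) I)) := by
  have h1 : IsColimit (Q.mapCocone (cellCofan (R := R) I)) :=
    isColimitOfPreserves Q (isColimitCellCofan I)
  have h2 := (isColimitMapCoconeCofanMkEquiv Q (cellSummand (R := R) I) (cellInj I)) h1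
  exact hcoprod _ _ _ h2 (fun j => hunit j.1)

include P in
lemma prop_of_isZero
    (hunit : ∀ p : ℤ, P (Q.obj ((HomologicalComplex.single (ModuleCat.{u} R)
      (ComplexShape.up ℤ) p).obj (ModuleCat.of R R))))
    (hcone : ∀ T ∈ distTriang (DerivedCategory (ModuleCat.{u} R)), P T.obj₁ → P T.obj₂ → P T.obj₃)
    (Z : DerivedCategory (ModuleCat.{u} R)) (hZ : IsZero Z) : P Z := by
  have h0 := hcone _ (contractible_distinguished (Q.obj ((HomologicalComplex.single
    (ModuleCat.{u} R) (ComplexShape.up ℤ) 0).obj (ModuleCat.of R R)))) (hunit 0) (hunit 0)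
  exact P.prop_of_iso ((isZero_zero _).iso hZ) h0

include P in
omit [P.IsClosedUnderIsomorphisms] in
lemma prop_stage
    (hunit : ∀ p : ℤ, P (Q.obj ((HomologicalComplex.single (ModuleCat.{u} R)
      (ComplexShape.up ℤ) p).obj (ModuleCat.of R R))))
    (hcone : ∀ T ∈ distTriang (DerivedCategory (ModuleCat.{u} R)), P T.obj₁ → P T.obj₂ → P T.obj₃)
    (hcoprod : ∀ (J : Type u) (X : J → DerivedCategory (ModuleCat.{u} R)) (c : Cofan X),
      IsColimit c → (∀ j, P (X j)) → P c.pt)
    (M : CochainComplex (ModuleCat.{u} R) ℤ) (n : ℕ) : P (Q.obj (stage M n).K) := by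
  induction n with
  | zero => exact prop_cell P hunit hcoprod _
  | succ n ih =>
    let φ := attachMap (stage M n).f (n : ℤ)
    have hT : Q.mapTriangle.obj (CochainComplex.mappingCone.triangle φ) ∈
        distTriang (DerivedCategory (ModuleCat.{u} R)) :=
      (DerivedCategory.mem_distTriang_iff _).2 ⟨_, _, φ, ⟨Iso.refl _⟩⟩
    exact hcone _ hT (prop_cell P hunit hcoprod _) ih

include P in
/-- A property of objects of `D(R)` closed under isomorphisms, cones, small coproducts and countable
coproducts, and containing the `R[n]`, holds for all objects. -/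
theorem prop_of_localizing
    (hunit : ∀ p : ℤ, P (Q.obj ((HomologicalComplex.single (ModuleCat.{u} R)
      (ComplexShape.up ℤ) p).obj (ModuleCat.of R R))))
    (hcone : ∀ T ∈ distTriang (DerivedCategory (ModuleCat.{u} R)), P T.obj₁ → P T.obj₂ → P T.obj₃)
    (hcoprod : ∀ (J : Type u) (X : J → DerivedCategory (ModuleCat.{u} R)) (c : Cofan X),
      IsColimit c → (∀ j, P (X j)) → P c.pt)
    (hcoprodN : ∀ (X : ℕ → DerivedCategory (ModuleCat.{u} R)) (c : Cofan X),
      IsColimit c → (∀ j, P (X j)) → P c.pt)
    (K : DerivedCategory (ModuleCat.{u} R)) : P K := by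
  let M := Q.objPreimage K
  have e : Q.obj M ≅ K := Q.objObjPreimageIso K
  haveI : QuasiIso (resMap M) := (res_spec M).2.2.1
  have e' : Q.obj (res M) ≅ Q.obj M := asIso (Q.map (resMap M))
  refine P.prop_of_iso (e' ≪≫ e) ?_
  obtain ⟨c, hc⟩ := Groth.Agent.Lib.DerivedHocolim.isHocolim_of_isColimit (seq M)
    (colimit.cocone (seq M)) (colimit.isColimit (seq M))
  have hsum : P (∐ fun n => Q.obj ((seq M).obj n)) :=
    hcoprodN _ _ (coproductIsCoproduct _) (fun n => prop_stage P hunit hcone hcoprod M n)
  exact hcone _ hc hsum hsum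

end Main

end Groth.Agent.Lib.LocGen35
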