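import Groth.Agent.Lib.FinSupp31
import Groth.Agent.Lib.DerivedCoprod
import Groth.Agent.Lib.DCopower
import Groth.Agent.Lib.LocGen35
import Groth.Agent.Lib.DThick
import Mathlib.Algebra.Homology.HomologicalComplexLimits

/-!
# Compactness of `R[n]` in `D(R)` (helper35)

Every map from `R[n]` to a coproduct in `D(R)` is finitely supported (`FinSupp31.FinSupp`).
-/

set_option autoImplicit false

universe w' w u

open CategoryTheory CategoryTheory.Limits

namespace Groth.Agent.Lib.CompactPerf35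

open Groth.Agent.FinSupp31 DerivedCategory Groth.Agent.Lib.LocGen35

variable {R : Type u} [CommRing R]

/-! ### Finite support of elements of a coproduct of modules -/

section Module

variable {J : Type w'} {V : J → ModuleCat.{u} R} (c : Cofan V) (hc : IsColimit c)

include hc in
lemma iSup_range_inj_eq_top : ⨆ j, LinearMap.range (c.inj j).hom = ⊤ := by
  set T := ⨆ j, LinearMap.range (c.inj j).hom with hT
  have hq : ModuleCat.ofHom T.mkQ = 0 := by
    refine Cofan.IsColimit.hom_ext hc _ _ (fun j => ?_)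
    rw [comp_zero]
    apply ModuleCat.hom_ext
    ext v
    change T.mkQ ((c.inj j).hom v) = 0
    rw [Submodule.mkQ_apply, Submodule.Quotient.mk_eq_zero]
    exact (le_iSup (fun j => LinearMap.range (c.inj j).hom) j) ⟨v, rfl⟩
  have h2 : T.mkQ = 0 := by
    have := congrArg ModuleCat.Hom.hom hq
    simpa using this
  rw [← Submodule.ker_mkQ T, h2, LinearMap.ker_zero]

variable (π : ∀ j, c.pt ⟶ V j) (hπ : ∀ j, c.inj j ≫ π j = 𝟙 _)
  (hπ' : ∀ j k, j ≠ k → c.inj j ≫ π k = 0)

include hπ' in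
omit hc in
lemma proj_eq_zero_of_not_mem (x : c.pt) (S : Finset J)
    (hS : x = ∑ j ∈ S, (c.inj j).hom ((π j).hom x)) (k : J) (hk : k ∉ S) : (π k).hom x = 0 := by
  rw [hS, map_sum]
  refine Finset.sum_eq_zero (fun j hj => ?_)
  have hjk : j ≠ k := by
    rintro rfl
    exact hk hj
  have := congrArg (fun g => g.hom ((π j).hom x)) (hπ' j k hjk)
  exact this

include hπ' in
omit hc in
lemma eq_sum_of_subset (x : c.pt) (S S' : Finset J) (hSS' : S ⊆ S')
    (hS : x = ∑ j ∈ S, (c.inj j).hom ((π j).hom x)) :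
    x = ∑ j ∈ S', (c.inj j).hom ((π j).hom x) := by
  classical
  rw [← Finset.sum_sdiff hSS', ← hS]
  have : ∑ j ∈ S' \ S, (c.inj j).hom ((π j).hom x) = 0 := by
    refine Finset.sum_eq_zero (fun k hk => ?_)
    rw [proj_eq_zero_of_not_mem c π hπ' x S hS k (Finset.mem_sdiff.1 hk).2, map_zero]
  rw [this, zero_add]

include hc hπ hπ' in
/-- every element of a coproduct of modules is finitely supported -/
lemma fs_module (x : c.pt) : ∃ S : Finset J, x = ∑ j ∈ S, (c.inj j).hom ((π j).hom x) := by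
  classical
  have hx : x ∈ ⨆ j, LinearMap.range (c.inj j).hom := by
    rw [iSup_range_inj_eq_top c hc]
    trivial
  induction hx using Submodule.iSup_induction' with
  | mem j x hx =>
    obtain ⟨y, rfl⟩ := hx
    refine ⟨{j}, ?_⟩
    rw [Finset.sum_singleton]
    have := congrArg (fun g => g.hom y) (hπ j)
    change (π j).hom ((c.inj j).hom y) = y at this
    rw [this]
  | zero => exact ⟨∅, by simp⟩
  | add x y _ _ hx hy =>
    obtain ⟨S, hS⟩ := hx
    obtain ⟨T, hT⟩ := hy
    refine ⟨S ∪ T, ?_⟩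
    have h1 := eq_sum_of_subset c π hπ' x S (S ∪ T) Finset.subset_union_left hS
    have h2 := eq_sum_of_subset c π hπ' y T (S ∪ T) Finset.subset_union_right hT
    conv_lhs => rw [h1, h2]
    rw [← Finset.sum_add_distrib]
    refine Finset.sum_congr rfl (fun j _ => ?_)
    rw [map_add, map_add]

end Module

/-! ### Chain maps from `R[-p]` to a coproduct of complexes -/

section Chain

/-- the complex `R` in degree `p` -/
noncomputable abbrev S (R : Type u) [CommRing R] (p : ℤ) : CochainComplex (ModuleCat.{u} R) ℤ :=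
  (HomologicalComplex.single (ModuleCat.{u} R) (ComplexShape.up ℤ) p).obj (ModuleCat.of R R)

/-- the generator of `S R p` in degree `p` -/
noncomputable def gen (p : ℤ) : (S R p).X p := cellGen (R := R) (fun _ => PUnit.{u + 1}) ⟨p, PUnit.unit⟩

lemma S_hom_ext {K : CochainComplex (ModuleCat.{u} R) ℤ} (p : ℤ) (f g : S R p ⟶ K)
    (h : (f.f p).hom (gen p) = (g.f p).hom (gen p)) : f = g :=
  summand_hom_ext (R := R) (fun _ => PUnit.{u + 1}) ⟨p, PUnit.unit⟩ f g h

variable {J : Type w'} (X : J → CochainComplex (ModuleCat.{u} R) ℤ)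
  [HasColimitsOfShape (Discrete J) (ModuleCat.{u} R)]

open Classical in
lemma fs_chain (p : ℤ) (φ : S R p ⟶ ∐ X) :
    ∃ T : Finset J, φ = ∑ j ∈ T, φ ≫ Sigma.π X j ≫ Sigma.ι X j := by
  let c : Cofan (fun j => (X j).X p) := Cofan.mk ((∐ X).X p) (fun j => (Sigma.ι X j).f p)
  have hc : IsColimit c :=
    (isColimitMapCoconeCofanMkEquiv (HomologicalComplex.eval _ (ComplexShape.up ℤ) p) X
      (Sigma.ι X)) (isColimitOfPreserves (HomologicalComplex.eval _ (ComplexShape.up ℤ) p)
        (coproductIsCoproduct X))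
  obtain ⟨T, hT⟩ := fs_module c hc (fun j => (Sigma.π X j).f p)
    (fun j => by
      change (Sigma.ι X j).f p ≫ (Sigma.π X j).f p = 𝟙 _
      rw [← HomologicalComplex.comp_f, Sigma.ι_π_eq_id, HomologicalComplex.id_f])
    (fun j k hjk => by
      change (Sigma.ι X j).f p ≫ (Sigma.π X k).f p = 0
      rw [← HomologicalComplex.comp_f, Sigma.ι_π_of_ne X hjk, HomologicalComplex.zero_f])
    ((φ.f p).hom (gen p))
  refine ⟨T, S_hom_ext p _ _ ?_⟩
  have e1 : ((∑ j ∈ T, φ ≫ Sigma.π X j ≫ Sigma.ι X j).f p) =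
      ∑ j ∈ T, (φ ≫ Sigma.π X j ≫ Sigma.ι X j).f p :=
    map_sum (HomologicalComplex.Hom.fAddMonoidHom (C₁ := S R p) (C₂ := ∐ X) p) _ _
  rw [e1]
  have e2 : (∑ j ∈ T, (φ ≫ Sigma.π X j ≫ Sigma.ι X j).f p).hom (gen p) =
      ∑ j ∈ T, ((φ ≫ Sigma.π X j ≫ Sigma.ι X j).f p).hom (gen p) := by
    rw [ModuleCat.hom_sum, LinearMap.sum_apply]
  rw [e2]
  exact hT

end Chain

/-! ### Compactness of `R[-p]` in the derived category -/

section Derived

variable [HasDerivedCategory.{w} (ModuleCat.{u} R)]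

instance projective_S_X (p n : ℤ) : Projective ((S R p).X n) := by
  by_cases h : n = p
  · subst h
    have : Projective (ModuleCat.of R R) :=
      (IsProjective.iff_projective (ModuleCat.of R R)).1 inferInstance
    exact Projective.of_iso
      (HomologicalComplex.singleObjXSelf (ComplexShape.up ℤ) n (ModuleCat.of R R)).symm
      inferInstance
  · exact (HomologicalComplex.isZero_single_obj_X (ComplexShape.up ℤ) p (ModuleCat.of R R) n h).projective

instance isKProjective_S (p : ℤ) : (S R p).IsKProjective :=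
  CochainComplex.isKProjective_of_projective _ p

variable {J : Type w'} [HasColimitsOfShape (Discrete J) (ModuleCat.{u} R)]
  [HasExactColimitsOfShape (Discrete J) (ModuleCat.{u} R)]

open Classical in
/-- `R[-p]` is compact in `D(R)`: maps into a coproduct are finitely supported. -/
theorem finSupp_S (p : ℤ) (Y : J → DerivedCategory (ModuleCat.{u} R)) :
    FinSupp Y (Q.obj (S R p)) := by
  let X : J → CochainComplex (ModuleCat.{u} R) ℤ := fun j => Q.objPreimage (Y j)
  let ε : ∀ j, Q.obj (X j) ≅ Y j := fun j => Q.objObjPreimageIso (Y j)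
  refine finSupp_of_iso ε ?_
  let c₁ : Cofan (fun j => Q.obj (X j)) := Cofan.mk (Q.obj (∐ X)) (fun j => Q.map (Sigma.ι X j))
  have hc₁ : IsColimit c₁ :=
    (isColimitMapCoconeCofanMkEquiv Q X (Sigma.ι X)) (isColimitOfPreserves Q
      (coproductIsCoproduct X))
  refine finSupp_of_cofan c₁ hc₁ ?_
  rw [eq_top_iff]
  intro f _
  obtain ⟨φ, rfl⟩ := Groth.Agent.Lib.DCopower.exists_Q_map_eq (S R p) (∐ X) f
  obtain ⟨T, hT⟩ := fs_chain X p φ
  rw [hT, Functor.map_sum]
  refine AddSubgroup.sum_mem _ (fun j _ => AddSubgroup.subset_closure ?_)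
  exact ⟨j, Q.map (φ ≫ Sigma.π X j), by
    change Q.map (φ ≫ Sigma.π X j ≫ Sigma.ι X j) = Q.map (φ ≫ Sigma.π X j) ≫ Q.map (Sigma.ι X j)
    rw [← Functor.map_comp, Category.assoc]⟩

end Derived

/-! ### Dévissage: perfect objects are compact -/

section Devissage

open Pretriangulated

variable {D : Type*} [Category D] [Preadditive D] {J : Type w'} (Y : J → D) [HasCoproduct Y]

lemma finSupp_of_retract {P P' : D} (i : P' ⟶ P) (r : P ⟶ P') (hir : i ≫ r = 𝟙 P')
    (h : FinSupp Y P) : FinSupp Y P' := by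
  intro f
  obtain ⟨s, hs⟩ := h (r ≫ f)
  refine ⟨s, ?_⟩
  calc f ≫ e Y s = (i ≫ r) ≫ f ≫ e Y s := by rw [hir, Category.id_comp]
    _ = i ≫ (r ≫ f) ≫ e Y s := by simp only [Category.assoc]
    _ = i ≫ r ≫ f := by rw [hs]
    _ = f := by rw [← Category.assoc, hir, Category.id_comp]

lemma finSupp_of_iso_left {P P' : D} (e : P' ≅ P) (h : FinSupp Y P) : FinSupp Y P' :=
  finSupp_of_retract Y e.hom e.inv e.hom_inv_id h

variable [HasZeroObject D] [HasShift D ℤ] [∀ n : ℤ, (shiftFunctor D n).Additive] [Pretriangulated D]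

lemma finSupp_mid (T : Triangle D) (hT : T ∈ distTriang D) (h₁ : FinSupp Y T.obj₁)
    (h₃ : FinSupp Y T.obj₃) : FinSupp Y T.obj₂ := by
  classical
  intro f
  obtain ⟨s, hs⟩ := h₁ (T.mor₁ ≫ f)
  have h0 : T.mor₁ ≫ (f - f ≫ e Y s) = 0 := by
    rw [Preadditive.comp_sub, ← Category.assoc, hs, sub_self]
  obtain ⟨g, hg⟩ := Triangle.yoneda_exact₂ T hT _ h0
  obtain ⟨t, ht⟩ := h₃ g
  have m1 : f ≫ e Y s ∈ finSub Y T.obj₂ := ⟨s, by rw [Category.assoc, e_e Y (Finset.Subset.refl s)]⟩
  have m2 : T.mor₂ ≫ g ∈ finSub Y T.obj₂ := ⟨t, by rw [Category.assoc, ht]⟩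
  have : f = f ≫ e Y s + T.mor₂ ≫ g := by rw [← hg]; abel
  rw [this]
  exact (finSub Y T.obj₂).add_mem m1 m2

end Devissage

section Perfect

open Pretriangulated

variable [HasDerivedCategory.{w} (ModuleCat.{u} R)]
  (J : Type w') [HasColimitsOfShape (Discrete J) (ModuleCat.{u} R)]
  [HasExactColimitsOfShape (Discrete J) (ModuleCat.{u} R)]

/-- all shifts of `K` are compact with respect to `J`-indexed coproducts -/
def CptAll : ObjectProperty (DerivedCategory (ModuleCat.{u} R)) := fun K =>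
  ∀ (n : ℤ) (Y : J → DerivedCategory (ModuleCat.{u} R)), FinSupp Y (K⟦n⟧)

variable {J}

lemma CptAll.of_retract {K K' : DerivedCategory (ModuleCat.{u} R)} (i : K' ⟶ K) (r : K ⟶ K')
    (hir : i ≫ r = 𝟙 K') (h : CptAll J K) : CptAll J K' := fun n Y =>
  finSupp_of_retract Y (i⟦n⟧') (r⟦n⟧') (by
    rw [← Functor.map_comp, hir, CategoryTheory.Functor.map_id]) (h n Y)

lemma CptAll.of_iso {K K' : DerivedCategory (ModuleCat.{u} R)} (e : K' ≅ K) (h : CptAll J K) :
    CptAll J K' := h.of_retract e.hom e.inv e.hom_inv_id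

lemma CptAll.shift {K : DerivedCategory (ModuleCat.{u} R)} (h : CptAll J K) (m : ℤ) :
    CptAll J (K⟦m⟧) := fun n Y =>
  finSupp_of_iso_left Y ((shiftFunctorAdd (DerivedCategory (ModuleCat.{u} R)) m n).symm.app K)
    (h (m + n) Y)

lemma CptAll.mid (T : Triangle (DerivedCategory (ModuleCat.{u} R)))
    (hT : T ∈ distTriang (DerivedCategory (ModuleCat.{u} R)))
    (h₁ : CptAll J T.obj₁) (h₃ : CptAll J T.obj₃) : CptAll J T.obj₂ := fun n Y =>
  finSupp_mid Y _ (Triangle.shift_distinguished T hT n) (h₁ n Y) (h₃ n Y)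

lemma cptAll_single :
    CptAll J ((DerivedCategory.singleFunctor (ModuleCat.{u} R) 0).obj (ModuleCat.of R R)) := by
  intro n Y
  have e : ((DerivedCategory.singleFunctor (ModuleCat.{u} R) 0).obj (ModuleCat.of R R))⟦n⟧ ≅
      Q.obj (S R (-n)) :=
    ((DerivedCategory.singleFunctors (ModuleCat.{u} R)).shiftIso n (-n) 0 (by omega)).app
      (ModuleCat.of R R)
  exact finSupp_of_iso_left Y e (finSupp_S (-n) Y)

instance : (CptAll (R := R) J).IsClosedUnderIsomorphisms where
  of_iso e h := h.of_iso e.symm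

/-- bounded complexes of finite projective modules are compact in `D(R)` -/
theorem cptAll_of_bounded_finite_projective (E : CochainComplex (ModuleCat.{u} R) ℤ) (a b : ℤ)
    (hE : ∀ i : ℤ, i < a ∨ b < i → IsZero (E.X i))
    (hfp : ∀ i : ℤ, Module.Finite R (E.X i) ∧ Module.Projective R (E.X i)) :
    CptAll J (Q.obj E) :=
  Groth.Agent.Lib.DThick.prop_of_bounded_finite_projective (CptAll (R := R) J) cptAll_single
    (fun _ n h => h.shift n) (fun T hT h₁ h₃ => CptAll.mid T hT h₁ h₃)
    (fun X Y _ h => h.of_retract biprod.inl biprod.fst biprod.inl_fst) E a b hE hfp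

end Perfect

end Groth.Agent.Lib.CompactPerf35
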