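import Mathlib.CategoryTheory.Abelian.Projective.Resolution

/-!
# The comparison theorem for a degreewise projective complex mapping to a resolution (helper35)

`F` a chain complex with projective terms and augmentation `εF : F ⟶ M[0]` (no exactness), `Nc` a
complex with a quasi-isomorphism `εN : Nc ⟶ N[0]`.  Every `g : M ⟶ N` lifts to `F ⟶ Nc`, uniquely
up to homotopy.  Adapted from `CategoryTheory.ProjectiveResolution.lift`.
-/

set_option autoImplicit false

universe v u

namespace Groth.Agent.Lib.ComparisonThm35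

open CategoryTheory Category Limits ChainComplex HomologicalComplex

noncomputable section

variable {C : Type u} [Category.{v} C] [Abelian C]

section resolution

variable {Z : C} {Q : ChainComplex C ℕ} (π : Q ⟶ (ChainComplex.single₀ C).obj Z) [QuasiIso π]

include π in
lemma complex_exactAt_succ (n : ℕ) : Q.ExactAt (n + 1) := by
  rw [← quasiIsoAt_iff_exactAt' π (n + 1) (exactAt_succ_single_obj _ _)]
  infer_instance

include π in
lemma exact_succ (n : ℕ) :
    (ShortComplex.mk _ _ (Q.d_comp_d (n + 2) (n + 1) n)).Exact :=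
  ((HomologicalComplex.exactAt_iff' _ (n + 2) (n + 1) n) (by simp only [prev]; rfl)
    (by simp)).1 (complex_exactAt_succ π n)

omit [QuasiIso π] in
@[simp]
theorem π_f_succ (n : ℕ) : π.f (n + 1) = 0 :=
  (isZero_single_obj_X _ _ _ _ (by simp)).eq_of_tgt _ _

omit [QuasiIso π] in
@[reassoc (attr := simp)]
theorem complex_d_comp_π_f_zero : Q.d 1 0 ≫ π.f 0 = 0 := by
  rw [← π.comm 1 0, single_obj_d, comp_zero]

/-- The cokernel cofork given by `Q.X 1 ⟶ Q.X 0 ⟶ Z`. -/
@[simp]
def cokernelCofork : CokernelCofork (Q.d 1 0) :=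
  CokernelCofork.ofπ _ (complex_d_comp_π_f_zero π)

set_option backward.isDefEq.respectTransparency.types false in
set_option backward.defeqAttrib.useBackward true in
/-- `Z` is the cokernel of `Q.X 1 ⟶ Q.X 0`. -/
def isColimitCokernelCofork : IsColimit (cokernelCofork π) := by
  refine IsColimit.ofIsoColimit (Q.opcyclesIsCokernel 1 0 (by simp)) ?_
  refine Cofork.ext (Q.isoHomologyι₀.symm ≪≫ isoOfQuasiIsoAt π 0 ≪≫
    singleObjHomologySelfIso _ _ _) ?_
  rw [← cancel_mono (singleObjHomologySelfIso (ComplexShape.down ℕ) 0 _).inv,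
    ← cancel_mono (isoHomologyι₀ _).hom]
  dsimp
  simp only [isoHomologyι₀_inv_naturality_assoc, p_opcyclesMap_assoc, single₀_obj_zero, assoc,
    Iso.hom_inv_id, comp_id, isoHomologyι_inv_hom_id, singleObjHomologySelfIso_inv_homologyι,
    singleObjOpcyclesSelfIso_hom, single₀ObjXSelf, Iso.refl_inv, id_comp]

set_option backward.isDefEq.respectTransparency false in
instance epi_π_f_zero : Epi (π.f 0) :=
  epi_of_isColimit_cofork (isColimitCokernelCofork π)

lemma exact₀ : (ShortComplex.mk _ _ (complex_d_comp_π_f_zero π)).Exact :=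
  ShortComplex.exact_of_g_is_cokernel _ (isColimitCokernelCofork π)

end resolution

section lift

variable {Y Z : C} (f : Y ⟶ Z) {P Q : ChainComplex C ℕ} [∀ n, Projective (P.X n)]
  (ε : P ⟶ (ChainComplex.single₀ C).obj Y)
  (π : Q ⟶ (ChainComplex.single₀ C).obj Z) [QuasiIso π]

set_option backward.isDefEq.respectTransparency false in
/-- Auxiliary construction for `lift`. -/
def liftFZero : P.X 0 ⟶ Q.X 0 :=
  Projective.factorThru (ε.f 0 ≫ f) (π.f 0)

set_option backward.isDefEq.respectTransparency false in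
/-- Auxiliary construction for `lift`. -/
def liftFOne : P.X 1 ⟶ Q.X 1 :=
  (exact₀ π).liftFromProjective (P.d 1 0 ≫ liftFZero f ε π) (by simp [liftFZero])

@[simp]
theorem liftFOne_zero_comm :
    liftFOne f ε π ≫ Q.d 1 0 = P.d 1 0 ≫ liftFZero f ε π := by
  apply (exact₀ π).liftFromProjective_comp

/-- Auxiliary construction for `lift`. -/
def liftFSucc (n : ℕ) (g : P.X n ⟶ Q.X n) (g' : P.X (n + 1) ⟶ Q.X (n + 1))
    (w : g' ≫ Q.d (n + 1) n = P.d (n + 1) n ≫ g) :
    Σ' g'' : P.X (n + 2) ⟶ Q.X (n + 2),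
      g'' ≫ Q.d (n + 2) (n + 1) = P.d (n + 2) (n + 1) ≫ g' :=
  ⟨(exact_succ π n).liftFromProjective
    (P.d (n + 2) (n + 1) ≫ g') (by simp [w]),
      (exact_succ π n).liftFromProjective_comp _ _⟩

/-- A morphism lifts to a chain map from a degreewise projective complex to a resolution. -/
def lift : P ⟶ Q :=
  ChainComplex.mkHom _ _ (liftFZero f ε π) (liftFOne f ε π) (liftFOne_zero_comm f ε π)
    fun n ⟨g, g', w⟩ => ⟨(liftFSucc π n g g' w).1, (liftFSucc π n g g' w).2⟩

set_option backward.isDefEq.respectTransparency.types false in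
/-- The augmentations intertwine the lift of a morphism and that morphism. -/
@[reassoc (attr := simp)]
theorem lift_commutes : lift f ε π ≫ π = ε ≫ (ChainComplex.single₀ C).map f := by
  ext
  simp [lift, liftFZero, liftFOne]

end lift

section homotopy

variable {Y Z : C} {P Q : ChainComplex C ℕ} [∀ n, Projective (P.X n)]
  (π : Q ⟶ (ChainComplex.single₀ C).obj Z) [QuasiIso π]

/-- An auxiliary definition for `liftHomotopyZero`. -/
def liftHomotopyZeroZero (f : P ⟶ Q) (comm : f ≫ π = 0) : P.X 0 ⟶ Q.X 1 :=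
  (exact₀ π).liftFromProjective (f.f 0) (congr_fun (congr_arg HomologicalComplex.Hom.f comm) 0)

@[reassoc (attr := simp)]
lemma liftHomotopyZeroZero_comp (f : P ⟶ Q) (comm : f ≫ π = 0) :
    liftHomotopyZeroZero π f comm ≫ Q.d 1 0 = f.f 0 :=
  (exact₀ π).liftFromProjective_comp _ _

/-- An auxiliary definition for `liftHomotopyZero`. -/
def liftHomotopyZeroOne (f : P ⟶ Q) (comm : f ≫ π = 0) : P.X 1 ⟶ Q.X 2 :=
  (exact_succ π 0).liftFromProjective (f.f 1 - P.d 1 0 ≫ liftHomotopyZeroZero π f comm)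
    (by rw [Preadditive.sub_comp, assoc, HomologicalComplex.Hom.comm,
              liftHomotopyZeroZero_comp, sub_self])

@[reassoc (attr := simp)]
lemma liftHomotopyZeroOne_comp (f : P ⟶ Q) (comm : f ≫ π = 0) :
    liftHomotopyZeroOne π f comm ≫ Q.d 2 1 =
      f.f 1 - P.d 1 0 ≫ liftHomotopyZeroZero π f comm :=
  (exact_succ π 0).liftFromProjective_comp _ _

/-- An auxiliary definition for `liftHomotopyZero`. -/
def liftHomotopyZeroSucc (f : P ⟶ Q) (n : ℕ) (g : P.X n ⟶ Q.X (n + 1))
    (g' : P.X (n + 1) ⟶ Q.X (n + 2))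
    (w : f.f (n + 1) = P.d (n + 1) n ≫ g + g' ≫ Q.d (n + 2) (n + 1)) :
    P.X (n + 2) ⟶ Q.X (n + 3) :=
  (exact_succ π (n + 1)).liftFromProjective (f.f (n + 2) - P.d _ _ ≫ g') (by simp [w])

@[reassoc (attr := simp)]
lemma liftHomotopyZeroSucc_comp (f : P ⟶ Q) (n : ℕ) (g : P.X n ⟶ Q.X (n + 1))
    (g' : P.X (n + 1) ⟶ Q.X (n + 2))
    (w : f.f (n + 1) = P.d (n + 1) n ≫ g + g' ≫ Q.d (n + 2) (n + 1)) :
    liftHomotopyZeroSucc π f n g g' w ≫ Q.d (n + 3) (n + 2) =
      f.f (n + 2) - P.d _ _ ≫ g' :=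
  (exact_succ π (n + 1)).liftFromProjective_comp _ _

/-- Any lift of the zero morphism is homotopic to zero. -/
def liftHomotopyZero (f : P ⟶ Q) (comm : f ≫ π = 0) : Homotopy f 0 :=
  Homotopy.mkInductive _ (liftHomotopyZeroZero π f comm) (by simp)
    (liftHomotopyZeroOne π f comm) (by simp) fun n ⟨g, g', w⟩ =>
    ⟨liftHomotopyZeroSucc π f n g g' w, by simp⟩

/-- Two lifts of the same morphism are homotopic. -/
def liftHomotopy (f : Y ⟶ Z) (ε : P ⟶ (ChainComplex.single₀ C).obj Y)
    (g h : P ⟶ Q) (g_comm : g ≫ π = ε ≫ (ChainComplex.single₀ C).map f)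
    (h_comm : h ≫ π = ε ≫ (ChainComplex.single₀ C).map f) : Homotopy g h :=
  Homotopy.equivSubZero.invFun (liftHomotopyZero π _ (by simp [g_comm, h_comm]))

end homotopy

end

end Groth.Agent.Lib.ComparisonThm35
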