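import Groth.Agent.Lib.FSFibre

/-!
# Bridges between adic formal smoothness of `B` over `A` and of a fibre `F = B / m B` over
`k = A / m` (helper89)

Setting: `A → k` surjective with kernel `m`, `B → F` surjective with kernel `m B`, compatible
towers.

* `isAdicFormallySmooth_fibre`: `B` `𝔟`-adically f.s. over `A` ⇒ `F` `𝔫`-adically f.s. over `k`
  (for `𝔟 F ≤ 𝔫`) — base change;
* `liftKilledAdic_of_fibre`: `F` `𝔫`-adically f.s. over `k` ⇒ `LiftKilledAdic m B 𝔟`
  (for `𝔫 ≤ 𝔟 F`);
* `isAdicFormallySmooth_of_flat_of_fibre`: flat + fibre f.s. ⇒ f.s.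
-/

set_option autoImplicit false
universe u

namespace Groth.Agent.Lib.FSFibre

section bridge

variable {A : Type u} [CommRing A] {m : Ideal A} {B : Type u} [CommRing B] [Algebra A B]
  {𝔟 : Ideal B} {k F : Type u} [CommRing k] [CommRing F] [Algebra A k] [Algebra k F]
  [Algebra A F] [IsScalarTower A k F] [Algebra B F] [IsScalarTower A B F]

/-- Base change of adic formal smoothness to a quotient of the base. -/
theorem isAdicFormallySmooth_fibre (hk : Function.Surjective (algebraMap A k))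
    (hkm : m ≤ RingHom.ker (algebraMap A k))
    (hF : Function.Surjective (algebraMap B F))
    (hFm : RingHom.ker (algebraMap B F) ≤ m.map (algebraMap A B))
    {𝔫 : Ideal F} (h𝔫 : 𝔟.map (algebraMap B F) ≤ 𝔫)
    (h : CAlgX.IsAdicFormallySmooth A B 𝔟) : CAlgX.IsAdicFormallySmooth k F 𝔫 := by
  intro C _ _ J hJ ψ hs
  obtain ⟨s, hs⟩ := hs
  let _ : Algebra A C := ((algebraMap k C).comp (algebraMap A k)).toAlgebra
  have _ : IsScalarTower A k C := IsScalarTower.of_algebraMap_eq (fun _ => rfl)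
  let ψB : B →ₐ[A] C ⧸ J := (ψ.restrictScalars A).comp (IsScalarTower.toAlgHom A B F)
  have hψB : ∀ b, ψB b = ψ (algebraMap B F b) := fun b => rfl
  obtain ⟨χ, hχ⟩ := h C J hJ ψB ⟨s, fun x hx => by
    rw [hψB]
    apply hs
    apply Ideal.pow_right_mono h𝔫
    rw [← Ideal.map_pow]
    exact Ideal.mem_map_of_mem _ hx⟩
  have hχ' : ∀ b, Ideal.Quotient.mk J (χ b) = ψ (algebraMap B F b) :=
    fun b => AlgHom.congr_fun hχ b
  have hle : RingHom.ker (IsScalarTower.toAlgHom A B F).toRingHom ≤ RingHom.ker χ.toRingHom := by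
    have : RingHom.ker (IsScalarTower.toAlgHom A B F).toRingHom ≤ m.map (algebraMap A B) := hFm
    refine this.trans ?_
    rw [Ideal.map_le_iff_le_comap]
    intro a ha
    rw [Ideal.mem_comap, RingHom.mem_ker]
    change χ (algebraMap A B a) = 0
    rw [χ.commutes, IsScalarTower.algebraMap_apply A k C]
    have : algebraMap A k a = 0 := RingHom.mem_ker.mp (hkm ha)
    rw [this, map_zero]
  let χA : F →ₐ[A] C := AlgHom.liftOfSurjective (IsScalarTower.toAlgHom A B F) hF χ hle
  have hχA : ∀ b, χA (algebraMap B F b) = χ b := fun b =>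
    AlgHom.liftOfSurjective_apply (IsScalarTower.toAlgHom A B F) hF χ hle b
  let χk : F →ₐ[k] C :=
    { χA.toRingHom with
      commutes' := fun c => by
        obtain ⟨a, rfl⟩ := hk c
        change χA (algebraMap k F (algebraMap A k a)) = algebraMap k C (algebraMap A k a)
        rw [← IsScalarTower.algebraMap_apply A k F, ← IsScalarTower.algebraMap_apply A k C,
          χA.commutes] }
  refine ⟨χk, ?_⟩
  ext y
  obtain ⟨b, rfl⟩ := hF y
  change Ideal.Quotient.mk J (χA (algebraMap B F b)) = ψ (algebraMap B F b)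
  rw [hχA, hχ']

/-- Adic formal smoothness of the fibre gives the lifting property `LiftKilledAdic`. -/
theorem liftKilledAdic_of_fibre (hk : Function.Surjective (algebraMap A k))
    (hkm : RingHom.ker (algebraMap A k) ≤ m)
    (hF : Function.Surjective (algebraMap B F))
    (hFm : RingHom.ker (algebraMap B F) ≤ m.map (algebraMap A B))
    {𝔫 : Ideal F} (h𝔫 : 𝔫 ≤ 𝔟.map (algebraMap B F))
    (h : CAlgX.IsAdicFormallySmooth k F 𝔫) : LiftKilledAdic m B 𝔟 := by
  intro D _ _ N hN hD g hs
  obtain ⟨s, hs⟩ := hs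
  -- `D` is a `k`-algebra
  have hle0 : RingHom.ker (algebraMap A k) ≤ RingHom.ker (algebraMap A D) := fun a ha =>
    RingHom.mem_ker.mpr (hD a (hkm ha))
  let φ : k →+* D := RingHom.liftOfSurjective (algebraMap A k) hk ⟨algebraMap A D, hle0⟩
  have hφ : ∀ a, φ (algebraMap A k a) = algebraMap A D a := fun a =>
    RingHom.liftOfRightInverse_comp_apply _ _ _ ⟨algebraMap A D, hle0⟩ a
  let _ : Algebra k D := φ.toAlgebra
  have _ : IsScalarTower A k D := IsScalarTower.of_algebraMap_eq (fun a => (hφ a).symm)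
  -- `g` factors through `F`
  have hle : RingHom.ker (IsScalarTower.toAlgHom A B F).toRingHom ≤ RingHom.ker g.toRingHom := by
    have : RingHom.ker (IsScalarTower.toAlgHom A B F).toRingHom ≤ m.map (algebraMap A B) := hFm
    refine this.trans ?_
    rw [Ideal.map_le_iff_le_comap]
    intro a ha
    rw [Ideal.mem_comap, RingHom.mem_ker]
    change g (algebraMap A B a) = 0
    rw [g.commutes, IsScalarTower.algebraMap_apply A D (D ⧸ N), hD a ha, map_zero]
  let gA : F →ₐ[A] D ⧸ N := AlgHom.liftOfSurjective (IsScalarTower.toAlgHom A B F) hF g hle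
  have hgA : ∀ b, gA (algebraMap B F b) = g b := fun b =>
    AlgHom.liftOfSurjective_apply (IsScalarTower.toAlgHom A B F) hF g hle b
  let gk : F →ₐ[k] D ⧸ N :=
    { gA.toRingHom with
      commutes' := fun c => by
        obtain ⟨a, rfl⟩ := hk c
        change gA (algebraMap k F (algebraMap A k a)) = algebraMap k (D ⧸ N) (algebraMap A k a)
        rw [← IsScalarTower.algebraMap_apply A k F, ← IsScalarTower.algebraMap_apply A k (D ⧸ N),
          gA.commutes] }
  have hgk : ∀ b, gk (algebraMap B F b) = g b := hgA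
  obtain ⟨χ, hχ⟩ := h D N hN gk ⟨s, fun x hx => by
    have hx' : x ∈ (𝔟 ^ s).map (algebraMap B F) := by
      rw [Ideal.map_pow]
      exact Ideal.pow_right_mono h𝔫 s hx
    rw [Ideal.mem_map_iff_of_surjective _ hF] at hx'
    obtain ⟨b, hb, rfl⟩ := hx'
    rw [hgk]
    exact hs b hb⟩
  have hχ' : ∀ y, Ideal.Quotient.mk N (χ y) = gk y := fun y => AlgHom.congr_fun hχ y
  refine ⟨(χ.restrictScalars A).comp (IsScalarTower.toAlgHom A B F), ?_⟩
  ext b
  change Ideal.Quotient.mk N (χ (algebraMap B F b)) = g b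
  rw [hχ', hgk]

/-- **Flat + adically formally smooth fibre ⇒ adically formally smooth** (fibre form). -/
theorem isAdicFormallySmooth_of_flat_of_fibre [Module.Flat A B] [IsNoetherianRing F]
    (hk : Function.Surjective (algebraMap A k))
    (hkm : RingHom.ker (algebraMap A k) ≤ m)
    (hF : Function.Surjective (algebraMap B F))
    (hFm : RingHom.ker (algebraMap B F) = m.map (algebraMap A B))
    {𝔫 : Ideal F} (h𝔫 : 𝔫 ≤ 𝔟.map (algebraMap B F))
    (h𝔟 : m.map (algebraMap A B) ≤ 𝔟)
    (h : CAlgX.IsAdicFormallySmooth k F 𝔫) : CAlgX.IsAdicFormallySmooth A B 𝔟 := by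
  have _ : IsNoetherianRing (B ⧸ m.map (algebraMap A B)) := by
    have e : (B ⧸ RingHom.ker (algebraMap B F)) ≃+* F :=
      RingHom.quotientKerEquivOfSurjective hF
    rw [hFm] at e
    exact isNoetherianRing_of_ringEquiv F e.symm
  exact isAdicFormallySmooth_of_flat (liftKilledAdic_of_fibre hk hkm hF hFm.le h𝔫 h) h𝔟

end bridge

section tensor

open TensorProduct

variable {A : Type u} [CommRing A] {k : Type u} [CommRing k] [Algebra A k]
  (B : Type u) [CommRing B] [Algebra A B]

/-- For `A → k` surjective, the kernel of `B → k ⊗[A] B` is `ker (A → k) · B`. -/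
theorem ker_includeRight_of_surjective (hk : Function.Surjective (algebraMap A k)) :
    RingHom.ker (Algebra.TensorProduct.includeRight : B →ₐ[A] k ⊗[A] B).toRingHom =
      (RingHom.ker (algebraMap A k)).map (algebraMap A B) := by
  set I : Ideal A := RingHom.ker (algebraMap A k) with hI
  let e : (A ⧸ I) ≃ₐ[A] k := Ideal.quotientKerAlgEquivOfSurjective (f := Algebra.ofId A k) hk
  have he1 : e 1 = 1 := map_one e
  ext b
  rw [RingHom.mem_ker]
  change (1 : k) ⊗ₜ[A] b = 0 ↔ _
  have h1 : (1 : k) ⊗ₜ[A] b = (LinearEquiv.rTensor B e.toLinearEquiv) ((1 : A ⧸ I) ⊗ₜ[A] b) := by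
    rw [LinearEquiv.rTensor_tmul]
    change _ = e 1 ⊗ₜ[A] b
    rw [he1]
  rw [h1, LinearEquiv.map_eq_zero_iff]
  have h2 : ((1 : A ⧸ I) ⊗ₜ[A] b = 0) ↔ b ∈ LinearMap.ker (TensorProduct.mk A (A ⧸ I) B 1) := by
    rw [LinearMap.mem_ker]; rfl
  rw [h2, LinearMap.ker_tensorProductMk]
  have h3 : (I • ⊤ : Submodule A B) = (I.map (algebraMap A B)).restrictScalars A :=
    Ideal.smul_top_eq_map I
  rw [h3]
  rfl

variable {B}

/-- From a surjection `ρ : B → B₀` with kernel `m B` to the isomorphism `k ⊗_A B ≅ B₀`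
(`A → k` surjective with kernel `m`). -/
theorem nonempty_tensor_algEquiv {B₀ : Type u} [CommRing B₀] [Algebra k B₀]
    (hk : Function.Surjective (algebraMap A k)) (ρ : B →+* B₀)
    (hρ : Function.Surjective ρ)
    (hker : RingHom.ker ρ = (RingHom.ker (algebraMap A k)).map (algebraMap A B))
    (hcomp : ∀ a : A, ρ (algebraMap A B a) = algebraMap k B₀ (algebraMap A k a)) :
    Nonempty (k ⊗[A] B ≃ₐ[k] B₀) := by
  let _ : Algebra A B₀ := ((algebraMap k B₀).comp (algebraMap A k)).toAlgebra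
  have _ : IsScalarTower A k B₀ := IsScalarTower.of_algebraMap_eq (fun _ => rfl)
  let ρa : B →ₐ[A] B₀ := { ρ with commutes' := fun a => hcomp a }
  let g : k ⊗[A] B →ₐ[k] B₀ :=
    Algebra.TensorProduct.lift (Algebra.ofId k B₀) ρa (fun _ _ => Commute.all _ _)
  have hg : ∀ b : B, g (1 ⊗ₜ b) = ρ b := by
    intro b
    show g ((1 : k) ⊗ₜ[A] b) = ρ b
    rw [Algebra.TensorProduct.lift_tmul, map_one, one_mul]
    rfl
  have hone : ∀ t : k ⊗[A] B, ∃ b : B, t = 1 ⊗ₜ b := fun t => by
    obtain ⟨b, hb⟩ := Algebra.TensorProduct.includeRight_surjective (R := A) (S := k) B hk t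
    exact ⟨b, hb.symm⟩
  refine ⟨AlgEquiv.ofBijective g ⟨?_, ?_⟩⟩
  · rw [injective_iff_map_eq_zero]
    intro t ht
    obtain ⟨b, rfl⟩ := hone t
    rw [hg] at ht
    have hb : b ∈ RingHom.ker ρ := RingHom.mem_ker.mpr ht
    rw [hker, ← ker_includeRight_of_surjective B hk] at hb
    exact (RingHom.mem_ker (f := (Algebra.TensorProduct.includeRight :
      B →ₐ[A] k ⊗[A] B).toRingHom)).mp hb
  · intro y
    obtain ⟨b, rfl⟩ := hρ y
    exact ⟨1 ⊗ₜ b, hg b⟩

end tensor

end Groth.Agent.Lib.FSFibre
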