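import Mathlib
import Groth.Prelude.Def_CAlgX
import Groth.Agent.Lib.AdicClosed
import Groth.Agent.Lib.AdicPi

/-!
# Splitting of discrete square-zero extensions of adically formally smooth algebras (helper89)

* `exists_pow_inf_ker_eq_bot` (Artin–Rees): `π : E → Q` a surjection onto a Noetherian ring, `n` an
  ideal of `Q`, `𝔡 = π⁻¹(n)`; if `𝔡^r` kills `ker π` then `𝔡^s ∩ ker π = 0` for large `s`.
* `exists_section`: if moreover `Q` is `n`-adically formally smooth over `k` and `(ker π)² = 0`,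
  then `π` has a `k`-algebra section.  (Matsumura 28.? / EGA 0_IV 19.4: for an adically formally
  smooth algebra, extensions by discrete modules split.)
-/

set_option autoImplicit false
universe u

namespace Groth.Agent.Lib.FSSplit

theorem exists_pow_inf_ker_eq_bot {Q E : Type*} [CommRing Q] [CommRing E] [IsNoetherianRing Q]
    (n : Ideal Q) (π : E →+* Q) (hπ : Function.Surjective π) (r : ℕ)
    (hr : (n.comap π) ^ r * RingHom.ker π = ⊥) :
    ∃ s : ℕ, (n.comap π) ^ s ⊓ RingHom.ker π = ⊥ := by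
  classical
  set K := RingHom.ker π with hK
  set 𝔡 := n.comap π with h𝔡
  have hK𝔡 : K ≤ 𝔡 := by
    intro x hx
    rw [h𝔡, Ideal.mem_comap, (RingHom.mem_ker).mp hx]
    exact n.zero_mem
  obtain ⟨t, a, ha⟩ := (Submodule.fg_iff_exists_fin_generating_family).1
    (IsNoetherian.noetherian n)
  have ha' : Ideal.span (Set.range a) = n := ha
  choose a' ha'' using fun i => hπ (a i)
  set 𝔞 := Ideal.span (Set.range a') with h𝔞
  have h𝔞map : 𝔞.map π = n := by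
    rw [h𝔞, Ideal.map_span, ← Set.range_comp, ← ha']
    congr 2
    funext i
    exact ha'' i
  have h𝔡eq : 𝔡 = 𝔞 ⊔ K := by
    rw [h𝔡, ← h𝔞map, Ideal.comap_map_of_surjective π hπ, hK, RingHom.ker_eq_comap_bot]
  have h𝔞𝔡 : 𝔞 ≤ 𝔡 := h𝔡eq ▸ le_sup_left
  have hKd : ∀ t, r ≤ t → K * 𝔡 ^ t = ⊥ := by
    intro t ht
    rw [eq_bot_iff, ← hr, mul_comm]
    exact Ideal.mul_mono_left (Ideal.pow_le_pow_right ht)
  have hexp : ∀ t, 𝔡 ^ (t + 1) ≤ 𝔞 ^ (t + 1) ⊔ K * 𝔡 ^ t := by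
    intro t
    induction t with
    | zero =>
      rw [zero_add, pow_one, pow_one, pow_zero, Ideal.one_eq_top, Ideal.mul_top, ← h𝔡eq]
    | succ t ih =>
      have hX : 𝔞 ^ (t + 1) ⊔ K * 𝔡 ^ t ≤ 𝔡 ^ (t + 1) := by
        rw [sup_le_iff]
        refine ⟨Ideal.pow_right_mono h𝔞𝔡 _, ?_⟩
        rw [pow_succ']
        exact Ideal.mul_mono_left hK𝔡
      calc 𝔡 ^ (t + 1 + 1) = 𝔡 * 𝔡 ^ (t + 1) := pow_succ' _ _
        _ ≤ (𝔞 ⊔ K) * (𝔞 ^ (t + 1) ⊔ K * 𝔡 ^ t) := by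
            rw [← h𝔡eq]
            exact Ideal.mul_mono_right ih
        _ ≤ 𝔞 ^ (t + 1 + 1) ⊔ K * 𝔡 ^ (t + 1) := by
            rw [Ideal.sup_mul, sup_le_iff]
            constructor
            · rw [Ideal.mul_sup, sup_le_iff]
              constructor
              · rw [← pow_succ']
                exact le_sup_left
              · refine le_sup_of_le_right ?_
                rw [← mul_assoc, mul_comm 𝔞 K, mul_assoc, pow_succ' 𝔡 t]
                exact Ideal.mul_mono_right (Ideal.mul_mono_left h𝔞𝔡)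
            · exact le_sup_of_le_right (Ideal.mul_mono_right hX)
  -- generators of `𝔞 ^ r`
  have hfg : (𝔞 ^ r).FG := Ideal.FG.pow ⟨(Finset.univ.image a'), by simp [h𝔞]⟩
  obtain ⟨w, g, hg⟩ := (Submodule.fg_iff_exists_fin_generating_family).1 hfg
  have hg' : Ideal.span (Set.range g) = 𝔞 ^ r := hg
  have hgmem : ∀ i, g i ∈ 𝔡 ^ r := fun i =>
    Ideal.pow_right_mono h𝔞𝔡 r (hg' ▸ Ideal.subset_span ⟨i, rfl⟩)
  have hKd0 : ∀ κ ∈ K, ∀ x ∈ 𝔡 ^ r, κ * x = 0 := by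
    intro κ hκ x hx
    have : κ * x ∈ K * 𝔡 ^ r := Ideal.mul_mem_mul hκ hx
    rwa [hKd r le_rfl, Ideal.mem_bot] at this
  -- syzygies
  let L : (Fin w → Q) →ₗ[Q] Q := Fintype.linearCombination Q (fun i => π (g i))
  have hL : ∀ v, L v = ∑ i, v i * π (g i) := by
    intro v
    simp [L, Fintype.linearCombination_apply]
  obtain ⟨c, hc⟩ := Ideal.exists_pow_inf_eq_pow_smul n (LinearMap.ker L)
  have key : ∀ j, c + r ≤ j → ∀ v ∈ (n ^ (j - c) • (n ^ c • ⊤ ⊓ LinearMap.ker L) :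
      Submodule Q (Fin w → Q)),
      ∀ y : Fin w → E, (∀ i, π (y i) = v i) → ∑ i, y i * g i = 0 := by
    intro j hj v hv
    refine Submodule.smul_induction_on hv ?_ ?_
    · intro ν hν z hz y hy
      obtain ⟨ν', hν'mem, hν'⟩ : ∃ ν' ∈ 𝔡 ^ (j - c), π ν' = ν := by
        have : ν ∈ (𝔡 ^ (j - c)).map π := by
          rw [Ideal.map_pow, h𝔡, Ideal.map_comap_of_surjective π hπ]
          exact hν
        exact (Ideal.mem_map_iff_of_surjective π hπ).mp this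
      have hν'r : ν' ∈ 𝔡 ^ r := Ideal.pow_le_pow_right (by omega) hν'mem
      choose z' hz' using fun i => hπ (z i)
      have hzL : L z = 0 := hz.2
      have hw : ∑ i, z' i * g i ∈ K := by
        rw [hK, RingHom.mem_ker, map_sum, ← hzL, hL]
        refine Finset.sum_congr rfl fun i _ => ?_
        rw [map_mul, hz']
      have h1 : ∀ i, y i - ν' * z' i ∈ K := by
        intro i
        rw [hK, RingHom.mem_ker, map_sub, map_mul, hy, hν', hz', Pi.smul_apply, smul_eq_mul,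
          sub_self]
      have e1 : ∑ i, y i * g i = ν' * ∑ i, z' i * g i + ∑ i, (y i - ν' * z' i) * g i := by
        rw [Finset.mul_sum, ← Finset.sum_add_distrib]
        refine Finset.sum_congr rfl fun i _ => ?_
        ring
      rw [e1, mul_comm ν', hKd0 _ hw _ hν'r, zero_add]
      refine Finset.sum_eq_zero fun i _ => ?_
      exact hKd0 _ (h1 i) _ (hgmem i)
    · intro v₁ v₂ h₁ h₂ y hy
      choose y₁ hy₁ using fun i => hπ (v₁ i)
      have e1 := h₁ y₁ hy₁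
      have e2 := h₂ (fun i => y i - y₁ i) (by
        intro i
        rw [map_sub, hy, hy₁, Pi.add_apply, add_sub_cancel_left])
      have e3 : ∑ i, y i * g i = ∑ i, y₁ i * g i + ∑ i, (y i - y₁ i) * g i := by
        rw [← Finset.sum_add_distrib]
        refine Finset.sum_congr rfl fun i _ => ?_
        ring
      rw [e3, e1, e2, add_zero]
  refine ⟨r + (c + r + 1), ?_⟩
  rw [eq_bot_iff]
  rintro x ⟨hx𝔡, hxK⟩
  rw [Ideal.mem_bot]
  have hx𝔞 : x ∈ 𝔞 ^ (r + (c + r + 1)) := by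
    have h1 := hexp (r + (c + r)) hx𝔡
    rw [hKd _ (by omega), sup_bot_eq] at h1
    exact h1
  rw [pow_add, ← hg', ← smul_eq_mul] at hx𝔞
  obtain ⟨y, hy, rfl⟩ := (Groth.Agent.Lib.AdicClosed.mem_span_range_smul_iff g
    (𝔞 ^ (c + r + 1) : Ideal E) x).mp hx𝔞
  have hyn : ∀ i, π (y i) ∈ n ^ (c + r + 1) := by
    intro i
    have h1 : π (y i) ∈ (𝔡 ^ (c + r + 1)).map π :=
      Ideal.mem_map_of_mem π (Ideal.pow_right_mono h𝔞𝔡 _ (hy i))
    rwa [Ideal.map_pow, h𝔡, Ideal.map_comap_of_surjective π hπ] at h1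
  have hv : (fun i => π (y i)) ∈ (n ^ (c + r + 1) • ⊤ ⊓ LinearMap.ker L :
      Submodule Q (Fin w → Q)) := by
    refine ⟨(Groth.Agent.Lib.AdicPi.mem_smul_top_pi_iff _ _ _).mpr hyn, ?_⟩
    show L (fun i => π (y i)) = 0
    rw [hL]
    have h2 : π (∑ j, g j • y j) = 0 := (RingHom.mem_ker).mp hxK
    rw [map_sum] at h2
    rw [← h2]
    refine Finset.sum_congr rfl fun i _ => ?_
    rw [smul_eq_mul, map_mul, mul_comm]
  rw [hc (c + r + 1) (by omega)] at hv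
  have := key (c + r + 1) (by omega) _ hv y (fun i => rfl)
  rw [← this]
  refine Finset.sum_congr rfl fun i _ => ?_
  rw [smul_eq_mul, mul_comm]

/-- Splitting of square-zero extensions with discrete kernel, relative to test objects killed by an
ideal `m` of the base. -/
theorem exists_section_of_killed {k Q E : Type u} [CommRing k] [CommRing Q] [CommRing E]
    [Algebra k Q] [Algebra k E] [IsNoetherianRing Q] (n : Ideal Q) (m : Ideal k)
    (hfs : ∀ (D : Type u) [CommRing D] [Algebra k D] (N : Ideal D), N ^ 2 = ⊥ →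
      (∀ a ∈ m, algebraMap k D a = 0) → ∀ ψ : Q →ₐ[k] D ⧸ N, (∃ s : ℕ, ∀ x ∈ n ^ s, ψ x = 0) →
        ∃ χ : Q →ₐ[k] D, (Ideal.Quotient.mkₐ k N).comp χ = ψ)
    (hE : ∀ a ∈ m, algebraMap k E a = 0)
    (π : E →ₐ[k] Q) (hπ : Function.Surjective π) (hK2 : RingHom.ker π.toRingHom ^ 2 = ⊥)
    (r : ℕ) (hr : (n.comap π.toRingHom) ^ r * RingHom.ker π.toRingHom = ⊥) :
    ∃ φ : Q →ₐ[k] E, π.comp φ = AlgHom.id k Q := by
  obtain ⟨s, hs⟩ := exists_pow_inf_ker_eq_bot n π.toRingHom hπ r hr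
  set K := RingHom.ker π.toRingHom with hK
  set 𝔡 := n.comap π.toRingHom with h𝔡
  let N : Ideal (E ⧸ 𝔡 ^ s) := K.map (Ideal.Quotient.mk (𝔡 ^ s))
  have hN2 : N ^ 2 = ⊥ := by rw [← Ideal.map_pow, hK2, Ideal.map_bot]
  let f : E →ₐ[k] (E ⧸ 𝔡 ^ s) ⧸ N :=
    (Ideal.Quotient.mkₐ k N).comp (Ideal.Quotient.mkₐ k (𝔡 ^ s))
  have hfe : ∀ e, f e = Ideal.Quotient.mk N (Ideal.Quotient.mk (𝔡 ^ s) e) := fun e => rfl
  have hf : RingHom.ker π.toRingHom ≤ RingHom.ker f.toRingHom := by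
    intro x hx
    rw [RingHom.mem_ker]
    show f x = 0
    rw [hfe, Ideal.Quotient.eq_zero_iff_mem]
    exact Ideal.mem_map_of_mem _ hx
  let ψ : Q →ₐ[k] (E ⧸ 𝔡 ^ s) ⧸ N := AlgHom.liftOfSurjective π hπ f hf
  have hψ : ∀ e, ψ (π e) = Ideal.Quotient.mk N (Ideal.Quotient.mk (𝔡 ^ s) e) := fun e =>
    AlgHom.liftOfSurjective_apply π hπ f hf e
  have hψkill : ∀ q ∈ n ^ s, ψ q = 0 := by
    intro q hq
    have h1 : q ∈ (𝔡 ^ s).map π.toRingHom := by
      rw [Ideal.map_pow, h𝔡, Ideal.map_comap_of_surjective π.toRingHom hπ]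
      exact hq
    obtain ⟨e, he, rfl⟩ := (Ideal.mem_map_iff_of_surjective π.toRingHom hπ).mp h1
    show ψ (π e) = 0
    rw [hψ, Ideal.Quotient.eq_zero_iff_mem.mpr he, map_zero]
  have hD : ∀ a ∈ m, algebraMap k (E ⧸ 𝔡 ^ s) a = 0 := by
    intro a ha
    have h1 : algebraMap k (E ⧸ 𝔡 ^ s) a = Ideal.Quotient.mk (𝔡 ^ s) (algebraMap k E a) := rfl
    rw [h1, hE a ha, map_zero]
  obtain ⟨χ, hχ⟩ := hfs (E ⧸ 𝔡 ^ s) N hN2 hD ψ ⟨s, hψkill⟩
  have hχ' : ∀ q, Ideal.Quotient.mk N (χ q) = ψ q := fun q => AlgHom.congr_fun hχ q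
  let Φ : E →ₐ[k] (E ⧸ 𝔡 ^ s) × Q := AlgHom.prod (Ideal.Quotient.mkₐ k (𝔡 ^ s)) π
  have hΦ : ∀ e, Φ e = (Ideal.Quotient.mk (𝔡 ^ s) e, π e) := fun e => rfl
  have hΦinj : Function.Injective Φ := by
    rw [injective_iff_map_eq_zero]
    intro e he
    rw [hΦ] at he
    have h1 : Ideal.Quotient.mk (𝔡 ^ s) e = 0 := congrArg Prod.fst he
    have h2 : π e = 0 := congrArg Prod.snd he
    have h3 : e ∈ 𝔡 ^ s ⊓ K := ⟨Ideal.Quotient.eq_zero_iff_mem.mp h1, h2⟩
    rwa [hs, Ideal.mem_bot] at h3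
  have hrange : ∀ q, ∃ e, Φ e = (χ q, q) := by
    intro q
    obtain ⟨e₀, rfl⟩ := hπ q
    have h1 : Ideal.Quotient.mk N (χ (π e₀) - Ideal.Quotient.mk (𝔡 ^ s) e₀) = 0 := by
      rw [map_sub, hχ', hψ, sub_self]
    have h2 : χ (π e₀) - Ideal.Quotient.mk (𝔡 ^ s) e₀ ∈ N :=
      Ideal.Quotient.eq_zero_iff_mem.mp h1
    obtain ⟨j, hj, hj'⟩ :=
      (Ideal.mem_map_iff_of_surjective _ Ideal.Quotient.mk_surjective).mp h2
    refine ⟨e₀ + j, ?_⟩
    rw [hΦ]
    refine Prod.ext ?_ ?_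
    · show Ideal.Quotient.mk (𝔡 ^ s) (e₀ + j) = χ (π e₀)
      rw [map_add, hj']
      ring
    · show π (e₀ + j) = π e₀
      have hj0 : π j = 0 := (RingHom.mem_ker).mp hj
      rw [map_add, hj0, add_zero]
  choose φ₀ hφ₀ using hrange
  let φ : Q →ₐ[k] E :=
    { toFun := φ₀
      map_one' := hΦinj (by rw [hφ₀, map_one, map_one]; rfl)
      map_mul' := fun a b => hΦinj (by
        rw [map_mul Φ (φ₀ a) (φ₀ b), hφ₀, hφ₀, hφ₀, map_mul]
        rfl)
      map_zero' := hΦinj (by rw [hφ₀, map_zero, map_zero]; rfl)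
      map_add' := fun a b => hΦinj (by
        rw [map_add Φ (φ₀ a) (φ₀ b), hφ₀, hφ₀, hφ₀, map_add]
        rfl)
      commutes' := fun c => hΦinj (by
        rw [hφ₀, AlgHom.commutes, AlgHom.commutes]
        rfl) }
  refine ⟨φ, AlgHom.ext fun q => ?_⟩
  have h1 := congrArg Prod.snd (hφ₀ q)
  rw [hΦ] at h1
  exact h1

/-- An adically formally smooth Noetherian algebra splits every square-zero extension whose
kernel is killed by a power of the ideal of definition. -/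
theorem exists_section {k Q E : Type u} [CommRing k] [CommRing Q] [CommRing E] [Algebra k Q]
    [Algebra k E] [IsNoetherianRing Q] (n : Ideal Q) (hfs : CAlgX.IsAdicFormallySmooth k Q n)
    (π : E →ₐ[k] Q) (hπ : Function.Surjective π) (hK2 : RingHom.ker π.toRingHom ^ 2 = ⊥)
    (r : ℕ) (hr : (n.comap π.toRingHom) ^ r * RingHom.ker π.toRingHom = ⊥) :
    ∃ φ : Q →ₐ[k] E, π.comp φ = AlgHom.id k Q :=
  exists_section_of_killed n ⊥ (fun D _ _ N hN _ ψ hψ => hfs D N hN ψ hψ)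
    (fun a ha => by rw [Ideal.mem_bot.mp ha, map_zero]) π hπ hK2 r hr

end Groth.Agent.Lib.FSSplit
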