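import Groth.Agent.Lib.CohenSmooth
import Groth.Agent.Lib.FSSplit

/-!
# Flat algebras with adically formally smooth fibre are adically formally smooth (helper89)

EGA 0_IV 19.7.1 (a) ⇒ (b) / Matsumura 28.10, adic version.  `A` a ring, `m` an ideal, `B` a flat
`A`-algebra, `𝔟 ⊇ m B` an ideal of `B` with `B / m B` Noetherian.

* `LiftKilledAdic m B 𝔟`: maps from `B` into square-zero quotients of `A`-algebras killed by `m`
  which kill a power of `𝔟` lift ("`B / m B` is `𝔟`-adically formally smooth over `A / m`");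
* `isAdicFormallySmooth_of_flat`: then `B` is `𝔟`-adically formally smooth over `A`
  (`CAlgX.IsAdicFormallySmooth A B 𝔟`).
-/

set_option autoImplicit false
universe u

namespace Groth.Agent.Lib.FSFibre

open Groth.Agent.Lib.CohenSmooth

variable {A : Type u} [CommRing A]

/-- Adic version of `LiftKilled`. -/
def LiftKilledAdic (m : Ideal A) (B : Type u) [CommRing B] [Algebra A B] (𝔟 : Ideal B) : Prop :=
  ∀ (D : Type u) [CommRing D] [Algebra A D] (N : Ideal D), N ^ 2 = ⊥ →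
    (∀ a ∈ m, algebraMap A D a = 0) →
    ∀ g : B →ₐ[A] D ⧸ N, (∃ k : ℕ, ∀ x ∈ 𝔟 ^ k, g x = 0) →
      ∃ g' : B →ₐ[A] D, (Ideal.Quotient.mkₐ A N).comp g' = g

variable {m : Ideal A} {B : Type u} [CommRing B] [Algebra A B] {𝔟 : Ideal B}

/-- The lifting property descends to `B / m B`. -/
theorem LiftKilledAdic.quotient (hK : LiftKilledAdic m B 𝔟)
    (D : Type u) [CommRing D] [Algebra A D] (N : Ideal D) (hN : N ^ 2 = ⊥)
    (hD : ∀ a ∈ m, algebraMap A D a = 0)
    (ψ : (B ⧸ m.map (algebraMap A B)) →ₐ[A] D ⧸ N)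
    (hψ : ∃ s : ℕ, ∀ x ∈ (𝔟.map (Ideal.Quotient.mk (m.map (algebraMap A B)))) ^ s, ψ x = 0) :
    ∃ χ : (B ⧸ m.map (algebraMap A B)) →ₐ[A] D, (Ideal.Quotient.mkₐ A N).comp χ = ψ := by
  obtain ⟨s, hs⟩ := hψ
  obtain ⟨g', hg'⟩ := hK D N hN hD (ψ.comp (Ideal.Quotient.mkₐ A (m.map (algebraMap A B))))
    ⟨s, fun x hx => by
      show ψ (Ideal.Quotient.mk _ x) = 0
      apply hs
      rw [← Ideal.map_pow]
      exact Ideal.mem_map_of_mem _ hx⟩
  have hg'b : ∀ b, Ideal.Quotient.mk N (g' b) = ψ (Ideal.Quotient.mk _ b) := fun b =>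
    AlgHom.congr_fun hg' b
  have hker : ∀ b ∈ m.map (algebraMap A B), g' b = 0 := by
    intro b hb
    have hb' : b ∈ (m • ⊤ : Submodule A B) := by rwa [Ideal.smul_top_eq_map]
    refine Submodule.smul_induction_on hb' (fun a ha b' _ => ?_) (fun x y hx hy => ?_)
    · rw [map_smul, Algebra.smul_def, hD a ha, zero_mul]
    · rw [map_add, hx, hy, add_zero]
  refine ⟨Ideal.Quotient.liftₐ (m.map (algebraMap A B)) g' hker, AlgHom.ext fun x => ?_⟩
  obtain ⟨b, rfl⟩ := Ideal.Quotient.mk_surjective x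
  exact hg'b b

section step

variable {C : Type u} [CommRing C] [Algebra A C] (J : Ideal C) (u : B →ₐ[A] C ⧸ J)

/-- One step: lifting along a square-zero ideal killed by `m`. -/
theorem exists_lift_of_smul_eq_zero [Module.Flat A B]
    [IsNoetherianRing (B ⧸ m.map (algebraMap A B))]
    (hK : LiftKilledAdic m B 𝔟) (h𝔟 : m.map (algebraMap A B) ≤ 𝔟) (hJ2 : J ^ 2 = ⊥)
    (hmJ : ∀ a ∈ m, ∀ j ∈ J, algebraMap A C a * j = 0)
    (hu : ∃ r : ℕ, ∀ x ∈ 𝔟 ^ r, u x = 0) :
    ∃ v : B →ₐ[A] C, (Ideal.Quotient.mkₐ A J).comp v = u := by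
  classical
  obtain ⟨r, hr⟩ := hu
  -- the section of `prBar`
  have hsplit : ∃ φ : (B ⧸ m.map (algebraMap A B)) →ₐ[A] Fib J u ⧸ fibI m J u,
      (prBar m J u).comp φ = AlgHom.id A _ := by
    refine Groth.Agent.Lib.FSSplit.exists_section_of_killed
      (𝔟.map (Ideal.Quotient.mk (m.map (algebraMap A B)))) m
      (fun D _ _ N hN hD ψ hψ => hK.quotient D N hN hD ψ hψ)
      (fun a ha => algebraMap_fibQuot_eq_zero J u ha) (prBar m J u) (prBar_surjective J u)
      (ker_prBar_sq J u hJ2) r ?_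
    rw [eq_bot_iff, Ideal.mul_le]
    intro x hx κ hκ
    rw [Ideal.mem_bot]
    -- `x` comes from an element of the fibre product whose first component lies in `𝔟 ^ r`
    have hcomap : ((𝔟.map (Ideal.Quotient.mk (m.map (algebraMap A B)))).comap
        (prBar m J u).toRingHom) ≤
        ((𝔟.comap (pr₁ J u).toRingHom).map (Ideal.Quotient.mk (fibI m J u))) := by
      intro y hy
      obtain ⟨e, rfl⟩ := Ideal.Quotient.mk_surjective y
      rw [Ideal.mem_comap] at hy
      have hy' : Ideal.Quotient.mk (m.map (algebraMap A B)) (pr₁ J u e) ∈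
          𝔟.map (Ideal.Quotient.mk (m.map (algebraMap A B))) := hy
      obtain ⟨b, hb, hb'⟩ :=
        (Ideal.mem_map_iff_of_surjective _ Ideal.Quotient.mk_surjective).mp hy'
      have h1 : pr₁ J u e - b ∈ m.map (algebraMap A B) := by
        rw [← Ideal.Quotient.eq, hb']
      have h2 : pr₁ J u e ∈ 𝔟 := by
        have : pr₁ J u e = (pr₁ J u e - b) + b := by ring
        rw [this]
        exact 𝔟.add_mem (h𝔟 h1) hb
      exact Ideal.mem_map_of_mem _ h2
    have hx' : x ∈ ((𝔟.comap (pr₁ J u).toRingHom) ^ r).map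
        (Ideal.Quotient.mk (fibI m J u)) := by
      rw [Ideal.map_pow]
      exact Ideal.pow_right_mono hcomap r hx
    obtain ⟨d, hd, rfl⟩ :=
      (Ideal.mem_map_iff_of_surjective _ Ideal.Quotient.mk_surjective).mp hx'
    have hd1 : pr₁ J u d ∈ 𝔟 ^ r := by
      have := Ideal.le_comap_pow (pr₁ J u).toRingHom r hd
      exact this
    have hd2 : pr₂ J u d ∈ J := by
      have h1 := fib_spec J u d
      rw [hr _ hd1] at h1
      exact Ideal.Quotient.eq_zero_iff_mem.mp h1.symm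
    obtain ⟨ν, hν, rfl⟩ := exists_of_prBar_eq_zero J u hκ
    rw [← map_mul]
    have h0 : d * ν = 0 := by
      apply fib_ext
      · rw [map_mul, hν, mul_zero, map_zero]
      · rw [map_mul, map_zero]
        have : pr₂ J u d * pr₂ J u ν ∈ J ^ 2 := by
          rw [pow_two]
          exact Ideal.mul_mem_mul hd2 (pr₂_mem J u hν)
        rw [hJ2] at this
        exact this
    rw [h0, map_zero]
  obtain ⟨φ, hφ⟩ := hsplit
  let g' : B →ₐ[A] Fib J u ⧸ fibI m J u :=
    φ.comp (Ideal.Quotient.mkₐ A (m.map (algebraMap A B)))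
  have hg'b : ∀ b : B, prBar m J u (g' b) = Ideal.Quotient.mk _ b := fun b =>
    AlgHom.congr_fun hφ (Ideal.Quotient.mk _ b)
  have hg'0 : ∀ b ∈ (m • ⊤ : Submodule A B), g' b = 0 := by
    intro b hb
    refine Submodule.smul_induction_on hb (fun a ha b' _ => ?_) (fun x y hx hy => ?_)
    · rw [map_smul, Algebra.smul_def, algebraMap_fibQuot_eq_zero J u ha, zero_mul]
    · rw [map_add, hx, hy, add_zero]
  -- the subalgebra mapping isomorphically to `B`
  let E₁ : Subalgebra A (Fib J u) := g'.range.comap (Ideal.Quotient.mkₐ A (fibI m J u))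
  have hE₁ : ∀ e : Fib J u, e ∈ E₁ ↔ ∃ b, g' b = Ideal.Quotient.mk (fibI m J u) e :=
    fun e => Iff.rfl
  let φ₁ : E₁ →ₐ[A] B := (pr₁ J u).comp E₁.val
  have hφ₁ : ∀ e : E₁, φ₁ e = pr₁ J u (e : Fib J u) := fun e => rfl
  have hφinj : Function.Injective φ₁ := by
    rw [injective_iff_map_eq_zero]
    intro e he
    rw [hφ₁] at he
    obtain ⟨b, hb⟩ := (hE₁ e).mp e.2
    have h1 : Ideal.Quotient.mk (m.map (algebraMap A B)) b = 0 := by
      rw [← hg'b, hb, prBar_mk, he, map_zero]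
    have h2 : b ∈ (m • ⊤ : Submodule A B) := by
      rw [Ideal.smul_top_eq_map]
      exact Ideal.Quotient.eq_zero_iff_mem.mp h1
    have h3 : Ideal.Quotient.mk (fibI m J u) (e : Fib J u) = 0 := by rw [← hb, hg'0 b h2]
    have h4 : (e : Fib J u) ∈ (m • ⊤ : Submodule A (Fib J u)) :=
      (mem_fibI J u _).mp (Ideal.Quotient.eq_zero_iff_mem.mp h3)
    have h5 : (e : Fib J u) = 0 :=
      eq_zero_of_mem_smul_top (pr₁ J u).toLinearMap (pr₁_surjective J u) m
        (fun a ha n hn => smul_eq_zero_of_mem_ker J u hmJ ha hn) h4 he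
    exact Subtype.ext h5
  have hφsurj : Function.Surjective φ₁ := by
    intro b
    obtain ⟨e, rfl⟩ := pr₁_surjective J u b
    have h1 : prBar m J u (g' (pr₁ J u e) - Ideal.Quotient.mk _ e) = 0 := by
      rw [map_sub, hg'b, prBar_mk, sub_self]
    obtain ⟨n, hn, hn'⟩ := exists_of_prBar_eq_zero J u h1
    refine ⟨⟨e + n, (hE₁ _).mpr ⟨pr₁ J u e, ?_⟩⟩, ?_⟩
    · rw [map_add, hn']
      ring
    · rw [hφ₁]
      show pr₁ J u (e + n) = pr₁ J u e
      rw [map_add, hn, add_zero]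
  let ψ : E₁ ≃ₐ[A] B := AlgEquiv.ofBijective φ₁ ⟨hφinj, hφsurj⟩
  refine ⟨((pr₂ J u).comp E₁.val).comp ψ.symm.toAlgHom, AlgHom.ext fun b => ?_⟩
  have h1 : pr₁ J u ((ψ.symm b : E₁) : Fib J u) = b := ψ.apply_symm_apply b
  have h2 := fib_spec J u ((ψ.symm b : E₁) : Fib J u)
  rw [h1] at h2
  exact h2.symm

end step

/-- A lift through a square-zero ideal of a map killing `𝔟 ^ r` kills `𝔟 ^ (r + r)`. -/
theorem kills_pow_of_lift {C : Type u} [CommRing C] [Algebra A C] (J : Ideal C) (hJ2 : J ^ 2 = ⊥)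
    (v : B →ₐ[A] C) (r : ℕ) (h : ∀ x ∈ 𝔟 ^ r, Ideal.Quotient.mk J (v x) = 0) :
    ∀ x ∈ 𝔟 ^ (r + r), v x = 0 := by
  intro x hx
  rw [pow_add] at hx
  refine Submodule.mul_induction_on hx (fun y hy z hz => ?_) (fun y z hy hz => ?_)
  · rw [map_mul]
    have : v y * v z ∈ J ^ 2 := by
      rw [pow_two]
      exact Ideal.mul_mem_mul (Ideal.Quotient.eq_zero_iff_mem.mp (h y hy))
        (Ideal.Quotient.eq_zero_iff_mem.mp (h z hz))
    rwa [hJ2, Ideal.mem_bot] at this
  · rw [map_add, hy, hz, add_zero]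

/-- Lifting in two steps, keeping track of continuity. -/
theorem exists_lift_of_le {C : Type u} [CommRing C] [Algebra A C] (I J : Ideal C) (hIJ : I ≤ J)
    (hJ2 : J ^ 2 = ⊥)
    (h₁ : ∀ w : B →ₐ[A] C ⧸ I, (∃ r : ℕ, ∀ x ∈ 𝔟 ^ r, w x = 0) →
      ∃ v : B →ₐ[A] C, (Ideal.Quotient.mkₐ A I).comp v = w)
    (h₂ : ∀ w : B →ₐ[A] (C ⧸ I) ⧸ J.map (Ideal.Quotient.mk I),
      (∃ r : ℕ, ∀ x ∈ 𝔟 ^ r, w x = 0) →
      ∃ v : B →ₐ[A] C ⧸ I, (Ideal.Quotient.mkₐ A (J.map (Ideal.Quotient.mk I))).comp v = w)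
    (u : B →ₐ[A] C ⧸ J) (hu : ∃ r : ℕ, ∀ x ∈ 𝔟 ^ r, u x = 0) :
    ∃ v : B →ₐ[A] C, (Ideal.Quotient.mkₐ A J).comp v = u := by
  obtain ⟨r, hr⟩ := hu
  let this : ((C ⧸ I) ⧸ J.map (Ideal.Quotient.mk I)) ≃ₐ[A] C ⧸ J :=
    { (DoubleQuot.quotQuotEquivQuotSup I J).trans
        (Ideal.quotEquivOfEq (sup_eq_right.mpr hIJ)) with
      commutes' := fun x => rfl }
  obtain ⟨g', e⟩ := h₂ (this.symm.toAlgHom.comp u) ⟨r, fun x hx => by
    show this.symm (u x) = 0
    rw [hr x hx, map_zero]⟩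
  have hg' : ∀ x ∈ 𝔟 ^ r, Ideal.Quotient.mk (J.map (Ideal.Quotient.mk I)) (g' x) = 0 := by
    intro x hx
    have h1 : Ideal.Quotient.mk (J.map (Ideal.Quotient.mk I)) (g' x) = this.symm (u x) :=
      AlgHom.congr_fun e x
    rw [h1, hr x hx, map_zero]
  have hJ2' : (J.map (Ideal.Quotient.mk I)) ^ 2 = ⊥ := by
    rw [← Ideal.map_pow, hJ2, Ideal.map_bot]
  obtain ⟨g'', rfl⟩ := h₁ g' ⟨r + r, kills_pow_of_lift _ hJ2' g' r hg'⟩
  replace e := congr_arg this.toAlgHom.comp e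
  conv_rhs at e =>
    rw [← AlgHom.comp_assoc, AlgEquiv.comp_symm, AlgHom.id_comp]
  exact ⟨g'', e⟩

/-- Lifting along a square-zero ideal killed by a power of `m`. -/
theorem exists_lift_of_pow_smul_eq_zero [Module.Flat A B]
    [IsNoetherianRing (B ⧸ m.map (algebraMap A B))]
    (hK : LiftKilledAdic m B 𝔟) (h𝔟 : m.map (algebraMap A B) ≤ 𝔟) (n : ℕ) :
    ∀ {C : Type u} [CommRing C] [Algebra A C] (J : Ideal C), J ^ 2 = ⊥ →
      (∀ a ∈ m ^ n, ∀ j ∈ J, algebraMap A C a * j = 0) →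
      ∀ u : B →ₐ[A] C ⧸ J, (∃ r : ℕ, ∀ x ∈ 𝔟 ^ r, u x = 0) →
        ∃ v : B →ₐ[A] C, (Ideal.Quotient.mkₐ A J).comp v = u := by
  induction n with
  | zero =>
    intro C _ _ J hJ2 hmJ u hu
    refine exists_lift_of_smul_eq_zero J u hK h𝔟 hJ2 (fun a _ j hj => hmJ a ?_ j hj) hu
    rw [pow_zero, Ideal.one_eq_top]
    trivial
  | succ n ih =>
    intro C _ _ J hJ2 hmJ u hu
    have hIJ : m.map (algebraMap A C) * J ≤ J := Ideal.mul_le_right
    refine exists_lift_of_le (m.map (algebraMap A C) * J) J hIJ hJ2 ?_ ?_ u hu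
    · refine ih (m.map (algebraMap A C) * J) ?_ ?_
      · rw [eq_bot_iff, ← hJ2]
        exact Ideal.pow_right_mono hIJ 2
      · intro a ha x hx
        refine Submodule.mul_induction_on hx (fun y hy j hj => ?_) (fun x y hx hy => ?_)
        · have hy' : y ∈ (m • ⊤ : Submodule A C) := by
            rw [Ideal.smul_top_eq_map]
            exact hy
          refine Submodule.smul_induction_on hy' (fun a' ha' c _ => ?_) (fun x y hx hy => ?_)
          · have h1 : algebraMap A C a * (a' • c * j) =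
                c * (algebraMap A C (a * a') * j) := by
              rw [Algebra.smul_def, map_mul]
              ring
            rw [h1, hmJ (a * a') (by rw [pow_succ]; exact Ideal.mul_mem_mul ha ha') j hj, mul_zero]
          · rw [add_mul, mul_add, hx, hy, add_zero]
        · rw [mul_add, hx, hy, add_zero]
    · intro w hw
      refine exists_lift_of_smul_eq_zero (J.map (Ideal.Quotient.mk _)) w hK h𝔟 ?_ ?_ hw
      · rw [← Ideal.map_pow, hJ2, Ideal.map_bot]
      · intro a ha x hx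
        obtain ⟨j, hj, rfl⟩ :=
          (Ideal.mem_map_iff_of_surjective _ Ideal.Quotient.mk_surjective).mp hx
        have h1 : algebraMap A (C ⧸ m.map (algebraMap A C) * J) a =
            Ideal.Quotient.mk _ (algebraMap A C a) := rfl
        rw [h1, ← map_mul, Ideal.Quotient.eq_zero_iff_mem]
        exact Ideal.mul_mem_mul (Ideal.mem_map_of_mem _ ha) hj

/-- **EGA 0_IV 19.7.1, (a) ⇒ (b)**: a flat `A`-algebra `B` whose fibre `B / m B` is Noetherian and
`𝔟`-adically formally smooth over `A / m` is `𝔟`-adically formally smooth over `A`. -/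
theorem isAdicFormallySmooth_of_flat [Module.Flat A B]
    [IsNoetherianRing (B ⧸ m.map (algebraMap A B))]
    (hK : LiftKilledAdic m B 𝔟) (h𝔟 : m.map (algebraMap A B) ≤ 𝔟) :
    CAlgX.IsAdicFormallySmooth A B 𝔟 := by
  intro C _ _ J hJ ψ hψ
  obtain ⟨r, hr⟩ := hψ
  refine exists_lift_of_pow_smul_eq_zero hK h𝔟 r J hJ ?_ ψ ⟨r, hr⟩
  intro a ha j hj
  have h1 : algebraMap A C a ∈ J := by
    rw [← Ideal.Quotient.eq_zero_iff_mem]
    have h2 : Ideal.Quotient.mk J (algebraMap A C a) = ψ (algebraMap A B a) := by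
      rw [ψ.commutes]
      rfl
    rw [h2]
    apply hr
    have h3 : algebraMap A B a ∈ (m.map (algebraMap A B)) ^ r := by
      rw [← Ideal.map_pow]
      exact Ideal.mem_map_of_mem _ ha
    exact Ideal.pow_right_mono h𝔟 r h3
  have h4 : algebraMap A C a * j ∈ J ^ 2 := by
    rw [pow_two]
    exact Ideal.mul_mem_mul h1 hj
  rwa [hJ, Ideal.mem_bot] at h4

end Groth.Agent.Lib.FSFibre
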