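import Mathlib
import Groth.Agent.Lib.ComplMap
import Groth.Agent.Lib.FSFibre2
import Groth.Agent.Lib.ComplFlat
import Groth.Agent.Lib.AdicPi
import Groth.Agent.S2038

set_option autoImplicit false
set_option linter.unusedSectionVars false
universe u

namespace Groth.Agent.Lib.ComplCofinal89

open Groth.Agent.Lib.ComplMap

section Cofinal

variable {S : Type u} [CommRing S] (I K : Ideal S)

theorem pow_mul_le_pow (k : ℕ) (hk : K ^ (k + 1) ≤ I) (n : ℕ) : K ^ ((k + 1) * n) ≤ I ^ n := by
  rw [pow_mul]
  exact Ideal.pow_right_mono hk n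

theorem complMap_id_injective (k : ℕ) (hk : K ^ (k + 1) ≤ I)
    (h' : I.map (RingHom.id S) ≤ K) :
    Function.Injective (FSch.complMap I K (RingHom.id S) h') := by
  rw [injective_iff_map_eq_zero]
  intro x hx
  obtain ⟨t, rfl⟩ := AdicCompletion.mk_surjective I S x
  have h1 : ∀ n, t n ∈ K ^ n := by
    intro n
    have := congrArg (AdicCompletion.evalₐ K n) hx
    rw [evalₐ_complMap, map_zero] at this
    have e : AdicCompletion.evalₐ I n (AdicCompletion.mk I S t) = Ideal.Quotient.mk _ (t n) :=
      AdicCompletion.evalₐ_mk I n t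
    rw [e, Ideal.quotientMap_mk, RingHom.id_apply, Ideal.Quotient.eq_zero_iff_mem] at this
    exact this
  refine AdicCompletion.ext_evalₐ fun n => ?_
  have e : AdicCompletion.evalₐ I n (AdicCompletion.mk I S t) = Ideal.Quotient.mk _ (t n) :=
    AdicCompletion.evalₐ_mk I n t
  rw [e, map_zero, Ideal.Quotient.eq_zero_iff_mem]
  have h2 : t n - t ((k + 1) * n) ∈ I ^ n := by
    have := t.2 (show n ≤ (k + 1) * n by nlinarith)
    rw [SModEq.sub_mem] at this
    simpa using this
  have h3 : t ((k + 1) * n) ∈ I ^ n := pow_mul_le_pow I K k hk n (h1 _)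
  have : t n = (t n - t ((k + 1) * n)) + t ((k + 1) * n) := by ring
  rw [this]
  exact Ideal.add_mem _ h2 h3

theorem complMap_id_surjective (k : ℕ) (hk : K ^ (k + 1) ≤ I)
    (h' : I.map (RingHom.id S) ≤ K) :
    Function.Surjective (FSch.complMap I K (RingHom.id S) h') := by
  intro y
  obtain ⟨s, rfl⟩ := AdicCompletion.mk_surjective K S y
  have hle : ∀ n, n ≤ (k + 1) * n := fun n => by nlinarith
  let t : AdicCompletion.AdicCauchySequence I S :=
    ⟨fun n => s ((k + 1) * n), by
      intro m n hmn
      have := s.2 (show (k + 1) * m ≤ (k + 1) * n from Nat.mul_le_mul_left _ hmn)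
      rw [SModEq.sub_mem] at this ⊢
      have h2 : s ((k + 1) * m) - s ((k + 1) * n) ∈ K ^ ((k + 1) * m) := by simpa using this
      simpa using pow_mul_le_pow I K k hk m h2⟩
  refine ⟨AdicCompletion.mk I S t, ?_⟩
  refine AdicCompletion.ext_evalₐ fun n => ?_
  rw [evalₐ_complMap]
  have e1 : AdicCompletion.evalₐ I n (AdicCompletion.mk I S t) = Ideal.Quotient.mk _ (t n) :=
    AdicCompletion.evalₐ_mk I n t
  have e2 : AdicCompletion.evalₐ K n (AdicCompletion.mk K S s) = Ideal.Quotient.mk _ (s n) :=
    AdicCompletion.evalₐ_mk K n s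
  rw [e1, e2, Ideal.quotientMap_mk, RingHom.id_apply, Ideal.Quotient.eq]
  have := s.2 (hle n)
  rw [SModEq.sub_mem] at this
  have h2 : s n - s ((k + 1) * n) ∈ K ^ n := by simpa using this
  have : t n - s n = - (s n - s ((k + 1) * n)) := by simp [t]
  rw [this]
  exact Ideal.neg_mem_iff _ |>.mpr h2

theorem complMap_id_bijective (k : ℕ) (hk : K ^ k ≤ I)
    (h' : I.map (RingHom.id S) ≤ K) :
    Function.Bijective (FSch.complMap I K (RingHom.id S) h') :=
  have hk' : K ^ (k + 1) ≤ I := (Ideal.pow_le_pow_right (Nat.le_succ k)).trans hk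
  ⟨complMap_id_injective I K k hk' h', complMap_id_surjective I K k hk' h'⟩

end Cofinal

section Local

open IsLocalRing TensorProduct

variable (R S : Type u) [CommRing R] [CommRing S] [IsLocalRing R] [IsLocalRing S] [Algebra R S]
  [IsLocalHom (algebraMap R S)]

theorem ker_incl :
    RingHom.ker (Groth.Agent.S2038.incl R S).toRingHom =
      (maximalIdeal R).map (algebraMap R S) := by
  have h := Groth.Agent.Lib.FSFibre.ker_includeRight_of_surjective
    (A := R) (k := (maximalIdeal R).ResidueField) S
    (Ideal.algebraMap_residueField_surjective (maximalIdeal R))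
  rw [Ideal.ker_algebraMap_residueField] at h
  exact h

theorem exists_pow_le
    (hfib : Module.Finite (maximalIdeal R).ResidueField ((maximalIdeal R).Fiber S)) :
    ∃ k : ℕ, maximalIdeal S ^ k ≤ (maximalIdeal R).map (algebraMap R S) := by
  have : IsLocalRing ((maximalIdeal R).Fiber S) := Groth.Agent.S2038.isLocalRing_fiber R S
  have : IsArtinianRing ((maximalIdeal R).Fiber S) :=
    IsArtinianRing.of_finite (maximalIdeal R).ResidueField _
  have hnil : IsNilpotent (Ideal.jacobson (⊥ : Ideal ((maximalIdeal R).Fiber S))) :=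
    IsArtinianRing.isNilpotent_jacobson_bot
  rw [IsLocalRing.jacobson_eq_maximalIdeal _ bot_ne_top] at hnil
  obtain ⟨k, hk⟩ := hnil
  refine ⟨k, ?_⟩
  rw [Groth.Agent.S2038.maximalIdeal_fiber, ← Ideal.map_pow] at hk
  rw [← ker_incl]
  intro x hx
  rw [RingHom.mem_ker]
  have : (Groth.Agent.S2038.incl R S).toRingHom x ∈
      Ideal.map (Groth.Agent.S2038.incl R S).toRingHom (maximalIdeal S ^ k) :=
    Ideal.mem_map_of_mem _ hx
  rw [hk] at this
  exact this

/-- generators of `S / 𝔪S` over `R` -/
theorem exists_generators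
    (hfib : Module.Finite (maximalIdeal R).ResidueField ((maximalIdeal R).Fiber S)) :
    ∃ (r : ℕ) (s : Fin r → S), ∀ x : S, ∃ c : Fin r → R,
      x - ∑ i, c i • s i ∈ (maximalIdeal R).map (algebraMap R S) := by
  have : Module.Finite R ((maximalIdeal R).Fiber S) :=
    Module.Finite.trans (maximalIdeal R).ResidueField _
  obtain ⟨r, g, hg⟩ := Module.Finite.exists_fin (R := R) (M := (maximalIdeal R).Fiber S)
  have hs : ∀ i, ∃ s : S, Groth.Agent.S2038.incl R S s = g i :=
    fun i => Groth.Agent.S2038.incl_surjective R S (g i)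
  choose s hs using hs
  refine ⟨r, s, fun x => ?_⟩
  have hx : Groth.Agent.S2038.incl R S x ∈ Submodule.span R (Set.range g) := by
    rw [hg]; exact Submodule.mem_top
  obtain ⟨c, hc⟩ := (Submodule.mem_span_range_iff_exists_fun R).1 hx
  refine ⟨c, ?_⟩
  rw [← ker_incl, RingHom.mem_ker]
  change Groth.Agent.S2038.incl R S (x - ∑ i, c i • s i) = 0
  rw [map_sub, map_sum, ← hc, sub_eq_zero]
  refine Finset.sum_congr rfl fun i _ => ?_
  rw [map_smul, hs]

section Finite

variable (h : (maximalIdeal R).map (algebraMap R S) ≤ maximalIdeal S)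

theorem complMap_comp_algebraMap :
    (FSch.complMap (maximalIdeal R) (maximalIdeal S) (algebraMap R S) h).comp
      (algebraMap R (AdicCompletion (maximalIdeal R) R)) =
    (algebraMap S (AdicCompletion (maximalIdeal S) S)).comp (algebraMap R S) := by
  refine RingHom.ext fun a => ?_
  exact complMap_algebraMap _ _ _ h a

theorem complMap_finite (hm : (maximalIdeal R).FG) (hn : (maximalIdeal S).FG)
    (hfib : Module.Finite (maximalIdeal R).ResidueField ((maximalIdeal R).Fiber S)) :
    (FSch.complMap (maximalIdeal R) (maximalIdeal S) (algebraMap R S) h).Finite := by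
  let φ := FSch.complMap (maximalIdeal R) (maximalIdeal S) (algebraMap R S) h
  let _ : Algebra (AdicCompletion (maximalIdeal R) R) (AdicCompletion (maximalIdeal S) S) :=
    φ.toAlgebra
  change Module.Finite (AdicCompletion (maximalIdeal R) R) (AdicCompletion (maximalIdeal S) S)
  -- the ideals
  let mhat : Ideal (AdicCompletion (maximalIdeal R) R) :=
    (maximalIdeal R).map (algebraMap R (AdicCompletion (maximalIdeal R) R))
  let Q : Ideal (AdicCompletion (maximalIdeal S) S) :=
    ((maximalIdeal R).map (algebraMap R S)).map (algebraMap S (AdicCompletion (maximalIdeal S) S))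
  let nhat : Ideal (AdicCompletion (maximalIdeal S) S) :=
    (maximalIdeal S).map (algebraMap S (AdicCompletion (maximalIdeal S) S))
  have hQ : mhat.map φ = Q := by
    change Ideal.map φ (Ideal.map _ _) = _
    rw [Ideal.map_map, complMap_comp_algebraMap R S h, ← Ideal.map_map]
  have hQn : Q ≤ nhat := Ideal.map_mono h
  have hsm : ∀ j : ℕ, (mhat ^ j • ⊤ : Submodule (AdicCompletion (maximalIdeal R) R)
      (AdicCompletion (maximalIdeal S) S)) = (Q ^ j).restrictScalars _ := by
    intro j
    rw [Ideal.smul_top_eq_map, Ideal.map_pow]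
    change Submodule.restrictScalars _ (Ideal.map φ mhat ^ j) = _
    rw [hQ]
  have hc1 : IsAdicComplete mhat (AdicCompletion (maximalIdeal R) R) :=
    AdicCompletion.isAdicComplete_self _ hm
  have hc2 : IsAdicComplete nhat (AdicCompletion (maximalIdeal S) S) :=
    AdicCompletion.isAdicComplete_self _ hn
  have hH : IsHausdorff mhat (AdicCompletion (maximalIdeal S) S) := by
    refine ⟨fun x hx => ?_⟩
    refine IsHausdorff.haus (I := nhat) inferInstance x (fun j => ?_)
    have := hx j
    rw [SModEq.zero, hsm j] at this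
    rw [SModEq.zero]
    have h2 : x ∈ Q ^ j := this
    have h3 : x ∈ nhat ^ j := Ideal.pow_right_mono hQn j h2
    simpa using h3
  refine Groth.Agent.Lib.AdicPi.finite_of_finite_quotient mhat _ ?_
  -- generators
  obtain ⟨r, s, hs⟩ := exists_generators R S hfib
  obtain ⟨k, hk⟩ := exists_pow_le R S hfib
  have hsm1 : (mhat • ⊤ : Submodule (AdicCompletion (maximalIdeal R) R)
      (AdicCompletion (maximalIdeal S) S)) = Q.restrictScalars _ := by
    have := hsm 1
    rwa [pow_one, pow_one] at this
  have hmemQ : ∀ z ∈ (maximalIdeal R).map (algebraMap R S),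
      algebraMap S (AdicCompletion (maximalIdeal S) S) z ∈
        (mhat • ⊤ : Submodule (AdicCompletion (maximalIdeal R) R)
          (AdicCompletion (maximalIdeal S) S)) := by
    intro z hz
    rw [hsm1]
    exact Ideal.mem_map_of_mem _ hz
  let g : Fin r → (AdicCompletion (maximalIdeal S) S) ⧸
      (mhat • ⊤ : Submodule (AdicCompletion (maximalIdeal R) R)
        (AdicCompletion (maximalIdeal S) S)) :=
    fun i => Submodule.mkQ _ (algebraMap S (AdicCompletion (maximalIdeal S) S) (s i))
  refine Module.Finite.of_surjective (Fintype.linearCombination (AdicCompletion (maximalIdeal R) R) g)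
    ?_
  intro q
  obtain ⟨y, rfl⟩ := Submodule.mkQ_surjective _ q
  -- approximate `y` by an element of `S`
  obtain ⟨x, hx⟩ := Ideal.Quotient.mk_surjective (AdicCompletion.evalₐ (maximalIdeal S) k y)
  have hy : y - algebraMap S (AdicCompletion (maximalIdeal S) S) x ∈
      (mhat • ⊤ : Submodule (AdicCompletion (maximalIdeal R) R)
        (AdicCompletion (maximalIdeal S) S)) := by
    have h1 : y - algebraMap S (AdicCompletion (maximalIdeal S) S) x ∈
        RingHom.ker (AdicCompletion.evalₐ (maximalIdeal S) k).toRingHom := by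
      rw [RingHom.mem_ker]
      change AdicCompletion.evalₐ (maximalIdeal S) k _ = 0
      rw [map_sub, AlgHom.commutes, ← hx]
      simp
    rw [Groth.Agent.Lib.ComplFlat.ker_evalₐ_eq_map _ hn] at h1
    rw [hsm1]
    exact Ideal.map_mono hk h1
  obtain ⟨c, hc⟩ := hs x
  refine ⟨fun i => algebraMap R (AdicCompletion (maximalIdeal R) R) (c i), ?_⟩
  rw [Fintype.linearCombination_apply]
  have e1 : ∀ i, (algebraMap R (AdicCompletion (maximalIdeal R) R) (c i)) • g i =
      Submodule.mkQ _ (algebraMap S (AdicCompletion (maximalIdeal S) S) (c i • s i)) := by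
    intro i
    change _ • Submodule.mkQ _ _ = _
    rw [← map_smul]
    congr 1
    rw [Algebra.smul_def, Algebra.smul_def, map_mul, RingHom.algebraMap_toAlgebra φ]
    congr 1
  simp only [e1]
  rw [← map_sum, ← map_sum, ← sub_eq_zero, ← map_sub, Submodule.mkQ_apply,
    Submodule.Quotient.mk_eq_zero]
  have : algebraMap S (AdicCompletion (maximalIdeal S) S) (∑ i, c i • s i) - y =
      - ((y - algebraMap S (AdicCompletion (maximalIdeal S) S) x) +
        algebraMap S (AdicCompletion (maximalIdeal S) S) (x - ∑ i, c i • s i)) := by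
    rw [map_sub]; ring
  rw [this]
  exact Submodule.neg_mem _ (Submodule.add_mem _ hy (hmemQ _ hc))

end Finite

end Local

end Groth.Agent.Lib.ComplCofinal89
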