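import Mathlib
import Groth.Agent.S4594

/-!
# helper89: completed differentials (part 1)

* `mem_sq_of_tmul_D_eq_zero`: let `A` be a local ring which is an algebra over a ring `P` such that
  the residue field of `A` is formally smooth over `P` (e.g. `P` a perfect field contained in `A`).
  If `μ ∈ 𝔪` and `1 ⊗ dμ = 0` in `K ⊗_A Ω_{A/ℤ}`, then `μ ∈ 𝔪²`.
* `kerCotangentToTensor_injective`: hence `𝔪/𝔪² → K ⊗_A Ω_{A/ℤ}` is injective.
-/

set_option autoImplicit false
universe u

namespace Groth.Agent.Lib.ComplDiff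

open IsLocalRing TensorProduct KaehlerDifferential

section Gamma

variable {A : Type u} [CommRing A] [IsLocalRing A] (P : Type u) [CommRing P] [Algebra P A]
  [Algebra.FormallySmooth P (ResidueField A)]

include P in
/-- In a local ring whose residue field is formally smooth over a subring `P`, an element `μ` of
the maximal ideal with `1 ⊗ dμ = 0` in `K ⊗_A Ω_{A/ℤ}` lies in `𝔪²`. -/
theorem mem_sq_of_tmul_D_eq_zero {μ : A}
    (h : (1 : ResidueField A) ⊗ₜ[A] D ℤ A μ = 0) (hμ : μ ∈ maximalIdeal A) :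
    μ ∈ maximalIdeal A ^ 2 := by
  let π : (A ⧸ maximalIdeal A ^ 2) →+* ResidueField A :=
    Ideal.Quotient.lift _ (residue A)
      (fun a ha => (residue_eq_zero_iff a).mpr (Ideal.pow_le_self two_ne_zero ha))
  let a3 : Algebra (A ⧸ maximalIdeal A ^ 2) (ResidueField A) := π.toAlgebra
  have t1 : IsScalarTower A (A ⧸ maximalIdeal A ^ 2) (ResidueField A) :=
    IsScalarTower.of_algebraMap_eq (fun x => rfl)
  have t2 : IsScalarTower P (A ⧸ maximalIdeal A ^ 2) (ResidueField A) :=
    IsScalarTower.of_algebraMap_eq (fun x => rfl)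
  have hs : Function.Surjective (algebraMap (A ⧸ maximalIdeal A ^ 2) (ResidueField A)) := by
    intro c
    obtain ⟨a, rfl⟩ := residue_surjective c
    exact ⟨Ideal.Quotient.mk _ a, rfl⟩
  have hker : RingHom.ker (algebraMap (A ⧸ maximalIdeal A ^ 2) (ResidueField A)) ≤
      (maximalIdeal A).map (Ideal.Quotient.mk (maximalIdeal A ^ 2)) := by
    intro b hb
    obtain ⟨a, rfl⟩ := Ideal.Quotient.mk_surjective b
    have h1 : residue A a = 0 := hb
    exact Ideal.mem_map_of_mem _ ((residue_eq_zero_iff a).mp h1)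
  have hsq : RingHom.ker (algebraMap (A ⧸ maximalIdeal A ^ 2) (ResidueField A)) ^ 2 = ⊥ := by
    rw [eq_bot_iff]
    refine (Ideal.pow_right_mono hker 2).trans ?_
    rw [← Ideal.map_pow, Ideal.map_quotient_self]
  have hinj := Groth.Agent.S4594.kerToTensor_injective (R₀ := P) hs hsq
  have h1 := Groth.Agent.S4594.tmul_D_eq_zero (Λ := ℤ) (Λ₀ := P)
    (B := A ⧸ maximalIdeal A ^ 2) (C := ResidueField A) μ h
  have hxk : Ideal.Quotient.mk (maximalIdeal A ^ 2) μ ∈
      RingHom.ker (algebraMap (A ⧸ maximalIdeal A ^ 2) (ResidueField A)) := by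
    rw [RingHom.mem_ker]
    exact (residue_eq_zero_iff μ).mpr hμ
  have h2 : kerToTensor P (A ⧸ maximalIdeal A ^ 2) (ResidueField A)
      ⟨Ideal.Quotient.mk _ μ, hxk⟩ = 0 := h1
  have h3 := hinj (h2.trans (map_zero _).symm)
  have h4 : Ideal.Quotient.mk (maximalIdeal A ^ 2) μ = 0 := congrArg Subtype.val h3
  exact Ideal.Quotient.eq_zero_iff_mem.mp h4

include P in
/-- the conormal map `𝔪/𝔪² → K ⊗_A Ω_{A/ℤ}` is injective. -/
theorem kerCotangentToTensor_injective :
    Function.Injective (kerCotangentToTensor ℤ A (ResidueField A)) := by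
  rw [injective_iff_map_eq_zero]
  intro c hc
  obtain ⟨x, rfl⟩ := Ideal.toCotangent_surjective _ c
  rw [kerCotangentToTensor_toCotangent] at hc
  have hker : RingHom.ker (algebraMap A (ResidueField A)) = maximalIdeal A := IsLocalRing.ker_residue
  have hx : x.1 ∈ maximalIdeal A := by
    rw [← hker]
    exact x.2
  have h1 := mem_sq_of_tmul_D_eq_zero P hc hx
  rw [Ideal.toCotangent_eq_zero]
  have h2 : maximalIdeal A ^ 2 ≤ RingHom.ker (algebraMap A (ResidueField A)) ^ 2 := by
    rw [hker]
  exact h2 h1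

end Gamma

end Groth.Agent.Lib.ComplDiff
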