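import Mathlib
import Groth.Prelude.Def_EGA41
import Groth.Agent.Lib.ComplDiff1

/-!
# helper89: completed differentials (part 2): the dimension count

For a Noetherian local `k₀`-algebra `A` with residue field `K` such that
`K ⊗_{k₀} Ω_{k₀} → K ⊗_A Ω_A` and `𝔪/𝔪² → K ⊗_A Ω_A` are injective,
`dim_K (K ⊗_A Ω_{A/k₀}) = dim_K 𝔪/𝔪² + dim_K Ω_{K/k₀} - dim_K Υ_{K/k₀}`.
-/

set_option autoImplicit false
universe u

namespace Groth.Agent.Lib.ComplDiff

open IsLocalRing TensorProduct KaehlerDifferential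

section Cot

variable {A : Type u} [CommRing A] [IsLocalRing A]

/-- transport of the dimension of the cotangent space along an injective map from `I/I²`,
`I = 𝔪`. -/
theorem nonempty_equiv_of_cotangent (I : Ideal A) (hI : I = maximalIdeal A)
    {Y : Type*} [AddCommGroup Y] [Module A Y] [Module (ResidueField A) Y]
    [IsScalarTower A (ResidueField A) Y] (c : I.Cotangent →ₗ[A] Y) (hc : Function.Injective c)
    (G : Submodule (ResidueField A) Y) (hG : LinearMap.range c = G.restrictScalars A) :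
    Nonempty (CotangentSpace A ≃ₗ[ResidueField A] G) := by
  subst hI
  let c' : CotangentSpace A →ₗ[ResidueField A] Y :=
    c.extendScalarsOfSurjective residue_surjective
  have hc' : ∀ x, c' x = c x := fun x => rfl
  have hmem : ∀ x, c' x ∈ G := fun x => by
    have h1 : c x ∈ LinearMap.range c := ⟨x, rfl⟩
    rw [hG] at h1
    exact h1
  let e : CotangentSpace A ≃ₗ[ResidueField A] G :=
    LinearEquiv.ofBijective (c'.codRestrict G hmem) ⟨fun x y hxy => by
      apply hc
      exact congrArg Subtype.val hxy, fun y => by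
      have h1 : (y : Y) ∈ G.restrictScalars A := y.2
      rw [← hG] at h1
      obtain ⟨x, hx⟩ := h1
      exact ⟨x, Subtype.ext hx⟩⟩
  exact ⟨e⟩

end Cot

section Count

variable {k₀ A : Type u} [Field k₀] [CommRing A] [IsLocalRing A] [IsNoetherianRing A] [Algebra k₀ A]

local notation "K" => ResidueField A

/-- the dimension count for `K ⊗_A Ω_{A/k₀}`. -/
theorem finrank_tensor_kaehler
    (hinj : Function.Injective ((mapBaseChange ℤ k₀ A).lTensor K))
    (hγ : Function.Injective (kerCotangentToTensor ℤ A K))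
    (hΩ : Module.Finite K Ω[K⁄k₀]) :
    Module.Finite K (K ⊗[A] Ω[A⁄k₀]) ∧
    Module.finrank K (K ⊗[A] Ω[A⁄k₀]) + Module.finrank K (EGA41.imperfection ℤ k₀ K) =
      Module.finrank K (CotangentSpace A) + Module.finrank K Ω[K⁄k₀] := by
  classical
  let f := mapBaseChange ℤ k₀ A
  let g := KaehlerDifferential.map ℤ k₀ A A
  have hfg : Function.Exact f g := exact_mapBaseChange_map ℤ k₀ A
  have hg : Function.Surjective g := KaehlerDifferential.map_surjective ℤ k₀ A
  let α' : K ⊗[A] (A ⊗[k₀] Ω[k₀⁄ℤ]) →ₗ[K] K ⊗[A] Ω[A⁄ℤ] := f.baseChange K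
  let ρ : K ⊗[A] Ω[A⁄ℤ] →ₗ[K] K ⊗[A] Ω[A⁄k₀] := g.baseChange K
  have hex : Function.Exact α' ρ := fun y => lTensor_exact K hfg hg y
  have hρ : Function.Surjective ρ := LinearMap.lTensor_surjective K hg
  let cb := TensorProduct.AlgebraTensorModule.cancelBaseChange k₀ A K K (Ω[k₀⁄ℤ])
  let α : K ⊗[k₀] Ω[k₀⁄ℤ] →ₗ[K] K ⊗[A] Ω[A⁄ℤ] := α' ∘ₗ cb.symm.toLinearMap
  have hα' : ∀ c ω, α (c ⊗ₜ ω) = c ⊗ₜ f (1 ⊗ₜ ω) := fun c ω => rfl
  have hα : Function.Injective α := by
    intro z₁ z₂ hz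
    apply cb.symm.injective
    apply hinj
    exact hz
  have hαρ : ∀ y, ρ y = 0 ↔ ∃ z, α z = y := by
    intro y
    rw [hex y]
    constructor
    · rintro ⟨w, rfl⟩
      exact ⟨cb w, by change α' (cb.symm (cb w)) = _; rw [LinearEquiv.symm_apply_apply]⟩
    · rintro ⟨z, rfl⟩
      exact ⟨cb.symm z, rfl⟩
  let π : K ⊗[A] Ω[A⁄ℤ] →ₗ[K] Ω[K⁄ℤ] := mapBaseChange ℤ A K
  let G : Submodule K (K ⊗[A] Ω[A⁄ℤ]) := LinearMap.ker π
  have hcomp : ∀ z, π (α z) = mapBaseChange ℤ k₀ K z := by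
    have h1 : (map ℤ ℤ A K).restrictScalars k₀ ∘ₗ (map ℤ ℤ k₀ A) = map ℤ ℤ k₀ K := by
      apply Derivation.liftKaehlerDifferential_unique
      ext x
      simp
      rfl
    intro z
    induction z using TensorProduct.induction_on with
    | zero => simp only [map_zero]
    | add z₁ z₂ h₁ h₂ => simp only [map_add, h₁, h₂]
    | tmul c ω =>
      rw [hα', mapBaseChange_tmul, mapBaseChange_tmul, mapBaseChange_tmul, one_smul, ← h1]
      rfl
  obtain ⟨eG⟩ := nonempty_equiv_of_cotangent _ IsLocalRing.ker_residue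
    (kerCotangentToTensor ℤ A K) hγ G (range_kerCotangentToTensor ℤ A K residue_surjective)
  have hGfin : Module.Finite K G := Module.Finite.equiv eG
  have hG : Module.finrank K G = Module.finrank K (CotangentSpace A) := eG.finrank_eq.symm
  let π' : K ⊗[A] Ω[A⁄k₀] →ₗ[K] Ω[K⁄k₀] := mapBaseChange k₀ A K
  have hπ' : Function.Surjective π' := mapBaseChange_surjective k₀ A K residue_surjective
  have hγ' : ∀ c, kerCotangentToTensor k₀ A K c = ρ (kerCotangentToTensor ℤ A K c) := by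
    intro c
    obtain ⟨x, rfl⟩ := Ideal.toCotangent_surjective _ c
    rw [kerCotangentToTensor_toCotangent, kerCotangentToTensor_toCotangent]
    change _ = (1 : K) ⊗ₜ[A] g (D ℤ A x.1)
    rw [KaehlerDifferential.map_D]
    rfl
  have hker : LinearMap.ker π' = G.map ρ := by
    ext y
    have h1 : y ∈ LinearMap.ker π' ↔ y ∈ LinearMap.range (kerCotangentToTensor k₀ A K) := by
      rw [range_kerCotangentToTensor k₀ A K residue_surjective]
      rfl
    rw [h1]
    constructor
    · rintro ⟨c, rfl⟩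
      refine ⟨kerCotangentToTensor ℤ A K c, ?_, (hγ' c).symm⟩
      have h2 : kerCotangentToTensor ℤ A K c ∈ LinearMap.range (kerCotangentToTensor ℤ A K) :=
        ⟨c, rfl⟩
      rw [range_kerCotangentToTensor ℤ A K residue_surjective] at h2
      exact h2
    · rintro ⟨w, hw, rfl⟩
      have h2 : w ∈ (G.restrictScalars A) := hw
      rw [← range_kerCotangentToTensor ℤ A K residue_surjective] at h2
      obtain ⟨c, rfl⟩ := h2
      exact ⟨c, hγ' c⟩
  -- finiteness
  have hkerfin : Module.Finite K (LinearMap.ker π') := by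
    rw [hker]
    exact Module.Finite.map G ρ
  have hquotfin : Module.Finite K ((K ⊗[A] Ω[A⁄k₀]) ⧸ LinearMap.ker π') :=
    Module.Finite.equiv (π'.quotKerEquivOfSurjective hπ').symm
  have hfin : Module.Finite K (K ⊗[A] Ω[A⁄k₀]) :=
    Module.Finite.of_submodule_quotient (LinearMap.ker π')
  refine ⟨hfin, ?_⟩
  -- rank-nullity for `π'`
  have h1 := LinearMap.finrank_range_add_finrank_ker π'
  have h2 : Module.finrank K (LinearMap.range π') = Module.finrank K Ω[K⁄k₀] := by
    rw [LinearMap.range_eq_top.2 hπ', finrank_top]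
  -- rank-nullity for `ρ` restricted to `G ≃ 𝔪/𝔪²`
  let ρC : CotangentSpace A →ₗ[K] K ⊗[A] Ω[A⁄k₀] := ρ ∘ₗ G.subtype ∘ₗ eG.toLinearMap
  have hρC : ∀ w, ρC w = ρ (eG w : G).1 := fun w => rfl
  have h3 := LinearMap.finrank_range_add_finrank_ker ρC
  have h4 : LinearMap.range ρC = G.map ρ := by
    ext y
    constructor
    · rintro ⟨w, rfl⟩
      exact ⟨(eG w).1, (eG w).2, rfl⟩
    · rintro ⟨w, hw, rfl⟩
      refine ⟨eG.symm ⟨w, hw⟩, ?_⟩
      rw [hρC, LinearEquiv.apply_symm_apply]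
  -- the kernel of `ρC` is the imperfection module
  have hΥG : ∀ z : EGA41.imperfection ℤ k₀ K, α z.1 ∈ G := fun z => by
    change π (α z.1) = 0
    rw [hcomp]
    exact z.2
  let a₁ : EGA41.imperfection ℤ k₀ K →ₗ[K] CotangentSpace A :=
    eG.symm.toLinearMap ∘ₗ (α.domRestrict (EGA41.imperfection ℤ k₀ K)).codRestrict G hΥG
  have ha₁ : ∀ z, ((eG (a₁ z) : G) : K ⊗[A] Ω[A⁄ℤ]) = α z.1 := fun z => by
    change ((eG (eG.symm _) : G) : K ⊗[A] Ω[A⁄ℤ]) = _
    rw [LinearEquiv.apply_symm_apply]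
    rfl
  have hΥker : ∀ z, a₁ z ∈ LinearMap.ker ρC := fun z => by
    change ρC (a₁ z) = 0
    rw [hρC, ha₁, hαρ]
    exact ⟨z.1, rfl⟩
  let a₂ : EGA41.imperfection ℤ k₀ K →ₗ[K] LinearMap.ker ρC := a₁.codRestrict _ hΥker
  have ha₂ : ∀ z, ((a₂ z : LinearMap.ker ρC) : CotangentSpace A) = a₁ z := fun z => rfl
  have ha₂bij : Function.Bijective a₂ := by
    constructor
    · intro z₁ z₂ hz
      apply Subtype.ext
      apply hα
      rw [← ha₁, ← ha₁, ← ha₂, ← ha₂, hz]
    · intro w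
      have hw : ρ (eG w.1 : G).1 = 0 := w.2
      rw [hαρ] at hw
      obtain ⟨z, hz⟩ := hw
      have hzΥ : z ∈ EGA41.imperfection ℤ k₀ K := by
        change mapBaseChange ℤ k₀ K z = 0
        rw [← hcomp, hz]
        exact (eG w.1 : G).2
      refine ⟨⟨z, hzΥ⟩, ?_⟩
      apply Subtype.ext
      rw [ha₂]
      apply eG.injective
      apply Subtype.ext
      rw [ha₁]
      exact hz
  have h5 : Module.finrank K (EGA41.imperfection ℤ k₀ K) = Module.finrank K (LinearMap.ker ρC) :=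
    (LinearEquiv.ofBijective a₂ ha₂bij).finrank_eq
  rw [h4, ← hker] at h3
  rw [h2] at h1
  rw [h5, ← h3, ← h1]
  ring

end Count

end Groth.Agent.Lib.ComplDiff
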