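import Mathlib
import Groth.Agent.Lib.AdicPi

/-!
# helper89: completed differentials (part 3): lifting bases along the levels

* `reduceModIdeal_pow_bijective`: if `f : E → P` is bijective modulo `𝔪` and `P/𝔪ⁿP` is a projective
  `A/𝔪ⁿ`-module, then `f` is bijective modulo `𝔪ⁿ`.
* `map_bijective_of_levels`: a linear map which is bijective modulo every `Iⁿ` induces a bijection on
  adic completions.
* `nonempty_equiv_adicCompletion`: over a complete Noetherian local ring, if `M/𝔪M` has dimension
  `d` and all `M/𝔪ⁿM` are projective over `A/𝔪ⁿ`, then the completion of `M` is free of rank `d`.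
-/

set_option autoImplicit false
universe u v

namespace Groth.Agent.Lib.ComplDiff

open Submodule

section Levels

variable {A : Type u} [CommRing A] (m : Ideal A) {E P : Type*} [AddCommGroup E] [Module A E]
  [AddCommGroup P] [Module A P] (f : E →ₗ[A] P)

theorem reduceModIdeal_mk (I : Ideal A) (e : E) :
    f.reduceModIdeal I (Submodule.Quotient.mk e) = Submodule.Quotient.mk (f e) := rfl

theorem pow_smul_top_quotient_eq_bot (I : Ideal A) (M : Type*) [AddCommGroup M] [Module A M] :
    (I • ⊤ : Submodule A (M ⧸ (I • ⊤ : Submodule A M))) = ⊥ := by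
  have h1 : (⊤ : Submodule A (M ⧸ (I • ⊤ : Submodule A M))) =
      (⊤ : Submodule A M).map (mkQ (I • ⊤ : Submodule A M)) := by
    rw [Submodule.map_top, range_mkQ]
  rw [h1, ← Submodule.map_smul'', ← le_bot_iff, Submodule.map_le_iff_le_comap, comap_bot, ker_mkQ]

theorem smul_top_quotient_eq_map (I J : Ideal A) (M : Type*) [AddCommGroup M] [Module A M] :
    (J • ⊤ : Submodule A (M ⧸ (I • ⊤ : Submodule A M))) =
      (J • ⊤ : Submodule A M).map (mkQ (I • ⊤ : Submodule A M)) := by
  rw [Submodule.map_smul'', Submodule.map_top, range_mkQ]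

/-- nilpotent Nakayama in a quotient `Q = P/IP`: a submodule `N` with `N + 𝔪 Q = Q`, `𝔪ⁿ ≤ I`,
is everything. -/
theorem eq_top_of_sup_smul_eq_top {Q : Type*} [AddCommGroup Q] [Module A Q] (n : ℕ)
    (hQ : (m ^ n • ⊤ : Submodule A Q) = ⊥) (N : Submodule A Q)
    (hstep : N ⊔ (m • ⊤ : Submodule A Q) = ⊤) : N = ⊤ := by
  have hall : ∀ j : ℕ, N ⊔ (m ^ j • ⊤ : Submodule A Q) = ⊤ := by
    intro j
    induction j with
    | zero => rw [pow_zero, Ideal.one_eq_top, Submodule.top_smul, sup_top_eq]
    | succ j ih =>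
      have h4 : m • (m ^ j • ⊤ : Submodule A Q) = m ^ (j + 1) • ⊤ := by
        rw [pow_succ', Submodule.mul_smul]
      have h6 : (m • ⊤ : Submodule A Q) ≤ N ⊔ m ^ (j + 1) • ⊤ := by
        calc (m • ⊤ : Submodule A Q) = m • (N ⊔ m ^ j • ⊤) := by rw [ih]
          _ = m • N ⊔ m • (m ^ j • ⊤) := Submodule.smul_sup _ _ _
          _ ≤ N ⊔ m ^ (j + 1) • ⊤ := sup_le_sup Submodule.smul_le_right (le_of_eq h4)
      have h7 : (⊤ : Submodule A Q) ≤ N ⊔ m ^ (j + 1) • ⊤ := by
        calc (⊤ : Submodule A Q) = N ⊔ m • ⊤ := hstep.symm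
          _ ≤ N ⊔ m ^ (j + 1) • ⊤ := sup_le le_sup_left h6
      exact eq_top_iff.2 h7
  have h5 := hall n
  rw [hQ, sup_bot_eq] at h5
  exact h5

theorem reduceModIdeal_pow_surjective (n : ℕ)
    (h1 : Function.Surjective (f.reduceModIdeal m)) :
    Function.Surjective (f.reduceModIdeal (m ^ n)) := by
  let fn : E ⧸ (m ^ n • ⊤ : Submodule A E) →ₗ[A] P ⧸ (m ^ n • ⊤ : Submodule A P) :=
    (f.reduceModIdeal (m ^ n)).restrictScalars A
  have hstep : LinearMap.range fn ⊔ (m • ⊤ : Submodule A (P ⧸ (m ^ n • ⊤ : Submodule A P))) = ⊤ := by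
    rw [eq_top_iff]
    rintro y -
    obtain ⟨p, rfl⟩ := Submodule.Quotient.mk_surjective _ y
    obtain ⟨x, hx⟩ := h1 (Submodule.Quotient.mk p)
    obtain ⟨e, rfl⟩ := Submodule.Quotient.mk_surjective _ x
    rw [reduceModIdeal_mk, Submodule.Quotient.eq] at hx
    have h2 : (Submodule.Quotient.mk p : P ⧸ (m ^ n • ⊤ : Submodule A P)) =
        fn (Submodule.Quotient.mk e) + Submodule.Quotient.mk (p - f e) := by
      change _ = Submodule.Quotient.mk (f e) + _
      rw [← Submodule.Quotient.mk_add]
      congr 1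
      abel
    rw [h2]
    refine Submodule.add_mem_sup ⟨_, rfl⟩ ?_
    rw [smul_top_quotient_eq_map]
    refine ⟨p - f e, ?_, rfl⟩
    have h3 := hx
    rw [← neg_sub] at h3
    exact (Submodule.neg_mem_iff _).1 h3
  have hN := eq_top_of_sup_smul_eq_top m n (pow_smul_top_quotient_eq_bot (m ^ n) P) _ hstep
  intro y
  have hy : y ∈ LinearMap.range fn := by rw [hN]; trivial
  obtain ⟨x, hx⟩ := hy
  exact ⟨x, hx⟩

theorem reduceModIdeal_pow_injective (n : ℕ) (hn : n ≠ 0)
    (h1 : Function.Injective (f.reduceModIdeal m))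
    (s : P ⧸ (m ^ n • ⊤ : Submodule A P) →ₗ[A] E ⧸ (m ^ n • ⊤ : Submodule A E))
    (hs : ∀ y, f.reduceModIdeal (m ^ n) (s y) = y) :
    Function.Injective (f.reduceModIdeal (m ^ n)) := by
  let fn : E ⧸ (m ^ n • ⊤ : Submodule A E) →ₗ[A] P ⧸ (m ^ n • ⊤ : Submodule A P) :=
    (f.reduceModIdeal (m ^ n)).restrictScalars A
  have hfn : ∀ x, fn x = f.reduceModIdeal (m ^ n) x := fun x => rfl
  let q : E ⧸ (m ^ n • ⊤ : Submodule A E) →ₗ[A] E ⧸ (m ^ n • ⊤ : Submodule A E) :=
    LinearMap.id - s ∘ₗ fn
  have hq : ∀ x, q x = x - s (fn x) := fun x => rfl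
  have hqker : ∀ x, q x ∈ LinearMap.ker fn := by
    intro x
    rw [LinearMap.mem_ker, hq, map_sub, hfn (s _), hs, sub_self]
  have hqid : ∀ x, fn x = 0 → q x = x := by
    intro x hx
    rw [hq, hx, map_zero, sub_zero]
  have hA : ∀ x, fn x = 0 → x ∈ (m • ⊤ : Submodule A (E ⧸ (m ^ n • ⊤ : Submodule A E))) := by
    intro x hx
    obtain ⟨e, rfl⟩ := Submodule.Quotient.mk_surjective _ x
    rw [hfn, reduceModIdeal_mk, Submodule.Quotient.mk_eq_zero] at hx
    have hle : (m ^ n • ⊤ : Submodule A P) ≤ m • ⊤ :=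
      Submodule.smul_mono_left (Ideal.pow_le_self hn)
    have h2 : f.reduceModIdeal m (Submodule.Quotient.mk e) = 0 := by
      rw [reduceModIdeal_mk, Submodule.Quotient.mk_eq_zero]
      exact hle hx
    have h3 : (Submodule.Quotient.mk e : E ⧸ (m • ⊤ : Submodule A E)) = 0 := by
      apply h1
      rw [h2, map_zero]
    rw [Submodule.Quotient.mk_eq_zero] at h3
    rw [smul_top_quotient_eq_map]
    exact ⟨e, h3, rfl⟩
  have hall : ∀ j : ℕ, LinearMap.ker fn ≤
      (m ^ j • ⊤ : Submodule A (E ⧸ (m ^ n • ⊤ : Submodule A E))) := by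
    intro j
    induction j with
    | zero => rw [pow_zero, Ideal.one_eq_top, Submodule.top_smul]; exact le_top
    | succ j ih =>
      intro x hx
      have h2 : q x ∈ (m • ⊤ : Submodule A (E ⧸ (m ^ n • ⊤ : Submodule A E))).map q :=
        ⟨x, hA x hx, rfl⟩
      rw [hqid x hx, Submodule.map_smul''] at h2
      have h3 : (⊤ : Submodule A (E ⧸ (m ^ n • ⊤ : Submodule A E))).map q ≤ m ^ j • ⊤ := by
        rintro _ ⟨y, -, rfl⟩
        exact ih (hqker y)
      have h4 : m • (m ^ j • ⊤ : Submodule A (E ⧸ (m ^ n • ⊤ : Submodule A E))) =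
          m ^ (j + 1) • ⊤ := by
        rw [pow_succ', Submodule.mul_smul]
      rw [← h4]
      exact Submodule.smul_mono le_rfl h3 h2
  rw [injective_iff_map_eq_zero]
  intro x hx
  have h2 := hall n (show x ∈ LinearMap.ker fn from hx)
  rw [pow_smul_top_quotient_eq_bot (m ^ n) E] at h2
  exact (Submodule.mem_bot _).1 h2

end Levels

section Completion

variable {A : Type u} [CommRing A] (I : Ideal A) {E P : Type*} [AddCommGroup E] [Module A E]
  [AddCommGroup P] [Module A P] (f : E →ₗ[A] P)

/-- a linear map which is bijective modulo every `Iⁿ` induces a bijection on completions. -/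
theorem map_bijective_of_levels (h : ∀ n, Function.Bijective (f.reduceModIdeal (I ^ n))) :
    Function.Bijective (AdicCompletion.map I f) := by
  constructor
  · intro x y hxy
    apply AdicCompletion.ext
    intro n
    apply (h n).injective
    rw [← AdicCompletion.map_val_apply, ← AdicCompletion.map_val_apply, hxy]
  · intro y
    choose g hg using fun n => (h n).surjective (y.val n)
    refine ⟨⟨g, ?_⟩, ?_⟩
    · intro k n hkn
      apply (h k).injective
      have h1 := LinearMap.congr_fun (AdicCompletion.transitionMap_comp_reduceModIdeal I f hkn) (g n)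
      simp only [LinearMap.comp_apply] at h1
      rw [hg k]
      have h2 : (f.reduceModIdeal (I ^ k)) (AdicCompletion.transitionMap I E hkn (g n)) =
          AdicCompletion.transitionMap I P hkn ((f.reduceModIdeal (I ^ n)) (g n)) := h1.symm
      rw [h2, hg n]
      exact y.property hkn
    · apply AdicCompletion.ext
      intro n
      exact (AdicCompletion.map_val_apply I f _).trans (hg n)

end Completion

section Main

open IsLocalRing

variable {A : Type u} [CommRing A] [IsLocalRing A] [IsNoetherianRing A]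
  [IsAdicComplete (maximalIdeal A) A] {M : Type u} [AddCommGroup M] [Module A M]

theorem isAdicComplete_pi (d : ℕ) : IsAdicComplete (maximalIdeal A) (Fin d → A) :=
  { (inferInstance : IsHausdorff (maximalIdeal A) (Fin d → A)),
    Groth.Agent.Lib.AdicPi.isPrecomplete_pi (maximalIdeal A) (Fin d) with }

omit [IsNoetherianRing A] [IsAdicComplete (maximalIdeal A) A] in
/-- lifting a basis of `M/𝔪M` gives a map `A^d → M` which is bijective modulo `𝔪`. -/
theorem exists_reduceModIdeal_bijective (d : ℕ)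
    (hfin : Module.Finite (A ⧸ maximalIdeal A) (M ⧸ (maximalIdeal A • ⊤ : Submodule A M)))
    (hd : Module.finrank (A ⧸ maximalIdeal A) (M ⧸ (maximalIdeal A • ⊤ : Submodule A M)) = d) :
    ∃ f : (Fin d → A) →ₗ[A] M, Function.Bijective (f.reduceModIdeal (maximalIdeal A)) := by
  classical
  have hfree : Module.Free (A ⧸ maximalIdeal A) (M ⧸ (maximalIdeal A • ⊤ : Submodule A M)) := by
    let _ := Ideal.Quotient.field (maximalIdeal A)
    exact Module.Free.of_divisionRing _ _
  let b : Module.Basis (Fin d) (A ⧸ maximalIdeal A) (M ⧸ (maximalIdeal A • ⊤ : Submodule A M)) :=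
    Module.finBasisOfFinrankEq _ _ hd
  have hv : ∀ i, ∃ x : M, Submodule.Quotient.mk x = b i :=
    fun i => Submodule.Quotient.mk_surjective _ (b i)
  choose v hv using hv
  let f : (Fin d → A) →ₗ[A] M := Fintype.linearCombination A v
  have hf : ∀ c : Fin d → A, f.reduceModIdeal (maximalIdeal A) (Submodule.Quotient.mk c) =
      ∑ i, (Ideal.Quotient.mk (maximalIdeal A) (c i)) • b i := by
    intro c
    rw [reduceModIdeal_mk, Fintype.linearCombination_apply]
    change Submodule.mkQ _ (∑ i, c i • v i) = _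
    rw [map_sum]
    refine Finset.sum_congr rfl fun i _ => ?_
    rw [map_smul, Submodule.mkQ_apply, hv]
    rfl
  refine ⟨f, ?_, ?_⟩
  · rw [injective_iff_map_eq_zero]
    intro x hx
    obtain ⟨c, rfl⟩ := Submodule.Quotient.mk_surjective _ x
    rw [hf] at hx
    have h1 := (Fintype.linearIndependent_iff.1 b.linearIndependent) _ hx
    rw [Submodule.Quotient.mk_eq_zero, Groth.Agent.Lib.AdicPi.mem_smul_top_pi_iff]
    intro i
    exact Ideal.Quotient.eq_zero_iff_mem.1 (h1 i)
  · intro y
    have ha : ∀ i, ∃ a : A, Ideal.Quotient.mk (maximalIdeal A) a = b.repr y i :=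
      fun i => Ideal.Quotient.mk_surjective _
    choose a ha using ha
    refine ⟨Submodule.Quotient.mk a, ?_⟩
    rw [hf]
    simp only [ha]
    exact b.sum_repr y

/-- Over a complete Noetherian local ring, if `M/𝔪M` has dimension `d` and all `M/𝔪ⁿM` are
projective over `A/𝔪ⁿ`, the completion of `M` is free of rank `d`. -/
theorem nonempty_equiv_adicCompletion (d : ℕ)
    (hfin : Module.Finite (A ⧸ maximalIdeal A) (M ⧸ (maximalIdeal A • ⊤ : Submodule A M)))
    (hd : Module.finrank (A ⧸ maximalIdeal A) (M ⧸ (maximalIdeal A • ⊤ : Submodule A M)) = d)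
    (hproj : ∀ n : ℕ, n ≠ 0 → Module.Projective (A ⧸ maximalIdeal A ^ n)
      (M ⧸ (maximalIdeal A ^ n • ⊤ : Submodule A M))) :
    Nonempty ((Fin d → A) ≃ₗ[A] AdicCompletion (maximalIdeal A) M) := by
  obtain ⟨f, hf⟩ := exists_reduceModIdeal_bijective d hfin hd
  have hlev : ∀ n, Function.Bijective (f.reduceModIdeal (maximalIdeal A ^ n)) := by
    intro n
    have hsurj := reduceModIdeal_pow_surjective (maximalIdeal A) f n hf.surjective
    refine ⟨?_, hsurj⟩
    by_cases hn : n = 0
    · subst hn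
      intro x y _
      have h1 : (maximalIdeal A ^ 0 • ⊤ : Submodule A (Fin d → A)) = ⊤ := by
        rw [pow_zero, Ideal.one_eq_top, Submodule.top_smul]
      obtain ⟨x, rfl⟩ := Submodule.Quotient.mk_surjective _ x
      obtain ⟨y, rfl⟩ := Submodule.Quotient.mk_surjective _ y
      rw [Submodule.Quotient.eq, h1]
      trivial
    · have hp := hproj n hn
      obtain ⟨s, hs⟩ := Module.projective_lifting_property
        (f.reduceModIdeal (maximalIdeal A ^ n)) LinearMap.id hsurj
      exact reduceModIdeal_pow_injective (maximalIdeal A) f n hn hf.injective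
        (s.restrictScalars A) (fun y => LinearMap.congr_fun hs y)
  have hbij := map_bijective_of_levels (maximalIdeal A) f hlev
  have hc : IsAdicComplete (maximalIdeal A) (Fin d → A) := isAdicComplete_pi d
  let e₁ : AdicCompletion (maximalIdeal A) (Fin d → A) ≃ₗ[A] AdicCompletion (maximalIdeal A) M :=
    LinearEquiv.ofBijective ((AdicCompletion.map (maximalIdeal A) f).restrictScalars A) hbij
  exact ⟨(AdicCompletion.ofLinearEquiv (maximalIdeal A) (Fin d → A)).trans e₁⟩

end Main

end Groth.Agent.Lib.ComplDiff
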