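import Mathlib.RingTheory.AdicCompletion.Algebra
import Mathlib.RingTheory.AdicCompletion.Completeness
import Mathlib.RingTheory.FiniteType
import Mathlib.RingTheory.Localization.Integer
import Mathlib.AlgebraicGeometry.Stalk
import Mathlib.AlgebraicGeometry.AffineScheme

/-!
# Finite type refinements controlling maps to a completion (helper57)

* `ker_evalₐ_eq_map`, `exists_sub_mem_map`: approximation in adic completions.
* `sub_mem_of_generators`: ring homs agreeing modulo an ideal on generators.
* `exists_refinement`: the algebra core of Stacks 0CAV-type refinement.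
* `stalkCongr_inv_stalkClosedPointTo`, `germ_stalkCongr_stalkMap`: scheme-level stalk bookkeeping.
-/

set_option autoImplicit false
set_option linter.style.haveILetI false
universe u

open AlgebraicGeometry CategoryTheory Limits

namespace Groth.Agent.Lib.ComplRefine57





/-- The kernel of the evaluation map of the adic completion at level `n`. -/
lemma ker_evalₐ_eq_map {R : Type*} [CommRing R] (I : Ideal R) (fg : I.FG) (n : ℕ) :
    RingHom.ker (AdicCompletion.evalₐ I n).toRingHom =
      (I ^ n).map (algebraMap R (AdicCompletion I R)) := by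
  ext x
  trans x ∈ (AdicCompletion.eval I R n).ker
  · have eq : I ^ n * ⊤ = I ^ n := by simp
    have : Function.Injective (Ideal.Quotient.factor ((le_of_eq eq))) := by
      simpa [RingHom.injective_iff_ker_eq_bot, Ideal.Quotient.factor_ker]
        using Ideal.map_mk_eq_bot_of_le (le_of_eq eq.symm)
    simpa [← AdicCompletion.factor_eval_eq_evalₐ] using map_eq_zero_iff _ this
  · simp [← AdicCompletion.pow_smul_top_eq_ker_eval fg]

/-- Every element of the completion is approximated modulo `I^n` by an element of the ring. -/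
lemma exists_sub_mem_map {R : Type*} [CommRing R] (I : Ideal R) (fg : I.FG) (n : ℕ)
    (x : AdicCompletion I R) :
    ∃ r : R, x - algebraMap R (AdicCompletion I R) r ∈
      (I ^ n).map (algebraMap R (AdicCompletion I R)) := by
  obtain ⟨r, hr⟩ := Ideal.Quotient.mk_surjective (AdicCompletion.evalₐ I n x)
  refine ⟨r, ?_⟩
  rw [← ker_evalₐ_eq_map I fg n, RingHom.mem_ker]
  change AdicCompletion.evalₐ I n (x - algebraMap R (AdicCompletion I R) r) = 0
  rw [map_sub, ← hr, sub_eq_zero]
  simp

/-- Two ring homs out of `D` agreeing modulo an ideal `K` on ring generators agree modulo `K`. -/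
lemma sub_mem_of_generators {R C D E : Type*} [CommRing R] [CommRing C] [CommRing D] [CommRing E]
    (φ : R →+* C) (γT : C →+* D) (s : Set C)
    (hs : letI := φ.toAlgebra; Algebra.adjoin R s = ⊤)
    (hD : ∀ a : D, ∃ u c : C, IsUnit (γT u) ∧ a * γT u = γT c)
    (σ σ' : D →+* E) (K : Ideal E)
    (hR : ∀ r : R, σ (γT (φ r)) - σ' (γT (φ r)) ∈ K)
    (hgen : ∀ c ∈ s, σ (γT c) - σ' (γT c) ∈ K) (a : D) : σ a - σ' a ∈ K := by
  letI := φ.toAlgebra
  have hC : ∀ c : C, σ (γT c) - σ' (γT c) ∈ K := by
    intro c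
    have hc : c ∈ Algebra.adjoin R s := by rw [hs]; trivial
    induction hc using Algebra.adjoin_induction with
    | mem x hx => exact hgen x hx
    | algebraMap r => exact hR r
    | add x y _ _ hx hy =>
      have : σ (γT (x + y)) - σ' (γT (x + y)) =
          (σ (γT x) - σ' (γT x)) + (σ (γT y) - σ' (γT y)) := by
        simp only [map_add]; ring
      rw [this]; exact K.add_mem hx hy
    | mul x y _ _ hx hy =>
      have : σ (γT (x * y)) - σ' (γT (x * y)) =
          σ (γT x) * (σ (γT y) - σ' (γT y)) + (σ (γT x) - σ' (γT x)) * σ' (γT y) := by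
        simp only [map_mul]; ring
      rw [this]
      exact K.add_mem (K.mul_mem_left _ hy) (K.mul_mem_right _ hx)
  obtain ⟨u, c, hu, huc⟩ := hD a
  have h1 : σ (γT u) * (σ a - σ' a) =
      (σ (γT c) - σ' (γT c)) - σ' a * (σ (γT u) - σ' (γT u)) := by
    rw [← huc]; simp only [map_mul]; ring
  have h2 : σ (γT u) * (σ a - σ' a) ∈ K := by
    rw [h1]; exact K.sub_mem (hC c) (K.mul_mem_left _ (hC u))
  have hu' : IsUnit (σ (γT u)) := hu.map σ
  obtain ⟨v, hv⟩ := hu'.exists_left_inv
  have : σ a - σ' a = v * (σ (γT u) * (σ a - σ' a)) := by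
    rw [← mul_assoc, hv, one_mul]
  rw [this]; exact K.mul_mem_left _ h2


/-- Core algebra: the finite type refinement. -/
theorem exists_refinement {R C O D : Type u} [CommRing R] [CommRing C] [CommRing O] [CommRing D]
    (m : Ideal O) (hfg : m.FG)
    [Algebra R O] (M : Submonoid R) [IsLocalization M O]
    (φ : R →+* C) (hφ : φ.FiniteType) (γT : C →+* D)
    (hD : ∀ a : D, ∃ u c : C, IsUnit (γT u) ∧ a * γT u = γT c)
    (ψ : O →+* D) (hψ : ∀ r : R, ψ (algebraMap R O r) = γT (φ r))
    (σ : D →+* AdicCompletion m O)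
    (hσ : ∀ x : O, σ (ψ x) = algebraMap O (AdicCompletion m O) x) (N : ℕ) :
    ∃ (C' : Type u) (_ : CommRing C') (ι : C →+* C'), ι.FiniteType ∧
      ∃ τ₀ : C' →+* AdicCompletion m O,
        (∀ c : C, τ₀ (ι c) = σ (γT c)) ∧
        ∀ σ' : D →+* AdicCompletion m O,
          (∀ x : O, σ' (ψ x) = algebraMap O (AdicCompletion m O) x) →
          (∃ τ₀' : C' →+* AdicCompletion m O,
            ∀ c : C, τ₀' (ι c) = σ' (γT c)) →
          ∀ a : D, σ a - σ' a ∈
            (m ^ N).map (algebraMap O (AdicCompletion m O)) := by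
  classical
  set alg := algebraMap O (AdicCompletion m O) with halg
  set K := (m ^ N).map alg with hK
  -- generators of m^N
  obtain ⟨L, μ, hμ⟩ := (Submodule.fg_iff_exists_fin_generating_family).1 (Ideal.FG.pow (n := N) hfg)
  have hKspan : K = Ideal.span (Set.range (fun l => alg (μ l))) := by
    rw [hK, ← show Ideal.span (Set.range μ) = m ^ N from hμ, Ideal.map_span, ← Set.range_comp]
    rfl
  -- generators of C over R
  letI := φ.toAlgebra
  have hft : Algebra.FiniteType R C := hφ
  obtain ⟨s, hs⟩ := hft.out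
  -- approximations
  have happ : ∀ c : C, ∃ ρ : O, ∃ a : Fin L → AdicCompletion m O,
      σ (γT c) = alg ρ + ∑ l, a l * alg (μ l) := by
    intro c
    obtain ⟨ρ, hρ⟩ := exists_sub_mem_map m hfg N (σ (γT c))
    rw [← halg, ← hK, hKspan, Ideal.mem_span_range_iff_exists_fun] at hρ
    obtain ⟨a, ha⟩ := hρ
    exact ⟨ρ, a, by rw [ha]; ring⟩
  choose ρ a hρa using happ
  -- common denominator
  obtain ⟨w, hw⟩ := IsLocalization.exist_integer_multiples_of_finset M
    (s.image ρ ∪ Finset.univ.image μ)
  have hwρ : ∀ c ∈ s, ∃ r : R, algebraMap R O r = algebraMap R O w * ρ c := by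
    intro c hc
    obtain ⟨r, hr⟩ := hw (ρ c) (Finset.mem_union_left _ (Finset.mem_image_of_mem _ hc))
    exact ⟨r, by rw [hr, Algebra.smul_def]⟩
  have hwμ : ∀ l, ∃ g : R, algebraMap R O g = algebraMap R O w * μ l := by
    intro l
    obtain ⟨r, hr⟩ := hw (μ l) (Finset.mem_union_right _ (Finset.mem_image_of_mem _ (Finset.mem_univ l)))
    exact ⟨r, by rw [hr, Algebra.smul_def]⟩
  choose g hg using hwμ
  have hwunit : IsUnit (alg (algebraMap R O w)) := (IsLocalization.map_units O w).map alg
  -- r as a total function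
  let r : C → R := fun c => if hc : c ∈ s then (hwρ c hc).choose else 0
  have hr : ∀ c ∈ s, algebraMap R O (r c) = algebraMap R O w * ρ c := by
    intro c hc
    simp only [r, dif_pos hc]
    exact (hwρ c hc).choose_spec
  -- the algebra
  let P := MvPolynomial (↥s × Fin L) C
  let rel : ↥s → P := fun c => MvPolynomial.C (φ w) * MvPolynomial.C (c : C)
    - MvPolynomial.C (φ (r c)) - ∑ l, MvPolynomial.X (c, l) * MvPolynomial.C (φ (g l))
  let J : Ideal P := Ideal.span (Set.range rel)
  let ι : C →+* P ⧸ J := (Ideal.Quotient.mk J).comp MvPolynomial.C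
  have hι : ι.FiniteType := by
    refine RingHom.FiniteType.comp (g := Ideal.Quotient.mk J)
      (RingHom.FiniteType.of_surjective _ Ideal.Quotient.mk_surjective) ?_
    have : (algebraMap C P).FiniteType := RingHom.finiteType_algebraMap.2 inferInstance
    exact this
  -- key identity: σ γT φ = alg ∘ algebraMap
  have hσφ : ∀ (σ' : D →+* AdicCompletion m O), (∀ x : O, σ' (ψ x) = alg x) →
      ∀ x : R, σ' (γT (φ x)) = alg (algebraMap R O x) := by
    intro σ' hσ' x
    rw [← hψ, hσ']
  -- τ₀
  let ev : P →+* AdicCompletion m O :=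
    MvPolynomial.eval₂Hom (σ.comp γT) (fun p : ↥s × Fin L => a (p.1 : C) p.2)
  have hevC : ∀ x : C, ev (MvPolynomial.C x) = σ (γT x) := fun x =>
    MvPolynomial.eval₂Hom_C _ _ _
  have hevX : ∀ p : ↥s × Fin L, ev (MvPolynomial.X p) = a (p.1 : C) p.2 := fun p =>
    MvPolynomial.eval₂Hom_X' _ _ _
  have hev : ∀ x ∈ J, ev x = 0 := by
    intro x hx
    have : J ≤ RingHom.ker ev := by
      rw [Ideal.span_le]
      rintro _ ⟨c, rfl⟩
      rw [SetLike.mem_coe, RingHom.mem_ker]
      simp only [rel, map_sub, map_mul, map_sum, hevC, hevX]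
      rw [hσφ σ hσ, hσφ σ hσ, hρa (c : C), hr c c.2]
      simp only [hσφ σ hσ, hg, map_mul]
      rw [mul_add, Finset.mul_sum]
      have : ∀ l ∈ Finset.univ, alg (algebraMap R O w) * (a (c : C) l * alg (μ l)) =
          a (c : C) l * (alg (algebraMap R O w) * alg (μ l)) := fun l _ => by ring
      rw [Finset.sum_congr rfl this]
      ring
    exact this hx
  refine ⟨P ⧸ J, inferInstance, ι, hι, Ideal.Quotient.lift J ev hev, ?_, ?_⟩
  · intro c
    change Ideal.Quotient.lift J ev hev (Ideal.Quotient.mk J (MvPolynomial.C c)) = _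
    rw [Ideal.Quotient.lift_mk]
    exact hevC c
  · rintro σ' hσ' ⟨τ₀', hτ₀'⟩ d
    refine sub_mem_of_generators φ γT (s : Set C) hs hD σ σ' K ?_ ?_ d
    · intro x
      rw [hσφ σ hσ, hσφ σ' hσ', sub_self]
      exact K.zero_mem
    · intro c hc
      -- apply both to the relation
      have h0 : (Ideal.Quotient.mk J) (rel ⟨c, hc⟩) = 0 :=
        Ideal.Quotient.eq_zero_iff_mem.2 (Ideal.subset_span ⟨⟨c, hc⟩, rfl⟩)
      have h1 := congrArg τ₀' h0
      have hC : ∀ x : C, τ₀' (Ideal.Quotient.mk J (MvPolynomial.C x)) = σ' (γT x) := hτ₀'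
      simp only [rel, map_sub, map_mul, map_sum, hC, map_zero] at h1
      rw [hσφ σ' hσ'] at h1
      simp only [hσφ σ' hσ', hg, map_mul] at h1
      have h2 : ev (rel ⟨c, hc⟩) = 0 := hev _ (Ideal.subset_span ⟨⟨c, hc⟩, rfl⟩)
      simp only [rel, map_sub, map_mul, map_sum, hevC, hevX] at h2
      rw [hσφ σ hσ] at h2
      simp only [hσφ σ hσ, hg, map_mul] at h2
      -- subtract
      have h3 : alg (algebraMap R O w) * (σ (γT c) - σ' (γT c)) =
          ∑ l, (a c l - τ₀' (Ideal.Quotient.mk J (MvPolynomial.X (⟨c, hc⟩, l)))) *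
            (alg (algebraMap R O w) * alg (μ l)) := by
        have e1 : alg (algebraMap R O w) * σ (γT c) = alg (algebraMap R O (r c)) +
            ∑ l, a c l * (alg (algebraMap R O w) * alg (μ l)) := by
          linear_combination h2
        have e2 : alg (algebraMap R O w) * σ' (γT c) = alg (algebraMap R O (r c)) +
            ∑ l, τ₀' (Ideal.Quotient.mk J (MvPolynomial.X (⟨c, hc⟩, l))) *
              (alg (algebraMap R O w) * alg (μ l)) := by
          linear_combination h1
        rw [mul_sub, e1, e2, add_sub_add_left_eq_sub, ← Finset.sum_sub_distrib]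
        exact Finset.sum_congr rfl fun l _ => by ring
      have h4 : alg (algebraMap R O w) * (σ (γT c) - σ' (γT c)) ∈ K := by
        rw [h3]
        refine K.sum_mem fun l _ => K.mul_mem_left _ (K.mul_mem_left _ ?_)
        rw [hKspan]
        exact Ideal.subset_span ⟨l, rfl⟩
      obtain ⟨v, hv⟩ := hwunit.exists_left_inv
      have : σ (γT c) - σ' (γT c) = v * (alg (algebraMap R O w) * (σ (γT c) - σ' (γT c))) := by
        rw [← mul_assoc, hv, one_mul]
      rw [this]
      exact K.mul_mem_left _ h4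



set_option backward.isDefEq.respectTransparency.types false in
/-- Lemma A: recover `σ` from `Spec.map σ ≫ fromSpecStalk`. -/
lemma stalkCongr_inv_stalkClosedPointTo {X : Scheme.{u}} {E : CommRingCat.{u}} [IsLocalRing E]
    (F : Spec E ⟶ X) (x : X) (σ : X.presheaf.stalk x ⟶ E) [IsLocalHom σ.hom]
    (hF : F = Spec.map σ ≫ X.fromSpecStalk x) (hx : F (IsLocalRing.closedPoint E) = x) :
    (X.presheaf.stalkCongr (Inseparable.of_eq hx)).inv ≫ Scheme.stalkClosedPointTo F = σ := by
  subst hF
  refine TopCat.Presheaf.stalk_hom_ext _ fun U hxU ↦ ?_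
  rw [TopCat.Presheaf.stalkCongr_inv, TopCat.Presheaf.germ_stalkSpecializes_assoc]
  exact Scheme.germ_stalkClosedPointTo_Spec_fromSpecStalk σ U _



set_option backward.isDefEq.respectTransparency.types false in
/-- Lemma C: the stalk map of `Spec C' ⟶ Spec Γ(X,V) ⟶ X` on germs from `V`. -/
lemma germ_stalkCongr_stalkMap {X : Scheme.{u}} {V : X.Opens} (hV : IsAffineOpen V)
    {C' : CommRingCat.{u}} (ι : Γ(X, V) ⟶ C') (t' : Spec C') (t : X)
    (hg : (Spec.map ι ≫ hV.fromSpec) t' = t) (ht : t ∈ V) :
    X.presheaf.germ V t ht ≫ (X.presheaf.stalkCongr (Inseparable.of_eq hg)).inv ≫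
      (Spec.map ι ≫ hV.fromSpec).stalkMap t' =
    ι ≫ (Scheme.ΓSpecIso C').inv ≫ (Spec C').presheaf.germ ⊤ t' trivial := by
  subst hg
  rw [TopCat.Presheaf.stalkCongr_inv, TopCat.Presheaf.germ_stalkSpecializes_assoc,
    Scheme.Hom.stalkMap_comp]
  erw [Scheme.Hom.germ_stalkMap_assoc]
  rw [Scheme.Hom.germ_stalkMap, hV.fromSpec_app_self]
  simp only [Category.assoc]
  rw [Scheme.Hom.naturality_assoc]
  have e := Scheme.ΓSpecIso_inv_naturality ι
  rw [← Category.assoc ι, e]
  simp only [Category.assoc]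
  congr 1
  rw [TopCat.Presheaf.germ_res]
  rfl


end Groth.Agent.Lib.ComplRefine57
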