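import Mathlib.RingTheory.Spectrum.Prime.RingHom
import Mathlib.RingTheory.Spectrum.Maximal.Basic
import Mathlib.RingTheory.LocalProperties.Basic
import Mathlib.RingTheory.Localization.AtPrime.Basic
import Mathlib.RingTheory.LocalRing.MaximalIdeal.Basic

set_option autoImplicit false
set_option linter.unusedSectionVars false

namespace Groth.Agent.Lib.H56PiLocal

open IsLocalRing

variable {S : Type*} [CommRing S] {ι : Type*} [Finite ι] {A : ι → Type*}
  [∀ i, CommRing (A i)] [∀ i, IsLocalRing (A i)] (φ : S ≃+* ∀ i, A i)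

/-- A maximal ideal of a finite product of local rings is the set of elements whose component
at some fixed index is a non-unit. -/
lemma exists_index (n : Ideal S) [hn : n.IsMaximal] :
    ∃ i₀, ∀ b, b ∈ n ↔ ¬ IsUnit (φ b i₀) := by
  classical
  have hn'max : (n.comap φ.symm.toRingHom).IsMaximal :=
    Ideal.comap_isMaximal_of_surjective _ φ.symm.surjective
  let n' : PrimeSpectrum (∀ i, A i) := ⟨n.comap φ.symm.toRingHom, hn'max.isPrime⟩
  obtain ⟨⟨i₀, 𝔭⟩, h⟩ := (PrimeSpectrum.sigmaToPi_bijective A).2 n'
  have h1 : Ideal.comap (Pi.evalRingHom A i₀) 𝔭.asIdeal = n.comap φ.symm.toRingHom := by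
    have := congrArg PrimeSpectrum.asIdeal h
    rwa [PrimeSpectrum.sigmaToPi_apply] at this
  have h2 : n.comap φ.symm.toRingHom =
      Ideal.comap (Pi.evalRingHom A i₀) (maximalIdeal (A i₀)) := by
    refine hn'max.eq_of_le (Ideal.comap_ne_top _ (maximalIdeal.isMaximal _).ne_top) ?_
    rw [← h1]
    exact Ideal.comap_mono (IsLocalRing.le_maximalIdeal 𝔭.isPrime.ne_top)
  refine ⟨i₀, fun b => ?_⟩
  have : b ∈ n ↔ φ b ∈ n.comap φ.symm.toRingHom := by
    rw [Ideal.mem_comap]
    change _ ↔ φ.symm (φ b) ∈ n
    rw [RingEquiv.symm_apply_apply]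
  rw [this, h2, Ideal.mem_comap, IsLocalRing.mem_maximalIdeal]
  rfl

include φ in
/-- A finite product of local rings has finitely many maximal ideals. -/
lemma finite_maximalSpectrum : Finite (MaximalSpectrum S) := by
  choose f hf using fun m : MaximalSpectrum S => exists_index φ m.asIdeal
  refine Finite.of_injective f fun m m' h => ?_
  ext b
  rw [hf m, hf m', h]

section Idem

open Classical in
/-- The idempotent of `S` corresponding to the index `i`. -/
noncomputable def idem (i : ι) : S := φ.symm (Pi.single i 1)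

omit [Finite ι] [∀ i, IsLocalRing (A i)] in
lemma idem_isIdempotentElem (i : ι) : IsIdempotentElem (idem φ i) := by
  classical
  change _ * _ = _
  rw [idem, ← map_mul, ← Pi.single_mul, one_mul]

omit [Finite ι] [∀ i, IsLocalRing (A i)] in
lemma idem_mul_idem_of_ne {i j : ι} (h : i ≠ j) : idem φ i * idem φ j = 0 := by
  classical
  rw [idem, idem, ← map_mul, ← map_zero φ.symm]
  congr 1
  ext k
  rw [Pi.mul_apply, Pi.zero_apply]
  by_cases hk : k = i
  · subst hk
    rw [Pi.single_eq_of_ne h, mul_zero]
  · rw [Pi.single_eq_of_ne hk, zero_mul]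

omit [Finite ι] [∀ i, IsLocalRing (A i)] in
lemma apply_idem_same (i : ι) : φ (idem φ i) i = 1 := by
  classical
  rw [idem, RingEquiv.apply_symm_apply, Pi.single_eq_same]

omit [Finite ι] [∀ i, IsLocalRing (A i)] in
/-- If the `i`-th component of `b` is a unit, then `b` divides the `i`-th idempotent. -/
lemma exists_mul_eq_idem {b : S} {i : ι} (hb : IsUnit (φ b i)) : ∃ b', b * b' = idem φ i := by
  classical
  refine ⟨φ.symm (Pi.single i ↑hb.unit⁻¹), φ.injective ?_⟩
  rw [map_mul, idem, RingEquiv.apply_symm_apply, RingEquiv.apply_symm_apply]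
  ext j
  by_cases hj : j = i
  · subst hj
    rw [Pi.mul_apply, Pi.single_eq_same, Pi.single_eq_same]
    exact hb.mul_val_inv
  · rw [Pi.mul_apply, Pi.single_eq_of_ne hj, Pi.single_eq_of_ne hj, mul_zero]

end Idem

section Loc

variable (n : Ideal S) [hn : n.IsMaximal] {i₀ : ι} (hi₀ : ∀ b, b ∈ n ↔ ¬ IsUnit (φ b i₀))
include hi₀

omit hn [Finite ι] [∀ i, IsLocalRing (A i)] in
lemma idem_notMem : idem φ i₀ ∉ n := by
  rw [hi₀, not_not, apply_idem_same]
  exact isUnit_one

lemma algebraMap_idem_eq_one :
    algebraMap S (Localization.AtPrime n) (idem φ i₀) = 1 := by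
  have h1 : IsUnit (algebraMap S (Localization.AtPrime n) (idem φ i₀)) :=
    IsLocalization.map_units (M := n.primeCompl) _ ⟨idem φ i₀, idem_notMem φ n hi₀⟩
  have h2 : algebraMap S (Localization.AtPrime n) (idem φ i₀) *
      algebraMap S (Localization.AtPrime n) (idem φ i₀) =
      algebraMap S (Localization.AtPrime n) (idem φ i₀) := by
    rw [← map_mul, (idem_isIdempotentElem φ i₀).eq]
  exact h1.mul_left_cancel (by rw [h2, mul_one])

lemma algebraMap_idem_eq_zero {j : ι} (hj : j ≠ i₀) :
    algebraMap S (Localization.AtPrime n) (idem φ j) = 0 := by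
  have h := congrArg (algebraMap S (Localization.AtPrime n)) (idem_mul_idem_of_ne φ hj)
  rw [map_mul, algebraMap_idem_eq_one φ n hi₀, mul_one, map_zero] at h
  exact h

/-- The localization map at a maximal ideal of a finite product of local rings is surjective. -/
lemma algebraMap_localization_surjective :
    Function.Surjective (algebraMap S (Localization.AtPrime n)) := by
  intro x
  obtain ⟨a, ⟨t, ht⟩, rfl⟩ := IsLocalization.exists_mk'_eq n.primeCompl x
  have htu : IsUnit (φ t i₀) := by
    by_contra h
    exact ht ((hi₀ t).mpr h)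
  obtain ⟨t', ht'⟩ := exists_mul_eq_idem φ htu
  refine ⟨a * t', ?_⟩
  rw [IsLocalization.eq_mk'_iff_mul_eq, ← map_mul, mul_assoc, mul_comm t' t, ht', map_mul,
    algebraMap_idem_eq_one φ n hi₀, mul_one]

/-- The kernel of the localization map is generated by `1 - e`. -/
lemma algebraMap_localization_eq_zero_iff (x : S) :
    algebraMap S (Localization.AtPrime n) x = 0 ↔ idem φ i₀ * x = 0 := by
  constructor
  · intro h
    obtain ⟨⟨t, ht⟩, htx⟩ := (IsLocalization.map_eq_zero_iff n.primeCompl _ _).mp h
    have htu : IsUnit (φ t i₀) := by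
      by_contra h
      exact ht ((hi₀ t).mpr h)
    obtain ⟨t', ht'⟩ := exists_mul_eq_idem φ htu
    rw [← ht', mul_comm t t', mul_assoc]
    change t' * (t * x) = 0
    rw [htx, mul_zero]
  · intro h
    have := congrArg (algebraMap S (Localization.AtPrime n)) h
    rwa [map_mul, algebraMap_idem_eq_one φ n hi₀, one_mul, map_zero] at this

end Loc

include φ in
/-- A finite product of local rings maps bijectively onto the product of its localizations at
maximal ideals. -/
theorem bijective_algebraMap_pi :
    Function.Bijective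
      (algebraMap S ((m : MaximalSpectrum S) → Localization.AtPrime m.asIdeal)) := by
  classical
  have : Finite (MaximalSpectrum S) := finite_maximalSpectrum φ
  haveI : Fintype (MaximalSpectrum S) := Fintype.ofFinite _
  choose f hf using fun m : MaximalSpectrum S => exists_index φ m.asIdeal
  have hfinj : Function.Injective f := fun m m' h => by
    ext b
    rw [hf m, hf m', h]
  constructor
  · rw [injective_iff_map_eq_zero]
    intro x hx
    refine eq_zero_of_localization x fun J hJ => ?_
    exact congrFun hx ⟨J, hJ⟩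
  · intro y
    choose s hs using fun m : MaximalSpectrum S =>
      algebraMap_localization_surjective φ m.asIdeal (hf m) (y m)
    refine ⟨∑ m, idem φ (f m) * s m, ?_⟩
    funext m
    rw [Pi.algebraMap_apply, map_sum, Finset.sum_eq_single m]
    · rw [map_mul, algebraMap_idem_eq_one φ m.asIdeal (hf m), one_mul, hs]
    · intro m' _ hm'
      rw [map_mul, algebraMap_idem_eq_zero φ m.asIdeal (hf m) (fun h => hm' (hfinj h)), zero_mul]
    · intro h
      exact absurd (Finset.mem_univ m) h

end Groth.Agent.Lib.H56PiLocal
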