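import Mathlib.RingTheory.Henselian
import Mathlib.RingTheory.Jacobson.Ideal
import Mathlib.RingTheory.Ideal.Quotient.Operations
import Mathlib.Algebra.Polynomial.Reverse
import Mathlib.Algebra.Polynomial.Inductions
import Mathlib.Algebra.Polynomial.Div
import Mathlib.Tactic.LinearCombination
import Mathlib.Tactic.Ring
import Mathlib.Order.Zorn

/-!
Henselian pairs (Mathlib's `HenselianRing A I`):
* root lifting for arbitrary (not necessarily monic) polynomials,
* the quotient of a Henselian pair by an arbitrary ideal is a Henselian pair,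
* sums and directed unions of Henselian ideals are Henselian,
* lifting of idempotents.
-/

set_option autoImplicit false
universe u

namespace Groth.Agent.Lib.HenselQuot

open Polynomial

variable {A : Type u} [CommRing A]

theorem isUnit_of_isUnit_mk' {I : Ideal A} (h : I ≤ Ideal.jacobson ⊥) {x : A}
    (hx : IsUnit (Ideal.Quotient.mk I x)) : IsUnit x := by
  have := isLocalHom_of_le_jacobson_bot I h
  exact IsUnit.of_map (Ideal.Quotient.mk I) x hx

theorem map_mk_le_jacobson' {I : Ideal A} (K : Ideal A) (hI : I ≤ Ideal.jacobson ⊥) :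
    Ideal.map (Ideal.Quotient.mk K) I ≤ Ideal.jacobson ⊥ := by
  intro x hx
  obtain ⟨x, hxJ, rfl⟩ :=
    (Ideal.mem_map_iff_of_surjective _ Ideal.Quotient.mk_surjective).1 hx
  rw [Ideal.mem_jacobson_bot]
  intro y
  obtain ⟨y, rfl⟩ := Ideal.Quotient.mk_surjective y
  have := (Ideal.mem_jacobson_bot.1 (hI hxJ)) y
  have h2 := this.map (Ideal.Quotient.mk K)
  simpa using h2

/-- Root lifting near `0` for an arbitrary polynomial. -/
theorem exists_root_near_zero {I : Ideal A} [hA : HenselianRing A I] (F : A[X])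
    (h0 : F.coeff 0 ∈ I) (h1 : IsUnit (Ideal.Quotient.mk I (F.coeff 1))) :
    ∃ a ∈ I, F.IsRoot a := by
  have hjac := hA.jac
  set b₀ := F.coeff 0 with hb₀
  set b₁ := F.coeff 1 with hb₁
  set Q := divX (divX F) with hQ
  have hF : F = C b₀ + X * (C b₁ + X * Q) := by
    have e1 : divX F * X + C (F.coeff 0) = F := divX_mul_X_add F
    have e2 : divX (divX F) * X + C ((divX F).coeff 0) = divX F := divX_mul_X_add (divX F)
    have e3 : (divX F).coeff 0 = F.coeff 1 := by rw [coeff_divX]
    rw [e3] at e2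
    rw [hb₀, hb₁, hQ]
    conv_lhs => rw [← e1, ← e2]
    ring
  set Q₁ := Q.comp (C b₀ * X) with hQ₁
  set M := Q₁.natDegree with hM
  set T := reflect M Q₁ with hT
  have hTdeg : T.natDegree ≤ M := by
    rw [hT]
    refine natDegree_reflect_le.trans ?_
    simp [hM]
  set H : A[X] := X ^ (M + 2) + (C b₁ * X ^ (M + 1) + C b₀ * T) with hH
  have hmonic : H.Monic := by
    apply monic_X_pow_add
    refine lt_of_le_of_lt (degree_add_le _ _) (max_lt ?_ ?_)
    · refine lt_of_le_of_lt (degree_C_mul_X_pow_le (M + 1) b₁) ?_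
      exact_mod_cast Nat.lt_succ_self (M + 1)
    · refine lt_of_le_of_lt (degree_mul_le _ _) ?_
      have h1 : (C b₀).degree ≤ 0 := degree_C_le
      have h2 : T.degree ≤ M := degree_le_of_natDegree_le hTdeg
      calc (C b₀).degree + T.degree ≤ 0 + (M : WithBot ℕ) := add_le_add h1 h2
        _ = (M : WithBot ℕ) := zero_add _
        _ < ((M + 2 : ℕ) : WithBot ℕ) := by exact_mod_cast (by omega : M < M + 2)
  -- approximate root
  have hev : H.eval (-b₁) = b₀ * T.eval (-b₁) := by
    simp only [hH, eval_add, eval_mul, eval_pow, eval_X, eval_C]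
    ring
  have hder : H.derivative.eval (-b₁) = (-b₁) ^ (M + 1) + b₀ * T.derivative.eval (-b₁) := by
    simp only [hH, derivative_add, derivative_mul, derivative_X_pow, derivative_C, eval_add,
      eval_mul, eval_pow, eval_X, eval_C, zero_mul, zero_add, Nat.cast_add,
      Nat.cast_ofNat, Nat.add_sub_cancel, Nat.cast_one]
    have : M + 2 - 1 = M + 1 := by omega
    rw [this]
    ring
  have hb₁u : IsUnit b₁ := isUnit_of_isUnit_mk' hjac h1
  have h₁ : H.eval (-b₁) ∈ I := by
    rw [hev]; exact Ideal.mul_mem_right _ _ h0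
  have h₂ : IsUnit (Ideal.Quotient.mk I (H.derivative.eval (-b₁))) := by
    rw [hder, map_add, map_mul, Ideal.Quotient.eq_zero_iff_mem.mpr h0, zero_mul, add_zero,
      map_pow, map_neg]
    exact (h1.neg).pow _
  obtain ⟨W, hW, hW'⟩ := hA.is_henselian H hmonic (-b₁) h₁ h₂
  have hWu : IsUnit W := by
    apply isUnit_of_isUnit_mk' hjac
    have : Ideal.Quotient.mk I W = Ideal.Quotient.mk I (-b₁) := by
      rw [Ideal.Quotient.eq]; exact hW'
    rw [this, map_neg]
    exact h1.neg
  obtain ⟨u, rfl⟩ := hWu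
  set V : A := ↑u⁻¹ with hV
  have hVW : V * (u : A) = 1 := u.inv_mul
  have hWV : (u : A) * V = 1 := u.mul_inv
  let _ : Invertible V := ⟨(u : A), hWV, hVW⟩
  have hinv : ⅟V = (u : A) := rfl
  have hTW : T.eval (u : A) * V ^ M = Q.eval (b₀ * V) := by
    have := eval₂_reflect_mul_pow (RingHom.id A) V M Q₁ le_rfl
    rw [hinv] at this
    simp only [eval₂_id] at this
    rw [← hT] at this
    rw [this, hQ₁, eval_comp]
    simp
  refine ⟨b₀ * V, Ideal.mul_mem_right _ _ h0, ?_⟩
  have hHW : (u : A) ^ (M + 2) + (b₁ * (u : A) ^ (M + 1) + b₀ * T.eval (u : A)) = 0 := by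
    have := hW
    rw [IsRoot, hH] at this
    simpa only [eval_add, eval_mul, eval_pow, eval_X, eval_C] using this
  have e1 : V ^ (M + 2) * (u : A) ^ (M + 2) = 1 := by rw [← mul_pow, hVW, one_pow]
  have e2 : V ^ (M + 2) * (u : A) ^ (M + 1) = V := by
    rw [pow_succ V (M + 1), mul_right_comm, ← mul_pow, hVW, one_pow, one_mul]
  rw [IsRoot, hF]
  simp only [eval_add, eval_mul, eval_X, eval_C]
  rw [← hTW]
  linear_combination (b₀ * V ^ (M + 2)) * hHW - b₀ * e1 - b₀ * b₁ * e2

/-- Root lifting for an arbitrary polynomial over a Henselian pair. -/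
theorem exists_root {I : Ideal A} [hA : HenselianRing A I] (F : A[X]) (a₀ : A)
    (h0 : F.eval a₀ ∈ I) (h1 : IsUnit (Ideal.Quotient.mk I (F.derivative.eval a₀))) :
    ∃ a : A, F.IsRoot a ∧ a - a₀ ∈ I := by
  set G := F.comp (X + C a₀) with hG
  have hG0 : G.coeff 0 = F.eval a₀ := by
    rw [coeff_zero_eq_eval_zero, hG, eval_comp]
    simp
  have hG1 : G.coeff 1 = F.derivative.eval a₀ := by
    have : G.coeff 1 = G.derivative.coeff 0 := by
      rw [coeff_derivative]; simp
    rw [this, coeff_zero_eq_eval_zero, hG, derivative_comp, eval_mul, eval_comp]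
    simp
  obtain ⟨a, haI, ha⟩ := exists_root_near_zero (I := I) G (by rw [hG0]; exact h0)
    (by rw [hG1]; exact h1)
  refine ⟨a + a₀, ?_, by simpa using haI⟩
  rw [IsRoot, hG, eval_comp] at ha
  simpa using ha

/-- The quotient of a Henselian pair by an arbitrary ideal is a Henselian pair. -/
theorem henselian_quotient_general (I K : Ideal A) [hA : HenselianRing A I] :
    HenselianRing (A ⧸ K) (Ideal.map (Ideal.Quotient.mk K) I) := by
  have hjac := hA.jac
  have hjac' := map_mk_le_jacobson' K hjac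
  refine ⟨hjac', ?_⟩
  intro f _ a₀ h₁ h₂
  obtain ⟨F₀, rfl⟩ := map_surjective (Ideal.Quotient.mk K) Ideal.Quotient.mk_surjective f
  obtain ⟨a₀, rfl⟩ := Ideal.Quotient.mk_surjective a₀
  rw [eval_map, eval₂_at_apply] at h₁
  rw [derivative_map, eval_map, eval₂_at_apply] at h₂
  set c := F₀.eval a₀ with hc
  set d := F₀.derivative.eval a₀ with hd
  obtain ⟨i, hiI, hi⟩ := (Ideal.mem_map_iff_of_surjective _ Ideal.Quotient.mk_surjective).1 h₁
  obtain ⟨ub, hub⟩ := isUnit_iff_exists_inv.1 h₂
  obtain ⟨ub, rfl⟩ := Ideal.Quotient.mk_surjective ub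
  obtain ⟨u, rfl⟩ := Ideal.Quotient.mk_surjective ub
  have hub' : Ideal.Quotient.mk K (d * u - 1) ∈ Ideal.map (Ideal.Quotient.mk K) I := by
    rw [← Ideal.Quotient.eq_zero_iff_mem, map_sub, map_sub, map_mul, map_mul, map_one, map_one,
      hub, sub_self]
  obtain ⟨i', hi'I, hi'⟩ :=
    (Ideal.mem_map_iff_of_surjective _ Ideal.Quotient.mk_surjective).1 hub'
  -- k' = d * u - 1 - i' ∈ K
  set k' := d * u - 1 - i' with hk'
  have hk'K : k' ∈ K := by
    rw [hk', ← Ideal.Quotient.eq_zero_iff_mem, map_sub, hi', sub_self]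
  set F : A[X] := C u * F₀ - C (u * c) + C (u * i) - C k' * (X - C a₀) with hF
  have hFev : F.eval a₀ = u * i := by
    simp only [hF, eval_add, eval_sub, eval_mul, eval_C, eval_X, ← hc]
    ring
  have hFder : F.derivative.eval a₀ = 1 + i' := by
    simp only [hF, derivative_add, derivative_sub, derivative_mul, derivative_C, derivative_X,
      eval_sub, eval_mul, eval_C, ← hd, zero_mul,
      zero_add, sub_zero, mul_one, add_zero]
    rw [hk']
    ring
  obtain ⟨a, ha, ha'⟩ := exists_root (I := I) F a₀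
    (by rw [hFev]; exact Ideal.mul_mem_left _ _ hiI)
    (by
      rw [hFder, map_add, map_one, Ideal.Quotient.eq_zero_iff_mem.mpr hi'I, add_zero]
      exact isUnit_one)
  have hFmap : F.map (Ideal.Quotient.mk K) =
      C (Ideal.Quotient.mk K u) * F₀.map (Ideal.Quotient.mk K) := by
    simp only [hF, Polynomial.map_add, Polynomial.map_sub, Polynomial.map_mul, map_C, map_X,
      map_mul]
    rw [Ideal.Quotient.eq_zero_iff_mem.mpr hk'K, ← hi]
    simp
  -- u is a unit in the quotient
  have huu : IsUnit (Ideal.Quotient.mk K u) := by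
    have e : Ideal.Quotient.mk K d * Ideal.Quotient.mk K u = 1 + Ideal.Quotient.mk K i' := by
      rw [← map_mul, ← map_one (Ideal.Quotient.mk K), ← map_add]
      rw [Ideal.Quotient.eq]
      have : d * u - (1 + i') = k' := by rw [hk']; ring
      rw [this]; exact hk'K
    have h1 : IsUnit (1 + Ideal.Quotient.mk K i') := by
      have hmem : Ideal.Quotient.mk K i' ∈ Ideal.jacobson (⊥ : Ideal (A ⧸ K)) :=
        hjac' (Ideal.mem_map_of_mem _ hi'I)
      have := (Ideal.mem_jacobson_bot.1 hmem) 1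
      simpa [add_comm] using this
    rw [← e] at h1
    exact isUnit_of_mul_isUnit_right h1
  refine ⟨Ideal.Quotient.mk K a, ?_, ?_⟩
  · have h3 : (F.map (Ideal.Quotient.mk K)).eval (Ideal.Quotient.mk K a) = 0 := by
      rw [eval_map, eval₂_at_apply, ha, map_zero]
    rw [hFmap, eval_mul, eval_C] at h3
    exact (huu.mul_right_eq_zero).mp h3
  · rw [← map_sub]
    exact Ideal.mem_map_of_mem _ ha'

/-- If `A` is Henselian at `I` and at `J`, it is Henselian at `I ⊔ J`. -/
theorem henselian_sup (I J : Ideal A) [hI : HenselianRing A I] [hJ : HenselianRing A J] :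
    HenselianRing A (I ⊔ J) := by
  have hjacI := hI.jac
  have hjacJ := hJ.jac
  have hjac : I ⊔ J ≤ Ideal.jacobson ⊥ := sup_le hjacI hjacJ
  refine ⟨hjac, ?_⟩
  intro f hf a₀ h₁ h₂
  have hu : IsUnit (f.derivative.eval a₀) := isUnit_of_isUnit_mk' hjac h₂
  have hq : HenselianRing (A ⧸ I) (Ideal.map (Ideal.Quotient.mk I) J) :=
    henselian_quotient_general J I
  obtain ⟨i, hi, j, hj, hij⟩ := Submodule.mem_sup.1 h₁
  obtain ⟨b, hb, hb'⟩ := hq.is_henselian (f.map (Ideal.Quotient.mk I)) (hf.map _)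
    (Ideal.Quotient.mk I a₀)
    (by
      rw [eval_map, eval₂_at_apply, ← hij, map_add, Ideal.Quotient.eq_zero_iff_mem.mpr hi,
        zero_add]
      exact Ideal.mem_map_of_mem _ hj)
    (by rw [derivative_map, eval_map, eval₂_at_apply]; exact (hu.map _).map _)
  obtain ⟨j', hj', hj'b⟩ :=
    (Ideal.mem_map_iff_of_surjective _ Ideal.Quotient.mk_surjective).1 hb'
  have hb2 : b = Ideal.Quotient.mk I (a₀ + j') := by
    rw [map_add, hj'b]; ring
  rw [hb2, IsRoot, eval_map, eval₂_at_apply, Ideal.Quotient.eq_zero_iff_mem] at hb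
  have hu₁ : IsUnit (f.derivative.eval (a₀ + j')) := by
    apply isUnit_of_isUnit_mk' hjacJ
    have : Ideal.Quotient.mk J (f.derivative.eval (a₀ + j')) =
        Ideal.Quotient.mk J (f.derivative.eval a₀) := by
      rw [Ideal.Quotient.eq]
      obtain ⟨c, hc⟩ := sub_dvd_eval_sub (a₀ + j') a₀ f.derivative
      rw [hc]
      apply Ideal.mul_mem_right
      simpa using hj'
    rw [this]
    exact hu.map _
  obtain ⟨a, ha, ha'⟩ := hI.is_henselian f hf (a₀ + j') hb (hu₁.map _)
  refine ⟨a, ha, ?_⟩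
  have : a - a₀ = (a - (a₀ + j')) + j' := by ring
  rw [this]
  exact Submodule.add_mem_sup ha' hj'

theorem henselian_bot : HenselianRing A (⊥ : Ideal A) := by
  refine ⟨bot_le, ?_⟩
  intro f _ a₀ h₁ _
  exact ⟨a₀, by simpa [IsRoot] using h₁, by simp⟩

/-- The supremum of a nonempty chain of Henselian ideals is Henselian. -/
theorem henselian_sSup_of_chain (c : Set (Ideal A)) (hc : IsChain (· ≤ ·) c)
    (hne : c.Nonempty) (h : ∀ I ∈ c, HenselianRing A I) : HenselianRing A (sSup c) := by
  have hjac : sSup c ≤ Ideal.jacobson ⊥ := sSup_le fun I hI => (h I hI).jac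
  refine ⟨hjac, ?_⟩
  intro f hf a₀ h₁ h₂
  have hu : IsUnit (f.derivative.eval a₀) := isUnit_of_isUnit_mk' hjac h₂
  obtain ⟨I, hIc, hI⟩ := (Submodule.mem_sSup_of_directed hne hc.directedOn).1 h₁
  obtain ⟨a, ha, ha'⟩ := (h I hIc).is_henselian f hf a₀ hI (hu.map _)
  exact ⟨a, ha, (le_sSup hIc) ha'⟩

/-- Every ring has a largest ideal at which it is Henselian. -/
theorem exists_largest_henselian (A : Type u) [CommRing A] :
    ∃ I : Ideal A, HenselianRing A I ∧ ∀ J : Ideal A, HenselianRing A J → J ≤ I := by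
  obtain ⟨M, hM⟩ := zorn_le₀ {I : Ideal A | HenselianRing A I} (by
    intro c hcS hc
    by_cases hne : c.Nonempty
    · exact ⟨sSup c, henselian_sSup_of_chain c hc hne (fun I hI => hcS hI),
        fun z hz => le_sSup hz⟩
    · rw [Set.not_nonempty_iff_eq_empty] at hne
      exact ⟨⊥, henselian_bot, fun z hz => by simp [hne] at hz⟩)
  refine ⟨M, hM.prop, fun J hJ => ?_⟩
  have : HenselianRing A M := hM.prop
  have : HenselianRing A J := hJ
  have h1 : HenselianRing A (M ⊔ J) := henselian_sup M J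
  have h2 : M ⊔ J ≤ M := hM.le_of_ge h1 le_sup_left
  exact le_sup_right.trans h2

/-- Idempotents lift along a Henselian pair. -/
theorem exists_idempotent_lift {I : Ideal A} [hA : HenselianRing A I] (e : A)
    (he : e * e - e ∈ I) : ∃ e' : A, IsIdempotentElem e' ∧ e' - e ∈ I := by
  have hmonic : (X ^ 2 - X : A[X]).Monic := by
    by_cases hA1 : Nontrivial A
    · apply monic_X_pow_sub
      rw [degree_X]
      exact_mod_cast (by norm_num : (1 : ℕ) < 2)
    · rw [not_nontrivial_iff_subsingleton] at hA1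
      exact monic_of_subsingleton _
  obtain ⟨a, ha, ha'⟩ := hA.is_henselian (X ^ 2 - X) hmonic e
    (by simpa [pow_two] using he)
    (by
      have h2 : (2 * e - 1) * (2 * e - 1) - 1 ∈ I := by
        have : (2 * e - 1) * (2 * e - 1) - 1 = 4 * (e * e - e) := by ring
        rw [this]
        exact Ideal.mul_mem_left _ _ he
      have h3 : Ideal.Quotient.mk I (2 * e - 1) * Ideal.Quotient.mk I (2 * e - 1) = 1 := by
        rw [← map_mul, ← map_one (Ideal.Quotient.mk I), Ideal.Quotient.eq]
        exact h2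
      have h4 : (X ^ 2 - X : A[X]).derivative.eval e = 2 * e - 1 := by
        simp
        ring
      rw [h4]
      exact IsUnit.of_mul_eq_one _ h3)
  refine ⟨a, ?_, ha'⟩
  have : a ^ 2 - a = 0 := by simpa [IsRoot] using ha
  rw [IsIdempotentElem]
  linear_combination this

end Groth.Agent.Lib.HenselQuot
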