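/-
Noetherian rings `S` complete with respect to an ideal `J` with `S ⧸ J` Artinian
(complete semilocal rings): finitely many maximal ideals, `S → S_M` surjective,
`S_M` complete local, `𝔪_{S_M}` is the radical of `J S_M`.
Author: helper89
-/
import Mathlib
import Groth.Agent.Lib.PiLocalDecomp22
import Groth.Agent.Lib.H56PiLocal
import Groth.Agent.Lib.HenselQuot
import Groth.Agent.Lib.H14QFCompl

set_option autoImplicit false
universe u

namespace Groth.Agent.Lib.ComplSemilocal89

open IsLocalRing

variable {S : Type u} [CommRing S] (J : Ideal S) [IsAdicComplete J S] [IsArtinianRing (S ⧸ J)]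

include J in
/-- A `J`-adically complete ring with `S ⧸ J` Artinian is a finite product of local rings. -/
theorem exists_ringEquiv_pi :
    ∃ (ι : Type u) (_ : Finite ι) (C : ι → Type u) (_ : ∀ i, CommRing (C i))
      (_ : ∀ i, IsLocalRing (C i)), Nonempty (S ≃+* ∀ i, C i) := by
  classical
  have hJ : J ≤ Ideal.jacobson ⊥ := IsAdicComplete.le_jacobson_bot J
  have hlift : ∀ x : S ⧸ J, IsIdempotentElem x → ∃ e : S, IsIdempotentElem e ∧
      Ideal.Quotient.mk J e = x := by
    intro x hx
    obtain ⟨e, rfl⟩ := Ideal.Quotient.mk_surjective x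
    have he : e * e - e ∈ J := by
      rw [← Ideal.Quotient.eq_zero_iff_mem, map_sub, map_mul, hx.eq, sub_self]
    obtain ⟨e', he', hee⟩ := Groth.Agent.Lib.HenselQuot.exists_idempotent_lift (I := J) e he
    exact ⟨e', he', Ideal.Quotient.eq.mpr hee⟩
  obtain ⟨hfin, ε, hε, hloc⟩ :=
    Groth.Agent.Lib.PiLocalDecomp22.exists_completeOrthogonalIdempotents J hJ hlift
  exact ⟨MaximalSpectrum (S ⧸ J), inferInstance, fun i => S ⧸ Ideal.span {1 - ε i},
    fun i => inferInstance, hloc, ⟨RingEquiv.ofBijective _ hε.bijective_pi⟩⟩

include J in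
theorem finite_maximalSpectrum : Finite (MaximalSpectrum S) := by
  obtain ⟨ι, hι, C, _, _, ⟨φ⟩⟩ := exists_ringEquiv_pi J
  exact Groth.Agent.Lib.H56PiLocal.finite_maximalSpectrum φ

include J in
theorem surjective_algebraMap_localization (M : Ideal S) [M.IsMaximal] :
    Function.Surjective (algebraMap S (Localization.AtPrime M)) := by
  obtain ⟨ι, hι, C, _, _, ⟨φ⟩⟩ := exists_ringEquiv_pi J
  obtain ⟨i₀, hi₀⟩ := Groth.Agent.Lib.H56PiLocal.exists_index φ M
  exact Groth.Agent.Lib.H56PiLocal.algebraMap_localization_surjective φ M hi₀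

omit [IsAdicComplete J S] in
/-- Every prime of `S` containing `J` is maximal (as `S ⧸ J` is Artinian). -/
theorem isMaximal_of_isPrime_of_le (q : Ideal S) [q.IsPrime] (hq : J ≤ q) : q.IsMaximal := by
  have h1 : (q.map (Ideal.Quotient.mk J)).IsPrime :=
    Ideal.map_isPrime_of_surjective Ideal.Quotient.mk_surjective (by rwa [Ideal.mk_ker])
  have h2 : (q.map (Ideal.Quotient.mk J)).IsMaximal := IsArtinianRing.isMaximal_of_isPrime _
  have h3 : q = (q.map (Ideal.Quotient.mk J)).comap (Ideal.Quotient.mk J) := by
    rw [Ideal.comap_map_of_surjective _ Ideal.Quotient.mk_surjective,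
      ← RingHom.ker_eq_comap_bot, Ideal.mk_ker, sup_eq_left.mpr hq]
  rw [h3]
  exact Ideal.comap_isMaximal_of_surjective _ Ideal.Quotient.mk_surjective

section Local

variable (M : Ideal S) [M.IsMaximal]

omit [IsAdicComplete J S] in
/-- The maximal ideal of `S_M` is the radical of `J S_M`. -/
theorem maximalIdeal_le_radical :
    maximalIdeal (Localization.AtPrime M) ≤
      (J.map (algebraMap S (Localization.AtPrime M))).radical := by
  rw [Ideal.radical_eq_sInf]
  refine le_sInf ?_
  rintro P ⟨hJP, hP⟩
  have : P.IsPrime := hP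
  have hq : J ≤ P.comap (algebraMap S (Localization.AtPrime M)) :=
    Ideal.map_le_iff_le_comap.mp hJP
  have hqmax : (P.comap (algebraMap S (Localization.AtPrime M))).IsMaximal :=
    isMaximal_of_isPrime_of_le J _ hq
  have hqM : P.comap (algebraMap S (Localization.AtPrime M)) ≤ M := by
    intro x hx
    by_contra hxM
    have hu : IsUnit (algebraMap S (Localization.AtPrime M) x) :=
      IsLocalization.map_units (M := M.primeCompl) _ ⟨x, hxM⟩
    exact hP.ne_top (Ideal.eq_top_of_isUnit_mem _ hx hu)
  have hqeq : P.comap (algebraMap S (Localization.AtPrime M)) = M :=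
    hqmax.eq_of_le (Ideal.IsMaximal.ne_top inferInstance) hqM
  have hP' : P = (P.comap (algebraMap S (Localization.AtPrime M))).map
      (algebraMap S (Localization.AtPrime M)) :=
    (IsLocalization.map_under M.primeCompl _ P).symm
  rw [hP', hqeq, Localization.AtPrime.map_eq_maximalIdeal]

variable [IsNoetherianRing S]

include J in
/-- `S_M` is a complete local ring. -/
theorem isAdicComplete_localization :
    IsAdicComplete (maximalIdeal (Localization.AtPrime M)) (Localization.AtPrime M) := by
  have hsurj := surjective_algebraMap_localization J M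
  have hfin : Module.Finite S (Localization.AtPrime M) :=
    Module.Finite.of_surjective (Algebra.linearMap S (Localization.AtPrime M)) hsurj
  have hH : IsHausdorff J (Localization.AtPrime M) :=
    IsHausdorff.of_le_jacobson _ _ (IsAdicComplete.le_jacobson_bot J)
  have hP : IsPrecomplete J (Localization.AtPrime M) :=
    Groth.Agent.Lib.H14QFCompl.isPrecomplete_of_surjective J S
      (Algebra.linearMap S (Localization.AtPrime M)) hsurj
  have hc : IsAdicComplete J (Localization.AtPrime M) := { hH, hP with }
  have hc' : IsAdicComplete (J.map (algebraMap S (Localization.AtPrime M)))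
      (Localization.AtPrime M) :=
    (IsAdicComplete.map_algebraMap_iff (R := S) (S := Localization.AtPrime M)
      (M := Localization.AtPrime M) J).mpr hc
  have hN : IsNoetherianRing (Localization.AtPrime M) :=
    IsLocalization.isNoetherianRing M.primeCompl _ inferInstance
  obtain ⟨N, hN'⟩ := Ideal.exists_radical_pow_le_of_fg
    (J.map (algebraMap S (Localization.AtPrime M))) (IsNoetherian.noetherian _)
  have hle : J.map (algebraMap S (Localization.AtPrime M)) ≤
      maximalIdeal (Localization.AtPrime M) := by
    rw [Ideal.map_le_iff_le_comap]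
    intro x hx
    have hxM : x ∈ M := by
      have h1 : J ≤ Ideal.jacobson ⊥ := IsAdicComplete.le_jacobson_bot J
      have h2 : (Ideal.jacobson ⊥ : Ideal S) ≤ M := by
        rw [Ideal.jacobson]
        exact sInf_le ⟨bot_le, inferInstance⟩
      exact h2 (h1 hx)
    exact (IsLocalization.AtPrime.to_map_mem_maximal_iff (Localization.AtPrime M) M x).mpr hxM
  exact Groth.Agent.Lib.H14QFCompl.isAdicComplete_of_le_of_pow_le _ _ _ hle N
    ((Ideal.pow_right_mono (maximalIdeal_le_radical J M) N).trans hN')

end Local

end Groth.Agent.Lib.ComplSemilocal89
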