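import Mathlib
import Groth.Agent.Lib.FlatCrit
import Groth.Agent.Lib.AdicDecaying

/-!
# Stacks 0912: complete modules with flat reductions are flat

Let `S` be a Noetherian ring, `J` an ideal and `N` a `J`-adically complete `S`-module such that
`(S ⧸ J ^ n) ⊗ N` is flat over `S ⧸ J ^ n` for all `n > 0`.  Then `N` is flat over `S`.
-/

set_option autoImplicit false
universe u v

namespace Groth.Agent.Lib.CompleteFlat89

open TensorProduct Function

section Psi

variable {S : Type u} [CommRing S] {N : Type v} [AddCommGroup N] [Module S N]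
variable {k l : ℕ} (ρ : Fin l → (Fin k → S))

/-- `m ↦ (∑ i, ρ i j • m i)_j`. -/
def Psi : (Fin l → N) →ₗ[S] (Fin k → N) where
  toFun m := fun j => ∑ i, ρ i j • m i
  map_add' m m' := by
    funext j
    simp [smul_add, Finset.sum_add_distrib]
  map_smul' a m := by
    funext j
    simp [Finset.smul_sum, smul_comm a]

@[simp] theorem Psi_apply (m : Fin l → N) (j : Fin k) : Psi ρ m j = ∑ i, ρ i j • m i := rfl

end Psi

section Quot

variable {S : Type u} [CommRing S] (J : Ideal S) {N : Type v} [AddCommGroup N] [Module S N]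

theorem one_tmul_eq_zero_iff (n : N) :
    ((1 : S ⧸ J) ⊗ₜ[S] n = 0) ↔ n ∈ J • (⊤ : Submodule S N) := by
  have h := TensorProduct.quotTensorEquivQuotSMul_mk_tmul (M := N) J 1 n
  rw [one_smul] at h
  constructor
  · intro h0
    have : (Ideal.Quotient.mk J (1 : S)) ⊗ₜ[S] n = 0 := by simpa using h0
    rw [this, map_zero] at h
    exact (Submodule.Quotient.mk_eq_zero _).mp h.symm
  · intro hn
    have h1 : TensorProduct.quotTensorEquivQuotSMul N J
        ((Ideal.Quotient.mk J (1 : S)) ⊗ₜ[S] n) = 0 := by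
      rw [h]
      exact (Submodule.Quotient.mk_eq_zero _).mpr hn
    have := (TensorProduct.quotTensorEquivQuotSMul N J).injective (h1.trans (map_zero _).symm)
    simpa using this

theorem exists_one_tmul (t : (S ⧸ J) ⊗[S] N) : ∃ n : N, t = (1 : S ⧸ J) ⊗ₜ[S] n := by
  induction t with
  | zero => exact ⟨0, by simp⟩
  | tmul s n =>
    obtain ⟨s, rfl⟩ := Ideal.Quotient.mk_surjective s
    refine ⟨s • n, ?_⟩
    rw [TensorProduct.tmul_smul, TensorProduct.smul_tmul']
    congr 1
    rw [Algebra.smul_def, mul_one]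
    rfl
  | add x y hx hy =>
    obtain ⟨a, rfl⟩ := hx
    obtain ⟨b, rfl⟩ := hy
    exact ⟨a + b, by rw [TensorProduct.tmul_add]⟩

theorem mk_smul_one_tmul (s : S) (n : N) :
    (Ideal.Quotient.mk J s) • ((1 : S ⧸ J) ⊗ₜ[S] n) = (1 : S ⧸ J) ⊗ₜ[S] (s • n) := by
  rw [TensorProduct.smul_tmul', smul_eq_mul, mul_one, TensorProduct.tmul_smul,
    TensorProduct.smul_tmul']
  congr 1
  rw [Algebra.smul_def, mul_one]
  rfl

end Quot

section Key

variable {S : Type u} [CommRing S] [IsNoetherianRing S] (J : Ideal S) {N : Type v}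
  [AddCommGroup N] [Module S N]
variable {k l : ℕ} (ρ : Fin l → (Fin k → S))

/-- Artin–Rees + flatness of the reductions: relations with small value have small
representatives. -/
theorem exists_shift
    (hflat : ∀ n : ℕ, 0 < n → Module.Flat (S ⧸ J ^ n) ((S ⧸ J ^ n) ⊗[S] N)) :
    ∃ c : ℕ, ∀ (n : ℕ) (m : Fin l → N),
      (∀ j, Psi ρ m j ∈ J ^ (n + c + 1) • (⊤ : Submodule S N)) →
      ∃ m' : Fin l → N, (∀ i, m' i ∈ J ^ n • (⊤ : Submodule S N)) ∧ Psi ρ m' = Psi ρ m := by
  classical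
  obtain ⟨c, hc⟩ := Ideal.exists_pow_inf_eq_pow_smul J (Submodule.span S (Set.range ρ))
  refine ⟨c, fun n m hm => ?_⟩
  obtain ⟨p, hp⟩ : ∃ p, p = n + c + 1 := ⟨_, rfl⟩
  rw [← hp] at hm
  have hp0 : 0 < p := by omega
  have hfl := hflat p hp0
  -- the relation maps
  let f : (Fin k → S ⧸ J ^ p) →ₗ[S ⧸ J ^ p] (Fin l → S ⧸ J ^ p) :=
    { toFun := fun v i => ∑ j, Ideal.Quotient.mk (J ^ p) (ρ i j) * v j
      map_add' := fun v v' => by
        funext i
        simp [mul_add, Finset.sum_add_distrib]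
      map_smul' := fun r v => by
        funext i
        simp only [Pi.smul_apply, smul_eq_mul, RingHom.id_apply, Finset.mul_sum]
        refine Finset.sum_congr rfl fun j _ => ?_
        ring }
  let x : (Fin l → S ⧸ J ^ p) →ₗ[S ⧸ J ^ p] (S ⧸ J ^ p) ⊗[S] N :=
    { toFun := fun u => ∑ i, u i • ((1 : S ⧸ J ^ p) ⊗ₜ[S] m i)
      map_add' := fun u u' => by
        simp [add_smul, Finset.sum_add_distrib]
      map_smul' := fun r u => by
        simp [Finset.smul_sum, mul_smul] }
  have hxf : x ∘ₗ f = 0 := by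
    refine LinearMap.ext fun v => ?_
    change ∑ i, (∑ j, Ideal.Quotient.mk (J ^ p) (ρ i j) * v j) • ((1 : S ⧸ J ^ p) ⊗ₜ[S] m i) = 0
    simp_rw [Finset.sum_smul]
    rw [Finset.sum_comm]
    refine Finset.sum_eq_zero fun j _ => ?_
    have h1 : ∀ i, (Ideal.Quotient.mk (J ^ p) (ρ i j) * v j) • ((1 : S ⧸ J ^ p) ⊗ₜ[S] m i)
        = v j • ((1 : S ⧸ J ^ p) ⊗ₜ[S] (ρ i j • m i)) := by
      intro i
      rw [mul_comm, mul_smul, mk_smul_one_tmul]
    simp_rw [h1]
    rw [← Finset.smul_sum, ← TensorProduct.tmul_sum]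
    have h2 : (1 : S ⧸ J ^ p) ⊗ₜ[S] (∑ i, ρ i j • m i) = 0 :=
      (one_tmul_eq_zero_iff (J ^ p) _).mpr (hm j)
    rw [h2, smul_zero]
  obtain ⟨κ, a, y, hxy, haf⟩ := Module.Flat.exists_factorization_of_comp_eq_zero_of_free hxf
  -- lifts
  have hb : ∀ (t : Fin κ) (i : Fin l), ∃ s : S,
      Ideal.Quotient.mk (J ^ p) s = a (Pi.single i 1) t :=
    fun t i => Ideal.Quotient.mk_surjective _
  choose b hb using hb
  have hw : ∀ t : Fin κ, ∃ n : N, y (Finsupp.single t 1) = (1 : S ⧸ J ^ p) ⊗ₜ[S] n :=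
    fun t => exists_one_tmul (J ^ p) _
  choose w hw using hw
  have hy : ∀ g : Fin κ →₀ (S ⧸ J ^ p), y g = ∑ t, g t • y (Finsupp.single t 1) := by
    intro g
    conv_lhs => rw [← Finsupp.univ_sum_single g]
    rw [map_sum]
    refine Finset.sum_congr rfl fun t _ => ?_
    rw [← map_smul, Finsupp.smul_single, smul_eq_mul, mul_one]
  have hx1 : ∀ i, x (Pi.single i 1) = (1 : S ⧸ J ^ p) ⊗ₜ[S] m i := by
    intro i
    change ∑ i', (Pi.single i (1 : S ⧸ J ^ p) : Fin l → S ⧸ J ^ p) i' •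
      ((1 : S ⧸ J ^ p) ⊗ₜ[S] m i') = _
    rw [Finset.sum_eq_single i]
    · rw [Pi.single_eq_same, one_smul]
    · intro i' _ hne
      rw [Pi.single_eq_of_ne hne, zero_smul]
    · intro h
      exact absurd (Finset.mem_univ i) h
  have hm1 : ∀ i, m i - ∑ t, b t i • w t ∈ J ^ p • (⊤ : Submodule S N) := by
    intro i
    rw [← one_tmul_eq_zero_iff (J ^ p), TensorProduct.tmul_sub, sub_eq_zero, ← hx1 i, hxy,
      LinearMap.comp_apply, hy, TensorProduct.tmul_sum]
    refine Finset.sum_congr rfl fun t _ => ?_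
    rw [← hb t i, hw t, mk_smul_one_tmul]
  -- the relations among the `b t i`
  have hf1 : ∀ j, f (Pi.single j 1) = ∑ i, Ideal.Quotient.mk (J ^ p) (ρ i j) •
      (Pi.single i (1 : S ⧸ J ^ p) : Fin l → S ⧸ J ^ p) := by
    intro j
    funext i
    change ∑ j', Ideal.Quotient.mk (J ^ p) (ρ i j') *
      (Pi.single j (1 : S ⧸ J ^ p) : Fin k → S ⧸ J ^ p) j' = _
    rw [Finset.sum_eq_single j]
    · rw [Pi.single_eq_same, mul_one, Finset.sum_apply, Finset.sum_eq_single i]
      · simp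
      · intro i' _ hne
        simp [Pi.single_eq_of_ne hne.symm]
      · intro h
        exact absurd (Finset.mem_univ i) h
    · intro j' _ hne
      rw [Pi.single_eq_of_ne hne, mul_zero]
    · intro h
      exact absurd (Finset.mem_univ j) h
  have hb1 : ∀ t j, ∑ i, b t i * ρ i j ∈ J ^ p := by
    intro t j
    have h1 := congrArg (fun g : Fin κ →₀ (S ⧸ J ^ p) => g t) (LinearMap.congr_fun haf (Pi.single j 1))
    simp only [LinearMap.comp_apply, LinearMap.zero_apply, Finsupp.coe_zero, Pi.zero_apply] at h1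
    rw [hf1 j, map_sum] at h1
    simp only [map_smul, Finsupp.coe_finsetSum, Finsupp.coe_smul, Finset.sum_apply,
      Pi.smul_apply, smul_eq_mul] at h1
    simp_rw [← hb t] at h1
    rw [← Ideal.Quotient.eq_zero_iff_mem, map_sum]
    simp_rw [map_mul]
    rw [← h1]
    refine Finset.sum_congr rfl fun i _ => ?_
    ring
  -- Artin–Rees
  have hβ : ∀ t, ∑ i, b t i • ρ i ∈ J ^ n • Submodule.span S (Set.range ρ) := by
    intro t
    have h1 : ∑ i, b t i • ρ i ∈ J ^ p • (⊤ : Submodule S (Fin k → S)) := by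
      apply Groth.Agent.Lib.AdicDecaying.mem_pow_smul_top_pi
      intro j
      simpa [Finset.sum_apply] using hb1 t j
    have h2 : ∑ i, b t i • ρ i ∈ Submodule.span S (Set.range ρ) :=
      Submodule.sum_mem _ fun i _ => Submodule.smul_mem _ _ (Submodule.subset_span ⟨i, rfl⟩)
    have h3 := hc p (by omega)
    have h4 : ∑ i, b t i • ρ i ∈ J ^ p • (⊤ : Submodule S (Fin k → S)) ⊓
        Submodule.span S (Set.range ρ) := ⟨h1, h2⟩
    rw [h3] at h4
    have h5 : p - c = n + 1 := by omega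
    rw [h5] at h4
    exact Submodule.smul_mono (Ideal.pow_le_pow_right (Nat.le_succ n)) inf_le_right h4
  have hγ : ∀ t, ∃ γ : Fin l → S, (∀ i, γ i ∈ J ^ n) ∧ ∑ i, b t i • ρ i = ∑ i, γ i • ρ i :=
    fun t => Groth.Agent.Lib.AdicDecaying.exists_coeff_of_mem_smul_span ρ (J ^ n) (hβ t)
  choose γ hγ1 hγ2 using hγ
  refine ⟨fun i => (m i - ∑ t, b t i • w t) + ∑ t, γ t i • w t, fun i => ?_, ?_⟩
  · refine Submodule.add_mem _ ?_ ?_
    · exact Submodule.smul_mono (Ideal.pow_le_pow_right (by omega)) le_rfl (hm1 i)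
    · exact Submodule.sum_mem _ fun t _ => Submodule.smul_mem_smul (hγ1 t i) Submodule.mem_top
  · funext j
    simp only [Psi_apply, smul_add, smul_sub, Finset.sum_add_distrib, Finset.sum_sub_distrib]
    have h1 : ∀ c' : Fin κ → Fin l → S, ∑ i, ρ i j • ∑ t, c' t i • w t
        = ∑ t, (∑ i, c' t i • ρ i) j • w t := by
      intro c'
      simp_rw [Finset.smul_sum]
      rw [Finset.sum_comm]
      refine Finset.sum_congr rfl fun t _ => ?_
      rw [Finset.sum_apply, Finset.sum_smul]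
      refine Finset.sum_congr rfl fun i _ => ?_
      rw [Pi.smul_apply, smul_eq_mul, smul_smul, mul_comm]
    rw [h1 b, h1 γ]
    simp_rw [hγ2]
    abel

end Key

section Closed

variable {S : Type u} [CommRing S] [IsNoetherianRing S] (J : Ideal S) {N : Type v}
  [AddCommGroup N] [Module S N]
variable {k l : ℕ} (ρ : Fin l → (Fin k → S))

omit [IsNoetherianRing S] in
theorem Psi_mem (n : ℕ) (m : Fin l → N) (hm : ∀ i, m i ∈ J ^ n • (⊤ : Submodule S N)) (j : Fin k) :
    Psi ρ m j ∈ J ^ n • (⊤ : Submodule S N) := by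
  rw [Psi_apply]
  exact Submodule.sum_mem _ fun i _ => Submodule.smul_mem _ _ (hm i)

/-- The image of `Psi ρ` is closed for the `J`-adic topology. -/
theorem closed_range_Psi [IsAdicComplete J N]
    (hflat : ∀ n : ℕ, 0 < n → Module.Flat (S ⧸ J ^ n) ((S ⧸ J ^ n) ⊗[S] N))
    (y : Fin k → N)
    (hy : ∀ n : ℕ, ∃ m : Fin l → N, ∀ j, y j - Psi ρ m j ∈ J ^ n • (⊤ : Submodule S N)) :
    ∃ m : Fin l → N, y = Psi ρ m := by
  classical
  obtain ⟨c, hc⟩ := exists_shift J (N := N) ρ hflat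
  choose μ' hμ' using hy
  let μ : ℕ → Fin l → N := fun n => μ' (n + c + 1)
  have hμ : ∀ n j, y j - Psi ρ (μ n) j ∈ J ^ (n + c + 1) • (⊤ : Submodule S N) :=
    fun n j => hμ' (n + c + 1) j
  have hδ : ∀ n, ∃ δ : Fin l → N, (∀ i, δ i ∈ J ^ n • (⊤ : Submodule S N)) ∧
      Psi ρ δ = Psi ρ (μ (n + 1) - μ n) := by
    intro n
    apply hc n
    intro j
    have h1 : Psi ρ (μ (n + 1) - μ n) j = (y j - Psi ρ (μ n) j) - (y j - Psi ρ (μ (n + 1)) j) := by
      rw [map_sub, Pi.sub_apply]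
      abel
    rw [h1]
    refine Submodule.sub_mem _ (hμ n j) ?_
    exact Submodule.smul_mono (Ideal.pow_le_pow_right (by omega)) le_rfl (hμ (n + 1) j)
  choose δ hδ1 hδ2 using hδ
  let σ : ℕ → Fin l → N := fun n => μ 0 + ∑ i ∈ Finset.range n, δ i
  have hσ : ∀ n, Psi ρ (σ n) = Psi ρ (μ n) := by
    intro n
    induction n with
    | zero => simp [σ]
    | succ n ih =>
      have : σ (n + 1) = σ n + δ n := by
        simp only [σ, Finset.sum_range_succ]
        abel
      rw [this, map_add, ih, hδ2, map_sub]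
      abel
  have hL : ∀ i, ∃ L : N, ∀ n, σ n i ≡ L [SMOD (J ^ n • ⊤ : Submodule S N)] := by
    intro i
    apply IsPrecomplete.prec (I := J) inferInstance
    intro a b hab
    have hcauchy : AdicCompletion.IsAdicCauchy J N (fun n => σ n i) := by
      rw [AdicCompletion.isAdicCauchy_iff]
      intro n
      rw [SModEq.sub_mem]
      have : σ n i - σ (n + 1) i = - δ n i := by
        simp only [σ, Finset.sum_range_succ, Pi.add_apply, Finset.sum_apply]
        abel
      rw [this]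
      exact Submodule.neg_mem _ (hδ1 n i)
    exact hcauchy hab
  choose L hL using hL
  refine ⟨L, ?_⟩
  funext j
  rw [← sub_eq_zero]
  apply IsHausdorff.haus (I := J) inferInstance
  intro n
  rw [SModEq.zero]
  have h1 : y j - Psi ρ L j = (y j - Psi ρ (μ n) j) + Psi ρ (σ n - L) j := by
    rw [map_sub, Pi.sub_apply, hσ n]
    abel
  rw [h1]
  refine Submodule.add_mem _ ?_ ?_
  · exact Submodule.smul_mono (Ideal.pow_le_pow_right (by omega)) le_rfl (hμ n j)
  · apply Psi_mem
    intro i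
    have := hL i n
    rw [SModEq.sub_mem] at this
    exact this

end Closed

section Sep

variable {S : Type u} [CommRing S] [IsNoetherianRing S] (J : Ideal S) {N : Type v}
  [AddCommGroup N] [Module S N]

/-- `𝔞 ⊗ N` is `J`-adically separated for every ideal `𝔞`. -/
theorem sep [IsAdicComplete J N]
    (hflat : ∀ n : ℕ, 0 < n → Module.Flat (S ⧸ J ^ n) ((S ⧸ J ^ n) ⊗[S] N))
    (𝔞 : Ideal S) (x : 𝔞 ⊗[S] N)
    (hx : ∀ n : ℕ, x ∈ J ^ n • (⊤ : Submodule S (𝔞 ⊗[S] N))) : x = 0 := by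
  classical
  obtain ⟨k, a, ha⟩ := Module.Finite.exists_fin (R := S) (M := 𝔞)
  let Φ : (Fin k → N) →ₗ[S] 𝔞 ⊗[S] N :=
    { toFun := fun y => ∑ j, a j ⊗ₜ[S] y j
      map_add' := fun y y' => by simp [TensorProduct.tmul_add, Finset.sum_add_distrib]
      map_smul' := fun r y => by simp [Finset.smul_sum] }
  have hΦ : ∀ y, Φ y = ∑ j, a j ⊗ₜ[S] y j := fun _ => rfl
  have hΦsurj : Surjective Φ := fun t => by
    obtain ⟨p, hp⟩ := Groth.Agent.Lib.AdicDecaying.exists_sum_tmul a ha t
    exact ⟨p, hp.symm⟩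
  let π : (Fin k → S) →ₗ[S] 𝔞 := Fintype.linearCombination S a
  have hπsurj : Surjective π := by
    rw [← LinearMap.range_eq_top, Fintype.range_linearCombination, ha]
  obtain ⟨l, ρ', hρ'⟩ := Module.Finite.exists_fin (R := S) (M := LinearMap.ker π)
  let ρ : Fin l → (Fin k → S) := fun i => (ρ' i : Fin k → S)
  have hρπ : ∀ i, ∑ j, ρ i j • a j = 0 := fun i => by
    have := (ρ' i).2
    rwa [LinearMap.mem_ker, Fintype.linearCombination_apply] at this
  -- (A)
  have hA : ∀ m : Fin l → N, Φ (Psi ρ m) = 0 := by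
    intro m
    rw [hΦ]
    simp_rw [Psi_apply, TensorProduct.tmul_sum, TensorProduct.tmul_smul, TensorProduct.smul_tmul']
    rw [Finset.sum_comm]
    refine Finset.sum_eq_zero fun i _ => ?_
    rw [← TensorProduct.sum_tmul, hρπ i, TensorProduct.zero_tmul]
  -- (B)
  have hB : ∀ y : Fin k → N, Φ y = 0 → ∃ m : Fin l → N, y = Psi ρ m := by
    intro y hy
    have hex := lTensor_exact N (LinearMap.exact_subtype_ker_map π) hπsurj
    let t : N ⊗[S] (Fin k → S) := ∑ j, y j ⊗ₜ[S] (Pi.single j (1 : S) : Fin k → S)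
    have ht : π.lTensor N t = 0 := by
      have h1 : π.lTensor N t = TensorProduct.comm S 𝔞 N (Φ y) := by
        simp only [t, map_sum, LinearMap.lTensor_tmul, hΦ, TensorProduct.comm_tmul]
        refine Finset.sum_congr rfl fun j _ => ?_
        congr 1
        simp [π]
      rw [h1, hy, map_zero]
    obtain ⟨u, hu⟩ := (hex t).mp ht
    obtain ⟨m, hm⟩ := Groth.Agent.Lib.AdicDecaying.exists_sum_tmul ρ' hρ'
      (TensorProduct.comm S N (LinearMap.ker π) u)
    have hu' : u = ∑ i, m i ⊗ₜ[S] ρ' i := by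
      apply (TensorProduct.comm S N (LinearMap.ker π)).injective
      rw [hm, map_sum]
      simp
    refine ⟨m, ?_⟩
    have h2 : TensorProduct.piScalarRightHom S S N (Fin k) t = y := by
      simp only [t, map_sum, TensorProduct.piScalarRightHom_tmul]
      funext j
      rw [Finset.sum_apply, Finset.sum_eq_single j]
      · simp
      · intro j' _ hne
        simp [Pi.single_eq_of_ne hne.symm]
      · intro h
        exact absurd (Finset.mem_univ j) h
    rw [← h2, ← hu, hu']
    simp only [map_sum, LinearMap.lTensor_tmul, TensorProduct.piScalarRightHom_tmul]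
    funext j
    simp [Finset.sum_apply, ρ]
  -- (C)
  obtain ⟨y₀, rfl⟩ := hΦsurj x
  have hC : ∀ n : ℕ, ∃ m : Fin l → N, ∀ j, y₀ j - Psi ρ m j ∈ J ^ n • (⊤ : Submodule S N) := by
    intro n
    have h1 : Φ y₀ ∈ (J ^ n • (⊤ : Submodule S (Fin k → N))).map Φ := by
      rw [Submodule.map_smul'', Submodule.map_top, LinearMap.range_eq_top.mpr hΦsurj]
      exact hx n
    obtain ⟨yn, hyn, hyn'⟩ := h1
    have h2 : ∀ j, yn j ∈ J ^ n • (⊤ : Submodule S N) := by
      intro j
      have : (J ^ n • (⊤ : Submodule S (Fin k → N))).map (LinearMap.proj j) ≤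
          J ^ n • (⊤ : Submodule S N) := by
        rw [Submodule.map_smul'']
        exact Submodule.smul_mono le_rfl le_top
      exact this ⟨yn, hyn, rfl⟩
    obtain ⟨m, hm⟩ := hB (y₀ - yn) (by rw [map_sub, hyn', sub_self])
    refine ⟨m, fun j => ?_⟩
    have h3 : y₀ j - Psi ρ m j = yn j := by
      rw [← hm]
      simp
    rw [h3]
    exact h2 j
  obtain ⟨m, hm⟩ := closed_range_Psi J ρ hflat y₀ hC
  rw [hm, hA]

/-- **Stacks 0912**: a complete module over a Noetherian ring with flat reductions is flat. -/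
theorem flat_of_isAdicComplete [IsAdicComplete J N]
    (hflat : ∀ n : ℕ, 0 < n → Module.Flat (S ⧸ J ^ n) ((S ⧸ J ^ n) ⊗[S] N)) :
    Module.Flat S N :=
  Groth.Agent.Lib.FlatCrit.flat_of_flat_quotient_pow J (sep J hflat) hflat

end Sep

end Groth.Agent.Lib.CompleteFlat89
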