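import Mathlib
import Groth.Agent.Lib.CompleteFlat89
import Groth.Agent.Lib.AdicNoeth
import Groth.Agent.Lib.ComplFlat

/-!
# Stacks 0AGW: flatness of the completion of a module over the completion of the ring
-/

set_option autoImplicit false
universe u v

namespace Groth.Agent.Lib.CompleteFlat89

open TensorProduct Function

section Transport

/-- Flatness transports along an additive equivalence which is semilinear with respect to a ring
isomorphism (copy of helper's `RestrictStalk.flat_of_semilinear_addEquiv`, light imports). -/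
theorem flat_of_semilinear_addEquiv {R S M N : Type*} [CommRing R] [CommRing S]
    [AddCommGroup M] [AddCommGroup N] [Module R M] [Module S N] (e : R ≃+* S) (φ : M ≃+ N)
    (hφ : ∀ (r : R) (m : M), φ (r • m) = e r • φ m) [Module.Flat R M] : Module.Flat S N := by
  let _ : Algebra S R := (e.symm : S →+* R).toAlgebra
  let _ : Module S M := Module.compHom M (e.symm : S →+* R)
  have htower : IsScalarTower S R M := IsScalarTower.of_algebraMap_smul (fun _ _ => rfl)
  let eR : R ≃ₗ[S] S :=
    { e.toAddEquiv with
      map_smul' := fun s r => by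
        change e (e.symm s * r) = s * e r
        rw [map_mul, RingEquiv.apply_symm_apply] }
  have hRflat : Module.Flat S R := Module.Flat.of_linearEquiv eR
  have hMflat : Module.Flat S M := Module.Flat.trans S R M
  let φ' : N ≃ₗ[S] M :=
    { φ.symm with
      map_smul' := fun s n => by
        apply φ.injective
        change φ (φ.symm (s • n)) = φ (e.symm s • φ.symm n)
        rw [hφ, AddEquiv.apply_symm_apply, AddEquiv.apply_symm_apply,
          RingEquiv.apply_symm_apply] }
  exact Module.Flat.of_linearEquiv φ'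

variable {R : Type u} {S : Type v} [CommRing R] [CommRing S] [Algebra R S] (I : Ideal R)
  {N : Type*} [AddCommGroup N] [Module R N] [Module S N] [IsScalarTower R S N]

theorem mem_map_pow_smul_top_iff (n : ℕ) (x : N) :
    x ∈ ((I.map (algebraMap R S)) ^ n • ⊤ : Submodule S N) ↔
      x ∈ (I ^ n • ⊤ : Submodule R N) := by
  have h := Submodule.restrictScalars_map_smul_eq (R := S) (I ^ n) (⊤ : Submodule S N)
  rw [Submodule.restrictScalars_top, Ideal.map_pow] at h
  rw [← h]
  exact Iff.rfl

/-- `I`-adic completeness over `R` gives `IS`-adic completeness over `S`. -/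
theorem isAdicComplete_map [IsAdicComplete I N] : IsAdicComplete (I.map (algebraMap R S)) N where
  haus' := by
    intro x hx
    apply IsHausdorff.haus (I := I) inferInstance
    intro n
    have := hx n
    rw [SModEq.zero] at this ⊢
    exact (mem_map_pow_smul_top_iff I n x).mp this
  prec' := by
    intro f hf
    have hf' : ∀ {m n : ℕ}, m ≤ n → f m ≡ f n [SMOD (I ^ m • ⊤ : Submodule R N)] := by
      intro m n hmn
      have := hf hmn
      rw [SModEq.sub_mem] at this ⊢
      exact (mem_map_pow_smul_top_iff I m _).mp this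
    obtain ⟨L, hL⟩ := IsPrecomplete.prec (I := I) inferInstance hf'
    refine ⟨L, fun n => ?_⟩
    have := hL n
    rw [SModEq.sub_mem] at this ⊢
    exact (mem_map_pow_smul_top_iff I n _).mpr this

end Transport

section Main

variable {R : Type u} [CommRing R] (I : Ideal R) (hI : I.FG) (M : Type u) [AddCommGroup M]
  [Module R M]

include hI

theorem map_pow_eq_ker_evalₐ (n : ℕ) :
    (I.map (algebraMap R (AdicCompletion I R))) ^ n =
      RingHom.ker (AdicCompletion.evalₐ I n).toRingHom := by
  rw [Groth.Agent.Lib.ComplFlat.ker_evalₐ_eq_map I hI n, Ideal.map_pow]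

/-- `R ⧸ I ^ n ≃ R̂ ⧸ (I R̂) ^ n`. -/
noncomputable def quotEquiv (n : ℕ) :
    (R ⧸ I ^ n) ≃+* (AdicCompletion I R ⧸ (I.map (algebraMap R (AdicCompletion I R))) ^ n) :=
  ((Ideal.quotEquivOfEq (map_pow_eq_ker_evalₐ I hI n)).trans
    (RingHom.quotientKerEquivOfSurjective
      (f := (AdicCompletion.evalₐ I n).toRingHom) (AdicCompletion.surjective_evalₐ I n))).symm

theorem quotEquiv_mk (n : ℕ) (r : R) :
    quotEquiv I hI n (Ideal.Quotient.mk (I ^ n) r) =
      Ideal.Quotient.mk _ (algebraMap R (AdicCompletion I R) r) := by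
  rw [quotEquiv, RingEquiv.symm_apply_eq]
  simp only [RingEquiv.trans_apply, Ideal.quotEquivOfEq_mk]
  rw [RingHom.quotientKerEquivOfSurjective_apply_mk]
  simp [AdicCompletion.algebraMap_apply]

theorem ker_eval_eq (n : ℕ) :
    LinearMap.ker (AdicCompletion.eval I M n) =
      (((I.map (algebraMap R (AdicCompletion I R))) ^ n • ⊤ :
        Submodule (AdicCompletion I R) (AdicCompletion I M))).restrictScalars R := by
  rw [← AdicCompletion.pow_smul_top_eq_ker_eval hI]
  have h := Submodule.restrictScalars_map_smul_eq (R := AdicCompletion I R) (I ^ n)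
    (⊤ : Submodule (AdicCompletion I R) (AdicCompletion I M))
  rw [Submodule.restrictScalars_top, Ideal.map_pow] at h
  exact h.symm

/-- `(R ⧸ I ^ n) ⊗ M ≃ (R̂ ⧸ (I R̂) ^ n) ⊗ M̂`, `R`-linearly. -/
noncomputable def modEquiv (n : ℕ) :
    ((R ⧸ I ^ n) ⊗[R] M) ≃ₗ[R]
      ((AdicCompletion I R ⧸ (I.map (algebraMap R (AdicCompletion I R))) ^ n) ⊗[AdicCompletion I R]
        AdicCompletion I M) :=
  (TensorProduct.quotTensorEquivQuotSMul M (I ^ n)) ≪≫ₗ
  (LinearMap.quotKerEquivOfSurjective (AdicCompletion.eval I M n)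
    (AdicCompletion.eval_surjective I M n)).symm ≪≫ₗ
  (Submodule.quotEquivOfEq _ _ (ker_eval_eq I hI M n)) ≪≫ₗ
  (Submodule.Quotient.restrictScalarsEquiv R
    ((I.map (algebraMap R (AdicCompletion I R))) ^ n • ⊤ :
        Submodule (AdicCompletion I R) (AdicCompletion I M))) ≪≫ₗ
  ((TensorProduct.quotTensorEquivQuotSMul (AdicCompletion I M)
    ((I.map (algebraMap R (AdicCompletion I R))) ^ n)).symm.restrictScalars R)

/-- **Stacks 0AGW (2)**: if `I` is finitely generated, `R ⧸ I` is Noetherian and all `M ⧸ I ^ n M`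
are flat over `R ⧸ I ^ n`, then `M̂` is flat over `R̂`. -/
theorem flat_adicCompletion [IsNoetherianRing (R ⧸ I)]
    (h1 : ∀ n : ℕ, 0 < n → Module.Flat (R ⧸ I ^ n) ((R ⧸ I ^ n) ⊗[R] M)) :
    Module.Flat (AdicCompletion I R) (AdicCompletion I M) := by
  have hN : IsNoetherianRing (AdicCompletion I R) :=
    Groth.Agent.Lib.AdicNoeth.isNoetherianRing_adicCompletion_of_fg I hI
  have hc : IsAdicComplete I (AdicCompletion I M) := AdicCompletion.isAdicComplete hI
  have hc' : IsAdicComplete (I.map (algebraMap R (AdicCompletion I R))) (AdicCompletion I M) :=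
    isAdicComplete_map I
  apply flat_of_isAdicComplete (I.map (algebraMap R (AdicCompletion I R)))
  intro n hn
  have := h1 n hn
  refine flat_of_semilinear_addEquiv (quotEquiv I hI n) (modEquiv I hI M n).toAddEquiv ?_
  intro r t
  obtain ⟨r, rfl⟩ := Ideal.Quotient.mk_surjective r
  rw [quotEquiv_mk]
  change modEquiv I hI M n (Ideal.Quotient.mk (I ^ n) r • t) = _
  have h2 : Ideal.Quotient.mk (I ^ n) r • t = r • t := by
    rw [← Ideal.Quotient.algebraMap_eq, algebraMap_smul]
  rw [h2, map_smul]
  change r • _ = _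
  rw [← Ideal.Quotient.algebraMap_eq, algebraMap_smul, algebraMap_smul]
  rfl

end Main

end Groth.Agent.Lib.CompleteFlat89
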