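/-
The completed tensor product `A ⊗̂_k k'` of a complete Noetherian local `k`-algebra `A` with
residue field finite over `k` and a field extension `k'` of `k` (EGA 0_IV 19.7 / IV 7).
Author: helper89
-/
import Mathlib
import Groth.Agent.Lib.ComplSemilocal89
import Groth.Agent.Lib.AdicNoeth
import Groth.Agent.Lib.CompleteFlat89b
import Groth.Agent.Lib.H56FlatLocal

set_option autoImplicit false
universe u

namespace Groth.Agent.Lib.ComplTensor89

open IsLocalRing TensorProduct

section Fibre

variable (k A k' : Type u) [Field k] [CommRing A] [IsLocalRing A] [Algebra k A]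
  [Field k'] [Algebra k k']

/-- The ideal of `A ⊗ k'` generated by the maximal ideal of `A`. -/
noncomputable abbrev I : Ideal (A ⊗[k] k') :=
  (maximalIdeal A).map (algebraMap A (A ⊗[k] k'))

/-- `A ⊗ k' → κ ⊗ k'`. -/
noncomputable abbrev Φ : A ⊗[k] k' →ₐ[k] ResidueField A ⊗[k] k' :=
  Algebra.TensorProduct.map (IsScalarTower.toAlgHom k A (ResidueField A)) (AlgHom.id k k')

theorem Φ_surjective : Function.Surjective (Φ k A k') :=
  Algebra.TensorProduct.map_surjective _ _ IsLocalRing.residue_surjective Function.surjective_id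

theorem ker_Φ : RingHom.ker (Φ k A k').toRingHom = I k A k' := by
  have h := Algebra.TensorProduct.rTensor_ker (R := k) (S := k) (C := k')
    (IsScalarTower.toAlgHom k A (ResidueField A)) IsLocalRing.residue_surjective
  have h1 : RingHom.ker (IsScalarTower.toAlgHom k A (ResidueField A)) = maximalIdeal A :=
    IsLocalRing.ker_residue (R := A)
  rw [h1] at h
  exact h

/-- `(A ⊗ k') ⧸ 𝔪 (A ⊗ k') ≃ κ ⊗ k'`. -/
noncomputable def quotEquiv : (A ⊗[k] k') ⧸ I k A k' ≃+* ResidueField A ⊗[k] k' :=
  (Ideal.quotEquivOfEq (ker_Φ k A k').symm).trans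
    (RingHom.quotientKerEquivOfSurjective (f := (Φ k A k').toRingHom) (Φ_surjective k A k'))

theorem quotEquiv_mk (x : A ⊗[k] k') :
    quotEquiv k A k' (Ideal.Quotient.mk _ x) = Φ k A k' x := by
  rfl

variable [Module.Finite k (ResidueField A)]

/-- `k' → (A ⊗ k') ⧸ 𝔪 (A ⊗ k')` is finite. -/
theorem finite_quot :
    ((Ideal.Quotient.mk (I k A k')).comp
      (Algebra.TensorProduct.includeRight : k' →ₐ[k] A ⊗[k] k').toRingHom).Finite := by
  have h1 : (algebraMap k' (k' ⊗[k] ResidueField A)).Finite :=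
    RingHom.finite_algebraMap.mpr inferInstance
  have h2 : ((Algebra.TensorProduct.comm k k' (ResidueField A)).toRingEquiv.toRingHom).Finite :=
    RingHom.Finite.of_surjective _
      (Algebra.TensorProduct.comm k k' (ResidueField A)).toRingEquiv.surjective
  have h3 : ((quotEquiv k A k').symm.toRingHom).Finite :=
    RingHom.Finite.of_surjective _ (quotEquiv k A k').symm.surjective
  have h4 := h3.comp (h2.comp h1)
  convert h4 using 1
  refine RingHom.ext fun x => ?_
  simp only [RingHom.coe_comp, Function.comp_apply, RingHom.coe_coe, AlgHom.toRingHom_eq_coe]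
  change _ = (quotEquiv k A k').symm _
  rw [RingEquiv.eq_symm_apply, quotEquiv_mk]
  change _ = Algebra.TensorProduct.comm k k' (ResidueField A) _
  simp [Algebra.TensorProduct.algebraMap_apply]

theorem isArtinianRing_quot : IsArtinianRing ((A ⊗[k] k') ⧸ I k A k') := by
  let _ : Algebra k' ((A ⊗[k] k') ⧸ I k A k') := RingHom.toAlgebra
    ((Ideal.Quotient.mk (I k A k')).comp
      (Algebra.TensorProduct.includeRight : k' →ₐ[k] A ⊗[k] k').toRingHom)
  have : Module.Finite k' ((A ⊗[k] k') ⧸ I k A k') := finite_quot k A k'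
  exact IsArtinianRing.of_finite k' _

end Fibre

section TensorQuot

variable {R : Type*} [CommRing R] (𝔞 : Ideal R) (C : Type*) [CommRing C] [Algebra R C]

/-- `(R ⧸ 𝔞) ⊗ C ≃ C ⧸ 𝔞 C`, `R`-linearly. -/
noncomputable def tensorQuotEquiv :
    ((R ⧸ 𝔞) ⊗[R] C) ≃ₗ[R] (C ⧸ 𝔞.map (algebraMap R C)) :=
  (TensorProduct.quotTensorEquivQuotSMul C 𝔞) ≪≫ₗ
  (Submodule.quotEquivOfEq _ ((𝔞.map (algebraMap R C)).restrictScalars R) (by
    have h := Submodule.restrictScalars_map_smul_eq (R := C) 𝔞 (⊤ : Submodule C C)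
    rw [Submodule.restrictScalars_top, smul_eq_mul, Ideal.mul_top] at h
    exact h.symm)) ≪≫ₗ
  (Submodule.Quotient.restrictScalarsEquiv R (𝔞.map (algebraMap R C)))

/-- Flatness of `(R ⧸ 𝔞) ⊗ C` over `R ⧸ 𝔞` can be transported along an `R`-linear identification
of the quotients `C ⧸ 𝔞 C ≃ D ⧸ 𝔞 D`. -/
theorem flat_tensor_of_equiv (D : Type*) [CommRing D] [Algebra R D]
    (e : (C ⧸ 𝔞.map (algebraMap R C)) ≃ₗ[R] (D ⧸ 𝔞.map (algebraMap R D)))
    [Module.Flat (R ⧸ 𝔞) ((R ⧸ 𝔞) ⊗[R] C)] : Module.Flat (R ⧸ 𝔞) ((R ⧸ 𝔞) ⊗[R] D) := by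
  let φ : ((R ⧸ 𝔞) ⊗[R] C) ≃ₗ[R] ((R ⧸ 𝔞) ⊗[R] D) :=
    (tensorQuotEquiv 𝔞 C) ≪≫ₗ e ≪≫ₗ (tensorQuotEquiv 𝔞 D).symm
  refine Groth.Agent.Lib.CompleteFlat89.flat_of_semilinear_addEquiv (RingEquiv.refl (R ⧸ 𝔞))
    φ.toAddEquiv ?_
  intro r t
  obtain ⟨r, rfl⟩ := Ideal.Quotient.mk_surjective r
  change φ (Ideal.Quotient.mk 𝔞 r • t) = Ideal.Quotient.mk 𝔞 r • φ t
  have h2 : Ideal.Quotient.mk 𝔞 r • t = r • t := by
    rw [← Ideal.Quotient.algebraMap_eq, algebraMap_smul]
  have h3 : Ideal.Quotient.mk 𝔞 r • φ t = r • φ t := by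
    rw [← Ideal.Quotient.algebraMap_eq, algebraMap_smul]
  rw [h2, h3, map_smul]

end TensorQuot

section Completion

variable (k A k' : Type u) [Field k] [CommRing A] [IsLocalRing A] [Algebra k A]
  [Field k'] [Algebra k k']

/-- The completed tensor product `A ⊗̂_k k'`. -/
abbrev A' : Type u := AdicCompletion (I k A k') (A ⊗[k] k')

/-- The ideal of the completed tensor product generated by the maximal ideal of `A`. -/
noncomputable abbrev J : Ideal (A' k A k') :=
  (I k A k').map (algebraMap (A ⊗[k] k') (A' k A k'))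

theorem map_maximalIdeal :
    (maximalIdeal A).map (algebraMap A (A' k A k')) = J k A k' := by
  change _ = Ideal.map _ (Ideal.map _ _)
  rw [Ideal.map_map]
  rfl

variable [IsNoetherianRing A]

theorem I_fg : (I k A k').FG :=
  Ideal.FG.map (IsNoetherian.noetherian (maximalIdeal A)) _

theorem isAdicComplete_J : IsAdicComplete (J k A k') (A' k A k') :=
  AdicCompletion.isAdicComplete_self _ (I_fg k A k')

/-- `A' ⧸ J ≃ (A ⊗ k') ⧸ I`. -/
noncomputable def quotJEquiv : A' k A k' ⧸ J k A k' ≃+* (A ⊗[k] k') ⧸ I k A k' :=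
  (Ideal.quotEquivOfEq (AdicCompletion.ker_evalOneₐ_eq_map _ (I_fg k A k')).symm).trans
    (RingHom.quotientKerEquivOfSurjective
      (f := (AdicCompletion.evalOneₐ (I k A k')).toRingHom)
      (AdicCompletion.evalOneₐ_surjective _))

theorem quotJEquiv_mk_algebraMap (x : A ⊗[k] k') :
    quotJEquiv k A k' (Ideal.Quotient.mk _ (algebraMap (A ⊗[k] k') (A' k A k') x)) =
      Ideal.Quotient.mk _ x := rfl

/-- `(A ⊗ k') ⧸ 𝔪ⁿ ≃ A' ⧸ 𝔪ⁿ A'` as rings. -/
noncomputable def quotPowRingEquiv (n : ℕ) :
    ((A ⊗[k] k') ⧸ ((maximalIdeal A) ^ n).map (algebraMap A (A ⊗[k] k'))) ≃+*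
      (A' k A k' ⧸ ((maximalIdeal A) ^ n).map (algebraMap A (A' k A k'))) :=
  (Ideal.quotEquivOfEq (Ideal.map_pow _ _ n)).trans
    ((Groth.Agent.Lib.CompleteFlat89.quotEquiv (I k A k') (I_fg k A k') n).trans
      (Ideal.quotEquivOfEq (by rw [Ideal.map_pow, map_maximalIdeal])))

theorem quotPowRingEquiv_mk (n : ℕ) (x : A ⊗[k] k') :
    quotPowRingEquiv k A k' n (Ideal.Quotient.mk _ x) =
      Ideal.Quotient.mk _ (algebraMap (A ⊗[k] k') (A' k A k') x) := by
  rw [quotPowRingEquiv, RingEquiv.trans_apply, RingEquiv.trans_apply, Ideal.quotEquivOfEq_mk,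
    Groth.Agent.Lib.CompleteFlat89.quotEquiv_mk, Ideal.quotEquivOfEq_mk]

/-- `(A ⊗ k') ⧸ 𝔪ⁿ ≃ A' ⧸ 𝔪ⁿ A'`, `A`-linearly. -/
noncomputable def quotPowLinearEquiv (n : ℕ) :
    ((A ⊗[k] k') ⧸ ((maximalIdeal A) ^ n).map (algebraMap A (A ⊗[k] k'))) ≃ₗ[A]
      (A' k A k' ⧸ ((maximalIdeal A) ^ n).map (algebraMap A (A' k A k'))) :=
  { (quotPowRingEquiv k A k' n).toAddEquiv with
    map_smul' := by
      intro a x
      obtain ⟨x, rfl⟩ := Ideal.Quotient.mk_surjective x
      change quotPowRingEquiv k A k' n (a • Ideal.Quotient.mk _ x) =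
        a • quotPowRingEquiv k A k' n (Ideal.Quotient.mk _ x)
      have h1 : a • Ideal.Quotient.mk (((maximalIdeal A) ^ n).map
          (algebraMap A (A ⊗[k] k'))) x = Ideal.Quotient.mk _ (a • x) := rfl
      have h2 : ∀ y : A' k A k', a • Ideal.Quotient.mk (((maximalIdeal A) ^ n).map
          (algebraMap A (A' k A k'))) y = Ideal.Quotient.mk _ (a • y) := fun y => rfl
      rw [h1, quotPowRingEquiv_mk, quotPowRingEquiv_mk, h2, Algebra.smul_def, map_mul,
        Algebra.smul_def]
      rfl }

/-- The completed tensor product is flat over `A`. -/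
theorem flat_A' : Module.Flat A (A' k A k') := by
  have hc : IsAdicComplete (maximalIdeal A) (A' k A k') := by
    have h := isAdicComplete_J k A k'
    rw [← map_maximalIdeal] at h
    exact (IsAdicComplete.map_algebraMap_iff (R := A) (S := A' k A k') (M := A' k A k')
      (maximalIdeal A)).mp h
  apply Groth.Agent.Lib.CompleteFlat89.flat_of_isAdicComplete (maximalIdeal A)
  intro n _
  exact flat_tensor_of_equiv ((maximalIdeal A) ^ n) (A ⊗[k] k') (A' k A k')
    (quotPowLinearEquiv k A k' n)


variable [Module.Finite k (ResidueField A)]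

theorem isArtinianRing_quotJ : IsArtinianRing (A' k A k' ⧸ J k A k') := by
  have := isArtinianRing_quot k A k'
  exact (quotJEquiv k A k').symm.isArtinianRing

theorem isNoetherianRing_A' : IsNoetherianRing (A' k A k') := by
  have := isArtinianRing_quot k A k'
  exact Groth.Agent.Lib.AdicNoeth.isNoetherianRing_adicCompletion_of_fg _ (I_fg k A k')

theorem J_le_of_isMaximal (M : Ideal (A' k A k')) [M.IsMaximal] : J k A k' ≤ M := by
  have := isAdicComplete_J k A k'
  have h1 : J k A k' ≤ Ideal.jacobson ⊥ := IsAdicComplete.le_jacobson_bot _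
  have h2 : (Ideal.jacobson ⊥ : Ideal (A' k A k')) ≤ M := by
    rw [Ideal.jacobson]
    exact sInf_le ⟨bot_le, inferInstance⟩
  exact h1.trans h2

theorem finite_maximalSpectrum : Finite (MaximalSpectrum (A' k A k')) := by
  have := isAdicComplete_J k A k'
  have := isArtinianRing_quotJ k A k'
  exact Groth.Agent.Lib.ComplSemilocal89.finite_maximalSpectrum (J k A k')

section Local

variable (M : Ideal (A' k A k')) [M.IsMaximal]

theorem isAdicComplete_localization :
    IsAdicComplete (maximalIdeal (Localization.AtPrime M)) (Localization.AtPrime M) := by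
  have := isAdicComplete_J k A k'
  have := isArtinianRing_quotJ k A k'
  have := isNoetherianRing_A' k A k'
  exact Groth.Agent.Lib.ComplSemilocal89.isAdicComplete_localization (J k A k') M

theorem map_maximalIdeal_localization :
    (maximalIdeal A).map (algebraMap A (Localization.AtPrime M)) =
      (J k A k').map (algebraMap (A' k A k') (Localization.AtPrime M)) := by
  rw [← map_maximalIdeal, Ideal.map_map, ← IsScalarTower.algebraMap_eq]

theorem maximalIdeal_le_radical :
    maximalIdeal (Localization.AtPrime M) ≤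
      ((maximalIdeal A).map (algebraMap A (Localization.AtPrime M))).radical := by
  have := isArtinianRing_quotJ k A k'
  rw [map_maximalIdeal_localization]
  exact Groth.Agent.Lib.ComplSemilocal89.maximalIdeal_le_radical (J k A k') M

theorem isLocalHom_localization : IsLocalHom (algebraMap A (Localization.AtPrime M)) := by
  refine ⟨fun a ha => ?_⟩
  by_contra hna
  have h1 : a ∈ maximalIdeal A := (IsLocalRing.mem_maximalIdeal a).mpr hna
  have h2 : algebraMap A (A' k A k') a ∈ M :=
    J_le_of_isMaximal k A k' M (by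
      rw [← map_maximalIdeal]
      exact Ideal.mem_map_of_mem _ h1)
  have h3 : algebraMap (A' k A k') (Localization.AtPrime M) (algebraMap A (A' k A k') a) ∈
      maximalIdeal (Localization.AtPrime M) :=
    (IsLocalization.AtPrime.to_map_mem_maximal_iff (Localization.AtPrime M) M _).mpr h2
  rw [← IsScalarTower.algebraMap_apply] at h3
  exact (IsLocalRing.mem_maximalIdeal _).mp h3 ha

theorem finite_residue :
    (((Ideal.Quotient.mk M).comp (algebraMap (A ⊗[k] k') (A' k A k'))).comp
      (Algebra.TensorProduct.includeRight : k' →ₐ[k] A ⊗[k] k').toRingHom).Finite := by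
  have h1 := finite_quot k A k'
  have h2 : ((quotJEquiv k A k').symm.toRingHom).Finite :=
    RingHom.Finite.of_surjective _ (quotJEquiv k A k').symm.surjective
  have h3 : (Ideal.Quotient.factor (J_le_of_isMaximal k A k' M)).Finite :=
    RingHom.Finite.of_surjective _ (Ideal.Quotient.factor_surjective _)
  have h4 := h3.comp (h2.comp h1)
  convert h4 using 1
  refine RingHom.ext fun x => ?_
  simp only [RingHom.coe_comp, Function.comp_apply, AlgHom.toRingHom_eq_coe, RingHom.coe_coe]
  change _ = Ideal.Quotient.factor _ ((quotJEquiv k A k').symm _)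
  have h5 : (quotJEquiv k A k').symm (Ideal.Quotient.mk (I k A k')
      (Algebra.TensorProduct.includeRight x)) =
        Ideal.Quotient.mk _ (algebraMap (A ⊗[k] k') (A' k A k')
          (Algebra.TensorProduct.includeRight x)) := by
    rw [RingEquiv.symm_apply_eq, quotJEquiv_mk_algebraMap]
  rw [h5, Ideal.Quotient.factor_mk]

theorem faithfullyFlat_localization : Module.FaithfullyFlat A (Localization.AtPrime M) := by
  have := flat_A' k A k'
  have : Module.Flat A (Localization.AtPrime M) :=
    Module.Flat.trans A (A' k A k') (Localization.AtPrime M)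
  have := isLocalHom_localization k A k' M
  exact Module.FaithfullyFlat.of_flat_of_isLocalHom

theorem ringKrullDim_localization :
    ringKrullDim (Localization.AtPrime M) = ringKrullDim A := by
  have := flat_A' k A k'
  have : Module.Flat A (Localization.AtPrime M) :=
    Module.Flat.trans A (A' k A k') (Localization.AtPrime M)
  have := isLocalHom_localization k A k' M
  have := isNoetherianRing_A' k A k'
  have : IsNoetherianRing (Localization.AtPrime M) :=
    IsLocalization.isNoetherianRing M.primeCompl _ inferInstance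
  exact Groth.Agent.Lib.H56FlatLocal.ringKrullDim_eq_of_flat_of_primary
    (maximalIdeal_le_radical k A k' M)

end Local

end Completion

end Groth.Agent.Lib.ComplTensor89
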