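/-
A linear map of complete modules into a flat module which is bijective modulo `m` is bijective.
Author: helper89
-/
import Groth.Agent.Lib.CohenSmooth
import Mathlib.RingTheory.AdicCompletion.Functoriality

set_option autoImplicit false

namespace Groth.Agent.Lib.CompleteBij

open Submodule

variable {A : Type*} [CommRing A] (m : Ideal A) {M N : Type*} [AddCommGroup M] [Module A M]
  [AddCommGroup N] [Module A N]

/-- Let `f : M → N` be a linear map with `N` flat and `m`-adically separated, `M` `m`-adically
complete. If `f` is bijective modulo `m` then `f` is bijective. -/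
theorem bijective_of_flat [Module.Flat A N] [IsPrecomplete m M] [IsHausdorff m M]
    [IsHausdorff m N] (f : M →ₗ[A] N)
    (h1 : Function.Surjective (mkQ (m • ⊤ : Submodule A N) ∘ₗ f))
    (h2 : ∀ x : M, f x ∈ (m • ⊤ : Submodule A N) → x ∈ (m • ⊤ : Submodule A M)) :
    Function.Bijective f := by
  have hsurj : Function.Surjective f := surjective_of_mkQ_comp_surjective h1
  refine ⟨?_, hsurj⟩
  rw [injective_iff_map_eq_zero]
  intro x hx
  have hK1 : LinearMap.ker f ≤ m • LinearMap.ker f := by
    intro y hy
    have hy0 : f y = 0 := hy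
    refine Groth.Agent.Lib.CohenSmooth.mem_smul_ker_of_flat f hsurj m hy0 (h2 y ?_)
    rw [hy0]
    exact zero_mem _
  have hKn : ∀ n : ℕ, LinearMap.ker f ≤ m ^ n • LinearMap.ker f := by
    intro n
    induction n with
    | zero => rw [pow_zero, Ideal.one_eq_top, top_smul]
    | succ n ih =>
      calc LinearMap.ker f ≤ m • LinearMap.ker f := hK1
        _ ≤ m • (m ^ n • LinearMap.ker f) := Submodule.smul_mono le_rfl ih
        _ = m ^ (n + 1) • LinearMap.ker f := by rw [← mul_smul, ← pow_succ']
  apply IsHausdorff.haus' (I := m)
  intro n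
  rw [SModEq.zero]
  exact Submodule.smul_mono le_rfl le_top (hKn n hx)

end Groth.Agent.Lib.CompleteBij
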