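import Groth.Agent.Lib.HenselizationUP
import Mathlib.RingTheory.Henselian
import Mathlib.RingTheory.Ideal.KrullsHeightTheorem
import Mathlib.RingTheory.Flat.FaithfullyFlat.Algebra
import Mathlib.RingTheory.TensorProduct.Quotient
import Mathlib.RingTheory.Flat.Stability
import Mathlib.RingTheory.Flat.Basic
import Mathlib.RingTheory.Ideal.MinimalPrime.Noetherian
import Mathlib.RingTheory.Ideal.Over

/-!
# Minimal primes under flat maps from henselian local rings with a parameter (helper98)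

Let `D` be a henselian local domain, `T` a Noetherian local ring, `D → T` a flat local map such
that `D → T/m_D T` is surjective and `m_D^k ⊆ (f)` for some `f ∈ m_D`.  Then `T` has exactly one
minimal prime (`minimalPrimes_subsingleton`).  Consequently (`injOn_comap_minimalPrimes`) for a
henselian local ring `S` with `m_S^k ⊆ (f₀)` and a flat local map `S → T` with `S → T/m_S T`
surjective, contraction is injective on the minimal primes of `T`.
-/

namespace Groth.Agent.Lib.CompletionBranches98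

open IsLocalRing Polynomial

set_option maxHeartbeats 400000

section Approx

variable {D T : Type*} [CommRing D] [IsLocalRing D] [CommRing T] [Algebra D T]

theorem exists_mem_pow_sub_mem
    (hs : ∀ t : T, ∃ d : D, t - algebraMap D T d ∈ (maximalIdeal D).map (algebraMap D T))
    (j : ℕ) (s : T) (hs' : s ∈ (maximalIdeal D ^ j).map (algebraMap D T)) :
    ∃ e : D, e ∈ maximalIdeal D ^ j ∧
      s - algebraMap D T e ∈ ((maximalIdeal D).map (algebraMap D T)) ^ (j + 1) := by
  have hs'' : s ∈ Submodule.span T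
      ((algebraMap D T) '' ((maximalIdeal D ^ j : Ideal D) : Set D)) := hs'
  clear hs'
  induction hs'' using Submodule.span_induction with
  | mem x h =>
    obtain ⟨e, he, rfl⟩ := h
    exact ⟨e, he, by rw [sub_self]; exact Ideal.zero_mem _⟩
  | zero => exact ⟨0, Ideal.zero_mem _, by rw [map_zero, sub_self]; exact Ideal.zero_mem _⟩
  | add x y hx hy ihx ihy =>
    obtain ⟨e₁, he₁, h₁⟩ := ihx
    obtain ⟨e₂, he₂, h₂⟩ := ihy
    refine ⟨e₁ + e₂, Ideal.add_mem _ he₁ he₂, ?_⟩
    have : x + y - algebraMap D T (e₁ + e₂)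
        = (x - algebraMap D T e₁) + (y - algebraMap D T e₂) := by
      rw [map_add]; ring
    rw [this]; exact Ideal.add_mem _ h₁ h₂
  | smul a x hx ih =>
    obtain ⟨e, he, h⟩ := ih
    obtain ⟨d, hd⟩ := hs a
    refine ⟨d * e, Ideal.mul_mem_left _ d he, ?_⟩
    have : a • x - algebraMap D T (d * e)
        = a * (x - algebraMap D T e) + (a - algebraMap D T d) * algebraMap D T e := by
      rw [map_mul, smul_eq_mul]; ring
    rw [this]
    refine Ideal.add_mem _ (Ideal.mul_mem_left _ a h) ?_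
    rw [pow_succ']
    refine Ideal.mul_mem_mul hd ?_
    rw [← Ideal.map_pow]
    exact Ideal.mem_map_of_mem _ he

theorem exists_sub_mem_pow
    (hs : ∀ t : T, ∃ d : D, t - algebraMap D T d ∈ (maximalIdeal D).map (algebraMap D T))
    (j : ℕ) (t : T) :
    ∃ d : D, t - algebraMap D T d ∈ ((maximalIdeal D).map (algebraMap D T)) ^ j := by
  induction j with
  | zero => exact ⟨0, by rw [pow_zero, Ideal.one_eq_top]; exact Submodule.mem_top⟩
  | succ j ih =>
    obtain ⟨d, hd⟩ := ih
    rw [← Ideal.map_pow] at hd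
    obtain ⟨e, -, he⟩ := exists_mem_pow_sub_mem hs j _ hd
    refine ⟨d + e, ?_⟩
    have : t - algebraMap D T (d + e) = (t - algebraMap D T d) - algebraMap D T e := by
      rw [map_add]; ring
    rw [this]; exact he

end Approx

section Core

variable {D T : Type*} [CommRing D] [IsDomain D] [HenselianLocalRing D] [CommRing T]
  [IsLocalRing T] [IsNoetherianRing T] [Algebra D T] [Module.Flat D T]
  [IsLocalHom (algebraMap D T)]

omit [IsDomain D] [IsNoetherianRing T] [Module.Flat D T] in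
theorem map_maximalIdeal_eq_of_surj
    (hs : ∀ t : T, ∃ d : D, t - algebraMap D T d ∈ (maximalIdeal D).map (algebraMap D T)) :
    (maximalIdeal D).map (algebraMap D T) = maximalIdeal T := by
  have hIle : (maximalIdeal D).map (algebraMap D T) ≤ maximalIdeal T := by
    rw [Ideal.map_le_iff_le_comap]
    intro d hd
    exact map_nonunit (algebraMap D T) d hd
  refine le_antisymm hIle ?_
  intro t ht
  obtain ⟨d, hd⟩ := hs t
  have h1 : algebraMap D T d ∈ maximalIdeal T := by
    have : algebraMap D T d = t - (t - algebraMap D T d) := by ring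
    rw [this]; exact Ideal.sub_mem _ ht (hIle hd)
  have h2 : d ∈ maximalIdeal D := by
    by_contra hnd
    have hu : IsUnit d := IsLocalRing.notMem_maximalIdeal.mp hnd
    exact (mem_maximalIdeal _).mp h1 (hu.map (algebraMap D T))
  have : t = (t - algebraMap D T d) + algebraMap D T d := by ring
  rw [this]; exact Ideal.add_mem _ hd (Ideal.mem_map_of_mem _ h2)

theorem minimalPrimes_subsingleton
    (hs : ∀ t : T, ∃ d : D, t - algebraMap D T d ∈ (maximalIdeal D).map (algebraMap D T))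
    (f : D) (hf : f ∈ maximalIdeal D) (k : ℕ) (hk : maximalIdeal D ^ k ≤ Ideal.span {f})
    {P₁ P₂ : Ideal T} (h₁ : P₁ ∈ minimalPrimes T) (h₂ : P₂ ∈ minimalPrimes T) : P₁ = P₂ := by
  classical
  obtain ⟨I, hI⟩ : ∃ I : Ideal T, I = (maximalIdeal D).map (algebraMap D T) := ⟨_, rfl⟩
  obtain ⟨g, hg⟩ : ∃ g : T, g = algebraMap D T f := ⟨_, rfl⟩
  have hIeq : I = maximalIdeal T := hI.trans (map_maximalIdeal_eq_of_surj hs)
  have hgI : g ∈ I := by rw [hI, hg]; exact Ideal.mem_map_of_mem _ hf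
  have hgm : g ∈ maximalIdeal T := hIeq ▸ hgI
  have hpow : maximalIdeal T ^ k ≤ Ideal.span {g} := by
    rw [← hIeq, hI, ← Ideal.map_pow, hg]
    have := Ideal.map_mono (f := algebraMap D T) hk
    rwa [Ideal.map_span, Set.image_singleton] at this
  have hQg : ∀ Q : Ideal T, Q.IsPrime → g ∈ Q → Q = maximalIdeal T := by
    intro Q hQ hgQ
    refine le_antisymm (le_maximalIdeal hQ.ne_top) ?_
    have : maximalIdeal T ^ k ≤ Q := hpow.trans ((Ideal.span_singleton_le_iff_mem Q).mpr hgQ)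
    exact hQ.le_of_pow_le this
  by_cases hcase : ∃ P ∈ minimalPrimes T, g ∈ P
  · obtain ⟨P₀, hP₀, hgP₀⟩ := hcase
    have hP₀m : P₀ = maximalIdeal T := hQg P₀ hP₀.1.1 hgP₀
    have hall : ∀ P ∈ minimalPrimes T, P = P₀ := by
      intro P hP
      have hle : P ≤ P₀ := hP₀m ▸ le_maximalIdeal hP.1.1.ne_top
      exact le_antisymm hle (hP₀.2 ⟨hP.1.1, bot_le⟩ hle)
    rw [hall P₁ h₁, hall P₂ h₂]
  · push Not at hcase
    by_contra hne
    have hf0 : f ≠ 0 := by
      intro h0
      apply hcase P₁ h₁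
      rw [hg, h0, map_zero]; exact Ideal.zero_mem _
    have hfreg : IsSMulRegular D f := by
      intro x y hxy
      have hxy' : f * x = f * y := hxy
      exact mul_left_cancel₀ hf0 hxy'
    have hgreg : IsSMulRegular T g := hg ▸ IsSMulRegular.of_flat hfreg
    have hmin : maximalIdeal T ∈ (Ideal.span {g}).minimalPrimes := by
      refine ⟨⟨inferInstance, (Ideal.span_singleton_le_iff_mem _).mpr hgm⟩, ?_⟩
      rintro Q ⟨hQ, hgQ⟩ hQle
      exact (hQg Q hQ ((Ideal.span_singleton_le_iff_mem _).mp hgQ)).ge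
    have hht : (maximalIdeal T).height ≤ 1 :=
      Ideal.height_le_one_of_isPrincipal_of_mem_minimalPrimes _ _ hmin
    have hnonmin : ∀ Q : Ideal T, Q.IsPrime → Q ∉ minimalPrimes T → g ∈ Q := by
      intro Q hQ hQmin
      by_contra hgQ
      have hneQ : Q ≠ maximalIdeal T := fun h => hgQ (h ▸ hgm)
      have hQm : Q < maximalIdeal T := lt_of_le_of_ne (le_maximalIdeal hQ.ne_top) hneQ
      obtain ⟨q, hq, hqQ⟩ := Ideal.exists_minimalPrimes_le (bot_le : (⊥ : Ideal T) ≤ Q)
      have hqQ' : q < Q := lt_of_le_of_ne hqQ (fun h => hQmin (h ▸ hq))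
      have : q.IsPrime := hq.1.1
      have h1 : q.height < Q.height := Ideal.height_strict_mono_of_isPrime hqQ'
      have h2 : Q.height < (maximalIdeal T).height := Ideal.height_strict_mono_of_isPrime hQm
      have h3 : (1 : ℕ∞) ≤ Q.height := Order.one_le_iff_pos.2 (lt_of_le_of_lt zero_le h1)
      exact absurd (lt_of_le_of_lt h3 h2) (not_lt.2 hht)
    have hfin : (minimalPrimes T).Finite := minimalPrimes.finite_of_isNoetherianRing T
    obtain ⟨F, hF⟩ : ∃ F : Finset (Ideal T), F = hfin.toFinset.erase P₁ := ⟨_, rfl⟩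
    obtain ⟨J₂, hJ₂⟩ : ∃ J₂ : Ideal T, J₂ = F.inf id := ⟨_, rfl⟩
    have hmemF : ∀ P, P ∈ F ↔ P ≠ P₁ ∧ P ∈ minimalPrimes T := by
      intro P; rw [hF, Finset.mem_erase, Set.Finite.mem_toFinset]
    have hJ₂le : ∀ P ∈ F, J₂ ≤ P := fun P hP => hJ₂ ▸ Finset.inf_le (f := id) hP
    have hgrad : g ∈ (P₁ ⊔ J₂).radical := by
      rw [Ideal.radical_eq_sInf, Ideal.mem_sInf]
      rintro Q ⟨hQle, hQ⟩
      apply hnonmin Q hQ
      intro hQmin
      have hP₁Q : P₁ ≤ Q := le_sup_left.trans hQle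
      have hJ₂Q : F.inf id ≤ Q := hJ₂ ▸ le_sup_right.trans hQle
      obtain ⟨P, hPF, hPQ⟩ := (Ideal.IsPrime.inf_le' hQ).mp hJ₂Q
      obtain ⟨hPne, hPmin⟩ := (hmemF P).mp hPF
      have e1 : Q = P₁ := le_antisymm (hQmin.2 ⟨h₁.1.1, bot_le⟩ hP₁Q) hP₁Q
      have e2 : Q = P := le_antisymm (hQmin.2 ⟨hPmin.1.1, bot_le⟩ hPQ) hPQ
      exact hPne (e2.symm.trans e1)
    obtain ⟨M, hM⟩ := hgrad
    obtain ⟨x, hx, y, hy, hxy⟩ := Submodule.mem_sup.mp hM
    have hnil : IsNilpotent (x * y) := by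
      rw [← mem_nilradical, nilradical_eq_sInf, Ideal.mem_sInf]
      intro Q hQ
      have hQ' : Q.IsPrime := hQ
      obtain ⟨P, hP, hPQ⟩ := Ideal.exists_minimalPrimes_le (bot_le : (⊥ : Ideal T) ≤ Q)
      by_cases hPP : P = P₁
      · exact Ideal.mul_mem_right _ _ (hPQ (by rw [hPP]; exact hx))
      · exact Ideal.mul_mem_left _ _ (hPQ (hJ₂le P ((hmemF P).mpr ⟨hPP, hP⟩) hy))
    obtain ⟨n, hn⟩ := hnil
    have hn1 : (x * y) ^ (n + 1) = 0 := by rw [pow_succ, hn, zero_mul]
    have hsum : (x + y) ^ ((n + 1) + (n + 1)) ∈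
        Ideal.span {x ^ (n + 1)} ⊔ Ideal.span {y ^ (n + 1)} := by
      have h1 : x + y ∈ Ideal.span {x} ⊔ Ideal.span {y} :=
        Ideal.add_mem _ (Ideal.mem_sup_left (Ideal.mem_span_singleton_self x))
          (Ideal.mem_sup_right (Ideal.mem_span_singleton_self y))
      have h2 := Ideal.pow_mem_pow h1 ((n + 1) + (n + 1))
      have h3 := Ideal.sup_pow_add_le_pow_sup_pow (I := Ideal.span {x}) (J := Ideal.span {y})
        (n := n + 1) (m := n + 1) h2
      rwa [Ideal.span_singleton_pow, Ideal.span_singleton_pow] at h3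
    obtain ⟨x', hx', y', hy', hxy'⟩ := Submodule.mem_sup.mp hsum
    obtain ⟨α, rfl⟩ := Ideal.mem_span_singleton'.mp hx'
    obtain ⟨β, rfl⟩ := Ideal.mem_span_singleton'.mp hy'
    obtain ⟨N, hN⟩ : ∃ N : ℕ, N = M * ((n + 1) + (n + 1)) := ⟨_, rfl⟩
    have hab : α * x ^ (n + 1) + β * y ^ (n + 1) = g ^ N := by
      rw [hxy', hxy, ← pow_mul, ← hN]
    have hab0 : (α * x ^ (n + 1)) * (β * y ^ (n + 1)) = 0 := by
      have : (α * x ^ (n + 1)) * (β * y ^ (n + 1)) = α * β * (x * y) ^ (n + 1) := by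
        rw [mul_pow]; ring
      rw [this, hn1, mul_zero]
    obtain ⟨a, ha⟩ : ∃ a, a = α * x ^ (n + 1) := ⟨_, rfl⟩
    obtain ⟨b, hb⟩ : ∃ b, b = β * y ^ (n + 1) := ⟨_, rfl⟩
    rw [← ha, ← hb] at hab hab0
    have haa : a * a = g ^ N * a := by
      have : a * a = (a + b) * a - a * b := by ring
      rw [this, hab, hab0, sub_zero]
    have ha0 : a ≠ 0 := by
      intro h0
      rw [h0, zero_add] at hab
      have hbJ : b ∈ J₂ := by
        rw [hb]; exact Ideal.mul_mem_left _ _ (Ideal.pow_mem_of_mem _ hy _ (Nat.succ_pos n))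
      have hP₂F : P₂ ∈ F := (hmemF P₂).mpr ⟨fun h => hne h.symm, h₂⟩
      have : g ^ N ∈ P₂ := hab ▸ hJ₂le P₂ hP₂F hbJ
      exact hcase P₂ h₂ (h₂.1.1.mem_of_pow_mem N this)
    have haN : a ≠ g ^ N := by
      intro h0
      have haP : a ∈ P₁ := by
        rw [ha]; exact Ideal.mul_mem_left _ _ (Ideal.pow_mem_of_mem _ hx _ (Nat.succ_pos n))
      rw [h0] at haP
      exact hcase P₁ h₁ (h₁.1.1.mem_of_pow_mem N haP)
    have hff : Module.FaithfullyFlat D T := Module.FaithfullyFlat.of_flat_of_isLocalHom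
    obtain ⟨M', hM'⟩ : ∃ M' : ℕ, M' = k * (2 * N) + 1 := ⟨_, rfl⟩
    obtain ⟨a₀, ha₀⟩ := exists_sub_mem_pow hs M' a
    rw [← hI] at ha₀
    have hpowD : maximalIdeal D ^ M' ≤ Ideal.span {f ^ (2 * N)} * maximalIdeal D := by
      rw [hM', pow_succ, pow_mul, ← Ideal.span_singleton_pow]
      exact Ideal.mul_mono_left (Ideal.pow_right_mono hk _)
    have hIM' : I ^ M' ≤ Ideal.span {g ^ (2 * N)} * I := by
      have h1 : Ideal.map (algebraMap D T) (Ideal.span {f ^ (2 * N)} * maximalIdeal D)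
          = Ideal.span {g ^ (2 * N)} * I := by
        rw [Ideal.map_mul, Ideal.map_span, Set.image_singleton, map_pow, ← hg, ← hI]
      rw [← h1, hI, ← Ideal.map_pow]
      exact Ideal.map_mono hpowD
    have hr : a - algebraMap D T a₀ ∈ Ideal.span {g ^ (2 * N)} * I := hIM' ha₀
    obtain ⟨ρ, hρ, hρr⟩ := Ideal.mem_span_singleton_mul.mp hr
    have hcm : a₀ * a₀ - f ^ N * a₀ ∈ maximalIdeal D ^ M' := by
      rw [← Ideal.comap_map_eq_self_of_faithfullyFlat (B := T) (maximalIdeal D ^ M'),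
        Ideal.mem_comap, Ideal.map_pow, ← hI]
      have : algebraMap D T (a₀ * a₀ - f ^ N * a₀)
          = (a - algebraMap D T a₀) * ((a - algebraMap D T a₀) + g ^ N - 2 * a) := by
        rw [map_sub, map_mul, map_mul, map_pow, ← hg]
        linear_combination haa
      rw [this]; exact Ideal.mul_mem_right _ _ ha₀
    obtain ⟨μ, hμ, hμe⟩ := Ideal.mem_span_singleton_mul.mp (hpowD hcm)
    have hmonic : (X ^ 2 - (X + C μ) : D[X]).Monic := by
      apply monic_X_pow_sub
      rw [degree_X_add_C]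
      norm_num
    have he : (X ^ 2 - (X + C μ) : D[X]).eval 0 = -μ := by simp
    have hd : (derivative (X ^ 2 - (X + C μ) : D[X])).eval 0 = -1 := by simp
    obtain ⟨w, hw, -⟩ := HenselianLocalRing.is_henselian (X ^ 2 - (X + C μ) : D[X]) hmonic 0
      (by rw [he]; exact neg_mem hμ) (by rw [hd]; exact isUnit_one.neg)
    have hw' : w ^ 2 - (w + μ) = 0 := by
      have := hw
      rw [IsRoot.def] at this
      simpa using this
    have hprod : (a₀ - f ^ N * w) * (a₀ - f ^ N * (1 - w)) = 0 := by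
      have hf2 : f ^ (2 * N) = f ^ N * f ^ N := by rw [two_mul, pow_add]
      rw [hf2] at hμe
      linear_combination (-1 : D) * hμe - (f ^ N * f ^ N) * hw'
    have hfinal : ∀ w' : D, a₀ = f ^ N * w' → False := by
      intro w' hw''
      obtain ⟨v, hv⟩ : ∃ v, v = algebraMap D T w' + g ^ N * ρ := ⟨_, rfl⟩
      have hg2 : g ^ (2 * N) = g ^ N * g ^ N := by rw [two_mul, pow_add]
      have hav : a = g ^ N * v := by
        have h1 : a = algebraMap D T a₀ + g ^ (2 * N) * ρ := by rw [hρr]; ring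
        rw [h1, hw'', map_mul, map_pow, ← hg, hv, hg2]; ring
      have hvv : v * v = v := by
        have h2 : g ^ (2 * N) • (v * v) = g ^ (2 * N) • v := by
          rw [smul_eq_mul, smul_eq_mul, hg2]
          have := haa
          rw [hav] at this
          linear_combination this
        exact (hgreg.pow (2 * N)) h2
      rcases IsLocalRing.isUnit_or_isUnit_one_sub_self v with hu | hu
      · have hv1 : v = 1 := by
          have h3 : v * v = v * 1 := by rw [hvv, mul_one]
          exact hu.mul_left_cancel h3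
        exact haN (by rw [hav, hv1, mul_one])
      · have hv0 : v = 0 := by
          have h3 : (1 - v) * v = (1 - v) * 0 := by rw [mul_zero, sub_mul, one_mul, hvv, sub_self]
          exact hu.mul_left_cancel h3
        exact ha0 (by rw [hav, hv0, mul_zero])
    rcases mul_eq_zero.mp hprod with h | h
    · exact hfinal w (sub_eq_zero.mp h)
    · exact hfinal (1 - w) (sub_eq_zero.mp h)

end Core

section InjOn

variable {S T : Type*} [CommRing S] [HenselianLocalRing S] [CommRing T] [IsLocalRing T]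
  [IsNoetherianRing T] [Algebra S T] [Module.Flat S T] [IsLocalHom (algebraMap S T)]

theorem eq_of_comap_eq_aux (q : Ideal S) [hqp : q.IsPrime]
    (hs : ∀ t : T, ∃ d : S, t - algebraMap S T d ∈ (maximalIdeal S).map (algebraMap S T))
    (f₀ : S) (hf₀ : f₀ ∈ maximalIdeal S) (k : ℕ) (hk : maximalIdeal S ^ k ≤ Ideal.span {f₀})
    {P₁ P₂ : Ideal T} (h₁ : P₁ ∈ minimalPrimes T) (h₂ : P₂ ∈ minimalPrimes T)
    (hq₁ : P₁.comap (algebraMap S T) = q) (hq₂ : P₂.comap (algebraMap S T) = q) : P₁ = P₂ := by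
  have hJP₁ : q.map (algebraMap S T) ≤ P₁ := by
    rw [Ideal.map_le_iff_le_comap, hq₁]
  have hJP₂ : q.map (algebraMap S T) ≤ P₂ := by
    rw [Ideal.map_le_iff_le_comap, hq₂]
  have hJne : q.map (algebraMap S T) ≠ ⊤ := fun h => h₁.1.1.ne_top (top_le_iff.mp (h ▸ hJP₁))
  have hnt : Nontrivial (T ⧸ q.map (algebraMap S T)) := Ideal.Quotient.nontrivial_iff.mpr hJne
  have hHD : HenselianLocalRing (S ⧸ q) :=
    Groth.Agent.Lib.HenselizationUP.henselianLocalRing_of_surjective (Ideal.Quotient.mk q)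
      Ideal.Quotient.mk_surjective
  have hlocT : IsLocalRing (T ⧸ q.map (algebraMap S T)) :=
    IsLocalRing.of_surjective' (Ideal.Quotient.mk (q.map (algebraMap S T)))
      Ideal.Quotient.mk_surjective
  have hlocmkT : IsLocalHom (Ideal.Quotient.mk (q.map (algebraMap S T))) :=
    IsLocalHom.of_surjective _ Ideal.Quotient.mk_surjective
  have hlocmkS : IsLocalHom (Ideal.Quotient.mk q) :=
    IsLocalHom.of_surjective _ Ideal.Quotient.mk_surjective
  have hflat : Module.Flat (S ⧸ q) (T ⧸ q.map (algebraMap S T)) :=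
    Module.Flat.of_linearEquiv
      (Algebra.TensorProduct.quotIdealMapEquivQuotTensor T q).toLinearEquiv
  have halg : ∀ s : S, algebraMap (S ⧸ q) (T ⧸ q.map (algebraMap S T)) (Ideal.Quotient.mk q s)
      = Ideal.Quotient.mk (q.map (algebraMap S T)) (algebraMap S T s) := fun s => rfl
  have hlocalg : IsLocalHom (algebraMap (S ⧸ q) (T ⧸ q.map (algebraMap S T))) := by
    constructor
    intro x hx
    obtain ⟨s, rfl⟩ := Ideal.Quotient.mk_surjective x
    rw [halg] at hx
    have h2 := isUnit_of_map_unit (Ideal.Quotient.mk (q.map (algebraMap S T))) _ hx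
    have h3 := isUnit_of_map_unit (algebraMap S T) _ h2
    exact h3.map (Ideal.Quotient.mk q)
  have hcomp : (Ideal.Quotient.mk (q.map (algebraMap S T))).comp (algebraMap S T)
      = (algebraMap (S ⧸ q) (T ⧸ q.map (algebraMap S T))).comp (Ideal.Quotient.mk q) :=
    RingHom.ext fun s => (halg s).symm
  have hmaxD : maximalIdeal (S ⧸ q) = (maximalIdeal S).map (Ideal.Quotient.mk q) := by
    rw [← IsLocalRing.maximalIdeal_comap (Ideal.Quotient.mk q),
      Ideal.map_comap_of_surjective _ Ideal.Quotient.mk_surjective]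
  have hsD : ∀ t : T ⧸ q.map (algebraMap S T), ∃ d : S ⧸ q,
      t - algebraMap (S ⧸ q) (T ⧸ q.map (algebraMap S T)) d ∈
        (maximalIdeal (S ⧸ q)).map (algebraMap (S ⧸ q) (T ⧸ q.map (algebraMap S T))) := by
    intro t
    obtain ⟨t, rfl⟩ := Ideal.Quotient.mk_surjective t
    obtain ⟨d, hd⟩ := hs t
    refine ⟨Ideal.Quotient.mk q d, ?_⟩
    rw [halg, ← map_sub, hmaxD, Ideal.map_map, ← hcomp, ← Ideal.map_map]
    exact Ideal.mem_map_of_mem _ hd
  have hfD : Ideal.Quotient.mk q f₀ ∈ maximalIdeal (S ⧸ q) :=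
    map_nonunit (Ideal.Quotient.mk q) f₀ hf₀
  have hkD : maximalIdeal (S ⧸ q) ^ k ≤ Ideal.span {Ideal.Quotient.mk q f₀} := by
    rw [hmaxD, ← Ideal.map_pow]
    have := Ideal.map_mono (f := Ideal.Quotient.mk q) hk
    rwa [Ideal.map_span, Set.image_singleton] at this
  have hJker : (⊥ : Ideal (T ⧸ q.map (algebraMap S T))).comap
      (Ideal.Quotient.mk (q.map (algebraMap S T))) = q.map (algebraMap S T) := by
    rw [← RingHom.ker_eq_comap_bot, Ideal.mk_ker]
  have himg : (q.map (algebraMap S T)).minimalPrimes =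
      Ideal.comap (Ideal.Quotient.mk (q.map (algebraMap S T))) ''
        minimalPrimes (T ⧸ q.map (algebraMap S T)) := by
    have := Ideal.comap_minimalPrimes_eq_of_surjective
      (f := Ideal.Quotient.mk (q.map (algebraMap S T))) Ideal.Quotient.mk_surjective ⊥
    rw [hJker] at this
    exact this
  have hmemJ : ∀ P : Ideal T, P ∈ minimalPrimes T → q.map (algebraMap S T) ≤ P →
      P ∈ (q.map (algebraMap S T)).minimalPrimes := by
    intro P hP hle
    refine ⟨⟨hP.1.1, hle⟩, ?_⟩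
    rintro Q ⟨hQ, -⟩ hQP
    exact hP.2 ⟨hQ, bot_le⟩ hQP
  obtain ⟨Q₁, hQ₁, hQP₁⟩ := (himg ▸ hmemJ P₁ h₁ hJP₁ : P₁ ∈ _ '' _)
  obtain ⟨Q₂, hQ₂, hQP₂⟩ := (himg ▸ hmemJ P₂ h₂ hJP₂ : P₂ ∈ _ '' _)
  have hQQ : Q₁ = Q₂ := minimalPrimes_subsingleton hsD _ hfD k hkD hQ₁ hQ₂
  rw [← hQP₁, ← hQP₂, hQQ]

theorem injOn_comap_minimalPrimes
    (hs : ∀ t : T, ∃ d : S, t - algebraMap S T d ∈ (maximalIdeal S).map (algebraMap S T))
    (f₀ : S) (hf₀ : f₀ ∈ maximalIdeal S) (k : ℕ) (hk : maximalIdeal S ^ k ≤ Ideal.span {f₀}) :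
    Set.InjOn (Ideal.comap (algebraMap S T)) (minimalPrimes T) := by
  intro P₁ h₁ P₂ h₂ heq
  have : (P₁.comap (algebraMap S T)).IsPrime := by
    have := h₁.1.1
    exact Ideal.comap_isPrime _ _
  exact eq_of_comap_eq_aux (P₁.comap (algebraMap S T)) hs f₀ hf₀ k hk h₁ h₂ rfl heq.symm

end InjOn

end Groth.Agent.Lib.CompletionBranches98
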