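import Groth.Agent.Lib.CompletionBranches98
import Groth.Agent.Lib.HenselizationNoeth
import Mathlib.RingTheory.Flat.EquationalCriterion
import Mathlib.RingTheory.Ideal.Colon
import Mathlib.RingTheory.Ideal.MinimalPrime.Localization

/-!
# A coheight-one minimal prime of a "completion-like" extension of a henselian domain (helper98)

`eq_of_coheight_one`: `D` henselian local domain, `T` Noetherian local, `D → T` flat local with
`D → T/m_D T` surjective.  If `P₁` is a minimal prime of `T` such that every prime strictly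
containing `P₁` is the maximal ideal, then `P₁` is the only minimal prime of `T`.
-/

namespace Groth.Agent.Lib.CompletionBranches98

open IsLocalRing Polynomial

set_option maxHeartbeats 400000

section Colon

variable {D T : Type*} [CommRing D] [CommRing T] [Algebra D T] [Module.Flat D T]

/-- Flat base change of a colon ideal, equational form. -/
theorem mem_map_colon_of_mul_eq {r : ℕ} (c : Fin r → D) (F : D) (b : T) (t : Fin r → T)
    (h : ∀ i, algebraMap D T (c i) * b = algebraMap D T F * t i) :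
    b ∈ Ideal.map (algebraMap D T) ((Ideal.span {F}).colon (Set.range c)) := by
  classical
  let fmap : (Fin r → D) →ₗ[D] (D × (Fin r → D)) :=
    LinearMap.prod (Fintype.linearCombination D c) ((-F) • LinearMap.id)
  let x : (D × (Fin r → D)) →ₗ[D] T :=
    LinearMap.coprod (LinearMap.toSpanSingleton D T b) (Fintype.linearCombination D t)
  have hfmap : ∀ (i : Fin r) (a : D), fmap (Pi.single i a) = (a • c i, (-F) • Pi.single i a) := by
    intro i a
    show (Fintype.linearCombination D c (Pi.single i a),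
      ((-F) • (LinearMap.id : (Fin r → D) →ₗ[D] (Fin r → D))) (Pi.single i a)) = _
    rw [Fintype.linearCombination_apply_single, LinearMap.smul_apply, LinearMap.id_apply]
  have hx : x ∘ₗ fmap = 0 := by
    refine LinearMap.pi_ext fun i a => ?_
    rw [LinearMap.comp_apply, hfmap, LinearMap.zero_apply]
    simp only [x, LinearMap.coprod_apply, LinearMap.toSpanSingleton_apply, map_smul,
      Fintype.linearCombination_apply_single]
    simp only [Algebra.smul_def, map_neg]
    linear_combination (algebraMap D T a) * h i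
  obtain ⟨k, a, y, hxy, haf⟩ := Module.Flat.exists_factorization_of_comp_eq_zero_of_free hx
  have hb : b = y (a (1, 0)) := by
    have h1 : x (1, 0) = b := by
      simp [x]
    rw [← h1, hxy, LinearMap.comp_apply]
  obtain ⟨v, hv⟩ : ∃ v, v = a (1, 0) := ⟨_, rfl⟩
  rw [hb, ← hv]
  have hvsum : v = ∑ l, v l • Finsupp.single l (1 : D) := by
    conv_lhs => rw [← Finsupp.univ_sum_single v]
    refine Finset.sum_congr rfl fun l _ => ?_
    rw [Finsupp.smul_single_one]
  rw [hvsum, map_sum]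
  refine Ideal.sum_mem _ fun l _ => ?_
  rw [map_smul, Algebra.smul_def]
  refine Ideal.mul_mem_right _ _ (Ideal.mem_map_of_mem _ ?_)
  rw [Submodule.mem_colon]
  rintro _ ⟨i, rfl⟩
  have h1 : a (fmap (Pi.single i 1)) = 0 := by
    have := LinearMap.congr_fun haf (Pi.single i 1)
    simpa using this
  have h2 : fmap (Pi.single i 1)
      = c i • ((1 : D), (0 : Fin r → D)) + (-F) • ((0 : D), Pi.single i (1 : D)) := by
    rw [hfmap]
    simp
  rw [h2, map_add, map_smul, map_smul, ← hv] at h1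
  have h3 := DFunLike.congr_fun h1 l
  simp only [Finsupp.coe_add, Pi.add_apply, Finsupp.coe_smul, Pi.smul_apply, smul_eq_mul,
    Finsupp.coe_zero, Pi.zero_apply] at h3
  rw [Ideal.mem_span_singleton']
  refine ⟨(a (0, Pi.single i 1)) l, ?_⟩
  rw [smul_eq_mul]
  linear_combination (-1 : D) * h3

end Colon

section Approx2

variable {D T : Type*} [CommRing D] [IsLocalRing D] [CommRing T] [Algebra D T]

theorem exists_sub_mem_span_of_colon
    (hs : ∀ t : T, ∃ d : D, t - algebraMap D T d ∈ (maximalIdeal D).map (algebraMap D T))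
    (c : ℕ) (F : D) (N₀ : Ideal D) (hN₀ : maximalIdeal D ^ c * N₀ ≤ Ideal.span {F})
    (b : T) (hb : b ∈ N₀.map (algebraMap D T)) :
    ∃ b₀ ∈ N₀, b - algebraMap D T b₀ ∈ Ideal.span {algebraMap D T F} := by
  have hb' : b ∈ Submodule.span T ((algebraMap D T) '' (N₀ : Set D)) := hb
  clear hb
  induction hb' using Submodule.span_induction with
  | mem x h =>
    obtain ⟨e, he, rfl⟩ := h
    exact ⟨e, he, by rw [sub_self]; exact Ideal.zero_mem _⟩
  | zero => exact ⟨0, Ideal.zero_mem _, by rw [map_zero, sub_self]; exact Ideal.zero_mem _⟩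
  | add x y hx hy ihx ihy =>
    obtain ⟨e₁, he₁, h₁⟩ := ihx
    obtain ⟨e₂, he₂, h₂⟩ := ihy
    refine ⟨e₁ + e₂, Ideal.add_mem _ he₁ he₂, ?_⟩
    have : x + y - algebraMap D T (e₁ + e₂)
        = (x - algebraMap D T e₁) + (y - algebraMap D T e₂) := by
      rw [map_add]; ring
    rw [this]; exact Ideal.add_mem _ h₁ h₂
  | smul τ x hx ih =>
    obtain ⟨b₀, hb₀, h⟩ := ih
    obtain ⟨d, hd⟩ := exists_sub_mem_pow hs c τ
    refine ⟨d * b₀, Ideal.mul_mem_left _ d hb₀, ?_⟩
    have : τ • x - algebraMap D T (d * b₀)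
        = τ * (x - algebraMap D T b₀) + (τ - algebraMap D T d) * algebraMap D T b₀ := by
      rw [map_mul, smul_eq_mul]; ring
    rw [this]
    refine Ideal.add_mem _ (Ideal.mul_mem_left _ τ h) ?_
    rw [← Ideal.map_pow] at hd
    have h1 : (τ - algebraMap D T d) * algebraMap D T b₀ ∈
        Ideal.map (algebraMap D T) (maximalIdeal D ^ c * N₀) := by
      rw [Ideal.map_mul]
      exact Ideal.mul_mem_mul hd (Ideal.mem_map_of_mem _ hb₀)
    have h2 := Ideal.map_mono (f := algebraMap D T) hN₀ h1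
    rwa [Ideal.map_span, Set.image_singleton] at h2

end Approx2

section Core2

variable {D T : Type*} [CommRing D] [IsDomain D] [HenselianLocalRing D] [CommRing T]
  [IsLocalRing T] [IsNoetherianRing T] [Algebra D T] [Module.Flat D T]
  [IsLocalHom (algebraMap D T)]

theorem eq_of_coheight_one
    (hs : ∀ t : T, ∃ d : D, t - algebraMap D T d ∈ (maximalIdeal D).map (algebraMap D T))
    {P₁ P₂ : Ideal T} (h₁ : P₁ ∈ minimalPrimes T) (h₂ : P₂ ∈ minimalPrimes T)
    (hdim : ∀ Q : Ideal T, Q.IsPrime → P₁ < Q → Q = maximalIdeal T) : P₁ = P₂ := by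
  classical
  by_contra hne
  have hIeq : (maximalIdeal D).map (algebraMap D T) = maximalIdeal T :=
    map_maximalIdeal_eq_of_surj hs
  have hff : Module.FaithfullyFlat D T := Module.FaithfullyFlat.of_flat_of_isLocalHom
  have hND : IsNoetherianRing D :=
    Groth.Agent.Lib.HenselizationNoeth.isNoetherianRing_of_faithfullyFlat D T
  have hP₁m : P₁ ≠ maximalIdeal T := by
    intro h
    have hle : P₂ ≤ P₁ := h ▸ le_maximalIdeal h₂.1.1.ne_top
    exact hne (le_antisymm (h₁.2 ⟨h₂.1.1, bot_le⟩ hle) hle)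
  obtain ⟨f, hfm, hfP⟩ : ∃ f ∈ maximalIdeal D, algebraMap D T f ∉ P₁ := by
    by_contra hcon
    push Not at hcon
    apply hP₁m
    refine le_antisymm (le_maximalIdeal h₁.1.1.ne_top) ?_
    rw [← hIeq, Ideal.map_le_iff_le_comap]
    exact fun d hd => hcon d hd
  have hf0 : f ≠ 0 := by
    rintro rfl
    exact hfP (by rw [map_zero]; exact Ideal.zero_mem _)
  obtain ⟨g, hg⟩ : ∃ g : T, g = algebraMap D T f := ⟨_, rfl⟩
  rw [← hg] at hfP
  have hfreg : IsSMulRegular D f := by
    intro x y hxy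
    have hxy' : f * x = f * y := hxy
    exact mul_left_cancel₀ hf0 hxy'
  have hgreg : IsSMulRegular T g := hg ▸ IsSMulRegular.of_flat hfreg
  have hgnzd : g ∈ nonZeroDivisors T := by
    rw [mem_nonZeroDivisors_iff_right]
    intro z hz
    apply hgreg
    show g • z = g • 0
    rw [smul_eq_mul, smul_eq_mul, mul_zero, mul_comm, hz]
  have hgmin : ∀ P ∈ minimalPrimes T, g ∉ P := fun P hP hgP =>
    Set.disjoint_left.mp (Ideal.disjoint_nonZeroDivisors_of_mem_minimalPrimes hP) hgP hgnzd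
  -- primes strictly above `P₁`
  have hfin : (minimalPrimes T).Finite := minimalPrimes.finite_of_isNoetherianRing T
  obtain ⟨Fs, hFs⟩ : ∃ Fs : Finset (Ideal T), Fs = hfin.toFinset.erase P₁ := ⟨_, rfl⟩
  obtain ⟨J₂, hJ₂⟩ : ∃ J₂ : Ideal T, J₂ = Fs.inf id := ⟨_, rfl⟩
  have hmemF : ∀ P, P ∈ Fs ↔ P ≠ P₁ ∧ P ∈ minimalPrimes T := by
    intro P; rw [hFs, Finset.mem_erase, Set.Finite.mem_toFinset]
  have hJ₂le : ∀ P ∈ Fs, J₂ ≤ P := fun P hP => hJ₂ ▸ Finset.inf_le (f := id) hP
  have hgrad : g ∈ (P₁ ⊔ J₂).radical := by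
    rw [Ideal.radical_eq_sInf, Ideal.mem_sInf]
    rintro Q ⟨hQle, hQ⟩
    have hP₁Q : P₁ ≤ Q := le_sup_left.trans hQle
    have hJ₂Q : Fs.inf id ≤ Q := hJ₂ ▸ le_sup_right.trans hQle
    obtain ⟨P, hPF, hPQ⟩ := (Ideal.IsPrime.inf_le' hQ).mp hJ₂Q
    obtain ⟨hPne, hPmin⟩ := (hmemF P).mp hPF
    have hlt : P₁ < Q := by
      refine lt_of_le_of_ne hP₁Q ?_
      intro h
      have hPP₁ : P ≤ P₁ := h ▸ hPQ
      exact hPne (le_antisymm hPP₁ (h₁.2 ⟨hPmin.1.1, bot_le⟩ hPP₁))
    rw [hdim Q hQ hlt, hg, ← hIeq]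
    exact Ideal.mem_map_of_mem _ hfm
  obtain ⟨M, hM⟩ := hgrad
  obtain ⟨x, hx, y, hy, hxy⟩ := Submodule.mem_sup.mp hM
  have hnilmem : ∀ z, z ∈ P₁ → z ∈ J₂ → IsNilpotent z := by
    intro z hz1 hz2
    rw [← mem_nilradical, nilradical_eq_sInf, Ideal.mem_sInf]
    intro Q hQ
    have hQ' : Q.IsPrime := hQ
    obtain ⟨P, hP, hPQ⟩ := Ideal.exists_minimalPrimes_le (bot_le : (⊥ : Ideal T) ≤ Q)
    by_cases hPP : P = P₁
    · exact hPQ (by rw [hPP]; exact hz1)
    · exact hPQ (hJ₂le P ((hmemF P).mpr ⟨hPP, hP⟩) hz2)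
  obtain ⟨n, hn⟩ := hnilmem (x * y) (Ideal.mul_mem_right _ _ hx) (Ideal.mul_mem_left _ _ hy)
  have hn1 : (x * y) ^ (n + 1) = 0 := by rw [pow_succ, hn, zero_mul]
  have hsum : (x + y) ^ ((n + 1) + (n + 1)) ∈
      Ideal.span {x ^ (n + 1)} ⊔ Ideal.span {y ^ (n + 1)} := by
    have h1 : x + y ∈ Ideal.span {x} ⊔ Ideal.span {y} :=
      Ideal.add_mem _ (Ideal.mem_sup_left (Ideal.mem_span_singleton_self x))
        (Ideal.mem_sup_right (Ideal.mem_span_singleton_self y))
    have h2 := Ideal.pow_mem_pow h1 ((n + 1) + (n + 1))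
    have h3 := Ideal.sup_pow_add_le_pow_sup_pow (I := Ideal.span {x}) (J := Ideal.span {y})
      (n := n + 1) (m := n + 1) h2
    rwa [Ideal.span_singleton_pow, Ideal.span_singleton_pow] at h3
  obtain ⟨x', hx', y', hy', hxy'⟩ := Submodule.mem_sup.mp hsum
  obtain ⟨α, rfl⟩ := Ideal.mem_span_singleton'.mp hx'
  obtain ⟨β, rfl⟩ := Ideal.mem_span_singleton'.mp hy'
  obtain ⟨N, hN⟩ : ∃ N : ℕ, N = M * ((n + 1) + (n + 1)) := ⟨_, rfl⟩
  obtain ⟨G, hG⟩ : ∃ G : T, G = g ^ N := ⟨_, rfl⟩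
  obtain ⟨Fd, hFd⟩ : ∃ Fd : D, Fd = f ^ N := ⟨_, rfl⟩
  have hGF : G = algebraMap D T Fd := by rw [hG, hFd, map_pow, hg]
  have hab : α * x ^ (n + 1) + β * y ^ (n + 1) = G := by
    rw [hxy', hxy, ← pow_mul, ← hN, hG]
  have hab0 : (α * x ^ (n + 1)) * (β * y ^ (n + 1)) = 0 := by
    have : (α * x ^ (n + 1)) * (β * y ^ (n + 1)) = α * β * (x * y) ^ (n + 1) := by
      rw [mul_pow]; ring
    rw [this, hn1, mul_zero]
  obtain ⟨a, ha⟩ : ∃ a, a = α * x ^ (n + 1) := ⟨_, rfl⟩
  obtain ⟨b, hb⟩ : ∃ b, b = β * y ^ (n + 1) := ⟨_, rfl⟩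
  rw [← ha, ← hb] at hab hab0
  have haP : a ∈ P₁ := by
    rw [ha]; exact Ideal.mul_mem_left _ _ (Ideal.pow_mem_of_mem _ hx _ (Nat.succ_pos n))
  have hbJ : b ∈ J₂ := by
    rw [hb]; exact Ideal.mul_mem_left _ _ (Ideal.pow_mem_of_mem _ hy _ (Nat.succ_pos n))
  have hP₂F : P₂ ∈ Fs := (hmemF P₂).mpr ⟨fun h => hne h.symm, h₂⟩
  have hbb : b * b = G * b := by
    have : b * b = (a + b) * b - a * b := by ring
    rw [this, hab, hab0, sub_zero]
  have hb0 : b ≠ 0 := by
    intro h0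
    rw [h0, add_zero] at hab
    rw [hab, hG] at haP
    exact hfP (h₁.1.1.mem_of_pow_mem N haP)
  have hbG : b ≠ G := by
    intro h0
    have h1 : G ∈ P₂ := h0 ▸ hJ₂le P₂ hP₂F hbJ
    rw [hG] at h1
    exact hgmin P₂ h₂ (h₂.1.1.mem_of_pow_mem N h1)
  have hGreg : IsSMulRegular T G := hG ▸ hgreg.pow N
  have hFd0 : Fd ≠ 0 := hFd ▸ pow_ne_zero N hf0
  -- the colon ideal
  have hbpow : ∀ j : ℕ, b ^ (j + 1) = G ^ j * b := by
    intro j
    induction j with
    | zero => rw [pow_zero, one_mul, zero_add, pow_one]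
    | succ j ih => rw [pow_succ, ih, mul_assoc, hbb]; ring
  have hradb : maximalIdeal T ≤ ((Ideal.span {G}).colon {b}).radical := by
    have h1 : maximalIdeal T ≤ (P₁ ⊔ Ideal.span {g}).radical := by
      rw [Ideal.radical_eq_sInf]
      refine le_sInf ?_
      rintro Q ⟨hQle, hQ⟩
      have hP₁Q : P₁ ≤ Q := le_sup_left.trans hQle
      have hgQ : g ∈ Q := (le_sup_right.trans hQle) (Ideal.mem_span_singleton_self g)
      have hlt : P₁ < Q := lt_of_le_of_ne hP₁Q (fun h => hfP (h ▸ hgQ))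
      rw [hdim Q hQ hlt]
    have h2 : P₁ ⊔ Ideal.span {g} ≤ ((Ideal.span {G}).colon {b}).radical := by
      refine sup_le ?_ ?_
      · intro p hp
        obtain ⟨n', hn'⟩ := hnilmem (p * b) (Ideal.mul_mem_right _ _ hp)
          (Ideal.mul_mem_left _ _ hbJ)
        refine ⟨n' + 1, ?_⟩
        rw [Submodule.mem_colon_singleton, smul_eq_mul]
        have h3 : G ^ n' • (p ^ (n' + 1) * b) = G ^ n' • 0 := by
          rw [smul_eq_mul, smul_eq_mul, mul_zero]
          have h4 : (p * b) ^ (n' + 1) = 0 := by rw [pow_succ, hn', zero_mul]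
          rw [mul_pow, hbpow n'] at h4
          linear_combination h4
        rw [(hGreg.pow n') h3]
        exact Ideal.zero_mem _
      · rw [Ideal.span_singleton_le_iff_mem]
        refine ⟨N, ?_⟩
        rw [Submodule.mem_colon_singleton, smul_eq_mul, ← hG]
        exact Ideal.mul_mem_right _ _ (Ideal.mem_span_singleton_self G)
    exact h1.trans ((Ideal.radical_mono h2).trans (Ideal.radical_idem _).le)
  obtain ⟨c, hc⟩ := Ideal.exists_pow_le_of_le_radical_of_fg hradb
    (IsNoetherian.noetherian (maximalIdeal T))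
  -- generators of `m_D ^ c`
  obtain ⟨r, cs, hcs⟩ := Submodule.fg_iff_exists_fin_generating_family.mp
    (IsNoetherian.noetherian (maximalIdeal D ^ c))
  have hcsmem : ∀ i, cs i ∈ maximalIdeal D ^ c := fun i =>
    hcs ▸ Submodule.subset_span (Set.mem_range_self i)
  have hex : ∀ i, ∃ t : T, algebraMap D T (cs i) * b = algebraMap D T Fd * t := by
    intro i
    have h1 : algebraMap D T (cs i) ∈ maximalIdeal T ^ c := by
      rw [← hIeq, ← Ideal.map_pow]
      exact Ideal.mem_map_of_mem _ (hcsmem i)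
    have h2 := hc h1
    rw [Submodule.mem_colon_singleton, smul_eq_mul, Ideal.mem_span_singleton'] at h2
    obtain ⟨t, ht⟩ := h2
    exact ⟨t, by rw [← hGF, ← ht, mul_comm]⟩
  choose ts hts using hex
  have hbmem := mem_map_colon_of_mul_eq cs Fd b ts hts
  have hN₀ : maximalIdeal D ^ c * (Ideal.span {Fd}).colon (Set.range cs) ≤ Ideal.span {Fd} := by
    rw [Ideal.mul_le]
    intro e he y hy
    have he' : e ∈ Submodule.span D (Set.range cs) := by rw [hcs]; exact he
    clear he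
    induction he' using Submodule.span_induction with
    | mem z hz =>
      have := Submodule.mem_colon.mp hy z hz
      rw [smul_eq_mul, mul_comm] at this
      exact this
    | zero => rw [zero_mul]; exact Ideal.zero_mem _
    | add z₁ z₂ _ _ ih₁ ih₂ => rw [add_mul]; exact Ideal.add_mem _ ih₁ ih₂
    | smul d z _ ih => rw [smul_eq_mul, mul_assoc]; exact Ideal.mul_mem_left _ d ih
  obtain ⟨b₀, -, hb₀⟩ := exists_sub_mem_span_of_colon hs c Fd _ hN₀ b hbmem
  rw [← hGF, Ideal.mem_span_singleton'] at hb₀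
  obtain ⟨τ', hτ'⟩ := hb₀
  obtain ⟨τ, hτ⟩ : ∃ τ : T, τ = -τ' := ⟨_, rfl⟩
  have hφb₀ : algebraMap D T b₀ = b + G * τ := by
    rw [hτ]; linear_combination hτ'
  -- approximate `τ`
  obtain ⟨t₁, ht₁⟩ := hs τ
  rw [hIeq] at ht₁
  obtain ⟨u₁, hu₁⟩ : ∃ u₁ : D, u₁ = 2 * t₁ + 1 := ⟨_, rfl⟩
  obtain ⟨v₁, hv₁⟩ : ∃ v₁ : D, v₁ = -(t₁ * t₁ + t₁) := ⟨_, rfl⟩
  have hW : b₀ * b₀ - Fd * b₀ * u₁ - Fd * Fd * v₁ ∈
      maximalIdeal D * Ideal.span {Fd * b₀, Fd * Fd} := by
    rw [← Ideal.comap_map_eq_self_of_faithfullyFlat (B := T)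
      (maximalIdeal D * Ideal.span {Fd * b₀, Fd * Fd}), Ideal.mem_comap, Ideal.map_mul, hIeq,
      Ideal.map_span]
    have himg : (algebraMap D T) '' {Fd * b₀, Fd * Fd}
        = {G * algebraMap D T b₀, G * G} := by
      rw [Set.image_pair, map_mul, map_mul, ← hGF]
    rw [himg]
    have hid : algebraMap D T (b₀ * b₀ - Fd * b₀ * u₁ - Fd * Fd * v₁)
        = ((2 * τ + 1) - algebraMap D T u₁) * (G * algebraMap D T b₀)
          + (-((τ * τ + τ) + algebraMap D T v₁)) * (G * G) := by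
      rw [map_sub, map_sub, map_mul, map_mul, map_mul, map_mul, map_mul, ← hGF, hφb₀]
      linear_combination (1 : T) * hbb
    rw [hid]
    refine Ideal.add_mem _ (Ideal.mul_mem_mul ?_ (Ideal.subset_span (Set.mem_insert _ _)))
      (Ideal.mul_mem_mul ?_ (Ideal.subset_span (Set.mem_insert_of_mem _ rfl)))
    · have : (2 * τ + 1) - algebraMap D T u₁ = 2 * (τ - algebraMap D T t₁) := by
        rw [hu₁, map_add, map_mul, map_one, map_ofNat]; ring
      rw [this]; exact Ideal.mul_mem_left _ _ ht₁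
    · have : -((τ * τ + τ) + algebraMap D T v₁)
          = -((τ - algebraMap D T t₁) * (τ + algebraMap D T t₁ + 1)) := by
        rw [hv₁, map_neg, map_add, map_mul]; ring
      rw [this]; exact neg_mem (Ideal.mul_mem_right _ _ ht₁)
  have hpair : Ideal.span {Fd * b₀, Fd * Fd}
      = Ideal.span {Fd * b₀} ⊔ Ideal.span {Fd * Fd} := Ideal.span_insert _ _
  rw [hpair, Ideal.mul_sup] at hW
  obtain ⟨w₁, hw₁, w₂, hw₂, hw12⟩ := Submodule.mem_sup.mp hW
  obtain ⟨μ₁, hμ₁, hμ₁e⟩ := Ideal.mem_mul_span_singleton.mp hw₁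
  obtain ⟨μ₂, hμ₂, hμ₂e⟩ := Ideal.mem_mul_span_singleton.mp hw₂
  obtain ⟨u, hu⟩ : ∃ u : D, u = u₁ + μ₁ := ⟨_, rfl⟩
  obtain ⟨v, hv⟩ : ∃ v : D, v = v₁ + μ₂ := ⟨_, rfl⟩
  have hquad : b₀ * b₀ = Fd * b₀ * u + Fd * Fd * v := by
    rw [hu, hv]
    linear_combination (-1 : D) * hw12 - hμ₁e - hμ₂e
  -- Hensel
  have hmonic : (X ^ 2 - (C u * X + C v) : D[X]).Monic := by
    apply monic_X_pow_sub
    exact lt_of_le_of_lt (degree_linear_le) (by norm_num)
  have he : (X ^ 2 - (C u * X + C v) : D[X]).eval t₁ = -(μ₁ * t₁ + μ₂) := by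
    simp only [eval_sub, eval_pow, eval_X, eval_add, eval_mul, eval_C]
    rw [hu, hv, hu₁, hv₁]; ring
  have hd : (derivative (X ^ 2 - (C u * X + C v) : D[X])).eval t₁ = -(1 + μ₁) := by
    simp only [derivative_sub, derivative_X_pow, derivative_add, derivative_mul, derivative_C,
      derivative_X, eval_sub, eval_mul, eval_pow, eval_X, eval_add, eval_C, eval_zero,
      eval_one, Nat.cast_ofNat]
    rw [hu, hu₁]; ring
  have hunit : IsUnit (-(1 + μ₁)) := by
    refine IsUnit.neg ?_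
    by_contra hnu
    have h1 : (1 + μ₁) ∈ maximalIdeal D := (mem_maximalIdeal _).mpr hnu
    have h2 : (1 : D) ∈ maximalIdeal D := by
      have : (1 : D) = (1 + μ₁) - μ₁ := by ring
      rw [this]; exact Ideal.sub_mem _ h1 hμ₁
    exact (maximalIdeal.isMaximal D).ne_top ((Ideal.eq_top_iff_one _).mpr h2)
  obtain ⟨ρ, hρ, -⟩ := HenselianLocalRing.is_henselian (X ^ 2 - (C u * X + C v) : D[X]) hmonic t₁
    (by rw [he]; exact neg_mem (Ideal.add_mem _ (Ideal.mul_mem_right _ _ hμ₁) hμ₂))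
    (by rw [hd]; exact hunit)
  have hρ' : ρ ^ 2 - (u * ρ + v) = 0 := by
    have := hρ
    rw [IsRoot.def] at this
    simpa using this
  have hprod : (b₀ - Fd * ρ) * (b₀ - Fd * (u - ρ)) = 0 := by
    linear_combination hquad - (Fd * Fd) * hρ'
  have hfinal : ∀ w' : D, b₀ = Fd * w' → False := by
    intro w' hw''
    obtain ⟨v', hv'⟩ : ∃ v', v' = algebraMap D T w' - τ := ⟨_, rfl⟩
    have hbv : b = G * v' := by
      have h1 : b = algebraMap D T b₀ - G * τ := by rw [hφb₀]; ring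
      rw [h1, hw'', map_mul, ← hGF, hv']; ring
    have hvv : v' * v' = v' := by
      have h2 : (G * G) • (v' * v') = (G * G) • v' := by
        rw [smul_eq_mul, smul_eq_mul]
        have := hbb
        rw [hbv] at this
        linear_combination this
      have hGG : IsSMulRegular T (G * G) := by
        have := hGreg.pow 2
        rwa [pow_two] at this
      exact hGG h2
    rcases IsLocalRing.isUnit_or_isUnit_one_sub_self v' with hu' | hu'
    · have hv1 : v' = 1 := by
        have h3 : v' * v' = v' * 1 := by rw [hvv, mul_one]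
        exact hu'.mul_left_cancel h3
      exact hbG (by rw [hbv, hv1, mul_one])
    · have hv0 : v' = 0 := by
        have h3 : (1 - v') * v' = (1 - v') * 0 := by
          rw [mul_zero, sub_mul, one_mul, hvv, sub_self]
        exact hu'.mul_left_cancel h3
      exact hb0 (by rw [hbv, hv0, mul_zero])
  rcases mul_eq_zero.mp hprod with h | h
  · exact hfinal ρ (sub_eq_zero.mp h)
  · exact hfinal (u - ρ) (sub_eq_zero.mp h)

end Core2

section InjOn2

variable {S T : Type*} [CommRing S] [HenselianLocalRing S] [CommRing T] [IsLocalRing T]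
  [IsNoetherianRing T] [Algebra S T] [Module.Flat S T] [IsLocalHom (algebraMap S T)]

/-- If `P₁` is a minimal prime of `T` of coheight one (every prime strictly above it is maximal),
then it is the only minimal prime of `T` with its contraction to `S`. -/
theorem eq_of_comap_eq_of_coheight_one (q : Ideal S) [hqp : q.IsPrime]
    (hs : ∀ t : T, ∃ d : S, t - algebraMap S T d ∈ (maximalIdeal S).map (algebraMap S T))
    {P₁ P₂ : Ideal T} (h₁ : P₁ ∈ minimalPrimes T) (h₂ : P₂ ∈ minimalPrimes T)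
    (hq₁ : P₁.comap (algebraMap S T) = q) (hq₂ : P₂.comap (algebraMap S T) = q)
    (hdim : ∀ Q : Ideal T, Q.IsPrime → P₁ < Q → Q = maximalIdeal T) : P₁ = P₂ := by
  have hJP₁ : q.map (algebraMap S T) ≤ P₁ := by
    rw [Ideal.map_le_iff_le_comap, hq₁]
  have hJP₂ : q.map (algebraMap S T) ≤ P₂ := by
    rw [Ideal.map_le_iff_le_comap, hq₂]
  have hJne : q.map (algebraMap S T) ≠ ⊤ := fun h => h₁.1.1.ne_top (top_le_iff.mp (h ▸ hJP₁))
  have hnt : Nontrivial (T ⧸ q.map (algebraMap S T)) := Ideal.Quotient.nontrivial_iff.mpr hJne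
  have hHD : HenselianLocalRing (S ⧸ q) :=
    Groth.Agent.Lib.HenselizationUP.henselianLocalRing_of_surjective (Ideal.Quotient.mk q)
      Ideal.Quotient.mk_surjective
  have hlocT : IsLocalRing (T ⧸ q.map (algebraMap S T)) :=
    IsLocalRing.of_surjective' (Ideal.Quotient.mk (q.map (algebraMap S T)))
      Ideal.Quotient.mk_surjective
  have hlocmkT : IsLocalHom (Ideal.Quotient.mk (q.map (algebraMap S T))) :=
    IsLocalHom.of_surjective _ Ideal.Quotient.mk_surjective
  have hlocmkS : IsLocalHom (Ideal.Quotient.mk q) :=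
    IsLocalHom.of_surjective _ Ideal.Quotient.mk_surjective
  have hflat : Module.Flat (S ⧸ q) (T ⧸ q.map (algebraMap S T)) :=
    Module.Flat.of_linearEquiv
      (Algebra.TensorProduct.quotIdealMapEquivQuotTensor T q).toLinearEquiv
  have halg : ∀ s : S, algebraMap (S ⧸ q) (T ⧸ q.map (algebraMap S T)) (Ideal.Quotient.mk q s)
      = Ideal.Quotient.mk (q.map (algebraMap S T)) (algebraMap S T s) := fun s => rfl
  have hlocalg : IsLocalHom (algebraMap (S ⧸ q) (T ⧸ q.map (algebraMap S T))) := by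
    constructor
    intro x hx
    obtain ⟨s, rfl⟩ := Ideal.Quotient.mk_surjective x
    rw [halg] at hx
    have h2 := isUnit_of_map_unit (Ideal.Quotient.mk (q.map (algebraMap S T))) _ hx
    have h3 := isUnit_of_map_unit (algebraMap S T) _ h2
    exact h3.map (Ideal.Quotient.mk q)
  have hcomp : (Ideal.Quotient.mk (q.map (algebraMap S T))).comp (algebraMap S T)
      = (algebraMap (S ⧸ q) (T ⧸ q.map (algebraMap S T))).comp (Ideal.Quotient.mk q) :=
    RingHom.ext fun s => (halg s).symm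
  have hmaxD : maximalIdeal (S ⧸ q) = (maximalIdeal S).map (Ideal.Quotient.mk q) := by
    rw [← IsLocalRing.maximalIdeal_comap (Ideal.Quotient.mk q),
      Ideal.map_comap_of_surjective _ Ideal.Quotient.mk_surjective]
  have hsD : ∀ t : T ⧸ q.map (algebraMap S T), ∃ d : S ⧸ q,
      t - algebraMap (S ⧸ q) (T ⧸ q.map (algebraMap S T)) d ∈
        (maximalIdeal (S ⧸ q)).map (algebraMap (S ⧸ q) (T ⧸ q.map (algebraMap S T))) := by
    intro t
    obtain ⟨t, rfl⟩ := Ideal.Quotient.mk_surjective t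
    obtain ⟨d, hd⟩ := hs t
    refine ⟨Ideal.Quotient.mk q d, ?_⟩
    rw [halg, ← map_sub, hmaxD, Ideal.map_map, ← hcomp, ← Ideal.map_map]
    exact Ideal.mem_map_of_mem _ hd
  have hJker : (⊥ : Ideal (T ⧸ q.map (algebraMap S T))).comap
      (Ideal.Quotient.mk (q.map (algebraMap S T))) = q.map (algebraMap S T) := by
    rw [← RingHom.ker_eq_comap_bot, Ideal.mk_ker]
  have himg : (q.map (algebraMap S T)).minimalPrimes =
      Ideal.comap (Ideal.Quotient.mk (q.map (algebraMap S T))) ''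
        minimalPrimes (T ⧸ q.map (algebraMap S T)) := by
    have := Ideal.comap_minimalPrimes_eq_of_surjective
      (f := Ideal.Quotient.mk (q.map (algebraMap S T))) Ideal.Quotient.mk_surjective ⊥
    rw [hJker] at this
    exact this
  have hmemJ : ∀ P : Ideal T, P ∈ minimalPrimes T → q.map (algebraMap S T) ≤ P →
      P ∈ (q.map (algebraMap S T)).minimalPrimes := by
    intro P hP hle
    refine ⟨⟨hP.1.1, hle⟩, ?_⟩
    rintro Q ⟨hQ, -⟩ hQP
    exact hP.2 ⟨hQ, bot_le⟩ hQP
  obtain ⟨Q₁, hQ₁, hQP₁⟩ := (himg ▸ hmemJ P₁ h₁ hJP₁ : P₁ ∈ _ '' _)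
  obtain ⟨Q₂, hQ₂, hQP₂⟩ := (himg ▸ hmemJ P₂ h₂ hJP₂ : P₂ ∈ _ '' _)
  have hcomapinj := Ideal.comap_injective_of_surjective
    (Ideal.Quotient.mk (q.map (algebraMap S T))) Ideal.Quotient.mk_surjective
  have hdimQ : ∀ Q : Ideal (T ⧸ q.map (algebraMap S T)), Q.IsPrime → Q₁ < Q →
      Q = maximalIdeal (T ⧸ q.map (algebraMap S T)) := by
    intro Q hQ hlt
    have hQc : (Q.comap (Ideal.Quotient.mk (q.map (algebraMap S T)))).IsPrime :=
      Ideal.comap_isPrime _ _
    have hlt' : P₁ < Q.comap (Ideal.Quotient.mk (q.map (algebraMap S T))) := by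
      rw [← hQP₁]
      refine lt_of_le_of_ne (Ideal.comap_mono hlt.le) ?_
      intro h
      exact hlt.ne (hcomapinj h)
    have h1 := hdim _ hQc hlt'
    apply hcomapinj
    rw [h1, IsLocalRing.maximalIdeal_comap]
  have hQQ : Q₁ = Q₂ := eq_of_coheight_one hsD hQ₁ hQ₂ hdimQ
  rw [← hQP₁, ← hQP₂, hQQ]

end InjOn2

end Groth.Agent.Lib.CompletionBranches98
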