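import Groth.Agent.Lib.CompletionBranchesB98
import Mathlib.RingTheory.Noetherian.Nilpotent
import Mathlib.RingTheory.Spectrum.Prime.Topology

/-!
# Connectedness of punctured spectra: completion-like extensions of henselian local rings (helper98)

* `eq_zero_or_eq_of_mul_self`: `D` henselian local domain, `D → T` flat local with `D → T/m_D T`
  surjective, `b² = F b` in `T` with `F ∈ D` nonzero and `m_T^c b ⊆ F T`; then `b = 0` or `b = F`.
* `false_of_disconnection`: no decomposition of the punctured spectrum of `T` (domain case).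
* `false_of_disconnection_over`: the same over a prime `q` of a henselian local ring `S`.
* `isPreconnected_punctured_iff`: the punctured spectra of `S` and `T` are preconnected together.
-/

namespace Groth.Agent.Lib.CompletionBranches98

open IsLocalRing Polynomial

set_option maxHeartbeats 400000

section Core3

variable {D T : Type*} [CommRing D] [IsDomain D] [HenselianLocalRing D] [CommRing T]
  [IsLocalRing T] [IsNoetherianRing T] [Algebra D T] [Module.Flat D T]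
  [IsLocalHom (algebraMap D T)]

theorem eq_zero_or_eq_of_mul_self
    (hs : ∀ t : T, ∃ d : D, t - algebraMap D T d ∈ (maximalIdeal D).map (algebraMap D T))
    (Fd : D) (hFd0 : Fd ≠ 0) (b : T) (hbb : b * b = algebraMap D T Fd * b) (c : ℕ)
    (hc : ∀ z ∈ maximalIdeal T ^ c, z * b ∈ Ideal.span {algebraMap D T Fd}) :
    b = 0 ∨ b = algebraMap D T Fd := by
  classical
  by_contra hcon
  push Not at hcon
  obtain ⟨hb0, hbG⟩ := hcon
  have hIeq : (maximalIdeal D).map (algebraMap D T) = maximalIdeal T :=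
    map_maximalIdeal_eq_of_surj hs
  have hff : Module.FaithfullyFlat D T := Module.FaithfullyFlat.of_flat_of_isLocalHom
  have hND : IsNoetherianRing D :=
    Groth.Agent.Lib.HenselizationNoeth.isNoetherianRing_of_faithfullyFlat D T
  obtain ⟨G, hGF⟩ : ∃ G : T, G = algebraMap D T Fd := ⟨_, rfl⟩
  rw [← hGF] at hbb hc hbG
  have hFreg : IsSMulRegular D Fd := by
    intro x y hxy
    have hxy' : Fd * x = Fd * y := hxy
    exact mul_left_cancel₀ hFd0 hxy'
  have hGreg : IsSMulRegular T G := hGF ▸ IsSMulRegular.of_flat hFreg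
  obtain ⟨r, cs, hcs⟩ := Submodule.fg_iff_exists_fin_generating_family.mp
    (IsNoetherian.noetherian (maximalIdeal D ^ c))
  have hcsmem : ∀ i, cs i ∈ maximalIdeal D ^ c := fun i =>
    hcs ▸ Submodule.subset_span (Set.mem_range_self i)
  have hex : ∀ i, ∃ t : T, algebraMap D T (cs i) * b = algebraMap D T Fd * t := by
    intro i
    have h1 : algebraMap D T (cs i) ∈ maximalIdeal T ^ c := by
      rw [← hIeq, ← Ideal.map_pow]
      exact Ideal.mem_map_of_mem _ (hcsmem i)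
    have h2 := hc _ h1
    rw [Ideal.mem_span_singleton'] at h2
    obtain ⟨t, ht⟩ := h2
    exact ⟨t, by rw [← hGF, ← ht, mul_comm]⟩
  choose ts hts using hex
  have hbmem := mem_map_colon_of_mul_eq cs Fd b ts hts
  have hN₀ : maximalIdeal D ^ c * (Ideal.span {Fd}).colon (Set.range cs) ≤ Ideal.span {Fd} := by
    rw [Ideal.mul_le]
    intro e he y hy
    have he' : e ∈ Submodule.span D (Set.range cs) := by rw [hcs]; exact he
    clear he
    induction he' using Submodule.span_induction with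
    | mem z hz =>
      have := Submodule.mem_colon.mp hy z hz
      rw [smul_eq_mul, mul_comm] at this
      exact this
    | zero => rw [zero_mul]; exact Ideal.zero_mem _
    | add z₁ z₂ _ _ ih₁ ih₂ => rw [add_mul]; exact Ideal.add_mem _ ih₁ ih₂
    | smul d z _ ih => rw [smul_eq_mul, mul_assoc]; exact Ideal.mul_mem_left _ d ih
  obtain ⟨b₀, -, hb₀⟩ := exists_sub_mem_span_of_colon hs c Fd _ hN₀ b hbmem
  rw [← hGF, Ideal.mem_span_singleton'] at hb₀
  obtain ⟨τ', hτ'⟩ := hb₀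
  obtain ⟨τ, hτ⟩ : ∃ τ : T, τ = -τ' := ⟨_, rfl⟩
  have hφb₀ : algebraMap D T b₀ = b + G * τ := by
    rw [hτ]; linear_combination hτ'
  obtain ⟨t₁, ht₁⟩ := hs τ
  rw [hIeq] at ht₁
  obtain ⟨u₁, hu₁⟩ : ∃ u₁ : D, u₁ = 2 * t₁ + 1 := ⟨_, rfl⟩
  obtain ⟨v₁, hv₁⟩ : ∃ v₁ : D, v₁ = -(t₁ * t₁ + t₁) := ⟨_, rfl⟩
  have hW : b₀ * b₀ - Fd * b₀ * u₁ - Fd * Fd * v₁ ∈
      maximalIdeal D * Ideal.span {Fd * b₀, Fd * Fd} := by
    rw [← Ideal.comap_map_eq_self_of_faithfullyFlat (B := T)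
      (maximalIdeal D * Ideal.span {Fd * b₀, Fd * Fd}), Ideal.mem_comap, Ideal.map_mul, hIeq,
      Ideal.map_span]
    have himg : (algebraMap D T) '' {Fd * b₀, Fd * Fd}
        = {G * algebraMap D T b₀, G * G} := by
      rw [Set.image_pair, map_mul, map_mul, ← hGF]
    rw [himg]
    have hid : algebraMap D T (b₀ * b₀ - Fd * b₀ * u₁ - Fd * Fd * v₁)
        = ((2 * τ + 1) - algebraMap D T u₁) * (G * algebraMap D T b₀)
          + (-((τ * τ + τ) + algebraMap D T v₁)) * (G * G) := by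
      rw [map_sub, map_sub, map_mul, map_mul, map_mul, map_mul, map_mul, ← hGF, hφb₀]
      linear_combination (1 : T) * hbb
    rw [hid]
    refine Ideal.add_mem _ (Ideal.mul_mem_mul ?_ (Ideal.subset_span (Set.mem_insert _ _)))
      (Ideal.mul_mem_mul ?_ (Ideal.subset_span (Set.mem_insert_of_mem _ rfl)))
    · have : (2 * τ + 1) - algebraMap D T u₁ = 2 * (τ - algebraMap D T t₁) := by
        rw [hu₁, map_add, map_mul, map_one, map_ofNat]; ring
      rw [this]; exact Ideal.mul_mem_left _ _ ht₁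
    · have : -((τ * τ + τ) + algebraMap D T v₁)
          = -((τ - algebraMap D T t₁) * (τ + algebraMap D T t₁ + 1)) := by
        rw [hv₁, map_neg, map_add, map_mul]; ring
      rw [this]; exact neg_mem (Ideal.mul_mem_right _ _ ht₁)
  have hpair : Ideal.span {Fd * b₀, Fd * Fd}
      = Ideal.span {Fd * b₀} ⊔ Ideal.span {Fd * Fd} := Ideal.span_insert _ _
  rw [hpair, Ideal.mul_sup] at hW
  obtain ⟨w₁, hw₁, w₂, hw₂, hw12⟩ := Submodule.mem_sup.mp hW
  obtain ⟨μ₁, hμ₁, hμ₁e⟩ := Ideal.mem_mul_span_singleton.mp hw₁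
  obtain ⟨μ₂, hμ₂, hμ₂e⟩ := Ideal.mem_mul_span_singleton.mp hw₂
  obtain ⟨u, hu⟩ : ∃ u : D, u = u₁ + μ₁ := ⟨_, rfl⟩
  obtain ⟨v, hv⟩ : ∃ v : D, v = v₁ + μ₂ := ⟨_, rfl⟩
  have hquad : b₀ * b₀ = Fd * b₀ * u + Fd * Fd * v := by
    rw [hu, hv]
    linear_combination (-1 : D) * hw12 - hμ₁e - hμ₂e
  have hmonic : (X ^ 2 - (C u * X + C v) : D[X]).Monic := by
    apply monic_X_pow_sub
    exact lt_of_le_of_lt (degree_linear_le) (by norm_num)
  have he : (X ^ 2 - (C u * X + C v) : D[X]).eval t₁ = -(μ₁ * t₁ + μ₂) := by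
    simp only [eval_sub, eval_pow, eval_X, eval_add, eval_mul, eval_C]
    rw [hu, hv, hu₁, hv₁]; ring
  have hd : (derivative (X ^ 2 - (C u * X + C v) : D[X])).eval t₁ = -(1 + μ₁) := by
    simp only [derivative_sub, derivative_X_pow, derivative_add, derivative_mul, derivative_C,
      derivative_X, eval_sub, eval_mul, eval_pow, eval_X, eval_add, eval_C, eval_zero,
      eval_one, Nat.cast_ofNat]
    rw [hu, hu₁]; ring
  have hunit : IsUnit (-(1 + μ₁)) := by
    refine IsUnit.neg ?_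
    by_contra hnu
    have h1 : (1 + μ₁) ∈ maximalIdeal D := (mem_maximalIdeal _).mpr hnu
    have h2 : (1 : D) ∈ maximalIdeal D := by
      have : (1 : D) = (1 + μ₁) - μ₁ := by ring
      rw [this]; exact Ideal.sub_mem _ h1 hμ₁
    exact (maximalIdeal.isMaximal D).ne_top ((Ideal.eq_top_iff_one _).mpr h2)
  obtain ⟨ρ, hρ, -⟩ := HenselianLocalRing.is_henselian (X ^ 2 - (C u * X + C v) : D[X]) hmonic t₁
    (by rw [he]; exact neg_mem (Ideal.add_mem _ (Ideal.mul_mem_right _ _ hμ₁) hμ₂))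
    (by rw [hd]; exact hunit)
  have hρ' : ρ ^ 2 - (u * ρ + v) = 0 := by
    have := hρ
    rw [IsRoot.def] at this
    simpa using this
  have hprod : (b₀ - Fd * ρ) * (b₀ - Fd * (u - ρ)) = 0 := by
    linear_combination hquad - (Fd * Fd) * hρ'
  have hfinal : ∀ w' : D, b₀ = Fd * w' → False := by
    intro w' hw''
    obtain ⟨v', hv'⟩ : ∃ v', v' = algebraMap D T w' - τ := ⟨_, rfl⟩
    have hbv : b = G * v' := by
      have h1 : b = algebraMap D T b₀ - G * τ := by rw [hφb₀]; ring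
      rw [h1, hw'', map_mul, ← hGF, hv']; ring
    have hvv : v' * v' = v' := by
      have h2 : (G * G) • (v' * v') = (G * G) • v' := by
        rw [smul_eq_mul, smul_eq_mul]
        have := hbb
        rw [hbv] at this
        linear_combination this
      have hGG : IsSMulRegular T (G * G) := by
        have := hGreg.pow 2
        rwa [pow_two] at this
      exact hGG h2
    rcases IsLocalRing.isUnit_or_isUnit_one_sub_self v' with hu' | hu'
    · have hv1 : v' = 1 := by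
        have h3 : v' * v' = v' * 1 := by rw [hvv, mul_one]
        exact hu'.mul_left_cancel h3
      exact hbG (by rw [hbv, hv1, mul_one])
    · have hv0 : v' = 0 := by
        have h3 : (1 - v') * v' = (1 - v') * 0 := by
          rw [mul_zero, sub_mul, one_mul, hvv, sub_self]
        exact hu'.mul_left_cancel h3
      exact hb0 (by rw [hbv, hv0, mul_zero])
  rcases mul_eq_zero.mp hprod with h | h
  · exact hfinal ρ (sub_eq_zero.mp h)
  · exact hfinal (u - ρ) (sub_eq_zero.mp h)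

theorem false_of_disconnection
    (hs : ∀ t : T, ∃ d : D, t - algebraMap D T d ∈ (maximalIdeal D).map (algebraMap D T))
    (J₁ J₂ : Ideal T) (hnil : J₁ * J₂ ≤ nilradical T) (c : ℕ)
    (hprim : maximalIdeal T ^ c ≤ J₁ ⊔ J₂)
    (Q₁ Q₂ : Ideal T) (hQ₁p : Q₁.IsPrime) (hQ₂p : Q₂.IsPrime) (hJ₁ : J₁ ≤ Q₁) (hJ₂ : J₂ ≤ Q₂)
    (hQ₁ : Q₁ ≠ maximalIdeal T) (hQ₂ : Q₂ ≠ maximalIdeal T) : False := by
  classical
  have hIeq : (maximalIdeal D).map (algebraMap D T) = maximalIdeal T :=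
    map_maximalIdeal_eq_of_surj hs
  obtain ⟨P₁, hP₁, hP₁Q⟩ := Ideal.exists_minimalPrimes_le (bot_le : (⊥ : Ideal T) ≤ Q₁)
  obtain ⟨P₂, hP₂, hP₂Q⟩ := Ideal.exists_minimalPrimes_le (bot_le : (⊥ : Ideal T) ≤ Q₂)
  have key : ∀ P : Ideal T, P.IsPrime → J₁ ≤ P ∨ J₂ ≤ P := by
    intro P hP
    exact hP.mul_le.mp (hnil.trans (nilradical_le_prime P))
  have hmaxle : ∀ Q : Ideal T, Q.IsPrime → J₁ ≤ Q → J₂ ≤ Q → Q = maximalIdeal T := by
    intro Q hQ h1 h2
    refine le_antisymm (le_maximalIdeal hQ.ne_top) ?_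
    exact hQ.le_of_pow_le (hprim.trans (sup_le h1 h2))
  have hJ₁P₁ : J₁ ≤ P₁ := by
    rcases key P₁ hP₁.1.1 with h | h
    · exact h
    · exact absurd (hmaxle Q₁ hQ₁p hJ₁ (h.trans hP₁Q)) hQ₁
  have hJ₂P₂ : J₂ ≤ P₂ := by
    rcases key P₂ hP₂.1.1 with h | h
    · exact absurd (hmaxle Q₂ hQ₂p (h.trans hP₂Q) hJ₂) hQ₂
    · exact h
  have hP₁m : P₁ ≠ maximalIdeal T := by
    intro h
    exact hQ₁ (le_antisymm (le_maximalIdeal hQ₁p.ne_top) (h ▸ hP₁Q))
  obtain ⟨f, hfm, hfP⟩ : ∃ f ∈ maximalIdeal D, algebraMap D T f ∉ P₁ := by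
    by_contra hcon
    push Not at hcon
    apply hP₁m
    refine le_antisymm (le_maximalIdeal hP₁.1.1.ne_top) ?_
    rw [← hIeq, Ideal.map_le_iff_le_comap]
    exact fun d hd => hcon d hd
  have hf0 : f ≠ 0 := by
    rintro rfl
    exact hfP (by rw [map_zero]; exact Ideal.zero_mem _)
  obtain ⟨g, hg⟩ : ∃ g : T, g = algebraMap D T f := ⟨_, rfl⟩
  rw [← hg] at hfP
  have hgm : g ∈ maximalIdeal T := by
    rw [hg, ← hIeq]; exact Ideal.mem_map_of_mem _ hfm
  have hfreg : IsSMulRegular D f := by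
    intro x y hxy
    have hxy' : f * x = f * y := hxy
    exact mul_left_cancel₀ hf0 hxy'
  have hgreg : IsSMulRegular T g := hg ▸ IsSMulRegular.of_flat hfreg
  have hgnzd : g ∈ nonZeroDivisors T := by
    rw [mem_nonZeroDivisors_iff_right]
    intro z hz
    apply hgreg
    show g • z = g • 0
    rw [smul_eq_mul, smul_eq_mul, mul_zero, mul_comm, hz]
  have hgmin : ∀ P ∈ minimalPrimes T, g ∉ P := fun P hP hgP =>
    Set.disjoint_left.mp (Ideal.disjoint_nonZeroDivisors_of_mem_minimalPrimes hP) hgP hgnzd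
  obtain ⟨n, hn⟩ := IsNoetherianRing.isNilpotent_nilradical T
  have hJJ : J₁ ^ (n + 1) * J₂ ^ (n + 1) = ⊥ := by
    rw [← mul_pow, eq_bot_iff]
    calc (J₁ * J₂) ^ (n + 1) ≤ nilradical T ^ (n + 1) := Ideal.pow_right_mono hnil _
      _ = ⊥ := by rw [pow_succ, hn, Ideal.zero_eq_bot, Ideal.bot_mul]
  obtain ⟨c', hc'⟩ : ∃ c' : ℕ, c' = c * ((n + 1) + (n + 1)) := ⟨_, rfl⟩
  have hprim' : maximalIdeal T ^ c' ≤ J₁ ^ (n + 1) ⊔ J₂ ^ (n + 1) := by
    rw [hc', pow_mul]
    exact (Ideal.pow_right_mono hprim _).trans Ideal.sup_pow_add_le_pow_sup_pow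
  obtain ⟨G, hG⟩ : ∃ G : T, G = g ^ c' := ⟨_, rfl⟩
  obtain ⟨Fd, hFd⟩ : ∃ Fd : D, Fd = f ^ c' := ⟨_, rfl⟩
  have hGF : G = algebraMap D T Fd := by rw [hG, hFd, map_pow, hg]
  have hGmem : G ∈ maximalIdeal T ^ c' := hG ▸ Ideal.pow_mem_pow hgm c'
  obtain ⟨a, ha, b, hb, hab⟩ := Submodule.mem_sup.mp (hprim' hGmem)
  have hzero : ∀ z₁ ∈ J₁ ^ (n + 1), ∀ z₂ ∈ J₂ ^ (n + 1), z₁ * z₂ = 0 := by
    intro z₁ hz₁ z₂ hz₂
    have := Ideal.mul_mem_mul hz₁ hz₂
    rwa [hJJ, Ideal.mem_bot] at this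
  have hab0 : a * b = 0 := hzero a ha b hb
  have hbb : b * b = G * b := by
    have : b * b = (a + b) * b - a * b := by ring
    rw [this, hab, hab0, sub_zero]
  have hcolon : ∀ z ∈ maximalIdeal T ^ c', z * b ∈ Ideal.span {G} := by
    intro z hz
    obtain ⟨z₁, hz₁, z₂, hz₂, rfl⟩ := Submodule.mem_sup.mp (hprim' hz)
    rw [Ideal.mem_span_singleton']
    refine ⟨z₂, ?_⟩
    have h1 : z₁ * b = 0 := hzero z₁ hz₁ b hb
    have h2 : a * z₂ = 0 := hzero a ha z₂ hz₂
    linear_combination (-z₂) * hab + h2 - h1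
  have hFd0 : Fd ≠ 0 := hFd ▸ pow_ne_zero c' hf0
  rw [hGF] at hbb hcolon
  rcases eq_zero_or_eq_of_mul_self hs Fd hFd0 b hbb c' hcolon with h0 | h0
  · rw [h0, add_zero] at hab
    have haP : a ∈ P₁ := hJ₁P₁ (Ideal.pow_le_self (Nat.succ_ne_zero n) ha)
    rw [hab, hG] at haP
    exact hfP (hP₁.1.1.mem_of_pow_mem c' haP)
  · have hbP : b ∈ P₂ := hJ₂P₂ (Ideal.pow_le_self (Nat.succ_ne_zero n) hb)
    rw [h0, ← hGF, hG] at hbP
    exact hgmin P₂ hP₂ (hP₂.1.1.mem_of_pow_mem c' hbP)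

end Core3

section Over

variable {S T : Type*} [CommRing S] [HenselianLocalRing S] [CommRing T] [IsLocalRing T]
  [IsNoetherianRing T] [Algebra S T] [Module.Flat S T] [IsLocalHom (algebraMap S T)]

theorem false_of_disconnection_over (q : Ideal S) [hqp : q.IsPrime]
    (hs : ∀ t : T, ∃ d : S, t - algebraMap S T d ∈ (maximalIdeal S).map (algebraMap S T))
    (J₁ J₂ : Ideal T) (hnil : J₁ * J₂ ≤ nilradical T) (c : ℕ)
    (hprim : maximalIdeal T ^ c ≤ J₁ ⊔ J₂)
    (Q₁ Q₂ : Ideal T) (hQ₁p : Q₁.IsPrime) (hQ₂p : Q₂.IsPrime)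
    (hq₁ : q.map (algebraMap S T) ≤ Q₁) (hq₂ : q.map (algebraMap S T) ≤ Q₂)
    (hJ₁ : J₁ ≤ Q₁) (hJ₂ : J₂ ≤ Q₂)
    (hQ₁ : Q₁ ≠ maximalIdeal T) (hQ₂ : Q₂ ≠ maximalIdeal T) : False := by
  have hJne : q.map (algebraMap S T) ≠ ⊤ := fun h => hQ₁p.ne_top (top_le_iff.mp (h ▸ hq₁))
  have hnt : Nontrivial (T ⧸ q.map (algebraMap S T)) := Ideal.Quotient.nontrivial_iff.mpr hJne
  have hHD : HenselianLocalRing (S ⧸ q) :=
    Groth.Agent.Lib.HenselizationUP.henselianLocalRing_of_surjective (Ideal.Quotient.mk q)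
      Ideal.Quotient.mk_surjective
  have hlocT : IsLocalRing (T ⧸ q.map (algebraMap S T)) :=
    IsLocalRing.of_surjective' (Ideal.Quotient.mk (q.map (algebraMap S T)))
      Ideal.Quotient.mk_surjective
  have hlocmkT : IsLocalHom (Ideal.Quotient.mk (q.map (algebraMap S T))) :=
    IsLocalHom.of_surjective _ Ideal.Quotient.mk_surjective
  have hlocmkS : IsLocalHom (Ideal.Quotient.mk q) :=
    IsLocalHom.of_surjective _ Ideal.Quotient.mk_surjective
  have hflat : Module.Flat (S ⧸ q) (T ⧸ q.map (algebraMap S T)) :=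
    Module.Flat.of_linearEquiv
      (Algebra.TensorProduct.quotIdealMapEquivQuotTensor T q).toLinearEquiv
  have halg : ∀ s : S, algebraMap (S ⧸ q) (T ⧸ q.map (algebraMap S T)) (Ideal.Quotient.mk q s)
      = Ideal.Quotient.mk (q.map (algebraMap S T)) (algebraMap S T s) := fun s => rfl
  have hlocalg : IsLocalHom (algebraMap (S ⧸ q) (T ⧸ q.map (algebraMap S T))) := by
    constructor
    intro x hx
    obtain ⟨s, rfl⟩ := Ideal.Quotient.mk_surjective x
    rw [halg] at hx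
    have h2 := isUnit_of_map_unit (Ideal.Quotient.mk (q.map (algebraMap S T))) _ hx
    have h3 := isUnit_of_map_unit (algebraMap S T) _ h2
    exact h3.map (Ideal.Quotient.mk q)
  have hcomp : (Ideal.Quotient.mk (q.map (algebraMap S T))).comp (algebraMap S T)
      = (algebraMap (S ⧸ q) (T ⧸ q.map (algebraMap S T))).comp (Ideal.Quotient.mk q) :=
    RingHom.ext fun s => (halg s).symm
  have hmaxD : maximalIdeal (S ⧸ q) = (maximalIdeal S).map (Ideal.Quotient.mk q) := by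
    rw [← IsLocalRing.maximalIdeal_comap (Ideal.Quotient.mk q),
      Ideal.map_comap_of_surjective _ Ideal.Quotient.mk_surjective]
  have hmaxT : maximalIdeal (T ⧸ q.map (algebraMap S T))
      = (maximalIdeal T).map (Ideal.Quotient.mk (q.map (algebraMap S T))) := by
    rw [← IsLocalRing.maximalIdeal_comap (Ideal.Quotient.mk (q.map (algebraMap S T))),
      Ideal.map_comap_of_surjective _ Ideal.Quotient.mk_surjective]
  have hsD : ∀ t : T ⧸ q.map (algebraMap S T), ∃ d : S ⧸ q,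
      t - algebraMap (S ⧸ q) (T ⧸ q.map (algebraMap S T)) d ∈
        (maximalIdeal (S ⧸ q)).map (algebraMap (S ⧸ q) (T ⧸ q.map (algebraMap S T))) := by
    intro t
    obtain ⟨t, rfl⟩ := Ideal.Quotient.mk_surjective t
    obtain ⟨d, hd⟩ := hs t
    refine ⟨Ideal.Quotient.mk q d, ?_⟩
    rw [halg, ← map_sub, hmaxD, Ideal.map_map, ← hcomp, ← Ideal.map_map]
    exact Ideal.mem_map_of_mem _ hd
  have hcm : ∀ Q : Ideal T, q.map (algebraMap S T) ≤ Q →
      (Q.map (Ideal.Quotient.mk (q.map (algebraMap S T)))).comap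
        (Ideal.Quotient.mk (q.map (algebraMap S T))) = Q := by
    intro Q hQ
    rw [Ideal.comap_map_of_surjective _ Ideal.Quotient.mk_surjective,
      ← RingHom.ker_eq_comap_bot, Ideal.mk_ker, sup_eq_left.mpr hQ]
  have hne : ∀ Q : Ideal T, q.map (algebraMap S T) ≤ Q → Q ≠ maximalIdeal T →
      Q.map (Ideal.Quotient.mk (q.map (algebraMap S T)))
        ≠ maximalIdeal (T ⧸ q.map (algebraMap S T)) := by
    intro Q hQ hQm h
    apply hQm
    rw [← hcm Q hQ, h, IsLocalRing.maximalIdeal_comap]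
  refine false_of_disconnection (D := S ⧸ q) (T := T ⧸ q.map (algebraMap S T)) hsD
    (J₁.map (Ideal.Quotient.mk (q.map (algebraMap S T))))
    (J₂.map (Ideal.Quotient.mk (q.map (algebraMap S T)))) ?_ c ?_
    (Q₁.map (Ideal.Quotient.mk (q.map (algebraMap S T))))
    (Q₂.map (Ideal.Quotient.mk (q.map (algebraMap S T))))
    (Ideal.map_isPrime_of_surjective Ideal.Quotient.mk_surjective
      (by rw [Ideal.mk_ker]; exact hq₁))
    (Ideal.map_isPrime_of_surjective Ideal.Quotient.mk_surjective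
      (by rw [Ideal.mk_ker]; exact hq₂))
    (Ideal.map_mono hJ₁) (Ideal.map_mono hJ₂) (hne Q₁ hq₁ hQ₁) (hne Q₂ hq₂ hQ₂)
  · rw [← Ideal.map_mul]
    refine (Ideal.map_mono hnil).trans ?_
    rw [Ideal.map_le_iff_le_comap]
    intro z hz
    rw [Ideal.mem_comap, mem_nilradical]
    exact (mem_nilradical.mp hz).map _
  · rw [hmaxT, ← Ideal.map_pow, ← Ideal.map_sup]
    exact Ideal.map_mono hprim

open PrimeSpectrum in
theorem isPreconnected_punctured_iff
    (hs : ∀ t : T, ∃ d : S, t - algebraMap S T d ∈ (maximalIdeal S).map (algebraMap S T)) :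
    IsPreconnected ({closedPoint T}ᶜ : Set (PrimeSpectrum T)) ↔
      IsPreconnected ({closedPoint S}ᶜ : Set (PrimeSpectrum S)) := by
  classical
  have hff : Module.FaithfullyFlat S T := Module.FaithfullyFlat.of_flat_of_isLocalHom
  have hinj : Function.Injective (algebraMap S T) := FaithfulSMul.algebraMap_injective S T
  have hmT : (maximalIdeal S).map (algebraMap S T) = maximalIdeal T :=
    map_maximalIdeal_eq_of_surj hs
  have hpre : ∀ x : PrimeSpectrum T,
      PrimeSpectrum.comap (algebraMap S T) x = closedPoint S ↔ x = closedPoint T := by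
    intro x
    constructor
    · intro h
      have h1 : x.asIdeal.comap (algebraMap S T) = maximalIdeal S :=
        congrArg PrimeSpectrum.asIdeal h
      have h2 : maximalIdeal T ≤ x.asIdeal := by
        rw [← hmT, Ideal.map_le_iff_le_comap, h1]
      exact PrimeSpectrum.ext (le_antisymm (le_maximalIdeal x.2.ne_top) h2)
    · rintro rfl
      exact comap_closedPoint _
  have himg : PrimeSpectrum.comap (algebraMap S T) '' {closedPoint T}ᶜ = {closedPoint S}ᶜ := by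
    ext y
    constructor
    · rintro ⟨x, hx, rfl⟩ hy
      exact hx ((hpre x).mp hy)
    · intro hy
      obtain ⟨x, rfl⟩ := PrimeSpectrum.comap_surjective_of_faithfullyFlat (A := S) (B := T) y
      exact ⟨x, fun hx => hy ((hpre x).mpr hx), rfl⟩
  constructor
  · intro h
    rw [← himg]
    exact h.image _ (PrimeSpectrum.continuous_comap _).continuousOn
  · intro h u v hu hv hsub hnu hnv
    by_contra hempty
    have hUopen : IsOpen ({closedPoint T}ᶜ : Set (PrimeSpectrum T)) :=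
      (isClosed_singleton_closedPoint (R := T)).isOpen_compl
    obtain ⟨Z₁, hZ₁def⟩ : ∃ Z₁ : Set (PrimeSpectrum T), Z₁ = ({closedPoint T}ᶜ ∩ v)ᶜ :=
      ⟨_, rfl⟩
    obtain ⟨Z₂, hZ₂def⟩ : ∃ Z₂ : Set (PrimeSpectrum T), Z₂ = ({closedPoint T}ᶜ ∩ u)ᶜ :=
      ⟨_, rfl⟩
    have hZ₁c : IsClosed Z₁ := hZ₁def ▸ (hUopen.inter hv).isClosed_compl
    have hZ₂c : IsClosed Z₂ := hZ₂def ▸ (hUopen.inter hu).isClosed_compl
    have hmem₁ : ∀ x : PrimeSpectrum T, x ∈ Z₁ ↔ vanishingIdeal Z₁ ≤ x.asIdeal := by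
      intro x
      conv_lhs => rw [← hZ₁c.closure_eq, ← zeroLocus_vanishingIdeal_eq_closure, mem_zeroLocus]
      exact SetLike.coe_subset_coe
    have hmem₂ : ∀ x : PrimeSpectrum T, x ∈ Z₂ ↔ vanishingIdeal Z₂ ≤ x.asIdeal := by
      intro x
      conv_lhs => rw [← hZ₂c.closure_eq, ← zeroLocus_vanishingIdeal_eq_closure, mem_zeroLocus]
      exact SetLike.coe_subset_coe
    have hcover : ∀ x : PrimeSpectrum T, x ∈ Z₁ ∨ x ∈ Z₂ := by
      intro x
      by_contra hcon
      push Not at hcon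
      rw [hZ₁def, hZ₂def] at hcon
      have h1 : x ∈ ({closedPoint T}ᶜ ∩ v : Set (PrimeSpectrum T)) := Set.notMem_compl_iff.mp hcon.1
      have h2 : x ∈ ({closedPoint T}ᶜ ∩ u : Set (PrimeSpectrum T)) := Set.notMem_compl_iff.mp hcon.2
      exact hempty ⟨x, h1.1, h2.2, h1.2⟩
    have hinter : ∀ x : PrimeSpectrum T, x ∈ Z₁ → x ∈ Z₂ → x = closedPoint T := by
      intro x h1 h2
      by_contra hx
      rw [hZ₁def] at h1
      rw [hZ₂def] at h2
      rcases hsub hx with hxu | hxv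
      · exact h2 ⟨hx, hxu⟩
      · exact h1 ⟨hx, hxv⟩
    obtain ⟨J₁, hJ₁def⟩ : ∃ J₁ : Ideal T, J₁ = vanishingIdeal Z₁ := ⟨_, rfl⟩
    obtain ⟨J₂, hJ₂def⟩ : ∃ J₂ : Ideal T, J₂ = vanishingIdeal Z₂ := ⟨_, rfl⟩
    rw [← hJ₁def] at hmem₁
    rw [← hJ₂def] at hmem₂
    have hnil : J₁ * J₂ ≤ nilradical T := by
      rw [nilradical_eq_sInf]
      refine le_sInf fun P hP => ?_
      have hP' : P.IsPrime := hP
      rcases hcover ⟨P, hP'⟩ with h1 | h1
      · exact (Ideal.mul_le_inf.trans inf_le_left).trans ((hmem₁ _).mp h1)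
      · exact (Ideal.mul_le_inf.trans inf_le_right).trans ((hmem₂ _).mp h1)
    have hrad : maximalIdeal T ≤ (J₁ ⊔ J₂).radical := by
      rw [Ideal.radical_eq_sInf]
      refine le_sInf ?_
      rintro P ⟨hle, hP⟩
      have := hinter ⟨P, hP⟩ ((hmem₁ _).mpr (le_sup_left.trans hle))
        ((hmem₂ _).mpr (le_sup_right.trans hle))
      exact (congrArg PrimeSpectrum.asIdeal this).ge
    obtain ⟨c, hc⟩ := Ideal.exists_pow_le_of_le_radical_of_fg hrad
      (IsNoetherian.noetherian (maximalIdeal T))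
    have hIcover : ∀ 𝔭 : PrimeSpectrum S, J₁.comap (algebraMap S T) ≤ 𝔭.asIdeal ∨
        J₂.comap (algebraMap S T) ≤ 𝔭.asIdeal := by
      intro 𝔭
      have h1 : J₁.comap (algebraMap S T) * J₂.comap (algebraMap S T) ≤ 𝔭.asIdeal := by
        intro z hz
        have hz' : algebraMap S T z ∈ nilradical T := by
          apply hnil
          have := Ideal.mem_map_of_mem (algebraMap S T) hz
          rw [Ideal.map_mul] at this
          exact Ideal.mul_mono Ideal.map_comap_le Ideal.map_comap_le this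
        have hz'' : IsNilpotent z := by
          obtain ⟨k, hk⟩ := mem_nilradical.mp hz'
          exact ⟨k, hinj (by rw [map_pow, hk, map_zero])⟩
        have := 𝔭.2
        exact nilradical_le_prime 𝔭.asIdeal (mem_nilradical.mpr hz'')
      exact 𝔭.2.mul_le.mp h1
    have hIinter : ∀ 𝔭 : PrimeSpectrum S, J₁.comap (algebraMap S T) ≤ 𝔭.asIdeal →
        J₂.comap (algebraMap S T) ≤ 𝔭.asIdeal → 𝔭 = closedPoint S := by
      intro 𝔭 h1 h2
      by_contra h𝔭
      have := 𝔭.2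
      obtain ⟨𝔭₁, h𝔭₁, h𝔭₁le⟩ := Ideal.exists_minimalPrimes_le h1
      obtain ⟨𝔭₂, h𝔭₂, h𝔭₂le⟩ := Ideal.exists_minimalPrimes_le h2
      obtain ⟨Q₁, hQ₁, hQ₁c⟩ := Ideal.exists_minimalPrimes_comap_eq (algebraMap S T) 𝔭₁ h𝔭₁
      obtain ⟨Q₂, hQ₂, hQ₂c⟩ := Ideal.exists_minimalPrimes_comap_eq (algebraMap S T) 𝔭₂ h𝔭₂
      obtain ⟨x, hx⟩ := PrimeSpectrum.comap_surjective_of_faithfullyFlat (A := S) (B := T) 𝔭
      have hxc : x.asIdeal.comap (algebraMap S T) = 𝔭.asIdeal :=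
        congrArg PrimeSpectrum.asIdeal hx
      have h𝔭ne : 𝔭.asIdeal ≠ maximalIdeal S := fun h => h𝔭 (PrimeSpectrum.ext h)
      have hcm : (maximalIdeal T).comap (algebraMap S T) = maximalIdeal S :=
        IsLocalRing.maximalIdeal_comap (algebraMap S T)
      have hxne : x.asIdeal ≠ maximalIdeal T := by
        intro h
        rw [h, hcm] at hxc
        exact h𝔭ne hxc.symm
      have hlem : ∀ 𝔭' : Ideal S, 𝔭' ≤ 𝔭.asIdeal → ∀ Q : Ideal T,
          Q.comap (algebraMap S T) = 𝔭' → Q ≠ maximalIdeal T := by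
        intro 𝔭' hle Q hQc hQm
        rw [hQm, hcm] at hQc
        exact h𝔭ne (le_antisymm (le_maximalIdeal 𝔭.2.ne_top) (hQc ▸ hle))
      have h𝔭₁p : 𝔭₁.IsPrime := h𝔭₁.1.1
      have h𝔭₂p : 𝔭₂.IsPrime := h𝔭₂.1.1
      rcases hcover x with hx1 | hx2
      · refine false_of_disconnection_over 𝔭₂ hs J₁ J₂ hnil c hc x.asIdeal Q₂ x.2 hQ₂.1.1
          ?_ ?_ ((hmem₁ x).mp hx1) hQ₂.1.2 hxne (hlem 𝔭₂ h𝔭₂le Q₂ hQ₂c)
        · rw [Ideal.map_le_iff_le_comap, hxc]; exact h𝔭₂le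
        · rw [Ideal.map_le_iff_le_comap, hQ₂c]
      · refine false_of_disconnection_over 𝔭₁ hs J₁ J₂ hnil c hc Q₁ x.asIdeal hQ₁.1.1 x.2
          ?_ ?_ hQ₁.1.2 ((hmem₂ x).mp hx2) (hlem 𝔭₁ h𝔭₁le Q₁ hQ₁c) hxne
        · rw [Ideal.map_le_iff_le_comap, hQ₁c]
        · rw [Ideal.map_le_iff_le_comap, hxc]; exact h𝔭₁le
    -- points of the two pieces
    have hpt : ∀ x : PrimeSpectrum T, x ≠ closedPoint T →
        PrimeSpectrum.comap (algebraMap S T) x ≠ closedPoint S := fun x hx h => hx ((hpre x).mp h)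
    have hcomapJ : ∀ (J : Ideal T) (x : PrimeSpectrum T), J ≤ x.asIdeal →
        J.comap (algebraMap S T) ≤ (PrimeSpectrum.comap (algebraMap S T) x).asIdeal :=
      fun J x h => Ideal.comap_mono h
    have hres := h (zeroLocus (J₂.comap (algebraMap S T) : Set S))ᶜ
      (zeroLocus (J₁.comap (algebraMap S T) : Set S))ᶜ
      (isClosed_zeroLocus _).isOpen_compl (isClosed_zeroLocus _).isOpen_compl ?_ ?_ ?_
    · obtain ⟨𝔭, -, h2, h1⟩ := hres
      rcases hIcover 𝔭 with h' | h'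
      · exact h1 ((mem_zeroLocus _ _).mpr (SetLike.coe_subset_coe.mpr h'))
      · exact h2 ((mem_zeroLocus _ _).mpr (SetLike.coe_subset_coe.mpr h'))
    · intro 𝔭 h𝔭
      by_contra hcon
      rw [Set.mem_union, not_or] at hcon
      have h2 : 𝔭 ∈ zeroLocus (J₂.comap (algebraMap S T) : Set S) :=
        Set.notMem_compl_iff.mp hcon.1
      have h1 : 𝔭 ∈ zeroLocus (J₁.comap (algebraMap S T) : Set S) :=
        Set.notMem_compl_iff.mp hcon.2
      exact h𝔭 (hIinter 𝔭 (SetLike.coe_subset_coe.mp ((mem_zeroLocus _ _).mp h1))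
        (SetLike.coe_subset_coe.mp ((mem_zeroLocus _ _).mp h2)))
    · obtain ⟨x, hxU, hxu⟩ := hnu
      have hxZ₁ : x ∈ Z₁ := by
        rw [hZ₁def]
        intro hxv
        exact hempty ⟨x, hxU, hxu, hxv.2⟩
      refine ⟨PrimeSpectrum.comap (algebraMap S T) x, hpt x hxU, ?_⟩
      intro h2
      have h2' := SetLike.coe_subset_coe.mp ((mem_zeroLocus _ _).mp h2)
      exact hpt x hxU (hIinter _ (hcomapJ J₁ x ((hmem₁ x).mp hxZ₁)) h2')
    · obtain ⟨x, hxU, hxv⟩ := hnv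
      have hxZ₂ : x ∈ Z₂ := by
        rw [hZ₂def]
        intro hxu
        exact hempty ⟨x, hxU, hxu.2, hxv⟩
      refine ⟨PrimeSpectrum.comap (algebraMap S T) x, hpt x hxU, ?_⟩
      intro h1
      have h1' := SetLike.coe_subset_coe.mp ((mem_zeroLocus _ _).mp h1)
      exact hpt x hxU (hIinter _ h1' (hcomapJ J₂ x ((hmem₂ x).mp hxZ₂)))

end Over

end Groth.Agent.Lib.CompletionBranches98
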