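import Groth.Agent.Lib.CoeffField
import Groth.Agent.Lib.HenselizationUP
import Groth.Prelude.Def_Hensel

/-!
# `m_R S = m_S` for a strict henselization (helper22)

Proof from the universal property: `T' = S / m_R S` is a henselian local `κ(R)`-algebra whose
residue field is separable over `κ(R)`, hence has a coefficient field `σ : κ(T') → T'`
(`CoeffField.liftHom`); the two maps `S → T'` given by the quotient map and by
`σ ∘ (residue)` agree by the universal property.
-/

namespace Groth.Agent.Lib.StrictHenselizationMax

open IsLocalRing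

universe u

variable (R : Type u) [CommRing R] [IsLocalRing R] (S : Type u) [CommRing S] [IsLocalRing S]
  [Algebra R S] [IsLocalHom (algebraMap R S)] [hS : Hensel.IsStrictHenselization R S]

theorem map_maximalIdeal_eq :
    Ideal.map (algebraMap R S) (maximalIdeal R) = maximalIdeal S := by
  classical
  have hSh : HenselianLocalRing S := hS.henselian
  have hsep : Algebra.IsSeparable (ResidueField R) (ResidueField S) := hS.isSepClosure.separable
  set J : Ideal S := Ideal.map (algebraMap R S) (maximalIdeal R) with hJ
  have hJle : J ≤ maximalIdeal S := by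
    rw [hJ, Ideal.map_le_iff_le_comap]
    intro r hr
    exact map_nonunit (algebraMap R S) r hr
  refine le_antisymm hJle ?_
  have hJne : J ≠ ⊤ := fun h => (maximalIdeal.isMaximal S).ne_top (top_le_iff.mp (h ▸ hJle))
  have hnt : Nontrivial (S ⧸ J) := Ideal.Quotient.nontrivial_iff.mpr hJne
  let π : S →+* S ⧸ J := Ideal.Quotient.mk J
  have hπs : Function.Surjective π := Ideal.Quotient.mk_surjective
  have hT : HenselianLocalRing (S ⧸ J) :=
    Groth.Agent.Lib.HenselizationUP.henselianLocalRing_of_surjective π hπs
  have hπl : IsLocalHom π := IsLocalHom.of_surjective π hπs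
  let f : R →+* S ⧸ J := π.comp (algebraMap R S)
  have hfl : IsLocalHom f := RingHom.isLocalHom_comp _ _
  let φ₀ : ResidueField R →+* S ⧸ J :=
    Ideal.Quotient.lift (maximalIdeal R) f (fun r hr => by
      show π (algebraMap R S r) = 0
      exact Ideal.Quotient.eq_zero_iff_mem.mpr (Ideal.mem_map_of_mem _ hr))
  have hφ₀ : ∀ r, φ₀ (residue R r) = π (algebraMap R S r) := fun r => rfl
  let instA : Algebra (ResidueField R) (S ⧸ J) := φ₀.toAlgebra
  let instK : Algebra (ResidueField R) (ResidueField (S ⧸ J)) :=
    @ResidueField.algebra (S ⧸ J) _ _ (ResidueField R) _ instA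
  let τ : ResidueField S →+* ResidueField (S ⧸ J) := ResidueField.map π
  have hτbij : Function.Bijective τ := by
    refine ⟨τ.injective, fun y => ?_⟩
    obtain ⟨t, rfl⟩ := residue_surjective y
    obtain ⟨s, rfl⟩ := hπs t
    exact ⟨residue S s, rfl⟩
  have hsep' : @Algebra.IsSeparable (ResidueField R) (ResidueField (S ⧸ J)) _ _ instK :=
    @Algebra.IsSeparable.of_equiv_equiv (ResidueField R) (ResidueField S) (ResidueField R)
      (ResidueField (S ⧸ J)) _ _ _ _ _ instK (RingEquiv.refl _) (RingEquiv.ofBijective τ hτbij)
      (by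
        ext c
        obtain ⟨r, rfl⟩ := residue_surjective c
        rfl) hsep
  obtain ⟨σ, hσ, hσc⟩ := @Groth.Agent.Lib.CoeffField.exists_section (ResidueField R) _ (S ⧸ J) _
    hT instA hsep'
  have hτ : τ.comp (ResidueField.map (algebraMap R S)) = ResidueField.map f := by
    ext c
    obtain ⟨r, rfl⟩ := residue_surjective c
    rfl
  obtain ⟨g, -, hg⟩ := hS.universal (S ⧸ J) f τ hτ
  let g₂ : S →+* S ⧸ J := σ.comp (τ.comp (residue S))
  have h1 : π = g := hg π ⟨rfl, fun x => rfl⟩
  have h2 : g₂ = g := by
    refine hg g₂ ⟨?_, fun x => ?_⟩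
    · ext r
      show σ (τ (residue S (algebraMap R S r))) = π (algebraMap R S r)
      have h3 : τ (residue S (algebraMap R S r)) =
          residue (S ⧸ J) (@algebraMap (ResidueField R) (S ⧸ J) _ _ instA (residue R r)) := rfl
      rw [h3, hσc]
      rfl
    · show residue (S ⧸ J) (σ (τ (residue S x))) = τ (residue S x)
      exact hσ _
  intro x hx
  have h3 : π x = g₂ x := by rw [h1, h2]
  have h4 : g₂ x = 0 := by
    show σ (τ (residue S x)) = 0
    rw [(residue_eq_zero_iff x).mpr hx, map_zero, map_zero]
  rw [h4] at h3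
  exact Ideal.Quotient.eq_zero_iff_mem.mp h3

end Groth.Agent.Lib.StrictHenselizationMax
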