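import Groth.Agent.Lib.CompletionBranchesB98
import Groth.Agent.Lib.StrictHenselization
import Groth.Agent.Lib.StrictHenselizationMax
import Groth.Agent.Lib.HznWeaklyEtale96
import Groth.Agent.Lib.DiagFlat
import Mathlib.RingTheory.Ideal.GoingDown

/-!
# Transfer of coheight-one minimal primes along "completion-like" extensions (helper98)

`S → T` flat local, `S` henselian local, `T` Noetherian local, `S → T/m_S T` surjective.

* `comap_mem_minimalPrimes_of_mem_minimalPrimes_map`, `mem_minimalPrimes_map_comap`,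
  `mem_minimalPrimes_map_iff`: going-down bookkeeping for primes minimal over an extended ideal.
* `eq_of_mem_minimalPrimes_map_of_coheight_one`: a coheight `≤ 1` prime minimal over `pT` (`p` a
  prime of `S`) is the only prime minimal over `pT`.
* `coheight_comap_of_coheight`: coheight `≤ 1` descends from `q` (minimal over `IT`) to `q ∩ S`.
* `coheight_of_coheight_comap`: coheight `≤ 1` ascends (no henselian hypothesis).
* `exists_strict_map`: the map between strict henselizations induced by a flat local map with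
  trivial residue extension and `m_A B = m_B`.
-/

namespace Groth.Agent.Lib.CompletionBranches98

open IsLocalRing

set_option maxHeartbeats 400000
set_option autoImplicit false
universe u

section GD

variable {R R' : Type*} [CommRing R] [CommRing R'] [Algebra R R']

/-- A prime minimal over `I R'` is minimal over `p R'`, `p` its contraction. -/
theorem mem_minimalPrimes_map_comap (I : Ideal R) {q : Ideal R'}
    (hq : q ∈ (I.map (algebraMap R R')).minimalPrimes) :
    q ∈ ((q.comap (algebraMap R R')).map (algebraMap R R')).minimalPrimes := by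
  have hqprime : q.IsPrime := hq.1.1
  refine ⟨⟨hqprime, Ideal.map_comap_le⟩, ?_⟩
  rintro Q' ⟨hQ'prime, hQ'⟩ hQ'q
  refine hq.2 ⟨hQ'prime, ?_⟩ hQ'q
  refine le_trans (Ideal.map_mono ?_) hQ'
  exact Ideal.map_le_iff_le_comap.mp hq.1.2

variable [Module.Flat R R']

/-- Going-down: a prime minimal over `I R'` contracts to a prime minimal over `I`. -/
theorem comap_mem_minimalPrimes_of_mem_minimalPrimes_map (I : Ideal R) {q : Ideal R'}
    (hq : q ∈ (I.map (algebraMap R R')).minimalPrimes) :
    q.comap (algebraMap R R') ∈ I.minimalPrimes := by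
  have hqprime : q.IsPrime := hq.1.1
  have hpprime : (q.comap (algebraMap R R')).IsPrime := Ideal.comap_isPrime _ _
  refine ⟨⟨hpprime, Ideal.map_le_iff_le_comap.mp hq.1.2⟩, ?_⟩
  rintro p' ⟨hp'prime, hIp'⟩ hp'le
  have hqover : q.LiesOver (q.comap (algebraMap R R')) := ⟨rfl⟩
  obtain ⟨Q', hQ'q, hQ'prime, hQ'over⟩ := Ideal.exists_ideal_le_liesOver_of_le (R := R) (S := R')
    (p := p') (q := q.comap (algebraMap R R')) q hp'le
  have e : p' = Q'.comap (algebraMap R R') := hQ'over.over
  have hIQ' : I.map (algebraMap R R') ≤ Q' := by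
    rw [Ideal.map_le_iff_le_comap, ← e]; exact hIp'
  have hqQ' : q ≤ Q' := hq.2 ⟨hQ'prime, hIQ'⟩ hQ'q
  rw [e]
  exact Ideal.comap_mono hqQ'

theorem mem_minimalPrimes_map_iff (J : Ideal R) (Q : Ideal R') :
    Q ∈ (J.map (algebraMap R R')).minimalPrimes ↔
      ∃ q ∈ J.minimalPrimes, Q ∈ (q.map (algebraMap R R')).minimalPrimes := by
  constructor
  · intro hQ
    exact ⟨_, comap_mem_minimalPrimes_of_mem_minimalPrimes_map J hQ,
      mem_minimalPrimes_map_comap J hQ⟩
  · rintro ⟨q, hq, hQ⟩
    have hqprime : q.IsPrime := hq.1.1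
    have hQprime : Q.IsPrime := hQ.1.1
    have hcomap : Q.comap (algebraMap R R') = q := by
      have h1 := comap_mem_minimalPrimes_of_mem_minimalPrimes_map q hQ
      rw [Ideal.minimalPrimes_eq_subsingleton_self] at h1
      exact h1
    refine ⟨⟨hQprime, (Ideal.map_mono hq.1.2).trans hQ.1.2⟩, ?_⟩
    rintro Q' ⟨hQ'prime, hJQ'⟩ hQ'Q
    have h1 : J ≤ Q'.comap (algebraMap R R') := Ideal.map_le_iff_le_comap.mp hJQ'
    have h2 : Q'.comap (algebraMap R R') ≤ q := hcomap ▸ Ideal.comap_mono hQ'Q
    have h3 : q ≤ Q'.comap (algebraMap R R') := hq.2 ⟨Ideal.comap_isPrime _ _, h1⟩ h2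
    exact hQ.2 ⟨hQ'prime, Ideal.map_le_iff_le_comap.mpr h3⟩ hQ'Q

end GD

section InjOn3

variable {S T : Type*} [CommRing S] [HenselianLocalRing S] [CommRing T] [IsLocalRing T]
  [IsNoetherianRing T] [Algebra S T] [Module.Flat S T] [IsLocalHom (algebraMap S T)]

/-- If `P₁` is minimal over `qT` (`q` a prime of `S`) and of coheight at most one, then it is the
only prime minimal over `qT`. -/
theorem eq_of_mem_minimalPrimes_map_of_coheight_one (q : Ideal S) [hqp : q.IsPrime]
    (hs : ∀ t : T, ∃ d : S, t - algebraMap S T d ∈ (maximalIdeal S).map (algebraMap S T))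
    {P₁ P₂ : Ideal T} (h₁ : P₁ ∈ (q.map (algebraMap S T)).minimalPrimes)
    (h₂ : P₂ ∈ (q.map (algebraMap S T)).minimalPrimes)
    (hdim : ∀ Q : Ideal T, Q.IsPrime → P₁ < Q → Q = maximalIdeal T) : P₁ = P₂ := by
  have hJP₁ : q.map (algebraMap S T) ≤ P₁ := h₁.1.2
  have hJne : q.map (algebraMap S T) ≠ ⊤ := fun h => h₁.1.1.ne_top (top_le_iff.mp (h ▸ hJP₁))
  have hnt : Nontrivial (T ⧸ q.map (algebraMap S T)) := Ideal.Quotient.nontrivial_iff.mpr hJne
  have hHD : HenselianLocalRing (S ⧸ q) :=
    Groth.Agent.Lib.HenselizationUP.henselianLocalRing_of_surjective (Ideal.Quotient.mk q)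
      Ideal.Quotient.mk_surjective
  have hlocT : IsLocalRing (T ⧸ q.map (algebraMap S T)) :=
    IsLocalRing.of_surjective' (Ideal.Quotient.mk (q.map (algebraMap S T)))
      Ideal.Quotient.mk_surjective
  have hlocmkT : IsLocalHom (Ideal.Quotient.mk (q.map (algebraMap S T))) :=
    IsLocalHom.of_surjective _ Ideal.Quotient.mk_surjective
  have hlocmkS : IsLocalHom (Ideal.Quotient.mk q) :=
    IsLocalHom.of_surjective _ Ideal.Quotient.mk_surjective
  have hflat : Module.Flat (S ⧸ q) (T ⧸ q.map (algebraMap S T)) :=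
    Module.Flat.of_linearEquiv
      (Algebra.TensorProduct.quotIdealMapEquivQuotTensor T q).toLinearEquiv
  have halg : ∀ s : S, algebraMap (S ⧸ q) (T ⧸ q.map (algebraMap S T)) (Ideal.Quotient.mk q s)
      = Ideal.Quotient.mk (q.map (algebraMap S T)) (algebraMap S T s) := fun s => rfl
  have hlocalg : IsLocalHom (algebraMap (S ⧸ q) (T ⧸ q.map (algebraMap S T))) := by
    constructor
    intro x hx
    obtain ⟨s, rfl⟩ := Ideal.Quotient.mk_surjective x
    rw [halg] at hx
    have h2 := isUnit_of_map_unit (Ideal.Quotient.mk (q.map (algebraMap S T))) _ hx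
    have h3 := isUnit_of_map_unit (algebraMap S T) _ h2
    exact h3.map (Ideal.Quotient.mk q)
  have hcomp : (Ideal.Quotient.mk (q.map (algebraMap S T))).comp (algebraMap S T)
      = (algebraMap (S ⧸ q) (T ⧸ q.map (algebraMap S T))).comp (Ideal.Quotient.mk q) :=
    RingHom.ext fun s => (halg s).symm
  have hmaxD : maximalIdeal (S ⧸ q) = (maximalIdeal S).map (Ideal.Quotient.mk q) := by
    rw [← IsLocalRing.maximalIdeal_comap (Ideal.Quotient.mk q),
      Ideal.map_comap_of_surjective _ Ideal.Quotient.mk_surjective]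
  have hsD : ∀ t : T ⧸ q.map (algebraMap S T), ∃ d : S ⧸ q,
      t - algebraMap (S ⧸ q) (T ⧸ q.map (algebraMap S T)) d ∈
        (maximalIdeal (S ⧸ q)).map (algebraMap (S ⧸ q) (T ⧸ q.map (algebraMap S T))) := by
    intro t
    obtain ⟨t, rfl⟩ := Ideal.Quotient.mk_surjective t
    obtain ⟨d, hd⟩ := hs t
    refine ⟨Ideal.Quotient.mk q d, ?_⟩
    rw [halg, ← map_sub, hmaxD, Ideal.map_map, ← hcomp, ← Ideal.map_map]
    exact Ideal.mem_map_of_mem _ hd
  have hJker : (⊥ : Ideal (T ⧸ q.map (algebraMap S T))).comap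
      (Ideal.Quotient.mk (q.map (algebraMap S T))) = q.map (algebraMap S T) := by
    rw [← RingHom.ker_eq_comap_bot, Ideal.mk_ker]
  have himg : (q.map (algebraMap S T)).minimalPrimes =
      Ideal.comap (Ideal.Quotient.mk (q.map (algebraMap S T))) ''
        minimalPrimes (T ⧸ q.map (algebraMap S T)) := by
    have := Ideal.comap_minimalPrimes_eq_of_surjective
      (f := Ideal.Quotient.mk (q.map (algebraMap S T))) Ideal.Quotient.mk_surjective ⊥
    rw [hJker] at this
    exact this
  obtain ⟨Q₁, hQ₁, hQP₁⟩ := (himg ▸ h₁ : P₁ ∈ _ '' _)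
  obtain ⟨Q₂, hQ₂, hQP₂⟩ := (himg ▸ h₂ : P₂ ∈ _ '' _)
  have hcomapinj := Ideal.comap_injective_of_surjective
    (Ideal.Quotient.mk (q.map (algebraMap S T))) Ideal.Quotient.mk_surjective
  have hdimQ : ∀ Q : Ideal (T ⧸ q.map (algebraMap S T)), Q.IsPrime → Q₁ < Q →
      Q = maximalIdeal (T ⧸ q.map (algebraMap S T)) := by
    intro Q hQ hlt
    have hQc : (Q.comap (Ideal.Quotient.mk (q.map (algebraMap S T)))).IsPrime :=
      Ideal.comap_isPrime _ _
    have hlt' : P₁ < Q.comap (Ideal.Quotient.mk (q.map (algebraMap S T))) := by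
      rw [← hQP₁]
      refine lt_of_le_of_ne (Ideal.comap_mono hlt.le) ?_
      intro h
      exact hlt.ne (hcomapinj h)
    have h1 := hdim _ hQc hlt'
    apply hcomapinj
    rw [h1, IsLocalRing.maximalIdeal_comap]
  have hQQ : Q₁ = Q₂ := eq_of_coheight_one hsD hQ₁ hQ₂ hdimQ
  rw [← hQP₁, ← hQP₂, hQQ]

/-- Descent of coheight `≤ 1` along `S → T`. -/
theorem coheight_comap_of_coheight
    (hs : ∀ t : T, ∃ d : S, t - algebraMap S T d ∈ (maximalIdeal S).map (algebraMap S T))
    (I : Ideal S) {q : Ideal T} (hq : q ∈ (I.map (algebraMap S T)).minimalPrimes)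
    (hdim : ∀ Q : Ideal T, Q.IsPrime → q < Q → Q = maximalIdeal T) :
    ∀ P : Ideal S, P.IsPrime → q.comap (algebraMap S T) < P → P = maximalIdeal S := by
  intro P hP hlt
  have hqprime : q.IsPrime := hq.1.1
  have hpprime : (q.comap (algebraMap S T)).IsPrime := Ideal.comap_isPrime _ _
  have hq' := mem_minimalPrimes_map_comap I hq
  have hmcomap : (maximalIdeal T).comap (algebraMap S T) = maximalIdeal S :=
    ((local_hom_TFAE (algebraMap S T)).out 0 4).mp ‹_›
  have hmover : (maximalIdeal T).LiesOver (maximalIdeal S) := ⟨hmcomap.symm⟩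
  obtain ⟨Q₁, hQ₁m, hQ₁prime, hQ₁over⟩ := Ideal.exists_ideal_le_liesOver_of_le (R := S) (S := T)
    (p := P) (q := maximalIdeal S) (maximalIdeal T) (le_maximalIdeal hP.ne_top)
  obtain ⟨Q₀, hQ₀Q₁, hQ₀prime, hQ₀over⟩ := Ideal.exists_ideal_le_liesOver_of_le (R := S) (S := T)
    (p := q.comap (algebraMap S T)) (q := P) Q₁ hlt.le
  have e1 : P = Q₁.comap (algebraMap S T) := hQ₁over.over
  have e0 : q.comap (algebraMap S T) = Q₀.comap (algebraMap S T) := hQ₀over.over
  have hle0 : (q.comap (algebraMap S T)).map (algebraMap S T) ≤ Q₀ := by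
    rw [Ideal.map_le_iff_le_comap, ← e0]
  obtain ⟨q', hq'min, hq'Q₀⟩ := Ideal.exists_minimalPrimes_le hle0
  have heq : q = q' :=
    eq_of_mem_minimalPrimes_map_of_coheight_one (q.comap (algebraMap S T)) hs hq' hq'min hdim
  have hne : Q₀ ≠ Q₁ := by
    intro h
    rw [h] at e0
    exact hlt.ne (e0.trans e1.symm)
  have hqQ₀ : q ≤ Q₀ := by rw [heq]; exact hq'Q₀
  have hlt' : q < Q₁ := lt_of_le_of_lt hqQ₀ (lt_of_le_of_ne hQ₀Q₁ hne)
  have h1 := hdim Q₁ hQ₁prime hlt'
  rw [e1, h1]
  exact hmcomap

end InjOn3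

section Ascent

variable {S T : Type*} [CommRing S] [IsLocalRing S] [IsNoetherianRing S] [CommRing T]
  [IsLocalRing T] [IsNoetherianRing T] [Algebra S T]

/-- Ascent of coheight `≤ 1` along a local map with `m_S T = m_T`. -/
theorem coheight_of_coheight_comap
    (hm : (maximalIdeal S).map (algebraMap S T) = maximalIdeal T)
    (q : Ideal T) [hq : q.IsPrime]
    (hdim : ∀ P : Ideal S, P.IsPrime → q.comap (algebraMap S T) < P → P = maximalIdeal S) :
    ∀ Q : Ideal T, Q.IsPrime → q < Q → Q = maximalIdeal T := by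
  intro Q hQ hqQ
  have hpprime : (q.comap (algebraMap S T)).IsPrime := Ideal.comap_isPrime _ _
  by_cases hpm : q.comap (algebraMap S T) = maximalIdeal S
  · exfalso
    have h1 : maximalIdeal T ≤ q := by
      rw [← hm, Ideal.map_le_iff_le_comap, hpm]
    exact absurd (le_trans (le_maximalIdeal hQ.ne_top) h1) (not_le_of_gt hqQ)
  · have hplt : q.comap (algebraMap S T) < maximalIdeal S :=
      lt_of_le_of_ne (le_maximalIdeal hpprime.ne_top) hpm
    obtain ⟨hple, x, hxm, hxp⟩ := SetLike.lt_iff_le_and_exists.mp hplt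
    have hrad : maximalIdeal S ≤ (q.comap (algebraMap S T) ⊔ Ideal.span {x}).radical := by
      rw [Ideal.radical_eq_sInf]
      refine le_sInf ?_
      rintro P ⟨hIP, hP⟩
      have hpP : q.comap (algebraMap S T) < P := by
        refine SetLike.lt_iff_le_and_exists.mpr ⟨le_sup_left.trans hIP, x, ?_, hxp⟩
        exact hIP (Ideal.mem_sup_right (Ideal.mem_span_singleton_self x))
      rw [hdim P hP hpP]
    obtain ⟨k, hk⟩ := Ideal.exists_pow_le_of_le_radical_of_fg hrad (IsNoetherian.noetherian _)
    obtain ⟨g, hg⟩ : ∃ g : T, g = algebraMap S T x := ⟨_, rfl⟩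
    have hgm : g ∈ maximalIdeal T := by rw [hg, ← hm]; exact Ideal.mem_map_of_mem _ hxm
    have hpow : maximalIdeal T ^ k ≤ q ⊔ Ideal.span {g} := by
      rw [← hm, ← Ideal.map_pow]
      refine (Ideal.map_mono hk).trans ?_
      rw [Ideal.map_sup, Ideal.map_span, Set.image_singleton, hg]
      exact sup_le_sup_right Ideal.map_comap_le _
    by_contra hne
    have hQm : Q < maximalIdeal T := lt_of_le_of_ne (le_maximalIdeal hQ.ne_top) hne
    have hπ : Function.Surjective (Ideal.Quotient.mk q) := Ideal.Quotient.mk_surjective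
    have hdom : IsDomain (T ⧸ q) := Ideal.Quotient.isDomain q
    have hker : RingHom.ker (Ideal.Quotient.mk q) = q := Ideal.mk_ker
    have hqm : q ≤ maximalIdeal T := le_maximalIdeal hq.ne_top
    have hmprime : ((maximalIdeal T).map (Ideal.Quotient.mk q)).IsPrime :=
      Ideal.map_isPrime_of_surjective hπ (by rw [hker]; exact hqm)
    have hQprime : (Q.map (Ideal.Quotient.mk q)).IsPrime :=
      Ideal.map_isPrime_of_surjective hπ (by rw [hker]; exact hqQ.le)
    have hcm : ∀ J : Ideal T, q ≤ J →
        (J.map (Ideal.Quotient.mk q)).comap (Ideal.Quotient.mk q) = J := by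
      intro J hJ
      rw [Ideal.comap_map_of_surjective _ hπ, ← RingHom.ker_eq_comap_bot, hker,
        sup_eq_left.mpr hJ]
    have hmin : (maximalIdeal T).map (Ideal.Quotient.mk q) ∈
        (Ideal.span {Ideal.Quotient.mk q g}).minimalPrimes := by
      refine ⟨⟨hmprime, (Ideal.span_singleton_le_iff_mem _).mpr (Ideal.mem_map_of_mem _ hgm)⟩,
        ?_⟩
      rintro Pb ⟨hPbprime, hPb⟩ -
      have h1 : maximalIdeal T ^ k ≤ Pb.comap (Ideal.Quotient.mk q) := by
        refine hpow.trans (sup_le ?_ ?_)
        · intro t ht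
          rw [Ideal.mem_comap, Ideal.Quotient.eq_zero_iff_mem.mpr ht]
          exact Ideal.zero_mem _
        · rw [Ideal.span_singleton_le_iff_mem, Ideal.mem_comap]
          exact (Ideal.span_singleton_le_iff_mem _).mp hPb
      have h2 : maximalIdeal T ≤ Pb.comap (Ideal.Quotient.mk q) :=
        (Ideal.comap_isPrime _ Pb).le_of_pow_le h1
      exact Ideal.map_le_iff_le_comap.mpr h2
    have hht : ((maximalIdeal T).map (Ideal.Quotient.mk q)).height ≤ 1 :=
      Ideal.height_le_one_of_isPrincipal_of_mem_minimalPrimes _ _ hmin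
    have hbot : (⊥ : Ideal (T ⧸ q)) < Q.map (Ideal.Quotient.mk q) := by
      refine bot_lt_iff_ne_bot.mpr ?_
      intro h
      have h1 := hcm Q hqQ.le
      rw [h, ← RingHom.ker_eq_comap_bot, hker] at h1
      exact hqQ.ne h1
    have hQm' : Q.map (Ideal.Quotient.mk q) < (maximalIdeal T).map (Ideal.Quotient.mk q) := by
      refine lt_of_le_of_ne (Ideal.map_mono hQm.le) ?_
      intro h
      have h1 := hcm Q hqQ.le
      rw [h, hcm _ hqm] at h1
      exact hQm.ne h1.symm
    have hbp : (⊥ : Ideal (T ⧸ q)).IsPrime := Ideal.bot_prime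
    have h1 : (⊥ : Ideal (T ⧸ q)).height < (Q.map (Ideal.Quotient.mk q)).height :=
      Ideal.height_strict_mono_of_isPrime hbot
    have h2 : (Q.map (Ideal.Quotient.mk q)).height <
        ((maximalIdeal T).map (Ideal.Quotient.mk q)).height :=
      Ideal.height_strict_mono_of_isPrime hQm'
    have h3 : (1 : ℕ∞) ≤ (Q.map (Ideal.Quotient.mk q)).height :=
      Order.one_le_iff_pos.2 (lt_of_le_of_lt zero_le h1)
    exact absurd (lt_of_le_of_lt h3 h2) (not_lt.2 hht)

end Ascent

section Strict

/-- The map between strict henselizations induced by a flat local map `A → B` with `m_A B = m_B`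
and trivial residue field extension. -/
theorem exists_strict_map (A B S T : Type u) [CommRing A] [IsLocalRing A] [CommRing B]
    [IsLocalRing B] [Algebra A B] [IsLocalHom (algebraMap A B)] [Module.Flat A B]
    (hmB : (maximalIdeal A).map (algebraMap A B) = maximalIdeal B)
    (hres : ∀ b : B, ∃ a : A, b - algebraMap A B a ∈ maximalIdeal B)
    [CommRing S] [IsLocalRing S] [Algebra A S] [IsLocalHom (algebraMap A S)]
    [Hensel.IsStrictHenselization A S]
    [CommRing T] [IsLocalRing T] [Algebra B T]
    [IsLocalHom (algebraMap B T)] [Hensel.IsStrictHenselization B T] :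
    ∃ g : S →+* T, g.comp (algebraMap A S) = (algebraMap B T).comp (algebraMap A B) ∧
      IsLocalHom g ∧ g.Flat ∧ (maximalIdeal S).map g = maximalIdeal T ∧
      ∀ t : T, ∃ d : S, t - g d ∈ (maximalIdeal S).map g := by
  have hT : HenselianLocalRing T := Hensel.IsStrictHenselization.henselian (R := B)
  have hSh : HenselianLocalRing S := Hensel.IsStrictHenselization.henselian (R := A)
  have hscT : IsSepClosure (ResidueField B) (ResidueField T) :=
    Hensel.IsStrictHenselization.isSepClosure
  have hscS : IsSepClosure (ResidueField A) (ResidueField S) :=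
    Hensel.IsStrictHenselization.isSepClosure
  let f : A →+* T := (algebraMap B T).comp (algebraMap A B)
  letI algAT : Algebra A T := f.toAlgebra
  have htowerABT : IsScalarTower A B T := IsScalarTower.of_algebraMap_eq (fun _ => rfl)
  have hlocf : IsLocalHom (algebraMap A T) :=
    RingHom.isLocalHom_comp (algebraMap B T) (algebraMap A B)
  have hsepclosedT : IsSepClosed (ResidueField T) := IsSepClosure.sep_closed (ResidueField B)
  have hsepclosedS : IsSepClosed (ResidueField S) := IsSepClosure.sep_closed (ResidueField A)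
  have hsepS : Algebra.IsSeparable (ResidueField A) (ResidueField S) := IsSepClosure.separable
  let τ₀ : ResidueField S →ₐ[ResidueField A] ResidueField T := IsSepClosed.lift
  have hτ : (τ₀ : ResidueField S →+* ResidueField T).comp
      (ResidueField.map (algebraMap A S)) = ResidueField.map (algebraMap A T) := by
    refine RingHom.ext fun x => ?_
    obtain ⟨a, rfl⟩ := residue_surjective x
    rw [RingHom.comp_apply, ResidueField.map_residue, ResidueField.map_residue,
      ← ResidueField.algebraMap_residue]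
    exact τ₀.commutes (residue A a)
  obtain ⟨g, ⟨hg1, hg2⟩, -⟩ := Hensel.IsStrictHenselization.universal (R := A) (S := S) T
    (algebraMap A T) (τ₀ : ResidueField S →+* ResidueField T) hτ
  have hlocg : IsLocalHom g := by
    constructor
    intro x hx
    by_contra hnx
    have h1 : residue S x = 0 := (residue_eq_zero_iff x).mpr hnx
    have h2 : residue T (g x) = 0 := by rw [hg2, h1, map_zero]
    have h3 : g x ∈ maximalIdeal T := (residue_eq_zero_iff (g x)).mp h2
    exact h3 hx
  letI algST : Algebra S T := g.toAlgebra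
  have htowerAST : IsScalarTower A S T :=
    IsScalarTower.of_algebraMap_eq (fun a => (RingHom.congr_fun hg1 a).symm)
  have hffBT : Module.FaithfullyFlat B T :=
    Groth.Agent.Lib.StrictHenselization.faithfullyFlat_of_isStrictHenselization B T
  have hflatBT : Module.Flat B T := inferInstance
  have hflatAT : Module.Flat A T := Module.Flat.trans A B T
  have hwe : Algebra.WeaklyEtale A S :=
    Groth.Agent.Lib.HznWeaklyEtale96.weaklyEtale_of_isStrictHenselization A S
  have hflatST : Module.Flat S T :=
    Groth.Agent.Lib.DiagFlat.flat_of_flat_lmul' (Algebra.WeaklyEtale.flat_lmul' A S) T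
  have hlocg' : IsLocalHom (algebraMap S T) := hlocg
  have hmS : (maximalIdeal A).map (algebraMap A S) = maximalIdeal S :=
    Groth.Agent.Lib.StrictHenselizationMax.map_maximalIdeal_eq A S
  have hmT : (maximalIdeal B).map (algebraMap B T) = maximalIdeal T :=
    Groth.Agent.Lib.StrictHenselizationMax.map_maximalIdeal_eq B T
  have hcomp : (algebraMap S T).comp (algebraMap A S) = (algebraMap B T).comp (algebraMap A B) :=
    hg1
  have hmST : (maximalIdeal S).map (algebraMap S T) = maximalIdeal T := by
    rw [← hmS, Ideal.map_map, hcomp, ← Ideal.map_map, hmB, hmT]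
  have hsurjAB : Function.Surjective (algebraMap (ResidueField A) (ResidueField B)) := by
    intro x
    obtain ⟨b, rfl⟩ := residue_surjective x
    obtain ⟨a, ha⟩ := hres b
    refine ⟨residue A a, ?_⟩
    rw [ResidueField.algebraMap_residue]
    symm
    rw [← sub_eq_zero, ← map_sub, residue_eq_zero_iff]
    exact ha
  let E : ResidueField A ≃+* ResidueField B :=
    RingEquiv.ofBijective (algebraMap (ResidueField A) (ResidueField B))
      ⟨(algebraMap (ResidueField A) (ResidueField B)).injective, hsurjAB⟩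
  have hsepBT : Algebra.IsSeparable (ResidueField B) (ResidueField T) := IsSepClosure.separable
  have hsepAT : Algebra.IsSeparable (ResidueField A) (ResidueField T) :=
    Algebra.IsSeparable.of_equiv_equiv E.symm (RingEquiv.refl (ResidueField T)) (by
      refine RingHom.ext fun x => ?_
      have hx : algebraMap (ResidueField A) (ResidueField B) (E.symm x) = x :=
        E.apply_symm_apply x
      show algebraMap (ResidueField A) (ResidueField T) (E.symm x)
        = algebraMap (ResidueField B) (ResidueField T) x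
      rw [IsScalarTower.algebraMap_apply (ResidueField A) (ResidueField B) (ResidueField T), hx])
  have hsepST : Algebra.IsSeparable (ResidueField S) (ResidueField T) :=
    Algebra.isSeparable_tower_top_of_isSeparable (ResidueField A) (ResidueField S)
      (ResidueField T)
  have hsurjST : Function.Surjective (algebraMap (ResidueField S) (ResidueField T)) :=
    IsSepClosed.algebraMap_surjective (ResidueField S) (ResidueField T)
  have hs : ∀ t : T, ∃ d : S,
      t - algebraMap S T d ∈ (maximalIdeal S).map (algebraMap S T) := by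
    intro t
    obtain ⟨y, hy⟩ := hsurjST (residue T t)
    obtain ⟨d, rfl⟩ := residue_surjective y
    refine ⟨d, ?_⟩
    rw [hmST, ← residue_eq_zero_iff, map_sub, ← hy, ResidueField.algebraMap_residue, sub_self]
  exact ⟨g, hg1, hlocg, hflatST, hmST, hs⟩

end Strict

end Groth.Agent.Lib.CompletionBranches98
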