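import Groth.Agent.Lib.ConeQuasiIso

set_option autoImplicit false
universe u v

open CategoryTheory Category Limits

namespace Groth.Agent.Lib.ConeAcyclic66

variable {C : Type u} [Category.{v} C] [Abelian C]

lemma quasiIso_of_acyclic {A B : CochainComplex C ℤ} (ψ : A ⟶ B)
    (hA : ∀ i, IsZero (A.homology i)) (hB : ∀ i, IsZero (B.homology i)) : QuasiIso ψ := by
  rw [quasiIso_iff]
  intro i
  rw [quasiIsoAt_iff_isIso_homologyMap]
  exact ⟨0, (hA i).eq_of_src _ _, (hB i).eq_of_src _ _⟩

lemma isZero_homology_cone {A B : CochainComplex C ℤ} (ψ : A ⟶ B)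
    (hA : ∀ i, IsZero (A.homology i)) (hB : ∀ i, IsZero (B.homology i)) (i : ℤ) :
    IsZero ((CochainComplex.mappingCone ψ).homology i) := by
  have := quasiIso_of_acyclic ψ hA hB
  rw [Groth.Agent.Lib.ConeQuasiIso.quasiIso_iff_acyclic_mappingCone] at this
  exact (HomologicalComplex.exactAt_iff_isZero_homology _ _).1 (this i)

lemma quasiIso_of_isZero_homology_cone {A B : CochainComplex C ℤ} (ψ : A ⟶ B)
    (hC : ∀ i, IsZero ((CochainComplex.mappingCone ψ).homology i)) : QuasiIso ψ := by
  rw [Groth.Agent.Lib.ConeQuasiIso.quasiIso_iff_acyclic_mappingCone]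
  intro i
  exact (HomologicalComplex.exactAt_iff_isZero_homology _ _).2 (hC i)

lemma isZero_homology_tgt {A B : CochainComplex C ℤ} (ψ : A ⟶ B)
    (hA : ∀ i, IsZero (A.homology i))
    (hC : ∀ i, IsZero ((CochainComplex.mappingCone ψ).homology i)) (i : ℤ) :
    IsZero (B.homology i) := by
  have := quasiIso_of_isZero_homology_cone ψ hC
  exact IsZero.of_iso (hA i) (asIso (HomologicalComplex.homologyMap ψ i)).symm

lemma isZero_homology_src {A B : CochainComplex C ℤ} (ψ : A ⟶ B)
    (hB : ∀ i, IsZero (B.homology i))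
    (hC : ∀ i, IsZero ((CochainComplex.mappingCone ψ).homology i)) (i : ℤ) :
    IsZero (A.homology i) := by
  have := quasiIso_of_isZero_homology_cone ψ hC
  exact IsZero.of_iso (hB i) (asIso (HomologicalComplex.homologyMap ψ i))

end Groth.Agent.Lib.ConeAcyclic66
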