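import Mathlib

/-!
# Carathéodory's theorem for finitely generated cones, and their closedness
-/

namespace Groth.Agent.Lib.ConeCara

open Finset

variable {κ E : Type*} [DecidableEq κ] [AddCommGroup E] [Module ℝ E]

/-- Carathéodory for cones: a nonnegative combination can be rewritten as a positive combination
of a linearly independent subfamily. -/
theorem caratheodory_cone (vec : κ → E) :
    ∀ (n : ℕ) (G : Finset κ), G.card = n → ∀ (c : κ → ℝ), (∀ g ∈ G, 0 ≤ c g) →
    ∃ G' ⊆ G, LinearIndependent ℝ (fun g : G' => vec g.1) ∧ ∃ c' : κ → ℝ,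
      (∀ g ∈ G', 0 < c' g) ∧ ∑ g ∈ G, c g • vec g = ∑ g ∈ G', c' g • vec g := by
  intro n
  induction n using Nat.strong_induction_on with
  | _ n ih =>
    intro G hG c hc
    by_cases hzero : ∃ g₀ ∈ G, c g₀ = 0
    · obtain ⟨g₀, hg₀, hcg₀⟩ := hzero
      have hcard : (G.erase g₀).card < n := by
        rw [← hG]; exact Finset.card_erase_lt_of_mem hg₀
      obtain ⟨G', hG', hli, c', hc', hsum⟩ := ih _ hcard (G.erase g₀) rfl c
        (fun g hg => hc g (Finset.mem_of_mem_erase hg))
      refine ⟨G', hG'.trans (Finset.erase_subset _ _), hli, c', hc', ?_⟩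
      rw [← hsum, ← Finset.add_sum_erase G _ hg₀, hcg₀, zero_smul, zero_add]
    · push Not at hzero
      have hcpos : ∀ g ∈ G, 0 < c g := fun g hg => lt_of_le_of_ne (hc g hg) (Ne.symm (hzero g hg))
      by_cases hli : LinearIndependent ℝ (fun g : G => vec g.1)
      · exact ⟨G, Finset.Subset.refl _, hli, c, hcpos, rfl⟩
      · rw [Fintype.linearIndependent_iff] at hli
        push Not at hli
        obtain ⟨d, hd, i₀, hi₀⟩ := hli
        -- extend d to κ
        set d' : κ → ℝ := fun g => if h : g ∈ G then d ⟨g, h⟩ else 0 with hd'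
        have hd'sum : ∑ g ∈ G, d' g • vec g = 0 := by
          rw [← hd, ← Finset.sum_coe_sort G (fun g => d' g • vec g)]
          refine Finset.sum_congr rfl fun g _ => ?_
          simp [hd', g.2]
        -- WLOG some d' g > 0
        obtain ⟨e, hesum, g₁, hg₁, hg₁pos⟩ : ∃ e : κ → ℝ, ∑ g ∈ G, e g • vec g = 0 ∧
            ∃ g₁ ∈ G, 0 < e g₁ := by
          have hi₀' : d' i₀.1 ≠ 0 := by simp [hd', i₀.2, hi₀]
          rcases lt_or_gt_of_ne hi₀' with h | h
          · refine ⟨fun g => - d' g, ?_, i₀.1, i₀.2, by simpa using h⟩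
            simp only [neg_smul, Finset.sum_neg_distrib, hd'sum, neg_zero]
          · exact ⟨d', hd'sum, i₀.1, i₀.2, h⟩
        -- minimal ratio
        have hPne : (G.filter fun g => 0 < e g).Nonempty :=
          ⟨g₁, Finset.mem_filter.2 ⟨hg₁, hg₁pos⟩⟩
        obtain ⟨g₂, hg₂, hmin⟩ := Finset.exists_min_image _ (fun g => c g / e g) hPne
        obtain ⟨hg₂G, hg₂pos⟩ := Finset.mem_filter.1 hg₂
        set t : ℝ := c g₂ / e g₂ with ht
        have htnn : 0 ≤ t := div_nonneg (hc g₂ hg₂G) hg₂pos.le
        set c₂ : κ → ℝ := fun g => c g - t * e g with hc₂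
        have hc₂nn : ∀ g ∈ G, 0 ≤ c₂ g := by
          intro g hg
          simp only [hc₂]
          by_cases hge : 0 < e g
          · have := hmin g (Finset.mem_filter.2 ⟨hg, hge⟩)
            have h1 : t * e g ≤ c g := by
              rw [← le_div_iff₀ hge]; exact this
            linarith
          · push Not at hge
            have : t * e g ≤ 0 := mul_nonpos_of_nonneg_of_nonpos htnn hge
            linarith [hc g hg]
        have hc₂zero : c₂ g₂ = 0 := by
          simp only [hc₂, ht]
          field_simp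
          ring
        have hsum₂ : ∑ g ∈ G, c g • vec g = ∑ g ∈ G, c₂ g • vec g := by
          have : ∑ g ∈ G, c₂ g • vec g = ∑ g ∈ G, c g • vec g - t • ∑ g ∈ G, e g • vec g := by
            rw [Finset.smul_sum, ← Finset.sum_sub_distrib]
            refine Finset.sum_congr rfl fun g _ => ?_
            simp only [hc₂, sub_smul, mul_smul]
          rw [this, hesum, smul_zero, sub_zero]
        have hcard : (G.erase g₂).card < n := by
          rw [← hG]; exact Finset.card_erase_lt_of_mem hg₂G
        obtain ⟨G', hG', hli', c', hc', hsum⟩ := ih _ hcard (G.erase g₂) rfl c₂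
          (fun g hg => hc₂nn g (Finset.mem_of_mem_erase hg))
        refine ⟨G', hG'.trans (Finset.erase_subset _ _), hli', c', hc', ?_⟩
        rw [hsum₂, ← hsum, ← Finset.add_sum_erase G _ hg₂G, hc₂zero, zero_smul, zero_add]


section Closed

variable {N : ℕ}

/-- the cone generated by a finite family -/
def fgCone (vec : κ → (Fin N → ℝ)) (G : Finset κ) : Set (Fin N → ℝ) :=
  {x | ∃ c : κ → ℝ, (∀ g, 0 ≤ c g) ∧ x = ∑ g ∈ G, c g • vec g}

lemma fgCone_smul_mem (vec : κ → (Fin N → ℝ)) (G : Finset κ) {x : Fin N → ℝ}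
    (hx : x ∈ fgCone vec G) (t : ℝ) (ht : 0 ≤ t) : t • x ∈ fgCone vec G := by
  obtain ⟨c, hc, rfl⟩ := hx
  refine ⟨fun g => t * c g, fun g => mul_nonneg ht (hc g), ?_⟩
  rw [Finset.smul_sum]
  refine Finset.sum_congr rfl fun g _ => ?_
  rw [mul_smul]

/-- the simplicial cone on a linearly independent subfamily is closed -/
lemma isClosed_simplicial (vec : κ → (Fin N → ℝ)) (G' : Finset κ)
    (hli : LinearIndependent ℝ (fun g : G' => vec g.1)) :
    IsClosed {x : Fin N → ℝ | ∃ c : G' → ℝ, (∀ g, 0 ≤ c g) ∧ x = ∑ g, c g • vec g.1} := by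
  set Lm : (G' → ℝ) →ₗ[ℝ] (Fin N → ℝ) := Fintype.linearCombination ℝ (fun g : G' => vec g.1)
    with hLm
  have hker : LinearMap.ker Lm = ⊥ := by
    rw [LinearMap.ker_eq_bot']
    intro c hc0
    rw [Fintype.linearIndependent_iff] at hli
    funext g
    exact hli c (by simpa [hLm, Fintype.linearCombination_apply] using hc0) g
  have hemb := LinearMap.isClosedEmbedding_of_injective hker
  have horth : IsClosed {c : G' → ℝ | ∀ g, 0 ≤ c g} := by
    have : {c : G' → ℝ | ∀ g, 0 ≤ c g} = ⋂ g, {c : G' → ℝ | 0 ≤ c g} := by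
      ext c; simp
    rw [this]
    exact isClosed_iInter fun g => isClosed_le continuous_const (continuous_apply g)
  have := hemb.isClosedMap _ horth
  convert this using 1
  ext x
  simp only [Set.mem_ofPred_eq, Set.mem_image]
  constructor
  · rintro ⟨c, hc, rfl⟩
    exact ⟨c, hc, by simp [hLm, Fintype.linearCombination_apply]⟩
  · rintro ⟨c, hc, rfl⟩
    exact ⟨c, hc, by simp [hLm, Fintype.linearCombination_apply]⟩

open Classical in
/-- a finitely generated cone is a finite union of simplicial cones -/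
lemma fgCone_eq_iUnion (vec : κ → (Fin N → ℝ)) (G : Finset κ) :
    fgCone vec G = ⋃ (G' : Finset κ) (_ : G' ∈ G.powerset.filter
      (fun G' : Finset κ => LinearIndependent ℝ (fun g : G' => vec g.1))),
      {x : Fin N → ℝ | ∃ c : G' → ℝ, (∀ g, 0 ≤ c g) ∧ x = ∑ g, c g • vec g.1} := by
  ext x
  simp only [Set.mem_iUnion, Finset.mem_filter, Finset.mem_powerset, Set.mem_ofPred_eq,
    exists_prop]
  constructor
  · rintro ⟨c, hc, rfl⟩
    obtain ⟨G', hG', hli, c', hc', hsum⟩ := caratheodory_cone vec G.card G rfl c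
      (fun g _ => hc g)
    refine ⟨G', ⟨hG', hli⟩, fun g => c' g.1, fun g => (hc' g.1 g.2).le, ?_⟩
    rw [hsum, ← Finset.sum_coe_sort G' (fun g => c' g • vec g)]
  · rintro ⟨G', ⟨hG', _⟩, c, hc, rfl⟩
    refine ⟨fun g => if h : g ∈ G' then c ⟨g, h⟩ else 0, fun g => ?_, ?_⟩
    · show 0 ≤ (if h : g ∈ G' then c ⟨g, h⟩ else 0)
      split_ifs
      · exact hc _
      · exact le_refl _
    · rw [← Finset.sum_subset hG' (f := fun g => (if h : g ∈ G' then c ⟨g, h⟩ else 0) • vec g)]
      · rw [← Finset.sum_coe_sort G']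
        refine Finset.sum_congr rfl fun g _ => ?_
        simp [g.2]
      · intro g _ hg
        simp [hg]

theorem isClosed_fgCone (vec : κ → (Fin N → ℝ)) (G : Finset κ) : IsClosed (fgCone vec G) := by
  classical
  rw [fgCone_eq_iUnion]
  refine Set.Finite.isClosed_biUnion (Finset.finite_toSet _) fun G' hG' => ?_
  exact isClosed_simplicial vec G' (Finset.mem_filter.1 hG').2

end Closed

end Groth.Agent.Lib.ConeCara
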