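import Mathlib.Algebra.Homology.HomotopyCategory.Pretriangulated
import Mathlib.Algebra.Homology.HomotopyCategory.MappingCone

set_option autoImplicit false
universe u v

open CategoryTheory Limits CochainComplex HomComplex

namespace Groth.Agent.Lib.ConeNat

variable {C : Type u} [Category.{v} C] [Preadditive C]
  (H : C ⥤ C) [H.Additive] (η : ∀ X : C, X ⟶ H.obj X)
  (hη : ∀ (X Y : C) (f : X ⟶ Y), f ≫ η Y = η X ≫ H.map f)

/-- the natural transformation on complexes -/
@[simps]
def ηc (K : CochainComplex C ℤ) : K ⟶ (H.mapHomologicalComplex (ComplexShape.up ℤ)).obj K where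
  f n := η (K.X n)
  comm' i j _ := (hη _ _ (K.d i j)).symm

@[reassoc]
lemma ηc_naturality {K L : CochainComplex C ℤ} (φ : K ⟶ L) :
    φ ≫ ηc H η hη L = ηc H η hη K ≫ (H.mapHomologicalComplex (ComplexShape.up ℤ)).map φ := by
  ext n
  exact hη _ _ (φ.f n)

variable [HasBinaryBiproducts C]

theorem cone_nat {K L : CochainComplex C ℤ} (φ : K ⟶ L) :
    ηc H η hη (mappingCone φ) ≫ (mappingCone.mapHomologicalComplexIso φ H).hom =
      mappingCone.map φ ((H.mapHomologicalComplex (ComplexShape.up ℤ)).map φ)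
        (ηc H η hη K) (ηc H η hη L) (ηc_naturality H η hη φ) := by
  ext n
  have h1 : (mappingCone.mapHomologicalComplexIso φ H).hom.f n =
      (mappingCone.mapHomologicalComplexXIso' φ H n (n + 1) rfl).hom := by
    dsimp [mappingCone.mapHomologicalComplexIso]
    exact congrArg Iso.hom (mappingCone.mapHomologicalComplexXIso_eq φ H n (n + 1) rfl)
  rw [HomologicalComplex.comp_f, h1, mappingCone.mapHomologicalComplexXIso'_hom, ηc_f]
  refine Eq.trans (Preadditive.comp_add _ _ _ _ _ _) ?_
  refine Eq.trans (congrArg₂ (· + ·)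
    ((Category.assoc _ _ _).symm.trans (congrArg (· ≫ _)
      (hη _ _ ((mappingCone.fst φ).1.v n (n + 1) rfl)).symm))
    ((Category.assoc _ _ _).symm.trans (congrArg (· ≫ _)
      (hη _ _ ((mappingCone.snd φ).v n n (add_zero n))).symm))) ?_
  rw [mappingCone.ext_from_iff _ (n + 1) n rfl]
  simp [mappingCone.map]
  exact ⟨rfl, rfl⟩

end Groth.Agent.Lib.ConeNat
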