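import Mathlib

/-!
# Laurent polynomial rings: units and twisted forms of `𝔾ₘ`

* `LaurentAut.exists_eq_C_mul_T_of_isUnit`: units of `L[T;T⁻¹]` (`L` a field) are `c Tⁿ`.
-/

set_option autoImplicit false

namespace Groth.Agent.Lib.LaurentAut

open LaurentPolynomial

universe u v w

section Units

variable {L : Type v} [Field L]

theorem C_mul_T_injective {c c' : L} {n n' : ℤ} (hc : c ≠ 0)
    (h : (C c * T n : L[T;T⁻¹]) = C c' * T n') : n = n' ∧ c = c' := by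
  have hs : (C c * T n : L[T;T⁻¹]).coeff.support = {n} := support_coeff_C_mul_T_of_ne_zero hc n
  have hs' : (C c' * T n' : L[T;T⁻¹]).coeff.support ⊆ {n'} := support_C_mul_T c' n'
  rw [h] at hs
  have hn : n = n' := by
    have : n ∈ ({n} : Finset ℤ) := Finset.mem_singleton_self n
    rw [← hs] at this
    exact Finset.mem_singleton.mp (hs' this)
  subst hn
  refine ⟨rfl, ?_⟩
  have h2 : (C c : L[T;T⁻¹]) = C c' := by
    calc (C c : L[T;T⁻¹]) = C c * T n * T (-n) := by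
          rw [mul_T_assoc, add_neg_cancel, T_zero, mul_one]
      _ = C c' * T n * T (-n) := by rw [h]
      _ = C c' := by rw [mul_T_assoc, add_neg_cancel, T_zero, mul_one]
  have h3 := congrArg (fun p : L[T;T⁻¹] => p.coeff 0) h2
  simpa using h3

/-- Units of the Laurent polynomial ring over a field are monomials. -/
theorem exists_eq_C_mul_T_of_isUnit (u : L[T;T⁻¹]) (hu : IsUnit u) :
    ∃ (c : L) (n : ℤ), c ≠ 0 ∧ u = C c * T n := by
  obtain ⟨v, huv⟩ := hu.exists_right_inv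
  obtain ⟨a, f, hf⟩ := LaurentPolynomial.exists_T_pow u
  obtain ⟨b, g, hg⟩ := LaurentPolynomial.exists_T_pow v
  have h1 : Polynomial.toLaurent (f * g) = Polynomial.toLaurent (Polynomial.X ^ (a + b) : Polynomial L) := by
    rw [map_mul, hf, hg, Polynomial.toLaurent_X_pow]
    calc u * T a * (v * T b) = (u * v) * (T a * T b) := by ring
      _ = T ((a + b : ℕ) : ℤ) := by rw [huv, one_mul, ← T_add]; push_cast; rfl
  have h2 : f * g = Polynomial.X ^ (a + b) := Polynomial.toLaurent_injective h1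
  have hdvd : f ∣ Polynomial.X ^ (a + b) := ⟨g, h2.symm⟩
  obtain ⟨i, -, hi⟩ := (dvd_prime_pow Polynomial.prime_X _).mp hdvd
  obtain ⟨w, hw⟩ := hi.symm
  -- f = X^i * w with w a unit
  obtain ⟨c, hc, hcw⟩ : ∃ c : L, c ≠ 0 ∧ (w : Polynomial L) = Polynomial.C c := by
    have := Polynomial.isUnit_iff.mp w.isUnit
    obtain ⟨c, hc, hcw⟩ := this
    exact ⟨c, hc.ne_zero, hcw.symm⟩
  refine ⟨c, (i : ℤ) - a, hc, ?_⟩
  have h3 : u * T a = C c * T i := by
    rw [← hf, ← hw, hcw, map_mul, Polynomial.toLaurent_X_pow, Polynomial.toLaurent_C, mul_comm]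
  calc u = u * T a * T (-a) := by rw [mul_T_assoc, add_neg_cancel, T_zero, mul_one]
    _ = C c * T i * T (-a) := by rw [h3]
    _ = C c * T ((i : ℤ) - a) := by rw [mul_T_assoc, sub_eq_add_neg]

end Units


section Tau

variable {K : Type u} [Field K] {L : Type v} [Field L] [Algebra K L]

/-- The semilinear involution `Σ cᵢ Tⁱ ↦ Σ conj(cᵢ) T⁻ⁱ` of `L[T;T⁻¹]`. -/
noncomputable def tau (conj : L →ₐ[K] L) : L[T;T⁻¹] →+* L[T;T⁻¹] :=
  (AddMonoidAlgebra.mapRingHom ℤ (conj : L →+* L)).comp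
    ((invert : L[T;T⁻¹] ≃ₐ[L] L[T;T⁻¹]) : L[T;T⁻¹] →+* L[T;T⁻¹])

theorem tau_C (conj : L →ₐ[K] L) (c : L) : tau conj (C c) = C (conj c) := by
  simp only [tau, RingHom.comp_apply, RingHom.coe_coe, invert_C]
  rw [← single_eq_C, ← single_eq_C]
  exact AddMonoidAlgebra.mapRingHom_single _ _ _

theorem tau_T (conj : L →ₐ[K] L) (n : ℤ) : tau conj (T n) = T (-n) := by
  simp only [tau, RingHom.comp_apply, RingHom.coe_coe, invert_T]
  change AddMonoidAlgebra.mapRingHom ℤ (conj : L →+* L) (AddMonoidAlgebra.single (-n) 1) =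
    AddMonoidAlgebra.single (-n) 1
  rw [AddMonoidAlgebra.mapRingHom_single]
  simp

theorem T_natCast (m : ℕ) : (T (m : ℤ) : L[T;T⁻¹]) = T 1 ^ m := by
  rw [T_pow, mul_one]

theorem T_neg_natCast (m : ℕ) : (T (-(m : ℤ)) : L[T;T⁻¹]) = T (-1) ^ m := by
  rw [T_pow, mul_neg, mul_one]

theorem ringHom_ext' {S : Type*} [Semiring S] {f g : L[T;T⁻¹] →+* S}
    (hC : ∀ a, f (C a) = g (C a)) (h1 : f (T 1) = g (T 1)) (h2 : f (T (-1)) = g (T (-1))) :
    f = g := by
  refine RingHom.ext fun p => ?_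
  induction p using LaurentPolynomial.induction_on' with
  | add p q hp hq => rw [map_add, map_add, hp, hq]
  | C_mul_T n a =>
    rw [map_mul, map_mul, hC]
    congr 1
    obtain ⟨m, rfl | rfl⟩ := n.eq_nat_or_neg
    · rw [T_natCast, map_pow, map_pow, h1]
    · rw [T_neg_natCast, map_pow, map_pow, h2]

end Tau

section Aut

variable {K : Type u} [Field K] {L : Type v} [Field L] [Algebra K L]

/-- A root of unity of `L` lies in `K` when `K` contains all roots of unity. -/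
theorem mem_range_of_pow_eq_one (hK : ∀ n : ℕ, 0 < n → (Polynomial.X ^ n - 1 : Polynomial K).Splits)
    (z : L) (m : ℕ) (hm : 0 < m) (hzm : z ^ m = 1) : ∃ ζ : K, algebraMap K L ζ = z := by
  have hsplit := hK m hm
  have hmonic : (Polynomial.X ^ m - 1 : Polynomial K).Monic := by
    have : (Polynomial.X ^ m - 1 : Polynomial K) = Polynomial.X ^ m - Polynomial.C 1 := by
      rw [map_one]
    rw [this]; exact Polynomial.monic_X_pow_sub_C 1 hm.ne'
  have hprod := hsplit.eq_prod_roots_of_monic hmonic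
  have heval : Polynomial.aeval z (Polynomial.X ^ m - 1 : Polynomial K) = 0 := by
    simp [hzm]
  rw [hprod, Polynomial.aeval_def, Polynomial.eval₂_multiset_prod, Multiset.prod_eq_zero_iff]
    at heval
  simp only [Multiset.map_map, Multiset.mem_map, Function.comp_apply, Polynomial.eval₂_sub,
    Polynomial.eval₂_X, Polynomial.eval₂_C] at heval
  obtain ⟨ζ, -, hζ⟩ := heval
  rw [sub_eq_zero] at hζ
  exact ⟨ζ, hζ.symm⟩

theorem map_T_neg_one (f : L[T;T⁻¹] →ₐ[L] L[T;T⁻¹]) {c : L} {n : ℤ} (hc : c ≠ 0)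
    (h : f (T 1) = C c * T n) : f (T (-1)) = C c⁻¹ * T (-n) := by
  have h1 : f (T (-1)) * f (T 1) = 1 := by
    rw [← map_mul, ← T_add, neg_add_cancel, T_zero, map_one]
  have h2 : (C c⁻¹ * T (-n) : L[T;T⁻¹]) * f (T 1) = 1 := by
    rw [h]
    calc (C c⁻¹ * T (-n) : L[T;T⁻¹]) * (C c * T n) = C (c⁻¹ * c) * (T (-n) * T n) := by
          rw [map_mul]; ring
      _ = 1 := by rw [inv_mul_cancel₀ hc, ← T_add, neg_add_cancel, T_zero, map_one, one_mul]
  linear_combination (C c⁻¹ * T (-n) : L[T;T⁻¹]) * h1 - f (T (-1)) * h2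

theorem map_C (f : L[T;T⁻¹] →ₐ[L] L[T;T⁻¹]) (a : L) : f (C a) = C a := by
  rw [C_eq_algebraMap, AlgHom.commutes]

theorem algHom_ext_T {f g : L[T;T⁻¹] →ₐ[L] L[T;T⁻¹]} (h : f (T 1) = g (T 1)) : f = g := by
  have h1 : f (T (-1)) * f (T 1) = 1 := by
    rw [← map_mul, ← T_add, neg_add_cancel, T_zero, map_one]
  have h2 : g (T (-1)) * f (T 1) = 1 := by
    rw [h, ← map_mul, ← T_add, neg_add_cancel, T_zero, map_one]
  have h3 : f (T (-1)) = g (T (-1)) := by
    linear_combination g (T (-1)) * h1 - f (T (-1)) * h2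
  apply AlgHom.coe_ringHom_injective
  exact ringHom_ext' (fun a => by simp [map_C]) h h3

/-- The shape of an automorphism of `L[T;T⁻¹]` on `T`. -/
theorem exists_shape (φ : L[T;T⁻¹] ≃ₐ[L] L[T;T⁻¹]) :
    ∃ c : L, c ≠ 0 ∧ (φ (T 1) = C c * T 1 ∨ φ (T 1) = C c * T (-1)) := by
  obtain ⟨c, n, hc, h⟩ := exists_eq_C_mul_T_of_isUnit (φ (T 1)) ((isUnit_T 1).map φ)
  obtain ⟨c', n', hc', h'⟩ := exists_eq_C_mul_T_of_isUnit (φ.symm (T 1)) ((isUnit_T 1).map φ.symm)
  -- general formula for φ (T m)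
  have hnat : ∀ m : ℕ, φ (T (m : ℤ)) = C (c ^ m) * T (n * m) := by
    intro m
    induction m with
    | zero => simp
    | succ m ih =>
      rw [Nat.cast_succ, T_add, map_mul, ih, h, pow_succ, map_mul, mul_add, mul_one, T_add]
      ring
  have hneg : ∀ m : ℕ, φ (T (-(m : ℤ))) = C ((c ^ m)⁻¹) * T (-(n * m)) := by
    intro m
    have h1 : φ (T (-(m : ℤ))) * φ (T (m : ℤ)) = 1 := by
      rw [← map_mul, ← T_add, neg_add_cancel, T_zero, map_one]
    have h2 : (C ((c ^ m)⁻¹) * T (-(n * m)) : L[T;T⁻¹]) * φ (T (m : ℤ)) = 1 := by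
      rw [hnat]
      calc (C ((c ^ m)⁻¹) * T (-(n * m)) : L[T;T⁻¹]) * (C (c ^ m) * T (n * m))
          = C ((c ^ m)⁻¹ * c ^ m) * (T (-(n * m)) * T (n * m)) := by rw [map_mul]; ring
        _ = 1 := by
          rw [inv_mul_cancel₀ (pow_ne_zero m hc), ← T_add, neg_add_cancel, T_zero, map_one,
            one_mul]
    linear_combination (C ((c ^ m)⁻¹) * T (-(n * m)) : L[T;T⁻¹]) * h1 - φ (T (-(m : ℤ))) * h2
  have hT : T 1 = φ (C c' * T n') := by rw [← h', AlgEquiv.apply_symm_apply]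
  have hn : n * n' = 1 := by
    obtain ⟨m, rfl | rfl⟩ := n'.eq_nat_or_neg
    · rw [map_mul, hnat] at hT
      have hC : φ (C c') = C c' := map_C (φ : L[T;T⁻¹] →ₐ[L] L[T;T⁻¹]) c'
      rw [hC, ← mul_assoc, ← map_mul] at hT
      have key : (C (1 : L) * T 1 : L[T;T⁻¹]) = C (c' * c ^ m) * T (n * m) := by
        rw [map_one, one_mul]; exact hT
      exact (C_mul_T_injective one_ne_zero key).1.symm
    · rw [map_mul, hneg] at hT
      have hC : φ (C c') = C c' := map_C (φ : L[T;T⁻¹] →ₐ[L] L[T;T⁻¹]) c'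
      rw [hC, ← mul_assoc, ← map_mul] at hT
      have key : (C (1 : L) * T 1 : L[T;T⁻¹]) = C (c' * (c ^ m)⁻¹) * T (-(n * m)) := by
        rw [map_one, one_mul]; exact hT
      rw [mul_neg]
      exact (C_mul_T_injective one_ne_zero key).1.symm
  refine ⟨c, hc, ?_⟩
  rcases Int.eq_one_or_neg_one_of_mul_eq_one hn with rfl | rfl
  · exact Or.inl h
  · exact Or.inr h

theorem equiv_map_C (φ : L[T;T⁻¹] ≃ₐ[L] L[T;T⁻¹]) (a : L) : φ (C a) = C a :=
  map_C (φ : L[T;T⁻¹] →ₐ[L] L[T;T⁻¹]) a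

theorem equiv_map_T_neg_one (φ : L[T;T⁻¹] ≃ₐ[L] L[T;T⁻¹]) {c : L} {n : ℤ} (hc : c ≠ 0)
    (h : φ (T 1) = C c * T n) : φ (T (-1)) = C c⁻¹ * T (-n) :=
  map_T_neg_one (φ : L[T;T⁻¹] →ₐ[L] L[T;T⁻¹]) hc h

/-- A finite group of `L`-automorphisms of `L[T;T⁻¹]` commuting with the twisted conjugation
`tau` has exponent `2` and at most `4` elements, if `K` contains all roots of unity. -/
theorem card_le_four_of_tau_commute
    (hK : ∀ n : ℕ, 0 < n → (Polynomial.X ^ n - 1 : Polynomial K).Splits) (conj : L →ₐ[K] L)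
    {G : Type*} [Group G] [Finite G] (Ψ : G →* (L[T;T⁻¹] ≃ₐ[L] L[T;T⁻¹]))
    (hΨ : Function.Injective Ψ)
    (hcomm : ∀ g x, tau conj (Ψ g x) = Ψ g (tau conj x)) :
    (∀ g : G, g ^ 2 = 1) ∧ Nat.card G ≤ 4 := by
  have hinj : ∀ g h : G, Ψ g (T 1) = Ψ h (T 1) → g = h := by
    intro g h hgh
    apply hΨ
    apply AlgEquiv.coe_toAlgHom_injective
    exact algHom_ext_T hgh
  have typeI : ∀ (g : G) (c : L), c ≠ 0 → Ψ g (T 1) = C c * T 1 → c = 1 ∨ c = -1 := by
    intro g c hc h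
    have hpow : ∀ N : ℕ, Ψ (g ^ N) (T 1) = C (c ^ N) * T 1 := by
      intro N
      induction N with
      | zero => simp
      | succ N ih =>
        rw [pow_succ, map_mul, AlgEquiv.mul_apply, h, map_mul, ih, equiv_map_C, pow_succ, map_mul]
        ring
    have hN : c ^ Nat.card G = 1 := by
      have := hpow (Nat.card G)
      rw [pow_card_eq_one', map_one, AlgEquiv.one_apply] at this
      have key : (C (1 : L) * T 1 : L[T;T⁻¹]) = C (c ^ Nat.card G) * T 1 := by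
        rw [map_one, one_mul]; exact this
      exact (C_mul_T_injective one_ne_zero key).2.symm
    obtain ⟨ζ, rfl⟩ := mem_range_of_pow_eq_one hK c (Nat.card G) Nat.card_pos hN
    have h1 := hcomm g (T 1)
    rw [h, map_mul, tau_C, tau_T, equiv_map_T_neg_one _ hc h, AlgHom.commutes] at h1
    have h2 := (C_mul_T_injective hc h1).2
    have hcc : algebraMap K L ζ * algebraMap K L ζ = 1 := by
      nth_rewrite 2 [h2]; exact mul_inv_cancel₀ hc
    have h3 : (algebraMap K L ζ - 1) * (algebraMap K L ζ + 1) = 0 := by linear_combination hcc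
    rcases mul_eq_zero.mp h3 with h | h
    · left; exact sub_eq_zero.mp h
    · right; exact eq_neg_of_add_eq_zero_left h
  have hsq : ∀ g : G, g ^ 2 = 1 := by
    intro g
    obtain ⟨c, hc, h | h⟩ := exists_shape (Ψ g)
    · apply hinj
      rw [pow_two, map_mul, AlgEquiv.mul_apply, h, map_mul, equiv_map_C, h, map_one,
        AlgEquiv.one_apply, ← mul_assoc, ← map_mul]
      rcases typeI g c hc h with rfl | rfl <;> simp
    · apply hinj
      rw [pow_two, map_mul, AlgEquiv.mul_apply, h, map_mul, equiv_map_C,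
        equiv_map_T_neg_one _ hc h, map_one, AlgEquiv.one_apply, ← mul_assoc, ← map_mul,
        mul_inv_cancel₀ hc, neg_neg, map_one, one_mul]
  refine ⟨hsq, ?_⟩
  classical
  let c₀ : L := if h : ∃ (g : G) (c : L), c ≠ 0 ∧ Ψ g (T 1) = C c * T (-1) then
    h.choose_spec.choose else 1
  let S : Finset L[T;T⁻¹] := {T 1, C (-1) * T 1, C c₀ * T (-1), C (-c₀) * T (-1)}
  have hS : ∀ g, Ψ g (T 1) ∈ S := by
    intro g
    obtain ⟨c, hc, h | h⟩ := exists_shape (Ψ g)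
    · rcases typeI g c hc h with rfl | rfl
      · simp [S, h]
      · simp [S, h]
    · have hex : ∃ (g : G) (c : L), c ≠ 0 ∧ Ψ g (T 1) = C c * T (-1) := ⟨g, c, hc, h⟩
      have hc₀ : c₀ = hex.choose_spec.choose := dif_pos hex
      obtain ⟨hc0, h0⟩ := hex.choose_spec.choose_spec
      rw [← hc₀] at hc0 h0
      have h2 : Ψ (hex.choose * g) (T 1) = C (c * c₀⁻¹) * T 1 := by
        rw [map_mul, AlgEquiv.mul_apply, h, map_mul, equiv_map_C,
          equiv_map_T_neg_one _ hc0 h0, neg_neg, map_mul]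
        ring
      rcases typeI (hex.choose * g) (c * c₀⁻¹) (mul_ne_zero hc (inv_ne_zero hc0)) h2 with h3 | h3
      · have : c = c₀ := by
          calc c = c * c₀⁻¹ * c₀ := by rw [mul_assoc, inv_mul_cancel₀ hc0, mul_one]
            _ = c₀ := by rw [h3, one_mul]
        rw [h, this]
        simp [S]
      · have : c = -c₀ := by
          calc c = c * c₀⁻¹ * c₀ := by rw [mul_assoc, inv_mul_cancel₀ hc0, mul_one]
            _ = -c₀ := by rw [h3, neg_one_mul]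
        rw [h, this]
        simp [S]
  have hinj' : Function.Injective (fun g : G => (⟨Ψ g (T 1), hS g⟩ : S)) := by
    intro g h hgh
    exact hinj g h (congrArg Subtype.val hgh)
  calc Nat.card G ≤ Nat.card S := Nat.card_le_card_of_injective _ hinj'
    _ = S.card := Nat.card_eq_finsetCard S
    _ ≤ 4 := Finset.card_le_four

end Aut

section Descent

open scoped TensorProduct

variable {K : Type u} [Field K] {L : Type v} [Field L] [Algebra K L]
  {R : Type w} [CommRing R] [Algebra K R]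

/-- The comparison map `L ⊗[K] R → L[T;T⁻¹]`. -/
noncomputable def jmap (ι : R →ₐ[K] L[T;T⁻¹]) : L ⊗[K] R →ₐ[L] L[T;T⁻¹] :=
  Algebra.TensorProduct.lift (Algebra.ofId L L[T;T⁻¹]) ι (fun _ _ => Commute.all _ _)

theorem jmap_tmul (ι : R →ₐ[K] L[T;T⁻¹]) (ℓ : L) (r : R) : jmap ι (ℓ ⊗ₜ r) = C ℓ * ι r := by
  rw [jmap, Algebra.TensorProduct.lift_tmul]
  rfl

variable (K L R) in
/-- Data exhibiting `R` as a `K`-form of `L[T;T⁻¹]` for the twisted conjugation `tau`. -/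
structure Setup where
  θ : L
  θ' : L
  hne : θ ≠ θ'
  conj : L →ₐ[K] L
  hconj : conj θ = θ'
  hspan : ∀ ℓ : L, ∃ k₀ k₁ : K, ℓ = algebraMap K L k₀ + algebraMap K L k₁ * θ
  ι : R →ₐ[K] L[T;T⁻¹]
  hι : Function.Injective ι
  hτ : ∀ r, tau conj (ι r) = ι r
  hT : ∃ (c₀ c₁ c₂ : L) (r₀ r₁ r₂ : R), T 1 = C c₀ * ι r₀ + C c₁ * ι r₁ + C c₂ * ι r₂
  hT' : ∃ (c₀ c₁ c₂ : L) (r₀ r₁ r₂ : R), T (-1) = C c₀ * ι r₀ + C c₁ * ι r₁ + C c₂ * ι r₂

namespace Setup

variable (D : Setup K L R)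

theorem jmap_injective : Function.Injective (jmap D.ι) := by
  have key : ∀ s : L ⊗[K] R, ∃ r₀ r₁ : R, s = 1 ⊗ₜ r₀ + D.θ ⊗ₜ r₁ := by
    intro s
    induction s using TensorProduct.induction_on with
    | zero => exact ⟨0, 0, by simp⟩
    | tmul ℓ r =>
      obtain ⟨k₀, k₁, rfl⟩ := D.hspan ℓ
      refine ⟨k₀ • r, k₁ • r, ?_⟩
      rw [TensorProduct.add_tmul, Algebra.algebraMap_eq_smul_one, ← Algebra.smul_def,
        TensorProduct.smul_tmul, TensorProduct.smul_tmul]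
    | add x y hx hy =>
      obtain ⟨a, b, rfl⟩ := hx
      obtain ⟨c, d, rfl⟩ := hy
      exact ⟨a + c, b + d, by rw [TensorProduct.tmul_add, TensorProduct.tmul_add]; abel⟩
  rw [injective_iff_map_eq_zero]
  intro s hs
  obtain ⟨r₀, r₁, rfl⟩ := key s
  rw [map_add, jmap_tmul, jmap_tmul, map_one, one_mul] at hs
  have hs' := congrArg (tau D.conj) hs
  rw [map_add, map_mul, tau_C, D.hτ, D.hτ, map_zero, D.hconj] at hs'
  have h1 : C (D.θ - D.θ') * D.ι r₁ = 0 := by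
    rw [map_sub, sub_mul]; linear_combination hs - hs'
  have hu : IsUnit (C (D.θ - D.θ') : L[T;T⁻¹]) :=
    (IsUnit.mk0 _ (sub_ne_zero.mpr D.hne)).map C
  have h2 : D.ι r₁ = 0 := (hu.mul_right_eq_zero).mp h1
  have h3 : r₁ = 0 := D.hι (by rw [h2, map_zero])
  rw [h2, mul_zero, add_zero] at hs
  have h4 : r₀ = 0 := D.hι (by rw [hs, map_zero])
  rw [h3, h4, TensorProduct.tmul_zero, TensorProduct.tmul_zero, add_zero]

theorem jmap_surjective : Function.Surjective (jmap D.ι) := by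
  have hC : ∀ ℓ, C ℓ ∈ (jmap D.ι).range := fun ℓ =>
    (AlgHom.mem_range _).mpr ⟨ℓ ⊗ₜ 1, by rw [jmap_tmul, map_one, mul_one]⟩
  have h1 : T 1 ∈ (jmap D.ι).range := by
    obtain ⟨c₀, c₁, c₂, r₀, r₁, r₂, h⟩ := D.hT
    exact (AlgHom.mem_range _).mpr
      ⟨c₀ ⊗ₜ r₀ + c₁ ⊗ₜ r₁ + c₂ ⊗ₜ r₂, by
        rw [map_add, map_add, jmap_tmul, jmap_tmul, jmap_tmul, h]⟩
  have h2 : T (-1) ∈ (jmap D.ι).range := by
    obtain ⟨c₀, c₁, c₂, r₀, r₁, r₂, h⟩ := D.hT'
    exact (AlgHom.mem_range _).mpr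
      ⟨c₀ ⊗ₜ r₀ + c₁ ⊗ₜ r₁ + c₂ ⊗ₜ r₂, by
        rw [map_add, map_add, jmap_tmul, jmap_tmul, jmap_tmul, h]⟩
  intro p
  rw [← AlgHom.mem_range]
  induction p using LaurentPolynomial.induction_on' with
  | add p q hp hq => exact add_mem hp hq
  | C_mul_T n a =>
    refine mul_mem (hC a) ?_
    obtain ⟨m, rfl | rfl⟩ := n.eq_nat_or_neg
    · rw [T_natCast]; exact pow_mem h1 m
    · rw [T_neg_natCast]; exact pow_mem h2 m

/-- The isomorphism `L ⊗[K] R ≃ L[T;T⁻¹]`. -/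
noncomputable def e : L ⊗[K] R ≃ₐ[L] L[T;T⁻¹] :=
  AlgEquiv.ofBijective (jmap D.ι) ⟨D.jmap_injective, D.jmap_surjective⟩

theorem e_tmul (ℓ : L) (r : R) : D.e (ℓ ⊗ₜ r) = C ℓ * D.ι r := jmap_tmul D.ι ℓ r

theorem e_one_tmul (r : R) : D.e (1 ⊗ₜ r) = D.ι r := by rw [e_tmul, map_one, one_mul]

/-- Extension of a `K`-automorphism of `R` to an `L`-automorphism of `L[T;T⁻¹]`. -/
noncomputable def ext (g : R ≃ₐ[K] R) : L[T;T⁻¹] ≃ₐ[L] L[T;T⁻¹] :=
  D.e.symm.trans ((Algebra.TensorProduct.congr AlgEquiv.refl g).trans D.e)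

theorem ext_ι (g : R ≃ₐ[K] R) (r : R) : D.ext g (D.ι r) = D.ι (g r) := by
  rw [← e_one_tmul, ext, AlgEquiv.trans_apply, AlgEquiv.symm_apply_apply, AlgEquiv.trans_apply,
    Algebra.TensorProduct.congr_apply, Algebra.TensorProduct.map_tmul, e_tmul]
  simp

theorem algHom_ext {S : Type*} [Semiring S] {f f' : L[T;T⁻¹] →+* S}
    (hC : ∀ a, f (C a) = f' (C a))
    (h : ∀ r, f (D.ι r) = f' (D.ι r)) : f = f' := by
  apply ringHom_ext' hC
  · obtain ⟨c₀, c₁, c₂, r₀, r₁, r₂, hT⟩ := D.hT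
    simp only [hT, map_add, map_mul, h, hC]
  · obtain ⟨c₀, c₁, c₂, r₀, r₁, r₂, hT⟩ := D.hT'
    simp only [hT, map_add, map_mul, h, hC]

theorem equiv_ext {φ ψ : L[T;T⁻¹] ≃ₐ[L] L[T;T⁻¹]} (h : ∀ r, φ (D.ι r) = ψ (D.ι r)) : φ = ψ := by
  apply AlgEquiv.coe_toAlgHom_injective
  apply AlgHom.coe_ringHom_injective
  apply D.algHom_ext
  · intro a
    exact (equiv_map_C φ a).trans (equiv_map_C ψ a).symm
  · exact h

/-- `ext` as a group homomorphism. -/
noncomputable def Θ : (R ≃ₐ[K] R) →* (L[T;T⁻¹] ≃ₐ[L] L[T;T⁻¹]) where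
  toFun := D.ext
  map_one' := D.equiv_ext fun r => by rw [ext_ι]; rfl
  map_mul' g h := D.equiv_ext fun r => by
    rw [ext_ι, AlgEquiv.mul_apply, AlgEquiv.mul_apply, ext_ι, ext_ι]

theorem Θ_ι (g : R ≃ₐ[K] R) (r : R) : D.Θ g (D.ι r) = D.ι (g r) := D.ext_ι g r

theorem Θ_injective : Function.Injective D.Θ := by
  intro g h hgh
  ext r
  apply D.hι
  rw [← Θ_ι, ← Θ_ι, hgh]

theorem Θ_tau (g : R ≃ₐ[K] R) (x : L[T;T⁻¹]) :
    tau D.conj (D.Θ g x) = D.Θ g (tau D.conj x) := by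
  have : (tau D.conj).comp ((D.Θ g : L[T;T⁻¹] ≃ₐ[L] L[T;T⁻¹]) : L[T;T⁻¹] →+* L[T;T⁻¹]) =
      ((D.Θ g : L[T;T⁻¹] ≃ₐ[L] L[T;T⁻¹]) : L[T;T⁻¹] →+* L[T;T⁻¹]).comp (tau D.conj) := by
    apply D.algHom_ext
    · intro a
      simp only [RingHom.comp_apply, RingHom.coe_coe, equiv_map_C, tau_C]
    · intro r
      simp only [RingHom.comp_apply, RingHom.coe_coe, Θ_ι, D.hτ]
  exact congrArg (fun f : L[T;T⁻¹] →+* L[T;T⁻¹] => f x) this

/-- Main abstract theorem: finite groups of `K`-automorphisms of a `K`-form `R` of `𝔾ₘ` twisted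
by inversion have exponent 2 and at most 4 elements, when `K` contains all roots of unity. -/
theorem card_le_four (D : Setup K L R)
    (hK : ∀ n : ℕ, 0 < n → (Polynomial.X ^ n - 1 : Polynomial K).Splits)
    {G : Type*} [Group G] [Finite G] (ρ : G →* (R ≃ₐ[K] R)) (hρ : Function.Injective ρ) :
    (∀ g : G, g ^ 2 = 1) ∧ Nat.card G ≤ 4 :=
  card_le_four_of_tau_commute hK D.conj (D.Θ.comp ρ) (D.Θ_injective.comp hρ)
    (fun g x => D.Θ_tau (ρ g) x)

end Setup

end Descent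

end Groth.Agent.Lib.LaurentAut
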