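import Mathlib
import Groth.Agent.Lib.LaurentAut

/-!
# The complement of a separable quadratic point in `ℙ¹` is a form of `𝔾ₘ`

For `q = a X² + b X Y + c Y²` irreducible with nonzero discriminant over a field `K`,
we embed the degree-zero localisation `K[X,Y]_(q)` into `L[T;T⁻¹]`, `L = K[θ]/(aθ²+bθ+c)`,
exhibiting the data of `Groth.Agent.Lib.LaurentAut.Setup`.
-/

set_option autoImplicit false

namespace Groth.Agent.Lib.ConicTorus

open LaurentPolynomial Groth.Agent.Lib.LaurentAut

universe u

section QuadField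

variable {K : Type u} [Field K] (a b c : K)

/-- The quadratic polynomial `a X² + b X + c`. -/
noncomputable def quadPoly : Polynomial K :=
  Polynomial.C a * Polynomial.X ^ 2 + Polynomial.C b * Polynomial.X + Polynomial.C c

theorem eval₂_quadPoly {S : Type*} [CommRing S] (φ : K →+* S) (x : S) :
    (quadPoly a b c).eval₂ φ x = φ a * x ^ 2 + φ b * x + φ c := by
  simp [quadPoly, Polynomial.eval₂_add, Polynomial.eval₂_mul, Polynomial.eval₂_pow]

variable [hirr : Fact (Irreducible (quadPoly a b c))]

local notation "L" => AdjoinRoot (quadPoly a b c)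
local notation "α" => algebraMap K (AdjoinRoot (quadPoly a b c))

/-- The root `θ`. -/
noncomputable def th : L := AdjoinRoot.root (quadPoly a b c)

/-- The conjugate root `θ' = -b/a - θ`. -/
noncomputable def th' : L := -(α b / α a) - th a b c

theorem th_rel : α a * th a b c ^ 2 + α b * th a b c + α c = 0 := by
  have h := AdjoinRoot.eval₂_root (quadPoly a b c)
  rw [eval₂_quadPoly] at h
  rw [th, AdjoinRoot.algebraMap_eq]
  exact h

variable {a} in
theorem alpha_a_ne (ha : a ≠ 0) : α a ≠ 0 := by
  rwa [Ne, map_eq_zero]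

variable {a} in
theorem th'_rel (ha : a ≠ 0) : α a * th' a b c ^ 2 + α b * th' a b c + α c = 0 := by
  have hA := alpha_a_ne b c ha
  have h := th_rel a b c
  rw [th']
  field_simp
  linear_combination (α a) * h

variable {a} in
theorem th_ne_th' (ha : a ≠ 0) (hdisc : b ^ 2 - 4 * a * c ≠ 0) : th a b c ≠ th' a b c := by
  have hA := alpha_a_ne b c ha
  have h := th_rel a b c
  intro heq
  have h2 : 2 * α a * th a b c + α b = 0 := by
    have : th a b c + th a b c = -(α b / α a) := by
      nth_rewrite 2 [heq]; rw [th']; ring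
    field_simp at this
    linear_combination this
  apply hdisc
  have h3 : α (b ^ 2 - 4 * a * c) = 0 := by
    simp only [map_sub, map_pow, map_mul, map_ofNat]
    linear_combination (2 * α a * th a b c + α b) * h2 - 4 * α a * h
  exact (map_eq_zero _).mp h3

variable {a} in
/-- The conjugation `θ ↦ θ'`. -/
noncomputable def conj (ha : a ≠ 0) : L →ₐ[K] L :=
  AdjoinRoot.liftAlgHom (quadPoly a b c) (Algebra.ofId K L) (th' a b c) (by
    have h := th'_rel b c ha
    rw [eval₂_quadPoly]
    exact h)

variable {a} in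
theorem conj_th (ha : a ≠ 0) : conj b c ha (th a b c) = th' a b c := by
  rw [conj, th, AdjoinRoot.liftAlgHom_root]

variable {a} in
theorem conj_th' (ha : a ≠ 0) : conj b c ha (th' a b c) = th a b c := by
  have h1 : conj b c ha (th' a b c) = -(α b / α a) - th' a b c := by
    conv_lhs => rw [th']
    rw [map_sub, map_neg, map_div₀, AlgHom.commutes, AlgHom.commutes, conj_th]
  rw [h1, th']; ring

theorem span_th (ℓ : L) : ∃ k₀ k₁ : K, ℓ = α k₀ + α k₁ * th a b c := by
  obtain ⟨p, rfl⟩ := AdjoinRoot.mk_surjective ℓ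
  have hq0 : quadPoly a b c ≠ 0 := hirr.out.ne_zero
  have hdeg : (quadPoly a b c).degree ≤ 2 := by
    rw [quadPoly]; exact Polynomial.degree_quadratic_le
  have hmod : (p % quadPoly a b c).degree ≤ 1 := by
    have h1 := Polynomial.degree_mod_lt p hq0
    have h2 : (p % quadPoly a b c).degree < 2 := lt_of_lt_of_le h1 hdeg
    exact Order.le_of_lt_succ h2
  have hp : AdjoinRoot.mk (quadPoly a b c) p = AdjoinRoot.mk (quadPoly a b c) (p % quadPoly a b c) := by
    rw [AdjoinRoot.mk_eq_mk]
    exact ⟨p / quadPoly a b c, by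
      linear_combination -(EuclideanDomain.div_add_mod p (quadPoly a b c))⟩
  rw [hp, Polynomial.eq_X_add_C_of_degree_le_one hmod]
  refine ⟨(p % quadPoly a b c).coeff 0, (p % quadPoly a b c).coeff 1, ?_⟩
  simp [th, AdjoinRoot.algebraMap_eq, add_comm]

end QuadField

section Scaling

theorem aeval_mul_of_isHomogeneous {K A : Type*} [CommSemiring K] [CommSemiring A] [Algebra K A]
    {f : MvPolynomial (Fin 2) K} {d : ℕ} (hf : f.IsHomogeneous d) (t : A) (h : Fin 2 → A) :
    MvPolynomial.aeval (fun i => t * h i) f = t ^ d * MvPolynomial.aeval h f := by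
  rw [f.as_sum]
  simp only [map_sum, Finset.mul_sum]
  refine Finset.sum_congr rfl fun m hm => ?_
  have hd : m 0 + m 1 = d := by
    have := hf (MvPolynomial.mem_support_iff.mp hm)
    simpa [Finsupp.weight_apply, Finsupp.sum_fintype, Fin.sum_univ_two] using this
  rw [MvPolynomial.aeval_monomial, MvPolynomial.aeval_monomial,
    Finsupp.prod_fintype _ _ (by simp), Finsupp.prod_fintype _ _ (by simp),
    Fin.prod_univ_two, Fin.prod_univ_two, ← hd]
  ring

end Scaling

section Phi

variable {K : Type u} [Field K] (a b c : K) [hirr : Fact (Irreducible (quadPoly a b c))]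

local notation "L" => AdjoinRoot (quadPoly a b c)
local notation "α" => algebraMap K (AdjoinRoot (quadPoly a b c))
local notation "θ" => th a b c
local notation "θ'" => th' a b c
local notation "δi" => (th' a b c - th a b c)⁻¹

/-- First linear form. -/
noncomputable def g0 : MvPolynomial (Fin 2) L :=
  MvPolynomial.C δi * (MvPolynomial.C θ' * MvPolynomial.X 0 - MvPolynomial.C θ * MvPolynomial.X 1)

/-- Second linear form. -/
noncomputable def g1 : MvPolynomial (Fin 2) L :=
  MvPolynomial.C δi * (MvPolynomial.X 0 - MvPolynomial.X 1)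

/-- The linear change of variables. -/
noncomputable def psi : MvPolynomial (Fin 2) K →ₐ[K] MvPolynomial (Fin 2) L :=
  MvPolynomial.aeval ![g0 a b c, g1 a b c]

/-- The inverse linear change of variables. -/
noncomputable def psi' : MvPolynomial (Fin 2) L →ₐ[L] MvPolynomial (Fin 2) L :=
  MvPolynomial.aeval ![MvPolynomial.X 0 - MvPolynomial.C θ * MvPolynomial.X 1,
    MvPolynomial.X 0 - MvPolynomial.C θ' * MvPolynomial.X 1]

/-- Dehomogenisation. -/
noncomputable def evP : MvPolynomial (Fin 2) L →ₐ[L] Polynomial L :=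
  MvPolynomial.aeval ![Polynomial.X, 1]

/-- The embedding of binary forms into Laurent polynomials. -/
noncomputable def Phi : MvPolynomial (Fin 2) K →ₐ[K] L[T;T⁻¹] :=
  ((Polynomial.toLaurentAlg.comp (evP a b c)).restrictScalars K).comp (psi a b c)

theorem Phi_apply (f : MvPolynomial (Fin 2) K) :
    Phi a b c f = Polynomial.toLaurent (evP a b c (psi a b c f)) := rfl

theorem psi_isHomogeneous {f : MvPolynomial (Fin 2) K} {d : ℕ} (hf : f.IsHomogeneous d) :
    (psi a b c f).IsHomogeneous d := by
  have := hf.aeval (S := L) (n := 1) ![g0 a b c, g1 a b c] (by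
    intro i
    fin_cases i
    · exact (((MvPolynomial.isHomogeneous_X _ 0).C_mul θ').sub
        ((MvPolynomial.isHomogeneous_X _ 1).C_mul θ)).C_mul δi
    · exact ((MvPolynomial.isHomogeneous_X _ 0).sub (MvPolynomial.isHomogeneous_X _ 1)).C_mul δi)
  rwa [one_mul] at this

theorem evP_eq_zero {F : MvPolynomial (Fin 2) L} {d : ℕ} (hF : F.IsHomogeneous d)
    (h : evP a b c F = 0) : F = 0 := by
  have := Polynomial.homogenize_eq_of_isHomogeneous hF h
  rw [Polynomial.homogenize_zero] at this
  exact this.symm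

variable {a b c} in
theorem psi'_psi (hne : θ ≠ θ') (f : MvPolynomial (Fin 2) K) :
    psi' a b c (psi a b c f) = MvPolynomial.map α f := by
  have hδ : θ' - θ ≠ 0 := sub_ne_zero.mpr (Ne.symm hne)
  have key : ((psi' a b c).restrictScalars K).comp (psi a b c) =
      MvPolynomial.aeval (R := K) (fun i => (MvPolynomial.X i : MvPolynomial (Fin 2) L)) := by
    apply MvPolynomial.algHom_ext
    intro i
    fin_cases i
    · simp only [AlgHom.comp_apply, AlgHom.restrictScalars_apply, psi, psi', g0,
        MvPolynomial.aeval_X, Fin.zero_eta, Matrix.cons_val_zero, map_mul, map_sub,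
        MvPolynomial.aeval_C, MvPolynomial.algebraMap_eq, Matrix.cons_val_one]
      have h1 : (MvPolynomial.C δi : MvPolynomial (Fin 2) L) * MvPolynomial.C (θ' - θ) = 1 := by
        rw [← map_mul, inv_mul_cancel₀ hδ, map_one]
      rw [map_sub] at h1
      linear_combination (MvPolynomial.X 0 : MvPolynomial (Fin 2) L) * h1
    · simp only [AlgHom.comp_apply, AlgHom.restrictScalars_apply, psi, psi', g1,
        MvPolynomial.aeval_X, Fin.mk_one, Matrix.cons_val_zero, map_mul, map_sub,
        MvPolynomial.aeval_C, MvPolynomial.algebraMap_eq, Matrix.cons_val_one]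
      have h1 : (MvPolynomial.C δi : MvPolynomial (Fin 2) L) * MvPolynomial.C (θ' - θ) = 1 := by
        rw [← map_mul, inv_mul_cancel₀ hδ, map_one]
      rw [map_sub] at h1
      linear_combination (MvPolynomial.X 1 : MvPolynomial (Fin 2) L) * h1
  have := congrArg (fun φ : MvPolynomial (Fin 2) K →ₐ[K] MvPolynomial (Fin 2) L => φ f) key
  simp only [AlgHom.comp_apply, AlgHom.restrictScalars_apply] at this
  rw [this]
  have h2 : ((MvPolynomial.aeval (R := K)
      (fun i => (MvPolynomial.X i : MvPolynomial (Fin 2) L)) :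
        MvPolynomial (Fin 2) K →ₐ[K] MvPolynomial (Fin 2) L) :
        MvPolynomial (Fin 2) K →+* MvPolynomial (Fin 2) L) = MvPolynomial.map α := by
    apply MvPolynomial.ringHom_ext
    · intro r
      simp [MvPolynomial.algebraMap_apply]
    · intro i
      simp
  exact congrArg (fun φ : MvPolynomial (Fin 2) K →+* MvPolynomial (Fin 2) L => φ f) h2

variable {a b c} in
theorem Phi_eq_zero (hne : θ ≠ θ') {f : MvPolynomial (Fin 2) K} {d : ℕ} (hf : f.IsHomogeneous d)
    (h : Phi a b c f = 0) : f = 0 := by
  rw [Phi_apply] at h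
  have h1 : evP a b c (psi a b c f) = 0 :=
    Polynomial.toLaurent_injective (by rw [h, map_zero])
  have h2 := evP_eq_zero a b c (psi_isHomogeneous a b c hf) h1
  have h3 := psi'_psi hne f
  rw [h2, map_zero] at h3
  exact MvPolynomial.map_injective _ (algebraMap K L).injective (by rw [← h3, map_zero])

theorem Phi_X0 : Phi a b c (MvPolynomial.X 0) = C δi * (C θ' * T 1 - C θ) := by
  rw [Phi_apply, psi, MvPolynomial.aeval_X, Matrix.cons_val_zero, g0, evP]
  simp only [map_mul, map_sub, MvPolynomial.aeval_C, MvPolynomial.aeval_X, Matrix.cons_val_zero,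
    Matrix.cons_val_one, Polynomial.algebraMap_apply, Algebra.algebraMap_self, RingHom.id_apply,
    Polynomial.toLaurent_C, Polynomial.toLaurent_X, mul_one]

theorem Phi_X1 : Phi a b c (MvPolynomial.X 1) = C δi * (T 1 - 1) := by
  rw [Phi_apply, psi, MvPolynomial.aeval_X, Matrix.cons_val_one, g1, evP]
  simp only [map_mul, map_sub, MvPolynomial.aeval_C, MvPolynomial.aeval_X, Matrix.cons_val_zero,
    Matrix.cons_val_one, Polynomial.algebraMap_apply, Algebra.algebraMap_self, RingHom.id_apply,
    Polynomial.toLaurent_C, Polynomial.toLaurent_X, map_one]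

theorem Phi_C (k : K) : Phi a b c (MvPolynomial.C k) = C (α k) := by
  rw [← MvPolynomial.algebraMap_eq, AlgHom.commutes]
  rfl

variable {a b c} in
theorem C_delta (hne : θ ≠ θ') : (C δi : L[T;T⁻¹]) * (C θ' - C θ) = 1 := by
  have hδ : θ' - θ ≠ 0 := sub_ne_zero.mpr (Ne.symm hne)
  rw [← map_sub, ← map_mul, inv_mul_cancel₀ hδ, map_one]

variable {a b c} in
theorem Phi_sub_th (hne : θ ≠ θ') :
    Phi a b c (MvPolynomial.X 0) - C θ * Phi a b c (MvPolynomial.X 1) = T 1 := by
  rw [Phi_X0, Phi_X1]
  linear_combination (T 1 : L[T;T⁻¹]) * C_delta hne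

variable {a b c} in
theorem Phi_sub_th' (hne : θ ≠ θ') :
    Phi a b c (MvPolynomial.X 0) - C θ' * Phi a b c (MvPolynomial.X 1) = 1 := by
  rw [Phi_X0, Phi_X1]
  linear_combination C_delta hne

/-- The binary quadratic form `a X² + b X Y + c Y²`. -/
noncomputable def quadForm : MvPolynomial (Fin 2) K :=
  MvPolynomial.C a * MvPolynomial.X 0 ^ 2 + MvPolynomial.C b * MvPolynomial.X 0 * MvPolynomial.X 1
    + MvPolynomial.C c * MvPolynomial.X 1 ^ 2

omit hirr in
theorem quadForm_isHomogeneous : (quadForm a b c).IsHomogeneous 2 := by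
  rw [quadForm]
  refine ((MvPolynomial.isHomogeneous_C_mul_X_pow a 0 2).add ?_).add
    (MvPolynomial.isHomogeneous_C_mul_X_pow c 1 2)
  exact (MvPolynomial.isHomogeneous_C_mul_X b 0).mul (MvPolynomial.isHomogeneous_X _ 1)

variable {a b c} in
theorem Phi_quadForm (ha : a ≠ 0) (hne : θ ≠ θ') : Phi a b c (quadForm a b c) = C (α a) * T 1 := by
  have hA := alpha_a_ne b c ha
  have h1 := Phi_sub_th hne
  have h2 := Phi_sub_th' hne
  have hsum : (C (α a) : L[T;T⁻¹]) * (C θ + C θ') = -C (α b) := by
    rw [← map_add, ← map_mul, ← map_neg]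
    congr 1
    rw [th']
    field_simp
    ring
  have hprod : (C (α a) : L[T;T⁻¹]) * (C θ * C θ') = C (α c) := by
    rw [← map_mul, ← map_mul]
    congr 1
    have h := th_rel a b c
    rw [th']
    field_simp
    linear_combination -h
  rw [quadForm]
  simp only [map_add, map_mul, map_pow, Phi_C]
  set x := Phi a b c (MvPolynomial.X 0)
  set y := Phi a b c (MvPolynomial.X 1)
  linear_combination (C (α a) * (x - C θ * y)) * h2 + C (α a) * h1 + x * y * hsum - y ^ 2 * hprod

variable {a b c} in
theorem conj_delta (ha : a ≠ 0) : conj b c ha δi = -δi := by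
  rw [map_inv₀, map_sub, conj_th, conj_th', ← neg_sub, inv_neg]

variable {a b c} in
theorem tau_Phi (ha : a ≠ 0) {f : MvPolynomial (Fin 2) K} {d : ℕ}
    (hf : f.IsHomogeneous d) :
    tau (conj b c ha) (Phi a b c f) = T (-(d : ℤ)) * Phi a b c f := by
  let tauK : L[T;T⁻¹] →ₐ[K] L[T;T⁻¹] :=
    { tau (conj b c ha) with
      commutes' := fun k => by
        show tau (conj b c ha) (algebraMap K L[T;T⁻¹] k) = algebraMap K L[T;T⁻¹] k
        rw [LaurentPolynomial.algebraMap_apply, tau_C, AlgHom.commutes] }
  have htauK : ∀ x, tauK x = tau (conj b c ha) x := fun _ => rfl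
  have hTT : (T (-1) : L[T;T⁻¹]) * T 1 = 1 := by rw [← T_add, neg_add_cancel, T_zero]
  have h1 : tauK.comp (Phi a b c) =
      MvPolynomial.aeval (fun i => T (-1) * Phi a b c (MvPolynomial.X i)) := by
    apply MvPolynomial.algHom_ext
    intro i
    rw [MvPolynomial.aeval_X, AlgHom.comp_apply, htauK]
    fin_cases i
    · simp only [Fin.zero_eta, Phi_X0, map_mul, map_sub, tau_C, tau_T, conj_delta, conj_th,
        conj_th', map_neg]
      linear_combination (-(C δi * C θ' : L[T;T⁻¹])) * hTT
    · simp only [Fin.mk_one, Phi_X1, map_mul, map_sub, tau_C, tau_T, conj_delta, map_neg, map_one]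
      linear_combination (-(C δi : L[T;T⁻¹])) * hTT
  have h2 : tau (conj b c ha) (Phi a b c f) = (tauK.comp (Phi a b c)) f := rfl
  rw [h2, h1, aeval_mul_of_isHomogeneous hf, T_pow, mul_neg, mul_one]
  congr 1
  conv_rhs => rw [MvPolynomial.aeval_unique (Phi a b c)]
  rfl

end Phi

section Away

attribute [local instance] MvPolynomial.gradedAlgebra

variable {K : Type u} [Field K]

/-- The `K`-module structure on the degree-zero localisation, with the canonical scalar action. -/
@[reducible] noncomputable def modK (q : MvPolynomial (Fin 2) K) :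
    Module K (HomogeneousLocalization.Away (MvPolynomial.homogeneousSubmodule (Fin 2) K) q) :=
  Function.Injective.module K
    (⟨⟨HomogeneousLocalization.val, HomogeneousLocalization.val_zero⟩,
      HomogeneousLocalization.val_add⟩ :
      HomogeneousLocalization.Away (MvPolynomial.homogeneousSubmodule (Fin 2) K) q →+
        Localization (Submonoid.powers q))
    (HomogeneousLocalization.val_injective _)
    (fun k z => HomogeneousLocalization.val_smul _ k z)

/-- The `K`-algebra structure on the degree-zero localisation, with the canonical scalar action. -/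
@[reducible] noncomputable def algK (q : MvPolynomial (Fin 2) K) :
    Algebra K (HomogeneousLocalization.Away (MvPolynomial.homogeneousSubmodule (Fin 2) K) q) :=
  letI := modK q
  Algebra.ofModule
    (fun k x y => by
      apply HomogeneousLocalization.val_injective
      simp only [HomogeneousLocalization.val_mul, HomogeneousLocalization.val_smul, smul_mul_assoc])
    (fun k x y => by
      apply HomogeneousLocalization.val_injective
      simp only [HomogeneousLocalization.val_mul, HomogeneousLocalization.val_smul, mul_smul_comm])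

attribute [local instance] algK

variable (a b c : K) [hirr : Fact (Irreducible (quadPoly a b c))]

local notation "𝒜" => MvPolynomial.homogeneousSubmodule (Fin 2) K
local notation "L" => AdjoinRoot (quadPoly a b c)
local notation "α" => algebraMap K (AdjoinRoot (quadPoly a b c))
local notation "θ" => th a b c
local notation "θ'" => th' a b c
local notation "R" =>
  HomogeneousLocalization.Away (MvPolynomial.homogeneousSubmodule (Fin 2) K) (quadForm a b c)

omit hirr in
theorem quadForm_mem : quadForm a b c ∈ 𝒜 2 :=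
  (MvPolynomial.mem_homogeneousSubmodule 2 _).mpr (quadForm_isHomogeneous a b c)

variable {a b c} in
theorem isUnit_Phi (ha : a ≠ 0) (hne : θ ≠ θ') (y : Submonoid.powers (quadForm a b c)) :
    IsUnit (Phi a b c y) := by
  obtain ⟨n, hn⟩ := y.2
  rw [← hn, map_pow, Phi_quadForm ha hne]
  exact (((IsUnit.mk0 _ (alpha_a_ne b c ha)).map C).mul (isUnit_T 1)).pow n

variable {a b c} in
/-- The map from the full localisation to Laurent polynomials. -/
noncomputable def iotaLoc (ha : a ≠ 0) (hne : θ ≠ θ') :
    Localization (Submonoid.powers (quadForm a b c)) →ₐ[K] L[T;T⁻¹] :=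
  IsLocalization.liftAlgHom (M := Submonoid.powers (quadForm a b c)) (f := Phi a b c)
    (isUnit_Phi ha hne)

variable {a b c} in
/-- The embedding of the degree-zero localisation into Laurent polynomials. -/
noncomputable def iota (ha : a ≠ 0) (hne : θ ≠ θ') : R →ₐ[K] L[T;T⁻¹] where
  toFun z := iotaLoc ha hne z.val
  map_one' := by rw [HomogeneousLocalization.val_one, map_one]
  map_mul' x y := by rw [HomogeneousLocalization.val_mul, map_mul]
  map_zero' := by rw [HomogeneousLocalization.val_zero, map_zero]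
  map_add' x y := by rw [HomogeneousLocalization.val_add, map_add]
  commutes' k := by
    rw [Algebra.algebraMap_eq_smul_one, HomogeneousLocalization.val_smul,
      HomogeneousLocalization.val_one, ← Algebra.algebraMap_eq_smul_one, AlgHom.commutes]

variable {a b c} in
theorem iota_mk (ha : a ≠ 0) (hne : θ ≠ θ') (n : ℕ) (f : MvPolynomial (Fin 2) K)
    (hf : f ∈ 𝒜 (n • 2)) :
    iota ha hne (HomogeneousLocalization.Away.mk 𝒜 (quadForm_mem a b c) n f hf) *
      (C (α a) * T 1) ^ n = Phi a b c f := by
  show iotaLoc ha hne (HomogeneousLocalization.Away.mk 𝒜 (quadForm_mem a b c) n f hf).val * _ = _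
  rw [HomogeneousLocalization.Away.val_mk, Localization.mk_eq_mk', iotaLoc,
    IsLocalization.liftAlgHom_apply, ← Phi_quadForm ha hne, ← map_pow, mul_comm]
  exact ((IsLocalization.lift_mk'_spec _ _ _ _).mp rfl).symm

variable {a b c} in
theorem isUnit_CT (ha : a ≠ 0) (n : ℕ) : IsUnit ((C (α a) * T 1 : L[T;T⁻¹]) ^ n) :=
  (((IsUnit.mk0 _ (alpha_a_ne b c ha)).map C).mul (isUnit_T 1)).pow n

variable {a b c} in
theorem iota_injective (ha : a ≠ 0) (hne : θ ≠ θ') : Function.Injective (iota ha hne) := by
  rw [injective_iff_map_eq_zero]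
  intro z hz
  obtain ⟨n, f, hf, rfl⟩ := HomogeneousLocalization.Away.mk_surjective 𝒜 (quadForm_mem a b c) z
  have h1 := iota_mk ha hne n f hf
  rw [hz, zero_mul] at h1
  have h2 : f = 0 :=
    Phi_eq_zero hne ((MvPolynomial.mem_homogeneousSubmodule _ _).mp hf) h1.symm
  subst h2
  apply HomogeneousLocalization.val_injective
  rw [HomogeneousLocalization.Away.val_mk, HomogeneousLocalization.val_zero, Localization.mk_zero]

variable {a b c} in
theorem iota_tau (ha : a ≠ 0) (hne : θ ≠ θ') (z : R) :
    tau (conj b c ha) (iota ha hne z) = iota ha hne z := by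
  obtain ⟨n, f, hf, rfl⟩ := HomogeneousLocalization.Away.mk_surjective 𝒜 (quadForm_mem a b c) z
  have h1 := iota_mk ha hne n f hf
  set w := iota ha hne (HomogeneousLocalization.Away.mk 𝒜 (quadForm_mem a b c) n f hf) with hw
  have h2 := congrArg (tau (conj b c ha)) h1
  rw [tau_Phi ha ((MvPolynomial.mem_homogeneousSubmodule _ _).mp hf), map_mul, map_pow, map_mul,
    tau_C, tau_T, AlgHom.commutes, ← h1] at h2
  -- h2 : tau w * (C A * T (-1))^n = T (-(n•2)) * (w * (C A * T 1)^n)
  have hU : IsUnit ((C (α a) * T (-1) : L[T;T⁻¹]) ^ n) :=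
    (((IsUnit.mk0 _ (alpha_a_ne b c ha)).map C).mul (isUnit_T (-1))).pow n
  apply (hU.mul_left_inj).mp
  rw [h2, mul_pow, mul_pow, T_pow, T_pow]
  have hT : (T (-((n • 2 : ℕ) : ℤ)) : L[T;T⁻¹]) * T (n * 1) = T (n * (-1)) := by
    rw [← T_add]; congr 1; simp only [smul_eq_mul]; push_cast; ring
  linear_combination (w * C (α a) ^ n) * hT

omit hirr in
theorem mem_XX (i j : Fin 2) :
    (MvPolynomial.X i * MvPolynomial.X j : MvPolynomial (Fin 2) K) ∈ 𝒜 (1 • 2) :=
  (MvPolynomial.mem_homogeneousSubmodule _ _).mpr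
    ((MvPolynomial.isHomogeneous_X K i).mul (MvPolynomial.isHomogeneous_X K j))

/-- The degree-zero fraction `Xᵢ Xⱼ / q`. -/
noncomputable def zz (i j : Fin 2) : R :=
  HomogeneousLocalization.Away.mk 𝒜 (quadForm_mem a b c) 1
    (MvPolynomial.X i * MvPolynomial.X j) (mem_XX i j)

variable {a b c} in
theorem iota_zz (ha : a ≠ 0) (hne : θ ≠ θ') (i j : Fin 2) :
    iota ha hne (zz a b c i j) * (C (α a) * T 1) =
      Phi a b c (MvPolynomial.X i) * Phi a b c (MvPolynomial.X j) := by
  have := iota_mk ha hne 1 (MvPolynomial.X i * MvPolynomial.X j) (mem_XX i j)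
  rwa [pow_one, map_mul] at this

variable {a b c} in
theorem exists_T (ha : a ≠ 0) (hne : θ ≠ θ') :
    ∃ (c₀ c₁ c₂ : L) (r₀ r₁ r₂ : R),
      (T 1 : L[T;T⁻¹]) = C c₀ * iota ha hne r₀ + C c₁ * iota ha hne r₁ + C c₂ * iota ha hne r₂ := by
  refine ⟨α a, -(2 * α a * θ), α a * θ ^ 2, zz a b c 0 0, zz a b c 0 1, zz a b c 1 1, ?_⟩
  have hu : IsUnit (C (α a) * T 1 : L[T;T⁻¹]) := by simpa using isUnit_CT (b := b) (c := c) ha 1
  apply (hu.mul_left_inj).mp
  have e0 := iota_zz ha hne 0 0
  have e1 := iota_zz ha hne 0 1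
  have e2 := iota_zz ha hne 1 1
  have h1 := Phi_sub_th hne
  simp only [map_neg, map_mul, map_pow, map_ofNat]
  set x := Phi a b c (MvPolynomial.X 0)
  set y := Phi a b c (MvPolynomial.X 1)
  linear_combination (-(C (α a) : L[T;T⁻¹])) * e0 + 2 * C (α a) * C θ * e1
    - C (α a) * C θ ^ 2 * e2 - C (α a) * (T 1 + x - C θ * y) * h1

variable {a b c} in
theorem exists_T' (ha : a ≠ 0) (hne : θ ≠ θ') :
    ∃ (c₀ c₁ c₂ : L) (r₀ r₁ r₂ : R),
      (T (-1) : L[T;T⁻¹]) =
        C c₀ * iota ha hne r₀ + C c₁ * iota ha hne r₁ + C c₂ * iota ha hne r₂ := by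
  refine ⟨α a, -(2 * α a * θ'), α a * θ' ^ 2, zz a b c 0 0, zz a b c 0 1, zz a b c 1 1, ?_⟩
  have hu : IsUnit (C (α a) * T 1 : L[T;T⁻¹]) := by simpa using isUnit_CT (b := b) (c := c) ha 1
  apply (hu.mul_left_inj).mp
  have e0 := iota_zz ha hne 0 0
  have e1 := iota_zz ha hne 0 1
  have e2 := iota_zz ha hne 1 1
  have h1 := Phi_sub_th' hne
  have hTT : (T (-1) : L[T;T⁻¹]) * T 1 = 1 := by rw [← T_add, neg_add_cancel, T_zero]
  simp only [map_neg, map_mul, map_pow, map_ofNat]
  set x := Phi a b c (MvPolynomial.X 0)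
  set y := Phi a b c (MvPolynomial.X 1)
  linear_combination (-(C (α a) : L[T;T⁻¹])) * e0 + 2 * C (α a) * C θ' * e1
    - C (α a) * C θ' ^ 2 * e2 - C (α a) * (1 + x - C θ' * y) * h1 + C (α a) * hTT

variable {a b c} in
/-- The `LaurentAut.Setup` attached to an irreducible separable binary quadratic form. -/
noncomputable def setup (ha : a ≠ 0) (hne : th a b c ≠ th' a b c) : Setup K L R :=
  Setup.mk (th a b c) (th' a b c) hne (conj b c ha) (conj_th b c ha) (span_th a b c)
    (iota ha hne) (iota_injective ha hne) (iota_tau ha hne) (exists_T ha hne) (exists_T' ha hne)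

omit hirr in
/-- Main theorem for the explicit quadratic form. -/
theorem card_le_four_quadForm
    (hK : ∀ n : ℕ, 0 < n → (Polynomial.X ^ n - 1 : Polynomial K).Splits)
    (ha : a ≠ 0) (hirr' : Irreducible (quadPoly a b c)) (hdisc : b ^ 2 - 4 * a * c ≠ 0)
    (G : Subgroup (R ≃+* R)) [Finite G]
    (hG : ∀ g ∈ G, ∀ (k : K) (z : R), g (k • z) = k • g z) :
    (∀ g ∈ G, g ^ 2 = 1) ∧ Nat.card G ≤ 4 := by
  haveI : Fact (Irreducible (quadPoly a b c)) := ⟨hirr'⟩
  have hne := th_ne_th' b c ha hdisc
  let D := setup ha hne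
  let ρ : G →* (R ≃ₐ[K] R) :=
    { toFun := fun g => AlgEquiv.ofRingEquiv (f := (g : R ≃+* R)) (fun k => by
        rw [Algebra.algebraMap_eq_smul_one, hG g g.2, map_one])
      map_one' := by ext z; rfl
      map_mul' := fun g h => by ext z; rfl }
  have hρ : Function.Injective ρ := by
    intro g h hgh
    apply Subtype.ext
    apply RingEquiv.ext
    intro z
    exact congrArg (fun φ : R ≃ₐ[K] R => φ z) hgh
  obtain ⟨h1, h2⟩ := D.card_le_four hK ρ hρ
  refine ⟨fun g hg => ?_, h2⟩
  have := h1 ⟨g, hg⟩
  exact congrArg Subtype.val this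

end Away

section Reduction

variable {K : Type u} [Field K]

theorem homogenize_quadPoly (a b c : K) :
    (quadPoly a b c).homogenize 2 = quadForm a b c := by
  rw [quadPoly, quadForm, Polynomial.homogenize_add, Polynomial.homogenize_add,
    Polynomial.homogenize_C_mul, Polynomial.homogenize_C_mul, Polynomial.homogenize_C,
    Polynomial.homogenize_X_pow le_rfl, Polynomial.homogenize_X two_ne_zero]
  simp only [Nat.sub_self, pow_zero, mul_one, Nat.add_one_sub_one, pow_one]
  ring

/-- A binary quadratic form is determined by its three coefficients. -/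
theorem eq_quadForm {q : MvPolynomial (Fin 2) K} (hq : q.IsHomogeneous 2) :
    q = quadForm (q.coeff (Finsupp.single 0 2)) (q.coeff (Finsupp.single 0 1 + Finsupp.single 1 1))
      (q.coeff (Finsupp.single 1 2)) := by
  set q₁ : Polynomial K := MvPolynomial.aeval ![Polynomial.X, 1] q with hq₁
  have h1 : q₁.homogenize 2 = q := Polynomial.homogenize_eq_of_isHomogeneous hq rfl
  have hdeg : q₁.natDegree ≤ 2 := by
    have := MvPolynomial.aeval_natDegree_le (m := 2) (n := 1) q hq.totalDegree_le
      ![Polynomial.X, 1] (by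
        intro i
        fin_cases i
        · simp
        · simp)
    simpa using this
  have h2 : q₁ = quadPoly (q₁.coeff 2) (q₁.coeff 1) (q₁.coeff 0) :=
    Polynomial.eq_quadratic_of_degree_le_two (Polynomial.natDegree_le_iff_degree_le.mp hdeg)
  have c2 : q.coeff (Finsupp.single 0 2) = q₁.coeff 2 := by
    rw [← h1, Polynomial.coeff_homogenize]; simp
  have c1 : q.coeff (Finsupp.single 0 1 + Finsupp.single 1 1) = q₁.coeff 1 := by
    rw [← h1, Polynomial.coeff_homogenize]; simp
  have c0 : q.coeff (Finsupp.single 1 2) = q₁.coeff 0 := by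
    rw [← h1, Polynomial.coeff_homogenize]; simp
  rw [c2, c1, c0, ← homogenize_quadPoly, ← h2, h1]

theorem a_ne_zero_of_irreducible {a b c : K} (h : Irreducible (quadForm a b c)) : a ≠ 0 := by
  rintro rfl
  have hfac : quadForm 0 b c = MvPolynomial.X 1 *
      (MvPolynomial.C b * MvPolynomial.X 0 + MvPolynomial.C c * MvPolynomial.X 1) := by
    rw [quadForm]; simp only [map_zero, zero_mul, zero_add]; ring
  rw [hfac] at h
  have ev : MvPolynomial (Fin 2) K →+* K := MvPolynomial.eval (fun _ => (0 : K))
  rcases h.isUnit_or_isUnit rfl with hu | hu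
  · have := hu.map (MvPolynomial.eval (fun _ : Fin 2 => (0 : K)))
    simp at this
  · have := hu.map (MvPolynomial.eval (fun _ : Fin 2 => (0 : K)))
    simp at this

theorem irreducible_quadPoly {a b c : K} (h : Irreducible (quadForm a b c)) :
    Irreducible (quadPoly a b c) := by
  have ha := a_ne_zero_of_irreducible h
  have hdeg : (quadPoly a b c).natDegree = 2 := Polynomial.natDegree_quadratic ha
  have hne0 : quadPoly a b c ≠ 0 := by
    intro h0; rw [h0] at hdeg; simp at hdeg
  refine ⟨fun hu => ?_, fun u v huv => ?_⟩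
  · have := Polynomial.natDegree_eq_zero_of_isUnit hu
    omega
  · have hu0 : u ≠ 0 := by rintro rfl; rw [zero_mul] at huv; exact hne0 huv
    have hv0 : v ≠ 0 := by rintro rfl; rw [mul_zero] at huv; exact hne0 huv
    have hsum : u.natDegree + v.natDegree = 2 := by
      rw [← Polynomial.natDegree_mul hu0 hv0, ← huv, hdeg]
    have hfac : quadForm a b c = u.homogenize u.natDegree * v.homogenize v.natDegree := by
      rw [← Polynomial.homogenize_mul u v le_rfl le_rfl, ← huv, hsum, homogenize_quadPoly]
    rcases h.isUnit_or_isUnit hfac with hu | hv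
    · left
      have := hu.map (MvPolynomial.aeval (R := K) ![(Polynomial.X : Polynomial K), 1])
      rwa [Polynomial.aeval_homogenize_X_one u le_rfl] at this
    · right
      have := hv.map (MvPolynomial.aeval (R := K) ![(Polynomial.X : Polynomial K), 1])
      rwa [Polynomial.aeval_homogenize_X_one v le_rfl] at this

end Reduction

end Groth.Agent.Lib.ConicTorus
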