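import Groth.Prelude.Def_Conn
import Mathlib

/-!
# helper44: covariant derivatives `Conn.along ∇ θ` of Hom- and tensor-connections in components

Lemmas about `Conn.along`: Leibniz rule, the induced connection on `Hom` in components,
detection of elements of `N ⊗ Ω` by their components for a finite basis of `Ω`,
and the trace identity `tr [d, φ] = ∂ (tr φ)`.
-/

set_option autoImplicit false
universe v u
open TensorProduct

namespace Groth.Agent.Lib.ConnAlongH44

section

variable {A : Type v} {B Ω M M' : Type u} [CommRing A] [CommRing B] [Algebra A B]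
  [AddCommGroup Ω] [Module B Ω] [Module A Ω] [IsScalarTower A B Ω]
  [AddCommGroup M] [Module B M] [Module A M] [IsScalarTower A B M]
  [AddCommGroup M'] [Module B M'] [Module A M'] [IsScalarTower A B M']

omit [Module A Ω] [IsScalarTower A B Ω] [Module A M] [IsScalarTower A B M] [Module A M']
  [IsScalarTower A B M'] in
theorem rid_map_natural (φ : M →ₗ[B] M') (θ : Ω →ₗ[B] B) (z : M ⊗[B] Ω) :
    TensorProduct.rid B M'
        (TensorProduct.map LinearMap.id θ (TensorProduct.map φ LinearMap.id z)) =
      φ (TensorProduct.rid B M (TensorProduct.map LinearMap.id θ z)) := by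
  induction z using TensorProduct.induction_on with
  | zero => simp
  | tmul m ω => simp
  | add x y hx hy => simp only [map_add, hx, hy]

omit [IsScalarTower A B Ω] in
theorem along_smul (δ : Derivation A B Ω) (nabla : M →ₗ[A] M ⊗[B] Ω) (hc : Conn.IsConn δ nabla)
    (θ : Ω →ₗ[B] B) (b : B) (m : M) :
    Conn.along nabla θ (b • m) = b • Conn.along nabla θ m + θ (δ b) • m := by
  rw [Conn.along_apply, Conn.along_apply, hc b m, map_add, map_add, map_smul, map_smul,
    TensorProduct.map_tmul, TensorProduct.rid_tmul]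
  rfl

omit [Module A Ω] [IsScalarTower A B Ω] in
theorem along_hom (nabla : M →ₗ[A] M ⊗[B] Ω) (nabla' : M' →ₗ[A] M' ⊗[B] Ω)
    (nabla'' : (M →ₗ[B] M') →ₗ[A] (M →ₗ[B] M') ⊗[B] Ω)
    (h : Conn.IsHomConn nabla nabla' nabla'') (θ : Ω →ₗ[B] B) (φ : M →ₗ[B] M') (m : M) :
    Conn.along nabla'' θ φ m = Conn.along nabla' θ (φ m) - φ (Conn.along nabla θ m) := by
  have h1 := rid_map_natural (LinearMap.applyₗ m : (M →ₗ[B] M') →ₗ[B] M') θ (nabla'' φ)
  rw [h φ m, map_sub, map_sub, rid_map_natural] at h1
  exact h1.symm

end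


section Components

variable {B Ω N : Type u} [CommRing B] [AddCommGroup Ω] [Module B Ω] [AddCommGroup N] [Module B N]

/-- An element of `N ⊗ Ω` is the sum of its components along a finite basis of `Ω`. -/
theorem eq_sum_components {κ : Type*} [Fintype κ] [DecidableEq κ] (bΩ : Module.Basis κ B Ω)
    (x : N ⊗[B] Ω) :
    x = ∑ q, (TensorProduct.rid B N (TensorProduct.map LinearMap.id (bΩ.coord q) x)) ⊗ₜ[B] bΩ q := by
  induction x using TensorProduct.induction_on with
  | zero => simp
  | tmul n ω =>
    simp only [TensorProduct.map_tmul, LinearMap.id_coe, id_eq, TensorProduct.rid_tmul,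
      Module.Basis.coord_apply]
    simp only [TensorProduct.smul_tmul]
    rw [← TensorProduct.tmul_sum, bΩ.sum_repr]
  | add x y hx hy =>
    simp only [map_add, TensorProduct.add_tmul, Finset.sum_add_distrib]
    rw [← hx, ← hy]

/-- Elements of `N ⊗ Ω` are detected by their components along a finite basis of `Ω`. -/
theorem eq_of_components {κ : Type*} [Fintype κ] [DecidableEq κ] (bΩ : Module.Basis κ B Ω)
    (x y : N ⊗[B] Ω)
    (h : ∀ q, TensorProduct.rid B N (TensorProduct.map LinearMap.id (bΩ.coord q) x) =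
      TensorProduct.rid B N (TensorProduct.map LinearMap.id (bΩ.coord q) y)) :
    x = y := by
  rw [eq_sum_components bΩ x, eq_sum_components bΩ y]
  exact Finset.sum_congr rfl fun q _ => by rw [h q]

end Components

section Trace

variable {A : Type v} {B M : Type u} [CommRing A] [CommRing B] [Algebra A B]
  [AddCommGroup M] [Module B M] [Module A M] [IsScalarTower A B M]

omit [Algebra A B] [IsScalarTower A B M] in
/-- If `d` is an additive endomorphism of a finite free module `M` with
`d (x • m) = x • d m + ∂ x • m`, and `ψ = d ∘ φ - φ ∘ d` for `B`-linear `φ, ψ`, then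
`tr ψ = ∂ (tr φ)`. -/
theorem trace_comm_eq {ι : Type*} [Fintype ι] [DecidableEq ι] (b : Module.Basis ι B M)
    (d : M →ₗ[A] M) (D : B →+ B) (hd : ∀ (x : B) (m : M), d (x • m) = x • d m + D x • m)
    (φ ψ : M →ₗ[B] M) (hψ : ∀ m, ψ m = d (φ m) - φ (d m)) :
    LinearMap.trace B M ψ = D (LinearMap.trace B M φ) := by
  rw [LinearMap.trace_eq_matrix_trace B b ψ, LinearMap.trace_eq_matrix_trace B b φ]
  simp only [Matrix.trace, Matrix.diag, LinearMap.toMatrix_apply]
  rw [map_sum]
  have e1 : ∀ j, b.repr (d (φ (b j))) j =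
      ∑ i, b.repr (φ (b j)) i * b.repr (d (b i)) j + D (b.repr (φ (b j)) j) := by
    intro j
    conv_lhs => rw [← b.sum_repr (φ (b j))]
    rw [map_sum]
    simp only [hd, map_add, map_sum, map_smul, Finsupp.coe_finsetSum, Finsupp.coe_add,
      Finsupp.coe_smul, Finset.sum_apply, Pi.add_apply, Pi.smul_apply, smul_eq_mul,
      Finset.sum_add_distrib, Module.Basis.repr_self, Finsupp.single_apply, mul_ite, mul_one,
      mul_zero, Finset.sum_ite_eq', Finset.mem_univ, if_true]
  have e2 : ∀ j, b.repr (φ (d (b j))) j = ∑ i, b.repr (d (b j)) i * b.repr (φ (b i)) j := by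
    intro j
    conv_lhs => rw [← b.sum_repr (d (b j))]
    simp only [map_sum, map_smul, Finsupp.coe_finsetSum, Finsupp.coe_smul, Finset.sum_apply,
      Pi.smul_apply, smul_eq_mul]
  simp only [hψ, map_sub, Finsupp.coe_sub, Pi.sub_apply, e1, e2, Finset.sum_sub_distrib,
    Finset.sum_add_distrib]
  rw [Finset.sum_comm]
  simp only [mul_comm]
  abel

end Trace

end Groth.Agent.Lib.ConnAlongH44
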