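import Mathlib.Topology.Connected.Clopen
import Mathlib.Data.Set.Card

/-!
# Connected components are clopen when nonempty clopens meet a fixed finite set (helper45)
-/

set_option autoImplicit false

namespace Groth.Agent.Lib.ConnComp45

/-- If every nonempty clopen subset of `Z` meets a fixed finite set `F`, then all connected
components of `Z` are clopen. -/
theorem isClopen_connectedComponent_of_finite {Z : Type*} [TopologicalSpace Z] (F : Set Z)
    (hF : F.Finite) (h : ∀ K : Set Z, IsClopen K → K.Nonempty → (K ∩ F).Nonempty) (c : Z) :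
    IsClopen (connectedComponent c) := by
  classical
  have hex : ∃ n, ∃ K : Set Z, IsClopen K ∧ c ∈ K ∧ (K ∩ F).ncard = n :=
    ⟨_, Set.univ, isClopen_univ, trivial, rfl⟩
  obtain ⟨K, hK, hcK, hKn⟩ := Nat.find_spec hex
  have hmin : ∀ K' : Set Z, IsClopen K' → c ∈ K' → Nat.find hex ≤ (K' ∩ F).ncard :=
    fun K' h1 h2 => Nat.find_min' hex ⟨K', h1, h2, rfl⟩
  have hfinK : (K ∩ F).Finite := hF.subset Set.inter_subset_right
  have key : ∀ A B : Set Z, IsOpen A → IsOpen B → K ⊆ A ∪ B → K ∩ (A ∩ B) = ∅ → c ∈ A →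
      (K ∩ B) = ∅ := by
    intro A B hA hB hKAB hempty hcA
    by_contra hne
    have hK₁ : IsClopen (K ∩ A) := by
      refine ⟨?_, hK.isOpen.inter hA⟩
      have : K ∩ A = K ∩ Bᶜ := by
        ext z
        constructor
        · rintro ⟨hzK, hzA⟩
          refine ⟨hzK, fun hzB => ?_⟩
          have : z ∈ K ∩ (A ∩ B) := ⟨hzK, hzA, hzB⟩
          rw [hempty] at this
          exact this
        · rintro ⟨hzK, hzB⟩
          rcases hKAB hzK with h' | h'
          · exact ⟨hzK, h'⟩
          · exact absurd h' hzB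
      rw [this]
      exact hK.isClosed.inter hB.isClosed_compl
    have hK₂ : IsClopen (K ∩ B) := by
      refine ⟨?_, hK.isOpen.inter hB⟩
      have : K ∩ B = K ∩ Aᶜ := by
        ext z
        constructor
        · rintro ⟨hzK, hzB⟩
          refine ⟨hzK, fun hzA => ?_⟩
          have : z ∈ K ∩ (A ∩ B) := ⟨hzK, hzA, hzB⟩
          rw [hempty] at this
          exact this
        · rintro ⟨hzK, hzA⟩
          rcases hKAB hzK with h' | h'
          · exact absurd h' hzA
          · exact ⟨hzK, h'⟩
      rw [this]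
      exact hK.isClosed.inter hA.isClosed_compl
    obtain ⟨z, ⟨hzK, hzB⟩, hzF⟩ := h _ hK₂ (Set.nonempty_iff_ne_empty.mpr hne)
    have hss : K ∩ A ∩ F ⊂ K ∩ F := by
      refine ⟨fun w hw => ⟨hw.1.1, hw.2⟩, fun hsub => ?_⟩
      have hz : z ∈ K ∩ A ∩ F := hsub ⟨hzK, hzF⟩
      have : z ∈ K ∩ (A ∩ B) := ⟨hzK, hz.1.2, hzB⟩
      rw [hempty] at this
      exact this
    have h1 := Set.ncard_lt_ncard hss hfinK
    have h2 := hmin (K ∩ A) hK₁ ⟨hcK, hcA⟩
    omega
  have hpre : IsPreconnected K := by
    intro A B hA hB hKAB hKA hKB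
    by_contra hne
    have hempty : K ∩ (A ∩ B) = ∅ := Set.not_nonempty_iff_eq_empty.mp hne
    rcases hKAB hcK with hcA | hcB
    · have := key A B hA hB hKAB hempty hcA
      rw [this] at hKB
      exact Set.not_nonempty_empty hKB
    · have := key B A hB hA (by rwa [Set.union_comm]) (by rwa [Set.inter_comm B A]) hcB
      rw [this] at hKA
      exact Set.not_nonempty_empty hKA
  have heq : connectedComponent c = K :=
    Set.Subset.antisymm (hK.connectedComponent_subset hcK) (hpre.subset_connectedComponent hcK)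
  rw [heq]
  exact hK

end Groth.Agent.Lib.ConnComp45
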