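import Groth.Agent.Lib.ConnFib5C
import Groth.Agent.Lib.FormalFn13
import Groth.Agent.Lib.H14QFCompl
import Groth.Agent.Lib.NoethTop
import Mathlib.RingTheory.Henselian
import Mathlib.AlgebraicGeometry.PullbackCarrier

/-!
# Connected components of a proper scheme over a complete Noetherian ring (helper51)

For `A` Noetherian and `I`-adically complete, `X` proper over `A` and `X₀ = X ×_A A/I`, the map
`π₀(X₀) → π₀(X)` is bijective.  Hypothesis form: `Hyp` (= S0002) and `Hyp58` (= S0058), using
helper5's `ConnFib5.exists_separating_function`.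
-/

set_option autoImplicit false
universe u

open CategoryTheory CategoryTheory.Limits AlgebraicGeometry TopologicalSpace Opposite

namespace Groth.Agent.Lib.ConnComp51

section Top

variable {X₀ X : Type*} [TopologicalSpace X₀] [TopologicalSpace X]

/-- A continuous map of Noetherian spaces along which clopen sets extend, and whose range meets
every nonempty clopen set, induces a bijection on connected components. -/
theorem bijective_connectedComponentsMap [NoetherianSpace X₀] [NoetherianSpace X]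
    {ι : X₀ → X} (hι : Continuous ι)
    (hext : ∀ V : Set X₀, IsClopen V → ∃ U : Set X, IsClopen U ∧ ι ⁻¹' U = V)
    (hmeet : ∀ U : Set X, IsClopen U → U.Nonempty → (U ∩ Set.range ι).Nonempty) :
    Function.Bijective hι.connectedComponentsMap := by
  have hopen₀ : ∀ x : X₀, IsClopen (connectedComponent x) := fun x =>
    ⟨isClosed_connectedComponent, Groth.Agent.Lib.NoethTop.isOpen_connectedComponent_of_finite
      NoetherianSpace.finite_irreducibleComponents x⟩
  have hopen : ∀ x : X, IsClopen (connectedComponent x) := fun x =>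
    ⟨isClosed_connectedComponent, Groth.Agent.Lib.NoethTop.isOpen_connectedComponent_of_finite
      NoetherianSpace.finite_irreducibleComponents x⟩
  constructor
  · intro c₁ c₂ h
    obtain ⟨x₁, rfl⟩ := ConnectedComponents.surjective_coe c₁
    obtain ⟨x₂, rfl⟩ := ConnectedComponents.surjective_coe c₂
    change (ι x₁ : ConnectedComponents X) = (ι x₂ : ConnectedComponents X) at h
    rw [ConnectedComponents.coe_eq_coe] at h
    obtain ⟨U, hU, hUV⟩ := hext _ (hopen₀ x₁)
    have h1 : ι x₁ ∈ U := by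
      have : x₁ ∈ ι ⁻¹' U := by rw [hUV]; exact mem_connectedComponent
      exact this
    have h2 : connectedComponent (ι x₁) ⊆ U := hU.connectedComponent_subset h1
    have h3 : ι x₂ ∈ U := h2 (by rw [h]; exact mem_connectedComponent)
    have h4 : x₂ ∈ connectedComponent x₁ := by rw [← hUV]; exact h3
    exact (ConnectedComponents.coe_eq_coe'.mpr h4).symm
  · intro c
    obtain ⟨x, rfl⟩ := ConnectedComponents.surjective_coe c
    obtain ⟨_, hy, ⟨x₀, rfl⟩⟩ := hmeet _ (hopen x) ⟨x, mem_connectedComponent⟩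
    refine ⟨(x₀ : ConnectedComponents X₀), ?_⟩
    change (ι x₀ : ConnectedComponents X) = (x : ConnectedComponents X)
    exact ConnectedComponents.coe_eq_coe'.mpr hy

end Top

section Surj

open Groth.Agent.Lib.ConnFib5

/-- For a quasi-compact scheme, if `X ⟶ Spec Γ(X, O_X)` is a closed map then it is surjective. -/
theorem toSpecΓ_surjective (X : Scheme.{u}) [CompactSpace X]
    (hcl : IsClosedMap X.toSpecΓ) : Function.Surjective X.toSpecΓ := by
  intro P
  by_contra hP
  have hPr : P ∈ (Set.range X.toSpecΓ)ᶜ := fun ⟨z, hz⟩ => hP ⟨z, hz⟩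
  have hopen : IsOpen (Set.range X.toSpecΓ)ᶜ := hcl.isClosed_range.isOpen_compl
  obtain ⟨t, ⟨s, hs⟩, hPt, hsub⟩ :=
    PrimeSpectrum.isTopologicalBasis_basic_opens.exists_subset_of_mem_open hPr hopen
  have hPs : s ∉ P.asIdeal := by rw [← hs] at hPt; exact hPt
  have hbot : X.basicOpen s = ⊥ := by
    rw [eq_bot_iff]
    intro z hz
    rw [mem_basicOpen_iff_toSpecΓ] at hz
    exact (hsub (by rw [← hs]; exact hz) ⟨z, rfl⟩).elim
  have hnil : IsNilpotent s := (Scheme.isNilpotent_iff_basicOpen_eq_bot s).mpr hbot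
  obtain ⟨n, hn⟩ := hnil
  have : s ∈ P.asIdeal := P.isPrime.mem_of_pow_mem n (by rw [hn]; exact P.asIdeal.zero_mem)
  exact hPs this

end Surj

section Idem

open Groth.Agent.Lib.ConnFib5 Groth.Agent.Lib.ProperFinHyp Polynomial

variable {A : Type u} [CommRing A] [IsNoetherianRing A] (I : Ideal A) [IsAdicComplete I A]
  {X : Scheme.{u}} (f : X ⟶ Spec (CommRingCat.of A)) [IsProper f]

/-- **Lifting a clopen decomposition of the closed fibre to an idempotent.** -/
theorem exists_idempotent (H2 : Hyp.{u}) (H58 : Hyp58.{u})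
    (T₁ T₂ : Set X) (h₁ : IsClosed T₁) (h₂ : IsClosed T₂) (hd : Disjoint T₁ T₂)
    (hu : letI : X.Over (Spec (CommRingCat.of A)) := ⟨f⟩; T₁ ∪ T₂ = zeroLocus X I) :
    ∃ e : Γ(X, ⊤), IsIdempotentElem e ∧ (∀ z ∈ T₁, z ∈ X.basicOpen e) ∧
      (∀ z ∈ T₂, z ∉ X.basicOpen e) := by
  letI : X.Over (Spec (CommRingCat.of A)) := ⟨f⟩
  haveI : IsProper (X ↘ Spec (CommRingCat.of A)) := ‹IsProper f›
  obtain ⟨b, hb₁, hb₂⟩ := exists_separating_function I T₁ T₂ h₁ h₂ hd hu H58
  -- algebra structure
  set φ : A →+* Γ(X, ⊤) :=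
    (f.appTop).hom.comp (Scheme.ΓSpecIso (CommRingCat.of A)).inv.hom with hφ
  have hfn : ∀ a : A, fn X a = φ a := fun a => rfl
  letI : Algebra A Γ(X, ⊤) := φ.toAlgebra
  have hfin0 := Groth.Agent.Lib.SteinFin5.finite_appTop_of_hyp H2 A X f
  haveI : Module.Finite A Γ(X, ⊤) := by
    have h1 : φ.Finite := by
      refine RingHom.Finite.comp hfin0 ?_
      exact RingHom.Finite.of_surjective _
        (ConcreteCategory.bijective_of_isIso (Scheme.ΓSpecIso (CommRingCat.of A)).inv).2
    exact h1
  haveI : IsNoetherianRing Γ(X, ⊤) := IsNoetherianRing.of_finite A Γ(X, ⊤)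
  set IB : Ideal Γ(X, ⊤) := I.map (algebraMap A Γ(X, ⊤)) with hIB
  haveI : IsAdicComplete IB Γ(X, ⊤) :=
    (IsAdicComplete.map_algebraMap_iff I Γ(X, ⊤)).mpr
      (Groth.Agent.Lib.FormalFn13.isAdicComplete_of_finite I Γ(X, ⊤))
  set J : Ideal Γ(X, ⊤) := IB.radical with hJ
  obtain ⟨N, hN⟩ := Ideal.exists_radical_pow_le_of_fg IB (IsNoetherian.noetherian _)
  haveI : IsAdicComplete J Γ(X, ⊤) :=
    Groth.Agent.Lib.H14QFCompl.isAdicComplete_of_le_of_pow_le IB J Γ(X, ⊤) Ideal.le_radical N hN
  -- `toSpecΓ` is surjective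
  haveI : IsProper X.toSpecΓ := by
    have : IsProper (X.toSpecΓ ≫ Spec.map f.appTop) := by
      rw [← Scheme.toSpecΓ_naturality]
      infer_instance
    exact IsProper.of_comp X.toSpecΓ (Spec.map f.appTop)
  haveI : CompactSpace X := QuasiCompact.compactSpace_of_compactSpace f
  have hsurj : Function.Surjective X.toSpecΓ :=
    toSpecΓ_surjective X (X.toSpecΓ.isClosedMap)
  -- points over primes containing `IB` lie in the zero locus
  have hzl : ∀ z : X, IB ≤ (X.toSpecΓ z).asIdeal → z ∈ zeroLocus X I := by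
    intro z hz a ha
    rw [hfn, mem_basicOpen_iff_toSpecΓ, not_not]
    exact hz (Ideal.mem_map_of_mem _ ha)
  have hzl' : ∀ z ∈ zeroLocus X I, J ≤ (X.toSpecΓ z).asIdeal := by
    intro z hz
    rw [hJ, (X.toSpecΓ z).isPrime.radical_le_iff, hIB, Ideal.map_le_iff_le_comap]
    intro a ha
    have := hz a ha
    rw [hfn, mem_basicOpen_iff_toSpecΓ, not_not] at this
    exact this
  -- `b (1 - b)` lies in the radical of `IB`
  have hc : b * (1 - b) ∈ J := by
    rw [hJ, Ideal.radical_eq_sInf, Ideal.mem_sInf]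
    rintro P ⟨hP1, hP2⟩
    obtain ⟨z, hz⟩ := hsurj ⟨P, hP2⟩
    have hzP : (X.toSpecΓ z).asIdeal = P := by rw [hz]
    have hzT : z ∈ T₁ ∪ T₂ := by
      rw [hu]
      exact hzl z (by rw [hzP]; exact hP1)
    rcases hzT with hz1 | hz2
    · have := hb₁ z hz1
      rw [mem_basicOpen_iff_toSpecΓ, not_not, hzP] at this
      exact P.mul_mem_left _ this
    · have := hb₂ z hz2
      rw [mem_basicOpen_iff_toSpecΓ, not_not, hzP] at this
      exact P.mul_mem_right _ this
  -- Hensel
  have hmonic : (Polynomial.X ^ 2 - Polynomial.X : Polynomial Γ(X, ⊤)).Monic := by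
    apply Polynomial.monic_X_pow_sub
    exact Polynomial.degree_X_le.trans_lt (by norm_num)
  have hev : (Polynomial.X ^ 2 - Polynomial.X : Polynomial Γ(X, ⊤)).eval b ∈ J := by
    have : (Polynomial.X ^ 2 - Polynomial.X : Polynomial Γ(X, ⊤)).eval b = -(b * (1 - b)) := by
      simp only [eval_sub, eval_pow, eval_X]; ring
    rw [this]
    exact J.neg_mem hc
  have hder : IsUnit (Ideal.Quotient.mk J ((Polynomial.X ^ 2 - Polynomial.X : Polynomial Γ(X, ⊤)).derivative.eval b)) := by
    have h1 : (Polynomial.X ^ 2 - Polynomial.X : Polynomial Γ(X, ⊤)).derivative.eval b = 2 * b - 1 := by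
      simp
      ring
    rw [h1]
    have h2 : Ideal.Quotient.mk J (2 * b - 1) * Ideal.Quotient.mk J (2 * b - 1) = 1 := by
      rw [← map_mul, ← map_one (Ideal.Quotient.mk J), Ideal.Quotient.eq]
      have : (2 * b - 1) * (2 * b - 1) - 1 = -(4 * (b * (1 - b))) := by ring
      rw [this]
      exact J.neg_mem (J.mul_mem_left _ hc)
    exact IsUnit.of_mul_eq_one _ h2
  obtain ⟨e, heroot, heb⟩ := HenselianRing.is_henselian (I := J) _ hmonic b hev hder
  have hidem : IsIdempotentElem e := by
    have : e ^ 2 - e = 0 := by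
      have := heroot
      simpa [Polynomial.IsRoot] using this
    change e * e = e
    rw [← sub_eq_zero, ← this]; ring
  refine ⟨e, hidem, ?_, ?_⟩
  · intro z hz
    have hzZ : z ∈ zeroLocus X I := by rw [← hu]; exact Or.inl hz
    have h1 := hb₁ z hz
    rw [mem_basicOpen_iff_toSpecΓ, not_not] at h1
    rw [mem_basicOpen_iff_toSpecΓ]
    intro he
    have h2 : e - b ∈ (X.toSpecΓ z).asIdeal := hzl' z hzZ heb
    have : (1 : Γ(X, ⊤)) ∈ (X.toSpecΓ z).asIdeal := by
      have h3 := (X.toSpecΓ z).asIdeal.add_mem ((X.toSpecΓ z).asIdeal.sub_mem he h2) h1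
      have : e - (e - b) + (1 - b) = 1 := by ring
      rwa [this] at h3
    exact (X.toSpecΓ z).isPrime.ne_top ((Ideal.eq_top_iff_one _).mpr this)
  · intro z hz
    have hzZ : z ∈ zeroLocus X I := by rw [← hu]; exact Or.inr hz
    have h1 := hb₂ z hz
    rw [mem_basicOpen_iff_toSpecΓ, not_not] at h1
    rw [mem_basicOpen_iff_toSpecΓ, not_not]
    have h2 : e - b ∈ (X.toSpecΓ z).asIdeal := hzl' z hzZ heb
    have h3 := (X.toSpecΓ z).asIdeal.add_mem h2 h1
    rwa [sub_add_cancel] at h3

end Idem

section Main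

open Groth.Agent.Lib.ConnFib5 Groth.Agent.Lib.ProperFinHyp

variable {A : Type u} [CommRing A] [IsNoetherianRing A] (I : Ideal A) [IsAdicComplete I A]
  {X : Scheme.{u}} (f : X ⟶ Spec (CommRingCat.of A)) [IsProper f]

theorem mem_basicOpen_fn_iff {A : Type u} [CommRing A] {X : Scheme.{u}}
    (f : X ⟶ Spec (CommRingCat.of A)) (a : A) (z : X) :
    letI : X.Over (Spec (CommRingCat.of A)) := ⟨f⟩
    z ∈ X.basicOpen (fn X a) ↔ a ∉ (f z).asIdeal := by
  letI : X.Over (Spec (CommRingCat.of A)) := ⟨f⟩
  have h1 : X.basicOpen (fn X a) =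
      f ⁻¹ᵁ (Spec (CommRingCat.of A)).basicOpen
        ((Scheme.ΓSpecIso (CommRingCat.of A)).inv (a : CommRingCat.of A)) :=
    (Scheme.preimage_basicOpen_top f _).symm
  rw [h1, basicOpen_eq_of_affine]
  rfl

/-- The range of `X ×_A A/I ⟶ X` is the zero locus of `I O_X`. -/
theorem range_fst_eq_zeroLocus {A : Type u} [CommRing A] (I : Ideal A)
    {X : Scheme.{u}} (f : X ⟶ Spec (CommRingCat.of A)) :
    letI : X.Over (Spec (CommRingCat.of A)) := ⟨f⟩
    Set.range (pullback.fst f (Spec.map (CommRingCat.ofHom (Ideal.Quotient.mk I)))) =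
      zeroLocus X I := by
  letI : X.Over (Spec (CommRingCat.of A)) := ⟨f⟩
  rw [Scheme.Pullback.range_fst]
  ext z
  have hr : Set.range (Spec.map (CommRingCat.ofHom (Ideal.Quotient.mk I))) =
      PrimeSpectrum.zeroLocus (I : Set A) := by
    have := _root_.range_comap_of_surjective (A ⧸ I) (Ideal.Quotient.mk I)
      Ideal.Quotient.mk_surjective
    rw [Ideal.mk_ker] at this
    exact this
  have hmem : f z ∈ PrimeSpectrum.zeroLocus (I : Set A) ↔ (I : Set A) ⊆ (f z).asIdeal :=
    PrimeSpectrum.mem_zeroLocus _ _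
  rw [Set.mem_preimage, hr]
  refine hmem.trans ?_
  have key : ∀ a : A, z ∈ X.basicOpen (fn X a) ↔ a ∉ (f z).asIdeal :=
    fun a => mem_basicOpen_fn_iff f a z
  constructor
  · intro h a ha
    rw [key, not_not]
    exact h ha
  · intro h a ha
    have := h a ha
    rwa [key, not_not] at this

/-- **Connected components of a proper scheme over a complete Noetherian ring** (hypothesis
form). -/
theorem bijective_connectedComponentsMap_fst (H2 : Hyp.{u}) (H58 : Hyp58.{u}) :
    Function.Bijective
      (Continuous.connectedComponentsMap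
        (pullback.fst f (Spec.map (CommRingCat.ofHom (Ideal.Quotient.mk I)))).continuous) := by
  letI : X.Over (Spec (CommRingCat.of A)) := ⟨f⟩
  set ι := pullback.fst f (Spec.map (CommRingCat.ofHom (Ideal.Quotient.mk I))) with hι
  haveI : IsClosedImmersion (Spec.map (CommRingCat.ofHom (Ideal.Quotient.mk I))) :=
    IsClosedImmersion.spec_of_surjective _ Ideal.Quotient.mk_surjective
  haveI : IsClosedImmersion ι := by rw [hι]; infer_instance
  have hemb : Topology.IsClosedEmbedding ι := ι.isClosedEmbedding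
  have hrange : Set.range ι = zeroLocus X I := range_fst_eq_zeroLocus I f
  haveI : IsLocallyNoetherian X := LocallyOfFiniteType.isLocallyNoetherian f
  haveI : CompactSpace X := QuasiCompact.compactSpace_of_compactSpace f
  haveI : IsNoetherian X := ⟨⟩
  haveI : NoetherianSpace
      ↥(pullback f (Spec.map (CommRingCat.ofHom (Ideal.Quotient.mk I))) : Scheme.{u}) :=
    hemb.isInducing.noetherianSpace
  apply bijective_connectedComponentsMap
  · -- extension of clopen sets
    intro V hV
    have hT₁ : IsClosed (ι '' V) := hemb.isClosedMap _ hV.1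
    have hT₂ : IsClosed (ι '' Vᶜ) := hemb.isClosedMap _ hV.2.isClosed_compl
    have hd : Disjoint (ι '' V) (ι '' Vᶜ) :=
      (Set.disjoint_image_iff hemb.injective).mpr disjoint_compl_right
    have hu : ι '' V ∪ ι '' Vᶜ = zeroLocus X I := by
      rw [← Set.image_union, Set.union_compl_self, Set.image_univ, hrange]
    obtain ⟨e, he, he₁, he₂⟩ := exists_idempotent I f H2 H58 _ _ hT₁ hT₂ hd hu
    refine ⟨(X.basicOpen e : Set X), ⟨?_, (X.basicOpen e).2⟩, ?_⟩
    · -- closed: complement is `basicOpen (1 - e)`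
      have hcompl : ((X.basicOpen e : X.Opens) : Set X) =
          ((X.basicOpen (1 - e) : X.Opens) : Set X)ᶜ := by
        ext z
        simp only [SetLike.mem_coe, Set.mem_compl_iff]
        rw [mem_basicOpen_iff_toSpecΓ, mem_basicOpen_iff_toSpecΓ, not_not]
        constructor
        · intro h1
          have h0 : e * (1 - e) ∈ (X.toSpecΓ z).asIdeal := by
            have : e * (1 - e) = 0 := by
              rw [mul_sub, mul_one, he.eq, sub_self]
            rw [this]; exact Ideal.zero_mem _
          exact ((X.toSpecΓ z).isPrime.mem_or_mem h0).resolve_left h1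
        · intro h1 h2
          have := (X.toSpecΓ z).asIdeal.add_mem h2 h1
          rw [add_sub_cancel] at this
          exact (X.toSpecΓ z).isPrime.ne_top ((Ideal.eq_top_iff_one _).mpr this)
      rw [hcompl]
      exact (X.basicOpen (1 - e)).2.isClosed_compl
    · ext x
      simp only [Set.mem_preimage, SetLike.mem_coe]
      constructor
      · intro hx
        by_contra hxV
        exact he₂ (ι x) ⟨x, hxV, rfl⟩ hx
      · intro hx
        exact he₁ (ι x) ⟨x, hx, rfl⟩
  · -- every nonempty clopen subset meets the closed fibre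
    intro U hU hne
    have hcl : IsClosed (f '' U) := f.isClosedMap _ hU.1
    obtain ⟨z₀, hz₀⟩ := hne
    -- a closed point in the closure of `f z₀`
    obtain ⟨m, hm, hle⟩ := Ideal.exists_le_maximal (f z₀).asIdeal (f z₀).isPrime.ne_top
    let y : PrimeSpectrum A := ⟨m, hm.isPrime⟩
    have hspec : (f z₀ : Spec (CommRingCat.of A)) ⤳ y :=
      (PrimeSpectrum.le_iff_specializes (f z₀) y).mp hle
    have hy : y ∈ f '' U := hspec.mem_closed hcl ⟨z₀, hz₀, rfl⟩
    obtain ⟨z, hzU, hzy⟩ := hy
    refine ⟨z, hzU, ?_⟩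
    rw [hrange]
    intro a ha
    have hjac : I ≤ (⊥ : Ideal A).jacobson := IsAdicComplete.le_jacobson_bot I
    have ham : a ∈ m := by
      have := hjac ha
      rw [Ideal.jacobson, Ideal.mem_sInf] at this
      exact this ⟨bot_le, hm⟩
    rw [mem_basicOpen_fn_iff f a z, not_not, hzy]
    exact ham

end Main

end Groth.Agent.Lib.ConnComp51
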