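import Groth.Agent.Lib.QCohStalk
import Groth.Agent.Lib.CohFormal
import Groth.Agent.Lib.H4H0Nat
import Groth.Agent.Lib.ModStalkCoker
import Groth.Agent.Lib.StructureModuleStalk
import Groth.Agent.Lib.H78GlobGen

/-!
# Zariski connectedness, part A (helper5): gluing of two sections, vanishing of `M / I^n M`
away from the zero locus of `I`, and the stalk of `O_X / I O_X` on the zero locus.
-/

set_option autoImplicit false
universe u

open CategoryTheory CategoryTheory.Limits AlgebraicGeometry TopologicalSpace Opposite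

namespace Groth.Agent.Lib.ConnFib5

open Groth.Agent.Lib.QCohStalk Groth.Agent.Lib.StructureModule
  Groth.Agent.Lib.StructureModuleStalk Groth.Agent.Lib.ModStalkLin Groth.Agent.Lib.ModStalk

section Glue

variable {X : Scheme.{u}}

/-- Gluing two sections of an `O_X`-module agreeing on the overlap. -/
theorem exists_glue₂ (F : X.Modules) (W₁ W₂ : X.Opens) (hW : W₁ ⊔ W₂ = ⊤)
    (s₁ : Γ(F, W₁)) (s₂ : Γ(F, W₂))
    (h : res F (inf_le_left : W₁ ⊓ W₂ ≤ W₁) s₁ = res F (inf_le_right : W₁ ⊓ W₂ ≤ W₂) s₂) :
    ∃ s : Γ(F, ⊤), res F (le_top : W₁ ≤ ⊤) s = s₁ ∧ res F (le_top : W₂ ≤ ⊤) s = s₂ := by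
  let Uι : Bool → X.Opens := fun b => cond b W₁ W₂
  let sf : ∀ b : Bool, Γ(F, Uι b) := fun b => match b with
    | true => s₁
    | false => s₂
  have hcompat : TopCat.Presheaf.IsCompatible F.presheaf Uι sf := by
    intro i j
    cases i <;> cases j
    · rfl
    · change res F (inf_le_left : W₂ ⊓ W₁ ≤ W₂) s₂ = res F (inf_le_right : W₂ ⊓ W₁ ≤ W₁) s₁
      have e : W₂ ⊓ W₁ = W₁ ⊓ W₂ := inf_comm _ _
      have h1 : res F (inf_le_left : W₂ ⊓ W₁ ≤ W₂) s₂ =
          res F e.le (res F (inf_le_right : W₁ ⊓ W₂ ≤ W₂) s₂) := by rw [res_res]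
      have h2 : res F (inf_le_right : W₂ ⊓ W₁ ≤ W₁) s₁ =
          res F e.le (res F (inf_le_left : W₁ ⊓ W₂ ≤ W₁) s₁) := by rw [res_res]
      rw [h1, h2, h]
    · exact h
    · rfl
  have hcover : (⊤ : X.Opens) ≤ iSup Uι := by
    rw [← hW]
    refine sup_le ?_ ?_
    · exact le_iSup Uι true
    · exact le_iSup Uι false
  obtain ⟨z, hz, -⟩ := TopCat.Sheaf.existsUnique_gluing' (⟨F.presheaf, F.isSheaf⟩ :
    TopCat.Sheaf AddCommGrpCat X) Uι ⊤ (fun i => homOfLE le_top) hcover sf hcompat
  exact ⟨z, hz true, hz false⟩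

/-- A section of an `O_X`-module is determined by its restrictions to two opens covering `X`. -/
theorem eq_of_res_eq₂ (F : X.Modules) (W₁ W₂ : X.Opens) (hW : W₁ ⊔ W₂ = ⊤)
    (s t : Γ(F, ⊤)) (h₁ : res F (le_top : W₁ ≤ ⊤) s = res F (le_top : W₁ ≤ ⊤) t)
    (h₂ : res F (le_top : W₂ ≤ ⊤) s = res F (le_top : W₂ ≤ ⊤) t) : s = t := by
  apply TopCat.Presheaf.section_ext (⟨F.presheaf, F.isSheaf⟩ : TopCat.Sheaf AddCommGrpCat X) ⊤
  intro x hx
  have hx' : x ∈ W₁ ⊔ W₂ := by rw [hW]; trivial
  rcases hx' with hx1 | hx2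
  · have := congrArg (F.presheaf.germ W₁ x hx1) h₁
    rw [germ_res, germ_res] at this
    exact this
  · have := congrArg (F.presheaf.germ W₂ x hx2) h₂
    rw [germ_res, germ_res] at this
    exact this

/-- Naturality of the components of a morphism of modules with respect to restriction. -/
theorem app_res {M N : X.Modules} (φ : M ⟶ N) {V U : X.Opens} (h : V ≤ U) (s : Γ(M, U)) :
    φ.app V (res M h s) = res N h (φ.app U s) := by
  have := φ.mapPresheaf.naturality (homOfLE h).op
  exact congr($this s)

end Glue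

section Formal

open Formal

variable {A : Type u} [CommRing A] {X : Scheme.{u}} [X.Over (Spec (CommRingCat.of A))]

/-- The global function on `X` attached to `a : A`. -/
noncomputable abbrev fn (X : Scheme.{u}) [X.Over (Spec (CommRingCat.of A))] (a : A) : Γ(X, ⊤) :=
  Coh.toGlobal (X ↘ Spec (CommRingCat.of A)) a

/-- The zero locus of `I O_X` (the preimage of `V(I)`). -/
def zeroLocus (X : Scheme.{u}) [X.Over (Spec (CommRingCat.of A))] (I : Ideal A) : Set X :=
  {z | ∀ a ∈ I, z ∉ X.basicOpen (fn X a)}

theorem isClosed_zeroLocus (I : Ideal A) : IsClosed (zeroLocus X I) := by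
  have : zeroLocus X I = ⋂ a ∈ I, ((X.basicOpen (fn X a) : X.Opens) : Set X)ᶜ := by
    ext z
    simp [zeroLocus]
  rw [this]
  exact isClosed_biInter fun a _ => (X.basicOpen (fn X a)).2.isClosed_compl

theorem smulMod_comp_modPowπ (I : Ideal A) (n : ℕ) (M : X.Modules) {a : A} (ha : a ∈ I ^ n) :
    smulMod A M a ≫ modPowπ I n M = 0 := by
  have e : Sigma.ι (fun _ : ↥(I ^ n) => M) ⟨a, ha⟩ ≫ smulFamily (I ^ n) M = smulMod A M a := by
    simp [smulFamily]
  rw [← e, Category.assoc]
  change _ ≫ smulFamily (I ^ n) M ≫ cokernel.π (smulFamily (I ^ n) M) = 0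
  rw [cokernel.condition, comp_zero]

theorem modPowπ_app_eq_zero_of_le_basicOpen (I : Ideal A) (n : ℕ) (M : X.Modules) {a : A}
    (ha : a ∈ I) (U : X.Opens) (hU : U ≤ X.basicOpen (fn X a)) (m : Γ(M, U)) :
    (modPowπ I n M).app U m = 0 := by
  have hunit : IsUnit (X.presheaf.map (homOfLE (le_top (a := U))).op (fn X (a ^ n))) := by
    have h1 : IsUnit (X.presheaf.map (homOfLE (X.basicOpen_le (fn X a))).op (fn X a)) :=
      RingedSpace.isUnit_res_basicOpen X.toRingedSpace (fn X a)
    have h2 : X.presheaf.map (homOfLE (le_top (a := U))).op (fn X a) =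
        X.presheaf.map (homOfLE hU).op
          (X.presheaf.map (homOfLE (X.basicOpen_le (fn X a))).op (fn X a)) := by
      rw [← ConcreteCategory.comp_apply, ← Functor.map_comp]
      rfl
    have h3 : fn X (a ^ n) = fn X a ^ n := map_pow _ a n
    rw [h3, map_pow, h2]
    exact (h1.map _).pow n
  obtain ⟨r, hr⟩ := hunit
  have hm : m = (smulMod A M (a ^ n)).app U ((↑r⁻¹ : Γ(X, U)) • m) := by
    change m = (smulModΓ M (fn X (a ^ n))).app U _
    rw [smulModΓ_app, ← hr, ← mul_smul, Units.mul_inv, one_smul]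
  have key : (smulMod A M (a ^ n) ≫ modPowπ I n M).app U ((↑r⁻¹ : Γ(X, U)) • m) = 0 := by
    rw [smulMod_comp_modPowπ I n M (Ideal.pow_mem_pow ha n)]
    rfl
  rw [hm]
  exact key

/-- `M / I^n M` has no nonzero sections over opens disjoint from the zero locus of `I`. -/
theorem modPowπ_app_eq_zero_of_disjoint (I : Ideal A) (n : ℕ) (M : X.Modules) (U : X.Opens)
    (hU : ∀ z ∈ U, z ∉ zeroLocus X I) (m : Γ(M, U)) : (modPowπ I n M).app U m = 0 := by
  apply TopCat.Presheaf.section_ext (⟨(modPow I n M).presheaf, (modPow I n M).isSheaf⟩ :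
    TopCat.Sheaf AddCommGrpCat X) U
  intro x hx
  have hx' := hU x hx
  simp only [zeroLocus, Set.mem_ofPred_eq, not_forall, not_not] at hx'
  obtain ⟨a, ha, hxa⟩ := hx'
  have hxV : x ∈ U ⊓ X.basicOpen (fn X a) := ⟨hx, hxa⟩
  have h0 := modPowπ_app_eq_zero_of_le_basicOpen I n M ha (U ⊓ X.basicOpen (fn X a)) inf_le_right
    (res M inf_le_left m)
  rw [app_res] at h0
  have h1 := congrArg ((modPow I n M).presheaf.germ (U ⊓ X.basicOpen (fn X a)) x hxV) h0
  rw [germ_res] at h1
  rw [h1, map_zero, map_zero]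

/-- The projection `M ⟶ M / I^(k+1) M`, with codomain the `k`-th term of the completion system. -/
noncomputable def πc (I : Ideal A) (M : X.Modules) (k : ℕ) : M ⟶ (completion I M).obj (op k) :=
  modPowπ I (k + 1) M

/-- Compatibility of the projections with the transition maps of the completion system. -/
theorem πc_map (I : Ideal A) (M : X.Modules) {n k : ℕ} (h : n ≤ k) :
    πc I M k ≫ (completion I M).map (homOfLE h).op = πc I M n := by
  induction k, h using Nat.le_induction with
  | base =>
    have : (homOfLE (le_refl n)).op = 𝟙 (op n) := rfl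
    rw [this, CategoryTheory.Functor.map_id, Category.comp_id]
  | succ k h ih =>
    have e : (homOfLE (h.trans (Nat.le_succ k))).op =
        (homOfLE (Nat.le_add_right k 1)).op ≫ (homOfLE h).op := rfl
    rw [e, CategoryTheory.Functor.map_comp, ← Category.assoc]
    have e2 : (completion I M).map (homOfLE (Nat.le_add_right k 1)).op = modPowTrans I (k + 1) M :=
      Functor.ofOpSequence_map_homOfLE_succ _ k
    have e3 : πc I M (k + 1) ≫ (completion I M).map (homOfLE (Nat.le_add_right k 1)).op =
        πc I M k := by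
      rw [e2]
      exact modPowπ_trans I (k + 1) M
    rw [e3, ih]

section Stalk

variable (I : Ideal A) (z : X)

/-- The residue map on the stalk of the structure module. -/
noncomputable def resid : (Coh.structureModule X).presheaf.stalk z →+
    IsLocalRing.ResidueField (X.presheaf.stalk z) :=
  (IsLocalRing.residue (X.presheaf.stalk z)).toAddMonoidHom.comp
    (stalkEquiv z).symm.toLinearMap.toAddMonoidHom

theorem resid_smul (r : X.presheaf.stalk z) (ξ : (Coh.structureModule X).presheaf.stalk z) :
    resid z (r • ξ) = IsLocalRing.residue _ r * resid z ξ := by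
  change IsLocalRing.residue _ ((stalkEquiv z).symm (r • ξ)) = _
  rw [map_smul, smul_eq_mul, map_mul]
  rfl

theorem resid_germ_toSec (W : X.Opens) (hz : z ∈ W) (s : Γ(X, W)) :
    resid z ((Coh.structureModule X).presheaf.germ W z hz (toSec W s)) =
      IsLocalRing.residue _ (X.presheaf.germ W z hz s) := by
  change IsLocalRing.residue _ ((stalkEquiv z).symm _) = _
  rw [← stalkEquiv_germ, LinearEquiv.symm_apply_apply]

variable {z}

theorem resid_stalkFun_smulMod {a : A} (ha : z ∉ X.basicOpen (fn X a))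
    (ξ : (Coh.structureModule X).presheaf.stalk z) :
    resid z (stalkFun (smulMod A (Coh.structureModule X) a) z ξ) = 0 := by
  obtain ⟨U, hzU, m, rfl⟩ := TopCat.Presheaf.exists_germ_eq (Coh.structureModule X).presheaf ξ
  rw [stalkFun_germ]
  change resid z ((Coh.structureModule X).presheaf.germ U z hzU
    ((smulModΓ (Coh.structureModule X) (fn X a)).app U m)) = 0
  rw [smulModΓ_app, germ_smul, resid_smul]
  have hnu : ¬ IsUnit (X.presheaf.germ U z hzU
      (X.presheaf.map (homOfLE (le_top (a := U))).op (fn X a))) := by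
    intro hu
    apply ha
    rw [Scheme.mem_basicOpen X (fn X a) z trivial]
    have := TopCat.Presheaf.germ_res_apply X.presheaf (homOfLE (le_top (a := U))) z hzU (fn X a)
    rw [this] at hu
    exact hu
  have : IsLocalRing.residue _ (X.presheaf.germ U z hzU
      (X.presheaf.map (homOfLE (le_top (a := U))).op (fn X a))) = 0 := by
    rw [IsLocalRing.residue_eq_zero_iff]
    exact (IsLocalRing.mem_maximalIdeal _).mpr hnu
  rw [this, zero_mul]

theorem resid_stalkFun_smulFamily {J : Ideal A} (hJ : ∀ a ∈ J, z ∉ X.basicOpen (fn X a))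
    (t : (∐ fun _ : J => Coh.structureModule X).presheaf.stalk z) :
    resid z (stalkFun (smulFamily J (Coh.structureModule X)) z t) = 0 := by
  have key : (stalkFunctor z).map (smulFamily J (Coh.structureModule X)) ≫
      AddCommGrpCat.ofHom (resid z) = 0 := by
    apply (isColimitOfPreserves (stalkFunctor z)
      (coproductIsCoproduct (fun _ : J => Coh.structureModule X))).hom_ext
    rintro ⟨a⟩
    have e : Sigma.ι (fun _ : J => Coh.structureModule X) a ≫
        smulFamily J (Coh.structureModule X) = smulMod A (Coh.structureModule X) (a : A) := by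
      simp [smulFamily]
    have key2 : ∀ ξ : (Coh.structureModule X).presheaf.stalk z,
        resid z (stalkLin (smulFamily J (Coh.structureModule X)) z
          (stalkLin (Sigma.ι (fun _ : J => Coh.structureModule X) a) z ξ)) = 0 := by
      intro ξ
      rw [← LinearMap.comp_apply, ← stalkLin_comp, e]
      exact resid_stalkFun_smulMod (hJ a a.2) ξ
    ext ξ
    exact key2 ξ
  exact congr($key t)

/-- On the zero locus of `I`, a function whose class in `O_X / I^n O_X` vanishes near `z` lies in the
maximal ideal of the local ring at `z`. -/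
theorem not_isUnit_germ_of_modPowπ_app_eq_zero {n : ℕ} (hn : n ≠ 0) (hz : z ∈ zeroLocus X I)
    (W : X.Opens) (hzW : z ∈ W) (s : Γ(X, W))
    (h : (modPowπ I n (Coh.structureModule X)).app W (toSec W s) = 0) :
    ¬ IsUnit (X.presheaf.germ W z hzW s) := by
  have h1 : stalkLin (cokernel.π (smulFamily (I ^ n) (Coh.structureModule X))) z
      ((Coh.structureModule X).presheaf.germ W z hzW (toSec W s)) = 0 := by
    rw [stalkLin_germ]
    change (modPow I n (Coh.structureModule X)).presheaf.germ W z hzW
      ((modPowπ I n (Coh.structureModule X)).app W (toSec W s)) = 0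
    rw [h, map_zero]
  obtain ⟨t, ht⟩ := (Groth.Agent.Lib.ModStalkCoker.stalkLin_cokernel_exact
    (smulFamily (I ^ n) (Coh.structureModule X)) z _).mp h1
  have h2 := resid_stalkFun_smulFamily (J := I ^ n)
    (fun a ha => hz a (Ideal.pow_le_self hn ha)) t
  change resid z (stalkLin (smulFamily (I ^ n) (Coh.structureModule X)) z t) = 0 at h2
  rw [ht, resid_germ_toSec, IsLocalRing.residue_eq_zero_iff] at h2
  exact (IsLocalRing.mem_maximalIdeal _).mp h2

end Stalk

end Formal

end Groth.Agent.Lib.ConnFib5
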