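import Groth.Agent.Lib.ConnFib5A
import Groth.Agent.Lib.H90InvertibleFP

/-!
# Zariski connectedness, part B (helper5): separating functions from the Mittag-Leffler form of the
theorem on formal functions (statement of S0058 as hypothesis `Hyp58`).
-/

set_option autoImplicit false
universe u

open CategoryTheory CategoryTheory.Limits AlgebraicGeometry TopologicalSpace Opposite

namespace Groth.Agent.Lib.ConnFib5

open Groth.Agent.Lib.QCohStalk Groth.Agent.Lib.StructureModule
  Groth.Agent.Lib.StructureModuleStalk Groth.Agent.Lib.ModStalkLin Groth.Agent.Lib.ModStalk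
  Groth.Agent.Lib.H4Twist Formal

/-- Verbatim the statement of S0058 (Mittag-Leffler form of the theorem on formal functions). -/
def Hyp58 : Prop :=
  ∀ (A : Type u) [CommRing A] [IsNoetherianRing A]
    (I : Ideal A) (X : Scheme.{u}) [X.Over (Spec (CommRingCat.of A))]
    [IsProper (X ↘ Spec (CommRingCat.of A))] (M : X.Modules) (_ : Coh.IsCoh M) (p : ℕ),
    ∃ c : ℕ, ∀ (n k : ℕ) (h : n ≤ k), n + c ≤ k →
      Set.range (Sheaf.H.map ((SheafOfModules.toSheaf X.ringCatSheaf).map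
        ((Formal.completion I M).map (homOfLE h).op)) p) = Set.range (Formal.toHHmodPow I M p n)

variable {A : Type u} [CommRing A] {X : Scheme.{u}} [X.Over (Spec (CommRingCat.of A))]

theorem res_toSec {V U : X.Opens} (h : V ≤ U) (s : Γ(X, U)) :
    res (Coh.structureModule X) h (toSec U s) = toSec V (X.presheaf.map (homOfLE h).op s) := rfl

section Core

variable (I : Ideal A) (T₁ T₂ : Set X) (h₁ : IsClosed T₁) (h₂ : IsClosed T₂)
  (hd : Disjoint T₁ T₂) (hu : T₁ ∪ T₂ = zeroLocus X I)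

/-- the open complement of a closed set -/
def opn (T : Set X) (h : IsClosed T) : X.Opens := ⟨Tᶜ, h.isOpen_compl⟩

include hd in
theorem opn_sup : opn T₂ h₂ ⊔ opn T₁ h₁ = ⊤ := by
  ext z
  simp only [opn, Opens.coe_sup, Opens.coe_mk, Set.mem_union, Set.mem_compl_iff, Opens.coe_top,
    Set.mem_univ, iff_true]
  by_contra hc
  push Not at hc
  exact Set.disjoint_left.mp hd hc.2 hc.1

include hu in
theorem not_mem_zeroLocus_of_mem_inf (z : X) (hz : z ∈ opn T₂ h₂ ⊓ opn T₁ h₁) :
    z ∉ zeroLocus X I := by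
  rw [← hu]
  rintro (h | h)
  · exact hz.2 h
  · exact hz.1 h

include hd hu in
/-- The idempotent section `e_k` of `O_X / I^(k+1) O_X`: `1` near `T₁`, `0` near `T₂`. -/
theorem exists_idem (k : ℕ) :
    ∃ e : Γ((completion I (Coh.structureModule X)).obj (op k), ⊤),
      res _ (le_top : opn T₂ h₂ ≤ ⊤) e =
        res _ (le_top : opn T₂ h₂ ≤ ⊤) ((πc I (Coh.structureModule X) k).app ⊤ (toSec ⊤ 1)) ∧
      res _ (le_top : opn T₁ h₁ ≤ ⊤) e = 0 := by
  apply exists_glue₂ _ (opn T₂ h₂) (opn T₁ h₁) (opn_sup T₁ T₂ h₁ h₂ hd)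
  rw [res_res, ← app_res, res_zero]
  exact modPowπ_app_eq_zero_of_disjoint I (k + 1) (Coh.structureModule X) _
    (not_mem_zeroLocus_of_mem_inf I T₁ T₂ h₁ h₂ hu) _

include hd in
theorem mem_opn_of_mem_left {z : X} (hz : z ∈ T₁) : z ∈ opn T₂ h₂ :=
  fun h => Set.disjoint_left.mp hd hz h

include hd in
theorem mem_opn_of_mem_right {z : X} (hz : z ∈ T₂) : z ∈ opn T₁ h₁ :=
  fun h => Set.disjoint_left.mp hd h hz

include h₁ h₂ hd hu in
/-- **Separating functions.** Under the Mittag-Leffler form of the theorem on formal functions, a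
decomposition of the zero locus of `I O_X` into two disjoint closed subsets is induced by a global
function `b`: `b ≡ 1` on `T₁`, `b ≡ 0` on `T₂` (in the residue fields). -/
theorem exists_separating_function (H : Hyp58.{u}) [IsNoetherianRing A]
    [IsProper (X ↘ Spec (CommRingCat.of A))] :
    ∃ b : Γ(X, ⊤), (∀ z ∈ T₁, z ∉ X.basicOpen (1 - b)) ∧ (∀ z ∈ T₂, z ∉ X.basicOpen b) := by
  set O := Coh.structureModule X with hO
  have hcoh : Coh.IsCoh O := Groth.Agent.Lib.H90Invertible.isCoh_of_isInvertible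
    (Groth.Agent.Lib.H90Invertible.isInvertible_structureModule X)
  choose e he₁ he₂ using exists_idem I T₁ T₂ h₁ h₂ hd hu
  obtain ⟨c, hc⟩ := H A I X O hcoh 0
  have hrange := hc 0 c (Nat.zero_le c) (by simp)
  -- the transition map
  set τ := (completion I O).map (homOfLE (Nat.zero_le c)).op with hτ
  have hτe : τ.app ⊤ (e c) = e 0 := by
    apply eq_of_res_eq₂ _ (opn T₂ h₂) (opn T₁ h₁) (opn_sup T₁ T₂ h₁ h₂ hd)
    · rw [← app_res, he₁, he₁, app_res]
      congr 1
      have := πc_map I O (Nat.zero_le c)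
      exact congr(($this).app ⊤ (toSec ⊤ 1))
    · rw [← app_res, he₂, he₂]
      exact map_zero _
  -- use the hypothesis
  have hmem : Sheaf.H.map ((SheafOfModules.toSheaf X.ringCatSheaf).map τ) 0
      ((h0Equiv ((completion I O).obj (op c))).symm (e c)) ∈
      Set.range (Formal.toHHmodPow I O 0 0) := by
    rw [← hrange]
    exact ⟨_, rfl⟩
  obtain ⟨y, hy⟩ := hmem
  have hb : (πc I O 0).app ⊤ (h0Equiv O y) = e 0 := by
    have h1 := h0Equiv_map (πc I O 0) y
    have h2 := h0Equiv_map τ ((h0Equiv ((completion I O).obj (op c))).symm (e c))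
    rw [AddEquiv.apply_symm_apply, hτe] at h2
    rw [← h1, ← h2]
    congr 1
  set e0 : Γ(modPow I 1 O, ⊤) := e 0 with he0
  have hb' : (modPowπ I 1 O).app ⊤ (h0Equiv O y) = e0 := hb
  have he₁0 : res (modPow I 1 O) (le_top : opn T₂ h₂ ≤ ⊤) e0 =
      res (modPow I 1 O) (le_top : opn T₂ h₂ ≤ ⊤) ((modPowπ I 1 O).app ⊤ (toSec ⊤ 1)) := he₁ 0
  have he₂0 : res (modPow I 1 O) (le_top : opn T₁ h₁ ≤ ⊤) e0 = 0 := he₂ 0
  refine ⟨(show Γ(X, ⊤) from h0Equiv O y), ?_, ?_⟩
  · intro z hz
    have hzW : z ∈ opn T₂ h₂ := mem_opn_of_mem_left T₁ T₂ h₂ hd hz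
    have hzT : z ∈ zeroLocus X I := by rw [← hu]; exact Or.inl hz
    have key : (modPowπ I 1 O).app (opn T₂ h₂) (toSec (opn T₂ h₂)
        (X.presheaf.map (homOfLE (le_top : opn T₂ h₂ ≤ ⊤)).op
          (1 - (show Γ(X, ⊤) from h0Equiv O y)))) = 0 := by
      rw [← res_toSec]
      have : toSec (⊤ : X.Opens) (1 - (show Γ(X, ⊤) from h0Equiv O y)) =
          toSec ⊤ 1 - h0Equiv O y := rfl
      rw [this, app_res, map_sub]
      rw [hb']
      have : res (modPow I 1 O) (le_top : opn T₂ h₂ ≤ ⊤)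
          ((modPowπ I 1 O).app ⊤ (toSec ⊤ 1) - e0) =
          res (modPow I 1 O) (le_top : opn T₂ h₂ ≤ ⊤) ((modPowπ I 1 O).app ⊤ (toSec ⊤ 1)) -
          res (modPow I 1 O) (le_top : opn T₂ h₂ ≤ ⊤) e0 := map_sub _ _ _
      rw [this, sub_eq_zero]
      exact he₁0.symm
    have hnu := not_isUnit_germ_of_modPowπ_app_eq_zero I one_ne_zero hzT (opn T₂ h₂) hzW _ key
    rw [Scheme.mem_basicOpen X _ z (Opens.mem_top z)]
    intro hu'
    apply hnu
    rw [TopCat.Presheaf.germ_res_apply]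
    exact hu'
  · intro z hz
    have hzW : z ∈ opn T₁ h₁ := mem_opn_of_mem_right T₁ T₂ h₁ hd hz
    have hzT : z ∈ zeroLocus X I := by rw [← hu]; exact Or.inr hz
    have key : (modPowπ I 1 O).app (opn T₁ h₁) (toSec (opn T₁ h₁)
        (X.presheaf.map (homOfLE (le_top : opn T₁ h₁ ≤ ⊤)).op
          (show Γ(X, ⊤) from h0Equiv O y))) = 0 := by
      rw [← res_toSec]
      have : toSec (⊤ : X.Opens) (show Γ(X, ⊤) from h0Equiv O y) = h0Equiv O y := rfl
      rw [this, app_res]
      rw [hb']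
      exact he₂0
    have hnu := not_isUnit_germ_of_modPowπ_app_eq_zero I one_ne_zero hzT (opn T₁ h₁) hzW _ key
    rw [Scheme.mem_basicOpen X _ z (Opens.mem_top z)]
    intro hu'
    apply hnu
    rw [TopCat.Presheaf.germ_res_apply]
    exact hu'

end Core

end Groth.Agent.Lib.ConnFib5
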