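import Groth.Agent.Lib.ProperFinHyp
import Groth.Agent.Lib.H4TwistGamma
import Groth.Agent.Lib.H90InvertibleFP
import Mathlib.AlgebraicGeometry.Normalization
import Mathlib.AlgebraicGeometry.Morphisms.Finite

/-!
# Stein factorisation, Noetherian case: the relative normalisation of a proper morphism is finite
(helper5; K2 consumer of S0002 in hypothesis form)

* `finite_appTop_of_hyp` : `X` proper over `Spec A`, `A` Noetherian ⇒ `Γ(Spec A) → Γ(X, O_X)` finite
  (from `ProperFinHyp.Hyp`, degree `0`).
* `finite_app_of_hyp` : `f : X ⟶ S` proper, `S` locally Noetherian, `U` affine open ⇒ `f.app U` finite.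
* `isFinite_fromNormalization_of_hyp` : the statement of S1297 from `Hyp`.
-/

set_option autoImplicit false
set_option linter.style.haveILetI false
universe u

open CategoryTheory CategoryTheory.Limits AlgebraicGeometry TopologicalSpace Opposite

namespace Groth.Agent.Lib.SteinFin5

open Groth.Agent.Lib.ProperFinHyp

/-- From the finiteness theorem in degree `0`: global functions of a proper `A`-scheme form a
finite `A`-algebra. -/
theorem finite_appTop_of_hyp (H : Hyp.{u}) (A : Type u) [CommRing A] [IsNoetherianRing A]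
    (X : Scheme.{u}) (g : X ⟶ Spec (CommRingCat.of A)) [IsProper g] : (g.appTop).hom.Finite := by
  letI : X.Over (Spec (CommRingCat.of A)) := ⟨g⟩
  haveI : IsProper (X ↘ Spec (CommRingCat.of A)) := ‹IsProper g›
  have hcoh : Coh.IsCoh (Coh.structureModule X) :=
    Groth.Agent.Lib.H90Invertible.isCoh_of_isInvertible
      (Groth.Agent.Lib.H90Invertible.isInvertible_structureModule X)
  have hfin : Module.Finite A (Coh.HH X (Coh.structureModule X) 0) := H A X _ hcoh 0
  letI : Algebra Γ(Spec (CommRingCat.of A), ⊤) Γ(X, ⊤) := (g.appTop).hom.toAlgebra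
  show Module.Finite Γ(Spec (CommRingCat.of A), ⊤) Γ(X, ⊤)
  let σ : A →+* Γ(Spec (CommRingCat.of A), ⊤) := (Scheme.ΓSpecIso (CommRingCat.of A)).inv.hom
  haveI : RingHomSurjective σ :=
    ⟨(ConcreteCategory.bijective_of_isIso (Scheme.ΓSpecIso (CommRingCat.of A)).inv).2⟩
  let e := Groth.Agent.Lib.H4Twist.h0Equiv (Coh.structureModule X)
  let φ : Coh.HH X (Coh.structureModule X) 0 →ₛₗ[σ] Γ(X, ⊤) :=
    { toFun := fun x => e x
      map_add' := fun x y => map_add e x y
      map_smul' := fun a x => by
        have h1 : a • x = (Coh.toGlobal (X ↘ Spec (CommRingCat.of A)) a) • x := rfl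
        rw [h1, Groth.Agent.Lib.H4Twist.h0Equiv_smul]
        rfl }
  exact Module.Finite.of_surjective φ e.surjective

set_option backward.isDefEq.respectTransparency false in
/-- `f : X ⟶ S` proper, `S` locally Noetherian: over an affine open `U` of `S`, the ring
`Γ(X, f⁻¹U)` is a finite `Γ(S, U)`-algebra. -/
theorem finite_app_of_hyp (H : Hyp.{u}) {X S : Scheme.{u}} (f : X ⟶ S) [IsProper f]
    [IsLocallyNoetherian S] {U : S.Opens} (hU : IsAffineOpen U) : (f.app U).hom.Finite := by
  haveI : IsNoetherianRing Γ(S, U) := IsLocallyNoetherian.component_noetherian ⟨U, hU⟩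
  haveI : IsProper (f ∣_ U) := IsZariskiLocalAtTarget.restrict ‹IsProper f› U
  let g : (f ⁻¹ᵁ U).toScheme ⟶ Spec (CommRingCat.of Γ(S, U)) := (f ∣_ U) ≫ hU.isoSpec.hom
  haveI : IsProper g := inferInstance
  have h := finite_appTop_of_hyp H Γ(S, U) _ g
  haveI : IsIso (Scheme.Hom.appTop hU.isoSpec.hom) :=
    inferInstanceAs (IsIso (hU.isoSpec.hom.app ⊤))
  rw [Scheme.Hom.comp_appTop, CommRingCat.hom_comp,
    RingHom.finite_respectsIso.cancel_left_isIso] at h
  rw [morphismRestrict_appTop, CommRingCat.hom_comp,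
    RingHom.finite_respectsIso.cancel_right_isIso] at h
  have h' : (f.app (U.ι ''ᵁ ⊤)).hom.Finite := h
  rw [Scheme.Opens.ι_image_top] at h'
  exact h'

set_option backward.isDefEq.respectTransparency false in
/-- **Stein factorisation, Noetherian case** (statement of S1297, from the finiteness theorem):
the relative normalisation of a proper morphism to a locally Noetherian scheme is finite. -/
theorem isFinite_fromNormalization_of_hyp (H : Hyp.{u}) {X S : Scheme.{u}} (f : X ⟶ S) [IsProper f]
    [IsLocallyNoetherian S] : IsFinite f.fromNormalization := by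
  rw [isFinite_iff]
  refine ⟨inferInstance, fun U hU => ?_⟩
  rw [Scheme.Hom.fromNormalization_app f hU, CommRingCat.hom_comp,
    RingHom.finite_respectsIso.cancel_right_isIso]
  letI := (f.app U).hom.toAlgebra
  have hfin : Module.Finite Γ(S, U) Γ(X, f ⁻¹ᵁ U) := finite_app_of_hyp H f hU
  haveI : IsNoetherianRing Γ(S, U) := IsLocallyNoetherian.component_noetherian ⟨U, hU⟩
  haveI : IsNoetherian Γ(S, U) Γ(X, f ⁻¹ᵁ U) := isNoetherian_of_isNoetherianRing_of_finite _ _
  show (algebraMap Γ(S, U) (integralClosure Γ(S, U) Γ(X, f ⁻¹ᵁ U))).Finite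
  exact RingHom.finite_algebraMap.mpr
    (Module.Finite.of_injective (integralClosure Γ(S, U) Γ(X, f ⁻¹ᵁ U)).val.toLinearMap
      Subtype.val_injective)

end Groth.Agent.Lib.SteinFin5
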