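import Groth.Agent.Lib.ConnFib5B
import Groth.Agent.Lib.SteinFin5

/-!
# Zariski connectedness, part C (helper5): fibres of `X ⟶ Spec Γ(X, O_X)` over maximal ideals are
connected, for `X` proper over a Noetherian ring (hypothesis form).
-/

set_option autoImplicit false
universe u

open CategoryTheory CategoryTheory.Limits AlgebraicGeometry TopologicalSpace Opposite

namespace Groth.Agent.Lib.ConnFib5

open Groth.Agent.Lib.ProperFinHyp

section

variable (X : Scheme.{u})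

/-- `X` as a scheme over `Spec Γ(X, O_X)`. -/
noncomputable abbrev overΓ : X.Over (Spec (CommRingCat.of Γ(X, ⊤))) := ⟨X.toSpecΓ⟩

theorem fn_overΓ (b : Γ(X, ⊤)) :
    letI := overΓ X
    fn X b = b := by
  letI := overΓ X
  change (X.toSpecΓ.appTop).hom ((Scheme.ΓSpecIso (CommRingCat.of Γ(X, ⊤))).inv.hom b) = b
  rw [Scheme.toSpecΓ_appTop]
  exact congr($((Scheme.ΓSpecIso (CommRingCat.of Γ(X, ⊤))).inv_hom_id) b)

theorem mem_basicOpen_iff_toSpecΓ (b : Γ(X, ⊤)) (z : X) :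
    z ∈ X.basicOpen b ↔ b ∉ (X.toSpecΓ z).asIdeal := by
  rw [← Scheme.toSpecΓ_preimage_basicOpen]
  rfl

theorem zeroLocus_overΓ (n : Ideal Γ(X, ⊤)) [hn : n.IsMaximal] :
    letI := overΓ X
    zeroLocus X n = X.toSpecΓ ⁻¹' {⟨n, hn.isPrime⟩} := by
  letI := overΓ X
  ext z
  simp only [zeroLocus, Set.mem_ofPred_eq, Set.mem_preimage, Set.mem_singleton_iff]
  constructor
  · intro h
    have hle : n ≤ (X.toSpecΓ z).asIdeal := by
      intro b hb
      have := h b hb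
      rw [fn_overΓ, mem_basicOpen_iff_toSpecΓ, not_not] at this
      exact this
    have := hn.eq_of_le (X.toSpecΓ z).isPrime.ne_top hle
    exact PrimeSpectrum.ext this.symm
  · intro h b hb
    rw [fn_overΓ, mem_basicOpen_iff_toSpecΓ, not_not, h]
    exact hb

end

/-- **Connectedness of the fibres of the Stein factor.** For `X` proper over a Noetherian ring, the
fibre of `X ⟶ Spec Γ(X, O_X)` over every maximal ideal is preconnected. -/
theorem isPreconnected_toSpecΓ_preimage (H2 : Hyp.{u}) (H58 : Hyp58.{u}) (A : Type u) [CommRing A]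
    [IsNoetherianRing A] (X : Scheme.{u}) (g : X ⟶ Spec (CommRingCat.of A)) [IsProper g]
    (n : Ideal Γ(X, ⊤)) [hn : n.IsMaximal] :
    _root_.IsPreconnected (X.toSpecΓ ⁻¹' {⟨n, hn.isPrime⟩}) := by
  have hfin := Groth.Agent.Lib.SteinFin5.finite_appTop_of_hyp H2 A X g
  haveI : IsNoetherianRing Γ(Spec (CommRingCat.of A), ⊤) :=
    isNoetherianRing_of_ringEquiv A
      (Scheme.ΓSpecIso (CommRingCat.of A)).symm.commRingCatIsoToRingEquiv
  letI : Algebra Γ(Spec (CommRingCat.of A), ⊤) Γ(X, ⊤) := (g.appTop).hom.toAlgebra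
  haveI : Module.Finite Γ(Spec (CommRingCat.of A), ⊤) Γ(X, ⊤) := hfin
  haveI : IsNoetherianRing Γ(X, ⊤) :=
    IsNoetherianRing.of_finite Γ(Spec (CommRingCat.of A), ⊤) Γ(X, ⊤)
  haveI : IsProper X.toSpecΓ := by
    have : IsProper (X.toSpecΓ ≫ Spec.map g.appTop) := by
      rw [← Scheme.toSpecΓ_naturality]
      infer_instance
    exact IsProper.of_comp X.toSpecΓ (Spec.map g.appTop)
  letI := overΓ X
  haveI : IsProper (X ↘ Spec (CommRingCat.of Γ(X, ⊤))) := ‹IsProper X.toSpecΓ›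
  set T : Set X := X.toSpecΓ ⁻¹' {⟨n, hn.isPrime⟩} with hTdef
  have hT : IsClosed T := by
    have : IsClosed ({⟨n, hn.isPrime⟩} : Set (PrimeSpectrum Γ(X, ⊤))) :=
      (PrimeSpectrum.isClosed_singleton_iff_isMaximal _).mpr hn
    exact this.preimage X.toSpecΓ.continuous
  rw [isPreconnected_closed_iff]
  intro F₁ F₂ hF₁ hF₂ hsub hne₁ hne₂
  by_contra hemp
  have hdisj : Disjoint (T ∩ F₁) (T ∩ F₂) := by
    rw [Set.disjoint_left]
    intro z hz1 hz2
    exact hemp ⟨z, hz1.1, hz1.2, hz2.2⟩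
  have hunion : (T ∩ F₁) ∪ (T ∩ F₂) = zeroLocus X n := by
    rw [zeroLocus_overΓ X n, ← Set.inter_union_distrib_left]
    exact Set.inter_eq_left.mpr hsub
  obtain ⟨b, hb₁, hb₂⟩ := exists_separating_function n (T ∩ F₁) (T ∩ F₂) (hT.inter hF₁)
    (hT.inter hF₂) hdisj hunion H58
  obtain ⟨z₁, hz₁T, hz₁F⟩ := hne₁
  obtain ⟨z₂, hz₂T, hz₂F⟩ := hne₂
  have h1 : 1 - b ∈ n := by
    have := hb₁ z₁ ⟨hz₁T, hz₁F⟩
    rw [mem_basicOpen_iff_toSpecΓ, not_not] at this
    have e : X.toSpecΓ z₁ = ⟨n, hn.isPrime⟩ := hz₁T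
    rw [e] at this
    exact this
  have h2 : b ∈ n := by
    have := hb₂ z₂ ⟨hz₂T, hz₂F⟩
    rw [mem_basicOpen_iff_toSpecΓ, not_not] at this
    have e : X.toSpecΓ z₂ = ⟨n, hn.isPrime⟩ := hz₂T
    rw [e] at this
    exact this
  apply hn.ne_top
  rw [Ideal.eq_top_iff_one]
  have := n.add_mem h1 h2
  rwa [sub_add_cancel] at this

end Groth.Agent.Lib.ConnFib5
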