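import Groth.Agent.Lib.ConnFib5C

/-!
# Zariski connectedness, part D (helper5): proper schemes over a Noetherian local ring:
the closed fibre is connected when `Γ(X, O_X) = A`; in general its connected components are
controlled by the maximal ideals of `Γ(X, O_X)` (hypothesis form).
-/

set_option autoImplicit false
universe u

open CategoryTheory CategoryTheory.Limits AlgebraicGeometry TopologicalSpace Opposite

namespace Groth.Agent.Lib.ConnFib5

open Groth.Agent.Lib.ProperFinHyp

section Local

variable (A : Type u) [CommRing A] [IsLocalRing A] (X : Scheme.{u})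
  (g : X ⟶ Spec (CommRingCat.of A))

/-- In the spectrum of a local ring, the closed point is the only point whose singleton is
closed. -/
theorem eq_closedPoint_iff (x : PrimeSpectrum A) :
    x = IsLocalRing.closedPoint A ↔ IsClosed ({x} : Set (PrimeSpectrum A)) := by
  rw [PrimeSpectrum.isClosed_singleton_iff_isMaximal]
  constructor
  · rintro rfl
    exact IsLocalRing.maximalIdeal.isMaximal A
  · intro h
    exact PrimeSpectrum.ext (IsLocalRing.eq_maximalIdeal h)

variable {A X}

/-- If `Γ(X, O_X) = A` (local), the fibre of `g` over the closed point is the fibre of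
`X ⟶ Spec Γ(X, O_X)` over the maximal ideal. -/
theorem preimage_closedPoint_eq [hiso : IsIso g.appTop] [IsLocalRing Γ(X, ⊤)] :
    g ⁻¹' {IsLocalRing.closedPoint A} =
      X.toSpecΓ ⁻¹' {⟨IsLocalRing.maximalIdeal Γ(X, ⊤), inferInstance⟩} := by
  ext z
  change g z = IsLocalRing.closedPoint A ↔ X.toSpecΓ z = IsLocalRing.closedPoint Γ(X, ⊤)
  have hnat := Scheme.toSpecΓ_naturality g
  have hz : (Spec (CommRingCat.of A)).toSpecΓ (g z) = Spec.map g.appTop (X.toSpecΓ z) := by
    have := congr($(hnat) z)
    exact this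
  let θ := (Spec (CommRingCat.of A)).toSpecΓ.homeomorph
  let ψ := (Spec.map g.appTop).homeomorph
  have h1 : IsClosed ({g z} : Set (Spec (CommRingCat.of A))) ↔
      IsClosed ({X.toSpecΓ z} : Set (Spec Γ(X, ⊤))) := by
    rw [← θ.isClosed_image, ← ψ.isClosed_image, Set.image_singleton, Set.image_singleton]
    change IsClosed {(Spec (CommRingCat.of A)).toSpecΓ (g z)} ↔
      IsClosed {Spec.map g.appTop (X.toSpecΓ z)}
    rw [hz]
  have h2 : g z = IsLocalRing.closedPoint A ↔
      IsClosed ({g z} : Set (PrimeSpectrum A)) := eq_closedPoint_iff A (g z)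
  have h3 : X.toSpecΓ z = IsLocalRing.closedPoint Γ(X, ⊤) ↔
      IsClosed ({X.toSpecΓ z} : Set (PrimeSpectrum Γ(X, ⊤))) :=
    eq_closedPoint_iff Γ(X, ⊤) (X.toSpecΓ z)
  exact h2.trans (h1.trans h3.symm)

/-- A proper morphism to the spectrum of a local ring from a nonempty scheme hits the closed
point. -/
theorem exists_map_eq_closedPoint [Nonempty X] [UniversallyClosed g] :
    ∃ z : X, g z = IsLocalRing.closedPoint A := by
  obtain ⟨x⟩ := ‹Nonempty X›
  have hcl : IsClosed (g '' (Set.univ : Set X)) := g.isClosedMap _ isClosed_univ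
  have hmem : g x ∈ g '' (Set.univ : Set X) := ⟨x, trivial, rfl⟩
  have hsp : g x ⤳ IsLocalRing.closedPoint A := IsLocalRing.specializes_closedPoint (g x)
  obtain ⟨z, -, hz⟩ := hcl.stableUnderSpecialization hsp hmem
  exact ⟨z, hz⟩

/-- **Connectedness of the closed fibre** (hypothesis form): `X` proper over a Noetherian local ring
`A` with `Γ(X, O_X) = A`: the fibre over the closed point is connected. -/
theorem isConnected_preimage_closedPoint (H2 : Hyp.{u}) (H58 : Hyp58.{u}) [IsNoetherianRing A]
    [IsProper g] [hiso : IsIso g.appTop] :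
    _root_.IsConnected (g ⁻¹' {IsLocalRing.closedPoint A}) := by
  let e : A ≃+* Γ(X, ⊤) :=
    (Scheme.ΓSpecIso (CommRingCat.of A)).symm.commRingCatIsoToRingEquiv.trans
      (asIso g.appTop).commRingCatIsoToRingEquiv
  haveI : IsLocalRing Γ(X, ⊤) := e.isLocalRing
  haveI : Nonempty X := by
    by_contra hne
    rw [not_nonempty_iff] at hne
    haveI : Subsingleton Γ(X, ⊤) := inferInstance
    haveI : Subsingleton A := e.injective.subsingleton
    exact not_subsingleton A ‹_›
  refine ⟨?_, ?_⟩
  · obtain ⟨z, hz⟩ := exists_map_eq_closedPoint g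
    exact ⟨z, hz⟩
  · rw [preimage_closedPoint_eq g]
    exact isPreconnected_toSpecΓ_preimage H2 H58 A X g (IsLocalRing.maximalIdeal Γ(X, ⊤))

end Local

end Groth.Agent.Lib.ConnFib5
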