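import Groth.Agent.Lib.ConnFib5D
import Groth.Agent.Lib.GenericFlatPt

/-!
# Zariski connectedness, part E (helper5): base change to the local ring of a point, flat base change
of global sections, and connectedness of the fibres of a proper morphism with `f_* O_X = O_Y`
(hypothesis form).
-/

set_option autoImplicit false
universe u

open CategoryTheory CategoryTheory.Limits AlgebraicGeometry TopologicalSpace Opposite

namespace Groth.Agent.Lib.ConnFib5

open Groth.Agent.Lib.ProperFinHyp

section Loc

variable {X Y : Scheme.{u}} (f : X ⟶ Y) (y : Y)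

theorem top_le_preimage_fromSpecStalk {V : Y.Opens} (hy : y ∈ V) :
    (⊤ : (Spec (Y.presheaf.stalk y)).Opens) ≤ (Y.fromSpecStalk y) ⁻¹ᵁ V := by
  intro s _
  have hs : (Y.fromSpecStalk y) s ∈ Set.range (Y.fromSpecStalk y) := ⟨s, rfl⟩
  rw [Scheme.range_fromSpecStalk] at hs
  exact hs.mem_open V.2 hy

theorem top_eq_preimage_inf {V : Y.Opens} (hy : y ∈ V) :
    (⊤ : (pullback f (Y.fromSpecStalk y)).Opens) =
      (pullback.fst f (Y.fromSpecStalk y)) ⁻¹ᵁ (f ⁻¹ᵁ V) ⊓
        (pullback.snd f (Y.fromSpecStalk y)) ⁻¹ᵁ ⊤ := by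
  rw [← Scheme.Hom.comp_preimage, pullback.condition, Scheme.Hom.comp_preimage]
  have : (Y.fromSpecStalk y) ⁻¹ᵁ V = ⊤ := top_le_iff.mp (top_le_preimage_fromSpecStalk y hy)
  rw [this]
  simp

/-- Flat base change of sections to the local ring of `y`: a pushout square of rings. -/
theorem isPushout_loc [QuasiCompact f] [QuasiSeparated f] {V : Y.Opens} (hV : IsAffineOpen V)
    (hy : y ∈ V) :
    IsPushout (f.appLE V (f ⁻¹ᵁ V) le_rfl)
      ((Y.fromSpecStalk y).appLE V ⊤ (top_le_preimage_fromSpecStalk y hy))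
      ((pullback.fst f (Y.fromSpecStalk y)).appLE (f ⁻¹ᵁ V) ⊤
        (by rw [top_eq_preimage_inf f y hy]; exact inf_le_left))
      ((pullback.snd f (Y.fromSpecStalk y)).appLE ⊤ ⊤
        (by rw [top_eq_preimage_inf f y hy]; exact inf_le_right)) := by
  haveI := Groth.Agent.Lib.GenericFlatPt.flat_fromSpecStalk Y y
  have hiso := isIso_pushoutSection_of_isQuasiSeparated_of_flat_right
    (IsPullback.of_hasPullback f (Y.fromSpecStalk y))
    (top_le_preimage_fromSpecStalk y hy) (le_refl (f ⁻¹ᵁ V)) (top_eq_preimage_inf f y hy)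
    hV (isAffineOpen_top _) (f.isCompact_preimage hV.isCompact)
    (f.isQuasiSeparated_preimage hV.isQuasiSeparated)
  exact (isIso_pushoutSection_iff _ _ _ _).mp hiso

/-- If `O_Y(V) → O_X(f⁻¹V)` is an isomorphism for an affine neighbourhood `V` of `y`, then the base
change of `f` to the local ring of `y` has global functions `O_{Y,y}`. -/
theorem isIso_appTop_loc [QuasiCompact f] [QuasiSeparated f] {V : Y.Opens} (hV : IsAffineOpen V)
    (hy : y ∈ V) [hiso : IsIso (f.app V)] :
    IsIso (pullback.snd f (Y.fromSpecStalk y)).appTop := by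
  have hP := isPushout_loc f y hV hy
  haveI : IsIso (f.appLE V (f ⁻¹ᵁ V) le_rfl) := by
    rw [← Scheme.Hom.app_eq_appLE]
    exact hiso
  have h := hP.isIso_inr_of_isIso
  have e : (pullback.snd f (Y.fromSpecStalk y)).appLE ⊤ ⊤
      (by rw [top_eq_preimage_inf f y hy]; exact inf_le_right) =
      (pullback.snd f (Y.fromSpecStalk y)).appTop := by
    have h2 : (pullback.snd f (Y.fromSpecStalk y)).appLE ⊤ ⊤
        (by rw [top_eq_preimage_inf f y hy]; exact inf_le_right) =
        (pullback.snd f (Y.fromSpecStalk y)).appLE ⊤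
          ((pullback.snd f (Y.fromSpecStalk y)) ⁻¹ᵁ ⊤) le_rfl := rfl
    rw [h2, ← Scheme.Hom.app_eq_appLE]
  rw [e] at h
  exact h

/-- The fibre of `f` over `y` is the image of the closed fibre of the base change to the local ring
at `y`. -/
theorem preimage_singleton_eq_image :
    f ⁻¹' {y} = (pullback.fst f (Y.fromSpecStalk y)) ''
      ((pullback.snd f (Y.fromSpecStalk y)) ⁻¹' {IsLocalRing.closedPoint (Y.presheaf.stalk y)}) := by
  ext x
  constructor
  · intro hx
    have hx' : f x = (Y.fromSpecStalk y) (IsLocalRing.closedPoint (Y.presheaf.stalk y)) := by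
      rw [Scheme.fromSpecStalk_closedPoint]
      exact hx
    obtain ⟨z, hz1, hz2⟩ := Scheme.Pullback.exists_preimage_pullback x _ hx'
    exact ⟨z, hz2, hz1⟩
  · rintro ⟨z, hz, rfl⟩
    change f ((pullback.fst f (Y.fromSpecStalk y)) z) = y
    have h1 : f ((pullback.fst f (Y.fromSpecStalk y)) z) =
        (Y.fromSpecStalk y) ((pullback.snd f (Y.fromSpecStalk y)) z) := by
      have := congr($(pullback.condition (f := f) (g := Y.fromSpecStalk y)) z)
      exact this
    have hz' : (pullback.snd f (Y.fromSpecStalk y)) z =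
        IsLocalRing.closedPoint (Y.presheaf.stalk y) := hz
    rw [h1, hz', Scheme.fromSpecStalk_closedPoint]

end Loc

section Global

/-- `isConnected_preimage_closedPoint` for a bundled ring. -/
theorem isConnected_preimage_closedPoint' (H2 : Hyp.{u}) (H58 : Hyp58.{u}) {X : Scheme.{u}}
    (R : CommRingCat.{u}) [IsNoetherianRing R] [IsLocalRing R] (g : X ⟶ Spec R) [IsProper g]
    [IsIso g.appTop] : _root_.IsConnected (g ⁻¹' {IsLocalRing.closedPoint R}) :=
  isConnected_preimage_closedPoint (A := R) g H2 H58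

variable {X Y : Scheme.{u}} (f : X ⟶ Y)

/-- Connectedness of `f ⁻¹' {y}` gives connectedness of the scheme-theoretic fibre. -/
theorem connectedSpace_fiber_of_isConnected (y : Y) (h : _root_.IsConnected (f ⁻¹' {y})) :
    ConnectedSpace (f.fiber y) := by
  rw [(f.fiberHomeo y).connectedSpace_iff]
  exact isConnected_iff_connectedSpace.mp h

/-- **Zariski's connectedness theorem** (topological part, hypothesis form): `f` proper, `Y` locally
Noetherian, `O_Y → f_* O_X` an isomorphism (on an affine neighbourhood of `y` suffices): the fibre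
over `y` is connected. -/
theorem isConnected_preimage_singleton_of_isIso_app (H2 : Hyp.{u}) (H58 : Hyp58.{u}) [IsProper f]
    [IsLocallyNoetherian Y] (y : Y) {V : Y.Opens} (hV : IsAffineOpen V) (hy : y ∈ V)
    [IsIso (f.app V)] : _root_.IsConnected (f ⁻¹' {y}) := by
  haveI := isIso_appTop_loc f y hV hy
  have hconn := isConnected_preimage_closedPoint' H2 H58 (Y.presheaf.stalk y)
    (pullback.snd f (Y.fromSpecStalk y))
  rw [preimage_singleton_eq_image]
  exact hconn.image _ (pullback.fst f (Y.fromSpecStalk y)).continuous.continuousOn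

theorem connectedSpace_fiber_of_isIso_app (H2 : Hyp.{u}) (H58 : Hyp58.{u}) [IsProper f]
    [IsLocallyNoetherian Y] (hf : ∀ U : Y.Opens, IsIso (f.app U)) (y : Y) :
    ConnectedSpace (f.fiber y) := by
  obtain ⟨_, ⟨V, hV, rfl⟩, hyV, -⟩ :=
    Y.isBasis_affineOpens.exists_subset_of_mem_open (Set.mem_univ y) isOpen_univ
  haveI := hf V
  exact connectedSpace_fiber_of_isConnected f y
    (isConnected_preimage_singleton_of_isIso_app f H2 H58 y hV hyV)

end Global

end Groth.Agent.Lib.ConnFib5
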