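import Groth.Agent.Lib.SteinFin5
import Groth.Agent.Lib.IntegralSection
import Groth.Prelude.Def_ega3
import Groth.Prelude.Def_Pi1
import Mathlib.AlgebraicGeometry.FunctionField
import Mathlib.Topology.Sheaves.SheafCondition.Sites

/-!
# `f_* O_X = O_Y` for proper dominant `f : X ⟶ Y`, `Y` normal, `R(Y)` algebraically closed in `R(X)`
(helper5; K2 consumer of S0002 in hypothesis form; statement of S2422)
-/

set_option autoImplicit false
set_option linter.style.haveILetI false
universe u

open CategoryTheory CategoryTheory.Limits AlgebraicGeometry TopologicalSpace Opposite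

namespace Groth.Agent.Lib.SteinNormal5

open Groth.Agent.Lib.ProperFinHyp Groth.Agent.Lib.SteinFin5

/-- algebra core: an integral ring map `φ : B → C` from an integrally closed domain, such that `C`
embeds in a field `L` in which `Frac B` is algebraically closed, is bijective -/
theorem bijective_of_isIntegral_of_algClosed {B C K L : Type*} [CommRing B] [IsDomain B]
    [IsIntegrallyClosed B] [CommRing C] [Field K] [Field L] [Algebra B K] [IsFractionRing B K]
    (φ : B →+* C) (hφ : φ.IsIntegral) (ιC : C →+* L) (hιC : Function.Injective ιC) (ψ : K →+* L)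
    (hcomm : ∀ b, ψ (algebraMap B K b) = ιC (φ b))
    (halg : ∀ x : L, (∃ p : Polynomial K, p ≠ 0 ∧ Polynomial.eval₂ ψ x p = 0) →
      x ∈ Set.range ψ) :
    Function.Bijective φ := by
  have hinjBK : Function.Injective (algebraMap B K) := IsFractionRing.injective B K
  have hψ : Function.Injective ψ := ψ.injective
  have hc : ψ.comp (algebraMap B K) = ιC.comp φ := RingHom.ext hcomm
  constructor
  · intro b b' h
    apply hinjBK
    apply hψ
    rw [hcomm, hcomm, h]
  · intro c
    obtain ⟨p, hp, hpc⟩ := hφ c
    have hx : Polynomial.eval₂ ψ (ιC c) (p.map (algebraMap B K)) = 0 := by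
      rw [Polynomial.eval₂_map, hc, ← Polynomial.hom_eval₂, hpc, map_zero]
    obtain ⟨y, hy⟩ := halg (ιC c) ⟨p.map (algebraMap B K),
      (hp.map (algebraMap B K)).ne_zero, hx⟩
    have hyint : IsIntegral B y := by
      refine ⟨p, hp, hψ ?_⟩
      rw [Polynomial.hom_eval₂, hy, map_zero, hc, ← Polynomial.hom_eval₂, hpc, map_zero]
    obtain ⟨b, hb⟩ := IsIntegrallyClosed.algebraMap_eq_of_integral hyint
    refine ⟨b, hιC ?_⟩
    rw [← hcomm, hb, hy]

variable {X Y : Scheme.{u}} [IsIntegral X] [IsIntegral Y]

theorem map_genericPoint_eq (f : X ⟶ Y) (hdom : f.base (genericPoint X) ⤳ genericPoint Y) :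
    f.base (genericPoint X) = genericPoint Y :=
  (hdom.antisymm ((genericPoint_spec Y).specializes trivial)).eq

set_option backward.isDefEq.respectTransparency false in
/-- the affine case -/
theorem bijective_app_of_hyp (H : Hyp.{u}) [IsLocallyNoetherian Y] (hY : Pi1.IsNormalScheme Y)
    (f : X ⟶ Y) [IsProper f] (hdom : f.base (genericPoint X) ⤳ genericPoint Y)
    (halg : ∀ x : X.functionField,
      (∃ p : Polynomial Y.functionField, p ≠ 0 ∧
        Polynomial.eval₂ (CohIII.stalkToFunctionField f (genericPoint Y) hdom) x p = 0) →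
      x ∈ Set.range (CohIII.stalkToFunctionField f (genericPoint Y) hdom))
    {V : Y.Opens} (hV : IsAffineOpen V) [hne : Nonempty V] :
    Function.Bijective (f.app V).hom := by
  have hηY : genericPoint Y ∈ V :=
    ((genericPoint_spec Y).mem_open_set_iff V.isOpen).mpr (by simpa using hne)
  have hfη : f.base (genericPoint X) = genericPoint Y := map_genericPoint_eq f hdom
  have hfηV : f.base (genericPoint X) ∈ V := hfη ▸ hηY
  have hηX : genericPoint X ∈ f ⁻¹ᵁ V := hfηV
  haveI : IsIntegrallyClosed Γ(Y, V) :=
    Groth.Agent.Lib.IntegralSection.isIntegrallyClosed_sections (fun y => (hY y).2) hV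
  haveI : IsFractionRing Γ(Y, V) Y.functionField :=
    functionField_isFractionRing_of_isAffineOpen Y V hV
  have hfin : (f.app V).hom.Finite := finite_app_of_hyp H f hV
  refine bijective_of_isIntegral_of_algClosed (K := Y.functionField) (L := X.functionField)
    (f.app V).hom hfin.to_isIntegral (X.presheaf.germ (f ⁻¹ᵁ V) (genericPoint X) hηX).hom
    (germ_injective_of_isIntegral X (genericPoint X) hηX)
    (CohIII.stalkToFunctionField f (genericPoint Y) hdom) ?_ halg
  intro b
  show (f.stalkMap (genericPoint X)).hom ((Y.presheaf.stalkSpecializes hdom).hom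
    ((Y.presheaf.germ V (genericPoint Y) hηY).hom b)) = _
  have h1 : (Y.presheaf.stalkSpecializes hdom).hom ((Y.presheaf.germ V (genericPoint Y) hηY).hom b) =
      (Y.presheaf.germ V (f.base (genericPoint X)) hfηV).hom b := by
    rw [← TopCat.Presheaf.germ_stalkSpecializes Y.presheaf hηY hdom]
    rfl
  rw [h1]
  have h2 := Scheme.Hom.germ_stalkMap f V (genericPoint X) hfηV
  exact congrArg (fun g => g.hom b) h2

set_option backward.isDefEq.respectTransparency false in
/-- **Statement of S2422 from the finiteness theorem**: `O_Y(V) → O_X(f⁻¹V)` is an isomorphism for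
every open `V`. -/
theorem isIso_app_of_hyp (H : Hyp.{u}) [IsLocallyNoetherian Y] (hY : Pi1.IsNormalScheme Y)
    (f : X ⟶ Y) [IsProper f] (hdom : f.base (genericPoint X) ⤳ genericPoint Y)
    (halg : ∀ x : X.functionField,
      (∃ p : Polynomial Y.functionField, p ≠ 0 ∧
        Polynomial.eval₂ (CohIII.stalkToFunctionField f (genericPoint Y) hdom) x p = 0) →
      x ∈ Set.range (CohIII.stalkToFunctionField f (genericPoint Y) hdom)) :
    ∀ V : Y.Opens, IsIso (f.app V) := by
  let F : TopCat.Sheaf CommRingCat Y := Y.sheaf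
  let G : TopCat.Sheaf CommRingCat Y := (TopCat.Sheaf.pushforward CommRingCat f.base).obj X.sheaf
  let φ : F ⟶ G := ⟨f.c⟩
  have hbasis : Opens.IsBasis (Set.range (fun V : Y.affineOpens => (V : Y.Opens))) := by
    have := Y.isBasis_affineOpens
    rwa [Subtype.range_coe_subtype] 
  haveI : IsIso φ := by
    refine TopCat.Sheaf.isIso_iff_isIso_basis (B := fun V : Y.affineOpens => (V : Y.Opens))
      hbasis (fun V => ?_)
    show IsIso (f.app V.1)
    by_cases hne : Nonempty V.1
    · exact (ConcreteCategory.isIso_iff_bijective _).mpr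
        (bijective_app_of_hyp H hY f hdom halg V.2)
    · have hV : V.1 = ⊥ := by
        ext y
        simp only [Opens.coe_bot, Set.mem_empty_iff_false, iff_false]
        exact fun hy => hne ⟨⟨y, hy⟩⟩
      haveI : Subsingleton Γ(Y, V.1) := by rw [hV]; infer_instance
      haveI : Subsingleton Γ(X, f ⁻¹ᵁ V.1) := by
        rw [hV]
        exact inferInstanceAs (Subsingleton Γ(X, ⊥))
      refine (ConcreteCategory.isIso_iff_bijective _).mpr ⟨?_, ?_⟩
      · intro a b _; exact Subsingleton.elim a b
      · intro c; exact ⟨0, Subsingleton.elim _ _⟩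
  intro V
  have h1 : IsIso ((TopCat.Sheaf.forget CommRingCat Y).map φ) := inferInstance
  exact (NatTrans.isIso_iff_isIso_app _).mp h1 (op V)

end Groth.Agent.Lib.SteinNormal5
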