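import Groth.Agent.Lib.ConnFib5E
import Groth.Agent.Lib.SteinNormal5

/-!
# Zariski connectedness, part F (helper5): proper birational morphisms to a normal locally Noetherian
scheme have connected fibres (S15544, hypothesis form).
-/

set_option autoImplicit false
universe u

open CategoryTheory CategoryTheory.Limits AlgebraicGeometry TopologicalSpace Opposite

namespace Groth.Agent.Lib.ConnFib5

open Groth.Agent.Lib.ProperFinHyp

theorem bijective_stalkSpecializes_of_eq {Y : Scheme.{u}} {a b : Y} (h : a = b) (h' : a ⤳ b) :
    Function.Bijective (Y.presheaf.stalkSpecializes h').hom := by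
  subst h
  have : Y.presheaf.stalkSpecializes h' = 𝟙 _ := TopCat.Presheaf.stalkSpecializes_refl _ _
  rw [this]
  exact Function.bijective_id

/-- **S15544 (hypothesis form).** -/
theorem connectedSpace_fiber_of_birational (H2 : Hyp.{u}) (H58 : Hyp58.{u}) {X Y : Scheme.{u}}
    [IsIntegral X] [IsIntegral Y] [IsLocallyNoetherian Y] (hY : Pi1.IsNormalScheme Y) (f : X ⟶ Y)
    [IsProper f] (hgen : f.base (genericPoint X) = genericPoint Y)
    (hbir : IsIso (f.stalkMap (genericPoint X))) (y : Y) : ConnectedSpace ↥(f.fiber y) := by
  have hdom : f.base (genericPoint X) ⤳ genericPoint Y := specializes_of_eq hgen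
  have hsurj : Function.Surjective (CohIII.stalkToFunctionField f (genericPoint Y) hdom) := by
    have h1 := (bijective_stalkSpecializes_of_eq hgen hdom).2
    have h2 : Function.Surjective (f.stalkMap (genericPoint X)).hom :=
      (ConcreteCategory.bijective_of_isIso (f.stalkMap (genericPoint X))).2
    exact h2.comp h1
  have hiso := Groth.Agent.Lib.SteinNormal5.isIso_app_of_hyp H2 hY f hdom
    (fun x _ => hsurj x)
  exact connectedSpace_fiber_of_isIso_app f H2 H58 hiso y

end Groth.Agent.Lib.ConnFib5
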