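import Groth.Agent.Lib.ConnFib5E

/-!
# Zariski connectedness, part G (helper5): counting connected components of the fibres of a proper
morphism by maximal ideals of the global functions of the localized scheme (towards S2421).
-/

set_option autoImplicit false
universe u

open CategoryTheory CategoryTheory.Limits AlgebraicGeometry TopologicalSpace Opposite

namespace Groth.Agent.Lib.ConnFib5

open Groth.Agent.Lib.ProperFinHyp

section Top

/-- If a space is covered by preconnected subsets indexed by `ι`, it has at most `#ι` connected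
components. -/
theorem mk_connectedComponents_le {F ι : Type u} [TopologicalSpace F] (c : ι → Set F)
    (hc : ∀ i, _root_.IsPreconnected (c i)) (hcov : ∀ x : F, ∃ i, x ∈ c i) :
    Cardinal.mk (ConnectedComponents F) ≤ Cardinal.mk ι := by
  choose i hi using hcov
  refine Cardinal.mk_le_of_injective (f := fun q : ConnectedComponents F => i (Quotient.out q)) ?_
  intro q q' hqq'
  have hqq : i (Quotient.out q) = i (Quotient.out q') := hqq'
  have h1 : Quotient.out q ∈ c (i (Quotient.out q)) := hi _
  have h2 : Quotient.out q' ∈ c (i (Quotient.out q)) := by rw [hqq]; exact hi _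
  have h3 : connectedComponent (Quotient.out q) = connectedComponent (Quotient.out q') :=
    connectedComponent_eq ((hc _).subset_connectedComponent h1 h2)
  have e1 : (ConnectedComponents.mk (Quotient.out q) : ConnectedComponents F) = q :=
    Quotient.out_eq q
  have e2 : (ConnectedComponents.mk (Quotient.out q') : ConnectedComponents F) = q' :=
    Quotient.out_eq q'
  rw [← e1, ← e2]
  exact ConnectedComponents.coe_eq_coe.mpr h3

end Top

section LocalMax

variable {X : Scheme.{u}} (R : CommRingCat.{u}) [IsLocalRing R] (g : X ⟶ Spec R)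

omit [IsLocalRing R] in
theorem toSpecΓ_naturality_apply (z : X) :
    (Spec R).toSpecΓ (g z) = Spec.map g.appTop (X.toSpecΓ z) :=
  congr($(Scheme.toSpecΓ_naturality g) z)

/-- `g z` is the closed point iff the contraction of `X.toSpecΓ z` along `g.appTop` is a maximal
ideal. -/
theorem map_eq_closedPoint_iff (z : X) :
    g z = IsLocalRing.closedPoint R ↔
      ((X.toSpecΓ z).asIdeal.comap g.appTop.hom).IsMaximal := by
  have h1 : g z = IsLocalRing.closedPoint R ↔ IsClosed ({g z} : Set (PrimeSpectrum R)) :=
    eq_closedPoint_iff R (g z)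
  let θ := (Spec R).toSpecΓ.homeomorph
  have h2 : IsClosed ({g z} : Set (Spec R)) ↔
      IsClosed ({(Spec R).toSpecΓ (g z)} : Set (Spec Γ(Spec R, ⊤))) := by
    rw [← θ.isClosed_image, Set.image_singleton]
    rfl
  rw [h1]
  refine h2.trans ?_
  rw [toSpecΓ_naturality_apply]
  exact PrimeSpectrum.isClosed_singleton_iff_isMaximal _

theorem isMaximal_toSpecΓ_of_map_eq_closedPoint [UniversallyClosed g] (z : X)
    (hz : g z = IsLocalRing.closedPoint R) : (X.toSpecΓ z).asIdeal.IsMaximal := by
  have hint : g.appTop.hom.IsIntegral := isIntegral_appTop_of_universallyClosed g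
  haveI : (X.toSpecΓ z).asIdeal.IsPrime := (X.toSpecΓ z).isPrime
  exact Ideal.isMaximal_of_isIntegral_of_isMaximal_comap' g.appTop.hom hint _
    ((map_eq_closedPoint_iff R g z).mp hz)

theorem map_eq_closedPoint_of_isMaximal [UniversallyClosed g] (z : X)
    (hz : (X.toSpecΓ z).asIdeal.IsMaximal) : g z = IsLocalRing.closedPoint R := by
  have hint : g.appTop.hom.IsIntegral := isIntegral_appTop_of_universallyClosed g
  exact (map_eq_closedPoint_iff R g z).mpr
    (Ideal.isMaximal_comap_of_isIntegral_of_isMaximal' g.appTop.hom hint _)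

end LocalMax

section Count

/-- `isPreconnected_toSpecΓ_preimage` for a bundled ring. -/
theorem isPreconnected_toSpecΓ_preimage' (H2 : Hyp.{u}) (H58 : Hyp58.{u}) {X : Scheme.{u}}
    (R : CommRingCat.{u}) [IsNoetherianRing R] (g : X ⟶ Spec R) [IsProper g]
    (n : Ideal Γ(X, ⊤)) [hn : n.IsMaximal] :
    _root_.IsPreconnected (X.toSpecΓ ⁻¹' {⟨n, hn.isPrime⟩}) :=
  isPreconnected_toSpecΓ_preimage H2 H58 R X g n

variable {X Y : Scheme.{u}} (f : X ⟶ Y)

/-- **Counting connected components of a fibre** (hypothesis form): for `f` proper and `Y` locally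
Noetherian, the number of connected components of the fibre over `y` is at most the number of maximal
ideals of the ring of global functions of `X ×_Y Spec O_{Y,y}`. -/
theorem mk_connectedComponents_fiber_le (H2 : Hyp.{u}) (H58 : Hyp58.{u}) [IsProper f]
    [IsLocallyNoetherian Y] (y : Y) :
    Cardinal.mk (_root_.ConnectedComponents (f.fiber y)) ≤
      Cardinal.mk (MaximalSpectrum Γ(pullback f (Y.fromSpecStalk y), ⊤)) := by
  set X' := pullback f (Y.fromSpecStalk y) with hX'
  set g' := pullback.fst f (Y.fromSpecStalk y) with hg'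
  set f' := pullback.snd f (Y.fromSpecStalk y) with hf'
  let c : MaximalSpectrum Γ(X', ⊤) → Set (f.fiber y) := fun n =>
    (f.fiberι y) ⁻¹' (g' '' (X'.toSpecΓ ⁻¹' {⟨n.asIdeal, n.isMaximal.isPrime⟩}))
  apply mk_connectedComponents_le c
  · intro n
    haveI := n.isMaximal
    have hpre := isPreconnected_toSpecΓ_preimage' H2 H58 (Y.presheaf.stalk y) f' n.asIdeal
    have himg : _root_.IsPreconnected (g' '' (X'.toSpecΓ ⁻¹' {⟨n.asIdeal, n.isMaximal.isPrime⟩})) :=
      hpre.image _ g'.continuous.continuousOn
    have hsub : g' '' (X'.toSpecΓ ⁻¹' {⟨n.asIdeal, n.isMaximal.isPrime⟩}) ⊆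
        Set.range (f.fiberι y) := by
      rw [f.range_fiberι y, preimage_singleton_eq_image f y]
      apply Set.image_mono
      intro z hz
      have hz' : X'.toSpecΓ z = ⟨n.asIdeal, n.isMaximal.isPrime⟩ := hz
      apply map_eq_closedPoint_of_isMaximal (Y.presheaf.stalk y) f' z
      rw [hz']
      exact n.isMaximal
    rw [← (f.fiberι y).isEmbedding.isInducing.isPreconnected_image,
      Set.image_preimage_eq_of_subset hsub]
    exact himg
  · intro w
    have hx : f.fiberι y w ∈ f ⁻¹' {y} := by
      rw [← f.range_fiberι y]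
      exact ⟨w, rfl⟩
    rw [preimage_singleton_eq_image f y] at hx
    obtain ⟨z, hz, hzw⟩ := hx
    have hmax := isMaximal_toSpecΓ_of_map_eq_closedPoint (Y.presheaf.stalk y) f' z hz
    exact ⟨⟨(X'.toSpecΓ z).asIdeal, hmax⟩, z, rfl, hzw⟩

end Count

end Groth.Agent.Lib.ConnFib5
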