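import Groth.Agent.Lib.ConnFib5G
import Groth.Prelude.Def_ega3

/-!
# Zariski connectedness, part H (helper5): the global functions of `X ×_Y Spec O_{Y,y}` embed into the
function field of `X` as an integral extension of `O_{Y,y}`; S2421 in hypothesis form.
-/

set_option autoImplicit false
universe u

open CategoryTheory CategoryTheory.Limits AlgebraicGeometry TopologicalSpace Opposite

namespace Groth.Agent.Lib.ConnFib5

open Groth.Agent.Lib.ProperFinHyp

section Loc2

variable {X Y : Scheme.{u}} (f : X ⟶ Y) (y : Y)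

theorem fromSpecStalk_appLE_top {V : Y.Opens} (hy : y ∈ V) :
    (Y.fromSpecStalk y).appLE V ⊤ (top_le_preimage_fromSpecStalk y hy) ≫
      (Scheme.ΓSpecIso (Y.presheaf.stalk y)).hom = Y.presheaf.germ V y hy := by
  rw [Scheme.Hom.appLE, Scheme.fromSpecStalk_app hy]
  simp only [Category.assoc, ← Functor.map_comp]
  have : (Spec (Y.presheaf.stalk y)).presheaf.map
      ((homOfLE (le_top : (Y.fromSpecStalk y) ⁻¹ᵁ V ≤ ⊤)).op ≫
        (homOfLE (top_le_preimage_fromSpecStalk y hy)).op) = 𝟙 _ := by
    rw [← (Spec (Y.presheaf.stalk y)).presheaf.map_id]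
    rfl
  rw [this, Category.id_comp, Iso.inv_hom_id, Category.comp_id]

/-- The pushout square of `isPushout_loc`, with the local ring `O_{Y,y}` in the corner. -/
theorem isPushout_loc' [QuasiCompact f] [QuasiSeparated f] {V : Y.Opens} (hV : IsAffineOpen V)
    (hy : y ∈ V) :
    IsPushout (f.appLE V (f ⁻¹ᵁ V) le_rfl) (Y.presheaf.germ V y hy)
      ((pullback.fst f (Y.fromSpecStalk y)).appLE (f ⁻¹ᵁ V) ⊤
        (by rw [top_eq_preimage_inf f y hy]; exact inf_le_left))
      ((Scheme.ΓSpecIso (Y.presheaf.stalk y)).inv ≫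
        (pullback.snd f (Y.fromSpecStalk y)).appLE ⊤ ⊤
          (by rw [top_eq_preimage_inf f y hy]; exact inf_le_right)) := by
  refine (isPushout_loc f y hV hy).of_iso (Iso.refl _) (Iso.refl _)
    (Scheme.ΓSpecIso (Y.presheaf.stalk y)) (Iso.refl _) ?_ ?_ ?_ ?_
  · simp
  · rw [Iso.refl_hom, Category.id_comp]
    exact fromSpecStalk_appLE_top y hy
  · simp
  · simp

end Loc2

section Alg

/-- In a pushout square of rings whose corner `A` is a localization of `R`, a map out of the pushout
is injective as soon as its restriction to `C` is. -/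
theorem injective_desc_of_isLocalization {R C A B K : CommRingCat.{u}} {a : R ⟶ C} {b : R ⟶ A}
    {c : C ⟶ B} {d : A ⟶ B} (P : IsPushout a b c d) (S : Submonoid R)
    (hS : @IsLocalization R _ S A _ b.hom.toAlgebra) (ι₁ : C ⟶ K) (ι₂ : A ⟶ K)
    (w : a ≫ ι₁ = b ≫ ι₂) (h₁ : Function.Injective ι₁.hom) :
    Function.Injective (P.desc ι₁ ι₂ w).hom := by
  letI : Algebra R C := a.hom.toAlgebra
  letI : Algebra R A := b.hom.toAlgebra
  letI : Algebra C B := c.hom.toAlgebra
  letI : Algebra A B := d.hom.toAlgebra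
  letI : Algebra R B := (c.hom.comp a.hom).toAlgebra
  haveI : IsScalarTower R C B := .of_algebraMap_eq' rfl
  haveI : IsScalarTower R A B := .of_algebraMap_eq' (by
    change c.hom.comp a.hom = d.hom.comp b.hom
    have := P.w
    exact congr($(this).hom))
  haveI : IsLocalization S A := hS
  have hpo : Algebra.IsPushout R C A B := by
    rw [← CommRingCat.isPushout_iff_isPushout]
    exact P
  have hloc : IsLocalization (Algebra.algebraMapSubmonoid C S) B :=
    (Algebra.isLocalization_iff_isPushout S A).mpr hpo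
  set ι := P.desc ι₁ ι₂ w with hι
  have hc : ∀ x : C, ι.hom (algebraMap C B x) = ι₁.hom x := by
    intro x
    have := P.inl_desc ι₁ ι₂ w
    exact congr($(this).hom x)
  rw [injective_iff_map_eq_zero]
  intro x hx
  obtain ⟨x', s, rfl⟩ := IsLocalization.exists_mk'_eq (Algebra.algebraMapSubmonoid C S) x
  have h2 : ι.hom (algebraMap C B x') = 0 := by
    rw [← IsLocalization.mk'_spec B x' s, map_mul, hx, zero_mul]
  rw [hc] at h2
  have hx' : x' = 0 := (injective_iff_map_eq_zero ι₁.hom).mp h₁ x' h2
  rw [hx', IsLocalization.mk'_zero]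

/-- Lying over for maximal ideals along an injective integral ring map, as a cardinality bound. -/
theorem mk_maximalSpectrum_le_of_injective_of_isIntegral {B S : Type u} [CommRing B] [CommRing S]
    (φ : B →+* S) (hinj : Function.Injective φ) (hint : φ.IsIntegral) :
    Cardinal.mk (MaximalSpectrum B) ≤ Cardinal.mk (MaximalSpectrum S) := by
  letI : Algebra B S := φ.toAlgebra
  haveI : Algebra.IsIntegral B S := ⟨hint⟩
  refine Cardinal.mk_le_of_surjective (f := fun Q : MaximalSpectrum S =>
    (⟨Q.asIdeal.comap (algebraMap B S),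
      haveI := Q.isMaximal
      Ideal.isMaximal_comap_of_isIntegral_of_isMaximal (R := B) Q.asIdeal⟩ : MaximalSpectrum B)) ?_
  intro n
  haveI := n.isMaximal
  have hker : RingHom.ker (algebraMap B S) ≤ n.asIdeal := by
    have hinj' : Function.Injective (algebraMap B S) := hinj
    rw [(RingHom.injective_iff_ker_eq_bot _).mp hinj']
    exact bot_le
  obtain ⟨Q, hQ, hQn⟩ := Ideal.exists_ideal_over_maximal_of_isIntegral n.asIdeal hker
  exact ⟨⟨Q, hQ⟩, MaximalSpectrum.ext hQn⟩

end Alg

section Main

variable {X Y : Scheme.{u}} [IsIntegral X] [IsIntegral Y] (f : X ⟶ Y) [IsProper f] (y : Y)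
  (h : f.base (genericPoint X) ⤳ y)

/-- The number of maximal ideals of `Γ(X ×_Y Spec O_{Y,y}, O)` is at most that of the integral
closure of `O_{Y,y}` in the function field of `X`. -/
theorem mk_maximalSpectrum_loc_le :
    Cardinal.mk (MaximalSpectrum Γ(pullback f (Y.fromSpecStalk y), ⊤)) ≤
      Cardinal.mk (MaximalSpectrum (CohIII.integralClosureStalk f y h)) := by
  obtain ⟨_, ⟨V, hV, rfl⟩, hyV, -⟩ :=
    Y.isBasis_affineOpens.exists_subset_of_mem_open (Set.mem_univ y) isOpen_univ
  have hξ : genericPoint X ∈ f ⁻¹ᵁ V := h.mem_open V.2 hyV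
  have P := isPushout_loc' f y hV hyV
  set σ := CohIII.stalkToFunctionField f y h with hσ
  let ι₁ : Γ(X, f ⁻¹ᵁ V) ⟶ X.presheaf.stalk (genericPoint X) :=
    X.presheaf.germ (f ⁻¹ᵁ V) (genericPoint X) hξ
  let ι₂ : Y.presheaf.stalk y ⟶ X.presheaf.stalk (genericPoint X) := CommRingCat.ofHom σ
  have w : f.appLE V (f ⁻¹ᵁ V) le_rfl ≫ ι₁ = Y.presheaf.germ V y hyV ≫ ι₂ := by
    have e2 : ι₂ = Y.presheaf.stalkSpecializes h ≫ f.stalkMap (genericPoint X) := rfl
    rw [e2, ← Category.assoc, TopCat.Presheaf.germ_stalkSpecializes,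
      Scheme.Hom.germ_stalkMap, ← Scheme.Hom.app_eq_appLE]
  set ι := P.desc ι₁ ι₂ w with hι
  have hinj : Function.Injective ι.hom :=
    injective_desc_of_isLocalization P (hV.primeIdealOf ⟨y, hyV⟩).asIdeal.primeCompl
      (hV.isLocalization_stalk ⟨y, hyV⟩) ι₁ ι₂ w (germ_injective_of_isIntegral X _ hξ)
  -- integrality of `B` over `O_{Y,y}`
  set d := (Scheme.ΓSpecIso (Y.presheaf.stalk y)).inv ≫
    (pullback.snd f (Y.fromSpecStalk y)).appLE ⊤ ⊤
      (by rw [top_eq_preimage_inf f y hyV]; exact inf_le_right) with hd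
  have hdint : d.hom.IsIntegral := by
    have e : d = (Scheme.ΓSpecIso (Y.presheaf.stalk y)).inv ≫
        (pullback.snd f (Y.fromSpecStalk y)).appTop := by
      rw [hd]
      congr 1
      have h2 : (pullback.snd f (Y.fromSpecStalk y)).appLE ⊤ ⊤
          (by rw [top_eq_preimage_inf f y hyV]; exact inf_le_right) =
          (pullback.snd f (Y.fromSpecStalk y)).appLE ⊤
            ((pullback.snd f (Y.fromSpecStalk y)) ⁻¹ᵁ ⊤) le_rfl := rfl
      rw [h2, ← Scheme.Hom.app_eq_appLE]
    rw [e]
    apply RingHom.isIntegral_respectsIso.2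
      (e := (Scheme.ΓSpecIso (Y.presheaf.stalk y)).symm.commRingCatIsoToRingEquiv)
    exact isIntegral_appTop_of_universallyClosed (pullback.snd f (Y.fromSpecStalk y))
  have hdι : ι.hom.comp d.hom = σ := by
    have := P.inr_desc ι₁ ι₂ w
    exact congr($(this).hom)
  -- the image of `ι` lies in the integral closure
  have hmem : ∀ b, ι.hom b ∈ CohIII.integralClosureStalk f y h := by
    intro b
    obtain ⟨p, hp, hpb⟩ := hdint b
    change RingHom.IsIntegralElem σ (ι.hom b)
    refine ⟨p, hp, ?_⟩
    rw [← hdι, ← Polynomial.hom_eval₂, hpb, map_zero]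
  let ι' : Γ(pullback f (Y.fromSpecStalk y), ⊤) →+* CohIII.integralClosureStalk f y h :=
    ι.hom.codRestrict _ hmem
  have hinj' : Function.Injective ι' := by
    intro a b hab
    apply hinj
    exact congrArg Subtype.val hab
  have hint' : ι'.IsIntegral := by
    intro x
    have hx : RingHom.IsIntegralElem σ (x : X.functionField) := x.2
    obtain ⟨p, hp, hpx⟩ := hx
    refine ⟨p.map d.hom, hp.map _, ?_⟩
    apply Subtype.ext
    have e1 : ((Polynomial.eval₂ ι' x (p.map d.hom) : CohIII.integralClosureStalk f y h) :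
        X.functionField) = Polynomial.eval₂ ι.hom (x : X.functionField) (p.map d.hom) := by
      exact Polynomial.hom_eval₂ (p.map d.hom) ι' (CohIII.integralClosureStalk f y h).subtype x
    rw [e1, Polynomial.eval₂_map, hdι, hpx]
    rfl
  exact mk_maximalSpectrum_le_of_injective_of_isIntegral ι' hinj' hint'

/-- **S2421 (hypothesis form).** -/
theorem mk_connectedComponents_fiber_le_integralClosure (H2 : Hyp.{u}) (H58 : Hyp58.{u})
    [IsLocallyNoetherian Y] :
    Cardinal.mk (_root_.ConnectedComponents (f.fiber y)) ≤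
      Cardinal.mk (MaximalSpectrum (CohIII.integralClosureStalk f y h)) :=
  (mk_connectedComponents_fiber_le f H2 H58 y).trans (mk_maximalSpectrum_loc_le f y h)

end Main

end Groth.Agent.Lib.ConnFib5
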