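import Groth.Agent.Lib.H71GeomRedAt4

/-!
# Geometric reducedness at points, V: base change (helper71)

* `pullbackTransIso`, `pullbackCompare`: pullback bookkeeping (`(X ×[S] S') ×[S'] W ⟶ X ×[S] SK`, flat when `W ⟶ SK` is).
* `isGeomReducedAt_bc_of_isGeomReducedAt`, `isGeomReducedAt_of_isGeomReducedAt_bc`:
  `X` is geometrically reduced at `x` iff `X_{k'}` is geometrically reduced (over `k'`) at a point `x'` over `x`.
-/

set_option autoImplicit false
universe u

open CategoryTheory CategoryTheory.Limits AlgebraicGeometry TensorProduct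

namespace Groth.Agent.Lib.H71GeomRedAt

section Trans

variable {X S Y W : Scheme.{u}} (f : X ⟶ S) (g : Y ⟶ S) (g' : W ⟶ Y) (a : W ⟶ S) (h : g' ≫ g = a)

/-- `(X ×[S] Y) ×[Y] W ≅ X ×[S] W`, with a free choice of the composite `W ⟶ S`. -/
noncomputable def pullbackTransIso :
    pullback (pullback.snd f g) g' ≅ pullback f a :=
  pullbackLeftPullbackSndIso f g g' ≪≫ pullback.congrHom rfl h

@[reassoc (attr := simp)]
theorem pullbackTransIso_hom_fst :
    (pullbackTransIso f g g' a h).hom ≫ pullback.fst f a = pullback.fst _ _ ≫ pullback.fst f g := by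
  subst h; simp [pullbackTransIso, pullback.map]

@[reassoc (attr := simp)]
theorem pullbackTransIso_hom_snd :
    (pullbackTransIso f g g' a h).hom ≫ pullback.snd f a = pullback.snd _ _ := by
  subst h; simp [pullbackTransIso, pullback.map]

end Trans

section FlatMap

variable {X S SK S' W : Scheme.{u}} (f : X ⟶ S) (gK : SK ⟶ S) (g' : S' ⟶ S)
  (bK : W ⟶ SK) (b' : W ⟶ S') (h : b' ≫ g' = bK ≫ gK)

/-- The comparison map `(X ×[S] S') ×[S'] W ⟶ X ×[S] SK` for `W` over both `S'` and `SK`. -/
noncomputable def pullbackCompare :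
    pullback (pullback.snd f g') b' ⟶ pullback f gK :=
  (pullbackTransIso f g' b' (bK ≫ gK) h).hom ≫ (pullbackLeftPullbackSndIso f gK bK).inv ≫
    pullback.fst (pullback.snd f gK) bK

instance [Flat bK] : Flat (pullbackCompare f gK g' bK b' h) := by
  delta pullbackCompare
  infer_instance

@[reassoc (attr := simp)]
theorem pullbackCompare_fst :
    pullbackCompare f gK g' bK b' h ≫ pullback.fst f gK = pullback.fst _ _ ≫ pullback.fst f g' := by
  simp [pullbackCompare]

@[reassoc (attr := simp)]
theorem pullbackCompare_snd :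
    pullbackCompare f gK g' bK b' h ≫ pullback.snd f gK = pullback.snd _ _ ≫ bK := by
  simp [pullbackCompare]

end FlatMap

end Groth.Agent.Lib.H71GeomRedAt


namespace Groth.Agent.Lib.H71GeomRedAt

section BC

variable (k : Type u) [Field k] (X : Scheme.{u}) [X.Over (Spec (CommRingCat.of k))]
  (k' : Type u) [Field k'] [Algebra k k']

theorem isGeomReducedAt_bc_of_isGeomReducedAt (x : X) (x' : Curv2.bc k X k')
    (hx : Curv2.bcFst k X k' x' = x) (h : Curv2.IsGeomReducedAt k X x) :
    @Curv2.IsGeomReducedAt k' _ (Curv2.bc k X k') ⟨Curv2.bcSnd k X k'⟩ x' := by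
  intro K' _ _ x'' hx''
  letI : Algebra k K' := ((algebraMap k' K').comp (algebraMap k k')).toAlgebra
  let e := pullbackTransIso (X ↘ Spec (CommRingCat.of k))
    (Spec.map (CommRingCat.ofHom (algebraMap k k')))
    (Spec.map (CommRingCat.ofHom (algebraMap k' K')))
    (Spec.map (CommRingCat.ofHom (algebraMap k K'))) (by rw [← Spec.map_comp]; rfl)
  have hy : Curv2.bcFst k X K' (e.hom x'') = x := by
    rw [← Scheme.Hom.comp_apply, pullbackTransIso_hom_fst, Scheme.Hom.comp_apply]
    rw [← hx, ← hx'']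
    rfl
  have hred := h K' (e.hom x'') hy
  have hiso : IsIso (e.hom.stalkMap x'') := inferInstance
  have hb : Function.Bijective (e.hom.stalkMap x'').hom :=
    (ConcreteCategory.isIso_iff_bijective _).mp hiso
  exact isReduced_of_injective (RingEquiv.ofBijective _ hb).symm.toRingHom
    (RingEquiv.ofBijective _ hb).symm.injective

end BC

end Groth.Agent.Lib.H71GeomRedAt

namespace Groth.Agent.Lib.H71GeomRedAt

section BC2

variable (k : Type u) [Field k] (X : Scheme.{u}) [X.Over (Spec (CommRingCat.of k))]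
  (k' : Type u) [Field k'] [Algebra k k']

theorem isGeomReducedAt_of_isGeomReducedAt_bc (x : X) (x' : Curv2.bc k X k')
    (hx : Curv2.bcFst k X k' x' = x)
    (h : @Curv2.IsGeomReducedAt k' _ (Curv2.bc k X k') ⟨Curv2.bcSnd k X k'⟩ x') :
    Curv2.IsGeomReducedAt k X x := by
  intro K _ _ y hy
  obtain ⟨t, ht1, ht2⟩ := Scheme.Pullback.exists_preimage_pullback
    (f := Curv2.bcFst k X K) (g := Curv2.bcFst k X k') y x' (by rw [hy, hx])
  let T : Scheme.{u} := pullback (Curv2.bcFst k X K) (Curv2.bcFst k X k')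
  let Ω := T.residueField t
  let ι : Spec (CommRingCat.of Ω) ⟶ T := T.fromSpecResidueField t
  let a' : Spec (CommRingCat.of Ω) ⟶ Spec (CommRingCat.of k') :=
    ι ≫ pullback.snd _ _ ≫ Curv2.bcSnd k X k'
  let aK : Spec (CommRingCat.of Ω) ⟶ Spec (CommRingCat.of K) :=
    ι ≫ pullback.fst _ _ ≫ Curv2.bcSnd k X K
  letI : Algebra k' Ω := (Spec.preimage a').hom.toAlgebra
  letI : Algebra K Ω := (Spec.preimage aK).hom.toAlgebra
  have ha' : Spec.map (CommRingCat.ofHom (algebraMap k' Ω)) = a' := Spec.map_preimage a'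
  have haK : Spec.map (CommRingCat.ofHom (algebraMap K Ω)) = aK := Spec.map_preimage aK
  have hcomm : Spec.map (CommRingCat.ofHom (algebraMap k' Ω)) ≫
      Spec.map (CommRingCat.ofHom (algebraMap k k')) =
      Spec.map (CommRingCat.ofHom (algebraMap K Ω)) ≫
      Spec.map (CommRingCat.ofHom (algebraMap k K)) := by
    rw [ha', haK]
    simp only [a', aK, Category.assoc]
    rw [← pullback.condition, ← pullback.condition, pullback.condition_assoc]
  let σ : Spec (CommRingCat.of Ω) ⟶
      pullback (Curv2.bcSnd k X k') (Spec.map (CommRingCat.ofHom (algebraMap k' Ω))) :=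
    pullback.lift (ι ≫ pullback.snd _ _) (𝟙 _) (by rw [ha']; simp [a'])
  let pt : ↥(Spec (CommRingCat.of Ω)) := IsLocalRing.closedPoint Ω
  have hz : pullback.fst (Curv2.bcSnd k X k') (Spec.map (CommRingCat.ofHom (algebraMap k' Ω)))
      (σ pt) = x' := by
    rw [← Scheme.Hom.comp_apply, pullback.lift_fst, Scheme.Hom.comp_apply,
      Scheme.fromSpecResidueField_apply, ht2]
  have hred : _root_.IsReduced ((pullback (Curv2.bcSnd k X k')
      (Spec.map (CommRingCat.ofHom (algebraMap k' Ω)))).presheaf.stalk (σ pt)) := h Ω (σ pt) hz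
  let ψ := pullbackCompare (X ↘ Spec (CommRingCat.of k))
    (Spec.map (CommRingCat.ofHom (algebraMap k K)))
    (Spec.map (CommRingCat.ofHom (algebraMap k k')))
    (Spec.map (CommRingCat.ofHom (algebraMap K Ω)))
    (Spec.map (CommRingCat.ofHom (algebraMap k' Ω))) hcomm
  have hψ : σ ≫ ψ = ι ≫ pullback.fst _ _ := by
    apply pullback.hom_ext
    · simp only [ψ, σ, Category.assoc, pullbackCompare_fst, pullback.lift_fst_assoc]
      rw [pullback.condition]
    · simp only [ψ, σ, Category.assoc, pullbackCompare_snd, pullback.lift_snd_assoc, haK, aK]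
      rw [Category.id_comp]
  have hψz : ψ (σ pt) = y := by
    rw [← Scheme.Hom.comp_apply, hψ, Scheme.Hom.comp_apply, Scheme.fromSpecResidueField_apply, ht1]
  have hinj := Groth.Agent.Lib.GeomFieldExt.stalkMap_injective_of_flat ψ (σ pt)
  subst hψz
  exact isReduced_of_injective _ hinj

end BC2

end Groth.Agent.Lib.H71GeomRedAt
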