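import Groth.Agent.Lib.H71GeomConnMap
import Groth.Agent.Lib.H71GeomRedAt5
import Mathlib.RingTheory.Flat.Basic
import Mathlib.RingTheory.Spectrum.Prime.Topology
import Mathlib.FieldTheory.IntermediateField.Adjoin.Basic
import Mathlib.FieldTheory.IntermediateField.Adjoin.Algebra
import Mathlib.RingTheory.TensorProduct.Basic
import Mathlib.RingTheory.Flat.FaithfullyFlat.Basic

/-!
# Connectedness of `X_K` from finite levels (helper71)

For an algebraic field extension `K/k` and a `k`-scheme `X` (no finiteness hypotheses):

* `exists_clopen_descent`: a clopen subset of `Spec (A ⊗[k] K)` is the inverse image of a subset of `Spec (A ⊗[k] L)` for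
  some finite subextension `L`.
* `ρ K L f : X_K ⟶ X_L` is open, closed and surjective.
* `connectedSpace_of_forall_finiteDimensional`: if `X_L` is connected for every finite subextension `L/k` of `K`, then
  `X_K` is connected (Stacks 0389, without Galois theory).
-/

set_option autoImplicit false
universe u

open TensorProduct CategoryTheory AlgebraicGeometry CategoryTheory.Limits

namespace Groth.Agent.Lib.H71FinSepConn

section Algebra

variable {k A K : Type u} [Field k] [CommRing A] [Algebra k A] [Field K] [Algebra k K]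

/-- The base change map `A ⊗[k] L ⟶ A ⊗[k] K` for an intermediate field `L`. -/
noncomputable abbrev tmap (A : Type u) [CommRing A] [Algebra k A] (L : IntermediateField k K) :
    A ⊗[k] L →ₐ[k] A ⊗[k] K :=
  Algebra.TensorProduct.map (AlgHom.id k A) L.val

theorem tmap_injective (L : IntermediateField k K) : Function.Injective (tmap A L) := by
  have h := Module.Flat.lTensor_preserves_injective_linearMap (M := A) L.val.toLinearMap
    L.val.injective
  exact h

theorem range_tmap_mono {L₁ L₂ : IntermediateField k K} (h : L₁ ≤ L₂) :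
    (tmap A L₁).range ≤ (tmap A L₂).range := by
  rintro _ ⟨x, rfl⟩
  refine ⟨Algebra.TensorProduct.map (AlgHom.id k A) (IntermediateField.inclusion h) x, ?_⟩
  show tmap A L₂ (Algebra.TensorProduct.map (AlgHom.id k A) (IntermediateField.inclusion h) x) =
    tmap A L₁ x
  induction x using TensorProduct.induction_on with
  | zero => simp
  | tmul a c => rfl
  | add x y hx hy => rw [map_add, map_add, map_add, hx, hy]

theorem exists_finiteDimensional_mem_range [Algebra.IsAlgebraic k K] (x : A ⊗[k] K) :
    ∃ L : IntermediateField k K, FiniteDimensional k L ∧ x ∈ (tmap A L).range := by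
  induction x using TensorProduct.induction_on with
  | zero => exact ⟨⊥, inferInstance, zero_mem _⟩
  | tmul a c =>
    refine ⟨IntermediateField.adjoin k {c}, ?_, ?_⟩
    · exact IntermediateField.adjoin.finiteDimensional (Algebra.IsIntegral.isIntegral c)
    · exact ⟨a ⊗ₜ ⟨c, IntermediateField.mem_adjoin_simple_self k c⟩, rfl⟩
  | add x y hx hy =>
    obtain ⟨L₁, h₁, hx⟩ := hx
    obtain ⟨L₂, h₂, hy⟩ := hy
    exact ⟨L₁ ⊔ L₂, inferInstance, add_mem (range_tmap_mono le_sup_left hx)
      (range_tmap_mono le_sup_right hy)⟩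

theorem exists_idempotent_descent [Algebra.IsAlgebraic k K] (e : A ⊗[k] K)
    (he : IsIdempotentElem e) :
    ∃ (L : IntermediateField k K) (_ : FiniteDimensional k L) (e' : A ⊗[k] L),
      IsIdempotentElem e' ∧ tmap A L e' = e := by
  obtain ⟨L, hL, e', rfl⟩ := exists_finiteDimensional_mem_range e
  refine ⟨L, hL, e', ?_, rfl⟩
  apply tmap_injective L
  rw [map_mul]
  exact he

theorem exists_clopen_descent [Algebra.IsAlgebraic k K] (s : Set (PrimeSpectrum (A ⊗[k] K)))
    (hs : IsClopen s) :
    ∃ (L : IntermediateField k K) (_ : FiniteDimensional k L) (D : Set (PrimeSpectrum (A ⊗[k] L))),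
      s = PrimeSpectrum.comap (tmap A L).toRingHom ⁻¹' D := by
  obtain ⟨e, he, rfl⟩ := PrimeSpectrum.isClopen_iff.mp hs
  obtain ⟨L, hL, e', he', rfl⟩ := exists_idempotent_descent e he
  exact ⟨L, hL, PrimeSpectrum.basicOpen e', rfl⟩

end Algebra

section Tower

variable {k : Type u} [Field k] (K : Type u) [Field K] [Algebra k K] (L : IntermediateField k K)

/-- `Spec K ⟶ Spec k`. -/
noncomputable abbrev q (K : Type u) [Field K] [Algebra k K] :
    Spec (CommRingCat.of K) ⟶ Spec (CommRingCat.of k) :=
  Spec.map (CommRingCat.ofHom (algebraMap k K))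

/-- `Spec K ⟶ Spec L`. -/
noncomputable abbrev r : Spec (CommRingCat.of K) ⟶ Spec (CommRingCat.of L) :=
  Spec.map (CommRingCat.ofHom (algebraMap L K))

theorem r_q : r K L ≫ q (k := k) L = q K := by
  rw [← Spec.map_comp, ← CommRingCat.ofHom_comp]
  rfl

variable {X : Scheme.{u}} (f : X ⟶ Spec (CommRingCat.of k))

/-- `X_K ⟶ X_L`. -/
noncomputable def ρ : pullback f (q K) ⟶ pullback f (q (k := k) L) :=
  pullback.map f (q K) f (q L) (𝟙 X) (r K L) (𝟙 _) (by simp) (by rw [Category.comp_id, r_q])

@[reassoc (attr := simp)]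
theorem ρ_fst : ρ K L f ≫ pullback.fst f (q L) = pullback.fst f (q K) := by
  rw [ρ, pullback.map]
  exact (pullback.lift_fst _ _ _).trans (Category.comp_id _)

@[reassoc (attr := simp)]
theorem ρ_snd : ρ K L f ≫ pullback.snd f (q L) = pullback.snd f (q K) ≫ r K L := by
  rw [ρ, pullback.map]
  exact pullback.lift_snd _ _ _

theorem ρ_eq : ρ K L f =
    (Groth.Agent.Lib.H71GeomRedAt.pullbackTransIso f (q L) (r K L) (q K) (r_q K L)).inv ≫
      pullback.fst (pullback.snd f (q L)) (r K L) := by
  rw [Iso.eq_inv_comp]
  apply pullback.hom_ext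
  · simp
  · simp [pullback.condition]

section Props

variable [Algebra.IsAlgebraic k K]

instance : Algebra.IsAlgebraic L K := Algebra.IsAlgebraic.tower_top (K := k) L

theorem ρ_surjective : Function.Surjective (ρ K L f) := by
  rw [ρ_eq]
  have hsurj : Surjective (r K L) := Groth.Agent.Lib.H71SepClosedGeom.surjective_SpecMap K
  have h3 : Surjective (pullback.fst (pullback.snd f (q L)) (r K L)) :=
    MorphismProperty.pullback_fst _ _ hsurj
  exact (inferInstance : Surjective (_ ≫ _)).surj

theorem ρ_isOpenMap : IsOpenMap (ρ K L f) := by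
  rw [ρ_eq]
  exact Scheme.Hom.isOpenMap _

theorem ρ_isClosedMap : IsClosedMap (ρ K L f) := by
  rw [ρ_eq]
  have hint : IsIntegralHom (r K L) := Groth.Agent.Lib.H71SepClosedGeom.isIntegralHom_SpecMap K
  exact Scheme.Hom.isClosedMap _

end Props

end Tower

section Nat

variable {k : Type u} [Field k] (K : Type u) [Field K] [Algebra k K]
variable {X Y : Scheme.{u}} (g : Y ⟶ X) (f : X ⟶ Spec (CommRingCat.of k))
  (f' : Y ⟶ Spec (CommRingCat.of k)) (hf' : g ≫ f = f')

/-- `Y_K ⟶ X_K`. -/
noncomputable def jmap : pullback f' (q K) ⟶ pullback f (q K) :=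
  pullback.map f' (q K) f (q K) g (𝟙 _) (𝟙 _) (by rw [Category.comp_id, hf'])
    (by rw [Category.comp_id, Category.id_comp])

@[reassoc (attr := simp)]
theorem jmap_fst : jmap K g f f' hf' ≫ pullback.fst f (q K) = pullback.fst f' (q K) ≫ g := by
  rw [jmap, pullback.map]
  exact pullback.lift_fst _ _ _

@[reassoc (attr := simp)]
theorem jmap_snd : jmap K g f f' hf' ≫ pullback.snd f (q K) = pullback.snd f' (q K) := by
  rw [jmap, pullback.map]
  exact (pullback.lift_snd _ _ _).trans (Category.comp_id _)

theorem jmap_eq : jmap K g f f' hf' =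
    (pullback.congrHom hf'.symm rfl).hom ≫ (pullbackRightPullbackFstIso f (q K) g).inv ≫
      pullback.snd g (pullback.fst f (q K)) := by
  subst hf'
  apply pullback.hom_ext
  · simp [pullback.condition]
  · simp

theorem jmap_injective [IsPreimmersion g] : Function.Injective (jmap K g f f' hf') := by
  rw [jmap_eq]
  have : IsPreimmersion ((pullback.congrHom hf'.symm rfl).hom ≫
      (pullbackRightPullbackFstIso f (q K) g).inv ≫ pullback.snd g (pullback.fst f (q K))) :=
    inferInstance
  exact (Scheme.Hom.isEmbedding _).injective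

theorem exists_preimage_jmap (y : Y) (v : ↥(pullback f (q K)))
    (hv : g y = pullback.fst f (q K) v) : ∃ t, jmap K g f f' hf' t = v := by
  subst hf'
  exact Groth.Agent.Lib.H71GeomConnMap.exists_preimage_pullbackMap g f (q K) y v hv

theorem jmap_ρ (L : IntermediateField k K) :
    jmap K g f f' hf' ≫ ρ K L f = ρ K L f' ≫ jmap L g f f' hf' := by
  apply pullback.hom_ext
  · simp
  · simp

end Nat

section SpecIso

variable {k : Type u} [Field k] (K : Type u) [Field K] [Algebra k K] (L : IntermediateField k K)
variable (A : Type u) [Field A] [Algebra k A]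

theorem pullbackSpecIso_ρ :
    (pullbackSpecIso k A K).hom ≫ Spec.map (CommRingCat.ofHom (tmap A L).toRingHom) =
      ρ K L (q (k := k) A) ≫ (pullbackSpecIso k A L).hom := by
  have key : Spec.map (CommRingCat.ofHom (tmap A L).toRingHom) ≫ (pullbackSpecIso k A L).inv =
      (pullbackSpecIso k A K).inv ≫ ρ K L (q (k := k) A) := by
    apply pullback.hom_ext
    · rw [Category.assoc, pullbackSpecIso_inv_fst, Category.assoc, ρ_fst, pullbackSpecIso_inv_fst,
        ← Spec.map_comp]
      congr 1
    · rw [Category.assoc, pullbackSpecIso_inv_snd, Category.assoc, ρ_snd,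
        pullbackSpecIso_inv_snd_assoc, ← Spec.map_comp, ← Spec.map_comp]
      congr 1
  rw [← cancel_mono (pullbackSpecIso k A L).inv, Category.assoc, key, Iso.hom_inv_id_assoc,
    Category.assoc, Iso.hom_inv_id, Category.comp_id]

end SpecIso

section Main

variable {k : Type u} [Field k] (K : Type u) [Field K] [Algebra k K] [Algebra.IsAlgebraic k K]
variable {X : Scheme.{u}} (f : X ⟶ Spec (CommRingCat.of k))

/-- Key step: a clopen subset of `X_K` containing a point `u` over `x` contains every point `v` over `x`
which has the same image as `u` in `X_L`, for some finite `L` (depending on the clopen and `x` only). -/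
theorem exists_finite_level (x : X) (A : Type u) [Field A] [Algebra k A]
    (ιx : Spec (CommRingCat.of A) ⟶ X) [IsPreimmersion ιx] (pt : ↥(Spec (CommRingCat.of A)))
    (hpt : ιx pt = x)
    (hf' : ιx ≫ f = q (k := k) A)
    (s : Set ↥(pullback f (q (k := k) K))) (hs : IsClopen s) :
    ∃ (L : IntermediateField k K) (_ : FiniteDimensional k L),
      ∀ u v : ↥(pullback f (q (k := k) K)), pullback.fst f (q K) u = x → pullback.fst f (q K) v = x →
        ρ K L f u = ρ K L f v → u ∈ s → v ∈ s := by
  -- the clopen in `Spec (A ⊗ K)`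
  let C : Set (PrimeSpectrum (A ⊗[k] K)) :=
    ((pullbackSpecIso k A K).inv ≫ jmap K ιx f (q A) hf') ⁻¹' s
  have hC : IsClopen C := hs.preimage (Scheme.Hom.continuous _)
  obtain ⟨L, hL, D, hD⟩ := exists_clopen_descent C hC
  refine ⟨L, hL, fun u v hux hvx huv hu => ?_⟩
  obtain ⟨zu, hzu⟩ := exists_preimage_jmap K ιx f (q A) hf' pt u (by rw [hpt, hux])
  obtain ⟨zv, hzv⟩ := exists_preimage_jmap K ιx f (q A) hf' pt v (by rw [hpt, hvx])
  -- images in `Z_L` agree
  have hz : ρ K L (q A) zu = ρ K L (q A) zv := by
    apply jmap_injective L ιx f (q A) hf'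
    have e1 := congrArg (fun m => m.base zu) (jmap_ρ K ιx f (q A) hf' L)
    have e2 := congrArg (fun m => m.base zv) (jmap_ρ K ιx f (q A) hf' L)
    simp only [Scheme.Hom.comp_base, TopCat.hom_comp, ContinuousMap.comp_apply] at e1 e2
    erw [← e1, ← e2]
    erw [hzu, hzv]
    exact huv
  -- transfer to spectra
  have key : ∀ z : ↥(pullback (q (k := k) A) (q K)),
      jmap K ιx f (q A) hf' z ∈ s ↔
        (pullbackSpecIso k A L).hom (ρ K L (q A) z) ∈ D := by
    intro z
    have h1 : (pullbackSpecIso k A K).hom z ∈ C ↔ jmap K ιx f (q A) hf' z ∈ s := by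
      show ((pullbackSpecIso k A K).inv ≫ jmap K ιx f (q A) hf') ((pullbackSpecIso k A K).hom z) ∈ s ↔ _
      rw [← Scheme.Hom.comp_apply, Iso.hom_inv_id_assoc]
    have h2 : (pullbackSpecIso k A L).hom (ρ K L (q A) z) =
        PrimeSpectrum.comap (tmap A L).toRingHom ((pullbackSpecIso k A K).hom z) := by
      have := congrArg (fun m => m.base z) (pullbackSpecIso_ρ K L A)
      simp only [Scheme.Hom.comp_base, TopCat.hom_comp, ContinuousMap.comp_apply] at this
      exact this.symm
    rw [← h1, hD, h2]
    rfl
  have hu' : jmap K ιx f (q A) hf' zu ∈ s := hzu ▸ hu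
  have hv' : jmap K ιx f (q A) hf' zv ∈ s := by
    rw [key, ← hz, ← key]
    exact hu'
  rw [hzv] at hv'
  exact hv'

/-- If `X_L` is connected for all finite subextensions `L` of an algebraic extension `K/k`, then `X_K` is connected. -/
theorem connectedSpace_of_forall_finiteDimensional
    (h : ∀ L : IntermediateField k K, FiniteDimensional k L →
      ConnectedSpace ↥(pullback f (q (k := k) L))) :
    ConnectedSpace ↥(pullback f (q (k := k) K)) := by
  rw [connectedSpace_iff_clopen]
  constructor
  · have h0 := h ⊥ inferInstance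
    obtain ⟨t⟩ := h0.toNonempty
    obtain ⟨v, -⟩ := ρ_surjective K ⊥ f t
    exact ⟨v⟩
  · intro s hs
    by_contra hcon
    rw [not_or] at hcon
    obtain ⟨hne, hnu⟩ := hcon
    obtain ⟨u, hu⟩ : s.Nonempty := Set.nonempty_iff_ne_empty.mpr hne
    have hsc_ne : sᶜ.Nonempty := Set.nonempty_compl.mpr hnu
    -- the residue field at `x`
    obtain ⟨φ, hφ⟩ := Spec.map_surjective (X.fromSpecResidueField (pullback.fst f (q K) u) ≫ f)
    letI : Algebra k (X.residueField (pullback.fst f (q K) u)) := φ.hom.toAlgebra
    have hf' : X.fromSpecResidueField (pullback.fst f (q K) u) ≫ f =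
        q (k := k) (X.residueField (pullback.fst f (q K) u)) := hφ.symm
    obtain ⟨L, hL, hkey⟩ := exists_finite_level K f (pullback.fst f (q K) u)
      (X.residueField (pullback.fst f (q K) u))
      (X.fromSpecResidueField (pullback.fst f (q K) u))
      (IsLocalRing.closedPoint _) (Scheme.fromSpecResidueField_apply _ _) hf' s hs
    -- connectedness of `X_L`
    have hXL := h L hL
    have h2 : ρ K L f '' sᶜ = Set.univ :=
      (isClopen_iff.mp ⟨ρ_isClosedMap K L f _ hs.compl.1, ρ_isOpenMap K L f _ hs.compl.2⟩).resolve_left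
        (hsc_ne.image _).ne_empty
    obtain ⟨v, hv, hvu⟩ : ρ K L f u ∈ ρ K L f '' sᶜ := h2 ▸ Set.mem_univ _
    have hvx : pullback.fst f (q K) v = pullback.fst f (q K) u := by
      have e1 := congrArg (fun m => m.base v) (ρ_fst K L f)
      have e2 := congrArg (fun m => m.base u) (ρ_fst K L f)
      simp only [Scheme.Hom.comp_base, TopCat.hom_comp, ContinuousMap.comp_apply] at e1 e2
      erw [← e1, ← e2, hvu]
    exact hv (hkey u v rfl hvx hvu.symm hu)

end Main

section Final

variable {k : Type u} [Field k] {X : Scheme.{u}} (f : X ⟶ Spec (CommRingCat.of k))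

/-- A `k`-scheme whose base change to every finite separable extension is connected is geometrically connected
(Stacks 0389; no finiteness hypotheses on `X`). -/
theorem geometricallyConnected_of_forall_finite_separable
    (h : ∀ (K : Type u) [Field K] [Algebra k K] [FiniteDimensional k K] [Algebra.IsSeparable k K],
      ConnectedSpace ↥(pullback f (Spec.map (CommRingCat.ofHom (algebraMap k K))))) :
    GeometricallyConnected f := by
  haveI : ConnectedSpace ↥(pullback f (Spec.map (CommRingCat.ofHom
      (algebraMap k (SeparableClosure k))))) := by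
    apply connectedSpace_of_forall_finiteDimensional (SeparableClosure k) f
    intro L hL
    haveI : Algebra.IsSeparable k L := Algebra.isSeparable_tower_bot_of_isSeparable k L (SeparableClosure k)
    exact h L
  exact Groth.Agent.Lib.H71SepClosedGeom.geometricallyConnected_of_connectedSpace_pullback
    (SeparableClosure k) f

end Final

end Groth.Agent.Lib.H71FinSepConn
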