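import Groth.Agent.Lib.H71GalConn
import Groth.Agent.Lib.H71FinSepConn
import Groth.Agent.Lib.H71GeomRedAt

set_option autoImplicit false
universe u
open CategoryTheory CategoryTheory.Limits AlgebraicGeometry TensorProduct

namespace Groth.Agent.Lib.H71ConstField

open Groth.Agent.Lib.H71GalConn

section ToGlobal

variable {X : Scheme.{u}}

/-- The ring map `A ⟶ Γ(X, ⊤)` attached to `X ⟶ Spec A`. -/
noncomputable def tg {A : CommRingCat.{u}} (f : X ⟶ Spec A) : A ⟶ Γ(X, ⊤) :=
  (Scheme.ΓSpecIso A).inv ≫ f.appTop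

theorem eq_toSpecΓ_tg {A : CommRingCat.{u}} (f : X ⟶ Spec A) :
    f = X.toSpecΓ ≫ Spec.map (tg f) := by
  calc f = f ≫ (Spec A).toSpecΓ ≫ Spec.map (Scheme.ΓSpecIso A).inv := by
        rw [toSpecΓ_SpecMap_ΓSpecIso_inv, Category.comp_id]
    _ = X.toSpecΓ ≫ Spec.map ((Scheme.ΓSpecIso A).inv ≫ f.appTop) := by
        rw [← Category.assoc, Scheme.toSpecΓ_naturality, Category.assoc, ← Spec.map_comp]
    _ = _ := rfl

theorem tg_comp {A B : CommRingCat.{u}} (χ : X ⟶ Spec B) (γ : A ⟶ B) :
    tg (χ ≫ Spec.map γ) = γ ≫ tg χ := by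
  simp only [tg]
  rw [Scheme.Hom.comp_appTop, ← Category.assoc, ← Scheme.ΓSpecIso_inv_naturality, Category.assoc]

theorem tg_toSpecΓ {B : CommRingCat.{u}} (β : B ⟶ Γ(X, ⊤)) :
    tg (X.toSpecΓ ≫ Spec.map β) = β := by
  simp only [tg]
  rw [Scheme.Hom.comp_appTop, ← Category.assoc, ← Scheme.ΓSpecIso_inv_naturality, Category.assoc,
    Scheme.toSpecΓ_appTop, Iso.inv_hom_id, Category.comp_id]

end ToGlobal

section Tower

variable {k : Type u} [Field k] (K L : Type u) [Field K] [Field L] [Algebra k K] [Algebra k L]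
  [Algebra K L] [IsScalarTower k K L] {X : Scheme.{u}} (f : X ⟶ Spec (CommRingCat.of k))

/-- For fields `k → K → L`, there is a surjection `X_L → X_K`. -/
theorem exists_surjective_tower :
    ∃ m : pullback f (Spec.map (CommRingCat.ofHom (algebraMap k L))) ⟶
      pullback f (Spec.map (CommRingCat.ofHom (algebraMap k K))), Function.Surjective m := by
  let e := Groth.Agent.Lib.H71GeomRedAt.pullbackTransIso f
    (Spec.map (CommRingCat.ofHom (algebraMap k K)))
    (Spec.map (CommRingCat.ofHom (algebraMap K L)))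
    (Spec.map (CommRingCat.ofHom (algebraMap k L)))
    (by rw [← Spec.map_comp, ← CommRingCat.ofHom_comp, ← IsScalarTower.algebraMap_eq])
  refine ⟨e.inv ≫ pullback.fst _ _, ?_⟩
  have hsurj : Surjective (Spec.map (CommRingCat.ofHom (algebraMap K L))) :=
    Groth.Agent.Lib.H71SepClosedGeom.surjective_SpecMap L
  have h3 : Surjective (pullback.fst (pullback.snd f (Spec.map (CommRingCat.ofHom (algebraMap k K))))
      (Spec.map (CommRingCat.ofHom (algebraMap K L)))) :=
    MorphismProperty.pullback_fst _ _ hsurj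
  exact (inferInstance : Surjective (e.inv ≫ pullback.fst _ _)).surj

end Tower

end Groth.Agent.Lib.H71ConstField

namespace Groth.Agent.Lib.H71ConstField

open Groth.Agent.Lib.H71GalConn

section Zorn

variable {k : Type u} [Field k] {R : Type u} [CommRing R] [Nontrivial R] [Algebra k R]

/-- Subalgebras of `R` which are fields. -/
def fieldSubalgebras (k R : Type u) [Field k] [CommRing R] [Algebra k R] : Set (Subalgebra k R) :=
  {F | IsField F}

theorem bot_mem_fieldSubalgebras : (⊥ : Subalgebra k R) ∈ fieldSubalgebras k R := by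
  have hinj : Function.Injective (algebraMap k R) := (algebraMap k R).injective
  exact (Algebra.botEquivOfInjective hinj).toMulEquiv.isField (Field.toIsField k)

theorem exists_maximal_fieldSubalgebra :
    ∃ F : Subalgebra k R, Maximal (· ∈ fieldSubalgebras k R) F := by
  suffices ih : ∀ c ⊆ fieldSubalgebras k R, IsChain (· ≤ ·) c → ∀ y ∈ c,
      ∃ ub ∈ fieldSubalgebras k R, ∀ z ∈ c, z ≤ ub by
    obtain ⟨m, -, hm⟩ := zorn_le_nonempty₀ (fieldSubalgebras k R) ih ⊥ bot_mem_fieldSubalgebras
    exact ⟨m, hm⟩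
  intro c hc hchain y hy
  refine ⟨sSup c, ?_, fun z hz => le_sSup hz⟩
  have hne : c.Nonempty := ⟨y, hy⟩
  have hdir : DirectedOn (· ≤ ·) c := hchain.directedOn
  have hmem : ∀ x : R, x ∈ sSup c ↔ ∃ F ∈ c, x ∈ F := by
    intro x
    haveI : Nonempty ↥c := hne.to_subtype
    have := Subalgebra.coe_iSup_of_directed (K := fun i : ↥c => (i : Subalgebra k R)) hdir.directed_val
    rw [sSup_eq_iSup', ← SetLike.mem_coe, this]
    simp
  show IsField (sSup c : Subalgebra k R)
  refine ⟨⟨0, 1, zero_ne_one⟩, mul_comm, ?_⟩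
  intro a ha
  obtain ⟨F, hF, haF⟩ := (hmem a.1).mp a.2
  have hFf : IsField F := hc hF
  have ha' : (⟨a.1, haF⟩ : F) ≠ 0 := by
    intro h0
    apply ha
    apply Subtype.ext
    exact congrArg (fun t : F => (t : R)) h0
  obtain ⟨b, hb⟩ := hFf.mul_inv_cancel ha'
  refine ⟨⟨b.1, (hmem b.1).mpr ⟨F, hF, b.2⟩⟩, ?_⟩
  apply Subtype.ext
  exact congrArg (fun t : F => (t : R)) hb

end Zorn

end Groth.Agent.Lib.H71ConstField

namespace Groth.Agent.Lib.H71ConstField

open Groth.Agent.Lib.H71GalConn

section Main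

variable {k : Type u} [Field k] {X : Scheme.{u}} [ConnectedSpace X]

/-- Key step: for a maximal field of constants `k₀ ⊆ Γ(X, 𝒪_X)`, `X_L` is connected for finite Galois `L/k₀`. -/
theorem connectedSpace_of_maximal {k₀ : Type u} [Field k₀] (a : X ⟶ Spec (CommRingCat.of k₀))
    (hmax : ∀ (F : Subring Γ(X, ⊤)), IsField F → (tg a).hom.range ≤ F → F ≤ (tg a).hom.range)
    (L : Type u) [Field L] [Algebra k₀ L] [FiniteDimensional k₀ L] [IsGalois k₀ L] :
    ConnectedSpace ↥(pullback a (Spec.map (CommRingCat.ofHom (algebraMap k₀ L)))) := by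
  by_contra hcon
  obtain ⟨L₁, hL₁, χ, hχ⟩ := exists_intermediateField_of_not_connected L a hcon
  haveI : Nontrivial Γ(X, ⊤) := by
    obtain ⟨x⟩ := (inferInstance : Nonempty X)
    exact (X.presheaf.germ ⊤ x trivial).hom.domain_nontrivial
  let θ : L₁ →+* Γ(X, ⊤) := (tg χ).hom
  have hθ : θ.comp (algebraMap k₀ L₁) = (tg a).hom := by
    have := tg_comp χ (CommRingCat.ofHom (algebraMap k₀ L₁))
    rw [hχ] at this
    rw [this]
    rfl
  have hθinj : Function.Injective θ := θ.injective
  have hfield : IsField θ.range :=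
    (RingEquiv.ofLeftInverse (g := Function.invFun θ) (Function.leftInverse_invFun hθinj)).symm.toMulEquiv.isField
      (Field.toIsField L₁)
  have hle : (tg a).hom.range ≤ θ.range := by
    rintro _ ⟨c, rfl⟩
    exact ⟨algebraMap k₀ L₁ c, by rw [← hθ]; rfl⟩
  have hge := hmax θ.range hfield hle
  -- an element of `L₁` not in `k₀`
  obtain ⟨l, hl, hlbot⟩ := SetLike.exists_of_lt (bot_lt_iff_ne_bot.mpr hL₁)
  obtain ⟨c, hc⟩ := hge ⟨⟨l, hl⟩, rfl⟩
  rw [← hθ, RingHom.comp_apply] at hc
  have h2 : algebraMap k₀ L₁ c = ⟨l, hl⟩ := hθinj hc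
  apply hlbot
  rw [IntermediateField.mem_bot]
  exact ⟨c, congrArg Subtype.val h2⟩

end Main

end Groth.Agent.Lib.H71ConstField

namespace Groth.Agent.Lib.H71ConstField

open Groth.Agent.Lib.H71GalConn

section Final

variable {k : Type u} [Field k] {X : Scheme.{u}} [ConnectedSpace X]

/-- **Field of constants**: a connected `k`-scheme is geometrically connected over a suitable field `k₀` through which
its structure morphism factors. -/
theorem exists_geometricallyConnected_factorization (f : X ⟶ Spec (CommRingCat.of k)) :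
    ∃ (k₀ : Type u) (_ : Field k₀) (_ : Algebra k k₀) (a : X ⟶ Spec (CommRingCat.of k₀)),
      a ≫ Spec.map (CommRingCat.ofHom (algebraMap k k₀)) = f ∧ GeometricallyConnected a := by
  haveI : Nontrivial Γ(X, ⊤) := by
    obtain ⟨x⟩ := (inferInstance : Nonempty X)
    exact (X.presheaf.germ ⊤ x trivial).hom.domain_nontrivial
  letI algR : Algebra k Γ(X, ⊤) := (tg f).hom.toAlgebra
  obtain ⟨F, hF⟩ := exists_maximal_fieldSubalgebra (k := k) (R := Γ(X, ⊤))
  have hFf : IsField F := hF.1
  letI : Field F := hFf.toField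
  let ι₀ : F →+* Γ(X, ⊤) := F.val.toRingHom
  let a : X ⟶ Spec (CommRingCat.of F) := X.toSpecΓ ≫ Spec.map (CommRingCat.ofHom ι₀)
  have hta : tg a = CommRingCat.ofHom ι₀ := tg_toSpecΓ _
  refine ⟨F, inferInstance, inferInstance, a, ?_, ?_⟩
  · rw [eq_toSpecΓ_tg f]
    simp only [a, Category.assoc]
    rw [← Spec.map_comp]
    rfl
  · have hmax : ∀ (F' : Subring Γ(X, ⊤)), IsField F' → (tg a).hom.range ≤ F' →
        F' ≤ (tg a).hom.range := by
      intro F' hF' hle
      rw [hta] at hle ⊢
      have hle' : ∀ x : F, (x : Γ(X, ⊤)) ∈ F' := fun x => hle ⟨x, rfl⟩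
      let Fa : Subalgebra k Γ(X, ⊤) :=
        { F'.toSubsemiring with
          algebraMap_mem' := fun c => hle' (algebraMap k F c) }
      have h1 : Fa ∈ fieldSubalgebras k Γ(X, ⊤) := hF'
      have h2 : F ≤ Fa := fun x hx => hle' ⟨x, hx⟩
      have h3 : Fa ≤ F := hF.2 h1 h2
      intro x hx
      exact ⟨⟨x, h3 hx⟩, rfl⟩
    apply Groth.Agent.Lib.H71FinSepConn.geometricallyConnected_of_forall_finite_separable
    intro K _ _ _ _
    let φ : K →ₐ[F] SeparableClosure F := IsSepClosed.lift
    letI : Algebra K (SeparableClosure F) := φ.toRingHom.toAlgebra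
    haveI : IsScalarTower F K (SeparableClosure F) :=
      IsScalarTower.of_algebraMap_eq fun x => (φ.commutes x).symm
    let L := IntermediateField.normalClosure F K (SeparableClosure F)
    haveI : IsGalois F L := IsGalois.normalClosure F K (SeparableClosure F)
    haveI : FiniteDimensional F L := normalClosure.is_finiteDimensional F K (SeparableClosure F)
    haveI := connectedSpace_of_maximal a hmax L
    obtain ⟨m, hm⟩ := exists_surjective_tower K L a
    exact hm.connectedSpace m.continuous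

end Final

end Groth.Agent.Lib.H71ConstField
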