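import Groth.Agent.Lib.H80EtaleResidue
import Groth.Agent.Lib.H71ConstField

/-!
# Geometric connectedness of a fibre via étale neighbourhoods (helper71)

* `geomConn_iff`: the fibre of `f : X ⟶ S` over `s` is geometrically connected iff for every étale `g : U ⟶ S` and
  `u ↦ s`, the fibre over `u` of the base change of `f` to `U` is connected (EGA IV 15.5-type; Stacks 0389 + étale
  neighbourhoods realising finite separable residue field extensions, helper80).
* `connectedSpace_of_ringHom`: connectedness of `Y_L` gives connectedness of `Y_K` for `k → K → L`.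
-/
set_option autoImplicit false
universe u
open CategoryTheory CategoryTheory.Limits AlgebraicGeometry TensorProduct

namespace Groth.Agent.Lib.H71EtFibreConn

theorem connectedSpace_of_ringHom {k : Type u} [Field k] {Y : Scheme.{u}}
    (f₁ : Y ⟶ Spec (CommRingCat.of k))
    (K : Type u) [Field K] [Algebra k K] (L : Type u) [Field L] (φ : k →+* L) (e : K →+* L)
    (he : e.comp (algebraMap k K) = φ)
    (hc : ConnectedSpace ↥(pullback f₁ (Spec.map (CommRingCat.ofHom φ)))) :
    ConnectedSpace ↥(pullback f₁ (Spec.map (CommRingCat.ofHom (algebraMap k K)))) := by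
  letI : Algebra k L := φ.toAlgebra
  letI : Algebra K L := e.toAlgebra
  haveI : IsScalarTower k K L :=
    IsScalarTower.of_algebraMap_eq fun x => (RingHom.congr_fun he x).symm
  obtain ⟨m, hm⟩ := Groth.Agent.Lib.H71ConstField.exists_surjective_tower K L f₁
  haveI : ConnectedSpace ↥(pullback f₁ (Spec.map (CommRingCat.ofHom (algebraMap k L)))) :=
    hc
  exact hm.connectedSpace m.continuous

theorem geomConn_iff {X S : Scheme.{u}} (f : X ⟶ S) (s : S) :
    GeometricallyConnected (f.fiberToSpecResidueField s) ↔
      ∀ (U : Scheme.{u}) (g : U ⟶ S) (u : U), Etale g → g u = s →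
        ConnectedSpace ↑((pullback.snd f g).fiber u) := by
  constructor
  · intro hgc U g u _ hu
    subst hu
    have hpb := isPullback_fiberToSpecResidueField_of_isPullback (IsPullback.of_hasPullback f g) u
    exact hgc.geometrically_connectedSpace (K := U.residueField u)
      (Spec.map (g.residueFieldMap u)) _ _ hpb
  · intro h
    apply Groth.Agent.Lib.H71FinSepConn.geometricallyConnected_of_forall_finite_separable
      (k := S.residueField s)
    intro K _ _ _ _
    obtain ⟨U, g, u, hu, hg, ⟨e⟩⟩ :=
      Groth.Agent.Lib.H80EtaleResidue.exists_etale_nbhd_residueField S s K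
    have hconn := h U g u hg hu
    subst hu
    have hpb := isPullback_fiberToSpecResidueField_of_isPullback (IsPullback.of_hasPullback f g) u
    haveI hc1 : ConnectedSpace ↥(pullback (pullback.snd f g) (U.fromSpecResidueField u)) := hconn
    haveI hc2 : ConnectedSpace ↥(pullback (f.fiberToSpecResidueField (g u))
        (Spec.map (CommRingCat.ofHom (g.residueFieldMap u).hom))) :=
      hpb.isoPullback.hom.surjective.connectedSpace hpb.isoPullback.hom.continuous
    letI algL : Algebra (S.residueField (g u)) (U.residueField u) :=
      ((S.residueFieldCongr rfl).inv ≫ g.residueFieldMap u).hom.toAlgebra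
    refine connectedSpace_of_ringHom (k := S.residueField (g u)) (f.fiberToSpecResidueField (g u)) K
      (U.residueField u) (g.residueFieldMap u).hom e.toRingEquiv.toRingHom ?_ hc2
    ext x
    have h1 := e.commutes x
    have h2 : (S.residueFieldCongr (rfl : g u = g u)).inv ≫ g.residueFieldMap u = g.residueFieldMap u := by
      rw [Scheme.residueFieldCongr_refl]
      exact Category.id_comp _
    simp only [RingHom.comp_apply]
    refine h1.trans ?_
    rw [RingHom.algebraMap_toAlgebra]
    exact congrArg (fun t => t.hom x) h2

end Groth.Agent.Lib.H71EtFibreConn
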