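import Groth.Agent.Lib.ConnFib5E
import Groth.Agent.Lib.H71EtFibreConn

/-!
# Zariski connectedness, part I (helper5): geometric connectedness of the fibres (second half of
S2431), via étale neighbourhoods and flat base change (hypothesis form).
-/

set_option autoImplicit false
universe u

open CategoryTheory CategoryTheory.Limits AlgebraicGeometry TopologicalSpace Opposite

namespace Groth.Agent.Lib.ConnFib5

open Groth.Agent.Lib.ProperFinHyp

section FlatBC

variable {X S U : Scheme.{u}} (f : X ⟶ S) (g : U ⟶ S)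

/-- Flat base change preserves `O_S(V) ≅ O_X(f⁻¹V)` (on affine opens). -/
theorem isIso_app_pullback_snd_of_flat [Flat g] [QuasiCompact f] [QuasiSeparated f] {V : S.Opens}
    (hV : IsAffineOpen V) {W : U.Opens} (hW : IsAffineOpen W) (hWV : W ≤ g ⁻¹ᵁ V)
    [hiso : IsIso (f.app V)] : IsIso ((pullback.snd f g).app W) := by
  have hUY : (pullback.snd f g) ⁻¹ᵁ W =
      (pullback.fst f g) ⁻¹ᵁ (f ⁻¹ᵁ V) ⊓ (pullback.snd f g) ⁻¹ᵁ W := by
    rw [← Scheme.Hom.comp_preimage, pullback.condition, Scheme.Hom.comp_preimage,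
      ← Scheme.Hom.preimage_inf, inf_eq_right.mpr hWV]
  have hiso2 := isIso_pushoutSection_of_isQuasiSeparated_of_flat_right
    (IsPullback.of_hasPullback f g) hWV (le_refl (f ⁻¹ᵁ V)) hUY
    hV hW (f.isCompact_preimage hV.isCompact)
    (f.isQuasiSeparated_preimage hV.isQuasiSeparated)
  have hP := (isIso_pushoutSection_iff _ _ _ _).mp hiso2
  haveI : IsIso (f.appLE V (f ⁻¹ᵁ V) le_rfl) := by
    rw [← Scheme.Hom.app_eq_appLE]
    exact hiso
  have h := hP.isIso_inr_of_isIso
  rw [Scheme.Hom.app_eq_appLE]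
  exact h

end FlatBC

section Geom

variable {X Y : Scheme.{u}} (f : X ⟶ Y)

/-- **Zariski's connectedness theorem, geometric part** (hypothesis form): `f` proper, `Y` locally
Noetherian, `O_Y = f_* O_X`: `f` is geometrically connected. -/
theorem geometricallyConnected_of_isIso_app (H2 : Hyp.{u}) (H58 : Hyp58.{u}) [IsProper f]
    [IsLocallyNoetherian Y] (hf : ∀ V : Y.Opens, IsIso (f.app V)) : GeometricallyConnected f := by
  rw [GeometricallyConnected.iff_geometricallyConnected_fiber]
  intro s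
  rw [Groth.Agent.Lib.H71EtFibreConn.geomConn_iff]
  intro U g u hg hgu
  haveI : Etale g := hg
  haveI : IsLocallyNoetherian U := LocallyOfFiniteType.isLocallyNoetherian g
  obtain ⟨_, ⟨V, hV, rfl⟩, hsV, -⟩ :=
    Y.isBasis_affineOpens.exists_subset_of_mem_open (Set.mem_univ (g u)) isOpen_univ
  obtain ⟨_, ⟨W, hW, rfl⟩, huW, hWV⟩ :=
    U.isBasis_affineOpens.exists_subset_of_mem_open (a := u) hsV (g ⁻¹ᵁ V).2
  haveI := hf V
  haveI : IsIso ((pullback.snd f g).app W) := isIso_app_pullback_snd_of_flat f g hV hW hWV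
  exact connectedSpace_fiber_of_isConnected (pullback.snd f g) u
    (isConnected_preimage_singleton_of_isIso_app (pullback.snd f g) H2 H58 u hW huW)

/-- **S2431 (hypothesis form).** -/
theorem zariski_connectedness (H2 : Hyp.{u}) (H58 : Hyp58.{u}) [IsProper f]
    [IsLocallyNoetherian Y] (hf : ∀ U : Y.Opens, IsIso (f.app U)) :
    (∀ y : Y, ConnectedSpace (f.fiber y)) ∧ GeometricallyConnected f :=
  ⟨connectedSpace_fiber_of_isIso_app f H2 H58 hf, geometricallyConnected_of_isIso_app f H2 H58 hf⟩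

end Geom

end Groth.Agent.Lib.ConnFib5
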