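import Groth.Agent.Lib.ConnFib5I

/-!
# Zariski connectedness, part J (helper5): connectedness of flat base changes (S5670, hypothesis form).
-/

set_option autoImplicit false
universe u

open CategoryTheory CategoryTheory.Limits AlgebraicGeometry TopologicalSpace Opposite

namespace Groth.Agent.Lib.ConnFib5

open Groth.Agent.Lib.ProperFinHyp

variable {X Y Y' : Scheme.{u}} (f : X ⟶ Y)

/-- A proper morphism with connected fibres onto a connected scheme has connected source. -/
theorem connectedSpace_of_isConnected_fibres [UniversallyClosed f] [ConnectedSpace Y]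
    (h : ∀ y : Y, _root_.IsConnected (f ⁻¹' {y})) : ConnectedSpace X := by
  have hsurj : Function.Surjective f := fun y => by
    obtain ⟨x, hx⟩ := (h y).1
    exact ⟨x, hx⟩
  have hq := (f.isClosedMap.isQuotientMap f.continuous hsurj).isCoinducing
  have := hq.isConnected_preimage_of_isClosed h isClosed_univ isConnected_univ
  rw [Set.preimage_univ] at this
  exact connectedSpace_iff_univ.mpr this

/-- **S5670 (hypothesis form, slightly more general).** -/
theorem connectedSpace_pullback_of_flat (H2 : Hyp.{u}) (H58 : Hyp58.{u}) [IsProper f]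
    [IsLocallyNoetherian Y] (hf : ∀ U : Y.Opens, IsIso (f.app U)) (g : Y' ⟶ Y) [Flat g]
    [LocallyOfFiniteType g] [ConnectedSpace Y'] : ConnectedSpace ↥(pullback f g) := by
  haveI : IsLocallyNoetherian Y' := LocallyOfFiniteType.isLocallyNoetherian g
  apply connectedSpace_of_isConnected_fibres (pullback.snd f g)
  intro u
  obtain ⟨_, ⟨V, hV, rfl⟩, hsV, -⟩ :=
    Y.isBasis_affineOpens.exists_subset_of_mem_open (Set.mem_univ (g u)) isOpen_univ
  obtain ⟨_, ⟨W, hW, rfl⟩, huW, hWV⟩ :=
    Y'.isBasis_affineOpens.exists_subset_of_mem_open (a := u) hsV (g ⁻¹ᵁ V).2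
  haveI := hf V
  haveI : IsIso ((pullback.snd f g).app W) := isIso_app_pullback_snd_of_flat f g hV hW hWV
  exact isConnected_preimage_singleton_of_isIso_app (pullback.snd f g) H2 H58 u hW huW

end Groth.Agent.Lib.ConnFib5
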