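import Groth.Agent.Lib.ConnFib5H
import Groth.Prelude.Def_CAlg2

/-!
# Zariski connectedness, part K (helper5): fibres over unibranch points (EGA III 4.3.5–4.3.7),
S4464 in hypothesis form.
-/

set_option autoImplicit false
universe u

open CategoryTheory CategoryTheory.Limits AlgebraicGeometry TopologicalSpace Opposite

namespace Groth.Agent.Lib.ConnFib5

open Groth.Agent.Lib.ProperFinHyp

section Alg

/-- An integral ring map out of a local ring, every element of whose target has a positive power in
the range (e.g. a purely inseparable integral extension), has a target with at most one maximal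
ideal. -/
theorem subsingleton_maximalSpectrum_of_pow_mem_range {R S : Type*} [CommRing R] [CommRing S]
    [IsLocalRing R] (φ : R →+* S) (hint : φ.IsIntegral)
    (hpow : ∀ s : S, ∃ n : ℕ, 0 < n ∧ s ^ n ∈ φ.range) : Subsingleton (MaximalSpectrum S) := by
  have key : ∀ m₁ m₂ : MaximalSpectrum S, ∀ s : S, s ∈ m₁.asIdeal → s ∈ m₂.asIdeal := by
    intro m₁ m₂ s hs
    obtain ⟨n, hn, r, hr⟩ := hpow s
    haveI := m₁.isMaximal
    haveI := m₂.isMaximal
    have h1 := IsLocalRing.eq_maximalIdeal
      (Ideal.isMaximal_comap_of_isIntegral_of_isMaximal' φ hint m₁.asIdeal)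
    have h2 := IsLocalRing.eq_maximalIdeal
      (Ideal.isMaximal_comap_of_isIntegral_of_isMaximal' φ hint m₂.asIdeal)
    have hr1 : r ∈ m₁.asIdeal.comap φ := by
      rw [Ideal.mem_comap, hr]
      exact Ideal.pow_mem_of_mem _ hs n hn
    rw [h1, ← h2, Ideal.mem_comap, hr] at hr1
    exact m₂.isMaximal.isPrime.mem_of_pow_mem n hr1
  refine ⟨fun m₁ m₂ => MaximalSpectrum.ext (Ideal.ext fun s => ⟨key m₁ m₂ s, key m₂ m₁ s⟩)⟩

end Alg

section Unibranch

variable {X Y : Scheme.{u}} [IsIntegral X] [IsIntegral Y] (f : X ⟶ Y)

/-- A closed dominant morphism of integral schemes is surjective. -/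
theorem surjective_of_isClosedMap_of_dominant (hcl : IsClosedMap f.base)
    (hdom : f.base (genericPoint X) = genericPoint Y) : Function.Surjective f.base := by
  rw [← Set.range_eq_univ]
  have hc : IsClosed (Set.range f.base) := hcl.isClosed_range
  have h1 : closure {genericPoint Y} ⊆ Set.range f.base :=
    hc.closure_subset_iff.mpr (by rw [Set.singleton_subset_iff, ← hdom]; exact Set.mem_range_self _)
  rw [(genericPoint_spec Y).def] at h1
  exact Set.eq_univ_of_univ_subset h1

theorem stalkToFunctionField_eq_comp (y : Y) (hdom : f.base (genericPoint X) ⤳ genericPoint Y)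
    (h : f.base (genericPoint X) ⤳ y) :
    CohIII.stalkToFunctionField f y h =
      (CohIII.stalkToFunctionField f (genericPoint Y) hdom).comp
        (algebraMap (Y.presheaf.stalk y) Y.functionField) := by
  unfold CohIII.stalkToFunctionField
  rw [RingHom.algebraMap_toAlgebra, RingHom.comp_assoc]
  congr 1
  rw [← CommRingCat.hom_comp, TopCat.Presheaf.stalkSpecializes_comp]

/-- **S4464 core**: over a unibranch point `y`, when the algebraic closure of `R(Y)` in `R(X)` is
purely inseparable over `R(Y)`, the integral closure of `O_{Y,y}` in `R(X)` has at most one maximal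
ideal. -/
theorem subsingleton_maximalSpectrum_integralClosureStalk
    (hdom : f.base (genericPoint X) ⤳ genericPoint Y)
    (hrad : ∀ x : X.functionField,
      (∃ q : Polynomial Y.functionField, q ≠ 0 ∧
        Polynomial.eval₂ (CohIII.stalkToFunctionField f (genericPoint Y) hdom) x q = 0) →
      ∃ e : ℕ, x ^ (ringExpChar X.functionField ^ e) ∈
        Set.range (CohIII.stalkToFunctionField f (genericPoint Y) hdom))
    (y : Y) (h : f.base (genericPoint X) ⤳ y) (hy : CAlg2.IsUnibranch (Y.presheaf.stalk y)) :
    Subsingleton (MaximalSpectrum (CohIII.integralClosureStalk f y h)) := by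
  set σ := CohIII.stalkToFunctionField f y h with hσ
  set ψ := CohIII.stalkToFunctionField f (genericPoint Y) hdom with hψ
  have hσψ : σ = ψ.comp (algebraMap (Y.presheaf.stalk y) Y.functionField) :=
    stalkToFunctionField_eq_comp f y hdom h
  have hσinj : Function.Injective σ := by
    rw [hσψ]
    exact ψ.injective.comp (IsFractionRing.injective (Y.presheaf.stalk y) Y.functionField)
  haveI : IsDomain (CAlg2.red (Y.presheaf.stalk y)) := hy.1
  haveI : IsLocalRing (CAlg2.normRed (Y.presheaf.stalk y)) := hy.2
  -- the identification `A_red ≃ A`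
  have hnil : nilradical (Y.presheaf.stalk y) = ⊥ := nilradical_eq_zero _
  let e : CAlg2.red (Y.presheaf.stalk y) ≃+* Y.presheaf.stalk y :=
    (Ideal.quotEquivOfEq hnil).trans (RingEquiv.quotientBot _)
  let σ' : CAlg2.red (Y.presheaf.stalk y) →+* X.functionField := σ.comp e.toRingHom
  have hσ'inj : Function.Injective σ' := hσinj.comp e.injective
  let θ : FractionRing (CAlg2.red (Y.presheaf.stalk y)) →+* X.functionField :=
    IsFractionRing.lift hσ'inj
  have hθ : ∀ r, θ (algebraMap _ _ r) = σ' r := IsFractionRing.lift_algebraMap hσ'inj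
  have hθσ' : θ.comp (algebraMap _ _) = σ' := RingHom.ext hθ
  have hθσ : (θ.comp (algebraMap (CAlg2.red (Y.presheaf.stalk y)) _)).comp e.symm.toRingHom = σ := by
    rw [hθσ']
    ext a
    simp [σ']
  -- `θ` maps the normalization into the integral closure
  have hmem : ∀ n : CAlg2.normRed (Y.presheaf.stalk y),
      (θ.comp (algebraMap (CAlg2.normRed (Y.presheaf.stalk y))
        (FractionRing (CAlg2.red (Y.presheaf.stalk y))))) n ∈
        CohIII.integralClosureStalk f y h := by
    intro n
    obtain ⟨p, hp, hpn⟩ := n.2
    change RingHom.IsIntegralElem σ _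
    refine ⟨p.map e.toRingHom, hp.map _, ?_⟩
    rw [Polynomial.eval₂_map]
    change Polynomial.eval₂ σ' _ p = 0
    rw [← hθσ']
    have := Polynomial.hom_eval₂ p (algebraMap (CAlg2.red (Y.presheaf.stalk y)) _) θ n.1
    rw [hpn, map_zero] at this
    exact this.symm
  let φ : CAlg2.normRed (Y.presheaf.stalk y) →+* CohIII.integralClosureStalk f y h :=
    (θ.comp (algebraMap (CAlg2.normRed (Y.presheaf.stalk y))
      (FractionRing (CAlg2.red (Y.presheaf.stalk y))))).codRestrict _ hmem
  let ρ : Y.presheaf.stalk y →+* CAlg2.normRed (Y.presheaf.stalk y) :=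
    (algebraMap (CAlg2.red (Y.presheaf.stalk y)) _).comp e.symm.toRingHom
  have hρ : ((CohIII.integralClosureStalk f y h).subtype.comp φ).comp ρ = σ := by
    rw [← hθσ]
    rfl
  apply subsingleton_maximalSpectrum_of_pow_mem_range φ
  · intro x
    obtain ⟨p, hp, hpx⟩ : RingHom.IsIntegralElem σ (x : X.functionField) := x.2
    refine ⟨p.map ρ, hp.map _, ?_⟩
    apply Subtype.ext
    have e1 : ((Polynomial.eval₂ φ x (p.map ρ) : CohIII.integralClosureStalk f y h) :
        X.functionField) = Polynomial.eval₂
          ((CohIII.integralClosureStalk f y h).subtype.comp φ) (x : X.functionField) (p.map ρ) :=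
      Polynomial.hom_eval₂ (p.map ρ) φ (CohIII.integralClosureStalk f y h).subtype x
    rw [e1, Polynomial.eval₂_map, hρ, hpx]
    rfl
  · intro b
    obtain ⟨p, hp, hpb⟩ : RingHom.IsIntegralElem σ (b : X.functionField) := b.2
    obtain ⟨k, z, hz⟩ := hrad b.1 ⟨p.map (algebraMap (Y.presheaf.stalk y) Y.functionField),
      (hp.map _).ne_zero, by rw [Polynomial.eval₂_map, ← hσψ]; exact hpb⟩
    refine ⟨ringExpChar X.functionField ^ k,
      pow_pos (lt_of_lt_of_le one_pos (le_max_right _ _)) k, ?_⟩
    obtain ⟨a, s, hs, rfl⟩ := IsFractionRing.div_surjective (A := Y.presheaf.stalk y) z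
    set c : FractionRing (CAlg2.red (Y.presheaf.stalk y)) :=
      algebraMap _ _ (e.symm a) / algebraMap _ _ (e.symm s) with hc
    have hθc : θ c = (b : X.functionField) ^ (ringExpChar X.functionField ^ k) := by
      rw [← hz, hc, map_div₀, hθ, hθ, map_div₀]
      have e2 : ∀ t, σ' (e.symm t) = ψ (algebraMap _ _ t) := by
        intro t
        simp [σ', hσψ]
      rw [e2, e2]
    have hcint : c ∈ integralClosure (CAlg2.red (Y.presheaf.stalk y))
        (FractionRing (CAlg2.red (Y.presheaf.stalk y))) := by
      have hbk : RingHom.IsIntegralElem σ (θ c) := by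
        rw [hθc, ← Subring.coe_pow]
        exact (b ^ (ringExpChar X.functionField ^ k)).2
      obtain ⟨P, hP, hPc⟩ := hbk
      refine ⟨P.map e.symm.toRingHom, hP.map _, ?_⟩
      apply θ.injective
      rw [map_zero, Polynomial.hom_eval₂, Polynomial.eval₂_map, hθσ, hPc]
    refine ⟨⟨c, hcint⟩, Subtype.ext ?_⟩
    rw [Subring.coe_pow, ← hθc]
    rfl

theorem preconnectedSpace_of_subsingleton_connectedComponents {α : Type*} [TopologicalSpace α]
    [Subsingleton (_root_.ConnectedComponents α)] : PreconnectedSpace α := by
  rw [preconnectedSpace_iff_connectedComponent]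
  intro x
  apply Set.eq_univ_of_forall
  intro z
  have : connectedComponent x = connectedComponent z :=
    ConnectedComponents.coe_eq_coe.mp (Subsingleton.elim _ _)
  rw [this]
  exact mem_connectedComponent

/-- **S4464 (hypothesis form)**: fibres of a proper dominant morphism of locally Noetherian integral
schemes over unibranch points are connected, when the algebraic closure of `R(Y)` in `R(X)` is purely
inseparable over `R(Y)`. -/
theorem connectedSpace_fiber_of_unibranch (H2 : Hyp.{u}) (H58 : Hyp58.{u})
    [IsLocallyNoetherian Y] [IsProper f]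
    (hdom : f.base (genericPoint X) ⤳ genericPoint Y)
    (hrad : ∀ x : X.functionField,
      (∃ q : Polynomial Y.functionField, q ≠ 0 ∧
        Polynomial.eval₂ (CohIII.stalkToFunctionField f (genericPoint Y) hdom) x q = 0) →
      ∃ e : ℕ, x ^ (ringExpChar X.functionField ^ e) ∈
        Set.range (CohIII.stalkToFunctionField f (genericPoint Y) hdom))
    (y : Y) (hy : CAlg2.IsUnibranch (Y.presheaf.stalk y)) :
    ConnectedSpace ↥(f.fiber y) := by
  have hgen : f.base (genericPoint X) = genericPoint Y :=
    (hdom.antisymm ((genericPoint_spec Y).specializes (Set.mem_univ _))).eq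
  have h : f.base (genericPoint X) ⤳ y := by
    rw [hgen]
    exact (genericPoint_spec Y).specializes (Set.mem_univ y)
  haveI := subsingleton_maximalSpectrum_integralClosureStalk f hdom hrad y h hy
  have hle := mk_connectedComponents_fiber_le_integralClosure f y h H2 H58
  haveI : Subsingleton (_root_.ConnectedComponents (f.fiber y)) :=
    Cardinal.le_one_iff_subsingleton.mp (hle.trans (Cardinal.le_one_iff_subsingleton.mpr inferInstance))
  haveI := preconnectedSpace_of_subsingleton_connectedComponents (α := f.fiber y)
  have hsurj := surjective_of_isClosedMap_of_dominant f f.isClosedMap hgen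
  obtain ⟨x, hx⟩ := hsurj y
  have hx' : x ∈ Set.range (f.fiberι y) := by
    rw [f.range_fiberι y]
    exact hx
  obtain ⟨x', -⟩ := hx'
  exact { toPreconnectedSpace := inferInstance, toNonempty := ⟨x'⟩ }

end Unibranch

end Groth.Agent.Lib.ConnFib5
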