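import Groth.Agent.Lib.ConnFib5K
import Groth.Agent.Lib.ConnFib5F
import Groth.Agent.Lib.BlowUpUniv5
import Groth.Agent.Lib.BlowUpProper68

/-!
# Zariski connectedness, part L (helper5): unibranch points again (stalk only isomorphic to a
unibranch ring), proper birational morphisms, and the closed fibre of a blow-up of a unibranch local
domain (S4472 in hypothesis form).
-/

set_option autoImplicit false
universe u

open CategoryTheory CategoryTheory.Limits AlgebraicGeometry TopologicalSpace Opposite

namespace Groth.Agent.Lib.ConnFib5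

open Groth.Agent.Lib.ProperFinHyp

section Unibranch

variable {X Y : Scheme.{u}} [IsIntegral X] [IsIntegral Y] (f : X ⟶ Y)

/-- Generalisation of `subsingleton_maximalSpectrum_integralClosureStalk`: the unibranch local ring
is only assumed to be isomorphic to the stalk `O_{Y,y}`. -/
theorem subsingleton_maximalSpectrum_integralClosureStalk'
    (hdom : f.base (genericPoint X) ⤳ genericPoint Y)
    (hrad : ∀ x : X.functionField,
      (∃ q : Polynomial Y.functionField, q ≠ 0 ∧
        Polynomial.eval₂ (CohIII.stalkToFunctionField f (genericPoint Y) hdom) x q = 0) →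
      ∃ e : ℕ, x ^ (ringExpChar X.functionField ^ e) ∈
        Set.range (CohIII.stalkToFunctionField f (genericPoint Y) hdom))
    (y : Y) (h : f.base (genericPoint X) ⤳ y) {A₀ : Type u} [CommRing A₀] [IsLocalRing A₀]
    (hy : CAlg2.IsUnibranch A₀) (e₀ : A₀ ≃+* Y.presheaf.stalk y) :
    Subsingleton (MaximalSpectrum (CohIII.integralClosureStalk f y h)) := by
  set σ := CohIII.stalkToFunctionField f y h with hσ
  set ψ := CohIII.stalkToFunctionField f (genericPoint Y) hdom with hψ
  have hσψ : σ = ψ.comp (algebraMap (Y.presheaf.stalk y) Y.functionField) :=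
    stalkToFunctionField_eq_comp f y hdom h
  have hσinj : Function.Injective σ := by
    rw [hσψ]
    exact ψ.injective.comp (IsFractionRing.injective (Y.presheaf.stalk y) Y.functionField)
  haveI : IsDomain (CAlg2.red A₀) := hy.1
  haveI : IsLocalRing (CAlg2.normRed A₀) := hy.2
  -- the identification `A_red ≃ A`
  haveI : IsDomain A₀ := e₀.injective.isDomain e₀.toRingHom
  have hnil : nilradical A₀ = ⊥ := nilradical_eq_zero _
  let e : CAlg2.red A₀ ≃+* Y.presheaf.stalk y :=
    ((Ideal.quotEquivOfEq hnil).trans (RingEquiv.quotientBot _)).trans e₀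
  let σ' : CAlg2.red A₀ →+* X.functionField := σ.comp e.toRingHom
  have hσ'inj : Function.Injective σ' := hσinj.comp e.injective
  let θ : FractionRing (CAlg2.red A₀) →+* X.functionField :=
    IsFractionRing.lift hσ'inj
  have hθ : ∀ r, θ (algebraMap _ _ r) = σ' r := IsFractionRing.lift_algebraMap hσ'inj
  have hθσ' : θ.comp (algebraMap _ _) = σ' := RingHom.ext hθ
  have hθσ : (θ.comp (algebraMap (CAlg2.red A₀) _)).comp e.symm.toRingHom = σ := by
    rw [hθσ']
    ext a
    simp [σ']
  -- `θ` maps the normalization into the integral closure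
  have hmem : ∀ n : CAlg2.normRed A₀,
      (θ.comp (algebraMap (CAlg2.normRed A₀)
        (FractionRing (CAlg2.red A₀)))) n ∈
        CohIII.integralClosureStalk f y h := by
    intro n
    obtain ⟨p, hp, hpn⟩ := n.2
    change RingHom.IsIntegralElem σ _
    refine ⟨p.map e.toRingHom, hp.map _, ?_⟩
    rw [Polynomial.eval₂_map]
    change Polynomial.eval₂ σ' _ p = 0
    rw [← hθσ']
    have := Polynomial.hom_eval₂ p (algebraMap (CAlg2.red A₀) _) θ n.1
    rw [hpn, map_zero] at this
    exact this.symm
  let φ : CAlg2.normRed A₀ →+* CohIII.integralClosureStalk f y h :=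
    (θ.comp (algebraMap (CAlg2.normRed A₀)
      (FractionRing (CAlg2.red A₀)))).codRestrict _ hmem
  let ρ : Y.presheaf.stalk y →+* CAlg2.normRed A₀ :=
    (algebraMap (CAlg2.red A₀) _).comp e.symm.toRingHom
  have hρ : ((CohIII.integralClosureStalk f y h).subtype.comp φ).comp ρ = σ := by
    rw [← hθσ]
    rfl
  apply subsingleton_maximalSpectrum_of_pow_mem_range φ
  · intro x
    obtain ⟨p, hp, hpx⟩ : RingHom.IsIntegralElem σ (x : X.functionField) := x.2
    refine ⟨p.map ρ, hp.map _, ?_⟩
    apply Subtype.ext
    have e1 : ((Polynomial.eval₂ φ x (p.map ρ) : CohIII.integralClosureStalk f y h) :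
        X.functionField) = Polynomial.eval₂
          ((CohIII.integralClosureStalk f y h).subtype.comp φ) (x : X.functionField) (p.map ρ) :=
      Polynomial.hom_eval₂ (p.map ρ) φ (CohIII.integralClosureStalk f y h).subtype x
    rw [e1, Polynomial.eval₂_map, hρ, hpx]
    rfl
  · intro b
    obtain ⟨p, hp, hpb⟩ : RingHom.IsIntegralElem σ (b : X.functionField) := b.2
    obtain ⟨k, z, hz⟩ := hrad b.1 ⟨p.map (algebraMap (Y.presheaf.stalk y) Y.functionField),
      (hp.map _).ne_zero, by rw [Polynomial.eval₂_map, ← hσψ]; exact hpb⟩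
    refine ⟨ringExpChar X.functionField ^ k,
      pow_pos (lt_of_lt_of_le one_pos (le_max_right _ _)) k, ?_⟩
    obtain ⟨a, s, hs, rfl⟩ := IsFractionRing.div_surjective (A := Y.presheaf.stalk y) z
    set c : FractionRing (CAlg2.red A₀) :=
      algebraMap _ _ (e.symm a) / algebraMap _ _ (e.symm s) with hc
    have hθc : θ c = (b : X.functionField) ^ (ringExpChar X.functionField ^ k) := by
      rw [← hz, hc, map_div₀, hθ, hθ, map_div₀]
      have e2 : ∀ t, σ' (e.symm t) = ψ (algebraMap _ _ t) := by
        intro t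
        simp [σ', hσψ]
      rw [e2, e2]
    have hcint : c ∈ integralClosure (CAlg2.red A₀)
        (FractionRing (CAlg2.red A₀)) := by
      have hbk : RingHom.IsIntegralElem σ (θ c) := by
        rw [hθc, ← Subring.coe_pow]
        exact (b ^ (ringExpChar X.functionField ^ k)).2
      obtain ⟨P, hP, hPc⟩ := hbk
      refine ⟨P.map e.symm.toRingHom, hP.map _, ?_⟩
      apply θ.injective
      rw [map_zero, Polynomial.hom_eval₂, Polynomial.eval₂_map, hθσ, hPc]
    refine ⟨⟨c, hcint⟩, Subtype.ext ?_⟩
    rw [Subring.coe_pow, ← hθc]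
    rfl

/-- Fibres over unibranch points (the stalk being isomorphic to a unibranch local ring `A₀`). -/
theorem connectedSpace_fiber_of_unibranch' (H2 : Hyp.{u}) (H58 : Hyp58.{u})
    [IsLocallyNoetherian Y] [IsProper f]
    (hdom : f.base (genericPoint X) ⤳ genericPoint Y)
    (hrad : ∀ x : X.functionField,
      (∃ q : Polynomial Y.functionField, q ≠ 0 ∧
        Polynomial.eval₂ (CohIII.stalkToFunctionField f (genericPoint Y) hdom) x q = 0) →
      ∃ e : ℕ, x ^ (ringExpChar X.functionField ^ e) ∈
        Set.range (CohIII.stalkToFunctionField f (genericPoint Y) hdom))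
    (y : Y) {A₀ : Type u} [CommRing A₀] [IsLocalRing A₀]
    (hy : CAlg2.IsUnibranch A₀) (e₀ : A₀ ≃+* Y.presheaf.stalk y) :
    ConnectedSpace ↥(f.fiber y) := by
  have hgen : f.base (genericPoint X) = genericPoint Y :=
    (hdom.antisymm ((genericPoint_spec Y).specializes (Set.mem_univ _))).eq
  have h : f.base (genericPoint X) ⤳ y := by
    rw [hgen]
    exact (genericPoint_spec Y).specializes (Set.mem_univ y)
  haveI := subsingleton_maximalSpectrum_integralClosureStalk' f hdom hrad y h hy e₀
  have hle := mk_connectedComponents_fiber_le_integralClosure f y h H2 H58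
  haveI : Subsingleton (_root_.ConnectedComponents (f.fiber y)) :=
    Cardinal.le_one_iff_subsingleton.mp
      (hle.trans (Cardinal.le_one_iff_subsingleton.mpr inferInstance))
  haveI := preconnectedSpace_of_subsingleton_connectedComponents (α := f.fiber y)
  have hsurj := surjective_of_isClosedMap_of_dominant f f.isClosedMap hgen
  obtain ⟨x, hx⟩ := hsurj y
  have hx' : x ∈ Set.range (f.fiberι y) := by
    rw [f.range_fiberι y]
    exact hx
  obtain ⟨x', -⟩ := hx'
  exact { toPreconnectedSpace := inferInstance, toNonempty := ⟨x'⟩ }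

/-- Proper birational morphisms have connected fibres over unibranch points. -/
theorem connectedSpace_fiber_of_unibranch_of_birational (H2 : Hyp.{u}) (H58 : Hyp58.{u})
    [IsLocallyNoetherian Y] [IsProper f]
    (hgen : f.base (genericPoint X) = genericPoint Y)
    (hbir : IsIso (f.stalkMap (genericPoint X)))
    (y : Y) {A₀ : Type u} [CommRing A₀] [IsLocalRing A₀]
    (hy : CAlg2.IsUnibranch A₀) (e₀ : A₀ ≃+* Y.presheaf.stalk y) :
    ConnectedSpace ↥(f.fiber y) := by
  have hdom : f.base (genericPoint X) ⤳ genericPoint Y := specializes_of_eq hgen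
  have hsurj : Function.Surjective (CohIII.stalkToFunctionField f (genericPoint Y) hdom) := by
    have h1 := (bijective_stalkSpecializes_of_eq hgen hdom).2
    have h2 : Function.Surjective (f.stalkMap (genericPoint X)).hom :=
      (ConcreteCategory.bijective_of_isIso (f.stalkMap (genericPoint X))).2
    exact h2.comp h1
  refine connectedSpace_fiber_of_unibranch' f H2 H58 hdom (fun x _ => ⟨0, ?_⟩) y hy e₀
  rw [pow_zero, pow_one]
  exact hsurj x

end Unibranch

section BlowUp

open Groth.Agent.Lib.BlowUpUniv Groth.Agent.Lib.BlowUpProper68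

variable {X Y : Scheme.{u}}

/-- A blow-up of an integral scheme in an ideal sheaf whose support is not everything is birational:
the generic point goes to the generic point, and the stalk map there is an isomorphism. -/
theorem blowUp_birational [IsIntegral Y] [IsIntegral X] {𝓘 : Y.IdealSheafData} {b : X ⟶ Y}
    (hb : BlowUp.IsBlowUp b 𝓘)
    (hne : ((𝓘.support.compl : Y.Opens) : Set Y).Nonempty) :
    b.base (genericPoint X) = genericPoint Y ∧ IsIso (b.stalkMap (genericPoint X)) := by
  haveI hiso := isIso_morphismRestrict_compl hb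
  set W : Y.Opens := 𝓘.support.compl with hW
  -- the generic point of `X` lies over `W`
  have hWX : ((b ⁻¹ᵁ W : X.Opens) : Set X).Nonempty := by
    obtain ⟨w, hw⟩ := hne
    exact ⟨((inv (b ∣_ W)) ⟨w, hw⟩).1, ((inv (b ∣_ W)) ⟨w, hw⟩).2⟩
  have hξ : genericPoint X ∈ b ⁻¹ᵁ W :=
    ((genericPoint_spec X).mem_open_set_iff (b ⁻¹ᵁ W).isOpen).mpr
      (by simpa [Set.univ_inter] using hWX)
  constructor
  · -- `W ⊆ range b`, and `W` is dense
    have hWr : (W : Set Y) ⊆ Set.range b.base := by
      intro w hw
      refine ⟨((inv (b ∣_ W)) ⟨w, hw⟩).1, ?_⟩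
      have h1 := morphismRestrict_base_coe b W ((inv (b ∣_ W)) ⟨w, hw⟩)
      rw [← h1]
      have h2 : (b ∣_ W) ((inv (b ∣_ W)) ⟨w, hw⟩) = ⟨w, hw⟩ := by
        exact congr($(IsIso.inv_hom_id (b ∣_ W)).base ⟨w, hw⟩)
      rw [h2]
    have hgp := (genericPoint_spec X).image b.continuous
    have hcl : closure (b.base '' Set.univ) = Set.univ := by
      have hd : Dense (W : Set Y) := W.isOpen.dense hne
      apply Set.eq_univ_of_univ_subset
      rw [← hd.closure_eq]
      apply closure_mono
      rw [Set.image_univ]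
      exact hWr
    rw [hcl] at hgp
    exact ((genericPoint_spec Y).eq hgp).symm
  · have h1 : ∀ z, IsIso ((b ∣_ W).stalkMap z) := fun z => inferInstance
    exact ((MorphismProperty.isomorphisms CommRingCat).arrow_mk_iso_iff
      (morphismRestrictStalkMap b W ⟨genericPoint X, hξ⟩)).mp (h1 _)

/-- **S4472 (hypothesis form)**: the closed fibre of a blow-up of a unibranch Noetherian local
domain (in any ideal) is preconnected. -/
theorem preconnectedSpace_fiber_blowUp_of_unibranch (H2 : Hyp.{u}) (H58 : Hyp58.{u})
    (A : Type u) [CommRing A] [IsDomain A] [IsNoetherianRing A] [IsLocalRing A]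
    (hA : CAlg2.IsUnibranch A) (𝔞 : Ideal A) {X : Scheme.{u}}
    (b : X ⟶ Spec (CommRingCat.of A))
    (hb : BlowUp.IsBlowUp b
      (Scheme.IdealSheafData.ofIdealTop (𝔞.map (Scheme.ΓSpecIso (CommRingCat.of A)).inv.hom))) :
    PreconnectedSpace ↥(b.fiber (IsLocalRing.closedPoint A)) := by
  set 𝓘 := Scheme.IdealSheafData.ofIdealTop
    (𝔞.map (Scheme.ΓSpecIso (CommRingCat.of A)).inv.hom) with h𝓘
  by_cases hne : ((𝓘.support.compl : (Spec (CommRingCat.of A)).Opens) :
      Set (Spec (CommRingCat.of A))).Nonempty
  · haveI := irreducibleSpace_of_isBlowUp hb hne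
    haveI := isReduced_of_isBlowUp hb
    haveI : IsIntegral X := isIntegral_of_irreducibleSpace_of_isReduced X
    haveI : IsProper b := by
      refine isProper_of_isBlowUp b 𝓘 hb (fun x => ⟨⟨⊤, isAffineOpen_top _⟩, trivial, ?_⟩)
      rw [h𝓘, Scheme.IdealSheafData.ofIdealTop_ideal]
      have h0 : 𝔞.FG := IsNoetherian.noetherian 𝔞
      exact Ideal.FG.map (Ideal.FG.map h0 _) _
    obtain ⟨hgen, hbir⟩ := blowUp_birational hb hne
    haveI := connectedSpace_fiber_of_unibranch_of_birational b H2 H58 hgen hbir
      (IsLocalRing.closedPoint A) hA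
      (stalkClosedPointIso (CommRingCat.of A)).symm.commRingCatIsoToRingEquiv
    infer_instance
  · -- `X` is empty
    haveI : IsEmpty X := by
      by_contra hX
      rw [not_isEmpty_iff] at hX
      obtain ⟨x⟩ := hX
      obtain ⟨z, -, hz⟩ := inter_preimage_compl_nonempty hb ⊤ ⟨x, trivial⟩
      exact hne ⟨b.base z, hz⟩
    haveI : IsEmpty ↥(b.fiber (IsLocalRing.closedPoint A)) :=
      ⟨fun z => isEmptyElim ((b.fiberι (IsLocalRing.closedPoint A)).base z)⟩
    infer_instance

end BlowUp

end Groth.Agent.Lib.ConnFib5
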