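import Groth.Agent.Lib.NoethTop
import Mathlib.Topology.Separation.Basic
import Mathlib.Topology.NoetherianSpace
import Mathlib.Topology.Connected.Clopen

/-!
# helper42: topology of a pair `(X, S)` with `π₀(Y ∩ S) = π₀(Y)` for closed `Y`
(namespace `Groth.Agent.Lib.ConnPairTop42`)

`X` Noetherian `T0`, `S ⊆ X` such that for every nonempty connected closed `Y ⊆ X` the set `Y ∩ S` is nonempty and
connected.

* `eq_empty_of_isClosed_of_inter_eq_empty`: a closed set not meeting `S` is empty.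
* `exists_isClosed_nhd`: if `C` is closed, `O` open, `x ∈ C ∩ O ∩ S` a closed point with `C ∩ O ∩ S ⊆ {x}`, then there
  is an open `O' ∋ x` such that `C ∩ O ∩ O'` is closed in `X` (and meets `S` only in `x`).
-/

set_option autoImplicit false
universe u

namespace Groth.Agent.Lib.ConnPairTop42

open Set Topology TopologicalSpace

variable {X : Type u} [TopologicalSpace X] [NoetherianSpace X] [T0Space X] (S : Set X)
  (hb : ∀ Y : Set X, IsClosed Y → Y.Nonempty → IsConnected Y → (Y ∩ S).Nonempty ∧ IsConnected (Y ∩ S))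

include hb in
/-- a closed set not meeting `S` is empty -/
theorem eq_empty_of_isClosed_of_inter_eq_empty {F : Set X} (hF : IsClosed F) (hFS : F ∩ S = ∅) : F = ∅ := by
  by_contra hne
  have hne' : F.Nonempty := Set.nonempty_iff_ne_empty.mpr hne
  obtain ⟨y, hyF, hycl⟩ := hF.exists_closed_singleton hne'
  obtain ⟨⟨z, hz1, hz2⟩, -⟩ := hb {y} hycl ⟨y, rfl⟩ isConnected_singleton
  have hzy : z = y := hz1
  have : z ∈ F ∩ S := ⟨hzy ▸ hyF, hz2⟩
  rw [hFS] at this
  exact this

include hb in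
/-- a locally closed set meeting `S` in at most the closed point `x` is closed near `x` -/
theorem exists_isClosed_nhd (C : Set X) (hC : IsClosed C) (O : Set X) (hO : IsOpen O) (x : X)
    (hxcl : IsClosed ({x} : Set X)) (hxC : x ∈ C) (hxO : x ∈ O) (hxS : x ∈ S) (hCOS : C ∩ O ∩ S ⊆ {x}) :
    ∃ K : Set X, IsClosed K ∧ x ∈ K ∧ K ⊆ C ∩ O ∧ K ∩ S ⊆ {x} ∧
      ∃ O' : Set X, IsOpen O' ∧ x ∈ O' ∧ C ∩ O ∩ O' = K := by
  set Z : Set X := closure (C ∩ O) with hZdef
  have hZcl : IsClosed Z := isClosed_closure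
  have hZC : Z ⊆ C := closure_minimal inter_subset_left hC
  have hZO : Z ∩ O = C ∩ O := by
    apply subset_antisymm
    · rintro z ⟨hz1, hz2⟩
      exact ⟨hZC hz1, hz2⟩
    · rintro z hz
      exact ⟨subset_closure hz, hz.2⟩
  have hxZ : x ∈ Z := subset_closure ⟨hxC, hxO⟩
  let x' : Z := ⟨x, hxZ⟩
  have hopen : IsOpen (connectedComponent x') :=
    Groth.Agent.Lib.NoethTop.isOpen_connectedComponent_of_finite
      NoetherianSpace.finite_irreducibleComponents x'
  have hclosed : IsClosed (connectedComponent x') := isClosed_connectedComponent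
  have hconn : IsConnected (connectedComponent x') := isConnected_connectedComponent
  set K : Set X := Subtype.val '' (connectedComponent x') with hKdef
  have hKcl : IsClosed K := hZcl.isClosedEmbedding_subtypeVal.isClosedMap _ hclosed
  have hKconn : IsConnected K := hconn.image _ continuous_subtype_val.continuousOn
  have hxK : x ∈ K := ⟨x', mem_connectedComponent, rfl⟩
  have hKZ : K ⊆ Z := by
    rintro _ ⟨z, -, rfl⟩
    exact z.2
  obtain ⟨-, hKS⟩ := hb K hKcl ⟨x, hxK⟩ hKconn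
  have hBcl : IsClosed (Z ∩ Oᶜ) := hZcl.inter hO.isClosed_compl
  have hcov : K ∩ S ⊆ {x} ∪ (Z ∩ Oᶜ) := by
    rintro z ⟨hzK, hzS⟩
    by_cases hzO : z ∈ O
    · left
      have : z ∈ C ∩ O := hZO ▸ (⟨hKZ hzK, hzO⟩ : z ∈ Z ∩ O)
      exact hCOS ⟨this, hzS⟩
    · right
      exact ⟨hKZ hzK, hzO⟩
  have hdisj : (K ∩ S) ∩ ({x} ∩ (Z ∩ Oᶜ)) = ∅ := by
    rw [Set.eq_empty_iff_forall_notMem]
    rintro z ⟨-, hz1, -, hz2⟩
    have : z = x := hz1
    exact hz2 (this ▸ hxO)
  have hKSx : K ∩ S ⊆ {x} := by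
    rcases isPreconnected_iff_subset_of_disjoint_closed.mp hKS.isPreconnected _ _ hxcl hBcl hcov hdisj
      with h | h
    · exact h
    · exact absurd hxO (h ⟨hxK, hxS⟩).2
  have hKB : K ∩ (Z ∩ Oᶜ) = ∅ := by
    apply eq_empty_of_isClosed_of_inter_eq_empty S hb (hKcl.inter hBcl)
    rw [Set.eq_empty_iff_forall_notMem]
    rintro z ⟨⟨hzK, -, hzO⟩, hzS⟩
    have : z = x := hKSx ⟨hzK, hzS⟩
    exact hzO (this ▸ hxO)
  have hKO : K ⊆ O := by
    intro z hzK
    by_contra hzO
    have : z ∈ K ∩ (Z ∩ Oᶜ) := ⟨hzK, hKZ hzK, hzO⟩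
    rw [hKB] at this
    exact this
  have hKCO : K ⊆ C ∩ O := fun z hz => ⟨hZC (hKZ hz), hKO hz⟩
  obtain ⟨O', hO', hO'eq⟩ := isOpen_induced_iff.mp hopen
  have hKeq : K = Z ∩ O' := by
    rw [hKdef, ← hO'eq, Subtype.image_preimage_coe]
  refine ⟨K, hKcl, hxK, hKCO, hKSx, O', hO', ?_, ?_⟩
  · have : x' ∈ Subtype.val ⁻¹' O' := by
      rw [hO'eq]
      exact mem_connectedComponent
    exact this
  · apply subset_antisymm
    · rintro z ⟨hz1, hz2⟩
      rw [hKeq]
      exact ⟨subset_closure hz1, hz2⟩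
    · intro z hz
      refine ⟨hKCO hz, ?_⟩
      rw [hKeq] at hz
      exact hz.2

end Groth.Agent.Lib.ConnPairTop42
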