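import Groth.Agent.Lib.DimOnePic42
import Groth.Agent.Lib.ConnPairTop42

/-!
# helper42: extending invertible modules from a closed subscheme of dimension `≤ 1` (namespace
`Groth.Agent.Lib.ConnPairPic42`)

* `exists_section_vanishing`: on an affine open, a function vanishing at a closed point and at no point of a finite set.
* `exists_local_lift`: the local step near a closed point of `X₀` outside the trivialising open `V₁`.
* `exists_descent_conn_pair`: `i : X₀ ⟶ X` a closed immersion, `X` Noetherian, `dim X₀ ≤ 1`, and for every nonempty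
  connected closed `Y ⊆ X` the set `Y ∩ X₀` is nonempty and connected: every invertible module on `X₀` is the pullback of
  an invertible module on `X`.
-/

set_option autoImplicit false
universe u
open CategoryTheory CategoryTheory.Limits AlgebraicGeometry TopologicalSpace Opposite
open Groth.Agent.Lib.H90Invertible Groth.Agent.Lib.H78TensorGen Groth.Agent.Lib.H78SecCoord
open Groth.Agent.Lib.H78Atlas Groth.Agent.Lib.InvGlue42 Groth.Agent.Lib.H78PullSec
open Groth.Agent.Lib.FinModifPic42 Groth.Agent.Lib.StarDescent42 Groth.Agent.Lib.DimOnePic42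

namespace Groth.Agent.Lib.ConnPairPic42

variable {X X₀ : Scheme.{u}}

/-- on an affine open, a function vanishing at a closed point and at no point of a finite set -/
theorem exists_section_vanishing (W : X.Opens) (hW : IsAffineOpen W) (t : X) (htW : t ∈ W)
    (htcl : IsClosed ({t} : Set X)) (F : Set X) (hF : F.Finite) (htF : t ∉ F) :
    ∃ h : Γ(X, W), t ∉ X.basicOpen h ∧ ∀ y ∈ F, y ∈ W → y ∈ X.basicOpen h := by
  classical
  have hfin : (F ∩ (W : Set X)).Finite := hF.inter_of_left _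
  let P : Finset (Ideal Γ(X, W)) :=
    hfin.toFinset.attach.image (fun y => primeAt W y.1 (hfin.mem_toFinset.mp y.2).2)
  have hnot : ¬ ((primeAt W t htW : Set Γ(X, W)) ⊆ ⋃ p ∈ (P : Set (Ideal Γ(X, W))), (p : Set Γ(X, W))) := by
    rw [Ideal.subset_union_prime (f := fun p : Ideal Γ(X, W) => p) ⊥ ⊥ (fun p hp _ _ => by
      obtain ⟨y, -, rfl⟩ := Finset.mem_image.mp hp
      infer_instance)]
    rintro ⟨p, hp, hle⟩
    obtain ⟨⟨y, hy⟩, -, rfl⟩ := Finset.mem_image.mp hp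
    have hyF : y ∈ F := (hfin.mem_toFinset.mp hy).1
    have hyW : y ∈ W := (hfin.mem_toFinset.mp hy).2
    have hyt : y ≠ t := fun h => htF (h ▸ hyF)
    obtain ⟨g, hgle, hyg⟩ := hW.exists_basicOpen_le
      (V := W ⊓ ⟨({t} : Set X)ᶜ, htcl.isOpen_compl⟩) ⟨y, ⟨hyW, hyt⟩⟩ hyW
    have h1 : g ∈ primeAt W t htW := by
      by_contra hcon
      rw [notMem_primeAt_iff] at hcon
      exact (hgle hcon).2 rfl
    have h2 : g ∉ primeAt W y hyW := (notMem_primeAt_iff W y hyW g).mpr hyg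
    exact h2 (hle h1)
  obtain ⟨h, hhp, hh⟩ := Set.not_subset.mp hnot
  refine ⟨h, fun hcon => ?_, fun y hyF hyW => ?_⟩
  · exact ((notMem_primeAt_iff W t htW h).mpr hcon) hhp
  · rw [← notMem_primeAt_iff W y hyW h]
    intro hmem
    apply hh
    have hP : primeAt W y hyW ∈ P := Finset.mem_image.mpr
      ⟨⟨y, hfin.mem_toFinset.mpr ⟨hyF, hyW⟩⟩, Finset.mem_attach _ _, rfl⟩
    exact Set.mem_biUnion (show primeAt W y hyW ∈ (P : Set (Ideal Γ(X, W))) from hP) hmem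

/-- **Local step**: near the image of a closed point `t ∉ V₁`: an open neighbourhood `W₁` in `X`, an open `G ≤ W₁` whose
complement in `W₁` meets `X₀` only in `t`, a generator of `L` over `i⁻¹ W₁`, whose ratio to `e₁` over `i⁻¹ G` lifts to
a unit on `G`. -/
theorem exists_local_lift (i : X₀ ⟶ X) [IsClosedImmersion i] [NoetherianSpace X₀]
    (hdim : topologicalKrullDim X₀ ≤ 1) (L : X₀.Modules) (hL : PicF.IsInvertible L)
    (V₁ : X₀.Opens) (hG : genericPoints X₀ ⊆ (V₁ : Set X₀))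
    (e₁ : Γ(L, V₁)) (he₁ : IsGen L V₁ e₁)
    (t : X₀) (O : X.Opens) (htO : i t ∈ O) (htV : t ∉ V₁) (hO : ∀ z : X₀, i z ∈ O → z ∉ V₁ → z = t) :
    ∃ W₁ G : X.Opens, i t ∈ W₁ ∧ ∃ hGW : G ≤ W₁, ∃ hGV : i ⁻¹ᵁ G ≤ V₁,
      (∀ z : X₀, i z ∈ W₁ → i z ∉ G → z = t) ∧
      ∃ e : Γ(L, i ⁻¹ᵁ W₁), IsGen L (i ⁻¹ᵁ W₁) e ∧
      ∃ b binv : Γ(X, G), b * binv = 1 ∧
        rs L (i.preimage_mono hGW) e = i.app G b • rs L hGV e₁ := by
  classical
  have hinj : Function.Injective i := i.isClosedEmbedding.injective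
  have htcl : IsClosed ({t} : Set X₀) :=
    Groth.Agent.Lib.DimOneTop42.isClosed_singleton_of_notMem_genericPoints hdim t (fun h => htV (hG h))
  have hxcl : IsClosed ({i t} : Set X) := by
    have := i.isClosedEmbedding.isClosedMap _ htcl
    rwa [Set.image_singleton] at this
  obtain ⟨W₀, htW₀, e₀, he₀⟩ := exists_nhd_gen i L hL (i t)
  obtain ⟨W, hWaff, htW, hWle⟩ := Opens.isBasis_iff_nbhd.1 X.isBasis_affineOpens
    (show i t ∈ W₀ ⊓ O from ⟨htW₀, htO⟩)
  have hGfin : (genericPoints X₀).Finite := genericPoints.finite NoetherianSpace.finite_irreducibleComponents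
  obtain ⟨h, hht, hhG⟩ := exists_section_vanishing W hWaff (i t) htW hxcl (i '' genericPoints X₀)
    (hGfin.image _) (by
      rintro ⟨y, hy, hyt⟩
      have : y = t := hinj hyt
      exact htV (this ▸ hG hy))
  let D : X.Opens := X.basicOpen h
  have hDaff : IsAffineOpen D := hWaff.basicOpen h
  have hDW : D ≤ W := X.basicOpen_le h
  have hFcl : IsClosed ((((i ⁻¹ᵁ D : X₀.Opens) : Set X₀)ᶜ) ∩
      (((i ⁻¹ᵁ W : X₀.Opens) : Set X₀) ∩ ({t} : Set X₀)ᶜ)) :=
    Groth.Agent.Lib.DimOneTop42.isClosed_of_disjoint_genericPoints hdim _ _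
      (i ⁻¹ᵁ D).2.isClosed_compl ((i ⁻¹ᵁ W).2.inter htcl.isOpen_compl)
      (fun y hy hyG => hy.1 (hhG (i y) ⟨y, hyG, rfl⟩ hy.2.1))
  have hFcl' := i.isClosedEmbedding.isClosedMap _ hFcl
  let W₁ : X.Opens := W ⊓ ⟨_, hFcl'.isOpen_compl⟩
  have htW₁ : i t ∈ W₁ := ⟨htW, by
    rintro ⟨z, hz, hzt⟩
    exact hz.2.2 (hinj hzt)⟩
  have hDV₁ : i ⁻¹ᵁ D ≤ V₁ := by
    intro z hz
    by_contra hzV
    have := hO z (hWle (hDW hz)).2 hzV
    exact hht (this ▸ hz)
  have hDW₀ : D ≤ W₀ := hDW.trans (hWle.trans inf_le_left)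
  let β : Γ(X₀, i ⁻¹ᵁ D) := coord he₁ hDV₁ (rs L (i.preimage_mono hDW₀) e₀)
  have hβspec : β • rs L hDV₁ e₁ = rs L (i.preimage_mono hDW₀) e₀ := coord_spec he₁ _ _
  have hβ : IsUnit β := by
    rw [← isGen_smul_iff (he₁.mono hDV₁) β]
    have h0 : IsGen L (i ⁻¹ᵁ D) (rs L (i.preimage_mono hDW₀) e₀) := he₀.mono (i.preimage_mono hDW₀)
    rw [← hβspec] at h0
    exact h0
  obtain ⟨a, haβ⟩ := i.app_surjective D hDaff β
  let G : X.Opens := X.basicOpen a
  have hGD : G ≤ D := X.basicOpen_le a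
  have hGpre : i ⁻¹ᵁ G = i ⁻¹ᵁ D := by
    change i ⁻¹ᵁ X.basicOpen a = _
    rw [Scheme.preimage_basicOpen, haβ]
    exact Scheme.basicOpen_of_isUnit _ hβ
  have hGW₁ : G ≤ W₁ := by
    intro z hz
    refine ⟨hDW (hGD hz), ?_⟩
    rintro ⟨y, hy, rfl⟩
    exact hy.1 (hGD hz)
  have hGV₁ : i ⁻¹ᵁ G ≤ V₁ := hGpre.le.trans hDV₁
  have hWW₀ : W₁ ≤ W₀ := inf_le_left.trans (hWle.trans inf_le_left)
  let b : Γ(X, G) := rf hGD a
  have hbu : IsUnit b := X.toRingedSpace.isUnit_res_basicOpen a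
  obtain ⟨binv, hbinv⟩ := hbu.exists_right_inv
  refine ⟨W₁, G, htW₁, hGW₁, hGV₁, ?_, rs L (i.preimage_mono hWW₀) e₀, he₀.mono (i.preimage_mono hWW₀),
    b, binv, hbinv, ?_⟩
  · intro z hzW hzG
    by_contra hzt
    have hzD : z ∉ i ⁻¹ᵁ D := by
      rw [← hGpre]
      exact hzG
    exact hzW.2 ⟨z, ⟨hzD, hzW.1, hzt⟩, rfl⟩
  · have h4 := congrArg (rs L (i.preimage_mono hGD)) hβspec
    rw [rs_smul, rs_rs, rs_rs] at h4
    rw [rs_rs, ← h4]
    congr 1
    change _ = i.app G (rf hGD a)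
    rw [app_rf, haβ]

/-- **Invertible modules extend from a closed subscheme `X₀` of dimension `≤ 1` such that `π₀(Y ∩ X₀) = π₀(Y)` for all
closed `Y ⊆ X`.** -/
theorem exists_descent_conn_pair (i : X₀ ⟶ X) [IsClosedImmersion i] [NoetherianSpace X]
    (hdim : topologicalKrullDim X₀ ≤ 1)
    (hb : ∀ Y : Set X, IsClosed Y → Y.Nonempty → _root_.IsConnected Y →
      (Y ∩ Set.range i.base).Nonempty ∧ _root_.IsConnected (Y ∩ Set.range i.base))
    (L : X₀.Modules) (hL : PicF.IsInvertible L) :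
    ∃ N : X.Modules, PicF.IsInvertible N ∧ Nonempty ((Scheme.Modules.pullback i).obj N ≅ L) := by
  classical
  have : NoetherianSpace X₀ := i.isClosedEmbedding.isInducing.noetherianSpace
  have hinj : Function.Injective i := i.isClosedEmbedding.injective
  obtain ⟨V₁, -, hG, e₁', he₁'⟩ := exists_open_gen_genericPoints (𝟙 X₀) ⊤ dense_univ L hL
  have hid : V₁ ≤ (𝟙 X₀) ⁻¹ᵁ V₁ := fun x hx => hx
  let e₁ : Γ(L, V₁) := rs L hid e₁'
  have he₁ : IsGen L V₁ e₁ := he₁'.mono hid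
  have hTfin : ((V₁ : Set X₀)ᶜ).Finite := by
    have := Groth.Agent.Lib.DimOneTop42.finite_of_disjoint_genericPoints hdim ((V₁ : Set X₀)ᶜ) Set.univ
      V₁.2.isClosed_compl isOpen_univ (fun y hy hyG => hy.1 (hG hyG))
    rwa [Set.inter_univ] at this
  have hTcl : ∀ t : X₀, t ∉ V₁ → IsClosed ({t} : Set X₀) := fun t ht =>
    Groth.Agent.Lib.DimOneTop42.isClosed_singleton_of_notMem_genericPoints hdim t (fun h => ht (hG h))
  have hOcl : ∀ t : X₀, IsClosed (((V₁ : Set X₀)ᶜ) \ {t}) := by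
    intro t
    have h1 : (((V₁ : Set X₀)ᶜ) \ {t}).Finite := hTfin.subset Set.sdiff_subset
    have h2 : ((V₁ : Set X₀)ᶜ) \ {t} = ⋃ y ∈ ((V₁ : Set X₀)ᶜ) \ {t}, {y} :=
      (Set.biUnion_of_singleton _).symm
    rw [h2]
    exact h1.isClosed_biUnion fun y hy => hTcl y hy.1
  let T : Type u := ↥((V₁ : Set X₀)ᶜ)
  have : Finite T := hTfin.to_subtype
  let O : T → X.Opens := fun t =>
    ⟨(i '' (((V₁ : Set X₀)ᶜ) \ {t.1}))ᶜ, (i.isClosedEmbedding.isClosedMap _ (hOcl t.1)).isOpen_compl⟩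
  have htO : ∀ t : T, i t.1 ∈ O t := by
    rintro t ⟨z, hz, hzt⟩
    exact hz.2 (hinj hzt)
  have hO : ∀ (t : T) (z : X₀), i z ∈ O t → z ∉ V₁ → z = t.1 := by
    intro t z hz hzV
    by_contra hne
    exact hz ⟨z, ⟨hzV, hne⟩, rfl⟩
  choose W₁ G htW₁ hGW hGV hzt e he b binv hb' hbe using fun t : T =>
    exists_local_lift i hdim L hL V₁ hG e₁ he₁ t.1 (O t) (htO t) t.2 (hO t)
  have hxcl : ∀ t : T, IsClosed ({i t.1} : Set X) := by
    intro t
    have := i.isClosedEmbedding.isClosedMap _ (hTcl t.1 t.2)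
    rwa [Set.image_singleton] at this
  choose K hKcl hxK hKsub hKS O' hO' hxO' hKeq using fun t : T =>
    Groth.Agent.Lib.ConnPairTop42.exists_isClosed_nhd (Set.range i.base) hb
      ((G t : Set X)ᶜ) (G t).2.isClosed_compl (W₁ t : Set X) (W₁ t).2 (i t.1) (hxcl t)
      (fun h => t.2 (hGV t h)) (htW₁ t) ⟨t.1, rfl⟩ (by
        rintro _ ⟨⟨hzG, hzW⟩, ⟨y, rfl⟩⟩
        exact congrArg i (hzt t y hzW hzG))
  have hdisj : ∀ t r : T, t ≠ r → ∀ z, z ∈ K t → z ∉ K r := by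
    intro t r htr z hzt' hzr
    have hempty : K t ∩ K r = ∅ := by
      apply Groth.Agent.Lib.ConnPairTop42.eq_empty_of_isClosed_of_inter_eq_empty (Set.range i.base) hb
        ((hKcl t).inter (hKcl r))
      rw [Set.eq_empty_iff_forall_notMem]
      rintro y ⟨⟨hy1, hy2⟩, hyS⟩
      have h1 : y = i t.1 := hKS t ⟨hy1, hyS⟩
      have h2 : y = i r.1 := hKS r ⟨hy2, hyS⟩
      exact htr (Subtype.ext (hinj (h1.symm.trans h2)))
    have : z ∈ K t ∩ K r := ⟨hzt', hzr⟩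
    rw [hempty] at this
    exact this
  have hUcl : IsClosed (⋃ t : T, K t) := isClosed_iUnion_of_finite hKcl
  let V' : X.Opens := ⟨(⋃ t : T, K t)ᶜ, hUcl.isOpen_compl⟩
  have hUcl' : ∀ t : T, IsClosed (⋃ r ∈ {r : T | r ≠ t}, K r) := fun t =>
    (Set.toFinite {r : T | r ≠ t}).isClosed_biUnion fun r _ => hKcl r
  let W₃ : T → X.Opens := fun t =>
    (W₁ t ⊓ (G t ⊔ ⟨O' t, hO' t⟩)) ⊓ ⟨(⋃ r ∈ {r : T | r ≠ t}, K r)ᶜ, (hUcl' t).isOpen_compl⟩
  have hW₃W₁ : ∀ t, W₃ t ≤ W₁ t := fun t => inf_le_left.trans inf_le_left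
  have hmemV' : ∀ z : X, z ∈ V' ↔ ∀ t : T, z ∉ K t := by
    intro z
    change z ∉ (⋃ t : T, K t) ↔ _
    rw [Set.mem_iUnion, not_exists]
  have hnotK : ∀ (t r : T) (z : X), z ∈ W₃ t → r ≠ t → z ∉ K r := by
    intro t r z hz hrt hzr
    exact hz.2 (Set.mem_biUnion (show r ∈ {r : T | r ≠ t} from hrt) hzr)
  have hW₃K : ∀ (t : T) (z : X), z ∈ W₃ t → z ∉ G t → z ∈ K t := by
    intro t z hz hzG
    rw [← hKeq t]
    rcases hz.1.2 with h | h
    · exact absurd h hzG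
    · exact ⟨⟨hzG, hz.1.1⟩, h⟩
  have hV'G : ∀ t : T, V' ⊓ W₃ t ≤ G t := by
    intro t z hz
    by_contra hzG
    exact (hmemV' z).mp hz.1 t (hW₃K t z hz.2 hzG)
  have hKW₃ : ∀ (t : T) (z : X), z ∈ K t → z ∈ W₃ t := by
    intro t z hz
    have hz' := hz
    rw [← hKeq t] at hz'
    refine ⟨⟨hz'.1.2, Or.inr hz'.2⟩, ?_⟩
    intro hcon
    obtain ⟨r, hr, hzr⟩ := Set.mem_iUnion₂.mp hcon
    exact hdisj t r (Ne.symm hr) z hz hzr
  have hV'V₁ : i ⁻¹ᵁ V' ≤ V₁ := by
    intro z hz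
    by_contra hzV
    exact (hmemV' (i z)).mp hz ⟨z, hzV⟩ (hxK ⟨z, hzV⟩)
  let W' : Option T → X.Opens := fun j => match j with
    | none => V'
    | some t => W₃ t
  let e' : ∀ j, Γ(L, i ⁻¹ᵁ W' j) := fun j => match j with
    | none => rs L hV'V₁ e₁
    | some t => rs L (i.preimage_mono (hW₃W₁ t)) (e t)
  let b' : ∀ j, Γ(X, V' ⊓ W' j) := fun j => match j with
    | none => 1
    | some t => rf (hV'G t) (b t)
  let binv' : ∀ j, Γ(X, V' ⊓ W' j) := fun j => match j with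
    | none => 1
    | some t => rf (hV'G t) (binv t)
  refine exists_descent_of_star i V' W' ?_ L e' ?_ (rs L hV'V₁ e₁) b' binv' ?_ ?_ ?_
  · intro j k hjk
    match j, k with
    | none, none => exact absurd rfl hjk
    | none, some t => exact inf_le_left
    | some t, none => exact inf_le_right
    | some t, some s =>
      intro z hz
      rw [hmemV']
      intro r
      by_cases hrt : r = t
      · subst hrt
        exact hnotK s r z hz.2 (fun h => hjk (congrArg some h))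
      · exact hnotK t r z hz.1 hrt
  · intro j
    match j with
    | none => exact he₁.mono hV'V₁
    | some t => exact (he t).mono (i.preimage_mono (hW₃W₁ t))
  · intro j
    match j with
    | none => exact mul_one 1
    | some t =>
      change rf (hV'G t) (b t) * rf (hV'G t) (binv t) = 1
      rw [← rf_mul, hb' t, rf_one]
  · intro j
    match j with
    | none =>
      change rs L _ (rs L hV'V₁ e₁) = i.app (V' ⊓ V') 1 • rs L _ (rs L hV'V₁ e₁)
      rw [map_one, one_smul]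
    | some t =>
      change rs L _ (rs L (i.preimage_mono (hW₃W₁ t)) (e t)) =
        i.app (V' ⊓ W₃ t) (rf (hV'G t) (b t)) • rs L _ (rs L hV'V₁ e₁)
      have h4 := congrArg (rs L (i.preimage_mono (hV'G t))) (hbe t)
      rw [rs_smul, rs_rs, rs_rs] at h4
      rw [rs_rs, rs_rs, h4, app_rf]
  · rw [eq_top_iff]
    intro z _
    by_cases hz : z ∈ V'
    · exact Opens.mem_iSup.mpr ⟨none, hz⟩
    · rw [hmemV', not_forall] at hz
      obtain ⟨t, ht⟩ := hz
      rw [not_not] at ht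
      exact Opens.mem_iSup.mpr ⟨some t, hKW₃ t z ht⟩

end Groth.Agent.Lib.ConnPairPic42
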