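import Groth.Agent.Lib.H77OmegaAffine
import Mathlib.AlgebraicGeometry.Morphisms.Flat

/-!
# Sections of `Omega.sheaf f` over affine opens are Kähler differentials

`nonempty_sections_equiv_kaehler f hU hV e :
  Nonempty (Γ(Omega.sheaf f, V) ≃ₗ[Γ(X, V)] Ω[Γ(X, V)⁄Γ(S, U)])`
for `f : X ⟶ S` quasi-separated, `U ⊆ S`, `V ⊆ X` affine opens with `V ≤ f⁻¹ U`
(algebra structure `(f.appLE U V e).hom.toAlgebra`).

Also: `WW f V = V ×_U V ⊆ X ×_S X`, `isAffineOpen_WW`, `isPushout_WW`, `betaIso`,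
`idealSectionsEquiv'`, `conormalSectionsEquiv'`.
-/

set_option autoImplicit false
universe u
open CategoryTheory CategoryTheory.Limits AlgebraicGeometry TopologicalSpace Opposite TensorProduct

namespace Groth.Agent.Lib.H77OmegaSections

open Groth.Agent.Lib.H77QCohKernel Groth.Agent.Lib.PullbackAffine Groth.Agent.Lib.IdealMod
  Groth.Agent.Lib.H90OXModAffine Groth.Agent.Lib.H77OmegaAlg

variable {X S : Scheme.{u}} (f : X ⟶ S) (U : S.Opens) (V : X.Opens) (e : V ≤ f ⁻¹ᵁ U)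

/-- the open `V ×_U V` of `X ×_S X` -/
noncomputable def WW : (pullback f f).Opens :=
  (pullback.fst f f) ⁻¹ᵁ V ⊓ (pullback.snd f f) ⁻¹ᵁ V

lemma WW_le_fst : WW f V ≤ (pullback.fst f f) ⁻¹ᵁ V := inf_le_left
lemma WW_le_snd : WW f V ≤ (pullback.snd f f) ⁻¹ᵁ V := inf_le_right

lemma diag_preimage_WW : (pullback.diagonal f) ⁻¹ᵁ (WW f V) = V := by
  unfold WW
  rw [Scheme.Hom.preimage_inf, ← Scheme.Hom.comp_preimage, ← Scheme.Hom.comp_preimage,
    pullback.diagonal_fst, pullback.diagonal_snd]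
  simp

variable {U V}

include e in
lemma isAffineOpen_WW (hU : IsAffineOpen U) (hV : IsAffineOpen V) : IsAffineOpen (WW f V) := by
  have H : IsPullback (pullback.fst f f) (pullback.snd f f) f f := IsPullback.of_hasPullback f f
  have : IsAffine U.toScheme := hU
  have : IsAffine V.toScheme := hV
  exact .of_isIso (Scheme.Hom.isPullback_resLE H e e (UY := WW f V) rfl).isoPullback.hom

lemma isPushout_WW (hU : IsAffineOpen U) (hV : IsAffineOpen V) :
    IsPushout (f.appLE U V e) (f.appLE U V e)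
      ((pullback.fst f f).appLE V (WW f V) (WW_le_fst f V))
      ((pullback.snd f f).appLE V (WW f V) (WW_le_snd f V)) := by
  have H : IsPullback (pullback.fst f f) (pullback.snd f f) f f := IsPullback.of_hasPullback f f
  have := isIso_pushoutSection_of_isAffineOpen H e e (UY := WW f V) rfl hU hV hV
  exact (isIso_pushoutSection_iff H e e (UY := WW f V) rfl).mp this

end Groth.Agent.Lib.H77OmegaSections

namespace Groth.Agent.Lib.H77OmegaSections

open Groth.Agent.Lib.H77QCohKernel Groth.Agent.Lib.PullbackAffine Groth.Agent.Lib.IdealMod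
  Groth.Agent.Lib.H90OXModAffine Groth.Agent.Lib.H77OmegaAlg

variable {X S : Scheme.{u}} (f : X ⟶ S) {U : S.Opens} {V : X.Opens} (e : V ≤ f ⁻¹ᵁ U)

lemma id_appLE_apply (h : V ≤ (𝟙 X) ⁻¹ᵁ V) (a : Γ(X, V)) : (Scheme.Hom.appLE (𝟙 X) V V h) a = a := by
  rw [Scheme.Hom.appLE]
  have : X.presheaf.map (homOfLE h).op = 𝟙 _ := X.presheaf.map_id _
  rw [this]
  rfl

lemma le_diag_preimage : V ≤ (pullback.diagonal f) ⁻¹ᵁ (WW f V) := (diag_preimage_WW f V).ge

/-- `Γ(X,V) ⊗[Γ(S,U)] Γ(X,V) ≅ Γ(X ×_S X, V ×_U V)` -/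
noncomputable def betaIso (hU : IsAffineOpen U) (hV : IsAffineOpen V) :
    letI := (f.appLE U V e).hom.toAlgebra
    CommRingCat.of (Γ(X, V) ⊗[Γ(S, U)] Γ(X, V)) ≅ Γ(pullback f f, WW f V) :=
  letI := (f.appLE U V e).hom.toAlgebra
  (CommRingCat.isPushout_tensorProduct Γ(S, U) Γ(X, V) Γ(X, V)).isoIsPushout _ _
    (isPushout_WW f e hU hV)

lemma betaIso_comm (hU : IsAffineOpen U) (hV : IsAffineOpen V) :
    letI := (f.appLE U V e).hom.toAlgebra
    (betaIso f e hU hV).hom ≫ (pullback.diagonal f).appLE (WW f V) V (le_diag_preimage f) =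
      CommRingCat.ofHom (Algebra.TensorProduct.lmul' Γ(S, U) :
        Γ(X, V) ⊗[Γ(S, U)] Γ(X, V) →ₐ[Γ(S, U)] Γ(X, V)).toRingHom := by
  let _ := (f.appLE U V e).hom.toAlgebra
  apply (CommRingCat.isPushout_tensorProduct Γ(S, U) Γ(X, V) Γ(X, V)).hom_ext
  · rw [← Category.assoc]
    unfold betaIso
    rw [IsPushout.inl_isoIsPushout_hom, Scheme.Hom.appLE_comp_appLE]
    simp only [pullback.diagonal_fst]
    ext a
    change (Scheme.Hom.appLE (𝟙 X) V V _) a =
      Algebra.TensorProduct.lmul' Γ(S, U) (a ⊗ₜ[Γ(S, U)] (1 : Γ(X, V)))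
    rw [Algebra.TensorProduct.lmul'_apply_tmul, mul_one, id_appLE_apply]
  · rw [← Category.assoc]
    unfold betaIso
    rw [IsPushout.inr_isoIsPushout_hom, Scheme.Hom.appLE_comp_appLE]
    simp only [pullback.diagonal_snd]
    ext a
    change (Scheme.Hom.appLE (𝟙 X) V V _) a =
      Algebra.TensorProduct.lmul' Γ(S, U) ((1 : Γ(X, V)) ⊗ₜ[Γ(S, U)] a)
    rw [Algebra.TensorProduct.lmul'_apply_tmul, one_mul, id_appLE_apply]

end Groth.Agent.Lib.H77OmegaSections

namespace Groth.Agent.Lib.H77OmegaSections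

open Groth.Agent.Lib.H77QCohKernel Groth.Agent.Lib.PullbackAffine Groth.Agent.Lib.IdealMod
  Groth.Agent.Lib.H90OXModAffine Groth.Agent.Lib.H77OmegaAlg

section General

variable {X P : Scheme.{u}} (i : X ⟶ P) {W : P.Opens} {V : X.Opens}
  (hW : IsAffineOpen W) (hVW : i ⁻¹ᵁ W = V)

include hVW in
lemma ker_appLE_eq : RingHom.ker (i.appLE W V hVW.ge).hom = RingHom.ker (i.app W).hom := by
  subst hVW
  rw [Scheme.Hom.appLE]
  have : X.presheaf.map (homOfLE (le_refl (i ⁻¹ᵁ W))).op = 𝟙 _ := X.presheaf.map_id _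
  rw [this]
  rfl

variable [QuasiCompact i]

include hW in
lemma idealFn_mem_ker' (s : Γ(ClSub.idealMod i.ker, W)) :
    idealFn i.ker W s ∈ RingHom.ker (i.appLE W V hVW.ge).hom := by
  have h := idealFn_mem i.ker ⟨W, hW⟩ s
  rw [Scheme.Hom.ker_apply] at h
  rw [ker_appLE_eq i hVW]
  exact h

/-- sections of the ideal module over an affine open `W` with `i⁻¹ W = V`. -/
noncomputable def idealSectionsEquiv' :
    Γ(ClSub.idealMod i.ker, W) ≃ₗ[Γ(P, W)] (RingHom.ker (i.appLE W V hVW.ge).hom) :=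
  LinearEquiv.ofBijective
    { toFun := fun s => ⟨idealFn i.ker W s, idealFn_mem_ker' i hW hVW s⟩
      map_add' := fun s t => Subtype.ext (idealFn_add i.ker s t)
      map_smul' := fun a s => Subtype.ext (idealFn_smul i.ker a s) }
    ⟨fun s t h => idealFn_injective i.ker W (congrArg Subtype.val h), fun ⟨g, hg⟩ => by
      have hg' : g ∈ i.ker.ideal ⟨W, hW⟩ := by
        rw [Scheme.Hom.ker_apply, ← ker_appLE_eq i hVW]; exact hg
      obtain ⟨t, ht⟩ := exists_idealFn_eq i.ker ⟨W, hW⟩ hg'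
      exact ⟨t, Subtype.ext ht⟩⟩

/-- Sections of the conormal module of `i` over an affine `V = i⁻¹ W`, `W` affine. -/
noncomputable def conormalSectionsEquiv' (hV : IsAffineOpen V) :
    letI := (i.appLE W V hVW.ge).hom.toAlgebra
    Γ(Omega.conormal i, V) ≃ₗ[Γ(X, V)]
      (Γ(X, V) ⊗[Γ(P, W)] (RingHom.ker (i.appLE W V hVW.ge).hom)) :=
  letI := (i.appLE W V hVW.ge).hom.toAlgebra
  sectionsPullbackEquiv i (ClSub.idealMod i.ker) hV hW hVW.ge ≪≫ₗ
    TensorProduct.AlgebraTensorModule.congr (LinearEquiv.refl Γ(X, V) Γ(X, V))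
      (idealSectionsEquiv' i hW hVW)

end General

end Groth.Agent.Lib.H77OmegaSections

namespace Groth.Agent.Lib.H77OmegaSections

open Groth.Agent.Lib.H77QCohKernel Groth.Agent.Lib.PullbackAffine Groth.Agent.Lib.IdealMod
  Groth.Agent.Lib.H90OXModAffine Groth.Agent.Lib.H77OmegaAlg

variable {X S : Scheme.{u}} (f : X ⟶ S) [QuasiSeparated f] {U : S.Opens} {V : X.Opens}

set_option maxRecDepth 8000 in
/-- **Sections of `Ω_{X/S}` over an affine open `V` mapping into an affine open `U` of `S` are the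
Kähler differentials of `Γ(X, V)` over `Γ(S, U)`.** -/
theorem nonempty_sections_equiv_kaehler (hU : IsAffineOpen U) (hV : IsAffineOpen V)
    (e : V ≤ f ⁻¹ᵁ U) :
    letI := (f.appLE U V e).hom.toAlgebra
    Nonempty (Γ(Omega.sheaf f, V) ≃ₗ[Γ(X, V)] Ω[Γ(X, V)⁄Γ(S, U)]) := by
  letI := (f.appLE U V e).hom.toAlgebra
  have hVW := diag_preimage_WW f V
  letI := ((pullback.diagonal f).appLE (WW f V) V hVW.ge).hom.toAlgebra
  have E1 := conormalSectionsEquiv' (pullback.diagonal f) (isAffineOpen_WW f e hU hV) hVW hV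
  let β : Γ(X, V) ⊗[Γ(S, U)] Γ(X, V) ≃+* Γ(pullback f f, WW f V) :=
    (betaIso f e hU hV).commRingCatIsoToRingEquiv
  have hcomm : ∀ x, algebraMap Γ(pullback f f, WW f V) Γ(X, V) (β x) =
      (RingHom.id Γ(X, V)) (Algebra.TensorProduct.lmul' Γ(S, U) x) :=
    fun x => congr($(betaIso_comm f e hU hV) x)
  obtain ⟨E2⟩ := nonempty_equiv_kaehler' Γ(S, U) Γ(X, V) Γ(X, V) Γ(pullback f f, WW f V)
    (RingHom.id Γ(X, V)) Function.bijective_id β hcomm
  refine ⟨{ E1.toAddEquiv.trans E2.toAddEquiv with map_smul' := ?_ }⟩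
  intro a x
  simp only [AddEquiv.toEquiv_eq_coe, Equiv.toFun_as_coe, EquivLike.coe_coe, AddEquiv.coe_trans,
    LinearEquiv.coe_toAddEquiv, Function.comp_apply, RingHom.id_apply]
  have h2 : E1 (a • x) = a • E1 x := E1.map_smul a x
  have h3 : E2 (a • E1 x) = a • E2 (E1 x) := E2.map_smul a (E1 x)
  exact (congrArg E2 h2).trans h3

end Groth.Agent.Lib.H77OmegaSections
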