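import Groth.Agent.Lib.OmegaDer81J
import Groth.Agent.Lib.IdealMod2
import Groth.Agent.Lib.H77OmegaSections

/-!
# Conormal sheaves of quasi-compact immersions on charts (helper81)

* ring level: for `C → B → A` with `B → A`, `C → A` surjective (kernels `I`, `J`):
  `comp_eq_zero`, `exact_mid`, `surjective_phi` for `J ⊗ A → I ⊗ A → Ω[B⁄C] ⊗ A → 0` (abstract base changes).
* `IsGoodChart i U` (affine open inside the open where the immersion `i` is closed), `exists_goodChart`,
  `exists_compatible_charts` (for `i ≫ p = j`).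
* `exists_idealFn_eq_of_app_eq_zero`: sections of the ideal sheaf of a quasi-compact `i` over ANY open.
* `unitSecFun` calculus (`res_unitSecFun`, `unitSecFun_res`), `span_unitSecFun`.
* `exists_uI`, `exists_uΩ`, `span_uJ`: base-change descriptions of sections of `Omega.conormal i`, `i^*Ω` on charts.
-/

set_option autoImplicit false
set_option linter.style.haveILetI false
set_option linter.unusedSectionVars false
universe u

open CategoryTheory AlgebraicGeometry TopologicalSpace Opposite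

namespace Groth.Agent.Lib.Conormal81

open Groth.Agent.Lib.OmegaDer81 Groth.Agent.Lib.QCohStalk Groth.Agent.Lib.IdealMod
  Groth.Agent.Lib.UnitBaseChange

section ring

variable {C B A : Type*} [CommRing C] [CommRing B] [CommRing A] [Algebra C B] [Algebra B A]
  [Algebra C A] [IsScalarTower C B A]
  {MJ MI MΩ : Type*}
  [AddCommGroup MJ] [Module A MJ] {T : Type*}
  [AddCommGroup MI] [Module A MI] [Module B MI] [IsScalarTower B A MI]
  [AddCommGroup MΩ] [Module A MΩ] [Module B MΩ] [IsScalarTower B A MΩ]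
  (uJ : T → MJ) (ιJ : T → C)
  (uI : RingHom.ker (algebraMap B A) →ₗ[B] MI)
  (uΩ : Ω[B⁄C] →ₗ[B] MΩ)
  (ψ : MJ →ₗ[A] MI) (φ : MI →ₗ[A] MΩ)

/-- the composite `φ ∘ ψ` vanishes -/
theorem comp_eq_zero (hJ : Submodule.span A (Set.range uJ) = ⊤)
    (hιJ : ∀ t, algebraMap C A (ιJ t) = 0)
    (hψ : ∀ (t : T) (x : RingHom.ker (algebraMap B A)),
      (x : B) = algebraMap C B (ιJ t) → ψ (uJ t) = uI x)
    (hφ : ∀ x, φ (uI x) = uΩ (KaehlerDifferential.D C B x)) (m : MJ) : φ (ψ m) = 0 := by
  have hm : m ∈ Submodule.span A (Set.range uJ) := by rw [hJ]; trivial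
  induction hm using Submodule.span_induction with
  | mem x hx =>
    obtain ⟨t, rfl⟩ := hx
    have hx : algebraMap C B (ιJ t) ∈ RingHom.ker (algebraMap B A) := by
      rw [RingHom.mem_ker, ← IsScalarTower.algebraMap_apply]
      exact hιJ t
    rw [hψ t ⟨_, hx⟩ rfl, hφ]
    change uΩ (KaehlerDifferential.D C B (algebraMap C B (ιJ t))) = 0
    rw [Derivation.map_algebraMap, map_zero]
  | zero => rw [map_zero, map_zero]
  | add n₁ n₂ _ _ h₁ h₂ => rw [map_add, map_add, h₁, h₂, add_zero]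
  | smul a n _ hn => rw [map_smul, map_smul, hn, smul_zero]

/-- `φ` is surjective when `C → A` is surjective -/
theorem surjective_phi (hCA : Function.Surjective (algebraMap C A)) (hΩ : IsBaseChange A uΩ)
    (hφ : ∀ x, φ (uI x) = uΩ (KaehlerDifferential.D C B x)) : Function.Surjective φ := by
  intro t
  have hD : ∀ b : B, uΩ (KaehlerDifferential.D C B b) ∈ LinearMap.range φ := by
    intro b
    obtain ⟨c, hc⟩ := hCA (algebraMap B A b)
    have hx : b - algebraMap C B c ∈ RingHom.ker (algebraMap B A) := by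
      rw [RingHom.mem_ker, map_sub, ← IsScalarTower.algebraMap_apply, hc, sub_self]
    refine ⟨uI ⟨_, hx⟩, ?_⟩
    rw [hφ]
    change uΩ (KaehlerDifferential.D C B (b - algebraMap C B c)) = _
    rw [map_sub, Derivation.map_algebraMap, sub_zero]
  have hω : ∀ ω : Ω[B⁄C], uΩ ω ∈ LinearMap.range φ := by
    intro ω
    have : ω ∈ Submodule.span B (Set.range (KaehlerDifferential.D C B)) := by
      rw [KaehlerDifferential.span_range_derivation]; trivial
    induction this using Submodule.span_induction with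
    | mem x hx =>
      obtain ⟨b, rfl⟩ := hx
      exact hD b
    | zero => rw [map_zero]; exact Submodule.zero_mem _
    | add x y _ _ hx hy => rw [map_add]; exact Submodule.add_mem _ hx hy
    | smul b x _ hx =>
      rw [map_smul, ← algebraMap_smul A b]
      exact Submodule.smul_mem _ _ hx
  exact hΩ.inductionOn t (fun t => t ∈ LinearMap.range φ) (Submodule.zero_mem _) hω
    (fun a n hn => Submodule.smul_mem _ a hn) (fun n₁ n₂ h₁ h₂ => Submodule.add_mem _ h₁ h₂)


/-- exactness in the middle: `ker φ ⊆ range ψ` when `C → A` is surjective -/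
theorem exact_mid (hCA : Function.Surjective (algebraMap C A))
    (hI : IsBaseChange A uI) (hΩ : IsBaseChange A uΩ)
    (hιJ' : ∀ c, algebraMap C A c = 0 → ∃ t, ιJ t = c)
    (hψ : ∀ (t : T) (x : RingHom.ker (algebraMap B A)),
      (x : B) = algebraMap C B (ιJ t) → ψ (uJ t) = uI x)
    (hφ : ∀ x, φ (uI x) = uΩ (KaehlerDifferential.D C B x)) (t : MI) (ht : φ t = 0) :
    ∃ m, ψ m = t := by
  -- the quotient `Q = MI / range ψ`
  let Q := MI ⧸ LinearMap.range ψ
  let π : MI →ₗ[A] Q := (LinearMap.range ψ).mkQ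
  haveI : IsScalarTower B A Q := inferInstance
  let w : RingHom.ker (algebraMap B A) →ₗ[B] Q := (π.restrictScalars B) ∘ₗ uI
  have w_def : ∀ x, w x = π (uI x) := fun _ => rfl
  -- elements of `I` coming from `J` die in `Q`
  have hkill : ∀ (c : C) (hc : algebraMap C A c = 0)
      (x : RingHom.ker (algebraMap B A)), (x : B) = algebraMap C B c → w x = 0 := by
    intro c hc x hx
    obtain ⟨t', rfl⟩ := hιJ' c hc
    have : uI x ∈ LinearMap.range ψ := ⟨uJ t', hψ t' x hx⟩
    exact (Submodule.Quotient.mk_eq_zero _).mpr this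
  -- the derivation
  have hmem : ∀ (b : B) (c : C), algebraMap C A c = algebraMap B A b →
      b - algebraMap C B c ∈ RingHom.ker (algebraMap B A) := by
    intro b c hc
    rw [RingHom.mem_ker, map_sub, ← IsScalarTower.algebraMap_apply, hc, sub_self]
  choose cc hcc using fun b : B => hCA (algebraMap B A b)
  let δf : B → Q := fun b => w ⟨b - algebraMap C B (cc b), hmem b _ (hcc b)⟩
  have δ_eq : ∀ (b : B) (c : C) (hc : algebraMap C A c = algebraMap B A b),
      δf b = w ⟨b - algebraMap C B c, hmem b c hc⟩ := by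
    intro b c hc
    change w _ = w _
    rw [← sub_eq_zero, ← map_sub]
    have h0 : algebraMap C A (c - cc b) = 0 := by rw [map_sub, hc, hcc b, sub_self]
    apply hkill (c - cc b) h0
    change (b - algebraMap C B (cc b)) - (b - algebraMap C B c) = algebraMap C B (c - cc b)
    rw [map_sub]; ring
  have hadd : ∀ b b' : B, δf (b + b') = δf b + δf b' := by
    intro b b'
    have e1 : algebraMap C A (cc b + cc b') = algebraMap B A (b + b') := by
      rw [map_add, map_add, hcc, hcc]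
    rw [δ_eq (b + b') (cc b + cc b') e1]
    change _ = w _ + w _
    rw [← map_add]
    apply congrArg w
    apply Subtype.ext
    change b + b' - algebraMap C B (cc b + cc b') =
      (b - algebraMap C B (cc b)) + (b' - algebraMap C B (cc b'))
    rw [map_add]; ring
  have hzero : δf 0 = 0 := by
    have := hadd 0 0
    rw [add_zero] at this
    exact left_eq_add.mp this
  let δ : B →+ Q :=
    { toFun := δf
      map_zero' := hzero
      map_add' := hadd }
  have hsm : ∀ (b : B) (c : C) (q : Q), algebraMap C A c = algebraMap B A b →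
      b • q = algebraMap C B c • q := by
    intro b c q hc
    rw [← algebraMap_smul A b, ← algebraMap_smul A (algebraMap C B c),
      ← IsScalarTower.algebraMap_apply, hc]
  have hδ : IsLeibniz δ := by
    intro b b'
    change δf (b * b') = b • δf b' + b' • δf b
    have e1 : algebraMap C A (cc b * cc b') = algebraMap B A (b * b') := by
      rw [map_mul, map_mul, hcc, hcc]
    rw [δ_eq (b * b') (cc b * cc b') e1, hsm b' (cc b') _ (hcc b')]
    change _ = b • w _ + algebraMap C B (cc b') • w _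
    rw [← map_smul, ← map_smul, ← map_add]
    apply congrArg w
    apply Subtype.ext
    change b * b' - algebraMap C B (cc b * cc b') =
      b * (b' - algebraMap C B (cc b')) + algebraMap C B (cc b') * (b - algebraMap C B (cc b))
    rw [map_mul]; ring
  have hδ0 : ∀ c : C, δ (algebraMap C B c) = 0 := by
    intro c
    change δf _ = 0
    rw [δ_eq (algebraMap C B c) c (IsScalarTower.algebraMap_apply C B A c)]
    have : (⟨algebraMap C B c - algebraMap C B c, hmem _ c (IsScalarTower.algebraMap_apply C B A c)⟩ :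
        RingHom.ker (algebraMap B A)) = 0 := by
      apply Subtype.ext; simp
    rw [this, map_zero]
  obtain ⟨ℓ, hℓ, -⟩ := existsUnique_lift_kaehler (A := C) δ hδ hδ0
  let χ : MΩ →ₗ[A] Q := hΩ.lift ℓ
  have hχ : ∀ s : MI, χ (φ s) = π s := by
    intro s
    refine hI.inductionOn s _ ?_ ?_ ?_ ?_
    · rw [map_zero, map_zero, map_zero]
    · intro x
      rw [hφ, hΩ.lift_eq, hℓ, ← w_def]
      change δf x = _
      have e0 : algebraMap C A 0 = algebraMap B A x := by rw [map_zero]; exact x.2.symm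
      rw [δ_eq (x : B) 0 e0]
      apply congrArg w
      apply Subtype.ext
      simp
    · intro a n hn
      rw [map_smul, map_smul, map_smul, hn]
    · intro n₁ n₂ h₁ h₂
      rw [map_add, map_add, map_add, h₁, h₂]
  have h0 : π t = 0 := by rw [← hχ, ht, map_zero]
  exact (Submodule.Quotient.mk_eq_zero _).mp h0

end ring

section charts

variable {Z X : Scheme.{u}} (i : Z ⟶ X) [IsImmersion i]

/-- a good chart of an immersion: an affine open inside the open in which `Z` is closed -/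
def IsGoodChart (U : X.Opens) : Prop := IsAffineOpen U ∧ U ≤ i.coborderRange

variable {i}

theorem IsGoodChart.of_le {U U' : X.Opens} (h : IsGoodChart i U) (hU' : IsAffineOpen U') (hle : U' ≤ U) :
    IsGoodChart i U' := ⟨hU', hle.trans h.2⟩

theorem IsGoodChart.basicOpen {U : X.Opens} (h : IsGoodChart i U) (b : Γ(X, U)) :
    IsGoodChart i (X.basicOpen b) := h.of_le (h.1.basicOpen b) (X.basicOpen_le b)

theorem IsGoodChart.image_preimage {U : X.Opens} (h : IsGoodChart i U) :
    i.coborderRange.ι ''ᵁ (i.coborderRange.ι ⁻¹ᵁ U) = U := by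
  rw [Scheme.Hom.image_preimage_eq_opensRange_inf, Scheme.Opens.opensRange_ι]
  exact inf_eq_right.mpr h.2

theorem IsGoodChart.isAffineOpen_preimage {U : X.Opens} (h : IsGoodChart i U) :
    IsAffineOpen (i ⁻¹ᵁ U) := by
  have h1 : IsAffineOpen (i.coborderRange.ι ⁻¹ᵁ U) :=
    h.1.preimage_of_isOpenImmersion _ (by rw [Scheme.Opens.opensRange_ι]; exact h.2)
  have h2 := h1.preimage i.liftCoborder
  rwa [Scheme.Hom.liftCoborder_preimage, h.image_preimage] at h2

theorem IsGoodChart.app_surjective {U : X.Opens} (h : IsGoodChart i U) :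
    Function.Surjective (i.app U).hom := by
  have h1 : IsAffineOpen (i.coborderRange.ι ⁻¹ᵁ U) :=
    h.1.preimage_of_isOpenImmersion _ (by rw [Scheme.Opens.opensRange_ι]; exact h.2)
  have h2 := i.liftCoborder.app_surjective _ h1
  rw [AlgebraicGeometry.liftCoborder_app] at h2
  have h3 : Function.Surjective (i.app (i.coborderRange.ι ''ᵁ (i.coborderRange.ι ⁻¹ᵁ U))).hom := by
    intro y
    obtain ⟨x, hx⟩ := h2 ((Z.presheaf.map (eqToHom
      (i.liftCoborder_preimage (i.coborderRange.ι ⁻¹ᵁ U))).op).hom y)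
    refine ⟨x, ?_⟩
    have hinj : Function.Injective (Z.presheaf.map (eqToHom
      (i.liftCoborder_preimage (i.coborderRange.ι ⁻¹ᵁ U))).op).hom :=
      ((ConcreteCategory.isIso_iff_bijective _).mp inferInstance).1
    exact hinj hx
  have key : ∀ (O : X.Opens), O = U → Function.Surjective (i.app O).hom →
      Function.Surjective (i.app U).hom := by
    rintro _ rfl hO; exact hO
  exact key _ h.image_preimage h3

variable (i)

theorem exists_goodChart (z : Z) (O : Z.Opens) (hz : z ∈ O) :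
    ∃ U : X.Opens, IsGoodChart i U ∧ z ∈ i ⁻¹ᵁ U ∧ i ⁻¹ᵁ U ≤ O := by
  obtain ⟨t, ht, hte⟩ := i.isEmbedding.isInducing.isOpen_iff.mp O.2
  let O' : X.Opens := ⟨t, ht⟩
  have hz' : i z ∈ O' ⊓ i.coborderRange := by
    refine ⟨?_, ?_⟩
    · change z ∈ i ⁻¹' t
      rw [hte]; exact hz
    · exact subset_coborder ⟨z, rfl⟩
  obtain ⟨U, hU, hzU, hUle⟩ := Opens.isBasis_iff_nbhd.mp X.isBasis_affineOpens hz'
  refine ⟨U, ⟨hU, hUle.trans inf_le_right⟩, hzU, ?_⟩
  intro y hy
  have : i y ∈ O' := (hUle hy).1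
  have h2 : y ∈ i ⁻¹' t := this
  rw [hte] at h2
  exact h2

end charts


section compat

variable {Z X Y : Scheme.{u}} (p : X ⟶ Y) (i : Z ⟶ X) (j : Z ⟶ Y) [IsImmersion i] [IsImmersion j]

include p in
theorem exists_compatible_charts (hij : i ≫ p = j) (z : Z) (O : Z.Opens) (hz : z ∈ O) :
    ∃ (UX : X.Opens) (UY : Y.Opens), IsGoodChart i UX ∧ IsGoodChart j UY ∧ UX ≤ p ⁻¹ᵁ UY ∧
      i ⁻¹ᵁ UX = j ⁻¹ᵁ UY ∧ z ∈ i ⁻¹ᵁ UX ∧ i ⁻¹ᵁ UX ≤ O := by
  have hpre : ∀ V : Y.Opens, i ⁻¹ᵁ (p ⁻¹ᵁ V) = j ⁻¹ᵁ V := fun V => by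
    rw [← Scheme.Hom.comp_preimage, hij]
  obtain ⟨UX0, hX0, hzX0, hX0O⟩ := exists_goodChart i z O hz
  obtain ⟨UY0, hY0, hzY0, hY0X0⟩ := exists_goodChart j z (i ⁻¹ᵁ UX0) hzX0
  have hz1 : i z ∈ p ⁻¹ᵁ UY0 := by
    have : z ∈ i ⁻¹ᵁ (p ⁻¹ᵁ UY0) := by rw [hpre]; exact hzY0
    exact this
  obtain ⟨b, hb1, hb2⟩ := hX0.1.exists_basicOpen_le (V := p ⁻¹ᵁ UY0) ⟨i z, hz1⟩ hzX0
  have hX1 : IsGoodChart i (X.basicOpen b) := hX0.basicOpen b
  have hW0 : IsAffineOpen (j ⁻¹ᵁ UY0) := hY0.isAffineOpen_preimage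
  have hzW1 : z ∈ i ⁻¹ᵁ X.basicOpen b := hb2
  obtain ⟨a, ha1, ha2⟩ := hW0.exists_basicOpen_le (V := i ⁻¹ᵁ X.basicOpen b) ⟨z, hzW1⟩ hzY0
  obtain ⟨c, rfl⟩ := hY0.app_surjective a
  have hjc : j ⁻¹ᵁ Y.basicOpen c = Z.basicOpen ((j.app UY0).hom c) := Scheme.preimage_basicOpen j c
  refine ⟨X.basicOpen (p.appLE UY0 (X.basicOpen b) hb1 c), Y.basicOpen c, hX1.basicOpen _,
    hY0.basicOpen c, ?_, ?_, ?_, ?_⟩
  · rw [Scheme.basicOpen_appLE]; exact inf_le_right
  · rw [Scheme.basicOpen_appLE, Scheme.Hom.preimage_inf, hpre, hjc]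
    exact inf_eq_right.mpr ha1
  · rw [Scheme.basicOpen_appLE, Scheme.Hom.preimage_inf, hpre, hjc]
    exact ⟨hzW1, ha2⟩
  · rw [Scheme.basicOpen_appLE, Scheme.Hom.preimage_inf]
    exact inf_le_left.trans ((i.preimage_mono (X.basicOpen_le b)).trans hX0O)

end compat

section ideal

variable {Z X : Scheme.{u}} (i : Z ⟶ X)

theorem idealSect_eq_idealFn (I : X.IdealSheafData) (U : X.Opens) (s : Γ(ClSub.idealMod I, U)) :
    OmegaSh.idealSect I U s = idealFn I U s := rfl

theorem app_resO {O U : X.Opens} (h : U ≤ O) (g : Γ(X, O)) :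
    (i.app U).hom (resO X h g) = resO Z (i.preimage_mono h) ((i.app O).hom g) :=
  congr($(i.naturality (homOfLE h).op) g)

variable [QuasiCompact i]

/-- over any open, a function killed by `i♯` is a section of the ideal sheaf of `i` -/
theorem exists_idealFn_eq_of_app_eq_zero (O : X.Opens) (g : Γ(X, O)) (hg : (i.app O).hom g = 0) :
    ∃ t : Γ(ClSub.idealMod i.ker, O), idealFn i.ker O t = g := by
  let ι := {U : X.affineOpens // U.1 ≤ O}
  let V : ι → X.Opens := fun U => U.1.1
  have hV : ∀ a, V a ≤ O := fun a => a.2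
  have hcov : O ≤ ⨆ a, V a := by
    intro x hx
    obtain ⟨U, hU, hxU, hUO⟩ := Opens.isBasis_iff_nbhd.mp X.isBasis_affineOpens hx
    exact Opens.mem_iSup.mpr ⟨⟨⟨U, hU⟩, hUO⟩, hxU⟩
  have hloc : ∀ a : ι, ∃ t : Γ(ClSub.idealMod i.ker, V a), idealFn i.ker (V a) t = resO X (hV a) g := by
    intro a
    apply exists_idealFn_eq i.ker a.1
    rw [Scheme.Hom.ker_apply, RingHom.mem_ker]
    have := app_resO i (hV a) g
    rw [hg] at this
    rw [this]
    exact map_zero (Z.presheaf.map (homOfLE (i.preimage_mono (hV a))).op).hom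
  choose tt htt using hloc
  obtain ⟨t, ht⟩ := Groth.Agent.Lib.H90OXModQcqs.exists_glue (ClSub.idealMod i.ker) O V hV hcov tt
    (by
      intro a b
      apply idealFn_injective i.ker
      change idealFn i.ker _ ((ClSub.idealMod i.ker).presheaf.map (homOfLE _).op (tt a)) =
        idealFn i.ker _ ((ClSub.idealMod i.ker).presheaf.map (homOfLE _).op (tt b))
      rw [idealFn_map, idealFn_map, htt, htt]
      change resO X _ (resO X _ g) = resO X _ (resO X _ g)
      rw [resO_resO, resO_resO])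
  refine ⟨t, ?_⟩
  refine TopCat.Sheaf.eq_of_locally_eq' X.sheaf V O (fun a => homOfLE (hV a)) hcov _ _ ?_
  intro a
  have h1 := idealFn_map i.ker (hV a) t
  have h2 : (ClSub.idealMod i.ker).presheaf.map (homOfLE (hV a)).op t = tt a := ht a
  rw [h2, htt] at h1
  exact h1.symm

end ideal

section unitSecFun

variable {X Y : Scheme.{u}} (h : X ⟶ Y) (G : Y.Modules)

theorem unitSecFun_eq {U : X.Opens} {V : Y.Opens} (hUV : U ≤ h ⁻¹ᵁ V) (m : Γ(G, V)) :
    unitSecFun h G hUV m = res ((Scheme.Modules.pullback h).obj G) hUV (OmegaSh.pullSect h G V m) := rfl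

/-- restricting the target -/
theorem res_unitSecFun {U U' : X.Opens} {V : Y.Opens} (hUV : U ≤ h ⁻¹ᵁ V) (hU' : U' ≤ U) (m : Γ(G, V)) :
    res ((Scheme.Modules.pullback h).obj G) hU' (unitSecFun h G hUV m) =
      unitSecFun h G (hU'.trans hUV) m := by
  rw [unitSecFun_eq, unitSecFun_eq, res_res]

/-- restricting the source -/
theorem unitSecFun_res {U : X.Opens} {V V' : Y.Opens} (hV' : V' ≤ V) (hUV' : U ≤ h ⁻¹ᵁ V') (m : Γ(G, V)) :
    unitSecFun h G hUV' (res G hV' m) = unitSecFun h G (hUV'.trans (h.preimage_mono hV')) m := by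
  rw [unitSecFun_eq, unitSecFun_eq]
  have h1 := hom_app_res' ((Scheme.Modules.pullbackPushforwardAdjunction h).unit.app G) hV' m
  have h2 : OmegaSh.pullSect h G V' (res G hV' m) =
      res ((Scheme.Modules.pullback h).obj G) (h.preimage_mono hV') (OmegaSh.pullSect h G V m) := h1
  rw [h2, res_res]

end unitSecFun


section chartmaps

variable {Z X : Scheme.{u}} (i : Z ⟶ X) {U : X.Opens} {W : Z.Opens}

set_option backward.isDefEq.respectTransparency false in
/-- the `I`-side: sections of the conormal sheaf over a chart are the base change of the ideal. -/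
theorem exists_uI [QuasiCompact i] (hU : IsAffineOpen U) (hWa : IsAffineOpen W) (hW : i ⁻¹ᵁ U = W) :
    letI : Algebra Γ(X, U) Γ(Z, W) := (i.appLE U W hW.ge).hom.toAlgebra
    letI : Module Γ(X, U) Γ((Scheme.Modules.pullback i).obj (ClSub.idealMod i.ker), W) :=
      Module.compHom _ (i.appLE U W hW.ge).hom
    haveI : IsScalarTower Γ(X, U) Γ(Z, W)
        Γ((Scheme.Modules.pullback i).obj (ClSub.idealMod i.ker), W) :=
      .of_algebraMap_smul fun _ _ => rfl
    ∃ uI : RingHom.ker (algebraMap Γ(X, U) Γ(Z, W)) →ₗ[Γ(X, U)]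
        Γ((Scheme.Modules.pullback i).obj (ClSub.idealMod i.ker), W),
      IsBaseChange Γ(Z, W) uI ∧
      ∀ (s : Γ(ClSub.idealMod i.ker, U)) (x : RingHom.ker (algebraMap Γ(X, U) Γ(Z, W))),
        (x : Γ(X, U)) = idealFn i.ker U s →
          uI x = unitSecFun i (ClSub.idealMod i.ker) hW.ge s := by
  letI : Algebra Γ(X, U) Γ(Z, W) := (i.appLE U W hW.ge).hom.toAlgebra
  letI : Module Γ(X, U) Γ((Scheme.Modules.pullback i).obj (ClSub.idealMod i.ker), W) :=
    Module.compHom _ (i.appLE U W hW.ge).hom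
  haveI : IsScalarTower Γ(X, U) Γ(Z, W)
      Γ((Scheme.Modules.pullback i).obj (ClSub.idealMod i.ker), W) :=
    .of_algebraMap_smul fun _ _ => rfl
  have hbc := isBaseChange_unitSec i (ClSub.idealMod i.ker) hWa hU hW.ge
  let eI : Γ(ClSub.idealMod i.ker, U) ≃ₗ[Γ(X, U)] RingHom.ker (algebraMap Γ(X, U) Γ(Z, W)) :=
    Groth.Agent.Lib.H77OmegaSections.idealSectionsEquiv' i hU hW
  refine ⟨(unitSec i (ClSub.idealMod i.ker) hW.ge) ∘ₗ eI.symm.toLinearMap, ?_, ?_⟩
  · exact isBaseChange_of_equivs (unitSec i (ClSub.idealMod i.ker) hW.ge) hbc eI.symm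
      (LinearEquiv.refl _ _) _ (fun m => rfl)
  · intro s x hx
    have : eI s = x := Subtype.ext hx.symm
    rw [← this]
    simp only [LinearMap.coe_comp, LinearEquiv.coe_coe, Function.comp_apply,
      LinearEquiv.symm_apply_apply]
    rfl


set_option backward.isDefEq.respectTransparency false in
/-- the `Ω`-side: sections of `i^*Ω` over a chart are the base change of the Kähler differentials. -/
theorem exists_uΩ {Y : Scheme.{u}} (p : X ⟶ Y) {Ω : X.Modules} (d : OmegaSh.Der p Ω)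
    (hd : OmegaSh.IsUniversal d) {UY : Y.Opens} (hUY : IsAffineOpen UY)
    (hU : IsAffineOpen U) (e : U ≤ p ⁻¹ᵁ UY) (hWa : IsAffineOpen W) (hW : i ⁻¹ᵁ U = W) :
    letI : Algebra Γ(Y, UY) Γ(X, U) := (p.appLE UY U e).hom.toAlgebra
    letI : Algebra Γ(X, U) Γ(Z, W) := (i.appLE U W hW.ge).hom.toAlgebra
    letI : Module Γ(X, U) Γ((Scheme.Modules.pullback i).obj Ω, W) :=
      Module.compHom _ (i.appLE U W hW.ge).hom
    haveI : IsScalarTower Γ(X, U) Γ(Z, W) Γ((Scheme.Modules.pullback i).obj Ω, W) :=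
      .of_algebraMap_smul fun _ _ => rfl
    ∃ uΩ : Ω[Γ(X, U)⁄Γ(Y, UY)] →ₗ[Γ(X, U)] Γ((Scheme.Modules.pullback i).obj Ω, W),
      IsBaseChange Γ(Z, W) uΩ ∧
      ∀ b : Γ(X, U), uΩ (KaehlerDifferential.D Γ(Y, UY) Γ(X, U) b) =
        unitSecFun i Ω hW.ge (d.app U b) := by
  letI : Algebra Γ(Y, UY) Γ(X, U) := (p.appLE UY U e).hom.toAlgebra
  letI : Algebra Γ(X, U) Γ(Z, W) := (i.appLE U W hW.ge).hom.toAlgebra
  letI : Module Γ(X, U) Γ((Scheme.Modules.pullback i).obj Ω, W) :=
    Module.compHom _ (i.appLE U W hW.ge).hom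
  haveI : IsScalarTower Γ(X, U) Γ(Z, W) Γ((Scheme.Modules.pullback i).obj Ω, W) :=
    .of_algebraMap_smul fun _ _ => rfl
  haveI : Ω.IsQuasicoherent := isQuasicoherent_of_isUniversal p d hd
  have hbc := isBaseChange_unitSec i Ω hWa hU hW.ge
  obtain ⟨ε, hε⟩ := exists_linearEquiv_sections p d hU hUY e hd
  refine ⟨(unitSec i Ω hW.ge) ∘ₗ ε.toLinearMap, ?_, ?_⟩
  · exact isBaseChange_of_equivs (unitSec i Ω hW.ge) hbc ε (LinearEquiv.refl _ _) _ (fun m => rfl)
  · intro b
    simp only [LinearMap.coe_comp, LinearEquiv.coe_coe, Function.comp_apply, hε]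
    rfl

end chartmaps


section Jside

variable {Z Y : Scheme.{u}} (j : Z ⟶ Y) {UY : Y.Opens} {W : Z.Opens}

/-- generation of the sections of a pullback module over affine charts by pulled back sections -/
theorem span_unitSecFun {X : Scheme.{u}} (h : X ⟶ Y) (G : Y.Modules) [G.IsQuasicoherent] {U : X.Opens}
    {V : Y.Opens} (hU : IsAffineOpen U) (hV : IsAffineOpen V) (hUV : U ≤ h ⁻¹ᵁ V) :
    Submodule.span Γ(X, U) (Set.range (unitSecFun h G hUV)) = ⊤ := by
  letI : Algebra Γ(Y, V) Γ(X, U) := (h.appLE V U hUV).hom.toAlgebra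
  letI : Module Γ(Y, V) Γ((Scheme.Modules.pullback h).obj G, U) :=
    Module.compHom _ (h.appLE V U hUV).hom
  haveI : IsScalarTower Γ(Y, V) Γ(X, U) Γ((Scheme.Modules.pullback h).obj G, U) :=
    .of_algebraMap_smul fun _ _ => rfl
  have hbc := isBaseChange_unitSec h G hU hV hUV
  rw [eq_top_iff]
  intro m _
  refine hbc.inductionOn m (fun m => m ∈ Submodule.span Γ(X, U) (Set.range (unitSecFun h G hUV)))
    (Submodule.zero_mem _) (fun x => Submodule.subset_span ⟨x, rfl⟩)
    (fun a n hn => Submodule.smul_mem _ a hn) (fun n₁ n₂ h₁ h₂ => Submodule.add_mem _ h₁ h₂)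

/-- the `J`-side: generation of the sections of `𝟙^* (j^* 𝓙)` over a chart. -/
theorem span_uJ [QuasiCompact j] (hUY : IsAffineOpen UY) (hWa : IsAffineOpen W) (hW : j ⁻¹ᵁ UY = W)
    (h1 : W ≤ (𝟙 Z) ⁻¹ᵁ W) :
    Submodule.span Γ(Z, W) (Set.range fun s : Γ(ClSub.idealMod j.ker, UY) =>
      unitSecFun (𝟙 Z) ((Scheme.Modules.pullback j).obj (ClSub.idealMod j.ker)) h1
        (unitSecFun j (ClSub.idealMod j.ker) hW.ge s)) = ⊤ := by
  have s1 := span_unitSecFun (𝟙 Z) ((Scheme.Modules.pullback j).obj (ClSub.idealMod j.ker)) hWa hWa h1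
  have s2 := span_unitSecFun j (ClSub.idealMod j.ker) hWa hUY hW.ge
  rw [eq_top_iff, ← s1]
  apply Submodule.span_le.mpr
  rintro _ ⟨m, rfl⟩
  have hm : m ∈ Submodule.span Γ(Z, W) (Set.range (unitSecFun j (ClSub.idealMod j.ker) hW.ge)) := by
    rw [s2]; trivial
  induction hm using Submodule.span_induction with
  | mem x hx =>
    obtain ⟨s, rfl⟩ := hx
    exact Submodule.subset_span ⟨s, rfl⟩
  | zero =>
    have : unitSecFun (𝟙 Z) ((Scheme.Modules.pullback j).obj (ClSub.idealMod j.ker)) h1 0 = 0 :=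
      map_zero (unitSec (𝟙 Z) ((Scheme.Modules.pullback j).obj (ClSub.idealMod j.ker)) h1)
    rw [this]; exact Submodule.zero_mem _
  | add x y _ _ hx hy =>
    have : unitSecFun (𝟙 Z) ((Scheme.Modules.pullback j).obj (ClSub.idealMod j.ker)) h1 (x + y) =
        unitSecFun (𝟙 Z) _ h1 x + unitSecFun (𝟙 Z) _ h1 y :=
      map_add (unitSec (𝟙 Z) ((Scheme.Modules.pullback j).obj (ClSub.idealMod j.ker)) h1) x y
    rw [this]; exact Submodule.add_mem _ hx hy
  | smul a x _ hx =>
    rw [unitSecFun_smul]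
    exact Submodule.smul_mem _ _ hx

end Jside

end Groth.Agent.Lib.Conormal81
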