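import Groth.Agent.Lib.H90OXModLocal

/-!
# Morphisms of `O_X`-modules from their values on a basis (helper28)

* `hom_ext_of_basis`: two morphisms `M ⟶ N` agreeing on the members of a basis of opens are equal.
* `exists_hom_of_basis`: GLUING: a family of additive maps `Γ(M, B i) ⟶ Γ(N, B i)` indexed by a basis `B`, natural for
  inclusions between members of the basis and `O(B i)`-linear, extends (uniquely) to a morphism `M ⟶ N`.
-/

set_option autoImplicit false
universe u

open CategoryTheory AlgebraicGeometry TopologicalSpace Opposite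
open AlgebraicGeometry.Scheme AlgebraicGeometry.Scheme.Modules

namespace Groth.Agent.Lib.ModHomBasis

variable {X : Scheme.{u}} {M N : X.Modules}

/-- Two morphisms of `O_X`-modules which agree on the members of a basis are equal. -/
theorem hom_ext_of_basis {ι : Type*} {B : ι → X.Opens} (hB : Opens.IsBasis (Set.range B))
    (f g : M ⟶ N) (h : ∀ i, f.app (B i) = g.app (B i)) : f = g := by
  apply (toPresheaf X).map_injective
  exact TopCat.Sheaf.hom_ext (F := M.presheaf) (F' := ⟨N.presheaf, N.isSheaf⟩) hB (fun i => h i)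

/-- GLUING of morphisms of `O_X`-modules from a basis: a family of additive maps `φ i : Γ(M, B i) ⟶ Γ(N, B i)`,
natural for inclusions between members of the basis and linear over functions, extends to a morphism `M ⟶ N`. -/
theorem exists_hom_of_basis {ι : Type*} {B : ι → X.Opens} (hB : Opens.IsBasis (Set.range B))
    (φ : ∀ i, Γ(M, B i) ⟶ Γ(N, B i))
    (nat : ∀ (i j : ι) (h : B j ≤ B i) (s : Γ(M, B i)),
      N.presheaf.map (homOfLE h).op (φ i s) = φ j (M.presheaf.map (homOfLE h).op s))
    (lin : ∀ (i : ι) (r : Γ(X, B i)) (s : Γ(M, B i)), φ i (r • s) = r • φ i s) :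
    ∃ f : M ⟶ N, ∀ i, f.app (B i) = φ i := by
  let G : TopCat.Sheaf Ab X := ⟨N.presheaf, N.isSheaf⟩
  let α : (inducedFunctor B).op ⋙ M.presheaf ⟶ (inducedFunctor B).op ⋙ G.1 :=
    { app := fun i => φ i.unop
      naturality := by
        intro i j g
        ext s
        exact (nat i.unop j.unop (leOfHom ((inducedFunctor B).map g.unop)) s).symm }
  let β : M.presheaf ⟶ N.presheaf := TopCat.Sheaf.restrictHomEquivHom M.presheaf G hB α
  have hβ : ∀ i, β.app (op (B i)) = φ i := fun i =>
    TopCat.Sheaf.extend_hom_app M.presheaf G hB α i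
  have hlin : ∀ (V : (TopologicalSpace.Opens X)ᵒᵖ) (r : X.ringCatSheaf.obj.obj V) (m : M.val.obj V),
      β.app V (r • m) = (show N.val.obj V from r • (show N.val.obj V from β.app V m)) := by
    intro V r m
    obtain ⟨V⟩ := V
    refine TopCat.Sheaf.eq_of_locally_eq' G (fun i : {i : ι // B i ≤ V} => B i.1) V
      (fun i => homOfLE i.2) ?_ _ _ ?_
    · intro x hx
      obtain ⟨_, ⟨i, rfl⟩, hxi, hiV⟩ := TopologicalSpace.Opens.isBasis_iff_nbhd.mp hB hx
      exact TopologicalSpace.Opens.mem_iSup.mpr ⟨⟨i, hiV⟩, hxi⟩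
    · rintro ⟨i, hi⟩
      have n1 := fun t => NatTrans.naturality_apply β (homOfLE hi).op t
      let r' : Γ(X, V) := r
      let m' : Γ(M, V) := m
      change N.presheaf.map _ (β.app (op V) (r' • m')) = N.presheaf.map _ (r' • β.app (op V) m')
      erw [← n1, N.map_smul, ← n1, M.map_smul, hβ i, lin]
  refine ⟨⟨PresheafOfModules.homMk β hlin⟩, fun i => ?_⟩
  rw [← hβ i]
  rfl

end Groth.Agent.Lib.ModHomBasis
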