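import Groth.Agent.Lib.Conormal81
import Groth.Agent.Lib.ModHomBasis

/-!
# The conormal sequence `C_{Z/Y} → C_{Z/X} → i^*Ω_{X/Y} → 0` (helper81)

`chart_exact` (sections over compatible charts), `exact_of_locally`, `epi_of_locally_surjective'`,
`conormal_sequence_exact`.
-/

set_option autoImplicit false
set_option linter.style.haveILetI false
set_option linter.unusedSectionVars false
universe u

open CategoryTheory AlgebraicGeometry TopologicalSpace Opposite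

namespace Groth.Agent.Lib.Conormal81

open Groth.Agent.Lib.OmegaDer81 Groth.Agent.Lib.QCohStalk Groth.Agent.Lib.IdealMod
  Groth.Agent.Lib.UnitBaseChange Groth.Agent.Lib.H90OXModSections

section chartExact

variable {Z X Y : Scheme.{u}} (p : X ⟶ Y) (i : Z ⟶ X) (j : Z ⟶ Y)

theorem appLE_surjective_of_eq {UY : Y.Opens} {W : Z.Opens}
    (hs : Function.Surjective (j.app UY).hom) (hW : j ⁻¹ᵁ UY = W) :
    Function.Surjective (j.appLE UY W hW.ge).hom := by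
  subst hW
  rw [← Scheme.Hom.app_eq_appLE]
  exact hs

variable [IsImmersion i] [IsImmersion j] [QuasiCompact i] [QuasiCompact j]
  {Ω : X.Modules} (d : OmegaSh.Der p Ω)
  (ψ : (Scheme.Modules.pullback (𝟙 Z)).obj (Omega.conormal j) ⟶ Omega.conormal i)
  (φ : Omega.conormal i ⟶ (Scheme.Modules.pullback i).obj Ω)

set_option backward.isDefEq.respectTransparency false in
set_option maxHeartbeats 1600000 in
theorem chart_exact (hij : i ≫ p = j) (hd : OmegaSh.IsUniversal d)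
    (hψ : OmegaSh.IsConormalMap i j p (𝟙 Z) ψ) (hφ : OmegaSh.IsConormalDiff i d φ)
    {UX : X.Opens} {UY : Y.Opens} (hX : IsGoodChart i UX) (hY : IsGoodChart j UY)
    (e : UX ≤ p ⁻¹ᵁ UY) (hW : i ⁻¹ᵁ UX = j ⁻¹ᵁ UY) :
    (∀ m, φ.app (i ⁻¹ᵁ UX) (ψ.app (i ⁻¹ᵁ UX) m) = 0) ∧
    (∀ t, φ.app (i ⁻¹ᵁ UX) t = 0 → ∃ m, ψ.app (i ⁻¹ᵁ UX) m = t) ∧
    Function.Surjective (φ.app (i ⁻¹ᵁ UX)) := by
  subst hij
  have hWa : IsAffineOpen (i ⁻¹ᵁ UX) := hX.isAffineOpen_preimage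
  have hWi : i ⁻¹ᵁ UX = i ⁻¹ᵁ UX := rfl
  have hWj : (i ≫ p) ⁻¹ᵁ UY = i ⁻¹ᵁ UX := hW.symm
  have h1 : i ⁻¹ᵁ UX ≤ (𝟙 Z) ⁻¹ᵁ (i ⁻¹ᵁ UX) := le_rfl
  letI algCB : Algebra Γ(Y, UY) Γ(X, UX) := (p.appLE UY UX e).hom.toAlgebra
  letI algBA : Algebra Γ(X, UX) Γ(Z, i ⁻¹ᵁ UX) := (i.appLE UX (i ⁻¹ᵁ UX) hWi.ge).hom.toAlgebra
  letI algCA : Algebra Γ(Y, UY) Γ(Z, i ⁻¹ᵁ UX) :=
    ((i ≫ p).appLE UY (i ⁻¹ᵁ UX) hWj.ge).hom.toAlgebra
  haveI : IsScalarTower Γ(Y, UY) Γ(X, UX) Γ(Z, i ⁻¹ᵁ UX) := by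
    apply IsScalarTower.of_algebraMap_eq'
    have := Scheme.Hom.appLE_comp_appLE i p UY UX (i ⁻¹ᵁ UX) e hWi.ge
    exact congrArg CommRingCat.Hom.hom this.symm
  letI : Module Γ(X, UX) Γ((Scheme.Modules.pullback i).obj (ClSub.idealMod i.ker), i ⁻¹ᵁ UX) :=
    Module.compHom _ (i.appLE UX (i ⁻¹ᵁ UX) hWi.ge).hom
  haveI : IsScalarTower Γ(X, UX) Γ(Z, i ⁻¹ᵁ UX)
      Γ((Scheme.Modules.pullback i).obj (ClSub.idealMod i.ker), i ⁻¹ᵁ UX) :=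
    .of_algebraMap_smul fun _ _ => rfl
  letI : Module Γ(X, UX) Γ((Scheme.Modules.pullback i).obj Ω, i ⁻¹ᵁ UX) :=
    Module.compHom _ (i.appLE UX (i ⁻¹ᵁ UX) hWi.ge).hom
  haveI : IsScalarTower Γ(X, UX) Γ(Z, i ⁻¹ᵁ UX) Γ((Scheme.Modules.pullback i).obj Ω, i ⁻¹ᵁ UX) :=
    .of_algebraMap_smul fun _ _ => rfl
  obtain ⟨uI, hI, huI⟩ := exists_uI i hX.1 hWa hWi
  obtain ⟨uΩ, hΩ, huΩ⟩ := exists_uΩ i p d hd hY.1 hX.1 e hWa hWi
  have hJ := span_uJ (i ≫ p) hY.1 hWa hWj h1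
  have hBA : Function.Surjective (algebraMap Γ(X, UX) Γ(Z, i ⁻¹ᵁ UX)) :=
    appLE_surjective_of_eq i hX.app_surjective hWi
  have hCA : Function.Surjective (algebraMap Γ(Y, UY) Γ(Z, i ⁻¹ᵁ UX)) :=
    appLE_surjective_of_eq (i ≫ p) hY.app_surjective hWj
  -- the `φ`-compatibility
  have hφ' : ∀ x : RingHom.ker (algebraMap Γ(X, UX) Γ(Z, i ⁻¹ᵁ UX)),
      (appLin φ (i ⁻¹ᵁ UX)) (uI x) = uΩ (KaehlerDifferential.D Γ(Y, UY) Γ(X, UX) x) := by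
    intro x
    obtain ⟨s, hs⟩ : ∃ s : Γ(ClSub.idealMod i.ker, UX), idealFn i.ker UX s = x := by
      refine ⟨(Groth.Agent.Lib.H77OmegaSections.idealSectionsEquiv' i hX.1 hWi).symm x, ?_⟩
      exact congrArg Subtype.val
        ((Groth.Agent.Lib.H77OmegaSections.idealSectionsEquiv' i hX.1 hWi).apply_symm_apply x)
    rw [huI s x hs.symm, huΩ, appLin_apply, unitSecFun_eq, unitSecFun_eq]
    have h2 := hom_app_res' φ hWi.ge (OmegaSh.pullSect i (ClSub.idealMod i.ker) UX s)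
    refine h2.trans ?_
    have h3 := hφ UX s
    rw [OmegaSh.conormalSect_eq] at h3
    have h4 : d.app UX (OmegaSh.idealSect i.ker UX s) = d.app UX x := by
      rw [idealSect_eq_idealFn, hs]
    exact congrArg (res ((Scheme.Modules.pullback i).obj Ω) hWi.ge) (h3.trans (congrArg _ h4))
  -- the `ψ`-compatibility
  have hψ' : ∀ (t : Γ(ClSub.idealMod (i ≫ p).ker, UY))
      (x : RingHom.ker (algebraMap Γ(X, UX) Γ(Z, i ⁻¹ᵁ UX))),
      (x : Γ(X, UX)) = algebraMap Γ(Y, UY) Γ(X, UX) (idealFn (i ≫ p).ker UY t) →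
      (appLin ψ (i ⁻¹ᵁ UX)) (unitSecFun (𝟙 Z)
        ((Scheme.Modules.pullback (i ≫ p)).obj (ClSub.idealMod (i ≫ p).ker)) h1
        (unitSecFun (i ≫ p) (ClSub.idealMod (i ≫ p).ker) hWj.ge t)) = uI x := by
    intro t x hx
    -- the section `s` of the ideal of `i` over `p⁻¹ UY`
    have hg : (i.app (p ⁻¹ᵁ UY)).hom ((p.app UY).hom (idealFn (i ≫ p).ker UY t)) = 0 := by
      have h0 := idealFn_mem (i ≫ p).ker ⟨UY, hY.1⟩ t
      rw [Scheme.Hom.ker_apply, RingHom.mem_ker] at h0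
      rw [Scheme.Hom.comp_app] at h0
      exact h0
    obtain ⟨s, hs⟩ := exists_idealFn_eq_of_app_eq_zero i (p ⁻¹ᵁ UY) _ hg
    have h₁ : i ⁻¹ᵁ UX ≤ (𝟙 Z) ⁻¹ᵁ ((i ≫ p) ⁻¹ᵁ UY) := hWj.ge
    have h₂ : i ⁻¹ᵁ UX ≤ i ⁻¹ᵁ (p ⁻¹ᵁ UY) := i.preimage_mono e
    have key := hψ.2 UY t s hs (i ⁻¹ᵁ UX) h₁ h₂
    -- left side
    have hL : (appLin ψ (i ⁻¹ᵁ UX)) (unitSecFun (𝟙 Z)
        ((Scheme.Modules.pullback (i ≫ p)).obj (ClSub.idealMod (i ≫ p).ker)) h1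
        (unitSecFun (i ≫ p) (ClSub.idealMod (i ≫ p).ker) hWj.ge t)) =
        (Omega.conormal i).presheaf.map (homOfLE h₁).op
          (ψ.app ((𝟙 Z) ⁻¹ᵁ ((i ≫ p) ⁻¹ᵁ UY))
            (OmegaSh.pullSect (𝟙 Z) (Omega.conormal (i ≫ p)) ((i ≫ p) ⁻¹ᵁ UY)
              (OmegaSh.conormalSect (i ≫ p) UY t))) := by
      rw [appLin_apply, unitSecFun_eq (i ≫ p), unitSecFun_res]
      exact hom_app_res' ψ h₁ _
    rw [hL, key]
    -- right side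
    have hs0 : idealFn i.ker UX (res (ClSub.idealMod i.ker) e s) = x := by
      rw [hx]
      have := idealFn_map i.ker e s
      rw [hs] at this
      exact this
    rw [huI (res (ClSub.idealMod i.ker) e s) x hs0.symm, unitSecFun_res]
    rfl
  have hιJ : ∀ t : Γ(ClSub.idealMod (i ≫ p).ker, UY),
      algebraMap Γ(Y, UY) Γ(Z, i ⁻¹ᵁ UX) (idealFn (i ≫ p).ker UY t) = 0 := fun t =>
    Groth.Agent.Lib.H77OmegaSections.idealFn_mem_ker' (i ≫ p) hY.1 hWj t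
  have hιJ' : ∀ c : Γ(Y, UY), algebraMap Γ(Y, UY) Γ(Z, i ⁻¹ᵁ UX) c = 0 →
      ∃ t : Γ(ClSub.idealMod (i ≫ p).ker, UY), idealFn (i ≫ p).ker UY t = c := by
    intro c hc
    refine ⟨(Groth.Agent.Lib.H77OmegaSections.idealSectionsEquiv' (i ≫ p) hY.1 hWj).symm ⟨c, hc⟩, ?_⟩
    exact congrArg Subtype.val
      ((Groth.Agent.Lib.H77OmegaSections.idealSectionsEquiv' (i ≫ p) hY.1 hWj).apply_symm_apply ⟨c, hc⟩)
  refine ⟨?_, ?_, ?_⟩
  · intro m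
    exact comp_eq_zero (C := Γ(Y, UY)) (B := Γ(X, UX)) (A := Γ(Z, i ⁻¹ᵁ UX)) _
      (idealFn (i ≫ p).ker UY) uI uΩ (appLin ψ (i ⁻¹ᵁ UX)) (appLin φ (i ⁻¹ᵁ UX)) hJ hιJ hψ' hφ' m
  · intro t ht
    exact exact_mid (C := Γ(Y, UY)) (B := Γ(X, UX)) (A := Γ(Z, i ⁻¹ᵁ UX)) _
      (idealFn (i ≫ p).ker UY) uI uΩ (appLin ψ (i ⁻¹ᵁ UX)) (appLin φ (i ⁻¹ᵁ UX)) hCA hI hΩ hιJ'
      hψ' hφ' t ht
  · exact surjective_phi (C := Γ(Y, UY)) (B := Γ(X, UX)) (A := Γ(Z, i ⁻¹ᵁ UX)) uI uΩ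
      (appLin φ (i ⁻¹ᵁ UX)) hCA hΩ hφ'

end chartExact


section sheafLevel

variable {X : Scheme.{u}}

/-- A morphism of `O_X`-modules which is locally surjective on sections is an epimorphism. -/
theorem epi_of_locally_surjective' {M N : X.Modules} (φ : M ⟶ N)
    (h : ∀ (U : X.Opens) (s : Γ(N, U)) (x : X), x ∈ U → ∃ (V : X.Opens) (hVU : V ≤ U), x ∈ V ∧
        ∃ t : Γ(M, V), φ.app V t = N.presheaf.map (homOfLE hVU).op s) : Epi φ :=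
  IdealMod.epi_of_locally_surjective φ fun U s x hx => h U s x hx

/-- A short complex of `O_X`-modules is exact as soon as every section killed by `g` is locally in the
image of `f`. -/
theorem exact_of_locally (S : ShortComplex X.Modules)
    (h : ∀ (U : X.Opens) (s : Γ(S.X₂, U)), S.g.app U s = 0 → ∀ x : X, x ∈ U →
      ∃ (V : X.Opens) (hVU : V ≤ U), x ∈ V ∧
        ∃ t : Γ(S.X₁, V), S.f.app V t = S.X₂.presheaf.map (homOfLE hVU).op s) : S.Exact := by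
  rw [S.exact_iff_epi_kernel_lift]
  refine epi_of_locally_surjective' _ fun U k x hx => ?_
  have hs : S.g.app U ((Limits.kernel.ι S.g).app U k) = 0 :=
    congrArg (fun f => (Scheme.Modules.Hom.app f U) k) (Limits.kernel.condition S.g)
  obtain ⟨V, hVU, hxV, t, ht⟩ := h U _ hs x hx
  refine ⟨V, hVU, hxV, t, ?_⟩
  apply (IdealMod.kernel_sections S.g V).1
  change (Limits.kernel.ι S.g).app V ((Limits.kernel.lift S.g S.f S.zero).app V t) =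
    (Limits.kernel.ι S.g).app V ((Limits.kernel S.g).presheaf.map (homOfLE hVU).op k)
  rw [hom_app_res' (Limits.kernel.ι S.g) hVU k]
  change _ = S.X₂.presheaf.map (homOfLE hVU).op _
  rw [← ht]
  exact congrArg (fun f => (Scheme.Modules.Hom.app f V) t) (Limits.kernel.lift_ι S.g S.f S.zero)

end sheafLevel

section main

variable {Z X Y : Scheme.{u}} (p : X ⟶ Y) (i : Z ⟶ X) (j : Z ⟶ Y)
  [IsImmersion i] [IsImmersion j] [QuasiCompact i] [QuasiCompact j]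
  {Ω : X.Modules} (d : OmegaSh.Der p Ω)
  (ψ : (Scheme.Modules.pullback (𝟙 Z)).obj (Omega.conormal j) ⟶ Omega.conormal i)
  (φ : Omega.conormal i ⟶ (Scheme.Modules.pullback i).obj Ω)

/-- **The conormal sequence `C_{Z/Y} → C_{Z/X} → i^*Ω_{X/Y} → 0` is exact.** -/
theorem conormal_sequence_exact (hij : i ≫ p = j) (hd : OmegaSh.IsUniversal d)
    (hψ : OmegaSh.IsConormalMap i j p (𝟙 Z) ψ) (hφ : OmegaSh.IsConormalDiff i d φ) :
    ∃ w : ψ ≫ φ = 0, (ShortComplex.mk ψ φ w).Exact ∧ Epi φ := by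
  let ι := {c : X.Opens × Y.Opens // IsGoodChart i c.1 ∧ IsGoodChart j c.2 ∧ c.1 ≤ p ⁻¹ᵁ c.2 ∧
    i ⁻¹ᵁ c.1 = j ⁻¹ᵁ c.2}
  let B : ι → Z.Opens := fun c => i ⁻¹ᵁ c.1.1
  have hcharts : ∀ (O : Z.Opens) (z : Z), z ∈ O → ∃ c : ι, z ∈ B c ∧ B c ≤ O := by
    intro O z hz
    obtain ⟨UX, UY, hX, hY, e, hW, hzW, hWO⟩ := exists_compatible_charts p i j hij z O hz
    exact ⟨⟨(UX, UY), hX, hY, e, hW⟩, hzW, hWO⟩
  have hB : Opens.IsBasis (Set.range B) := by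
    rw [Opens.isBasis_iff_nbhd]
    intro O z hz
    obtain ⟨c, hzc, hcO⟩ := hcharts O z hz
    exact ⟨B c, ⟨c, rfl⟩, hzc, hcO⟩
  have hch := fun c : ι => chart_exact p i j d ψ φ hij hd hψ hφ c.2.1 c.2.2.1 c.2.2.2.1 c.2.2.2.2
  have w : ψ ≫ φ = 0 := by
    apply Groth.Agent.Lib.ModHomBasis.hom_ext_of_basis hB
    intro c
    ext m
    exact (hch c).1 m
  refine ⟨w, ?_, ?_⟩
  · apply exact_of_locally
    intro O t ht z hz
    obtain ⟨c, hzc, hcO⟩ := hcharts O z hz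
    refine ⟨B c, hcO, hzc, ?_⟩
    apply (hch c).2.1
    have := hom_app_res' φ hcO t
    change φ.app (B c) (res (Omega.conormal i) hcO t) = 0
    rw [this]
    rw [ht]
    exact res_zero _ hcO
  · apply epi_of_locally_surjective'
    intro O t z hz
    obtain ⟨c, hzc, hcO⟩ := hcharts O z hz
    exact ⟨B c, hcO, hzc, (hch c).2.2 _⟩

end main

end Groth.Agent.Lib.Conormal81
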