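import Groth.Agent.Lib.Conormal81C

/-!
# The second fundamental sequence `N_{X/Y} → j^*Ω_{Y/Z} → Ω_{X/Z} → 0` (helper81)

ring level `second_comp_eq_zero`, `second_exact_mid`, `second_surjective`; `exists_goodChart'`;
`chart_second`; `second_sequence_exact`.
-/

set_option autoImplicit false
set_option linter.style.haveILetI false
set_option linter.unusedSectionVars false
universe u

open CategoryTheory AlgebraicGeometry TopologicalSpace Opposite

namespace Groth.Agent.Lib.Conormal81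

open Groth.Agent.Lib.OmegaDer81 Groth.Agent.Lib.QCohStalk Groth.Agent.Lib.IdealMod
  Groth.Agent.Lib.UnitBaseChange Groth.Agent.Lib.H90OXModSections

section ringSecond

variable {C B A : Type*} [CommRing C] [CommRing B] [CommRing A] [Algebra C B] [Algebra B A]
  [Algebra C A] [IsScalarTower C B A]
  {MI MΩ N : Type*}
  [AddCommGroup MI] [Module A MI] [Module B MI] [IsScalarTower B A MI]
  [AddCommGroup MΩ] [Module A MΩ] [Module B MΩ] [IsScalarTower B A MΩ]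
  [AddCommGroup N] [Module A N]
  (uI : RingHom.ker (algebraMap B A) →ₗ[B] MI)
  (uΩ : Ω[B⁄C] →ₗ[B] MΩ)
  (ε : Ω[A⁄C] ≃ₗ[A] N)
  (φ : MI →ₗ[A] MΩ) (c : MΩ →ₗ[A] N)

/-- generation of `MΩ` by the `uΩ (D b)` -/
theorem induction_uΩ (hΩ : IsBaseChange A uΩ) (P : MΩ → Prop) (h0 : P 0)
    (hD : ∀ b : B, P (uΩ (KaehlerDifferential.D C B b)))
    (hadd : ∀ x y, P x → P y → P (x + y)) (hsmul : ∀ (a : A) x, P x → P (a • x)) (t : MΩ) : P t := by
  have hω : ∀ ω : Ω[B⁄C], P (uΩ ω) := by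
    intro ω
    have : ω ∈ Submodule.span B (Set.range (KaehlerDifferential.D C B)) := by
      rw [KaehlerDifferential.span_range_derivation]; trivial
    induction this using Submodule.span_induction with
    | mem x hx =>
      obtain ⟨b, rfl⟩ := hx
      exact hD b
    | zero => rw [map_zero]; exact h0
    | add x y _ _ hx hy => rw [map_add]; exact hadd _ _ hx hy
    | smul b x _ hx =>
      rw [map_smul, ← algebraMap_smul A b]
      exact hsmul _ _ hx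
  exact hΩ.inductionOn t P h0 hω (fun a n hn => hsmul a n hn) hadd

theorem second_comp_eq_zero (hI : IsBaseChange A uI)
    (hφ : ∀ x, φ (uI x) = uΩ (KaehlerDifferential.D C B x))
    (hc : ∀ b : B, c (uΩ (KaehlerDifferential.D C B b)) =
      ε (KaehlerDifferential.D C A (algebraMap B A b))) (m : MI) : c (φ m) = 0 := by
  refine hI.inductionOn m _ ?_ ?_ ?_ ?_
  · rw [map_zero, map_zero]
  · intro x
    rw [hφ, hc, x.2, map_zero, map_zero]
  · intro a n hn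
    rw [map_smul, map_smul, hn, smul_zero]
  · intro n₁ n₂ h₁ h₂
    rw [map_add, map_add, h₁, h₂, add_zero]

theorem second_surjective (hBA : Function.Surjective (algebraMap B A))
    (hc : ∀ b : B, c (uΩ (KaehlerDifferential.D C B b)) =
      ε (KaehlerDifferential.D C A (algebraMap B A b))) : Function.Surjective c := by
  intro n
  obtain ⟨ω, rfl⟩ := ε.surjective n
  have : ω ∈ Submodule.span A (Set.range (KaehlerDifferential.D C A)) := by
    rw [KaehlerDifferential.span_range_derivation]; trivial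
  induction this using Submodule.span_induction with
  | mem x hx =>
    obtain ⟨a, rfl⟩ := hx
    obtain ⟨b, rfl⟩ := hBA a
    exact ⟨_, hc b⟩
  | zero => exact ⟨0, by rw [map_zero, map_zero]⟩
  | add x y _ _ hx hy =>
    obtain ⟨x', hx'⟩ := hx
    obtain ⟨y', hy'⟩ := hy
    exact ⟨x' + y', by rw [map_add, map_add, hx', hy']⟩
  | smul a x _ hx =>
    obtain ⟨x', hx'⟩ := hx
    exact ⟨a • x', by rw [map_smul, map_smul, hx']⟩

theorem second_exact_mid (hBA : Function.Surjective (algebraMap B A)) (hΩ : IsBaseChange A uΩ)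
    (hφ : ∀ x, φ (uI x) = uΩ (KaehlerDifferential.D C B x))
    (hc : ∀ b : B, c (uΩ (KaehlerDifferential.D C B b)) =
      ε (KaehlerDifferential.D C A (algebraMap B A b))) (t : MΩ) (ht : c t = 0) :
    ∃ m, φ m = t := by
  let Q := MΩ ⧸ LinearMap.range φ
  let π : MΩ →ₗ[A] Q := (LinearMap.range φ).mkQ
  have hkill : ∀ b : B, algebraMap B A b = 0 → π (uΩ (KaehlerDifferential.D C B b)) = 0 := by
    intro b hb
    have : uΩ (KaehlerDifferential.D C B b) ∈ LinearMap.range φ := ⟨uI ⟨b, hb⟩, hφ ⟨b, hb⟩⟩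
    exact (Submodule.Quotient.mk_eq_zero _).mpr this
  choose bb hbb using hBA
  let δf : A → Q := fun a => π (uΩ (KaehlerDifferential.D C B (bb a)))
  have δ_eq : ∀ (a : A) (b : B), algebraMap B A b = a →
      δf a = π (uΩ (KaehlerDifferential.D C B b)) := by
    intro a b hb
    change π _ = π _
    rw [← sub_eq_zero, ← map_sub, ← map_sub, ← map_sub]
    apply hkill
    rw [map_sub, hbb, hb, sub_self]
  have hadd : ∀ a a' : A, δf (a + a') = δf a + δf a' := by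
    intro a a'
    rw [δ_eq (a + a') (bb a + bb a') (by rw [map_add, hbb, hbb])]
    change _ = π _ + π _
    rw [map_add, map_add, map_add]
  have hzero : δf 0 = 0 := by
    have := hadd 0 0
    rw [add_zero] at this
    exact left_eq_add.mp this
  let δ : A →+ Q := { toFun := δf, map_zero' := hzero, map_add' := hadd }
  have hδ : IsLeibniz δ := by
    intro a a'
    change δf (a * a') = a • δf a' + a' • δf a
    rw [δ_eq (a * a') (bb a * bb a') (by rw [map_mul, hbb, hbb])]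
    change _ = a • π _ + a' • π _
    have e1 : uΩ (KaehlerDifferential.D C B (bb a * bb a')) =
        a • uΩ (KaehlerDifferential.D C B (bb a')) + a' • uΩ (KaehlerDifferential.D C B (bb a)) := by
      rw [Derivation.leibniz, map_add, LinearMap.map_smul, LinearMap.map_smul]
      rw [← algebraMap_smul A (bb a) (uΩ _), ← algebraMap_smul A (bb a') (uΩ _), hbb, hbb]
    rw [e1, map_add, LinearMap.map_smul, LinearMap.map_smul]
  have hδ0 : ∀ c' : C, δ (algebraMap C A c') = 0 := by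
    intro c'
    change δf _ = 0
    rw [δ_eq (algebraMap C A c') (algebraMap C B c') (IsScalarTower.algebraMap_apply C B A c').symm,
      Derivation.map_algebraMap, map_zero, map_zero]
  obtain ⟨ℓ, hℓ, -⟩ := existsUnique_lift_kaehler (A := C) δ hδ hδ0
  let χ : N →ₗ[A] Q := ℓ ∘ₗ ε.symm.toLinearMap
  have hχ : ∀ s : MΩ, χ (c s) = π s := by
    intro s
    refine induction_uΩ uΩ hΩ (fun s => χ (c s) = π s) ?_ ?_ ?_ ?_ s
    · rw [map_zero, map_zero, map_zero]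
    · intro b
      rw [hc]
      change ℓ (ε.symm (ε _)) = _
      rw [LinearEquiv.symm_apply_apply, hℓ]
      exact δ_eq _ b rfl
    · intro x y hx hy
      rw [map_add, map_add, map_add, hx, hy]
    · intro a x hx
      rw [map_smul, map_smul, map_smul, hx]
  have h0 : π t = 0 := by rw [← hχ, ht, map_zero]
  exact (Submodule.Quotient.mk_eq_zero _).mp h0

end ringSecond


section charts'

variable {Z X : Scheme.{u}} (i : Z ⟶ X) [IsImmersion i]

theorem exists_goodChart' (z : Z) (O : Z.Opens) (O' : X.Opens) (hz : z ∈ O) (hz' : i z ∈ O') :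
    ∃ U : X.Opens, IsGoodChart i U ∧ z ∈ i ⁻¹ᵁ U ∧ i ⁻¹ᵁ U ≤ O ∧ U ≤ O' := by
  obtain ⟨t, ht, hte⟩ := i.isEmbedding.isInducing.isOpen_iff.mp O.2
  let O₁ : X.Opens := ⟨t, ht⟩
  have hz1 : i z ∈ O₁ ⊓ O' ⊓ i.coborderRange := by
    refine ⟨⟨?_, hz'⟩, ?_⟩
    · change z ∈ i ⁻¹' t
      rw [hte]; exact hz
    · exact subset_coborder ⟨z, rfl⟩
  obtain ⟨U, hU, hzU, hUle⟩ := Opens.isBasis_iff_nbhd.mp X.isBasis_affineOpens hz1
  refine ⟨U, ⟨hU, hUle.trans inf_le_right⟩, hzU, ?_, hUle.trans (inf_le_left.trans inf_le_right)⟩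
  intro y hy
  have : i y ∈ O₁ := (hUle hy).1.1
  have h2 : y ∈ i ⁻¹' t := this
  rw [hte] at h2
  exact h2

end charts'

section chartSecond

variable {X Y Z : Scheme.{u}} (f : Y ⟶ Z) (j : X ⟶ Y) [IsImmersion j] [QuasiCompact j]
  {ΩY : Y.Modules} (dY : OmegaSh.Der f ΩY) {ΩX : X.Modules} (dX : OmegaSh.Der (j ≫ f) ΩX)
  (φ : Omega.conormal j ⟶ (Scheme.Modules.pullback j).obj ΩY)
  (c : (Scheme.Modules.pullback j).obj ΩY ⟶ ΩX)

set_option backward.isDefEq.respectTransparency false in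
set_option maxHeartbeats 1600000 in
theorem chart_second (hY : OmegaSh.IsUniversal dY) (hX : OmegaSh.IsUniversal dX)
    (hφ : OmegaSh.IsConormalDiff j dY φ) (hc : OmegaSh.IsDiffCompat j dY dX c)
    {UY : Y.Opens} {VZ : Z.Opens} (hU : IsGoodChart j UY) (hV : IsAffineOpen VZ)
    (e : UY ≤ f ⁻¹ᵁ VZ) :
    (∀ m, c.app (j ⁻¹ᵁ UY) (φ.app (j ⁻¹ᵁ UY) m) = 0) ∧
    (∀ t, c.app (j ⁻¹ᵁ UY) t = 0 → ∃ m, φ.app (j ⁻¹ᵁ UY) m = t) ∧
    Function.Surjective (c.app (j ⁻¹ᵁ UY)) := by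
  have hWa : IsAffineOpen (j ⁻¹ᵁ UY) := hU.isAffineOpen_preimage
  have hW : j ⁻¹ᵁ UY = j ⁻¹ᵁ UY := rfl
  have e' : j ⁻¹ᵁ UY ≤ (j ≫ f) ⁻¹ᵁ VZ := j.preimage_mono e
  letI algCB : Algebra Γ(Z, VZ) Γ(Y, UY) := (f.appLE VZ UY e).hom.toAlgebra
  letI algBA : Algebra Γ(Y, UY) Γ(X, j ⁻¹ᵁ UY) := (j.appLE UY (j ⁻¹ᵁ UY) hW.ge).hom.toAlgebra
  letI algCA : Algebra Γ(Z, VZ) Γ(X, j ⁻¹ᵁ UY) :=
    ((j ≫ f).appLE VZ (j ⁻¹ᵁ UY) e').hom.toAlgebra
  haveI : IsScalarTower Γ(Z, VZ) Γ(Y, UY) Γ(X, j ⁻¹ᵁ UY) := by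
    apply IsScalarTower.of_algebraMap_eq'
    have := Scheme.Hom.appLE_comp_appLE j f VZ UY (j ⁻¹ᵁ UY) e hW.ge
    exact congrArg CommRingCat.Hom.hom this.symm
  letI : Module Γ(Y, UY) Γ((Scheme.Modules.pullback j).obj (ClSub.idealMod j.ker), j ⁻¹ᵁ UY) :=
    Module.compHom _ (j.appLE UY (j ⁻¹ᵁ UY) hW.ge).hom
  haveI : IsScalarTower Γ(Y, UY) Γ(X, j ⁻¹ᵁ UY)
      Γ((Scheme.Modules.pullback j).obj (ClSub.idealMod j.ker), j ⁻¹ᵁ UY) :=
    .of_algebraMap_smul fun _ _ => rfl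
  letI : Module Γ(Y, UY) Γ((Scheme.Modules.pullback j).obj ΩY, j ⁻¹ᵁ UY) :=
    Module.compHom _ (j.appLE UY (j ⁻¹ᵁ UY) hW.ge).hom
  haveI : IsScalarTower Γ(Y, UY) Γ(X, j ⁻¹ᵁ UY) Γ((Scheme.Modules.pullback j).obj ΩY, j ⁻¹ᵁ UY) :=
    .of_algebraMap_smul fun _ _ => rfl
  obtain ⟨uI, hI, huI⟩ := exists_uI j hU.1 hWa hW
  obtain ⟨uΩ, hΩ, huΩ⟩ := exists_uΩ j f dY hY hV hU.1 e hWa hW
  obtain ⟨ε, hε⟩ := exists_linearEquiv_sections (j ≫ f) dX hWa hV e' hX
  have hBA : Function.Surjective (algebraMap Γ(Y, UY) Γ(X, j ⁻¹ᵁ UY)) :=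
    appLE_surjective_of_eq j hU.app_surjective hW
  have hφ' : ∀ x : RingHom.ker (algebraMap Γ(Y, UY) Γ(X, j ⁻¹ᵁ UY)),
      (appLin φ (j ⁻¹ᵁ UY)) (uI x) = uΩ (KaehlerDifferential.D Γ(Z, VZ) Γ(Y, UY) x) := by
    intro x
    obtain ⟨s, hs⟩ : ∃ s : Γ(ClSub.idealMod j.ker, UY), idealFn j.ker UY s = x := by
      refine ⟨(Groth.Agent.Lib.H77OmegaSections.idealSectionsEquiv' j hU.1 hW).symm x, ?_⟩
      exact congrArg Subtype.val
        ((Groth.Agent.Lib.H77OmegaSections.idealSectionsEquiv' j hU.1 hW).apply_symm_apply x)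
    rw [huI s x hs.symm, huΩ, appLin_apply, unitSecFun_eq, unitSecFun_eq]
    have h2 := hom_app_res' φ hW.ge (OmegaSh.pullSect j (ClSub.idealMod j.ker) UY s)
    refine h2.trans ?_
    have h3 := hφ UY s
    rw [OmegaSh.conormalSect_eq] at h3
    have h4 : dY.app UY (OmegaSh.idealSect j.ker UY s) = dY.app UY x := by
      rw [idealSect_eq_idealFn, hs]
    exact congrArg (res ((Scheme.Modules.pullback j).obj ΩY) hW.ge) (h3.trans (congrArg _ h4))
  have hc' : ∀ b : Γ(Y, UY), (appLin c (j ⁻¹ᵁ UY)) (uΩ (KaehlerDifferential.D Γ(Z, VZ) Γ(Y, UY) b)) =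
      ε (KaehlerDifferential.D Γ(Z, VZ) Γ(X, j ⁻¹ᵁ UY) (algebraMap Γ(Y, UY) Γ(X, j ⁻¹ᵁ UY) b)) := by
    intro b
    rw [huΩ, hε, appLin_apply]
    exact c_unitSecFun j dY dX c hc hW.ge b
  refine ⟨?_, ?_, ?_⟩
  · intro m
    exact second_comp_eq_zero (C := Γ(Z, VZ)) (B := Γ(Y, UY)) (A := Γ(X, j ⁻¹ᵁ UY)) uI uΩ ε
      (appLin φ (j ⁻¹ᵁ UY)) (appLin c (j ⁻¹ᵁ UY)) hI hφ' hc' m
  · intro t ht
    exact second_exact_mid (C := Γ(Z, VZ)) (B := Γ(Y, UY)) (A := Γ(X, j ⁻¹ᵁ UY)) uI uΩ ε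
      (appLin φ (j ⁻¹ᵁ UY)) (appLin c (j ⁻¹ᵁ UY)) hBA hΩ hφ' hc' t ht
  · exact second_surjective (C := Γ(Z, VZ)) (B := Γ(Y, UY)) (A := Γ(X, j ⁻¹ᵁ UY)) uΩ ε
      (appLin c (j ⁻¹ᵁ UY)) hBA hc'

/-- **The second fundamental sequence `N_{X/Y} → j^*Ω_{Y/Z} → Ω_{X/Z} → 0` is exact.** -/
theorem second_sequence_exact (hY : OmegaSh.IsUniversal dY) (hX : OmegaSh.IsUniversal dX)
    (hφ : OmegaSh.IsConormalDiff j dY φ) (hc : OmegaSh.IsDiffCompat j dY dX c) :
    ∃ w : φ ≫ c = 0, (ShortComplex.mk φ c w).Exact ∧ Epi c := by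
  let ι := {p : Y.Opens × Z.Opens // IsGoodChart j p.1 ∧ IsAffineOpen p.2 ∧ p.1 ≤ f ⁻¹ᵁ p.2}
  let B : ι → X.Opens := fun p => j ⁻¹ᵁ p.1.1
  have hcharts : ∀ (O : X.Opens) (x : X), x ∈ O → ∃ p : ι, x ∈ B p ∧ B p ≤ O := by
    intro O x hx
    obtain ⟨V, hV, hxV, -⟩ := Opens.isBasis_iff_nbhd.mp Z.isBasis_affineOpens
      (show f (j x) ∈ (⊤ : Z.Opens) from trivial)
    obtain ⟨U, hU, hxU, hUO, hUV⟩ := exists_goodChart' j x O (f ⁻¹ᵁ V) hx hxV
    exact ⟨⟨(U, V), hU, hV, hUV⟩, hxU, hUO⟩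
  have hB : Opens.IsBasis (Set.range B) := by
    rw [Opens.isBasis_iff_nbhd]
    intro O x hx
    obtain ⟨p, hxp, hpO⟩ := hcharts O x hx
    exact ⟨B p, ⟨p, rfl⟩, hxp, hpO⟩
  have hch := fun p : ι => chart_second f j dY dX φ c hY hX hφ hc p.2.1 p.2.2.1 p.2.2.2
  have w : φ ≫ c = 0 := by
    apply Groth.Agent.Lib.ModHomBasis.hom_ext_of_basis hB
    intro p
    ext m
    exact (hch p).1 m
  refine ⟨w, ?_, ?_⟩
  · apply exact_of_locally
    intro O t ht x hx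
    obtain ⟨p, hxp, hpO⟩ := hcharts O x hx
    refine ⟨B p, hpO, hxp, ?_⟩
    apply (hch p).2.1
    have := hom_app_res' c hpO t
    change c.app (B p) (res ((Scheme.Modules.pullback j).obj ΩY) hpO t) = 0
    rw [this]
    rw [ht]
    exact res_zero _ hpO
  · apply epi_of_locally_surjective'
    intro O t x hx
    obtain ⟨p, hxp, hpO⟩ := hcharts O x hx
    exact ⟨B p, hpO, hxp, (hch p).2.2 _⟩

end chartSecond

end Groth.Agent.Lib.Conormal81
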