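import Groth.Agent.Lib.Conormal81D

/-!
# The first fundamental sequence `f^*Ω_{Y/Z} → Ω_{X/Z} → Ω_{X/Y} → 0` (helper81)

`pullbackId_hom_app_pullSect`, `pullbackId_inv_app` (the iso `𝟙^* M ≅ M` on sections is the unit),
`chart_first`, `first_sequence_exact`.
-/

set_option autoImplicit false
set_option linter.style.haveILetI false
set_option linter.unusedSectionVars false
universe u

open CategoryTheory AlgebraicGeometry TopologicalSpace Opposite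

namespace Groth.Agent.Lib.Conormal81

open Groth.Agent.Lib.OmegaDer81 Groth.Agent.Lib.QCohStalk Groth.Agent.Lib.IdealMod
  Groth.Agent.Lib.UnitBaseChange Groth.Agent.Lib.H90OXModSections

section pullbackId

variable {X : Scheme.{u}} (M : X.Modules)

set_option backward.isDefEq.respectTransparency false in
theorem pullbackId_hom_app_pullSect (U : X.Opens) (m : Γ(M, U)) :
    ((Scheme.Modules.pullbackId X).hom.app M).app U (OmegaSh.pullSect (𝟙 X) M U m) = m := by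
  have h := congrArg (fun α => α.app M) (Scheme.Modules.conjugateEquiv_pullbackId_hom X)
  simp only [conjugateEquiv_apply_app] at h
  have h2 := congrArg (fun β => (Scheme.Modules.Hom.app β U) m) h
  simp at h2
  exact h2


theorem pullbackId_inv_app (U : X.Opens) (m : Γ(M, U)) :
    ((Scheme.Modules.pullbackId X).inv.app M).app U m = OmegaSh.pullSect (𝟙 X) M U m := by
  have h1 := pullbackId_hom_app_pullSect M U m
  have h2 := congrArg (((Scheme.Modules.pullbackId X).inv.app M).app U) h1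
  rw [← h2]
  have h3 : (Scheme.Modules.pullbackId X).hom.app M ≫ (Scheme.Modules.pullbackId X).inv.app M = 𝟙 _ :=
    (Scheme.Modules.pullbackId X).hom_inv_id_app M
  have h4 := congrArg (fun β => (Scheme.Modules.Hom.app β U) (OmegaSh.pullSect (𝟙 X) M U m)) h3
  exact h4

end pullbackId


section first

variable {X Y Z : Scheme.{u}} (f : X ⟶ Y) (g : Y ⟶ Z)
  {ΩY : Y.Modules} (dY : OmegaSh.Der g ΩY) {ΩX : X.Modules} (dX : OmegaSh.Der (f ≫ g) ΩX)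
  {ΩXY : X.Modules} (dXY : OmegaSh.Der f ΩXY)
  (c₁ : (Scheme.Modules.pullback f).obj ΩY ⟶ ΩX) (c₂' : ΩX ⟶ ΩXY)

set_option backward.isDefEq.respectTransparency false in
set_option maxHeartbeats 1600000 in
theorem chart_first (hY : OmegaSh.IsUniversal dY) (hX : OmegaSh.IsUniversal dX)
    (hXY : OmegaSh.IsUniversal dXY) (hc₁ : OmegaSh.IsDiffCompat f dY dX c₁)
    (hc₂' : ∀ (U : X.Opens) (s : Γ(X, U)), c₂'.app U (dX.app U s) = dXY.app U s)
    {UX : X.Opens} {UY : Y.Opens} {UZ : Z.Opens} (hUX : IsAffineOpen UX) (hUY : IsAffineOpen UY)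
    (hUZ : IsAffineOpen UZ) (e1 : UX ≤ f ⁻¹ᵁ UY) (e2 : UY ≤ g ⁻¹ᵁ UZ) :
    (∀ m, c₂'.app UX (c₁.app UX m) = 0) ∧
    (∀ t, c₂'.app UX t = 0 → ∃ m, c₁.app UX m = t) ∧
    Function.Surjective (c₂'.app UX) := by
  have e3 : UX ≤ (f ≫ g) ⁻¹ᵁ UZ := e1.trans (f.preimage_mono e2)
  letI algCB : Algebra Γ(Z, UZ) Γ(Y, UY) := (g.appLE UZ UY e2).hom.toAlgebra
  letI algCA : Algebra Γ(Z, UZ) Γ(X, UX) := ((f ≫ g).appLE UZ UX e3).hom.toAlgebra
  letI algBA : Algebra Γ(Y, UY) Γ(X, UX) := (f.appLE UY UX e1).hom.toAlgebra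
  haveI : IsScalarTower Γ(Z, UZ) Γ(Y, UY) Γ(X, UX) := by
    apply IsScalarTower.of_algebraMap_eq'
    have := Scheme.Hom.appLE_comp_appLE f g UZ UY UX e2 e1
    exact congrArg CommRingCat.Hom.hom this.symm
  obtain ⟨κ, τ, ε', hκ, hε', hc⟩ :=
    exists_chart_description f dY hY dX hX c₁ hc₁ hUY hUZ hUX hUZ e2 e3 e1
  obtain ⟨ε'', hε''⟩ := exists_linearEquiv_sections f dXY hUX hUY e1 hXY
  have hlift := lift_eq_mapBaseChange κ hκ
  have hc2 : ∀ ω : Ω[Γ(X, UX)⁄Γ(Z, UZ)], c₂'.app UX (ε' ω) =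
      ε'' (KaehlerDifferential.map Γ(Z, UZ) Γ(Y, UY) Γ(X, UX) Γ(X, UX) ω) := by
    intro ω
    have := linearMap_ext_D (A := Γ(Z, UZ)) (B := Γ(X, UX))
      ((appLin c₂' UX) ∘ₗ ε'.toLinearMap)
      (ε''.toLinearMap ∘ₗ (KaehlerDifferential.map Γ(Z, UZ) Γ(Y, UY) Γ(X, UX) Γ(X, UX))) (by
        intro s
        change c₂'.app UX (ε' _) = ε'' (KaehlerDifferential.map _ _ _ _ _)
        rw [hε', hc₂', KaehlerDifferential.map_D, hε'']
        rfl)
    exact LinearMap.congr_fun this ω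
  have hex := KaehlerDifferential.exact_mapBaseChange_map Γ(Z, UZ) Γ(Y, UY) Γ(X, UX)
  refine ⟨?_, ?_, ?_⟩
  · intro m
    rw [hc m, hc2, hlift, hex.apply_apply_eq_zero, map_zero]
  · intro t ht
    obtain ⟨ω, rfl⟩ := ε'.surjective t
    rw [hc2] at ht
    have h0 : KaehlerDifferential.map Γ(Z, UZ) Γ(Y, UY) Γ(X, UX) Γ(X, UX) ω = 0 :=
      ε''.injective (by rw [ht, map_zero])
    obtain ⟨z, hz⟩ := (hex ω).mp h0
    refine ⟨τ.symm z, ?_⟩
    rw [hc, LinearEquiv.apply_symm_apply, hlift, hz]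
  · intro n
    obtain ⟨ω', rfl⟩ := ε''.surjective n
    obtain ⟨ω, rfl⟩ := KaehlerDifferential.map_surjective Γ(Z, UZ) Γ(Y, UY) Γ(X, UX) ω'
    exact ⟨ε' ω, hc2 ω⟩

/-- **The first fundamental sequence `f^*Ω_{Y/Z} → Ω_{X/Z} → Ω_{X/Y} → 0` is exact.** -/
theorem first_sequence_exact (hY : OmegaSh.IsUniversal dY) (hX : OmegaSh.IsUniversal dX)
    (hXY : OmegaSh.IsUniversal dXY) (hc₁ : OmegaSh.IsDiffCompat f dY dX c₁)
    (hc₂' : ∀ (U : X.Opens) (s : Γ(X, U)), c₂'.app U (dX.app U s) = dXY.app U s) :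
    ∃ w : c₁ ≫ c₂' = 0, (ShortComplex.mk c₁ c₂' w).Exact ∧ Epi c₂' := by
  let ι := {p : X.Opens × Y.Opens × Z.Opens // IsAffineOpen p.1 ∧ IsAffineOpen p.2.1 ∧
    IsAffineOpen p.2.2 ∧ p.1 ≤ f ⁻¹ᵁ p.2.1 ∧ p.2.1 ≤ g ⁻¹ᵁ p.2.2}
  let B : ι → X.Opens := fun p => p.1.1
  have hcharts : ∀ (O : X.Opens) (x : X), x ∈ O → ∃ p : ι, x ∈ B p ∧ B p ≤ O := by
    intro O x hx
    obtain ⟨UZ, hUZ, hxZ, -⟩ := Opens.isBasis_iff_nbhd.mp Z.isBasis_affineOpens
      (show g (f x) ∈ (⊤ : Z.Opens) from trivial)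
    obtain ⟨UY, hUY, hxY, hYZ⟩ := Opens.isBasis_iff_nbhd.mp Y.isBasis_affineOpens
      (show f x ∈ g ⁻¹ᵁ UZ from hxZ)
    obtain ⟨UX, hUX, hxX, hXle⟩ := Opens.isBasis_iff_nbhd.mp X.isBasis_affineOpens
      (show x ∈ O ⊓ f ⁻¹ᵁ UY from ⟨hx, hxY⟩)
    exact ⟨⟨(UX, UY, UZ), hUX, hUY, hUZ, hXle.trans inf_le_right, hYZ⟩, hxX,
      hXle.trans inf_le_left⟩
  have hB : Opens.IsBasis (Set.range B) := by
    rw [Opens.isBasis_iff_nbhd]
    intro O x hx
    obtain ⟨p, hxp, hpO⟩ := hcharts O x hx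
    exact ⟨B p, ⟨p, rfl⟩, hxp, hpO⟩
  have hch := fun p : ι => chart_first f g dY dX dXY c₁ c₂' hY hX hXY hc₁ hc₂'
    p.2.1 p.2.2.1 p.2.2.2.1 p.2.2.2.2.1 p.2.2.2.2.2
  have w : c₁ ≫ c₂' = 0 := by
    apply Groth.Agent.Lib.ModHomBasis.hom_ext_of_basis hB
    intro p
    ext m
    exact (hch p).1 m
  refine ⟨w, ?_, ?_⟩
  · apply exact_of_locally
    intro O t ht x hx
    obtain ⟨p, hxp, hpO⟩ := hcharts O x hx
    refine ⟨B p, hpO, hxp, ?_⟩
    apply (hch p).2.1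
    have := hom_app_res' c₂' hpO t
    change c₂'.app (B p) (res ΩX hpO t) = 0
    rw [this, ht]
    exact res_zero _ hpO
  · apply epi_of_locally_surjective'
    intro O t x hx
    obtain ⟨p, hxp, hpO⟩ := hcharts O x hx
    exact ⟨B p, hpO, hxp, (hch p).2.2 _⟩

end first

end Groth.Agent.Lib.Conormal81
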