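/-
helper81: Gr_n base change, general criterion (`chart_gr'`: on a product chart, phi is bijective as soon as
the ideal of f' is the base change of the ideal of f), ring-level `isBaseChange_idealMapLin_of_injective`,
`isBaseChange_idealMapLin_of_section` (ideal of a retraction B → A base-changes along any A → A'), `gr_bijective'`.
-/
import Groth.Agent.Lib.GrMod81C

set_option autoImplicit false
set_option linter.style.haveILetI false
set_option linter.unusedSectionVars false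
universe u

open CategoryTheory CategoryTheory.Limits AlgebraicGeometry TopologicalSpace Opposite TensorProduct

namespace Groth.Agent.Lib.GrMod81

open Groth.Agent.Lib.OmegaDer81 Groth.Agent.Lib.QCohStalk Groth.Agent.Lib.IdealMod
  Groth.Agent.Lib.UnitBaseChange Groth.Agent.Lib.Conormal81 Groth.Agent.Lib.H90OXModSections

section inj

variable {B B' : Type*} [CommRing B] [CommRing B'] [Algebra B B']

theorem isBaseChange_idealMapLin_of_injective (J : Ideal B) (J' : Ideal B')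
    (h : J' = J.map (algebraMap B B'))
    (hinj : Function.Injective ((idealMapLin J J' h.ge).liftBaseChange B')) :
    IsBaseChange B' (idealMapLin J J' h.ge) := by
  let L : B' ⊗[B] J →ₗ[B'] J' := (idealMapLin J J' h.ge).liftBaseChange B'
  have hL : ∀ (b' : B') (x : J), L (b' ⊗ₜ x) = b' • idealMapLin J J' h.ge x := fun b' x =>
    LinearMap.liftBaseChange_tmul _ _ _ _
  have hsurj : Function.Surjective L := by
    rintro ⟨y, hy⟩
    have hy' : y ∈ Ideal.span (algebraMap B B' '' (J : Set B)) := by rw [h] at hy; exact hy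
    have : ∀ (y : B') (hy' : y ∈ Ideal.span (algebraMap B B' '' (J : Set B))),
        ∃ t, ((L t : J') : B') = y := by
      intro y hy'
      induction hy' using Submodule.span_induction with
      | mem y hy =>
        obtain ⟨x, hx, rfl⟩ := hy
        exact ⟨1 ⊗ₜ ⟨x, hx⟩, by rw [hL]; simp⟩
      | zero => exact ⟨0, by simp⟩
      | add a b _ _ ha hb =>
        obtain ⟨ta, hta⟩ := ha
        obtain ⟨tb, htb⟩ := hb
        exact ⟨ta + tb, by simp [map_add, hta, htb]⟩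
      | smul r a _ ha =>
        obtain ⟨ta, hta⟩ := ha
        exact ⟨r • ta, by simp [hta]⟩
    obtain ⟨t, ht⟩ := this y hy'
    exact ⟨t, Subtype.ext ht⟩
  exact IsBaseChange.of_equiv (LinearEquiv.ofBijective L ⟨hinj, hsurj⟩) (fun x => by
    change L (1 ⊗ₜ x) = _
    rw [hL, one_smul])

end inj

section sect

variable {A B A' B' : Type*} [CommRing A] [CommRing B] [CommRing A'] [CommRing B']
  [Algebra A B] [Algebra A A'] [Algebra A' B'] [Algebra B B'] [Algebra A B']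
  [IsScalarTower A B B'] [IsScalarTower A A' B'] [Algebra.IsPushout A A' B B']
  (ρ : B →+* A) (hρ : ∀ a, ρ (algebraMap A B a) = a)
  (J' : Ideal B')

/-- the `A`-linear retraction `B → ker ρ`, `b ↦ b - ρ b` -/
def retr : B →ₗ[A] RingHom.ker ρ where
  toFun b := ⟨b - algebraMap A B (ρ b), by rw [RingHom.mem_ker, map_sub, hρ, sub_self]⟩
  map_add' x y := by ext; simp only [map_add, Submodule.coe_add]; ring
  map_smul' a b := by
    ext
    simp only [Algebra.smul_def, map_mul, hρ, RingHom.id_apply, Submodule.coe_smul_of_tower]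
    ring

theorem retr_coe (b : B) : (retr ρ hρ b : B) = b - algebraMap A B (ρ b) := rfl

theorem retr_of_mem (x : RingHom.ker ρ) : retr ρ hρ x = x := by
  ext
  rw [retr_coe, (RingHom.mem_ker).mp x.2, map_zero, sub_zero]

omit [Algebra A A'] [Algebra A' B'] [IsScalarTower A A' B'] [Algebra.IsPushout A A' B B'] in
theorem isBaseChange_idealMapLin_of_section [Algebra A A'] [Algebra A' B'] [IsScalarTower A A' B']
    [Algebra.IsPushout A A' B B'] (hρ : ∀ a, ρ (algebraMap A B a) = a)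
    (hJ : J' = (RingHom.ker ρ).map (algebraMap B B')) :
    IsBaseChange B' (idealMapLin (RingHom.ker ρ) J' hJ.ge) := by
  apply isBaseChange_idealMapLin_of_injective _ _ hJ
  set L : B' ⊗[B] RingHom.ker ρ →ₗ[B'] J' :=
    (idealMapLin (RingHom.ker ρ) J' hJ.ge).liftBaseChange B' with hLdef
  have hL : ∀ (b' : B') (x : RingHom.ker ρ), ((L (b' ⊗ₜ x) : J') : B') = b' * algebraMap B B' x := by
    intro b' x
    rw [hLdef, LinearMap.liftBaseChange_tmul]
    rfl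
  have out : IsBaseChange A' (IsScalarTower.toAlgHom A B B').toLinearMap := Algebra.IsPushout.out
  let R₀ : B →ₗ[A] B' ⊗[B] RingHom.ker ρ :=
    { toFun := fun b => (1 : B') ⊗ₜ retr ρ hρ b
      map_add' := fun x y => by rw [map_add, tmul_add]
      map_smul' := fun a b => by rw [map_smul, RingHom.id_apply, tmul_smul] }
  let R' : B' →ₗ[A'] B' ⊗[B] RingHom.ker ρ := out.lift R₀
  have hR' : ∀ b : B, R' (algebraMap B B' b) = (1 : B') ⊗ₜ retr ρ hρ b := fun b => out.lift_eq R₀ b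
  have key : ∀ (b' : B') (x : RingHom.ker ρ), R' (b' * algebraMap B B' x) = b' ⊗ₜ x := by
    intro b' x
    induction b' using out.inductionOn with
    | zero => rw [zero_mul, map_zero, zero_tmul]
    | tmul b =>
      change R' (algebraMap B B' b * algebraMap B B' x) = algebraMap B B' b ⊗ₜ x
      rw [← map_mul, hR']
      have h1 : retr ρ hρ (b * x) = b • x := by
        have hmem : b * (x : B) ∈ RingHom.ker ρ := Ideal.mul_mem_left _ _ x.2
        have := retr_of_mem ρ hρ ⟨b * x, hmem⟩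
        rw [this]
        rfl
      rw [h1, ← smul_tmul, Algebra.smul_def, mul_one]
    | smul a' b' hb' =>
      rw [smul_mul_assoc, map_smul, hb', smul_tmul']
    | add b₁ b₂ h₁ h₂ =>
      rw [add_mul, map_add, h₁, h₂, add_tmul]
  have hleft : ∀ t : B' ⊗[B] RingHom.ker ρ, R' ((L t : J') : B') = t := by
    intro t
    induction t using TensorProduct.induction_on with
    | zero => simp
    | tmul b' x => rw [hL, key]
    | add t₁ t₂ h₁ h₂ => rw [map_add, Submodule.coe_add, map_add, h₁, h₂]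
  intro t₁ t₂ h
  rw [← hleft t₁, ← hleft t₂, h]

end sect

section gr'

variable {B A B' A' : Type*} [CommRing B] [CommRing A] [CommRing B'] [CommRing A']
  [Algebra B A] [Algebra B B'] [Algebra A A'] [Algebra B' A'] [Algebra B A']
  [IsScalarTower B A A'] [IsScalarTower B B' A']
  (J : Ideal B) (J' : Ideal B') (hJ : J' = J.map (algebraMap B B'))
  {M₁ M₁' M₂ : Type*}
  [AddCommGroup M₁] [Module B M₁] [Module A M₁] [IsScalarTower B A M₁]
  [AddCommGroup M₁'] [Module B M₁'] [Module A M₁'] [Module A' M₁'] [IsScalarTower A A' M₁']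
  [IsScalarTower B A M₁'] [IsScalarTower B A' M₁']
  [AddCommGroup M₂] [Module B M₂] [Module B' M₂] [Module A' M₂] [IsScalarTower B' A' M₂]
  [IsScalarTower B B' M₂] [IsScalarTower B A' M₂]
  (θ₁ : J →ₗ[B] M₁) (h₁ : IsBaseChange A θ₁) (θ₁' : M₁ →ₗ[A] M₁') (h₁' : IsBaseChange A' θ₁')
  (θ₂ : J' →ₗ[B'] M₂) (h₂ : IsBaseChange A' θ₂)
  (φ : M₁' →ₗ[A'] M₂) (hφ : ∀ x : J, φ (θ₁' (θ₁ x)) = θ₂ (idealMapLin J J' hJ.ge x))

include h₁ h₁' h₂ hφ in
theorem gr_bijective' (hψ : IsBaseChange B' (idealMapLin J J' hJ.ge)) : Function.Bijective φ := by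
  have hα : IsBaseChange A' ((θ₁'.restrictScalars B).comp θ₁) := h₁.comp h₁'
  have hβ : IsBaseChange A' ((θ₂.restrictScalars B).comp (idealMapLin J J' hJ.ge)) := hψ.comp h₂
  exact bijective_of_isBaseChange_comm _ hα _ hβ φ hφ

end gr'

section chart

variable {Y X Y' X' : Scheme.{u}} (f : Y ⟶ X) (v : X' ⟶ X) (u : Y' ⟶ Y) (f' : Y' ⟶ X')
  (hsq : IsPullback u f' f v) [QuasiCompact f] [QuasiCompact f'] (n : ℕ)
  (φ : (Scheme.Modules.pullback u).obj (PrinPart.grMod f n) ⟶ PrinPart.grMod f' n)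
  (hφ : PrinPart.IsGrMap f' f v u n φ)

include hsq in
theorem preimage_le' {U : X.Opens} {U' : X'.Opens} (hle : U' ≤ v ⁻¹ᵁ U) :
    f' ⁻¹ᵁ U' ≤ u ⁻¹ᵁ (f ⁻¹ᵁ U) := by
  rw [← Scheme.Hom.comp_preimage, hsq.w, Scheme.Hom.comp_preimage]
  exact f'.preimage_mono hle

include hsq hφ in
set_option backward.isDefEq.respectTransparency false in
set_option maxHeartbeats 1600000 in
theorem chart_gr' {U : X.Opens} {U' : X'.Opens}
    (hU : IsAffineOpen U) (hU' : IsAffineOpen U') (hle : U' ≤ v ⁻¹ᵁ U)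
    (hWa : IsAffineOpen (f ⁻¹ᵁ U))
    (hfs : Function.Surjective (f.app U).hom)
    (hψ : letI := (v.appLE U U' hle).hom.toAlgebra;
      ∀ hJ : (f'.ker ^ n).ideal ⟨U', hU'⟩ =
          ((f.ker ^ n).ideal ⟨U, hU⟩).map (algebraMap Γ(X, U) Γ(X', U')),
        IsBaseChange Γ(X', U') (idealMapLin ((f.ker ^ n).ideal ⟨U, hU⟩)
          ((f'.ker ^ n).ideal ⟨U', hU'⟩) hJ.ge)) :
    Function.Bijective (φ.app (u ⁻¹ᵁ (f ⁻¹ᵁ U) ⊓ f' ⁻¹ᵁ U')) := by
  have hW'a : IsAffineOpen (u ⁻¹ᵁ (f ⁻¹ᵁ U) ⊓ f' ⁻¹ᵁ U') :=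
    isAffineOpen_pullbackChart f v u f' hsq hU hU' hWa hle le_rfl
  have hW' : f' ⁻¹ᵁ U' = u ⁻¹ᵁ (f ⁻¹ᵁ U) ⊓ f' ⁻¹ᵁ U' :=
    (inf_eq_right.mpr (preimage_le' f v u f' hsq hle)).symm
  generalize hW'def : u ⁻¹ᵁ (f ⁻¹ᵁ U) ⊓ f' ⁻¹ᵁ U' = W' at hW' hW'a ⊢
  have hW'W : W' ≤ u ⁻¹ᵁ (f ⁻¹ᵁ U) := hW'def ▸ inf_le_left
  have hWf : f ⁻¹ᵁ U ≤ f ⁻¹ᵁ U := le_rfl
  -- algebra structures
  letI algBA : Algebra Γ(X, U) Γ(Y, f ⁻¹ᵁ U) := (f.appLE U (f ⁻¹ᵁ U) hWf).hom.toAlgebra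
  letI algBB' : Algebra Γ(X, U) Γ(X', U') := (v.appLE U U' hle).hom.toAlgebra
  letI algAA' : Algebra Γ(Y, f ⁻¹ᵁ U) Γ(Y', W') := (u.appLE (f ⁻¹ᵁ U) W' hW'W).hom.toAlgebra
  letI algB'A' : Algebra Γ(X', U') Γ(Y', W') := (f'.appLE U' W' hW'.ge).hom.toAlgebra
  letI algBA' : Algebra Γ(X, U) Γ(Y', W') :=
    ((algebraMap Γ(X', U') Γ(Y', W')).comp (algebraMap Γ(X, U) Γ(X', U'))).toAlgebra
  haveI towerB' : IsScalarTower Γ(X, U) Γ(X', U') Γ(Y', W') := .of_algebraMap_eq' rfl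
  haveI towerA : IsScalarTower Γ(X, U) Γ(Y, f ⁻¹ᵁ U) Γ(Y', W') := by
    apply IsScalarTower.of_algebraMap_eq'
    have h1 := Scheme.Hom.appLE_comp_appLE u f U (f ⁻¹ᵁ U) W' hWf hW'W
    have h2 := Scheme.Hom.appLE_comp_appLE f' v U U' W' hle hW'.ge
    have h3 : (u ≫ f).appLE U W' (by rw [Scheme.Hom.comp_preimage]; exact hW'W) =
        (f' ≫ v).appLE U W' (by rw [Scheme.Hom.comp_preimage]; exact hW'.ge.trans (f'.preimage_mono hle)) := by
      congr 1
      exact hsq.w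
    change ((f'.appLE U' W' hW'.ge).hom.comp (v.appLE U U' hle).hom) =
      ((u.appLE (f ⁻¹ᵁ U) W' hW'W).hom.comp (f.appLE U (f ⁻¹ᵁ U) hWf).hom)
    rw [← CommRingCat.hom_comp, ← CommRingCat.hom_comp, h1, h2, h3]
  haveI hPO : Algebra.IsPushout Γ(X, U) Γ(Y, f ⁻¹ᵁ U) Γ(X', U') Γ(Y', W') := by
    subst hW'def
    have hpo := isPushout_pullbackChart f v u f' hsq hU hU' hWa hle hWf
    exact CommRingCat.isPushout_iff_isPushout.mp hpo
  -- the modules
  let G : Y.Modules := (Scheme.Modules.pullback f).obj (ClSub.idealMod (f.ker ^ n))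
  let G' : Y'.Modules := (Scheme.Modules.pullback f').obj (ClSub.idealMod (f'.ker ^ n))
  let φ' : (Scheme.Modules.pullback u).obj G ⟶ G' := φ
  haveI : (ClSub.idealMod (f.ker ^ n)).IsQuasicoherent :=
    Groth.Agent.Lib.H77QCohKernel.isQuasicoherent_idealMod _
  haveI : G.IsQuasicoherent := inferInstance
  letI modBM₁ : Module Γ(X, U) Γ(G, f ⁻¹ᵁ U) := Module.compHom _ (f.appLE U (f ⁻¹ᵁ U) hWf).hom
  haveI : IsScalarTower Γ(X, U) Γ(Y, f ⁻¹ᵁ U) Γ(G, f ⁻¹ᵁ U) := .of_algebraMap_smul fun _ _ => rfl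
  letI modAM₁' : Module Γ(Y, f ⁻¹ᵁ U) Γ((Scheme.Modules.pullback u).obj G, W') :=
    Module.compHom _ (u.appLE (f ⁻¹ᵁ U) W' hW'W).hom
  haveI : IsScalarTower Γ(Y, f ⁻¹ᵁ U) Γ(Y', W') Γ((Scheme.Modules.pullback u).obj G, W') :=
    .of_algebraMap_smul fun _ _ => rfl
  letI modBM₁' : Module Γ(X, U) Γ((Scheme.Modules.pullback u).obj G, W') :=
    Module.compHom _ (algebraMap Γ(X, U) Γ(Y', W'))
  haveI : IsScalarTower Γ(X, U) Γ(Y', W') Γ((Scheme.Modules.pullback u).obj G, W') :=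
    .of_algebraMap_smul fun _ _ => rfl
  haveI : IsScalarTower Γ(X, U) Γ(Y, f ⁻¹ᵁ U) Γ((Scheme.Modules.pullback u).obj G, W') := by
    apply IsScalarTower.of_algebraMap_smul
    intro b m
    change algebraMap Γ(Y, f ⁻¹ᵁ U) Γ(Y', W') (algebraMap Γ(X, U) Γ(Y, f ⁻¹ᵁ U) b) • m =
      algebraMap Γ(X, U) Γ(Y', W') b • m
    rw [← IsScalarTower.algebraMap_apply]
  letI modB'M₂ : Module Γ(X', U') Γ(G', W') := Module.compHom _ (f'.appLE U' W' hW'.ge).hom
  haveI : IsScalarTower Γ(X', U') Γ(Y', W') Γ(G', W') := .of_algebraMap_smul fun _ _ => rfl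
  letI modBM₂ : Module Γ(X, U) Γ(G', W') := Module.compHom _ (algebraMap Γ(X, U) Γ(Y', W'))
  haveI : IsScalarTower Γ(X, U) Γ(Y', W') Γ(G', W') := .of_algebraMap_smul fun _ _ => rfl
  haveI : IsScalarTower Γ(X, U) Γ(X', U') Γ(G', W') := .of_algebraMap_smul fun _ _ => rfl
  obtain ⟨θ₁, h₁, hθ₁⟩ := exists_uI' f (f.ker ^ n) hU hWa hWf
  obtain ⟨θ₂, h₂, hθ₂⟩ := exists_uI' f' (f'.ker ^ n) hU' hW'a hW'.ge
  have h₁' := isBaseChange_unitSec u G hW'a hWa hW'W
  have hBA : Function.Surjective (algebraMap Γ(X, U) Γ(Y, f ⁻¹ᵁ U)) :=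
    appLE_surjective_of_eq f hfs rfl
  -- ideals
  have hI : f.ker.ideal ⟨U, hU⟩ = RingHom.ker (algebraMap Γ(X, U) Γ(Y, f ⁻¹ᵁ U)) := by
    rw [Scheme.Hom.ker_apply]
    exact (Groth.Agent.Lib.H77OmegaSections.ker_appLE_eq f rfl).symm
  have hI' : f'.ker.ideal ⟨U', hU'⟩ = RingHom.ker (algebraMap Γ(X', U') Γ(Y', W')) := by
    rw [Scheme.Hom.ker_apply]
    exact (Groth.Agent.Lib.H77OmegaSections.ker_appLE_eq f' hW').symm
  have hker := Groth.Agent.Lib.H72RelFP.ker_of_isPushout (P := Γ(X, U)) (B := Γ(Y, f ⁻¹ᵁ U))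
    (P' := Γ(X', U')) (B' := Γ(Y', W')) hBA
  have hJ : (f'.ker ^ n).ideal ⟨U', hU'⟩ =
      ((f.ker ^ n).ideal ⟨U, hU⟩).map (algebraMap Γ(X, U) Γ(X', U')) := by
    change (f'.ker.ideal ⟨U', hU'⟩) ^ n = ((f.ker.ideal ⟨U, hU⟩) ^ n).map _
    rw [Ideal.map_pow, hI, hI', hker]
  -- compatibility
  have hcompat : ∀ x : (f.ker ^ n).ideal ⟨U, hU⟩,
      (appLin φ' W') (unitSec u G hW'W (θ₁ x)) =
        θ₂ (idealMapLin ((f.ker ^ n).ideal ⟨U, hU⟩) ((f'.ker ^ n).ideal ⟨U', hU'⟩) hJ.ge x) := by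
    intro x
    obtain ⟨s', hs'⟩ : ∃ s' : Γ(ClSub.idealMod (f.ker ^ n), U),
        idealFn (f.ker ^ n) U s' = x :=
      ⟨(idealEquiv (f.ker ^ n) hU).symm x,
        congrArg Subtype.val ((idealEquiv (f.ker ^ n) hU).apply_symm_apply x)⟩
    obtain ⟨s, hs⟩ : ∃ s : Γ(ClSub.idealMod (f'.ker ^ n), v ⁻¹ᵁ U),
        idealFn (f'.ker ^ n) (v ⁻¹ᵁ U) s = (v.app U).hom x := by
      apply exists_idealFn_eq_of_locally_mem
      intro U'' hU'' hU''le
      exact map_ker_pow_le f v u f' hsq.w n hU hU'' hU''le x x.2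
    have hss : OmegaSh.idealSect (f'.ker ^ n) (v ⁻¹ᵁ U) s =
        v.app U (OmegaSh.idealSect (f.ker ^ n) U s') := by
      rw [idealSect_eq_idealFn, idealSect_eq_idealFn, hs, hs']
    have h₂' : W' ≤ f' ⁻¹ᵁ (v ⁻¹ᵁ U) := hW'.ge.trans (f'.preimage_mono hle)
    have key := hφ.2 U s' s hss W' hW'W h₂'
    have hL : (appLin φ' W') (unitSec u G hW'W (θ₁ x)) =
        (PrinPart.grMod f' n).presheaf.map (homOfLE hW'W).op
          (φ.app (u ⁻¹ᵁ (f ⁻¹ᵁ U))
            (OmegaSh.pullSect u (PrinPart.grMod f n) (f ⁻¹ᵁ U) (PrinPart.grSect f n U s'))) := by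
      rw [hθ₁ s' x hs'.symm, appLin_apply]
      have e1 : unitSecFun f (ClSub.idealMod (f.ker ^ n)) hWf s' = PrinPart.grSect f n U s' := by
        rw [unitSecFun_eq]
        exact res_self _ _
      rw [e1]
      exact hom_app_res' φ' hW'W _
    rw [hL, key]
    have hx' : ((idealMapLin ((f.ker ^ n).ideal ⟨U, hU⟩) ((f'.ker ^ n).ideal ⟨U', hU'⟩) hJ.ge x :
        (f'.ker ^ n).ideal ⟨U', hU'⟩) : Γ(X', U')) =
        idealFn (f'.ker ^ n) U' (res (ClSub.idealMod (f'.ker ^ n)) hle s) := by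
      rw [idealMapLin_coe]
      have := idealFn_map (f'.ker ^ n) hle s
      rw [hs] at this
      exact this.symm
    rw [hθ₂ _ _ hx', unitSecFun_res]
    rfl
  exact gr_bijective' ((f.ker ^ n).ideal ⟨U, hU⟩) ((f'.ker ^ n).ideal ⟨U', hU'⟩) hJ
    θ₁ h₁ (unitSec u G hW'W) h₁' θ₂ h₂ (appLin φ' W') hcompat (hψ hJ)

end chart

end Groth.Agent.Lib.GrMod81
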