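/-
helper81: charts adapted to a section (exists_section_chart, appLE_section_apply); a closed-immersion section of an
LOFP morphism is LOFP (locallyOfFinitePresentation_of_section); closed immersion with f.g. ideal is LOFP
(locallyOfFinitePresentation_of_ker_fg), ker_ideal_fg, LOFP instance for infNbhdι.
-/
import Groth.Agent.Lib.GrMod81D
import Mathlib.AlgebraicGeometry.Morphisms.FinitePresentation

set_option autoImplicit false
set_option linter.style.haveILetI false
set_option linter.unusedSectionVars false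
universe u
open CategoryTheory CategoryTheory.Limits AlgebraicGeometry TopologicalSpace Opposite

namespace Groth.Agent.Lib.SectionCharts81

open Groth.Agent.Lib.Conormal81

section

variable {X Y : Scheme.{u}} (g : X ⟶ Y) (f : Y ⟶ X) (hf : f ≫ g = 𝟙 Y)

include hf in
/-- charts adapted to a section: affine `U ⊆ X`, `V ⊆ Y` with `U ≤ g⁻¹V` and `f⁻¹U = V` -/
theorem exists_section_chart (y : Y) (O : Y.Opens) (hy : y ∈ O) :
    ∃ (U : X.Opens) (V : Y.Opens), IsAffineOpen U ∧ IsAffineOpen V ∧ y ∈ V ∧ V ≤ O ∧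
      U ≤ g ⁻¹ᵁ V ∧ f ⁻¹ᵁ U = V := by
  obtain ⟨_, ⟨V₀, hV₀, rfl⟩, hyV₀, hV₀O⟩ :=
    Y.isBasis_affineOpens.exists_subset_of_mem_open hy O.isOpen
  have hgf : g (f y) = y := by
    rw [← Scheme.Hom.comp_apply, hf]; rfl
  obtain ⟨_, ⟨U₀, hU₀, rfl⟩, hyU₀, hU₀V₀⟩ :=
    X.isBasis_affineOpens.exists_subset_of_mem_open
      (show f y ∈ g ⁻¹ᵁ V₀ from by change g (f y) ∈ V₀; rw [hgf]; exact hyV₀)
      (g ⁻¹ᵁ V₀).isOpen
  obtain ⟨a, haV, hya⟩ := hV₀.exists_basicOpen_le (V := V₀ ⊓ f ⁻¹ᵁ U₀) ⟨y, hyV₀, hyU₀⟩ hyV₀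
  obtain ⟨V, hVdef⟩ : ∃ V : Y.Opens, V = Y.basicOpen a := ⟨_, rfl⟩
  obtain ⟨U, hUdef⟩ : ∃ U : X.Opens, U = X.basicOpen ((g.appLE V₀ U₀ hU₀V₀).hom a) := ⟨_, rfl⟩
  have hV : IsAffineOpen V := hVdef ▸ hV₀.basicOpen a
  have hU : IsAffineOpen U := hUdef ▸ hU₀.basicOpen _
  have hUeq : U = U₀ ⊓ g ⁻¹ᵁ V := by
    rw [hUdef, hVdef]
    exact Scheme.basicOpen_appLE _ _ _ _ _
  have hUV : U ≤ g ⁻¹ᵁ V := by
    rw [hUeq]; exact inf_le_right
  have hfV : f ⁻¹ᵁ U = V := by
    rw [hUeq, Scheme.Hom.preimage_inf, ← Scheme.Hom.comp_preimage, hf]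
    refine inf_eq_right.mpr ?_
    rw [hVdef]
    exact haV.trans inf_le_right
  have hyV : y ∈ V := hVdef ▸ hya
  refine ⟨U, V, hU, hV, hyV, ?_, hUV, hfV⟩
  rw [hVdef]
  exact (haV.trans inf_le_left).trans hV₀O

include hf in
theorem appLE_section_apply {V : Y.Opens} {U : X.Opens} (e : U ≤ g ⁻¹ᵁ V) (hfV : f ⁻¹ᵁ U = V)
    (a : Γ(Y, V)) : (f.appLE U V hfV.ge).hom ((g.appLE V U e).hom a) = a := by
  have h1 := Scheme.Hom.appLE_comp_appLE f g V U V e hfV.ge
  have h2 : ∀ (k : Y ⟶ Y) (hk : k = 𝟙 Y) (h : V ≤ k ⁻¹ᵁ V), (k.appLE V V h).hom a = a := by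
    rintro _ rfl h
    exact Groth.Agent.Lib.H77OmegaSections.id_appLE_apply h a
  have h3 := h2 (f ≫ g) hf (by rw [hf]; exact le_rfl)
  rw [← h1] at h3
  exact h3

include hf in
/-- a closed-immersion section of a morphism locally of finite presentation is locally of finite
presentation -/
theorem locallyOfFinitePresentation_of_section [LocallyOfFinitePresentation g] [IsClosedImmersion f] :
    LocallyOfFinitePresentation f := by
  rw [HasRingHomProperty.iff_exists_appLE (P := @LocallyOfFinitePresentation)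
    (RingHom.finitePresentation_stableUnderComposition.stableUnderCompositionWithLocalizationAway
      RingHom.finitePresentation_holdsForLocalizationAway).left]
  intro y
  obtain ⟨U, V, hU, hV, hyV, -, hUV, hfV⟩ := exists_section_chart g f hf y ⊤ trivial
  refine ⟨⟨U, hU⟩, ⟨V, hV⟩, hyV, hfV.ge, ?_⟩
  have hs : Function.Surjective (f.appLE U V hfV.ge).hom :=
    appLE_surjective_of_eq f (f.app_surjective U hU) hfV
  refine RingHom.FinitePresentation.of_surjective _ hs ?_
  letI := (g.appLE V U hUV).hom.toAlgebra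
  haveI : Algebra.FinitePresentation Γ(Y, V) Γ(X, U) := g.finitePresentation_appLE hV hU hUV
  let ρ : Γ(X, U) →ₐ[Γ(Y, V)] Γ(Y, V) :=
    { (f.appLE U V hfV.ge).hom with
      commutes' := fun a => appLE_section_apply g f hf hUV hfV a }
  exact Algebra.FinitePresentation.ker_fG_of_surjective ρ hs

end

section

variable {Z X : Scheme.{u}} (i : Z ⟶ X) [IsClosedImmersion i]

/-- a closed immersion whose ideal is finitely generated on affine opens is locally of finite
presentation -/
theorem locallyOfFinitePresentation_of_ker_fg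
    (h : ∀ (U : X.Opens) (hU : IsAffineOpen U), (i.ker.ideal ⟨U, hU⟩).FG) :
    LocallyOfFinitePresentation i := by
  rw [HasRingHomProperty.iff_exists_appLE (P := @LocallyOfFinitePresentation)
    (RingHom.finitePresentation_stableUnderComposition.stableUnderCompositionWithLocalizationAway
      RingHom.finitePresentation_holdsForLocalizationAway).left]
  intro z
  obtain ⟨_, ⟨U, hU, rfl⟩, hzU, -⟩ :=
    X.isBasis_affineOpens.exists_subset_of_mem_open (Set.mem_univ (i z)) isOpen_univ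
  refine ⟨⟨U, hU⟩, ⟨i ⁻¹ᵁ U, hU.preimage i⟩, hzU, le_rfl, ?_⟩
  rw [← Scheme.Hom.app_eq_appLE]
  refine RingHom.FinitePresentation.of_surjective _ (i.app_surjective U hU) ?_
  rw [← Scheme.Hom.ker_apply]
  exact h U hU

/-- the ideal of a closed immersion locally of finite presentation is finitely generated on affines -/
theorem ker_ideal_fg [LocallyOfFinitePresentation i] (U : X.Opens) (hU : IsAffineOpen U) :
    (i.ker.ideal ⟨U, hU⟩).FG := by
  rw [Scheme.Hom.ker_apply]
  have hW : IsAffineOpen (i ⁻¹ᵁ U) := hU.preimage i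
  have hfp : (i.app U).hom.FinitePresentation := by
    rw [Scheme.Hom.app_eq_appLE]
    exact i.finitePresentation_appLE hU hW le_rfl
  have hs : Function.Surjective (i.app U).hom := i.app_surjective U hU
  letI := (i.app U).hom.toAlgebra
  haveI : Algebra.FinitePresentation Γ(X, U) Γ(Z, i ⁻¹ᵁ U) := hfp
  exact Algebra.FinitePresentation.ker_fG_of_surjective (Algebra.ofId Γ(X, U) Γ(Z, i ⁻¹ᵁ U)) hs

instance locallyOfFinitePresentation_infNbhdι [LocallyOfFinitePresentation i] (n : ℕ) :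
    LocallyOfFinitePresentation (PrinPart.infNbhdι i n) := by
  haveI : IsClosedImmersion (PrinPart.infNbhdι i n) :=
    inferInstanceAs (IsClosedImmersion (i.ker ^ (n + 1)).subschemeι)
  apply locallyOfFinitePresentation_of_ker_fg
  intro U hU
  have : (PrinPart.infNbhdι i n).ker = i.ker ^ (n + 1) := Scheme.IdealSheafData.ker_subschemeι _
  rw [this]
  change ((i.ker.ideal ⟨U, hU⟩) ^ (n + 1)).FG
  exact (ker_ideal_fg i U hU).pow

end

end Groth.Agent.Lib.SectionCharts81
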