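/-
helper81: stalk of the conormal sheaf vs. local open immersion (S5980).
`exists_isOpenImmersion_of_chart`, `exists_basicOpen_sections_zero` (qcoh module with f.g. sections and zero stalk
vanishes on a basic open), `isQuasicoherent_conormal`, `exists_chart_sections_zero`, `sections_zero_of_injective`,
`subsingleton_stalk_of_isOpenImmersion`, `exists_isOpenImmersion_nhd_iff_conormal_stalk`.
-/
import Groth.Agent.Lib.Conormal81F
import Groth.Agent.Lib.SectionCharts81
import Groth.Agent.Lib.H77QCohKernel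
import Groth.Agent.Lib.H72PullbackQCoh

set_option autoImplicit false
set_option linter.style.haveILetI false
set_option linter.unusedSectionVars false
universe u

open CategoryTheory CategoryTheory.Limits AlgebraicGeometry TopologicalSpace Opposite TensorProduct

namespace Groth.Agent.Lib.ConormalStalk81

open Groth.Agent.Lib.OmegaDer81 Groth.Agent.Lib.QCohStalk Groth.Agent.Lib.IdealMod
  Groth.Agent.Lib.UnitBaseChange Groth.Agent.Lib.Conormal81

theorem isIdempotentElem_of_isBaseChange_zero {B A M : Type*} [CommRing B] [CommRing A] [Algebra B A]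
    [AddCommGroup M] [Module B M] [Module A M] [IsScalarTower B A M]
    (hs : Function.Surjective (algebraMap B A))
    (uI : RingHom.ker (algebraMap B A) →ₗ[B] M) (h : IsBaseChange A uI) (h0 : ∀ x, uI x = 0) :
    IsIdempotentElem (RingHom.ker (algebraMap B A)) := by
  set I := RingHom.ker (algebraMap B A) with hI
  refine le_antisymm Ideal.mul_le_right ?_
  intro x hx
  have h1 : (1 : A) ⊗ₜ[B] (⟨x, hx⟩ : I) = 0 := by
    rw [← h.equiv_symm_apply, h0, map_zero]
  let e0 : (B ⧸ I) ≃ₐ[B] A :=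
    Ideal.quotientKerAlgEquivOfSurjective (f := Algebra.ofId B A) hs
  have h2 : (TensorProduct.mk B (B ⧸ I) I 1) ⟨x, hx⟩ = 0 := by
    have : (TensorProduct.congr e0.toLinearEquiv (LinearEquiv.refl B I))
        ((1 : B ⧸ I) ⊗ₜ[B] (⟨x, hx⟩ : I)) = 0 := by
      rw [TensorProduct.congr_tmul]
      simp only [AlgEquiv.toLinearEquiv_apply, map_one, LinearEquiv.refl_apply]
      exact h1
    exact (TensorProduct.congr e0.toLinearEquiv (LinearEquiv.refl B I)).injective
      (by rw [map_zero]; exact this)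
  rw [← LinearMap.mem_ker, LinearMap.ker_tensorProductMk] at h2
  have h3 : (Submodule.subtype I) ⟨x, hx⟩ ∈ Submodule.map (Submodule.subtype I) (I • ⊤) :=
    Submodule.mem_map_of_mem h2
  rw [Submodule.map_smul'', Submodule.map_top, Submodule.range_subtype] at h3
  exact h3

section

variable {Y X : Scheme.{u}} (j : Y ⟶ X) [IsImmersion j] [QuasiCompact j]

/-- the kernel of `j♯` on a good chart, as an ideal of the ideal sheaf -/
theorem ker_appLE_eq_ideal {O : X.Opens} (hO : IsGoodChart j O) {W : Y.Opens} (hW : j ⁻¹ᵁ O = W) :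
    RingHom.ker (j.appLE O W hW.ge).hom = j.ker.ideal ⟨O, hO.1⟩ := by
  rw [Scheme.Hom.ker_apply]
  exact Groth.Agent.Lib.H77OmegaSections.ker_appLE_eq j hW

theorem ker_fg_of_goodChart [LocallyOfFinitePresentation j] {O : X.Opens} (hO : IsGoodChart j O) :
    (j.ker.ideal ⟨O, hO.1⟩).FG := by
  rw [Scheme.Hom.ker_apply]
  have hW : IsAffineOpen (j ⁻¹ᵁ O) := hO.isAffineOpen_preimage
  have hfp : (j.app O).hom.FinitePresentation := by
    rw [Scheme.Hom.app_eq_appLE]
    exact j.finitePresentation_appLE hO.1 hW le_rfl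
  have hs : Function.Surjective (j.app O).hom := hO.app_surjective
  letI := (j.app O).hom.toAlgebra
  haveI : Algebra.FinitePresentation Γ(X, O) Γ(Y, j ⁻¹ᵁ O) := hfp
  exact Algebra.FinitePresentation.ker_fG_of_surjective (Algebra.ofId Γ(X, O) Γ(Y, j ⁻¹ᵁ O)) hs

set_option backward.isDefEq.respectTransparency false in
omit [IsImmersion j] [QuasiCompact j] in
lemma isIso_morphismRestrict_of_isIso_app {U : X.Opens} (hU : IsAffineOpen U)
    (hU' : IsAffineOpen (j ⁻¹ᵁ U)) (h : IsIso (j.app U)) : IsIso (j ∣_ U) := by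
  have : IsAffine U := hU
  refine (HasAffineProperty.iff_of_isAffine (P := .isomorphisms _)).mpr ⟨hU', ?_⟩
  rw [Scheme.Hom.app_eq_appLE] at h
  simp only [morphismRestrict_app', TopologicalSpace.Opens.map_top]
  convert h <;> simp [Scheme.Opens.toScheme_presheaf_obj]

set_option backward.isDefEq.respectTransparency false in
set_option maxHeartbeats 1600000 in
/-- if the conormal sheaf has no sections over a chart, `j` is an open immersion near each point of it -/
theorem exists_isOpenImmersion_of_chart [LocallyOfFinitePresentation j] {O : X.Opens}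
    (hO : IsGoodChart j O) (h0 : ∀ m : Γ(Omega.conormal j, j ⁻¹ᵁ O), m = 0) (y : Y) (hy : y ∈ j ⁻¹ᵁ O) :
    ∃ U : Y.Opens, y ∈ U ∧ IsOpenImmersion (U.ι ≫ j) := by
  have hWa : IsAffineOpen (j ⁻¹ᵁ O) := hO.isAffineOpen_preimage
  have hW : j ⁻¹ᵁ O = j ⁻¹ᵁ O := rfl
  letI : Algebra Γ(X, O) Γ(Y, j ⁻¹ᵁ O) := (j.appLE O (j ⁻¹ᵁ O) hW.ge).hom.toAlgebra
  letI : Module Γ(X, O) Γ((Scheme.Modules.pullback j).obj (ClSub.idealMod j.ker), j ⁻¹ᵁ O) :=
    Module.compHom _ (j.appLE O (j ⁻¹ᵁ O) hW.ge).hom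
  haveI : IsScalarTower Γ(X, O) Γ(Y, j ⁻¹ᵁ O)
      Γ((Scheme.Modules.pullback j).obj (ClSub.idealMod j.ker), j ⁻¹ᵁ O) :=
    .of_algebraMap_smul fun _ _ => rfl
  obtain ⟨uI, hbc, -⟩ := exists_uI j hO.1 hWa hW
  have hs : Function.Surjective (algebraMap Γ(X, O) Γ(Y, j ⁻¹ᵁ O)) :=
    Groth.Agent.Lib.Conormal81.appLE_surjective_of_eq j hO.app_surjective hW
  have hidem := isIdempotentElem_of_isBaseChange_zero hs uI hbc (fun x => h0 _)
  have hker : RingHom.ker (algebraMap Γ(X, O) Γ(Y, j ⁻¹ᵁ O)) = j.ker.ideal ⟨O, hO.1⟩ :=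
    ker_appLE_eq_ideal j hO hW
  rw [hker] at hidem
  obtain ⟨e, he, hIe⟩ := (Ideal.isIdempotentElem_iff_of_fg _ (ker_fg_of_goodChart j hO)).mp hidem
  have hje : (j.app O).hom e = 0 := by
    have : e ∈ j.ker.ideal ⟨O, hO.1⟩ := by rw [hIe]; exact Ideal.mem_span_singleton_self e
    rw [Scheme.Hom.ker_apply, RingHom.mem_ker] at this
    exact this
  have hO₂ : IsGoodChart j (X.basicOpen (1 - e)) := hO.basicOpen _
  have hpre : j ⁻¹ᵁ (X.basicOpen (1 - e)) = j ⁻¹ᵁ O := by
    rw [Scheme.preimage_basicOpen]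
    apply Scheme.basicOpen_of_isUnit
    have : (j.app O).hom (1 - e) = 1 := by rw [map_sub, hje, map_one, sub_zero]
    rw [this]
    exact isUnit_one
  have hres : (X.presheaf.map (homOfLE (X.basicOpen_le (1 - e))).op).hom e = 0 := by
    have hu : IsUnit ((X.presheaf.map (homOfLE (X.basicOpen_le (1 - e))).op).hom (1 - e)) :=
      RingedSpace.isUnit_res_basicOpen X.toRingedSpace (1 - e)
    have h1 : (X.presheaf.map (homOfLE (X.basicOpen_le (1 - e))).op).hom e *
        (X.presheaf.map (homOfLE (X.basicOpen_le (1 - e))).op).hom (1 - e) = 0 := by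
      rw [← map_mul, mul_sub, mul_one, he.eq, sub_self, map_zero]
    exact (hu.mul_left_eq_zero).mp h1
  have hbot : j.ker.ideal ⟨X.basicOpen (1 - e), hO₂.1⟩ = ⊥ := by
    have := j.ker.map_ideal_basicOpen ⟨O, hO.1⟩ (1 - e)
    change _ = j.ker.ideal ⟨X.basicOpen (1 - e), _⟩ at this
    rw [← this, hIe, Ideal.submodule_span_eq, Ideal.map_span, Set.image_singleton, hres]
    simp
  have hinj : Function.Injective (j.app (X.basicOpen (1 - e))).hom := by
    rw [injective_iff_map_eq_zero]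
    intro a ha
    have : a ∈ j.ker.ideal ⟨X.basicOpen (1 - e), hO₂.1⟩ := by
      rw [Scheme.Hom.ker_apply, RingHom.mem_ker]; exact ha
    rw [hbot] at this
    exact this
  have hiso : IsIso (j.app (X.basicOpen (1 - e))) :=
    (ConcreteCategory.isIso_iff_bijective _).mpr ⟨hinj, hO₂.app_surjective⟩
  haveI := isIso_morphismRestrict_of_isIso_app j hO₂.1 hO₂.isAffineOpen_preimage hiso
  refine ⟨j ⁻¹ᵁ (X.basicOpen (1 - e)), hpre ▸ hy, ?_⟩
  rw [← morphismRestrict_ι]
  infer_instance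

omit [IsImmersion j] [QuasiCompact j] in
theorem exists_open_forall_finset {ι : Type*} (s : Finset ι) (P : ι → Y.Opens → Prop)
    (hmono : ∀ i V V', V' ≤ V → P i V → P i V') (y : Y) (W : Y.Opens) (hyW : y ∈ W)
    (h : ∀ i ∈ s, ∃ V : Y.Opens, y ∈ V ∧ V ≤ W ∧ P i V) :
    ∃ V : Y.Opens, y ∈ V ∧ V ≤ W ∧ ∀ i ∈ s, P i V := by
  classical
  induction s using Finset.induction_on with
  | empty => exact ⟨W, hyW, le_rfl, fun i hi => absurd hi (Finset.notMem_empty i)⟩
  | insert a s ha ih =>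
    obtain ⟨V₁, hy₁, hV₁, hP₁⟩ := ih (fun i hi => h i (Finset.mem_insert_of_mem hi))
    obtain ⟨V₂, hy₂, hV₂, hP₂⟩ := h a (Finset.mem_insert_self a s)
    refine ⟨V₁ ⊓ V₂, ⟨hy₁, hy₂⟩, inf_le_left.trans hV₁, fun i hi => ?_⟩
    rcases Finset.mem_insert.mp hi with rfl | hi
    · exact hmono _ _ _ inf_le_right hP₂
    · exact hmono _ _ _ inf_le_left (hP₁ i hi)


omit [IsImmersion j] [QuasiCompact j] in
theorem exists_common_annihilator {A M ι : Type*} [CommRing A] [AddCommGroup M] [Module A M]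
    (S : Submonoid A) (t : Finset ι) (m : ι → M) (h : ∀ i ∈ t, ∃ g ∈ S, g • m i = 0) :
    ∃ g ∈ S, ∀ i ∈ t, g • m i = 0 := by
  classical
  induction t using Finset.induction_on with
  | empty => exact ⟨1, S.one_mem, fun i hi => absurd hi (Finset.notMem_empty i)⟩
  | insert a s ha ih =>
    obtain ⟨g₁, hg₁, h₁⟩ := ih (fun i hi => h i (Finset.mem_insert_of_mem hi))
    obtain ⟨g₂, hg₂, h₂⟩ := h a (Finset.mem_insert_self a s)
    refine ⟨g₁ * g₂, S.mul_mem hg₁ hg₂, fun i hi => ?_⟩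
    rcases Finset.mem_insert.mp hi with rfl | hi
    · rw [mul_smul, h₂, smul_zero]
    · rw [mul_comm, mul_smul, h₁ i hi, smul_zero]

omit [IsImmersion j] [QuasiCompact j] in
/-- a quasi-coherent module with finitely generated sections over an affine open `W` and zero stalk at
`y ∈ W` has no sections over a basic open neighbourhood of `y`. -/
theorem exists_basicOpen_sections_zero (F : Y.Modules) [F.IsQuasicoherent] {W : Y.Opens}
    (hW : IsAffineOpen W) (y : Y) (hy : y ∈ W) {ι : Type*} (t : Finset ι) (m : ι → Γ(F, W))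
    (hspan : Submodule.span Γ(Y, W) (m '' (t : Set ι)) = ⊤)
    (hstalk : Subsingleton (F.presheaf.stalk y)) :
    ∃ g : Γ(Y, W), y ∈ Y.basicOpen g ∧ ∀ s : Γ(F, Y.basicOpen g), s = 0 := by
  let S : Submonoid Γ(Y, W) := (IsUnit.submonoid _).comap (Y.presheaf.germ W y hy).hom
  have h1 : ∀ i ∈ t, ∃ g ∈ S, g • m i = 0 := by
    intro i _
    obtain ⟨g, hg, hg0⟩ := exists_smul_eq_zero_of_germ_eq_zero F hW y hy (m i)
      (Subsingleton.elim _ _)
    exact ⟨g, hg, hg0⟩
  obtain ⟨g, hgS, hg⟩ := exists_common_annihilator S t m h1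
  have hgu : IsUnit (Y.presheaf.germ W y hy g) := hgS
  have hall : ∀ s : Γ(F, W), g • s = 0 := by
    intro s
    have hs : s ∈ Submodule.span Γ(Y, W) (m '' (t : Set ι)) := by rw [hspan]; trivial
    induction hs using Submodule.span_induction with
    | mem x hx =>
      obtain ⟨i, hi, rfl⟩ := hx
      exact hg i hi
    | zero => exact smul_zero _
    | add a b _ _ ha hb => rw [smul_add, ha, hb, add_zero]
    | smul r a _ ha => rw [smul_comm, ha, smul_zero]
  refine ⟨g, (Y.mem_basicOpen _ _ hy).mpr hgu, fun s => ?_⟩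
  obtain ⟨n, s', hs'⟩ := exists_pow_smul_eq_res F hW g s
  have hu : IsUnit (resO Y (Y.basicOpen_le g) g) :=
    RingedSpace.isUnit_res_basicOpen Y.toRingedSpace g
  have h2 : (resO Y (Y.basicOpen_le g) g) ^ (n + 1) • s = 0 := by
    rw [pow_succ', mul_smul, hs', ← res_smul, hall, res_zero]
  exact ((hu.pow (n + 1)).smul_eq_zero).mp h2


omit [IsImmersion j] in
instance isQuasicoherent_conormal : (Omega.conormal j).IsQuasicoherent := by
  haveI : (ClSub.idealMod j.ker).IsQuasicoherent :=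
    Groth.Agent.Lib.H77QCohKernel.isQuasicoherent_idealMod _
  exact inferInstanceAs
    ((Scheme.Modules.pullback j).obj (ClSub.idealMod j.ker)).IsQuasicoherent

omit [IsImmersion j] [QuasiCompact j] in
theorem sections_zero_of_eq (F : Y.Modules) {V U : Y.Opens} (h : V = U)
    (h0 : ∀ m : Γ(F, U), m = 0) : ∀ m : Γ(F, V), m = 0 := by
  subst h; exact h0

set_option backward.isDefEq.respectTransparency false in
set_option maxHeartbeats 1600000 in
theorem exists_chart_sections_zero [LocallyOfFinitePresentation j] (y : Y)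
    (h : Subsingleton ((Omega.conormal j).presheaf.stalk y)) :
    ∃ O : X.Opens, IsGoodChart j O ∧ y ∈ j ⁻¹ᵁ O ∧ ∀ m : Γ(Omega.conormal j, j ⁻¹ᵁ O), m = 0 := by
  obtain ⟨O', hO', hyO', -⟩ := exists_goodChart j y ⊤ trivial
  have hWa : IsAffineOpen (j ⁻¹ᵁ O') := hO'.isAffineOpen_preimage
  have hW : j ⁻¹ᵁ O' = j ⁻¹ᵁ O' := rfl
  letI : Algebra Γ(X, O') Γ(Y, j ⁻¹ᵁ O') := (j.appLE O' (j ⁻¹ᵁ O') hW.ge).hom.toAlgebra
  letI : Module Γ(X, O') Γ((Scheme.Modules.pullback j).obj (ClSub.idealMod j.ker), j ⁻¹ᵁ O') :=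
    Module.compHom _ (j.appLE O' (j ⁻¹ᵁ O') hW.ge).hom
  haveI : IsScalarTower Γ(X, O') Γ(Y, j ⁻¹ᵁ O')
      Γ((Scheme.Modules.pullback j).obj (ClSub.idealMod j.ker), j ⁻¹ᵁ O') :=
    .of_algebraMap_smul fun _ _ => rfl
  obtain ⟨uI, hbc, -⟩ := exists_uI j hO'.1 hWa hW
  have hker : RingHom.ker (algebraMap Γ(X, O') Γ(Y, j ⁻¹ᵁ O')) = j.ker.ideal ⟨O', hO'.1⟩ :=
    ker_appLE_eq_ideal j hO' hW
  have hfg : (⊤ : Submodule Γ(X, O') (RingHom.ker (algebraMap Γ(X, O') Γ(Y, j ⁻¹ᵁ O')))).FG := by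
    rw [Submodule.fg_top, hker]
    exact ker_fg_of_goodChart j hO'
  obtain ⟨t, ht⟩ := hfg
  have hspan : Submodule.span Γ(Y, j ⁻¹ᵁ O') (uI '' (t : Set _)) = ⊤ := by
    rw [eq_top_iff]
    rintro m -
    induction m using hbc.inductionOn with
    | zero => exact zero_mem _
    | tmul x =>
      have hx : x ∈ Submodule.span Γ(X, O') (t : Set _) := by rw [ht]; trivial
      induction hx using Submodule.span_induction with
      | mem x hx => exact Submodule.subset_span ⟨x, hx, rfl⟩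
      | zero => rw [map_zero]; exact zero_mem _
      | add a b _ _ ha hb => rw [map_add]; exact add_mem ha hb
      | smul r a _ ha =>
        rw [map_smul, ← algebraMap_smul Γ(Y, j ⁻¹ᵁ O')]
        exact Submodule.smul_mem _ _ ha
    | smul a m hm => exact Submodule.smul_mem _ _ hm
    | add a b ha hb => exact add_mem ha hb
  obtain ⟨g, hyg, hg⟩ := exists_basicOpen_sections_zero (Omega.conormal j) hWa y hyO' t uI hspan h
  obtain ⟨b, hb⟩ := hO'.app_surjective g
  refine ⟨X.basicOpen b, hO'.basicOpen b, ?_, ?_⟩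
  · rw [Scheme.preimage_basicOpen, hb]; exact hyg
  · refine sections_zero_of_eq _ ?_ hg
    rw [Scheme.preimage_basicOpen, hb]


set_option backward.isDefEq.respectTransparency false in
set_option maxHeartbeats 1600000 in
/-- on a good chart over which `j♯` is injective, the conormal sheaf has no sections -/
theorem sections_zero_of_injective {O : X.Opens} (hO : IsGoodChart j O)
    (hinj : Function.Injective (j.app O).hom) : ∀ m : Γ(Omega.conormal j, j ⁻¹ᵁ O), m = 0 := by
  have hWa : IsAffineOpen (j ⁻¹ᵁ O) := hO.isAffineOpen_preimage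
  have hW : j ⁻¹ᵁ O = j ⁻¹ᵁ O := rfl
  letI : Algebra Γ(X, O) Γ(Y, j ⁻¹ᵁ O) := (j.appLE O (j ⁻¹ᵁ O) hW.ge).hom.toAlgebra
  letI : Module Γ(X, O) Γ((Scheme.Modules.pullback j).obj (ClSub.idealMod j.ker), j ⁻¹ᵁ O) :=
    Module.compHom _ (j.appLE O (j ⁻¹ᵁ O) hW.ge).hom
  haveI : IsScalarTower Γ(X, O) Γ(Y, j ⁻¹ᵁ O)
      Γ((Scheme.Modules.pullback j).obj (ClSub.idealMod j.ker), j ⁻¹ᵁ O) :=
    .of_algebraMap_smul fun _ _ => rfl
  obtain ⟨uI, hbc, -⟩ := exists_uI j hO.1 hWa hW
  have hker : RingHom.ker (algebraMap Γ(X, O) Γ(Y, j ⁻¹ᵁ O)) = ⊥ := by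
    rw [show RingHom.ker (algebraMap Γ(X, O) Γ(Y, j ⁻¹ᵁ O)) = j.ker.ideal ⟨O, hO.1⟩ from
      ker_appLE_eq_ideal j hO hW, Scheme.Hom.ker_apply]
    exact (RingHom.injective_iff_ker_eq_bot _).mp hinj
  intro m
  change Γ((Scheme.Modules.pullback j).obj (ClSub.idealMod j.ker), j ⁻¹ᵁ O) at m
  induction m using hbc.inductionOn with
  | zero => rfl
  | tmul x =>
    have hx : x = 0 := Subtype.ext ((Submodule.eq_bot_iff _).mp hker x.1 x.2)
    rw [hx, map_zero]
  | smul a m hm => rw [hm, smul_zero]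
  | add a b ha hb => rw [ha, hb, add_zero]

theorem subsingleton_stalk_of_isOpenImmersion (y : Y) (U : Y.Opens) (hy : y ∈ U)
    [IsOpenImmersion (U.ι ≫ j)] : Subsingleton ((Omega.conormal j).presheaf.stalk y) := by
  refine subsingleton_of_forall_eq 0 fun ξ => ?_
  obtain ⟨V, hyV, t, rfl⟩ := TopCat.Presheaf.exists_germ_eq (Omega.conormal j).presheaf ξ
  have hyr : j y ∈ (U.ι ≫ j).opensRange := ⟨⟨y, hy⟩, rfl⟩
  obtain ⟨O, hO, hyO, hOV, hOr⟩ := exists_goodChart' j y (V ⊓ U) (U.ι ≫ j).opensRange ⟨hyV, hy⟩ hyr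
  have hiso : IsIso ((U.ι ≫ j).app O) := Scheme.Hom.isIso_app (U.ι ≫ j) O hOr
  have hinj : Function.Injective (j.app O).hom := by
    have h1 : Function.Injective ((U.ι ≫ j).app O).hom :=
      ((ConcreteCategory.isIso_iff_bijective _).mp hiso).1
    have h2 : ∀ a, ((U.ι ≫ j).app O).hom a = (U.ι.app (j ⁻¹ᵁ O)).hom ((j.app O).hom a) := by
      intro a
      rw [Scheme.Hom.comp_app]
      rfl
    intro a b hab
    apply h1
    rw [h2, h2, hab]
  have h0 := sections_zero_of_injective j hO hinj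
  rw [← germ_res (Omega.conormal j) (hOV.trans inf_le_left) y hyO t, h0 (res _ _ t), map_zero]

/-- **S5980** -/
theorem exists_isOpenImmersion_nhd_iff_conormal_stalk [LocallyOfFinitePresentation j] (y : Y) :
    (∃ U : Y.Opens, y ∈ U ∧ IsOpenImmersion (U.ι ≫ j)) ↔
      Subsingleton ((Omega.conormal j).presheaf.stalk y) := by
  constructor
  · rintro ⟨U, hy, hU⟩
    exact subsingleton_stalk_of_isOpenImmersion j y U hy
  · intro h
    obtain ⟨O, hO, hyO, h0⟩ := exists_chart_sections_zero j y h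
    exact exists_isOpenImmersion_of_chart j hO h0 y hyO

end

end Groth.Agent.Lib.ConormalStalk81
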