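import Mathlib.Topology.Constructible
import Mathlib.Topology.Spectral.ConstructibleTopology

/-!
# Atoms of finite families of retrocompact open subsets (helper22)

Every constructible set is measurable with respect to a finite family `𝒰` of retrocompact open
subsets.  The atoms of `𝒰` (the classes of the relation "belongs to the same members of `𝒰`")
form a finite partition of the space into locally closed constructible subsets.
-/

set_option autoImplicit false
set_option linter.unusedSectionVars false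
set_option linter.style.haveILetI false
set_option linter.deprecated false
open Topology Set

namespace Groth.Agent.Lib.ConsAtoms22

variable {X : Type*} [TopologicalSpace X]

/-- `s` is a union of atoms of `𝒰`. -/
def Meas (𝒰 : Finset (Set X)) (s : Set X) : Prop :=
  ∀ x y, (∀ U ∈ 𝒰, x ∈ U ↔ y ∈ U) → (x ∈ s → y ∈ s)

theorem Meas.mono {𝒰 𝒱 : Finset (Set X)} (h : 𝒰 ⊆ 𝒱) {s : Set X} (hs : Meas 𝒰 s) : Meas 𝒱 s :=
  fun x y hxy hx => hs x y (fun U hU => hxy U (h hU)) hx

theorem Meas.compl {𝒰 : Finset (Set X)} {s : Set X} (hs : Meas 𝒰 s) : Meas 𝒰 sᶜ :=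
  fun x y hxy hx hy => hx (hs y x (fun U hU => (hxy U hU).symm) hy)

theorem Meas.union {𝒰 : Finset (Set X)} {s t : Set X} (hs : Meas 𝒰 s) (ht : Meas 𝒰 t) :
    Meas 𝒰 (s ∪ t) := fun x y hxy hx =>
  hx.elim (fun h => Or.inl (hs x y hxy h)) (fun h => Or.inr (ht x y hxy h))

open scoped Classical in
theorem exists_family {s : Set X} (hs : IsConstructible s) :
    ∃ 𝒰 : Finset (Set X), (∀ U ∈ 𝒰, IsOpen U ∧ IsRetrocompact U) ∧ Meas 𝒰 s := by
  induction hs using IsConstructible.empty_union_induction with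
  | open_retrocompact U hUo hUc =>
    refine ⟨{U}, fun V hV => ?_, fun x y hxy hx => ?_⟩
    · rw [Finset.mem_singleton] at hV
      rw [hV]
      exact ⟨hUo, hUc⟩
    · exact (hxy U (Finset.mem_singleton_self U)).1 hx
  | union s hs t ht ihs iht =>
    obtain ⟨𝒰, h𝒰, hm⟩ := ihs
    obtain ⟨𝒱, h𝒱, hm'⟩ := iht
    refine ⟨𝒰 ∪ 𝒱, fun U hU => ?_, ?_⟩
    · rcases Finset.mem_union.1 hU with h | h
      · exact h𝒰 U h
      · exact h𝒱 U h
    · exact (hm.mono Finset.subset_union_left).union (hm'.mono Finset.subset_union_right)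
  | compl s hs ih =>
    obtain ⟨𝒰, h𝒰, hm⟩ := ih
    exact ⟨𝒰, h𝒰, hm.compl⟩

open scoped Classical in
theorem exists_family_finite {ι : Type*} [Finite ι] (E : ι → Set X)
    (hE : ∀ i, IsConstructible (E i)) :
    ∃ 𝒰 : Finset (Set X), (∀ U ∈ 𝒰, IsOpen U ∧ IsRetrocompact U) ∧ ∀ i, Meas 𝒰 (E i) := by
  haveI := Fintype.ofFinite ι
  choose 𝒰 h𝒰 hm using fun i => exists_family (hE i)
  refine ⟨Finset.univ.biUnion 𝒰, fun U hU => ?_, fun i => ?_⟩
  · obtain ⟨i, -, hi⟩ := Finset.mem_biUnion.1 hU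
    exact h𝒰 i U hi
  · exact (hm i).mono (Finset.subset_biUnion_of_mem 𝒰 (Finset.mem_univ i))

/-- the atom of `x` -/
def atom (𝒰 : Finset (Set X)) (x : X) : Set X := {y | ∀ U ∈ 𝒰, x ∈ U ↔ y ∈ U}

theorem mem_atom_self (𝒰 : Finset (Set X)) (x : X) : x ∈ atom 𝒰 x := fun _ _ => Iff.rfl

theorem atom_eq_of_mem {𝒰 : Finset (Set X)} {x y : X} (h : y ∈ atom 𝒰 x) :
    atom 𝒰 y = atom 𝒰 x := by
  ext z
  exact ⟨fun hz U hU => (h U hU).trans (hz U hU), fun hz U hU => (h U hU).symm.trans (hz U hU)⟩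

theorem atom_disjoint_or_eq (𝒰 : Finset (Set X)) (x y : X) :
    atom 𝒰 x = atom 𝒰 y ∨ Disjoint (atom 𝒰 x) (atom 𝒰 y) := by
  by_cases h : ∃ z, z ∈ atom 𝒰 x ∧ z ∈ atom 𝒰 y
  · obtain ⟨z, hzx, hzy⟩ := h
    exact Or.inl ((atom_eq_of_mem hzx).symm.trans (atom_eq_of_mem hzy))
  · refine Or.inr (Set.disjoint_left.2 fun z hzx hzy => h ⟨z, hzx, hzy⟩)

theorem Meas.atom_subset {𝒰 : Finset (Set X)} {s : Set X} (hs : Meas 𝒰 s) {x : X} (hx : x ∈ s) :
    atom 𝒰 x ⊆ s := fun y hy => hs x y hy hx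

/-- the open part of an atom -/
def atomO (𝒰 : Finset (Set X)) (x : X) : Set X := ⋂ U ∈ {U ∈ (𝒰 : Set (Set X)) | x ∈ U}, U

/-- the closed part of an atom -/
def atomC (𝒰 : Finset (Set X)) (x : X) : Set X := ⋂ U ∈ {U ∈ (𝒰 : Set (Set X)) | x ∉ U}, Uᶜ

theorem atom_eq_inter (𝒰 : Finset (Set X)) (x : X) : atom 𝒰 x = atomO 𝒰 x ∩ atomC 𝒰 x := by
  ext y
  simp only [atom, atomO, atomC, mem_setOf_eq, mem_inter_iff, mem_iInter, Finset.mem_coe,
    mem_compl_iff, and_imp]
  constructor
  · intro h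
    exact ⟨fun U hU hx => (h U hU).1 hx, fun U hU hx hy => hx ((h U hU).2 hy)⟩
  · rintro ⟨h1, h2⟩ U hU
    constructor
    · exact fun hx => h1 U hU hx
    · intro hy
      by_contra hx
      exact h2 U hU hx hy

theorem isOpen_atomO {𝒰 : Finset (Set X)} (h𝒰 : ∀ U ∈ 𝒰, IsOpen U ∧ IsRetrocompact U) (x : X) :
    IsOpen (atomO 𝒰 x) := by
  have hfin : {U ∈ (𝒰 : Set (Set X)) | x ∈ U}.Finite := 𝒰.finite_toSet.subset fun U hU => hU.1
  exact hfin.isOpen_biInter fun U hU => (h𝒰 U hU.1).1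

theorem isClosed_atomC {𝒰 : Finset (Set X)} (h𝒰 : ∀ U ∈ 𝒰, IsOpen U ∧ IsRetrocompact U) (x : X) :
    IsClosed (atomC 𝒰 x) :=
  isClosed_biInter fun U hU => (h𝒰 U hU.1).1.isClosed_compl

theorem isConstructible_atom {𝒰 : Finset (Set X)}
    (h𝒰 : ∀ U ∈ 𝒰, IsOpen U ∧ IsRetrocompact U) (x : X) : IsConstructible (atom 𝒰 x) := by
  rw [atom_eq_inter]
  have hfin : {U ∈ (𝒰 : Set (Set X)) | x ∈ U}.Finite := 𝒰.finite_toSet.subset fun U hU => hU.1
  have hfin' : {U ∈ (𝒰 : Set (Set X)) | x ∉ U}.Finite := 𝒰.finite_toSet.subset fun U hU => hU.1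
  refine IsConstructible.inter ?_ ?_
  · exact IsConstructible.biInter hfin fun U hU => (h𝒰 U hU.1).2.isConstructible (h𝒰 U hU.1).1
  · exact IsConstructible.biInter hfin' fun U hU =>
      ((h𝒰 U hU.1).2.isConstructible (h𝒰 U hU.1).1).compl

open scoped Classical in
/-- there are finitely many atoms -/
theorem finite_range_atom (𝒰 : Finset (Set X)) : (Set.range (atom 𝒰)).Finite := by
  let φ : X → Finset (Set X) := fun x => 𝒰.filter (fun U => x ∈ U)
  have hφ : ∀ x y, φ x = φ y → atom 𝒰 x = atom 𝒰 y := by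
    intro x y hxy
    apply (atom_eq_of_mem _).symm
    intro U hU
    have h1 : U ∈ φ x ↔ U ∈ φ y := by rw [hxy]
    simp only [φ, Finset.mem_filter, hU, true_and] at h1
    exact h1
  have hsub : Set.range (atom 𝒰) ⊆ (fun J : Finset (Set X) =>
      {y | ∀ U ∈ 𝒰, U ∈ J ↔ y ∈ U}) '' (𝒰.powerset : Set (Finset (Set X))) := by
    rintro _ ⟨x, rfl⟩
    refine ⟨φ x, ?_, ?_⟩
    · simp only [Finset.coe_powerset, mem_preimage, mem_powerset_iff, Finset.coe_subset, φ]
      exact Finset.filter_subset _ _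
    · ext y
      simp only [mem_setOf_eq, atom, φ, Finset.mem_filter]
      constructor
      · intro h U hU
        rw [← h U hU]
        exact ⟨fun hx => ⟨hU, hx⟩, fun hx => hx.2⟩
      · intro h U hU
        rw [← h U hU]
        exact ⟨fun hx => hx.2, fun hx => ⟨hU, hx⟩⟩
  exact ((𝒰.powerset.finite_toSet).image _).subset hsub

/-- constructible sets are clopen in the constructible topology (copied from helper59's `S1440`) -/
theorem isOpen_constructibleTopology_of_isConstructible [CompactSpace X] {s : Set X}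
    (hs : IsConstructible s) :
    IsOpen[constructibleTopology X] s ∧ IsOpen[constructibleTopology X] sᶜ := by
  induction hs using IsConstructible.empty_union_induction with
  | open_retrocompact U hUo hUc =>
    refine ⟨hUc.isCompact.isOpen_constructibleTopology_of_isOpen hUo, ?_⟩
    exact IsCompact.isOpen_constructibleTopology_of_isClosed (s := Uᶜ)
      (by simpa using hUc.isCompact) hUo.isClosed_compl
  | union s hs t ht ihs iht =>
    refine ⟨@IsOpen.union X _ _ (constructibleTopology X) ihs.1 iht.1, ?_⟩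
    rw [Set.compl_union]
    exact @IsOpen.inter X (constructibleTopology X) _ _ ihs.2 iht.2
  | compl s hs ih =>
    refine ⟨ih.2, ?_⟩
    rw [compl_compl]
    exact ih.1

/-- a cover of a spectral-type space by constructible subsets has a finite subcover
(copied from helper59's `S1440`) -/
theorem exists_finite_subcover_of_isConstructible [CompactSpace X] [QuasiSober X]
    [PrespectralSpace X] [QuasiSeparatedSpace X]
    {ι : Type*} (T : ι → Set X) (hT : ∀ i, IsConstructible (T i))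
    (hcov : ∀ x, ∃ i, x ∈ T i) : ∃ s : Finset ι, ∀ x, ∃ i ∈ s, x ∈ T i := by
  let O : ι → Set (WithConstructibleTopology X) := fun i => WithTopology.ofTopology ⁻¹' (T i)
  have hO : ∀ i, IsOpen (O i) := fun i => by
    rw [WithConstructibleTopology.isOpen_iff]
    exact (isOpen_constructibleTopology_of_isConstructible (hT i)).1
  have hcov' : (Set.univ : Set (WithConstructibleTopology X)) ⊆ ⋃ i, O i := by
    intro w _
    obtain ⟨i, hi⟩ := hcov w.ofTopology
    exact Set.mem_iUnion.mpr ⟨i, hi⟩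
  obtain ⟨s, hs⟩ := isCompact_univ.elim_finite_subcover O hO hcov'
  refine ⟨s, fun x => ?_⟩
  have := hs (Set.mem_univ (WithTopology.toTopology _ x))
  simp only [Set.mem_iUnion] at this
  obtain ⟨i, his, hi⟩ := this
  exact ⟨i, his, hi⟩

end Groth.Agent.Lib.ConsAtoms22
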