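import Mathlib
import Groth.Prelude.Def_ProCons

/-!
# Constructible sets near a generic point (helper62)

In a space with a generic point `η`, a (locally) constructible set or its complement is a
neighbourhood of `η`; an ind-constructible set containing `η` is a neighbourhood of `η`.
-/

set_option autoImplicit false

open Topology TopologicalSpace Set

namespace Groth.Agent.Lib.ConsGenericPt

variable {X : Type*} [TopologicalSpace X]

theorem mem_interior_or_of_isConstructible {η : X} (hη : IsGenericPoint η (univ : Set X))
    {s : Set X} (hs : IsConstructible s) : η ∈ interior s ∨ η ∈ interior sᶜ := by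
  induction hs using IsConstructible.empty_union_induction with
  | open_retrocompact U hU _ =>
    by_cases h : η ∈ U
    · left
      rwa [hU.interior_eq]
    · right
      have hUe : U = ∅ := by
        by_contra hne
        apply h
        rw [hη.mem_open_set_iff hU]
        obtain ⟨x, hx⟩ := Set.nonempty_iff_ne_empty.mpr hne
        exact ⟨x, trivial, hx⟩
      rw [hUe, compl_empty, interior_univ]
      trivial
  | union s _ t _ hs ht =>
    rcases hs with hs | hs
    · left
      exact interior_mono subset_union_left hs
    · rcases ht with ht | ht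
      · left
        exact interior_mono subset_union_right ht
      · right
        rw [compl_union, interior_inter]
        exact ⟨hs, ht⟩
  | compl s _ hs =>
    rcases hs with hs | hs
    · right
      rwa [compl_compl]
    · left
      exact hs

/-- Transfer of interiors from an open subspace. -/
theorem mem_interior_of_subtype {U : Set X} (hU : IsOpen U) {s : Set X} {x : U}
    (h : x ∈ interior (Subtype.val ⁻¹' s : Set U)) : (x : X) ∈ interior s := by
  rw [mem_interior] at h ⊢
  obtain ⟨W, hWs, hWo, hxW⟩ := h
  refine ⟨Subtype.val '' W, ?_, hU.isOpenMap_subtype_val W hWo, ⟨x, hxW, rfl⟩⟩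
  rintro _ ⟨w, hw, rfl⟩
  exact hWs hw

theorem isGenericPoint_subtype {η : X} (hη : IsGenericPoint η (univ : Set X)) {U : Set X}
    (h : η ∈ U) : IsGenericPoint (⟨η, h⟩ : U) (univ : Set U) := by
  change closure _ = _
  rw [eq_univ_iff_forall]
  intro x
  rw [closure_subtype, image_singleton]
  change (x : X) ∈ closure {η}
  rw [hη.def]
  trivial

theorem mem_interior_or_of_isLocallyConstructible {η : X}
    (hη : IsGenericPoint η (univ : Set X)) {s : Set X} (hs : IsLocallyConstructible s) :
    η ∈ interior s ∨ η ∈ interior sᶜ := by
  obtain ⟨U, hUη, hUo, hc⟩ := hs η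
  have h : η ∈ U := mem_of_mem_nhds hUη
  rcases mem_interior_or_of_isConstructible (isGenericPoint_subtype hη h) hc with h1 | h1
  · left
    exact mem_interior_of_subtype hUo (x := ⟨η, h⟩) h1
  · right
    exact mem_interior_of_subtype hUo (x := ⟨η, h⟩) (s := sᶜ) h1

theorem mem_interior_of_isIndConstructible {η : X}
    (hη : IsGenericPoint η (univ : Set X)) {s : Set X} (hs : ProCons.IsIndConstructible s)
    (h : η ∈ s) : η ∈ interior s := by
  obtain ⟨U, hUo, hηU, 𝒮, h𝒮, he⟩ := hs η
  have h1 : (⟨η, hηU⟩ : U) ∈ (Subtype.val ⁻¹' s : Set U) := h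
  rw [he] at h1
  obtain ⟨T, hT, hηT⟩ := h1
  have h2 : (⟨η, hηU⟩ : U) ∈ interior T := by
    rcases mem_interior_or_of_isLocallyConstructible (isGenericPoint_subtype hη hηU)
      (h𝒮 T hT) with h2 | h2
    · exact h2
    · exact absurd hηT (interior_subset h2)
  refine mem_interior_of_subtype hUo (x := ⟨η, hηU⟩) ?_
  rw [he]
  exact interior_mono (subset_sUnion_of_mem hT) h2

end Groth.Agent.Lib.ConsGenericPt
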