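import Groth.Prelude.Def_ProCons
import Mathlib.Topology.Spectral.ConstructibleTopology
import Mathlib.AlgebraicGeometry.Morphisms.FinitePresentation

/-!
Constructible topology toolkit (topological part) for pro-constructible and ind-constructible sets.
-/

set_option autoImplicit false

namespace Groth.Agent.Lib.ConsTop

open Topology Set

section TopologicalPart

variable {W : Type*} [TopologicalSpace W]

/-- The constructible topology on a compact space is compact (un-bundled form). -/
theorem compactSpace_constructibleTopology [CompactSpace W] [QuasiSober W] [PrespectralSpace W]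
    [QuasiSeparatedSpace W] : @CompactSpace W (constructibleTopology W) :=
  @Function.Surjective.compactSpace (WithConstructibleTopology W) W _ (constructibleTopology W)
    WithTopology.ofTopology (WithTopology.continuous_ofTopology _) inferInstance
    (WithTopology.ofTopology_surjective _)

/-- In a compact quasi-separated space, constructible sets are clopen for the constructible
topology. -/
theorem isClopen_constructibleTopology_of_isConstructible [CompactSpace W] [QuasiSeparatedSpace W]
    {s : Set W} (hs : IsConstructible s) :
    IsClosed[constructibleTopology W] s ∧ IsOpen[constructibleTopology W] s := by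
  induction hs using IsConstructible.empty_union_induction with
  | open_retrocompact U hUo hUc =>
    refine ⟨?_, hUc.isCompact.isOpen_constructibleTopology_of_isOpen hUo⟩
    rw [← @isOpen_compl_iff _ _ (constructibleTopology W)]
    exact IsCompact.isOpen_constructibleTopology_of_isClosed (by simpa using hUc.isCompact)
      hUo.isClosed_compl
  | union s hs t ht hs' ht' =>
    exact ⟨@IsClosed.union _ _ _ (constructibleTopology W) hs'.1 ht'.1,
      @IsOpen.union _ _ _ (constructibleTopology W) hs'.2 ht'.2⟩
  | compl s hs hs' =>
    exact ⟨(@isClosed_compl_iff _ (constructibleTopology W) _).mpr hs'.2,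
      (@isOpen_compl_iff _ _ (constructibleTopology W)).mpr hs'.1⟩

/-- Finite-subfamily property for constructible sets on a spectral-like space. -/
theorem exists_finset_iInter_eq_empty [CompactSpace W] [QuasiSober W] [PrespectralSpace W]
    [QuasiSeparatedSpace W] {ι : Type*} (t : ι → Set W) (ht : ∀ i, IsConstructible (t i))
    (h : ⋂ i, t i = ∅) : ∃ u : Finset ι, ⋂ i ∈ u, t i = ∅ := by
  have hc := compactSpace_constructibleTopology (W := W)
  have := @IsCompact.elim_finite_subfamily_closed W (constructibleTopology W) univ ι
    (@isCompact_univ _ (constructibleTopology W) hc) t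
    (fun i => (isClopen_constructibleTopology_of_isConstructible (ht i)).1) (by simpa using h)
  simpa using this

/-- Distinct points of a T0 prespectral quasi-separated space are separated by a constructible
set. -/
theorem exists_isConstructible_mem_not_mem [T0Space W] [PrespectralSpace W]
    [QuasiSeparatedSpace W] {z z' : W} (h : z ≠ z') :
    ∃ C : Set W, IsConstructible C ∧ z ∈ C ∧ z' ∉ C := by
  have hins : ¬ Inseparable z z' := fun hi => h hi.eq
  obtain ⟨s, hs, hx⟩ := not_inseparable_iff_exists_open.mp hins
  rcases hx with ⟨hz, hz'⟩ | ⟨hz', hz⟩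
  · obtain ⟨V, ⟨hVo, hVc⟩, hzV, hVs⟩ :=
      (PrespectralSpace.isTopologicalBasis (X := W)).exists_subset_of_mem_open hz hs
    exact ⟨V, hVc.isConstructible hVo, hzV, fun h' => hz' (hVs h')⟩
  · obtain ⟨V, ⟨hVo, hVc⟩, hzV, hVs⟩ :=
      (PrespectralSpace.isTopologicalBasis (X := W)).exists_subset_of_mem_open hz' hs
    exact ⟨Vᶜ, (hVc.isConstructible hVo).compl, fun h' => hz (hVs h'), fun h' => h' hzV⟩

/-- Key lemma: the image of an intersection of constructible sets under a map pulling back
constructible sets to constructible sets is an intersection of constructible sets. -/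
theorem exists_isConstructible_of_notMem_image {U : Type*} [TopologicalSpace U]
    [CompactSpace W] [QuasiSober W] [PrespectralSpace W] [QuasiSeparatedSpace W]
    [T0Space U] [PrespectralSpace U] [QuasiSeparatedSpace U]
    (g : W → U) (hg : ∀ C : Set U, IsConstructible C → IsConstructible (g ⁻¹' C))
    (S' : Set (Set W)) (hS' : ∀ T ∈ S', IsConstructible T) (z : U) (hz : z ∉ g '' ⋂₀ S') :
    ∃ C : Set U, IsConstructible C ∧ g '' ⋂₀ S' ⊆ C ∧ z ∉ C := by
  classical
  let ι := {C : Set U // IsConstructible C ∧ z ∈ C} ⊕ S'
  let t : ι → Set W := fun i => Sum.elim (fun C => g ⁻¹' C.1) (fun T => T.1) i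
  have ht : ∀ i, IsConstructible (t i) := by
    rintro (C | T)
    · exact hg _ C.2.1
    · exact hS' _ T.2
  have hempty : ⋂ i, t i = ∅ := by
    rw [Set.eq_empty_iff_forall_notMem]
    intro w hw
    rw [Set.mem_iInter] at hw
    have hwS : w ∈ ⋂₀ S' := fun T hT => hw (Sum.inr ⟨T, hT⟩)
    have hgw : g w = z := by
      by_contra hne
      obtain ⟨C, hC, hzC, hgwC⟩ := exists_isConstructible_mem_not_mem (Ne.symm hne)
      exact hgwC (hw (Sum.inl ⟨C, hC, hzC⟩))
    exact hz ⟨w, hwS, hgw⟩
  obtain ⟨u, hu⟩ := exists_finset_iInter_eq_empty t ht hempty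
  -- the finitely many constructible neighbourhoods of z involved
  let C₀ : Set U := ⋂ i ∈ u, Sum.elim (fun C => C.1) (fun _ => univ) i
  have hC₀ : IsConstructible C₀ := by
    refine IsConstructible.biInter u.finite_toSet ?_
    rintro (C | T) -
    · exact C.2.1
    · exact IsConstructible.univ
  have hzC₀ : z ∈ C₀ := by
    simp only [C₀, Set.mem_iInter]
    rintro (C | T) -
    · exact C.2.2
    · trivial
  refine ⟨C₀ᶜ, hC₀.compl, ?_, fun h' => h' hzC₀⟩
  rintro _ ⟨w, hw, rfl⟩ hgw
  have : w ∈ ⋂ i ∈ u, t i := by
    simp only [Set.mem_iInter]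
    rintro (C | T) hi
    · have := hgw
      simp only [C₀, Set.mem_iInter] at this
      exact this (Sum.inl C) hi
    · exact hw T.1 T.2
  rw [hu] at this
  exact this

end TopologicalPart

end Groth.Agent.Lib.ConsTop
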