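import Mathlib.CategoryTheory.Limits.Shapes.Pullback.HasPullback
import Mathlib.CategoryTheory.Limits.Final
import Mathlib.CategoryTheory.Filtered.Final
import Mathlib.CategoryTheory.Comma.Over.Basic

/-!
Base change of a cofiltered limit: if `c` is a limit cone of `D : I ⥤ C` (`I` cofiltered),
`i : I` and `a : T ⟶ D.obj i`, then `T ×_{D i} c.pt` is the limit of the `T ×_{D i} D j`
over `j : Over i`.
-/

set_option autoImplicit false
universe v u w

namespace Groth.Agent.Lib.LimPullback

open CategoryTheory Limits

variable {C : Type u} [Category.{v} C] [HasPullbacks C] {I : Type w} [Category.{w} I]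
  (D : I ⥤ C) (c : Cone D) (i : I) {T : C} (a : T ⟶ D.obj i)

/-- The transition map `T ×_{D i} D j ⟶ T ×_{D i} D k`. -/
noncomputable def pbMap {j k : Over i} (f : j ⟶ k) :
    pullback a (D.map j.hom) ⟶ pullback a (D.map k.hom) :=
  pullback.lift (pullback.fst a (D.map j.hom))
    (pullback.snd a (D.map j.hom) ≫ D.map f.left)
    (by rw [Category.assoc, ← D.map_comp, Over.w, pullback.condition])

@[reassoc (attr := simp)] theorem pbMap_fst {j k : Over i} (f : j ⟶ k) :
    pbMap D i a f ≫ pullback.fst a (D.map k.hom) = pullback.fst a (D.map j.hom) :=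
  pullback.lift_fst _ _ _

@[reassoc (attr := simp)] theorem pbMap_snd {j k : Over i} (f : j ⟶ k) :
    pbMap D i a f ≫ pullback.snd a (D.map k.hom)
      = pullback.snd a (D.map j.hom) ≫ D.map f.left :=
  pullback.lift_snd _ _ _

/-- The diagram `j ↦ T ×_{D i} D j` indexed by `Over i`. -/
noncomputable def pbDiagram : Over i ⥤ C where
  obj j := pullback a (D.map j.hom)
  map {j k} f := pbMap D i a f
  map_id j := by
    apply pullback.hom_ext
    · rw [pbMap_fst, Category.id_comp]
    · rw [pbMap_snd, Category.id_comp]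
      change _ ≫ D.map (𝟙 j.left) = _
      rw [D.map_id, Category.comp_id]
  map_comp f g := by
    apply pullback.hom_ext
    · rw [pbMap_fst, Category.assoc, pbMap_fst, pbMap_fst]
    · rw [pbMap_snd, Category.assoc, pbMap_snd, pbMap_snd_assoc, ← D.map_comp]
      rfl

theorem pbDiagram_obj (j : Over i) :
    (pbDiagram D i a).obj j = pullback a (D.map j.hom) := rfl

theorem pbDiagram_map {j k : Over i} (f : j ⟶ k) :
    (pbDiagram D i a).map f = pbMap D i a f := rfl

/-- The projection `T ×_{D i} c.pt ⟶ T ×_{D i} D j`. -/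
noncomputable def pbProj (j : Over i) : pullback a (c.π.app i) ⟶ pullback a (D.map j.hom) :=
  pullback.lift (pullback.fst a (c.π.app i))
    (pullback.snd a (c.π.app i) ≫ c.π.app j.left)
    (by rw [Category.assoc, c.w, pullback.condition])

@[reassoc (attr := simp)] theorem pbProj_fst (j : Over i) :
    pbProj D c i a j ≫ pullback.fst a (D.map j.hom) = pullback.fst a (c.π.app i) :=
  pullback.lift_fst _ _ _

@[reassoc (attr := simp)] theorem pbProj_snd (j : Over i) :
    pbProj D c i a j ≫ pullback.snd a (D.map j.hom)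
      = pullback.snd a (c.π.app i) ≫ c.π.app j.left :=
  pullback.lift_snd _ _ _

theorem pbProj_pbMap {j k : Over i} (f : j ⟶ k) :
    pbProj D c i a j ≫ pbMap D i a f = pbProj D c i a k := by
  apply pullback.hom_ext
  · rw [Category.assoc, pbMap_fst, pbProj_fst, pbProj_fst]
  · rw [Category.assoc, pbMap_snd, pbProj_snd_assoc, pbProj_snd, c.w]

/-- The cone with point `T ×_{D i} c.pt`. -/
noncomputable def pbCone : Cone (pbDiagram D i a) where
  pt := pullback a (c.π.app i)
  π :=
  { app j := pbProj D c i a j
    naturality j k f := by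
      change 𝟙 _ ≫ pbProj D c i a k = pbProj D c i a j ≫ pbMap D i a f
      rw [Category.id_comp, pbProj_pbMap] }

theorem pbCone_pt : (pbCone D c i a).pt = pullback a (c.π.app i) := rfl

theorem pbCone_π_app (j : Over i) : (pbCone D c i a).π.app j = pbProj D c i a j := rfl

/-- Universal property, unbundled: a compatible family of maps into the `T ×_{D i} D j`. -/
structure Family (W : C) where
  /-- the maps -/
  app : ∀ j : Over i, W ⟶ pullback a (D.map j.hom)
  w : ∀ {j k : Over i} (f : j ⟶ k), app j ≫ pbMap D i a f = app k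

variable {D c i a}

/-- The family of a cone over `pbDiagram`. -/
noncomputable def Family.ofCone (s : Cone (pbDiagram D i a)) : Family D i a s.pt where
  app j := s.π.app j
  w f := s.w f

/-- The induced cone over `Over.forget i ⋙ D`. -/
noncomputable def Family.toCone {W : C} (F : Family D i a W) : Cone (Over.forget i ⋙ D) where
  pt := W
  π :=
  { app j := F.app j ≫ pullback.snd a (D.map j.hom)
    naturality j k f := by
      change 𝟙 _ ≫ F.app k ≫ pullback.snd a (D.map k.hom)
        = (F.app j ≫ pullback.snd a (D.map j.hom)) ≫ D.map f.left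
      rw [Category.id_comp, ← F.w f, Category.assoc, Category.assoc, pbMap_snd] }

theorem Family.app_fst {W : C} (F : Family D i a W) (j : Over i) :
    F.app j ≫ pullback.fst a (D.map j.hom)
      = F.app (Over.mk (𝟙 i)) ≫ pullback.fst a (D.map (Over.mk (𝟙 i)).hom) := by
  have := F.w (Over.homMk j.hom : j ⟶ Over.mk (𝟙 i))
  rw [← this, Category.assoc]
  congr 1
  exact (pbMap_fst D i a (Over.homMk j.hom : j ⟶ Over.mk (𝟙 i))).symm

section

variable [IsCofiltered I] (hc : IsLimit c)

/-- The whiskered limit cone. -/
noncomputable def isLimitWhisker : IsLimit (c.whisker (Over.forget i)) :=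
  (Functor.Initial.isLimitWhiskerEquiv (Over.forget i) c).symm hc

/-- The map to the limit induced by a family. -/
noncomputable def Family.toPt {W : C} (F : Family D i a W) : W ⟶ c.pt :=
  (isLimitWhisker hc).lift F.toCone

theorem Family.toPt_π {W : C} (F : Family D i a W) (j : Over i) :
    F.toPt hc ≫ c.π.app j.left = F.app j ≫ pullback.snd a (D.map j.hom) :=
  (isLimitWhisker hc).fac F.toCone j

/-- The induced map into `T ×_{D i} c.pt`. -/
noncomputable def Family.lift {W : C} (F : Family D i a W) : W ⟶ pullback a (c.π.app i) :=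
  pullback.lift (F.app (Over.mk (𝟙 i)) ≫ pullback.fst a (D.map (Over.mk (𝟙 i)).hom))
    (F.toPt hc) (by
    have h1 : F.toPt hc ≫ c.π.app i
        = F.app (Over.mk (𝟙 i)) ≫ pullback.snd a (D.map (Over.mk (𝟙 i)).hom) :=
      F.toPt_π hc (Over.mk (𝟙 i))
    have h2 : D.map (Over.mk (𝟙 i)).hom = 𝟙 _ := D.map_id i
    calc (F.app (Over.mk (𝟙 i)) ≫ pullback.fst a (D.map (Over.mk (𝟙 i)).hom)) ≫ a
        = F.app (Over.mk (𝟙 i)) ≫ pullback.snd a (D.map (Over.mk (𝟙 i)).hom)
            ≫ D.map (Over.mk (𝟙 i)).hom := by rw [Category.assoc, pullback.condition]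
      _ = F.app (Over.mk (𝟙 i)) ≫ pullback.snd a (D.map (Over.mk (𝟙 i)).hom) := by
          congr 1
          exact (congrArg (fun t => pullback.snd a (D.map (Over.mk (𝟙 i)).hom) ≫ t) h2).trans
            (Category.comp_id _)
      _ = F.toPt hc ≫ c.π.app i := h1.symm)

theorem Family.lift_proj {W : C} (F : Family D i a W) (j : Over i) :
    F.lift hc ≫ pbProj D c i a j = F.app j := by
  apply pullback.hom_ext
  · rw [Category.assoc, pbProj_fst, Family.lift, pullback.lift_fst, F.app_fst j]
  · rw [Category.assoc, pbProj_snd, Family.lift, pullback.lift_snd_assoc, F.toPt_π hc j]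

theorem Family.lift_uniq {W : C} (F : Family D i a W) (m : W ⟶ pullback a (c.π.app i))
    (hm : ∀ j, m ≫ pbProj D c i a j = F.app j) : m = F.lift hc := by
  apply pullback.hom_ext
  · rw [Family.lift, pullback.lift_fst, ← hm (Over.mk (𝟙 i)), Category.assoc, pbProj_fst]
  · rw [Family.lift, pullback.lift_snd]
    apply (isLimitWhisker (i := i) hc).hom_ext
    intro (j : Over i)
    change (m ≫ pullback.snd a (c.π.app i)) ≫ c.π.app j.left = F.toPt hc ≫ c.π.app j.left
    rw [F.toPt_π hc j, ← hm j, Category.assoc, Category.assoc, pbProj_snd]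

/-- The cone `pbCone` is a limit cone. -/
noncomputable def isLimitPbCone : IsLimit (pbCone D c i a) where
  lift s := (Family.ofCone s).lift hc
  fac s j := (Family.ofCone s).lift_proj hc j
  uniq s m hm := (Family.ofCone s).lift_uniq hc m hm

end

end Groth.Agent.Lib.LimPullback
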