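import Mathlib.AlgebraicGeometry.AffineTransitionLimit
import Groth.Agent.Lib.LimPullback

/-!
# Descent of properties of morphisms through cofiltered limits with affine transition maps
(EGA IV 8.10.5 style).  Setting: `D : I ⥤ Scheme` cofiltered with affine transition maps and limit
cone `c`; `i₀ : I`; `f₀ : X₀ ⟶ Y₀`, `g₀ : Y₀ ⟶ D.obj i₀`.  The stage morphisms are
`stageMap D f₀ g₀ φ : pullback (f₀ ≫ g₀) (D.map φ) ⟶ pullback g₀ (D.map φ)` and the limit morphism is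
`limMap c f₀ g₀ : pullback (f₀ ≫ g₀) (c.π.app i₀) ⟶ pullback g₀ (c.π.app i₀)`.
-/

set_option autoImplicit false
universe u

open CategoryTheory Limits AlgebraicGeometry

namespace Groth.Agent.Lib.LimDescent

open Groth.Agent.Lib.LimPullback

section General

variable {I : Type u} [Category.{u} I] (D : I ⥤ Scheme.{u}) (c : Cone D)

section pb

variable (i : I) {T : Scheme.{u}} (a : T ⟶ D.obj i)

theorem isPullback_pbMap {j k : Over i} (f : j ⟶ k) :
    IsPullback (pbMap D i a f) (pullback.snd a (D.map j.hom)) (pullback.snd a (D.map k.hom))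
      (D.map f.left) := by
  have h1 : IsPullback (pullback.fst a (D.map j.hom)) (pullback.snd a (D.map j.hom)) a
      (D.map j.hom) := IsPullback.of_hasPullback _ _
  have h2 : IsPullback (pullback.fst a (D.map k.hom)) (pullback.snd a (D.map k.hom)) a
      (D.map k.hom) := IsPullback.of_hasPullback _ _
  have e : D.map f.left ≫ D.map k.hom = D.map j.hom := by rw [← D.map_comp, Over.w]
  refine IsPullback.of_right ?_ (pbMap_snd D i a f) h2
  rw [pbMap_fst, e]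
  exact h1

theorem isPullback_pbProj (j : Over i) :
    IsPullback (pbProj D c i a j) (pullback.snd a (c.π.app i)) (pullback.snd a (D.map j.hom))
      (c.π.app j.left) := by
  have h1 : IsPullback (pullback.fst a (c.π.app i)) (pullback.snd a (c.π.app i)) a
      (c.π.app i) := IsPullback.of_hasPullback _ _
  have h2 : IsPullback (pullback.fst a (D.map j.hom)) (pullback.snd a (D.map j.hom)) a
      (D.map j.hom) := IsPullback.of_hasPullback _ _
  have e : c.π.app j.left ≫ D.map j.hom = c.π.app i := c.w j.hom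
  refine IsPullback.of_right ?_ (pbProj_snd D c i a j) h2
  rw [pbProj_fst, e]
  exact h1

instance isAffineHom_pbMap [∀ {i j} (f : i ⟶ j), IsAffineHom (D.map f)] {j k : Over i}
    (f : j ⟶ k) : IsAffineHom (pbMap D i a f) :=
  MorphismProperty.of_isPullback (isPullback_pbMap D i a f).flip inferInstance

instance isAffineHom_pbDiagram_map [∀ {i j} (f : i ⟶ j), IsAffineHom (D.map f)] {j k : Over i}
    (f : j ⟶ k) : IsAffineHom ((pbDiagram D i a).map f) :=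
  isAffineHom_pbMap D i a f

instance isAffineHom_pullback_fst [∀ {i j} (f : i ⟶ j), IsAffineHom (D.map f)] (j : Over i) :
    IsAffineHom (pullback.fst a (D.map j.hom)) :=
  MorphismProperty.pullback_fst _ _ inferInstance

theorem compactSpace_pb [∀ {i j} (f : i ⟶ j), IsAffineHom (D.map f)] [CompactSpace T]
    (j : Over i) : CompactSpace ↥(pullback a (D.map j.hom)) :=
  QuasiCompact.compactSpace_of_compactSpace (pullback.fst a (D.map j.hom))

theorem quasiSeparatedSpace_pb [∀ {i j} (f : i ⟶ j), IsAffineHom (D.map f)]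
    [QuasiSeparatedSpace T] (j : Over i) : QuasiSeparatedSpace ↥(pullback a (D.map j.hom)) :=
  quasiSeparatedSpace_of_quasiSeparated (pullback.fst a (D.map j.hom))

instance compactSpace_pbDiagram_obj [∀ {i j} (f : i ⟶ j), IsAffineHom (D.map f)] [CompactSpace T]
    (j : Over i) : CompactSpace ↥((pbDiagram D i a).obj j) := compactSpace_pb D i a j

instance quasiSeparatedSpace_pbDiagram_obj [∀ {i j} (f : i ⟶ j), IsAffineHom (D.map f)]
    [QuasiSeparatedSpace T] (j : Over i) : QuasiSeparatedSpace ↥((pbDiagram D i a).obj j) :=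
  quasiSeparatedSpace_pb D i a j

end pb

section stage

variable {X₀ Y₀ B : Scheme.{u}} (f₀ : X₀ ⟶ Y₀) (g₀ : Y₀ ⟶ B)

/-- The base change of `f₀` (viewed over `B`) along `b : B' ⟶ B`. -/
noncomputable def bcMap {B' : Scheme.{u}} (b : B' ⟶ B) :
    pullback (f₀ ≫ g₀) b ⟶ pullback g₀ b :=
  pullback.lift (pullback.fst (f₀ ≫ g₀) b ≫ f₀) (pullback.snd (f₀ ≫ g₀) b)
    (by rw [Category.assoc, pullback.condition])

@[reassoc (attr := simp)]
theorem bcMap_fst {B' : Scheme.{u}} (b : B' ⟶ B) :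
    bcMap f₀ g₀ b ≫ pullback.fst g₀ b = pullback.fst (f₀ ≫ g₀) b ≫ f₀ :=
  pullback.lift_fst _ _ _

@[reassoc (attr := simp)]
theorem bcMap_snd {B' : Scheme.{u}} (b : B' ⟶ B) :
    bcMap f₀ g₀ b ≫ pullback.snd g₀ b = pullback.snd (f₀ ≫ g₀) b :=
  pullback.lift_snd _ _ _

theorem isPullback_bcMap {B' : Scheme.{u}} (b : B' ⟶ B) :
    IsPullback (pullback.fst (f₀ ≫ g₀) b) (bcMap f₀ g₀ b) f₀ (pullback.fst g₀ b) := by
  refine IsPullback.of_bot ?_ (bcMap_fst f₀ g₀ b).symm (IsPullback.of_hasPullback g₀ b)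
  rw [bcMap_snd]
  exact IsPullback.of_hasPullback (f₀ ≫ g₀) b

/-- If `Y = Y₀ ×_B B'` and `X = X₀ ×_{Y₀} Y`, then `f : X ⟶ Y` is isomorphic (as an arrow) to
`bcMap f₀ g₀ b`. -/
theorem exists_arrow_iso {B' X Y : Scheme.{u}} (b : B' ⟶ B) (f : X ⟶ Y) (g : Y ⟶ B')
    (qY : Y ⟶ Y₀) (qX : X ⟶ X₀) (hY : IsPullback qY g g₀ b) (hX : IsPullback qX f f₀ qY) :
    ∃ (eX : X ≅ pullback (f₀ ≫ g₀) b) (eY : Y ≅ pullback g₀ b),
      eX.hom ≫ bcMap f₀ g₀ b = f ≫ eY.hom ∧ eX.hom ≫ pullback.fst _ _ = qX ∧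
      eY.hom ≫ pullback.fst _ _ = qY ∧ eY.hom ≫ pullback.snd _ _ = g := by
  have hbig : IsPullback qX (f ≫ g) (f₀ ≫ g₀) b := hX.paste_vert hY
  refine ⟨hbig.isoPullback, hY.isoPullback, ?_, hbig.isoPullback_hom_fst, hY.isoPullback_hom_fst,
    hY.isoPullback_hom_snd⟩
  apply pullback.hom_ext
  · rw [Category.assoc, bcMap_fst, hbig.isoPullback_hom_fst_assoc, Category.assoc,
      hY.isoPullback_hom_fst, hX.w]
  · rw [Category.assoc, bcMap_snd, hbig.isoPullback_hom_snd, Category.assoc,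
      hY.isoPullback_hom_snd]

end stage

/-- Packaging: from a property of a stage map to the conclusion in the shape used by the
EGA IV 8.10.5 statements. -/
theorem conclude (P : MorphismProperty Scheme.{u}) {i₀ : I} {X₀ Y₀ : Scheme.{u}} (f₀ : X₀ ⟶ Y₀)
    (g₀ : Y₀ ⟶ D.obj i₀) (j : Over i₀) (h : P (bcMap f₀ g₀ (D.map j.hom))) :
    ∃ (i : I) (φ : i ⟶ i₀) (Xi Yi : Scheme.{u}) (fi : Xi ⟶ Yi) (gi : Yi ⟶ D.obj i) (pY : Yi ⟶ Y₀)
      (pX : Xi ⟶ X₀), IsPullback pY gi g₀ (D.map φ) ∧ IsPullback pX fi f₀ pY ∧ P fi :=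
  ⟨j.left, j.hom, _, _, bcMap f₀ g₀ (D.map j.hom), pullback.snd _ _, pullback.fst _ _,
    pullback.fst _ _, IsPullback.of_hasPullback _ _, isPullback_bcMap f₀ g₀ _, h⟩

/-- Transport of a property of `f` to the limit map `bcMap f₀ g₀ (c.π.app i₀)`. -/
theorem limMap_of (P : MorphismProperty Scheme.{u}) [P.RespectsIso] {i₀ : I} {X₀ Y₀ : Scheme.{u}}
    (f₀ : X₀ ⟶ Y₀) (g₀ : Y₀ ⟶ D.obj i₀) {X Y : Scheme.{u}} (f : X ⟶ Y) (g : Y ⟶ c.pt)
    (qY : Y ⟶ Y₀) (qX : X ⟶ X₀) (hY : IsPullback qY g g₀ (c.π.app i₀))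
    (hX : IsPullback qX f f₀ qY) (hf : P f) : P (bcMap f₀ g₀ (c.π.app i₀)) := by
  obtain ⟨eX, eY, h, -⟩ := exists_arrow_iso f₀ g₀ (c.π.app i₀) f g qY qX hY hX
  have : bcMap f₀ g₀ (c.π.app i₀) = eX.inv ≫ f ≫ eY.hom := by
    rw [← h, Iso.inv_hom_id_assoc]
  rw [this]
  exact (P.cancel_left_of_respectsIso _ _).mpr ((P.cancel_right_of_respectsIso _ _).mpr hf)

section opens

/-- The preimage of an open `U ⊆ X₀` in `X₀ ×_B B'` is `U ×_B B'`. -/
noncomputable def isoPreimage {X₀ B B' : Scheme.{u}} (a : X₀ ⟶ B) (b : B' ⟶ B) (U : X₀.Opens) :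
    pullback (U.ι ≫ a) b ≅ ↑((pullback.fst a b) ⁻¹ᵁ U) :=
  (pullbackRightPullbackFstIso a b U.ι).symm ≪≫ pullbackSymmetry _ _ ≪≫
    pullbackRestrictIsoRestrict (pullback.fst a b) U

variable [IsCofiltered I] (hc : IsLimit c) [∀ {i j} (f : i ⟶ j), IsAffineHom (D.map f)]

include hc in
/-- A scheme property `Q` that descends along limits of qcqs schemes with affine transition maps and
is inherited by sources of affine morphisms: if it holds for the preimages of finitely many qcqs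
opens of `X₀` in the limit `X₀ ×_{D i₀} lim D`, it holds for the preimages at some stage. -/
theorem exists_stage_forall_preimage (Q : Scheme.{u} → Prop)
    (hQiso : ∀ {X Y : Scheme.{u}} (_ : X ≅ Y), Q X → Q Y)
    (hQaff : ∀ {X Y : Scheme.{u}} (f : X ⟶ Y) [IsAffineHom f], Q Y → Q X)
    (hQlim : ∀ {J : Type u} [SmallCategory J] [IsCofiltered J] (E : J ⥤ Scheme.{u}) (cE : Cone E)
      (_ : IsLimit cE) [∀ {i j} (f : i ⟶ j), IsAffineHom (E.map f)]
      [∀ j, CompactSpace (E.obj j)] [∀ j, QuasiSeparatedSpace (E.obj j)], Q cE.pt → ∃ j, Q (E.obj j))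
    {i₀ : I} {X₀ : Scheme.{u}} (a : X₀ ⟶ D.obj i₀) (s : Set X₀.Opens) (hs : s.Finite)
    (hqc : ∀ U ∈ s, CompactSpace ↥(U.toScheme)) (hqs : ∀ U ∈ s, QuasiSeparatedSpace ↥(U.toScheme))
    (h : ∀ U ∈ s, Q ↑((pullback.fst a (c.π.app i₀)) ⁻¹ᵁ U)) :
    ∃ j : Over i₀, ∀ U ∈ s, Q ↑((pullback.fst a (D.map j.hom)) ⁻¹ᵁ U) := by
  classical
  have key : ∀ U ∈ s, ∃ j : Over i₀, Q (pullback (U.ι ≫ a) (D.map j.hom)) := by
    intro U hU
    haveI := hqc U hU
    haveI := hqs U hU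
    have hlim : Q (pbCone D c i₀ (U.ι ≫ a)).pt := hQiso (isoPreimage a (c.π.app i₀) U).symm (h U hU)
    obtain ⟨j, hj⟩ := hQlim (pbDiagram D i₀ (U.ι ≫ a)) (pbCone D c i₀ (U.ι ≫ a))
      (isLimitPbCone hc) hlim
    exact ⟨j, hj⟩
  haveI : Nonempty (Over i₀) := ⟨Over.mk (𝟙 i₀)⟩
  choose! j hj using key
  obtain ⟨j', hj'⟩ := IsCofiltered.inf_objs_exists (hs.toFinset.image j)
  refine ⟨j', fun U hU => ?_⟩
  have hmem : j U ∈ hs.toFinset.image j :=
    Finset.mem_image_of_mem j (hs.mem_toFinset.mpr hU)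
  obtain ⟨m⟩ := hj' hmem
  refine hQiso (isoPreimage a (D.map j'.hom) U) ?_
  exact hQaff (pbMap D i₀ (U.ι ≫ a) m) (hj U hU)

end opens

section affine

variable [IsCofiltered I] (hc : IsLimit c) [∀ {i j} (f : i ⟶ j), IsAffineHom (D.map f)]

include hc in
/-- Common part of the affine / quasi-affine cases: a finite affine cover of `Y₀`, and a stage at
which the preimages of the members in `X_j` satisfy `Q`. -/
theorem exists_stage_forall_affine_preimage (Q : Scheme.{u} → Prop)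
    (hQiso : ∀ {X Y : Scheme.{u}} (_ : X ≅ Y), Q X → Q Y)
    (hQaff : ∀ {X Y : Scheme.{u}} (f : X ⟶ Y) [IsAffineHom f], Q Y → Q X)
    (hQlim : ∀ {J : Type u} [SmallCategory J] [IsCofiltered J] (E : J ⥤ Scheme.{u}) (cE : Cone E)
      (_ : IsLimit cE) [∀ {i j} (f : i ⟶ j), IsAffineHom (E.map f)]
      [∀ j, CompactSpace (E.obj j)] [∀ j, QuasiSeparatedSpace (E.obj j)], Q cE.pt → ∃ j, Q (E.obj j))
    {i₀ : I} [CompactSpace (D.obj i₀)] [QuasiSeparatedSpace (D.obj i₀)]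
    {X₀ Y₀ : Scheme.{u}} (f₀ : X₀ ⟶ Y₀) (g₀ : Y₀ ⟶ D.obj i₀) [QuasiCompact g₀] [QuasiSeparated g₀]
    [QuasiCompact (f₀ ≫ g₀)] [QuasiSeparated (f₀ ≫ g₀)]
    (h : ∀ V : Y₀.Opens, IsAffineOpen V →
      Q ↑((bcMap f₀ g₀ (c.π.app i₀)) ⁻¹ᵁ ((pullback.fst g₀ (c.π.app i₀)) ⁻¹ᵁ V))) :
    ∃ (t : Set Y₀.affineOpens) (j : Over i₀), t.Finite ∧ (⊤ : Y₀.Opens) = ⨆ V ∈ t, (V : Y₀.Opens) ∧
      ∀ V ∈ t, Q ↑((bcMap f₀ g₀ (D.map j.hom)) ⁻¹ᵁ ((pullback.fst g₀ (D.map j.hom)) ⁻¹ᵁ V.1)) := by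
  haveI : CompactSpace Y₀ := QuasiCompact.compactSpace_of_compactSpace g₀
  haveI : QuasiSeparatedSpace Y₀ := quasiSeparatedSpace_of_quasiSeparated g₀
  haveI : QuasiSeparatedSpace X₀ := quasiSeparatedSpace_of_quasiSeparated (f₀ ≫ g₀)
  haveI : QuasiCompact f₀ := QuasiCompact.of_comp f₀ g₀
  obtain ⟨t, ht, htop⟩ := isCompact_iff_finite_and_eq_biUnion_affineOpens.mp
    (show IsCompact ((⊤ : Y₀.Opens) : Set Y₀) from isCompact_univ)
  let s : Set X₀.Opens := (fun V : Y₀.affineOpens => f₀ ⁻¹ᵁ V.1) '' t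
  have hs : s.Finite := ht.image _
  obtain ⟨j, hj⟩ := exists_stage_forall_preimage D c hc Q hQiso hQaff hQlim (f₀ ≫ g₀) s hs
    (by
      rintro _ ⟨V, -, rfl⟩
      exact isCompact_iff_compactSpace.mp
        (QuasiCompact.isCompact_preimage (f := f₀) _ V.1.2 V.2.isCompact))
    (by
      rintro _ ⟨V, -, rfl⟩
      exact quasiSeparatedSpace_of_quasiSeparated (f₀ ⁻¹ᵁ V.1).ι)
    (by
      rintro _ ⟨V, -, rfl⟩
      have := h V.1 V.2
      rwa [← Scheme.Hom.comp_preimage, bcMap_fst, Scheme.Hom.comp_preimage] at this)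
  refine ⟨t, j, ht, htop, fun V hV => ?_⟩
  have := hj _ ⟨V, hV, rfl⟩
  rwa [← Scheme.Hom.comp_preimage, ← bcMap_fst, Scheme.Hom.comp_preimage] at this

include hc in
theorem exists_isAffineHom_stage {i₀ : I} [CompactSpace (D.obj i₀)]
    [QuasiSeparatedSpace (D.obj i₀)]
    {X₀ Y₀ : Scheme.{u}} (f₀ : X₀ ⟶ Y₀) (g₀ : Y₀ ⟶ D.obj i₀) [QuasiCompact g₀] [QuasiSeparated g₀]
    [QuasiCompact (f₀ ≫ g₀)] [QuasiSeparated (f₀ ≫ g₀)]
    (h : IsAffineHom (bcMap f₀ g₀ (c.π.app i₀))) :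
    ∃ j : Over i₀, IsAffineHom (bcMap f₀ g₀ (D.map j.hom)) := by
  haveI := isAffineHom_π_app D c hc i₀
  haveI : IsAffineHom (pullback.fst g₀ (c.π.app i₀)) :=
    MorphismProperty.pullback_fst _ _ inferInstance
  obtain ⟨t, j, ht, htop, hj⟩ := exists_stage_forall_affine_preimage D c hc (fun X => IsAffine X)
    (fun e hX => by haveI := hX; exact .of_isIso e.inv)
    (fun f _ hY => by haveI := hY; exact isAffine_of_isAffineHom f)
    (fun E cE hcE _ _ _ hpt => by haveI := hpt; exact Scheme.exists_isAffine_of_isLimit E cE hcE)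
    f₀ g₀
    (fun V hV => (hV.preimage (pullback.fst g₀ (c.π.app i₀))).preimage _)
  refine ⟨j, ?_⟩
  refine (HasAffineProperty.iff_of_iSup_eq_top (P := @IsAffineHom)
    (fun V : t => ⟨(pullback.fst g₀ (D.map j.hom)) ⁻¹ᵁ V.1.1,
      V.1.2.preimage (pullback.fst g₀ (D.map j.hom))⟩) ?_).mpr (fun V => hj V.1 V.2)
  rw [eq_top_iff]
  intro x _
  have hx : (pullback.fst g₀ (D.map j.hom)).base x ∈ (⊤ : Y₀.Opens) := trivial
  rw [htop] at hx
  simp only [TopologicalSpace.Opens.mem_iSup] at hx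
  obtain ⟨V, hV, hxV⟩ := hx
  exact TopologicalSpace.Opens.mem_iSup.mpr ⟨⟨V, hV⟩, hxV⟩

end affine

end General

end Groth.Agent.Lib.LimDescent
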