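import Groth.Agent.Lib.ConsLocusGen
import Groth.Agent.Lib.ConsTop
import Groth.Agent.Lib.LimConstructible
import Groth.Agent.Lib.LimDescent

/-!
# Ind-constructible subsets and cofiltered limits (EGA IV 8.3.4-type, helper62)

`exists_stage_forall_mem`: `c` a limit of a cofiltered diagram `D` of schemes with affine transition
maps, `D.obj i₀` quasi-compact, `E₀ ⊆ D.obj i₀` such that on every affine open `U` the set `E₀ ∩ U`
is a union of constructible subsets of `U`.  If the preimage of `E₀` in `c.pt` is everything, then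
already the preimage of `E₀` in some `D.obj j` is everything.
-/

set_option autoImplicit false
universe u

open CategoryTheory Limits AlgebraicGeometry Topology TopologicalSpace

namespace Groth.Agent.Lib.ConsLocusLim

open Groth.Agent.Lib.ConsLocusGen Groth.Agent.Lib.LimPullback Groth.Agent.Lib.LimDescent

variable {I : Type u} [Category.{u} I] [IsCofiltered I] (D : I ⥤ Scheme.{u}) (c : Cone D)
  (hc : IsLimit c) [∀ {i j : I} (f : i ⟶ j), IsAffineHom (D.map f)]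

include hc in
/-- Affine-local step. -/
theorem exists_stage_of_affine {i₀ : I} (U : (D.obj i₀).Opens) (hU : IsAffineOpen U)
    (E₀ : Set (D.obj i₀)) (hE : IsUnionCons (U.ι ⁻¹' E₀)) (h : ∀ s : c.pt, c.π.app i₀ s ∈ E₀) :
    ∃ (j : I) (φ : j ⟶ i₀), ∀ t : D.obj j, D.map φ t ∈ U → D.map φ t ∈ E₀ := by
  haveI : IsAffine U.toScheme := hU
  haveI := isAffineHom_π_app D c hc i₀
  haveI : IsAffine (pullback U.ι (c.π.app i₀)) := inferInstance
  obtain ⟨𝒮, h𝒮, he⟩ := hE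
  let p : pullback U.ι (c.π.app i₀) ⟶ U.toScheme := pullback.fst _ _
  have hp : ∀ w, U.ι (p w) ∈ E₀ := by
    intro w
    have e : U.ι (p w) = c.π.app i₀ (pullback.snd U.ι (c.π.app i₀) w) := by
      rw [← Scheme.Hom.comp_apply, ← Scheme.Hom.comp_apply, pullback.condition]
    rw [e]
    exact h _
  have hcover : ⋂ T : 𝒮, (p ⁻¹' T.1)ᶜ = ∅ := by
    rw [Set.eq_empty_iff_forall_notMem]
    intro w hw
    rw [Set.mem_iInter] at hw
    have h1 : p w ∈ U.ι ⁻¹' E₀ := hp w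
    rw [he] at h1
    obtain ⟨T, hT, hwT⟩ := h1
    exact hw ⟨T, hT⟩ hwT
  obtain ⟨u, hu⟩ := Groth.Agent.Lib.ConsTop.exists_finset_iInter_eq_empty
    (W := ↥(pullback U.ι (c.π.app i₀))) (fun T : 𝒮 => (p ⁻¹' T.1)ᶜ)
    (fun T => (p.isConstructible_preimage (h𝒮 T.1 T.2)).compl) hcover
  let C : Set U.toScheme := ⋃ T ∈ u, T.1
  have hC : IsConstructible C :=
    IsConstructible.biUnion u.finite_toSet (fun T _ => h𝒮 T.1 T.2)
  have hCE : C ⊆ U.ι ⁻¹' E₀ := by
    intro x hx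
    simp only [C, Set.mem_iUnion] at hx
    obtain ⟨T, -, hxT⟩ := hx
    rw [he]
    exact ⟨T.1, T.2, hxT⟩
  have hpC : ∀ w, p w ∈ C := by
    intro w
    by_contra hw
    have : w ∈ ⋂ T ∈ u, (p ⁻¹' (T : 𝒮).1)ᶜ := by
      simp only [Set.mem_iInter]
      intro T hT hwT
      exact hw (Set.mem_biUnion hT hwT)
    rw [hu] at this
    exact this
  -- the restricted system
  let i' : Over i₀ := Over.mk (𝟙 i₀)
  let q : (pbDiagram D i₀ U.ι).obj i' ⟶ U.toScheme := pullback.fst U.ι (D.map i'.hom)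
  haveI : IsAffine ((pbDiagram D i₀ U.ι).obj i') :=
    (inferInstance : IsAffine (pullback U.ι (D.map i'.hom)))
  have H : ((pbCone D c i₀ U.ι).π.app i') ⁻¹'
      (((⊤ : ((pbDiagram D i₀ U.ι).obj i').Opens) : Set _) ∩ (q ⁻¹' Cᶜ)) ⊆
      ((pbCone D c i₀ U.ι).π.app i') ⁻¹'
        ((⊥ : ((pbDiagram D i₀ U.ι).obj i').Opens) : Set _) := by
    rintro w ⟨-, hw⟩
    exfalso
    apply hw
    have e : ∀ w' : ↥(pullback U.ι (c.π.app i₀)),
        (pullback.fst U.ι (D.map i'.hom)) ((pbProj D c i₀ U.ι i') w') = p w' := fun w' => by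
      rw [← Scheme.Hom.comp_apply, pbProj_fst]
    have e' : q ((pbCone D c i₀ U.ι).π.app i' w) = p w := e w
    rw [e']
    exact hpC w
  obtain ⟨j', φ', hj'⟩ := Groth.Agent.Lib.LimConstructible.exists_map_preimage_inter_subset
    (pbDiagram D i₀ U.ι) (pbCone D c i₀ U.ι) (isLimitPbCone hc) (q ⁻¹' Cᶜ)
    (q.isConstructible_preimage hC.compl) ⊤ (by simpa using isCompact_univ) ⊥ H
  refine ⟨j'.left, j'.hom, fun t ht => ?_⟩
  have hr : t ∈ Set.range (pullback.snd U.ι (D.map j'.hom)) := by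
    rw [IsOpenImmersion.range_pullbackSnd]
    change D.map j'.hom t ∈ U.ι.opensRange
    rw [Scheme.Opens.opensRange_ι]
    exact ht
  obtain ⟨t', rfl⟩ := hr
  have h1 : pullback.fst U.ι (D.map j'.hom) t' ∈ C := by
    by_contra hcon
    have h2 : t' ∈ ((pbDiagram D i₀ U.ι).map φ') ⁻¹'
        (((⊤ : ((pbDiagram D i₀ U.ι).obj i').Opens) : Set _) ∩ (q ⁻¹' Cᶜ)) := by
      refine ⟨trivial, ?_⟩
      have e : (pullback.fst U.ι (D.map i'.hom)) ((pbMap D i₀ U.ι φ') t') =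
          pullback.fst U.ι (D.map j'.hom) t' := by
        rw [← Scheme.Hom.comp_apply, pbMap_fst]
      have e' : q ((pbDiagram D i₀ U.ι).map φ' t') = pullback.fst U.ι (D.map j'.hom) t' := e
      change q ((pbDiagram D i₀ U.ι).map φ' t') ∈ Cᶜ
      rw [e']
      exact hcon
    exact hj' h2
  have h3 := hCE h1
  have e : D.map j'.hom (pullback.snd U.ι (D.map j'.hom) t') =
      U.ι (pullback.fst U.ι (D.map j'.hom) t') := by
    rw [← Scheme.Hom.comp_apply, ← Scheme.Hom.comp_apply, pullback.condition]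
  rw [e]
  exact h3

include hc in
/-- EGA IV 8.3.4 for ind-constructible sets: if the preimage of `E₀` in the limit is everything,
so is its preimage at some stage. -/
theorem exists_stage_forall_mem {i₀ : I} [CompactSpace (D.obj i₀)] (E₀ : Set (D.obj i₀))
    (hE : ∀ U : (D.obj i₀).Opens, IsAffineOpen U → IsUnionCons (U.ι ⁻¹' E₀))
    (h : ∀ s : c.pt, c.π.app i₀ s ∈ E₀) :
    ∃ (j : I) (φ : j ⟶ i₀), ∀ t : D.obj j, D.map φ t ∈ E₀ := by
  -- the property of opens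
  let Q : (D.obj i₀).Opens → Prop := fun U =>
    ∃ (j : I) (φ : j ⟶ i₀), ∀ t : D.obj j, D.map φ t ∈ U → D.map φ t ∈ E₀
  have hQsup : ∀ U₁ U₂, Q U₁ → Q U₂ → Q (U₁ ⊔ U₂) := by
    rintro U₁ U₂ ⟨j₁, φ₁, h₁⟩ ⟨j₂, φ₂, h₂⟩
    obtain ⟨k, g₁, g₂, e⟩ := IsCofiltered.cospan φ₁ φ₂
    refine ⟨k, g₁ ≫ φ₁, fun t ht => ?_⟩
    have hx1 : (D.map (g₁ ≫ φ₁)) t = (D.map φ₁) ((D.map g₁) t) := by
      rw [D.map_comp, Scheme.Hom.comp_apply]
    have hx2 : (D.map (g₁ ≫ φ₁)) t = (D.map φ₂) ((D.map g₂) t) := by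
      rw [e, D.map_comp, Scheme.Hom.comp_apply]
    rcases ht with ht | ht
    · rw [hx1] at ht ⊢
      exact h₁ _ ht
    · rw [hx2] at ht ⊢
      exact h₂ _ ht
  have hQbot : Q ⊥ := ⟨i₀, 𝟙 i₀, fun t ht => absurd ht (by simp)⟩
  -- finite affine cover
  have hcov : ∀ x : D.obj i₀, ∃ U : (D.obj i₀).Opens, IsAffineOpen U ∧ x ∈ U := by
    intro x
    obtain ⟨U, hU, hxU, -⟩ := exists_isAffineOpen_mem_and_subset (x := x) (U := ⊤) trivial
    exact ⟨U, hU, hxU⟩
  choose U hUaff hxU using hcov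
  obtain ⟨t, ht⟩ := isCompact_univ.elim_finite_subcover (fun x => (U x : Set (D.obj i₀)))
    (fun x => (U x).isOpen) (fun x _ => Set.mem_iUnion.2 ⟨x, hxU x⟩)
  have key : ∀ s : Finset (D.obj i₀), Q (⨆ x ∈ s, U x) := by
    classical
    intro s
    induction s using Finset.induction_on with
    | empty =>
      have h0 : (⨆ x ∈ (∅ : Finset (D.obj i₀)), U x : (D.obj i₀).Opens) = ⊥ := by simp
      rw [h0]; exact hQbot
    | insert a s _ ih =>
      rw [Finset.iSup_insert]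
      exact hQsup _ _ (exists_stage_of_affine D c hc (U a) (hUaff a) E₀ (hE _ (hUaff a)) h) ih
  obtain ⟨j, φ, hj⟩ := key t
  refine ⟨j, φ, fun y => hj y ?_⟩
  have hy := ht (Set.mem_univ (D.map φ y))
  simp only [Set.mem_iUnion] at hy
  obtain ⟨x, hx, hyx⟩ := hy
  exact TopologicalSpace.Opens.mem_iSup.2 ⟨x, TopologicalSpace.Opens.mem_iSup.2 ⟨hx, hyx⟩⟩

end Groth.Agent.Lib.ConsLocusLim
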