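import Groth.Agent.Lib.Fitting82S
import Groth.Agent.Lib.H90OXModFP
import Groth.Agent.Lib.H90InvertibleFP
import Groth.Agent.Lib.QCohFlat
import Groth.Agent.Lib.PullbackAffine
import Groth.Agent.Lib.LocFreeFP
import Groth.Prelude.Def_CInt
import Mathlib.RingTheory.Flat.EquationalCriterion

/-!
# Fitting ideals, part U (helper82): schematic density, pullback of f.p. modules, projectivity

* `ideal_sections_eq_bot_of_schematicallyDense`: Fitting ideals vanishing stalkwise on a
  schematically dense open vanish on every affine open.
* `ideal_eq_top_of_disjoint_support`: an ideal sheaf is the unit ideal on affine opens missing its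
  support.
* `isFinitePresentation_pullback`: pullbacks of finitely presented modules are finitely presented.
* `projective_sections_of_isFinLocFree`: sections of a finite locally free module over an affine
  open form a projective module.
-/

set_option autoImplicit false
set_option linter.style.haveILetI false

universe u

namespace Groth.Agent.Lib.Fitting82

open CategoryTheory AlgebraicGeometry TopologicalSpace Opposite
open Groth.Agent.Lib.QCohStalk

variable {X : Scheme.{u}}

/-- If `U` is schematically dense and the `j`-th Fitting ideals of all stalks over `U` vanish, then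
the `j`-th Fitting ideal of the module of sections over any affine open vanishes. -/
theorem ideal_sections_eq_bot_of_schematicallyDense (F : X.Modules) [F.IsQuasicoherent]
    [F.IsFiniteType] {V : X.Opens} (hV : IsAffineOpen V) (U : X.Opens)
    (hU : CInt.IsSchematicallyDense U) (j : ℕ)
    (h : ∀ y : X, y ∈ U → Fitt.ideal (X.presheaf.stalk y) (F.presheaf.stalk y) j = ⊥) :
    Fitt.ideal Γ(X, V) Γ(F, V) j = ⊥ := by
  rw [eq_bot_iff]
  intro a ha
  rw [Ideal.mem_bot]
  apply hU V
  rw [map_zero]
  apply TopCat.Presheaf.section_ext X.sheaf (V ⊓ U)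
  intro y hy
  have hyV : y ∈ V := hy.1
  obtain ⟨y', rfl⟩ : ∃ y' : V, (y' : X) = y := ⟨⟨y, hyV⟩, rfl⟩
  have h2 := h (y' : X) hy.2
  rw [ideal_stalk F hV y' j] at h2
  have h3 : algebraMap Γ(X, V) (X.presheaf.stalk (y' : X)) a ∈
      (Fitt.ideal Γ(X, V) Γ(F, V) j).map (algebraMap Γ(X, V) (X.presheaf.stalk (y' : X))) :=
    Ideal.mem_map_of_mem _ ha
  rw [h2, Ideal.mem_bot] at h3
  have h4 := TopCat.Presheaf.germ_res_apply X.presheaf
    (homOfLE (inf_le_left : V ⊓ U ≤ V)) (y' : X) hy a
  exact (h4.trans h3).trans (map_zero _).symm

/-- An ideal sheaf whose support misses an affine open is the unit ideal there. -/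
theorem ideal_eq_top_of_disjoint_support (I : X.IdealSheafData) (V : X.affineOpens)
    (h : Disjoint (I.support : Set X) (V.1 : Set X)) : I.ideal V = ⊤ := by
  have h1 : V.2.fromSpec '' PrimeSpectrum.zeroLocus (I.ideal V : Set Γ(X, V.1)) = ∅ := by
    rw [V.2.fromSpec_image_zeroLocus, ← I.coe_support_inter V]
    exact h.inter_eq
  rw [Set.image_eq_empty] at h1
  exact PrimeSpectrum.zeroLocus_empty_iff_eq_top.mp h1

/-- The pullback of a finitely presented module is finitely presented. -/
theorem isFinitePresentation_pullback {X' : Scheme.{u}} (g : X' ⟶ X) (F : X.Modules)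
    [SheafOfModules.IsFinitePresentation (R := X.ringCatSheaf) F] :
    SheafOfModules.IsFinitePresentation (R := X'.ringCatSheaf)
      ((Scheme.Modules.pullback g).obj F) := by
  obtain ⟨ι, U, P, hP, hU, -⟩ :=
    Groth.Agent.Lib.H90OXModFP.exists_isOpenCover_finite_presentation F
  have hcov : ⨆ i, g ⁻¹ᵁ U i = ⊤ := hU.comap g.base.hom
  haveI : ∀ i, ((Groth.Agent.Lib.PullbackAffine.pullbackPresentation (g ∣_ U i) (P i)).ofIsIso
      (Groth.Agent.Lib.ModPullback.restrictPullbackIso g (U i) F).inv).IsFinite := fun i => by
    haveI := hP i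
    haveI : (Groth.Agent.Lib.PullbackAffine.pullbackPresentation (g ∣_ U i) (P i)).IsFinite :=
      { isFiniteType_generators := ⟨inferInstanceAs (Finite (P i).generators.I)⟩
        isFiniteType_relations := ⟨inferInstanceAs (Finite (P i).relations.I)⟩ }
    infer_instance
  exact Groth.Agent.Lib.H90Invertible.isFinitePresentation_of_cover _ (fun i => g ⁻¹ᵁ U i) hcov
    (fun i => (Groth.Agent.Lib.PullbackAffine.pullbackPresentation (g ∣_ U i) (P i)).ofIsIso
      (Groth.Agent.Lib.ModPullback.restrictPullbackIso g (U i) F).inv)

/-- Sections of a finite locally free module over an affine open form a projective module. -/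
theorem projective_sections_of_isFinLocFree (G : X.Modules) (hG : FlatMod.IsFinLocFree G)
    {V : X.Opens} (hV : IsAffineOpen V) : Module.Projective Γ(X, V) Γ(G, V) := by
  haveI := Groth.Agent.Lib.H90Invertible.isFinitePresentation_of_isFinLocFree hG
  haveI : G.IsQuasicoherent := inferInstance
  haveI : Module.FinitePresentation Γ(X, V) Γ(G, V) :=
    Groth.Agent.Lib.H90OXModFP.finitePresentation_sections G hV
  haveI : Module.Flat Γ(X, V) Γ(G, V) :=
    Groth.Agent.Lib.QCohFlat.flat_sections_of_flat_stalks G hV fun x => by
      haveI := Groth.Agent.Lib.LocFreeFP.free_stalk_of_isFinLocFree hG x.1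
      infer_instance
  exact Module.Flat.projective_of_finitePresentation

end Groth.Agent.Lib.Fitting82
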