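import Groth.Agent.Lib.ConsLocusMorMain
import Groth.Agent.Lib.Fitting82U
import Groth.Agent.Lib.SupportTensor
import Groth.Agent.Lib.H72PullbackQCoh

/-!
# EGA IV 9.2.3 for relations involving a module (helper62)

Base change of `ConsProp.locusMod`, the Noetherian case.
-/

set_option autoImplicit false
universe u

open CategoryTheory Limits AlgebraicGeometry Topology TopologicalSpace

namespace Groth.Agent.Lib.ConsLocusMod

open Groth.Agent.Lib.ConsLocusGen

variable {P : ∀ ⦃Y T : Scheme.{u}⦄, (Y ⟶ T) → Y.Modules → Prop}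

theorem isCoh_pullback {X X' : Scheme.{u}} (e : X' ⟶ X) (F : X.Modules) (hF : Coh.IsCoh F) :
    Coh.IsCoh ((Scheme.Modules.pullback e).obj F) := by
  haveI : F.IsQuasicoherent := hF.1
  haveI : F.IsFiniteType := hF.2
  exact ⟨Groth.Agent.Lib.H72PullbackQCoh.isQuasicoherent_pullback e F,
    Groth.Agent.Lib.SupportTensor.isFiniteType_pullback e F⟩

theorem isCoh_of_isFP {X : Scheme.{u}} (F : X.Modules) (hF : CohB1.IsFP F) : Coh.IsCoh F := by
  haveI : SheafOfModules.IsFinitePresentation (R := X.ringCatSheaf) F := hF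
  exact ⟨inferInstance, inferInstance⟩

theorem isFP_pullback {X X' : Scheme.{u}} (e : X' ⟶ X) (F : X.Modules) (hF : CohB1.IsFP F) :
    CohB1.IsFP ((Scheme.Modules.pullback e).obj F) := by
  haveI : SheafOfModules.IsFinitePresentation (R := X.ringCatSheaf) F := hF
  exact Groth.Agent.Lib.Fitting82.isFinitePresentation_pullback e F

/-- The locus of a field-stable relation with a module commutes with base change. -/
theorem mem_locusMod_iff_of_isPullback (hP : ConsProp.IsFieldStableMod P)
    {X X' S S' : Scheme.{u}} {u : X ⟶ S} {u' : X' ⟶ S'} {e : X' ⟶ X} {h : S' ⟶ S}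
    [LocallyOfFiniteType u] [QuasiCompact u] (hX : IsPullback e u' u h)
    (F : X.Modules) (hF : Coh.IsCoh F) (F' : X'.Modules)
    (iF : F' ≅ (Scheme.Modules.pullback e).obj F) (s' : S') :
    s' ∈ ConsProp.locusMod P u' F' ↔ h s' ∈ ConsProp.locusMod P u F := by
  have sq := isPullback_fiberToSpecResidueField_of_isPullback hX s'
  haveI : LocallyOfFiniteType (u.fiberToSpecResidueField (h s')) :=
    MorphismProperty.pullback_snd _ _ inferInstance
  haveI : QuasiCompact (u.fiberToSpecResidueField (h s')) :=
    MorphismProperty.pullback_snd _ _ inferInstance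
  have w : u'.fiberι s' ≫ e =
      pullback.map _ _ _ _ e (Spec.map (h.residueFieldMap s')) h hX.w.symm (by simp) ≫
        u.fiberι (h s') := (pullback.lift_fst _ _ _).symm
  refine (hP (u.fiberToSpecResidueField (h s')) (u'.fiberToSpecResidueField s') _ _ sq _ _
    (isCoh_pullback _ F hF) ?_).symm
  exact (Scheme.Modules.pullback _).mapIso iF ≪≫ (Scheme.Modules.pullbackComp _ _).app F ≪≫
    (Scheme.Modules.pullbackCongr w).app F ≪≫ ((Scheme.Modules.pullbackComp _ _).app F).symm

theorem locusMod_eq_preimage (hP : ConsProp.IsFieldStableMod P)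
    {X X' S S' : Scheme.{u}} {u : X ⟶ S} {u' : X' ⟶ S'} {e : X' ⟶ X} {h : S' ⟶ S}
    [LocallyOfFiniteType u] [QuasiCompact u] (hX : IsPullback e u' u h)
    (F : X.Modules) (hF : Coh.IsCoh F) (F' : X'.Modules)
    (iF : F' ≅ (Scheme.Modules.pullback e).obj F) :
    ConsProp.locusMod P u' F' = h ⁻¹' ConsProp.locusMod P u F := by
  ext s'
  exact mem_locusMod_iff_of_isPullback hP hX F hF F' iF s'

/-- The canonical base change of `(u, F)` along `h : S' ⟶ S`, in continuation passing style. -/
theorem with_baseChange (hP : ConsProp.IsFieldStableMod P) {X S S' : Scheme.{u}} (u : X ⟶ S)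
    (h : S' ⟶ S) [LocallyOfFiniteType u] [QuasiCompact u] (F : X.Modules) (hF : Coh.IsCoh F)
    {C : Prop}
    (k : ∀ (X' : Scheme.{u}) (u' : X' ⟶ S') (e : X' ⟶ X), IsPullback e u' u h →
      ConsProp.locusMod P u' ((Scheme.Modules.pullback e).obj F) =
        h ⁻¹' ConsProp.locusMod P u F → C) : C := by
  have hX : IsPullback (pullback.fst u h) (pullback.snd u h) u h := IsPullback.of_hasPullback u h
  exact k _ _ _ hX (locusMod_eq_preimage hP hX F hF _ (Iso.refl _))

/-- Noetherian base, constructible case. -/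
theorem isConstructible_locusMod_of_isNoetherian (hP : ConsProp.IsConsMod P)
    {X S : Scheme.{u}} [IsNoetherian S] (u : X ⟶ S) [LocallyOfFiniteType u] [QuasiCompact u]
    (F : X.Modules) (hF : Coh.IsCoh F) :
    IsConstructible (ConsProp.locusMod P u F) := by
  refine isConstructible_of_forall_integral _ (fun Z _ _ i _ => ?_)
  refine with_baseChange hP.1 u i F hF (fun X' u' e hX he => ?_)
  haveI : LocallyOfFiniteType u' := MorphismProperty.of_isPullback hX inferInstance
  haveI : QuasiCompact u' := MorphismProperty.of_isPullback hX inferInstance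
  rw [← he]
  exact hP.2 u' _ (isCoh_pullback e F hF)

/-- Noetherian base, ind-constructible case. -/
theorem isUnionCons_locusMod_of_isNoetherian (hP : ConsProp.IsIndConsMod P)
    {X S : Scheme.{u}} [IsNoetherian S] (u : X ⟶ S) [LocallyOfFiniteType u] [QuasiCompact u]
    (F : X.Modules) (hF : Coh.IsCoh F) :
    IsUnionCons (ConsProp.locusMod P u F) := by
  refine isUnionCons_of_forall_integral _ (fun Z _ _ i _ => ?_)
  refine with_baseChange hP.1 u i F hF (fun X' u' e hX he => ?_)
  haveI : LocallyOfFiniteType u' := MorphismProperty.of_isPullback hX inferInstance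
  haveI : QuasiCompact u' := MorphismProperty.of_isPullback hX inferInstance
  rw [← he]
  exact hP.2 u' _ (isCoh_pullback e F hF)

end Groth.Agent.Lib.ConsLocusMod
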