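import Groth.Agent.Lib.ConsLocusMod
import Groth.Agent.Lib.ConsGenericPt

/-!
# EGA IV 9.2.3 for relations involving a module: general base (helper62)

Everything here is relative to the hypothesis `ModDescent` = the statement of EGA IV 8.5.2 (ii)
(descent of finitely presented modules along cofiltered limits, statement S4788).
-/

set_option autoImplicit false
universe u

open CategoryTheory Limits AlgebraicGeometry Topology TopologicalSpace

namespace Groth.Agent.Lib.ConsLocusMod

open Groth.Agent.Lib.ConsLocusGen Groth.Agent.Lib.DescFP Groth.Agent.Lib.LimDescent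
  Groth.Agent.Lib.LimPullback Groth.Agent.Lib.SpreadPair

/-- EGA IV 8.5.2 (ii) as a hypothesis (statement S4788). -/
def ModDescent : Prop :=
  ∀ {I : Type u} [SmallCategory I] [IsCofiltered I]
    (D : I ⥤ Scheme.{u}) (c : Limits.Cone D) (_ : Limits.IsLimit c)
    [∀ (i j : I) (f : i ⟶ j), IsAffineHom (D.map f)] (i₀ : I)
    [CompactSpace (D.obj i₀)] [QuasiSeparatedSpace (D.obj i₀)] (F : c.pt.Modules)
    [Coh.IsQCoh F] (_ : CohB1.IsFP F),
    ∃ (i : I) (_ : i ⟶ i₀) (Fi : (D.obj i).Modules), Coh.IsQCoh Fi ∧ CohB1.IsFP Fi ∧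
      Nonempty ((Scheme.Modules.pullback (c.π.app i)).obj Fi ≅ F)

section Descent

variable {I : Type u} [Category.{u} I] (D : I ⥤ Scheme.{u}) (c : Cone D) [IsCofiltered I]
  (hc : IsLimit c) [∀ {i j} (f : i ⟶ j), IsAffineHom (D.map f)]

include hc in
/-- A finitely presented `c.pt`-scheme with a finitely presented module descends to a stage. -/
theorem exists_model_mod (H : ModDescent.{u}) [∀ i, CompactSpace (D.obj i)]
    [∀ i, QuasiSeparatedSpace (D.obj i)] {X : Scheme.{u}} (f : X ⟶ c.pt)
    [LocallyOfFinitePresentation f] [QuasiCompact f] [QuasiSeparated f]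
    (F : X.Modules) (hF : CohB1.IsFP F) :
    ∃ (j : I) (Xj : Scheme.{u}) (fj : Xj ⟶ D.obj j) (q : X ⟶ Xj) (Fj : Xj.Modules),
      LocallyOfFinitePresentation fj ∧ QuasiCompact fj ∧ IsPullback q f fj (c.π.app j) ∧
      CohB1.IsFP Fj ∧ Nonempty ((Scheme.Modules.pullback q).obj Fj ≅ F) := by
  obtain ⟨i, Xi, fi, g, _, _, _, sq⟩ := hasModel_of_fp D c hc f
  let e := sq.isoPullback
  let cX : Cone (pbDiagram D i fi) := (pbCone D c i fi).extend e.hom
  have hcX : IsLimit cX := IsLimit.extendIso (s := pbCone D c i fi) e.hom (isLimitPbCone hc)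
  have hleg : ∀ j : Over i, cX.π.app j = pbLift D c j.hom fi g f sq.w := by
    intro j
    change e.hom ≫ pbProj D c i fi j = _
    apply pullback.hom_ext
    · simp only [e, pbLift_fst, Category.assoc, pbProj_fst, IsPullback.isoPullback_hom_fst]
    · simp only [e, pbLift_snd, Category.assoc, pbProj_snd,
        IsPullback.isoPullback_hom_snd_assoc]
  have hqc : Coh.IsQCoh F := (isCoh_of_isFP F hF).1
  let i' : Over i := Over.mk (𝟙 i)
  haveI : CompactSpace ((pbDiagram D i fi).obj i') :=
    (inferInstance : CompactSpace ↥(pullback fi (D.map i'.hom)))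
  haveI : QuasiSeparatedSpace ((pbDiagram D i fi).obj i') :=
    (inferInstance : QuasiSeparatedSpace ↥(pullback fi (D.map i'.hom)))
  haveI : ∀ (j k : Over i) (a : j ⟶ k), IsAffineHom ((pbDiagram D i fi).map a) :=
    fun j k a => inferInstance
  obtain ⟨j, _, Fj, _, hFj, ⟨iso⟩⟩ :=
    @H (Over i) _ _ (pbDiagram D i fi) cX hcX _ i' _ _ F hqc hF
  haveI : CompactSpace ↥(pullback fi (D.map j.hom)) := inferInstance
  refine ⟨j.left, pullback fi (D.map j.hom), pullback.snd _ _, pbLift D c j.hom fi g f sq.w, Fj,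
    inferInstance, inferInstance, isPullback_pbLift D c j.hom fi sq, hFj,
    ⟨(Scheme.Modules.pullbackCongr (hleg j).symm).app Fj ≪≫ iso⟩⟩

end Descent

variable {P : ∀ ⦃Y T : Scheme.{u}⦄, (Y ⟶ T) → Y.Modules → Prop}

open Groth.Agent.Lib.FGSubalgLimitU in
/-- Over `Spec A`, the locus is the preimage of the locus of a model over a Noetherian stage. -/
theorem exists_noetherian_model (H : ModDescent.{u}) (hP : ConsProp.IsFieldStableMod P)
    (A : Type u) [CommRing A] {X : Scheme.{u}} (f : X ⟶ Spec (CommRingCat.of A))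
    [LocallyOfFinitePresentation f] [QuasiCompact f] [QuasiSeparated f]
    (F : X.Modules) (hF : CohB1.IsFP F) :
    ∃ (S₀ : Scheme.{u}) (_ : IsNoetherian S₀) (π : Spec (CommRingCat.of A) ⟶ S₀)
      (X₀ : Scheme.{u}) (f₀ : X₀ ⟶ S₀) (F₀ : X₀.Modules),
      LocallyOfFiniteType f₀ ∧ QuasiCompact f₀ ∧ Coh.IsCoh F₀ ∧
        ConsProp.locusMod P f F = π ⁻¹' ConsProp.locusMod P f₀ F₀ := by
  haveI : ∀ {i j : (FGSub ℤ A)ᵒᵖ} (φ : i ⟶ j), IsAffineHom ((D ℤ A).map φ) :=
    fun φ => inferInstance
  haveI : ∀ i, CompactSpace ((D ℤ A).obj i) := fun i =>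
    (inferInstance : CompactSpace (Spec (CommRingCat.of i.unop.1)))
  haveI : ∀ i, QuasiSeparatedSpace ((D ℤ A).obj i) := fun i =>
    (inferInstance : QuasiSeparatedSpace (Spec (CommRingCat.of i.unop.1)))
  obtain ⟨j, Xj, fj, q, Fj, h1, h2, sq, hFj, ⟨iso⟩⟩ :
      ∃ (j : (FGSub ℤ A)ᵒᵖ) (Xj : Scheme.{u}) (fj : Xj ⟶ (D ℤ A).obj j) (q : X ⟶ Xj)
        (Fj : Xj.Modules), LocallyOfFinitePresentation fj ∧ QuasiCompact fj ∧
        IsPullback q f fj ((cone ℤ A).π.app j) ∧
        CohB1.IsFP Fj ∧ Nonempty ((Scheme.Modules.pullback q).obj Fj ≅ F) := by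
    have key : ∀ (f' : X ⟶ (cone ℤ A).pt) [LocallyOfFinitePresentation f'] [QuasiCompact f']
        [QuasiSeparated f'],
        ∃ (j : (FGSub ℤ A)ᵒᵖ) (Xj : Scheme.{u}) (fj : Xj ⟶ (D ℤ A).obj j) (q : X ⟶ Xj)
        (Fj : Xj.Modules), LocallyOfFinitePresentation fj ∧ QuasiCompact fj ∧
        IsPullback q f' fj ((cone ℤ A).π.app j) ∧
        CohB1.IsFP Fj ∧ Nonempty ((Scheme.Modules.pullback q).obj Fj ≅ F) := by
      intro f' _ _ _
      exact exists_model_mod (D ℤ A) (cone ℤ A) (isLimitCone ℤ A) H f' F hF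
    exact @key f ‹_› ‹_› ‹_›
  refine ⟨(D ℤ A).obj j, inferInstance, (cone ℤ A).π.app j, Xj, fj, Fj, inferInstance, h2,
    isCoh_of_isFP Fj hFj, ?_⟩
  exact locusMod_eq_preimage hP sq Fj (isCoh_of_isFP Fj hFj) F iso.symm

/-- Affine base, constructible case. -/
theorem isConstructible_locusMod_of_isAffine (H : ModDescent.{u}) (hP : ConsProp.IsConsMod P)
    {X S : Scheme.{u}} [IsAffine S] (f : X ⟶ S)
    [LocallyOfFinitePresentation f] [QuasiCompact f] [QuasiSeparated f]
    (F : X.Modules) (hF : CohB1.IsFP F) :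
    IsConstructible (ConsProp.locusMod P f F) := by
  let e := S.isoSpec
  have hX : IsPullback (𝟙 X) f (f ≫ e.hom) e.hom := IsPullback.of_horiz_isIso ⟨by simp⟩
  have hcoh := isCoh_of_isFP F hF
  rw [locusMod_eq_preimage hP.1 hX F hcoh F ((Scheme.Modules.pullbackId X).app F).symm]
  obtain ⟨S₀, _, π, X₀, f₀, F₀, _, _, hF₀, he⟩ :=
    exists_noetherian_model H hP.1 Γ(S, ⊤) (f ≫ e.hom) F hF
  rw [he]
  exact e.hom.isConstructible_preimage
    (π.isConstructible_preimage (isConstructible_locusMod_of_isNoetherian hP f₀ F₀ hF₀))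

/-- Affine base, ind-constructible case. -/
theorem isUnionCons_locusMod_of_isAffine (H : ModDescent.{u}) (hP : ConsProp.IsIndConsMod P)
    {X S : Scheme.{u}} [IsAffine S] (f : X ⟶ S)
    [LocallyOfFinitePresentation f] [QuasiCompact f] [QuasiSeparated f]
    (F : X.Modules) (hF : CohB1.IsFP F) :
    IsUnionCons (ConsProp.locusMod P f F) := by
  let e := S.isoSpec
  have hX : IsPullback (𝟙 X) f (f ≫ e.hom) e.hom := IsPullback.of_horiz_isIso ⟨by simp⟩
  have hcoh := isCoh_of_isFP F hF
  rw [locusMod_eq_preimage hP.1 hX F hcoh F ((Scheme.Modules.pullbackId X).app F).symm]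
  obtain ⟨S₀, _, π, X₀, f₀, F₀, _, _, hF₀, he⟩ :=
    exists_noetherian_model H hP.1 Γ(S, ⊤) (f ≫ e.hom) F hF
  rw [he]
  exact ((isUnionCons_locusMod_of_isNoetherian hP f₀ F₀ hF₀).preimage π).preimage e.hom

/-- **EGA IV 9.2.3**, constructible case, relations with a module. -/
theorem isLocallyConstructible_locusMod (H : ModDescent.{u}) (hP : ConsProp.IsConsMod P)
    {X S : Scheme.{u}} (f : X ⟶ S)
    [LocallyOfFinitePresentation f] [QuasiCompact f] [QuasiSeparated f]
    (F : X.Modules) (hF : CohB1.IsFP F) :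
    IsLocallyConstructible (ConsProp.locusMod P f F) := by
  refine isLocallyConstructible_of_affine _ (fun U hU => ?_)
  haveI : IsAffine U.toScheme := hU
  refine with_baseChange hP.1 f U.ι F (isCoh_of_isFP F hF) (fun X' f' e hX he => ?_)
  rw [← he]
  haveI : LocallyOfFinitePresentation f' := MorphismProperty.of_isPullback hX inferInstance
  haveI : QuasiCompact f' := MorphismProperty.of_isPullback hX inferInstance
  haveI : QuasiSeparated f' := MorphismProperty.of_isPullback hX inferInstance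
  exact isConstructible_locusMod_of_isAffine H hP f' _ (isFP_pullback e F hF)

/-- **EGA IV 9.2.3**, ind-constructible case, relations with a module. -/
theorem isIndConstructible_locusMod (H : ModDescent.{u}) (hP : ConsProp.IsIndConsMod P)
    {X S : Scheme.{u}} (f : X ⟶ S)
    [LocallyOfFinitePresentation f] [QuasiCompact f] [QuasiSeparated f]
    (F : X.Modules) (hF : CohB1.IsFP F) :
    ProCons.IsIndConstructible (ConsProp.locusMod P f F) := by
  refine isIndConstructible_of_affine _ (fun U hU => ?_)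
  haveI : IsAffine U.toScheme := hU
  refine with_baseChange hP.1 f U.ι F (isCoh_of_isFP F hF) (fun X' f' e hX he => ?_)
  rw [← he]
  haveI : LocallyOfFinitePresentation f' := MorphismProperty.of_isPullback hX inferInstance
  haveI : QuasiCompact f' := MorphismProperty.of_isPullback hX inferInstance
  haveI : QuasiSeparated f' := MorphismProperty.of_isPullback hX inferInstance
  exact isUnionCons_locusMod_of_isAffine H hP f' _ (isFP_pullback e F hF)

/-- EGA IV 9.2.3 at the generic point, constructible case. -/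
theorem genericPoint_mem_interior_or (H : ModDescent.{u}) (hP : ConsProp.IsConsMod P)
    {X S : Scheme.{u}} [IrreducibleSpace S] (f : X ⟶ S)
    [LocallyOfFinitePresentation f] [QuasiCompact f] [QuasiSeparated f]
    (F : X.Modules) (hF : CohB1.IsFP F) :
    genericPoint S ∈ interior (ConsProp.locusMod P f F) ∨
      genericPoint S ∈ interior (ConsProp.locusMod P f F)ᶜ :=
  Groth.Agent.Lib.ConsGenericPt.mem_interior_or_of_isLocallyConstructible
    (by simpa using genericPoint_spec S) (isLocallyConstructible_locusMod H hP f F hF)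

/-- EGA IV 9.2.3 at the generic point, ind-constructible case. -/
theorem genericPoint_mem_interior (H : ModDescent.{u}) (hP : ConsProp.IsIndConsMod P)
    {X S : Scheme.{u}} [IrreducibleSpace S] (f : X ⟶ S)
    [LocallyOfFinitePresentation f] [QuasiCompact f] [QuasiSeparated f]
    (F : X.Modules) (hF : CohB1.IsFP F)
    (hη : genericPoint S ∈ ConsProp.locusMod P f F) :
    genericPoint S ∈ interior (ConsProp.locusMod P f F) :=
  Groth.Agent.Lib.ConsGenericPt.mem_interior_of_isIndConstructible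
    (by simpa using genericPoint_spec S) (isIndConstructible_locusMod H hP f F hF) hη

end Groth.Agent.Lib.ConsLocusMod
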