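import Groth.Agent.Lib.ConsLocusGen
import Groth.Agent.Lib.DescFPSpread
import Groth.Prelude.Def_EGA4Misc

/-!
# EGA IV 9.2.3 for relations on morphisms (helper62)

For a constructible (resp. ind-constructible) property `P(f, X, Y, k)` of morphisms of algebraic
schemes and `f : X ⟶ Y`, `g : Y ⟶ S` with `g`, `f ≫ g` of finite presentation, the locus
`locusMor P f g` is locally constructible (resp. ind-constructible).
-/

set_option autoImplicit false
universe u

open CategoryTheory Limits AlgebraicGeometry Topology TopologicalSpace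

namespace Groth.Agent.Lib.ConsLocusMor

open Groth.Agent.Lib.ConsLocusGen Groth.Agent.Lib.DescFP Groth.Agent.Lib.LimDescent

/-- Compatibility of the maps induced on pullbacks (general categorical form). -/
theorem comm_gen {C : Type*} [Category C] [HasPullbacks C] {X X' Y Y' S S' B B' : C}
    {f : X ⟶ Y} {g : Y ⟶ S} {f' : X' ⟶ Y'} {g' : Y' ⟶ S'}
    {eX : X' ⟶ X} {eY : Y' ⟶ Y} {h : S' ⟶ S} (b : B ⟶ S) (b' : B' ⟶ S') (r : B' ⟶ B)
    (wY : eY ≫ g = g' ≫ h) (wX : eX ≫ f = f' ≫ eY) (w : b' ≫ h = r ≫ b)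
    (w1 : (f' ≫ g') ≫ h = eX ≫ f ≫ g)
    (w2 : pullback.fst (f ≫ g) b ≫ f ≫ g = pullback.snd (f ≫ g) b ≫ b)
    (w3 : (pullback.fst (f' ≫ g') b' ≫ f') ≫ g' = pullback.snd (f' ≫ g') b' ≫ b') :
    pullback.map (f' ≫ g') b' (f ≫ g) b eX r h w1 w ≫
      pullback.lift (pullback.fst (f ≫ g) b ≫ f) (pullback.snd (f ≫ g) b)
        (by rw [Category.assoc]; exact w2) =
    pullback.lift (pullback.fst (f' ≫ g') b' ≫ f') (pullback.snd (f' ≫ g') b') w3 ≫
      pullback.map g' b' g b eY r h wY.symm w := by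
  apply pullback.hom_ext
  · simp only [Category.assoc, pullback.lift_fst, pullback.lift_fst_assoc, pullback.map, wX]
  · simp only [Category.assoc, pullback.lift_snd, pullback.lift_snd_assoc, pullback.map]

/-- `IsPullback.of_bot` with the composites given up to propositional equality. -/
theorem isPullback_of_bot' {C : Type*} [Category C] {X₁₁ X₁₂ X₂₁ X₂₂ X₃₁ X₃₂ : C}
    {h₁₁ : X₁₁ ⟶ X₁₂} {h₂₁ : X₂₁ ⟶ X₂₂} {h₃₁ : X₃₁ ⟶ X₃₂} {v₁₁ : X₁₁ ⟶ X₂₁} {v₁₂ : X₁₂ ⟶ X₂₂}
    {v₂₁ : X₂₁ ⟶ X₃₁} {v₂₂ : X₂₂ ⟶ X₃₂} {a : X₁₁ ⟶ X₃₁} {b : X₁₂ ⟶ X₃₂}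
    (big : IsPullback h₁₁ a b h₃₁) (ha : v₁₁ ≫ v₂₁ = a) (hb : v₁₂ ≫ v₂₂ = b)
    (comm : h₁₁ ≫ v₁₂ = v₁₁ ≫ h₂₁) (bot : IsPullback h₂₁ v₂₁ v₂₂ h₃₁) :
    IsPullback h₁₁ v₁₁ v₁₂ h₂₁ := by
  subst ha hb
  exact IsPullback.of_bot big comm bot

variable {P : ∀ ⦃X Y T : Scheme.{u}⦄, (X ⟶ Y) → (Y ⟶ T) → Prop}

/-- The locus of a field-stable relation on morphisms commutes with base change. -/
theorem mem_locusMor_iff_of_isPullback (hP : ConsProp.IsFieldStableMor P)
    {X X' Y Y' S S' : Scheme.{u}} {f : X ⟶ Y} {g : Y ⟶ S} {f' : X' ⟶ Y'} {g' : Y' ⟶ S'}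
    {eX : X' ⟶ X} {eY : Y' ⟶ Y} {h : S' ⟶ S} [LocallyOfFiniteType g] [QuasiCompact g]
    [LocallyOfFiniteType (f ≫ g)] [QuasiCompact (f ≫ g)]
    (hY : IsPullback eY g' g h) (hX : IsPullback eX f' f eY) (s' : S') :
    s' ∈ ConsProp.locusMor P f' g' ↔ h s' ∈ ConsProp.locusMor P f g := by
  have hXS : IsPullback eX (f' ≫ g') (f ≫ g) h := hX.paste_vert hY
  have sqY := isPullback_fiberToSpecResidueField_of_isPullback hY s'
  have sqXS := isPullback_fiberToSpecResidueField_of_isPullback hXS s'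
  have e1 : MoreMor.fiberMap f' g' s' ≫ g'.fiberToSpecResidueField s' =
      (f' ≫ g').fiberToSpecResidueField s' := pullback.lift_snd _ _ _
  have e2 : MoreMor.fiberMap f g (h s') ≫ g.fiberToSpecResidueField (h s') =
      (f ≫ g).fiberToSpecResidueField (h s') := pullback.lift_snd _ _ _
  have comm : pullback.map _ _ _ _ eX (Spec.map (h.residueFieldMap s')) h hXS.w.symm (by simp) ≫
      MoreMor.fiberMap f g (h s') = MoreMor.fiberMap f' g' s' ≫
      pullback.map _ _ _ _ eY (Spec.map (h.residueFieldMap s')) h hY.w.symm (by simp) :=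
    comm_gen _ _ _ hY.w hX.w _ _ pullback.condition _
  have sqTop := isPullback_of_bot' sqXS e1 e2 comm sqY
  haveI i1 : LocallyOfFiniteType (g.fiberToSpecResidueField (h s')) :=
    MorphismProperty.pullback_snd _ _ inferInstance
  haveI i2 : QuasiCompact (g.fiberToSpecResidueField (h s')) :=
    MorphismProperty.pullback_snd _ _ inferInstance
  haveI i3 : LocallyOfFiniteType
      (MoreMor.fiberMap f g (h s') ≫ g.fiberToSpecResidueField (h s')) := by
    rw [e2]; exact MorphismProperty.pullback_snd _ _ inferInstance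
  haveI i4 : QuasiCompact
      (MoreMor.fiberMap f g (h s') ≫ g.fiberToSpecResidueField (h s')) := by
    rw [e2]; exact MorphismProperty.pullback_snd _ _ inferInstance
  exact (hP (MoreMor.fiberMap f g (h s')) (g.fiberToSpecResidueField (h s'))
    (MoreMor.fiberMap f' g' s') (g'.fiberToSpecResidueField s') _ _ _ sqY sqTop).symm

theorem locusMor_eq_preimage (hP : ConsProp.IsFieldStableMor P)
    {X X' Y Y' S S' : Scheme.{u}} {f : X ⟶ Y} {g : Y ⟶ S} {f' : X' ⟶ Y'} {g' : Y' ⟶ S'}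
    {eX : X' ⟶ X} {eY : Y' ⟶ Y} {h : S' ⟶ S} [LocallyOfFiniteType g] [QuasiCompact g]
    [LocallyOfFiniteType (f ≫ g)] [QuasiCompact (f ≫ g)]
    (hY : IsPullback eY g' g h) (hX : IsPullback eX f' f eY) :
    ConsProp.locusMor P f' g' = h ⁻¹' ConsProp.locusMor P f g := by
  ext s'
  exact mem_locusMor_iff_of_isPullback hP hY hX s'

/-- The canonical base change of `(f, g)` along `h : S' ⟶ S`, in continuation passing style. -/
theorem with_baseChange (hP : ConsProp.IsFieldStableMor P) {X Y S S' : Scheme.{u}} (f : X ⟶ Y)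
    (g : Y ⟶ S) (h : S' ⟶ S) [LocallyOfFiniteType g] [QuasiCompact g]
    [LocallyOfFiniteType (f ≫ g)] [QuasiCompact (f ≫ g)] {C : Prop}
    (k : ∀ (X' Y' : Scheme.{u}) (f' : X' ⟶ Y') (g' : Y' ⟶ S') (eX : X' ⟶ X) (eY : Y' ⟶ Y),
      IsPullback eY g' g h → IsPullback eX f' f eY → IsPullback eX (f' ≫ g') (f ≫ g) h →
      ConsProp.locusMor P f' g' = h ⁻¹' ConsProp.locusMor P f g → C) : C := by
  have hY : IsPullback (pullback.fst g h) (pullback.snd g h) g h := IsPullback.of_hasPullback g h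
  have hX : IsPullback (pullback.fst f (pullback.fst g h)) (pullback.snd f (pullback.fst g h)) f
      (pullback.fst g h) := IsPullback.of_hasPullback _ _
  exact k _ _ _ _ _ _ hY hX (hX.paste_vert hY) (locusMor_eq_preimage hP hY hX)

/-- Noetherian base, constructible case. -/
theorem isConstructible_locusMor_of_isNoetherian (hP : ConsProp.IsConsMor P)
    {X Y S : Scheme.{u}} [IsNoetherian S] (f : X ⟶ Y) (g : Y ⟶ S) [LocallyOfFiniteType g]
    [QuasiCompact g] [LocallyOfFiniteType (f ≫ g)] [QuasiCompact (f ≫ g)] :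
    IsConstructible (ConsProp.locusMor P f g) := by
  refine isConstructible_of_forall_integral _ (fun Z _ _ i _ => ?_)
  refine with_baseChange hP.1 f g i (fun X' Y' f' g' eX eY hY _ hXS he => ?_)
  haveI : LocallyOfFiniteType g' := MorphismProperty.of_isPullback hY inferInstance
  haveI : QuasiCompact g' := MorphismProperty.of_isPullback hY inferInstance
  haveI : LocallyOfFiniteType (f' ≫ g') := MorphismProperty.of_isPullback hXS inferInstance
  haveI : QuasiCompact (f' ≫ g') := MorphismProperty.of_isPullback hXS inferInstance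
  rw [← he]
  exact hP.2 f' g'

/-- Noetherian base, ind-constructible case. -/
theorem isUnionCons_locusMor_of_isNoetherian (hP : ConsProp.IsIndConsMor P)
    {X Y S : Scheme.{u}} [IsNoetherian S] (f : X ⟶ Y) (g : Y ⟶ S) [LocallyOfFiniteType g]
    [QuasiCompact g] [LocallyOfFiniteType (f ≫ g)] [QuasiCompact (f ≫ g)] :
    IsUnionCons (ConsProp.locusMor P f g) := by
  refine isUnionCons_of_forall_integral _ (fun Z _ _ i _ => ?_)
  refine with_baseChange hP.1 f g i (fun X' Y' f' g' eX eY hY _ hXS he => ?_)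
  haveI : LocallyOfFiniteType g' := MorphismProperty.of_isPullback hY inferInstance
  haveI : QuasiCompact g' := MorphismProperty.of_isPullback hY inferInstance
  haveI : LocallyOfFiniteType (f' ≫ g') := MorphismProperty.of_isPullback hXS inferInstance
  haveI : QuasiCompact (f' ≫ g') := MorphismProperty.of_isPullback hXS inferInstance
  rw [← he]
  exact hP.2 f' g'

end Groth.Agent.Lib.ConsLocusMor
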