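import Groth.Agent.Lib.ConsLocusMor

/-!
# EGA IV 9.2.3 for relations on morphisms: general base (helper62)
-/

set_option autoImplicit false
universe u

open CategoryTheory Limits AlgebraicGeometry Topology TopologicalSpace

namespace Groth.Agent.Lib.ConsLocusMor

open Groth.Agent.Lib.ConsLocusGen Groth.Agent.Lib.DescFP Groth.Agent.Lib.LimDescent
  Groth.Agent.Lib.LimPullback Groth.Agent.Lib.SpreadPair

section Descent

variable {I : Type u} [Category.{u} I] (D : I ⥤ Scheme.{u}) (c : Cone D) [IsCofiltered I]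
  (hc : IsLimit c) [∀ {i j} (f : i ⟶ j), IsAffineHom (D.map f)]

include hc in
/-- A morphism `f : X ⟶ Y` of finitely presented `c.pt`-schemes descends to a stage. -/
theorem exists_model_mor [∀ i, CompactSpace (D.obj i)] [∀ i, QuasiSeparatedSpace (D.obj i)]
    {X Y : Scheme.{u}} (f : X ⟶ Y) (g : Y ⟶ c.pt)
    [LocallyOfFinitePresentation g] [QuasiCompact g] [QuasiSeparated g]
    [LocallyOfFinitePresentation (f ≫ g)] [QuasiCompact (f ≫ g)] [QuasiSeparated (f ≫ g)] :
    ∃ (j : I) (Xj Yj : Scheme.{u}) (fj : Xj ⟶ Yj) (gj : Yj ⟶ D.obj j) (qX : X ⟶ Xj)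
      (qY : Y ⟶ Yj), LocallyOfFinitePresentation gj ∧ QuasiCompact gj ∧
        LocallyOfFinitePresentation (fj ≫ gj) ∧ QuasiCompact (fj ≫ gj) ∧
        IsPullback qY g gj (c.π.app j) ∧ IsPullback qX f fj qY := by
  obtain ⟨i₁, Y₁, y₁, gY₁, _, _, _, sqY₁⟩ := hasModel_of_fp D c hc g
  obtain ⟨i₂, X₁, x₁, gX₁, _, _, _, sqX₁⟩ := hasModel_of_fp D c hc (f ≫ g)
  let i := IsCofiltered.min i₁ i₂
  let φ₁ : i ⟶ i₁ := IsCofiltered.minToLeft i₁ i₂
  let φ₂ : i ⟶ i₂ := IsCofiltered.minToRight i₁ i₂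
  let y₂ := pullback.snd y₁ (D.map φ₁)
  let x₂ := pullback.snd x₁ (D.map φ₂)
  have sqY₂ := isPullback_pbLift D c φ₁ y₁ sqY₁
  have sqX₂ := isPullback_pbLift D c φ₂ x₁ sqX₁
  obtain ⟨j, φ, mj, hmj, hcomm⟩ := exists_hom_descent D c hc x₂ y₂ sqX₂ sqY₂ f rfl
  have sqY₃ := isPullback_pbLift D c φ y₂ sqY₂
  have sqX₃ := isPullback_pbLift D c φ x₂ sqX₂
  haveI : CompactSpace ↥(pullback y₂ (D.map φ)) := inferInstance
  haveI : CompactSpace ↥(pullback x₂ (D.map φ)) := inferInstance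
  refine ⟨j, pullback x₂ (D.map φ), pullback y₂ (D.map φ), mj, pullback.snd y₂ (D.map φ),
    pbLift D c φ x₂ _ _ sqX₂.w, pbLift D c φ y₂ _ _ sqY₂.w, inferInstance, inferInstance, ?_, ?_,
    sqY₃, ?_⟩
  · rw [hmj]; infer_instance
  · rw [hmj]; infer_instance
  · refine IsPullback.of_bot ?_ hcomm sqY₃
    rw [hmj]
    exact sqX₃

end Descent

variable {P : ∀ ⦃X Y T : Scheme.{u}⦄, (X ⟶ Y) → (Y ⟶ T) → Prop}

open Groth.Agent.Lib.FGSubalgLimitU in
/-- Over `Spec A`, the locus is the preimage of the locus of a model over a Noetherian stage. -/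
theorem exists_noetherian_model (hP : ConsProp.IsFieldStableMor P) (A : Type u) [CommRing A]
    {X Y : Scheme.{u}} (f : X ⟶ Y) (g : Y ⟶ Spec (CommRingCat.of A))
    [LocallyOfFinitePresentation g] [QuasiCompact g] [QuasiSeparated g]
    [LocallyOfFinitePresentation (f ≫ g)] [QuasiCompact (f ≫ g)] [QuasiSeparated (f ≫ g)] :
    ∃ (S₀ : Scheme.{u}) (_ : IsNoetherian S₀) (π : Spec (CommRingCat.of A) ⟶ S₀)
      (X₀ Y₀ : Scheme.{u}) (f₀ : X₀ ⟶ Y₀) (g₀ : Y₀ ⟶ S₀),
      LocallyOfFiniteType g₀ ∧ QuasiCompact g₀ ∧ LocallyOfFiniteType (f₀ ≫ g₀) ∧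
        QuasiCompact (f₀ ≫ g₀) ∧
        ConsProp.locusMor P f g = π ⁻¹' ConsProp.locusMor P f₀ g₀ := by
  haveI : ∀ {i j : (FGSub ℤ A)ᵒᵖ} (φ : i ⟶ j), IsAffineHom ((D ℤ A).map φ) :=
    fun φ => inferInstance
  haveI : ∀ i, CompactSpace ((D ℤ A).obj i) := fun i =>
    (inferInstance : CompactSpace (Spec (CommRingCat.of i.unop.1)))
  haveI : ∀ i, QuasiSeparatedSpace ((D ℤ A).obj i) := fun i =>
    (inferInstance : QuasiSeparatedSpace (Spec (CommRingCat.of i.unop.1)))
  obtain ⟨j, Xj, Yj, fj, gj, qX, qY, h1, h2, h3, h4, sqY, sqX⟩ :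
      ∃ (j : (FGSub ℤ A)ᵒᵖ) (Xj Yj : Scheme.{u}) (fj : Xj ⟶ Yj) (gj : Yj ⟶ (D ℤ A).obj j)
        (qX : X ⟶ Xj) (qY : Y ⟶ Yj), LocallyOfFinitePresentation gj ∧ QuasiCompact gj ∧
        LocallyOfFinitePresentation (fj ≫ gj) ∧ QuasiCompact (fj ≫ gj) ∧
        IsPullback qY g gj ((cone ℤ A).π.app j) ∧ IsPullback qX f fj qY := by
    have key : ∀ (g' : Y ⟶ (cone ℤ A).pt) [LocallyOfFinitePresentation g'] [QuasiCompact g']
        [QuasiSeparated g'] [LocallyOfFinitePresentation (f ≫ g')] [QuasiCompact (f ≫ g')]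
        [QuasiSeparated (f ≫ g')],
        ∃ (j : (FGSub ℤ A)ᵒᵖ) (Xj Yj : Scheme.{u}) (fj : Xj ⟶ Yj) (gj : Yj ⟶ (D ℤ A).obj j)
        (qX : X ⟶ Xj) (qY : Y ⟶ Yj), LocallyOfFinitePresentation gj ∧ QuasiCompact gj ∧
        LocallyOfFinitePresentation (fj ≫ gj) ∧ QuasiCompact (fj ≫ gj) ∧
        IsPullback qY g' gj ((cone ℤ A).π.app j) ∧ IsPullback qX f fj qY := by
      intro g' _ _ _ _ _ _
      exact exists_model_mor (D ℤ A) (cone ℤ A) (isLimitCone ℤ A) f g'
    exact @key g ‹_› ‹_› ‹_› ‹_› ‹_› ‹_›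
  refine ⟨(D ℤ A).obj j, inferInstance, (cone ℤ A).π.app j, Xj, Yj, fj, gj, inferInstance, h2,
    inferInstance, h4, ?_⟩
  exact locusMor_eq_preimage hP sqY sqX

/-- Affine base, constructible case. -/
theorem isConstructible_locusMor_of_isAffine (hP : ConsProp.IsConsMor P)
    {X Y S : Scheme.{u}} [IsAffine S] (f : X ⟶ Y) (g : Y ⟶ S)
    [LocallyOfFinitePresentation g] [QuasiCompact g] [QuasiSeparated g]
    [LocallyOfFinitePresentation (f ≫ g)] [QuasiCompact (f ≫ g)] [QuasiSeparated (f ≫ g)] :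
    IsConstructible (ConsProp.locusMor P f g) := by
  let e := S.isoSpec
  have hY : IsPullback (𝟙 Y) g (g ≫ e.hom) e.hom := IsPullback.of_horiz_isIso ⟨by simp⟩
  have hX : IsPullback (𝟙 X) f f (𝟙 Y) := IsPullback.of_horiz_isIso ⟨by simp⟩
  haveI : LocallyOfFinitePresentation (f ≫ g ≫ e.hom) := by
    rw [← Category.assoc]; infer_instance
  haveI : QuasiCompact (f ≫ g ≫ e.hom) := by
    rw [← Category.assoc]; infer_instance
  haveI : QuasiSeparated (f ≫ g ≫ e.hom) := by
    rw [← Category.assoc]; infer_instance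
  rw [locusMor_eq_preimage hP.1 hY hX]
  obtain ⟨S₀, _, π, X₀, Y₀, f₀, g₀, _, _, _, _, he⟩ :=
    exists_noetherian_model hP.1 Γ(S, ⊤) f (g ≫ e.hom)
  rw [he]
  exact e.hom.isConstructible_preimage
    (π.isConstructible_preimage (isConstructible_locusMor_of_isNoetherian hP f₀ g₀))

/-- Affine base, ind-constructible case. -/
theorem isUnionCons_locusMor_of_isAffine (hP : ConsProp.IsIndConsMor P)
    {X Y S : Scheme.{u}} [IsAffine S] (f : X ⟶ Y) (g : Y ⟶ S)
    [LocallyOfFinitePresentation g] [QuasiCompact g] [QuasiSeparated g]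
    [LocallyOfFinitePresentation (f ≫ g)] [QuasiCompact (f ≫ g)] [QuasiSeparated (f ≫ g)] :
    IsUnionCons (ConsProp.locusMor P f g) := by
  let e := S.isoSpec
  have hY : IsPullback (𝟙 Y) g (g ≫ e.hom) e.hom := IsPullback.of_horiz_isIso ⟨by simp⟩
  have hX : IsPullback (𝟙 X) f f (𝟙 Y) := IsPullback.of_horiz_isIso ⟨by simp⟩
  haveI : LocallyOfFinitePresentation (f ≫ g ≫ e.hom) := by
    rw [← Category.assoc]; infer_instance
  haveI : QuasiCompact (f ≫ g ≫ e.hom) := by
    rw [← Category.assoc]; infer_instance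
  haveI : QuasiSeparated (f ≫ g ≫ e.hom) := by
    rw [← Category.assoc]; infer_instance
  rw [locusMor_eq_preimage hP.1 hY hX]
  obtain ⟨S₀, _, π, X₀, Y₀, f₀, g₀, _, _, _, _, he⟩ :=
    exists_noetherian_model hP.1 Γ(S, ⊤) f (g ≫ e.hom)
  rw [he]
  exact ((isUnionCons_locusMor_of_isNoetherian hP f₀ g₀).preimage π).preimage e.hom

/-- **EGA IV 9.2.3**, constructible case, relations on morphisms. -/
theorem isLocallyConstructible_locusMor (hP : ConsProp.IsConsMor P)
    {X Y S : Scheme.{u}} (f : X ⟶ Y) (g : Y ⟶ S)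
    [LocallyOfFinitePresentation g] [QuasiCompact g] [QuasiSeparated g]
    [LocallyOfFinitePresentation (f ≫ g)] [QuasiCompact (f ≫ g)] [QuasiSeparated (f ≫ g)] :
    IsLocallyConstructible (ConsProp.locusMor P f g) := by
  refine isLocallyConstructible_of_affine _ (fun U hU => ?_)
  haveI : IsAffine U.toScheme := hU
  refine with_baseChange hP.1 f g U.ι (fun X' Y' f' g' eX eY hY hX hXS he => ?_)
  rw [← he]
  haveI : LocallyOfFinitePresentation g' := MorphismProperty.of_isPullback hY inferInstance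
  haveI : QuasiCompact g' := MorphismProperty.of_isPullback hY inferInstance
  haveI : QuasiSeparated g' := MorphismProperty.of_isPullback hY inferInstance
  haveI : LocallyOfFinitePresentation (f' ≫ g') := MorphismProperty.of_isPullback hXS inferInstance
  haveI : QuasiCompact (f' ≫ g') := MorphismProperty.of_isPullback hXS inferInstance
  haveI : QuasiSeparated (f' ≫ g') := MorphismProperty.of_isPullback hXS inferInstance
  exact isConstructible_locusMor_of_isAffine hP f' g'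

/-- **EGA IV 9.2.3**, ind-constructible case, relations on morphisms. -/
theorem isIndConstructible_locusMor (hP : ConsProp.IsIndConsMor P)
    {X Y S : Scheme.{u}} (f : X ⟶ Y) (g : Y ⟶ S)
    [LocallyOfFinitePresentation g] [QuasiCompact g] [QuasiSeparated g]
    [LocallyOfFinitePresentation (f ≫ g)] [QuasiCompact (f ≫ g)] [QuasiSeparated (f ≫ g)] :
    ProCons.IsIndConstructible (ConsProp.locusMor P f g) := by
  refine isIndConstructible_of_affine _ (fun U hU => ?_)
  haveI : IsAffine U.toScheme := hU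
  refine with_baseChange hP.1 f g U.ι (fun X' Y' f' g' eX eY hY hX hXS he => ?_)
  rw [← he]
  haveI : LocallyOfFinitePresentation g' := MorphismProperty.of_isPullback hY inferInstance
  haveI : QuasiCompact g' := MorphismProperty.of_isPullback hY inferInstance
  haveI : QuasiSeparated g' := MorphismProperty.of_isPullback hY inferInstance
  haveI : LocallyOfFinitePresentation (f' ≫ g') := MorphismProperty.of_isPullback hXS inferInstance
  haveI : QuasiCompact (f' ≫ g') := MorphismProperty.of_isPullback hXS inferInstance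
  haveI : QuasiSeparated (f' ≫ g') := MorphismProperty.of_isPullback hXS inferInstance
  exact isUnionCons_locusMor_of_isAffine hP f' g'

end Groth.Agent.Lib.ConsLocusMor
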