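import Groth.Agent.Lib.ConsLocusMorMain
import Groth.Prelude.Def_W4ega4s0809p4Pair

/-!
# EGA IV 9.2.3 for relations between two schemes (helper62)

For a constructible (resp. ind-constructible) property `P(X, Y, k)` of pairs of algebraic schemes
and `u : X ⟶ S`, `v : Y ⟶ S` of finite presentation, the locus `locusPair P u v` is locally
constructible (resp. ind-constructible).
-/

set_option autoImplicit false
universe u

open CategoryTheory Limits AlgebraicGeometry Topology TopologicalSpace

namespace Groth.Agent.Lib.ConsLocusPair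

open Groth.Agent.Lib.ConsLocusGen Groth.Agent.Lib.DescFP Groth.Agent.Lib.LimDescent
  Groth.Agent.Lib.LimPullback Groth.Agent.Lib.SpreadPair

variable {P : ∀ ⦃X Y T : Scheme.{u}⦄, (X ⟶ T) → (Y ⟶ T) → Prop}

/-- The locus of a field-stable relation on pairs commutes with base change. -/
theorem locusPair_eq_preimage (hP : ConsPropPair.IsFieldStablePair P)
    {X X' Y Y' S S' : Scheme.{u}} {u : X ⟶ S} {v : Y ⟶ S} {u' : X' ⟶ S'} {v' : Y' ⟶ S'}
    {eX : X' ⟶ X} {eY : Y' ⟶ Y} {h : S' ⟶ S} [LocallyOfFiniteType u] [QuasiCompact u]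
    [LocallyOfFiniteType v] [QuasiCompact v]
    (hX : IsPullback eX u' u h) (hY : IsPullback eY v' v h) :
    ConsPropPair.locusPair P u' v' = h ⁻¹' ConsPropPair.locusPair P u v := by
  ext s'
  have sqX := isPullback_fiberToSpecResidueField_of_isPullback hX s'
  have sqY := isPullback_fiberToSpecResidueField_of_isPullback hY s'
  haveI i1 : LocallyOfFiniteType (u.fiberToSpecResidueField (h s')) :=
    MorphismProperty.pullback_snd _ _ inferInstance
  haveI i2 : QuasiCompact (u.fiberToSpecResidueField (h s')) :=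
    MorphismProperty.pullback_snd _ _ inferInstance
  haveI i3 : LocallyOfFiniteType (v.fiberToSpecResidueField (h s')) :=
    MorphismProperty.pullback_snd _ _ inferInstance
  haveI i4 : QuasiCompact (v.fiberToSpecResidueField (h s')) :=
    MorphismProperty.pullback_snd _ _ inferInstance
  exact (hP (u.fiberToSpecResidueField (h s')) (v.fiberToSpecResidueField (h s'))
    (u'.fiberToSpecResidueField s') (v'.fiberToSpecResidueField s') _ _ _ sqX sqY).symm

/-- The canonical base change of `(u, v)` along `h : S' ⟶ S`, in continuation passing style. -/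
theorem with_baseChange (hP : ConsPropPair.IsFieldStablePair P) {X Y S S' : Scheme.{u}}
    (u : X ⟶ S) (v : Y ⟶ S) (h : S' ⟶ S) [LocallyOfFiniteType u] [QuasiCompact u]
    [LocallyOfFiniteType v] [QuasiCompact v] {C : Prop}
    (k : ∀ (X' Y' : Scheme.{u}) (u' : X' ⟶ S') (v' : Y' ⟶ S') (eX : X' ⟶ X) (eY : Y' ⟶ Y),
      IsPullback eX u' u h → IsPullback eY v' v h →
      ConsPropPair.locusPair P u' v' = h ⁻¹' ConsPropPair.locusPair P u v → C) : C := by
  have hX : IsPullback (pullback.fst u h) (pullback.snd u h) u h := IsPullback.of_hasPullback u h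
  have hY : IsPullback (pullback.fst v h) (pullback.snd v h) v h := IsPullback.of_hasPullback v h
  exact k _ _ _ _ _ _ hX hY (locusPair_eq_preimage hP hX hY)

/-- Noetherian base, constructible case. -/
theorem isConstructible_locusPair_of_isNoetherian (hP : ConsPropPair.IsConsPair P)
    {X Y S : Scheme.{u}} [IsNoetherian S] (u : X ⟶ S) (v : Y ⟶ S) [LocallyOfFiniteType u]
    [QuasiCompact u] [LocallyOfFiniteType v] [QuasiCompact v] :
    IsConstructible (ConsPropPair.locusPair P u v) := by
  refine isConstructible_of_forall_integral _ (fun Z _ _ i _ => ?_)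
  refine with_baseChange hP.1 u v i (fun X' Y' u' v' eX eY hX hY he => ?_)
  haveI : LocallyOfFiniteType u' := MorphismProperty.of_isPullback hX inferInstance
  haveI : QuasiCompact u' := MorphismProperty.of_isPullback hX inferInstance
  haveI : LocallyOfFiniteType v' := MorphismProperty.of_isPullback hY inferInstance
  haveI : QuasiCompact v' := MorphismProperty.of_isPullback hY inferInstance
  rw [← he]
  exact hP.2 u' v'

/-- Noetherian base, ind-constructible case. -/
theorem isUnionCons_locusPair_of_isNoetherian (hP : ConsPropPair.IsIndConsPair P)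
    {X Y S : Scheme.{u}} [IsNoetherian S] (u : X ⟶ S) (v : Y ⟶ S) [LocallyOfFiniteType u]
    [QuasiCompact u] [LocallyOfFiniteType v] [QuasiCompact v] :
    IsUnionCons (ConsPropPair.locusPair P u v) := by
  refine isUnionCons_of_forall_integral _ (fun Z _ _ i _ => ?_)
  refine with_baseChange hP.1 u v i (fun X' Y' u' v' eX eY hX hY he => ?_)
  haveI : LocallyOfFiniteType u' := MorphismProperty.of_isPullback hX inferInstance
  haveI : QuasiCompact u' := MorphismProperty.of_isPullback hX inferInstance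
  haveI : LocallyOfFiniteType v' := MorphismProperty.of_isPullback hY inferInstance
  haveI : QuasiCompact v' := MorphismProperty.of_isPullback hY inferInstance
  rw [← he]
  exact hP.2 u' v'

section Descent

variable {I : Type u} [Category.{u} I] (D : I ⥤ Scheme.{u}) (c : Cone D) [IsCofiltered I]
  (hc : IsLimit c) [∀ {i j} (f : i ⟶ j), IsAffineHom (D.map f)]

include hc in
/-- Two finitely presented `c.pt`-schemes descend to a common stage. -/
theorem exists_model_pair [∀ i, CompactSpace (D.obj i)] [∀ i, QuasiSeparatedSpace (D.obj i)]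
    {X Y : Scheme.{u}} (u : X ⟶ c.pt) (v : Y ⟶ c.pt)
    [LocallyOfFinitePresentation u] [QuasiCompact u] [QuasiSeparated u]
    [LocallyOfFinitePresentation v] [QuasiCompact v] [QuasiSeparated v] :
    ∃ (j : I) (Xj Yj : Scheme.{u}) (uj : Xj ⟶ D.obj j) (vj : Yj ⟶ D.obj j) (qX : X ⟶ Xj)
      (qY : Y ⟶ Yj), LocallyOfFinitePresentation uj ∧ QuasiCompact uj ∧
        LocallyOfFinitePresentation vj ∧ QuasiCompact vj ∧
        IsPullback qX u uj (c.π.app j) ∧ IsPullback qY v vj (c.π.app j) := by
  obtain ⟨i₁, X₁, x₁, gX₁, _, _, _, sqX₁⟩ := hasModel_of_fp D c hc u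
  obtain ⟨i₂, Y₁, y₁, gY₁, _, _, _, sqY₁⟩ := hasModel_of_fp D c hc v
  let i := IsCofiltered.min i₁ i₂
  let φ₁ : i ⟶ i₁ := IsCofiltered.minToLeft i₁ i₂
  let φ₂ : i ⟶ i₂ := IsCofiltered.minToRight i₁ i₂
  have sqX₂ := isPullback_pbLift D c φ₁ x₁ sqX₁
  have sqY₂ := isPullback_pbLift D c φ₂ y₁ sqY₁
  haveI : CompactSpace ↥(pullback x₁ (D.map φ₁)) := inferInstance
  haveI : CompactSpace ↥(pullback y₁ (D.map φ₂)) := inferInstance
  exact ⟨i, pullback x₁ (D.map φ₁), pullback y₁ (D.map φ₂), pullback.snd x₁ (D.map φ₁),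
    pullback.snd y₁ (D.map φ₂), _, _, inferInstance, inferInstance, inferInstance, inferInstance,
    sqX₂, sqY₂⟩

end Descent

open Groth.Agent.Lib.FGSubalgLimitU in
/-- Over `Spec A`, the locus is the preimage of the locus of a model over a Noetherian stage. -/
theorem exists_noetherian_model (hP : ConsPropPair.IsFieldStablePair P) (A : Type u) [CommRing A]
    {X Y : Scheme.{u}} (u : X ⟶ Spec (CommRingCat.of A)) (v : Y ⟶ Spec (CommRingCat.of A))
    [LocallyOfFinitePresentation u] [QuasiCompact u] [QuasiSeparated u]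
    [LocallyOfFinitePresentation v] [QuasiCompact v] [QuasiSeparated v] :
    ∃ (S₀ : Scheme.{u}) (_ : IsNoetherian S₀) (π : Spec (CommRingCat.of A) ⟶ S₀)
      (X₀ Y₀ : Scheme.{u}) (u₀ : X₀ ⟶ S₀) (v₀ : Y₀ ⟶ S₀),
      LocallyOfFiniteType u₀ ∧ QuasiCompact u₀ ∧ LocallyOfFiniteType v₀ ∧ QuasiCompact v₀ ∧
        ConsPropPair.locusPair P u v = π ⁻¹' ConsPropPair.locusPair P u₀ v₀ := by
  haveI : ∀ {i j : (FGSub ℤ A)ᵒᵖ} (φ : i ⟶ j), IsAffineHom ((D ℤ A).map φ) :=
    fun φ => inferInstance
  haveI : ∀ i, CompactSpace ((D ℤ A).obj i) := fun i =>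
    (inferInstance : CompactSpace (Spec (CommRingCat.of i.unop.1)))
  haveI : ∀ i, QuasiSeparatedSpace ((D ℤ A).obj i) := fun i =>
    (inferInstance : QuasiSeparatedSpace (Spec (CommRingCat.of i.unop.1)))
  obtain ⟨j, Xj, Yj, uj, vj, qX, qY, h1, h2, h3, h4, sqX, sqY⟩ :
      ∃ (j : (FGSub ℤ A)ᵒᵖ) (Xj Yj : Scheme.{u}) (uj : Xj ⟶ (D ℤ A).obj j)
        (vj : Yj ⟶ (D ℤ A).obj j) (qX : X ⟶ Xj) (qY : Y ⟶ Yj),
        LocallyOfFinitePresentation uj ∧ QuasiCompact uj ∧
        LocallyOfFinitePresentation vj ∧ QuasiCompact vj ∧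
        IsPullback qX u uj ((cone ℤ A).π.app j) ∧ IsPullback qY v vj ((cone ℤ A).π.app j) := by
    have key : ∀ (u' : X ⟶ (cone ℤ A).pt) (v' : Y ⟶ (cone ℤ A).pt)
        [LocallyOfFinitePresentation u'] [QuasiCompact u'] [QuasiSeparated u']
        [LocallyOfFinitePresentation v'] [QuasiCompact v'] [QuasiSeparated v'],
        ∃ (j : (FGSub ℤ A)ᵒᵖ) (Xj Yj : Scheme.{u}) (uj : Xj ⟶ (D ℤ A).obj j)
        (vj : Yj ⟶ (D ℤ A).obj j) (qX : X ⟶ Xj) (qY : Y ⟶ Yj),
        LocallyOfFinitePresentation uj ∧ QuasiCompact uj ∧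
        LocallyOfFinitePresentation vj ∧ QuasiCompact vj ∧
        IsPullback qX u' uj ((cone ℤ A).π.app j) ∧ IsPullback qY v' vj ((cone ℤ A).π.app j) := by
      intro u' v' _ _ _ _ _ _
      exact exists_model_pair (D ℤ A) (cone ℤ A) (isLimitCone ℤ A) u' v'
    exact @key u v ‹_› ‹_› ‹_› ‹_› ‹_› ‹_›
  refine ⟨(D ℤ A).obj j, inferInstance, (cone ℤ A).π.app j, Xj, Yj, uj, vj, inferInstance, h2,
    inferInstance, h4, ?_⟩
  exact locusPair_eq_preimage hP sqX sqY

/-- Transport of the data to `Spec Γ(S, ⊤)` for affine `S`. -/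
theorem exists_noetherian_model_of_isAffine (hP : ConsPropPair.IsFieldStablePair P)
    {X Y S : Scheme.{u}} [IsAffine S] (u : X ⟶ S) (v : Y ⟶ S)
    [LocallyOfFinitePresentation u] [QuasiCompact u] [QuasiSeparated u]
    [LocallyOfFinitePresentation v] [QuasiCompact v] [QuasiSeparated v] :
    ∃ (S₀ : Scheme.{u}) (_ : IsNoetherian S₀) (π : S ⟶ S₀)
      (X₀ Y₀ : Scheme.{u}) (u₀ : X₀ ⟶ S₀) (v₀ : Y₀ ⟶ S₀),
      LocallyOfFiniteType u₀ ∧ QuasiCompact u₀ ∧ LocallyOfFiniteType v₀ ∧ QuasiCompact v₀ ∧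
        ConsPropPair.locusPair P u v = π ⁻¹' ConsPropPair.locusPair P u₀ v₀ := by
  let e := S.isoSpec
  have hX : IsPullback (𝟙 X) u (u ≫ e.hom) e.hom := IsPullback.of_horiz_isIso ⟨by simp⟩
  have hY : IsPullback (𝟙 Y) v (v ≫ e.hom) e.hom := IsPullback.of_horiz_isIso ⟨by simp⟩
  obtain ⟨S₀, hS₀, π, X₀, Y₀, u₀, v₀, h1, h2, h3, h4, he⟩ :=
    exists_noetherian_model hP Γ(S, ⊤) (u ≫ e.hom) (v ≫ e.hom)
  refine ⟨S₀, hS₀, e.hom ≫ π, X₀, Y₀, u₀, v₀, h1, h2, h3, h4, ?_⟩
  rw [locusPair_eq_preimage hP hX hY, he]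
  rfl

/-- **EGA IV 9.2.3**, constructible case, relations between two schemes. -/
theorem isLocallyConstructible_locusPair (hP : ConsPropPair.IsConsPair P)
    {X Y S : Scheme.{u}} (u : X ⟶ S) (v : Y ⟶ S)
    [LocallyOfFinitePresentation u] [QuasiCompact u] [QuasiSeparated u]
    [LocallyOfFinitePresentation v] [QuasiCompact v] [QuasiSeparated v] :
    IsLocallyConstructible (ConsPropPair.locusPair P u v) := by
  refine isLocallyConstructible_of_affine _ (fun U hU => ?_)
  haveI : IsAffine U.toScheme := hU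
  refine with_baseChange hP.1 u v U.ι (fun X' Y' u' v' eX eY hX hY he => ?_)
  rw [← he]
  haveI : LocallyOfFinitePresentation u' := MorphismProperty.of_isPullback hX inferInstance
  haveI : QuasiCompact u' := MorphismProperty.of_isPullback hX inferInstance
  haveI : QuasiSeparated u' := MorphismProperty.of_isPullback hX inferInstance
  haveI : LocallyOfFinitePresentation v' := MorphismProperty.of_isPullback hY inferInstance
  haveI : QuasiCompact v' := MorphismProperty.of_isPullback hY inferInstance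
  haveI : QuasiSeparated v' := MorphismProperty.of_isPullback hY inferInstance
  obtain ⟨S₀, _, π, X₀, Y₀, u₀, v₀, _, _, _, _, he'⟩ :=
    exists_noetherian_model_of_isAffine hP.1 u' v'
  rw [he']
  exact π.isConstructible_preimage (isConstructible_locusPair_of_isNoetherian hP u₀ v₀)

/-- **EGA IV 9.2.3**, ind-constructible case, relations between two schemes. -/
theorem isIndConstructible_locusPair (hP : ConsPropPair.IsIndConsPair P)
    {X Y S : Scheme.{u}} (u : X ⟶ S) (v : Y ⟶ S)
    [LocallyOfFinitePresentation u] [QuasiCompact u] [QuasiSeparated u]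
    [LocallyOfFinitePresentation v] [QuasiCompact v] [QuasiSeparated v] :
    ProCons.IsIndConstructible (ConsPropPair.locusPair P u v) := by
  refine isIndConstructible_of_affine _ (fun U hU => ?_)
  haveI : IsAffine U.toScheme := hU
  refine with_baseChange hP.1 u v U.ι (fun X' Y' u' v' eX eY hX hY he => ?_)
  rw [← he]
  haveI : LocallyOfFinitePresentation u' := MorphismProperty.of_isPullback hX inferInstance
  haveI : QuasiCompact u' := MorphismProperty.of_isPullback hX inferInstance
  haveI : QuasiSeparated u' := MorphismProperty.of_isPullback hX inferInstance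
  haveI : LocallyOfFinitePresentation v' := MorphismProperty.of_isPullback hY inferInstance
  haveI : QuasiCompact v' := MorphismProperty.of_isPullback hY inferInstance
  haveI : QuasiSeparated v' := MorphismProperty.of_isPullback hY inferInstance
  obtain ⟨S₀, _, π, X₀, Y₀, u₀, v₀, _, _, _, _, he'⟩ :=
    exists_noetherian_model_of_isAffine hP.1 u' v'
  rw [he']
  exact (isUnionCons_locusPair_of_isNoetherian hP u₀ v₀).preimage π

end Groth.Agent.Lib.ConsLocusPair
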