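import Mathlib

/-!
# A ring is the filtered colimit of its finitely generated subalgebras

For a commutative `R`-algebra `K`, the poset `FGSub R K` of finitely generated `R`-subalgebras of `K`
is directed, `K` is the colimit in `CommRingCat` of the diagram `A ↦ A`, and hence `Spec K` is the
cofiltered limit (with affine transition maps) of the schemes `Spec A`, each of finite type over `R`.
-/

universe u

open CategoryTheory Limits AlgebraicGeometry

namespace Groth.Agent.Lib.FGSubalgLimit

variable (R K : Type u) [CommRing R] [CommRing K] [Algebra R K]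

/-- The poset of finitely generated `R`-subalgebras of `K`. -/
abbrev FGSub : Type u := {A : Subalgebra R K // A.FG}

instance : Nonempty (FGSub R K) := ⟨⟨⊥, Subalgebra.fg_bot⟩⟩

instance : IsDirected (FGSub R K) (· ≤ ·) :=
  ⟨fun A B => ⟨⟨A.1 ⊔ B.1, A.2.sup B.2⟩, le_sup_left (a := A.1), le_sup_right (a := A.1)⟩⟩

/-- The diagram of finitely generated subalgebras. -/
@[simps]
def ringFunctor : FGSub R K ⥤ CommRingCat.{u} where
  obj A := CommRingCat.of A.1
  map f := CommRingCat.ofHom (Subalgebra.inclusion (leOfHom f)).toRingHom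
  map_id _ := rfl
  map_comp _ _ := rfl

/-- The cocone with point `K`. -/
@[simps]
def ringCocone : Cocone (ringFunctor R K) where
  pt := CommRingCat.of K
  ι := { app := fun A => CommRingCat.ofHom A.1.val.toRingHom
         naturality := fun _ _ _ => rfl }

lemma fg_adjoin_singleton (x : K) : (Algebra.adjoin R {x}).FG :=
  ⟨{x}, by simp⟩

/-- `K` is the filtered colimit of its finitely generated `R`-subalgebras. -/
noncomputable def isColimitRingCocone : IsColimit (ringCocone R K) := by
  haveI : ReflectsColimit (ringFunctor R K) (forget CommRingCat.{u}) :=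
    reflectsColimit_of_reflectsIsomorphisms _ _
  refine isColimitOfReflects (forget CommRingCat.{u}) ?_
  refine Types.FilteredColimit.isColimitOf' _ _ ?_ ?_
  · intro x
    change K at x
    exact ⟨⟨Algebra.adjoin R {x}, fg_adjoin_singleton R K x⟩,
      (⟨x, Algebra.self_mem_adjoin_singleton R x⟩ : Algebra.adjoin R {x}), rfl⟩
  · intro i x y h
    refine ⟨i, 𝟙 i, ?_⟩
    change i.1 at x y
    have : (x : K) = y := h
    have : x = y := Subtype.ext this
    rw [this]

/-- The cofiltered diagram of schemes `A ↦ Spec A`. -/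
noncomputable def D : (FGSub R K)ᵒᵖ ⥤ Scheme.{u} := (ringFunctor R K).op ⋙ Scheme.Spec

/-- The cone with point `Spec K`. -/
noncomputable def cone : Cone (D R K) := Scheme.Spec.mapCone (ringCocone R K).op

/-- `Spec K` is the limit of the `Spec A`. -/
noncomputable def isLimitCone : IsLimit (cone R K) :=
  isLimitOfPreserves Scheme.Spec (isColimitRingCocone R K).op

theorem D_obj (A : (FGSub R K)ᵒᵖ) : (D R K).obj A = Spec (CommRingCat.of A.unop.1) := rfl

theorem cone_pt : (cone R K).pt = Spec (CommRingCat.of K) := rfl

theorem cone_π_app (A : (FGSub R K)ᵒᵖ) :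
    (cone R K).π.app A = Spec.map (CommRingCat.ofHom A.unop.1.val.toRingHom) := rfl

instance (A B : (FGSub R K)ᵒᵖ) (f : A ⟶ B) : IsAffineHom ((D R K).map f) := by
  change IsAffineHom (Spec.map _)
  infer_instance

/-- The structure morphism `Spec A ⟶ Spec R`. -/
noncomputable def toBase (A : (FGSub R K)ᵒᵖ) : (D R K).obj A ⟶ Spec (CommRingCat.of R) :=
  Spec.map (CommRingCat.ofHom (algebraMap R A.unop.1))

theorem map_toBase {A B : (FGSub R K)ᵒᵖ} (f : A ⟶ B) :
    (D R K).map f ≫ toBase R K B = toBase R K A := by
  change Spec.map _ ≫ Spec.map _ = Spec.map _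
  rw [← Spec.map_comp]
  rfl

theorem cone_π_toBase (A : (FGSub R K)ᵒᵖ) :
    (cone R K).π.app A ≫ toBase R K A = Spec.map (CommRingCat.ofHom (algebraMap R K)) := by
  change Spec.map _ ≫ Spec.map _ = Spec.map _
  rw [← Spec.map_comp]
  rfl

instance (A : (FGSub R K)ᵒᵖ) : LocallyOfFiniteType (toBase R K A) := by
  have h : LocallyOfFiniteType (Spec.map (CommRingCat.ofHom (algebraMap R A.unop.1))) := by
    refine (HasRingHomProperty.Spec_iff (P := @LocallyOfFiniteType)).mpr ?_
    rw [CommRingCat.hom_ofHom, RingHom.finiteType_algebraMap]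
    exact (Subalgebra.fg_iff_finiteType _).mp A.unop.2
  exact h

instance [IsNoetherianRing R] (A : (FGSub R K)ᵒᵖ) : IsNoetherian ((D R K).obj A) := by
  have : Algebra.FiniteType R A.unop.1 := (Subalgebra.fg_iff_finiteType _).mp A.unop.2
  have : IsNoetherianRing A.unop.1 := Algebra.FiniteType.isNoetherianRing R _
  change IsNoetherian (Spec (CommRingCat.of A.unop.1))
  infer_instance

end Groth.Agent.Lib.FGSubalgLimit
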