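import Groth.Agent.Lib.LimDescent
import Groth.Agent.S12442

/-!
# Spreading out a morphism (and a property of it) between two pulled-back families

Setting: `D : I ⥤ Scheme` cofiltered with affine transition maps and limit cone `c`; `i₀ : I`;
`aX : X₀ ⟶ D.obj i₀`, `aY : Y₀ ⟶ D.obj i₀` of finite presentation with `X₀`, `Y₀` qcqs.  A morphism
`g : X₀ ×_{D i₀} c.pt ⟶ Y₀ ×_{D i₀} c.pt` over `c.pt` comes from a morphism at a finite stage, and if
`P g` holds for a property `P` that descends along such limits, then `P` holds at a finite stage.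
-/

set_option autoImplicit false
universe u

open CategoryTheory Limits AlgebraicGeometry

namespace Groth.Agent.Lib.SpreadPair

open Groth.Agent.Lib.LimPullback Groth.Agent.Lib.LimDescent

theorem isPullback_of_eq_right {C : Type*} [Category C] {P X Y Z : C} {fst : P ⟶ X} {snd : P ⟶ Y}
    {f f' : X ⟶ Z} {g : Y ⟶ Z} (h : IsPullback fst snd f g) (e : f = f') :
    IsPullback fst snd f' g := by
  subst e; exact h

/-- `P` descends along cofiltered limits with affine transition maps, in `bcMap` form, for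
quasi-compact quasi-separated finitely presented morphisms between qcqs schemes. -/
def DescendsAlongLimit (P : MorphismProperty Scheme.{u}) : Prop :=
  ∀ {I : Type u} [Category.{u} I] [IsCofiltered I] (D : I ⥤ Scheme.{u}) (c : Cone D)
    (_ : IsLimit c) [∀ {i j} (f : i ⟶ j), IsAffineHom (D.map f)] {i₀ : I} {X₀ Y₀ : Scheme.{u}}
    (f₀ : X₀ ⟶ Y₀) (g₀ : Y₀ ⟶ D.obj i₀) [CompactSpace X₀] [CompactSpace Y₀]
    [QuasiSeparatedSpace X₀] [QuasiSeparatedSpace Y₀] [QuasiCompact f₀] [QuasiSeparated f₀]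
    [LocallyOfFinitePresentation f₀],
    P (bcMap f₀ g₀ (c.π.app i₀)) → ∃ j : Over i₀, P (bcMap f₀ g₀ (D.map j.hom))

variable {I : Type u} [Category.{u} I] (D : I ⥤ Scheme.{u}) (c : Cone D)
variable [IsCofiltered I] (hc : IsLimit c) [∀ {i j} (f : i ⟶ j), IsAffineHom (D.map f)]

include hc in
/-- Step 1: a morphism over `c.pt` between the limits descends to a finite stage. -/
theorem exists_hom_stage {i₀ : I} {X₀ Y₀ : Scheme.{u}} (aX : X₀ ⟶ D.obj i₀) (aY : Y₀ ⟶ D.obj i₀)
    [CompactSpace X₀] [QuasiSeparatedSpace X₀] [LocallyOfFinitePresentation aY]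
    (g : pullback aX (c.π.app i₀) ⟶ pullback aY (c.π.app i₀))
    (hg : g ≫ pullback.snd _ _ = pullback.snd _ _) :
    ∃ (j : Over i₀) (gj : pullback aX (D.map j.hom) ⟶ pullback aY (D.map j.hom)),
      gj ≫ pullback.snd _ _ = pullback.snd _ _ ∧
      pbProj D c i₀ aX j ≫ gj = g ≫ pbProj D c i₀ aY j := by
  let t : pbDiagram D i₀ aX ⟶ (Functor.const (Over i₀)).obj (D.obj i₀) :=
    { app := fun j => pullback.fst aX (D.map j.hom) ≫ aX
      naturality := fun j k f => by
        change pbMap D i₀ aX f ≫ pullback.fst aX (D.map k.hom) ≫ aX =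
          (pullback.fst aX (D.map j.hom) ≫ aX) ≫ 𝟙 _
        rw [pbMap_fst_assoc, Category.comp_id] }
  let a : pullback aX (c.π.app i₀) ⟶ Y₀ := g ≫ pullback.fst aY (c.π.app i₀)
  have ha : (pbCone D c i₀ aX).π ≫ t =
      (Functor.const _).map ((a : (pbCone D c i₀ aX).pt ⟶ Y₀) ≫ aY) := by
    ext j : 2
    change pbProj D c i₀ aX j ≫ pullback.fst aX (D.map j.hom) ≫ aX = a ≫ aY
    rw [pbProj_fst_assoc]
    simp only [a, Category.assoc]
    rw [pullback.condition, pullback.condition, reassoc_of% hg]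
  obtain ⟨j, g', hg1', hg2'⟩ := Scheme.exists_π_app_comp_eq_of_locallyOfFinitePresentation
    (pbDiagram D i₀ aX) t aY (pbCone D c i₀ aX) (isLimitPbCone hc) a ha
  obtain ⟨g'', hg1, hg2⟩ : ∃ g'' : pullback aX (D.map j.hom) ⟶ Y₀,
      pbProj D c i₀ aX j ≫ g'' = a ∧ g'' ≫ aY = pullback.fst aX (D.map j.hom) ≫ aX :=
    ⟨g', hg1', hg2'⟩
  clear hg1' hg2' g'
  refine ⟨j, pullback.lift g'' (pullback.snd aX (D.map j.hom))
    (by rw [hg2, pullback.condition]), pullback.lift_snd _ _ _, ?_⟩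
  apply pullback.hom_ext
  · rw [Category.assoc, pullback.lift_fst, hg1, Category.assoc, pbProj_fst]
  · rw [Category.assoc, pullback.lift_snd, pbProj_snd, Category.assoc, pbProj_snd,
      reassoc_of% hg]

include hc in
/-- Step 2: spreading out a morphism with property `P`. -/
theorem exists_stage_pair (P : MorphismProperty Scheme.{u}) [P.RespectsIso]
    (hP : DescendsAlongLimit P) {i₀ : I} {X₀ Y₀ : Scheme.{u}} (aX : X₀ ⟶ D.obj i₀)
    (aY : Y₀ ⟶ D.obj i₀) [CompactSpace X₀] [QuasiSeparatedSpace X₀] [CompactSpace Y₀]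
    [QuasiSeparatedSpace Y₀] [LocallyOfFinitePresentation aX] [LocallyOfFinitePresentation aY]
    (g : pullback aX (c.π.app i₀) ⟶ pullback aY (c.π.app i₀))
    (hg : g ≫ pullback.snd _ _ = pullback.snd _ _) (hPg : P g) :
    ∃ (k : I) (φ : k ⟶ i₀) (Xk Yk : Scheme.{u}) (pX : Xk ⟶ X₀) (qX : Xk ⟶ D.obj k)
      (pY : Yk ⟶ Y₀) (qY : Yk ⟶ D.obj k) (gk : Xk ⟶ Yk),
      IsPullback pX qX aX (D.map φ) ∧ IsPullback pY qY aY (D.map φ) ∧ gk ≫ qY = qX ∧ P gk := by
  obtain ⟨j, gj, hgj, hcomm⟩ := exists_hom_stage D c hc aX aY g hg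
  haveI : CompactSpace ↥(pullback aX (D.map j.hom)) := compactSpace_pb D i₀ aX j
  haveI : CompactSpace ↥(pullback aY (D.map j.hom)) := compactSpace_pb D i₀ aY j
  haveI : QuasiSeparatedSpace ↥(pullback aX (D.map j.hom)) := quasiSeparatedSpace_pb D i₀ aX j
  haveI : QuasiSeparatedSpace ↥(pullback aY (D.map j.hom)) := quasiSeparatedSpace_pb D i₀ aY j
  haveI : LocallyOfFinitePresentation (gj ≫ pullback.snd aY (D.map j.hom)) := by
    rw [hgj]; infer_instance
  haveI : LocallyOfFinitePresentation gj :=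
    Groth.Agent.S12442.result gj (pullback.snd aY (D.map j.hom))
  -- `g` is the base change of `gj`
  have hX : IsPullback (pbProj D c i₀ aX j) g gj (pbProj D c i₀ aY j) := by
    refine IsPullback.of_bot ?_ hcomm (isPullback_pbProj D c i₀ aY j)
    rw [hg, hgj]
    exact isPullback_pbProj D c i₀ aX j
  have hlim : P (bcMap gj (pullback.snd aY (D.map j.hom)) (c.π.app j.left)) :=
    limMap_of D c P gj (pullback.snd aY (D.map j.hom)) g (pullback.snd aY (c.π.app i₀))
      (pbProj D c i₀ aY j) (pbProj D c i₀ aX j) (isPullback_pbProj D c i₀ aY j) hX hPg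
  obtain ⟨k, hk⟩ := hP D c hc gj (pullback.snd aY (D.map j.hom)) hlim
  refine ⟨k.left, k.hom ≫ j.hom, _, _,
    pullback.fst (gj ≫ pullback.snd aY (D.map j.hom)) (D.map k.hom) ≫ pullback.fst _ _,
    pullback.snd _ _,
    pullback.fst (pullback.snd aY (D.map j.hom)) (D.map k.hom) ≫ pullback.fst _ _,
    pullback.snd _ _, bcMap gj (pullback.snd aY (D.map j.hom)) (D.map k.hom), ?_, ?_,
    bcMap_snd _ _ _, hk⟩
  · rw [D.map_comp]
    exact (isPullback_of_eq_right (IsPullback.of_hasPullback _ _) hgj).paste_horiz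
      (IsPullback.of_hasPullback aX (D.map j.hom))
  · rw [D.map_comp]
    exact (IsPullback.of_hasPullback _ _).paste_horiz
      (IsPullback.of_hasPullback aY (D.map j.hom))

end Groth.Agent.Lib.SpreadPair
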