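import Groth.Prelude.Def_W4ega4s0809p4Pair
import Groth.Agent.Lib.SpreadPair
import Groth.Agent.Lib.FGSubalgLimit
import Groth.Agent.Lib.ConstrTop

/-!
# "Geometric" relations between two algebraic schemes over a field are ind-constructible

For a property `P` of morphisms stable under base change, the relation
`GeomPair P (X, Y, k)`: "after some field extension `k'/k` there is a `k'`-morphism
`X_{k'} ⟶ Y_{k'}` with property `P`" is invariant under field extension, and, if `P` descends along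
cofiltered limits with affine transition maps, it is ind-constructible (EGA IV 9.3.x style).
-/

set_option autoImplicit false
universe u

open CategoryTheory Limits AlgebraicGeometry Topology

namespace Groth.Agent.Lib.ConsPairGeom

open Groth.Agent.Lib.SpreadPair

/-- The geometric pair predicate attached to a morphism property `P`. -/
def GeomPair (P : MorphismProperty Scheme.{u}) :
    ∀ ⦃X Y T : Scheme.{u}⦄, (X ⟶ T) → (Y ⟶ T) → Prop :=
  fun X Y T gX gY => ∃ (T' X' Y' : Scheme.{u}) (h : T' ⟶ T) (gX' : X' ⟶ T') (gY' : Y' ⟶ T')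
    (eX : X' ⟶ X) (eY : Y' ⟶ Y), IsIntegral T' ∧ Subsingleton ↥T' ∧
      IsPullback eX gX' gX h ∧ IsPullback eY gY' gY h ∧
        ∃ g : X' ⟶ Y', g ≫ gY' = gX' ∧ P g

variable (P : MorphismProperty Scheme.{u})

/-- Base change of a morphism over `W` along `ι : T ⟶ W`. -/
theorem baseChange_pair [P.IsStableUnderBaseChange] {W T XW YW : Scheme.{u}} (qX : XW ⟶ W)
    (qY : YW ⟶ W) (gW : XW ⟶ YW) (hgW : gW ≫ qY = qX) (hP : P gW) (ι : T ⟶ W) :
    ∃ g : pullback qX ι ⟶ pullback qY ι, g ≫ pullback.snd qY ι = pullback.snd qX ι ∧ P g := by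
  let g : pullback qX ι ⟶ pullback qY ι :=
    pullback.lift (pullback.fst qX ι ≫ gW) (pullback.snd qX ι)
      (by rw [Category.assoc, hgW, pullback.condition])
  have h1 : g ≫ pullback.fst qY ι = pullback.fst qX ι ≫ gW := pullback.lift_fst _ _ _
  have h2 : g ≫ pullback.snd qY ι = pullback.snd qX ι := pullback.lift_snd _ _ _
  refine ⟨g, h2, ?_⟩
  have sq : IsPullback (pullback.fst qX ι) g gW (pullback.fst qY ι) := by
    refine IsPullback.of_bot ?_ h1.symm (IsPullback.of_hasPullback qY ι)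
    rw [h2, hgW]
    exact IsPullback.of_hasPullback qX ι
  exact P.of_isPullback sq hP

/-- Conclusion side: a `P`-morphism between the base changes of two families to `W` gives the
relation `GeomPair P` on the fibres over every point of the image of `W`. -/
theorem geomPair_fibre [P.IsStableUnderBaseChange] {X Y S W : Scheme.{u}} (u : X ⟶ S) (v : Y ⟶ S)
    (q : W ⟶ S) {XW YW : Scheme.{u}} {pX : XW ⟶ X} {qX : XW ⟶ W} {pY : YW ⟶ Y} {qY : YW ⟶ W}
    (hX : IsPullback pX qX u q) (hY : IsPullback pY qY v q) (gW : XW ⟶ YW)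
    (hgW : gW ≫ qY = qX) (hP : P gW) (w : W) :
    GeomPair P (u.fiberToSpecResidueField (q w)) (v.fiberToSpecResidueField (q w)) := by
  let ι := W.fromSpecResidueField w
  let h := Spec.map (q.residueFieldMap w)
  have hι : h ≫ S.fromSpecResidueField (q w) = ι ≫ q :=
    Scheme.Hom.SpecMap_residueFieldMap_fromSpecResidueField q w
  obtain ⟨g, hg, hPg⟩ := baseChange_pair P qX qY gW hgW hP ι
  have key : ∀ {Z ZW : Scheme.{u}} (z : Z ⟶ S) {pZ : ZW ⟶ Z} {qZ : ZW ⟶ W}
      (hZ : IsPullback pZ qZ z q), ∃ eZ : pullback qZ ι ⟶ z.fiber (q w),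
        IsPullback eZ (pullback.snd qZ ι) (z.fiberToSpecResidueField (q w)) h := by
    intro Z ZW z pZ qZ hZ
    have hbig : IsPullback (pullback.fst qZ ι ≫ pZ) (pullback.snd qZ ι) z (ι ≫ q) :=
      (IsPullback.of_hasPullback qZ ι).paste_horiz hZ
    let eZ : pullback qZ ι ⟶ z.fiber (q w) :=
      pullback.lift (pullback.fst qZ ι ≫ pZ) (pullback.snd qZ ι ≫ h)
        (by rw [Category.assoc (pullback.snd qZ ι), hι, hbig.w])
    have e1 : eZ ≫ z.fiberι (q w) = pullback.fst qZ ι ≫ pZ := pullback.lift_fst _ _ _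
    have e2 : eZ ≫ z.fiberToSpecResidueField (q w) = pullback.snd qZ ι ≫ h :=
      pullback.lift_snd _ _ _
    refine ⟨eZ, IsPullback.of_right ?_ e2 (IsPullback.of_hasPullback z _)⟩
    rw [hι]
    have e1' : eZ ≫ pullback.fst z (S.fromSpecResidueField (q w)) = pullback.fst qZ ι ≫ pZ := e1
    rw [e1']
    exact hbig
  obtain ⟨eX, hX'⟩ := key u hX
  obtain ⟨eY, hY'⟩ := key v hY
  exact ⟨Spec (W.residueField w), _, _, h, _, _, eX, eY, inferInstance, inferInstance, hX', hY',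
    g, hg, hPg⟩

/-- Transfer of a cartesian square: if `Z' = Z ×_T T'` and `Q = Z ×_T T''` with `T'' ⟶ T` factoring
through `T'`, then `Q = Z' ×_{T'} T''`. -/
theorem exists_isPullback_of_factor {Z Z' T T' T'' Q : Scheme.{u}} {gZ : Z ⟶ T} {gZ' : Z' ⟶ T'}
    {eZ : Z' ⟶ Z} {h : T' ⟶ T} (hZ : IsPullback eZ gZ' gZ h) {p : Q ⟶ Z} {s : Q ⟶ T''}
    {a' : T'' ⟶ T'} (sq : IsPullback p s gZ (a' ≫ h)) :
    ∃ e : Q ⟶ Z', IsPullback e s gZ' a' := by
  let e : Q ⟶ Z' := hZ.lift p (s ≫ a') (by rw [Category.assoc, sq.w])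
  have e1 : e ≫ eZ = p := hZ.lift_fst _ _ _
  have e2 : e ≫ gZ' = s ≫ a' := hZ.lift_snd _ _ _
  refine ⟨e, IsPullback.of_right ?_ e2 hZ⟩
  rw [e1]
  exact sq

/-- `GeomPair P` is invariant under extension of the base field. -/
theorem isFieldStablePair_geomPair [P.IsStableUnderBaseChange] :
    ConsPropPair.IsFieldStablePair (GeomPair P) := by
  intro X X' Y Y' T T' gX gY gX' gY' eX eY h _ _ _ _ _ _ _ _ hX hY
  constructor
  · rintro ⟨T₁, X₁, Y₁, h₁, gX₁, gY₁, eX₁, eY₁, hT₁int, hT₁sub, hX₁, hY₁, g₁, hg₁, hPg₁⟩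
    haveI : Surjective h := ⟨fun t => by
      obtain ⟨t'⟩ := (inferInstance : Nonempty T')
      exact ⟨t', Subsingleton.elim _ _⟩⟩
    haveI : Surjective (pullback.fst h₁ h) := MorphismProperty.pullback_fst _ _ inferInstance
    obtain ⟨t₁⟩ := (inferInstance : Nonempty T₁)
    obtain ⟨z, -⟩ := (pullback.fst h₁ h).surjective t₁
    let ι := (pullback h₁ h).fromSpecResidueField z
    let a₁ := ι ≫ pullback.fst h₁ h
    let a' := ι ≫ pullback.snd h₁ h
    have ha : a₁ ≫ h₁ = a' ≫ h := by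
      simp only [a₁, a', Category.assoc, pullback.condition]
    obtain ⟨g, hg, hPg⟩ := baseChange_pair P gX₁ gY₁ g₁ hg₁ hPg₁ a₁
    have sqX : IsPullback (pullback.fst gX₁ a₁ ≫ eX₁) (pullback.snd gX₁ a₁) gX (a' ≫ h) := by
      rw [← ha]
      exact (IsPullback.of_hasPullback gX₁ a₁).paste_horiz hX₁
    have sqY : IsPullback (pullback.fst gY₁ a₁ ≫ eY₁) (pullback.snd gY₁ a₁) gY (a' ≫ h) := by
      rw [← ha]
      exact (IsPullback.of_hasPullback gY₁ a₁).paste_horiz hY₁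
    obtain ⟨eX'', hX''⟩ := exists_isPullback_of_factor hX sqX
    obtain ⟨eY'', hY''⟩ := exists_isPullback_of_factor hY sqY
    exact ⟨Spec ((pullback h₁ h).residueField z), _, _, a', _, _, eX'', eY'', inferInstance,
      inferInstance, hX'', hY'', g, hg, hPg⟩
  · rintro ⟨T₁, X₁, Y₁, h₁, gX₁, gY₁, eX₁, eY₁, hT₁int, hT₁sub, hX₁, hY₁, g₁, hg₁, hPg₁⟩
    exact ⟨T₁, X₁, Y₁, h₁ ≫ h, gX₁, gY₁, eX₁ ≫ eX, eY₁ ≫ eY, hT₁int, hT₁sub,
      hX₁.paste_horiz hX, hY₁.paste_horiz hY, g₁, hg₁, hPg₁⟩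

open Groth.Agent.Lib.FGSubalgLimit in
/-- Spreading out: a `P`-morphism between the base changes of two finite type families over a
Noetherian base to a one-point scheme `T'` comes from a `P`-morphism between the base changes to a
scheme `W` of finite type over the base through which `T'` factors. -/
theorem exists_finiteType_model [P.RespectsIso] (hP : DescendsAlongLimit P)
    {X Y S T' X' Y' : Scheme.{u}} [IsNoetherian S] (u : X ⟶ S) (v : Y ⟶ S)
    [LocallyOfFiniteType u] [QuasiCompact u] [LocallyOfFiniteType v] [QuasiCompact v]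
    [Subsingleton T'] [Nonempty T'] (b : T' ⟶ S) {pX : X' ⟶ X} {gX' : X' ⟶ T'} {pY : Y' ⟶ Y}
    {gY' : Y' ⟶ T'} (hX : IsPullback pX gX' u b) (hY : IsPullback pY gY' v b) (g : X' ⟶ Y')
    (hg : g ≫ gY' = gX') (hPg : P g) :
    ∃ (W : Scheme.{u}) (q : W ⟶ S) (b' : T' ⟶ W) (XW YW : Scheme.{u}) (pXW : XW ⟶ X)
      (qXW : XW ⟶ W) (pYW : YW ⟶ Y) (qYW : YW ⟶ W) (gW : XW ⟶ YW),
      LocallyOfFiniteType q ∧ QuasiCompact q ∧ b' ≫ q = b ∧ IsPullback pXW qXW u q ∧
        IsPullback pYW qYW v q ∧ gW ≫ qYW = qXW ∧ P gW := by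
  obtain ⟨pt⟩ := ‹Nonempty T'›
  obtain ⟨U₀, hU₀, hx⟩ : ∃ U₀ : S.Opens, IsAffineOpen U₀ ∧ b pt ∈ U₀ := by
    obtain ⟨_, ⟨U, hU, rfl⟩, hxU, -⟩ :=
      S.isBasis_affineOpens.exists_subset_of_mem_open (Set.mem_univ (b pt)) isOpen_univ
    exact ⟨U, hU, hxU⟩
  let j₀ : Spec (CommRingCat.of Γ(S, U₀)) ⟶ S := hU₀.fromSpec
  haveI : IsOpenImmersion j₀ := inferInstanceAs (IsOpenImmersion hU₀.fromSpec)
  have hrange : Set.range b ⊆ Set.range j₀ := by
    change Set.range b ⊆ Set.range hU₀.fromSpec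
    rw [hU₀.range_fromSpec]
    rintro _ ⟨y, rfl⟩
    rw [Subsingleton.elim y pt]
    exact hx
  let β : T' ⟶ Spec (CommRingCat.of Γ(S, U₀)) := IsOpenImmersion.lift j₀ b hrange
  have hβ : β ≫ j₀ = b := IsOpenImmersion.lift_fac _ _ _
  let e : T' ≅ Spec (CommRingCat.of Γ(T', ⊤)) := T'.isoSpec
  let ρ : CommRingCat.of Γ(S, U₀) ⟶ CommRingCat.of Γ(T', ⊤) := Spec.preimage (e.inv ≫ β)
  have hρ : Spec.map ρ = e.inv ≫ β := Spec.map_preimage _
  letI : Algebra Γ(S, U₀) Γ(T', ⊤) := ρ.hom.toAlgebra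
  haveI : IsNoetherianRing Γ(S, U₀) := IsLocallyNoetherian.component_noetherian ⟨U₀, hU₀⟩
  -- the diagram
  let c : Cone (D Γ(S, U₀) Γ(T', ⊤)) := (cone Γ(S, U₀) Γ(T', ⊤)).extend e.hom
  have hc : IsLimit c := IsLimit.extendIso e.hom (isLimitCone Γ(S, U₀) Γ(T', ⊤))
  let i₀ : (FGSub Γ(S, U₀) Γ(T', ⊤))ᵒᵖ := Opposite.op ⟨⊥, Subalgebra.fg_bot⟩
  let t₀ : (D Γ(S, U₀) Γ(T', ⊤)).obj i₀ ⟶ S := toBase Γ(S, U₀) Γ(T', ⊤) i₀ ≫ j₀
  have h1 : (cone Γ(S, U₀) Γ(T', ⊤)).π.app i₀ ≫ toBase Γ(S, U₀) Γ(T', ⊤) i₀ = e.inv ≫ β :=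
    (cone_π_toBase Γ(S, U₀) Γ(T', ⊤) i₀).trans hρ
  have hb : c.π.app i₀ ≫ t₀ = b :=
    calc c.π.app i₀ ≫ t₀
        = e.hom ≫ ((cone Γ(S, U₀) Γ(T', ⊤)).π.app i₀ ≫ toBase Γ(S, U₀) Γ(T', ⊤) i₀) ≫ j₀ := by
          change (e.hom ≫ _) ≫ (_ ≫ _) = _
          simp only [Category.assoc]
      _ = e.hom ≫ (e.inv ≫ β) ≫ j₀ := congrArg (fun m => e.hom ≫ m ≫ j₀) h1
      _ = b := by rw [Category.assoc, Iso.hom_inv_id_assoc, hβ]
  haveI : LocallyOfFiniteType t₀ := inferInstanceAs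
    (LocallyOfFiniteType (toBase Γ(S, U₀) Γ(T', ⊤) i₀ ≫ j₀))
  haveI : IsNoetherian ((D Γ(S, U₀) Γ(T', ⊤)).obj i₀) := inferInstance
  -- the families over the base stage
  let aX : pullback u t₀ ⟶ (D Γ(S, U₀) Γ(T', ⊤)).obj i₀ := pullback.snd u t₀
  let aY : pullback v t₀ ⟶ (D Γ(S, U₀) Γ(T', ⊤)).obj i₀ := pullback.snd v t₀
  haveI : LocallyOfFiniteType aX := inferInstanceAs (LocallyOfFiniteType (pullback.snd u t₀))
  haveI : LocallyOfFiniteType aY := inferInstanceAs (LocallyOfFiniteType (pullback.snd v t₀))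
  haveI : QuasiCompact aX := inferInstanceAs (QuasiCompact (pullback.snd u t₀))
  haveI : QuasiCompact aY := inferInstanceAs (QuasiCompact (pullback.snd v t₀))
  haveI : IsLocallyNoetherian (pullback u t₀) := LocallyOfFiniteType.isLocallyNoetherian aX
  haveI : IsLocallyNoetherian (pullback v t₀) := LocallyOfFiniteType.isLocallyNoetherian aY
  haveI : CompactSpace ↥(pullback u t₀) := QuasiCompact.compactSpace_of_compactSpace aX
  haveI : CompactSpace ↥(pullback v t₀) := QuasiCompact.compactSpace_of_compactSpace aY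
  haveI : LocallyOfFinitePresentation aX := inferInstance
  haveI : LocallyOfFinitePresentation aY := inferInstance
  -- identify `X'`, `Y'` with the limits
  have hXlim : IsPullback (pullback.fst aX (c.π.app i₀) ≫ pullback.fst u t₀)
      (pullback.snd aX (c.π.app i₀)) u b := by
    rw [← hb]
    exact (IsPullback.of_hasPullback aX (c.π.app i₀)).paste_horiz (IsPullback.of_hasPullback u t₀)
  have hYlim : IsPullback (pullback.fst aY (c.π.app i₀) ≫ pullback.fst v t₀)
      (pullback.snd aY (c.π.app i₀)) v b := by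
    rw [← hb]
    exact (IsPullback.of_hasPullback aY (c.π.app i₀)).paste_horiz (IsPullback.of_hasPullback v t₀)
  let iX : X' ≅ pullback aX (c.π.app i₀) := hX.isoIsPullback _ _ hXlim
  let iY : Y' ≅ pullback aY (c.π.app i₀) := hY.isoIsPullback _ _ hYlim
  let g' : pullback aX (c.π.app i₀) ⟶ pullback aY (c.π.app i₀) := iX.inv ≫ g ≫ iY.hom
  have e1 : iY.hom ≫ pullback.snd aY (c.π.app i₀) = gY' :=
    IsPullback.isoIsPullback_hom_snd _ _ hY hYlim
  have e2 : iX.inv ≫ gX' = pullback.snd aX (c.π.app i₀) :=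
    IsPullback.isoIsPullback_inv_snd _ _ hX hXlim
  have hg' : g' ≫ pullback.snd aY (c.π.app i₀) = pullback.snd aX (c.π.app i₀) :=
    calc g' ≫ pullback.snd aY (c.π.app i₀)
        = iX.inv ≫ g ≫ (iY.hom ≫ pullback.snd aY (c.π.app i₀)) := by
          simp only [g', Category.assoc]
      _ = iX.inv ≫ g ≫ gY' := by rw [e1]
      _ = iX.inv ≫ gX' := by rw [hg]
      _ = pullback.snd aX (c.π.app i₀) := e2
  have hPg' : P g' :=
    (P.cancel_left_of_respectsIso _ _).mpr ((P.cancel_right_of_respectsIso _ _).mpr hPg)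
  obtain ⟨k, φ, Xk, Yk, pXk, qXk, pYk, qYk, gk, hXk, hYk, hgk, hPgk⟩ :=
    exists_stage_pair (D Γ(S, U₀) Γ(T', ⊤)) c hc P hP aX aY g' hg' hPg'
  have hq : (D Γ(S, U₀) Γ(T', ⊤)).map φ ≫ t₀ = toBase Γ(S, U₀) Γ(T', ⊤) k ≫ j₀ := by
    simp only [t₀]
    rw [reassoc_of% (map_toBase Γ(S, U₀) Γ(T', ⊤) φ)]
  refine ⟨(D Γ(S, U₀) Γ(T', ⊤)).obj k, (D Γ(S, U₀) Γ(T', ⊤)).map φ ≫ t₀, c.π.app k, Xk, Yk,
    pXk ≫ pullback.fst u t₀, qXk, pYk ≫ pullback.fst v t₀, qYk, gk, ?_, ?_, ?_,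
    hXk.paste_horiz (IsPullback.of_hasPullback u t₀),
    hYk.paste_horiz (IsPullback.of_hasPullback v t₀), hgk, hPgk⟩
  · rw [hq]; infer_instance
  · haveI : IsNoetherian ((D Γ(S, U₀) Γ(T', ⊤)).obj k) := inferInstance
    infer_instance
  · rw [reassoc_of% (c.w φ), hb]

/-- The image of a finite type morphism to an integral Noetherian scheme which contains the generic
point contains a nonempty open subset. -/
theorem exists_open_subset_range {W S : Scheme.{u}} [IsIntegral S] [IsNoetherian S] (q : W ⟶ S)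
    [LocallyOfFiniteType q] [QuasiCompact q] (hη : genericPoint S ∈ Set.range q) :
    ∃ U : Set S, IsOpen U ∧ U.Nonempty ∧ U ⊆ Set.range q := by
  have hE : IsConstructible (Set.range q) := by
    rw [← Set.image_univ]
    exact q.isConstructible_image IsConstructible.univ
  have hd : (Set.univ : Set S) ⊆ closure (Set.range q ∩ Set.univ) := by
    rw [Set.inter_univ]
    have h1 : closure ({genericPoint S} : Set S) = Set.univ := (genericPoint_spec S).def
    rw [← h1]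
    exact closure_mono (Set.singleton_subset_iff.mpr hη)
  obtain ⟨U, hU, hne, hsub⟩ := Groth.Agent.Lib.ConstrTop.exists_open_of_subset_closure hE
    (IrreducibleSpace.isIrreducible_univ S) hd
  rw [Set.inter_univ] at hne hsub
  exact ⟨U, hU, hne, hsub⟩

/-- **Main theorem**: if `P` is stable under base change and descends along cofiltered limits with
affine transition maps, then `GeomPair P` is an ind-constructible property of pairs. -/
theorem isIndConsPair_geomPair [P.RespectsIso] [P.IsStableUnderBaseChange]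
    (hP : DescendsAlongLimit P) : ConsPropPair.IsIndConsPair (GeomPair P) := by
  refine ⟨isFieldStablePair_geomPair P, ?_⟩
  intro X Y S u v _ _ _ _ _ _ hη
  obtain ⟨T', X', Y', h, gX', gY', eX, eY, hT'int, hT'sub, hX, hY, g, hg, hPg⟩ := hη
  let b : T' ⟶ S := h ≫ S.fromSpecResidueField (genericPoint S)
  have hXb : IsPullback (eX ≫ u.fiberι (genericPoint S)) gX' u b :=
    hX.paste_horiz (IsPullback.of_hasPullback u _)
  have hYb : IsPullback (eY ≫ v.fiberι (genericPoint S)) gY' v b :=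
    hY.paste_horiz (IsPullback.of_hasPullback v _)
  obtain ⟨W, q, b', XW, YW, pXW, qXW, pYW, qYW, gW, hqft, hqqc, hbq, hXW, hYW, hgW, hPgW⟩ :=
    exists_finiteType_model P hP u v b hXb hYb g hg hPg
  have hηq : genericPoint S ∈ Set.range q := by
    obtain ⟨pt⟩ := (inferInstance : Nonempty T')
    refine ⟨b' pt, ?_⟩
    have h1 : q (b' pt) = b pt := by rw [← hbq]; rfl
    have h2 : b pt ∈ Set.range (S.fromSpecResidueField (genericPoint S)) := ⟨h pt, rfl⟩
    rw [Scheme.range_fromSpecResidueField] at h2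
    rw [h1]; exact h2
  obtain ⟨U, hU, hne, hsub⟩ := exists_open_subset_range q hηq
  obtain ⟨s, hs⟩ := hne
  refine ⟨s, mem_interior.mpr ⟨U, ?_, hU, hs⟩⟩
  intro s' hs'
  obtain ⟨w, rfl⟩ := hsub hs'
  exact geomPair_fibre P u v q hXW hYW gW hgW hPgW w

end Groth.Agent.Lib.ConsPairGeom
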