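import Groth.Prelude.Def_EGA4Misc
import Groth.Agent.Lib.ConstrTop
import Groth.Agent.Lib.ConsPairGeom
import Groth.Agent.Lib.H69RedInduced

/-!
# The relation "`P` holds for every fibre of `f`" on morphisms (EGA IV 9.2.6-style)

If `P(X, k)` is an (ind-)constructible property of algebraic schemes, then
`P'(f) := ∀ y, P(f⁻¹(y), κ(y))` is an (ind-)constructible property of morphisms.
-/

set_option autoImplicit false
universe u

open CategoryTheory Limits AlgebraicGeometry Topology TopologicalSpace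

namespace Groth.Agent.Lib.ConsMorFibre

section topology

variable {Y S : Type*} [TopologicalSpace Y] [TopologicalSpace S]

/-- Noetherian induction: if `E ⊆ Y` contains, for each of its points `y`, a neighbourhood of `y`
in `closure {y}`, and contains the fibre of `g : Y → S` over a point `η` specializing to every
point of `S`, then `E` contains the preimage of an open neighbourhood of `η`. -/
theorem exists_open_nhd_preimage_subset [NoetherianSpace Y] [QuasiSober Y] [T0Space S]
    (g : Y → S) (hg : Continuous g) (η : S) (hη : ∀ s, η ⤳ s) (E : Set Y)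
    (hE : ∀ y ∈ E, ∃ V : Set Y, IsOpen V ∧ y ∈ V ∧ closure {y} ∩ V ⊆ E)
    (hfib : g ⁻¹' {η} ⊆ E) : ∃ U : Set S, IsOpen U ∧ η ∈ U ∧ g ⁻¹' U ⊆ E := by
  have key : ∀ Z : Set Y, IsClosed Z → ∃ U : Set S, IsOpen U ∧ η ∈ U ∧ g ⁻¹' U ∩ Z ⊆ E := by
    intro Z hZ
    refine Groth.Agent.Lib.ConstrTop.closed_induction
      (P := fun Z => ∃ U : Set S, IsOpen U ∧ η ∈ U ∧ g ⁻¹' U ∩ Z ⊆ E) ?_ ?_ ?_ Z hZ
    · exact ⟨Set.univ, isOpen_univ, Set.mem_univ _, by simp⟩
    · rintro Z₁ Z₂ - - ⟨U₁, hU₁, hη₁, h₁⟩ ⟨U₂, hU₂, hη₂, h₂⟩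
      refine ⟨U₁ ∩ U₂, hU₁.inter hU₂, ⟨hη₁, hη₂⟩, ?_⟩
      rintro y ⟨⟨hy₁, hy₂⟩, hy | hy⟩
      · exact h₁ ⟨hy₁, hy⟩
      · exact h₂ ⟨hy₂, hy⟩
    · intro Z hZc hZi ih
      set ζ := hZi.genericPoint with hζ
      have hcl : closure ({ζ} : Set Y) = Z := hZi.closure_genericPoint hZc
      have hζZ : ζ ∈ Z := hcl ▸ subset_closure (Set.mem_singleton ζ)
      by_cases hgζ : g ζ = η
      · have hζE : ζ ∈ E := hfib hgζ
        obtain ⟨V, hV, hζV, hVE⟩ := hE ζ hζE
        rw [hcl] at hVE
        have hlt : Z \ V ⊂ Z := by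
          refine ⟨Set.diff_subset, fun h => ?_⟩
          exact (h hζZ).2 hζV
        obtain ⟨U, hU, hηU, hUE⟩ := ih (Z \ V) (hZc.sdiff hV) hlt
        refine ⟨U, hU, hηU, ?_⟩
        rintro y ⟨hyU, hyZ⟩
        by_cases hyV : y ∈ V
        · exact hVE ⟨hyZ, hyV⟩
        · exact hUE ⟨hyU, hyZ, hyV⟩
      · refine ⟨(closure ({g ζ} : Set S))ᶜ, isClosed_closure.isOpen_compl, ?_, ?_⟩
        · intro hmem
          have h1 : g ζ ⤳ η := specializes_iff_mem_closure.mpr hmem
          exact hgζ ((h1.antisymm (hη (g ζ))).eq)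
        · rintro y ⟨hyU, hyZ⟩
          exfalso
          apply hyU
          have : y ∈ closure ({ζ} : Set Y) := hcl ▸ hyZ
          have h2 : ζ ⤳ y := specializes_iff_mem_closure.mpr this
          exact specializes_iff_mem_closure.mp (h2.map hg)
  obtain ⟨U, hU, hηU, h⟩ := key Set.univ isClosed_univ
  exact ⟨U, hU, hηU, by simpa using h⟩

end topology

section scheme

theorem isNoetherian_of_onePoint (T : Scheme.{u}) [IsIntegral T] [Subsingleton T] :
    IsNoetherian T := by
  have hF : IsField Γ(T, ⊤) := isField_of_isIntegral_of_subsingleton T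
  have : IsNoetherianRing Γ(T, ⊤) := by
    let _ := hF.toField
    infer_instance
  have : IsLocallyNoetherian T := isLocallyNoetherian_of_isOpenImmersion T.isoSpec.hom
  exact { }

variable (P : ∀ ⦃Y T : Scheme.{u}⦄, (Y ⟶ T) → Prop)

/-- Fibres of a base change are base changes of fibres (along residue field extensions). -/
theorem fibre_iff_of_isPullback (hP : ConsProp.IsFieldStable P) {X' X Y' Y : Scheme.{u}}
    {eX : X' ⟶ X} {f' : X' ⟶ Y'} {f : X ⟶ Y} {eY : Y' ⟶ Y} (sq : IsPullback eX f' f eY)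
    [LocallyOfFiniteType f] [QuasiCompact f] (y' : Y') :
    P (f.fiberToSpecResidueField (eY y')) ↔ P (f'.fiberToSpecResidueField y') := by
  haveI : LocallyOfFiniteType (f.fiberToSpecResidueField (eY y')) :=
    MorphismProperty.pullback_snd _ _ inferInstance
  haveI : QuasiCompact (f.fiberToSpecResidueField (eY y')) :=
    MorphismProperty.pullback_snd _ _ inferInstance
  exact hP _ _ _ _ (isPullback_fiberToSpecResidueField_of_isPullback sq y')

/-- The relation "every fibre of `f` has `P`" is invariant under extension of the base field. -/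
theorem isFieldStableMor_forall_fibre (hP : ConsProp.IsFieldStable P) :
    ConsProp.IsFieldStableMor (fun X Y _ f _ => ∀ y : ↥Y, P (f.fiberToSpecResidueField y)) := by
  intro X X' Y Y' T T' f g f' g' eX eY h _ _ _ _ _ _ _ _ hY hX
  haveI := isNoetherian_of_onePoint T
  haveI : IsLocallyNoetherian Y := LocallyOfFiniteType.isLocallyNoetherian g
  haveI : LocallyOfFiniteType f := locallyOfFiniteType_of_comp f g
  haveI : QuasiCompact f := QuasiCompact.of_comp f g
  constructor
  · intro H y'
    exact (fibre_iff_of_isPullback P hP hX y').mp (H (eY y'))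
  · intro H y
    haveI : Surjective h := ⟨fun t => by
      obtain ⟨t'⟩ := (inferInstance : Nonempty T')
      exact ⟨t', Subsingleton.elim _ _⟩⟩
    haveI : Surjective eY := MorphismProperty.of_isPullback hY.flip inferInstance
    obtain ⟨y', rfl⟩ := eY.surjective y
    exact (fibre_iff_of_isPullback P hP hX y').mpr (H y')

/-- Membership in the locus of the fibrewise relation, in terms of the points of `Y`. -/
theorem mem_locusMor_iff (hP : ConsProp.IsFieldStable P) {X Y S : Scheme.{u}} (f : X ⟶ Y)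
    (g : Y ⟶ S) [LocallyOfFiniteType f] [QuasiCompact f] (s : S) :
    s ∈ ConsProp.locusMor (fun X Y _ f _ => ∀ y : ↥Y, P (f.fiberToSpecResidueField y)) f g ↔
      ∀ y : Y, g y = s → P (f.fiberToSpecResidueField y) := by
  have sq : IsPullback ((f ≫ g).fiberι s) (MoreMor.fiberMap f g s) f (g.fiberι s) :=
    Groth.Agent.Lib.LimDescent.isPullback_bcMap f g (S.fromSpecResidueField s)
  change (∀ y : ↥(g.fiber s), P ((MoreMor.fiberMap f g s).fiberToSpecResidueField y)) ↔ _
  constructor
  · intro H y hy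
    have : y ∈ Set.range (g.fiberι s) := by
      rw [Scheme.Hom.range_fiberι]; exact hy
    obtain ⟨y', rfl⟩ := this
    exact (fibre_iff_of_isPullback P hP sq y').mpr (H y')
  · intro H y'
    refine (fibre_iff_of_isPullback P hP sq y').mp (H _ ?_)
    have : (g.fiberι s) y' ∈ Set.range (g.fiberι s) := ⟨y', rfl⟩
    rw [Scheme.Hom.range_fiberι] at this
    exact this

/-- The reduced induced structure on `closure {y₀}`, with the base change of `f`, in continuation
passing style. -/
theorem with_redSub (hP : ConsProp.IsFieldStable P) {X Y : Scheme.{u}} (f : X ⟶ Y)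
    [LocallyOfFiniteType f] [QuasiCompact f] [IsNoetherian Y] (y₀ : Y) {C : Prop}
    (k : ∀ (Z : Scheme.{u}) [IsIntegral Z] [IsNoetherian Z] (i : Z ⟶ Y) [IsClosedImmersion i]
      (XZ : Scheme.{u}) (fZ : XZ ⟶ Z) [LocallyOfFiniteType fZ] [QuasiCompact fZ],
      Set.range i = closure {y₀} → i (genericPoint Z) = y₀ →
      (∀ z : Z, P (f.fiberToSpecResidueField (i z)) ↔ P (fZ.fiberToSpecResidueField z)) → C) :
    C := by
  let W : Closeds Y := ⟨closure {y₀}, isClosed_closure⟩
  let Z := Groth.Agent.Lib.H69RedInduced.redSub W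
  let i : Z ⟶ Y := Groth.Agent.Lib.H69RedInduced.redSubι W
  have hrange : Set.range i = closure {y₀} := Groth.Agent.Lib.H69RedInduced.range_redSubι W
  obtain ⟨z₀, hz₀⟩ : y₀ ∈ Set.range i := hrange ▸ subset_closure (Set.mem_singleton y₀)
  have hgen : IsGenericPoint z₀ (⊤ : Set Z) := by
    change closure {z₀} = Set.univ
    rw [i.isEmbedding.isInducing.closure_eq_preimage_closure_image, Set.image_singleton, hz₀,
      ← hrange]
    ext z
    simp
  haveI : IrreducibleSpace Z := (irreducibleSpace_def Z).mpr hgen.isIrreducible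
  haveI : IsIntegral Z := isIntegral_of_irreducibleSpace_of_isReduced Z
  haveI : IsLocallyNoetherian Z := LocallyOfFiniteType.isLocallyNoetherian i
  haveI : CompactSpace Z := QuasiCompact.compactSpace_of_compactSpace i
  haveI : IsNoetherian Z := { }
  have hgp : genericPoint Z = z₀ := (genericPoint_spec Z).eq hgen
  refine k Z i (pullback f i) (pullback.snd f i) hrange (by rw [hgp, hz₀]) (fun z => ?_)
  exact fibre_iff_of_isPullback P hP (IsPullback.of_hasPullback f i) z

/-- `closure {y₀} ∩ V ⊆ E` for a neighbourhood `V` of a point `y₀` of the locus `E` of `P`. -/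
theorem exists_open_closure_inter_subset (hP : ConsProp.IsFieldStable P)
    (hP2 : ∀ ⦃X S : Scheme.{u}⦄ (u : X ⟶ S) [IsIntegral S] [IsNoetherian S]
      [LocallyOfFiniteType u] [QuasiCompact u],
      genericPoint S ∈ ConsProp.locus P u → (interior (ConsProp.locus P u)).Nonempty)
    {X Y : Scheme.{u}} (f : X ⟶ Y) [LocallyOfFiniteType f] [QuasiCompact f] [IsNoetherian Y]
    (y₀ : Y) (hy₀ : P (f.fiberToSpecResidueField y₀)) :
    ∃ V : Set Y, IsOpen V ∧ y₀ ∈ V ∧
      closure {y₀} ∩ V ⊆ {y | P (f.fiberToSpecResidueField y)} := by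
  refine with_redSub P hP f y₀ (fun Z _ _ i _ XZ fZ _ _ hrange hgen hiff => ?_)
  have h1 : genericPoint Z ∈ ConsProp.locus P fZ := (hiff _).mp (by rw [hgen]; exact hy₀)
  obtain ⟨z, hz⟩ := hP2 fZ h1
  have hgW : genericPoint Z ∈ interior (ConsProp.locus P fZ) :=
    ((genericPoint_spec Z).mem_open_set_iff isOpen_interior).mpr ⟨z, trivial, hz⟩
  obtain ⟨V, hV, hVW⟩ := i.isEmbedding.isInducing.isOpen_iff.mp
    (isOpen_interior (s := ConsProp.locus P fZ))
  refine ⟨V, hV, ?_, ?_⟩
  · have : genericPoint Z ∈ i ⁻¹' V := hVW ▸ hgW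
    rwa [Set.mem_preimage, hgen] at this
  · rintro y ⟨hy, hyV⟩
    rw [← hrange] at hy
    obtain ⟨z', rfl⟩ := hy
    have h2 : z' ∈ interior (ConsProp.locus P fZ) := by rw [← hVW]; exact hyV
    have h3 : z' ∈ ConsProp.locus P fZ := interior_subset h2
    exact (hiff z').mpr h3

/-- Ind-constructible family clause for the fibrewise relation. -/
theorem interior_nonempty_of_generic (hP : ConsProp.IsFieldStable P)
    (hP2 : ∀ ⦃X S : Scheme.{u}⦄ (u : X ⟶ S) [IsIntegral S] [IsNoetherian S]
      [LocallyOfFiniteType u] [QuasiCompact u],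
      genericPoint S ∈ ConsProp.locus P u → (interior (ConsProp.locus P u)).Nonempty)
    {X Y S : Scheme.{u}} (f : X ⟶ Y) (g : Y ⟶ S) [IsIntegral S] [IsNoetherian S]
    [LocallyOfFiniteType g] [QuasiCompact g] [LocallyOfFiniteType (f ≫ g)] [QuasiCompact (f ≫ g)]
    (hη : genericPoint S ∈ ConsProp.locusMor
      (fun X Y _ f _ => ∀ y : ↥Y, P (f.fiberToSpecResidueField y)) f g) :
    (interior (ConsProp.locusMor
      (fun X Y _ f _ => ∀ y : ↥Y, P (f.fiberToSpecResidueField y)) f g)).Nonempty := by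
  haveI : IsLocallyNoetherian Y := LocallyOfFiniteType.isLocallyNoetherian g
  haveI : CompactSpace Y := QuasiCompact.compactSpace_of_compactSpace g
  haveI : IsNoetherian Y := { }
  haveI : LocallyOfFiniteType f := locallyOfFiniteType_of_comp f g
  haveI : QuasiCompact f := QuasiCompact.of_comp f g
  have hfib : (g : Y → S) ⁻¹' {genericPoint S} ⊆ {y | P (f.fiberToSpecResidueField y)} :=
    fun y hy => (mem_locusMor_iff P hP f g _).mp hη y hy
  obtain ⟨U, hU, hηU, hUE⟩ := exists_open_nhd_preimage_subset (g : Y → S) g.continuous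
    (genericPoint S) (fun s => (genericPoint_spec S).specializes trivial)
    {y | P (f.fiberToSpecResidueField y)}
    (fun y hy => exists_open_closure_inter_subset P hP hP2 f y hy) hfib
  refine ⟨genericPoint S, mem_interior.mpr ⟨U, ?_, hU, hηU⟩⟩
  intro s hs
  refine (mem_locusMor_iff P hP f g s).mpr (fun y hy => hUE ?_)
  change g y ∈ U
  rw [hy]; exact hs

/-- If `P` is ind-constructible, so is "every fibre of `f` has `P`". -/
theorem isIndConsMor_forall_fibre (hP : ConsProp.IsIndCons P) :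
    ConsProp.IsIndConsMor (fun X Y _ f _ => ∀ y : ↥Y, P (f.fiberToSpecResidueField y)) :=
  ⟨isFieldStableMor_forall_fibre P hP.1, fun _ _ _ f g _ _ _ _ _ _ hη =>
    interior_nonempty_of_generic P hP.1 hP.2 f g hη⟩

/-- A constructible property satisfies the ind-constructible family clause. -/
theorem family_ind_of_cons
    (hP2 : ∀ ⦃X S : Scheme.{u}⦄ (u : X ⟶ S) [IsIntegral S] [IsNoetherian S]
      [LocallyOfFiniteType u] [QuasiCompact u],
      (interior (ConsProp.locus P u)).Nonempty ∨ (interior (ConsProp.locus P u)ᶜ).Nonempty)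
    ⦃X S : Scheme.{u}⦄ (u : X ⟶ S) [IsIntegral S] [IsNoetherian S]
    [LocallyOfFiniteType u] [QuasiCompact u] (h : genericPoint S ∈ ConsProp.locus P u) :
    (interior (ConsProp.locus P u)).Nonempty := by
  rcases hP2 u with h' | ⟨z, hz⟩
  · exact h'
  · exfalso
    have hg : genericPoint S ∈ interior (ConsProp.locus P u)ᶜ :=
      ((genericPoint_spec S).mem_open_set_iff isOpen_interior).mpr ⟨z, trivial, hz⟩
    exact interior_subset hg h

/-- Complement clause for the fibrewise relation. -/
theorem interior_compl_nonempty_of_generic (hP : ConsProp.IsFieldStable P)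
    (hP2 : ∀ ⦃X S : Scheme.{u}⦄ (u : X ⟶ S) [IsIntegral S] [IsNoetherian S]
      [LocallyOfFiniteType u] [QuasiCompact u],
      (interior (ConsProp.locus P u)).Nonempty ∨ (interior (ConsProp.locus P u)ᶜ).Nonempty)
    {X Y S : Scheme.{u}} (f : X ⟶ Y) (g : Y ⟶ S) [IsIntegral S] [IsNoetherian S]
    [LocallyOfFiniteType g] [QuasiCompact g] [LocallyOfFiniteType (f ≫ g)] [QuasiCompact (f ≫ g)]
    (hη : genericPoint S ∉ ConsProp.locusMor
      (fun X Y _ f _ => ∀ y : ↥Y, P (f.fiberToSpecResidueField y)) f g) :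
    (interior (ConsProp.locusMor
      (fun X Y _ f _ => ∀ y : ↥Y, P (f.fiberToSpecResidueField y)) f g)ᶜ).Nonempty := by
  haveI : IsLocallyNoetherian Y := LocallyOfFiniteType.isLocallyNoetherian g
  haveI : CompactSpace Y := QuasiCompact.compactSpace_of_compactSpace g
  haveI : IsNoetherian Y := { }
  haveI : LocallyOfFiniteType f := locallyOfFiniteType_of_comp f g
  haveI : QuasiCompact f := QuasiCompact.of_comp f g
  rw [mem_locusMor_iff P hP f g] at hη
  push_neg at hη
  obtain ⟨y₀, hy₀η, hy₀⟩ := hη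
  refine with_redSub P hP f y₀ (fun Z _ _ i _ XZ fZ _ _ hrange hgen hiff => ?_)
  have h1 : genericPoint Z ∉ ConsProp.locus P fZ := fun h => hy₀ (by
    have := (hiff _).mpr h
    rwa [hgen] at this)
  rcases hP2 fZ with ⟨z, hz⟩ | ⟨z, hz⟩
  · exfalso
    have hg : genericPoint Z ∈ interior (ConsProp.locus P fZ) :=
      ((genericPoint_spec Z).mem_open_set_iff isOpen_interior).mpr ⟨z, trivial, hz⟩
    exact h1 (interior_subset hg)
  · let W' : Z.Opens := ⟨interior (ConsProp.locus P fZ)ᶜ, isOpen_interior⟩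
    have hgW : genericPoint Z ∈ W' :=
      ((genericPoint_spec Z).mem_open_set_iff isOpen_interior).mpr ⟨z, trivial, hz⟩
    let q : (W' : Scheme.{u}) ⟶ S := W'.ι ≫ i ≫ g
    haveI : LocallyOfFiniteType q := inferInstance
    haveI : IsNoetherian (W' : Scheme.{u}) :=
      { toCompactSpace := isCompact_iff_compactSpace.mp (NoetherianSpace.isCompact _) }
    haveI : QuasiCompact q := inferInstance
    have hq : ∀ w : (W' : Scheme.{u}), q w = g (i w.1) := fun w => rfl
    have hηq : genericPoint S ∈ Set.range q :=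
      ⟨⟨genericPoint Z, hgW⟩, by rw [hq, hgen, hy₀η]⟩
    obtain ⟨U, hU, ⟨s, hs⟩, hsub⟩ := Groth.Agent.Lib.ConsPairGeom.exists_open_subset_range q hηq
    refine ⟨s, mem_interior.mpr ⟨U, ?_, hU, hs⟩⟩
    intro s' hs' hmem
    obtain ⟨w, rfl⟩ := hsub hs'
    have h2 := (mem_locusMor_iff P hP f g _).mp hmem (i w.1) (hq w).symm
    have h3 : w.1 ∈ (ConsProp.locus P fZ)ᶜ := interior_subset w.2
    exact h3 ((hiff w.1).mp h2)

/-- If `P` is constructible, so is "every fibre of `f` has `P`". -/
theorem isConsMor_forall_fibre (hP : ConsProp.IsCons P) :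
    ConsProp.IsConsMor (fun X Y _ f _ => ∀ y : ↥Y, P (f.fiberToSpecResidueField y)) := by
  refine ⟨isFieldStableMor_forall_fibre P hP.1, fun X Y S f g _ _ _ _ _ _ => ?_⟩
  by_cases hη : genericPoint S ∈ ConsProp.locusMor
      (fun X Y _ f _ => ∀ y : ↥Y, P (f.fiberToSpecResidueField y)) f g
  · exact Or.inl (interior_nonempty_of_generic P hP.1 (family_ind_of_cons P hP.2) f g hη)
  · exact Or.inr (interior_compl_nonempty_of_generic P hP.1 hP.2 f g hη)

end scheme

end Groth.Agent.Lib.ConsMorFibre
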