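import Groth.Agent.Lib.LimDescentIso
import Groth.Agent.Lib.LimConstructible
import Groth.Agent.S12442
import Mathlib.CategoryTheory.Limits.Shapes.Diagonal

/-!
# Base change bookkeeping (`IsBC`), diagonals, and descent of monomorphisms / surjective /
universally injective morphisms through cofiltered limits (EGA IV 8.10.5)
-/

set_option autoImplicit false
universe u

open CategoryTheory Limits AlgebraicGeometry

namespace Groth.Agent.Lib.LimDescent

open Groth.Agent.Lib.LimPullback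

section DBC

variable {C : Type*} [Category C] [HasPullbacks C]
variable {X' X Y' Y : C} {p : X' ⟶ X} {h : X' ⟶ Y'} {f : X ⟶ Y} {q : Y' ⟶ Y}

/-- The canonical map `X' ×_{Y'} X' ⟶ X ×_Y X` induced by a commutative square. -/
noncomputable def diagMap (sq : CommSq p h f q) : pullback h h ⟶ pullback f f :=
  pullback.map h h f f p p q sq.w.symm sq.w.symm

@[reassoc (attr := simp)]
theorem diagMap_fst (sq : CommSq p h f q) :
    diagMap sq ≫ pullback.fst f f = pullback.fst h h ≫ p := pullback.lift_fst _ _ _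

@[reassoc (attr := simp)]
theorem diagMap_snd (sq : CommSq p h f q) :
    diagMap sq ≫ pullback.snd f f = pullback.snd h h ≫ p := pullback.lift_snd _ _ _

theorem isPullback_diagMap_fst (sq : IsPullback p h f q) :
    IsPullback (diagMap sq.toCommSq) (pullback.fst h h) (pullback.fst f f) p := by
  refine IsPullback.of_right ?_ (diagMap_fst sq.toCommSq) (IsPullback.of_hasPullback f f).flip
  rw [diagMap_snd, sq.w]
  exact (IsPullback.of_hasPullback h h).flip.paste_horiz sq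

/-- The diagonal of a base change is the base change of the diagonal. -/
theorem isPullback_diagonal (sq : IsPullback p h f q) :
    IsPullback p (pullback.diagonal h) (pullback.diagonal f) (diagMap sq.toCommSq) := by
  refine IsPullback.of_bot ?_ ?_ (isPullback_diagMap_fst sq)
  · rw [pullback.diagonal_fst, pullback.diagonal_fst]
    exact IsPullback.of_vert_isIso ⟨by simp⟩
  · apply pullback.hom_ext
    · rw [Category.assoc, pullback.diagonal_fst, Category.assoc, diagMap_fst,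
        pullback.diagonal_fst_assoc, Category.comp_id]
    · rw [Category.assoc, pullback.diagonal_snd, Category.assoc, diagMap_snd,
        pullback.diagonal_snd_assoc, Category.comp_id]

end DBC

section IsBC

variable {X₀ Y₀ B : Scheme.{u}}

/-- `h` is a base change of `f₀ : X₀ ⟶ Y₀` (where `Y₀` lives over `B` via `g₀`) along `b : B' ⟶ B`:
`Y' = Y₀ ×_B B'` and `X' = X₀ ×_{Y₀} Y'`. -/
def IsBC (f₀ : X₀ ⟶ Y₀) (g₀ : Y₀ ⟶ B) {B' X' Y' : Scheme.{u}} (b : B' ⟶ B) (h : X' ⟶ Y') : Prop :=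
  ∃ (pY : Y' ⟶ Y₀) (gY : Y' ⟶ B') (pX : X' ⟶ X₀), IsPullback pY gY g₀ b ∧ IsPullback pX h f₀ pY

theorem isBC_bcMap (f₀ : X₀ ⟶ Y₀) (g₀ : Y₀ ⟶ B) {B' : Scheme.{u}} (b : B' ⟶ B) :
    IsBC f₀ g₀ b (bcMap f₀ g₀ b) :=
  ⟨_, _, _, IsPullback.of_hasPullback g₀ b, isPullback_bcMap f₀ g₀ b⟩

theorem IsBC.iff (P : MorphismProperty Scheme.{u}) [P.RespectsIso] {f₀ : X₀ ⟶ Y₀} {g₀ : Y₀ ⟶ B}
    {B' X' Y' : Scheme.{u}} {b : B' ⟶ B} {h : X' ⟶ Y'} (H : IsBC f₀ g₀ b h) :
    P h ↔ P (bcMap f₀ g₀ b) := by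
  obtain ⟨pY, gY, pX, hY, hX⟩ := H
  obtain ⟨eX, eY, e, -⟩ := exists_arrow_iso f₀ g₀ b h gY pY pX hY hX
  have : bcMap f₀ g₀ b = eX.inv ≫ h ≫ eY.hom := by rw [← e, Iso.inv_hom_id_assoc]
  rw [this, P.cancel_left_of_respectsIso, P.cancel_right_of_respectsIso]

theorem IsBC.diagonal {f₀ : X₀ ⟶ Y₀} {g₀ : Y₀ ⟶ B} {B' X' Y' : Scheme.{u}} {b : B' ⟶ B}
    {h : X' ⟶ Y'} (H : IsBC f₀ g₀ b h) :
    IsBC (pullback.diagonal f₀) (pullback.fst f₀ f₀ ≫ f₀ ≫ g₀) b (pullback.diagonal h) := by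
  obtain ⟨pY, gY, pX, hY, hX⟩ := H
  refine ⟨diagMap hX.toCommSq, pullback.fst h h ≫ h ≫ gY, pX, ?_, isPullback_diagonal hX⟩
  exact (isPullback_diagMap_fst hX).paste_vert (hX.paste_vert hY)

end IsBC

section mono

variable {I : Type u} [Category.{u} I] (D : I ⥤ Scheme.{u}) (c : Cone D)
variable [IsCofiltered I] (hc : IsLimit c) [∀ {i j} (f : i ⟶ j), IsAffineHom (D.map f)]

/-- Instances for the diagonal setup. -/
theorem diagonal_setup {X₀ Y₀ B : Scheme.{u}} (f₀ : X₀ ⟶ Y₀) (g₀ : Y₀ ⟶ B)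
    [QuasiCompact g₀] [QuasiSeparated g₀] [LocallyOfFinitePresentation g₀]
    [QuasiCompact (f₀ ≫ g₀)] [QuasiSeparated (f₀ ≫ g₀)] [LocallyOfFinitePresentation (f₀ ≫ g₀)] :
    QuasiCompact (pullback.fst f₀ f₀ ≫ f₀ ≫ g₀) ∧ QuasiSeparated (pullback.fst f₀ f₀ ≫ f₀ ≫ g₀) ∧
    LocallyOfFinitePresentation (pullback.fst f₀ f₀ ≫ f₀ ≫ g₀) ∧
    QuasiCompact (pullback.diagonal f₀ ≫ pullback.fst f₀ f₀ ≫ f₀ ≫ g₀) ∧
    QuasiSeparated (pullback.diagonal f₀ ≫ pullback.fst f₀ f₀ ≫ f₀ ≫ g₀) ∧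
    LocallyOfFinitePresentation (pullback.diagonal f₀ ≫ pullback.fst f₀ f₀ ≫ f₀ ≫ g₀) ∧
    LocallyOfFinitePresentation (pullback.diagonal f₀) := by
  haveI : QuasiCompact f₀ := QuasiCompact.of_comp f₀ g₀
  haveI : QuasiSeparated f₀ := QuasiSeparated.of_comp f₀ g₀
  haveI : LocallyOfFinitePresentation f₀ := Groth.Agent.S12442.result f₀ g₀
  have e : pullback.diagonal f₀ ≫ pullback.fst f₀ f₀ ≫ f₀ ≫ g₀ = f₀ ≫ g₀ := by
    rw [pullback.diagonal_fst_assoc]
  refine ⟨inferInstance, inferInstance, inferInstance, ?_, ?_, ?_, Groth.Agent.S4599.result f₀⟩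
  · rw [e]; infer_instance
  · rw [e]; infer_instance
  · rw [e]; infer_instance

include hc in
theorem exists_mono_stage {i₀ : I} [CompactSpace (D.obj i₀)] [QuasiSeparatedSpace (D.obj i₀)]
    {X₀ Y₀ : Scheme.{u}} (f₀ : X₀ ⟶ Y₀) (g₀ : Y₀ ⟶ D.obj i₀)
    [QuasiCompact g₀] [QuasiSeparated g₀] [LocallyOfFinitePresentation g₀]
    [QuasiCompact (f₀ ≫ g₀)] [QuasiSeparated (f₀ ≫ g₀)] [LocallyOfFinitePresentation (f₀ ≫ g₀)]
    (h : Mono (bcMap f₀ g₀ (c.π.app i₀))) :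
    ∃ j : Over i₀, Mono (bcMap f₀ g₀ (D.map j.hom)) := by
  obtain ⟨h1, h2, h3, h4, h5, h6, h7⟩ := diagonal_setup f₀ g₀
  have hlim : IsIso (bcMap (pullback.diagonal f₀) (pullback.fst f₀ f₀ ≫ f₀ ≫ g₀) (c.π.app i₀)) := by
    have := ((isBC_bcMap f₀ g₀ (c.π.app i₀)).diagonal.iff (MorphismProperty.isomorphisms _)).mp
      (by
        change IsIso _
        infer_instance)
    exact this
  obtain ⟨j, hj⟩ := exists_isIso_stage D c hc (pullback.diagonal f₀)
    (pullback.fst f₀ f₀ ≫ f₀ ≫ g₀) hlim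
  refine ⟨j, ?_⟩
  have : IsIso (pullback.diagonal (bcMap f₀ g₀ (D.map j.hom))) :=
    ((isBC_bcMap f₀ g₀ (D.map j.hom)).diagonal.iff (MorphismProperty.isomorphisms _)).mpr hj
  exact (pullback.isIso_diagonal_iff _).mp this

end mono

end Groth.Agent.Lib.LimDescent
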