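import Groth.Agent.Lib.FibreConstructible
import Groth.Agent.Lib.LimDescentBC
import Mathlib.AlgebraicGeometry.Morphisms.UniversallyInjective

/-!
# Constructibility of the locus where the fibre map is universally injective (EGA IV 9.6.1 (ii))
-/

set_option autoImplicit false
universe u

open CategoryTheory Limits AlgebraicGeometry Topology

namespace Groth.Agent.Lib.FibreConstructible

open Groth.Agent.Lib.LimDescent

variable {X Y S : Scheme.{u}} (f : X ⟶ Y) (g : Y ⟶ S)

theorem universallyInjective_bcMap_iff {B' : Scheme.{u}} (b : B' ⟶ S) :
    UniversallyInjective (bcMap f g b) ↔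
      Function.Surjective
        (bcMap (pullback.diagonal f) (pullback.fst f f ≫ f ≫ g) b).base := by
  rw [UniversallyInjective.iff_diagonal,
    (isBC_bcMap f g b).diagonal.iff @Surjective]
  exact ⟨fun h => h.surj, fun h => ⟨h⟩⟩

/-- EGA IV 9.6.1 (ii): the set of `s` such that `f_s` is universally injective is locally
constructible. -/
theorem isLocallyConstructible_setOf_universallyInjective
    [LocallyOfFinitePresentation g] [QuasiCompact g] [QuasiSeparated g]
    [LocallyOfFinitePresentation (f ≫ g)] [QuasiCompact (f ≫ g)] [QuasiSeparated (f ≫ g)] :
    IsLocallyConstructible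
      {s : S | UniversallyInjective (bcMap f g (S.fromSpecResidueField s))} := by
  obtain ⟨h1, h2, h3, h4, h5, h6, h7⟩ := diagonal_setup f g
  have := isLocallyConstructible_setOf_surjective (pullback.diagonal f)
    (pullback.fst f f ≫ f ≫ g)
  convert this using 2
  ext s
  exact universallyInjective_bcMap_iff f g _

end Groth.Agent.Lib.FibreConstructible
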