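import Groth.Agent.Lib.QuasiFiniteAtBC
import Mathlib.AlgebraicGeometry.Morphisms.FinitePresentation
import Mathlib.RingTheory.Extension.Presentation.Core
import Mathlib.Topology.Constructible
import Mathlib.AlgebraicGeometry.Noetherian

/-!
# The quasi-finite locus of a morphism locally of finite presentation is locally constructible

By Noetherian approximation (Mathlib's `Algebra.Presentation.Core`), an affine morphism of finite
presentation is the base change of a morphism of Noetherian affine schemes; the quasi-finite locus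
commutes with base change and is open, hence constructible in the Noetherian case.
-/

set_option autoImplicit false
universe u

open CategoryTheory Limits AlgebraicGeometry Topology TensorProduct TopologicalSpace

namespace Groth.Agent.Lib.QuasiFiniteLocusCons

open Groth.Agent.Lib.QuasiFiniteAtBC

/-- An open subset of a Noetherian space is constructible. -/
theorem isConstructible_of_isOpen_of_noetherianSpace {X : Type*} [TopologicalSpace X]
    [NoetherianSpace X] {U : Set X} (hU : IsOpen U) : IsConstructible U :=
  IsRetrocompact.isConstructible hU (fun _ _ _ => NoetherianSpace.isCompact _)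

section affine

variable {R S : CommRingCat.{u}} (φ : R ⟶ S)

/-- Noetherian case. -/
theorem isConstructible_quasiFiniteLocus_of_isNoetherianRing [IsNoetherianRing S]
    [LocallyOfFiniteType (Spec.map φ)] :
    IsConstructible ((Spec.map φ).quasiFiniteLocus : Set (Spec S)) := by
  exact isConstructible_of_isOpen_of_noetherianSpace (Spec.map φ).quasiFiniteLocus.2

set_option maxHeartbeats 800000 in
/-- The quasi-finite locus of `Spec S ⟶ Spec R`, for `S` an `R`-algebra of finite presentation,
is constructible. -/
theorem isConstructible_quasiFiniteLocus_Spec [LocallyOfFinitePresentation (Spec.map φ)] :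
    IsConstructible ((Spec.map φ).quasiFiniteLocus : Set (Spec S)) := by
  have hφ : φ.hom.FinitePresentation :=
    (HasRingHomProperty.Spec_iff (P := @LocallyOfFinitePresentation)).mp inferInstance
  algebraize [φ.hom]
  let P := Algebra.Presentation.ofFinitePresentation R S
  let R₀ := P.Core
  let S₀ := P.ModelOfHasCoeffs R₀
  let e : R ⊗[R₀] S₀ ≃ₐ[R] S := P.tensorModelOfHasCoeffsEquiv R₀
  haveI : IsNoetherianRing R₀ := Algebra.FiniteType.isNoetherianRing ℤ R₀
  haveI : IsNoetherianRing S₀ := Algebra.FiniteType.isNoetherianRing R₀ S₀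
  let φ₀ : CommRingCat.of R₀ ⟶ CommRingCat.of S₀ := CommRingCat.ofHom (algebraMap R₀ S₀)
  let a : CommRingCat.of R₀ ⟶ R := CommRingCat.ofHom (algebraMap R₀ R)
  let inl : R ⟶ CommRingCat.of (R ⊗[R₀] S₀) :=
    CommRingCat.ofHom Algebra.TensorProduct.includeLeftRingHom
  let inr : CommRingCat.of S₀ ⟶ CommRingCat.of (R ⊗[R₀] S₀) :=
    CommRingCat.ofHom Algebra.TensorProduct.includeRight.toRingHom
  have po : IsPushout a φ₀ inl inr := CommRingCat.isPushout_tensorProduct R₀ R S₀
  let eC : CommRingCat.of (R ⊗[R₀] S₀) ⟶ S := CommRingCat.ofHom e.toRingEquiv.toRingHom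
  haveI : IsIso eC := by
    have : eC = e.toRingEquiv.toCommRingCatIso.hom := rfl
    rw [this]; infer_instance
  have hcomm : inl ≫ eC = φ := by
    ext r
    have h1 := e.commutes r
    rw [Algebra.TensorProduct.algebraMap_apply] at h1
    change e ((r : (R : Type u)) ⊗ₜ[R₀] (1 : S₀)) = algebraMap R S r
    simpa using h1
  have pb : IsPullback (Spec.map inr) (Spec.map inl) (Spec.map φ₀) (Spec.map a) :=
    (isPullback_SpecMap_of_isPushout a φ₀ inl inr po).flip
  haveI : LocallyOfFinitePresentation (Spec.map φ₀) :=
    (HasRingHomProperty.Spec_iff (P := @LocallyOfFinitePresentation)).mpr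
      (RingHom.finitePresentation_algebraMap.mpr inferInstance)
  haveI : LocallyOfFiniteType (Spec.map inl) :=
    MorphismProperty.of_isPullback pb inferInstance
  have h0 : IsConstructible ((Spec.map φ₀).quasiFiniteLocus : Set (Spec (CommRingCat.of S₀))) :=
    isConstructible_quasiFiniteLocus_of_isNoetherianRing φ₀
  have h1 : (Spec.map inl).quasiFiniteLocus = Spec.map inr ⁻¹ᵁ (Spec.map φ₀).quasiFiniteLocus :=
    quasiFiniteLocus_of_isPullback pb
  have h2 : Spec.map φ = Spec.map eC ≫ Spec.map inl := by
    rw [← Spec.map_comp, hcomm]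
  have h3 : (Spec.map φ).quasiFiniteLocus =
      Spec.map eC ⁻¹ᵁ (Spec.map inl).quasiFiniteLocus := by
    ext x
    change (Spec.map φ).QuasiFiniteAt x ↔ (Spec.map inl).QuasiFiniteAt (Spec.map eC x)
    have := Scheme.Hom.quasiFiniteAt_comp_iff_of_isOpenImmersion (f := Spec.map eC)
      (g := Spec.map inl) (x := x)
    rw [h2]
    exact this
  rw [h3, h1]
  exact (Spec.map eC).isConstructible_preimage ((Spec.map inr).isConstructible_preimage h0)

end affine

section general

variable {X Y : Scheme.{u}} (f : X ⟶ Y)

theorem isConstructible_quasiFiniteLocus_of_isAffine [IsAffine X] [IsAffine Y]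
    [LocallyOfFinitePresentation f] :
    IsConstructible (f.quasiFiniteLocus : Set X) := by
  have hnat : X.isoSpec.hom ≫ Spec.map f.appTop = f ≫ Y.isoSpec.hom :=
    Scheme.isoSpec_hom_naturality f
  have e1 : Spec.map f.appTop = X.isoSpec.inv ≫ f ≫ Y.isoSpec.hom := by
    rw [← hnat, Iso.inv_hom_id_assoc]
  haveI : LocallyOfFinitePresentation (Spec.map f.appTop) := by rw [e1]; infer_instance
  have h : f.quasiFiniteLocus = X.isoSpec.hom ⁻¹ᵁ (Spec.map f.appTop).quasiFiniteLocus := by
    ext x
    change f.QuasiFiniteAt x ↔ (Spec.map f.appTop).QuasiFiniteAt (X.isoSpec.hom x)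
    rw [← Scheme.Hom.quasiFiniteAt_comp_iff_of_isOpenImmersion (f := X.isoSpec.hom), hnat,
      Scheme.Hom.quasiFiniteAt_comp_iff]
  rw [h]
  exact X.isoSpec.hom.isConstructible_preimage (isConstructible_quasiFiniteLocus_Spec _)

/-- The quasi-finite locus of a morphism locally of finite presentation is locally
constructible (i.e. it is a retrocompact open). -/
theorem isLocallyConstructible_quasiFiniteLocus [LocallyOfFinitePresentation f] :
    IsLocallyConstructible (f.quasiFiniteLocus : Set X) := by
  intro x
  obtain ⟨_, ⟨V : Y.Opens, hV, rfl⟩, hxV, -⟩ := Y.isBasis_affineOpens.exists_subset_of_mem_open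
    (Set.mem_univ (f x)) isOpen_univ
  obtain ⟨_, ⟨U : X.Opens, hU, rfl⟩, hxU, hUV⟩ := X.isBasis_affineOpens.exists_subset_of_mem_open
    hxV (f ⁻¹ᵁ V).2
  refine ⟨U, U.2.mem_nhds hxU, U.2, ?_⟩
  haveI : IsAffine U := hU
  haveI : IsAffine V := hV
  have h : (Subtype.val : ↥(U : Set X) → X) ⁻¹' (f.quasiFiniteLocus : Set X) =
      ((f.resLE V U hUV).quasiFiniteLocus : Set U) := by
    ext x
    change f.QuasiFiniteAt x.1 ↔ (f.resLE V U hUV).QuasiFiniteAt x
    rw [← Scheme.Hom.quasiFiniteAt_comp_iff (g := V.ι), Scheme.Hom.resLE_comp_ι,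
      Scheme.Hom.quasiFiniteAt_comp_iff_of_isOpenImmersion]
    rfl
  rw [h]
  exact isConstructible_quasiFiniteLocus_of_isAffine _

end general

end Groth.Agent.Lib.QuasiFiniteLocusCons
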