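import Groth.Agent.Lib.FibreConstructible
import Groth.Agent.Lib.QuasiFiniteLocusCons

/-!
# Constructibility of the locus where the fibre map is locally quasi-finite (EGA IV 9.6.1 (iii))
-/

set_option autoImplicit false
universe u

open CategoryTheory Limits AlgebraicGeometry Topology

namespace Groth.Agent.Lib.FibreConstructible

open Groth.Agent.Lib.LimDescent Groth.Agent.Lib.QuasiFiniteAtBC Groth.Agent.Lib.QuasiFiniteLocusCons

variable {X Y S : Scheme.{u}} (f : X ⟶ Y) (g : Y ⟶ S)

theorem locallyQuasiFinite_bcMap_iff [LocallyOfFiniteType f] (s : S) :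
    LocallyQuasiFinite (bcMap f g (S.fromSpecResidueField s)) ↔
      (f ≫ g).base ⁻¹' {s} ⊆ (f.quasiFiniteLocus : Set X) := by
  haveI : LocallyOfFiniteType (bcMap f g (S.fromSpecResidueField s)) :=
    MorphismProperty.of_isPullback (isPullback_bcMap f g (S.fromSpecResidueField s)) inferInstance
  rw [← Scheme.Hom.quasiFiniteLocus_eq_top_iff,
    quasiFiniteLocus_of_isPullback (isPullback_bcMap f g (S.fromSpecResidueField s))]
  have hr : Set.range (pullback.fst (f ≫ g) (S.fromSpecResidueField s)).base =
      (f ≫ g).base ⁻¹' {s} := by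
    have := Scheme.Pullback.range_fst (f ≫ g) (S.fromSpecResidueField s)
    rw [Scheme.range_fromSpecResidueField] at this
    exact this
  rw [← hr]
  constructor
  · rintro h _ ⟨z, rfl⟩
    have : z ∈ pullback.fst (f ≫ g) (S.fromSpecResidueField s) ⁻¹ᵁ f.quasiFiniteLocus := by
      rw [h]; trivial
    exact this
  · intro h
    exact eq_top_iff.mpr fun z _ => h ⟨z, rfl⟩

theorem setOf_locallyQuasiFinite_bcMap_eq [LocallyOfFiniteType f] :
    {s : S | LocallyQuasiFinite (bcMap f g (S.fromSpecResidueField s))} =
      ((f ≫ g).base '' (f.quasiFiniteLocus : Set X)ᶜ)ᶜ := by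
  ext s
  rw [Set.mem_setOf_eq, locallyQuasiFinite_bcMap_iff]
  constructor
  · rintro h ⟨x, hx, rfl⟩
    exact hx (h rfl)
  · intro h x hx
    by_contra hx'
    exact h ⟨x, hx', hx⟩

/-- EGA IV 9.6.1 (iii): the set of `s` such that `f_s` is (locally) quasi-finite is locally
constructible. -/
theorem isLocallyConstructible_setOf_locallyQuasiFinite
    [LocallyOfFinitePresentation g]
    [LocallyOfFinitePresentation (f ≫ g)] [QuasiCompact (f ≫ g)] :
    IsLocallyConstructible
      {s : S | LocallyQuasiFinite (bcMap f g (S.fromSpecResidueField s))} := by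
  haveI : LocallyOfFinitePresentation f := Groth.Agent.S12442.result f g
  rw [setOf_locallyQuasiFinite_bcMap_eq]
  apply Groth.Agent.Lib.ConsTop.isLocallyConstructible_compl
  apply Scheme.Hom.isLocallyConstructible_image (f ≫ g)
  apply Groth.Agent.Lib.ConsTop.isLocallyConstructible_compl
  exact isLocallyConstructible_quasiFiniteLocus f

end Groth.Agent.Lib.FibreConstructible
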