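import Groth.Prelude.Def_EGA4Misc
import Groth.Agent.Lib.ConstrTop
import Groth.Agent.Lib.ConsMorFibre
import Groth.Agent.Lib.FibreConstructible2
import Groth.Agent.Lib.FibreConstructible3
import Groth.Agent.Lib.LimDescentLoc
import Groth.Agent.Lib.QuasiFiniteAtBC

/-!
# Constructible properties: universally injective, quasi-finite, finite
-/

set_option autoImplicit false
universe u

open CategoryTheory Limits AlgebraicGeometry Topology TopologicalSpace MorphismProperty

namespace Groth.Agent.Lib.ConsPropInst

open Groth.Agent.Lib.LimDescent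

/-- In an integral Noetherian scheme, a locally constructible set or its complement contains a
nonempty open subset. -/
theorem interior_nonempty_or_of_isLocallyConstructible {S : Scheme.{u}} [IsIntegral S]
    [IsNoetherian S] {E : Set S} (hE : IsLocallyConstructible E) :
    (interior E).Nonempty ∨ (interior Eᶜ).Nonempty := by
  have hE' : IsConstructible E := hE.isConstructible
  rcases Groth.Agent.Lib.ConstrTop.dichotomy hE' (IrreducibleSpace.isIrreducible_univ S) with
    ⟨U, hU, ⟨x, hx⟩, hsub⟩ | ⟨U, hU, ⟨x, hx⟩, hsub⟩
  · rw [Set.inter_univ] at hsub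
    exact Or.inl ⟨x, mem_interior.mpr ⟨U, hsub, hU, hx.1⟩⟩
  · rw [Set.inter_univ] at hsub
    exact Or.inr ⟨x, mem_interior.mpr ⟨U, hsub, hU, hx.1⟩⟩

/-- The fpqc morphisms. -/
abbrev Fpqc : MorphismProperty Scheme.{u} := @Surjective ⊓ @Flat ⊓ @QuasiCompact

/-- A morphism between one-point integral schemes is fpqc. -/
theorem fpqc_of_onePoint {T T' : Scheme.{u}} (h : T' ⟶ T) [IsIntegral T] [Subsingleton T]
    [IsIntegral T'] [Subsingleton T'] : Fpqc h := by
  refine ⟨⟨⟨fun t => ?_⟩, inferInstance⟩, inferInstance⟩
  obtain ⟨t'⟩ := (inferInstance : Nonempty T')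
  exact ⟨t', Subsingleton.elim _ _⟩

/-- Field stability (one scheme) from stability under base change and fpqc descent. -/
theorem isFieldStable_of_descends (Q : MorphismProperty Scheme.{u}) [Q.IsStableUnderBaseChange]
    [Q.DescendsAlong (@Surjective ⊓ @Flat ⊓ @QuasiCompact)] :
    ConsProp.IsFieldStable (fun _ _ g => Q g) := by
  intro Y Y' T T' g g' e h _ _ _ _ _ _ sq
  exact (MorphismProperty.iff_of_isPullback sq.flip (fpqc_of_onePoint h)).symm

/-- Field stability (morphisms) from stability under base change and fpqc descent. -/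
theorem isFieldStableMor_of_descends (Q : MorphismProperty Scheme.{u}) [Q.IsStableUnderBaseChange]
    [Q.DescendsAlong (@Surjective ⊓ @Flat ⊓ @QuasiCompact)] :
    ConsProp.IsFieldStableMor (fun _ _ _ f _ => Q f) := by
  intro X X' Y Y' T T' f g f' g' eX eY h _ _ _ _ _ _ _ _ hY hX
  have hQ : Fpqc eY :=
    MorphismProperty.of_isPullback hY.flip (fpqc_of_onePoint h)
  exact (MorphismProperty.iff_of_isPullback hX.flip hQ).symm

/-- `pullback.snd u b` versus `bcMap u (𝟙 S) b`. -/
theorem snd_iff_bcMap (Q : MorphismProperty Scheme.{u}) [Q.RespectsIso] {X S B' : Scheme.{u}}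
    (u : X ⟶ S) (b : B' ⟶ S) : Q (pullback.snd u b) ↔ Q (bcMap u (𝟙 S) b) :=
  (isBC_snd u b).iff Q

/-- The locus (one scheme) of a morphism property, in `bcMap` form. -/
theorem locus_eq (Q : MorphismProperty Scheme.{u}) [Q.RespectsIso] {X S : Scheme.{u}}
    (u : X ⟶ S) :
    ConsProp.locus (fun _ _ g => Q g) u = {s | Q (bcMap u (𝟙 S) (S.fromSpecResidueField s))} := by
  ext s
  exact snd_iff_bcMap Q u (S.fromSpecResidueField s)

/-- The locus (morphisms) of a morphism property, in `bcMap` form. -/
theorem locusMor_eq (Q : MorphismProperty Scheme.{u}) {X Y S : Scheme.{u}} (f : X ⟶ Y)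
    (g : Y ⟶ S) :
    ConsProp.locusMor (fun _ _ _ f _ => Q f) f g =
      {s | Q (bcMap f g (S.fromSpecResidueField s))} := rfl

/-- Being radicial is a constructible property of morphisms. -/
theorem isConsMor_universallyInjective :
    ConsProp.IsConsMor (fun _ _ _ f _ => UniversallyInjective.{u} f) := by
  refine ⟨isFieldStableMor_of_descends @UniversallyInjective, fun X Y S f g _ _ _ _ _ _ => ?_⟩
  haveI : IsLocallyNoetherian Y := LocallyOfFiniteType.isLocallyNoetherian g
  haveI : IsLocallyNoetherian X := LocallyOfFiniteType.isLocallyNoetherian (f ≫ g)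
  rw [locusMor_eq @UniversallyInjective]
  exact interior_nonempty_or_of_isLocallyConstructible
    (Groth.Agent.Lib.FibreConstructible.isLocallyConstructible_setOf_universallyInjective f g)

/-- Being radicial is a constructible property of algebraic schemes. -/
theorem isCons_universallyInjective :
    ConsProp.IsCons (fun _ _ g => UniversallyInjective.{u} g) := by
  refine ⟨isFieldStable_of_descends @UniversallyInjective, fun X S u _ _ _ _ => ?_⟩
  haveI : IsLocallyNoetherian X := LocallyOfFiniteType.isLocallyNoetherian u
  rw [locus_eq @UniversallyInjective]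
  exact interior_nonempty_or_of_isLocallyConstructible
    (Groth.Agent.Lib.FibreConstructible.isLocallyConstructible_setOf_universallyInjective u (𝟙 S))

/-- Local quasi-finiteness is invariant under one-point base extension. -/
theorem locallyQuasiFinite_iff_of_onePoint {X X' Y Y' T T' : Scheme.{u}} (f : X ⟶ Y) (g : Y ⟶ T)
    (f' : X' ⟶ Y') (g' : Y' ⟶ T') (eX : X' ⟶ X) (eY : Y' ⟶ Y) (h : T' ⟶ T)
    [IsIntegral T] [Subsingleton T] [IsIntegral T'] [Subsingleton T']
    [LocallyOfFiniteType f]
    (hY : IsPullback eY g' g h) (hX : IsPullback eX f' f eY) :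
    LocallyQuasiFinite f ↔ LocallyQuasiFinite f' := by
  constructor
  · intro H
    exact MorphismProperty.of_isPullback (P := @LocallyQuasiFinite) hX H
  · intro H
    haveI : LocallyOfFiniteType f' :=
      MorphismProperty.of_isPullback (P := @LocallyOfFiniteType) hX inferInstance
    have hh : Fpqc h := fpqc_of_onePoint h
    haveI : Surjective eY :=
      MorphismProperty.of_isPullback (P := @Surjective) hY.flip hh.1.1
    haveI : Surjective eX :=
      MorphismProperty.of_isPullback (P := @Surjective) hX.flip inferInstance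
    rw [← Scheme.Hom.quasiFiniteLocus_eq_top_iff] at H ⊢
    rw [Groth.Agent.Lib.QuasiFiniteAtBC.quasiFiniteLocus_of_isPullback hX] at H
    ext x
    obtain ⟨x', rfl⟩ := eX.surjective x
    have : x' ∈ eX ⁻¹ᵁ f.quasiFiniteLocus := by rw [H]; trivial
    exact ⟨fun _ => trivial, fun _ => this⟩

/-- The property "quasi-finite" of morphisms. -/
abbrev QFin : ∀ ⦃X Y T : Scheme.{u}⦄, (X ⟶ Y) → (Y ⟶ T) → Prop :=
  fun _ _ _ f _ => LocallyOfFiniteType f ∧ QuasiCompact f ∧ LocallyQuasiFinite f

/-- Being quasi-finite is a constructible property of morphisms. -/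
theorem isConsMor_quasiFinite : ConsProp.IsConsMor QFin.{u} := by
  refine ⟨?_, fun X Y S f g _ _ _ _ _ _ => ?_⟩
  · intro X X' Y Y' T T' f g f' g' eX eY h _ _ _ _ _ _ _ _ hY hX
    haveI := Groth.Agent.Lib.ConsMorFibre.isNoetherian_of_onePoint T
    haveI : IsLocallyNoetherian Y := LocallyOfFiniteType.isLocallyNoetherian g
    haveI : LocallyOfFiniteType f := locallyOfFiniteType_of_comp f g
    haveI : QuasiCompact f := QuasiCompact.of_comp f g
    haveI : LocallyOfFiniteType f' :=
      MorphismProperty.of_isPullback (P := @LocallyOfFiniteType) hX inferInstance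
    haveI : QuasiCompact f' :=
      MorphismProperty.of_isPullback (P := @QuasiCompact) hX inferInstance
    have key := locallyQuasiFinite_iff_of_onePoint f g f' g' eX eY h hY hX
    exact ⟨fun H => ⟨inferInstance, inferInstance, key.mp H.2.2⟩,
      fun H => ⟨inferInstance, inferInstance, key.mpr H.2.2⟩⟩
  · haveI : IsLocallyNoetherian Y := LocallyOfFiniteType.isLocallyNoetherian g
    haveI : IsLocallyNoetherian X := LocallyOfFiniteType.isLocallyNoetherian (f ≫ g)
    haveI : LocallyOfFiniteType f := locallyOfFiniteType_of_comp f g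
    haveI : QuasiCompact f := QuasiCompact.of_comp f g
    have hE : ConsProp.locusMor QFin f g =
        {s | LocallyQuasiFinite (bcMap f g (S.fromSpecResidueField s))} := by
      ext s
      have h1 : LocallyOfFiniteType (bcMap f g (S.fromSpecResidueField s)) :=
        MorphismProperty.of_isPullback (P := @LocallyOfFiniteType)
          (isPullback_bcMap f g (S.fromSpecResidueField s)) inferInstance
      have h2 : QuasiCompact (bcMap f g (S.fromSpecResidueField s)) :=
        MorphismProperty.of_isPullback (P := @QuasiCompact)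
          (isPullback_bcMap f g (S.fromSpecResidueField s)) inferInstance
      exact ⟨fun H => H.2.2, fun H => ⟨h1, h2, H⟩⟩
    rw [hE]
    exact interior_nonempty_or_of_isLocallyConstructible
      (Groth.Agent.Lib.FibreConstructible.isLocallyConstructible_setOf_locallyQuasiFinite f g)

/-- A one-point integral scheme is locally Artinian. -/
theorem isLocallyArtinian_of_onePoint (T : Scheme.{u}) [IsIntegral T] [Subsingleton T] :
    IsLocallyArtinian T := by
  infer_instance

/-- Over a one-point integral scheme, finite = finite type + quasi-finite. -/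
theorem isFinite_iff_of_onePoint {Y T : Scheme.{u}} (g : Y ⟶ T) [IsIntegral T] [Subsingleton T]
    [QuasiCompact g] : IsFinite g ↔ LocallyQuasiFinite g := by
  haveI := isLocallyArtinian_of_onePoint T
  exact ⟨fun _ => inferInstance, fun _ => IsFinite.of_locallyQuasiFinite g⟩

/-- Being finite over the base field is a constructible property of algebraic schemes. -/
theorem isCons_isFinite : ConsProp.IsCons (fun _ _ g => IsFinite.{u} g) := by
  refine ⟨?_, fun X S u _ _ _ _ => ?_⟩
  · intro Y Y' T T' g g' e h _ _ _ _ _ _ sq
    haveI : QuasiCompact g' :=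
      MorphismProperty.of_isPullback (P := @QuasiCompact) sq inferInstance
    show IsFinite g ↔ IsFinite g'
    rw [isFinite_iff_of_onePoint g, isFinite_iff_of_onePoint g']
    have hY : IsPullback h (𝟙 T') (𝟙 T) h := IsPullback.of_vert_isIso ⟨by simp⟩
    exact locallyQuasiFinite_iff_of_onePoint g (𝟙 T) g' (𝟙 T') e h h hY sq
  · haveI : IsLocallyNoetherian X := LocallyOfFiniteType.isLocallyNoetherian u
    have hE : ConsProp.locus (fun _ _ g => IsFinite.{u} g) u =
        {s | LocallyQuasiFinite (bcMap u (𝟙 S) (S.fromSpecResidueField s))} := by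
      ext s
      haveI : QuasiCompact (pullback.snd u (S.fromSpecResidueField s)) :=
        MorphismProperty.pullback_snd _ _ inferInstance
      have h1 : IsFinite (pullback.snd u (S.fromSpecResidueField s)) ↔
          LocallyQuasiFinite (pullback.snd u (S.fromSpecResidueField s)) :=
        isFinite_iff_of_onePoint _
      exact h1.trans (snd_iff_bcMap @LocallyQuasiFinite u (S.fromSpecResidueField s))
    rw [hE]
    haveI : LocallyOfFiniteType (u ≫ 𝟙 S) := by rw [Category.comp_id]; infer_instance
    haveI : QuasiCompact (u ≫ 𝟙 S) := by rw [Category.comp_id]; infer_instance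
    exact interior_nonempty_or_of_isLocallyConstructible
      (Groth.Agent.Lib.FibreConstructible.isLocallyConstructible_setOf_locallyQuasiFinite u (𝟙 S))

end Groth.Agent.Lib.ConsPropInst
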