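import Groth.Agent.Lib.ConsLocusMorMain
import Groth.Agent.Lib.ConsPropInst
import Groth.Agent.Lib.ConsPairGeom
import Groth.Agent.Lib.ConsPairGeomInst
import Groth.Agent.Lib.LimDescentBC

/-!
# Ind-constructible properties of morphisms from limit descent (helper62)

If a property `Q` of morphisms is stable under base change, descends along fpqc morphisms and
descends along cofiltered limits with affine transition maps, then `Q(f)` is an ind-constructible
property of morphisms of algebraic schemes (EGA IV 9.3.x / 9.6.1 style).  Consequently the set of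
`s` with `Q(f_s)` is ind-constructible for `f : X ⟶ Y` between finitely presented `S`-schemes.
-/

set_option autoImplicit false
universe u

open CategoryTheory Limits AlgebraicGeometry Topology TopologicalSpace

namespace Groth.Agent.Lib.ConsMorInst

open Groth.Agent.Lib.LimDescent Groth.Agent.Lib.SpreadPair Groth.Agent.Lib.ConsLocusMor

/-- A base change along `b' ≫ t` is a base change of the base change along `t`. -/
theorem isBC_of_comp {X Y S B B' X' Y' : Scheme.{u}} {f : X ⟶ Y} {g : Y ⟶ S} (t : B ⟶ S)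
    (b' : B' ⟶ B) {h : X' ⟶ Y'} (H : IsBC f g (b' ≫ t) h) :
    IsBC (bcMap f g t) (pullback.snd g t) b' h := by
  obtain ⟨pY, gY, pX, hY, hX⟩ := H
  have wY : pY ≫ g = (gY ≫ b') ≫ t := by rw [Category.assoc]; exact hY.w
  have wX : pX ≫ f ≫ g = (h ≫ gY ≫ b') ≫ t := by
    rw [reassoc_of% hX.w, hY.w]
    simp only [Category.assoc]
  let pY' : Y' ⟶ pullback g t := pullback.lift pY (gY ≫ b') wY
  let pX' : X' ⟶ pullback (f ≫ g) t := pullback.lift pX (h ≫ gY ≫ b') wX
  have hY' : IsPullback pY' gY (pullback.snd g t) b' := by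
    refine IsPullback.of_right ?_ (pullback.lift_snd _ _ _) (IsPullback.of_hasPullback g t)
    rw [pullback.lift_fst]
    exact hY
  have hcomm : pX' ≫ bcMap f g t = h ≫ pY' := by
    apply pullback.hom_ext
    · rw [Category.assoc, bcMap_fst, pullback.lift_fst_assoc, Category.assoc, pullback.lift_fst,
        hX.w]
    · rw [Category.assoc, bcMap_snd, pullback.lift_snd, Category.assoc, pullback.lift_snd]
  have hX' : IsPullback pX' h (bcMap f g t) pY' := by
    refine IsPullback.of_right ?_ hcomm (isPullback_bcMap f g t)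
    rw [pullback.lift_fst, pullback.lift_fst]
    exact hX
  exact ⟨pY', gY, pX', hY', hX'⟩

/-- A base change of the base change along `t` is a base change along the composite. -/
theorem isBC_comp {X Y S B B' X' Y' : Scheme.{u}} {f : X ⟶ Y} {g : Y ⟶ S} (t : B ⟶ S)
    (b' : B' ⟶ B) {h : X' ⟶ Y'} (H : IsBC (bcMap f g t) (pullback.snd g t) b' h) :
    IsBC f g (b' ≫ t) h := by
  obtain ⟨pY, gY, pX, hY, hX⟩ := H
  exact ⟨pY ≫ pullback.fst g t, gY, pX ≫ pullback.fst (f ≫ g) t,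
    hY.paste_horiz (IsPullback.of_hasPullback g t), hX.paste_horiz (isPullback_bcMap f g t)⟩

variable (Q : MorphismProperty Scheme.{u})

/-- If `h` is a base change of `f` along `q : W ⟶ S` and has `Q`, then all fibre maps of `f` over
points in the range of `q` have `Q`. -/
theorem range_subset_locusMor [Q.RespectsIso] [Q.IsStableUnderBaseChange]
    [Q.DescendsAlong (@Surjective ⊓ @Flat ⊓ @QuasiCompact)] {X Y S W X' Y' : Scheme.{u}}
    (f : X ⟶ Y) (g : Y ⟶ S) [LocallyOfFiniteType g] [QuasiCompact g]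
    [LocallyOfFiniteType (f ≫ g)] [QuasiCompact (f ≫ g)] (q : W ⟶ S) {h : X' ⟶ Y'}
    (H : IsBC f g q h) (hQ : Q h) :
    Set.range q ⊆ ConsProp.locusMor (fun _ _ _ f _ => Q f) f g := by
  obtain ⟨pY, gY, pX, hY, hX⟩ := H
  rintro _ ⟨w, rfl⟩
  rw [← mem_locusMor_iff_of_isPullback
    (Groth.Agent.Lib.ConsPropInst.isFieldStableMor_of_descends Q) hY hX w]
  exact MorphismProperty.of_isPullback (isPullback_bcMap h gY _) hQ

open Groth.Agent.Lib.FGSubalgLimit in
/-- Spreading out: if the base change of `f` to a one-point scheme `T'` over a Noetherian base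
has `Q`, so does the base change to a scheme `W` of finite type over the base through which `T'`
factors. -/
theorem exists_finiteType_model_mor [Q.RespectsIso] (hQ : DescendsAlongLimit Q)
    {X Y S T' : Scheme.{u}} [IsNoetherian S] (f : X ⟶ Y) (g : Y ⟶ S)
    [LocallyOfFiniteType g] [QuasiCompact g] [LocallyOfFiniteType (f ≫ g)] [QuasiCompact (f ≫ g)]
    [Subsingleton T'] [Nonempty T'] (b : T' ⟶ S) (hb : Q (bcMap f g b)) :
    ∃ (W : Scheme.{u}) (q : W ⟶ S) (b' : T' ⟶ W),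
      LocallyOfFiniteType q ∧ QuasiCompact q ∧ b' ≫ q = b ∧ Q (bcMap f g q) := by
  obtain ⟨pt⟩ := ‹Nonempty T'›
  obtain ⟨U₀, hU₀, hx⟩ : ∃ U₀ : S.Opens, IsAffineOpen U₀ ∧ b pt ∈ U₀ := by
    obtain ⟨_, ⟨U, hU, rfl⟩, hxU, -⟩ :=
      S.isBasis_affineOpens.exists_subset_of_mem_open (Set.mem_univ (b pt)) isOpen_univ
    exact ⟨U, hU, hxU⟩
  let j₀ : Spec (CommRingCat.of Γ(S, U₀)) ⟶ S := hU₀.fromSpec
  haveI : IsOpenImmersion j₀ := inferInstanceAs (IsOpenImmersion hU₀.fromSpec)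
  have hrange : Set.range b ⊆ Set.range j₀ := by
    change Set.range b ⊆ Set.range hU₀.fromSpec
    rw [hU₀.range_fromSpec]
    rintro _ ⟨y, rfl⟩
    rw [Subsingleton.elim y pt]
    exact hx
  let β : T' ⟶ Spec (CommRingCat.of Γ(S, U₀)) := IsOpenImmersion.lift j₀ b hrange
  have hβ : β ≫ j₀ = b := IsOpenImmersion.lift_fac _ _ _
  let e : T' ≅ Spec (CommRingCat.of Γ(T', ⊤)) := T'.isoSpec
  let ρ : CommRingCat.of Γ(S, U₀) ⟶ CommRingCat.of Γ(T', ⊤) := Spec.preimage (e.inv ≫ β)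
  have hρ : Spec.map ρ = e.inv ≫ β := Spec.map_preimage _
  letI : Algebra Γ(S, U₀) Γ(T', ⊤) := ρ.hom.toAlgebra
  haveI : IsNoetherianRing Γ(S, U₀) := IsLocallyNoetherian.component_noetherian ⟨U₀, hU₀⟩
  -- the diagram
  let c : Cone (D Γ(S, U₀) Γ(T', ⊤)) := (cone Γ(S, U₀) Γ(T', ⊤)).extend e.hom
  have hc : IsLimit c := IsLimit.extendIso e.hom (isLimitCone Γ(S, U₀) Γ(T', ⊤))
  let i₀ : (FGSub Γ(S, U₀) Γ(T', ⊤))ᵒᵖ := Opposite.op ⟨⊥, Subalgebra.fg_bot⟩
  let t₀ : (D Γ(S, U₀) Γ(T', ⊤)).obj i₀ ⟶ S := toBase Γ(S, U₀) Γ(T', ⊤) i₀ ≫ j₀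
  have h1 : (cone Γ(S, U₀) Γ(T', ⊤)).π.app i₀ ≫ toBase Γ(S, U₀) Γ(T', ⊤) i₀ = e.inv ≫ β :=
    (cone_π_toBase Γ(S, U₀) Γ(T', ⊤) i₀).trans hρ
  have hbt : c.π.app i₀ ≫ t₀ = b :=
    calc c.π.app i₀ ≫ t₀
        = e.hom ≫ ((cone Γ(S, U₀) Γ(T', ⊤)).π.app i₀ ≫ toBase Γ(S, U₀) Γ(T', ⊤) i₀) ≫ j₀ := by
          change (e.hom ≫ _) ≫ (_ ≫ _) = _
          simp only [Category.assoc]
      _ = e.hom ≫ (e.inv ≫ β) ≫ j₀ := congrArg (fun m => e.hom ≫ m ≫ j₀) h1
      _ = b := by rw [Category.assoc, Iso.hom_inv_id_assoc, hβ]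
  haveI : LocallyOfFiniteType t₀ := inferInstanceAs
    (LocallyOfFiniteType (toBase Γ(S, U₀) Γ(T', ⊤) i₀ ≫ j₀))
  haveI : IsNoetherian ((D Γ(S, U₀) Γ(T', ⊤)).obj i₀) := inferInstance
  -- the families over the base stage
  let g₀ : pullback g t₀ ⟶ (D Γ(S, U₀) Γ(T', ⊤)).obj i₀ := pullback.snd g t₀
  let f₀ : pullback (f ≫ g) t₀ ⟶ pullback g t₀ := bcMap f g t₀
  have hfg₀ : f₀ ≫ g₀ = pullback.snd (f ≫ g) t₀ := bcMap_snd f g t₀
  haveI : LocallyOfFiniteType g₀ := inferInstanceAs (LocallyOfFiniteType (pullback.snd g t₀))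
  haveI : QuasiCompact g₀ := inferInstanceAs (QuasiCompact (pullback.snd g t₀))
  haveI : LocallyOfFiniteType (f₀ ≫ g₀) := by rw [hfg₀]; infer_instance
  haveI : QuasiCompact (f₀ ≫ g₀) := by rw [hfg₀]; infer_instance
  haveI : IsLocallyNoetherian (pullback g t₀) := LocallyOfFiniteType.isLocallyNoetherian g₀
  haveI : IsLocallyNoetherian (pullback (f ≫ g) t₀) :=
    LocallyOfFiniteType.isLocallyNoetherian (f₀ ≫ g₀)
  haveI : CompactSpace ↥(pullback g t₀) := QuasiCompact.compactSpace_of_compactSpace g₀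
  haveI : CompactSpace ↥(pullback (f ≫ g) t₀) :=
    QuasiCompact.compactSpace_of_compactSpace (f₀ ≫ g₀)
  haveI : LocallyOfFiniteType f₀ := locallyOfFiniteType_of_comp f₀ g₀
  haveI : LocallyOfFinitePresentation f₀ := inferInstance
  haveI : QuasiCompact f₀ := inferInstance
  haveI : QuasiSeparated f₀ := inferInstance
  have hlim : Q (bcMap f₀ g₀ (c.π.app i₀)) := by
    have hBC : IsBC f g (c.π.app i₀ ≫ t₀) (bcMap f g b) := by
      rw [hbt]
      exact isBC_bcMap f g b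
    exact ((isBC_of_comp t₀ (c.π.app i₀) hBC).iff Q).mp hb
  obtain ⟨j, hj⟩ := hQ (D Γ(S, U₀) Γ(T', ⊤)) c hc f₀ g₀ hlim
  have hq : (D Γ(S, U₀) Γ(T', ⊤)).map j.hom ≫ t₀ = toBase Γ(S, U₀) Γ(T', ⊤) j.left ≫ j₀ := by
    simp only [t₀]
    rw [reassoc_of% (map_toBase Γ(S, U₀) Γ(T', ⊤) j.hom)]
  refine ⟨(D Γ(S, U₀) Γ(T', ⊤)).obj j.left, (D Γ(S, U₀) Γ(T', ⊤)).map j.hom ≫ t₀,
    c.π.app j.left, ?_, ?_, ?_, ?_⟩
  · rw [hq]; infer_instance
  · haveI : IsNoetherian ((D Γ(S, U₀) Γ(T', ⊤)).obj j.left) := inferInstance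
    infer_instance
  · rw [reassoc_of% (c.w j.hom), hbt]
  · exact ((isBC_comp t₀ ((D Γ(S, U₀) Γ(T', ⊤)).map j.hom)
      (isBC_bcMap f₀ g₀ _)).iff Q).mp hj

/-- **Main theorem**: a property of morphisms which is stable under base change, descends along
fpqc morphisms and along cofiltered limits with affine transition maps is an ind-constructible
property of morphisms of algebraic schemes. -/
theorem isIndConsMor_of_descends [Q.RespectsIso] [Q.IsStableUnderBaseChange]
    [Q.DescendsAlong (@Surjective ⊓ @Flat ⊓ @QuasiCompact)] (hQ : DescendsAlongLimit Q) :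
    ConsProp.IsIndConsMor (fun _ _ _ f _ => Q f) := by
  refine ⟨Groth.Agent.Lib.ConsPropInst.isFieldStableMor_of_descends Q, ?_⟩
  intro X Y S f g _ _ _ _ _ _ hη
  obtain ⟨W, q, b', hqft, hqqc, hbq, hQW⟩ :=
    exists_finiteType_model_mor Q hQ f g (S.fromSpecResidueField (genericPoint S)) hη
  have hηq : genericPoint S ∈ Set.range q := by
    obtain ⟨pt⟩ := (inferInstance : Nonempty ↥(Spec (S.residueField (genericPoint S))))
    refine ⟨b' pt, ?_⟩
    have h1 : q (b' pt) = (S.fromSpecResidueField (genericPoint S)) pt := by rw [← hbq]; rfl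
    have h2 : (S.fromSpecResidueField (genericPoint S)) pt ∈
        Set.range (S.fromSpecResidueField (genericPoint S)) := ⟨pt, rfl⟩
    rw [Scheme.range_fromSpecResidueField] at h2
    rw [h1]; exact h2
  obtain ⟨U, hU, hne, hsub⟩ := Groth.Agent.Lib.ConsPairGeom.exists_open_subset_range q hηq
  obtain ⟨s, hs⟩ := hne
  refine ⟨s, mem_interior.mpr ⟨U, ?_, hU, hs⟩⟩
  exact hsub.trans (range_subset_locusMor Q f g q (isBC_bcMap f g q) hQW)

/-- The set of points over which the fibre map has `Q` is ind-constructible. -/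
theorem isIndConstructible_setOf [Q.RespectsIso] [Q.IsStableUnderBaseChange]
    [Q.DescendsAlong (@Surjective ⊓ @Flat ⊓ @QuasiCompact)] (hQ : DescendsAlongLimit Q)
    {X Y S : Scheme.{u}} (f : X ⟶ Y) (g : Y ⟶ S)
    [LocallyOfFinitePresentation g] [QuasiCompact g] [QuasiSeparated g]
    [LocallyOfFinitePresentation (f ≫ g)] [QuasiCompact (f ≫ g)] [QuasiSeparated (f ≫ g)] :
    ProCons.IsIndConstructible {s : S | Q (bcMap f g (S.fromSpecResidueField s))} :=
  isIndConstructible_locusMor (isIndConsMor_of_descends Q hQ) f g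

end Groth.Agent.Lib.ConsMorInst
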