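import Groth.Prelude.Def_MoreMor
import Mathlib.AlgebraicGeometry.Morphisms.QuasiSeparated
import Mathlib.AlgebraicGeometry.Morphisms.Immersion
import Mathlib.AlgebraicGeometry.Pullbacks
import Mathlib.AlgebraicGeometry.Properties

set_option autoImplicit false
universe u

namespace Groth.Agent.Lib.IndQuasiAffine

open AlgebraicGeometry CategoryTheory Limits TopologicalSpace

/-- A compact scheme with an open immersion into an ind-quasi-affine scheme is quasi-affine. -/
theorem isQuasiAffine_of_isOpenImmersion {T Z : Scheme.{u}} (j : T ⟶ Z) [IsOpenImmersion j]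
    (hZ : MoreMor.IsIndQuasiAffine Z) [CompactSpace T] : T.IsQuasiAffine := by
  have hc : IsCompact (j.opensRange : Set Z) := by
    simpa using isCompact_range j.continuous
  have := hZ j.opensRange hc
  exact Scheme.IsQuasiAffine.of_isAffineHom j.isoOpensRange.hom

/-- In a prespectral space, a compact set inside an open set is contained in a compact open
subset of that open set. -/
theorem exists_isCompact_opens_between {X : Type*} [TopologicalSpace X] [PrespectralSpace X]
    {K : Set X} (hK : IsCompact K) (O : Opens X) (hKO : K ⊆ O) :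
    ∃ V : Opens X, IsCompact (V : Set X) ∧ K ⊆ V ∧ V ≤ O := by
  have hex : ∀ x ∈ K, ∃ V : Set X, (IsOpen V ∧ IsCompact V) ∧ x ∈ V ∧ V ⊆ O := fun x hx =>
    PrespectralSpace.isTopologicalBasis.exists_subset_of_mem_open (hKO hx) O.2
  choose! V hV hxV hVO using hex
  obtain ⟨t, htK, ht⟩ := hK.elim_nhds_subcover V (fun x hx => (hV x hx).1.mem_nhds (hxV x hx))
  refine ⟨⟨⋃ x ∈ t, V x, isOpen_biUnion fun x hx => (hV x (htK x hx)).1⟩, ?_, ht, ?_⟩
  · exact t.isCompact_biUnion fun x hx => (hV x (htK x hx)).2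
  · intro y hy
    obtain ⟨x, hx, hy⟩ := Set.mem_iUnion₂.mp hy
    exact hVO x (htK x hx) hy

/-- Transfer of quasi-affineness along an open immersion with prescribed range. -/
theorem isQuasiAffine_of_opensRange_eq {T X : Scheme.{u}} (j : T ⟶ X) [IsOpenImmersion j]
    (U : X.Opens) (hU : j.opensRange = U) [Scheme.IsQuasiAffine (U : Scheme.{u})] :
    T.IsQuasiAffine :=
  Scheme.IsQuasiAffine.of_isAffineHom (j.isoOpensRange.hom ≫ (X.isoOfEq hU).hom)

/-- An open subscheme `T` of `X` is ind-quasi-affine iff every compact open of `X` inside `T`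
is quasi-affine. -/
theorem isIndQuasiAffine_opens_iff {X : Scheme.{u}} (T : X.Opens) :
    MoreMor.IsIndQuasiAffine (T : Scheme.{u}) ↔
      ∀ U : X.Opens, U ≤ T → IsCompact (U : Set X) → Scheme.IsQuasiAffine (U : Scheme.{u}) := by
  constructor
  · intro h U hUT hU
    have : CompactSpace (U : Scheme.{u}) := isCompact_iff_compactSpace.mp hU
    exact isQuasiAffine_of_isOpenImmersion (X.homOfLE hUT) h
  · intro h U hU
    have hc : IsCompact ((T.ι ''ᵁ U : X.Opens) : Set X) := by
      simpa using hU.image T.ι.continuous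
    have hle : T.ι ''ᵁ U ≤ T := by
      rintro _ ⟨x, -, rfl⟩
      exact x.2
    have := h _ hle hc
    refine isQuasiAffine_of_opensRange_eq (U.ι ≫ T.ι) (T.ι ''ᵁ U) ?_
    ext x
    simp only [Scheme.Hom.opensRange, Scheme.Hom.comp_base, TopCat.hom_comp, ContinuousMap.coe_comp,
      Set.range_comp]
    constructor
    · rintro ⟨_, ⟨y, rfl⟩, rfl⟩
      exact ⟨U.ι y, y.2, rfl⟩
    · rintro ⟨y, hy, rfl⟩
      exact ⟨y, ⟨⟨y, hy⟩, rfl⟩, rfl⟩

/-- On a qcqs scheme, a basic open of a basic open `X_s` is a basic open of `X`. -/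
theorem exists_basicOpen_eq_image_basicOpen (X : Scheme.{u}) [CompactSpace X] [QuasiSeparatedSpace X]
    (s : Γ(X, ⊤)) (r : Γ((X.basicOpen s : Scheme.{u}), ⊤)) :
    ∃ t : Γ(X, ⊤), X.basicOpen t = (X.basicOpen s).ι ''ᵁ ((X.basicOpen s : Scheme.{u}).basicOpen r) := by
  obtain ⟨r', rfl⟩ : ∃ r', (X.basicOpen s).topIso.inv r' = r :=
    ⟨(X.basicOpen s).topIso.hom r, by rw [← CommRingCat.comp_apply, Iso.hom_inv_id]; rfl⟩
  obtain ⟨n, y, e⟩ := exists_eq_pow_mul_of_isCompact_of_isQuasiSeparated X ⊤ isCompact_univ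
    isQuasiSeparated_univ s r'
  rw [Scheme.Opens.ι_image_basicOpen_topIso_inv]
  refine ⟨y * s, ?_⟩
  have hle : X.basicOpen r' ≤ X.basicOpen s := X.basicOpen_le r'
  have h1 : X.basicOpen (y |_ X.basicOpen s) = X.basicOpen s ⊓ X.basicOpen y :=
    Scheme.basicOpen_res _ _ _
  have hunit : IsUnit (s |_ X.basicOpen s) := RingedSpace.isUnit_res_basicOpen _ s
  have h2 : X.basicOpen ((s |_ X.basicOpen s) ^ n * r') = X.basicOpen r' := by
    rw [Scheme.basicOpen_mul, Scheme.basicOpen_of_isUnit _ (hunit.pow n)]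
    exact inf_eq_right.mpr hle
  rw [Scheme.basicOpen_mul, inf_comm, ← h1, e, h2]

/-- A compact scheme covered by quasi-affine basic opens of global sections is quasi-affine. -/
theorem isQuasiAffine_of_forall_exists_basicOpen (X : Scheme.{u}) [CompactSpace X]
    (H : ∀ x : X, ∃ s : Γ(X, ⊤), x ∈ X.basicOpen s ∧
      Scheme.IsQuasiAffine (X.basicOpen s : Scheme.{u})) :
    X.IsQuasiAffine := by
  choose s hxs hs using H
  have hqs : QuasiSeparatedSpace X := by
    refine .of_isOpenCover (U := fun x => X.basicOpen (s x)) ?_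
      (fun _ => isRetrocompact_basicOpen _) (fun x => ?_)
    · exact eq_top_iff.mpr fun x _ ↦ Opens.mem_iSup.mpr ⟨x, hxs x⟩
    · have := hs x
      exact (isQuasiSeparated_iff_quasiSeparatedSpace _ (X.basicOpen (s x)).2).mpr
        (inferInstance : QuasiSeparatedSpace (X.basicOpen (s x) : Scheme.{u}))
  refine .of_forall_exists_mem_basicOpen _ fun x => ?_
  have := hs x
  obtain ⟨_, ⟨_, ⟨r, hr, rfl⟩, rfl⟩, hxr, -⟩ := (Scheme.IsQuasiAffine.isBasis_basicOpen
    (X.basicOpen (s x) : Scheme.{u})).exists_subset_of_mem_open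
      (Set.mem_univ (⟨x, hxs x⟩ : (X.basicOpen (s x) : Scheme.{u}))) isOpen_univ
  obtain ⟨t, ht⟩ := exists_basicOpen_eq_image_basicOpen X (s x) r
  refine ⟨t, ?_, ?_⟩
  · rw [ht]
    exact hr.image_of_isOpenImmersion _
  · rw [ht]
    exact ⟨⟨x, hxs x⟩, hxr, rfl⟩

/-- A compact open `U` of a scheme covered by quasi-affine basic opens of sections over `U`
is quasi-affine. -/
theorem isQuasiAffine_opens_of_forall_exists_basicOpen {X : Scheme.{u}} (U : X.Opens)
    (hU : IsCompact (U : Set X))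
    (H : ∀ x ∈ U, ∃ s : Γ(X, U), x ∈ X.basicOpen s ∧
      Scheme.IsQuasiAffine (X.basicOpen s : Scheme.{u})) :
    Scheme.IsQuasiAffine (U : Scheme.{u}) := by
  have : CompactSpace (U : Scheme.{u}) := isCompact_iff_compactSpace.mp hU
  refine isQuasiAffine_of_forall_exists_basicOpen _ fun x => ?_
  obtain ⟨s, hxs, hs⟩ := H x.1 x.2
  have himg : U.ι ''ᵁ (U : Scheme.{u}).basicOpen (U.topIso.inv s) = X.basicOpen s :=
    Scheme.Opens.ι_image_basicOpen_topIso_inv U s
  refine ⟨U.topIso.inv s, ?_, ?_⟩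
  · have : U.ι x ∈ U.ι ''ᵁ (U : Scheme.{u}).basicOpen (U.topIso.inv s) := by
      rw [himg]; exact hxs
    obtain ⟨y, hy, hyx⟩ := this
    rwa [← U.ι.isOpenEmbedding.injective hyx]
  · refine isQuasiAffine_of_opensRange_eq
      (((U : Scheme.{u}).basicOpen (U.topIso.inv s)).ι ≫ U.ι) (X.basicOpen s) ?_
    rw [← himg]
    ext y
    simp only [Scheme.Hom.opensRange, Scheme.Hom.comp_base, TopCat.hom_comp, ContinuousMap.coe_comp,
      Set.range_comp]
    constructor
    · rintro ⟨_, ⟨z, rfl⟩, rfl⟩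
      exact ⟨_, z.2, rfl⟩
    · rintro ⟨z, hz, rfl⟩
      exact ⟨z, ⟨⟨z, hz⟩, rfl⟩, rfl⟩

/-- The source of an affine morphism to an ind-quasi-affine scheme is ind-quasi-affine. -/
theorem isIndQuasiAffine_of_isAffineHom {T' T : Scheme.{u}} (l : T' ⟶ T) [IsAffineHom l]
    (hT : MoreMor.IsIndQuasiAffine T) : MoreMor.IsIndQuasiAffine T' := by
  intro U' hU'
  have : CompactSpace (U' : Scheme.{u}) := isCompact_iff_compactSpace.mp hU'
  obtain ⟨U, hUc, hU'U, -⟩ := exists_isCompact_opens_between (hU'.image l.continuous) ⊤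
    (fun _ _ => trivial)
  have := hT U hUc
  have : IsAffineHom (l ∣_ U) := IsZariskiLocalAtTarget.restrict ‹IsAffineHom l› U
  have : Scheme.IsQuasiAffine (l ⁻¹ᵁ U : Scheme.{u}) := Scheme.IsQuasiAffine.of_isAffineHom (l ∣_ U)
  have hle : U' ≤ l ⁻¹ᵁ U := fun x hx => hU'U ⟨x, hx, rfl⟩
  exact Scheme.IsQuasiAffine.of_isImmersion (T'.homOfLE hle)

end Groth.Agent.Lib.IndQuasiAffine
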