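import Groth.Agent.Lib.LimDescent
import Groth.Agent.Lib.IndQuasiAffine
import Groth.Prelude.Def_Mor2

/-!
# Descent of quasi-affine morphisms through cofiltered limits (EGA IV 8.10.5 (viii bis))
-/

set_option autoImplicit false
universe u

open CategoryTheory Limits AlgebraicGeometry

namespace Groth.Agent.Lib.LimDescent

open Groth.Agent.Lib.LimPullback

/-- `Mor2.IsQuasiAffine` is invariant under composition with isomorphisms on both sides. -/
theorem isQuasiAffine_iso_comp {X' X Y Y' : Scheme.{u}} (eX : X' ⟶ X) [IsIso eX] (f : X ⟶ Y)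
    (eY : Y ⟶ Y') [IsIso eY] (hf : Mor2.IsQuasiAffine f) : Mor2.IsQuasiAffine (eX ≫ f ≫ eY) := by
  haveI := hf.1
  refine ⟨inferInstance, fun V hV => ?_⟩
  have hW : IsAffineOpen (eY ⁻¹ᵁ V) := hV.preimage eY
  haveI : Scheme.IsQuasiAffine ↑(f ⁻¹ᵁ (eY ⁻¹ᵁ V)) := hf.2 _ hW
  have e : (eX ≫ f ≫ eY) ⁻¹ᵁ V = eX ⁻¹ᵁ (f ⁻¹ᵁ (eY ⁻¹ᵁ V)) := by
    rw [Scheme.Hom.comp_preimage, Scheme.Hom.comp_preimage]
  rw [e]
  exact Scheme.IsQuasiAffine.of_isAffineHom (eX ∣_ (f ⁻¹ᵁ (eY ⁻¹ᵁ V)))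

/-- Quasi-affineness of a quasi-compact morphism can be checked on an affine open cover of the
target. -/
theorem isQuasiAffine_of_affine_cover {X Y : Scheme.{u}} (f : X ⟶ Y) [QuasiCompact f]
    (t : Set Y.affineOpens) (htop : (⊤ : Y.Opens) = ⨆ V ∈ t, (V : Y.Opens))
    (h : ∀ V ∈ t, Scheme.IsQuasiAffine ↑(f ⁻¹ᵁ V.1)) : Mor2.IsQuasiAffine f := by
  refine ⟨inferInstance, fun V' hV' => ?_⟩
  apply Groth.Agent.Lib.IndQuasiAffine.isQuasiAffine_opens_of_forall_exists_basicOpen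
  · exact QuasiCompact.isCompact_preimage (f := f) _ V'.2 hV'.isCompact
  · intro x hx
    have hfx : f x ∈ (⊤ : Y.Opens) := trivial
    rw [htop] at hfx
    simp only [TopologicalSpace.Opens.mem_iSup] at hfx
    obtain ⟨W, hW, hxW⟩ := hfx
    obtain ⟨r, r', e, hxr⟩ := exists_basicOpen_le_affine_inter hV' W.2 (f x) ⟨hx, hxW⟩
    refine ⟨f.app V' r, ?_, ?_⟩
    · rw [← Scheme.preimage_basicOpen]
      exact hxr
    · rw [← Scheme.preimage_basicOpen, e]
      haveI := h W hW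
      have hle : f ⁻¹ᵁ Y.basicOpen r' ≤ f ⁻¹ᵁ W.1 :=
        fun y hy => Y.basicOpen_le r' hy
      haveI : CompactSpace ↥(f ⁻¹ᵁ Y.basicOpen r').toScheme :=
        isCompact_iff_compactSpace.mp
          (QuasiCompact.isCompact_preimage (f := f) _ (Y.basicOpen r').2
            (W.2.basicOpen r').isCompact)
      exact Scheme.IsQuasiAffine.of_isImmersion (X.homOfLE hle)

section

variable {I : Type u} [Category.{u} I] (D : I ⥤ Scheme.{u}) (c : Cone D)
variable [IsCofiltered I] (hc : IsLimit c) [∀ {i j} (f : i ⟶ j), IsAffineHom (D.map f)]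

include hc in
theorem exists_isQuasiAffine_stage {i₀ : I} [CompactSpace (D.obj i₀)]
    [QuasiSeparatedSpace (D.obj i₀)]
    {X₀ Y₀ : Scheme.{u}} (f₀ : X₀ ⟶ Y₀) (g₀ : Y₀ ⟶ D.obj i₀) [QuasiCompact g₀] [QuasiSeparated g₀]
    [QuasiCompact (f₀ ≫ g₀)] [QuasiSeparated (f₀ ≫ g₀)]
    (h : Mor2.IsQuasiAffine (bcMap f₀ g₀ (c.π.app i₀))) :
    ∃ j : Over i₀, Mor2.IsQuasiAffine (bcMap f₀ g₀ (D.map j.hom)) := by
  haveI := isAffineHom_π_app D c hc i₀
  haveI : IsAffineHom (pullback.fst g₀ (c.π.app i₀)) :=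
    MorphismProperty.pullback_fst _ _ inferInstance
  haveI : QuasiCompact f₀ := QuasiCompact.of_comp f₀ g₀
  obtain ⟨t, j, ht, htop, hj⟩ := exists_stage_forall_affine_preimage D c hc
    (fun X => Scheme.IsQuasiAffine X)
    (fun e hX => by haveI := hX; exact Scheme.IsQuasiAffine.of_isAffineHom e.inv)
    (fun f _ hY => by haveI := hY; exact Scheme.IsQuasiAffine.of_isAffineHom f)
    (fun E cE hcE _ _ _ hpt => by
      haveI := hpt; exact Scheme.exists_isQuasiAffine_of_isLimit E cE hcE)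
    f₀ g₀
    (fun V hV => h.2 _ (hV.preimage (pullback.fst g₀ (c.π.app i₀))))
  refine ⟨j, ?_⟩
  haveI : QuasiCompact (bcMap f₀ g₀ (D.map j.hom)) :=
    MorphismProperty.of_isPullback (isPullback_bcMap f₀ g₀ (D.map j.hom)) inferInstance
  let t' : Set (pullback g₀ (D.map j.hom)).affineOpens :=
    (fun V : Y₀.affineOpens => ⟨(pullback.fst g₀ (D.map j.hom)) ⁻¹ᵁ V.1,
      V.2.preimage (pullback.fst g₀ (D.map j.hom))⟩) '' t
  refine isQuasiAffine_of_affine_cover _ t' ?_ ?_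
  · symm
    rw [eq_top_iff]
    intro x _
    have hx : (pullback.fst g₀ (D.map j.hom)).base x ∈ (⊤ : Y₀.Opens) := trivial
    rw [htop] at hx
    simp only [TopologicalSpace.Opens.mem_iSup] at hx
    obtain ⟨V, hV, hxV⟩ := hx
    simp only [TopologicalSpace.Opens.mem_iSup]
    exact ⟨⟨_, _⟩, ⟨V, hV, rfl⟩, hxV⟩
  · rintro _ ⟨V, hV, rfl⟩
    exact hj V hV

end

end Groth.Agent.Lib.LimDescent
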