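import Groth.Prelude.Def_Mor2
import Groth.Prelude.Def_MoreMor
import Groth.Agent.Lib.IndQuasiAffine

set_option autoImplicit false
universe u

namespace Groth.Agent.Lib.QuasiAffineHom

open AlgebraicGeometry CategoryTheory Limits TopologicalSpace

/-- A morphism is quasi-affine (`Mor2.IsQuasiAffine`) iff it is quasi-compact and
ind-quasi-affine (`MoreMor.IsIndQuasiAffineHom`). -/
theorem isQuasiAffine_iff {X Y : Scheme.{u}} (f : X ⟶ Y) :
    Mor2.IsQuasiAffine f ↔ QuasiCompact f ∧ MoreMor.IsIndQuasiAffineHom f := by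
  constructor
  · rintro ⟨hqc, h⟩
    refine ⟨hqc, fun V hV U hU => ?_⟩
    have := h V hV
    have : CompactSpace (U : Scheme.{u}) := isCompact_iff_compactSpace.mp hU
    exact Scheme.IsQuasiAffine.of_isImmersion U.ι
  · rintro ⟨hqc, h⟩
    refine ⟨hqc, fun V hV => ?_⟩
    have hc : IsCompact ((f ⁻¹ᵁ V : X.Opens) : Set X) := hqc.1 V.1 V.2 hV.isCompact
    have : CompactSpace (f ⁻¹ᵁ V : Scheme.{u}) := isCompact_iff_compactSpace.mp hc
    have := h V hV ⊤ isCompact_univ
    exact Scheme.IsQuasiAffine.of_isAffineHom (Scheme.topIso (f ⁻¹ᵁ V : Scheme.{u})).inv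

/-- `Mor2.IsQuasiAffine` and `MoreMor.IsQuasiAffineHom` agree. -/
theorem isQuasiAffine_iff_moreMor {X Y : Scheme.{u}} (f : X ⟶ Y) :
    Mor2.IsQuasiAffine f ↔ MoreMor.IsQuasiAffineHom f := Iff.rfl

end Groth.Agent.Lib.QuasiAffineHom
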