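import Groth.Agent.Lib.ConsPairGeom
import Groth.Agent.Lib.LimDescentQAff
import Groth.Agent.Lib.LimDescentGen
import Groth.Agent.Lib.QuasiAffineHom
import Groth.Agent.S2339

/-!
# `DescendsAlongLimit` for quasi-affine morphisms
-/

set_option autoImplicit false
universe u

open CategoryTheory Limits AlgebraicGeometry

namespace Groth.Agent.Lib.ConsPairGeom

open Groth.Agent.Lib.SpreadPair Groth.Agent.Lib.LimDescent Groth.Agent.Lib.LimPullback

/-- Quasi-affine morphisms as a morphism property. -/
def QAffProp : MorphismProperty Scheme.{u} := fun _ _ f => MoreMor.IsQuasiAffineHom f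

instance : (QAffProp.{u}).RespectsIso :=
  MorphismProperty.RespectsIso.mk _
    (fun e f hf => by
      have := isQuasiAffine_iso_comp e.hom f (𝟙 _) hf
      rwa [Category.comp_id] at this)
    (fun e f hf => by
      have := isQuasiAffine_iso_comp (𝟙 _) f e.hom hf
      rwa [Category.id_comp] at this)

instance : (QAffProp.{u}).IsStableUnderBaseChange :=
  MorphismProperty.IsStableUnderBaseChange.mk' (fun X Y S f g _ hg => by
    have h1 : QAffProp (pullback.snd g f) := Groth.Agent.S2339.result g hg f
    have : pullback.fst f g = (pullbackSymmetry f g).hom ≫ pullback.snd g f := by simp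
    rw [this]
    exact (MorphismProperty.cancel_left_of_respectsIso QAffProp _ _).mpr h1)

theorem descends_quasiAffine : DescendsAlongLimit QAffProp.{u} := by
  intro I _ _ D c hc _ i₀ X₀ Y₀ f₀ g₀ _ _ _ _ _ _ _ h
  refine exists_stage_of_newBase D c f₀ g₀ QAffProp (fun h' => ?_) h
  exact exists_isQuasiAffine_stage (pbDiagram D i₀ g₀) (pbCone D c i₀ g₀) (isLimitPbCone hc)
    f₀ (newBase D g₀) h'

end Groth.Agent.Lib.ConsPairGeom
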