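import Mathlib.AlgebraicGeometry.Sites.Fpqc
import Mathlib.AlgebraicGeometry.Morphisms.FlatDescent
import Mathlib.AlgebraicGeometry.Cover.Sigma

/-!
# fpqc descent along covering FAMILIES (helper21)

Mathlib's `MorphismProperty.DescendsAlong P (@Surjective ⊓ @Flat ⊓ @QuasiCompact)` is about a single
faithfully flat quasi-compact morphism.  Here: if `P` is Zariski-local at the target, stable under
base change and descends along single fpqc morphisms, then `P` descends along every covering family
of `Scheme.fpqcPrecoverage`: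

* `of_cover` (for a quasi-compact flat `Scheme.Cover`),
* `of_mem_fpqcPrecoverage` (for a presieve `R ∈ Scheme.fpqcPrecoverage S`).
-/

universe w v u

open CategoryTheory Limits MorphismProperty

namespace Groth.Agent.Lib.FpqcFamilyDescent

open AlgebraicGeometry

variable (P : MorphismProperty Scheme.{u})

/-- Base change along a composite. -/
lemma pullback_snd_comp [P.IsStableUnderBaseChange] {X S S' S'' : Scheme.{u}} (h : X ⟶ S)
    (g : S' ⟶ S) (k : S'' ⟶ S') (hP : P (pullback.snd h g)) : P (pullback.snd h (k ≫ g)) := by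
  rw [← pullbackLeftPullbackSndIso_inv_snd_snd h g k, P.cancel_left_of_respectsIso]
  exact P.pullback_snd _ _ hP

lemma pullback_snd_congr {X S S' : Scheme.{u}} (h : X ⟶ S) {g g' : S' ⟶ S} (e : g = g')
    (hP : P (pullback.snd h g)) : P (pullback.snd h g') := by
  subst e; exact hP

/-- Base change of a base change. -/
lemma pullback_snd_pullback_snd [P.IsStableUnderBaseChange] {X S S' S'' : Scheme.{u}} (h : X ⟶ S)
    (g : S' ⟶ S) (k : S'' ⟶ S') (hP : P (pullback.snd h (k ≫ g))) :
    P (pullback.snd (pullback.snd h g) k) := by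
  rw [← pullbackLeftPullbackSndIso_hom_snd h g k, P.cancel_left_of_respectsIso]
  exact hP


set_option backward.isDefEq.respectTransparency false in
theorem of_cover_of_isAffine [IsZariskiLocalAtTarget P] [P.IsStableUnderBaseChange]
    [P.DescendsAlong (@Surjective ⊓ @Flat ⊓ @QuasiCompact)]
    {X S : Scheme.{u}} [IsAffine S] (h : X ⟶ S)
    (𝒰 : Scheme.Cover.{w} (Scheme.precoverage @Flat) S)
    [QuasiCompactCover 𝒰.toPreZeroHypercover]
    (H : ∀ i, P (pullback.snd h (𝒰.f i))) : P h := by
  obtain ⟨𝒱, f, hfin, -⟩ := QuasiCompactCover.exists_hom 𝒰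
  have : Finite 𝒱.cover.I₀ := hfin
  have : Small.{u} 𝒱.cover.I₀ := inferInstance
  have hA : ∀ i, IsAffine (𝒱.cover.X i) := fun i => by
    dsimp [Scheme.AffineCover.cover]; infer_instance
  let p : ∐ 𝒱.cover.X ⟶ S := Sigma.desc 𝒱.cover.f
  have hp1 : Surjective p := ⟨fun s => by
    obtain ⟨i, y, rfl⟩ := 𝒱.cover.exists_eq s
    exact ⟨Sigma.ι 𝒱.cover.X i y, by simp [← Scheme.Hom.comp_apply, p]⟩⟩
  have hp2 : Flat p := IsZariskiLocalAtSource.sigmaDesc 𝒱.cover.map_prop
  have hp3 : QuasiCompact p := by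
    have : IsAffine (∐ 𝒱.cover.X) := inferInstance
    infer_instance
  have hp : (@Surjective ⊓ @Flat ⊓ @QuasiCompact : MorphismProperty Scheme.{u}) p :=
    ⟨⟨hp1, hp2⟩, hp3⟩
  refine MorphismProperty.of_pullback_snd_of_descendsAlong (P := P) (f := h) (g := p) hp ?_
  rw [IsZariskiLocalAtTarget.iff_of_openCover (P := P) (sigmaOpenCover 𝒱.cover.X)]
  intro j
  change P (pullback.snd (pullback.snd h p) (Sigma.ι 𝒱.cover.X j))
  apply pullback_snd_pullback_snd
  have e : f.h₀ j ≫ 𝒰.f (f.s₀ j) = Sigma.ι 𝒱.cover.X j ≫ p := by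
    rw [f.w₀ j]; simp [p]
  exact pullback_snd_congr P h e (pullback_snd_comp P h _ _ (H _))

set_option backward.isDefEq.respectTransparency false in
theorem of_cover [IsZariskiLocalAtTarget P] [P.IsStableUnderBaseChange]
    [P.DescendsAlong (@Surjective ⊓ @Flat ⊓ @QuasiCompact)]
    {X S : Scheme.{u}} (h : X ⟶ S)
    (𝒰 : Scheme.Cover.{w} (Scheme.precoverage @Flat) S)
    [QuasiCompactCover 𝒰.toPreZeroHypercover]
    (H : ∀ i, P (pullback.snd h (𝒰.f i))) : P h := by
  rw [IsZariskiLocalAtTarget.iff_of_openCover (P := P) S.affineCover]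
  intro a
  change P (pullback.snd h (S.affineCover.f a))
  have : QuasiCompactCover (𝒰.pullback₁ (S.affineCover.f a)).toPreZeroHypercover :=
    show QuasiCompactCover (𝒰.toPreZeroHypercover.pullback₁ (S.affineCover.f a)) from
      inferInstance
  refine of_cover_of_isAffine P (pullback.snd h (S.affineCover.f a))
    (𝒰.pullback₁ (S.affineCover.f a)) ?_
  intro i
  change P (pullback.snd (pullback.snd h (S.affineCover.f a))
    (pullback.fst (S.affineCover.f a) (𝒰.f i)))
  apply pullback_snd_pullback_snd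
  exact pullback_snd_congr P h pullback.condition.symm (pullback_snd_comp P h _ _ (H i))

/-- fpqc descent along a covering family of `Scheme.fpqcPrecoverage`. -/
theorem of_mem_fpqcPrecoverage [IsZariskiLocalAtTarget P] [P.IsStableUnderBaseChange]
    [P.DescendsAlong (@Surjective ⊓ @Flat ⊓ @QuasiCompact)]
    {X S : Scheme.{u}} (h : X ⟶ S) {R : Presieve S} (hR : R ∈ Scheme.fpqcPrecoverage S)
    (H : ∀ ⦃T : Scheme.{u}⦄ (g : T ⟶ S), R g → P (pullback.snd h g)) : P h := by
  obtain ⟨𝒰, h𝒰, rfl⟩ := Scheme.mem_propQCPrecoverage_iff_exists_quasiCompactCover.mp hR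
  exact of_cover P h 𝒰 fun i => H _ (Presieve.ofArrows.mk i)

/-! ### Versions without stability under base change (only Zariski-local at the target) -/

/-- Base change along an open immersion, for `P` Zariski-local at the target (no stability under
arbitrary base change needed). -/
lemma pullback_snd_comp_of_isOpenImmersion [IsZariskiLocalAtTarget P] {X S S' S'' : Scheme.{u}}
    (h : X ⟶ S) (g : S' ⟶ S) (k : S'' ⟶ S') [IsOpenImmersion k] (hP : P (pullback.snd h g)) :
    P (pullback.snd h (k ≫ g)) := by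
  rw [← pullbackLeftPullbackSndIso_inv_snd_snd h g k, P.cancel_left_of_respectsIso]
  exact IsZariskiLocalAtTarget.of_isPullback (IsPullback.of_hasPullback (pullback.snd h g) k) hP

lemma pullback_snd_pullback_snd' [P.RespectsIso] {X S S' S'' : Scheme.{u}} (h : X ⟶ S)
    (g : S' ⟶ S) (k : S'' ⟶ S') (hP : P (pullback.snd h (k ≫ g))) :
    P (pullback.snd (pullback.snd h g) k) := by
  rw [← pullbackLeftPullbackSndIso_hom_snd h g k, P.cancel_left_of_respectsIso]
  exact hP

set_option backward.isDefEq.respectTransparency false in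
theorem of_cover_of_isAffine' [IsZariskiLocalAtTarget P]
    [P.DescendsAlong (@Surjective ⊓ @Flat ⊓ @QuasiCompact)]
    {X S : Scheme.{u}} [IsAffine S] (h : X ⟶ S)
    (𝒰 : Scheme.Cover.{w} (Scheme.precoverage @Flat) S)
    [QuasiCompactCover 𝒰.toPreZeroHypercover]
    (H : ∀ i, P (pullback.snd h (𝒰.f i))) : P h := by
  obtain ⟨𝒱, f, hfin, hopen⟩ := QuasiCompactCover.exists_hom 𝒰
  have : Finite 𝒱.cover.I₀ := hfin
  have : Small.{u} 𝒱.cover.I₀ := inferInstance
  have hA : ∀ i, IsAffine (𝒱.cover.X i) := fun i => by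
    dsimp [Scheme.AffineCover.cover]; infer_instance
  let p : ∐ 𝒱.cover.X ⟶ S := Sigma.desc 𝒱.cover.f
  have hp1 : Surjective p := ⟨fun s => by
    obtain ⟨i, y, rfl⟩ := 𝒱.cover.exists_eq s
    exact ⟨Sigma.ι 𝒱.cover.X i y, by simp [← Scheme.Hom.comp_apply, p]⟩⟩
  have hp2 : Flat p := IsZariskiLocalAtSource.sigmaDesc 𝒱.cover.map_prop
  have hp3 : QuasiCompact p := by
    have : IsAffine (∐ 𝒱.cover.X) := inferInstance
    infer_instance
  have hp : (@Surjective ⊓ @Flat ⊓ @QuasiCompact : MorphismProperty Scheme.{u}) p :=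
    ⟨⟨hp1, hp2⟩, hp3⟩
  refine MorphismProperty.of_pullback_snd_of_descendsAlong (P := P) (f := h) (g := p) hp ?_
  rw [IsZariskiLocalAtTarget.iff_of_openCover (P := P) (sigmaOpenCover 𝒱.cover.X)]
  intro j
  change P (pullback.snd (pullback.snd h p) (Sigma.ι 𝒱.cover.X j))
  apply pullback_snd_pullback_snd'
  have e : f.h₀ j ≫ 𝒰.f (f.s₀ j) = Sigma.ι 𝒱.cover.X j ≫ p := by
    rw [f.w₀ j]; simp [p]
  have := hopen j
  exact pullback_snd_congr P h e (pullback_snd_comp_of_isOpenImmersion P h _ _ (H _))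

set_option backward.isDefEq.respectTransparency false in
/-- fpqc descent along a quasi-compact flat cover, without assuming stability under base change. -/
theorem of_cover' [IsZariskiLocalAtTarget P]
    [P.DescendsAlong (@Surjective ⊓ @Flat ⊓ @QuasiCompact)]
    {X S : Scheme.{u}} (h : X ⟶ S)
    (𝒰 : Scheme.Cover.{w} (Scheme.precoverage @Flat) S)
    [QuasiCompactCover 𝒰.toPreZeroHypercover]
    (H : ∀ i, P (pullback.snd h (𝒰.f i))) : P h := by
  rw [IsZariskiLocalAtTarget.iff_of_openCover (P := P) S.affineCover]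
  intro a
  change P (pullback.snd h (S.affineCover.f a))
  have : QuasiCompactCover (𝒰.pullback₁ (S.affineCover.f a)).toPreZeroHypercover :=
    show QuasiCompactCover (𝒰.toPreZeroHypercover.pullback₁ (S.affineCover.f a)) from
      inferInstance
  refine of_cover_of_isAffine' P (pullback.snd h (S.affineCover.f a))
    (𝒰.pullback₁ (S.affineCover.f a)) ?_
  intro i
  change P (pullback.snd (pullback.snd h (S.affineCover.f a))
    (pullback.fst (S.affineCover.f a) (𝒰.f i)))
  apply pullback_snd_pullback_snd'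
  exact pullback_snd_congr P h pullback.condition.symm
    (pullback_snd_comp_of_isOpenImmersion P h _ _ (H i))

/-- fpqc descent along a covering family of `Scheme.fpqcPrecoverage`, without assuming stability
under base change. -/
theorem of_mem_fpqcPrecoverage' [IsZariskiLocalAtTarget P]
    [P.DescendsAlong (@Surjective ⊓ @Flat ⊓ @QuasiCompact)]
    {X S : Scheme.{u}} (h : X ⟶ S) {R : Presieve S} (hR : R ∈ Scheme.fpqcPrecoverage S)
    (H : ∀ ⦃T : Scheme.{u}⦄ (g : T ⟶ S), R g → P (pullback.snd h g)) : P h := by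
  obtain ⟨𝒰, h𝒰, rfl⟩ := Scheme.mem_propQCPrecoverage_iff_exists_quasiCompactCover.mp hR
  exact of_cover' P h 𝒰 fun i => H _ (Presieve.ofArrows.mk i)

/-- fpqc descent along a `Scheme.Cover` of `Scheme.fpqcPrecoverage`. -/
theorem of_fpqcCover [IsZariskiLocalAtTarget P]
    [P.DescendsAlong (@Surjective ⊓ @Flat ⊓ @QuasiCompact)]
    {X S : Scheme.{u}} (h : X ⟶ S) (𝒰 : Scheme.Cover.{w} Scheme.fpqcPrecoverage S)
    (H : ∀ i, P (pullback.snd h (𝒰.f i))) : P h := by
  have : QuasiCompactCover 𝒰.forgetQc.toPreZeroHypercover := by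
    rw [← Scheme.presieve₀_mem_qcPrecoverage_iff]
    exact 𝒰.mem₀.1
  exact of_cover' P h 𝒰.forgetQc H

end Groth.Agent.Lib.FpqcFamilyDescent
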