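import Groth.Agent.Lib.FpqcDescent
import Groth.Agent.Lib.FpqcFamilyDescent
import Groth.Agent.Lib.IndQuasiAffine
import Groth.Agent.S1397
import Groth.Agent.S1398
import Groth.Agent.S1400
import Mathlib.AlgebraicGeometry.QuasiAffine

/-!
# fpqc descent of (ind-)quasi-affine morphisms

Main results:
* `isPullback_toSpecΓ`: flat base change for `X ⟶ Spec Γ(X, ⊤)` over affine bases.
* `isQuasiAffine_of_affineCover`: a quasi-compact scheme over an affine scheme which becomes
  quasi-affine after pulling back to the members of a finite flat affine cover is quasi-affine.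
* `isIndQuasiAffineHom_of_isPullback`: ind-quasi-affine morphisms descend along fpqc morphisms.
-/

set_option autoImplicit false
universe w u

open CategoryTheory Limits AlgebraicGeometry MorphismProperty

namespace Groth.Agent.Lib.QuasiAffineDescent

open Groth.Agent.Lib.FpqcDescent Groth.Agent.Lib.FpqcFamilyDescent

section FlatBaseChange

variable {U V W U' : Scheme.{u}} {h : U ⟶ V} {p : W ⟶ V} {g' : U' ⟶ U} {h' : U' ⟶ W}

/-- Flat base change for global sections, as a pullback square of spectra. -/
lemma isPullback_SpecMap_appTop (H : IsPullback g' h' h p) [IsAffine V] [IsAffine W] [Flat p]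
    [CompactSpace U] [QuasiSeparatedSpace U] :
    IsPullback (Spec.map g'.appTop) (Spec.map h'.appTop) (Spec.map h.appTop)
      (Spec.map p.appTop) := by
  have hiso := isIso_pushoutSection_of_isQuasiSeparated_of_flat_right H
    (US := ⊤) (UT := ⊤) (UX := ⊤) (UY := ⊤) le_top le_top (by simp)
    (isAffineOpen_top V) (isAffineOpen_top W) isCompact_univ isQuasiSeparated_univ
  have hpo := (isIso_pushoutSection_iff H (US := ⊤) (UT := ⊤) (UX := ⊤) (UY := ⊤) le_top le_top
    (by simp)).mp hiso
  have e1 : ∀ e, h.appLE ⊤ ⊤ e = h.appTop := fun e => appLE_top_top h e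
  have e2 : ∀ e, p.appLE ⊤ ⊤ e = p.appTop := fun e => appLE_top_top p e
  have e3 : ∀ e, g'.appLE ⊤ ⊤ e = g'.appTop := fun e => appLE_top_top g' e
  have e4 : ∀ e, h'.appLE ⊤ ⊤ e = h'.appTop := fun e => appLE_top_top h' e
  have hpo' : IsPushout h.appTop p.appTop g'.appTop h'.appTop := by
    convert hpo using 1
    · exact (e1 _).symm
    · exact (e2 _).symm
    · exact (e3 _).symm
    · exact (e4 _).symm
  have := (hpo'.op.map Scheme.Spec).flip
  simpa using this

/-- The square `U' → U`, `Spec Γ(U') → Spec Γ(U)` is cartesian (flat base change with affine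
bases). -/
lemma isPullback_toSpecΓ (H : IsPullback g' h' h p) [IsAffine V] [IsAffine W] [Flat p]
    [CompactSpace U] [QuasiSeparatedSpace U] :
    IsPullback g' U'.toSpecΓ U.toSpecΓ (Spec.map g'.appTop) := by
  have hR := isPullback_SpecMap_appTop H
  have hO : IsPullback g' (h' ≫ W.toSpecΓ) (h ≫ V.toSpecΓ) (Spec.map p.appTop) := by
    refine IsPullback.of_iso H (Iso.refl _) (Iso.refl _) (asIso W.toSpecΓ) (asIso V.toSpecΓ)
      (by simp) (by simp) (by simp) ?_
    simpa using (Scheme.toSpecΓ_naturality p)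
  refine IsPullback.of_bot ?_ (Scheme.toSpecΓ_naturality g') hR
  rw [← Scheme.toSpecΓ_naturality, ← Scheme.toSpecΓ_naturality]
  exact hO

/-- `Spec Γ(U') → Spec Γ(U)` is a base change of `W → V`. -/
lemma isPullback_SpecMap_appTop' (H : IsPullback g' h' h p) [IsAffine V] [IsAffine W] [Flat p]
    [CompactSpace U] [QuasiSeparatedSpace U] :
    IsPullback (Spec.map g'.appTop) (Spec.map h'.appTop ≫ inv W.toSpecΓ)
      (Spec.map h.appTop ≫ inv V.toSpecΓ) p := by
  refine IsPullback.of_iso (isPullback_SpecMap_appTop H) (Iso.refl _) (Iso.refl _)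
    (asIso W.toSpecΓ).symm (asIso V.toSpecΓ).symm (by simp) (by simp) (by simp) ?_
  simp only [Iso.symm_hom, asIso_inv, IsIso.comp_inv_eq, Category.assoc]
  rw [Scheme.toSpecΓ_naturality p]
  simp

end FlatBaseChange

section General

variable (P : MorphismProperty Scheme.{u})

lemma pullback_snd_of_isPullback [P.RespectsIso] {A X Y Z : Scheme.{u}} {fst : A ⟶ X} {snd : A ⟶ Y}
    {f : X ⟶ Z} {g : Y ⟶ Z} (sq : IsPullback fst snd f g) (h : P snd) :
    P (pullback.snd f g) := by
  rw [← sq.isoPullback_inv_snd, P.cancel_left_of_respectsIso]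
  exact h

/-- fpqc descent along a quasi-compact flat cover, where the base changes are given by arbitrary
pullback squares. -/
theorem of_cover_isPullback [IsZariskiLocalAtTarget P]
    [P.DescendsAlong (@Surjective ⊓ @Flat ⊓ @QuasiCompact)]
    {X S : Scheme.{u}} (h : X ⟶ S)
    (𝒰 : Scheme.Cover.{w} (Scheme.precoverage @Flat) S)
    [QuasiCompactCover 𝒰.toPreZeroHypercover]
    (H : ∀ i, ∃ (Y : Scheme.{u}) (a : Y ⟶ X) (b : Y ⟶ 𝒰.X i), IsPullback a b h (𝒰.f i) ∧ P b) :
    P h := by
  have : P.RespectsIso := inferInstance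
  refine of_cover' P h 𝒰 fun i => ?_
  obtain ⟨Y, a, b, sq, hb⟩ := H i
  exact pullback_snd_of_isPullback P sq hb

end General

section Main

/-- The pieces of the base change of an open of `X` lying over an affine of `S` to an affine
scheme over `S'` are quasi-affine. -/
theorem isQuasiAffine_pullback_of_isIndQuasiAffineHom {X S X' S' : Scheme.{u}} {f : X ⟶ S}
    {f' : X' ⟶ S'} {g' : X' ⟶ X} {g : S' ⟶ S} (hc : IsPullback g' f' f g)
    (hf' : MoreMor.IsIndQuasiAffineHom f')
    {U V W : Scheme.{u}} (j : U ⟶ X) [IsOpenImmersion j] (i : V ⟶ S) [Mono i] (h : U ⟶ V)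
    (hji : j ≫ f = h ≫ i) (q : W ⟶ S') (p : W ⟶ V) (hpq : p ≫ i = q ≫ g)
    [CompactSpace U] [IsAffine V] [IsAffine W] :
    (pullback h p).IsQuasiAffine := by
  have sq1 : IsPullback (pullback.fst h p) (pullback.snd h p) (j ≫ f) (q ≫ g) := by
    rw [hji, ← hpq]
    exact IsPullback.of_isLimit (pullbackIsPullbackOfCompMono h p i)
  have sq2 : IsPullback (pullback.fst f' q ≫ g') (pullback.snd f' q) f (q ≫ g) :=
    (IsPullback.of_hasPullback f' q).paste_horiz hc
  let m : pullback h p ⟶ pullback f' q :=
    sq2.lift (pullback.fst h p ≫ j) (pullback.snd h p) (by rw [Category.assoc]; exact sq1.w)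
  have hm1 : m ≫ (pullback.fst f' q ≫ g') = pullback.fst h p ≫ j := sq2.lift_fst _ _ _
  have hm2 : m ≫ pullback.snd f' q = pullback.snd h p := sq2.lift_snd _ _ _
  have sq3 : IsPullback m (pullback.fst h p) (pullback.fst f' q ≫ g') j := by
    refine IsPullback.of_right ?_ hm1 sq2.flip
    rw [hm2]
    exact sq1.flip
  have hmo : IsOpenImmersion m :=
    MorphismProperty.of_isPullback (P := @IsOpenImmersion) sq3.flip inferInstance
  have h1 : MoreMor.IsIndQuasiAffineHom (pullback.snd f' q) :=
    Groth.Agent.S1400.result f' (pullback.snd f' q) (pullback.fst f' q) q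
      (IsPullback.of_hasPullback f' q) hf'
  have h2 : MoreMor.IsIndQuasiAffineHom m := (Groth.Agent.S1398.result m).1 inferInstance
  have h3 : MoreMor.IsIndQuasiAffineHom (pullback.snd h p) := by
    rw [← hm2]
    exact Groth.Agent.S1397.result m _ h2 h1
  have h4 := h3 ⊤ (isAffineOpen_top W)
  have hqc : QuasiCompact h := inferInstance
  have : CompactSpace ↥(pullback h p) :=
    QuasiCompact.compactSpace_of_compactSpace (pullback.snd h p)
  exact Groth.Agent.Lib.IndQuasiAffine.isQuasiAffine_of_isOpenImmersion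
    ((Scheme.topIso _).inv ≫ (Scheme.isoOfEq _ (by simp : (⊤ : (pullback h p).Opens) =
      (pullback.snd h p) ⁻¹ᵁ ⊤)).hom) h4

set_option backward.isDefEq.respectTransparency false in
/-- A quasi-compact scheme over an affine scheme which becomes quasi-affine after pulling back
to the members of a finite flat affine cover is quasi-affine. -/
theorem isQuasiAffine_of_affineCover {U V : Scheme.{u}} (h : U ⟶ V) [IsAffine V] [CompactSpace U]
    (𝒱 : V.AffineCover.{w} @Flat) [Finite 𝒱.I₀]
    (H : ∀ k, (pullback h (𝒱.f k)).IsQuasiAffine) : U.IsQuasiAffine := by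
  have hqs : QuasiSeparated h := by
    refine of_cover' @QuasiSeparated h 𝒱.cover fun k => ?_
    have := H k
    change QuasiSeparated (pullback.snd h (𝒱.f k))
    rw [quasiSeparated_iff_quasiSeparatedSpace]
    infer_instance
  have : QuasiSeparatedSpace U := (quasiSeparated_iff_quasiSeparatedSpace h).mp hqs
  let r : Spec Γ(U, ⊤) ⟶ V := Spec.map h.appTop ≫ inv V.toSpecΓ
  have hoi : IsOpenImmersion U.toSpecΓ := by
    have : QuasiCompactCover (𝒱.cover.pullback₁ r).toPreZeroHypercover :=
      show QuasiCompactCover (𝒱.cover.toPreZeroHypercover.pullback₁ r) from inferInstance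
    refine of_cover_isPullback @IsOpenImmersion U.toSpecΓ (𝒱.cover.pullback₁ r) fun k => ?_
    have Hk : IsPullback (pullback.fst h (𝒱.f k)) (pullback.snd h (𝒱.f k)) h (𝒱.f k) :=
      IsPullback.of_hasPullback _ _
    have : Flat (𝒱.f k) := 𝒱.map_prop k
    have sq1 := isPullback_toSpecΓ Hk
    have sq2 := isPullback_SpecMap_appTop' Hk
    have := H k
    refine ⟨pullback h (𝒱.f k), pullback.fst h (𝒱.f k),
      (pullback h (𝒱.f k)).toSpecΓ ≫ sq2.isoPullback.hom, ?_, inferInstance⟩
    refine IsPullback.of_iso sq1 (Iso.refl _) (Iso.refl _) sq2.isoPullback (Iso.refl _)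
      (by simp) (by simp) (by simp) ?_
    change _ ≫ 𝟙 _ = sq2.isoPullback.hom ≫ pullback.fst r (𝒱.f k)
    rw [Category.comp_id]
    exact (sq2.isoPullback_hom_fst).symm
  constructor

set_option backward.isDefEq.respectTransparency false in
/-- Ind-quasi-affine morphisms descend along flat, surjective, quasi-compact morphisms. -/
theorem isIndQuasiAffineHom_of_isPullback {X S X' S' : Scheme.{u}} (f : X ⟶ S) (f' : X' ⟶ S')
    (g' : X' ⟶ X) (g : S' ⟶ S) [Flat g] [Surjective g] [QuasiCompact g]
    (hc : IsPullback g' f' f g) (hf' : MoreMor.IsIndQuasiAffineHom f') :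
    MoreMor.IsIndQuasiAffineHom f := by
  intro V hV
  rw [Groth.Agent.Lib.IndQuasiAffine.isIndQuasiAffine_opens_iff]
  intro U hUV hU
  have : IsAffine (V : Scheme.{u}) := hV
  have : CompactSpace (U : Scheme.{u}) := isCompact_iff_compactSpace.mp hU
  have hcf : Flat (pullback.fst V.ι g) := inferInstance
  have : Surjective (pullback.fst V.ι g) := inferInstance
  have : QuasiCompact (pullback.fst V.ι g) := inferInstance
  obtain ⟨𝒱, φ, hfin, -⟩ := QuasiCompactCover.exists_hom.{u} (P := @Flat)
    ((pullback.fst V.ι g).cover hcf)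
  let h : (U : Scheme.{u}) ⟶ V := f.resLE V U hUV
  refine isQuasiAffine_of_affineCover h 𝒱 fun k => ?_
  refine isQuasiAffine_pullback_of_isIndQuasiAffineHom hc hf' U.ι V.ι h
    (f.resLE_comp_ι hUV).symm (φ.h₀ k ≫ pullback.snd V.ι g) (𝒱.f k) ?_
  rw [Category.assoc, ← pullback.condition, ← Category.assoc]
  congr 1
  exact (φ.w₀ k).symm

end Main

end Groth.Agent.Lib.QuasiAffineDescent
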