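import Groth.Agent.Lib.ConsMorInst
import Groth.Agent.Lib.ConsPairGeomQAff
import Groth.Agent.Lib.QuasiAffineDescent
import Groth.Agent.S1398

/-!
# Quasi-affine morphisms: fpqc descent, and ind-constructibility of the quasi-affine locus
(helper62)
-/

set_option autoImplicit false
universe u

open CategoryTheory Limits AlgebraicGeometry MorphismProperty

namespace Groth.Agent.Lib.ConsMorInst

open Groth.Agent.Lib.ConsPairGeom Groth.Agent.Lib.LimDescent

/-- Quasi-affine morphisms descend along fpqc morphisms. -/
instance descendsAlong_quasiAffine :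
    (QAffProp.{u}).DescendsAlong (@Surjective ⊓ @Flat ⊓ @QuasiCompact) where
  of_isPullback {A X Y Z fst snd f g} h hf hfst := by
    haveI : Surjective f := hf.1.1
    haveI : Flat f := hf.1.2
    haveI : QuasiCompact f := hf.2
    have hqc : QuasiCompact g :=
      MorphismProperty.of_isPullback_of_descendsAlong (P := @QuasiCompact) h hf hfst.1
    have hind : MoreMor.IsIndQuasiAffineHom g :=
      Groth.Agent.Lib.QuasiAffineDescent.isIndQuasiAffineHom_of_isPullback g fst snd f h.flip
        ((Groth.Agent.S1398.result fst).2 hfst)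
    refine ⟨hqc, fun V hV => ?_⟩
    have h1 := (Groth.Agent.Lib.IndQuasiAffine.isIndQuasiAffine_opens_iff (g ⁻¹ᵁ V)).mp (hind V hV)
    exact h1 (g ⁻¹ᵁ V) le_rfl (hqc.1 V.1 V.2 hV.isCompact)

/-- The set of points over which the fibre map is quasi-affine is ind-constructible. -/
theorem isIndConstructible_setOf_quasiAffine {X Y S : Scheme.{u}} (f : X ⟶ Y) (g : Y ⟶ S)
    [LocallyOfFinitePresentation g] [QuasiCompact g] [QuasiSeparated g]
    [LocallyOfFinitePresentation (f ≫ g)] [QuasiCompact (f ≫ g)] [QuasiSeparated (f ≫ g)] :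
    ProCons.IsIndConstructible
      {s : S | MoreMor.IsQuasiAffineHom (bcMap f g (S.fromSpecResidueField s))} :=
  isIndConstructible_setOf QAffProp descends_quasiAffine f g

end Groth.Agent.Lib.ConsMorInst
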