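import Groth.Agent.Lib.ConsTop

/-!
Pro-constructible and ind-constructible sets: basic closure properties, relation with the constructible
topology, preimages under morphisms of schemes.
-/

set_option autoImplicit false

namespace Groth.Agent.Lib.ConsTop

open Topology Set

section Basic

variable {X : Type*} [TopologicalSpace X]

theorem isLocallyConstructible_compl {s : Set X} (hs : IsLocallyConstructible s) :
    IsLocallyConstructible sᶜ := by
  intro x
  obtain ⟨U, hxU, hU, hsU⟩ := hs x
  exact ⟨U, hxU, hU, by simpa using hsU.compl⟩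

theorem isIndConstructible_compl {E : Set X} (hE : ProCons.IsProConstructible E) :
    ProCons.IsIndConstructible Eᶜ := by
  intro x
  obtain ⟨U, hU, hxU, S, hS, hES⟩ := hE x
  refine ⟨U, hU, hxU, compl '' S, ?_, ?_⟩
  · rintro _ ⟨T, hT, rfl⟩
    exact isLocallyConstructible_compl (hS T hT)
  · rw [Set.preimage_compl, hES, Set.compl_sInter]

theorem isProConstructible_compl {E : Set X} (hE : ProCons.IsIndConstructible E) :
    ProCons.IsProConstructible Eᶜ := by
  intro x
  obtain ⟨U, hU, hxU, S, hS, hES⟩ := hE x
  refine ⟨U, hU, hxU, compl '' S, ?_, ?_⟩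
  · rintro _ ⟨T, hT, rfl⟩
    exact isLocallyConstructible_compl (hS T hT)
  · rw [Set.preimage_compl, hES, Set.compl_sUnion]

theorem isProConstructible_of_compl {E : Set X} (hE : ProCons.IsIndConstructible Eᶜ) :
    ProCons.IsProConstructible E := by
  simpa using isProConstructible_compl hE

theorem isIndConstructible_of_compl {E : Set X} (hE : ProCons.IsProConstructible Eᶜ) :
    ProCons.IsIndConstructible E := by
  simpa using isIndConstructible_compl hE

theorem isProConstructible_of_isLocallyConstructible {E : Set X} (hE : IsLocallyConstructible E) :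
    ProCons.IsProConstructible E := by
  intro x
  refine ⟨univ, isOpen_univ, mem_univ x, {Subtype.val ⁻¹' E}, ?_, by simp⟩
  rintro _ rfl
  exact hE.preimage_of_isOpenEmbedding isOpen_univ.isOpenEmbedding_subtypeVal

theorem isIndConstructible_of_isLocallyConstructible {E : Set X} (hE : IsLocallyConstructible E) :
    ProCons.IsIndConstructible E := by
  intro x
  refine ⟨univ, isOpen_univ, mem_univ x, {Subtype.val ⁻¹' E}, ?_, by simp⟩
  rintro _ rfl
  exact hE.preimage_of_isOpenEmbedding isOpen_univ.isOpenEmbedding_subtypeVal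

theorem isProConstructible_univ : ProCons.IsProConstructible (univ : Set X) :=
  isProConstructible_of_isLocallyConstructible IsLocallyConstructible.univ

/-- Generic: a clopen subset of a compact space is a finite union of members of a given basis. -/
theorem exists_finite_basis_cover_of_isClopen {Y : Type*} [TopologicalSpace Y] [CompactSpace Y]
    {B : Set (Set Y)} (hB : TopologicalSpace.IsTopologicalBasis B) {E : Set Y}
    (hc : IsClosed E) (ho : IsOpen E) :
    ∃ u : Set (Set Y), u.Finite ∧ u ⊆ B ∧ E = ⋃₀ u := by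
  obtain ⟨ι, b, hEb, hb⟩ := hB.open_eq_iUnion ho
  obtain ⟨t, ht⟩ := hc.isCompact.elim_finite_subcover b (fun i => hB.isOpen (hb i))
    (by rw [← hEb])
  refine ⟨b '' (t : Set ι), (t.finite_toSet).image b, ?_, ?_⟩
  · rintro _ ⟨i, -, rfl⟩
    exact hb i
  · apply Set.Subset.antisymm
    · intro y hy
      obtain ⟨i, hi, hyi⟩ := Set.mem_iUnion₂.mp (ht hy)
      exact ⟨b i, ⟨i, hi, rfl⟩, hyi⟩
    · rintro y ⟨_, ⟨i, -, rfl⟩, hyi⟩
      rw [hEb]
      exact Set.mem_iUnion.mpr ⟨i, hyi⟩

/-- Generic: openness can be checked pointwise. -/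
theorem isOpen_of_forall_exists {Y : Type*} [TopologicalSpace Y] {E : Set Y}
    (h : ∀ z ∈ E, ∃ N : Set Y, N ⊆ E ∧ IsOpen N ∧ z ∈ N) : IsOpen E :=
  isOpen_iff_forall_mem_open.mpr h

end Basic

section ConsTopology

variable {X : Type*} [TopologicalSpace X] [PrespectralSpace X] [QuasiSeparatedSpace X]

/-- Around a point of `U`, a locally constructible subset `T` of the open `U` agrees on a compact
open neighbourhood `V ⊆ U` with a constructible subset of the whole space. -/
theorem exists_isConstructible_nhd {U : Set X} (hU : IsOpen U) (T : Set ↥U)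
    (hT : IsLocallyConstructible T) (z : X) (hz : z ∈ U) :
    ∃ V : Set X, IsOpen V ∧ IsCompact V ∧ z ∈ V ∧ V ⊆ U ∧
      IsConstructible (V ∩ Subtype.val '' T) := by
  obtain ⟨V, ⟨hVo, hVc⟩, hzV, hVU⟩ :=
    (PrespectralSpace.isTopologicalBasis (X := X)).exists_subset_of_mem_open hz hU
  refine ⟨V, hVo, hVc, hzV, hVU, ?_⟩
  have hincl : IsOpenEmbedding (Set.inclusion hVU) :=
    IsOpenEmbedding.inclusion hVU (hVo.preimage continuous_subtype_val)
  have h1 : IsLocallyConstructible (Set.inclusion hVU ⁻¹' T) :=
    hT.preimage_of_isOpenEmbedding hincl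
  have : CompactSpace ↥V := isCompact_iff_compactSpace.mp hVc
  have : PrespectralSpace ↥V := hVo.isOpenEmbedding_subtypeVal.prespectralSpace
  have : QuasiSeparatedSpace ↥V := hVo.isOpenEmbedding_subtypeVal.quasiSeparatedSpace
  have h3 := h1.isConstructible.image_of_isOpenEmbedding hVo.isOpenEmbedding_subtypeVal
    (by simpa using hVc.isRetrocompact hVo)
  convert h3 using 1
  ext y
  constructor
  · rintro ⟨hyV, ⟨w, hwT, rfl⟩⟩
    exact ⟨⟨w.1, hyV⟩, by simpa [Set.inclusion] using hwT, rfl⟩
  · rintro ⟨w, hw, rfl⟩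
    exact ⟨w.2, ⟨Set.inclusion hVU w, hw, rfl⟩⟩

/-- Ind-constructible sets are open for the constructible topology. -/
theorem isOpen_constructibleTopology_of_isIndConstructible [CompactSpace X] {E : Set X}
    (hE : ProCons.IsIndConstructible E) : IsOpen[constructibleTopology X] E := by
  refine @isOpen_of_forall_exists X (constructibleTopology X) E ?_
  intro z hzE
  obtain ⟨U, hU, hzU, S, hS, hES⟩ := hE z
  have hmem : (⟨z, hzU⟩ : ↥U) ∈ (Subtype.val ⁻¹' E : Set ↥U) := hzE
  rw [hES] at hmem
  obtain ⟨T, hTS, hzT⟩ := hmem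
  obtain ⟨V, hVo, hVc, hzV, hVU, hVT⟩ := exists_isConstructible_nhd hU T (hS T hTS) z hzU
  refine ⟨V ∩ Subtype.val '' T, ?_, (isClopen_constructibleTopology_of_isConstructible hVT).2,
    hzV, ⟨z, hzU⟩, hzT, rfl⟩
  rintro _ ⟨-, w, hwT, rfl⟩
  have : w ∈ (Subtype.val ⁻¹' E : Set ↥U) := by rw [hES]; exact ⟨T, hTS, hwT⟩
  exact this

/-- Pro-constructible sets are closed for the constructible topology. -/
theorem isClosed_constructibleTopology_of_isProConstructible [CompactSpace X] {E : Set X}
    (hE : ProCons.IsProConstructible E) : IsClosed[constructibleTopology X] E := by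
  rw [← @isOpen_compl_iff _ _ (constructibleTopology X)]
  exact isOpen_constructibleTopology_of_isIndConstructible (isIndConstructible_compl hE)

omit [PrespectralSpace X] in
/-- Members of the subbasis of the constructible topology are constructible. -/
theorem isConstructible_of_mem_subbasis {s : Set X} (hs : s ∈ constructibleTopologySubbasis X) :
    IsConstructible s := by
  rcases hs with ⟨ho, hc⟩ | ⟨hcl, hc⟩
  · exact hc.isConstructible ho
  · exact (hc.isConstructible hcl.isOpen_compl).of_compl

/-- A set which is clopen for the constructible topology is constructible. -/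
theorem isConstructible_of_isClopen_constructibleTopology [CompactSpace X] [QuasiSober X]
    {E : Set X} (hc : IsClosed[constructibleTopology X] E)
    (ho : IsOpen[constructibleTopology X] E) : IsConstructible E := by
  have hcomp := compactSpace_constructibleTopology (W := X)
  have hbasis := @TopologicalSpace.isTopologicalBasis_of_subbasis X (constructibleTopology X)
    (constructibleTopologySubbasis X) rfl
  obtain ⟨u, hu, huB, rfl⟩ := @exists_finite_basis_cover_of_isClopen X (constructibleTopology X)
    hcomp _ hbasis E hc ho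
  refine IsConstructible.sUnion hu fun s hs => ?_
  obtain ⟨f, ⟨hf, hfs⟩, rfl⟩ := huB hs
  exact IsConstructible.sInter hf fun s hs => isConstructible_of_mem_subbasis (hfs hs)

end ConsTopology

section Preimage

variable {X Y : Type*} [TopologicalSpace X] [TopologicalSpace Y]

/-- Generic transfer of the pro-constructible condition along a continuous map `f`, given
that preimages of locally constructible subsets of opens are locally constructible. -/
theorem isProConstructible_preimage_of {f : X → Y} (hf : Continuous f)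
    (H : ∀ (U : Set Y) (_ : IsOpen U) (T : Set ↥U), IsLocallyConstructible T →
      IsLocallyConstructible (U.restrictPreimage f ⁻¹' T))
    {E : Set Y} (hE : ProCons.IsProConstructible E) : ProCons.IsProConstructible (f ⁻¹' E) := by
  intro x
  obtain ⟨U, hU, hxU, S, hS, hES⟩ := hE (f x)
  refine ⟨f ⁻¹' U, hU.preimage hf, hxU, (fun T => U.restrictPreimage f ⁻¹' T) '' S, ?_, ?_⟩
  · rintro _ ⟨T, hT, rfl⟩
    exact H U hU T (hS T hT)
  · have : (Subtype.val ⁻¹' (f ⁻¹' E) : Set ↥(f ⁻¹' U)) =
        U.restrictPreimage f ⁻¹' (Subtype.val ⁻¹' E) := rfl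
    rw [this, hES, Set.sInter_image, Set.preimage_sInter]

theorem isIndConstructible_preimage_of {f : X → Y} (hf : Continuous f)
    (H : ∀ (U : Set Y) (_ : IsOpen U) (T : Set ↥U), IsLocallyConstructible T →
      IsLocallyConstructible (U.restrictPreimage f ⁻¹' T))
    {E : Set Y} (hE : ProCons.IsIndConstructible E) : ProCons.IsIndConstructible (f ⁻¹' E) := by
  intro x
  obtain ⟨U, hU, hxU, S, hS, hES⟩ := hE (f x)
  refine ⟨f ⁻¹' U, hU.preimage hf, hxU, (fun T => U.restrictPreimage f ⁻¹' T) '' S, ?_, ?_⟩
  · rintro _ ⟨T, hT, rfl⟩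
    exact H U hU T (hS T hT)
  · have : (Subtype.val ⁻¹' (f ⁻¹' E) : Set ↥(f ⁻¹' U)) =
        U.restrictPreimage f ⁻¹' (Subtype.val ⁻¹' E) := rfl
    rw [this, hES, Set.sUnion_image, Set.preimage_sUnion]

theorem isProConstructible_preimage_of_isOpenEmbedding {f : X → Y} (hf : IsOpenEmbedding f)
    {E : Set Y} (hE : ProCons.IsProConstructible E) : ProCons.IsProConstructible (f ⁻¹' E) :=
  isProConstructible_preimage_of hf.continuous
    (fun U _ _ hT => hT.preimage_of_isOpenEmbedding (hf.restrictPreimage U)) hE

theorem isIndConstructible_preimage_of_isOpenEmbedding {f : X → Y} (hf : IsOpenEmbedding f)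
    {E : Set Y} (hE : ProCons.IsIndConstructible E) : ProCons.IsIndConstructible (f ⁻¹' E) :=
  isIndConstructible_preimage_of hf.continuous
    (fun U _ _ hT => hT.preimage_of_isOpenEmbedding (hf.restrictPreimage U)) hE

end Preimage

section Schemes

open AlgebraicGeometry

universe u

/-- Preimages of locally constructible sets under morphisms of schemes are locally
constructible. -/
theorem isLocallyConstructible_preimage {X Y : Scheme.{u}} (f : X ⟶ Y) {s : Set Y}
    (hs : IsLocallyConstructible s) : IsLocallyConstructible (f.base ⁻¹' s) := by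
  intro x
  obtain ⟨U, hxU, hU, hsU⟩ := hs (f.base x)
  let Uo : Y.Opens := ⟨U, hU⟩
  refine ⟨f.base ⁻¹' U, f.continuous.continuousAt.preimage_mem_nhds hxU,
    hU.preimage f.continuous, ?_⟩
  let g : (f ⁻¹ᵁ Uo).toScheme ⟶ Uo.toScheme := f.resLE Uo (f ⁻¹ᵁ Uo) le_rfl
  have h : IsConstructible (g.base ⁻¹' (Subtype.val ⁻¹' s : Set ↥U)) :=
    g.isConstructible_preimage hsU
  have heq : (Subtype.val ⁻¹' (f.base ⁻¹' s) : Set ↥(f.base ⁻¹' U)) =
      g.base ⁻¹' (Subtype.val ⁻¹' s : Set ↥U) := by
    ext w
    have : (g.base w).1 = f.base w.1 := Scheme.Hom.coe_resLE_apply f (U := Uo) (V := f ⁻¹ᵁ Uo) le_rfl w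
    simp only [Set.mem_preimage]
    rw [← this]
    exact Iff.rfl
  rw [heq]
  exact h

theorem isProConstructible_preimage {X Y : Scheme.{u}} (f : X ⟶ Y) {E : Set Y}
    (hE : ProCons.IsProConstructible E) : ProCons.IsProConstructible (f.base ⁻¹' E) := by
  refine isProConstructible_preimage_of f.continuous ?_ hE
  intro U hU T hT
  let Uo : Y.Opens := ⟨U, hU⟩
  let g : (f ⁻¹ᵁ Uo).toScheme ⟶ Uo.toScheme := f.resLE Uo (f ⁻¹ᵁ Uo) le_rfl
  have h : IsLocallyConstructible (g.base ⁻¹' T) := isLocallyConstructible_preimage g hT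
  have heq : U.restrictPreimage f.base ⁻¹' T = g.base ⁻¹' T := by
    ext w
    have : (g.base w).1 = f.base w.1 := Scheme.Hom.coe_resLE_apply f (U := Uo) (V := f ⁻¹ᵁ Uo) le_rfl w
    have h2 : U.restrictPreimage f.base w = g.base w := Subtype.ext this.symm
    simp only [Set.mem_preimage]
    rw [h2]
    exact Iff.rfl
  rw [heq]
  exact h

theorem isIndConstructible_preimage {X Y : Scheme.{u}} (f : X ⟶ Y) {E : Set Y}
    (hE : ProCons.IsIndConstructible E) : ProCons.IsIndConstructible (f.base ⁻¹' E) := by
  simpa using isIndConstructible_compl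
    (isProConstructible_preimage f (isProConstructible_compl hE))

end Schemes

end Groth.Agent.Lib.ConsTop
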