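import Groth.Agent.Lib.ConsTop3

/-!
Closure of a pro-constructible subset of a scheme: it is the set of specializations of its points.
Singletons are pro-constructible.
-/

set_option autoImplicit false

namespace Groth.Agent.Lib.ConsTop

open Topology Set AlgebraicGeometry

universe u

/-- EGA IV 1.10.1: a point in the closure of a pro-constructible subset of a scheme is a
specialization of a point of that subset. -/
theorem exists_specializes_of_mem_closure (X : Scheme.{u}) {Z : Set X}
    (hZ : ProCons.IsProConstructible Z) {x : X} (hx : x ∈ closure Z) : ∃ z ∈ Z, z ⤳ x := by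
  obtain ⟨U, hU, hxU, -⟩ := exists_isAffineOpen_mem_and_subset (U := ⊤) (x := x) (by simp)
  have : IsAffine U.toScheme := hU
  let w : U.toScheme := ⟨x, hxU⟩
  let ι := {V : Set U.toScheme // IsOpen V ∧ IsCompact V ∧ w ∈ V}
  have hF : ∀ V : ι, ProCons.IsProConstructible (V.1 : Set U.toScheme) := fun V =>
    isProConstructible_of_isLocallyConstructible
      ((V.2.2.1.isConstructible V.2.1).isLocallyConstructible)
  by_contra hcon
  push Not at hcon
  have hsub : ⋂ V : ι, (V.1 : Set U.toScheme) ⊆ (U.ι.base ⁻¹' Z)ᶜ := by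
    intro w' hw' hw'Z
    have hspec : w' ⤳ w := by
      rw [specializes_iff_forall_open]
      intro O hO hwO
      obtain ⟨V, ⟨hVo, hVc⟩, hwV, hVO⟩ :=
        (PrespectralSpace.isTopologicalBasis (X := U.toScheme)).exists_subset_of_mem_open hwO hO
      exact hVO (Set.mem_iInter.mp hw' ⟨V, hVo, hVc, hwV⟩)
    exact hcon _ hw'Z (hspec.map U.ι.continuous)
  obtain ⟨J, hJ⟩ := exists_finset_biInter_subset_of_spectral (W := U.toScheme)
    (isIndConstructible_compl (isProConstructible_preimage U.ι hZ))
    (fun V : ι => (V.1 : Set U.toScheme)) hF hsub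
  have hopen : IsOpen (⋂ V ∈ J, (V.1 : Set U.toScheme)) :=
    isOpen_biInter_finset fun V _ => V.2.1
  have hw : w ∈ ⋂ V ∈ J, (V.1 : Set U.toScheme) :=
    Set.mem_iInter₂.mpr fun V _ => V.2.2.2
  have hNopen : IsOpen (U.ι.base '' (⋂ V ∈ J, (V.1 : Set U.toScheme))) :=
    U.ι.isOpenEmbedding.isOpenMap _ hopen
  obtain ⟨z, ⟨n, hn, rfl⟩, hzZ⟩ := mem_closure_iff.mp hx _ hNopen ⟨w, hw, rfl⟩
  exact hJ hn hzZ

/-- The closure of a pro-constructible subset of a scheme is the set of specializations of its
points. -/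
theorem closure_eq_setOf_specializes (X : Scheme.{u}) {Z : Set X}
    (hZ : ProCons.IsProConstructible Z) : closure Z = {x | ∃ z ∈ Z, z ⤳ x} := by
  apply Set.Subset.antisymm
  · intro x hx
    exact exists_specializes_of_mem_closure X hZ hx
  · rintro x ⟨z, hzZ, hzx⟩
    exact hzx.mem_closed isClosed_closure (subset_closure hzZ)

/-- Singletons in a scheme are pro-constructible. -/
theorem isProConstructible_singleton (X : Scheme.{u}) (y : X) :
    ProCons.IsProConstructible ({y} : Set X) := by
  intro x
  obtain ⟨U, hU, hxU, -⟩ := exists_isAffineOpen_mem_and_subset (U := ⊤) (x := x) (by simp)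
  have : IsAffine U.toScheme := hU
  refine ⟨(U : Set X), U.2, hxU,
    {T | IsLocallyConstructible T ∧ (Subtype.val ⁻¹' ({y} : Set X) : Set ↥(U : Set X)) ⊆ T},
    fun T hT => hT.1, ?_⟩
  apply Set.Subset.antisymm
  · intro z hz T hT
    exact hT.2 hz
  · intro z hz
    by_contra hzy
    have hne : ∀ z' : U.toScheme, z'.1 = y → (z : U.toScheme) ≠ z' := by
      rintro z' hz' rfl
      exact hzy hz'
    by_cases hyU : y ∈ U
    · obtain ⟨C, hC, hzC, hyC⟩ := exists_isConstructible_mem_not_mem (W := U.toScheme)
        (hne ⟨y, hyU⟩ rfl)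
      have := hz Cᶜ ⟨hC.compl.isLocallyConstructible, ?_⟩
      · exact this hzC
      · rintro z' hz'
        have : z' = ⟨y, hyU⟩ := Subtype.ext hz'
        rw [this]
        exact hyC
    · have := hz ∅ ⟨IsLocallyConstructible.empty, ?_⟩
      · exact this
      · rintro z' hz'
        have hz'y : z'.1 = y := hz'
        exact hyU (hz'y ▸ z'.2)

end Groth.Agent.Lib.ConsTop
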