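import Groth.Agent.Lib.ConsTop2
import Mathlib.RingTheory.Spectrum.Prime.ConstructibleSet
import Mathlib.RingTheory.LocalRing.ResidueField.Ideal

/-!
The spectrum of the product of the residue fields at the points of a subset `E` of `Spec A`:
its image in `Spec A` contains `E` and lies in every constructible set containing `E`.
-/

set_option autoImplicit false

namespace Groth.Agent.Lib.ConsTop

open Topology Set PrimeSpectrum

universe u

section PiResidue

variable (A : Type u) [CommRing A] (E : Set (PrimeSpectrum A))

/-- The product of the residue fields at the points of `E`. -/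
abbrev PiResidue : Type u := ∀ p : E, p.1.asIdeal.ResidueField

/-- The canonical ring map to the product of residue fields. -/
noncomputable def piResidueMap : A →+* PiResidue A E :=
  RingHom.pi fun p => algebraMap A p.1.asIdeal.ResidueField

theorem piResidueMap_apply (a : A) (p : E) :
    piResidueMap A E a p = algebraMap A p.1.asIdeal.ResidueField a := rfl

theorem subset_range_comap_piResidueMap : E ⊆ Set.range (comap (piResidueMap A E)) := by
  intro p hp
  refine ⟨comap (Pi.evalRingHom (fun p : E => p.1.asIdeal.ResidueField) ⟨p, hp⟩)
    ⟨⊥, Ideal.isPrime_bot⟩, ?_⟩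
  ext x
  simp only [comap_asIdeal, Ideal.mem_comap, Pi.evalRingHom_apply, piResidueMap_apply,
    Ideal.mem_bot]
  exact Ideal.algebraMap_residueField_eq_zero

variable {A E}

/-- The idempotent-like indicator of the support of an element of a product of fields. -/
noncomputable def supp (b : PiResidue A E) : PiResidue A E :=
  fun p => open Classical in if b p = 0 then 0 else 1

theorem supp_mem_iff (q : Ideal (PiResidue A E)) (b : PiResidue A E) : supp b ∈ q ↔ b ∈ q := by
  constructor
  · intro h
    have : b = b * supp b := by
      funext p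
      by_cases hb : b p = 0 <;> simp [supp, hb]
    rw [this]
    exact q.mul_mem_left _ h
  · intro h
    have : supp b = (fun p => (b p)⁻¹) * b := by
      funext p
      by_cases hb : b p = 0 <;> simp [supp, hb]
    rw [this]
    exact q.mul_mem_left _ h

theorem one_sub_supp_notMem (q : Ideal (PiResidue A E)) [hq : q.IsPrime] (b : PiResidue A E)
    (hb : b ∈ q) : 1 - supp b ∉ q := by
  intro h
  have h1 : supp b ∈ q := (supp_mem_iff q b).mpr hb
  have : (1 : PiResidue A E) ∈ q := by
    have := q.add_mem h h1
    simpa using this
  exact hq.ne_top ((Ideal.eq_top_iff_one q).mpr this)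

theorem range_comap_piResidueMap_subset {C : Set (PrimeSpectrum A)} (hC : IsConstructible C)
    (hEC : E ⊆ C) : Set.range (comap (piResidueMap A E)) ⊆ C := by
  classical
  rintro _ ⟨q, rfl⟩
  by_contra hq
  obtain ⟨S, hS⟩ := exists_constructibleSetData_iff.mpr hC.compl
  have hmem : comap (piResidueMap A E) q ∈ S.toSet := by rw [hS]; exact hq
  simp only [ConstructibleSetData.toSet, Set.mem_iUnion] at hmem
  obtain ⟨D, hDS, hD⟩ := hmem
  have hg : ∀ i, piResidueMap A E (D.g i) ∈ q.asIdeal := by
    intro i
    have := hD.1
    rw [mem_zeroLocus] at this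
    exact this ⟨i, rfl⟩
  have hf : piResidueMap A E D.f ∉ q.asIdeal := by
    intro h
    apply hD.2
    rw [mem_zeroLocus]
    rintro _ rfl
    exact h
  have hq' := q.2
  have hprod : supp (piResidueMap A E D.f) *
      ∏ i : Fin D.n, (1 - supp (piResidueMap A E (D.g i))) ∉ q.asIdeal := by
    intro h
    rcases hq'.mem_or_mem h with h | h
    · exact hf ((supp_mem_iff _ _).mp h)
    · obtain ⟨i, -, hi⟩ := (Ideal.IsPrime.prod_mem_iff (hp := hq')).mp h
      exact one_sub_supp_notMem q.asIdeal _ (hg i) hi
  have hne : supp (piResidueMap A E D.f) *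
      ∏ i : Fin D.n, (1 - supp (piResidueMap A E (D.g i))) ≠ 0 := by
    intro h
    exact hprod (h ▸ q.asIdeal.zero_mem)
  obtain ⟨p, hp⟩ := Function.ne_iff.mp hne
  simp only [Pi.mul_apply, Finset.prod_apply, Pi.sub_apply, Pi.one_apply, Pi.zero_apply,
    mul_ne_zero_iff, Finset.prod_ne_zero_iff, Finset.mem_univ, true_imp_iff] at hp
  obtain ⟨hpf, hpg⟩ := hp
  have hpf' : piResidueMap A E D.f p ≠ 0 := by
    intro h
    simp [supp, h] at hpf
  have hpg' : ∀ i, piResidueMap A E (D.g i) p = 0 := by
    intro i
    by_contra h
    have := hpg i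
    simp [supp, h] at this
  have hpD : p.1 ∈ D.toSet := by
    refine ⟨?_, ?_⟩
    · rw [mem_zeroLocus]
      rintro _ ⟨i, rfl⟩
      exact Ideal.algebraMap_residueField_eq_zero.mp (hpg' i)
    · intro h
      rw [mem_zeroLocus] at h
      exact hpf' (Ideal.algebraMap_residueField_eq_zero.mpr (h rfl))
  have : p.1 ∈ Cᶜ := by
    rw [← hS]
    exact Set.mem_biUnion hDS hpD
  exact this (hEC p.2)

end PiResidue

section Separation

variable {W : Type*} [TopologicalSpace W] [QuasiSeparatedSpace W]

/-- A set closed for the constructible topology is an intersection of constructible sets. -/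
theorem exists_isConstructible_of_isClosed_constructibleTopology {E : Set W}
    (hE : IsClosed[constructibleTopology W] E) {z : W} (hz : z ∉ E) :
    ∃ C : Set W, IsConstructible C ∧ E ⊆ C ∧ z ∉ C := by
  have hbasis := @TopologicalSpace.isTopologicalBasis_of_subbasis W (constructibleTopology W)
    (constructibleTopologySubbasis W) rfl
  obtain ⟨b, hb, hzb, hbE⟩ := @TopologicalSpace.IsTopologicalBasis.exists_subset_of_mem_open W
    (constructibleTopology W) _ hbasis z Eᶜ hz
    ((@isOpen_compl_iff _ _ (constructibleTopology W)).mpr hE)
  obtain ⟨f, ⟨hf, hfs⟩, rfl⟩ := hb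
  refine ⟨(⋂₀ f)ᶜ, (IsConstructible.sInter hf fun s hs =>
    isConstructible_of_mem_subbasis (hfs hs)).compl, ?_, fun h => h hzb⟩
  exact Set.subset_compl_comm.mp hbE

end Separation

section AffineImage

open AlgebraicGeometry CategoryTheory

/-- On an affine scheme `Spec R`, a pro-constructible subset `E` is the image of the spectrum of
the product of the residue fields at the points of `E`. -/
theorem range_specMap_piResidueMap (R : CommRingCat.{u}) (E : Set (PrimeSpectrum R))
    (hE : ProCons.IsProConstructible (X := (Spec R : Scheme.{u})) E) :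
    Set.range (Spec.map (CommRingCat.ofHom (piResidueMap R E))).base = E := by
  apply Set.Subset.antisymm
  · intro z hz
    by_contra hzE
    have hcl : IsClosed[constructibleTopology (Spec R : Scheme.{u})] E :=
      isClosed_constructibleTopology_of_isProConstructible hE
    obtain ⟨C, hC, hEC, hzC⟩ := exists_isConstructible_of_isClosed_constructibleTopology
      (W := (Spec R : Scheme.{u})) hcl hzE
    exact hzC (range_comap_piResidueMap_subset (A := R) hC hEC hz)
  · exact subset_range_comap_piResidueMap R E

end AffineImage

end Groth.Agent.Lib.ConsTop
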