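import Mathlib.Topology.Spectral.ConstructibleTopology
import Mathlib.Topology.Maps.Proper.Basic
import Mathlib.Topology.Maps.Proper.CompactlyGenerated
import Mathlib.Topology.QuasiSeparated
import Mathlib.Topology.Sober

/-!
# The constructible topology: basic facts (helper85)

For a topological space `X` (mostly: T0, prespectral, quasi-sober, quasi-separated, e.g. the space of a
quasi-separated scheme):
* `ConsTopH85.cons_le`: the constructible topology is finer than the given one;
* `ConsTopH85.t2Space_cons`: it is Hausdorff;
* `ConsTopH85.induced_cons_eq`: on a compact open `W` it induces the constructible topology of `W`;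
* `ConsTopH85.isCompact_cons_of_isCompact_isOpen`: compact opens are compact (and clopen) for it;
* `ConsTopH85.continuous_cons`: spectral maps are continuous for the constructible topologies;
* `isProperMap_of_cover`: a topological properness criterion.
-/

set_option autoImplicit false

open Topology TopologicalSpace

namespace ConsTopH85

variable {X : Type*} [TopologicalSpace X]

/-- compact opens are clopen in the constructible topology -/
lemma isOpen_cons_of_isCompact_isOpen {s : Set X} (hs : IsCompact s) (ho : IsOpen s) :
    IsOpen[constructibleTopology X] s :=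
  hs.isOpen_constructibleTopology_of_isOpen ho

lemma isClosed_cons_of_isCompact_isOpen {s : Set X} (hs : IsCompact s) (ho : IsOpen s) :
    IsClosed[constructibleTopology X] s := by
  rw [← @isOpen_compl_iff _ _ (constructibleTopology X)]
  exact IsCompact.isOpen_constructibleTopology_of_isClosed (by rwa [compl_compl]) ho.isClosed_compl

/-- The constructible topology is finer than the original one on a prespectral space. -/
lemma cons_le [PrespectralSpace X] : constructibleTopology X ≤ ‹TopologicalSpace X› := by
  intro U hU
  obtain ⟨S, hS, rfl⟩ := (PrespectralSpace.isTopologicalBasis (X := X)).open_eq_sUnion hU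
  exact @isOpen_sUnion _ (constructibleTopology X) _ fun s hs =>
    isOpen_cons_of_isCompact_isOpen (hS hs).2 (hS hs).1

lemma isCompact_of_cons [PrespectralSpace X] {s : Set X}
    (hs : @IsCompact X (constructibleTopology X) s) : IsCompact s := by
  have hc : @Continuous X X (constructibleTopology X) _ id := continuous_id_of_le cons_le
  simpa using @IsCompact.image X X (constructibleTopology X) _ s id hs hc

/-- The constructible topology on a T0 prespectral space is Hausdorff. -/
lemma t2Space_cons [T0Space X] [PrespectralSpace X] : @T2Space X (constructibleTopology X) := by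
  refine @T2Space.mk X (constructibleTopology X) fun x y hxy => ?_
  obtain ⟨U, hU, hxor⟩ := exists_isOpen_xor_mem hxy
  rcases hxor with ⟨hx, hy⟩ | ⟨hy, hx⟩
  · obtain ⟨V, ⟨hVo, hVc⟩, hxV, hVU⟩ :=
      (PrespectralSpace.isTopologicalBasis (X := X)).exists_subset_of_mem_open hx hU
    exact ⟨V, Vᶜ, isOpen_cons_of_isCompact_isOpen hVc hVo,
      (@isOpen_compl_iff _ _ (constructibleTopology X)).2 (isClosed_cons_of_isCompact_isOpen hVc hVo),
      hxV, fun h => hy (hVU h), disjoint_compl_right⟩
  · obtain ⟨V, ⟨hVo, hVc⟩, hyV, hVU⟩ :=
      (PrespectralSpace.isTopologicalBasis (X := X)).exists_subset_of_mem_open hy hU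
    exact ⟨Vᶜ, V,
      (@isOpen_compl_iff _ _ (constructibleTopology X)).2 (isClosed_cons_of_isCompact_isOpen hVc hVo),
      isOpen_cons_of_isCompact_isOpen hVc hVo, fun h => hx (hVU h), hyV,
      disjoint_compl_left⟩

end ConsTopH85

namespace ConsTopH85

variable {X : Type*} [TopologicalSpace X]

/-- On a compact open subset `W` of a quasi-separated space, the constructible topology of `X` induces
the constructible topology of `W`. -/
lemma induced_cons_eq [QuasiSeparatedSpace X] {W : Set X} (hWo : IsOpen W) (hWc : IsCompact W) :
    (constructibleTopology X).induced (Subtype.val : W → X) = constructibleTopology W := by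
  have hemb : IsOpenEmbedding (Subtype.val : W → X) := hWo.isOpenEmbedding_subtypeVal
  -- preimages of compact opens of `X` are compact opens of `W`
  have key : ∀ s : Set X, IsOpen s → IsCompact s →
      IsOpen ((Subtype.val : W → X) ⁻¹' s) ∧ IsCompact ((Subtype.val : W → X) ⁻¹' s) := by
    intro s hso hsc
    refine ⟨hso.preimage continuous_subtype_val, ?_⟩
    rw [hemb.isEmbedding.isCompact_iff, Subtype.image_preimage_coe]
    exact QuasiSeparatedSpace.inter_isCompact _ _ hWo hWc hso hsc
  unfold constructibleTopology
  rw [induced_generateFrom_eq]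
  apply le_antisymm
  · apply le_generateFrom
    rintro t (⟨hto, htc⟩ | ⟨htcl, htc⟩)
    · apply isOpen_generateFrom_of_mem
      refine ⟨Subtype.val '' t, Or.inl ⟨hemb.isOpenMap _ hto, htc.image continuous_subtype_val⟩, ?_⟩
      exact Set.preimage_image_eq _ Subtype.val_injective
    · apply isOpen_generateFrom_of_mem
      refine ⟨(Subtype.val '' tᶜ)ᶜ, Or.inr ⟨?_, ?_⟩, ?_⟩
      · exact (hemb.isOpenMap _ htcl.isOpen_compl).isClosed_compl
      · rw [compl_compl]; exact htc.image continuous_subtype_val
      · rw [Set.preimage_compl, Set.preimage_image_eq _ Subtype.val_injective, compl_compl]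
  · apply le_generateFrom
    rintro _ ⟨s, (⟨hso, hsc⟩ | ⟨hscl, hsc⟩), rfl⟩
    · apply isOpen_generateFrom_of_mem
      exact Or.inl (key s hso hsc)
    · apply isOpen_generateFrom_of_mem
      refine Or.inr ⟨hscl.preimage continuous_subtype_val, ?_⟩
      rw [← Set.preimage_compl]
      exact (key _ hscl.isOpen_compl hsc).2

/-- Compact opens of a quasi-separated, quasi-sober, prespectral space are compact for the
constructible topology. -/
lemma isCompact_cons_of_isCompact_isOpen [QuasiSeparatedSpace X] [QuasiSober X] [PrespectralSpace X]
    {W : Set X} (hWo : IsOpen W) (hWc : IsCompact W) :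
    @IsCompact X (constructibleTopology X) W := by
  have hemb : IsOpenEmbedding (Subtype.val : W → X) := hWo.isOpenEmbedding_subtypeVal
  have : CompactSpace W := isCompact_iff_compactSpace.mp hWc
  have : QuasiSober W := hemb.quasiSober
  have : PrespectralSpace W := hemb.prespectralSpace
  have : QuasiSeparatedSpace W := QuasiSeparatedSpace.of_isOpenEmbedding hemb
  have h1 : CompactSpace (WithConstructibleTopology W) := inferInstance
  have h2 : @CompactSpace W (constructibleTopology W) :=
    @Function.Surjective.compactSpace (WithConstructibleTopology W) W _ (constructibleTopology W)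
      (WithTopology.ofTopology) (WithTopology.continuous_ofTopology _) h1
      (WithTopology.ofTopology_surjective _)
  rw [← induced_cons_eq hWo hWc] at h2
  exact (@isCompact_iff_compactSpace X (constructibleTopology X) W).mpr h2

/-- A continuous map such that preimages of compact opens are compact is continuous for the
constructible topologies. -/
lemma continuous_cons {Y : Type*} [TopologicalSpace Y] {f : X → Y} (hf : Continuous f)
    (hc : ∀ U : Set Y, IsOpen U → IsCompact U → IsCompact (f ⁻¹' U)) :
    @Continuous X Y (constructibleTopology X) (constructibleTopology Y) f := by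
  apply continuous_generateFrom_iff.mpr
  rintro s (⟨hso, hsc⟩ | ⟨hscl, hsc⟩)
  · exact isOpen_cons_of_isCompact_isOpen (hc s hso hsc) (hso.preimage hf)
  · refine IsCompact.isOpen_constructibleTopology_of_isClosed ?_ (hscl.preimage hf)
    rw [← Set.preimage_compl]
    exact hc _ hscl.isOpen_compl hsc

end ConsTopH85

/-- A purely topological criterion for properness. -/
lemma isProperMap_of_cover {X Y : Type*} [TopologicalSpace X] [TopologicalSpace Y] [T2Space Y]
    {f : X → Y} (hf : Continuous f) (𝒲 : Set (Set Y)) (h1 : ∀ y, ∃ W ∈ 𝒲, y ∈ W)
    (h2 : ∀ W ∈ 𝒲, IsOpen W ∧ IsCompact W ∧ IsCompact (f ⁻¹' W)) : IsProperMap f := by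
  have : WeaklyLocallyCompactSpace Y := ⟨fun y => by
    obtain ⟨W, hW, hy⟩ := h1 y
    exact ⟨W, (h2 W hW).2.1, (h2 W hW).1.mem_nhds hy⟩⟩
  rw [isProperMap_iff_isCompact_preimage]
  refine ⟨hf, fun K hK => ?_⟩
  choose W hW hyW using h1
  obtain ⟨t, -, htK⟩ := hK.elim_nhds_subcover W
    (fun y _ => (h2 _ (hW y)).1.mem_nhds (hyW y))
  have hC : IsCompact (⋃ y ∈ t, f ⁻¹' (W y)) :=
    t.isCompact_biUnion fun y _ => (h2 _ (hW y)).2.2
  refine hC.of_isClosed_subset (hK.isClosed.preimage hf) ?_
  intro x hx
  obtain ⟨y, hy, hxy⟩ := Set.mem_iUnion₂.mp (htK hx)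
  exact Set.mem_iUnion₂.mpr ⟨y, hy, hxy⟩
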