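import Groth.Agent.Lib.EtConstr22c
import Mathlib.Topology.Spectral.Prespectral

/-!
# Transitivity of constructibility (helper22)

In a quasi-separated space with a basis of compact opens:
* `isConstructible_of_consIn`: a subset which is constructible in a compact constructible subspace
  is constructible;
* `isConstructible_image_of_isEmbedding`: for an embedding with constructible range, the image of a
  compact open subset is constructible.
-/

set_option autoImplicit false
set_option linter.unusedSectionVars false
set_option linter.style.haveILetI false
open Topology Set

namespace Groth.Agent.Lib.EtConstr22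

variable {X : Type*} [TopologicalSpace X] [PrespectralSpace X] [QuasiSeparatedSpace X]

/-- A compact set which is relatively open in a constructible set is constructible. -/
theorem isConstructible_inter_open_of_isCompact {S V : Set X} (hS : IsConstructible S)
    (hV : IsOpen V) (hK : IsCompact (S ∩ V)) : IsConstructible (S ∩ V) := by
  obtain ⟨W, hWc, hWo, hKW, hWV⟩ :=
    PrespectralSpace.exists_isCompact_and_isOpen_between hK hV Set.inter_subset_right
  have e : S ∩ V = S ∩ W := by
    apply Set.eq_of_subset_of_subset
    · exact fun x hx => ⟨hx.1, hKW hx⟩
    · exact fun x hx => ⟨hx.1, hWV hx.2⟩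
  rw [e]
  exact hS.inter (hWc.isConstructible hWo)

/-- Transitivity: constructible in a compact constructible subspace implies constructible. -/
theorem isConstructible_of_consIn {S R : Set X} (hS : IsConstructible S) (hSc : IsCompact S)
    (hRS : R ⊆ S) (h : ConsIn S R) : IsConstructible R := by
  haveI : CompactSpace ↥S := isCompact_iff_compactSpace.1 hSc
  have key : ∀ E : Set ↥S, IsConstructible E → IsConstructible ((Subtype.val : ↥S → X) '' E) := by
    intro E hE
    induction hE using IsConstructible.empty_union_induction with
    | open_retrocompact U hUo hUc =>
      obtain ⟨V, hV, rfl⟩ := isOpen_induced_iff.1 hUo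
      have e : (Subtype.val : ↥S → X) '' (Subtype.val ⁻¹' V) = S ∩ V := by
        rw [Set.image_preimage_eq_inter_range, Subtype.range_coe, Set.inter_comm]
      rw [e]
      apply isConstructible_inter_open_of_isCompact hS hV
      rw [← e]
      exact hUc.isCompact.image continuous_subtype_val
    | union s hs t ht ihs iht =>
      rw [Set.image_union]
      exact ihs.union iht
    | compl s hs ih =>
      have e : (Subtype.val : ↥S → X) '' sᶜ = S \ (Subtype.val '' s) := by
        rw [Set.image_compl_eq_range_sdiff_image Subtype.val_injective, Subtype.range_coe]
      rw [e]
      exact hS.sdiff ih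
  have e : R = (Subtype.val : ↥S → X) '' ((Subtype.val : ↥S → X) ⁻¹' R) := by
    rw [Set.image_preimage_eq_inter_range, Subtype.range_coe, Set.inter_eq_left.2 hRS]
  rw [e]
  exact key _ h

/-- For an embedding with constructible range, images of compact open subsets are
constructible. -/
theorem isConstructible_image_of_isEmbedding {T : Type*} [TopologicalSpace T] {f : T → X}
    (hf : IsEmbedding f) (hR : IsConstructible (Set.range f)) {W : Set T} (hWo : IsOpen W)
    (hWc : IsCompact W) : IsConstructible (f '' W) := by
  obtain ⟨V, hV, rfl⟩ := hf.isInducing.isOpen_iff.1 hWo
  have e : f '' (f ⁻¹' V) = Set.range f ∩ V := by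
    rw [Set.image_preimage_eq_inter_range, Set.inter_comm]
  rw [e]
  apply isConstructible_inter_open_of_isCompact hR hV
  rw [← e]
  exact hWc.image hf.continuous

/-- For an embedding with constructible range, the image of a subset which is constructible in a
compact open subset is constructible. -/
theorem isConstructible_image_of_consIn {T : Type*} [TopologicalSpace T] {f : T → X}
    (hf : IsEmbedding f) (hR : IsConstructible (Set.range f)) {W E' : Set T} (hWo : IsOpen W)
    (hWc : IsCompact W) (hEW : E' ⊆ W) (h : ConsIn W E') : IsConstructible (f '' E') :=
  isConstructible_of_consIn (isConstructible_image_of_isEmbedding hf hR hWo hWc)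
    (hWc.image hf.continuous) (Set.image_mono hEW) (h.image_of_isEmbedding hf)

end Groth.Agent.Lib.EtConstr22
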