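import Groth.Agent.Lib.ExtEfface
import Groth.Agent.S12058

/-!
# Every class in `Ext¹(Q, F)` is the class of a short exact sequence (helper31)

Uses helper21's effaceability lemma (`Lib/ExtEfface`) and helper47's pushout of a short exact
sequence (`S12058.pushout_shortExact`).
-/

set_option autoImplicit false

universe w v u

open CategoryTheory Limits Abelian

namespace Groth.Agent.ExtReal31

variable {C : Type u} [Category.{v} C] [Abelian C] [HasExt.{w} C]

/-- Every class in `Ext¹(Q, F)` is the class of a short exact sequence `0 → F → X → Q → 0`. -/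
theorem exists_shortExact_extClass_eq {Q F : C} (x : Ext.{w} Q F 1) :
    ∃ (X : C) (i : F ⟶ X) (q : X ⟶ Q) (w : i ≫ q = 0)
      (hS : (ShortComplex.mk i q w).ShortExact), hS.extClass = x := by
  obtain ⟨Q', π, hπ, hz⟩ := Groth.Agent.Lib.ExtEfface.exists_epi_mk₀_comp_eq_zero (n := 0) x
  have hT : (ShortComplex.mk (kernel.ι π) π (kernel.condition π)).ShortExact :=
    { exact := ShortComplex.exact_kernel π }
  obtain ⟨x₁, hx₁⟩ := Ext.contravariant_sequence_exact₃ hT F x hz (add_zero 1)
  obtain ⟨φ, rfl⟩ := (Ext.mk₀_bijective _ _).surjective x₁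
  obtain ⟨B, f, g, d, w, hS, h1, h2⟩ := Groth.Agent.S12058.pushout_shortExact hT φ
  refine ⟨B, f, g, w, hS, ?_⟩
  let ψ : ShortComplex.mk (kernel.ι π) π (kernel.condition π) ⟶ ShortComplex.mk f g w :=
    { τ₁ := φ
      τ₂ := d
      τ₃ := 𝟙 _
      comm₁₂ := h1.symm
      comm₂₃ := by
        dsimp
        rw [h2, Category.comp_id] }
  have h := ShortComplex.ShortExact.extClass_naturality hT hS ψ
  dsimp [ψ] at h
  rw [Ext.mk₀_id_comp] at h
  rw [← hx₁, ← h]

end Groth.Agent.ExtReal31
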