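import Mathlib.CategoryTheory.Sites.ConstantSheaf
import Mathlib.CategoryTheory.Sites.PreservesSheafification
import Mathlib.CategoryTheory.Sites.LeftExact
import Mathlib.CategoryTheory.Sites.Limits
import Mathlib.CategoryTheory.Sites.LocallySurjective
import Mathlib.CategoryTheory.Sites.Abelian
import Mathlib.CategoryTheory.Limits.FunctorCategory.Basic
import Mathlib.Algebra.Category.Grp.Limits
import Mathlib.Algebra.Category.Grp.FilteredColimits
import Mathlib.Algebra.Category.Grp.Abelian
import Mathlib.Algebra.Category.Grp.EpiMono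
import Mathlib.Algebra.Category.Grp.ForgetCorepresentable
import Mathlib.Algebra.Homology.ShortComplex.ShortExact

/-!
# Constant abelian sheaves on a small site (helper31)

A surjection of abelian groups `B ⟶ C` induces a map of constant sheaves `B̲ ⟶ C̲` whose underlying
map of sheaves of sets has a section (coming from a set-theoretic section of `B ⟶ C`).  Hence it is
surjective on sections over every object, `constantSheaf` sends short exact sequences to short exact
sequences (even sectionwise), and maps `ℤ̲ ⟶ C̲` lift to `ℤ̲ ⟶ B̲`.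
-/

set_option autoImplicit false

open CategoryTheory CategoryTheory.Limits Opposite

universe u

namespace Groth.Agent.ConstSheaf31

variable {C : Type u} [SmallCategory C] (J : GrothendieckTopology C)

noncomputable instance : PreservesFiniteLimits (constantSheaf J AddCommGrpCat.{u}) :=
  comp_preservesFiniteLimits (Functor.const Cᵒᵖ) (presheafToSheaf J AddCommGrpCat.{u})

noncomputable instance (U : C) :
    PreservesLimits ((sheafSections J AddCommGrpCat.{u}).obj (op U)) :=
  inferInstanceAs (PreservesLimits (sheafToPresheaf J AddCommGrpCat.{u} ⋙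
    (evaluation Cᵒᵖ AddCommGrpCat.{u}).obj (op U)))

/-- the forgetful functor from abelian sheaves to sheaves of sets -/
noncomputable abbrev sF : Sheaf J AddCommGrpCat.{u} ⥤ Sheaf J (Type u) :=
  sheafCompose J (forget AddCommGrpCat.{u})

variable {B C' : AddCommGrpCat.{u}} (g : B ⟶ C')

/-- The set-theoretic section of the map of constant sheaves induced by a surjection. -/
lemma exists_section (hg : Function.Surjective g.hom) :
    ∃ t : (sF J).obj ((constantSheaf J AddCommGrpCat.{u}).obj C') ⟶
        (sF J).obj ((constantSheaf J AddCommGrpCat.{u}).obj B),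
      t ≫ (sF J).map ((constantSheaf J AddCommGrpCat.{u}).map g) = 𝟙 _ := by
  let Θ := constantCommuteCompose J (forget AddCommGrpCat.{u})
  obtain ⟨σ', hσ'⟩ := hg.hasRightInverse
  let σ : (forget AddCommGrpCat.{u}).obj C' ⟶ (forget AddCommGrpCat.{u}).obj B := TypeCat.ofHom σ'
  have hσ : σ ≫ (forget AddCommGrpCat.{u}).map g = 𝟙 _ := by
    ext x
    exact hσ' x
  refine ⟨Θ.hom.app C' ≫ (constantSheaf J (Type u)).map σ ≫ Θ.inv.app B, ?_⟩
  have nat := Θ.inv.naturality g
  simp only [Functor.comp_map] at nat
  rw [Category.assoc, Category.assoc, ← nat, ← Functor.map_comp_assoc, hσ,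
    CategoryTheory.Functor.map_id, Category.id_comp, Iso.hom_inv_id_app]
  rfl

/-- A surjection of abelian groups induces a sectionwise surjection of constant sheaves. -/
lemma sections_surjective (hg : Function.Surjective g.hom) (U : C) :
    Function.Surjective (((constantSheaf J AddCommGrpCat.{u}).map g).hom.app (op U)).hom := by
  obtain ⟨t, ht⟩ := exists_section J g hg
  intro y
  refine ⟨t.hom.app (op U) y, ?_⟩
  have := congrArg (fun φ => φ.hom.app (op U)) ht
  exact ConcreteCategory.congr_hom this y

lemma epi_constantSheaf_map (hg : Function.Surjective g.hom) :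
    Epi ((constantSheaf J AddCommGrpCat.{u}).map g) := by
  have : Sheaf.IsLocallySurjective ((constantSheaf J AddCommGrpCat.{u}).map g) :=
    Presheaf.isLocallySurjective_of_surjective J _ (fun U => sections_surjective J g hg U.unop)
  infer_instance

section Lift

/-- the constant sheaf `ℤ̲` -/
noncomputable abbrev Zc : Sheaf J AddCommGrpCat.{u} :=
  (constantSheaf J AddCommGrpCat.{u}).obj (AddCommGrpCat.of (ULift.{u} ℤ))

/-- corepresentability of the forgetful functor -/
noncomputable abbrev coy :
    coyoneda.obj (op (AddCommGrpCat.of (ULift.{u} ℤ))) ≅ forget AddCommGrpCat.{u} :=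
  AddCommGrpCat.coyonedaObjIsoForget.{u}

lemma coy_hom_nat {G G' : AddCommGrpCat.{u}} (h : G ⟶ G')
    (k : AddCommGrpCat.of (ULift.{u} ℤ) ⟶ G) :
    coy.hom.app G' (k ≫ h) = h.hom (coy.hom.app G k) :=
  ConcreteCategory.congr_hom (coy.hom.naturality h) k

lemma coy_inv_nat {G G' : AddCommGrpCat.{u}} (h : G ⟶ G') (x : G) :
    coy.inv.app G' (h.hom x) = coy.inv.app G x ≫ h :=
  ConcreteCategory.congr_hom (coy.inv.naturality h) x

lemma coy_inv_hom {G : AddCommGrpCat.{u}} (k : AddCommGrpCat.of (ULift.{u} ℤ) ⟶ G) :
    coy.inv.app G (coy.hom.app G k) = k :=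
  ConcreteCategory.congr_hom (coy.hom_inv_id_app G) k

/-- Maps out of `ℤ̲` lift along a map of abelian sheaves whose underlying map of sheaves of sets
has a section. -/
lemma exists_lift_of_section {M N : Sheaf J AddCommGrpCat.{u}} (g : M ⟶ N)
    (t : (sF J).obj N ⟶ (sF J).obj M) (ht : t ≫ (sF J).map g = 𝟙 _)
    (φ : (presheafToSheaf J AddCommGrpCat.{u}).obj
      ((Functor.const Cᵒᵖ).obj (AddCommGrpCat.of (ULift.{u} ℤ))) ⟶ N) :
    ∃ ψ : (presheafToSheaf J AddCommGrpCat.{u}).obj
      ((Functor.const Cᵒᵖ).obj (AddCommGrpCat.of (ULift.{u} ℤ))) ⟶ M, ψ ≫ g = φ := by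
  let Z : AddCommGrpCat.{u} := AddCommGrpCat.of (ULift.{u} ℤ)
  let adj := sheafificationAdjunction J AddCommGrpCat.{u}
  let φ' : (Functor.const Cᵒᵖ).obj Z ⟶ N.obj := adj.homEquiv _ N φ
  have htU : ∀ (U : Cᵒᵖ) (y : N.obj.obj U), g.hom.app U (t.hom.app U y) = y := by
    intro U y
    have := congrArg (fun α => α.hom.app U) ht
    exact ConcreteCategory.congr_hom this y
  have htnat : ∀ {U V : Cᵒᵖ} (f : U ⟶ V) (y : N.obj.obj U),
      t.hom.app V (N.obj.map f y) = M.obj.map f (t.hom.app U y) := by
    intro U V f y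
    exact ConcreteCategory.congr_hom (t.hom.naturality f) y
  let ψ' : (Functor.const Cᵒᵖ).obj Z ⟶ M.obj :=
    { app := fun U => coy.inv.app (M.obj.obj U)
        (t.hom.app U (coy.hom.app (N.obj.obj U) (φ'.app U)))
      naturality := by
        intro U V f
        have hφ' : φ'.app U ≫ N.obj.map f = φ'.app V := by
          have := φ'.naturality f
          rw [← this]
          exact (Category.id_comp _).symm
        change 𝟙 Z ≫ _ = _
        rw [Category.id_comp, ← coy_inv_nat, ← htnat, ← coy_hom_nat, hφ'] }
  refine ⟨(adj.homEquiv _ M).symm ψ', ?_⟩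
  apply (adj.homEquiv _ N).injective
  rw [Adjunction.homEquiv_naturality_right, Equiv.apply_symm_apply]
  change ψ' ≫ g.hom = φ'
  ext U : 2
  change coy.inv.app (M.obj.obj U) (t.hom.app U (coy.hom.app (N.obj.obj U) (φ'.app U))) ≫
    g.hom.app U = φ'.app U
  rw [← coy_inv_nat, htU, coy_inv_hom]

/-- Maps `ℤ̲ ⟶ C̲` lift to `ℤ̲ ⟶ B̲` for a surjection `B ⟶ C`. -/
lemma exists_lift (hg : Function.Surjective g.hom)
    (φ : Zc J ⟶ (constantSheaf J AddCommGrpCat.{u}).obj C') :
    ∃ ψ : Zc J ⟶ (constantSheaf J AddCommGrpCat.{u}).obj B,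
      ψ ≫ (constantSheaf J AddCommGrpCat.{u}).map g = φ := by
  obtain ⟨t, ht⟩ := exists_section J g hg
  obtain ⟨ψ, hψ⟩ := exists_lift_of_section J _ t ht φ
  exact ⟨ψ, hψ⟩

end Lift

section SES

variable (S : ShortComplex AddCommGrpCat.{u}) (hS : S.ShortExact)

include hS in
/-- `constantSheaf` sends short exact sequences to short exact sequences. -/
lemma shortExact_map_constantSheaf :
    (S.map (constantSheaf J AddCommGrpCat.{u})).ShortExact := by
  have hmono : Mono S.f := hS.mono_f
  have hepi : Epi S.g := hS.epi_g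
  have hsurj : Function.Surjective S.g.hom := (AddCommGrpCat.epi_iff_surjective _).1 hepi
  refine { exact := ?_, mono_f := ?_, epi_g := ?_ }
  · exact hS.exact.map_of_mono_of_preservesKernel _ hmono inferInstance
  · change Mono ((constantSheaf J AddCommGrpCat.{u}).map S.f)
    infer_instance
  · exact epi_constantSheaf_map J S.g hsurj

end SES

end Groth.Agent.ConstSheaf31
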