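import Groth.Agent.Lib.ConstSheaf31
import Groth.Agent.Lib.ExtReal31
import Groth.Agent.S13791
import Mathlib.CategoryTheory.Sites.LocallyInjective
import Mathlib.CategoryTheory.Sites.LocallySurjective
import Mathlib.CategoryTheory.Sites.EpiMono
import Mathlib.CategoryTheory.Sites.SheafCohomology.Basic
import Mathlib.Algebra.Module.LocalizedModule.Basic

/-!
# `H¹` of a constant sheaf with uniquely divisible coefficients has no "locally integer" torsion
(helper9)
-/

set_option autoImplicit false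

open CategoryTheory CategoryTheory.Limits Opposite

universe u

namespace Groth.Agent.Lib.ConstH1Tors9

variable {C : Type u} [SmallCategory C] {J : GrothendieckTopology C}

section sheafElem

variable (F : Sheaf J AddCommGrpCat.{u})

theorem isSheaf_forget : Presieve.IsSheaf J (F.obj ⋙ forget AddCommGrpCat.{u}) :=
  (isSheaf_iff_isSheaf_of_type _ _).1
    ((Presheaf.isSheaf_iff_isSheaf_forget J F.obj (forget AddCommGrpCat.{u})).1 F.property)

theorem sheaf_ext {V : C} (S : Sieve V) (hS : S ∈ J V) (x y : F.obj.obj (op V))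
    (h : ∀ ⦃W : C⦄ (g : W ⟶ V), S g → F.obj.map g.op x = F.obj.map g.op y) : x = y :=
  ((isSheaf_forget F).isSeparated S hS).ext (t₁ := x) (t₂ := y) (fun _ g hg => h g hg)

theorem sheaf_glue {V : C} (S : Sieve V) (hS : S ∈ J V)
    (x : ∀ ⦃W : C⦄ (g : W ⟶ V), S g → F.obj.obj (op W))
    (hx : ∀ ⦃W W' : C⦄ (g : W ⟶ V) (hg : S g) (k : W' ⟶ W),
      F.obj.map k.op (x g hg) = x (k ≫ g) (S.downward_closed hg k)) :
    ∃ t : F.obj.obj (op V), ∀ ⦃W : C⦄ (g : W ⟶ V) (hg : S g), F.obj.map g.op t = x g hg := by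
  let fam : Presieve.FamilyOfElements (F.obj ⋙ forget AddCommGrpCat.{u}) (S : Presieve V) :=
    fun W g hg => x g hg
  have hc : fam.Compatible := by
    rw [Presieve.compatible_iff_sieveCompatible]
    intro W W' g k hg
    exact (hx g hg k).symm
  refine ⟨(isSheaf_forget F S hS).amalgamate fam hc, fun W g hg => ?_⟩
  exact (isSheaf_forget F S hS).valid_glue hc g hg

end sheafElem

section const

variable (J)

/-- the group `ℤ` (lifted). -/
abbrev Z : AddCommGrpCat.{u} := AddCommGrpCat.of (ULift.{u} ℤ)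

/-- the constant sheaf `ℤ̲`. -/
noncomputable abbrev Zc : Sheaf J AddCommGrpCat.{u} := (constantSheaf J AddCommGrpCat.{u}).obj Z

/-- the sheafification unit `ℤ → ℤ̲`. -/
noncomputable def η : (Functor.const Cᵒᵖ).obj Z ⟶ (Zc J).obj :=
  toSheafify J ((Functor.const Cᵒᵖ).obj Z)

instance : Presheaf.IsLocallyInjective J (η J) :=
  Presheaf.isLocallyInjective_toSheafify'.{u, u, u + 1, u} (J := J) _

/-- the section `1` of `ℤ̲`. -/
noncomputable def one (V : C) : (Zc J).obj.obj (op V) := (η J).app (op V) (ULift.up 1)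

theorem one_map {V W : C} (g : W ⟶ V) : (Zc J).obj.map g.op (one J V) = one J W := by
  have h := ConcreteCategory.congr_hom ((η J).naturality g.op) (ULift.up 1)
  simp only [Functor.const_obj_obj, Functor.const_obj_map, Category.id_comp] at h
  rw [one, one, h]
  rfl

theorem subsingleton_of_zsmul_one (m : ℤ) (hm : m ≠ 0) (W : C) (h : m • one J W = 0)
    (E : Sheaf J AddCommGrpCat.{u}) : Subsingleton (E.obj.obj (op W)) := by
  have h1 : (η J).app (op W) (ULift.up m) = (η J).app (op W) 0 := by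
    rw [map_zero, ← h, one, ← map_zsmul]
    congr 1
    apply ULift.ext
    simp
  have hmem := Presheaf.equalizerSieve_mem J (η J) _ _ h1
  refine ⟨fun e e' => sheaf_ext E _ hmem e e' (fun W' g hg => ?_)⟩
  exfalso
  have h2 : (ULift.up m : ULift.{u} ℤ) = 0 := hg
  apply hm
  exact congrArg ULift.down h2

/-- the homomorphism `ℤ → G`, `1 ↦ x`. -/
def zmap {G : AddCommGrpCat.{u}} (x : G) : Z ⟶ G :=
  AddCommGrpCat.ofHom (uliftZMultiplesHom G x)

theorem zmap_comp {G G' : AddCommGrpCat.{u}} (h : G ⟶ G') (x : G) :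
    zmap x ≫ h = zmap (h x) := by
  ext n
  simp [zmap, map_zsmul]

theorem zmap_one {G : AddCommGrpCat.{u}} (k : Z ⟶ G) : zmap (k (ULift.up 1)) = k := by
  ext n
  have := (uliftZMultiplesHom G).apply_symm_apply k.hom
  exact DFunLike.congr_fun this n

end const

section ses

open Groth.Agent.ConstSheaf31

variable {K E Q : Sheaf J AddCommGrpCat.{u}} {i : K ⟶ E} {q : E ⟶ Q} {w : i ≫ q = 0}
  (hS : (ShortComplex.mk i q w).ShortExact)

include hS

theorem ses_injective (W : C) : Function.Injective (i.hom.app (op W)) := by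
  have hm : Mono i := hS.mono_f
  have : Mono (((sheafSections J AddCommGrpCat.{u}).obj (op W)).map i) := inferInstance
  exact (AddCommGrpCat.mono_iff_injective _).1 this

theorem ses_exact (W : C) (b : E.obj.obj (op W)) (hb : q.hom.app (op W) b = 0) :
    ∃ b' : K.obj.obj (op W), i.hom.app (op W) b' = b := by
  have hm : Mono i := hS.mono_f
  have h1 := hS.exact.map_of_mono_of_preservesKernel
    ((sheafSections J AddCommGrpCat.{u}).obj (op W)) hm inferInstance
  exact (ShortComplex.ab_exact_iff _).1 h1 b hb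

theorem ses_locSurj {V : C} (x : Q.obj.obj (op V)) : Presheaf.imageSieve q.hom x ∈ J V := by
  have he : Epi q := hS.epi_g
  have h1 : Sheaf.IsLocallySurjective q :=
    (Sheaf.isLocallySurjective_iff_epi' AddCommGrpCat.{u} q).2 he
  exact Presheaf.imageSieve_mem J q.hom x

end ses

section core

variable (J)
variable {K E : Sheaf J AddCommGrpCat.{u}} {i : K ⟶ E} {q : E ⟶ Zc J} {w : i ≫ q = 0}
  (hS : (ShortComplex.mk i q w).ShortExact)
  (hK : ∀ (m : ℤ), m ≠ 0 → ∀ W : C, Function.Bijective (fun x : K.obj.obj (op W) => m • x))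
  (φ : Zc J ⟶ Zc J) (ψ : Zc J ⟶ E) (hψ : ψ ≫ q = φ)
  {ι : Type u} (U : ι → C) (n : ι → ℤ) (hn : ∀ i, n i ≠ 0)
  (hφ : ∀ (i : ι) (V : C) (_ : V ⟶ U i), φ.hom.app (op V) = n i • 𝟙 _)
  (hcov : ∀ V : C, ∃ R ∈ J V, ∀ ⦃W : C⦄ (g : W ⟶ V), R g → ∃ i, Nonempty (W ⟶ U i))

/-- the section `ψ(1)`. -/
noncomputable def e (V : C) : E.obj.obj (op V) := ψ.hom.app (op V) (one J V)

theorem e_map {V W : C} (g : W ⟶ V) : E.obj.map g.op (e J ψ V) = e J ψ W := by
  rw [e, e, ← one_map J g]
  exact (ConcreteCategory.congr_hom (ψ.hom.naturality g.op) (one J V)).symm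

theorem q_map {V W : C} (g : W ⟶ V) (s : E.obj.obj (op V)) :
    q.hom.app (op W) (E.obj.map g.op s) = (Zc J).obj.map g.op (q.hom.app (op V) s) :=
  ConcreteCategory.congr_hom (q.hom.naturality g.op) s

include hψ hφ in
theorem q_e (i₀ : ι) {V : C} (h : V ⟶ U i₀) :
    q.hom.app (op V) (e J ψ V) = n i₀ • one J V := by
  have h1 : ψ.hom.app (op V) ≫ q.hom.app (op V) = φ.hom.app (op V) := by
    rw [← hψ]
    rfl
  have h2 := ConcreteCategory.congr_hom h1 (one J V)
  rw [hφ i₀ V h] at h2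
  simpa [e] using h2

include w in
theorem q_i {W : C} (b : K.obj.obj (op W)) : q.hom.app (op W) (i.hom.app (op W) b) = 0 := by
  have h1 : i.hom.app (op W) ≫ q.hom.app (op W) = 0 := by
    have := congrArg (fun α => α.hom.app (op W)) w
    exact this
  exact ConcreteCategory.congr_hom h1 b

/-- the defining property of the local sections `s` with `q s = 1` and `φ s = ψ(1)`. -/
def P (V : C) (s : E.obj.obj (op V)) : Prop :=
  q.hom.app (op V) s = one J V ∧
    ∀ ⦃W : C⦄ (g : W ⟶ V) (i₀ : ι) (_ : W ⟶ U i₀), n i₀ • E.obj.map g.op s = e J ψ W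

variable {J ψ U n} (q) in
theorem P_map {V W : C} (k : W ⟶ V) {s : E.obj.obj (op V)} (hs : P J (q := q) ψ U n V s) :
    P J (q := q) ψ U n W (E.obj.map k.op s) := by
  refine ⟨?_, fun W' g i₀ h => ?_⟩
  · rw [q_map, hs.1, one_map]
  · have := hs.2 (g ≫ k) i₀ h
    rw [← this]
    congr 1
    simp

include hS hK hn hcov in
theorem P_unique {V : C} {s s' : E.obj.obj (op V)} (hs : P J (q := q) ψ U n V s)
    (hs' : P J (q := q) ψ U n V s') : s = s' := by
  obtain ⟨R, hR, hRU⟩ := hcov V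
  refine sheaf_ext E R hR s s' (fun W g hg => ?_)
  obtain ⟨i₀, ⟨h⟩⟩ := hRU g hg
  have h1 := hs.2 g i₀ h
  have h2 := hs'.2 g i₀ h
  have hq : q.hom.app (op W) (E.obj.map g.op s - E.obj.map g.op s') = 0 := by
    rw [map_sub, q_map, q_map, hs.1, hs'.1, sub_self]
  obtain ⟨b', hb'⟩ := ses_exact hS W _ hq
  have h3 : i.hom.app (op W) (n i₀ • b') = 0 := by
    rw [map_zsmul, hb', smul_sub, h1, h2, sub_self]
  have h4 : n i₀ • b' = 0 := by
    apply ses_injective hS W
    rw [h3, map_zero]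
  have h5 : b' = 0 := by
    apply (hK (n i₀) (hn i₀) W).1
    simpa using h4
  rw [h5, map_zero] at hb'
  exact (sub_eq_zero.1 hb'.symm)

include hS hK hn hcov hψ hφ in
theorem P_local (V : C) :
    ∃ R ∈ J V, ∀ ⦃W : C⦄ (g : W ⟶ V), R g → ∃ s, P J (q := q) ψ U n W s := by
  obtain ⟨R₁, hR₁, hRU⟩ := hcov V
  refine ⟨R₁ ⊓ Presheaf.imageSieve q.hom (one J V),
    J.intersection_covering hR₁ (ses_locSurj hS (one J V)), fun W g hg => ?_⟩
  obtain ⟨i₀, ⟨h₀⟩⟩ := hRU g hg.1
  obtain ⟨t, ht⟩ := hg.2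
  rw [one_map] at ht
  have hqd : q.hom.app (op W) (e J ψ W - n i₀ • t) = 0 := by
    rw [map_sub, map_zsmul, ht, q_e J φ ψ hψ U n hφ i₀ h₀, sub_self]
  obtain ⟨b', hb'⟩ := ses_exact hS W _ hqd
  obtain ⟨b'', hb''⟩ := (hK (n i₀) (hn i₀) W).2 b'
  have hb''' : n i₀ • b'' = b' := hb''
  have hns : n i₀ • (t + i.hom.app (op W) b'') = e J ψ W := by
    rw [smul_add, ← map_zsmul, hb''', hb']
    abel
  refine ⟨t + i.hom.app (op W) b'', ?_, fun W' g' j h => ?_⟩
  · rw [map_add, ht, q_i J (w := w), add_zero]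
  · have h1 : n i₀ • E.obj.map g'.op (t + i.hom.app (op W) b'') = e J ψ W' := by
      rw [← map_zsmul, hns, e_map]
    by_cases hij : n j = n i₀
    · rw [hij]
      exact h1
    · have h2 := q_e J φ ψ hψ U n hφ i₀ (g' ≫ h₀)
      have h3 := q_e J φ ψ hψ U n hφ j h
      have h4 : (n j - n i₀) • one J W' = 0 := by
        rw [sub_smul, ← h2, ← h3, sub_self]
      haveI := subsingleton_of_zsmul_one J (n j - n i₀) (sub_ne_zero.2 hij) W' h4 E
      exact Subsingleton.elim _ _

include hS hK hn hcov hψ hφ in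
theorem P_exists (V : C) : ∃ s, P J (q := q) ψ U n V s := by
  obtain ⟨R, hR, hRs⟩ := P_local J hS hK φ ψ hψ U n hn hφ hcov V
  choose s hs using hRs
  have huniq := @P_unique _ _ J K E i q w hS hK ψ ι U n hn hcov
  obtain ⟨t, ht⟩ := sheaf_glue E R hR s (fun W W' g hg k =>
    huniq (P_map q k (hs g hg)) (hs (k ≫ g) (R.downward_closed hg k)))
  refine ⟨t, ?_, fun W' g' j h => ?_⟩
  · refine sheaf_ext (Zc J) R hR _ _ (fun W g hg => ?_)
    rw [← q_map, ht g hg, (hs g hg).1, one_map]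
  · refine sheaf_ext E (R.pullback g') (J.pullback_stable g' hR) _ _ (fun W'' k hk => ?_)
    have h1 := ht (k ≫ g') hk
    have h2 := (hs (k ≫ g') hk).2 (𝟙 W'') j (k ≫ h)
    rw [e_map, map_zsmul, ← h2, ← h1]
    simp

include hS hK hn hcov hψ hφ in
/-- the extension splits. -/
theorem exists_section : ∃ σ : Zc J ⟶ E, σ ≫ q = 𝟙 _ := by
  have hex := P_exists J hS hK φ ψ hψ U n hn hφ hcov
  choose s hs using hex
  have huniq := @P_unique _ _ J K E i q w hS hK ψ ι U n hn hcov
  have hnat : ∀ {V W : C} (g : W ⟶ V), E.obj.map g.op (s V) = s W :=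
    fun g => huniq (P_map q g (hs _)) (hs _)
  let adj := sheafificationAdjunction J AddCommGrpCat.{u}
  let σ' : (Functor.const Cᵒᵖ).obj Z ⟶ E.obj :=
    { app := fun V => zmap (s V.unop)
      naturality := by
        intro V W g
        have := hnat g.unop
        change 𝟙 Z ≫ zmap (s W.unop) = zmap (s V.unop) ≫ E.obj.map g
        rw [Category.id_comp, zmap_comp]
        congr 1
        exact this.symm }
  let σ : (presheafToSheaf J AddCommGrpCat.{u}).obj ((Functor.const Cᵒᵖ).obj Z) ⟶ E :=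
    (adj.homEquiv _ E).symm σ'
  let q' : E ⟶ (presheafToSheaf J AddCommGrpCat.{u}).obj ((Functor.const Cᵒᵖ).obj Z) := q
  have key : σ ≫ q' = 𝟙 _ := by
    apply (adj.homEquiv _ _).injective
    rw [Adjunction.homEquiv_naturality_right, Equiv.apply_symm_apply]
    have h1 : adj.homEquiv _ _ (𝟙 ((presheafToSheaf J AddCommGrpCat.{u}).obj
        ((Functor.const Cᵒᵖ).obj Z))) = η J := by
      rw [Adjunction.homEquiv_unit, CategoryTheory.Functor.map_id]
      exact Category.comp_id _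
    rw [h1]
    ext V : 2
    change zmap (s V.unop) ≫ q.hom.app V = (η J).app V
    rw [zmap_comp, (hs V.unop).1, one, zmap_one]
  exact ⟨σ, key⟩

end core

section extLevel

open Abelian

variable (J)

instance (W : C) : ((sheafSections J AddCommGrpCat.{u}).obj (op W)).Additive :=
  inferInstanceAs (sheafToPresheaf J AddCommGrpCat.{u} ⋙
    (evaluation Cᵒᵖ AddCommGrpCat.{u}).obj (op W)).Additive

theorem constSheaf_zsmul_bijective (B : Type u) [AddCommGroup B] (m : ℤ)
    (hB : Function.Bijective (fun b : B => m • b)) (W : C) :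
    Function.Bijective (fun x : ((constantSheaf J AddCommGrpCat.{u}).obj
      (AddCommGrpCat.of B)).obj.obj (op W) => m • x) := by
  let μ : AddCommGrpCat.of B ⟶ AddCommGrpCat.of B := m • 𝟙 _
  have hμ : IsIso μ := by
    rw [ConcreteCategory.isIso_iff_bijective]
    convert hB using 2 with b
    simp [μ]
  have h2 : (constantSheaf J AddCommGrpCat.{u}).map μ = m • 𝟙 _ := by
    rw [Functor.map_zsmul, CategoryTheory.Functor.map_id]
  have h3 : IsIso (((sheafSections J AddCommGrpCat.{u}).obj (op W)).map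
      ((constantSheaf J AddCommGrpCat.{u}).map μ)) := inferInstance
  have h4 := ConcreteCategory.bijective_of_isIso
    (((sheafSections J AddCommGrpCat.{u}).obj (op W)).map
      ((constantSheaf J AddCommGrpCat.{u}).map μ))
  have h5 : ∀ x : ((constantSheaf J AddCommGrpCat.{u}).obj (AddCommGrpCat.of B)).obj.obj (op W),
      (((sheafSections J AddCommGrpCat.{u}).obj (op W)).map
        ((constantSheaf J AddCommGrpCat.{u}).map μ)) x = m • x := by
    intro x
    rw [h2, Functor.map_zsmul, CategoryTheory.Functor.map_id]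
    simp
  refine ⟨fun x y hxy => h4.1 ?_, fun y => ?_⟩
  · rw [h5, h5]
    exact hxy
  · obtain ⟨x, hx⟩ := h4.2 y
    exact ⟨x, (h5 x).symm.trans hx⟩

variable (φ : Zc J ⟶ Zc J)
  {ι : Type u} (U : ι → C) (n : ι → ℤ) (hn : ∀ i, n i ≠ 0)
  (hφ : ∀ (i : ι) (V : C) (_ : V ⟶ U i), φ.hom.app (op V) = n i • 𝟙 _)
  (hcov : ∀ V : C, ∃ R ∈ J V, ∀ ⦃W : C⦄ (g : W ⟶ V), R g → ∃ i, Nonempty (W ⟶ U i))

include hn hφ hcov in
/-- uniquely divisible coefficients: `φ` acts injectively on `H¹`. -/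
theorem ext_eq_zero_of_divisible (B : Type u) [AddCommGroup B]
    (hB : ∀ m : ℤ, m ≠ 0 → Function.Bijective (fun b : B => m • b))
    (y : Ext (Zc J) ((constantSheaf J AddCommGrpCat.{u}).obj (AddCommGrpCat.of B)) 1)
    (hy : (Ext.mk₀ φ).comp y (zero_add 1) = 0) : y = 0 := by
  obtain ⟨X, i, q, w, hS, rfl⟩ := Groth.Agent.ExtReal31.exists_shortExact_extClass_eq y
  obtain ⟨x₂, hx₂⟩ := Ext.covariant_sequence_exact₃ _ hS (Ext.mk₀ φ) (zero_add 1) hy
  obtain ⟨ψ, rfl⟩ := (Ext.mk₀_bijective _ _).2 x₂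
  have hψ : ψ ≫ q = φ := by
    apply (Ext.mk₀_bijective _ _).1
    rw [← hx₂, Ext.mk₀_comp_mk₀]
  obtain ⟨σ, hσ⟩ := exists_section J hS
    (fun m hm W => constSheaf_zsmul_bijective J B m (hB m hm) W) φ ψ hψ U n hn hφ hcov
  have h1 : hS.extClass = (Ext.mk₀ (σ ≫ q)).comp hS.extClass (zero_add 1) := by
    rw [hσ, Ext.mk₀_id_comp]
  rw [h1, ← Ext.mk₀_comp_mk₀, Ext.comp_assoc_of_second_deg_zero, hS.comp_extClass,
    Ext.comp_zero]

end extLevel

section hull

theorem aux {R : Type} [CommRing R] (S : Submonoid R) (M : Type u) [AddCommGroup M] [Module R M] :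
    (∀ n : ℤ, (n : R) ∈ S → Function.Bijective (fun b : LocalizedModule S M => n • b)) ∧
      (∀ a : M, LocalizedModule.mkLinearMap S M a = 0 → ∃ s : S, s • a = 0) := by
  refine ⟨fun n hn => ?_, fun a ha => ?_⟩
  · have h1 := IsLocalizedModule.map_units (LocalizedModule.mkLinearMap S M) ⟨(n : R), hn⟩
    have h2 := (Module.End.isUnit_iff _).1 h1
    convert h2 using 2 with b
    exact (Int.cast_smul_eq_zsmul R n b).symm
  · exact (IsLocalizedModule.eq_zero_iff S (LocalizedModule.mkLinearMap S M)).1 ha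

theorem exists_divisible_hull (A : Type u) [AddCommGroup A]
    (hA : ∀ (m : ℤ) (a : A), m ≠ 0 → m • a = 0 → a = 0) :
    ∃ (B : Type u) (_ : AddCommGroup B) (f : A →+ B), Function.Injective f ∧
      ∀ m : ℤ, m ≠ 0 → Function.Bijective (fun b : B => m • b) := by
  obtain ⟨h1, h2⟩ := aux (nonZeroDivisors ℤ) A
  refine ⟨LocalizedModule (nonZeroDivisors ℤ) A, inferInstance,
    (LocalizedModule.mkLinearMap (nonZeroDivisors ℤ) A).toAddMonoidHom, ?_, fun m hm => ?_⟩
  · rw [injective_iff_map_eq_zero]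
    intro a ha
    obtain ⟨s, hs⟩ := h2 a ha
    exact hA s a (nonZeroDivisors.ne_zero s.2) hs
  · exact h1 m (by simpa using mem_nonZeroDivisors_of_ne_zero hm)

end hull

end Groth.Agent.Lib.ConstH1Tors9
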