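import Mathlib.CategoryTheory.Sites.ConstantSheaf
import Mathlib.CategoryTheory.Sites.Over
import Mathlib.CategoryTheory.Sites.CoverLifting
import Mathlib.CategoryTheory.Sites.LeftExact
import Mathlib.CategoryTheory.Sites.Limits
import Mathlib.CategoryTheory.Limits.FunctorCategory.Basic

/-!
# Constant sheaves restricted to over-sites (helper22)

For a site `(C, J)`, `W : C` and a coefficient category `A`:

* `constOverIso J A W M : ((constantSheaf J A).obj M).over W ≅ (constantSheaf (J.over W) A).obj M`;
* `overPullback_map_eq`: two morphisms `(constantSheaf J A).obj M ⟶ H` have the same restriction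
  to `J.over W` as soon as they agree on constant sections over objects over `W`;
* `constantSheaf J A` preserves finite limits; `J.overPullback A W` preserves colimits.
-/

set_option autoImplicit false
universe w v u
open CategoryTheory CategoryTheory.Limits Opposite

namespace Groth.Agent.Lib.ConstOver22

variable {C : Type u} [Category.{v} C] (J : GrothendieckTopology C)
  (A : Type*) [Category A] (W : C)
  [HasWeakSheafify J A] [HasWeakSheafify (J.over W) A]
  [∀ (F : (Over W)ᵒᵖ ⥤ A), (Over.forget W).op.HasPointwiseRightKanExtension F]

/-- the constant presheaf -/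
abbrev cPre (M : A) : Cᵒᵖ ⥤ A := (Functor.const _).obj M

/-- restriction of the constant presheaf is the constant presheaf -/
def cPreOverIso (M : A) : (Over.forget W).op ⋙ cPre (C := C) A M ≅ cPre (C := Over W) A M :=
  NatIso.ofComponents (fun _ => Iso.refl _) (fun f => by simp)

/-- sheafification commutes with restriction to the over-site (for the constant presheaf) -/
noncomputable def aIso (M : A) :
    (presheafToSheaf (J.over W) A).obj ((Over.forget W).op ⋙ cPre (C := C) A M) ≅
      ((constantSheaf J A).obj M).over W :=
  ((Over.forget W).pushforwardContinuousSheafificationCompatibility A (J.over W) J).app (cPre A M)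

theorem toSheafify_aIso (M : A) :
    toSheafify (J.over W) ((Over.forget W).op ⋙ cPre (C := C) A M) ≫ (aIso J A W M).hom.hom =
      Functor.whiskerLeft (Over.forget W).op (toSheafify J (cPre A M)) :=
  (Over.forget W).toSheafify_pullbackSheafificationCompatibility A (J.over W) J (cPre A M)

/-- the restriction of a constant sheaf to an over-site is the constant sheaf -/
noncomputable def constOverIso (M : A) :
    ((constantSheaf J A).obj M).over W ≅ (constantSheaf (J.over W) A).obj M :=
  (aIso J A W M).symm ≪≫ (presheafToSheaf (J.over W) A).mapIso (cPreOverIso A W M)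

variable {J A W}

/-- two morphisms out of a constant sheaf agree over `W` as soon as they agree on the constant
sections over objects over `W` -/
theorem overPullback_map_eq {M : A} {H : Sheaf J A} (θ₁ θ₂ : (constantSheaf J A).obj M ⟶ H)
    (h : Functor.whiskerLeft (Over.forget W).op (toSheafify J (cPre A M) ≫ θ₁.hom) =
      Functor.whiskerLeft (Over.forget W).op (toSheafify J (cPre A M) ≫ θ₂.hom)) :
    (J.overPullback A W).map θ₁ = (J.overPullback A W).map θ₂ := by
  rw [← cancel_epi (aIso J A W M).hom]
  apply Sheaf.hom_ext
  apply sheafify_hom_ext _ _ _ (H.over W).property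
  have e1 : ∀ θ : (constantSheaf J A).obj M ⟶ H,
      toSheafify (J.over W) ((Over.forget W).op ⋙ cPre (C := C) A M) ≫
        ((aIso J A W M).hom ≫ (J.overPullback A W).map θ).hom =
      Functor.whiskerLeft (Over.forget W).op (toSheafify J (cPre A M) ≫ θ.hom) := by
    intro θ
    have := toSheafify_aIso J A W M
    exact ((Category.assoc _ _ _).symm.trans
      (congrArg (fun t => t ≫ ((J.overPullback A W).map θ).hom) this)).trans
      (Functor.whiskerLeft_comp _ _ _).symm
  exact (e1 θ₁).trans (h.trans (e1 θ₂).symm)

end Groth.Agent.Lib.ConstOver22

namespace Groth.Agent.Lib.ConstOver22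

section exact

variable {C : Type u} [Category.{v} C] (J : GrothendieckTopology C)
  (A : Type*) [Category A] (W : C)

instance preservesFiniteLimits_constantSheaf [HasSheafify J A] [HasFiniteLimits A] :
    PreservesFiniteLimits (constantSheaf J A) :=
  comp_preservesFiniteLimits (Functor.const Cᵒᵖ) (presheafToSheaf J A)

variable [HasWeakSheafify J A] [HasWeakSheafify (J.over W) A]
  [∀ (F : (Over W)ᵒᵖ ⥤ A), (Over.forget W).op.HasPointwiseRightKanExtension F]

instance preservesColimits_overPullback {K : Type*} [Category K] :
    PreservesColimitsOfShape K (J.overPullback A W) :=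
  ((Over.forget W).sheafAdjunctionCocontinuous A (J.over W) J).leftAdjoint_preservesColimits.preservesColimitsOfShape

instance preservesFiniteColimits_overPullback : PreservesFiniteColimits (J.overPullback A W) :=
  ⟨fun _ _ _ => inferInstance⟩

end exact

end Groth.Agent.Lib.ConstOver22

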