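import Mathlib
import Groth.Prelude.Def_TwC

/-!
# Points of constant schemes `TwC.const S M` (helper18)

`M : Type u`. For `d : T ⟶ TwC.const S M` in `Over S` and `t : T.left`:

* `idx d t : M` the index of the copy of `S` containing `d t`;
* `idx_comp`, `idx_toUnit_pt`;
* `eq_of_idx_eq` : if `idx d t = m` for all `t`, then `d = toUnit T ≫ TwC.pt S M m`;
* `exists_eq_pt_of_subsingleton` : a point from a one-point scheme is constant;
* `isOpen_idx_eq`, `exists_finset_idx_mem` : on a compact `T.left`, `idx d` takes finitely many values.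
-/

set_option autoImplicit false
universe u
open CategoryTheory CategoryTheory.Limits MonoidalCategory CartesianMonoidalCategory AlgebraicGeometry

namespace Groth.Agent.Lib.ConstPts18

variable {S : Scheme.{u}} {M : Type u}

/-- index of a point of the coproduct -/
noncomputable def idxTop (y : ↥(∐ fun _ : M => S)) : M := ((sigmaMk (fun _ : M => S)).symm y).1

lemma idxTop_ι (m : M) (x : S) : idxTop (Sigma.ι (fun _ : M => S) m x) = m := by
  unfold idxTop
  rw [← sigmaMk_mk, Homeomorph.symm_apply_apply]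

lemma exists_eq_ι (y : ↥(∐ fun _ : M => S)) :
    ∃ x : S, y = Sigma.ι (fun _ : M => S) (idxTop y) x := by
  refine ⟨((sigmaMk (fun _ : M => S)).symm y).2, ?_⟩
  rw [← sigmaMk_mk]
  exact ((sigmaMk (fun _ : M => S)).apply_symm_apply y).symm

lemma idxTop_eq_iff (y : ↥(∐ fun _ : M => S)) (m : M) :
    idxTop y = m ↔ y ∈ Set.range (Sigma.ι (fun _ : M => S) m) := by
  constructor
  · rintro rfl
    obtain ⟨x, hx⟩ := exists_eq_ι y
    exact ⟨x, hx.symm⟩
  · rintro ⟨x, rfl⟩
    exact idxTop_ι m x

/-- index of a point of `T` under `d : T ⟶ const S M` -/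
noncomputable def idx {T : Over S} (d : T ⟶ TwC.const S M) (t : T.left) : M := idxTop (d.left t)

lemma idx_comp {T' T : Over S} (a : T' ⟶ T) (d : T ⟶ TwC.const S M) (t' : T'.left) :
    idx (a ≫ d) t' = idx d (a.left t') := by
  unfold idx
  rw [Over.comp_left, Scheme.Hom.comp_apply]

lemma idx_toUnit_pt {T : Over S} (m : M) (t : T.left) :
    idx (toUnit T ≫ TwC.pt S M m) t = m := by
  unfold idx
  rw [Over.comp_left, Scheme.Hom.comp_apply]
  exact idxTop_ι m _

lemma isOpen_idx_eq {T : Over S} (d : T ⟶ TwC.const S M) (m : M) :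
    IsOpen {t : T.left | idx d t = m} := by
  have : {t : T.left | idx d t = m} =
      d.left ⁻¹' (Set.range (Sigma.ι (fun _ : M => S) m)) := by
    ext t
    exact idxTop_eq_iff _ _
  rw [this]
  exact (Sigma.ι (fun _ : M => S) m).isOpenEmbedding.isOpen_range.preimage d.left.continuous

lemma eq_of_idx_eq {T : Over S} (d : T ⟶ TwC.const S M) (m : M) (h : ∀ t, idx d t = m) :
    d = toUnit T ≫ TwC.pt S M m := by
  have hr : Set.range d.left ⊆ Set.range (Sigma.ι (fun _ : M => S) m) := by
    rintro _ ⟨t, rfl⟩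
    exact (idxTop_eq_iff _ _).1 (h t)
  obtain ⟨l, hl⟩ : ∃ l : T.left ⟶ S, l ≫ Sigma.ι (fun _ : M => S) m = d.left :=
    ⟨IsOpenImmersion.lift (Sigma.ι (fun _ : M => S) m) d.left hr,
      IsOpenImmersion.lift_fac _ _ _⟩
  have hw : d.left ≫ (Sigma.desc fun _ : M => 𝟙 S) = T.hom := Over.w d
  have hl2 : l = T.hom := by
    rw [← hw, ← hl, Category.assoc, Sigma.ι_desc, Category.comp_id]
  ext1
  rw [Over.comp_left, ← hl, hl2]
  have h1 : (toUnit T).left = T.hom := by simp
  rw [h1]
  rfl

lemma exists_eq_pt_of_subsingleton {T : Over S} [Subsingleton T.left]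
    (d : T ⟶ TwC.const S M) (t₀ : T.left) : d = toUnit T ≫ TwC.pt S M (idx d t₀) :=
  eq_of_idx_eq d _ fun t => by rw [Subsingleton.elim t t₀]

lemma exists_finset_idx_mem {T : Over S} [CompactSpace T.left] (d : T ⟶ TwC.const S M) :
    ∃ C : Finset M, ∀ t : T.left, idx d t ∈ C := by
  obtain ⟨C, hC⟩ := isCompact_univ.elim_finite_subcover (fun m : M => {t : T.left | idx d t = m})
    (fun m => isOpen_idx_eq d m) (fun t _ => Set.mem_iUnion.2 ⟨idx d t, rfl⟩)
  refine ⟨C, fun t => ?_⟩
  have := hC (Set.mem_univ t)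
  simp only [Set.mem_iUnion, exists_prop] at this
  obtain ⟨m, hm, hmt⟩ := this
  have hmt' : idx d t = m := hmt
  rw [hmt']
  exact hm

end Groth.Agent.Lib.ConstPts18
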