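import Mathlib
import Groth.Prelude.Def_TwC

/-!
# Points of constant schemes `TwC.const S M`, any universe for `M` (helper18)

Universe-general version of `Lib/ConstPts18` (`M : Type v` with `[Small.{u} M]`), plus constructors.
For `d : T ⟶ TwC.const S M` in `Over S` and `t : T.left`:

* `idx d t : M`, `idx_comp`, `idx_toUnit_pt`, `isOpen_idx_eq`, `eq_of_idx_eq`;
* `resOver T U`, `resMap T U`, `hom_ext_of_cover`;
* `mk T U hdisj hcov : T ⟶ TwC.const S M` for a pairwise disjoint open cover `U : M → T.left.Opens`,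
  with `resMap_mk : resMap T (U m) ≫ mk T U hdisj hcov = toUnit _ ≫ TwC.pt S M m`;
* `ext_of_idx`, `const_hom_ext`, `hom_ext_of_isEmpty`.
-/

set_option autoImplicit false
set_option maxHeartbeats 400000
universe v u
open CategoryTheory CategoryTheory.Limits MonoidalCategory CartesianMonoidalCategory AlgebraicGeometry
  TopologicalSpace

namespace Groth.Agent.Lib.ConstPtsV18

variable {S : Scheme.{u}} {M : Type v} [Small.{u} M]

lemma exists_idx (y : ↥(∐ fun _ : M => S)) :
    ∃ m : M, y ∈ Set.range (Sigma.ι (fun _ : M => S) m) := by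
  obtain ⟨m, x, hx⟩ := (sigmaOpenCover (fun _ : M => S)).exists_eq y
  exact ⟨m, x, hx⟩

/-- index of a point of the coproduct -/
noncomputable def idxTop (y : ↥(∐ fun _ : M => S)) : M := (exists_idx y).choose

lemma idxTop_eq_iff (y : ↥(∐ fun _ : M => S)) (m : M) :
    idxTop y = m ↔ y ∈ Set.range (Sigma.ι (fun _ : M => S) m) := by
  have hspec := (exists_idx y).choose_spec
  constructor
  · rintro rfl
    exact hspec
  · rintro ⟨x, rfl⟩
    obtain ⟨x', hx'⟩ := hspec
    have := (sigmaι_eq_iff (fun _ : M => S) _ _ _ _).mp hx'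
    exact (congrArg Sigma.fst this)

lemma idxTop_ι (m : M) (x : S) : idxTop (Sigma.ι (fun _ : M => S) m x) = m :=
  (idxTop_eq_iff _ _).mpr ⟨x, rfl⟩

/-- index of a point of `T` under `d : T ⟶ const S M` -/
noncomputable def idx {T : Over S} (d : T ⟶ TwC.const S M) (t : T.left) : M := idxTop (d.left t)

lemma idx_comp {T' T : Over S} (a : T' ⟶ T) (d : T ⟶ TwC.const S M) (t' : T'.left) :
    idx (a ≫ d) t' = idx d (a.left t') := by
  unfold idx
  rw [Over.comp_left, Scheme.Hom.comp_apply]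

lemma idx_toUnit_pt {T : Over S} (m : M) (t : T.left) :
    idx (toUnit T ≫ TwC.pt S M m) t = m := by
  unfold idx
  rw [Over.comp_left, Scheme.Hom.comp_apply]
  exact idxTop_ι m _

lemma isOpen_idx_eq {T : Over S} (d : T ⟶ TwC.const S M) (m : M) :
    IsOpen {t : T.left | idx d t = m} := by
  have : {t : T.left | idx d t = m} =
      d.left ⁻¹' (Set.range (Sigma.ι (fun _ : M => S) m)) := by
    ext t
    exact idxTop_eq_iff _ _
  rw [this]
  exact (Sigma.ι (fun _ : M => S) m).isOpenEmbedding.isOpen_range.preimage d.left.continuous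

lemma eq_of_idx_eq {T : Over S} (d : T ⟶ TwC.const S M) (m : M) (h : ∀ t, idx d t = m) :
    d = toUnit T ≫ TwC.pt S M m := by
  have hr : Set.range d.left ⊆ Set.range (Sigma.ι (fun _ : M => S) m) := by
    rintro _ ⟨t, rfl⟩
    exact (idxTop_eq_iff _ _).1 (h t)
  obtain ⟨l, hl⟩ : ∃ l : T.left ⟶ S, l ≫ Sigma.ι (fun _ : M => S) m = d.left :=
    ⟨IsOpenImmersion.lift (Sigma.ι (fun _ : M => S) m) d.left hr,
      IsOpenImmersion.lift_fac _ _ _⟩
  have hw : d.left ≫ (Sigma.desc fun _ : M => 𝟙 S) = T.hom := Over.w d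
  have hl2 : l = T.hom := by
    rw [← hw, ← hl, Category.assoc, Sigma.ι_desc, Category.comp_id]
  ext1
  rw [Over.comp_left, ← hl, hl2]
  have h1 : (toUnit T).left = T.hom := by simp
  rw [h1]
  rfl

/-- an open subscheme of `T`, over `S` -/
noncomputable abbrev resOver (T : Over S) (U : T.left.Opens) : Over S := Over.mk (U.ι ≫ T.hom)

/-- the inclusion of an open subscheme, over `S` -/
noncomputable abbrev resMap (T : Over S) (U : T.left.Opens) : resOver T U ⟶ T := Over.homMk U.ι rfl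

lemma hom_ext_of_cover {T Y : Over S} {ι : Type*} (U : ι → T.left.Opens) (hU : IsOpenCover U)
    (f g : T ⟶ Y) (h : ∀ j, resMap T (U j) ≫ f = resMap T (U j) ≫ g) : f = g := by
  ext1
  refine Scheme.Cover.hom_ext (T.left.openCoverOfIsOpenCover U hU) _ _ fun j => ?_
  exact congrArg (fun k => k.left) (h j)

section Mk

variable (T : Over S) (U : M → T.left.Opens)

lemma glue_compat (hdisj : ∀ m m', m ≠ m' → U m ⊓ U m' = ⊥) (m m' : M) :
    pullback.fst (U m).ι (U m').ι ≫ ((U m).ι ≫ T.hom ≫ Sigma.ι (fun _ : M => S) m) =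
      pullback.snd (U m).ι (U m').ι ≫ ((U m').ι ≫ T.hom ≫ Sigma.ι (fun _ : M => S) m') := by
  by_cases h : m = m'
  · subst h
    have : pullback.fst (U m).ι (U m).ι = pullback.snd (U m).ι (U m).ι := by
      rw [← cancel_mono (U m).ι]
      exact pullback.condition
    rw [this]
  · have hempty : IsEmpty ↥(pullback (U m).ι (U m').ι) := by
      refine ⟨fun z => ?_⟩
      have h1 : (pullback.fst (U m).ι (U m').ι ≫ (U m).ι) z ∈ U m := by
        rw [Scheme.Hom.comp_apply]
        exact ((pullback.fst (U m).ι (U m').ι) z).2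
      have h2 : (pullback.fst (U m).ι (U m').ι ≫ (U m).ι) z ∈ U m' := by
        rw [pullback.condition, Scheme.Hom.comp_apply]
        exact ((pullback.snd (U m).ι (U m').ι) z).2
      have h3 : (pullback.fst (U m).ι (U m').ι ≫ (U m).ι) z ∈ U m ⊓ U m' := ⟨h1, h2⟩
      rw [hdisj m m' h] at h3
      exact h3
    exact (isInitialOfIsEmpty (X := pullback (U m).ι (U m').ι)).hom_ext _ _

/-- the glued morphism to the coproduct -/
noncomputable def mkLeft (hdisj : ∀ m m', m ≠ m' → U m ⊓ U m' = ⊥) (hcov : IsOpenCover U) :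
    T.left ⟶ ∐ fun _ : M => S :=
  (T.left.openCoverOfIsOpenCover U hcov).glueMorphisms
    (fun m => (U m).ι ≫ T.hom ≫ Sigma.ι (fun _ : M => S) m) (glue_compat T U hdisj)

lemma ι_mkLeft (hdisj : ∀ m m', m ≠ m' → U m ⊓ U m' = ⊥) (hcov : IsOpenCover U) (m : M) :
    (U m).ι ≫ mkLeft T U hdisj hcov = (U m).ι ≫ T.hom ≫ Sigma.ι (fun _ : M => S) m :=
  (T.left.openCoverOfIsOpenCover U hcov).ι_glueMorphisms _ _ m

/-- the point of the constant scheme attached to a disjoint open cover -/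
noncomputable def mk (hdisj : ∀ m m', m ≠ m' → U m ⊓ U m' = ⊥) (hcov : IsOpenCover U) :
    T ⟶ TwC.const S M :=
  Over.homMk (mkLeft T U hdisj hcov) (by
    refine Scheme.Cover.hom_ext (T.left.openCoverOfIsOpenCover U hcov) _ _ fun (m : M) => ?_
    change (U m).ι ≫ mkLeft T U hdisj hcov ≫ (Sigma.desc fun _ : M => 𝟙 S) = (U m).ι ≫ T.hom
    rw [← Category.assoc, ι_mkLeft]
    simp)

lemma resMap_mk (hdisj : ∀ m m', m ≠ m' → U m ⊓ U m' = ⊥) (hcov : IsOpenCover U) (m : M) :
    resMap T (U m) ≫ mk T U hdisj hcov = toUnit (resOver T (U m)) ≫ TwC.pt S M m := by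
  ext1
  change (U m).ι ≫ mkLeft T U hdisj hcov = (toUnit (resOver T (U m))).left ≫ (TwC.pt S M m).left
  rw [ι_mkLeft]
  simp [TwC.pt]

end Mk

lemma const_hom_ext {Y : Over S} (f g : TwC.const S M ⟶ Y)
    (h : ∀ m, TwC.pt S M m ≫ f = TwC.pt S M m ≫ g) : f = g := by
  ext1
  apply Sigma.hom_ext
  intro m
  exact congrArg (fun k => k.left) (h m)

lemma hom_ext_of_isEmpty {T Y : Over S} [IsEmpty T.left] (f g : T ⟶ Y) : f = g := by
  ext1
  exact (isInitialOfIsEmpty (X := T.left)).hom_ext _ _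

lemma ext_of_idx {T : Over S} (d₁ d₂ : T ⟶ TwC.const S M) (h : ∀ t, idx d₁ t = idx d₂ t) :
    d₁ = d₂ := by
  let V : M → T.left.Opens := fun m => ⟨{t | idx d₁ t = m}, isOpen_idx_eq d₁ m⟩
  have hV : IsOpenCover V := by
    apply IsOpenCover.mk
    rw [eq_top_iff]
    intro t _
    exact TopologicalSpace.Opens.mem_iSup.mpr ⟨idx d₁ t, rfl⟩
  refine hom_ext_of_cover V hV d₁ d₂ fun m => ?_
  have h1 : resMap T (V m) ≫ d₁ = toUnit _ ≫ TwC.pt S M m := by
    apply eq_of_idx_eq
    intro t'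
    rw [idx_comp]
    exact t'.2
  have h2 : resMap T (V m) ≫ d₂ = toUnit _ ≫ TwC.pt S M m := by
    apply eq_of_idx_eq
    intro t'
    rw [idx_comp, ← h]
    exact t'.2
  rw [h1, h2]

end Groth.Agent.Lib.ConstPtsV18
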