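import Mathlib.CategoryTheory.Sites.ConstantSheaf
import Mathlib.CategoryTheory.Sites.CoverLifting
import Mathlib.CategoryTheory.Sites.LeftExact
import Mathlib.CategoryTheory.Sites.Limits
import Mathlib.CategoryTheory.Limits.FunctorCategory.Basic

/-!
# Restriction of constant sheaves along continuous and cocontinuous functors (helper22)

For sites `(C, J)`, `(D, K)` and `G : C ⥤ D` continuous and cocontinuous:

* `constRestrIso G J K A M : G⁎ (constantSheaf K A).obj M ≅ (constantSheaf J A).obj M` where
  `G⁎ = G.sheafPushforwardContinuous A J K` is the restriction along `G`;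
* `toSheafify_constRestrIso_inv`: on constant sections, the inverse of this isomorphism is the
  identity, i.e. `toSheafify J (const M) ≫ inv = whiskerLeft G.op (toSheafify K (const M))`
  (up to the identification of constant presheaves).
-/

set_option autoImplicit false
universe w v u
open CategoryTheory CategoryTheory.Limits Opposite

namespace Groth.Agent.Lib.ConstRestr22

variable {C : Type*} [Category C] {D : Type*} [Category D] (G : C ⥤ D)
  (J : GrothendieckTopology C) (K : GrothendieckTopology D)
  (A : Type*) [Category A]
  [G.IsContinuous J K] [G.IsCocontinuous J K]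
  [HasWeakSheafify J A] [HasWeakSheafify K A]
  [∀ (F : Cᵒᵖ ⥤ A), G.op.HasPointwiseRightKanExtension F]

/-- the constant presheaf -/
abbrev cPre (E : Type*) [Category E] (M : A) : Eᵒᵖ ⥤ A := (Functor.const _).obj M

/-- restriction of the constant presheaf is the constant presheaf -/
def cPreRestrIso (M : A) : G.op ⋙ cPre A D M ≅ cPre A C M :=
  NatIso.ofComponents (fun _ => Iso.refl _) (fun f => by simp)

/-- sheafification commutes with restriction (for the constant presheaf) -/
noncomputable def aIso (M : A) :
    (presheafToSheaf J A).obj (G.op ⋙ cPre A D M) ≅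
      (G.sheafPushforwardContinuous A J K).obj ((constantSheaf K A).obj M) :=
  (G.pushforwardContinuousSheafificationCompatibility A J K).app (cPre A D M)

theorem toSheafify_aIso (M : A) :
    toSheafify J (G.op ⋙ cPre A D M) ≫ (aIso G J K A M).hom.hom =
      Functor.whiskerLeft G.op (toSheafify K (cPre A D M)) :=
  G.toSheafify_pullbackSheafificationCompatibility A J K (cPre A D M)

/-- the restriction of a constant sheaf is the constant sheaf -/
noncomputable def constRestrIso (M : A) :
    (G.sheafPushforwardContinuous A J K).obj ((constantSheaf K A).obj M) ≅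
      (constantSheaf J A).obj M :=
  (aIso G J K A M).symm ≪≫ (presheafToSheaf J A).mapIso (cPreRestrIso G A M)

/-- on constant sections, `constRestrIso` is the identity -/
theorem toSheafify_constRestrIso_inv (M : A) :
    toSheafify J (cPre A C M) ≫ (constRestrIso G J K A M).inv.hom =
      (cPreRestrIso G A M).inv ≫ Functor.whiskerLeft G.op (toSheafify K (cPre A D M)) := by
  have h1 : (constRestrIso G J K A M).inv.hom =
      ((presheafToSheaf J A).map (cPreRestrIso G A M).inv).hom ≫ (aIso G J K A M).hom.hom := rfl
  have h2 : toSheafify J (cPre A C M) ≫ ((presheafToSheaf J A).map (cPreRestrIso G A M).inv).hom =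
      (cPreRestrIso G A M).inv ≫ toSheafify J (G.op ⋙ cPre A D M) :=
    (toSheafify_naturality J (cPreRestrIso G A M).inv).symm
  rw [h1, ← Category.assoc, h2, Category.assoc, toSheafify_aIso]
  rfl

end Groth.Agent.Lib.ConstRestr22
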