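import Groth.Agent.Lib.EtSubLC22e

/-!
# Chains of subsheaves of a constructible abelian étale sheaf (helper22)

* `exists_stable_of_isLC`: an increasing chain of subsheaves of a finite locally constant sheaf on a
  nonempty scheme becomes stationary after pulling back to some nonempty étale `Z`;
* `exists_stable_nhds`: for a constructible sheaf on a locally Noetherian scheme, around each point
  `x` the chain becomes stationary along `V ∩ closure {x}`;
* `exists_stable`: on a Noetherian scheme the chain is stationary (ascending chain condition).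
-/

set_option autoImplicit false
set_option linter.style.haveILetI false
set_option linter.unusedSectionVars false
universe u

open CategoryTheory AlgebraicGeometry Limits MorphismProperty Opposite Topology

namespace Groth.Agent.Lib.EtSubLC22

open Groth.Agent.Lib.EtConst Groth.Agent.Lib.EtOverSite22 Groth.Agent.Lib.EtLocConst22
  Groth.Agent.Lib.EtLCKer22 Groth.Agent.Lib.EtExt22 Groth.Agent.Lib.EtConstPush
  Groth.Agent.Lib.EtConstr22

theorem exists_stable_of_isLC {T : Scheme.{u}} [Nonempty T] {F : EtCoh.Ab T}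
    (hF : IsLC Ab1.{u} PFin F) (G : ℕ → EtCoh.Ab T) (a : ∀ m, G m ⟶ F) [∀ m, Mono (a m)]
    (φ : ∀ m m', m ≤ m' → (G m ⟶ G m')) (hφ : ∀ m m' h, φ m m' h ≫ a m' = a m) :
    ∃ (Z : Scheme.{u}) (j : Z ⟶ T) (N : ℕ), Etale j ∧ Nonempty Z ∧
      ∀ m (h : N ≤ m), IsIso ((pullA Ab1.{u} j).map (φ N m h)) := by
  obtain ⟨κ, W, hW, h⟩ := exists_restr_iso_of_isLC hF
  obtain ⟨t⟩ := (inferInstance : Nonempty T)
  obtain ⟨i, y, hy⟩ := hW t
  obtain ⟨M, hM, ⟨α⟩⟩ := h i
  haveI := pFin_finite hM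
  let R := restrAlongA (W i) Ab1.{u}
  haveI : ∀ m, Mono (R.map (a m)) := fun m => by
    apply mono_of_app_injective
    intro V
    exact app_injective_of_mono (a m) _
  haveI : ∀ m, Mono (R.map (a m) ≫ α.hom) := fun m => mono_comp _ _
  haveI : Nonempty (W i).left := ⟨y⟩
  obtain ⟨V, N, hV, hiso⟩ := exists_stable_of_const (fun m => R.obj (G m))
    (fun m => R.map (a m) ≫ α.hom) (fun m m' h => R.map (φ m m' h)) (fun m m' h => by
      rw [← Category.assoc, ← Functor.map_comp, hφ])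
  let j : V.left ⟶ T := V.hom ≫ (W i).hom
  haveI : Etale j := by
    haveI : Etale V.hom := V.prop
    haveI : Etale (W i).hom := (W i).prop
    infer_instance
  refine ⟨V.left, j, N, inferInstance, hV, fun m h => ?_⟩
  let e : pullA Ab1.{u} j ≅ R ⋙ restrAlongA V Ab1.{u} :=
    pullCompA Ab1.{u} V.hom (W i).hom ≪≫
      Functor.isoWhiskerRight (pullIsoRestrA Ab1.{u} (W i)) (pullA Ab1.{u} V.hom) ≪≫
      Functor.isoWhiskerLeft R (pullIsoRestrA Ab1.{u} V)
  haveI : IsIso ((R ⋙ restrAlongA V Ab1.{u}).map (φ N m h)) := hiso m h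
  exact (NatIso.isIso_map_iff e (φ N m h)).2 inferInstance

theorem exists_stable_nhds {X : Scheme.{u}} [IsLocallyNoetherian X] {F : EtCoh.Ab X}
    (hF : EtPBC.IsConstructible F) (G : ℕ → EtCoh.Ab X) (a : ∀ m, G m ⟶ F) [∀ m, Mono (a m)]
    (φ : ∀ m m', m ≤ m' → (G m ⟶ G m')) (hφ : ∀ m m' h, φ m m' h ≫ a m' = a m) (x : X) :
    ∃ (O : X.Opens) (N : ℕ) (Z : Scheme.{u}) (j : Z ⟶ X), x ∈ O ∧
      (O : Set X) ∩ closure {x} ⊆ Set.range j ∧
      ∀ m (h : N ≤ m), IsIso ((pullA Ab1.{u} j).map (φ N m h)) := by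
  rw [isConstructible_iff, isConstructibleA_iff_closure_nhds] at hF
  obtain ⟨V, T, g, hg, hxV, hr, hLC⟩ := hF x
  haveI := hg
  have hxr : x ∈ Set.range g := by
    rw [hr]; exact ⟨hxV, subset_closure rfl⟩
  obtain ⟨t, ht⟩ := hxr
  haveI : Nonempty T := ⟨t⟩
  let p := pullA Ab1.{u} g
  haveI : ∀ m, Mono (p.map (a m)) := fun m => inferInstance
  obtain ⟨Z, j₀, N, hj₀, ⟨z⟩, hiso⟩ := exists_stable_of_isLC hLC (fun m => p.obj (G m))
    (fun m => p.map (a m)) (fun m m' h => p.map (φ m m' h)) (fun m m' h => by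
      rw [← Functor.map_comp, hφ])
  haveI := hj₀
  have hopen : IsOpen (Set.range j₀) := j₀.isOpenMap.isOpen_range
  obtain ⟨O, hO, hOU⟩ := g.isEmbedding.isInducing.isOpen_iff.1 hopen
  have hrange : Set.range (j₀ ≫ g) = (O ∩ V) ∩ closure {x} := by
    rw [Scheme.Hom.comp_base, TopCat.coe_comp, Set.range_comp, ← hOU,
      Set.image_preimage_eq_inter_range, hr, Set.inter_assoc]
  have hxO : x ∈ O := by
    have h1 : g (j₀ z) ∈ O := by
      have : j₀ z ∈ g ⁻¹' O := by rw [hOU]; exact ⟨z, rfl⟩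
      exact this
    have h2 : g (j₀ z) ∈ closure {x} := by
      have : g (j₀ z) ∈ Set.range g := ⟨_, rfl⟩
      rw [hr] at this
      exact this.2
    obtain ⟨w, hw1, hw2⟩ := mem_closure_iff.1 h2 O hO h1
    rw [Set.mem_singleton_iff.1 hw2] at hw1
    exact hw1
  refine ⟨⟨O, hO⟩ ⊓ V, N, Z, j₀ ≫ g, ⟨hxO, hxV⟩, ?_, fun m h => ?_⟩
  · rw [hrange]; exact subset_rfl
  · let e : pullA Ab1.{u} (j₀ ≫ g) ≅ p ⋙ pullA Ab1.{u} j₀ := pullCompA Ab1.{u} j₀ g
    haveI : IsIso ((p ⋙ pullA Ab1.{u} j₀).map (φ N m h)) := hiso m h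
    exact (NatIso.isIso_map_iff e (φ N m h)).2 inferInstance

/-- Ascending chain condition for subsheaves of a constructible abelian sheaf on a Noetherian
scheme. -/
theorem exists_stable {X : Scheme.{u}} [IsNoetherian X] {F : EtCoh.Ab X}
    (hF : EtPBC.IsConstructible F) (G : ℕ → EtCoh.Ab X) (a : ∀ m, G m ⟶ F) [∀ m, Mono (a m)]
    (φ : ∀ m m', m ≤ m' → (G m ⟶ G m')) (hφ : ∀ m m' h, φ m m' h ≫ a m' = a m) :
    ∃ N, ∀ m (h : N ≤ m), IsIso (φ N m h) := by
  classical
  have hcomp : ∀ m m' m'' (h : m ≤ m') (h' : m' ≤ m''),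
      φ m m' h ≫ φ m' m'' h' = φ m m'' (h.trans h') := by
    intro m m' m'' h h'
    rw [← cancel_mono (a m''), Category.assoc, hφ, hφ, hφ]
  choose O N Z j hxO hsub hiso using exists_stable_nhds hF G a φ hφ
  have hcons : ∀ x : X, IsConstructible ((O x : Set X) ∩ closure {x}) := fun x =>
    isConstructible_of_isLocallyClosed ((O x).2.isLocallyClosed.inter isClosed_closure.isLocallyClosed)
  obtain ⟨s, hs⟩ := Groth.Agent.Lib.ConsAtoms22.exists_finite_subcover_of_isConstructible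
    (fun x : X => (O x : Set X) ∩ closure {x}) hcons (fun x => ⟨x, hxO x, subset_closure rfl⟩)
  refine ⟨s.sup N, fun m h => ?_⟩
  apply isIso_of_isIso_pull
  intro y
  obtain ⟨x, hxs, hyx⟩ := hs y
  refine ⟨Z x, j x, hsub x hyx, ?_⟩
  have hN : N x ≤ s.sup N := Finset.le_sup hxs
  let p := pullA Ab1.{u} (j x)
  haveI h1 : IsIso (p.map (φ (N x) (s.sup N) hN)) := hiso x _ hN
  haveI h2 : IsIso (p.map (φ (N x) m (hN.trans h))) := hiso x _ (hN.trans h)
  have h3 : p.map (φ (N x) (s.sup N) hN) ≫ p.map (φ (s.sup N) m h) =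
      p.map (φ (N x) m (hN.trans h)) := by
    rw [← Functor.map_comp, hcomp]
  exact IsIso.of_isIso_fac_left h3

end Groth.Agent.Lib.EtSubLC22
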