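import Groth.Agent.Lib.ExtZeroConstr34
import Groth.Agent.Lib.EtSubLC22f
import Mathlib.CategoryTheory.Subobject.NoetherianObject

/-!
# Torsion Noetherian abelian etale sheaves are constructible (helper34)

* `secMap F U n s hs : j_{U!}(ℤ/n) ⟶ F` for an `n`-torsion section `s ∈ F(U)`, with `secMap_univ`;
* `exists_epi_of_isNoetherianObject`: a torsion Noetherian object of `Ab(X_et)` (`X` Noetherian) is
  a quotient of a constructible sheaf, hence constructible
  (`isConstructible_of_isNoetherianObject`);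
* `isNoetherianObject_of_isConstructible`.
-/

set_option autoImplicit false
universe u

open CategoryTheory CategoryTheory.Limits AlgebraicGeometry Opposite
open scoped ZeroObject

namespace Groth.Agent.Lib.TorsNoeth34

open Groth.Agent.Lib.ExtZeroMV34 Groth.Agent.Lib.ExtZeroConstr34 Groth.Agent.Lib.EtGerm
  Groth.Agent.Lib.EtConstr22 Groth.Agent.Lib.EtStalkPullGerm

variable {X : Scheme.{u}} (F : EtCoh.Ab X)

/-- the homomorphism `ℤ/n → F(U)`, `k ↦ k • s` for an `n`-torsion section `s` -/
noncomputable def secHom (U : X.Etale) (n : ℕ) (s : EtCoh.sect F U) (hs : n • s = 0) :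
    E.{u} (ZMod n) ⟶ F.obj.obj (op U) :=
  AddCommGrpCat.ofHom
    ((ZMod.lift n ⟨zmultiplesHom _ s, by simpa using hs⟩).comp
      (AddEquiv.ulift (α := ZMod n)).toAddMonoidHom)

lemma secHom_one (U : X.Etale) (n : ℕ) (s : EtCoh.sect F U) (hs : n • s = 0) :
    secHom F U n s hs (ULift.up 1) = s := by
  have hs' : (zmultiplesHom _ s) (n : ℤ) = 0 := by simpa using hs
  have h1 : secHom F U n s hs (ULift.up 1) = (ZMod.lift n ⟨zmultiplesHom _ s, hs'⟩) (1 : ZMod n) :=
    rfl
  rw [h1]
  have h2 := ZMod.lift_coe n ⟨zmultiplesHom _ s, hs'⟩ 1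
  simpa using h2

/-- the morphism `j_{U!}(ℤ/n) ⟶ F` attached to an `n`-torsion section -/
noncomputable def secMap (U : X.Etale) (n : ℕ) (s : EtCoh.sect F U) (hs : n • s = 0) :
    R (ZMod n) U ⟶ F :=
  (repEquiv (ZMod n) U F).symm (secHom F U n s hs)

lemma secMap_univ (U : X.Etale) (n : ℕ) (s : EtCoh.sect F U) (hs : n • s = 0) :
    (secMap F U n s hs).hom.app (op U) (univ (ZMod n) U (ULift.up 1)) = s := by
  have h := repEquiv_eq (ZMod n) U (secMap F U n s hs)
  rw [secMap, Equiv.apply_symm_apply] at h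
  have h2 := ConcreteCategory.congr_hom h (ULift.up 1)
  rw [secHom_one] at h2
  exact h2.symm

/-- a morphism killing `secMap` kills the section -/
lemma app_eq_zero_of_secMap_comp {Q : EtCoh.Ab X} (q : F ⟶ Q) (U : X.Etale) (n : ℕ)
    (s : EtCoh.sect F U) (hs : n • s = 0) (h : secMap F U n s hs ≫ q = 0) :
    q.hom.app (op U) s = 0 := by
  rw [← secMap_univ F U n s hs]
  have h2 : (secMap F U n s hs ≫ q).hom.app (op U) (univ (ZMod n) U (ULift.up 1)) = 0 := by
    rw [h]; rfl
  exact h2

open Groth.Agent.Lib.EtOverSite22 Groth.Agent.Lib.EtLocConst22 in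
/-- zero sheaves are constructible -/
theorem isConstructible_of_isZero {Z : EtCoh.Ab X} (hZ : IsZero Z) : EtPBC.IsConstructible Z := by
  rw [isConstructible_iff]
  apply Groth.Agent.Lib.EtFinEtPush22.IsConstructibleA.of_forall_isLC
  intro T g
  apply Groth.Agent.Lib.EtFinEtPush22.isLC_of_isZero
  let p := pullA AddCommGrpCat.{u + 1} g
  haveI : p.Additive := Functor.additive_of_preserves_binary_products _
  exact p.map_isZero hZ

/-- binary biproducts of constructible sheaves are constructible -/
theorem isConstructible_biprod {A B : EtCoh.Ab X} (hA : EtPBC.IsConstructible A)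
    (hB : EtPBC.IsConstructible B) : EtPBC.IsConstructible (A ⊞ B) := by
  rw [isConstructible_iff] at hA hB ⊢
  exact Groth.Agent.Lib.EtFinEtPush22.isConstructibleA_biprod hA hB

/-- A torsion Noetherian object of the category of abelian etale sheaves on a Noetherian scheme is
a quotient of a constructible sheaf. -/
theorem exists_epi_of_isNoetherianObject [IsNoetherian X] (hF : EtCoh.IsTorsion F)
    [IsNoetherianObject F] :
    ∃ (C : EtCoh.Ab X) (ψ : C ⟶ F), EtPBC.IsConstructible C ∧ Epi ψ := by
  let S : Set (Subobject F) :=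
    {I | ∃ (C : EtCoh.Ab X) (ψ : C ⟶ F), EtPBC.IsConstructible C ∧ I = imageSubobject ψ}
  have hne : S.Nonempty :=
    ⟨_, 0, (0 : (0 : EtCoh.Ab X) ⟶ F), isConstructible_of_isZero (isZero_zero _), rfl⟩
  obtain ⟨I₀, ⟨C, ψ, hC, rfl⟩, hmax⟩ :=
    (wellFounded_gt : WellFounded ((· > ·) : Subobject F → Subobject F → Prop)).has_min S hne
  refine ⟨C, ψ, hC, ?_⟩
  have h0 : (imageSubobject ψ).arrow ≫ cokernel.π ψ = 0 := by
    rw [← cancel_epi (factorThruImageSubobject ψ), ← Category.assoc, imageSubobject_arrow_comp,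
      cokernel.condition, comp_zero]
  have key : ∀ (U : X.Etale) [IsAffine U.left] (n : ℕ) (_ : 0 < n) (s : EtCoh.sect F U)
      (hs : n • s = 0), secMap F U n s hs ≫ cokernel.π ψ = 0 := by
    intro U _ n hn s hs
    have hR : EtPBC.IsConstructible (R (ZMod n) U) := by
      haveI : NeZero n := ⟨hn.ne'⟩
      exact isConstructible_extZeroConst U (ZMod n)
    have hCR : EtPBC.IsConstructible (C ⊞ R (ZMod n) U) := isConstructible_biprod hC hR
    have hle : imageSubobject ψ ≤ imageSubobject (biprod.desc ψ (secMap F U n s hs)) := by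
      have h1 := imageSubobject_comp_le (biprod.inl : C ⟶ C ⊞ R (ZMod n) U)
        (biprod.desc ψ (secMap F U n s hs))
      simpa using h1
    have heq : imageSubobject (biprod.desc ψ (secMap F U n s hs)) = imageSubobject ψ := by
      by_contra hcon
      exact hmax _ ⟨_, _, hCR, rfl⟩ (lt_of_le_of_ne hle (Ne.symm hcon))
    have hφle : imageSubobject (secMap F U n s hs) ≤ imageSubobject ψ := by
      rw [← heq]
      have h1 := imageSubobject_comp_le (biprod.inr : R (ZMod n) U ⟶ C ⊞ R (ZMod n) U)
        (biprod.desc ψ (secMap F U n s hs))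
      simpa using h1
    calc secMap F U n s hs ≫ cokernel.π ψ
        = (factorThruImageSubobject (secMap F U n s hs) ≫
            (imageSubobject (secMap F U n s hs)).arrow) ≫ cokernel.π ψ := by
          rw [imageSubobject_arrow_comp]
      _ = factorThruImageSubobject (secMap F U n s hs) ≫ Subobject.ofLE _ _ hφle ≫
            (imageSubobject ψ).arrow ≫ cokernel.π ψ := by
          rw [Subobject.ofLE_arrow_assoc, Category.assoc]
      _ = 0 := by rw [h0, comp_zero, comp_zero]
  apply Abelian.epi_of_cokernel_π_eq_zero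
  apply Sheaf.hom_ext
  ext U s
  show (cokernel.π ψ).hom.app U s = 0
  obtain ⟨U⟩ := U
  apply section_eq_zero_of_forall_pt
  intro x
  obtain ⟨V, g, ⟨v, hv⟩, hfin⟩ := hF U s x
  obtain ⟨_, ⟨A, hA, rfl⟩, hvA, -⟩ :=
    V.left.isBasis_affineOpens.exists_subset_of_mem_open (Set.mem_univ v) isOpen_univ
  haveI : IsAffine (openSub V A).left := hA
  refine ⟨openSub V A, openSubι V A ≫ g, ⟨⟨v, hvA⟩, ?_⟩, ?_⟩
  · rw [← hv]; rfl
  · have hfin' : IsOfFinAddOrder (F.obj.map (openSubι V A ≫ g).op s) := by
      rw [op_comp, Functor.map_comp]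
      exact (F.obj.map (openSubι V A).op).hom.isOfFinAddOrder hfin
    obtain ⟨n, hn, hns⟩ := hfin'.exists_nsmul_eq_zero
    have h1 := app_eq_zero_of_secMap_comp F (cokernel.π ψ) (openSub V A) n _ hns
      (key (openSub V A) n hn _ hns)
    rw [← h1]
    exact (NatTrans.naturality_apply (cokernel.π ψ).hom (openSubι V A ≫ g).op s).symm

/-- A torsion Noetherian object is constructible (`X` Noetherian). -/
theorem isConstructible_of_isNoetherianObject [IsNoetherian X] (hF : EtCoh.IsTorsion F)
    [IsNoetherianObject F] : EtPBC.IsConstructible F := by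
  obtain ⟨C, ψ, hC, hψ⟩ := exists_epi_of_isNoetherianObject F hF
  exact Groth.Agent.Lib.EtSubLC22.isConstructible_of_epi ψ hC

/-- A constructible abelian sheaf on a Noetherian scheme is a Noetherian object. -/
theorem isNoetherianObject_of_isConstructible [IsNoetherian X] (hF : EtPBC.IsConstructible F) :
    IsNoetherianObject F := by
  rw [isNoetherianObject_iff_monotone_chain_condition]
  intro c
  obtain ⟨N, hN⟩ := Groth.Agent.Lib.EtSubLC22.exists_stable hF
    (fun m => ((c m : Subobject F) : EtCoh.Ab X))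
    (fun m => (c m).arrow) (fun m m' h => Subobject.ofLE (c m) (c m') (c.monotone h))
    (fun m m' h => Subobject.ofLE_arrow _)
  refine ⟨N, fun m h => ?_⟩
  haveI := hN m h
  apply le_antisymm
  · exact c.monotone h
  · exact Subobject.le_of_comm (inv (Subobject.ofLE (c N) (c m) (c.monotone h))) (by
      rw [IsIso.inv_comp_eq, Subobject.ofLE_arrow])

end Groth.Agent.Lib.TorsNoeth34
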