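import Groth.Agent.Lib.ConstrFG34
import Groth.Agent.Lib.TorsNoeth34

/-!
# Presentations of constructible abelian etale sheaves on qcqs schemes (helper34)

* `isTorsion_of_isConstructible`;
* `exists_fin_epi_of_gens`: a family of torsion sections `s i ∈ F(U i)` (`U i` affine etale) through
  which every section factors locally yields a finite epimorphism `⨁ j_{U!} ℤ/n ⟶ F`;
* `GenN`, `exists_genN_epi` (fixed `n`, `F` killed by `n`), `GenV`, `exists_genV_epi`.
-/

set_option autoImplicit false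
universe u

open CategoryTheory CategoryTheory.Limits AlgebraicGeometry Opposite Topology

namespace Groth.Agent.Lib.ConstrPres34

open Groth.Agent.Lib.EtGerm Groth.Agent.Lib.ConstrFG34 Groth.Agent.Lib.TorsNoeth34
  Groth.Agent.Lib.ExtZeroMV34 Groth.Agent.Lib.ExtZeroConstr34 Groth.Agent.Lib.EtLCKer22
  Groth.Agent.Lib.EtStalkConservative

variable {X : Scheme.{u}} [CompactSpace X] [QuasiSeparatedSpace X] (F : EtCoh.Ab X)

/-- constructible sheaves on qcqs schemes are torsion -/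
theorem isTorsion_of_isConstructible (hF : EtPBC.IsConstructible F) : EtCoh.IsTorsion F := by
  intro U s x
  obtain ⟨y, hy⟩ := exists_stdPt_nbhd U x
  obtain ⟨M, hM, hiso⟩ := exists_stalk_iso hF (U.hom x)
  obtain ⟨e⟩ := hiso _ (stdPt (U.hom x)) (stdPt_default _)
  haveI : Finite M := pFin_finite hM
  haveI : Finite ((EtCoh.stalk (stdPt (U.hom x))).obj F) :=
    Finite.of_injective _ e.addCommGroupIsoToAddEquiv.injective
  obtain ⟨m, hm, hms⟩ := (isOfFinAddOrder_of_finite (germ (stdPt (U.hom x)) F y s)).exists_nsmul_eq_zero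
  rw [← map_nsmul] at hms
  obtain ⟨V, g, z, hz, hg⟩ := (germ_eq_zero_iff _ F y _).1 hms
  refine ⟨V, g, ⟨Nbhd.pt _ z, ?_⟩, ?_⟩
  · have h1 := Nbhd.pt_map (stdPt (U.hom x)) g z
    rw [hz, hy] at h1
    exact h1.symm
  · rw [map_nsmul] at hg
    exact isOfFinAddOrder_iff_nsmul_eq_zero.2 ⟨m, hm, hg⟩

section gens

variable {F} {ι : Type*} (U : ι → X.Etale) (n : ι → ℕ) (hn : ∀ i, 0 < n i)
  (aff : ∀ i, IsAffine (U i).left) (s : ∀ i, EtCoh.sect F (U i)) (hs : ∀ i, n i • s i = 0)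

include hn aff in
theorem exists_fin_epi_of_gens (hF : EtPBC.IsConstructible F)
    (hall : ∀ (W : X.Etale) (t : EtCoh.sect F W) (w : W.left), ∃ (i : ι) (g : U i ⟶ W),
      w ∈ Set.range g.left ∧ F.obj.map g.op t = s i) :
    ∃ (b : ℕ) (σ : Fin b → ι), Epi (biproduct.desc (fun k : Fin b =>
      secMap F (U (σ k)) (n (σ k)) (s (σ k)) (hs (σ k)))) := by
  refine exists_fin_epi hF (fun i => R (ZMod (n i)) (U i)) (fun i => ?_)
    (fun i => secMap F (U i) (n i) (s i) (hs i)) (fun x => ?_)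
  · haveI : NeZero (n i) := ⟨(hn i).ne'⟩
    haveI := aff i
    exact isConstructible_extZeroConst (U i) (ZMod (n i))
  · refine ⟨_, inferInstance, inferInstance, stdPt x, stdPt_default x, fun e => ?_⟩
    obtain ⟨W, y, t, rfl⟩ := germ_jointly_surjective (stdPt x) F e
    obtain ⟨i, g, ⟨v, hv⟩, hg⟩ := hall W t (Nbhd.pt _ y)
    obtain ⟨z, hz, -⟩ := exists_nbhd_lift (stdPt x) g y v hv
    refine ⟨i, germ (stdPt x) _ z (univ (ZMod (n i)) (U i) (ULift.up 1)), ?_⟩
    rw [germ_naturality, secMap_univ, ← hg, germ_res, hz]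

end gens

/-- generators of fixed order `n`: an affine etale `U` with an `n`-torsion section -/
structure GenN (F : EtCoh.Ab X) (n : ℕ) where
  /-- the etale scheme -/
  U : X.Etale
  aff : IsAffine U.left
  /-- the section -/
  s : EtCoh.sect F U
  hs : n • s = 0

/-- the morphism attached to a generator -/
noncomputable abbrev GenN.ψ {n : ℕ} (g : GenN F n) : R (ZMod n) g.U ⟶ F :=
  secMap F g.U n g.s g.hs

omit [CompactSpace X] [QuasiSeparatedSpace X] in
lemma exists_affine_nbhd (W : X.Etale) (w : W.left) :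
    ∃ A : W.left.Opens, IsAffineOpen A ∧ w ∈ A := by
  obtain ⟨_, ⟨A, hA, rfl⟩, hwA, -⟩ :=
    W.left.isBasis_affineOpens.exists_subset_of_mem_open (Set.mem_univ w) isOpen_univ
  exact ⟨A, hA, hwA⟩

theorem exists_genN_epi (n : ℕ) (hn : 0 < n) (hF : EtPBC.IsConstructible F)
    (hk : EtCoh.KilledBy n F) :
    ∃ (b : ℕ) (σ : Fin b → GenN F n), Epi (biproduct.desc (fun k : Fin b => (σ k).ψ)) := by
  refine exists_fin_epi_of_gens (fun g : GenN F n => g.U) (fun _ => n) (fun _ => hn)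
    (fun g => g.aff) (fun g => g.s) (fun g => g.hs) hF (fun W t w => ?_)
  obtain ⟨A, hA, hwA⟩ := exists_affine_nbhd W w
  exact ⟨⟨openSub W A, hA, F.obj.map (openSubι W A).op t, hk _ _⟩, openSubι W A,
    ⟨⟨w, hwA⟩, rfl⟩, rfl⟩

/-- generators of arbitrary positive order -/
abbrev GenV (F : EtCoh.Ab X) := Σ n : {n : ℕ // 0 < n}, GenN F n.1

theorem exists_genV_epi (hF : EtPBC.IsConstructible F) :
    ∃ (b : ℕ) (σ : Fin b → GenV F), Epi (biproduct.desc (fun k : Fin b => (σ k).2.ψ)) := by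
  refine exists_fin_epi_of_gens (fun g : GenV F => g.2.U) (fun g => g.1.1) (fun g => g.1.2)
    (fun g => g.2.aff) (fun g => g.2.s) (fun g => g.2.hs) hF (fun W t w => ?_)
  obtain ⟨V, g, ⟨v, hv⟩, hfin⟩ := isTorsion_of_isConstructible F hF W t w
  obtain ⟨m, hm, hmt⟩ := hfin.exists_nsmul_eq_zero
  obtain ⟨A, hA, hvA⟩ := exists_affine_nbhd V v
  refine ⟨⟨⟨m, hm⟩, ⟨openSub V A, hA, F.obj.map (openSubι V A ≫ g).op t, ?_⟩⟩,
    openSubι V A ≫ g, ⟨⟨v, hvA⟩, ?_⟩, rfl⟩
  · rw [op_comp, Functor.map_comp]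
    show m • (F.obj.map (openSubι V A).op) (F.obj.map g.op t) = 0
    rw [← map_nsmul, hmt, map_zero]
  · rw [← hv]; rfl

section killed

omit [CompactSpace X] [QuasiSeparatedSpace X]

lemma nsmul_hom_app {G H : EtCoh.Ab X} (n : ℕ) (f : G ⟶ H) (W : X.Etaleᵒᵖ) :
    (n • f).hom.app W = n • f.hom.app W := by
  induction n with
  | zero => simp
  | succ k ih => rw [succ_nsmul, succ_nsmul, ← ih]; rfl

/-- a sheaf with `n • 𝟙 = 0` is killed by `n` -/
lemma killedBy_of_nsmul_id {G : EtCoh.Ab X} (n : ℕ) (h : n • 𝟙 G = 0) : EtCoh.KilledBy n G := by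
  intro W t
  have h1 : (n • 𝟙 G).hom.app (op W) t = 0 := by rw [h]; rfl
  rw [nsmul_hom_app] at h1
  simpa using h1

lemma nsmul_id_R (n : ℕ) (W : X.Etale) : n • 𝟙 (R (ZMod n) W) = 0 := by
  apply (repEquiv (ZMod n) W _).injective
  rw [repEquiv_eq, repEquiv_eq, nsmul_hom_app]
  ext x
  show (n • (𝟙 _ : (R (ZMod n) W).obj.obj (op W) ⟶ _)) (univ (ZMod n) W x) = 0
  have h1 : (n • (𝟙 _ : (R (ZMod n) W).obj.obj (op W) ⟶ _)) (univ (ZMod n) W x) =
      n • univ (ZMod n) W x := by simp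
  rw [h1, ← map_nsmul]
  have h2 : n • x = 0 := by
    apply ULift.ext
    show n • x.down = 0
    simp
  rw [h2, map_zero]

lemma nsmul_id_biproduct {J : Type*} [Finite J] (n : ℕ) (f : J → EtCoh.Ab X)
    (h : ∀ j, n • 𝟙 (f j) = 0) : n • 𝟙 (⨁ f) = 0 := by
  apply biproduct.hom_ext'
  intro j
  rw [Preadditive.comp_nsmul, Category.comp_id, comp_zero,
    ← Category.id_comp (biproduct.ι f j), ← Preadditive.nsmul_comp, h, zero_comp]

lemma killedBy_of_mono {G H : EtCoh.Ab X} (i : G ⟶ H) [Mono i] (n : ℕ) (h : EtCoh.KilledBy n H) :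
    EtCoh.KilledBy n G := by
  intro W t
  have hinj : Function.Injective (i.hom.app (op W)) := by
    have : Mono ((sheafToPresheaf _ _ ⋙ (evaluation _ _).obj (op W)).map i) := inferInstance
    exact (AddCommGrpCat.mono_iff_injective _).1 this
  apply hinj
  rw [map_nsmul, map_zero]
  exact h W _

end killed

/-- an epimorphism is the cokernel of (anything surjecting onto) its kernel -/
noncomputable def cokernelIsoOfEpi {P F K' : EtCoh.Ab X} (Ψ : P ⟶ F) [Epi Ψ] (Ψ' : K' ⟶ kernel Ψ)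
    [Epi Ψ'] : F ≅ cokernel (Ψ' ≫ kernel.ι Ψ) :=
  ((cokernelIsCokernel (kernel.ι Ψ)).coconePointUniqueUpToIso
    (Abelian.epiIsCokernelOfKernel _ (limit.isLimit (parallelPair Ψ 0)))).symm ≪≫
    (cokernelEpiComp Ψ' (kernel.ι Ψ)).symm

/-- **Presentation, fixed `n`.** -/
theorem exists_presentationN (n : ℕ) (hn : 0 < n) (hF : EtPBC.IsConstructible F)
    (hk : EtCoh.KilledBy n F) :
    ∃ (a b : ℕ) (V : Fin a → X.Etale) (U : Fin b → X.Etale) (_ : ∀ j, IsAffine (V j).left)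
      (_ : ∀ i, IsAffine (U i).left)
      (φ : (⨁ fun j => EtPBC.extZeroConst (V j) (ZMod n)) ⟶
        ⨁ fun i => EtPBC.extZeroConst (U i) (ZMod n)),
      Nonempty (F ≅ cokernel φ) := by
  haveI : NeZero n := ⟨hn.ne'⟩
  obtain ⟨b, σ, hσ⟩ := exists_genN_epi F n hn hF hk
  have hP : EtPBC.IsConstructible (⨁ fun k : Fin b => R (ZMod n) (σ k).U) :=
    isConstructible_biproduct _ (fun k => by
      haveI := (σ k).aff
      exact isConstructible_extZeroConst (σ k).U (ZMod n))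
  have hK : EtPBC.IsConstructible (kernel (biproduct.desc (fun k : Fin b => (σ k).ψ))) :=
    (Groth.Agent.Lib.EtConstr22.isConstructible_ker_coker _ hP hF).1
  have hKk : EtCoh.KilledBy n (kernel (biproduct.desc (fun k : Fin b => (σ k).ψ))) :=
    killedBy_of_mono (kernel.ι _) n (killedBy_of_nsmul_id n
      (nsmul_id_biproduct n _ (fun k => nsmul_id_R n (σ k).U)))
  obtain ⟨a, τ, hτ⟩ := exists_genN_epi _ n hn hK hKk
  exact ⟨a, b, fun j => (τ j).U, fun i => (σ i).U, fun j => (τ j).aff, fun i => (σ i).aff,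
    biproduct.desc (fun j : Fin a => (τ j).ψ) ≫ kernel.ι _, ⟨cokernelIsoOfEpi _ _⟩⟩

/-- **Presentation, varying orders.** -/
theorem exists_presentationV (hF : EtPBC.IsConstructible F) :
    ∃ (a b : ℕ) (U : Fin a → X.Etale) (V : Fin b → X.Etale) (n : Fin a → ℕ) (m : Fin b → ℕ),
      (∀ i, 0 < n i ∧ IsAffine (U i).left) ∧ (∀ j, 0 < m j ∧ IsAffine (V j).left) ∧
      ∃ φ : (⨁ fun j => EtPBC.extZeroConst (V j) (ZMod (m j))) ⟶
          (⨁ fun i => EtPBC.extZeroConst (U i) (ZMod (n i))),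
        Nonempty (F ≅ cokernel φ) := by
  obtain ⟨a, σ, hσ⟩ := exists_genV_epi F hF
  have hP : EtPBC.IsConstructible (⨁ fun k : Fin a => R (ZMod (σ k).1.1) (σ k).2.U) :=
    isConstructible_biproduct _ (fun k => by
      haveI := (σ k).2.aff
      haveI : NeZero (σ k).1.1 := ⟨(σ k).1.2.ne'⟩
      exact isConstructible_extZeroConst (σ k).2.U (ZMod (σ k).1.1))
  have hK : EtPBC.IsConstructible (kernel (biproduct.desc (fun k : Fin a => (σ k).2.ψ))) :=
    (Groth.Agent.Lib.EtConstr22.isConstructible_ker_coker _ hP hF).1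
  obtain ⟨b, τ, hτ⟩ := exists_genV_epi _ hK
  exact ⟨a, b, fun i => (σ i).2.U, fun j => (τ j).2.U, fun i => (σ i).1.1, fun j => (τ j).1.1,
    fun i => ⟨(σ i).1.2, (σ i).2.aff⟩, fun j => ⟨(τ j).1.2, (τ j).2.aff⟩,
    biproduct.desc (fun j : Fin b => (τ j).2.ψ) ≫ kernel.ι _, ⟨cokernelIsoOfEpi _ _⟩⟩

/-- cokernels of maps between finite sums of `j_! ℤ/n` (qcqs sources) are constructible -/
theorem isConstructible_of_presentation {a b : ℕ} (U : Fin a → X.Etale) (V : Fin b → X.Etale)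
    (n : Fin a → ℕ) (m : Fin b → ℕ) (hU : ∀ i, 0 < n i ∧ IsAffine (U i).left)
    (hV : ∀ j, 0 < m j ∧ IsAffine (V j).left)
    (φ : (⨁ fun j => EtPBC.extZeroConst (V j) (ZMod (m j))) ⟶
          (⨁ fun i => EtPBC.extZeroConst (U i) (ZMod (n i))))
    (e : F ≅ cokernel φ) : EtPBC.IsConstructible F := by
  have h1 : EtPBC.IsConstructible (⨁ fun j => EtPBC.extZeroConst (V j) (ZMod (m j))) :=
    isConstructible_biproduct _ (fun j => by
      haveI := (hV j).2
      haveI : NeZero (m j) := ⟨(hV j).1.ne'⟩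
      exact isConstructible_extZeroConst (V j) (ZMod (m j)))
  have h2 : EtPBC.IsConstructible (⨁ fun i => EtPBC.extZeroConst (U i) (ZMod (n i))) :=
    isConstructible_biproduct _ (fun i => by
      haveI := (hU i).2
      haveI : NeZero (n i) := ⟨(hU i).1.ne'⟩
      exact isConstructible_extZeroConst (U i) (ZMod (n i)))
  exact Groth.Agent.Lib.EtConstr22.isConstructible_of_iso e.symm
    (Groth.Agent.Lib.EtConstr22.isConstructible_ker_coker φ h1 h2).2

end Groth.Agent.Lib.ConstrPres34
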