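import Groth.Agent.Lib.EtSecColim34
import Groth.Agent.Lib.ConstrPres34

/-!
# Constructible abelian etale sheaves on qcqs schemes are compact objects (helper34)

* `HomColim P D c`: elementwise form of "`Hom(P, -)` commutes with the colimit cocone `c`";
  closed under isomorphisms, finite biproducts and cokernels;
* `homColim_R`: `j_{U!}(ℤ/n)` for `U` qcqs;
* `homColim_of_isConstructible`, `preservesColimitsOfShape_coyoneda` (= S0139),
  `exists_section_of_isConstructible` (= S0181).
-/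

set_option autoImplicit false
universe w u

open CategoryTheory CategoryTheory.Limits AlgebraicGeometry Opposite

namespace Groth.Agent.Lib.ConstrCompact34

section abstract

variable {A : Type*} [Category A] [Abelian A] {J : Type w} [SmallCategory J]

/-- `Hom(P, -)` commutes with the colimit cocone `c` (elementwise form) -/
structure HomColim (P : A) (D : J ⥤ A) (c : Cocone D) : Prop where
  surj : ∀ φ : P ⟶ c.pt, ∃ (i : J) (ψ : P ⟶ D.obj i), ψ ≫ c.ι.app i = φ
  inj : ∀ (i : J) (ψ : P ⟶ D.obj i), ψ ≫ c.ι.app i = 0 →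
    ∃ (j : J) (g : i ⟶ j), ψ ≫ D.map g = 0

variable {D : J ⥤ A} {c : Cocone D}

lemma HomColim.of_iso {P P' : A} (e : P ≅ P') (h : HomColim P D c) : HomColim P' D c where
  surj φ := by
    obtain ⟨i, ψ, hψ⟩ := h.surj (e.hom ≫ φ)
    exact ⟨i, e.inv ≫ ψ, by rw [Category.assoc, hψ, e.inv_hom_id_assoc]⟩
  inj i ψ hψ := by
    obtain ⟨j, g, hg⟩ := h.inj i (e.hom ≫ ψ) (by rw [Category.assoc, hψ, comp_zero])
    refine ⟨j, g, ?_⟩
    rw [← cancel_epi e.hom, ← Category.assoc, hg, comp_zero]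

lemma HomColim.cokernel {R₁ R₀ : A} (d : R₁ ⟶ R₀) (h0 : HomColim R₀ D c)
    (h1 : HomColim R₁ D c) : HomColim (cokernel d) D c where
  surj φ := by
    obtain ⟨i, ai, hai⟩ := h0.surj (cokernel.π d ≫ φ)
    obtain ⟨j, g, hg⟩ := h1.inj i (d ≫ ai) (by
      rw [Category.assoc, hai, cokernel.condition_assoc, zero_comp])
    have h2 : d ≫ (ai ≫ D.map g) = 0 := by rw [← Category.assoc, hg]
    refine ⟨j, cokernel.desc d _ h2, ?_⟩
    rw [← cancel_epi (cokernel.π d), cokernel.π_desc_assoc, Category.assoc, c.w, hai]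
  inj i ψ hψ := by
    obtain ⟨j, g, hg⟩ := h0.inj i (cokernel.π d ≫ ψ) (by rw [Category.assoc, hψ, comp_zero])
    refine ⟨j, g, ?_⟩
    rw [← cancel_epi (cokernel.π d), ← Category.assoc, hg, comp_zero]

lemma HomColim.biproduct [IsFiltered J] {ι : Type*} [Finite ι] (f : ι → A) [HasBiproduct f]
    (h : ∀ l, HomColim (f l) D c) : HomColim (⨁ f) D c where
  surj φ := by
    have h1 := fun l => (h l).surj (biproduct.ι f l ≫ φ)
    choose i ψ hψ using h1
    obtain ⟨k, hk⟩ := Groth.Agent.Lib.FiltColimSec.exists_common_stage i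
    let a := fun l => (hk l).some
    refine ⟨k, biproduct.desc (fun l => ψ l ≫ D.map (a l)), ?_⟩
    apply biproduct.hom_ext'
    intro l
    rw [biproduct.ι_desc_assoc, Category.assoc, c.w, hψ]
  inj i ψ hψ := by
    have h1 := fun l => (h l).inj i (biproduct.ι f l ≫ ψ) (by rw [Category.assoc, hψ, comp_zero])
    choose j g hg using h1
    obtain ⟨k, g₀, hk⟩ := Groth.Agent.Lib.FiltColimSec.exists_common_refinement i j g
    refine ⟨k, g₀, ?_⟩
    apply biproduct.hom_ext'
    intro l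
    obtain ⟨h', hh'⟩ := hk l
    rw [comp_zero, ← hh', Functor.map_comp, ← Category.assoc, ← Category.assoc, hg, zero_comp]

end abstract

open Groth.Agent.Lib.ExtZeroMV34 Groth.Agent.Lib.TorsNoeth34 Groth.Agent.Lib.EtSecColim34
  Groth.Agent.Lib.ConstrPres34

variable {X : Scheme.{u}}

/-- homomorphisms out of `ℤ/n` (lifted) are determined by the image of `1` -/
lemma addMonoidHom_ext_ulift_zmod {n : ℕ} [NeZero n] {B : Type*} [AddCommGroup B]
    (φ ψ : ULift.{u + 1} (ZMod n) →+ B) (h : φ (ULift.up 1) = ψ (ULift.up 1)) : φ = ψ := by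
  ext x
  have hx : x = x.down.val • (ULift.up 1 : ULift.{u + 1} (ZMod n)) := by
    apply ULift.ext
    show x.down = x.down.val • (1 : ZMod n)
    rw [nsmul_one, ZMod.natCast_zmod_val]
  rw [hx, map_nsmul, map_nsmul, h]

/-- morphisms out of `j_{U!}(ℤ/n)` are determined by the image of the universal section -/
lemma R_hom_ext {n : ℕ} [NeZero n] {U : X.Etale} {G : EtCoh.Ab X} (f g : R (ZMod n) U ⟶ G)
    (h : f.hom.app (op U) (univ (ZMod n) U (ULift.up 1)) =
      g.hom.app (op U) (univ (ZMod n) U (ULift.up 1))) : f = g := by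
  apply (repEquiv (ZMod n) U G).injective
  rw [repEquiv_eq, repEquiv_eq]
  apply AddCommGrpCat.hom_ext
  exact addMonoidHom_ext_ulift_zmod _ _ h

lemma univ_nsmul {n : ℕ} [NeZero n] (U : X.Etale) :
    n • (univ (ZMod n) U (ULift.up 1)) = 0 := by
  rw [← map_nsmul]
  have h2 : n • (ULift.up 1 : ULift.{u + 1} (ZMod n)) = 0 := by
    apply ULift.ext
    show n • (1 : ZMod n) = 0
    simp
  rw [h2, map_zero]

/-- `j_{U!}(ℤ/n)` is compact for `U` qcqs -/
theorem homColim_R (n : ℕ) [NeZero n] (U : X.Etale) [CompactSpace U.left]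
    [QuasiSeparatedSpace U.left] {J : Type u} [SmallCategory J] [IsFiltered J]
    (D : J ⥤ EtCoh.Ab X) (c : Cocone D) (hc : IsColimit c) :
    HomColim (R (ZMod n) U) D c := by
  have hS := secColim_et' D c hc U
  constructor
  · intro φ
    set s := φ.hom.app (op U) (univ (ZMod n) U (ULift.up 1)) with hs
    have hns : n • s = 0 := by rw [hs, ← map_nsmul, univ_nsmul, map_zero]
    obtain ⟨i, t, ht⟩ := hS.surj s
    obtain ⟨j, a, ha⟩ := hS.inj i (n • t) (by rw [map_nsmul, ht, hns])
    have hnt : n • ((D.map a).hom.app (op U) t) = 0 := by rw [← map_nsmul, ha]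
    refine ⟨j, secMap (D.obj j) U n _ hnt, ?_⟩
    apply R_hom_ext
    show (c.ι.app j).hom.app (op U) ((secMap (D.obj j) U n _ hnt).hom.app (op U) _) = s
    rw [secMap_univ]
    have h2 : D.map a ≫ c.ι.app j = c.ι.app i := c.w a
    rw [← ht, ← h2]
    rfl
  · intro i ψ hψ
    have h1 : (c.ι.app i).hom.app (op U) (ψ.hom.app (op U) (univ (ZMod n) U (ULift.up 1))) = 0 := by
      have : (ψ ≫ c.ι.app i).hom.app (op U) (univ (ZMod n) U (ULift.up 1)) = 0 := by
        rw [hψ]; rfl
      exact this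
    obtain ⟨j, g, hg⟩ := hS.inj i _ h1
    refine ⟨j, g, ?_⟩
    apply R_hom_ext
    show (D.map g).hom.app (op U) (ψ.hom.app (op U) _) = (0 : R (ZMod n) U ⟶ D.obj j).hom.app (op U) _
    rw [hg]
    rfl

variable [CompactSpace X] [QuasiSeparatedSpace X]

/-- constructible sheaves on a qcqs scheme are compact (elementwise form) -/
theorem homColim_of_isConstructible {F : EtCoh.Ab X} (hF : EtPBC.IsConstructible F)
    {J : Type u} [SmallCategory J] [IsFiltered J] (D : J ⥤ EtCoh.Ab X) (c : Cocone D)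
    (hc : IsColimit c) : HomColim F D c := by
  obtain ⟨a, b, U, V, n, m, hU, hV, φ, ⟨e⟩⟩ := exists_presentationV F hF
  have h0 : HomColim (⨁ fun i => EtPBC.extZeroConst (U i) (ZMod (n i))) D c :=
    HomColim.biproduct _ (fun i => by
      haveI := (hU i).2
      haveI : NeZero (n i) := ⟨(hU i).1.ne'⟩
      exact homColim_R (n i) (U i) D c hc)
  have h1 : HomColim (⨁ fun j => EtPBC.extZeroConst (V j) (ZMod (m j))) D c :=
    HomColim.biproduct _ (fun j => by
      haveI := (hV j).2
      haveI : NeZero (m j) := ⟨(hV j).1.ne'⟩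
      exact homColim_R (m j) (V j) D c hc)
  exact (HomColim.cokernel φ h0 h1).of_iso e.symm

/-- **Constructible sheaves are compact objects** (S0139). -/
theorem preservesColimitsOfShape_coyoneda {F : EtCoh.Ab X} (hF : EtPBC.IsConstructible F)
    (J : Type u) [SmallCategory J] [IsFiltered J] :
    PreservesColimitsOfShape J (coyoneda.obj (op F)) := by
  constructor
  intro D
  constructor
  intro c hc
  have h := homColim_of_isConstructible hF D c hc
  refine ⟨Types.FilteredColimit.isColimitOf' _ _ ?_ ?_⟩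
  · intro x
    obtain ⟨i, ψ, hψ⟩ := h.surj x
    exact ⟨i, ψ, hψ.symm⟩
  · intro i (x : F ⟶ D.obj i) (y : F ⟶ D.obj i) hxy
    have hxy' : x ≫ c.ι.app i = y ≫ c.ι.app i := hxy
    obtain ⟨j, g, hg⟩ := h.inj i (x - y) (by rw [Preadditive.sub_comp, hxy', sub_self])
    refine ⟨j, g, ?_⟩
    rw [Preadditive.sub_comp, sub_eq_zero] at hg
    exact hg

/-- essential constancy of a filtered system of constructible sheaves with constructible colimit
(S0181) -/
theorem exists_section_of_isConstructible {J : Type u} [SmallCategory J] [IsFiltered J]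
    (D : J ⥤ EtCoh.Ab X) (c : Cocone D) (hc : IsColimit c)
    (hD : ∀ j, EtPBC.IsConstructible (D.obj j)) (hF : EtPBC.IsConstructible c.pt) :
    ∃ (i : J) (s : c.pt ⟶ D.obj i), s ≫ c.ι.app i = 𝟙 c.pt ∧
      ∀ j : J, ∃ (k : J) (a : i ⟶ k) (b : j ⟶ k), D.map b = c.ι.app j ≫ s ≫ D.map a := by
  obtain ⟨i, s, hs⟩ := (homColim_of_isConstructible hF D c hc).surj (𝟙 c.pt)
  refine ⟨i, s, hs, fun j => ?_⟩
  let k₀ := IsFiltered.max i j
  let a₀ : i ⟶ k₀ := IsFiltered.leftToMax i j
  let b₀ : j ⟶ k₀ := IsFiltered.rightToMax i j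
  have h0 : (D.map b₀ - c.ι.app j ≫ s ≫ D.map a₀) ≫ c.ι.app k₀ = 0 := by
    rw [Preadditive.sub_comp, Category.assoc, Category.assoc, c.w, c.w, hs]
    have h1 : c.ι.app j ≫ 𝟙 c.pt = c.ι.app j := Category.comp_id _
    rw [h1, sub_self]
  obtain ⟨k, g, hg⟩ := (homColim_of_isConstructible (hD j) D c hc).inj k₀ _ h0
  refine ⟨k, a₀ ≫ g, b₀ ≫ g, ?_⟩
  rw [Preadditive.sub_comp, sub_eq_zero] at hg
  rw [Functor.map_comp, Functor.map_comp, hg, Category.assoc, Category.assoc]

end Groth.Agent.Lib.ConstrCompact34
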