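import Groth.Agent.Lib.EtLCKer22b

/-!
# Kernels and cokernels of constructible abelian étale sheaves (helper22)

* `StrataA.common`: two adapted stratifications of the same subset have a common refinement;
* `IsConstructibleA.of_pair`: a sheaf `H` is constructible as soon as `F`, `G` are and local
  constancy of `g⁻¹F`, `g⁻¹G` implies local constancy of `g⁻¹H` for every `g : T ⟶ X`;
* `isConstructible_kernel`, `isConstructible_cokernel` (for `EtPBC.IsConstructible`).
-/

set_option autoImplicit false
set_option linter.style.haveILetI false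
set_option linter.unusedSectionVars false
universe u

open CategoryTheory AlgebraicGeometry Limits MorphismProperty Opposite Topology

namespace Groth.Agent.Lib.EtConstr22

open Groth.Agent.Lib.EtOverSite22 Groth.Agent.Lib.EtLocConst22 Groth.Agent.Lib.EtLCKer22

section common

variable {A : Type (u + 2)} [Category.{u + 1} A]
  [∀ {X Y : Scheme.{u}} (f : X ⟶ Y), (pushA A f).IsRightAdjoint]
  [∀ (Y : Scheme.{u}), HasWeakSheafify Y.smallEtaleTopology A]
  [∀ (Y : Scheme.{u}) (V : Y.Etale), HasWeakSheafify (Y.smallEtaleTopology.over V) A]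
  [∀ (Y : Scheme.{u}) (V : Y.Etale) W, HasLimitsOfShape (StructuredArrow W (toOver V).op) A]
  {P P' P'' : A → Prop}

/-- Two adapted stratifications of `S` have a common refinement. -/
theorem StrataA.common {X : Scheme.{u}} {F G : Sheaf X.smallEtaleTopology A} {S : Set X}
    (hF : StrataA A P F S) (hG : StrataA A P' G S) :
    ∃ (ι : Type) (_ : Finite ι) (T : ι → Scheme.{u}) (g : ∀ i, T i ⟶ X),
      (∀ i, IsImmersion (g i)) ∧ (∀ i, ConsIn S (Set.range (g i))) ∧
      Pairwise (fun i j => Disjoint (Set.range (g i)) (Set.range (g j))) ∧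
      (⋃ i, Set.range (g i)) = S ∧
      ∀ i, IsLC A P ((pullA A (g i)).obj F) ∧ IsLC A P' ((pullA A (g i)).obj G) := by
  obtain ⟨ι, hι, T, g, h1, h2, h3, h4, h5⟩ := hF
  obtain ⟨ι', hι', T', g', h1', h2', h3', h4', h5'⟩ := hG
  haveI := h1
  haveI := h1'
  have hr : ∀ q : ι × ι', Set.range (pullback.fst (g q.1) (g' q.2) ≫ g q.1) =
      Set.range (g q.1) ∩ Set.range (g' q.2) := fun q => Scheme.Pullback.range_fst_comp _ _
  refine ⟨ι × ι', inferInstance, fun q => pullback (g q.1) (g' q.2),
    fun q => pullback.fst (g q.1) (g' q.2) ≫ g q.1, fun q => inferInstance, ?_, ?_, ?_, ?_⟩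
  · intro q
    rw [hr]
    exact ConsIn.inter (h2 q.1) (h2' q.2)
  · rintro ⟨a, b⟩ ⟨a', b'⟩ hne
    change Disjoint (Set.range (pullback.fst (g a) (g' b) ≫ g a))
      (Set.range (pullback.fst (g a') (g' b') ≫ g a'))
    rw [hr ⟨a, b⟩, hr ⟨a', b'⟩]
    by_cases ha : a = a'
    · have hb : b ≠ b' := fun hb => hne (by rw [ha, hb])
      exact (h3' hb).mono Set.inter_subset_right Set.inter_subset_right
    · exact (h3 ha).mono Set.inter_subset_left Set.inter_subset_left
  · apply Set.eq_of_subset_of_subset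
    · intro x hx
      obtain ⟨q, hq⟩ := Set.mem_iUnion.1 hx
      rw [hr] at hq
      rw [← h4]
      exact Set.mem_iUnion.2 ⟨q.1, hq.1⟩
    · intro x hx
      have hxa : x ∈ ⋃ a, Set.range (g a) := by rw [h4]; exact hx
      have hxb : x ∈ ⋃ b, Set.range (g' b) := by rw [h4']; exact hx
      obtain ⟨a, ha⟩ := Set.mem_iUnion.1 hxa
      obtain ⟨b, hb⟩ := Set.mem_iUnion.1 hxb
      refine Set.mem_iUnion.2 ⟨⟨a, b⟩, ?_⟩
      rw [hr]
      exact ⟨ha, hb⟩
  · intro q
    refine ⟨IsLC.comp (g q.1) (pullback.fst (g q.1) (g' q.2)) (h5 q.1), ?_⟩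
    have hc : pullback.snd (g q.1) (g' q.2) ≫ g' q.2 = pullback.fst (g q.1) (g' q.2) ≫ g q.1 :=
      pullback.condition.symm
    exact (IsLC.comp (g' q.2) (pullback.snd (g q.1) (g' q.2)) (h5' q.2)).of_iso
      ((pullCongrA A hc).app G)

/-- A sheaf `H` is constructible as soon as `F` and `G` are, provided local constancy of the
pullbacks of `F` and `G` along any `g : T ⟶ X` implies that of `H`. -/
theorem IsConstructibleA.of_pair {X : Scheme.{u}} {F G H : Sheaf X.smallEtaleTopology A}
    (hF : IsConstructibleA A P F) (hG : IsConstructibleA A P' G)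
    (hH : ∀ (T : Scheme.{u}) (g : T ⟶ X), IsLC A P ((pullA A g).obj F) →
      IsLC A P' ((pullA A g).obj G) → IsLC A P'' ((pullA A g).obj H)) :
    IsConstructibleA A P'' H := by
  intro U hU
  obtain ⟨ι, hι, T, g, h1, h2, h3, h4, h5⟩ :=
    StrataA.common (adaptedStrataA_iff_strataA.1 (hF U hU)) (adaptedStrataA_iff_strataA.1 (hG U hU))
  exact adaptedStrataA_iff_strataA.2
    ⟨ι, hι, T, g, h1, h2, h3, h4, fun i => hH (T i) (g i) (h5 i).1 (h5 i).2⟩

end common

section ab

/-- Kernel and cokernel of a morphism of constructible abelian étale sheaves are constructible. -/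
theorem isConstructible_ker_coker {X : Scheme.{u}} {F G : EtCoh.Ab X} (φ : F ⟶ G)
    (hF : EtPBC.IsConstructible F) (hG : EtPBC.IsConstructible G) :
    EtPBC.IsConstructible (kernel φ) ∧ EtPBC.IsConstructible (cokernel φ) := by
  have hF' := (isConstructible_iff F).1 hF
  have hG' := (isConstructible_iff G).1 hG
  constructor
  · refine (isConstructible_iff _).2 (IsConstructibleA.of_pair hF' hG' fun T g h1 h2 => ?_)
    let p := pullA AddCommGrpCat.{u + 1} g
    have e1 : p.obj (kernel φ) ≅ kernel (p.map φ) := PreservesKernel.iso p φ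
    exact (isLC_ker_coker (p.map φ) h1 h2).1.of_iso e1.symm
  · refine (isConstructible_iff _).2 (IsConstructibleA.of_pair hF' hG' fun T g h1 h2 => ?_)
    let p := pullA AddCommGrpCat.{u + 1} g
    have e1 : p.obj (cokernel φ) ≅ cokernel (p.map φ) := PreservesCokernel.iso p φ
    exact (isLC_ker_coker (p.map φ) h1 h2).2.of_iso e1.symm

end ab

end Groth.Agent.Lib.EtConstr22
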