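import Groth.Agent.Lib.EtFinEtPush22b

/-!
# Split coverings and direct images, part 3: existence of split coverings (helper22)

A finite étale morphism `f : X ⟶ Y` is split étale-locally on `Y` (using helper59's
`exists_splitBy_etale`).  Consequence: `f_*` preserves finite locally constant sheaves.
-/

set_option autoImplicit false
set_option linter.style.haveILetI false
set_option linter.unusedSectionVars false
universe u

open CategoryTheory AlgebraicGeometry Limits MorphismProperty Opposite

namespace Groth.Agent.Lib.EtFinEtPush22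

open Groth.Agent.Lib.EtOverSite22 Groth.Agent.Lib.EtExt22 Groth.Agent.Lib.EtLocConst22
  Groth.Agent.Lib.EtLCKer22 Groth.Agent.Lib.EtConst Groth.Agent.Lib.H59Split

variable {X Y : Scheme.{u}} {f : X ⟶ Y}

/-- A cartesian square over `V` whose left side is a trivial cover gives a splitting. -/
theorem nonempty_splitData_of_splitBy {V : Y.Etale} {Q : Scheme.{u}} (q : Q ⟶ V.left) (r : Q ⟶ X)
    (hP : IsPullback q r V.hom f) (n : ℕ) (h : SplitBy q n) : Nonempty (SplitData f V n) := by
  obtain ⟨s, hs, hopen, hcov, hdisj⟩ := h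
  let θ : Q ≅ pullback V.hom f := hP.isoPullback
  have θ1 : θ.hom ≫ pullback.fst V.hom f = q := hP.isoPullback_hom_fst
  have θ2 : θ.hom ≫ pullback.snd V.hom f = r := hP.isoPullback_hom_snd
  have w : ∀ i, (s i ≫ r) ≫ f = V.hom := fun i => by
    rw [Category.assoc, ← hP.w, ← Category.assoc, hs i, Category.id_comp]
  have hg : ∀ i, graph f V (s i ≫ r) (w i) = s i ≫ θ.hom := fun i => by
    apply pullback.hom_ext
    · rw [Category.assoc, θ1, hs i]
      exact pullback.lift_fst _ _ _
    · rw [Category.assoc, θ2]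
      exact pullback.lift_snd _ _ _
  have hrange : ∀ i, Set.range (graph f V (s i ≫ r) (w i)) = θ.hom '' Set.range (s i) := fun i => by
    rw [hg i, Scheme.Hom.comp_base, TopCat.coe_comp, Set.range_comp]
  have hinj : Function.Injective θ.hom := θ.hom.homeomorph.injective
  refine ⟨⟨fun i => s i ≫ r, w, fun i => ?_, fun i j hij => ?_, fun z => ?_⟩⟩
  · rw [hg i]
    haveI := hopen i
    infer_instance
  · rw [hrange i, hrange j]
    exact (Set.disjoint_image_iff hinj).2 (hdisj i j hij)
  · obtain ⟨i, y, hy⟩ := hcov (θ.inv z)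
    refine ⟨i, ?_⟩
    rw [hrange i]
    refine ⟨θ.inv z, ⟨y, hy⟩, ?_⟩
    exact Scheme.inv_hom_apply θ z

/-- A finite étale morphism is split étale-locally on the target. -/
theorem exists_splitData (f : X ⟶ Y) [IsFinite f] [Etale f] (y : Y) :
    ∃ (V : Y.Etale) (n : ℕ), Nonempty (SplitData f V n) ∧ y ∈ Set.range V.hom := by
  let n := f.finrank y
  have hlc := Scheme.Hom.isLocallyConstant_finrank f
  let U : Y.Opens := ⟨f.finrank ⁻¹' {n}, hlc.isOpen_fiber n⟩
  let φ : pullback f U.ι ⟶ (U : Scheme.{u}) := pullback.snd f U.ι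
  have hrank : ∀ s, φ.finrank s = n := fun s => by
    rw [Scheme.Hom.finrank_pullback_snd f U.ι s]
    exact s.2
  obtain ⟨Y', ψ, hfin, het, hsurj, -, hsplit⟩ := exists_splitBy_etale n φ hrank
  haveI : Etale (ψ ≫ U.ι) := inferInstance
  let V : Y.Etale := Scheme.Etale.mk (ψ ≫ U.ι)
  have hP : IsPullback (pullback.snd φ ψ) (pullback.fst φ ψ ≫ pullback.fst f U.ι) V.hom f :=
    ((IsPullback.of_hasPullback φ ψ).paste_horiz (IsPullback.of_hasPullback f U.ι)).flip
  refine ⟨V, n, nonempty_splitData_of_splitBy _ _ hP n hsplit, ?_⟩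
  have hy : y ∈ U := rfl
  obtain ⟨y', hy'⟩ := ψ.surjective ⟨y, hy⟩
  refine ⟨y', ?_⟩
  change (ψ ≫ U.ι) y' = y
  rw [Scheme.Hom.comp_apply, hy']
  rfl

/-- The direct image of a finite locally constant sheaf along a finite étale morphism is finite
locally constant. -/
theorem isLC_push_of_finite_etale (f : X ⟶ Y) [IsFinite f] [Etale f] {F : EtCoh.Ab X}
    (hF : IsLC Ab1.{u} PFin F) : IsLC Ab1.{u} PFin ((EtCoh.push f).obj F) := by
  choose V n hD hV using exists_splitData f
  refine isLC_of_cover_restr V (fun y => ?_) fun y => ?_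
  · obtain ⟨y', hy'⟩ := hV y
    exact ⟨y, y', hy'⟩
  · obtain ⟨D⟩ := hD y
    exact D.isLC_restr_push hF

theorem isFLC_push_of_finite_etale (f : X ⟶ Y) [IsFinite f] [Etale f] {F : EtCoh.Ab X}
    (hF : EtCoh.IsFiniteLocallyConstant F) :
    EtCoh.IsFiniteLocallyConstant ((EtCoh.push f).obj F) :=
  (isFLC_iff_isLC _).2 (isLC_push_of_finite_etale f ((isFLC_iff_isLC _).1 hF))

end Groth.Agent.Lib.EtFinEtPush22
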