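import Groth.Agent.Lib.EtConstrEtLocal22b
import Groth.Agent.Lib.EtFinEtPush22c
import Groth.Agent.Lib.EtConstrKer22

/-!
# Direct image of a constructible abelian sheaf along a finite étale morphism (helper22)

* `IsConstructibleA.of_forall_isLC`, `isConstructibleA_biprod`, `isConstructibleA_pi`;
* `isConstructible_push_of_finite_etale`.
-/

set_option autoImplicit false
set_option linter.style.haveILetI false
set_option linter.unusedSectionVars false
universe u

open CategoryTheory CategoryTheory.Limits AlgebraicGeometry MorphismProperty Opposite Topology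

namespace Groth.Agent.Lib.EtFinEtPush22

open Groth.Agent.Lib.EtOverSite22 Groth.Agent.Lib.EtLocConst22 Groth.Agent.Lib.EtLCKer22
  Groth.Agent.Lib.EtExt22 Groth.Agent.Lib.EtConstr22

variable {X : Scheme.{u}}

/-- A sheaf all of whose inverse images are locally constant is constructible. -/
theorem IsConstructibleA.of_forall_isLC {F : EtCoh.Ab X}
    (h : ∀ (T : Scheme.{u}) (g : T ⟶ X), IsLC Ab1.{u} PFin ((pullA Ab1.{u} g).obj F)) :
    IsConstructibleA Ab1.{u} PFin F := by
  intro U hU
  refine ⟨1, fun _ => U, fun _ => U.ι, fun _ => inferInstance, fun _ => ?_, ?_, ?_, fun _ => h _ _⟩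
  · have : (Subtype.val : ↥(U : Set X) → X) ⁻¹' Set.range U.ι = Set.univ := by
      ext x
      simp only [Scheme.Opens.range_ι, Set.mem_preimage, Set.mem_univ, iff_true]
      exact x.2
    rw [this]
    exact IsConstructible.univ
  · intro a b hab
    exact absurd (Subsingleton.elim a b) hab
  · ext x
    simp

theorem isConstructibleA_biprod {F G : EtCoh.Ab X} (hF : IsConstructibleA Ab1.{u} PFin F)
    (hG : IsConstructibleA Ab1.{u} PFin G) : IsConstructibleA Ab1.{u} PFin (F ⊞ G) := by
  refine IsConstructibleA.of_pair hF hG fun T g h1 h2 => ?_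
  let p := pullA Ab1.{u} g
  haveI : p.Additive := Functor.additive_of_preserves_binary_products _
  haveI : PreservesBiproductsOfShape WalkingPair p := PreservesFiniteBiproducts.preserves
  haveI : PreservesBinaryBiproducts p := preservesBinaryBiproducts_of_preservesBiproducts p
  exact (isLC_biprod h1 h2).of_iso (p.mapBiprod F G).symm

theorem isConstructibleA_pi : ∀ {d : ℕ} (H : Fin d → EtCoh.Ab X)
    (_ : ∀ i, IsConstructibleA Ab1.{u} PFin (H i)), IsConstructibleA Ab1.{u} PFin (∏ᶜ H)
  | 0, H, _ => by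
    apply IsConstructibleA.of_forall_isLC
    intro T g
    apply isLC_of_isZero
    let p := pullA Ab1.{u} g
    haveI : p.Additive := Functor.additive_of_preserves_binary_products _
    apply p.map_isZero
    exact (IsZero.iff_id_eq_zero _).2 (Pi.hom_ext _ _ fun i => Fin.elim0 i)
  | (d + 1), H, h => by
    have ih := isConstructibleA_pi (fun i : Fin d => H i.succ) (fun i => h i.succ)
    have h2 := isConstructibleA_biprod (h 0) ih
    let c₁ : Fan fun i : Fin d => H i.succ := Fan.mk _ (Pi.π (fun i : Fin d => H i.succ))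
    have t₁ : IsLimit c₁ := productIsProduct _
    let c₂ : BinaryFan (H 0) c₁.pt := (BinaryBiproduct.bicone (H 0) c₁.pt).toCone
    have t₂ : IsLimit c₂ := BinaryBiproduct.isLimit (H 0) c₁.pt
    have t := extendFanIsLimit H t₁ t₂
    have e : (H 0 ⊞ ∏ᶜ fun i : Fin d => H i.succ) ≅ ∏ᶜ H :=
      t.conePointUniqueUpToIso (productIsProduct H)
    exact h2.of_iso e

/-- For a split étale `V` over `Y`, the inverse image of `f_* F` on `V` is constructible. -/
theorem SplitData.isConstructibleA_pull_push {X Y : Scheme.{u}} {f : X ⟶ Y} {V : Y.Etale} {d : ℕ}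
    (D : SplitData f V d) {F : EtCoh.Ab X} (hF : IsConstructibleA Ab1.{u} PFin F) :
    IsConstructibleA Ab1.{u} PFin ((pullA Ab1.{u} (homX V)).obj ((EtCoh.push f).obj F)) := by
  have h1 : ∀ i, IsConstructibleA Ab1.{u} PFin (D.sheetRestr F i) := fun i =>
    (hF.pull (homX (D.A i))).of_iso ((pullIsoRestrA Ab1.{u} (D.A i)).app F)
  have h2 := isConstructibleA_pi (D.sheetRestr F) h1
  exact h2.of_iso ((D.restrPushIso F).symm ≪≫
    ((pullIsoRestrA Ab1.{u} V).app ((EtCoh.push f).obj F)).symm)

/-- The direct image of a constructible abelian sheaf along a finite étale morphism is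
constructible. -/
theorem isConstructible_push_of_finite_etale {X Y : Scheme.{u}} (f : X ⟶ Y) [IsFinite f] [Etale f]
    {F : EtCoh.Ab X} (hF : EtPBC.IsConstructible F) :
    EtPBC.IsConstructible ((EtCoh.push f).obj F) := by
  rw [isConstructible_iff] at hF ⊢
  let G := (EtCoh.push f).obj F
  refine IsConstructibleA.of_openCover (fun W : Y.affineOpens => (W : Y.Opens))
    (iSup_affineOpens_eq_top Y) fun W => ?_
  haveI : IsAffine (W.1 : Scheme.{u}) := W.2
  apply IsConstructibleA.of_etale_local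
  intro y
  obtain ⟨V, n, ⟨D⟩, v₀, hv₀⟩ := exists_splitData f (W.1.ι y)
  have hv₀W : v₀ ∈ V.hom ⁻¹ᵁ W.1 := by
    show V.hom v₀ ∈ W.1
    rw [hv₀]; exact y.2
  obtain ⟨V', hV', hv₀V', hle⟩ := exists_isAffineOpen_mem_and_subset (x := v₀) hv₀W
  haveI : IsAffine (V' : Scheme.{u}) := hV'
  have hr : Set.range (V'.ι ≫ V.hom) ⊆ Set.range W.1.ι := by
    rintro _ ⟨z, rfl⟩
    rw [Scheme.Opens.range_ι]
    exact hle z.2
  let π : (V' : Scheme.{u}) ⟶ (W.1 : Scheme.{u}) := IsOpenImmersion.lift W.1.ι (V'.ι ≫ V.hom) hr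
  have hπ : π ≫ W.1.ι = V'.ι ≫ V.hom := IsOpenImmersion.lift_fac _ _ _
  haveI : Etale V.hom := V.prop
  haveI : Etale π := EtCoh.etaleMP.of_postcomp (W' := EtCoh.etaleMP) π W.1.ι inferInstance (by
    rw [hπ]; infer_instance)
  refine ⟨V', π, ⟨v₀, hv₀V'⟩, inferInstance, inferInstance, inferInstance, ?_, ?_⟩
  · apply W.1.ι.injective
    have h1 : W.1.ι (π ⟨v₀, hv₀V'⟩) = (V'.ι ≫ V.hom) ⟨v₀, hv₀V'⟩ := by
      rw [← Scheme.Hom.comp_apply, hπ]
    rw [h1, Scheme.Hom.comp_apply]
    exact hv₀
  · have h1 : IsConstructibleA Ab1.{u} PFin ((pullA Ab1.{u} (homX V)).obj G) :=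
      D.isConstructibleA_pull_push hF
    have h2 : IsConstructibleA Ab1.{u} PFin
        ((pullA Ab1.{u} V'.ι).obj ((pullA Ab1.{u} (homX V)).obj G)) := h1.pull V'.ι
    have e : (pullA Ab1.{u} π).obj ((pullA Ab1.{u} W.1.ι).obj G) ≅
        (pullA Ab1.{u} V'.ι).obj ((pullA Ab1.{u} (homX V)).obj G) :=
      ((pullCompA Ab1.{u} π W.1.ι).app G).symm ≪≫ (pullCongrA Ab1.{u} hπ).app G ≪≫
        (pullCompA Ab1.{u} V'.ι V.hom).app G
    exact h2.of_iso e.symm

end Groth.Agent.Lib.EtFinEtPush22
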