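import Groth.Agent.Lib.EtStalkPull
import Groth.Agent.Lib.EtGermB

/-!
# Germ description of the stalk of an inverse image (helper39)

* general site lemmas: `toPresheafFiber_counit`, `unit_app_π`,
  `toPresheafFiber_sheafFiberComapIso_hom_app` (how Mathlib's `Point.sheafFiberComapIso` acts on
  germs: it is induced by the unit of the pullback-pushforward adjunction);
* `stalkPullIso_inv_germ`: under `(f⁻¹G)_ξ ≅ G_{f ξ}` the germ of `s ∈ G(U)` at `y` corresponds to the
  germ of `unit(s) ∈ (f⁻¹G)(U ×_Y X)` at the induced neighbourhood `pullNbhd f ξ y`;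
* `sieve_mem_of_forall_pt`, `section_eq_zero_of_forall_pt`, `section_ext_of_forall_pt`: pointwise
  criteria for covering sieves / vanishing of sections on the small etale site.
-/

set_option autoImplicit false
universe w v u

open CategoryTheory CategoryTheory.Limits AlgebraicGeometry Opposite

namespace Groth.Agent.Lib.EtStalkPullGerm

section general

open GrothendieckTopology GrothendieckTopology.Point

variable {C D : Type*} [Category* C] [Category* D]
  {K : GrothendieckTopology D}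
  (Φ : Point.{w} K)
variable {A : Type*} [Category.{v} A] [HasProducts.{w} A] [HasColimitsOfSize.{w, w} A]

lemma toPresheafFiber_counit (M : A) (X : D) (x : Φ.fiber.obj X) :
    Φ.toPresheafFiber X x (Φ.skyscraperSheafFunctor.obj M).obj ≫
      (Φ.skyscraperSheafAdjunction (A := A)).counit.app M = Pi.π _ x := by
  have : (Φ.skyscraperSheafAdjunction (A := A)).counit.app M =
      Φ.skyscraperPresheafHomEquiv.symm (𝟙 (Φ.skyscraperPresheaf M)) := by
    rw [← Adjunction.homEquiv_symm_id]
    exact Φ.skyscraperSheafAdjunction_homEquiv_symm_apply (𝟙 (Φ.skyscraperSheaf M))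
  rw [this]
  exact (Φ.toPresheafFiber_skyscraperPresheafHomEquiv_symm (𝟙 (Φ.skyscraperPresheaf M)) X x).trans
    (Category.id_comp _)

lemma unit_app_π (G : Sheaf K A) (X : D) (x : Φ.fiber.obj X) :
    ((Φ.skyscraperSheafAdjunction (A := A)).unit.app G).hom.app (op X) ≫ Pi.π _ x =
      Φ.toPresheafFiber X x G.obj := by
  have : ((Φ.skyscraperSheafAdjunction (A := A)).unit.app G).hom =
      Φ.skyscraperPresheafHomEquiv (𝟙 (Φ.presheafFiber.obj G.obj)) := by
    rw [← Adjunction.homEquiv_id]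
    exact Φ.skyscraperSheafAdjunction_homEquiv_apply_hom (𝟙 (Φ.presheafFiber.obj G.obj))
  rw [this]
  exact (Φ.skyscraperPresheafHomEquiv_app_π (𝟙 (Φ.presheafFiber.obj G.obj)) X x).trans
    (Category.comp_id _)

variable (F : C ⥤ D) [RepresentablyFlat F] {J : GrothendieckTopology C}
  (hF : CoverPreserving J K F)
  [InitiallySmall (F ⋙ Φ.fiber).Elements]
  [Functor.IsContinuous F J K]
variable [(F.sheafPushforwardContinuous A J K).IsRightAdjoint]

/-- `Point.sheafFiberComapIso` on germs: it is induced by the unit `G ⟶ F_* F^* G`. -/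
lemma toPresheafFiber_sheafFiberComapIso_hom_app (G : Sheaf J A) (X : C)
    (x : Φ.fiber.obj (F.obj X)) :
    (Φ.comap F hF).toPresheafFiber X x G.obj ≫ (Φ.sheafFiberComapIso F hF A).hom.app G =
      ((F.sheafAdjunctionContinuous A J K).unit.app G).hom.app (op X) ≫
        Φ.toPresheafFiber (F.obj X) x ((F.sheafPullback A J K).obj G).obj := by
  rw [sheafFiberComapIso_hom_app]
  have e1 := (Φ.comap F hF).toPresheafFiber_naturality
    ((F.sheafAdjunctionContinuous A J K).unit.app G).hom X x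
  have e2 := (Φ.comap F hF).toPresheafFiber_naturality
    ((F.sheafPushforwardContinuous A J K).map
            (Φ.skyscraperSheafAdjunction.unit.app ((F.sheafPullback A J K).obj G))).hom X x
  have e3 := (Φ.comap F hF).toPresheafFiber_naturality
    ((Φ.skyscraperSheafFunctorCompSheafPushforwardContinuous F hF A).hom.app
              (Φ.sheafFiber.obj ((F.sheafPullback A J K).obj G))).hom X x
  have e4 := toPresheafFiber_counit (Φ.comap F hF)
    (Φ.sheafFiber.obj ((F.sheafPullback A J K).obj G)) X x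
  have e5 := unit_app_π Φ ((F.sheafPullback A J K).obj G) (F.obj X) x
  erw [reassoc_of% e1, reassoc_of% e2, reassoc_of% e3, e4]
  congr 1
  refine Eq.trans ?_ e5
  congr 1
  exact Category.id_comp _

end general

section etale
open Groth.Agent.Lib.EtGerm Groth.Agent.Lib.EtStalkPull Groth.Agent.Lib.EtAbStalk

variable {X Y : Scheme.{u}} (f : X ⟶ Y) {Ω : Type u} [Field Ω] [IsSepClosed Ω]
  (ξ : Spec (CommRingCat.of Ω) ⟶ X)

/-- the neighbourhood of `ξ` in `U ×_Y X` induced by a neighbourhood of `f ξ` in `U` -/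
noncomputable def pullNbhd {U : Y.Etale} (y : Nbhd (ξ ≫ f) U) : Nbhd ξ ((EtCoh.bc f).obj U) :=
  (fiberIso f ξ).inv.app U y

/-- the neighbourhood of `f ξ` in `U` induced by a neighbourhood of `ξ` in `U ×_Y X` -/
noncomputable def pushNbhd {U : Y.Etale} (y : Nbhd ξ ((EtCoh.bc f).obj U)) : Nbhd (ξ ≫ f) U :=
  (fiberIso f ξ).hom.app U y

lemma pullNbhd_pushNbhd {U : Y.Etale} (y : Nbhd ξ ((EtCoh.bc f).obj U)) :
    pullNbhd f ξ (pushNbhd f ξ y) = y := by
  unfold pullNbhd pushNbhd
  generalize fiberIso f ξ = e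
  exact Iso.hom_inv_id_app_apply e U y

lemma pushNbhd_pullNbhd {U : Y.Etale} (y : Nbhd (ξ ≫ f) U) :
    pushNbhd f ξ (pullNbhd f ξ y) = y := by
  unfold pullNbhd pushNbhd
  generalize fiberIso f ξ = e
  exact Iso.inv_hom_id_app_apply e U y


lemma stalkPullIso_inv_app [EtCoh.BCCont f] (G : EtCoh.Ab Y) :
    (stalkPullIso f ξ).inv.app G =
      (GrothendieckTopology.Point.Hom.presheafFiber (A := AddCommGrpCat.{u + 1})
        (comapPtIso f ξ).hom).app G.obj ≫
      ((Scheme.pointSmallEtale ξ).sheafFiberComapIso (EtCoh.bc f) (EtCoh.coverPreserving_bc f)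
        AddCommGrpCat.{u + 1}).hom.app G := rfl

lemma toPresheafFiber_stalkPullIso_inv [EtCoh.BCCont f] (G : EtCoh.Ab Y) {U : Y.Etale}
    (y : Nbhd (ξ ≫ f) U) :
    (Scheme.pointSmallEtale (ξ ≫ f)).toPresheafFiber U y G.obj ≫ (stalkPullIso f ξ).inv.app G =
      ((EtCoh.pullPushAdj f).unit.app G).hom.app (op U) ≫
        (Scheme.pointSmallEtale ξ).toPresheafFiber ((EtCoh.bc f).obj U) (pullNbhd f ξ y)
          ((EtCoh.pull f).obj G).obj := by
  have h := toPresheafFiber_sheafFiberComapIso_hom_app (A := AddCommGrpCat.{u + 1})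
    (Scheme.pointSmallEtale ξ) (EtCoh.bc f) (EtCoh.coverPreserving_bc f) G U (pullNbhd f ξ y)
  refine Eq.trans ?_ h
  rw [stalkPullIso_inv_app, ← Category.assoc]
  congr 1
  exact (Scheme.pointSmallEtale (ξ ≫ f)).toPresheafFiber_presheafFiberDesc
    (A := AddCommGrpCat.{u + 1}) _ _ U y


/-- under `(f⁻¹G)_ξ ≅ G_{f ξ}`, germs of `G` correspond to germs of their images under the unit -/
lemma stalkPullIso_inv_germ [EtCoh.BCCont f] (G : EtCoh.Ab Y) {U : Y.Etale}
    (y : Nbhd (ξ ≫ f) U) (s : EtCoh.sect G U) :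
    (stalkPullIso f ξ).inv.app G (germ (ξ ≫ f) G y s) =
      germ ξ ((EtCoh.pull f).obj G) (pullNbhd f ξ y)
        (((EtCoh.pullPushAdj f).unit.app G).hom.app (op U) s) :=
  ConcreteCategory.congr_hom (toPresheafFiber_stalkPullIso_inv f ξ G y) s

lemma stalkPullIso_hom_germ [EtCoh.BCCont f] (G : EtCoh.Ab Y) {U : Y.Etale}
    (y : Nbhd ξ ((EtCoh.bc f).obj U)) (s : EtCoh.sect G U) :
    (stalkPullIso f ξ).hom.app G (germ ξ ((EtCoh.pull f).obj G) y
        (((EtCoh.pullPushAdj f).unit.app G).hom.app (op U) s)) =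
      germ (ξ ≫ f) G (pushNbhd f ξ y) s := by
  have h := stalkPullIso_inv_germ f ξ G (pushNbhd f ξ y) s
  rw [pullNbhd_pushNbhd] at h
  rw [← h]
  exact Iso.inv_hom_id_app_apply (stalkPullIso f ξ) G _

/-- the germ of `unit(s)` vanishes iff the germ of `s` does -/
lemma germ_unit_eq_zero_iff [EtCoh.BCCont f] (G : EtCoh.Ab Y) {U : Y.Etale}
    (y : Nbhd (ξ ≫ f) U) (s : EtCoh.sect G U) :
    germ ξ ((EtCoh.pull f).obj G) (pullNbhd f ξ y)
        (((EtCoh.pullPushAdj f).unit.app G).hom.app (op U) s) = 0 ↔ germ (ξ ≫ f) G y s = 0 := by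
  rw [← stalkPullIso_inv_germ]
  constructor
  · intro h
    have := congrArg ((stalkPullIso f ξ).hom.app G) h
    rw [map_zero] at this
    rw [← this]
    exact (Iso.inv_hom_id_app_apply (stalkPullIso f ξ) G _).symm
  · intro h
    rw [h, map_zero]

end etale


section pointwise

open Groth.Agent.Lib.EtGerm Groth.Agent.Lib.EtStalkConservative

variable {X : Scheme.{u}}

/-- a sieve of the small etale site is covering as soon as its members are jointly surjective -/
lemma sieve_mem_of_forall_pt {U : X.Etale} (S : Sieve U)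
    (h : ∀ u : U.left, ∃ (V : X.Etale) (g : V ⟶ U), S g ∧ u ∈ Set.range g.left) :
    S ∈ X.smallEtaleTopology U := by
  apply sieve_mem_of_forall_stdPt
  intro x t
  obtain ⟨V, g, hg, v, hv⟩ := h (Nbhd.pt (stdPt x) t)
  obtain ⟨z, hz, -⟩ := exists_nbhd_lift (stdPt x) g t v hv
  exact ⟨V, g, hg, z, hz⟩

/-- two sections agree if they agree etale locally around every point -/
lemma section_ext_of_forall_pt (F : EtCoh.Ab X) {U : X.Etale} (s s' : EtCoh.sect F U)
    (h : ∀ u : U.left, ∃ (V : X.Etale) (g : V ⟶ U), u ∈ Set.range g.left ∧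
      F.obj.map g.op s = F.obj.map g.op s') : s = s' := by
  refine (Sheaf.isSeparated F) U
    (Sieve.mk (fun V (g : V ⟶ U) => F.obj.map g.op s = F.obj.map g.op s') ?_) ?_ s s' ?_
  · intro V W g hg k
    show F.obj.map (k ≫ g).op s = F.obj.map (k ≫ g).op s'
    rw [op_comp, Functor.map_comp]
    exact congrArg (F.obj.map k.op) hg
  · apply sieve_mem_of_forall_pt
    intro u
    obtain ⟨V, g, hu, hg⟩ := h u
    exact ⟨V, g, hg, hu⟩
  · intro V g hg
    exact hg

/-- a section vanishes if it vanishes etale locally around every point -/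
lemma section_eq_zero_of_forall_pt (F : EtCoh.Ab X) {U : X.Etale} (s : EtCoh.sect F U)
    (h : ∀ u : U.left, ∃ (V : X.Etale) (g : V ⟶ U), u ∈ Set.range g.left ∧
      F.obj.map g.op s = 0) : s = 0 := by
  apply section_ext_of_forall_pt
  intro u
  obtain ⟨V, g, hu, hg⟩ := h u
  exact ⟨V, g, hu, by rw [hg, map_zero]⟩

/-- a section vanishes if at every point some germ of it at a geometric point vanishes -/
lemma section_eq_zero_of_forall_germ (F : EtCoh.Ab X) {U : X.Etale} (s : EtCoh.sect F U)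
    (h : ∀ u : U.left, ∃ (Ω : Type u) (_ : Field Ω) (_ : IsSepClosed Ω)
      (ξ : Spec (CommRingCat.of Ω) ⟶ X) (y : Nbhd ξ U), Nbhd.pt ξ y = u ∧ germ ξ F y s = 0) :
    s = 0 := by
  apply section_eq_zero_of_forall_pt
  intro u
  obtain ⟨Ω, _, _, ξ, y, hy, h0⟩ := h u
  obtain ⟨V, g, z, hz, hg⟩ := (germ_eq_zero_iff ξ F y s).1 h0
  refine ⟨V, g, ⟨Nbhd.pt ξ z, ?_⟩, hg⟩
  exact ((Nbhd.pt_map ξ g z).symm.trans (congrArg (Nbhd.pt ξ) hz)).trans hy

end pointwise

end Groth.Agent.Lib.EtStalkPullGerm
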