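import Mathlib
import Groth.Agent.Lib.EtStalkPullGerm

/-!
# Etale covers obtained by adjoining a root (helper39)

For an etale `X`-scheme `U`, an affine open `ι : Spec R ⟶ U` and a standard etale pair `P` over `R`:
* `rootCover U ι P : X.Etale` (with underlying scheme `Spec P.Ring`), `rootCoverHom U ι P`;
* `exists_point_rootCover`: if `P` has a root in the separable closure of the residue field at `𝔭`,
  then `Spec P.Ring ⟶ U` hits `ι 𝔭`;
* `rootCoverHom_appTop`: pullback of global functions along `Spec P.Ring ⟶ U`;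
* `epi_of_forall_exists_lift`: criterion for epimorphisms of abelian etale sheaves;
* `exists_affine_nbhd`.
Used for the Kummer and Artin–Schreier sequences.
-/

set_option autoImplicit false
universe u
open CategoryTheory CategoryTheory.Limits AlgebraicGeometry Opposite Polynomial

namespace Groth.Agent.Lib.EtRootCover

variable {X : Scheme.{u}} (U : X.Etale) {R : CommRingCat.{u}} (ι : Spec R ⟶ U.left)
  [IsOpenImmersion ι] (P : StandardEtalePair R)

/-- the structure morphism `Spec P.Ring ⟶ Spec R` -/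
noncomputable abbrev specMap : Spec (CommRingCat.of P.Ring) ⟶ Spec R :=
  Spec.map (CommRingCat.ofHom (algebraMap R P.Ring))

instance etale_specMap : Etale (specMap P) :=
  (HasRingHomProperty.Spec_iff (P := @Etale)).2 (RingHom.etale_algebraMap.2 inferInstance)

/-- the etale `X`-scheme `Spec P.Ring → Spec R ⊆ U → X` -/
noncomputable def rootCover : X.Etale :=
  Scheme.Etale.mk (specMap P ≫ ι ≫ U.hom)

/-- the morphism `Spec P.Ring → U` of `X.Etale` -/
noncomputable def rootCoverHom : rootCover U ι P ⟶ U :=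
  MorphismProperty.Over.homMk (specMap P ≫ ι) (Category.assoc _ _ _) trivial

lemma rootCoverHom_left : (rootCoverHom U ι P).left = specMap P ≫ ι := rfl

/-- a root of `P` in a field over a prime `𝔭` of `R` gives a point of `Spec P.Ring` over `𝔭` -/
lemma exists_point_specMap (𝔭 : Spec R) (K : Type u) [Field K] (ψ : R →+* K)
    (hψ : RingHom.ker ψ = 𝔭.asIdeal) (ω : K)
    (hω : letI := ψ.toAlgebra; P.HasMap ω) :
    ∃ w : Spec (CommRingCat.of P.Ring), (specMap P) w = 𝔭 := by
  let _ : Algebra R K := ψ.toAlgebra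
  let χ : P.Ring →ₐ[R] K := P.lift ω hω
  refine ⟨⟨RingHom.ker χ.toRingHom, RingHom.ker_isPrime _⟩, ?_⟩
  apply PrimeSpectrum.ext
  rw [← hψ]
  ext r
  show algebraMap R P.Ring r ∈ RingHom.ker χ.toRingHom ↔ _
  rw [RingHom.mem_ker, RingHom.mem_ker]
  have : χ.toRingHom (algebraMap R P.Ring r) = ψ r := χ.commutes r
  rw [this]


/-- pullback of global functions along `Spec P.Ring → U` -/
lemma rootCoverHom_appTop (s : Γ(U.left, ⊤)) :
    (rootCoverHom U ι P).left.appTop s =
      (Scheme.ΓSpecIso (CommRingCat.of P.Ring)).inv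
        (algebraMap R P.Ring ((Scheme.ΓSpecIso R).hom (ι.appTop s))) := by
  rw [rootCoverHom_left, Scheme.Hom.comp_appTop]
  have h := Scheme.ΓSpecIso_naturality (CommRingCat.ofHom (algebraMap R P.Ring))
  have h2 := (Iso.eq_comp_inv _).2 h
  have h3 := congrArg (fun k : Γ(Spec R, ⊤) ⟶ Γ(Spec (CommRingCat.of P.Ring), ⊤) => k (ι.appTop s)) h2
  exact h3

/-- the separable closure of the residue field at a prime, with the canonical map from `R` -/
noncomputable abbrev sepPt (𝔭 : PrimeSpectrum R) : R →+* SeparableClosure 𝔭.asIdeal.ResidueField :=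
  (algebraMap 𝔭.asIdeal.ResidueField (SeparableClosure 𝔭.asIdeal.ResidueField)).comp
    (algebraMap R 𝔭.asIdeal.ResidueField)

lemma ker_sepPt (𝔭 : PrimeSpectrum R) : RingHom.ker (sepPt 𝔭) = 𝔭.asIdeal := by
  ext r
  rw [RingHom.mem_ker]
  show algebraMap _ _ (algebraMap R 𝔭.asIdeal.ResidueField r) = 0 ↔ _
  rw [map_eq_zero_iff _ (algebraMap 𝔭.asIdeal.ResidueField
    (SeparableClosure 𝔭.asIdeal.ResidueField)).injective]
  rw [← RingHom.mem_ker, Ideal.ker_algebraMap_residueField]

/-- if `P` has a root in the separable closure of the residue field at `𝔭`, then `Spec P.Ring ⟶ U`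
is a morphism of `X.Etale` with a point over `ι 𝔭` -/
lemma exists_point_rootCover (𝔭 : PrimeSpectrum R)
    (ω : SeparableClosure 𝔭.asIdeal.ResidueField)
    (hω : letI := (sepPt 𝔭).toAlgebra; P.HasMap ω) :
    ∃ w : (rootCover U ι P).left, (rootCoverHom U ι P).left w = ι (show Spec R from 𝔭) := by
  obtain ⟨w, hw⟩ := exists_point_specMap P 𝔭 _ (sepPt 𝔭) (ker_sepPt 𝔭) ω hω
  refine ⟨w, ?_⟩
  rw [rootCoverHom_left]
  show ι ((specMap P) w) = ι (show Spec R from 𝔭)
  rw [hw]


open Groth.Agent.Lib.EtStalkPullGerm in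
/-- a morphism of abelian etale sheaves is an epimorphism as soon as every section of the target
lifts, around every point, after passing to a morphism of `X.Etale` hitting that point -/
lemma epi_of_forall_exists_lift {G G' : EtCoh.Ab X} (Φ : G ⟶ G')
    (h : ∀ (V : X.Etale) (a : EtCoh.sect G' V) (v : V.left), ∃ (W : X.Etale) (g : W ⟶ V)
      (b : EtCoh.sect G W), v ∈ Set.range g.left ∧ Φ.hom.app (op W) b = G'.obj.map g.op a) :
    Epi Φ := by
  have : Presheaf.IsLocallySurjective X.smallEtaleTopology Φ.hom := ⟨fun {V} a => by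
    apply sieve_mem_of_forall_pt
    intro v
    obtain ⟨W, g, b, hv, hb⟩ := h V a v
    exact ⟨W, g, ⟨b, hb⟩, hv⟩⟩
  have : Sheaf.IsLocallySurjective Φ := this
  exact (Sheaf.isLocallySurjective_iff_epi' (φ := Φ)).1 this

/-- every point of an etale `X`-scheme lies in an affine open -/
lemma exists_affine_nbhd (V : X.Etale) (v : V.left) :
    ∃ (R : CommRingCat.{u}) (ι : Spec R ⟶ V.left) (_ : IsOpenImmersion ι) (𝔭 : PrimeSpectrum R),
      ι (show Spec R from 𝔭) = v := by
  obtain ⟨R, ι, hι, ⟨𝔭, h𝔭⟩, -⟩ := AlgebraicGeometry.Scheme.exists_affine_mem_range_and_range_subset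
    (show v ∈ (⊤ : V.left.Opens) from trivial)
  exact ⟨R, ι, hι, 𝔭, h𝔭⟩

end Groth.Agent.Lib.EtRootCover
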