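import Groth.Agent.Lib.EtConst
import Groth.Agent.Lib.EtRootCover
import Groth.Agent.Lib.EtGermB
import Groth.Prelude.Def_EtGm
import Mathlib.RingTheory.Polynomial.Cyclotomic.Roots

set_option autoImplicit false
universe u
open CategoryTheory CategoryTheory.Limits AlgebraicGeometry Opposite

namespace Groth.Agent.Lib.EtMuConst

/-- if `(w - 1) * g = 0` then `w = 1` on the basic open of `g` -/
lemma appTop_eq_one_of_mul_eq_zero {Y : Scheme.{u}} (w g : Γ(Y, ⊤)) (h : (w - 1) * g = 0) :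
    (Y.basicOpen g).ι.appTop.hom w = 1 := by
  have hg : IsUnit ((Y.basicOpen g).ι.appTop.hom g) := by
    have h1 := RingedSpace.isUnit_res_basicOpen Y.toRingedSpace g
    have h2 : (Y.basicOpen g).ι.appTop = Y.presheaf.map (homOfLE (Y.basicOpen_le g)).op ≫
        Y.presheaf.map (eqToHom (Y.basicOpen g).ι_image_top).op := by
      rw [Scheme.Opens.ι_appTop, ← Functor.map_comp]
      rfl
    rw [h2]
    exact h1.map (Y.presheaf.map (eqToHom (Y.basicOpen g).ι_image_top).op).hom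
  have h3 : (Y.basicOpen g).ι.appTop.hom (w - 1) * (Y.basicOpen g).ι.appTop.hom g = 0 := by
    rw [← map_mul, h, map_zero]
  have h4 := (hg.mul_left_eq_zero).1 h3
  rwa [map_sub, map_one, sub_eq_zero] at h4

/-- a root of the `n`-th cyclotomic polynomial maps to a primitive `n`-th root of unity in any
field in which `n` is nonzero -/
lemma isPrimitiveRoot_of_cyclotomic {A K : Type*} [CommRing A] [Field K] (φ : A →+* K) (n : ℕ)
    (hn : (n : K) ≠ 0) (ζ : A) (hζ : Polynomial.aeval ζ (Polynomial.cyclotomic n ℤ) = 0) :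
    IsPrimitiveRoot (φ ζ) n := by
  have : NeZero (n : K) := ⟨hn⟩
  rw [← Polynomial.isRoot_cyclotomic_iff, ← Polynomial.map_cyclotomic_int, Polynomial.IsRoot.def,
    Polynomial.eval_map]
  have h := congrArg φ hζ
  rw [map_zero, Polynomial.aeval_def, Polynomial.hom_eval₂] at h
  have h5 : Int.castRingHom K = φ.comp (algebraMap ℤ A) := Subsingleton.elim _ _
  rw [h5]
  exact h

lemma pow_eq_one_of_cyclotomic {A : Type*} [CommRing A] (n : ℕ) (ζ : A)
    (hζ : Polynomial.aeval ζ (Polynomial.cyclotomic n ℤ) = 0) : ζ ^ n = 1 := by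
  obtain ⟨q, hq⟩ := Polynomial.cyclotomic.dvd_X_pow_sub_one n ℤ
  have := congrArg (Polynomial.aeval ζ) hq
  rw [map_mul, hζ, zero_mul] at this
  simpa [sub_eq_zero] using this


/-- roots of unity are locally powers of a fixed root `z` that is primitive at the given point -/
lemma exists_basicOpen_pow_eq {Y : Scheme.{u}} (n : ℕ) (hn : 1 ≤ n) (z a : (Γ(Y, ⊤))ˣ)
    (ha : a ^ n = 1) (hz : z ^ n = 1) (y : Y)
    (hprim : IsPrimitiveRoot ((Y.evaluation ⊤ y trivial).hom (z : Γ(Y, ⊤))) n)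
    (hnK : (n : Y.residueField y) ≠ 0) :
    ∃ (k : ℕ) (g : Γ(Y, ⊤)), y ∈ Y.basicOpen g ∧
      Units.map (Y.basicOpen g).ι.appTop.hom.toMonoidHom a =
        Units.map (Y.basicOpen g).ι.appTop.hom.toMonoidHom (z ^ k) := by
  have : NeZero n := ⟨by omega⟩
  let ev : Γ(Y, ⊤) →+* Y.residueField y := (Y.evaluation ⊤ y trivial).hom
  have hev : (ev (a : Γ(Y, ⊤))) ^ n = 1 := by
    rw [← map_pow, ← Units.val_pow_eq_pow_val, ha, Units.val_one, map_one]
  obtain ⟨k, -, hk⟩ := hprim.eq_pow_of_pow_eq_one hev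
  let w : (Γ(Y, ⊤))ˣ := a * (z ^ k)⁻¹
  have hwn : (w : Γ(Y, ⊤)) ^ n = 1 := by
    rw [← Units.val_pow_eq_pow_val, mul_pow, ha, inv_pow, ← pow_mul, mul_comm k n, pow_mul, hz,
      one_pow, inv_one, mul_one, Units.val_one]
  have hevw : ev (w : Γ(Y, ⊤)) = 1 := by
    have h1 : ev (w : Γ(Y, ⊤)) * ev ((z ^ k : (Γ(Y, ⊤))ˣ) : Γ(Y, ⊤)) = ev (a : Γ(Y, ⊤)) := by
      rw [← map_mul, ← Units.val_mul]
      congr 2
      simp [w]
    have h2 : ev ((z ^ k : (Γ(Y, ⊤))ˣ) : Γ(Y, ⊤)) = ev (a : Γ(Y, ⊤)) := by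
      rw [Units.val_pow_eq_pow_val, map_pow]
      exact hk
    rw [h2] at h1
    have h3 : ev (a : Γ(Y, ⊤)) ≠ 0 := (a.isUnit.map ev).ne_zero
    exact mul_right_cancel₀ h3 (h1.trans (one_mul _).symm)
  let g : Γ(Y, ⊤) := ∑ i ∈ Finset.range n, (w : Γ(Y, ⊤)) ^ i
  have hevg : ev g = (n : Y.residueField y) := by
    simp [g, map_sum, map_pow, hevw]
  have hyg : y ∈ Y.basicOpen g := by
    refine (Scheme.evaluation_ne_zero_iff_mem_basicOpen Y (U := ⊤) y trivial g).1 ?_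
    show ev g ≠ 0
    rw [hevg]
    exact hnK
  have hmul : ((w : Γ(Y, ⊤)) - 1) * g = 0 := by
    rw [mul_geom_sum, hwn, sub_self]
  have h1 := appTop_eq_one_of_mul_eq_zero (w : Γ(Y, ⊤)) g hmul
  refine ⟨k, g, hyg, ?_⟩
  have h2 : Units.map (Y.basicOpen g).ι.appTop.hom.toMonoidHom w = 1 := by
    apply Units.ext
    exact h1
  have h3 : a = w * z ^ k := by simp [w]
  rw [h3, map_mul, h2, one_mul]


open Groth.Agent.Lib.EtConst Groth.Agent.Lib.EtGerm
  Groth.Agent.Lib.EtStalkPullGerm Groth.Agent.Lib.EtRootCover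

section construction

variable {S : Scheme.{u}} (n : ℕ) (ζ : (Γ(S, ⊤))ˣ) (hζ : ζ ^ n = 1)

/-- the root of unity `ζ` over an etale `S`-scheme -/
noncomputable def zetaU (U : S.Etale) : (Γ(U.left, ⊤))ˣ :=
  Units.map U.hom.appTop.hom.toMonoidHom ζ

lemma zetaU_res {U V : S.Etale} (g : V ⟶ U) :
    Units.map g.left.appTop.hom.toMonoidHom (zetaU ζ U) = zetaU ζ V := by
  apply Units.ext
  show g.left.appTop.hom (U.hom.appTop.hom (ζ : Γ(S, ⊤))) = V.hom.appTop.hom (ζ : Γ(S, ⊤))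
  have hw : g.left ≫ U.hom = V.hom := Over.w g.hom
  rw [← hw, Scheme.Hom.comp_appTop]
  rfl

include hζ in
lemma zetaU_pow (U : S.Etale) : zetaU ζ U ^ n = 1 := by
  rw [zetaU, ← map_pow, hζ, map_one]

/-- `k ↦ ζ^k` as a map `ℤ/n → Γ(U)ˣ` -/
noncomputable def etaLift (U : S.Etale) : ZMod n →+ Additive (Γ(U.left, ⊤))ˣ :=
  ZMod.lift n ⟨zmultiplesHom _ (Additive.ofMul (zetaU ζ U)), by
    show (n : ℤ) • Additive.ofMul (zetaU ζ U) = 0
    rw [natCast_zsmul, ← ofMul_pow, zetaU_pow n ζ hζ U, ofMul_one]⟩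

lemma etaLift_intCast (U : S.Etale) (k : ℤ) :
    etaLift n ζ hζ U (k : ZMod n) = Additive.ofMul (zetaU ζ U ^ k) := by
  rw [etaLift, ZMod.lift_coe]
  rfl

/-- `k ↦ ζ^k` as a map `ℤ/n → G_m(U)` -/
noncomputable def etaFun (U : S.Etale) :
    ULift.{u + 1} (ZMod n) →+ EtCoh.sect (EtCoh.Gm S) U :=
  (AddEquiv.ulift (α := Additive (Γ(U.left, ⊤))ˣ)).symm.toAddMonoidHom.comp
    ((etaLift n ζ hζ U).comp AddEquiv.ulift.toAddMonoidHom)

lemma etaFun_intCast (U : S.Etale) (k : ℤ) :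
    etaFun n ζ hζ U ⟨(k : ZMod n)⟩ = ⟨Additive.ofMul (zetaU ζ U ^ k)⟩ := by
  apply ULift.ext
  exact etaLift_intCast n ζ hζ U k

lemma etaFun_res {U V : S.Etale} (g : V ⟶ U) (m : ULift.{u + 1} (ZMod n)) :
    (EtCoh.Gm S).obj.map g.op (etaFun n ζ hζ U m) = etaFun n ζ hζ V m := by
  obtain ⟨k⟩ := m
  obtain ⟨k, rfl⟩ := ZMod.intCast_surjective k
  rw [etaFun_intCast, etaFun_intCast, ← zetaU_res ζ g, ← map_zpow]
  rfl

/-- the map from the constant presheaf `ℤ/n` to `G_m` -/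
noncomputable def etaPre :
    constPre S (AddCommGrpCat.of (ULift.{u + 1} (ZMod n))) ⟶ (EtCoh.Gm S).obj where
  app U := AddCommGrpCat.ofHom (etaFun n ζ hζ U.unop)
  naturality U V g := by
    ext m
    exact (etaFun_res n ζ hζ g.unop m).symm

/-- the map `ℤ/n → G_m`, `k ↦ ζ^k` -/
noncomputable def psi' : constSh S (AddCommGrpCat.of (ULift.{u + 1} (ZMod n))) ⟶ EtCoh.Gm S :=
  constLift (EtCoh.Gm S) (etaPre n ζ hζ)

lemma psi'_constSec (U : S.Etale) (m : ULift.{u + 1} (ZMod n)) :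
    (psi' n ζ hζ).hom.app (op U) (constSec _ U m) = etaFun n ζ hζ U m :=
  constLift_constSec (EtCoh.Gm S) (etaPre n ζ hζ) U m

lemma psi'_powMap : psi' n ζ hζ ≫ EtCoh.powMap S n = 0 := by
  apply const_hom_ext
  intro U m
  have h1 : (psi' n ζ hζ ≫ EtCoh.powMap S n).hom.app (op U) (constSec _ U m) =
      (EtCoh.powMap S n).hom.app (op U) ((psi' n ζ hζ).hom.app (op U) (constSec _ U m)) := rfl
  have h2 : ∀ x : EtCoh.sect (EtCoh.Gm S) U, (EtCoh.powMap S n).hom.app (op U) x = n • x := by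
    intro x
    unfold EtCoh.powMap
    rfl
  rw [h1, psi'_constSec, h2, ← map_nsmul]
  have h3 : n • m = 0 := by
    apply ULift.ext
    show n • m.down = 0
    simp
  rw [h3, map_zero]
  rfl

end construction

/-- sections of a monomorphism of abelian etale sheaves are injective -/
lemma injective_app_of_mono {X : Scheme.{u}} {F G : EtCoh.Ab X} (v : F ⟶ G) [Mono v]
    (U : X.Etale) : Function.Injective (v.hom.app (op U)) := by
  have h1 : Mono v.hom := inferInstance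
  have h2 : Mono (v.hom.app (op U)) := inferInstance
  exact (AddCommGrpCat.mono_iff_injective _).1 h2

/-- a morphism of abelian etale sheaves which is injective on sections is a monomorphism -/
lemma mono_of_injective_app {X : Scheme.{u}} {F G : EtCoh.Ab X} (v : F ⟶ G)
    (h : ∀ U : X.Etale, Function.Injective (v.hom.app (op U))) : Mono v := by
  have h1 : ∀ U : X.Etaleᵒᵖ, Mono (v.hom.app U) := fun U =>
    (AddCommGrpCat.mono_iff_injective _).2 (h U.unop)
  have h2 : Mono v.hom := NatTrans.mono_of_mono_app _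
  exact Sheaf.Hom.mono_of_presheaf_mono _ _ v

section main

variable (S : Scheme.{u}) (n : ℕ) (hn : 1 ≤ n) (hunit : IsUnit (n : Γ(S, ⊤))) (ζ0 : Γ(S, ⊤))
  (hζ0 : Polynomial.aeval ζ0 (Polynomial.cyclotomic n ℤ) = 0)

include hunit hζ0 in
/-- at every point of an etale `S`-scheme, `n` is invertible and `ζ` is a primitive root -/
lemma pointwise (ζ : (Γ(S, ⊤))ˣ) (hζv : (ζ : Γ(S, ⊤)) = ζ0) (U : S.Etale) (x : U.left) :
    (n : U.left.residueField x) ≠ 0 ∧
      IsPrimitiveRoot ((U.left.evaluation ⊤ x trivial).hom (zetaU ζ U : Γ(U.left, ⊤))) n := by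
  let φ : Γ(S, ⊤) →+* U.left.residueField x :=
    (U.left.evaluation ⊤ x trivial).hom.comp U.hom.appTop.hom
  have hnK : (n : U.left.residueField x) ≠ 0 := by
    have := hunit.map φ
    rw [map_natCast] at this
    exact this.ne_zero
  refine ⟨hnK, ?_⟩
  have := isPrimitiveRoot_of_cyclotomic φ n hnK ζ0 hζ0
  rw [← hζv] at this
  exact this


include hn hunit hζ0 in
/-- `k ↦ ζ^k : ℤ/n → G_m` is a monomorphism -/
lemma mono_psi' (ζ : (Γ(S, ⊤))ˣ) (hζv : (ζ : Γ(S, ⊤)) = ζ0) (hζ : ζ ^ n = 1) :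
    Mono (psi' n ζ hζ) := by
  have : NeZero n := ⟨by omega⟩
  apply mono_of_injective_app
  intro U
  rw [injective_iff_map_eq_zero]
  intro s hs
  apply section_eq_zero_of_forall_pt
  intro x
  obtain ⟨V, g, m, hx, hm⟩ := exists_constSec_eq_pt _ s x
  refine ⟨V, g, hx, ?_⟩
  rw [hm]
  -- `ψ'(constSec m) = 0`
  have h1 : (psi' n ζ hζ).hom.app (op V) (constSec _ V m) = 0 := by
    rw [← hm]
    have hnat := (psi' n ζ hζ).hom.naturality g.op
    have h2 := congrArg (fun f => f.hom s) hnat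
    refine h2.trans ?_
    show (EtCoh.Gm S).obj.map g.op ((psi' n ζ hζ).hom.app (op U) s) = 0
    rw [hs, map_zero]
  rw [psi'_constSec] at h1
  obtain ⟨k⟩ := m
  obtain ⟨k, rfl⟩ := ZMod.intCast_surjective k
  rw [etaFun_intCast] at h1
  have h3 : zetaU ζ V ^ k = 1 := by
    have := congrArg (fun t => Additive.toMul (ULift.down t)) h1
    exact this
  obtain ⟨v, -⟩ := hx
  obtain ⟨-, hprim⟩ := pointwise S n hunit ζ0 hζ0 ζ hζv V v
  have h4 : ((V.left.evaluation ⊤ v trivial).hom (zetaU ζ V : Γ(V.left, ⊤))) ^ k = 1 := by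
    have := congrArg (fun t : (Γ(V.left, ⊤))ˣ =>
      (Units.map (V.left.evaluation ⊤ v trivial).hom.toMonoidHom t : V.left.residueField v)) h3
    simpa using this
  have h5 := (hprim.zpow_eq_one_iff_dvd k).1 h4
  have h6 : ((k : ℤ) : ZMod n) = 0 := (ZMod.intCast_zmod_eq_zero_iff_dvd k n).2 h5
  rw [h6]
  exact map_zero _


/-- the comparison map `ℤ/n → μ_n` -/
noncomputable def psi (ζ : (Γ(S, ⊤))ˣ) (hζ : ζ ^ n = 1) :
    constSh S (AddCommGrpCat.of (ULift.{u + 1} (ZMod n))) ⟶ EtCoh.mu S n :=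
  kernel.lift (EtCoh.powMap S n) (psi' n ζ hζ) (psi'_powMap n ζ hζ)

lemma psi_muι (ζ : (Γ(S, ⊤))ˣ) (hζ : ζ ^ n = 1) :
    psi S n ζ hζ ≫ EtCoh.muι S n = psi' n ζ hζ :=
  kernel.lift_ι _ _ _

include hn hunit hζ0 in
lemma epi_psi (ζ : (Γ(S, ⊤))ˣ) (hζv : (ζ : Γ(S, ⊤)) = ζ0) (hζ : ζ ^ n = 1) :
    Epi (psi S n ζ hζ) := by
  apply epi_of_forall_exists_lift
  intro V a v
  -- the unit
  let b0 : EtCoh.sect (EtCoh.Gm S) V := (EtCoh.muι S n).hom.app (op V) a
  let a0 : (Γ(V.left, ⊤))ˣ := Additive.toMul b0.down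
  have hb0 : b0 = ⟨Additive.ofMul a0⟩ := rfl
  have ha0 : a0 ^ n = 1 := by
    have hc : EtCoh.muι S n ≫ EtCoh.powMap S n = 0 := kernel.condition _
    have h1 := congrArg (fun f : EtCoh.mu S n ⟶ EtCoh.Gm S => f.hom.app (op V) a) hc
    have h2 : (EtCoh.powMap S n).hom.app (op V) b0 = 0 := h1
    have h3 : (EtCoh.powMap S n).hom.app (op V) b0 = n • b0 := by
      unfold EtCoh.powMap
      rfl
    rw [h3] at h2
    have := congrArg (fun t => Additive.toMul (ULift.down t)) h2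
    exact this
  obtain ⟨hnK, hprim⟩ := pointwise S n hunit ζ0 hζ0 ζ hζv V v
  obtain ⟨k, g, hvg, hk⟩ := exists_basicOpen_pow_eq n hn (zetaU ζ V) a0 ha0
    (zetaU_pow n ζ hζ V) v hprim hnK
  refine ⟨openSub V (V.left.basicOpen g), openSubι V (V.left.basicOpen g),
    constSec _ _ ⟨((k : ℤ) : ZMod n)⟩, ⟨⟨v, hvg⟩, rfl⟩, ?_⟩
  have hmono : Mono (EtCoh.muι S n) := by
    unfold EtCoh.muι
    exact equalizer.ι_mono
  apply injective_app_of_mono (EtCoh.muι S n)
  -- left side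
  have hL : (EtCoh.muι S n).hom.app (op (openSub V (V.left.basicOpen g)))
      ((psi S n ζ hζ).hom.app (op (openSub V (V.left.basicOpen g)))
        (constSec _ _ ⟨((k : ℤ) : ZMod n)⟩)) =
      ⟨Additive.ofMul (zetaU ζ (openSub V (V.left.basicOpen g)) ^ (k : ℤ))⟩ := by
    have h1 := congrArg (fun f : constSh S (AddCommGrpCat.of (ULift.{u + 1} (ZMod n))) ⟶ EtCoh.Gm S =>
      f.hom.app (op (openSub V (V.left.basicOpen g))) (constSec _ _ ⟨((k : ℤ) : ZMod n)⟩))
      (psi_muι S n ζ hζ)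
    refine h1.trans ?_
    rw [psi'_constSec, etaFun_intCast]
  -- right side
  have hR : (EtCoh.muι S n).hom.app (op (openSub V (V.left.basicOpen g)))
      ((EtCoh.mu S n).obj.map (openSubι V (V.left.basicOpen g)).op a) =
      ⟨Additive.ofMul (Units.map (V.left.basicOpen g).ι.appTop.hom.toMonoidHom a0)⟩ := by
    have hnat := (EtCoh.muι S n).hom.naturality (openSubι V (V.left.basicOpen g)).op
    have h2 := congrArg (fun f => f.hom a) hnat
    refine h2.trans ?_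
    show (EtCoh.Gm S).obj.map (openSubι V (V.left.basicOpen g)).op b0 = _
    rw [hb0]
    rfl
  rw [hL, hR, hk, zpow_natCast, map_pow, ← zetaU_res ζ (openSubι V (V.left.basicOpen g))]
  rfl

include hn hunit hζ0 in
/-- `μ_n ≅ ℤ/n` when a root of the `n`-th cyclotomic polynomial is given and `n` is invertible -/
theorem nonempty_mu_iso_const : Nonempty (EtCoh.mu S n ≅ EtCoh.const S (ZMod n)) := by
  have h1 : ζ0 ^ n = 1 := pow_eq_one_of_cyclotomic n ζ0 hζ0
  let ζ : (Γ(S, ⊤))ˣ := Units.ofPowEqOne ζ0 n h1 (by omega)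
  have hζv : (ζ : Γ(S, ⊤)) = ζ0 := rfl
  have hζ : ζ ^ n = 1 := by
    apply Units.ext
    rw [Units.val_pow_eq_pow_val, hζv, h1, Units.val_one]
  have hm' : Mono (psi' n ζ hζ) := mono_psi' S n hn hunit ζ0 hζ0 ζ hζv hζ
  have hm : Mono (psi S n ζ hζ) := by
    have := psi_muι S n ζ hζ
    rw [← this] at hm'
    exact mono_of_mono (psi S n ζ hζ) (EtCoh.muι S n)
  have he : Epi (psi S n ζ hζ) := epi_psi S n hn hunit ζ0 hζ0 ζ hζv hζ
  have hi : IsIso (psi S n ζ hζ) := isIso_of_mono_of_epi _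
  exact ⟨(asIso (psi S n ζ hζ)).symm⟩

end main


end Groth.Agent.Lib.EtMuConst
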