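import Groth.Agent.Lib.EtStalkPullGerm
import Groth.Agent.Lib.EtMuConst

/-!
# Detecting isomorphisms of abelian etale sheaves on stalks at arbitrary geometric points (helper39)

Any family of geometric points hitting every point of `X` is conservative:
`mono_of_forall_geomPt`, `epi_of_forall_geomPt`, `isIso_of_forall_geomPt`.
Also `algPt x`, the geometric point with field the algebraic closure of `κ(x)`.
-/

set_option autoImplicit false
universe u
open CategoryTheory CategoryTheory.Limits AlgebraicGeometry Opposite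

namespace Groth.Agent.Lib.EtGeomPtConservative39

open Groth.Agent.Lib.EtGerm Groth.Agent.Lib.EtStalkPullGerm Groth.Agent.Lib.EtAbStalk

variable {X : Scheme.{u}}

/-- the geometric point at `x` with field the algebraic closure of `κ(x)` -/
noncomputable def algPt (x : X) : Spec (.of (AlgebraicClosure (X.residueField x))) ⟶ X :=
  (Scheme.SpecToEquivOfField (AlgebraicClosure (X.residueField x)) _).2
    ⟨x, CommRingCat.ofHom (algebraMap (X.residueField x) _)⟩

lemma algPt_default (x : X) : algPt x default = x := by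
  simp [algPt, Scheme.SpecToEquivOfField]

variable {F G : EtCoh.Ab X} (v : F ⟶ G)

lemma mono_of_forall_geomPt
    (h : ∀ x : X, ∃ (Ω : Type u) (_ : Field Ω) (_ : IsSepClosed Ω)
      (ξ : Spec (CommRingCat.of Ω) ⟶ X), ξ default = x ∧
        Function.Injective ((EtCoh.stalk ξ).map v)) : Mono v := by
  apply Groth.Agent.Lib.EtMuConst.mono_of_injective_app
  intro U
  rw [injective_iff_map_eq_zero]
  intro s hs
  apply section_eq_zero_of_forall_germ
  intro u
  obtain ⟨Ω, _, _, ξ, hξ, hinj⟩ := h (U.hom u)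
  obtain ⟨y, hy⟩ := exists_nbhd_of_pt ξ U u hξ.symm
  refine ⟨Ω, inferInstance, inferInstance, ξ, y, hy, ?_⟩
  apply hinj
  rw [germ_naturality, hs, map_zero, map_zero]

lemma epi_of_forall_geomPt
    (h : ∀ x : X, ∃ (Ω : Type u) (_ : Field Ω) (_ : IsSepClosed Ω)
      (ξ : Spec (CommRingCat.of Ω) ⟶ X), ξ default = x ∧
        Function.Surjective ((EtCoh.stalk ξ).map v)) : Epi v := by
  have : Presheaf.IsLocallySurjective X.smallEtaleTopology v.hom := ⟨fun {U} t => by
    apply sieve_mem_of_forall_pt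
    intro u
    obtain ⟨Ω, _, _, ξ, hξ, hsurj⟩ := h (U.hom u)
    obtain ⟨y, hy⟩ := exists_nbhd_of_pt ξ U u hξ.symm
    obtain ⟨σ, hσ⟩ := hsurj (germ ξ G y t)
    obtain ⟨W, w, s, rfl⟩ := germ_jointly_surjective ξ F σ
    rw [germ_naturality] at hσ
    obtain ⟨V₀, a, b, z, hza, hzb⟩ := exists_common_nbhd ξ w y
    have e : germ ξ G z (G.obj.map a.op (v.hom.app (op W) s)) =
        germ ξ G z (G.obj.map b.op t) := by
      rw [germ_res, germ_res, hza, hzb, hσ]
    obtain ⟨V, c, z', hz', hc⟩ := (germ_eq_iff ξ G z _ _).1 e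
    refine ⟨V, c ≫ b, ⟨F.obj.map (c ≫ a).op s, ?_⟩, ⟨Nbhd.pt ξ z', ?_⟩⟩
    · have n1 := NatTrans.naturality_apply v.hom (c ≫ a).op s
      rw [n1, op_comp, Functor.map_comp, op_comp, Functor.map_comp]
      exact hc
    · have h1 : Nbhd.pt ξ (Nbhd.map ξ (c ≫ b) z') = (c ≫ b).left (Nbhd.pt ξ z') :=
        Nbhd.pt_map ξ (c ≫ b) z'
      rw [← h1]
      have h2 : Nbhd.map ξ (c ≫ b) z' = Nbhd.map ξ b (Nbhd.map ξ c z') :=
        ConcreteCategory.congr_hom ((Scheme.pointSmallEtale ξ).fiber.map_comp c b) z'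
      rw [h2, hz', hzb, hy]⟩
  have : Sheaf.IsLocallySurjective v := this
  exact (Sheaf.isLocallySurjective_iff_epi' (φ := v)).1 this

lemma isIso_of_forall_geomPt
    (h : ∀ x : X, ∃ (Ω : Type u) (_ : Field Ω) (_ : IsSepClosed Ω)
      (ξ : Spec (CommRingCat.of Ω) ⟶ X), ξ default = x ∧
        Function.Bijective ((EtCoh.stalk ξ).map v)) : IsIso v := by
  have : Mono v := mono_of_forall_geomPt v (fun x => by
    obtain ⟨Ω, i1, i2, ξ, hξ, hb⟩ := h x
    exact ⟨Ω, i1, i2, ξ, hξ, hb.1⟩)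
  have : Epi v := epi_of_forall_geomPt v (fun x => by
    obtain ⟨Ω, i1, i2, ξ, hξ, hb⟩ := h x
    exact ⟨Ω, i1, i2, ξ, hξ, hb.2⟩)
  exact isIso_of_mono_of_epi v

end Groth.Agent.Lib.EtGeomPtConservative39
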