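import Groth.Agent.Lib.EtSuppConstr22
import Groth.Agent.Lib.EtGeomPtConservative39
import Groth.Agent.Lib.ConsAtoms22
import Groth.Agent.Lib.EtFinEtPushConstr22

/-!
# Finite generation of constructible abelian etale sheaves on qcqs schemes (helper34)

* `exists_stalk_iso`: the geometric stalks of a constructible sheaf over a point `x` are all
  isomorphic to one finite group;
* `isConstructible_biproduct`: finite biproducts of constructible sheaves are constructible;
* `exists_fin_epi`: if a family of maps `ψ i : C i ⟶ F` from constructible sheaves to a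
  constructible sheaf hits every element of one geometric stalk over every point, then a finite
  subfamily is jointly epimorphic.
-/

set_option autoImplicit false
universe u

open CategoryTheory CategoryTheory.Limits AlgebraicGeometry Opposite Topology

namespace Groth.Agent.Lib.ConstrFG34

open Groth.Agent.Lib.EtOverSite22 Groth.Agent.Lib.EtLocConst22 Groth.Agent.Lib.EtConstr22
  Groth.Agent.Lib.EtSuppConstr22 Groth.Agent.Lib.EtLCKer22 Groth.Agent.Lib.EtFinEtPush22
  Groth.Agent.Lib.EtGeomPtConservative39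

variable {X : Scheme.{u}} [CompactSpace X] [QuasiSeparatedSpace X]

/-- all geometric stalks of a constructible sheaf over a given point are isomorphic to one finite
group -/
theorem exists_stalk_iso {Q : EtCoh.Ab X} (hQ : EtPBC.IsConstructible Q) (x : X) :
    ∃ M : AddCommGrpCat.{u + 1}, PFin M ∧ ∀ (Ω : Type u) [Field Ω] [IsSepClosed Ω]
      (ξ : Spec (CommRingCat.of Ω) ⟶ X), ξ default = x →
        Nonempty ((EtCoh.stalk ξ).obj Q ≅ M) := by
  obtain ⟨ι, _, T, g, h1, h2, h3, h4, h5⟩ :=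
    (isConstructibleA_iff_strataA_univ Q).1 ((isConstructible_iff Q).1 hQ)
  have hx' : x ∈ ⋃ i, Set.range (g i) := h4 ▸ Set.mem_univ x
  obtain ⟨i, t, rfl⟩ := Set.mem_iUnion.1 hx'
  haveI := h1 i
  obtain ⟨κ, U, hU, h⟩ := (isLC_iff_pull _).1 (h5 i)
  obtain ⟨k, v, hv⟩ := hU t
  obtain ⟨M, hM, ⟨α⟩⟩ := h k
  refine ⟨M, hM, fun Ω _ _ ξ hξ => ?_⟩
  obtain ⟨l, hl⟩ := Groth.Agent.Lib.EtConstrEtLocal22.exists_lift_of_isReduced ξ (g i) (by
    rintro _ ⟨p, rfl⟩
    obtain rfl : p = default := Subsingleton.elim _ _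
    rw [hξ]; exact ⟨t, rfl⟩)
  have hlt : l default = t := (g i).isEmbedding.injective (by
    rw [← Scheme.Hom.comp_apply, hl, hξ])
  obtain ⟨e⟩ := nonempty_stalk_iso_of_pull_iso ((EtCoh.pull (g i)).obj Q) (U k) M α l v
    (hv.trans hlt.symm)
  obtain ⟨e'⟩ := nonempty_stalk_iso_of_eq Q hl
  exact ⟨e'.symm ≪≫ (stalkPullObjIso (g i) Q l).symm ≪≫ e⟩

omit [CompactSpace X] [QuasiSeparatedSpace X] in
/-- finite biproducts of constructible sheaves are constructible -/
theorem isConstructible_biproduct {J : Type*} [Finite J] (f : J → EtCoh.Ab X)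
    (h : ∀ j, EtPBC.IsConstructible (f j)) : EtPBC.IsConstructible (⨁ f) := by
  classical
  obtain ⟨d, ⟨e⟩⟩ := Finite.exists_equiv_fin J
  have h1 : IsConstructibleA AddCommGrpCat.{u + 1} PFin (∏ᶜ fun k : Fin d => f (e.symm k)) :=
    isConstructibleA_pi (fun k : Fin d => f (e.symm k))
      (fun k => (isConstructible_iff _).1 (h (e.symm k)))
  have h2 : EtPBC.IsConstructible (∏ᶜ fun k : Fin d => f (e.symm k)) := (isConstructible_iff _).2 h1
  have i1 : (∏ᶜ fun k : Fin d => f (e.symm k)) ≅ ⨁ fun k : Fin d => f (e.symm k) :=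
    (biproduct.isoProduct _).symm
  have i2 : (⨁ fun k : Fin d => f (e.symm k)) ≅ ⨁ f :=
    biproduct.whiskerEquiv (f := fun k : Fin d => f (e.symm k)) (g := f) e.symm
      (fun _ => Iso.refl _)
  exact isConstructible_of_iso (i1 ≪≫ i2) h2

omit [CompactSpace X] [QuasiSeparatedSpace X] in
/-- a stalk map is surjective iff the stalk of the cokernel vanishes -/
theorem surjective_stalk_iff {F G : EtCoh.Ab X} (φ : F ⟶ G) {Ω : Type u} [Field Ω] [IsSepClosed Ω]
    (ξ : Spec (CommRingCat.of Ω) ⟶ X) :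
    Function.Surjective ((EtCoh.stalk ξ).map φ) ↔ IsZero ((EtCoh.stalk ξ).obj (cokernel φ)) := by
  rw [← AddCommGrpCat.epi_iff_surjective, Preadditive.epi_iff_isZero_cokernel]
  exact (PreservesCokernel.iso (EtCoh.stalk ξ) φ).symm.isZero_iff

/-- **Finite generation.** -/
theorem exists_finset_epi {F : EtCoh.Ab X} (hF : EtPBC.IsConstructible F) {ι : Type*}
    (C : ι → EtCoh.Ab X) (hC : ∀ i, EtPBC.IsConstructible (C i)) (ψ : ∀ i, C i ⟶ F)
    (hgen : ∀ x : X, ∃ (Ω : Type u) (_ : Field Ω) (_ : IsSepClosed Ω)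
      (ξ : Spec (CommRingCat.of Ω) ⟶ X), ξ default = x ∧
        ∀ e : (EtCoh.stalk ξ).obj F, ∃ i, e ∈ Set.range ((EtCoh.stalk ξ).map (ψ i))) :
    ∃ s : Finset ι, Epi (biproduct.desc (fun i : ↥s => ψ i.1)) := by
  classical
  -- the maps
  let Ψ : ∀ s : Finset ι, (⨁ fun i : ↥s => C i.1) ⟶ F := fun s => biproduct.desc (fun i : ↥s => ψ i.1)
  have hΨc : ∀ s : Finset ι, EtPBC.IsConstructible (⨁ fun i : ↥s => C i.1) := fun s =>
    isConstructible_biproduct _ (fun i => hC i.1)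
  let T : Finset ι → Set X := fun s => {x : X | ∀ (Ω : Type u) [Field Ω] [IsSepClosed Ω]
      (ξ : Spec (CommRingCat.of Ω) ⟶ X), Set.range ξ = {x} →
        Function.Surjective ((EtCoh.stalk ξ).map (Ψ s))}
  have hT : ∀ s, IsConstructible (T s) := fun s => isConstructible_surjLocus (Ψ s) (hΨc s) hF
  -- monotonicity
  have hmono : ∀ s s' : Finset ι, s ⊆ s' → T s ⊆ T s' := by
    intro s s' hss x hx Ω _ _ ξ hξ
    let incl : (⨁ fun i : ↥s => C i.1) ⟶ ⨁ fun i : ↥s' => C i.1 :=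
      biproduct.desc (fun i : ↥s => biproduct.ι (fun i : ↥s' => C i.1) ⟨i.1, hss i.2⟩)
    have hfac : incl ≫ Ψ s' = Ψ s := by
      apply biproduct.hom_ext'
      intro i
      simp [incl, Ψ]
    have h1 := hx Ω ξ hξ
    rw [← hfac, Functor.map_comp] at h1
    exact Function.Surjective.of_comp h1
  -- covering
  have hcov : ∀ x, ∃ s, x ∈ T s := by
    intro x
    obtain ⟨Ω, _, _, ξ, hξ, hgen⟩ := hgen x
    obtain ⟨M, hM, hiso⟩ := exists_stalk_iso hF x
    obtain ⟨e⟩ := hiso Ω ξ hξ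
    haveI : Finite M := pFin_finite hM
    haveI : Finite ((EtCoh.stalk ξ).obj F) :=
      Finite.of_injective _ e.addCommGroupIsoToAddEquiv.injective
    haveI : Fintype ((EtCoh.stalk ξ).obj F) := Fintype.ofFinite _
    choose ie hie using hgen
    let s : Finset ι := Finset.univ.image ie
    refine ⟨s, ?_⟩
    have hsurj : Function.Surjective ((EtCoh.stalk ξ).map (Ψ s)) := by
      intro a
      obtain ⟨c, hc⟩ := hie a
      have hmem : ie a ∈ s := Finset.mem_image_of_mem _ (Finset.mem_univ a)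
      have hfac : biproduct.ι (fun i : ↥s => C i.1) ⟨ie a, hmem⟩ ≫ Ψ s = ψ (ie a) := by
        simp [Ψ]
      refine ⟨(EtCoh.stalk ξ).map (biproduct.ι (fun i : ↥s => C i.1) ⟨ie a, hmem⟩) c, ?_⟩
      have h2 : (EtCoh.stalk ξ).map (biproduct.ι (fun i : ↥s => C i.1) ⟨ie a, hmem⟩) ≫
          (EtCoh.stalk ξ).map (Ψ s) = (EtCoh.stalk ξ).map (ψ (ie a)) := by
        rw [← Functor.map_comp, hfac]
      exact (ConcreteCategory.congr_hom h2 c).trans hc
    have hz : IsZero ((EtCoh.stalk ξ).obj (cokernel (Ψ s))) := (surjective_stalk_iff _ ξ).1 hsurj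
    have hQ : EtPBC.IsConstructible (cokernel (Ψ s)) := (isConstructible_ker_coker _ (hΨc s) hF).2
    obtain ⟨M', -, hiso'⟩ := exists_stalk_iso hQ x
    obtain ⟨e1⟩ := hiso' Ω ξ hξ
    intro Ω' _ _ ξ' hξ'
    obtain ⟨e2⟩ := hiso' Ω' ξ' (default_eq_of_range ξ' hξ')
    rw [surjective_stalk_iff]
    exact (hz.of_iso e1.symm).of_iso e2
  obtain ⟨S, hS⟩ := Groth.Agent.Lib.ConsAtoms22.exists_finite_subcover_of_isConstructible T hT hcov
  refine ⟨S.sup id, ?_⟩
  apply epi_of_forall_geomPt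
  intro x
  obtain ⟨Ω, _, _, ξ, hξ, -⟩ := hgen x
  obtain ⟨s', hs', hx⟩ := hS x
  have hx' : x ∈ T (S.sup id) := hmono s' _ (Finset.le_sup (f := id) hs') hx
  exact ⟨Ω, inferInstance, inferInstance, ξ, hξ, hx' Ω ξ (range_of_default_eq ξ hξ)⟩

/-- finite generation, `Fin`-indexed form -/
theorem exists_fin_epi {F : EtCoh.Ab X} (hF : EtPBC.IsConstructible F) {ι : Type*}
    (C : ι → EtCoh.Ab X) (hC : ∀ i, EtPBC.IsConstructible (C i)) (ψ : ∀ i, C i ⟶ F)
    (hgen : ∀ x : X, ∃ (Ω : Type u) (_ : Field Ω) (_ : IsSepClosed Ω)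
      (ξ : Spec (CommRingCat.of Ω) ⟶ X), ξ default = x ∧
        ∀ e : (EtCoh.stalk ξ).obj F, ∃ i, e ∈ Set.range ((EtCoh.stalk ξ).map (ψ i))) :
    ∃ (b : ℕ) (σ : Fin b → ι), Epi (biproduct.desc (fun k : Fin b => ψ (σ k))) := by
  obtain ⟨s, hs⟩ := exists_finset_epi hF C hC ψ hgen
  let e : Fin s.card ≃ ↥s := s.equivFin.symm
  refine ⟨s.card, fun k => (e k).1, ?_⟩
  let w : (⨁ fun k : Fin s.card => C (e k).1) ≅ ⨁ fun i : ↥s => C i.1 :=
    biproduct.whiskerEquiv (f := fun k : Fin s.card => C (e k).1) (g := fun i : ↥s => C i.1) e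
      (fun _ => Iso.refl _)
  have hfac : w.hom ≫ biproduct.desc (fun i : ↥s => ψ i.1) =
      biproduct.desc (fun k : Fin s.card => ψ (e k).1) := by
    apply biproduct.hom_ext'
    intro k
    simp [w, biproduct.whiskerEquiv]
  rw [← hfac]
  infer_instance

end Groth.Agent.Lib.ConstrFG34
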