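import Mathlib.Topology.Constructible
import Mathlib.Topology.Spectral.Prespectral

/-!
Constructible sets in prespectral spaces: constructible sets are retrocompact, traces on
retrocompact subsets are constructible, and constructible subsets of constructible subsets are
constructible.
-/

set_option autoImplicit false

namespace Groth.Agent.Lib.ConstrSub33

open Topology Set

variable {X T : Type*} [TopologicalSpace X] [TopologicalSpace T]

/-- The open retrocompact sets form a sublattice. -/
lemma isSublattice_open_retrocompact :
    IsSublattice {U : Set X | IsOpen U ∧ IsRetrocompact U} where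
  supClosed := fun _ hs _ ht => ⟨hs.1.union ht.1, hs.2.union ht.2⟩
  infClosed := fun _ hs _ ht => ⟨hs.1.inter ht.1, hs.2.inter_isOpen ht.2 ht.1⟩

/-- Induction principle: constructible sets are finite unions of differences of open retrocompact
sets. -/
@[elab_as_elim]
theorem isConstructible_sdiff_union_induction {p : ∀ s : Set X, IsConstructible s → Prop}
    (sdiff : ∀ (U V : Set X) (hUo : IsOpen U) (hUr : IsRetrocompact U) (hVo : IsOpen V)
      (hVr : IsRetrocompact V), p (U \ V) ((hUr.isConstructible hUo).sdiff (hVr.isConstructible hVo)))
    (union : ∀ (s t : Set X) (hs : IsConstructible s) (ht : IsConstructible t), p s hs → p t ht →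
      p (s ∪ t) (hs.union ht))
    {s : Set X} (hs : IsConstructible s) : p s hs := by
  refine BooleanSubalgebra.closure_sdiff_sup_induction (s := {U : Set X | IsOpen U ∧ IsRetrocompact U})
    (p := fun g hg => p g hg) isSublattice_open_retrocompact
    ⟨isOpen_empty, IsRetrocompact.empty⟩ ⟨isOpen_univ, IsRetrocompact.univ⟩ ?_ ?_ s hs
  · intro x hx y hy
    exact sdiff x y hx.1 hx.2 hy.1 hy.2
  · intro x hx y hy hpx hpy
    exact union x y hx hy hpx hpy

/-- Constructible sets are retrocompact. -/
theorem isRetrocompact_of_isConstructible {s : Set X} (hs : IsConstructible s) :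
    IsRetrocompact s := by
  induction hs using isConstructible_sdiff_union_induction with
  | sdiff U V hUo hUr hVo hVr =>
    intro W hWc hWo
    have h1 : IsCompact (U ∩ W) := hUr hWc hWo
    have : U \ V ∩ W = (U ∩ W) ∩ Vᶜ := by
      ext x; simp only [mem_inter_iff, mem_sdiff, mem_compl_iff]; tauto
    rw [this]
    exact h1.inter_right hVo.isClosed_compl
  | union s t _ _ hs ht => exact hs.union ht

/-- In a prespectral space, a compact open subset of the source of an inducing map is the
preimage of a compact open subset. -/
theorem exists_compact_open_preimage [PrespectralSpace X] {f : T → X} (hf : IsInducing f)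
    (U' : Set T) (hU'o : IsOpen U') (hU'c : IsCompact U') :
    ∃ W : Set X, IsOpen W ∧ IsCompact W ∧ f ⁻¹' W = U' := by
  obtain ⟨V, hV, rfl⟩ := hf.isOpen_iff.mp hU'o
  have hK : IsCompact (f '' (f ⁻¹' V)) := hU'c.image hf.continuous
  obtain ⟨W, hWc, hWo, hKW, hWV⟩ :=
    PrespectralSpace.exists_isCompact_and_isOpen_between hK hV (by
      rintro _ ⟨y, hy, rfl⟩; exact hy)
  refine ⟨W, hWo, hWc, ?_⟩
  ext y
  constructor
  · intro hy; exact hWV hy
  · intro hy; exact hKW ⟨y, hy, rfl⟩

/-- Preimages of constructible sets under an inducing map with retrocompact range into a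
prespectral space are constructible. -/
theorem isConstructible_preimage_of_isInducing [PrespectralSpace X] {f : T → X}
    (hf : IsInducing f) (hr : IsRetrocompact (range f)) {E : Set X} (hE : IsConstructible E) :
    IsConstructible (f ⁻¹' E) := by
  refine hE.preimage hf.continuous ?_
  intro s hso hsr U' hU'c hU'o
  obtain ⟨W, hWo, hWc, rfl⟩ := exists_compact_open_preimage hf U' hU'o hU'c
  rw [← preimage_inter, hf.isCompact_iff, image_preimage_eq_inter_range, inter_comm]
  exact hr (hsr hWc hWo) (hso.inter hWo)

/-- A retrocompact subset of a prespectral space is prespectral. -/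
theorem prespectralSpace_of_isRetrocompact [PrespectralSpace X] {E : Set X}
    (hE : IsRetrocompact E) : PrespectralSpace E :=
  PrespectralSpace.of_isInducing _ IsInducing.subtypeVal
    (IsRetrocompact_iff_isSpectralMap_subtypeVal.mp hE)

/-- Constructible subsets of a set of the form `U \ V` are constructible. -/
theorem isConstructible_image_val_sdiff {U V : Set X} (hUo : IsOpen U) (hUr : IsRetrocompact U)
    (hVo : IsOpen V) (hVr : IsRetrocompact V) (F : Set ↥(U \ V)) (hF : IsConstructible F) :
    IsConstructible ((Subtype.val : ↥(U \ V) → X) '' F) := by
  let i : ↥(U \ V) → U := Set.inclusion sdiff_subset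
  have hi : IsClosedEmbedding i := by
    refine ⟨IsEmbedding.inclusion sdiff_subset, ?_⟩
    have : range i = (Subtype.val : U → X) ⁻¹' Vᶜ := by
      ext u
      simp only [mem_range, mem_preimage, mem_compl_iff]
      constructor
      · rintro ⟨e, rfl⟩; exact e.2.2
      · intro hu; exact ⟨⟨u.1, u.2, hu⟩, rfl⟩
    rw [this]
    exact hVo.isClosed_compl.preimage continuous_subtype_val
  have hrange : (range i)ᶜ = (Subtype.val : U → X) ⁻¹' V := by
    ext u
    simp only [mem_compl_iff, mem_range, mem_preimage]
    constructor
    · intro hu
      by_contra hV
      exact hu ⟨⟨u.1, u.2, hV⟩, rfl⟩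
    · rintro hu ⟨e, rfl⟩; exact e.2.2 hu
  have hUemb : IsOpenEmbedding (Subtype.val : U → X) := hUo.isOpenEmbedding_subtypeVal
  have hrc : IsRetrocompact (range i)ᶜ := by
    rw [hrange]
    exact hVr.preimage_of_isOpenEmbedding hUemb
  have h1 : IsConstructible (i '' F) := hF.image_of_isClosedEmbedding hi hrc
  have h2 : IsConstructible ((Subtype.val : U → X) '' (i '' F)) :=
    h1.image_of_isOpenEmbedding hUemb (by rwa [Subtype.range_coe])
  rw [← image_comp] at h2
  exact h2

/-- In a prespectral space, a constructible subset of a constructible subspace is constructible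
in the ambient space (formulated with subsets of the ambient space). -/
theorem isConstructible_of_isConstructible_preimage_val [PrespectralSpace X] {E : Set X}
    (hE : IsConstructible E) :
    ∀ A : Set X, A ⊆ E → IsConstructible ((Subtype.val : E → X) ⁻¹' A) → IsConstructible A := by
  induction hE using isConstructible_sdiff_union_induction with
  | sdiff U V hUo hUr hVo hVr =>
    intro A hAE hA
    have := isConstructible_image_val_sdiff hUo hUr hVo hVr _ hA
    rwa [Subtype.image_preimage_coe, inter_eq_right.mpr hAE] at this
  | union s t hs ht ihs iht =>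
    intro A hAE hA
    have hE : IsConstructible (s ∪ t) := hs.union ht
    have hEr : IsRetrocompact (s ∪ t) := isRetrocompact_of_isConstructible hE
    have : PrespectralSpace ↥(s ∪ t) := prespectralSpace_of_isRetrocompact hEr
    have key : ∀ s' : Set X, s' ⊆ s ∪ t → IsConstructible s' →
        IsConstructible ((Subtype.val : s' → X) ⁻¹' A) := by
      intro s' hs'E hs'
      let j : s' → ↥(s ∪ t) := Set.inclusion hs'E
      have hj : IsInducing j := (IsEmbedding.inclusion hs'E).isInducing
      have hrange : range j = (Subtype.val : ↥(s ∪ t) → X) ⁻¹' s' := by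
        ext e
        simp only [mem_range, mem_preimage]
        constructor
        · rintro ⟨a, rfl⟩; exact a.2
        · intro he; exact ⟨⟨e.1, he⟩, rfl⟩
      have hrc : IsRetrocompact (range j) := by
        rw [hrange]
        apply isRetrocompact_of_isConstructible
        refine isConstructible_preimage_of_isInducing IsInducing.subtypeVal ?_ hs'
        rwa [Subtype.range_coe]
      have := isConstructible_preimage_of_isInducing hj hrc hA
      exact this
    have h1 : IsConstructible (A ∩ s) := by
      refine ihs (A ∩ s) inter_subset_right ?_
      have := key s subset_union_left hs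
      convert this using 1
      ext x
      simp only [mem_preimage, mem_inter_iff]
      exact ⟨fun h => h.1, fun h => ⟨h, x.2⟩⟩
    have h2 : IsConstructible (A ∩ t) := by
      refine iht (A ∩ t) inter_subset_right ?_
      have := key t subset_union_right ht
      convert this using 1
      ext x
      simp only [mem_preimage, mem_inter_iff]
      exact ⟨fun h => h.1, fun h => ⟨h, x.2⟩⟩
    have : A = (A ∩ s) ∪ (A ∩ t) := by
      rw [← inter_union_distrib_left, inter_eq_left.mpr hAE]
    rw [this]
    exact h1.union h2

/-- In a prespectral space, a constructible subset of a constructible subspace is constructible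
in the ambient space. -/
theorem isConstructible_image_val [PrespectralSpace X] {E : Set X} (hE : IsConstructible E)
    (F : Set E) (hF : IsConstructible F) : IsConstructible ((Subtype.val : E → X) '' F) := by
  refine isConstructible_of_isConstructible_preimage_val hE _ (by
    rintro _ ⟨e, -, rfl⟩; exact e.2) ?_
  rwa [preimage_image_eq _ Subtype.val_injective]

end Groth.Agent.Lib.ConstrSub33
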