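-- Helper lemmas on the triple convolution Dyn.conv3 of points of an affine group (Hopf form).
import Groth.Prelude.Def_Dyn

set_option autoImplicit false
universe u

namespace Groth.Agent.Lib.Conv3

open TensorProduct

variable (k : Type u) [CommRing k] (A : Type u) [CommRing A] [HopfAlgebra k A]
variable {C : Type u} [CommRing C] [Algebra k C]

/-- The (double) convolution of two points, as a function. -/
noncomputable def conv2 (f g : A →ₐ[k] C) : A →ₐ[k] C :=
  (Algebra.TensorProduct.lmul' (S := C) k).comp
    ((Algebra.TensorProduct.map f g).comp (Bialgebra.comulAlgHom k A))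

lemma conv3_aux (u : A ⊗[k] A →ₐ[k] C) (x : A ⊗[k] A) :
    Algebra.TensorProduct.lmul' (S := C) k
      (Algebra.TensorProduct.map u ((Algebra.ofId k C).comp (Bialgebra.counitAlgHom k A))
        (Algebra.TensorProduct.map (Bialgebra.comulAlgHom k A) (AlgHom.id k A) x)) =
    u (Coalgebra.comul (TensorProduct.rid k A (LinearMap.lTensor A Coalgebra.counit x))) := by
  induction x using TensorProduct.induction_on with
  | zero => simp
  | tmul p q =>
    simp only [Algebra.TensorProduct.map_tmul, Algebra.TensorProduct.lmul'_apply_tmul,
      LinearMap.lTensor_tmul, TensorProduct.rid_tmul, map_smul, AlgHom.coe_comp,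
      Function.comp_apply, Algebra.ofId_apply, AlgHom.coe_id, id_eq,
      Bialgebra.comulAlgHom_apply, Bialgebra.counitAlgHom_apply]
    rw [Algebra.smul_def, mul_comm]
  | add x y hx hy => simp only [map_add, hx, hy]

/-- Convolving with the unit point on the right does nothing. -/
lemma conv3_counit (f g : A →ₐ[k] C) (a : A) :
    Dyn.conv3 k A f g ((Algebra.ofId k C).comp (Bialgebra.counitAlgHom k A)) a =
      conv2 k A f g a := by
  have h := conv3_aux k A ((Algebra.TensorProduct.lmul' (S := C) k).comp
    (Algebra.TensorProduct.map f g)) (Coalgebra.comul a)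
  rw [Coalgebra.lTensor_counit_comul] at h
  simpa [Dyn.conv3, conv2] using h

end Groth.Agent.Lib.Conv3
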