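import Mathlib.Analysis.Convex.Combination
import Mathlib.LinearAlgebra.BilinearForm.Properties
import Mathlib.LinearAlgebra.FiniteDimensional.Lemmas
import Mathlib.Tactic.Module

/-!
# Closest points of finitely generated convex hulls over an ordered field (helper23)

For a symmetric positive definite bilinear form `B` on a vector space `N` over a linearly ordered
field `R` (no completeness, no finite-dimensionality of `N` assumed) and a finite non-empty set `S`:
* `exists_isMin` : the convex hull of `S` has a point of minimal `B`-norm;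
* `inner_nonneg_of_isMin` : variational inequality for a minimal-norm point of a convex set;
* `lt_of_isMin_of_ne` : strict minimality (uniqueness);
* `exists_separating` : a point outside the convex hull of `S` is strictly separated from `S` by a
  functional `B z`.
-/

set_option autoImplicit false

namespace Groth.Agent.Lib.ConvexMin23

variable {R N : Type*} [Field R] [LinearOrder R] [IsStrictOrderedRing R] [AddCommGroup N]
  [Module R N]

section

variable (B : LinearMap.BilinForm R N) (hBs : ∀ y z : N, B y z = B z y)

include hBs in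
theorem expand (p v : N) (u : R) :
    B (p + u • v) (p + u • v) = B p p + 2 * u * B p v + u ^ 2 * B v v := by
  simp only [map_add, LinearMap.add_apply, map_smul, LinearMap.smul_apply, smul_eq_mul]
  rw [hBs v p]
  ring

variable (hBp : ∀ y : N, y ≠ 0 → 0 < B y y)

include hBp in
theorem self_nonneg (v : N) : 0 ≤ B v v := by
  by_cases h : v = 0
  · subst h; simp
  · exact (hBp v h).le

include hBp in
/-- Orthogonal foot of the origin on the affine span of a finite set, as an affine combination. -/
theorem exists_foot (S : Finset N) (hS : S.Nonempty) :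
    ∃ c : N → R, ∑ s ∈ S, c s = 1 ∧ ∀ s ∈ S, ∀ s' ∈ S, B (∑ t ∈ S, c t • t) (s - s') = 0 := by
  classical
  obtain ⟨s₀, hs₀⟩ := hS
  set T : Finset N := S.image (fun s => s - s₀) with hT
  set W : Submodule R N := Submodule.span R (T : Set N) with hW
  have : FiniteDimensional R W := FiniteDimensional.span_finset R T
  have hnd : (B.restrict W).Nondegenerate := by
    refine ⟨fun x hx => ?_, fun x hx => ?_⟩
    · by_contra hne
      have h1 := hBp (x : N) (fun h => hne (Subtype.ext h))
      have h2 := hx x
      rw [LinearMap.BilinForm.restrict_apply] at h2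
      simp only [LinearMap.domRestrict_apply] at h2
      exact h1.ne' h2
    · by_contra hne
      have h1 := hBp (x : N) (fun h => hne (Subtype.ext h))
      have h2 := hx x
      rw [LinearMap.BilinForm.restrict_apply] at h2
      simp only [LinearMap.domRestrict_apply] at h2
      exact h1.ne' h2
  set f : Module.Dual R W := (B s₀).comp W.subtype with hf
  set w : W := ((B.restrict W).toDual hnd).symm f with hw
  have hwv : ∀ v : W, B (w : N) (v : N) = B s₀ (v : N) := by
    intro v
    have := LinearMap.BilinForm.apply_toDual_symm_apply (B := B.restrict W) (hB := hnd) f v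
    rw [LinearMap.BilinForm.restrict_apply] at this
    exact this
  obtain ⟨g, -, hg⟩ := Submodule.mem_span_finset.mp w.2
  have hinj : Set.InjOn (fun s : N => s - s₀) (S : Set N) := by
    intro a _ b _ hab
    simpa using hab
  rw [hT, Finset.sum_image hinj] at hg
  set e : N → R := fun s => g (s - s₀) with he
  refine ⟨fun t => (if t = s₀ then 1 + ∑ s ∈ S, e s else 0) - e t, ?_, ?_⟩
  · rw [Finset.sum_sub_distrib, Finset.sum_ite_eq' S s₀, if_pos hs₀]
    ring
  · have hp : ∑ t ∈ S, ((if t = s₀ then 1 + ∑ s ∈ S, e s else 0) - e t) • t = s₀ - (w : N) := by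
      rw [← hg]
      simp only [sub_smul, Finset.sum_sub_distrib, ite_smul, zero_smul, smul_sub]
      rw [Finset.sum_ite_eq' S s₀, if_pos hs₀, ← Finset.sum_smul]
      simp only [he]
      rw [add_smul, one_smul]
      abel
    intro s hs s' hs'
    rw [hp]
    have hmem : ∀ t ∈ S, t - s₀ ∈ W := by
      intro t ht
      apply Submodule.subset_span
      rw [hT]
      exact Finset.mem_coe.mpr (Finset.mem_image.mpr ⟨t, ht, rfl⟩)
    have hv : s - s' ∈ W := by
      have : s - s' = (s - s₀) - (s' - s₀) := by abel
      rw [this]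
      exact W.sub_mem (hmem s hs) (hmem s' hs')
    have := hwv ⟨s - s', hv⟩
    simp only at this
    rw [LinearMap.map_sub₂, this, sub_self]

include hBs hBp in
/-- The convex hull of a finite non-empty set has a point of minimal norm. -/
theorem exists_isMin (S : Finset N) (hS : S.Nonempty) :
    ∃ y₀ ∈ convexHull R (S : Set N), ∀ y ∈ convexHull R (S : Set N), B y₀ y₀ ≤ B y y := by
  classical
  induction hn : S.card using Nat.strong_induction_on generalizing S with
  | _ n ih =>
    obtain ⟨c, hc1, hc⟩ := exists_foot B hBp S hS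
    set p : N := ∑ t ∈ S, c t • t with hp
    -- `p` is orthogonal to differences of points of the hull
    have horth : ∀ a : N → R, ∑ s ∈ S, a s = 1 → B p (∑ s ∈ S, a s • s - p) = 0 := by
      intro a ha
      obtain ⟨s₁, hs₁⟩ := hS
      have h1 : ∑ s ∈ S, a s • s - p = ∑ s ∈ S, (a s - c s) • (s - s₁) := by
        simp only [sub_smul, smul_sub, Finset.sum_sub_distrib, ← Finset.sum_smul, ha, hc1, hp]
        abel
      rw [h1, map_sum]
      apply Finset.sum_eq_zero
      intro s hs
      rw [map_smul, hc s hs s₁ hs₁, smul_zero]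
    by_cases hall : ∀ t ∈ S, 0 ≤ c t
    · refine ⟨p, Finset.mem_convexHull'.mpr ⟨c, hall, hc1, rfl⟩, ?_⟩
      intro y hy
      obtain ⟨a, -, ha1, rfl⟩ := Finset.mem_convexHull'.mp hy
      have h0 := horth a ha1
      have := expand B hBs p (∑ s ∈ S, a s • s - p) 1
      rw [one_smul, add_sub_cancel, h0] at this
      rw [this]
      have := self_nonneg B hBp (∑ s ∈ S, a s • s - p)
      nlinarith
    · push Not at hall
      obtain ⟨t₀, ht₀, hct₀⟩ := hall
      -- at least two points
      have hcard : ∀ s ∈ S, (S.erase s).Nonempty := by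
        intro s hs
        by_contra hne
        rw [Finset.not_nonempty_iff_eq_empty, Finset.erase_eq_empty_iff] at hne
        rcases hne with hne | hne
        · rw [hne] at hs; simp at hs
        · rw [hne] at hc1 ht₀
          rw [Finset.sum_singleton] at hc1
          rw [Finset.mem_singleton] at ht₀
          rw [ht₀, hc1] at hct₀
          exact absurd hct₀ (by norm_num)
      have ihs : ∀ s ∈ S, ∃ y₀ ∈ convexHull R ((S.erase s : Finset N) : Set N),
          ∀ y ∈ convexHull R ((S.erase s : Finset N) : Set N), B y₀ y₀ ≤ B y y := by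
        intro s hs
        exact ih (S.erase s).card (by rw [← hn]; exact Finset.card_erase_lt_of_mem hs) (S.erase s)
          (hcard s hs) rfl
      choose! ym hym hymmin using ihs
      obtain ⟨s₁, hs₁, hs₁min⟩ := Finset.exists_min_image S (fun s => B (ym s) (ym s)) hS
      have hsub : ∀ s, convexHull R ((S.erase s : Finset N) : Set N) ⊆ convexHull R (S : Set N) :=
        fun s => convexHull_mono (by simp)
      refine ⟨ym s₁, hsub s₁ (hym s₁ hs₁), ?_⟩
      intro y hy
      obtain ⟨a, ha0, ha1, rfl⟩ := Finset.mem_convexHull'.mp hy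
      -- move from y towards p until a coordinate vanishes
      set T : Finset N := S.filter (fun s => c s < 0) with hT
      have hTne : T.Nonempty := ⟨t₀, Finset.mem_filter.mpr ⟨ht₀, hct₀⟩⟩
      obtain ⟨s₀, hs₀T, hs₀min⟩ := Finset.exists_min_image T (fun s => a s / (a s - c s)) hTne
      have hs₀ : s₀ ∈ S := (Finset.mem_filter.mp hs₀T).1
      have hcs₀ : c s₀ < 0 := (Finset.mem_filter.mp hs₀T).2
      set r : R := a s₀ / (a s₀ - c s₀) with hr
      have hden : ∀ s ∈ T, 0 < a s - c s := by
        intro s hs
        have h1 := ha0 s (Finset.mem_filter.mp hs).1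
        have h2 := (Finset.mem_filter.mp hs).2
        linarith
      have hr0 : 0 ≤ r := div_nonneg (ha0 s₀ hs₀) (hden s₀ hs₀T).le
      have hr1 : r ≤ 1 := by
        rw [hr, div_le_one (hden s₀ hs₀T)]
        linarith
      set e : N → R := fun s => (1 - r) * a s + r * c s with he
      have he0 : ∀ s ∈ S, 0 ≤ e s := by
        intro s hs
        by_cases hcs : c s < 0
        · have hsT : s ∈ T := Finset.mem_filter.mpr ⟨hs, hcs⟩
          have h1 : r ≤ a s / (a s - c s) := hs₀min s hsT
          have h2 := hden s hsT
          have h3 : r * (a s - c s) ≤ a s := by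
            rwa [le_div_iff₀ h2] at h1
          simp only [he]
          linarith
        · push Not at hcs
          simp only [he]
          have := ha0 s hs
          have h1 : 0 ≤ 1 - r := by linarith
          positivity
      have hes₀ : e s₀ = 0 := by
        simp only [he, hr]
        have := (hden s₀ hs₀T).ne'
        field_simp
        ring
      have he1 : ∑ s ∈ S, e s = 1 := by
        simp only [he, Finset.sum_add_distrib, ← Finset.mul_sum, ha1, hc1]
        ring
      set y' : N := ∑ s ∈ S, e s • s with hy'
      have hy'mem : y' ∈ convexHull R ((S.erase s₀ : Finset N) : Set N) := by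
        refine Finset.mem_convexHull'.mpr ⟨e, fun s hs => he0 s (Finset.mem_of_mem_erase hs), ?_, ?_⟩
        · rw [Finset.sum_erase _ hes₀, he1]
        · rw [Finset.sum_erase _ (by rw [hes₀, zero_smul])]
      have hy'eq : y' = p + (1 - r) • (∑ s ∈ S, a s • s - p) := by
        have h1 : y' = (1 - r) • (∑ s ∈ S, a s • s) + r • p := by
          simp only [hy', he, hp, add_smul, mul_smul, Finset.sum_add_distrib, ← Finset.smul_sum]
        rw [h1]
        module
      have h0 := horth a ha1
      have hq := self_nonneg B hBp (∑ s ∈ S, a s • s - p)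
      have hle : B y' y' ≤ B (∑ s ∈ S, a s • s) (∑ s ∈ S, a s • s) := by
        have e1 := expand B hBs p (∑ s ∈ S, a s • s - p) (1 - r)
        have e2 := expand B hBs p (∑ s ∈ S, a s • s - p) 1
        rw [one_smul, add_sub_cancel, h0] at e2
        rw [h0] at e1
        rw [hy'eq, e1, e2]
        have h1 : (1 - r) ^ 2 ≤ 1 := by nlinarith
        nlinarith
      calc B (ym s₁) (ym s₁) ≤ B (ym s₀) (ym s₀) := hs₁min s₀ hs₀
        _ ≤ B y' y' := hymmin s₀ hs₀ y' hy'mem
        _ ≤ _ := hle

include hBs hBp in
/-- Variational inequality at a point of minimal norm of a convex set. -/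
theorem inner_nonneg_of_isMin {C : Set N} (hC : Convex R C) {y₀ : N} (hy₀ : y₀ ∈ C)
    (hmin : ∀ y ∈ C, B y₀ y₀ ≤ B y y) : ∀ y ∈ C, 0 ≤ B y₀ (y - y₀) := by
  intro y hy
  by_contra hneg
  push Not at hneg
  set δ : R := - B y₀ (y - y₀) with hδ
  have hδpos : 0 < δ := by rw [hδ]; linarith
  set q : R := B (y - y₀) (y - y₀) with hq
  have hqpos : 0 < q := by
    apply hBp
    intro h
    rw [h, map_zero] at hneg
    exact lt_irrefl _ hneg
  set t : R := min 1 (δ / q) with ht
  have ht0 : 0 < t := lt_min one_pos (div_pos hδpos hqpos)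
  have ht1 : t ≤ 1 := min_le_left _ _
  have htq : t * q ≤ δ := by
    have : t ≤ δ / q := min_le_right _ _
    rwa [le_div_iff₀ hqpos] at this
  have hmem : y₀ + t • (y - y₀) ∈ C := by
    have := hC hy₀ hy (by linarith : (0 : R) ≤ 1 - t) ht0.le (by ring)
    convert this using 1
    simp only [smul_sub, sub_smul, one_smul]
    abel
  have h1 := hmin _ hmem
  rw [expand B hBs] at h1
  have h2 : B y₀ (y - y₀) = -δ := by rw [hδ]; ring
  rw [h2, ← hq] at h1
  nlinarith

include hBs hBp in
/-- A point of minimal norm of a convex set is the only one. -/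
theorem lt_of_isMin_of_ne {C : Set N} (hC : Convex R C) {y₀ : N} (hy₀ : y₀ ∈ C)
    (hmin : ∀ y ∈ C, B y₀ y₀ ≤ B y y) {y : N} (hy : y ∈ C) (hne : y ≠ y₀) : B y₀ y₀ < B y y := by
  have h1 := inner_nonneg_of_isMin B hBs hBp hC hy₀ hmin y hy
  have h2 := expand B hBs y₀ (y - y₀) 1
  rw [one_smul, add_sub_cancel] at h2
  have h3 : 0 < B (y - y₀) (y - y₀) := hBp _ (sub_ne_zero.mpr hne)
  rw [h2]
  nlinarith

include hBs hBp in
/-- Strict separation of a point from the convex hull of a finite set. -/
theorem exists_separating (S : Finset N) (x : N) (hx : x ∉ convexHull R (S : Set N)) :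
    ∃ z : N, ∀ s ∈ S, B z x < B z s := by
  classical
  rcases S.eq_empty_or_nonempty with hS | hS
  · exact ⟨0, by simp [hS]⟩
  set S' : Finset N := S.image (fun s => s - x) with hS'
  have hinj : Set.InjOn (fun s : N => s - x) (S : Set N) := by
    intro a _ b _ hab
    simpa using hab
  obtain ⟨y₀, hy₀, hmin⟩ := exists_isMin B hBs hBp S' (hS.image _)
  have hy₀ne : y₀ ≠ 0 := by
    rintro rfl
    apply hx
    obtain ⟨w, hw0, hw1, hw⟩ := Finset.mem_convexHull'.mp hy₀
    rw [hS', Finset.sum_image hinj] at hw hw1
    refine Finset.mem_convexHull'.mpr ⟨fun s => w (s - x), ?_, hw1, ?_⟩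
    · intro s hs
      exact hw0 _ (Finset.mem_image.mpr ⟨s, hs, rfl⟩)
    · simp only [smul_sub, Finset.sum_sub_distrib, ← Finset.sum_smul, hw1, one_smul] at hw
      exact sub_eq_zero.mp hw
  refine ⟨y₀, fun s hs => ?_⟩
  have hmem : s - x ∈ convexHull R (S' : Set N) :=
    subset_convexHull R _ (Finset.mem_coe.mpr (Finset.mem_image.mpr ⟨s, hs, rfl⟩))
  have h1 := inner_nonneg_of_isMin B hBs hBp (convex_convexHull R _) hy₀ hmin _ hmem
  have h2 := hBp y₀ hy₀ne
  simp only [map_sub] at h1
  linarith

end

end Groth.Agent.Lib.ConvexMin23
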