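import Groth.Prelude.Def_ega3
import Mathlib.RingTheory.Flat.CategoryTheory
import Mathlib.Algebra.Homology.HomologySequence
import Mathlib.Algebra.Homology.HomologicalComplexAbelian

/-!
Long exact homology sequence for the functors `T_p(M) = H_p(P ⊗_A M)` of a complex `P` of flat
modules (`CohIII.TFun`).
-/

universe u

namespace Groth.Agent.Lib.FlatCxLES

open CategoryTheory CategoryTheory.Limits MonoidalCategory

variable {A : Type u} [CommRing A] {ι : Type} {c : ComplexShape ι}

/-- The short complex of complexes `P ⊗ M' ⟶ P ⊗ M ⟶ P ⊗ M''` attached to a short complex of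
modules. -/
noncomputable def tensorSC (P : HomologicalComplex (ModuleCat.{u} A) c)
    (S : ShortComplex (ModuleCat.{u} A)) :
    ShortComplex (HomologicalComplex (ModuleCat.{u} A) c) :=
  ShortComplex.mk (CohIII.tensorMap P S.f) (CohIII.tensorMap P S.g) (by
    ext i : 1
    simp only [HomologicalComplex.comp_f, NatTrans.mapHomologicalComplex_app_f,
      HomologicalComplex.zero_f]
    change (P.X i ◁ S.f) ≫ (P.X i ◁ S.g) = 0
    rw [← MonoidalCategory.whiskerLeft_comp, S.zero, MonoidalPreadditive.whiskerLeft_zero])

theorem tensorSC_shortExact (P : HomologicalComplex (ModuleCat.{u} A) c)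
    (hP : ∀ i, Module.Flat A (P.X i)) (S : ShortComplex (ModuleCat.{u} A)) (hS : S.ShortExact) :
    (tensorSC P S).ShortExact := by
  apply HomologicalComplex.shortExact_of_degreewise_shortExact
  intro i
  have := hP i
  exact hS.map_of_exact (tensorLeft (P.X i))

theorem TFun_map (P : HomologicalComplex (ModuleCat.{u} A) c) (p : ι) {M N : ModuleCat.{u} A}
    (g : M ⟶ N) :
    (CohIII.TFun P p).map g = HomologicalComplex.homologyMap (CohIII.tensorMap P g) p := rfl

section

variable (P : HomologicalComplex (ModuleCat.{u} A) c) (hP : ∀ i, Module.Flat A (P.X i))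
  (S : ShortComplex (ModuleCat.{u} A)) (hS : S.ShortExact) (i j : ι) (hij : c.Rel i j)

/-- The connecting homomorphism `T_i(M'') ⟶ T_j(M')`. -/
noncomputable def δ : (CohIII.TFun P i).obj S.X₃ ⟶ (CohIII.TFun P j).obj S.X₁ :=
  (tensorSC_shortExact P hP S hS).δ i j hij

theorem δ_comp : δ P hP S hS i j hij ≫ (CohIII.TFun P j).map S.f = 0 :=
  (tensorSC_shortExact P hP S hS).δ_comp i j hij

theorem comp_δ : (CohIII.TFun P i).map S.g ≫ δ P hP S hS i j hij = 0 :=
  (tensorSC_shortExact P hP S hS).comp_δ i j hij

theorem exact₁ : (ShortComplex.mk _ _ (δ_comp P hP S hS i j hij)).Exact :=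
  (tensorSC_shortExact P hP S hS).homology_exact₁ i j hij

include hP hS in
theorem exact₂ : (ShortComplex.mk ((CohIII.TFun P i).map S.f) ((CohIII.TFun P i).map S.g)
    (by rw [← Functor.map_comp, S.zero, TFun_map]
        have : CohIII.tensorMap P (0 : S.X₁ ⟶ S.X₃) = 0 := by
          ext k : 1
          simp only [NatTrans.mapHomologicalComplex_app_f, HomologicalComplex.zero_f]
          exact MonoidalPreadditive.whiskerLeft_zero
        rw [this, HomologicalComplex.homologyMap_zero]
        rfl)).Exact :=
  (tensorSC_shortExact P hP S hS).homology_exact₂ i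

theorem exact₃ : (ShortComplex.mk _ _ (comp_δ P hP S hS i j hij)).Exact :=
  (tensorSC_shortExact P hP S hS).homology_exact₃ i j hij

end

/-- If `c.Rel i j`, then `T_i` preserves epimorphisms iff `T_j` preserves monomorphisms. -/
theorem preservesEpi_iff_preservesMono (P : HomologicalComplex (ModuleCat.{u} A) c)
    (hP : ∀ i, Module.Flat A (P.X i)) (i j : ι) (hij : c.Rel i j) :
    (CohIII.TFun P i).PreservesEpimorphisms ↔ (CohIII.TFun P j).PreservesMonomorphisms := by
  constructor
  · intro h
    refine ⟨fun {X Y} f hf => ?_⟩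
    let S : ShortComplex (ModuleCat.{u} A) := ShortComplex.mk f (cokernel.π f) (cokernel.condition f)
    have hS : S.ShortExact :=
      { exact := ShortComplex.exact_cokernel f }
    have hepi : Epi ((CohIII.TFun P i).map S.g) := by
      dsimp only [S]; infer_instance
    have hδ : δ P hP S hS i j hij = 0 := by
      rw [← cancel_epi ((CohIII.TFun P i).map S.g), comp_δ, comp_zero]
    exact (exact₁ P hP S hS i j hij).mono_g hδ
  · intro h
    refine ⟨fun {X Y} g hg => ?_⟩
    let S : ShortComplex (ModuleCat.{u} A) := ShortComplex.mk (kernel.ι g) g (kernel.condition g)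
    have hS : S.ShortExact :=
      { exact := ShortComplex.exact_kernel g }
    have hmono : Mono ((CohIII.TFun P j).map S.f) := by
      dsimp only [S]; infer_instance
    have hδ : δ P hP S hS i j hij = 0 := by
      rw [← cancel_mono ((CohIII.TFun P j).map S.f), δ_comp, zero_comp]
    exact (exact₃ P hP S hS i j hij).epi_f hδ

end Groth.Agent.Lib.FlatCxLES
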