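import Groth.Agent.Lib.FibreAlg21
import Groth.Agent.Lib.FlatCxLES
import Groth.Agent.Lib.TFunCompare

/-!
# Vanishing of `T^i` over a Noetherian local ring from the closed point (helper21)

* `finite_homology`: the homology of a complex of finite-dimensional vector spaces is finite-dimensional;
* `isZero_TFun_residue_of_dRank_eq_zero`: `dRank L i x = 0 ⇒ T^i_L(κ(x)) = 0`;
* `isZero_TFun_of_dRank_closedPoint`: over a Noetherian local ring, `dRank L i (closed point) = 0 ⇒ T^i_L = 0`;
* `preservesEpi_of_dRank_closedPoint`: ... and then `T^{i-1}` is right exact.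
-/

set_option autoImplicit false
set_option linter.style.haveILetI false
universe u

open CategoryTheory CategoryTheory.Limits CohIII

namespace Groth.Agent.Lib.LocalVanish21

open Groth.Agent.Lib.FibreAlg21 Groth.Agent.Lib.TFunRank Groth.Agent.Lib.TFun

theorem finite_homology {κ : Type u} [Field κ] {ι : Type} {c : ComplexShape ι}
    (Q : HomologicalComplex (ModuleCat.{u} κ) c) (i : ι) [Module.Finite κ (Q.X i)] :
    Module.Finite κ (Q.homology i) := by
  let S := Q.sc i
  haveI : Module.Finite κ S.X₂ := inferInstanceAs (Module.Finite κ (Q.X i))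
  have e : S.homology ≃ₗ[κ] (LinearMap.ker S.g.hom ⧸ LinearMap.range S.moduleCatToCycles) :=
    S.moduleCatHomologyIso.toLinearEquiv
  exact Module.Finite.equiv e.symm

variable {A : Type u} [CommRing A] (L : CochainComplex (ModuleCat.{u} A) ℤ)

theorem isZero_TFun_residue_of_dRank_eq_zero (hfin : ∀ i, Module.Finite A (L.X i)) (i : ℤ)
    (x : PrimeSpectrum A) (h : dRank L i x = 0) :
    IsZero ((TFun L i).obj (ModuleCat.of A x.asIdeal.ResidueField)) := by
  haveI := hfin i
  haveI : Module.Finite x.asIdeal.ResidueField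
      ((bcCx (algebraMap A x.asIdeal.ResidueField) L).X i) :=
    finite_F_obj x.asIdeal.ResidueField (L.X i)
  haveI := finite_homology (bcCx (algebraMap A x.asIdeal.ResidueField) L) i
  have hs : Subsingleton ((bcCx (algebraMap A x.asIdeal.ResidueField) L).homology i) :=
    (Module.finrank_eq_zero_iff_of_free x.asIdeal.ResidueField _).mp h
  have h0 : IsZero ((bcCx (algebraMap A x.asIdeal.ResidueField) L).homology i) :=
    ModuleCat.isZero_of_subsingleton _
  exact ((isZero_RB_iff (A := A) x.asIdeal.ResidueField _).mpr h0).of_iso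
    (Groth.Agent.Lib.TFunCompare.homologyCompare x.asIdeal.ResidueField L i).symm

variable [IsNoetherianRing A] [IsLocalRing A]

theorem dRank_eq_zero_of_closedPoint (hP : ∀ i, Module.Flat A (L.X i))
    (hfin : ∀ i, Module.Finite A (L.X i)) (i : ℤ)
    (h : dRank L i (IsLocalRing.closedPoint A) = 0) (x : PrimeSpectrum A) : dRank L i x = 0 := by
  haveI := hfin i
  haveI : Module.Finite A (L.X ((ComplexShape.up ℤ).next i)) := hfin _
  haveI : Module.FinitePresentation A (L.X ((ComplexShape.up ℤ).next i)) :=
    Module.finitePresentation_of_finite A _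
  haveI : Module.Flat A (L.X ((ComplexShape.up ℤ).next i)) := hP _
  have husc : UpperSemicontinuous (dRank L i) := upperSemicontinuous_dRank L i
  have hopen : IsOpen (dRank L i ⁻¹' Set.Iio 1) := upperSemicontinuous_iff_isOpen_preimage.mp husc 1
  have hmem : IsLocalRing.closedPoint A ∈ dRank L i ⁻¹' Set.Iio 1 := by
    simp [h]
  have hx : x ∈ dRank L i ⁻¹' Set.Iio 1 :=
    (IsLocalRing.specializes_closedPoint x).mem_open hopen hmem
  simpa using hx

theorem isZero_TFun_of_dRank_closedPoint (hP : ∀ i, Module.Flat A (L.X i))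
    (hfin : ∀ i, Module.Finite A (L.X i)) (i : ℤ)
    (h : dRank L i (IsLocalRing.closedPoint A) = 0) (M : ModuleCat.{u} A) :
    IsZero ((TFun L i).obj M) :=
  isZero_of_forall_isZero_residue L hP hfin i
    (fun x => isZero_TFun_residue_of_dRank_eq_zero L hfin i x
      (dRank_eq_zero_of_closedPoint L hP hfin i h x)) M

theorem preservesEpi_of_dRank_closedPoint (hP : ∀ i, Module.Flat A (L.X i))
    (hfin : ∀ i, Module.Finite A (L.X i)) (i : ℤ)
    (h : dRank L (i + 1) (IsLocalRing.closedPoint A) = 0) :
    (TFun L i).PreservesEpimorphisms :=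
  (Groth.Agent.Lib.FlatCxLES.preservesEpi_iff_preservesMono L hP i (i + 1) (by simp)).mpr
    (preservesMono_of_isZero_obj _ (isZero_TFun_of_dRank_closedPoint L hP hfin (i + 1) h))

end Groth.Agent.Lib.LocalVanish21
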