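import Mathlib.LinearAlgebra.Contraction
import Mathlib.LinearAlgebra.Dual.Lemmas
import Mathlib.LinearAlgebra.TensorProduct.RightExactness

set_option autoImplicit false
universe u v w

namespace Groth.Agent.Lib.DualTensor

open TensorProduct Module

variable {A : Type u} [CommRing A]
variable (C : Type v) [AddCommGroup C] [Module A C]
variable (M : Type w) [AddCommGroup M] [Module A M]

variable (A) in
/-- `c ⊗ m ↦ (φ ↦ φ c • m)`. -/
noncomputable def psi : C ⊗[A] M →ₗ[A] (Dual A C →ₗ[A] M) :=
  dualTensorHom A (Dual A C) M ∘ₗ (Dual.eval A C).rTensor M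

variable {C M}

@[simp] theorem psi_tmul (c : C) (m : M) (φ : Dual A C) :
    psi A C M (c ⊗ₜ[A] m) φ = φ c • m := rfl

variable (C M)

theorem psi_bijective [Module.Finite A C] [Module.Projective A C] :
    Function.Bijective (psi A C M) := by
  have h1 : Function.Bijective ((Dual.eval A C).rTensor M) := by
    have : (Dual.eval A C).rTensor M = ((evalEquiv A C).rTensor M : _ ≃ₗ[A] _).toLinearMap := by
      ext; rfl
    rw [this]
    exact LinearEquiv.bijective _
  exact (dualTensorHom_bijective (R := A) (M := Dual A C) (N := M)).comp h1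

variable {C M}

/-- Naturality of `psi` in `M`. -/
theorem psi_lTensor {N : Type*} [AddCommGroup N] [Module A N] (g : M →ₗ[A] N) (z : C ⊗[A] M) :
    psi A C N (g.lTensor C z) = g ∘ₗ psi A C M z := by
  induction z using TensorProduct.induction_on with
  | zero => simp
  | tmul c m => ext φ; simp
  | add z₁ z₂ h₁ h₂ => simp only [map_add, h₁, h₂, LinearMap.comp_add]

/-- Naturality of `psi` in `C`. -/
theorem psi_rTensor {Y : Type*} [AddCommGroup Y] [Module A Y] (δ : C →ₗ[A] Y) (z : C ⊗[A] M) :
    psi A Y M (δ.rTensor M z) = psi A C M z ∘ₗ δ.dualMap := by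
  induction z using TensorProduct.induction_on with
  | zero => simp
  | tmul c m => ext φ; simp
  | add z₁ z₂ h₁ h₂ => simp only [map_add, h₁, h₂, LinearMap.add_comp]

section kernel

variable {Y : Type v} [AddCommGroup Y] [Module A Y] (δ : C →ₗ[A] Y)

/-- The corepresenting module `coker (δ^∨)`. -/
abbrev Q : Type _ := Dual A C ⧸ LinearMap.range δ.dualMap

variable (M)

/-- Composition with the quotient map `C^∨ → Q`. -/
noncomputable def J : (Q δ →ₗ[A] M) →ₗ[A] (Dual A C →ₗ[A] M) :=
  LinearMap.lcomp A M (LinearMap.range δ.dualMap).mkQ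

theorem J_apply (h : Q δ →ₗ[A] M) : J M δ h = h ∘ₗ (LinearMap.range δ.dualMap).mkQ := rfl

theorem J_injective : Function.Injective (J M δ) := by
  intro h h' hh
  ext x
  have := LinearMap.congr_fun hh x
  exact this

theorem mem_range_J_iff (h : Dual A C →ₗ[A] M) :
    h ∈ LinearMap.range (J M δ) ↔ h ∘ₗ δ.dualMap = 0 := by
  constructor
  · rintro ⟨h', rfl⟩
    ext y
    show h' ((LinearMap.range δ.dualMap).mkQ (δ.dualMap y)) = 0
    have hmem : δ.dualMap y ∈ LinearMap.range δ.dualMap := ⟨y, rfl⟩
    rw [Submodule.mkQ_apply, (Submodule.Quotient.mk_eq_zero _).mpr hmem, map_zero]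
  · intro hz
    refine ⟨(LinearMap.range δ.dualMap).liftQ h ?_, ?_⟩
    · rintro _ ⟨y, rfl⟩
      exact LinearMap.congr_fun hz y
    · ext x
      rfl

theorem psi_mem_range_J (z : LinearMap.ker (δ.rTensor M)) :
    psi A C M z.1 ∈ LinearMap.range (J M δ) := by
  rw [mem_range_J_iff, ← psi_rTensor, LinearMap.mem_ker.mp z.2, map_zero]

/-- The comparison map `ker (δ ⊗ M) → Hom(Q, M)`. -/
noncomputable def theta : LinearMap.ker (δ.rTensor M) →ₗ[A] (Q δ →ₗ[A] M) :=
  (LinearEquiv.ofInjective (J M δ) (J_injective M δ)).symm.toLinearMap ∘ₗ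
    LinearMap.codRestrict (LinearMap.range (J M δ))
      (psi A C M ∘ₗ (LinearMap.ker (δ.rTensor M)).subtype) (psi_mem_range_J M δ)

theorem J_theta (z : LinearMap.ker (δ.rTensor M)) : J M δ (theta M δ z) = psi A C M z.1 := by
  have := LinearEquiv.apply_symm_apply (LinearEquiv.ofInjective (J M δ) (J_injective M δ))
    (LinearMap.codRestrict (LinearMap.range (J M δ))
      (psi A C M ∘ₗ (LinearMap.ker (δ.rTensor M)).subtype) (psi_mem_range_J M δ) z)
  exact congrArg Subtype.val this

theorem theta_bijective [Module.Finite A C] [Module.Projective A C] [Module.Finite A Y]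
    [Module.Projective A Y] : Function.Bijective (theta M δ) := by
  constructor
  · intro z z' h
    have h1 : psi A C M z.1 = psi A C M z'.1 := by rw [← J_theta, ← J_theta, h]
    exact Subtype.ext ((psi_bijective C M).1 h1)
  · intro h
    obtain ⟨w, hw⟩ := (psi_bijective C M).2 (J M δ h)
    have hker : w ∈ LinearMap.ker (δ.rTensor M) := by
      rw [LinearMap.mem_ker]
      apply (psi_bijective Y M).1
      rw [psi_rTensor, hw, map_zero]
      exact (mem_range_J_iff M δ _).mp ⟨h, rfl⟩
    refine ⟨⟨w, hker⟩, ?_⟩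
    apply J_injective M δ
    rw [J_theta]
    exact hw

variable {M}

theorem theta_natural {N : Type w} [AddCommGroup N] [Module A N] (g : M →ₗ[A] N)
    (z : LinearMap.ker (δ.rTensor M)) (z' : LinearMap.ker (δ.rTensor N))
    (h : z'.1 = g.lTensor C z.1) : theta N δ z' = g ∘ₗ theta M δ z := by
  apply J_injective N δ
  rw [J_theta, h, psi_lTensor, ← J_theta]
  rfl

end kernel

end Groth.Agent.Lib.DualTensor
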