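import Groth.Agent.Lib.TFunOpcycles
import Groth.Agent.Lib.DualTensor
import Mathlib.RingTheory.Flat.EquationalCriterion
import Mathlib.LinearAlgebra.TensorProduct.Finiteness
import Mathlib.CategoryTheory.Linear.Yoneda

set_option autoImplicit false
universe u

namespace Groth.Agent.Lib.TFunCorep

open CategoryTheory CategoryTheory.Limits CohIII TensorProduct Groth.Agent.Lib.TFun
  Groth.Agent.Lib.DualTensor Opposite

section general

variable {A : Type u} [CommRing A] {ι : Type} {c : ComplexShape ι}
variable (P : HomologicalComplex (ModuleCat.{u} A) c) (p : ι)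

/-- The map `P_p / im d → P_{next p}` induced by `d`. -/
noncomputable def dbar : Copc P p →ₗ[A] P.X (c.next p) :=
  (LinearMap.range (P.d (c.prev p) p).hom).liftQ (P.d p (c.next p)).hom (by
    rintro _ ⟨y, rfl⟩
    rw [LinearMap.mem_ker]
    have := congrArg (fun f => f.hom y) (P.d_comp_d (c.prev p) p (c.next p))
    exact this)

theorem dbar_comp_mkQ :
    dbar P p ∘ₗ (LinearMap.range (P.d (c.prev p) p).hom).mkQ = (P.d p (c.next p)).hom :=
  Submodule.liftQ_mkQ _ _ _

variable (M : ModuleCat.{u} A)

theorem dbar_rTensor_mkQ (z : P.X p ⊗[A] M) :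
    (dbar P p).rTensor M ((LinearMap.range (P.d (c.prev p) p).hom).mkQ.rTensor M z) =
      (P.d p (c.next p)).hom.rTensor M z := by
  rw [← LinearMap.comp_apply, ← LinearMap.rTensor_comp, dbar_comp_mkQ]

/-- `toT` with cleaned-up source and target types. -/
noncomputable def toT' : LinearMap.ker ((P.d p (c.next p)).hom.rTensor M) →ₗ[A]
    (TFun P p).obj M := toT P p M

theorem toT'_surjective : Function.Surjective (toT' P p M) := toT_surjective P p M

theorem toT'_eq_zero_iff (z : LinearMap.ker ((P.d p (c.next p)).hom.rTensor M)) :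
    toT' P p M z = 0 ↔ z.1 ∈ LinearMap.range ((P.d (c.prev p) p).hom.rTensor M) :=
  toT_eq_zero_iff P p M z

theorem toT'_eq_cls (z : LinearMap.ker ((P.d p (c.next p)).hom.rTensor M)) :
    toT' P p M z = cls z.1 (LinearMap.mem_ker.mp z.2) := rfl

/-- cycles to `ker (dbar ⊗ M)`. -/
noncomputable def kappa : LinearMap.ker ((P.d p (c.next p)).hom.rTensor M) →ₗ[A]
    LinearMap.ker ((dbar P p).rTensor M) :=
  LinearMap.codRestrict _ ((LinearMap.range (P.d (c.prev p) p).hom).mkQ.rTensor M ∘ₗ
    (LinearMap.ker ((P.d p (c.next p)).hom.rTensor M)).subtype) (by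
    intro z
    rw [LinearMap.mem_ker, LinearMap.comp_apply, dbar_rTensor_mkQ]
    exact LinearMap.mem_ker.mp z.2)

theorem kappa_val (z : LinearMap.ker ((P.d p (c.next p)).hom.rTensor M)) :
    (kappa P p M z).1 = (LinearMap.range (P.d (c.prev p) p).hom).mkQ.rTensor M z.1 := rfl

theorem kappa_surjective : Function.Surjective (kappa P p M) := by
  intro w
  obtain ⟨z, hz⟩ := LinearMap.rTensor_surjective M
    (Submodule.mkQ_surjective (LinearMap.range (P.d (c.prev p) p).hom)) w.1
  have hker : (P.d p (c.next p)).hom.rTensor M z = 0 := by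
    rw [← dbar_rTensor_mkQ, hz]
    exact LinearMap.mem_ker.mp w.2
  exact ⟨⟨z, LinearMap.mem_ker.mpr hker⟩, Subtype.ext hz⟩

theorem kappa_eq_zero_iff (z : LinearMap.ker ((P.d p (c.next p)).hom.rTensor M)) :
    kappa P p M z = 0 ↔ toT' P p M z = 0 := by
  rw [toT'_eq_zero_iff]
  constructor
  · intro h
    have h1 : (LinearMap.range (P.d (c.prev p) p).hom).mkQ.rTensor M z.1 = 0 :=
      congrArg Subtype.val h
    exact (exact_rTensor_mkQ P p M _).mp h1
  · intro h
    apply Subtype.ext
    exact (exact_rTensor_mkQ P p M _).mpr h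

/-- A linear map out of the target of a surjection. -/
noncomputable def descOfSurjective {U V W : Type u} [AddCommGroup U] [Module A U] [AddCommGroup V]
    [Module A V] [AddCommGroup W] [Module A W] (f : U →ₗ[A] V) (hf : Function.Surjective f)
    (g : U →ₗ[A] W) (h : ∀ x, f x = 0 → g x = 0) : V →ₗ[A] W :=
  (LinearMap.ker f).liftQ g (fun x hx => LinearMap.mem_ker.mpr (h x (LinearMap.mem_ker.mp hx))) ∘ₗ
    (f.quotKerEquivOfSurjective hf).symm.toLinearMap

theorem descOfSurjective_apply {U V W : Type u} [AddCommGroup U] [Module A U] [AddCommGroup V]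
    [Module A V] [AddCommGroup W] [Module A W] (f : U →ₗ[A] V) (hf : Function.Surjective f)
    (g : U →ₗ[A] W) (h : ∀ x, f x = 0 → g x = 0) (x : U) :
    descOfSurjective f hf g h (f x) = g x := by
  have h1 : (f.quotKerEquivOfSurjective hf).symm (f x) = Submodule.Quotient.mk x := by
    rw [LinearEquiv.symm_apply_eq]
    rfl
  unfold descOfSurjective
  rw [LinearMap.comp_apply, LinearEquiv.coe_coe, h1]
  rfl

/-- `T_p(M) → ker (dbar ⊗ M)`. -/
noncomputable def TtoKer : (TFun P p).obj M →ₗ[A] LinearMap.ker ((dbar P p).rTensor M) :=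
  descOfSurjective (W := LinearMap.ker ((dbar P p).rTensor M)) (toT' P p M)
    (toT'_surjective P p M) (kappa P p M) (fun x hx => (kappa_eq_zero_iff P p M x).mpr hx)

theorem TtoKer_toT (z : LinearMap.ker ((P.d p (c.next p)).hom.rTensor M)) :
    TtoKer P p M (toT' P p M z) = kappa P p M z := by
  unfold TtoKer
  exact descOfSurjective_apply (W := LinearMap.ker ((dbar P p).rTensor M)) (toT' P p M)
    (toT'_surjective P p M) (kappa P p M) (fun x hx => (kappa_eq_zero_iff P p M x).mpr hx) z

theorem TtoKer_bijective : Function.Bijective (TtoKer P p M) := by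
  constructor
  · rw [injective_iff_map_eq_zero]
    intro v hv
    obtain ⟨z, rfl⟩ := toT'_surjective P p M v
    rw [TtoKer_toT] at hv
    exact (kappa_eq_zero_iff P p M z).mp hv
  · intro w
    obtain ⟨z, rfl⟩ := kappa_surjective P p M w
    exact ⟨toT' P p M z, TtoKer_toT P p M z⟩

/-- The comparison `T_p(M) → Hom(Q, M)`. -/
noncomputable def Theta : (TFun P p).obj M →ₗ[A] (Q (dbar P p) →ₗ[A] M) :=
  theta M (dbar P p) ∘ₗ TtoKer P p M

theorem Theta_toT' (z : LinearMap.ker ((P.d p (c.next p)).hom.rTensor M)) :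
    Theta P p M (toT' P p M z) = theta M (dbar P p) (kappa P p M z) := by
  show theta M (dbar P p) (TtoKer P p M (toT' P p M z)) = _
  rw [TtoKer_toT]

theorem Theta_bijective (h1 : Module.Finite A (Copc P p)) (h2 : Module.Projective A (Copc P p))
    (h3 : Module.Finite A (P.X (c.next p))) (h4 : Module.Projective A (P.X (c.next p))) :
    Function.Bijective (Theta P p M) :=
  (theta_bijective M (dbar P p)).comp (TtoKer_bijective P p M)

variable {M}

theorem Theta_natural {N : ModuleCat.{u} A} (g : M ⟶ N) (t : (TFun P p).obj M) :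
    Theta P p N (((TFun P p).map g).hom t) = g.hom ∘ₗ Theta P p M t := by
  obtain ⟨z, rfl⟩ := toT'_surjective P p M t
  have h1 : ((TFun P p).map g).hom (toT' P p M z) =
      toT' P p N ⟨LinearMap.lTensor (P.X p) g.hom z.1,
        LinearMap.mem_ker.mpr (lTensor_cycle g z.1 (LinearMap.mem_ker.mp z.2))⟩ :=
    map_cls g z.1 (LinearMap.mem_ker.mp z.2)
  rw [h1, Theta_toT', Theta_toT']
  apply theta_natural
  exact rTensor_lTensor_apply _ _ _

variable (h1 : Module.Finite A (Copc P p)) (h2 : Module.Projective A (Copc P p))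
    (h3 : Module.Finite A (P.X (c.next p))) (h4 : Module.Projective A (P.X (c.next p)))

/-- component of the corepresentability isomorphism -/
noncomputable def corepEquiv (M : ModuleCat.{u} A) :
    (TFun P p).obj M ≃ₗ[A] (ModuleCat.of A (Q (dbar P p)) ⟶ M) :=
  (LinearEquiv.ofBijective (Theta P p M) (Theta_bijective P p M h1 h2 h3 h4)) ≪≫ₗ
    (ModuleCat.homLinearEquiv (S := A) (M := ModuleCat.of A (Q (dbar P p))) (N := M)).symm

theorem corepEquiv_apply (M : ModuleCat.{u} A) (t : (TFun P p).obj M) :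
    (corepEquiv P p h1 h2 h3 h4 M t).hom = Theta P p M t := rfl

/-- `T_p ≅ Hom(Q, -)`. -/
noncomputable def corepIso :
    TFun P p ≅ (linearCoyoneda A (ModuleCat.{u} A)).obj (op (ModuleCat.of A (Q (dbar P p)))) :=
  NatIso.ofComponents (fun M => (corepEquiv P p h1 h2 h3 h4 M).toModuleIso) (by
    intro M N g
    ext t
    apply ModuleCat.hom_ext
    exact Theta_natural P p g t)

end general

section final

variable {A : Type u} [CommRing A]

instance coyoneda_preservesMono (Q : ModuleCat.{u} A) :
    ((linearCoyoneda A (ModuleCat.{u} A)).obj (op Q)).PreservesMonomorphisms :=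
  ⟨fun {M N} f hf => by
    rw [ModuleCat.mono_iff_injective]
    intro h h' hh
    exact (cancel_mono f).mp hh⟩

theorem finite_of_corep {ι : Type} {c : ComplexShape ι}
    (P : HomologicalComplex (ModuleCat.{u} A) c) (p : ι)
    (hflat : Module.Flat A (P.X (c.next p))) (Q : ModuleCat.{u} A)
    (e : TFun P p ≅ (linearCoyoneda A (ModuleCat.{u} A)).obj (op Q)) : Module.Finite A Q := by
  obtain ⟨z, hz, hzt⟩ := exists_cls ((e.inv.app Q).hom (𝟙 Q))
  obtain ⟨Q', hQ'fin, hsub⟩ := TensorProduct.exists_finite_submodule_right_of_setFinite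
    ({z} : Set (P.X p ⊗[A] Q)) (Set.finite_singleton z)
  obtain ⟨z', hz'⟩ := hsub (Set.mem_singleton z)
  let ιQ : ModuleCat.of A Q' ⟶ Q := ModuleCat.ofHom Q'.subtype
  have hz'c : LinearMap.rTensor (ModuleCat.of A Q') (P.d p (c.next p)).hom z' = 0 := by
    have hinj : Function.Injective (LinearMap.lTensor (P.X (c.next p)) Q'.subtype) :=
      Module.Flat.lTensor_preserves_injective_linearMap _ (Submodule.subtype_injective _)
    apply hinj
    rw [← rTensor_lTensor_apply, hz', map_zero]
    exact hz
  have hmap : ((TFun P p).map ιQ).hom (cls z' hz'c) = cls z hz := by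
    rw [map_cls]
    exact cls_congr hz' _
  have hnat := congrArg (fun f => f.hom (cls z' hz'c)) (e.hom.naturality ιQ)
  simp only [ModuleCat.hom_comp, LinearMap.comp_apply] at hnat
  rw [hmap, hzt] at hnat
  have h1 : (e.hom.app Q).hom ((e.inv.app Q).hom (𝟙 Q)) = 𝟙 Q := by
    have := congrArg (fun f => f.hom (𝟙 Q)) (e.inv_hom_id_app Q)
    exact this
  rw [h1] at hnat
  -- hnat : 𝟙 Q = (e.hom.app Q' t') ≫ ιQ
  have hsurj : Function.Surjective Q'.subtype := by
    intro q
    have := congrArg (fun f => f.hom q) hnat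
    exact ⟨_, this.symm⟩
  exact Module.Finite.of_surjective Q'.subtype hsurj

end final

end Groth.Agent.Lib.TFunCorep
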