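import Groth.Agent.Lib.FibreAlg21
import Groth.Agent.Lib.LocalVanish21
import Groth.Agent.Lib.TFunCorep
import Groth.Agent.Lib.DRankBC

/-!
# Transfer of the exactness properties of `T^i_L` from a Noetherian model to an arbitrary base ring (helper21)

`A₀` Noetherian, `L₀` a cochain complex of finite flat `A₀`-modules, `A` an arbitrary `A₀`-algebra and
`L = A ⊗ L₀`.  The exactness properties of the functors `T^i_L` are governed by the flatness (= projectivity) of the
finitely presented modules `Copc L j = coker (L^{j-1} → L^j)`, and the free locus of `Copc` is compatible with base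
change.  Hence the pointwise information `dim H^j(L₀ ⊗ κ(x₀)) = 0` at the images `x₀` of the primes of `A` transfers to
`A`, although `A` is not Noetherian:

* `mem_freeLocus_of_dRank_eq_zero`: `dRank L₀ j x₀ = 0 ⇒ x₀ ∈ freeLocus (Copc L₀ j) ∩ freeLocus (Copc L₀ (j+1))`;
* `mem_freeLocus_bcCx`: the free locus of `Copc` pulls back along `Spec A → Spec A₀`;
* `finite_projective_NN`: over any ring, `Copc L p` and `Copc L (p+1)` projective `⇒ H^p(L)` is finite projective;
* `subsingleton_NN_of_dRank_eq_zero`: ... and `H^p(L) = 0` when all the fibre ranks vanish;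
* `vanish`, `concentrated`: the two consumers, for `L = A ⊗ L₀`.
-/

set_option autoImplicit false
set_option linter.style.haveILetI false
universe u

open CategoryTheory CategoryTheory.Limits CohIII TensorProduct

namespace Groth.Agent.Lib.CopcTransfer21

open Groth.Agent.Lib.TFun Groth.Agent.Lib.TFunAcyclic Groth.Agent.Lib.TFunRank
  Groth.Agent.Lib.TFunBC Groth.Agent.Lib.FibreAlg21 Groth.Agent.Lib.TFunCorep

section Noeth

variable {A₀ : Type u} [CommRing A₀] [IsNoetherianRing A₀]
  (L₀ : CochainComplex (ModuleCat.{u} A₀) ℤ)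
  (hP : ∀ i, Module.Flat A₀ (L₀.X i)) (hfin : ∀ i, Module.Finite A₀ (L₀.X i))
include hP hfin

/-- **Pointwise vanishing gives local freeness of the neighbouring opcycles.** -/
theorem mem_freeLocus_of_dRank_eq_zero (j : ℤ) (x₀ : PrimeSpectrum A₀) (h : dRank L₀ j x₀ = 0) :
    x₀ ∈ Module.freeLocus A₀ (Copc L₀ j) ∧ x₀ ∈ Module.freeLocus A₀ (Copc L₀ (j + 1)) := by
  have h1 := Groth.Agent.Lib.LocalVanish21.isZero_TFun_residue_of_dRank_eq_zero L₀ hfin j x₀ h
  have hz := isZero_bcCx_of_isZero_residue L₀ hP hfin x₀ j h1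
  have hP' := flat_bcCx_X (Localization.AtPrime x₀.asIdeal) L₀ hP
  constructor
  · have he : (TFun (bcCx (algebraMap A₀ (Localization.AtPrime x₀.asIdeal)) L₀)
        (j - 1)).PreservesEpimorphisms :=
      (preservesEpi_iff_preservesMono _ hP' (j - 1) j (by simp)).mpr
        (preservesMono_of_isZero_obj _ hz)
    haveI := hfin j
    have hloc := preservesEpi_locus L₀ hP (j - 1) j (by simp)
    rw [← hloc]
    exact he
  · have hm : (TFun (bcCx (algebraMap A₀ (Localization.AtPrime x₀.asIdeal)) L₀)
        (j + 1)).PreservesMonomorphisms :=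
      (preservesEpi_iff_preservesMono _ hP' j (j + 1) (up_rel j)).mp
        (preservesEpi_of_isZero_obj _ hz)
    haveI := hfin (j + 1)
    have hloc := preservesMono_locus L₀ hP (j + 1)
    rw [← hloc]
    exact hm

end Noeth

section BC

variable {A₀ : Type u} [CommRing A₀] (A : Type u) [CommRing A] [Algebra A₀ A]
  (L₀ : CochainComplex (ModuleCat.{u} A₀) ℤ)

/-- the free locus of the opcycles pulls back along `Spec A ⟶ Spec A₀` -/
theorem mem_freeLocus_bcCx (j : ℤ) (x : PrimeSpectrum A)
    (h : PrimeSpectrum.comap (algebraMap A₀ A) x ∈ Module.freeLocus A₀ (Copc L₀ j)) :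
    x ∈ Module.freeLocus A (Copc (bcCx (algebraMap A₀ A) L₀) j) := by
  rw [Module.freeLocus_congr (copcEquiv A L₀ j)]
  exact Module.comap_freeLocus_le h

end BC

section LinAlg

variable {A : Type u} [CommRing A] {C M₂ : Type u} [AddCommGroup C] [Module A C]
  [AddCommGroup M₂] [Module A M₂]

/-- if the cokernel of `g : C → M₂` is projective (and `M₂` is projective), then `ker g` is a direct summand of `C` -/
theorem exists_retraction_ker [Module.Projective A M₂] (g : C →ₗ[A] M₂)
    (hproj : Module.Projective A (M₂ ⧸ LinearMap.range g)) :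
    ∃ π : C →ₗ[A] LinearMap.ker g, ∀ z : LinearMap.ker g, π z.1 = z := by
  -- the range of `g` is a direct summand of `M₂`, hence projective
  obtain ⟨σ, hσ⟩ := Module.projective_lifting_property (LinearMap.range g).mkQ LinearMap.id
    (Submodule.mkQ_surjective _)
  have hσ' : ∀ q, (LinearMap.range g).mkQ (σ q) = q := fun q => LinearMap.congr_fun hσ q
  let r : M₂ →ₗ[A] LinearMap.range g :=
    LinearMap.codRestrict (LinearMap.range g) (LinearMap.id - σ ∘ₗ (LinearMap.range g).mkQ) (by
      intro m
      have h0 : (LinearMap.range g).mkQ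
          ((LinearMap.id - σ ∘ₗ (LinearMap.range g).mkQ : M₂ →ₗ[A] M₂) m) = 0 := by
        simp only [LinearMap.sub_apply, LinearMap.id_coe, id_eq, LinearMap.coe_comp,
          Function.comp_apply, map_sub, hσ', sub_self]
      exact (Submodule.Quotient.mk_eq_zero _).mp h0)
  have hr : ∀ y : LinearMap.range g, r y.1 = y := by
    intro y
    apply Subtype.ext
    have h0 : (LinearMap.range g).mkQ y.1 = 0 := by
      rw [Submodule.mkQ_apply, Submodule.Quotient.mk_eq_zero]
      exact y.2
    change y.1 - σ ((LinearMap.range g).mkQ y.1) = y.1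
    rw [h0, map_zero, sub_zero]
  haveI : Module.Projective A (LinearMap.range g) :=
    Module.Projective.of_split (LinearMap.range g).subtype r (by
      ext y
      exact congrArg Subtype.val (hr y))
  obtain ⟨τ, hτ⟩ := Module.projective_lifting_property g.rangeRestrict LinearMap.id
    g.surjective_rangeRestrict
  have hτ' : ∀ y, g.rangeRestrict (τ y) = y := fun y => LinearMap.congr_fun hτ y
  refine ⟨LinearMap.codRestrict (LinearMap.ker g) (LinearMap.id - τ ∘ₗ g.rangeRestrict) ?_, ?_⟩
  · intro c
    rw [LinearMap.mem_ker]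
    have h1 : g (τ (g.rangeRestrict c)) = g c := by
      have := congrArg Subtype.val (hτ' (g.rangeRestrict c))
      exact this
    simp only [LinearMap.sub_apply, LinearMap.id_coe, id_eq, LinearMap.coe_comp,
      Function.comp_apply, map_sub, h1, sub_self]
  · intro z
    apply Subtype.ext
    have h0 : g.rangeRestrict z.1 = 0 := by
      apply Subtype.ext
      exact LinearMap.mem_ker.mp z.2
    change z.1 - τ (g.rangeRestrict z.1) = z.1
    rw [h0, map_zero, sub_zero]

theorem finite_ker_of_projective_coker [Module.Projective A M₂] [Module.Finite A C]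
    (g : C →ₗ[A] M₂) (hproj : Module.Projective A (M₂ ⧸ LinearMap.range g)) :
    Module.Finite A (LinearMap.ker g) := by
  obtain ⟨π, hπ⟩ := exists_retraction_ker g hproj
  exact Module.Finite.of_surjective π (fun z => ⟨z.1, hπ z⟩)

theorem projective_ker_of_projective_coker [Module.Projective A M₂] [Module.Projective A C]
    (g : C →ₗ[A] M₂) (hproj : Module.Projective A (M₂ ⧸ LinearMap.range g)) :
    Module.Projective A (LinearMap.ker g) := by
  obtain ⟨π, hπ⟩ := exists_retraction_ker g hproj
  exact Module.Projective.of_split (LinearMap.ker g).subtype π (by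
    ext z
    exact congrArg Subtype.val (hπ z))

/-- `ker (g ⊗ A) ≃ ker g` -/
noncomputable def kerRTensorEquiv (g : C →ₗ[A] M₂) :
    LinearMap.ker (g.rTensor A) ≃ₗ[A] LinearMap.ker g :=
  LinearEquiv.ofEq _ _ (by
    ext z
    rw [Submodule.mem_comap, LinearMap.mem_ker, LinearMap.mem_ker, LinearEquiv.coe_coe]
    have h : g (TensorProduct.rid A C z) = TensorProduct.rid A M₂ (g.rTensor A z) := by
      induction z using TensorProduct.induction_on with
      | zero => simp
      | tmul c a => simp
      | add z w hz hw => simp only [map_add, hz, hw]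
    rw [h, LinearEquiv.map_eq_zero_iff]) ≪≫ₗ
    (TensorProduct.rid A C).ofSubmodule' (LinearMap.ker g)

end LinAlg

section AnyRing

variable {A : Type u} [CommRing A] {ι : Type} {c : ComplexShape ι}
  (P : HomologicalComplex (ModuleCat.{u} A) c)

theorem finitePresentation_Copc (j : ι) [Module.Finite A (P.X (c.prev j))]
    [Module.FinitePresentation A (P.X j)] : Module.FinitePresentation A (Copc P j) := by
  refine Module.finitePresentation_of_surjective (LinearMap.range (P.d (c.prev j) j).hom).mkQ
    (Submodule.mkQ_surjective _) ?_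
  rw [Submodule.ker_mkQ, LinearMap.range_eq_map]
  exact Submodule.FG.map _ Module.Finite.fg_top

/-- the quotient of `P_{next i}` by the image of `d` is `Copc P j` when `c.Rel i j` -/
theorem projective_quot_next (i j : ι) (hij : c.Rel i j) (h : Module.Projective A (Copc P j)) :
    Module.Projective A (P.X (c.next i) ⧸ LinearMap.range (P.d i (c.next i)).hom) := by
  have hprev : c.prev j = i := c.prev_eq' hij
  have h2 : Module.Projective A (P.X j ⧸ LinearMap.range (P.d i j).hom) := by
    unfold Copc at h
    rw [hprev] at h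
    exact h
  obtain rfl := c.next_eq' hij
  exact h2

theorem range_dbar (p : ι) :
    LinearMap.range (dbar P p) = LinearMap.range (P.d p (c.next p)).hom := by
  rw [← dbar_comp_mkQ, LinearMap.range_comp_of_range_eq_top]
  exact Submodule.range_mkQ _

/-- **`H^p(P)` is finite projective when `Copc P p` and `Copc P j` (`c.Rel p j`) are finite projective.** -/
theorem finite_projective_NN (p j : ι) (hpj : c.Rel p j)
    [Module.Projective A (P.X (c.next p))]
    [Module.Finite A (Copc P p)] (h1 : Module.Projective A (Copc P p))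
    (h2 : Module.Projective A (Copc P j)) :
    Module.Finite A ((TFun P p).obj (ModuleCat.of A A)) ∧
      Module.Projective A ((TFun P p).obj (ModuleCat.of A A)) := by
  have hq : Module.Projective A (P.X (c.next p) ⧸ LinearMap.range (dbar P p)) := by
    rw [range_dbar]
    exact projective_quot_next P p j hpj h2
  let e : (TFun P p).obj (ModuleCat.of A A) ≃ₗ[A] LinearMap.ker (dbar P p) :=
    (LinearEquiv.ofBijective (TtoKer P p (ModuleCat.of A A))
      (TtoKer_bijective P p (ModuleCat.of A A))) ≪≫ₗ kerRTensorEquiv (dbar P p)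
  haveI := finite_ker_of_projective_coker (dbar P p) hq
  haveI := projective_ker_of_projective_coker (dbar P p) hq
  exact ⟨Module.Finite.equiv e.symm, Module.Projective.of_equiv e.symm⟩

end AnyRing

section Consumers

variable {A : Type u} [CommRing A] (L : CochainComplex (ModuleCat.{u} A) ℤ)
  (hfin : ∀ i, Module.Finite A (L.X i)) (hfree : ∀ i, Module.Free A (L.X i))
include hfin hfree

theorem projective_Copc_of_forall_mem_freeLocus (j : ℤ)
    (h : ∀ x : PrimeSpectrum A, x ∈ Module.freeLocus A (Copc L j)) :
    Module.Finite A (Copc L j) ∧ Module.Projective A (Copc L j) := by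
  haveI := hfin j
  haveI := hfree j
  haveI := hfin ((ComplexShape.up ℤ).prev j)
  haveI : Module.FinitePresentation A (L.X j) := Module.finitePresentation_of_projective A _
  haveI := finitePresentation_Copc L j
  exact ⟨inferInstance, Module.freeLocus_eq_univ_iff.mp (Set.eq_univ_iff_forall.mpr h)⟩

/-- **Concentration**: if the opcycles in degrees `p`, `p + 1` are locally free at every prime, `H^p(L)` is finite
projective. -/
theorem finite_projective_NN_of_freeLocus (p : ℤ)
    (h1 : ∀ x : PrimeSpectrum A, x ∈ Module.freeLocus A (Copc L p))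
    (h2 : ∀ x : PrimeSpectrum A, x ∈ Module.freeLocus A (Copc L (p + 1))) :
    Module.Finite A (NN L p) ∧ Module.Projective A (NN L p) := by
  obtain ⟨hf1, hp1⟩ := projective_Copc_of_forall_mem_freeLocus L hfin hfree p h1
  obtain ⟨-, hp2⟩ := projective_Copc_of_forall_mem_freeLocus L hfin hfree (p + 1) h2
  haveI := hfree ((ComplexShape.up ℤ).next p)
  exact finite_projective_NN L p (p + 1) (up_rel p) hp1 hp2

/-- **Vanishing**: ... and `H^p(L) = 0` if moreover all the fibre ranks `dRank L p x` vanish. -/
theorem subsingleton_NN_of_dRank_eq_zero (p : ℤ)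
    (h1 : ∀ x : PrimeSpectrum A, x ∈ Module.freeLocus A (Copc L p))
    (h2 : ∀ x : PrimeSpectrum A, x ∈ Module.freeLocus A (Copc L (p + 1)))
    (h0 : ∀ x : PrimeSpectrum A, dRank L p x = 0) : Subsingleton (NN L p) := by
  obtain ⟨hf, hpr⟩ := finite_projective_NN_of_freeLocus L hfin hfree p h1 h2
  obtain ⟨-, hp2⟩ := projective_Copc_of_forall_mem_freeLocus L hfin hfree (p + 1) h2
  have hP : ∀ i, Module.Flat A (L.X i) := fun i => by
    haveI := hfree i
    infer_instance
  have he : (TFun L p).PreservesEpimorphisms :=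
    (preservesEpi_iff L hP p (p + 1) (up_rel p)).mpr inferInstance
  haveI : Module.Flat A (NN L p) := inferInstance
  rw [← Module.rankAtStalk_eq_zero_iff_subsingleton (R := A)]
  funext x
  rw [Pi.zero_apply, ← fibRank_eq_rankAtStalk (NN L p) x,
    ← Groth.Agent.Lib.TFunCompare.dRank_eq_fibRank_of_preservesEpi L p hP he x]
  exact h0 x

end Consumers

section Transfer

variable {A₀ : Type u} [CommRing A₀] [IsNoetherianRing A₀] (A : Type u) [CommRing A] [Algebra A₀ A]
  (L₀ : CochainComplex (ModuleCat.{u} A₀) ℤ)
  (h1 : ∀ i, Module.Finite A₀ (L₀.X i) ∧ Module.Free A₀ (L₀.X i))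
include h1

omit [IsNoetherianRing A₀] in
theorem finite_free_bcCx (i : ℤ) :
    Module.Finite A ((bcCx (algebraMap A₀ A) L₀).X i) ∧
      Module.Free A ((bcCx (algebraMap A₀ A) L₀).X i) := by
  haveI := (h1 i).1
  haveI := (h1 i).2
  exact ⟨Module.Finite.equiv
      (Groth.Agent.Lib.TildePullback.extendScalarsEquiv A₀ A (L₀.X i)).symm,
    Module.Free.of_equiv (Groth.Agent.Lib.TildePullback.extendScalarsEquiv A₀ A (L₀.X i)).symm⟩

/-- transfer of the pointwise vanishing to the opcycles of `A ⊗ L₀` -/
theorem mem_freeLocus_of_dRank_comap_eq_zero (j : ℤ) (x : PrimeSpectrum A)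
    (h : dRank L₀ j (PrimeSpectrum.comap (algebraMap A₀ A) x) = 0) :
    x ∈ Module.freeLocus A (Copc (bcCx (algebraMap A₀ A) L₀) j) ∧
      x ∈ Module.freeLocus A (Copc (bcCx (algebraMap A₀ A) L₀) (j + 1)) := by
  have hP : ∀ i, Module.Flat A₀ (L₀.X i) := fun i => by
    haveI := (h1 i).2
    infer_instance
  obtain ⟨ha, hb⟩ := mem_freeLocus_of_dRank_eq_zero L₀ hP (fun i => (h1 i).1) j _ h
  exact ⟨mem_freeLocus_bcCx A L₀ j x ha, mem_freeLocus_bcCx A L₀ (j + 1) x hb⟩

/-- **Vanishing over an arbitrary base**: if `dim H^p(L₀ ⊗ κ(x₀)) = 0` at the image `x₀` of every prime of `A`, then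
`H^p(A ⊗ L₀) = 0`. -/
theorem vanish (p : ℤ)
    (h : ∀ x : PrimeSpectrum A, dRank L₀ p (PrimeSpectrum.comap (algebraMap A₀ A) x) = 0) :
    Subsingleton (NN (bcCx (algebraMap A₀ A) L₀) p) :=
  subsingleton_NN_of_dRank_eq_zero _ (fun i => (finite_free_bcCx A L₀ h1 i).1)
    (fun i => (finite_free_bcCx A L₀ h1 i).2) p
    (fun x => (mem_freeLocus_of_dRank_comap_eq_zero A L₀ h1 p x (h x)).1)
    (fun x => (mem_freeLocus_of_dRank_comap_eq_zero A L₀ h1 p x (h x)).2)
    (fun x => by rw [Groth.Agent.Lib.DRankBC.dRank_bcCx]; exact h x)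

/-- **Concentration over an arbitrary base**: if the fibre cohomology in degrees `p - 1` and `p + 1` vanishes at the
image of every prime of `A`, then `H^p(A ⊗ L₀)` is finite projective. -/
theorem concentrated (p : ℤ)
    (hdown : ∀ x : PrimeSpectrum A,
      dRank L₀ (p - 1) (PrimeSpectrum.comap (algebraMap A₀ A) x) = 0)
    (hup : ∀ x : PrimeSpectrum A,
      dRank L₀ (p + 1) (PrimeSpectrum.comap (algebraMap A₀ A) x) = 0) :
    Module.Finite A (NN (bcCx (algebraMap A₀ A) L₀) p) ∧
      Module.Projective A (NN (bcCx (algebraMap A₀ A) L₀) p) :=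
  finite_projective_NN_of_freeLocus _ (fun i => (finite_free_bcCx A L₀ h1 i).1)
    (fun i => (finite_free_bcCx A L₀ h1 i).2) p
    (fun x => by
      have := (mem_freeLocus_of_dRank_comap_eq_zero A L₀ h1 (p - 1) x (hdown x)).2
      rwa [sub_add_cancel] at this)
    (fun x => (mem_freeLocus_of_dRank_comap_eq_zero A L₀ h1 (p + 1) x (hup x)).1)

end Transfer

end Groth.Agent.Lib.CopcTransfer21
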