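import Mathlib

/-!
# Coprime leading monomials give regular sequences (helper99)

`m` a monomial order on `σ`, `R` a commutative ring.  A set `B` of polynomials is a *Gröbner set*
(`IsGB m B`) if every nonzero element of `Ideal.span B` has degree divisible by the degree of some
element of `B`.  If all leading coefficients are units and the leading monomials are pairwise
coprime then:

* `IsGB.insert`: Gröbner sets can be enlarged (Buchberger's first criterion, elementary proof);
* `IsGB.mem_of_mul_mem`: a new such polynomial is a nonzerodivisor modulo `Ideal.span B`;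
* `isRegular_of_coprime`: a list of such polynomials is a regular sequence.
-/

set_option autoImplicit false

namespace Groth.Agent.Lib.CoprimeLeadReg99

open MvPolynomial MonomialOrder

variable {σ : Type*} (m : MonomialOrder σ) {R : Type*} [CommRing R]

/-- Coprimality of monomials. -/
def Cop (d d' : σ →₀ ℕ) : Prop := ∀ s, d s = 0 ∨ d' s = 0

lemma Cop.symm {d d' : σ →₀ ℕ} (h : Cop d d') : Cop d' d := fun s => (h s).symm

lemma le_of_le_add_of_cop {b c d : σ →₀ ℕ} (h : b ≤ c + d) (hc : Cop b d) : b ≤ c := by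
  intro s
  have hs := h s
  rcases hc s with h0 | h0
  · rw [h0]; exact Nat.zero_le _
  · rw [Finsupp.add_apply, h0, add_zero] at hs
    exact hs

/-- Gröbner sets. -/
def IsGB (B : Set (MvPolynomial σ R)) : Prop :=
  ∀ h ∈ Ideal.span B, h ≠ 0 → ∃ b ∈ B, m.degree b ≤ m.degree h

lemma isGB_empty : IsGB m (∅ : Set (MvPolynomial σ R)) := by
  intro h hh hne
  rw [Ideal.span_empty, Ideal.mem_bot] at hh
  exact absurd hh hne

variable {m}

/-- Division with remainder modulo a set, in ideal-membership form. -/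
lemma exists_reduced {B : Set (MvPolynomial σ R)} (hB : ∀ b ∈ B, IsUnit (m.leadingCoeff b))
    (g : MvPolynomial σ R) :
    ∃ ρ : MvPolynomial σ R, g - ρ ∈ Ideal.span B ∧ ∀ c ∈ ρ.support, ∀ b ∈ B, ¬ m.degree b ≤ c := by
  obtain ⟨q, ρ, hg, -, hρ⟩ := m.div_set hB g
  refine ⟨ρ, ?_, hρ⟩
  rw [hg, add_sub_cancel_right, Finsupp.linearCombination_apply]
  apply Ideal.sum_mem
  intro b _
  change q b • (b : MvPolynomial σ R) ∈ Ideal.span B
  rw [smul_eq_mul]
  exact Ideal.mul_mem_left _ _ (Ideal.subset_span b.2)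

lemma degree_mul_of_unit {f ρ : MvPolynomial σ R} (hf : IsUnit (m.leadingCoeff f)) (hρ : ρ ≠ 0) :
    m.degree (f * ρ) = m.degree f + m.degree ρ :=
  degree_mul_of_isRegular_left hf.isRegular hρ

lemma mul_ne_zero_of_unit {f ρ : MvPolynomial σ R} (hf : IsUnit (m.leadingCoeff f)) (hρ : ρ ≠ 0) :
    f * ρ ≠ 0 := by
  intro h0
  have hmem : f ∈ nonZeroDivisors (MvPolynomial σ R) :=
    m.mem_nonZeroDivisors_of_leadingCoeff_mem_nonZeroDivisors hf.mem_nonZeroDivisors
  exact hρ ((mul_left_mem_nonZeroDivisors_eq_zero_iff hmem).mp h0)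

/-- A reduced nonzero polynomial times `f` is not in the ideal. -/
lemma reduced_eq_zero {B : Set (MvPolynomial σ R)} (hG : IsGB m B)
    {f : MvPolynomial σ R} (hf : IsUnit (m.leadingCoeff f))
    (hcop : ∀ b ∈ B, Cop (m.degree b) (m.degree f))
    {ρ : MvPolynomial σ R} (hρ : ∀ c ∈ ρ.support, ∀ b ∈ B, ¬ m.degree b ≤ c)
    (hmem : f * ρ ∈ Ideal.span B) : ρ = 0 := by
  by_contra hne
  obtain ⟨b, hb, hle⟩ := hG _ hmem (mul_ne_zero_of_unit hf hne)
  rw [degree_mul_of_unit hf hne, add_comm] at hle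
  exact hρ _ (m.degree_mem_support hne) b hb (le_of_le_add_of_cop hle (hcop b hb))

/-- **Regularity**: `f` is a nonzerodivisor modulo `Ideal.span B`. -/
theorem IsGB.mem_of_mul_mem {B : Set (MvPolynomial σ R)} (hG : IsGB m B)
    (hB : ∀ b ∈ B, IsUnit (m.leadingCoeff b))
    {f : MvPolynomial σ R} (hf : IsUnit (m.leadingCoeff f))
    (hcop : ∀ b ∈ B, Cop (m.degree b) (m.degree f))
    {g : MvPolynomial σ R} (hmem : f * g ∈ Ideal.span B) : g ∈ Ideal.span B := by
  obtain ⟨ρ, hgρ, hρ⟩ := exists_reduced hB g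
  have h1 : f * ρ ∈ Ideal.span B := by
    have : f * ρ = f * g - f * (g - ρ) := by ring
    rw [this]
    exact Ideal.sub_mem _ hmem (Ideal.mul_mem_left _ _ hgρ)
  have h0 := reduced_eq_zero hG hf hcop hρ h1
  rw [h0, sub_zero] at hgρ
  exact hgρ

/-- **Buchberger's first criterion** (elementary form). -/
theorem IsGB.insert {B : Set (MvPolynomial σ R)} (hG : IsGB m B)
    (hB : ∀ b ∈ B, IsUnit (m.leadingCoeff b))
    {f : MvPolynomial σ R} (hf : IsUnit (m.leadingCoeff f))
    (hcop : ∀ b ∈ B, Cop (m.degree b) (m.degree f)) : IsGB m (insert f B) := by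
  intro h hh hne
  obtain ⟨q, h₀, hh₀, rfl⟩ := Ideal.mem_span_insert.mp hh
  obtain ⟨ρ, hqρ, hρ⟩ := exists_reduced hB q
  -- `q * f + h₀ = f * ρ + h'`
  set h' : MvPolynomial σ R := h₀ + f * (q - ρ) with hh'
  have hh'mem : h' ∈ Ideal.span B := Ideal.add_mem _ hh₀ (Ideal.mul_mem_left _ _ hqρ)
  have hdecomp : q * f + h₀ = f * ρ + h' := by rw [hh']; ring
  rw [hdecomp] at hne ⊢
  by_cases hρ0 : ρ = 0
  · rw [hρ0, mul_zero, zero_add] at hne ⊢
    obtain ⟨b, hb, hle⟩ := hG _ hh'mem hne
    exact ⟨b, Set.mem_insert_of_mem _ hb, hle⟩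
  · have hdeg : m.degree (f * ρ) = m.degree f + m.degree ρ := degree_mul_of_unit hf hρ0
    by_cases hh'0 : h' = 0
    · rw [hh'0, add_zero, hdeg]
      exact ⟨f, Set.mem_insert _ _, le_self_add⟩
    · obtain ⟨b, hb, hle⟩ := hG _ hh'mem hh'0
      have hnedeg : m.degree (f * ρ) ≠ m.degree h' := by
        intro heq
        rw [← heq, hdeg, add_comm] at hle
        exact hρ _ (m.degree_mem_support hρ0) b hb (le_of_le_add_of_cop hle (hcop b hb))
      have hmax := m.degree_add_of_ne hnedeg
      rcases le_total (m.toSyn (m.degree (f * ρ))) (m.toSyn (m.degree h')) with hcase | hcase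
      · rw [sup_eq_right.mpr hcase] at hmax
        rw [m.toSyn.injective hmax]
        exact ⟨b, Set.mem_insert_of_mem _ hb, hle⟩
      · rw [sup_eq_left.mpr hcase] at hmax
        rw [m.toSyn.injective hmax, hdeg]
        exact ⟨f, Set.mem_insert _ _, le_self_add⟩

/-- The unit ideal is not generated by a Gröbner set of nonconstant polynomials. -/
theorem IsGB.one_notMem [Nontrivial R] {B : Set (MvPolynomial σ R)} (hG : IsGB m B)
    (hd : ∀ b ∈ B, m.degree b ≠ 0) : (1 : MvPolynomial σ R) ∉ Ideal.span B := by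
  intro h1
  obtain ⟨b, hb, hle⟩ := hG 1 h1 one_ne_zero
  rw [m.degree_one] at hle
  exact hd b hb (le_antisymm hle _root_.zero_le)

/-- A list of polynomials with unit leading coefficients and pairwise coprime leading monomials
is a Gröbner set and a weakly regular sequence. -/
theorem isGB_and_isWeaklyRegular (rs : List (MvPolynomial σ R))
    (hu : ∀ f ∈ rs, IsUnit (m.leadingCoeff f))
    (hp : rs.Pairwise (fun f g => Cop (m.degree f) (m.degree g))) :
    IsGB m {f | f ∈ rs} ∧ RingTheory.Sequence.IsWeaklyRegular (MvPolynomial σ R) rs := by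
  induction rs using List.reverseRecOn with
  | nil => exact ⟨by simpa using isGB_empty m, .nil _ _⟩
  | append_singleton l f ih =>
    rw [List.pairwise_append] at hp
    obtain ⟨hpl, -, hpf⟩ := hp
    have hul : ∀ g ∈ l, IsUnit (m.leadingCoeff g) := fun g hg => hu g (List.mem_append_left _ hg)
    have huf : IsUnit (m.leadingCoeff f) := hu f (by simp)
    obtain ⟨hG, hW⟩ := ih hul hpl
    have hcop : ∀ b ∈ {g | g ∈ l}, Cop (m.degree b) (m.degree f) :=
      fun b hb => hpf b hb f (by simp)
    constructor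
    · have : {g | g ∈ l ++ [f]} = insert f {g | g ∈ l} := by
        ext g
        simp [or_comm]
      rw [this]
      exact hG.insert hul huf hcop
    · rw [RingTheory.Sequence.isWeaklyRegular_append_iff]
      refine ⟨hW, ?_⟩
      rw [RingTheory.Sequence.isWeaklyRegular_singleton_iff,
        isSMulRegular_on_quot_iff_lsmul_comap_le]
      intro g hg
      have e : (Ideal.ofList l • (⊤ : Submodule (MvPolynomial σ R) (MvPolynomial σ R))) =
          Ideal.span {g | g ∈ l} := by
        rw [smul_eq_mul, Ideal.mul_top]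
      rw [e] at hg ⊢
      exact hG.mem_of_mul_mem hul huf hcop hg

/-- **Regular sequences from coprime leading monomials.** -/
theorem isRegular_of_coprime [Nontrivial R] (rs : List (MvPolynomial σ R))
    (hu : ∀ f ∈ rs, IsUnit (m.leadingCoeff f)) (hd : ∀ f ∈ rs, m.degree f ≠ 0)
    (hp : rs.Pairwise (fun f g => Cop (m.degree f) (m.degree g))) :
    RingTheory.Sequence.IsRegular (MvPolynomial σ R) rs := by
  obtain ⟨hG, hW⟩ := isGB_and_isWeaklyRegular rs hu hp
  refine ⟨hW, ?_⟩
  have e : (Ideal.ofList rs • (⊤ : Submodule (MvPolynomial σ R) (MvPolynomial σ R))) =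
      Ideal.span {g | g ∈ rs} := by
    rw [smul_eq_mul, Ideal.mul_top]
  rw [e]
  intro h
  exact hG.one_notMem hd (h ▸ Submodule.mem_top)

section Lex

open scoped MonomialOrder

variable {τ : Type*} [LinearOrder τ] [WellFoundedGT τ]

/-- Degree and leading coefficient of `c X^d + (lex-smaller terms)`. -/
lemma lex_degree_leadingCoeff (d : τ →₀ ℕ) (hd : d ≠ 0) (c : R) (hc : c ≠ 0)
    (g : MvPolynomial τ R) (hg : ∀ b ∈ g.support, toLex b < toLex d) :
    MonomialOrder.lex.degree (monomial d c + g) = d ∧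
      MonomialOrder.lex.leadingCoeff (monomial d c + g) = c := by
  classical
  have hd0 : (0 : τ →₀ ℕ) ≺[MonomialOrder.lex] d := by
    rw [map_zero, MonomialOrder.toSyn_lt_iff_ne_zero]
    intro h0
    exact hd ((MonomialOrder.toSyn_eq_zero_iff _ _).mp h0)
  have hdeg : MonomialOrder.lex.degree g ≺[MonomialOrder.lex]
      MonomialOrder.lex.degree (monomial d c) := by
    rw [MonomialOrder.degree_monomial, if_neg hc, MonomialOrder.degree_lt_iff hd0]
    exact hg
  refine ⟨?_, ?_⟩
  · rw [MonomialOrder.degree_add_of_lt hdeg, MonomialOrder.degree_monomial, if_neg hc]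
  · rw [MonomialOrder.leadingCoeff_add_of_lt hdeg, MonomialOrder.leadingCoeff_monomial]

end Lex

end Groth.Agent.Lib.CoprimeLeadReg99
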