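import Groth.Agent.Lib.FinRegFree89

/-!
# Coproduct decompositions of a finite regular extension (helper89)

`R → A` finite injective, both regular local; `B i ⊆ A` inverse-closed `R`-subalgebras such that
`A` is the coproduct of the `B i` in commutative `R`-algebras (universal property). Then every
`B i` is a free `R`-module and a regular local ring (`free_and_regular`).
-/

set_option autoImplicit false
set_option linter.style.haveILetI false
universe u v

open IsLocalRing TensorProduct

namespace Groth.Agent.Lib.CoprodSubalg89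

section retraction

variable {R : Type u} {A : Type v} [CommRing R] [CommRing A] [Algebra R A]

/-- A finite free algebra over a local ring, in which `1 ∉ 𝔪 A`, admits an `R`-linear retraction
of the structure map. -/
theorem exists_retraction [IsLocalRing R] [Module.Free R A] [Module.Finite R A]
    (h1 : (1 : A) ∉ (maximalIdeal R • (⊤ : Submodule R A))) : ∃ ρ : A →ₗ[R] R, ρ 1 = 1 := by
  classical
  let b := Module.Free.chooseBasis R A
  haveI : Fintype (Module.Free.ChooseBasisIndex R A) := Module.Free.ChooseBasisIndex.fintype R A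
  have hex : ∃ k, IsUnit (b.repr 1 k) := by
    by_contra hcon
    apply h1
    have hs : (1 : A) = ∑ k, b.repr 1 k • b k := (b.sum_repr 1).symm
    rw [hs]
    refine Submodule.sum_mem _ fun k _ => ?_
    refine Submodule.smul_mem_smul ?_ Submodule.mem_top
    rw [mem_maximalIdeal, mem_nonunits_iff]
    intro hu
    exact hcon ⟨k, hu⟩
  obtain ⟨k, hk⟩ := hex
  obtain ⟨c, hc⟩ := hk
  refine ⟨(↑c⁻¹ : R) • b.coord k, ?_⟩
  rw [LinearMap.smul_apply, Module.Basis.coord_apply, ← hc, smul_eq_mul, Units.inv_mul]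

theorem one_notMem_smul_top [IsLocalRing R] [IsLocalRing A] [IsLocalHom (algebraMap R A)] :
    (1 : A) ∉ (maximalIdeal R • (⊤ : Submodule R A)) := by
  intro h
  have hle : (maximalIdeal R • (⊤ : Submodule R A)) ≤ (maximalIdeal A).restrictScalars R := by
    rw [Submodule.smul_le]
    intro r hr a _
    show r • a ∈ maximalIdeal A
    rw [Algebra.smul_def]
    refine Ideal.mul_mem_right _ _ ?_
    rw [mem_maximalIdeal, mem_nonunits_iff] at hr ⊢
    intro hu
    exact hr (isUnit_of_map_unit (algebraMap R A) r hu)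
  have := hle h
  exact (Ideal.ne_top_iff_one _).mp (IsLocalRing.maximalIdeal.isMaximal A).ne_top this

end retraction

section coprod

variable {R : Type u} {A : Type v} [CommRing R] [CommRing A] [Algebra R A]
  {ι : Type*} (B : ι → Subalgebra R A)
  (hcoprod : ∀ (C : Type (max u v)) [CommRing C] [Algebra R C] (φ : ∀ i, B i →ₐ[R] C),
      ∃! ψ : A →ₐ[R] C, ∀ i (x : B i), ψ x = φ i x) (i : ι)

include hcoprod in
theorem exists_psi : ∃ ψ : A →ₐ[R] (B i ⊗[R] A), (∀ x : B i, ψ x = x ⊗ₜ 1) ∧
    (∀ j, j ≠ i → ∀ x : B j, ψ x = 1 ⊗ₜ (x : A)) := by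
  classical
  let φ : ∀ j, B j →ₐ[R] ULift.{u} (B i ⊗[R] A) := fun j =>
    if h : j = i then
      ((ULift.algEquiv (R := R) (A := B i ⊗[R] A)).symm.toAlgHom.comp
        Algebra.TensorProduct.includeLeft).comp (Subalgebra.inclusion (le_of_eq (congrArg B h)))
    else ((ULift.algEquiv (R := R) (A := B i ⊗[R] A)).symm.toAlgHom.comp
        Algebra.TensorProduct.includeRight).comp (B j).val
  obtain ⟨ψ, hψ, -⟩ := hcoprod _ φ
  refine ⟨(ULift.algEquiv (R := R) (A := B i ⊗[R] A)).toAlgHom.comp ψ, ?_, ?_⟩
  · intro x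
    have := hψ i x
    simp only [φ, dif_pos rfl] at this
    show (ψ x).down = _
    rw [this]
    rfl
  · intro j hj x
    have := hψ j x
    simp only [φ, dif_neg hj] at this
    show (ψ x).down = _
    rw [this]
    rfl

include hcoprod in
theorem comp_eq_id (ψ : A →ₐ[R] (B i ⊗[R] A)) (h1 : ∀ x : B i, ψ x = x ⊗ₜ 1)
    (h2 : ∀ j, j ≠ i → ∀ x : B j, ψ x = 1 ⊗ₜ (x : A)) (a : A) :
    Algebra.TensorProduct.productMap (B i).val (AlgHom.id R A) (ψ a) = a := by
  classical
  obtain ⟨ψ0, -, huniq⟩ := hcoprod (ULift.{u} A)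
    (fun j => (ULift.algEquiv (R := R) (A := A)).symm.toAlgHom.comp (B j).val)
  have e1 := huniq ((ULift.algEquiv (R := R) (A := A)).symm.toAlgHom.comp
    ((Algebra.TensorProduct.productMap (B i).val (AlgHom.id R A)).comp ψ)) (fun j x => by
      apply ULift.ext
      show Algebra.TensorProduct.productMap (B i).val (AlgHom.id R A) (ψ x) = (x : A)
      by_cases hj : j = i
      · subst hj
        rw [h1]
        simp
      · rw [h2 j hj]
        simp)
  have e2 := huniq ((ULift.algEquiv (R := R) (A := A)).symm.toAlgHom.comp (AlgHom.id R A))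
    (fun j x => rfl)
  have := congrArg (fun f => (f a).down) (e1.trans e2.symm)
  exact this

end coprod

section main

variable {R : Type u} {A : Type v} [CommRing R] [CommRing A] [Algebra R A]
  {ι : Type*} (B : ι → Subalgebra R A)

/-- An inverse-closed subalgebra of a local ring is local. -/
theorem isLocalRing_of_inv_mem [IsLocalRing A] (S : Subalgebra R A)
    (hS : ∀ x : A, x ∈ S → ∀ y : A, x * y = 1 → y ∈ S) : IsLocalRing S := by
  have hunit : ∀ a : S, IsUnit (a : A) → IsUnit a := by
    intro a ha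
    obtain ⟨u, hu⟩ := ha
    have hy : (↑u⁻¹ : A) ∈ S := hS a a.2 _ (by rw [← hu, Units.mul_inv])
    refine ⟨⟨a, ⟨_, hy⟩, ?_, ?_⟩, rfl⟩
    · apply Subtype.ext
      show (a : A) * ↑u⁻¹ = 1
      rw [← hu, Units.mul_inv]
    · apply Subtype.ext
      show ↑u⁻¹ * (a : A) = 1
      rw [← hu, Units.inv_mul]
  refine IsLocalRing.of_nonunits_add ?_
  intro a b ha hb
  rw [mem_nonunits_iff] at ha hb ⊢
  intro hab
  have ha' : (a : A) ∈ maximalIdeal A := by
    rw [mem_maximalIdeal, mem_nonunits_iff]
    exact fun h => ha (hunit a h)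
  have hb' : (b : A) ∈ maximalIdeal A := by
    rw [mem_maximalIdeal, mem_nonunits_iff]
    exact fun h => hb (hunit b h)
  have hsum : ((a + b : S) : A) ∈ maximalIdeal A := Ideal.add_mem _ ha' hb'
  rw [mem_maximalIdeal, mem_nonunits_iff] at hsum
  exact hsum (hab.map S.val)

theorem isLocalHom_of_inv_mem (S : Subalgebra R A)
    (hS : ∀ x : A, x ∈ S → ∀ y : A, x * y = 1 → y ∈ S) : IsLocalHom (algebraMap S A) := by
  refine ⟨fun a ha => ?_⟩
  obtain ⟨u, hu⟩ := ha
  have hu' : (u : A) = (a : A) := hu
  have hy : (↑u⁻¹ : A) ∈ S := hS a a.2 _ (by rw [← hu', Units.mul_inv])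
  refine ⟨⟨a, ⟨_, hy⟩, ?_, ?_⟩, rfl⟩
  · apply Subtype.ext
    show (a : A) * ↑u⁻¹ = 1
    rw [← hu', Units.mul_inv]
  · apply Subtype.ext
    show ↑u⁻¹ * (a : A) = 1
    rw [← hu', Units.inv_mul]

theorem free_and_regular [IsRegularLocalRing R] [IsRegularLocalRing A] [Module.Finite R A]
    (hinj : Function.Injective (algebraMap R A))
    (hB : ∀ i, ∀ x : A, x ∈ B i → ∀ y : A, x * y = 1 → y ∈ B i)
    (hcoprod : ∀ (C : Type (max u v)) [CommRing C] [Algebra R C] (φ : ∀ i, B i →ₐ[R] C),
      ∃! ψ : A →ₐ[R] C, ∀ i (x : B i), ψ x = φ i x) (i : ι) :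
    Module.Free R (B i) ∧ IsRegularLocalRing (B i) := by
  have hfree : Module.Free R A := Groth.Agent.Lib.FinRegFree89.free_of_finite_of_injective R A hinj
  have hint : (algebraMap R A).IsIntegral := Algebra.IsIntegral.isIntegral (R := R) (A := A)
  have hloc : IsLocalHom (algebraMap R A) := hint.isLocalHom hinj
  obtain ⟨ρ, hρ⟩ := exists_retraction (R := R) (A := A) one_notMem_smul_top
  obtain ⟨ψ, h1, h2⟩ := exists_psi B hcoprod i
  have hcomp := comp_eq_id B hcoprod i ψ h1 h2
  have hNoeth : IsNoetherian R A := isNoetherian_of_isNoetherianRing_of_finite R A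
  have hfin : Module.Finite R (B i) :=
    Module.Finite.of_injective (B i).val.toLinearMap Subtype.val_injective
  -- (I) `B i` is a retract of `A`
  let r : A →ₗ[R] B i :=
    (TensorProduct.rid R (B i)).toLinearMap ∘ₗ (LinearMap.lTensor (B i) ρ) ∘ₗ ψ.toLinearMap
  have hr : r ∘ₗ (B i).val.toLinearMap = LinearMap.id := by
    ext b
    show ((TensorProduct.rid R (B i)) ((LinearMap.lTensor (B i) ρ) (ψ (b : A))) : A) = b
    rw [h1, LinearMap.lTensor_tmul, hρ, TensorProduct.rid_tmul, one_smul]
  have hproj : Module.Projective R (B i) := Module.Projective.of_split _ _ hr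
  have hfreeB : Module.Free R (B i) := Module.free_of_flat_of_isLocalRing
  refine ⟨hfreeB, ?_⟩
  -- local Noetherian
  have hlocB : IsLocalRing (B i) := isLocalRing_of_inv_mem (B i) (hB i)
  have hlocHom : IsLocalHom (algebraMap (B i) A) := isLocalHom_of_inv_mem (B i) (hB i)
  have hNoethB : IsNoetherianRing (B i) := IsNoetherianRing.of_finite R (B i)
  -- (II) `A` is a `B i`-retract of `B i ⊗ A`
  let ψL : A →ₗ[B i] (B i ⊗[R] A) :=
    { toFun := ψ
      map_add' := map_add ψ
      map_smul' := fun b a => by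
        show ψ ((b : A) * a) = b • ψ a
        rw [map_mul, h1]
        induction ψ a using TensorProduct.induction_on with
        | zero => rw [mul_zero, smul_zero]
        | tmul x y =>
          rw [Algebra.TensorProduct.tmul_mul_tmul, one_mul, TensorProduct.smul_tmul', smul_eq_mul]
        | add x y hx hy => rw [mul_add, smul_add, hx, hy] }
  let χ : (B i ⊗[R] A) →ₐ[B i] A :=
    Algebra.TensorProduct.productLeftAlgHom (Algebra.ofId (B i) A) (AlgHom.id R A)
  have hχψ : χ.toLinearMap ∘ₗ ψL = LinearMap.id := by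
    ext a
    exact hcomp a
  have hprojA : Module.Projective (B i) A := Module.Projective.of_split _ _ hχψ
  have hflat : Module.Flat (B i) A := inferInstance
  exact Groth.Agent.Lib.H87Serre2.isRegularLocalRing_of_flat (B i) A

end main

end Groth.Agent.Lib.CoprodSubalg89
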