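import Groth.Agent.Lib.KInjAdj
import Groth.Agent.Lib.DProd31
import Mathlib.Algebra.Homology.DerivedCategory.ExactFunctor
import Mathlib.Algebra.Homology.DerivedCategory.HomologySequence

/-!
# Derived category of a coreflective exact subcategory (helper11)

Let `L : 𝒯 ⥤ 𝒜` be an exact fully faithful functor between abelian categories with a right adjoint
`R`.  Suppose every complex of `𝒜` admits a quasi-isomorphism to a K-injective complex with injective
terms, and that for such a complex `I` whose cohomology objects satisfy a property `P` (containing the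
essential image of `L`) the counit `L R I ⟶ I` is a quasi-isomorphism.  Then
`L.mapDerivedCategory : D(𝒯) ⥤ D(𝒜)` is fully faithful, and its essential image consists of the objects
with cohomology in `P`.
-/

set_option autoImplicit false
universe w₁ w₂ v₁ v₂ u₁ u₂

open CategoryTheory CategoryTheory.Limits

namespace Groth.Agent.Lib.CoreflDerived11

variable {𝒯 : Type u₁} {𝒜 : Type u₂} [Category.{v₁} 𝒯] [Category.{v₂} 𝒜] [Abelian 𝒯] [Abelian 𝒜]
  {L : 𝒯 ⥤ 𝒜} {R : 𝒜 ⥤ 𝒯} [L.Additive] [R.Additive] (adj : L ⊣ R)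

/-- the counit on complexes -/
@[simps]
def counitC (I : CochainComplex 𝒜 ℤ) :
    (L.mapHomologicalComplex (ComplexShape.up ℤ)).obj
      ((R.mapHomologicalComplex (ComplexShape.up ℤ)).obj I) ⟶ I where
  f n := adj.counit.app (I.X n)
  comm' i j _ := by
    change adj.counit.app (I.X i) ≫ I.d i j = L.map (R.map (I.d i j)) ≫ adj.counit.app (I.X j)
    exact (adj.counit.naturality (I.d i j)).symm

/-- the unit on complexes -/
@[simps]
def unitC (K : CochainComplex 𝒯 ℤ) :
    K ⟶ (R.mapHomologicalComplex (ComplexShape.up ℤ)).obj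
      ((L.mapHomologicalComplex (ComplexShape.up ℤ)).obj K) where
  f n := adj.unit.app (K.X n)
  comm' i j _ := by
    change adj.unit.app (K.X i) ≫ R.map (L.map (K.d i j)) = K.d i j ≫ adj.unit.app (K.X j)
    exact (adj.unit.naturality (K.d i j)).symm

lemma unitC_naturality {K K' : CochainComplex 𝒯 ℤ} (m : K ⟶ K') :
    m ≫ unitC adj K' = unitC adj K ≫ (R.mapHomologicalComplex (ComplexShape.up ℤ)).map
      ((L.mapHomologicalComplex (ComplexShape.up ℤ)).map m) := by
  ext n
  change m.f n ≫ adj.unit.app (K'.X n) = adj.unit.app (K.X n) ≫ R.map (L.map (m.f n))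
  exact adj.unit.naturality (m.f n)

lemma unitC_counitC (I : CochainComplex 𝒜 ℤ) :
    unitC adj ((R.mapHomologicalComplex (ComplexShape.up ℤ)).obj I) ≫
      (R.mapHomologicalComplex (ComplexShape.up ℤ)).map (counitC adj I) = 𝟙 _ := by
  ext n
  change adj.unit.app (R.obj (I.X n)) ≫ R.map (adj.counit.app (I.X n)) = 𝟙 _
  exact adj.right_triangle_components (I.X n)

/-- the adjunct of a map `L K ⟶ I` -/
def flat {K : CochainComplex 𝒯 ℤ} {I : CochainComplex 𝒜 ℤ}
    (h : (L.mapHomologicalComplex (ComplexShape.up ℤ)).obj K ⟶ I) :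
    K ⟶ (R.mapHomologicalComplex (ComplexShape.up ℤ)).obj I :=
  unitC adj K ≫ (R.mapHomologicalComplex (ComplexShape.up ℤ)).map h

lemma map_flat_counitC {K : CochainComplex 𝒯 ℤ} {I : CochainComplex 𝒜 ℤ}
    (h : (L.mapHomologicalComplex (ComplexShape.up ℤ)).obj K ⟶ I) :
    (L.mapHomologicalComplex (ComplexShape.up ℤ)).map (flat adj h) ≫ counitC adj I = h := by
  ext n
  have key : ∀ (hn : L.obj (K.X n) ⟶ I.X n),
      L.map (adj.unit.app (K.X n) ≫ R.map hn) ≫ adj.counit.app (I.X n) = hn := by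
    intro hn
    have h1 : L.map (R.map hn) ≫ adj.counit.app (I.X n) =
        adj.counit.app (L.obj (K.X n)) ≫ hn := adj.counit.naturality hn
    have h2 : L.map (adj.unit.app (K.X n)) ≫ adj.counit.app (L.obj (K.X n)) = 𝟙 _ :=
      adj.left_triangle_components (K.X n)
    rw [L.map_comp, Category.assoc, h1, ← Category.assoc, h2]
    exact Category.id_comp _
  exact key (h.f n)

lemma flat_map_comp_counitC {K : CochainComplex 𝒯 ℤ} {I : CochainComplex 𝒜 ℤ}
    (m : K ⟶ (R.mapHomologicalComplex (ComplexShape.up ℤ)).obj I) :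
    flat adj ((L.mapHomologicalComplex (ComplexShape.up ℤ)).map m ≫ counitC adj I) = m := by
  unfold flat
  rw [Functor.map_comp, ← Category.assoc, ← unitC_naturality, Category.assoc, unitC_counitC,
    Category.comp_id]

section Main

variable [HasDerivedCategory.{w₁} 𝒯] [HasDerivedCategory.{w₂} 𝒜]
  [PreservesFiniteLimits L] [PreservesFiniteColimits L] [L.Full] [L.Faithful]

open DerivedCategory

/-- the hypotheses of the main theorem -/
structure Hyp (P : ObjectProperty 𝒜) : Prop where
  res : ∀ M : CochainComplex 𝒜 ℤ, ∃ (I : CochainComplex 𝒜 ℤ) (f : M ⟶ I),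
    I.IsKInjective ∧ QuasiIso f ∧ ∀ n, Injective (I.X n)
  star : ∀ I : CochainComplex 𝒜 ℤ, I.IsKInjective → (∀ n, Injective (I.X n)) →
    (∀ n, P (I.homology n)) → QuasiIso (counitC adj I)
  img : ∀ X : 𝒯, P (L.obj X)

variable {adj} {P : ObjectProperty 𝒜} [P.IsClosedUnderIsomorphisms] (H : Hyp adj P)

include H

/-- the resolution data attached to a complex of `𝒯` -/
lemma exists_data (K' : CochainComplex 𝒯 ℤ) :
    ∃ (I : CochainComplex 𝒜 ℤ) (f : (L.mapHomologicalComplex (ComplexShape.up ℤ)).obj K' ⟶ I)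
      (g : K' ⟶ (R.mapHomologicalComplex (ComplexShape.up ℤ)).obj I),
      I.IsKInjective ∧ QuasiIso f ∧ QuasiIso g ∧ QuasiIso (counitC adj I) ∧
        (L.mapHomologicalComplex (ComplexShape.up ℤ)).map g ≫ counitC adj I = f := by
  obtain ⟨I, f, hI, hf, hinj⟩ := H.res ((L.mapHomologicalComplex (ComplexShape.up ℤ)).obj K')
  have hP : ∀ n, P (I.homology n) := fun n => by
    have e1 : ((L.mapHomologicalComplex (ComplexShape.up ℤ)).obj K').homology n ≅ I.homology n :=
      asIso (HomologicalComplex.homologyMap f n)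
    have e2 : ((L.mapHomologicalComplex (ComplexShape.up ℤ)).obj K').homology n ≅
        L.obj (K'.homology n) := (K'.sc n).mapHomologyIso L
    exact P.prop_of_iso (e2.symm ≪≫ e1) (H.img _)
  have hc : QuasiIso (counitC adj I) := H.star I hI hinj hP
  have hfg : (L.mapHomologicalComplex (ComplexShape.up ℤ)).map (flat adj f) ≫ counitC adj I = f :=
    map_flat_counitC adj f
  have hLg : QuasiIso ((L.mapHomologicalComplex (ComplexShape.up ℤ)).map (flat adj f)) := by
    have : QuasiIso ((L.mapHomologicalComplex (ComplexShape.up ℤ)).map (flat adj f) ≫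
        counitC adj I) := by rw [hfg]; exact hf
    exact quasiIso_of_comp_right _ (counitC adj I)
  have hg : QuasiIso (flat adj f) :=
    (HomologicalComplex.quasiIso_map_iff_of_preservesHomology (flat adj f) L).1 hLg
  exact ⟨I, f, flat adj f, hI, hf, hg, hc, hfg⟩

open Groth.Agent.DProd31 in
lemma key_surj (K K' : CochainComplex 𝒯 ℤ)
    (φ : L.mapDerivedCategory.obj (Q.obj K) ⟶ L.mapDerivedCategory.obj (Q.obj K')) :
    ∃ ψ : Q.obj K ⟶ Q.obj K', L.mapDerivedCategory.map ψ = φ := by
  obtain ⟨I, f, g, hI, hf, hg, hc, hfg⟩ := exists_data H K'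
  let e := L.mapDerivedCategoryFactors
  have : IsIso (Q.map g) := (isIso_Q_map_iff_quasiIso _ g).2 hg
  have : IsIso (Q.map f) := (isIso_Q_map_iff_quasiIso _ f).2 hf
  obtain ⟨h, hh⟩ := exists_Q_map_eq _ I (e.inv.app K ≫ φ ≫ e.hom.app K' ≫ Q.map f)
  refine ⟨Q.map (flat adj h) ≫ inv (Q.map g), ?_⟩
  have hiso : IsIso (e.hom.app K' ≫ Q.map f) := inferInstance
  rw [← cancel_mono (e.hom.app K' ≫ Q.map f)]
  have n1 : L.mapDerivedCategory.map (Q.map g) ≫ e.hom.app _ =
      e.hom.app K' ≫ Q.map ((L.mapHomologicalComplex (ComplexShape.up ℤ)).map g) :=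
    L.mapDerivedCategoryFactors_hom_naturality g
  have n2 : L.mapDerivedCategory.map (Q.map (flat adj h)) ≫ e.hom.app _ =
      e.hom.app K ≫ Q.map ((L.mapHomologicalComplex (ComplexShape.up ℤ)).map (flat adj h)) :=
    L.mapDerivedCategoryFactors_hom_naturality (flat adj h)
  have e1 : e.hom.app K' ≫ Q.map f =
      L.mapDerivedCategory.map (Q.map g) ≫ e.hom.app _ ≫ Q.map (counitC adj I) := by
    rw [← Category.assoc, n1, Category.assoc, ← Q.map_comp, hfg]
  have stepA : L.mapDerivedCategory.map (inv (Q.map g)) ≫ e.hom.app K' ≫ Q.map f =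
      e.hom.app _ ≫ Q.map (counitC adj I) := by
    rw [e1, ← Category.assoc, ← Functor.map_comp, IsIso.inv_hom_id, CategoryTheory.Functor.map_id,
      Category.id_comp]
  have stepB : L.mapDerivedCategory.map (Q.map (flat adj h)) ≫ e.hom.app _ ≫
      Q.map (counitC adj I) = φ ≫ e.hom.app K' ≫ Q.map f := by
    rw [← Category.assoc, n2, Category.assoc, ← Q.map_comp, map_flat_counitC, hh,
      Iso.hom_inv_id_app_assoc]
  rw [Functor.map_comp, Category.assoc, stepA, stepB]

open Groth.Agent.DProd31 in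
lemma key_inj (K K' : CochainComplex 𝒯 ℤ) (ψ : Q.obj K ⟶ Q.obj K')
    (hψ : L.mapDerivedCategory.map ψ = 0) : ψ = 0 := by
  obtain ⟨I, f, g, hI, hf, hg, hc, hfg⟩ := exists_data H K'
  let e := L.mapDerivedCategoryFactors
  have : IsIso (Q.map g) := (isIso_Q_map_iff_quasiIso _ g).2 hg
  have hRI : CochainComplex.IsKInjective ((R.mapHomologicalComplex (ComplexShape.up ℤ)).obj I) :=
    Groth.Agent.Lib.KInjAdj.isKInjective_map adj I
  obtain ⟨m, hm⟩ := exists_Q_map_eq K _ (ψ ≫ Q.map g)
  have n2 : L.mapDerivedCategory.map (Q.map m) ≫ e.hom.app _ =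
      e.hom.app K ≫ Q.map ((L.mapHomologicalComplex (ComplexShape.up ℤ)).map m) :=
    L.mapDerivedCategoryFactors_hom_naturality m
  have h0 : Q.map ((L.mapHomologicalComplex (ComplexShape.up ℤ)).map m) = 0 := by
    have : e.hom.app K ≫ Q.map ((L.mapHomologicalComplex (ComplexShape.up ℤ)).map m) = 0 := by
      rw [← n2, hm, Functor.map_comp, hψ, zero_comp, zero_comp]
    rw [← cancel_epi (e.hom.app K), this, comp_zero]
  have h1 : Q.map ((L.mapHomologicalComplex (ComplexShape.up ℤ)).map m ≫ counitC adj I) =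
      Q.map (0 : (L.mapHomologicalComplex (ComplexShape.up ℤ)).obj K ⟶ I) := by
    rw [Q.map_comp, h0, zero_comp, Functor.map_zero]
  obtain ⟨ho⟩ := homotopy_of_Q_map_eq _ I _ _ h1
  have ho' : Homotopy m 0 := by
    have h2 : Homotopy
        (flat adj ((L.mapHomologicalComplex (ComplexShape.up ℤ)).map m ≫ counitC adj I))
        (flat adj 0) := (R.mapHomotopy ho).compLeft (unitC adj K)
    have h3 : flat adj (0 : (L.mapHomologicalComplex (ComplexShape.up ℤ)).obj K ⟶ I) = 0 := by
      unfold flat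
      rw [Functor.map_zero, comp_zero]
    exact (Homotopy.ofEq (flat_map_comp_counitC adj m).symm).trans (h2.trans (Homotopy.ofEq h3))
  have hm0 : Q.map m = 0 := by
    rw [Q_map_eq_of_homotopy _ ho', Functor.map_zero]
  rw [← cancel_mono (Q.map g), zero_comp, ← hm, hm0]

theorem full : L.mapDerivedCategory.Full := by
  refine ⟨fun {X Y} φ => ?_⟩
  let a := Q.objObjPreimageIso X
  let b := Q.objObjPreimageIso Y
  obtain ⟨ψ, hψ⟩ := key_surj H _ _
    (L.mapDerivedCategory.map a.hom ≫ φ ≫ L.mapDerivedCategory.map b.inv)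
  refine ⟨a.inv ≫ ψ ≫ b.hom, ?_⟩
  rw [Functor.map_comp, Functor.map_comp, hψ]
  simp only [Category.assoc, ← Functor.map_comp, Iso.inv_hom_id, CategoryTheory.Functor.map_id,
    Category.comp_id]
  rw [← Category.assoc, ← Functor.map_comp, Iso.inv_hom_id, CategoryTheory.Functor.map_id,
    Category.id_comp]

theorem faithful : L.mapDerivedCategory.Faithful := by
  refine ⟨fun {X Y} ψ₁ ψ₂ h => ?_⟩
  let a := Q.objObjPreimageIso X
  let b := Q.objObjPreimageIso Y
  have h0 : a.hom ≫ (ψ₁ - ψ₂) ≫ b.inv = 0 := by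
    apply key_inj H
    rw [Functor.map_comp, Functor.map_comp, Functor.map_sub, h, sub_self, zero_comp, comp_zero]
  have h1 : ψ₁ - ψ₂ = 0 := by
    have := congrArg (fun t => a.inv ≫ t ≫ b.hom) h0
    simpa using this
  exact sub_eq_zero.1 h1

theorem essImage_iff (X : DerivedCategory 𝒜) :
    (∀ i : ℤ, P ((DerivedCategory.homologyFunctor 𝒜 i).obj X)) ↔
      L.mapDerivedCategory.essImage X := by
  constructor
  · intro hX
    let M := Q.objPreimage X
    let a : Q.obj M ≅ X := Q.objObjPreimageIso X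
    obtain ⟨I, f, hI, hf, hinj⟩ := H.res M
    have hP : ∀ n, P (I.homology n) := fun n => by
      have e1 : M.homology n ≅ I.homology n := asIso (HomologicalComplex.homologyMap f n)
      have e2 : (DerivedCategory.homologyFunctor 𝒜 n).obj (Q.obj M) ≅ M.homology n :=
        (DerivedCategory.homologyFunctorFactors 𝒜 n).app M
      have e3 : (DerivedCategory.homologyFunctor 𝒜 n).obj (Q.obj M) ≅
          (DerivedCategory.homologyFunctor 𝒜 n).obj X :=
        (DerivedCategory.homologyFunctor 𝒜 n).mapIso a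
      exact P.prop_of_iso (e3.symm ≪≫ e2 ≪≫ e1) (hX n)
    have hc : QuasiIso (counitC adj I) := H.star I hI hinj hP
    have : IsIso (Q.map f) := (isIso_Q_map_iff_quasiIso _ f).2 hf
    have : IsIso (Q.map (counitC adj I)) := (isIso_Q_map_iff_quasiIso _ _).2 hc
    exact ⟨Q.obj ((R.mapHomologicalComplex (ComplexShape.up ℤ)).obj I),
      ⟨L.mapDerivedCategoryFactors.app _ ≪≫ asIso (Q.map (counitC adj I)) ≪≫
        (asIso (Q.map f)).symm ≪≫ a⟩⟩
  · rintro ⟨Y, ⟨e⟩⟩ i
    let K := Q.objPreimage Y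
    let a : Q.obj K ≅ Y := Q.objObjPreimageIso Y
    have e1 : X ≅ Q.obj ((L.mapHomologicalComplex (ComplexShape.up ℤ)).obj K) :=
      e.symm ≪≫ L.mapDerivedCategory.mapIso a.symm ≪≫ L.mapDerivedCategoryFactors.app K
    have e2 : (DerivedCategory.homologyFunctor 𝒜 i).obj
        (Q.obj ((L.mapHomologicalComplex (ComplexShape.up ℤ)).obj K)) ≅
        ((L.mapHomologicalComplex (ComplexShape.up ℤ)).obj K).homology i :=
      (DerivedCategory.homologyFunctorFactors 𝒜 i).app _
    have e3 : ((L.mapHomologicalComplex (ComplexShape.up ℤ)).obj K).homology i ≅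
        L.obj (K.homology i) := (K.sc i).mapHomologyIso L
    exact P.prop_of_iso (((DerivedCategory.homologyFunctor 𝒜 i).mapIso e1 ≪≫ e2 ≪≫ e3).symm)
      (H.img _)

end Main

end Groth.Agent.Lib.CoreflDerived11
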