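import Mathlib.RingTheory.Ideal.Operations
import Mathlib.RingTheory.Ideal.Maps
import Mathlib.Order.Preorder.Finite

/-!
# helper42: prime avoidance for lifts of units (namespace `Groth.Agent.Lib.CosetAvoid42`)

`exists_lift_notMem`: `φ : A → B` a surjective ring homomorphism, `β` a unit of `B` and `P` a finite set of prime
ideals of `A`: there is a lift `a` of `β` lying in none of the members of `P`.
-/

set_option autoImplicit false

namespace Groth.Agent.Lib.CosetAvoid42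

variable {A B : Type*} [CommRing A] [CommRing B]

theorem exists_add_notMem_of_antichain (φ : A →+* B) (hφ : Function.Surjective φ) (a₀ : A) (hβ : IsUnit (φ a₀))
    (P : Finset (Ideal A)) (hP : ∀ p ∈ P, p.IsPrime) (hanti : ∀ p ∈ P, ∀ q ∈ P, q ≤ p → q = p) :
    ∃ x ∈ RingHom.ker φ, ∀ p ∈ P, a₀ + x ∉ p := by
  classical
  obtain ⟨S₁, hS₁⟩ : ∃ S₁ : Finset (Ideal A), ∀ p, p ∈ S₁ ↔ p ∈ P ∧ a₀ ∈ p :=
    ⟨P.filter (fun p => a₀ ∈ p), fun p => Finset.mem_filter⟩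
  obtain ⟨S₂, hS₂⟩ : ∃ S₂ : Finset (Ideal A), ∀ p, p ∈ S₂ ↔ p ∈ P ∧ a₀ ∉ p :=
    ⟨P.filter (fun p => a₀ ∉ p), fun p => Finset.mem_filter⟩
  obtain ⟨K, hKdef⟩ : ∃ K : Ideal A, K = RingHom.ker φ * ∏ q ∈ S₂, q := ⟨_, rfl⟩
  have hK : ¬ ((K : Set A) ⊆ ⋃ p ∈ (S₁ : Set (Ideal A)), (p : Set A)) := by
    rw [Ideal.subset_union_prime (f := fun p : Ideal A => p) ⊥ ⊥
      (fun p hp _ _ => hP p ((hS₁ p).mp hp).1)]
    rintro ⟨p, hp, hKp⟩
    have hpP : p ∈ P := ((hS₁ p).mp hp).1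
    have hap : a₀ ∈ p := ((hS₁ p).mp hp).2
    have hpr := hP p hpP
    rw [hKdef] at hKp
    rcases hpr.mul_le.mp hKp with h | h
    · obtain ⟨b, hb⟩ := hβ.exists_right_inv
      obtain ⟨c, rfl⟩ := hφ b
      have h1 : a₀ * c - 1 ∈ p := h (by rw [RingHom.mem_ker, map_sub, map_mul, hb, map_one, sub_self])
      have h2 : a₀ * c ∈ p := p.mul_mem_right c hap
      have h3 : (1 : A) ∈ p := by
        have := p.sub_mem h2 h1
        rwa [sub_sub_cancel] at this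
      exact hpr.ne_top ((Ideal.eq_top_iff_one p).mpr h3)
    · obtain ⟨q, hq, hqp⟩ := hpr.prod_le.mp h
      have hqP : q ∈ P := ((hS₂ q).mp hq).1
      have hqa : a₀ ∉ q := ((hS₂ q).mp hq).2
      have := hanti p hpP q hqP hqp
      rw [this] at hqa
      exact hqa hap
  obtain ⟨x, hxK, hx⟩ := Set.not_subset.mp hK
  have hxI : x ∈ RingHom.ker φ := by
    rw [hKdef] at hxK
    exact Ideal.mul_le_left hxK
  refine ⟨x, hxI, fun p hp => ?_⟩
  by_cases hap : a₀ ∈ p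
  · intro h
    apply hx
    have hp1 : p ∈ S₁ := (hS₁ p).mpr ⟨hp, hap⟩
    have hxp : x ∈ p := by
      have := p.sub_mem h hap
      rwa [add_sub_cancel_left] at this
    exact Set.mem_biUnion (show p ∈ (S₁ : Set (Ideal A)) from hp1) hxp
  · intro h
    apply hap
    have hp2 : p ∈ S₂ := (hS₂ p).mpr ⟨hp, hap⟩
    have hxp : x ∈ p := by
      rw [hKdef] at hxK
      have h1 : RingHom.ker φ * ∏ q ∈ S₂, q ≤ ∏ q ∈ S₂, q := Ideal.mul_le_right
      have h2 : ∏ q ∈ S₂, q ≤ p := Ideal.prod_le_inf.trans (Finset.inf_le hp2)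
      exact h2 (h1 hxK)
    have := p.sub_mem h hxp
    rwa [add_sub_cancel_right] at this

/-- **Prime avoidance for lifts of a unit.** -/
theorem exists_lift_notMem (φ : A →+* B) (hφ : Function.Surjective φ) (β : B) (hβ : IsUnit β)
    (P : Finset (Ideal A)) (hP : ∀ p ∈ P, p.IsPrime) :
    ∃ a : A, φ a = β ∧ ∀ p ∈ P, a ∉ p := by
  classical
  obtain ⟨a₀, rfl⟩ := hφ β
  obtain ⟨P', hP'⟩ : ∃ P' : Finset (Ideal A), ∀ p, p ∈ P' ↔ p ∈ P ∧ Maximal (· ∈ P) p :=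
    ⟨P.filter (fun p => Maximal (· ∈ P) p), fun p => Finset.mem_filter⟩
  obtain ⟨x, hx, hxP⟩ := exists_add_notMem_of_antichain φ hφ a₀ hβ P'
    (fun p hp => hP p ((hP' p).mp hp).1)
    (fun p hp q hq hqp => le_antisymm hqp (((hP' q).mp hq).2.2 ((hP' p).mp hp).1 hqp))
  refine ⟨a₀ + x, by rw [map_add, (RingHom.mem_ker).mp hx, add_zero], fun q hq hmem => ?_⟩
  obtain ⟨p, hqp, hpmax⟩ := P.exists_le_maximal hq
  exact hxP p ((hP' p).mpr ⟨hpmax.1, hpmax⟩) (hqp hmem)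

end Groth.Agent.Lib.CosetAvoid42
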