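import Mathlib.Algebra.MvPolynomial.CommRing
import Mathlib.Algebra.MvPolynomial.Eval
import Mathlib.Algebra.Module.LinearMap.Basic
import Mathlib.Tactic

/-!
# The ring `S ⊕ N` attached to a quasi-ideal `j : N → S` (helper1)

For a commutative ring `S`, an `S`-module `N` and an `S`-linear map `j : N → S` with
`j x • y = j y • x` (a "quasi-ideal"), the product `S × N` is a commutative ring for
`(s, x) (t, y) = (s t, s y + t x + j x • y)`, and both `(s, x) ↦ s` and `(s, x) ↦ s + j x` are ring maps to `S`.

Application (`exists_twisted_derivation`): for two `A`-algebra maps `f g : A[X_i] → S` with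
`f X_i - g X_i ∈ range j`, there is an additive `δ : A[X_i] → N` with `j ∘ δ = f - g` and
`δ (r r') = g r' • δ r + f r • δ r'`.
-/

namespace Groth.Agent.Lib.QIdealExt

variable {S : Type*} [CommRing S] {N : Type*} [AddCommGroup N] [Module S N]

/-- carrier of the ring `S ⊕ N`. -/
@[ext] structure QExt (j : N →ₗ[S] S) where
  fst : S
  snd : N

namespace QExt

variable (j : N →ₗ[S] S)

/-- the underlying equivalence with the product. -/
def equivProd : QExt j ≃ S × N where
  toFun a := (a.fst, a.snd)
  invFun p := ⟨p.1, p.2⟩
  left_inv _ := rfl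
  right_inv _ := rfl

instance : AddCommGroup (QExt j) := (equivProd j).addCommGroup

@[simp] lemma zero_fst : (0 : QExt j).fst = 0 := rfl
@[simp] lemma zero_snd : (0 : QExt j).snd = 0 := rfl
@[simp] lemma add_fst (a b : QExt j) : (a + b).fst = a.fst + b.fst := rfl
@[simp] lemma add_snd (a b : QExt j) : (a + b).snd = a.snd + b.snd := rfl
@[simp] lemma neg_fst (a : QExt j) : (-a).fst = -a.fst := rfl
@[simp] lemma neg_snd (a : QExt j) : (-a).snd = -a.snd := rfl
@[simp] lemma sub_fst (a b : QExt j) : (a - b).fst = a.fst - b.fst := rfl
@[simp] lemma sub_snd (a b : QExt j) : (a - b).snd = a.snd - b.snd := rfl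

instance : Mul (QExt j) := ⟨fun a b => ⟨a.fst * b.fst, a.fst • b.snd + b.fst • a.snd + j a.snd • b.snd⟩⟩
instance : One (QExt j) := ⟨⟨1, 0⟩⟩

@[simp] lemma mul_fst (a b : QExt j) : (a * b).fst = a.fst * b.fst := rfl
@[simp] lemma mul_snd (a b : QExt j) :
    (a * b).snd = a.fst • b.snd + b.fst • a.snd + j a.snd • b.snd := rfl
@[simp] lemma one_fst : (1 : QExt j).fst = 1 := rfl
@[simp] lemma one_snd : (1 : QExt j).snd = 0 := rfl

variable (hj : ∀ x y : N, j x • y = j y • x)

/-- the commutative ring structure. -/
@[reducible] def commRing : CommRing (QExt j) :=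
  { (inferInstance : AddCommGroup (QExt j)) with
    mul := (· * ·)
    one := 1
    left_distrib := fun a b c => by
      ext
      · simp [mul_add]
      · simp only [mul_snd, add_fst, add_snd, smul_add, add_smul]; abel
    right_distrib := fun a b c => by
      ext
      · simp [add_mul]
      · simp only [mul_snd, add_fst, add_snd, smul_add, add_smul, map_add]; abel
    zero_mul := fun a => by ext <;> simp
    mul_zero := fun a => by ext <;> simp
    mul_assoc := fun a b c => by
      ext
      · simp [mul_assoc]
      · simp only [mul_snd, mul_fst, smul_add, add_smul, map_add, map_smul, smul_smul, smul_eq_mul]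
        have e1 : (a.fst * b.fst) • c.snd = (a.fst * b.fst) • c.snd := rfl
        rw [show c.fst * a.fst = a.fst * c.fst from mul_comm _ _,
          show c.fst * b.fst = b.fst * c.fst from mul_comm _ _,
          show c.fst * j a.snd = j a.snd * c.fst from mul_comm _ _,
          show b.fst * j a.snd = j a.snd * b.fst from mul_comm _ _]
        abel
    one_mul := fun a => by ext <;> simp
    mul_one := fun a => by ext <;> simp
    mul_comm := fun a b => by
      ext
      · simp [mul_comm]
      · simp only [mul_snd]
        rw [hj a.snd b.snd]; abel }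

/-- first projection, a ring map. -/
def fstHom : letI := commRing j hj; QExt j →+* S :=
  letI := commRing j hj
  { toFun := fun a => a.fst
    map_one' := rfl
    map_mul' := fun _ _ => rfl
    map_zero' := rfl
    map_add' := fun _ _ => rfl }

/-- `(s, x) ↦ s + j x`, a ring map. -/
def sumHom : letI := commRing j hj; QExt j →+* S :=
  letI := commRing j hj
  { toFun := fun a => a.fst + j a.snd
    map_one' := by simp
    map_mul' := fun a b => by
      change (a * b).fst + j (a * b).snd = _
      simp only [mul_fst, mul_snd, map_add, map_smul, smul_eq_mul]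
      ring
    map_zero' := by simp
    map_add' := fun a b => by simp only [add_fst, add_snd, map_add]; ring }

/-- `s ↦ (s, 0)`, a ring map. -/
def inl : letI := commRing j hj; S →+* QExt j :=
  letI := commRing j hj
  { toFun := fun s => ⟨s, 0⟩
    map_one' := rfl
    map_mul' := fun a b => by ext <;> simp
    map_zero' := rfl
    map_add' := fun a b => by ext <;> simp }

end QExt

open MvPolynomial in
/-- the twisted derivation lifting the difference of two algebra maps out of a polynomial ring. -/
theorem exists_twisted_derivation {A : Type*} [CommRing A] [Algebra A S] {ι : Type*}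
    (j : N →ₗ[S] S) (hj : ∀ x y : N, j x • y = j y • x)
    (f g : MvPolynomial ι A →ₐ[A] S) (hfg : ∀ i, f (X i) - g (X i) ∈ LinearMap.range j) :
    ∃ δ : MvPolynomial ι A →+ N, (∀ r, j (δ r) = f r - g r) ∧
      ∀ r r', δ (r * r') = g r' • δ r + f r • δ r' := by
  classical
  choose d hd using hfg
  let _ := QExt.commRing j hj
  let _ : Algebra A (QExt j) := ((QExt.inl j hj).comp (algebraMap A S)).toAlgebra
  let Φ : MvPolynomial ι A →ₐ[A] QExt j := aeval (fun i => (⟨g (X i), d i⟩ : QExt j))
  have hfst : ∀ r, (Φ r).fst = g r := by
    intro r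
    have : (QExt.fstHom j hj).comp Φ.toRingHom = g.toRingHom := by
      apply MvPolynomial.ringHom_ext
      · intro a
        simp only [RingHom.coe_comp, Function.comp_apply, AlgHom.toRingHom_eq_coe, RingHom.coe_coe]
        rw [← MvPolynomial.algebraMap_eq, AlgHom.commutes, AlgHom.commutes]
        rfl
      · intro i
        simp only [RingHom.coe_comp, Function.comp_apply, AlgHom.toRingHom_eq_coe, RingHom.coe_coe]
        rw [show Φ (X i) = ⟨g (X i), d i⟩ from aeval_X _ i]
        rfl
    exact congrArg (fun h => h r) this
  have hsum : ∀ r, (Φ r).fst + j (Φ r).snd = f r := by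
    intro r
    have : (QExt.sumHom j hj).comp Φ.toRingHom = f.toRingHom := by
      apply MvPolynomial.ringHom_ext
      · intro a
        simp only [RingHom.coe_comp, Function.comp_apply, AlgHom.toRingHom_eq_coe, RingHom.coe_coe]
        rw [← MvPolynomial.algebraMap_eq, AlgHom.commutes, AlgHom.commutes]
        change (algebraMap A S a) + j 0 = _
        simp
      · intro i
        simp only [RingHom.coe_comp, Function.comp_apply, AlgHom.toRingHom_eq_coe, RingHom.coe_coe]
        rw [show Φ (X i) = ⟨g (X i), d i⟩ from aeval_X _ i]
        change g (X i) + j (d i) = f (X i)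
        rw [hd i]; ring
    exact congrArg (fun h => h r) this
  refine ⟨{ toFun := fun r => (Φ r).snd, map_zero' := by simp, map_add' := fun a b => by simp }, ?_, ?_⟩
  · intro r
    change j (Φ r).snd = _
    rw [← hsum r, ← hfst r]; ring
  · intro r r'
    change (Φ (r * r')).snd = g r' • (Φ r).snd + f r • (Φ r').snd
    rw [map_mul, QExt.mul_snd, ← hsum r, hfst r, hfst r', add_smul]
    abel

end Groth.Agent.Lib.QIdealExt
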