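import Groth.Prelude.Def_CotT
import Groth.Agent.Lib.QIdealExt

/-!
# Ring-level morphisms of presentations and the induced maps on `T²` (helper1)

`RMor P P'`: for presentations `P` of `B` over `A` and `P'` of `B` over `A'` (possibly different base rings),
a ring map `R → R'` over `B` together with a semilinear lift `F → F'` compatible with `j`, `j'`.
Induced maps `L1map`, `L2map`, `T2pull`; the homotopy lemma `T2pull_eq_of_derivation`;
`T2equiv`.
-/

set_option autoImplicit false
universe u u' v w t w' t' m
open scoped TensorProduct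

namespace Groth.Agent.Lib.CotTMor

open CotT

section TMap

variable {R : Type*} {R' : Type*} {B : Type*} [CommRing R] [CommRing R'] [CommRing B] [Algebra R B] [Algebra R' B]
variable (τ : R →+* R') (hτ : ∀ r, algebraMap R' B (τ r) = algebraMap R B r)
variable {N : Type*} {N' : Type*} [AddCommGroup N] [Module R N] [AddCommGroup N'] [Module R' N']
variable (g : N →+ N') (hg : ∀ r x, g (r • x) = τ r • g x)

include hτ hg in
/-- additive form of `tmap`. -/
noncomputable def tmapAdd : B ⊗[R] N →+ B ⊗[R'] N' :=
  TensorProduct.liftAddHom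
    { toFun := fun b =>
        { toFun := fun x => b ⊗ₜ[R'] g x
          map_zero' := by rw [map_zero, TensorProduct.tmul_zero]
          map_add' := fun x y => by rw [map_add, TensorProduct.tmul_add] }
      map_zero' := AddMonoidHom.ext fun x => by
        change (0 : B) ⊗ₜ[R'] g x = 0
        rw [TensorProduct.zero_tmul]
      map_add' := fun b b' => AddMonoidHom.ext fun x => by
        change (b + b') ⊗ₜ[R'] g x = b ⊗ₜ[R'] g x + b' ⊗ₜ[R'] g x
        rw [TensorProduct.add_tmul] }
    (fun r b x => by
      change (r • b) ⊗ₜ[R'] g x = b ⊗ₜ[R'] g (r • x)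
      rw [hg, ← TensorProduct.smul_tmul, Algebra.smul_def r b, Algebra.smul_def (τ r), hτ])

lemma tmapAdd_tmul (b : B) (x : N) : tmapAdd τ hτ g hg (b ⊗ₜ x) = b ⊗ₜ g x := rfl

/-- `b ⊗ x ↦ b ⊗ g x` for `g` semilinear over `τ : R → R'` (rings over `B`). -/
noncomputable def tmap : B ⊗[R] N →ₗ[B] B ⊗[R'] N' where
  toFun := tmapAdd τ hτ g hg
  map_add' x y := map_add _ x y
  map_smul' b z := by
    induction z using TensorProduct.induction_on with
    | zero => rw [smul_zero, map_zero, smul_zero]
    | add x y hx hy => rw [smul_add, map_add, hx, hy, map_add, smul_add]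
    | tmul c x =>
      rw [TensorProduct.smul_tmul', smul_eq_mul, tmapAdd_tmul, tmapAdd_tmul, RingHom.id_apply,
        TensorProduct.smul_tmul', smul_eq_mul]

@[simp] lemma tmap_tmul (b : B) (x : N) : tmap τ hτ g hg (b ⊗ₜ x) = b ⊗ₜ g x := rfl

end TMap

variable {A : Type u} {A' : Type u'} {B : Type v} {ι : Type w} {σ : Type t} {ι' : Type w'} {σ' : Type t'}
variable [CommRing A] [CommRing A'] [CommRing B] [Algebra A B] [Algebra A' B]
variable (P : Algebra.Presentation A B ι σ) (P' : Algebra.Presentation A' B ι' σ')

/-- A ring-level morphism of presentations of the same algebra `B` (possibly over different base rings). -/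
structure RMor where
  /-- the ring map `R → R'` -/
  f : P.toExtension.Ring →+* P'.toExtension.Ring
  hf : ∀ r, algebraMap P'.toExtension.Ring B (f r) = algebraMap P.toExtension.Ring B r
  /-- the semilinear lift `F → F'` -/
  α : relMod P →+ relMod P'
  α_smul : ∀ r x, α (r • x) = f r • α x
  hα : ∀ x, jmap P' (α x) = f (jmap P x)

namespace RMor

variable {P P'} (m : RMor P P')

lemma α_mem_relKer {x : relMod P} (hx : x ∈ relKer P) : m.α x ∈ relKer P' := by
  change jmap P' (m.α x) = 0
  rw [m.hα, show jmap P x = 0 from hx, map_zero]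

lemma α_mem_trivRel {y : relMod P} (hy : y ∈ trivRel P) : m.α y ∈ trivRel P' := by
  induction hy using Submodule.span_induction with
  | mem x hx =>
    obtain ⟨a, b, rfl⟩ := hx
    refine Submodule.subset_span ⟨m.α a, m.α b, ?_⟩
    rw [map_sub, m.α_smul, m.α_smul, m.hα, m.hα]
  | zero => simp
  | add x y _ _ hx hy => rw [map_add]; exact Submodule.add_mem _ hx hy
  | smul r x _ hx => rw [m.α_smul]; exact Submodule.smul_mem _ _ hx

/-- `Q → Q'`. -/
noncomputable def αK : relKer P →+ relKer P' where
  toFun q := ⟨m.α q, m.α_mem_relKer q.2⟩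
  map_zero' := by ext1; simp
  map_add' a b := by ext1; simp

@[simp] lemma αK_coe (q : relKer P) : (m.αK q : relMod P') = m.α q := rfl

lemma αK_smul (r : P.toExtension.Ring) (q : relKer P) : m.αK (r • q) = m.f r • m.αK q := by
  ext1
  simp [m.α_smul]

/-- `L₁ → L₁'`. -/
noncomputable def L1map : L1 P →ₗ[B] L1 P' := tmap m.f m.hf m.α m.α_smul

@[simp] lemma L1map_tmul (b : B) (x : relMod P) : m.L1map (b ⊗ₜ x) = b ⊗ₜ m.α x := rfl

/-- `L₂ → L₂'`. -/
noncomputable def L2map : L2 P →ₗ[B] L2 P' :=
  Submodule.liftQ _ ((Submodule.mkQ _) ∘ₗ tmap m.f m.hf m.αK m.αK_smul) (by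
    rintro _ ⟨z, rfl⟩
    rw [LinearMap.mem_ker]
    induction z using TensorProduct.induction_on with
    | zero => simp
    | add x y hx hy => rw [map_add, map_add, hx, hy, add_zero]
    | tmul b k =>
      rw [LinearMap.baseChange_tmul, LinearMap.comp_apply, tmap_tmul, Submodule.mkQ_apply,
        Submodule.Quotient.mk_eq_zero]
      refine ⟨b ⊗ₜ ⟨m.αK (k : relKer P), ?_⟩, rfl⟩
      change (m.αK (k : relKer P) : relMod P') ∈ trivRel P'
      rw [αK_coe]
      exact m.α_mem_trivRel k.2)

@[simp] lemma L2map_mk_tmul (b : B) (q : relKer P) :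
    m.L2map (Submodule.Quotient.mk (b ⊗ₜ q)) = Submodule.Quotient.mk (b ⊗ₜ m.αK q) := rfl

lemma d2_L2map (z : L2 P) : d2 P' (m.L2map z) = m.L1map (d2 P z) := by
  induction z using Submodule.Quotient.induction_on with
  | H z =>
    induction z using TensorProduct.induction_on with
    | zero => simp
    | add x y hx hy =>
      rw [Submodule.Quotient.mk_add, map_add, map_add, hx, hy, map_add, map_add]
    | tmul b q => rw [L2map_mk_tmul, d2_mk_tmul, d2_mk_tmul, L1map_tmul, αK_coe]

variable (M : Type m) [AddCommGroup M] [Module B M]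

/-- the induced map on `T²`. -/
noncomputable def T2pull : T2 P' M →ₗ[B] T2 P M :=
  Submodule.mapQ _ _ (LinearMap.lcomp B M m.L2map) (by
    rintro _ ⟨ψ, rfl⟩
    refine ⟨ψ ∘ₗ m.L1map, ?_⟩
    ext z
    simp only [d2Star_apply, LinearMap.lcomp_apply', LinearMap.coe_comp, Function.comp_apply]
    rw [d2_L2map])

lemma T2pull_mk (u : L2 P' →ₗ[B] M) :
    m.T2pull M (Submodule.Quotient.mk u) = Submodule.Quotient.mk (u ∘ₗ m.L2map) := rfl

end RMor


section Homotopy

/-- `F'/F₀'`, relations modulo trivial relations. -/
abbrev Nbar : Type _ := relMod P' ⧸ trivRel P'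

/-- `j̄ : F/F₀ → R`. -/
noncomputable def jbar : Nbar P' →ₗ[P'.toExtension.Ring] P'.toExtension.Ring :=
  (trivRel P').liftQ (jmap P') (trivRel_le_relKer P')

lemma jbar_mk (x : relMod P') : jbar P' (Submodule.Quotient.mk x) = jmap P' x := rfl

lemma jbar_comm (x y : Nbar P') : jbar P' x • y = jbar P' y • x := by
  induction x using Submodule.Quotient.induction_on with
  | H x =>
    induction y using Submodule.Quotient.induction_on with
    | H y =>
      rw [jbar_mk, jbar_mk, ← Submodule.Quotient.mk_smul, ← Submodule.Quotient.mk_smul,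
        Submodule.Quotient.eq]
      exact Submodule.subset_span ⟨x, y, rfl⟩

variable {P'}

lemma L2_mk_eq (b : B) (k k' : relKer P') (h : (k : relMod P') - k' ∈ trivRel P') :
    (Submodule.Quotient.mk (b ⊗ₜ k) : L2 P') = Submodule.Quotient.mk (b ⊗ₜ k') := by
  rw [Submodule.Quotient.eq]
  refine ⟨b ⊗ₜ ⟨k - k', h⟩, ?_⟩
  rw [LinearMap.baseChange_tmul]
  exact map_sub (TensorProduct.mk P'.toExtension.Ring B (relKer P') b) k k'

variable {P}

set_option maxHeartbeats 1000000 in
/-- **Homotopy lemma.** Two ring-level morphisms induce the same map on `T²` as soon as the difference of the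
ring maps lifts to a twisted derivation with values in `F'/F₀'`. -/
theorem T2pull_eq_of_derivation (m1 m2 : RMor P P') (δ : P.toExtension.Ring →+ Nbar P')
    (hδj : ∀ r, jbar P' (δ r) = m1.f r - m2.f r)
    (hδm : ∀ r r', δ (r * r') = m2.f r' • δ r + m1.f r • δ r')
    (M : Type m) [AddCommGroup M] [Module B M] : m1.T2pull M = m2.T2pull M := by
  classical
  -- lifts of `δ (rel s)`
  have hd : ∀ s : σ, ∃ d : relMod P', (Submodule.Quotient.mk d : Nbar P') = δ (rel P s) :=
    fun s => Submodule.Quotient.mk_surjective _ _
  choose d hd using hd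
  let e : σ → relMod P := fun s => Finsupp.single s 1
  let q : σ → relMod P' := fun s => m1.α (e s) - m2.α (e s) - d s
  have hq : ∀ s, q s ∈ relKer P' := by
    intro s
    change jmap P' (q s) = 0
    simp only [q, e, map_sub, m1.hα, m2.hα, jmap_single, one_mul]
    have := hδj (rel P s)
    rw [← hd s, jbar_mk] at this
    rw [this]; ring
  let qK : σ → relKer P' := fun s => ⟨q s, hq s⟩
  -- the `m2.f`-semilinear extension of `qK`
  let θ : relMod P →+ relKer P' :=
    Finsupp.liftAddHom (fun s =>
      { toFun := fun c => m2.f c • qK s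
        map_zero' := by simp
        map_add' := fun a b => by simp [add_smul] })
  have hθ : ∀ s c, θ (Finsupp.single s c) = m2.f c • qK s := by
    intro s c
    simp [θ]
  have hsingle : ∀ (s : σ) (c : P.toExtension.Ring), (Finsupp.single s c : relMod P) = c • e s := by
    intro s c
    simp [e]
  -- key identity in `F'/F₀'`
  have key : ∀ x : relMod P,
      (Submodule.Quotient.mk (m1.α x - m2.α x - (θ x : relMod P')) : Nbar P') = δ (jmap P x) := by
    intro x
    induction x using Finsupp.induction_linear with
    | zero => simp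
    | add x y hx hy =>
      have : m1.α (x + y) - m2.α (x + y) - ((θ (x + y) : relKer P') : relMod P') =
          (m1.α x - m2.α x - (θ x : relMod P')) + (m1.α y - m2.α y - (θ y : relMod P')) := by
        simp only [map_add, Submodule.coe_add]; abel
      rw [this, Submodule.Quotient.mk_add, hx, hy, map_add, map_add]
    | single s c =>
      rw [hθ, hsingle, m1.α_smul, m2.α_smul]
      have h1 : m1.f c • m1.α (e s) - m2.f c • m2.α (e s) - ((m2.f c • qK s : relKer P') : relMod P') =
          (m1.f c - m2.f c) • m1.α (e s) + m2.f c • d s := by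
        simp only [Submodule.coe_smul, qK, q, smul_sub, sub_smul]; abel
      rw [h1, Submodule.Quotient.mk_add, Submodule.Quotient.mk_smul, Submodule.Quotient.mk_smul, hd s,
        ← hδj c, jbar_comm, jbar_mk, m1.hα]
      have h2 : jmap P (c • e s) = rel P s * c := by
        rw [← hsingle, jmap_single, mul_comm]
      rw [h2, hδm]
      simp only [e, jmap_single, one_mul]
      abel
  have key' : ∀ qq : relKer P,
      ((m1.αK qq : relMod P') - (m2.αK qq + θ (qq : relMod P) : relKer P')) ∈ trivRel P' := by
    intro qq
    have := key (qq : relMod P)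
    rw [show jmap P (qq : relMod P) = 0 from qq.2, map_zero, Submodule.Quotient.mk_eq_zero] at this
    have e1 : ((m1.αK qq : relMod P') - ((m2.αK qq + θ (qq : relMod P) : relKer P') : relMod P')) =
        m1.α qq - m2.α qq - (θ (qq : relMod P) : relMod P') := by
      simp only [Submodule.coe_add, RMor.αK_coe]; abel
    rw [e1]; exact this
  apply Submodule.linearMap_qext
  ext u
  simp only [LinearMap.coe_comp, Function.comp_apply, Submodule.mkQ_apply, RMor.T2pull_mk]
  rw [Submodule.Quotient.eq]
  -- the homotopy
  let w : L1 P →ₗ[B] M := (L1basis P).constr B (fun s => u (Submodule.Quotient.mk ((1 : B) ⊗ₜ qK s)))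
  have hw : ∀ (x : relMod P) (b : B), w (b ⊗ₜ x) = u (Submodule.Quotient.mk (b ⊗ₜ θ x)) := by
    intro x
    induction x using Finsupp.induction_linear with
    | zero => intro b; simp
    | add x y hx hy =>
      intro b
      rw [TensorProduct.tmul_add, map_add, hx, hy, map_add, TensorProduct.tmul_add,
        Submodule.Quotient.mk_add, map_add]
    | single s c =>
      intro b
      rw [hθ, hsingle]
      have e1 : (b ⊗ₜ[P.toExtension.Ring] (c • e s) : L1 P) =
          (algebraMap P.toExtension.Ring B c * b) • ((1 : B) ⊗ₜ e s) := by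
        rw [← TensorProduct.smul_tmul, Algebra.smul_def, TensorProduct.smul_tmul', smul_eq_mul, mul_one]
      have e2 : (b ⊗ₜ[P'.toExtension.Ring] (m2.f c • qK s) : B ⊗[P'.toExtension.Ring] relKer P') =
          (algebraMap P.toExtension.Ring B c * b) • ((1 : B) ⊗ₜ qK s) := by
        rw [← TensorProduct.smul_tmul, Algebra.smul_def, m2.hf, TensorProduct.smul_tmul', smul_eq_mul, mul_one]
      rw [e1, e2, map_smul, Submodule.Quotient.mk_smul, map_smul]
      congr 1
      have : ((1 : B) ⊗ₜ[P.toExtension.Ring] e s : L1 P) = L1basis P s := by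
        rw [L1basis_apply]
      rw [this, Module.Basis.constr_basis]
  refine ⟨w, ?_⟩
  refine LinearMap.ext fun z => ?_
  induction z using Submodule.Quotient.induction_on with
  | H z =>
    induction z using TensorProduct.induction_on with
    | zero => simp
    | add x y hx hy =>
      rw [Submodule.Quotient.mk_add, map_add, map_add, hx, hy]
    | tmul b qq =>
      simp only [d2Star_apply, LinearMap.coe_comp, Function.comp_apply,
        LinearMap.sub_apply, RMor.L2map_mk_tmul, d2_mk_tmul]
      rw [hw, L2_mk_eq b (m1.αK qq) (m2.αK qq + θ (qq : relMod P)) (key' qq), TensorProduct.tmul_add,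
        Submodule.Quotient.mk_add, map_add]
      abel

end Homotopy


section Functoriality

variable {P P'}
variable {A'' : Type*} {ι'' : Type*} {σ'' : Type*} [CommRing A''] [Algebra A'' B]
  {P'' : Algebra.Presentation A'' B ι'' σ''}

namespace RMor

variable (P) in
/-- the identity morphism. -/
noncomputable def id : RMor P P where
  f := RingHom.id _
  hf := fun _ => rfl
  α := AddMonoidHom.id _
  α_smul := fun _ _ => rfl
  hα := fun _ => rfl

/-- composition of morphisms. -/
noncomputable def comp (m' : RMor P' P'') (m : RMor P P') : RMor P P'' where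
  f := m'.f.comp m.f
  hf r := by rw [RingHom.comp_apply, m'.hf, m.hf]
  α := m'.α.comp m.α
  α_smul r x := by simp [m.α_smul, m'.α_smul]
  hα x := by simp [m'.hα, m.hα]

lemma L2map_id (z : L2 P) : (RMor.id P).L2map z = z := by
  induction z using Submodule.Quotient.induction_on with
  | H z =>
    induction z using TensorProduct.induction_on with
    | zero => simp
    | add x y hx hy => rw [Submodule.Quotient.mk_add, map_add, hx, hy]
    | tmul b q => rw [L2map_mk_tmul]; rfl

lemma L2map_comp (m' : RMor P' P'') (m : RMor P P') (z : L2 P) :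
    (m'.comp m).L2map z = m'.L2map (m.L2map z) := by
  induction z using Submodule.Quotient.induction_on with
  | H z =>
    induction z using TensorProduct.induction_on with
    | zero => simp
    | add x y hx hy => rw [Submodule.Quotient.mk_add, map_add, hx, hy, map_add, map_add]
    | tmul b q => rw [L2map_mk_tmul, L2map_mk_tmul, L2map_mk_tmul]; rfl

variable (M : Type m) [AddCommGroup M] [Module B M]

lemma T2pull_id : (RMor.id P).T2pull M = LinearMap.id := by
  apply Submodule.linearMap_qext
  ext u
  simp only [LinearMap.coe_comp, Function.comp_apply, Submodule.mkQ_apply, T2pull_mk, LinearMap.id_coe, id_eq]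
  congr 1
  ext z
  simp [L2map_id]

lemma T2pull_comp (m' : RMor P' P'') (m : RMor P P') :
    (m'.comp m).T2pull M = m.T2pull M ∘ₗ m'.T2pull M := by
  apply Submodule.linearMap_qext
  ext u
  simp only [LinearMap.coe_comp, Function.comp_apply, Submodule.mkQ_apply, T2pull_mk]
  congr 1
  ext z
  simp [L2map_comp]

end RMor

/-- `T²` of two presentations agree as soon as there are ring-level morphisms both ways whose composites
are homotopic to the identities. -/
noncomputable def T2equiv (M : Type m) [AddCommGroup M] [Module B M] (m : RMor P P') (m' : RMor P' P)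
    (δ : P.toExtension.Ring →+ Nbar P)
    (hδj : ∀ r, jbar P (δ r) = m'.f (m.f r) - r)
    (hδm : ∀ r r', δ (r * r') = r' • δ r + m'.f (m.f r) • δ r')
    (δ' : P'.toExtension.Ring →+ Nbar P')
    (hδj' : ∀ r, jbar P' (δ' r) = m.f (m'.f r) - r)
    (hδm' : ∀ r r', δ' (r * r') = r' • δ' r + m.f (m'.f r) • δ' r') :
    T2 P M ≃ₗ[B] T2 P' M where
  __ := m'.T2pull M
  invFun := m.T2pull M
  left_inv x := by
    change (m.T2pull M ∘ₗ m'.T2pull M) x = x
    rw [← RMor.T2pull_comp, T2pull_eq_of_derivation (m'.comp m) (RMor.id P) δ hδj hδm, RMor.T2pull_id]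
    rfl
  right_inv x := by
    change (m'.T2pull M ∘ₗ m.T2pull M) x = x
    rw [← RMor.T2pull_comp, T2pull_eq_of_derivation (m.comp m') (RMor.id P') δ' hδj' hδm', RMor.T2pull_id]
    rfl

end Functoriality


section Existence

variable {P P'}

/-- every ring map over `B` between the polynomial rings of two presentations extends to a ring-level morphism. -/
theorem RMor.exists_of_ringHom (f : P.toExtension.Ring →+* P'.toExtension.Ring)
    (hf : ∀ r, algebraMap P'.toExtension.Ring B (f r) = algebraMap P.toExtension.Ring B r) :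
    ∃ m : RMor P P', m.f = f := by
  classical
  have ha : ∀ s : σ, ∃ a : relMod P', jmap P' a = f (rel P s) := by
    intro s
    have h1 : f (rel P s) ∈ P'.ker := by
      change algebraMap P'.toExtension.Ring B (f (rel P s)) = 0
      rw [hf, algebraMap_rel]
    rw [← range_jmap] at h1
    exact h1
  choose a ha using ha
  let α : relMod P →+ relMod P' :=
    Finsupp.liftAddHom (fun s =>
      { toFun := fun c => f c • a s
        map_zero' := by simp
        map_add' := fun x y => by simp [add_smul] })
  have hα1 : ∀ s c, α (Finsupp.single s c) = f c • a s := by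
    intro s c
    simp [α]
  refine ⟨{ f := f, hf := hf, α := α, α_smul := ?_, hα := ?_ }, rfl⟩
  · intro r x
    induction x using Finsupp.induction_linear with
    | zero => simp
    | add x y hx hy => rw [smul_add, map_add, hx, hy, map_add, smul_add]
    | single s c =>
      rw [Finsupp.smul_single, hα1, hα1, smul_eq_mul, map_mul, mul_smul]
  · intro x
    induction x using Finsupp.induction_linear with
    | zero => simp
    | add x y hx hy => rw [map_add, map_add, hx, hy, map_add, map_add]
    | single s c =>
      rw [hα1, map_smul, ha, jmap_single, smul_eq_mul, map_mul]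

end Existence


section SameBase

variable {ι₂ : Type*} {σ₂ : Type*} (P₂ : Algebra.Presentation A B ι₂ σ₂)

lemma range_jbar : LinearMap.range (jbar P) = P.ker := by
  rw [jbar, Submodule.range_liftQ, range_jmap]

/-- the twisted derivation attached to an `A`-algebra endomorphism over `B` of the polynomial ring of a presentation. -/
theorem exists_derivation_of_algHom (g : P.toExtension.Ring →ₐ[A] P.toExtension.Ring)
    (hg : ∀ r, algebraMap P.toExtension.Ring B (g r) = algebraMap P.toExtension.Ring B r) :
    ∃ δ : P.toExtension.Ring →+ Nbar P, (∀ r, jbar P (δ r) = g r - r) ∧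
      ∀ r r', δ (r * r') = r' • δ r + g r • δ r' := by
  have hfg : ∀ i : ι, (g : MvPolynomial ι A →ₐ[A] P.toExtension.Ring) (MvPolynomial.X i) -
      (AlgHom.id A P.toExtension.Ring : MvPolynomial ι A →ₐ[A] P.toExtension.Ring) (MvPolynomial.X i) ∈
        LinearMap.range (jbar P) := by
    intro i
    rw [range_jbar]
    have hx : ∀ x : P.toExtension.Ring, algebraMap P.toExtension.Ring B (g x - x) = 0 := by
      intro x
      rw [map_sub, hg, sub_self]
    exact hx (MvPolynomial.X i : MvPolynomial ι A)
  obtain ⟨δ, h1, h2⟩ := Groth.Agent.Lib.QIdealExt.exists_twisted_derivation (jbar P) (jbar_comm P)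
    (g : MvPolynomial ι A →ₐ[A] P.toExtension.Ring)
    (AlgHom.id A P.toExtension.Ring : MvPolynomial ι A →ₐ[A] P.toExtension.Ring) hfg
  exact ⟨δ, h1, h2⟩

/-- an `A`-algebra map over `B` between the polynomial rings of two presentations over the same base. -/
theorem exists_algHom_over : ∃ g : P.toExtension.Ring →ₐ[A] P₂.toExtension.Ring,
    ∀ r, algebraMap P₂.toExtension.Ring B (g r) = algebraMap P.toExtension.Ring B r :=
  ⟨(P.defaultHom P₂.toGenerators).toExtensionHom.toAlgHom,
    fun r => (P.defaultHom P₂.toGenerators).toExtensionHom.algebraMap_toRingHom r⟩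

/-- **`T²` does not depend on the presentation.** -/
theorem nonempty_T2equiv (M : Type m) [AddCommGroup M] [Module B M] :
    Nonempty (T2 P M ≃ₗ[B] T2 P₂ M) := by
  obtain ⟨g, hg⟩ := exists_algHom_over P P₂
  obtain ⟨g', hg'⟩ := exists_algHom_over P₂ P
  obtain ⟨m, hm⟩ := RMor.exists_of_ringHom (P := P) (P' := P₂) g.toRingHom hg
  obtain ⟨m', hm'⟩ := RMor.exists_of_ringHom (P := P₂) (P' := P) g'.toRingHom hg'
  obtain ⟨δ, h1, h2⟩ := exists_derivation_of_algHom P (g'.comp g) (fun r => by
    rw [AlgHom.comp_apply, hg', hg])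
  obtain ⟨δ', h1', h2'⟩ := exists_derivation_of_algHom P₂ (g.comp g') (fun r => by
    rw [AlgHom.comp_apply, hg, hg'])
  refine ⟨T2equiv M m m' δ ?_ ?_ δ' ?_ ?_⟩
  · intro r; rw [hm, hm']; exact h1 r
  · intro r r'; rw [hm, hm']; exact h2 r r'
  · intro r; rw [hm, hm']; exact h1' r
  · intro r r'; rw [hm, hm']; exact h2' r r'

end SameBase

end Groth.Agent.Lib.CotTMor
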