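import Mathlib

/-!
# The nine-term cohomology sequence of a short exact sequence of three-term cochain complexes (helper1)

Abstract additive groups.  A three-term complex `K⁰ → K¹ → K²` together with groups `H⁰, H¹, H²` "presented" as its
cohomology (`CohPres`).  For complexes `K' → K → K''` with `0 → K'ʲ → Kʲ → K''ʲ` exact for `j = 0, 1, 2` and
`Kʲ → K''ʲ` surjective for `j = 0, 1`, the nine-term sequence
`0 → H'⁰ → H⁰ → H''⁰ → H'¹ → H¹ → H''¹ → H'² → H² → H''²` is exact (`nine_term`).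
-/

set_option autoImplicit false
set_option linter.unusedVariables false
set_option linter.unusedSectionVars false

namespace Groth.Agent.Lib.NineTerm

open Function

/-- an additive functional relation is the graph of an additive map. -/
theorem exists_addMonoidHom_of_rel {X Y : Type*} [AddCommGroup X] [AddCommGroup Y] (r : X → Y → Prop)
    (hex : ∀ x, ∃ y, r x y) (huniq : ∀ x y y', r x y → r x y' → y = y')
    (hadd : ∀ x x' y y', r x y → r x' y' → r (x + x') (y + y')) :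
    ∃ f : X →+ Y, ∀ x, r x (f x) := by
  choose f hf using hex
  refine ⟨AddMonoidHom.mk' f (fun a b => ?_), hf⟩
  exact huniq _ _ _ (hf (a + b)) (hadd _ _ _ _ (hf a) (hf b))

/-- groups `H⁰, H¹, H²` presented as the cohomology of `K⁰ → K¹ → K²`. -/
structure CohPres {K0 K1 K2 : Type*} [AddCommGroup K0] [AddCommGroup K1] [AddCommGroup K2]
    (d0 : K0 →+ K1) (d1 : K1 →+ K2) (H0 H1 H2 : Type*) [AddCommGroup H0] [AddCommGroup H1]
    [AddCommGroup H2] where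
  /-- `H⁰ → K⁰` -/
  ι : H0 →+ K0
  ι_inj : Injective ι
  ι_range : ∀ y, d0 y = 0 ↔ ∃ h, ι h = y
  /-- class of a 1-cocycle -/
  cl1 : d1.ker →+ H1
  cl1_surj : Surjective cl1
  cl1_zero : ∀ c, cl1 c = 0 ↔ ∃ y, d0 y = c.1
  /-- class of a 2-cochain -/
  cl2 : K2 →+ H2
  cl2_surj : Surjective cl2
  cl2_zero : ∀ x, cl2 x = 0 ↔ ∃ c, d1 c = x

section

variable {K'0 K'1 K'2 K0 K1 K2 K''0 K''1 K''2 : Type*}
  [AddCommGroup K'0] [AddCommGroup K'1] [AddCommGroup K'2] [AddCommGroup K0] [AddCommGroup K1] [AddCommGroup K2]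
  [AddCommGroup K''0] [AddCommGroup K''1] [AddCommGroup K''2]
  {d'0 : K'0 →+ K'1} {d'1 : K'1 →+ K'2} {d0 : K0 →+ K1} {d1 : K1 →+ K2} {d''0 : K''0 →+ K''1}
  {d''1 : K''1 →+ K''2}
  {H'0 H'1 H'2 H0 H1 H2 H''0 H''1 H''2 : Type*}
  [AddCommGroup H'0] [AddCommGroup H'1] [AddCommGroup H'2] [AddCommGroup H0] [AddCommGroup H1] [AddCommGroup H2]
  [AddCommGroup H''0] [AddCommGroup H''1] [AddCommGroup H''2]

theorem nine_term
    (X' : CohPres d'0 d'1 H'0 H'1 H'2) (X : CohPres d0 d1 H0 H1 H2) (X'' : CohPres d''0 d''1 H''0 H''1 H''2)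
    (i0 : K'0 →+ K0) (i1 : K'1 →+ K1) (i2 : K'2 →+ K2) (p0 : K0 →+ K''0) (p1 : K1 →+ K''1) (p2 : K2 →+ K''2)
    (hd : ∀ x, d1 (d0 x) = 0)
    (hi01 : ∀ x, i1 (d'0 x) = d0 (i0 x)) (hi12 : ∀ x, i2 (d'1 x) = d1 (i1 x))
    (hp01 : ∀ x, p1 (d0 x) = d''0 (p0 x)) (hp12 : ∀ x, p2 (d1 x) = d''1 (p1 x))
    (inj0 : Injective i0) (inj1 : Injective i1) (inj2 : Injective i2)
    (ex0 : ∀ y, p0 y = 0 ↔ ∃ x, i0 x = y) (ex1 : ∀ y, p1 y = 0 ↔ ∃ x, i1 x = y)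
    (ex2 : ∀ y, p2 y = 0 ↔ ∃ x, i2 x = y)
    (sur0 : Surjective p0) (sur1 : Surjective p1)
    (U0 : H'0 → H0) (V0 : H0 → H''0) (U1 : H'1 → H1) (V1 : H1 → H''1) (U2 : H'2 → H2) (V2 : H2 → H''2)
    (hU0 : ∀ h, X.ι (U0 h) = i0 (X'.ι h)) (hV0 : ∀ h, X''.ι (V0 h) = p0 (X.ι h))
    (hU1 : ∀ (c : d'1.ker) (c₂ : d1.ker), c₂.1 = i1 c.1 → U1 (X'.cl1 c) = X.cl1 c₂)
    (hV1 : ∀ (c : d1.ker) (c₂ : d''1.ker), c₂.1 = p1 c.1 → V1 (X.cl1 c) = X''.cl1 c₂)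
    (hU2 : ∀ x, U2 (X'.cl2 x) = X.cl2 (i2 x)) (hV2 : ∀ x, V2 (X.cl2 x) = X''.cl2 (p2 x)) :
    Injective U0 ∧ Exact U0 V0 ∧ Exact U1 V1 ∧ Exact U2 V2 ∧
    ∃ (δ₀ : H''0 →+ H'1) (δ₁ : H''1 →+ H'2),
      Exact V0 δ₀ ∧ Exact δ₀ U1 ∧ Exact V1 δ₁ ∧ Exact δ₁ U2 := by
  -- preliminary facts
  have pi0 : ∀ x, p0 (i0 x) = 0 := fun x => (ex0 _).2 ⟨x, rfl⟩
  have pi1 : ∀ x, p1 (i1 x) = 0 := fun x => (ex1 _).2 ⟨x, rfl⟩
  have pi2 : ∀ x, p2 (i2 x) = 0 := fun x => (ex2 _).2 ⟨x, rfl⟩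
  have mem1 : ∀ {c : K1}, d1 c = 0 → c ∈ d1.ker := fun h => h
  have mem1' : ∀ {c : K'1}, d'1 c = 0 → c ∈ d'1.ker := fun h => h
  have mem1'' : ∀ {c : K''1}, d''1 c = 0 → c ∈ d''1.ker := fun h => h
  have ker1 : ∀ c : d1.ker, d1 c.1 = 0 := fun c => c.2
  have ker1' : ∀ c : d'1.ker, d'1 c.1 = 0 := fun c => c.2
  have ker1'' : ∀ c : d''1.ker, d''1 c.1 = 0 := fun c => c.2
  -- a cocycle of `K'` from a cocycle condition upstairs
  have coc' : ∀ c' : K'1, d1 (i1 c') = 0 → d'1 c' = 0 := by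
    intro c' h
    apply inj2
    rw [hi12, h, map_zero]
  -- `cl1` depends only on the class modulo coboundaries
  have cl1_eq : ∀ (c e : d1.ker) (y : K0), c.1 - e.1 = d0 y → X.cl1 c = X.cl1 e := by
    intro c e y h
    have : X.cl1 (c - e) = 0 := (X.cl1_zero _).2 ⟨y, by rw [h.symm]; rfl⟩
    rw [map_sub, sub_eq_zero] at this
    exact this
  have cl1'_eq : ∀ (c e : d'1.ker) (y : K'0), c.1 - e.1 = d'0 y → X'.cl1 c = X'.cl1 e := by
    intro c e y h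
    have : X'.cl1 (c - e) = 0 := (X'.cl1_zero _).2 ⟨y, by rw [h.symm]; rfl⟩
    rw [map_sub, sub_eq_zero] at this
    exact this
  have cl2_eq : ∀ (x e : K2) (c : K1), x - e = d1 c → X.cl2 x = X.cl2 e := by
    intro x e c h
    have : X.cl2 (x - e) = 0 := (X.cl2_zero _).2 ⟨c, h.symm⟩
    rw [map_sub, sub_eq_zero] at this
    exact this
  have cl2'_eq : ∀ (x e : K'2) (c : K'1), x - e = d'1 c → X'.cl2 x = X'.cl2 e := by
    intro x e c h
    have : X'.cl2 (x - e) = 0 := (X'.cl2_zero _).2 ⟨c, h.symm⟩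
    rw [map_sub, sub_eq_zero] at this
    exact this
  refine ⟨?_, ?_, ?_, ?_, ?_⟩
  · -- injectivity of `U0`
    intro h h' hh
    apply X'.ι_inj
    apply inj0
    rw [← hU0, ← hU0, hh]
  · -- exactness at `H0`
    intro h
    constructor
    · intro hV
      have h1 : p0 (X.ι h) = 0 := by rw [← hV0, hV, map_zero]
      obtain ⟨x, hx⟩ := (ex0 _).1 h1
      have h2 : d'0 x = 0 := by
        apply inj1
        rw [hi01, hx, map_zero]
        exact (X.ι_range _).2 ⟨h, rfl⟩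
      obtain ⟨h', hh'⟩ := (X'.ι_range _).1 h2
      refine ⟨h', X.ι_inj ?_⟩
      rw [hU0, hh', hx]
    · rintro ⟨h', rfl⟩
      apply X''.ι_inj
      rw [hV0, hU0, pi0, map_zero]
  · -- exactness at `H1`
    intro h
    constructor
    · intro hV
      obtain ⟨c, rfl⟩ := X.cl1_surj h
      have hc'' : d''1 (p1 c.1) = 0 := by rw [← hp12, ker1, map_zero]
      rw [hV1 c ⟨p1 c.1, mem1'' hc''⟩ rfl] at hV
      obtain ⟨y'', hy''⟩ := (X''.cl1_zero _).1 hV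
      obtain ⟨y, rfl⟩ := sur0 y''
      have he : p1 (c.1 - d0 y) = 0 := by
        rw [map_sub, hp01, hy'', sub_self]
      obtain ⟨c', hc'⟩ := (ex1 _).1 he
      have hc'0 : d'1 c' = 0 := by
        apply coc'
        rw [hc', map_sub, ker1, hd, sub_zero]
      have he1 : d1 (c.1 - d0 y) = 0 := by rw [map_sub, ker1, hd, sub_zero]
      refine ⟨X'.cl1 ⟨c', mem1' hc'0⟩, ?_⟩
      rw [hU1 ⟨c', mem1' hc'0⟩ ⟨c.1 - d0 y, mem1 he1⟩ hc'.symm]
      refine (cl1_eq c ⟨c.1 - d0 y, mem1 he1⟩ y ?_).symm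
      change c.1 - (c.1 - d0 y) = d0 y
      abel
    · rintro ⟨h', rfl⟩
      obtain ⟨c', rfl⟩ := X'.cl1_surj h'
      have h1 : d1 (i1 c'.1) = 0 := by rw [← hi12, ker1', map_zero]
      rw [hU1 c' ⟨i1 c'.1, mem1 h1⟩ rfl]
      have h2 : d''1 (p1 (i1 c'.1)) = 0 := by rw [pi1, map_zero]
      rw [hV1 ⟨i1 c'.1, mem1 h1⟩ ⟨p1 (i1 c'.1), mem1'' h2⟩ rfl]
      have : (⟨p1 (i1 c'.1), mem1'' h2⟩ : d''1.ker) = 0 := Subtype.ext (pi1 _)
      rw [this, map_zero]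
  · -- exactness at `H2`
    intro h
    constructor
    · intro hV
      obtain ⟨x, rfl⟩ := X.cl2_surj h
      rw [hV2] at hV
      obtain ⟨c'', hc''⟩ := (X''.cl2_zero _).1 hV
      obtain ⟨c, rfl⟩ := sur1 c''
      have he : p2 (x - d1 c) = 0 := by rw [map_sub, hp12, hc'', sub_self]
      obtain ⟨x', hx'⟩ := (ex2 _).1 he
      refine ⟨X'.cl2 x', ?_⟩
      rw [hU2, hx']
      refine (cl2_eq x (x - d1 c) c ?_).symm
      abel
    · rintro ⟨h', rfl⟩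
      obtain ⟨x', rfl⟩ := X'.cl2_surj h'
      rw [hU2, hV2, pi2, map_zero]
  · -- the connecting maps
    -- δ₀
    let r0 : H''0 → H'1 → Prop := fun z w =>
      ∃ (y : K0) (c' : d'1.ker), p0 y = X''.ι z ∧ i1 c'.1 = d0 y ∧ w = X'.cl1 c'
    have r0_uniq : ∀ z w w', r0 z w → r0 z w' → w = w' := by
      rintro z w w' ⟨y₁, c₁, h1, h2, rfl⟩ ⟨y₂, c₂, h1', h2', rfl⟩
      have h3 : p0 (y₁ - y₂) = 0 := by rw [map_sub, h1, h1', sub_self]
      obtain ⟨x, hx⟩ := (ex0 _).1 h3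
      refine cl1'_eq c₁ c₂ x ?_
      apply inj1
      rw [map_sub, h2, h2', hi01, hx, map_sub]
    obtain ⟨δ₀, hδ₀⟩ := exists_addMonoidHom_of_rel r0 (by
        intro z
        obtain ⟨y, hy⟩ := sur0 (X''.ι z)
        have h1 : p1 (d0 y) = 0 := by
          rw [hp01, hy]
          exact (X''.ι_range _).2 ⟨z, rfl⟩
        obtain ⟨c', hc'⟩ := (ex1 _).1 h1
        have h2 : d'1 c' = 0 := by
          apply coc'
          rw [hc', hd]
        exact ⟨X'.cl1 ⟨c', mem1' h2⟩, y, ⟨c', mem1' h2⟩, hy, hc', rfl⟩) r0_uniq (by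
        rintro z z₂ w w₂ ⟨y₁, c₁, h1, h2, rfl⟩ ⟨y₂, c₂, h1', h2', rfl⟩
        refine ⟨y₁ + y₂, c₁ + c₂, ?_, ?_, ?_⟩
        · rw [map_add, map_add, h1, h1']
        · change i1 (c₁.1 + c₂.1) = _
          rw [map_add, map_add, h2, h2']
        · rw [map_add])
    -- δ₁
    let r1 : H''1 → H'2 → Prop := fun z w =>
      ∃ (c : K1) (x' : K'2) (c'' : d''1.ker), p1 c = c''.1 ∧ z = X''.cl1 c'' ∧ i2 x' = d1 c ∧ w = X'.cl2 x'
    have r1_uniq : ∀ z w w', r1 z w → r1 z w' → w = w' := by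
      rintro z w w' ⟨c₁, x₁, e₁, h1, h2, h3, rfl⟩ ⟨c₂, x₂, e₂, h1', h2', h3', rfl⟩
      have h4 : X''.cl1 (e₁ - e₂) = 0 := by rw [map_sub, ← h2, ← h2', sub_self]
      obtain ⟨y'', hy''⟩ := (X''.cl1_zero _).1 h4
      obtain ⟨y, rfl⟩ := sur0 y''
      have h5 : p1 (c₁ - c₂ - d0 y) = 0 := by
        rw [map_sub, map_sub, h1, h1', hp01, hy'']
        change e₁.1 - e₂.1 - (e₁.1 - e₂.1) = 0
        rw [sub_self]
      obtain ⟨c', hc'⟩ := (ex1 _).1 h5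
      refine cl2'_eq x₁ x₂ c' ?_
      apply inj2
      rw [map_sub, h3, h3', hi12, hc', map_sub, map_sub, hd, sub_zero]
    obtain ⟨δ₁, hδ₁⟩ := exists_addMonoidHom_of_rel r1 (by
        intro z
        obtain ⟨c'', rfl⟩ := X''.cl1_surj z
        obtain ⟨c, hc⟩ := sur1 c''.1
        have h1 : p2 (d1 c) = 0 := by rw [hp12, hc, ker1'']
        obtain ⟨x', hx'⟩ := (ex2 _).1 h1
        exact ⟨X'.cl2 x', c, x', c'', hc, rfl, hx', rfl⟩) r1_uniq (by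
        rintro z z₂ w w₂ ⟨c₁, x₁, e₁, h1, rfl, h3, rfl⟩ ⟨c₂, x₂, e₂, h1', rfl, h3', rfl⟩
        refine ⟨c₁ + c₂, x₁ + x₂, e₁ + e₂, ?_, ?_, ?_, ?_⟩
        · rw [map_add, h1, h1']; rfl
        · rw [map_add]
        · rw [map_add, map_add, h3, h3']
        · rw [map_add])
    refine ⟨δ₀, δ₁, ?_, ?_, ?_, ?_⟩
    · -- exactness at `H''0`
      intro z
      constructor
      · intro hz
        obtain ⟨y, c', h1, h2, h3⟩ := hδ₀ z
        rw [hz] at h3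
        obtain ⟨x', hx'⟩ := (X'.cl1_zero _).1 h3.symm
        have h4 : d0 (y - i0 x') = 0 := by rw [map_sub, ← h2, ← hi01, hx', sub_self]
        obtain ⟨h, hh⟩ := (X.ι_range _).1 h4
        refine ⟨h, X''.ι_inj ?_⟩
        rw [hV0, hh, map_sub, pi0, sub_zero, h1]
      · rintro ⟨h, rfl⟩
        refine r0_uniq _ _ _ (hδ₀ _) ⟨X.ι h, 0, (hV0 h).symm, ?_, (map_zero _).symm⟩
        change i1 0 = _
        rw [map_zero]
        exact ((X.ι_range _).2 ⟨h, rfl⟩).symm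
    · -- exactness at `H'1`
      intro w
      constructor
      · intro hw
        obtain ⟨c', rfl⟩ := X'.cl1_surj w
        have h1 : d1 (i1 c'.1) = 0 := by rw [← hi12, ker1', map_zero]
        rw [hU1 c' ⟨i1 c'.1, mem1 h1⟩ rfl] at hw
        obtain ⟨y, hy⟩ := (X.cl1_zero _).1 hw
        have h2 : d''0 (p0 y) = 0 := by rw [← hp01, hy]; exact pi1 _
        obtain ⟨z, hz⟩ := (X''.ι_range _).1 h2
        exact ⟨z, r0_uniq _ _ _ (hδ₀ z) ⟨y, c', hz.symm, hy.symm, rfl⟩⟩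
      · rintro ⟨z, rfl⟩
        obtain ⟨y, c', h1, h2, h3⟩ := hδ₀ z
        rw [h3]
        have h4 : d1 (i1 c'.1) = 0 := by rw [← hi12, ker1', map_zero]
        rw [hU1 c' ⟨i1 c'.1, mem1 h4⟩ rfl]
        exact (X.cl1_zero _).2 ⟨y, h2.symm⟩
    · -- exactness at `H''1`
      intro z
      constructor
      · intro hz
        obtain ⟨c, x', c'', h1, h2, h3, h4⟩ := hδ₁ z
        rw [hz] at h4
        obtain ⟨c', hc'⟩ := (X'.cl2_zero _).1 h4.symm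
        have h5 : d1 (c - i1 c') = 0 := by rw [map_sub, ← h3, ← hi12, hc', sub_self]
        refine ⟨X.cl1 ⟨c - i1 c', mem1 h5⟩, ?_⟩
        rw [h2]
        refine hV1 _ c'' ?_
        change c''.1 = p1 (c - i1 c')
        rw [map_sub, pi1, sub_zero, h1]
      · rintro ⟨h, rfl⟩
        obtain ⟨c₀, rfl⟩ := X.cl1_surj h
        have h1 : d''1 (p1 c₀.1) = 0 := by rw [← hp12, ker1, map_zero]
        refine r1_uniq _ _ _ (hδ₁ _) ⟨c₀.1, 0, ⟨p1 c₀.1, mem1'' h1⟩, rfl, hV1 _ _ rfl, ?_,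
          (map_zero _).symm⟩
        rw [map_zero, ker1]
    · -- exactness at `H'2`
      intro w
      constructor
      · intro hw
        obtain ⟨x', rfl⟩ := X'.cl2_surj w
        rw [hU2] at hw
        obtain ⟨c, hc⟩ := (X.cl2_zero _).1 hw
        have h1 : d''1 (p1 c) = 0 := by rw [← hp12, hc, pi2]
        exact ⟨X''.cl1 ⟨p1 c, mem1'' h1⟩,
          r1_uniq _ _ _ (hδ₁ _) ⟨c, x', ⟨p1 c, mem1'' h1⟩, rfl, rfl, hc.symm, rfl⟩⟩
      · rintro ⟨z, rfl⟩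
        obtain ⟨c, x', c'', h1, h2, h3, h4⟩ := hδ₁ z
        rw [h4, hU2, h3]
        exact (X.cl2_zero _).2 ⟨c, rfl⟩

end

end Groth.Agent.Lib.NineTerm
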