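import Mathlib
import Groth.Prelude.Def_CotT2
import Groth.Agent.S12289

/-!
# `T²` of a presentation and the syzygy condition

For a presentation `P` of `B` over `A` (ring `R`, `F = R^σ → I`):
* `exact_d2_toCot`: `L₂ → L₁ → I/I² → 0` is exact;
* `mem_trivRel_of_subsingleton_T2`: if `T²(P, L₂) = 0` then every relation with coefficients in `I` is a trivial relation
  (`Q ∩ IF ⊆ F₀`);
* `subsingleton_T2_of_syz`: if `Q ∩ IF ⊆ F₀` and `I/I²` is projective then `T²(P, M) = 0` for all `M`.
-/

set_option autoImplicit false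
set_option linter.unusedVariables false
set_option linter.unusedSectionVars false
universe u w m
open scoped TensorProduct

namespace Groth.Agent.Lib.T2Syz

open CotT

theorem one_tmul_eq_zero_iff {R : Type*} [CommRing R] (K : Type*) [CommRing K] [Algebra R K]
    (hK : Function.Surjective (algebraMap R K)) (M : Type*) [AddCommGroup M] [Module R M] (y : M) :
    (1 : K) ⊗ₜ[R] y = 0 ↔ y ∈ (RingHom.ker (algebraMap R K)) • (⊤ : Submodule R M) := by
  let e0 : (R ⧸ RingHom.ker (algebraMap R K)) ≃ₐ[R] K :=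
    Ideal.quotientKerAlgEquivOfSurjective (f := Algebra.ofId R K) hK
  let e : K ⊗[R] M ≃ₗ[R] M ⧸ (RingHom.ker (algebraMap R K)) • (⊤ : Submodule R M) :=
    (TensorProduct.congr e0.symm.toLinearEquiv (LinearEquiv.refl R M)) ≪≫ₗ
      TensorProduct.quotTensorEquivQuotSMul M (RingHom.ker (algebraMap R K))
  have he : e ((1 : K) ⊗ₜ[R] y) = Submodule.Quotient.mk y := by
    change TensorProduct.quotTensorEquivQuotSMul M _ ((e0.symm 1) ⊗ₜ[R] y) = _
    rw [map_one]
    have := TensorProduct.quotTensorEquivQuotSMul_mk_tmul (M := M)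
      (RingHom.ker (algebraMap R K)) 1 y
    rw [one_smul] at this
    exact this
  rw [← e.map_eq_zero_iff, he, Submodule.Quotient.mk_eq_zero]

variable {A : Type u} {B : Type u} [CommRing A] [CommRing B] [Algebra A B] {ι σ : Type w}
  (P : Algebra.Presentation A B ι σ)

theorem exact_d2_toCot : Function.Exact (d2 P) (toCot P) := by
  intro y
  constructor
  · intro hy
    exact Groth.Agent.S12289.ker_toCot_le_range_d2 P hy
  · rintro ⟨x, rfl⟩
    exact LinearMap.congr_fun (toCot_comp_d2 P) x

/-- an element of `F` with coefficients in `I` dies in `B ⊗ F`. -/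
theorem one_tmul_eq_zero_of_coeff (q : relMod P) (hq : ∀ s, q s ∈ P.toExtension.ker) :
    (1 : B) ⊗ₜ[P.toExtension.Ring] q = (0 : L1 P) := by
  classical
  rw [← Finsupp.sum_single q, Finsupp.sum, TensorProduct.tmul_sum]
  refine Finset.sum_eq_zero fun s _ => ?_
  have h1 : (Finsupp.single s (q s) : relMod P) = q s • Finsupp.single s 1 := by
    rw [Finsupp.smul_single, smul_eq_mul, mul_one]
  rw [h1, ← TensorProduct.smul_tmul, Algebra.smul_def, mul_one]
  have : algebraMap P.toExtension.Ring B (q s) = 0 := hq s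
  rw [this, TensorProduct.zero_tmul]

/-- conversely. -/
theorem coeff_mem_of_one_tmul_eq_zero (q : relMod P)
    (h : (1 : B) ⊗ₜ[P.toExtension.Ring] q = (0 : L1 P)) (s : σ) : q s ∈ P.toExtension.ker := by
  classical
  have h1 := congrArg (fun z => (L1basis P).repr z s) h
  simp only [map_zero, Finsupp.coe_zero, Pi.zero_apply] at h1
  have h2 : (L1basis P).repr ((1 : B) ⊗ₜ[P.toExtension.Ring] q) s = algebraMap P.toExtension.Ring B (q s) := by
    rw [L1basis, Algebra.TensorProduct.basis_repr_tmul]
    simp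
  rw [h2] at h1
  exact h1

theorem smul_mem_trivRel {i : P.toExtension.Ring} (hi : i ∈ P.toExtension.ker) {z : relMod P}
    (hz : z ∈ relKer P) : i • z ∈ trivRel P := by
  have hi' : i ∈ LinearMap.range (jmap P) := by
    rw [range_jmap]; exact hi
  obtain ⟨a, rfl⟩ := hi'
  have hz0 : jmap P z = 0 := hz
  have : jmap P a • z = jmap P a • z - jmap P z • a := by rw [hz0, zero_smul, sub_zero]
  rw [this]
  exact Submodule.subset_span ⟨a, z, rfl⟩

/-- every element of `B ⊗ Q` is of the form `1 ⊗ q`. -/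
theorem exists_one_tmul (z : B ⊗[P.toExtension.Ring] relKer P) : ∃ q : relKer P, z = (1 : B) ⊗ₜ q := by
  obtain ⟨q, rfl⟩ := TensorProduct.mk_surjective P.toExtension.Ring (relKer P) B
    P.toExtension.algebraMap_surjective z
  exact ⟨q, rfl⟩

/-- if `1 ⊗ q` is in the image of `B ⊗ F₀` then `q ∈ F₀`. -/
theorem mem_trivRel_of_mem_range (q : relKer P)
    (h : (1 : B) ⊗ₜ[P.toExtension.Ring] q ∈ LinearMap.range ((trivRelKer P).subtype.baseChange B)) :
    (q : relMod P) ∈ trivRel P := by
  obtain ⟨y, hy⟩ := h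
  obtain ⟨t, rfl⟩ := TensorProduct.mk_surjective P.toExtension.Ring (trivRelKer P) B
    P.toExtension.algebraMap_surjective y
  have h1 : TensorProduct.mk P.toExtension.Ring B (relKer P) 1 (q - (t : relKer P)) = 0 := by
    have e := (TensorProduct.mk P.toExtension.Ring B (relKer P) 1).map_sub q (t : relKer P)
    exact e.trans (sub_eq_zero.mpr hy.symm)
  have h1 := (one_tmul_eq_zero_iff B P.toExtension.algebraMap_surjective (relKer P) (q - (t : relKer P))).mp h1
  have h2 : ∀ z ∈ (RingHom.ker (algebraMap P.toExtension.Ring B)) • (⊤ : Submodule P.toExtension.Ring (relKer P)),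
      (z : relMod P) ∈ trivRel P := by
    intro z hz
    refine Submodule.smul_induction_on hz ?_ ?_
    · intro i hi n _
      exact smul_mem_trivRel P hi n.2
    · intro x y hx hy
      exact Submodule.add_mem _ hx hy
  have h3 := h2 _ h1
  have h4 : (q : relMod P) = ((q - (t : relKer P) : relKer P) : relMod P) + ((t : relKer P) : relMod P) := by
    simp
  rw [h4]
  exact Submodule.add_mem _ h3 t.2

/-- **`T² = 0` gives the syzygy condition** `Q ∩ IF ⊆ F₀`. -/
theorem mem_trivRel_of_subsingleton_T2 (h : Subsingleton (T2 P (L2 P))) (q : relMod P) (hq : q ∈ relKer P)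
    (hc : ∀ s, q s ∈ P.toExtension.ker) : q ∈ trivRel P := by
  have h1 : (LinearMap.id : L2 P →ₗ[B] L2 P) ∈ LinearMap.range (d2Star P (L2 P)) := by
    rw [← Submodule.Quotient.mk_eq_zero]
    exact h.elim _ _
  obtain ⟨φ, hφ⟩ := h1
  rw [d2Star_apply] at hφ
  have hinj : Function.Injective (d2 P) := by
    intro x y hxy
    have := congrArg φ hxy
    rw [← LinearMap.comp_apply, ← LinearMap.comp_apply, hφ] at this
    exact this
  have h2 : d2 P (Submodule.Quotient.mk ((1 : B) ⊗ₜ (⟨q, hq⟩ : relKer P))) = 0 := by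
    rw [d2_mk_tmul]
    exact one_tmul_eq_zero_of_coeff P q hc
  have h3 := hinj (h2.trans (map_zero _).symm)
  rw [Submodule.Quotient.mk_eq_zero] at h3
  exact mem_trivRel_of_mem_range P ⟨q, hq⟩ h3

/-- the syzygy condition gives injectivity of `d₂`. -/
theorem d2_injective_of_syz
    (hsyz : ∀ q : relMod P, q ∈ relKer P → (∀ s, q s ∈ P.toExtension.ker) → q ∈ trivRel P) :
    Function.Injective (d2 P) := by
  rw [injective_iff_map_eq_zero]
  intro x hx
  induction x using Submodule.Quotient.induction_on with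
  | H z =>
    obtain ⟨q, rfl⟩ := exists_one_tmul P z
    rw [d2_mk_tmul] at hx
    have hc := coeff_mem_of_one_tmul_eq_zero P (q : relMod P) hx
    have hq := hsyz q q.2 hc
    rw [Submodule.Quotient.mk_eq_zero]
    exact ⟨(1 : B) ⊗ₜ[P.toExtension.Ring] (⟨q, hq⟩ : trivRelKer P), rfl⟩

/-- **syzygy condition + projective conormal module gives `T² = 0`.** -/
theorem subsingleton_T2_of_syz
    (hsyz : ∀ q : relMod P, q ∈ relKer P → (∀ s, q s ∈ P.toExtension.ker) → q ∈ trivRel P)
    [Module.Projective B P.toExtension.Cotangent] (M : Type m) [AddCommGroup M] [Module B M] :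
    Subsingleton (T2 P M) := by
  have hinj := d2_injective_of_syz P hsyz
  obtain ⟨l, hl⟩ := Module.projective_lifting_property (toCot P) LinearMap.id
    (Groth.Agent.S12289.toCot_surjective P)
  have h1 : Function.Surjective (toCot P) ∧ ∃ l, l ∘ₗ d2 P = LinearMap.id :=
    ((exact_d2_toCot P).split_tfae'.out 0 1).mp (And.intro hinj (Exists.intro l hl))
  obtain ⟨-, ρ, hρ⟩ := h1
  refine ⟨fun x y => ?_⟩
  have h0 : ∀ z : T2 P M, z = 0 := by
    intro z
    induction z using Submodule.Quotient.induction_on with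
    | H ψ =>
      rw [Submodule.Quotient.mk_eq_zero]
      refine ⟨ψ ∘ₗ ρ, ?_⟩
      rw [d2Star_apply, LinearMap.comp_assoc, hρ, LinearMap.comp_id]
  rw [h0 x, h0 y]

end Groth.Agent.Lib.T2Syz
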