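import Mathlib
import Groth.Prelude.Def_CotT2
import Groth.Agent.S12289
import Groth.Agent.Lib.NineTerm
import Groth.Agent.Lib.CotTMor
import Groth.Agent.Lib.T2Syz

/-!
# Maps induced on `T⁰, T¹, T²` by morphisms of presentations: composition and independence (helper1)

* `cohPres P M`: `T⁰, T¹, T²` presented as the cohomology of `Hom(L•, M)` (`NineTerm.CohPres`);
* `T0pull_triangle`, `T1pull_triangle`: for morphisms `h₁ : P → P'`, `h₂ : P' → P''`, `h₃ : P → P''` over composable
  squares, `h₁^* ∘ h₂^* = h₃^*` on `T⁰`, `T¹` (no strictness needed);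
* `T2pull_strict`: the same on `T²` if `h₃` is the strict composite;
* `T2pull_triangle`: the same on `T²` when all three present the same algebra (homotopy, via `Lib/CotTMor`);
* `T0pull_id`, `T1pull_id`, `T2pull_id`.
-/

set_option autoImplicit false
set_option linter.unusedVariables false
set_option linter.unusedSectionVars false
universe u
open scoped TensorProduct

namespace Groth.Agent.Lib.CotTPull

open CotT Groth.Agent.Lib.NineTerm

section Pres

variable {A B : Type u} [CommRing A] [CommRing B] [Algebra A B] {ι σ : Type u}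
  (P : Algebra.Presentation A B ι σ) (M : Type u) [AddCommGroup M] [Module B M]

/-- a cocycle for the additive differential, as an element of `cocycles1`. -/
def toCocycle (c : (d2Star P M).toAddMonoidHom.ker) : cocycles1 P M := ⟨c.1, c.2⟩

/-- the class of a cocycle. -/
noncomputable def cl1Hom : (d2Star P M).toAddMonoidHom.ker →+ T1 P M where
  toFun c := Submodule.Quotient.mk (toCocycle P M c)
  map_zero' := rfl
  map_add' _ _ := rfl

lemma cl1Hom_surjective : Function.Surjective (cl1Hom P M) := by
  intro x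
  induction x using Submodule.Quotient.induction_on with
  | H c => exact ⟨⟨c.1, c.2⟩, rfl⟩

lemma cl1Hom_eq_zero (c : (d2Star P M).toAddMonoidHom.ker) :
    cl1Hom P M c = 0 ↔ ∃ y, (d1Star P M).toAddMonoidHom y = c.1 := by
  change Submodule.Quotient.mk (toCocycle P M c) = 0 ↔ _
  rw [Submodule.Quotient.mk_eq_zero]
  rfl

/-- `T⁰, T¹, T²` as the cohomology of the cochain complex `Hom(L•, M)`. -/
noncomputable def cohPres :
    CohPres (d1Star P M).toAddMonoidHom (d2Star P M).toAddMonoidHom (T0 P M) (T1 P M) (T2 P M) where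
  ι := (LinearMap.ker (d1Star P M)).subtype.toAddMonoidHom
  ι_inj := Subtype.val_injective
  ι_range y := ⟨fun h => ⟨⟨y, h⟩, rfl⟩, by rintro ⟨h, rfl⟩; exact h.2⟩
  cl1 := cl1Hom P M
  cl1_surj := cl1Hom_surjective P M
  cl1_zero := cl1Hom_eq_zero P M
  cl2 := (LinearMap.range (d2Star P M)).mkQ.toAddMonoidHom
  cl2_surj := Submodule.mkQ_surjective _
  cl2_zero x := by
    change Submodule.Quotient.mk x = 0 ↔ _
    rw [Submodule.Quotient.mk_eq_zero]
    rfl

@[simp] lemma cohPres_ι (x : T0 P M) : (cohPres P M).ι x = (x : L0 P →ₗ[B] M) := rfl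

lemma cohPres_cl1 (c : (d2Star P M).toAddMonoidHom.ker) :
    (cohPres P M).cl1 c = Submodule.Quotient.mk (toCocycle P M c) := rfl

lemma cohPres_cl2 (x : L2 P →ₗ[B] M) : (cohPres P M).cl2 x = Submodule.Quotient.mk x := rfl

lemma basis_eq (i : ι) : P.cotangentSpaceBasis i =
    ((1 : B) ⊗ₜ[P.toExtension.Ring] KaehlerDifferential.D A P.toExtension.Ring (MvPolynomial.X i) : L0 P) :=
  P.cotangentSpaceBasis_apply i

/-- elements of `T⁰` vanish on `1 ⊗ dx` for `x` in the kernel. -/
lemma T0_vanish (ψ : L0 P →ₗ[B] M) (hψ : ψ ∈ LinearMap.ker (d1Star P M)) (x : P.toExtension.Ring)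
    (hx : x ∈ P.toExtension.ker) :
    ψ ((1 : B) ⊗ₜ[P.toExtension.Ring] KaehlerDifferential.D A P.toExtension.Ring x) = 0 := by
  have hx' : x ∈ LinearMap.range (jmap P) := by rw [range_jmap]; exact hx
  obtain ⟨f, rfl⟩ := hx'
  have h1 : d1Star P M ψ ((1 : B) ⊗ₜ f) = 0 := by
    rw [LinearMap.mem_ker.mp hψ]; rfl
  rw [d1Star_apply, LinearMap.comp_apply, d1_tmul, one_smul] at h1
  exact h1

end Pres

section One

variable {A B A' B' : Type u} [CommRing A] [CommRing B] [Algebra A B] [CommRing A'] [CommRing B'] [Algebra A' B']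
  [Algebra A A'] [Algebra B B'] [Algebra A B'] [IsScalarTower A A' B'] [IsScalarTower A B B']
  {ι σ ι' σ' : Type u} {P : Algebra.Presentation A B ι σ} {P' : Algebra.Presentation A' B' ι' σ'}
  (h : PresHom P P') (M : Type u) [AddCommGroup M] [Module B' M] [Module B M] [IsScalarTower B B' M]

lemma T0pull_coe (x : T0 P' M) :
    ((h.T0pull M x : T0 P M) : L0 P →ₗ[B] M) = h.pull0 M (x : L0 P' →ₗ[B'] M) := rfl

lemma T1pull_mk (c : cocycles1 P' M) :
    h.T1pull M (Submodule.Quotient.mk c) = Submodule.Quotient.mk (h.cocycles1Pull M c) := rfl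

lemma T2pull_mk (v : L2 P' →ₗ[B'] M) :
    h.T2pull M (Submodule.Quotient.mk v) = Submodule.Quotient.mk (h.pull2 M v) := rfl

lemma L0map_one_tmul_D (r : P.toExtension.Ring) :
    h.L0map ((1 : B) ⊗ₜ[P.toExtension.Ring] KaehlerDifferential.D A P.toExtension.Ring r) =
      (1 : B') ⊗ₜ[P'.toExtension.Ring] KaehlerDifferential.D A' P'.toExtension.Ring (h.ringHom r) := by
  rw [PresHom.L0map_apply, Algebra.Extension.CotangentSpace.map_tmul, map_one]
  rfl

lemma T1pull_homToT1 (φ : P'.toExtension.Cotangent →ₗ[B'] M) :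
    h.T1pull M (homToT1 P' M φ) = homToT1 P M (PresHom.linOfSemilinear M (φ.comp h.cotMap)) := by
  change h.T1pull M (Submodule.Quotient.mk _) = Submodule.Quotient.mk _
  rw [T1pull_mk]
  congr 1
  apply Subtype.ext
  refine LinearMap.ext fun x => ?_
  change φ (toCot P' (h.L1map x)) = φ (h.cotMap (toCot P x))
  rw [h.toCot_L1map]

/-- every map of generators over the square extends to a morphism of presentations. -/
theorem exists_presHom (g : Algebra.Generators.Hom P.toGenerators P'.toGenerators) :
    ∃ h : PresHom P P', h.hom = g := by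
  have : ∀ s, ∃ y : relMod P', jmap P' y = g.toExtensionHom.toRingHom (rel P s) := by
    intro s
    have h1 : g.toExtensionHom.toRingHom (rel P s) ∈ P'.ker := by
      change algebraMap P'.toExtension.Ring B' _ = 0
      rw [g.toExtensionHom.algebraMap_toRingHom, algebraMap_rel, map_zero]
    rw [← range_jmap] at h1
    exact h1
  choose y hy using this
  exact ⟨⟨g, y, hy⟩, rfl⟩

/-- the morphism into a choice-free presentation attached to a map of generators (each relation goes to the basis vector
of its image). -/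
noncomputable def toCanon (P : Algebra.Presentation A B ι σ)
    (g : Algebra.Generators.Hom P.toGenerators (canon A' B').toGenerators) : PresHom P (canon A' B') where
  hom := g
  relVal s := Finsupp.single
    ⟨g.toExtensionHom.toRingHom (rel P s), by
      have h1 := g.toExtensionHom.algebraMap_toRingHom (rel P s)
      rw [algebraMap_rel, map_zero] at h1
      exact h1⟩ 1
  jmap_relVal s := by
    rw [jmap_single, one_mul]
    rfl

lemma canonHom_eq_toCanon : canonHom A B A' B' =
    toCanon (canon A B) (Algebra.Generators.defaultHom _ _) := rfl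

/-- compatibility of `T¹`-pull with the cohomology presentations. -/
lemma T1pull_cl1 (c : (d2Star P' M).toAddMonoidHom.ker) (c₂ : (d2Star P M).toAddMonoidHom.ker)
    (hc : c₂.1 = (h.pull1 M).toAddMonoidHom c.1) :
    h.T1pull M ((cohPres P' M).cl1 c) = (cohPres P M).cl1 c₂ := by
  rw [cohPres_cl1, cohPres_cl1, T1pull_mk]
  congr 1
  apply Subtype.ext
  exact hc.symm

end One

section Three

variable {A B A' B' A'' B'' : Type u} [CommRing A] [CommRing B] [Algebra A B] [CommRing A'] [CommRing B']
  [Algebra A' B'] [CommRing A''] [CommRing B''] [Algebra A'' B'']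
  [Algebra A A'] [Algebra B B'] [Algebra A B'] [IsScalarTower A A' B'] [IsScalarTower A B B']
  [Algebra A' A''] [Algebra B' B''] [Algebra A' B''] [IsScalarTower A' A'' B''] [IsScalarTower A' B' B'']
  [Algebra A A''] [Algebra B B''] [Algebra A B''] [IsScalarTower A A'' B''] [IsScalarTower A B B'']
  {ι σ ι' σ' ι'' σ'' : Type u} {P : Algebra.Presentation A B ι σ} {P' : Algebra.Presentation A' B' ι' σ'}
  {P'' : Algebra.Presentation A'' B'' ι'' σ''}
  (h₁ : PresHom P P') (h₂ : PresHom P' P'') (h₃ : PresHom P P'')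
  (M : Type u) [AddCommGroup M] [Module B'' M] [Module B' M] [IsScalarTower B' B'' M] [Module B M]
  [IsScalarTower B B' M] [IsScalarTower B B'' M]
  (htower : ∀ b : B, algebraMap B' B'' (algebraMap B B' b) = algebraMap B B'' b)
  (hbase : ∀ a : A, algebraMap A' A'' (algebraMap A A' a) = algebraMap A A'' a)

include htower in
lemma sub_mem_ker (r : P.toExtension.Ring) :
    h₂.ringHom (h₁.ringHom r) - h₃.ringHom r ∈ P''.toExtension.ker := by
  change algebraMap P''.toExtension.Ring B'' _ = 0
  rw [map_sub, h₂.algebraMap_ringHom, h₁.algebraMap_ringHom, h₃.algebraMap_ringHom, htower, sub_self]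

include htower in
/-- `h₁^* ∘ h₂^* = h₃^*` on `T⁰`. -/
theorem T0pull_triangle (x : T0 P'' M) : h₁.T0pull M (h₂.T0pull M x) = h₃.T0pull M x := by
  apply Subtype.ext
  rw [T0pull_coe, T0pull_coe, T0pull_coe]
  refine P.cotangentSpaceBasis.ext fun i => ?_
  rw [basis_eq, PresHom.pull0_apply, PresHom.pull0_apply, PresHom.pull0_apply]
  have e1 := L0map_one_tmul_D h₁ (MvPolynomial.X i)
  have e3 := L0map_one_tmul_D h₃ (MvPolynomial.X i)
  rw [e1, e3, L0map_one_tmul_D h₂, ← sub_eq_zero, ← map_sub, ← TensorProduct.tmul_sub, ← map_sub]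
  exact T0_vanish P'' M _ x.2 _ (sub_mem_ker h₁ h₂ h₃ htower _)

include htower hbase in
/-- `h₁^* ∘ h₂^* = h₃^*` on `T¹`. -/
theorem T1pull_triangle (x : T1 P'' M) : h₁.T1pull M (h₂.T1pull M x) = h₃.T1pull M x := by
  obtain ⟨φ, rfl⟩ := (Groth.Agent.S12289.result A'' B'' ι'' σ'' P'' M).2.2 x
  rw [T1pull_homToT1, T1pull_homToT1, T1pull_homToT1, ← sub_eq_zero, ← map_sub, ← LinearMap.mem_ker,
    (Groth.Agent.S12289.result A B ι σ P M).2.1]
  let g₃ : P.toExtension.Hom P''.toExtension := h₃.hom.toExtensionHom
  let g₂₁ : P.toExtension.Hom P''.toExtension :=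
    { toRingHom := h₂.ringHom.comp h₁.ringHom
      toRingHom_algebraMap := fun a => by
        rw [RingHom.comp_apply]
        have e1 := h₁.hom.toExtensionHom.toRingHom_algebraMap a
        have e2 := h₂.hom.toExtensionHom.toRingHom_algebraMap (algebraMap A A' a)
        rw [e1, e2, hbase]
      algebraMap_toRingHom := fun r => by
        rw [RingHom.comp_apply, h₂.algebraMap_ringHom, h₁.algebraMap_ringHom, htower] }
  let χ : L0 P →ₗ[B] M :=
    { toFun := fun y => φ ((g₂₁.sub g₃) y)
      map_add' := fun y y' => by rw [map_add, map_add]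
      map_smul' := fun b y => by
        rw [map_smul, RingHom.id_apply, ← IsScalarTower.algebraMap_smul B'' b ((g₂₁.sub g₃) y), map_smul,
          IsScalarTower.algebraMap_smul] }
  refine ⟨χ, ?_⟩
  refine LinearMap.ext fun y => ?_
  obtain ⟨k, rfl⟩ := Algebra.Extension.Cotangent.mk_surjective y
  have key := LinearMap.congr_fun (Algebra.Extension.Cotangent.map_sub_map g₂₁ g₃)
    (Algebra.Extension.Cotangent.mk k)
  rw [LinearMap.lcomp_apply', LinearMap.comp_apply]
  change φ ((g₂₁.sub g₃) (P.toExtension.cotangentComplex (Algebra.Extension.Cotangent.mk k))) = _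
  rw [LinearMap.comp_apply] at key
  rw [← key, LinearMap.sub_apply, map_sub]
  rfl

/-- strict composites: the maps on the free relation modules compose. -/
lemma relModMap_comp (hfs : ∀ r, h₂.ringHom (h₁.ringHom r) = h₃.ringHom r)
    (hv : ∀ s, h₂.relModMap (h₁.relVal s) = h₃.relVal s) (f : relMod P) :
    h₂.relModMap (h₁.relModMap f) = h₃.relModMap f := by
  induction f using Finsupp.induction_linear with
  | zero => simp
  | add f g hf hg => rw [map_add, map_add, map_add, hf, hg]
  | single s r =>
    rw [PresHom.relModMap_single, PresHom.relModMap_single, LinearMap.map_smulₛₗ, hfs, hv]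

include htower in
lemma L2map_comp_strict (hfs : ∀ r, h₂.ringHom (h₁.ringHom r) = h₃.ringHom r)
    (hv : ∀ s, h₂.relModMap (h₁.relVal s) = h₃.relVal s) (z : L2 P) :
    h₂.L2map (h₁.L2map z) = h₃.L2map z := by
  induction z using Submodule.Quotient.induction_on with
  | H z =>
    induction z using TensorProduct.induction_on with
    | zero => simp
    | add a b ha hb =>
      rw [Submodule.Quotient.mk_add, map_add, map_add, map_add, ha, hb]
    | tmul b q =>
      have e : h₂.relKerMap (h₁.relKerMap q) = h₃.relKerMap q := by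
        apply Subtype.ext
        rw [PresHom.relKerMap_coe, PresHom.relKerMap_coe, PresHom.relKerMap_coe]
        exact relModMap_comp h₁ h₂ h₃ hfs hv _
      rw [PresHom.L2map_mk_tmul, PresHom.L2map_mk_tmul, PresHom.L2map_mk_tmul, htower, e]

include htower in
/-- `h₁^* ∘ h₂^* = h₃^*` on `T²` for a strict composite. -/
theorem T2pull_strict (hfs : ∀ r, h₂.ringHom (h₁.ringHom r) = h₃.ringHom r)
    (hv : ∀ s, h₂.relModMap (h₁.relVal s) = h₃.relVal s) (x : T2 P'' M) :
    h₁.T2pull M (h₂.T2pull M x) = h₃.T2pull M x := by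
  induction x using Submodule.Quotient.induction_on with
  | H v =>
    have e2 : h₂.T2pull M (Submodule.Quotient.mk v) = Submodule.Quotient.mk (h₂.pull2 M v) :=
      T2pull_mk h₂ M v
    have e1 : h₁.T2pull M (Submodule.Quotient.mk (h₂.pull2 M v)) =
        Submodule.Quotient.mk (h₁.pull2 M (h₂.pull2 M v)) := T2pull_mk h₁ M _
    have e3 : h₃.T2pull M (Submodule.Quotient.mk v) = Submodule.Quotient.mk (h₃.pull2 M v) :=
      T2pull_mk h₃ M v
    refine ((congrArg (h₁.T2pull M) e2).trans e1).trans (Eq.trans ?_ e3.symm)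
    have e4 : h₁.pull2 M (h₂.pull2 M v) = h₃.pull2 M v := by
      refine LinearMap.ext fun z => ?_
      rw [PresHom.pull2_apply, PresHom.pull2_apply, PresHom.pull2_apply,
        L2map_comp_strict h₁ h₂ h₃ htower hfs hv]
    rw [e4]

end Three

section Same

open Groth.Agent.Lib.CotTMor

variable {A A' A'' B : Type u} [CommRing A] [CommRing A'] [CommRing A''] [CommRing B] [Algebra A B]
  [Algebra A' B] [Algebra A'' B]
  [Algebra A A'] [IsScalarTower A A' B] [Algebra A' A''] [IsScalarTower A' A'' B] [Algebra A A'']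
  [IsScalarTower A A'' B]
  {ι σ ι' σ' ι'' σ'' : Type u} {P : Algebra.Presentation A B ι σ} {P' : Algebra.Presentation A' B ι' σ'}
  {P'' : Algebra.Presentation A'' B ι'' σ''}

/-- a morphism of presentations of the same algebra, as a ring-level morphism. -/
noncomputable def toRMor (h : PresHom P P') : RMor P P' where
  f := h.ringHom
  hf r := h.algebraMap_ringHom r
  α := h.relModMap.toAddMonoidHom
  α_smul r x := h.relModMap.map_smulₛₗ r x
  hα := h.jmap_relModMap

@[simp] lemma toRMor_f (h : PresHom P P') (r : P.toExtension.Ring) : (toRMor h).f r = h.ringHom r := rfl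

lemma toRMor_L2map (h : PresHom P P') (z : L2 P) : (toRMor h).L2map z = h.L2map z := by
  induction z using Submodule.Quotient.induction_on with
  | H z =>
    induction z using TensorProduct.induction_on with
    | zero => simp
    | add a b ha hb => rw [Submodule.Quotient.mk_add, map_add, map_add, ha, hb]
    | tmul b q => rfl

lemma T2pull_eq_toRMor (h : PresHom P P') (M : Type u) [AddCommGroup M] [Module B M] (x : T2 P' M) :
    h.T2pull M x = (toRMor h).T2pull M x := by
  induction x using Submodule.Quotient.induction_on with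
  | H v =>
    refine (T2pull_mk h M v).trans (Eq.trans ?_ (RMor.T2pull_mk (toRMor h) M v).symm)
    congr 1

variable (h₁ : PresHom P P') (h₂ : PresHom P' P'') (h₃ : PresHom P P'')
  (hbase : ∀ a : A, algebraMap A' A'' (algebraMap A A' a) = algebraMap A A'' a)

include hbase in
set_option maxHeartbeats 1000000 in
/-- `h₁^* ∘ h₂^* = h₃^*` on `T²`, for three presentations of the same algebra. -/
theorem T2pull_triangle (M : Type u) [AddCommGroup M] [Module B M] (x : T2 P'' M) :
    h₁.T2pull M (h₂.T2pull M x) = h₃.T2pull M x := by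
  have e2 := T2pull_eq_toRMor h₂ M x
  have e1 := T2pull_eq_toRMor h₁ M ((toRMor h₂).T2pull M x)
  have e3 := T2pull_eq_toRMor h₃ M x
  refine ((congrArg (h₁.T2pull M) e2).trans e1).trans (Eq.trans ?_ e3.symm)
  -- the two `A`-algebra maps
  let f₃ : P.toExtension.Ring →ₐ[A] P''.toExtension.Ring := h₃.hom.toExtensionHom.toAlgHom
  let f₂₁ : P.toExtension.Ring →ₐ[A] P''.toExtension.Ring :=
    { toRingHom := h₂.ringHom.comp h₁.ringHom
      commutes' := fun a => by
        have e1 := h₁.hom.toExtensionHom.toRingHom_algebraMap a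
        have e2 := h₂.hom.toExtensionHom.toRingHom_algebraMap (algebraMap A A' a)
        change h₂.ringHom (h₁.ringHom (algebraMap A P.toExtension.Ring a)) = _
        rw [e1, e2, hbase, ← IsScalarTower.algebraMap_apply] }
  have hf₂₁ : ∀ r : P.toExtension.Ring, f₂₁ r = h₂.ringHom (h₁.ringHom r) := fun r => rfl
  have hf₃ : ∀ r : P.toExtension.Ring, f₃ r = h₃.ringHom r := fun r => rfl
  have hfg : ∀ i : ι, (f₂₁ : MvPolynomial ι A →ₐ[A] P''.toExtension.Ring) (MvPolynomial.X i) -
      (f₃ : MvPolynomial ι A →ₐ[A] P''.toExtension.Ring) (MvPolynomial.X i) ∈ LinearMap.range (jbar P'') := by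
    intro i
    rw [range_jbar]
    have hx : ∀ y : P.toExtension.Ring,
        algebraMap P''.toExtension.Ring B (h₂.ringHom (h₁.ringHom y) - h₃.ringHom y) = 0 := by
      intro y
      rw [map_sub, h₃.algebraMap_ringHom, h₂.algebraMap_ringHom, h₁.algebraMap_ringHom]
      exact sub_self _
    exact hx (MvPolynomial.X i : MvPolynomial ι A)
  obtain ⟨δ, hδ1, hδ2⟩ := Groth.Agent.Lib.QIdealExt.exists_twisted_derivation (jbar P'') (jbar_comm P'')
    (f₂₁ : MvPolynomial ι A →ₐ[A] P''.toExtension.Ring)
    (f₃ : MvPolynomial ι A →ₐ[A] P''.toExtension.Ring) hfg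
  have key := T2pull_eq_of_derivation ((toRMor h₂).comp (toRMor h₁)) (toRMor h₃) δ
    (fun r => hδ1 r) (fun r r' => hδ2 r r') M
  rw [RMor.T2pull_comp] at key
  exact LinearMap.congr_fun key x

end Same

section Id

variable {A B : Type u} [CommRing A] [CommRing B] [Algebra A B] {ι σ : Type u}
  (P : Algebra.Presentation A B ι σ) (M : Type u) [AddCommGroup M] [Module B M]

lemma id_ringHom (r : P.toExtension.Ring) : (PresHom.id P).ringHom r = r := by
  change (Algebra.Generators.Hom.id P.toGenerators).toAlgHom r = r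
  rw [Algebra.Generators.Hom.toAlgHom_id]
  rfl

lemma id_relModMap (f : relMod P) : (PresHom.id P).relModMap f = f := by
  induction f using Finsupp.induction_linear with
  | zero => simp
  | add f g hf hg => rw [map_add, hf, hg]
  | single s r =>
    rw [PresHom.relModMap_single, id_ringHom]
    change r • Finsupp.single s (1 : P.toExtension.Ring) = _
    rw [Finsupp.smul_single, smul_eq_mul, mul_one]

lemma id_L2map (z : L2 P) : (PresHom.id P).L2map z = z := by
  induction z using Submodule.Quotient.induction_on with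
  | H z =>
    induction z using TensorProduct.induction_on with
    | zero => simp
    | add a b ha hb => rw [Submodule.Quotient.mk_add, map_add, ha, hb]
    | tmul b q =>
      have e : (PresHom.id P).relKerMap q = q := by
        apply Subtype.ext
        rw [PresHom.relKerMap_coe, id_relModMap]
      rw [PresHom.L2map_mk_tmul, e]
      rfl

theorem T0pull_id (x : T0 P M) : (PresHom.id P).T0pull M x = x := by
  apply Subtype.ext
  rw [T0pull_coe]
  refine P.cotangentSpaceBasis.ext fun i => ?_
  rw [basis_eq, PresHom.pull0_apply]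
  have e1 := L0map_one_tmul_D (PresHom.id P) (MvPolynomial.X i)
  rw [e1]
  exact congrArg (fun r : P.toExtension.Ring => (x : L0 P →ₗ[B] M)
    ((1 : B) ⊗ₜ[P.toExtension.Ring] KaehlerDifferential.D A P.toExtension.Ring r)) (id_ringHom P _)

theorem T1pull_id (x : T1 P M) : (PresHom.id P).T1pull M x = x := by
  obtain ⟨φ, rfl⟩ := (Groth.Agent.S12289.result A B ι σ P M).2.2 x
  rw [T1pull_homToT1]
  congr 1
  refine LinearMap.ext fun y => ?_
  obtain ⟨k, rfl⟩ := Algebra.Extension.Cotangent.mk_surjective y
  change φ ((PresHom.id P).cotMap (Algebra.Extension.Cotangent.mk k)) = _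
  rw [PresHom.cotMap_apply, Algebra.Extension.Cotangent.map_mk]
  congr 2
  apply Subtype.ext
  exact id_ringHom P k.1

theorem T2pull_id (x : T2 P M) : (PresHom.id P).T2pull M x = x := by
  induction x using Submodule.Quotient.induction_on with
  | H v =>
    refine (T2pull_mk (PresHom.id P) M v).trans ?_
    congr 1
    refine LinearMap.ext fun z => ?_
    rw [PresHom.pull2_apply, id_L2map]

end Id

end Groth.Agent.Lib.CotTPull
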