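import Mathlib

/-!
# Trivial (Koszul) relations and localization

For a family `f : σ → R` let `triv f ⊆ R^(σ)` be the span of the trivial relations `(f·a) b - (f·b) a`.
If `R'` is a localization of `R` at `S` and the image of `q` in `R'^(σ)` is a trivial relation for the image family,
then `s q` is a trivial relation for some `s ∈ S`.
-/

set_option autoImplicit false
set_option linter.unusedVariables false
set_option linter.unusedSectionVars false

namespace Groth.Agent.Lib.SyzLoc

/-- the submodule of trivial relations of a family. -/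
noncomputable def triv {R : Type*} [CommRing R] {σ : Type*} (f : σ → R) : Submodule R (σ →₀ R) :=
  Submodule.span R {y | ∃ a b : σ →₀ R,
    y = Finsupp.linearCombination R f a • b - Finsupp.linearCombination R f b • a}

variable {R₁ R₂ : Type*} [CommRing R₁] [CommRing R₂] [Algebra R₁ R₂] {σ : Type*} (f : σ → R₁)

theorem linearCombination_mapRange (a : σ →₀ R₁) :
    Finsupp.linearCombination R₂ (fun s => algebraMap R₁ R₂ (f s))
      (Finsupp.mapRange (algebraMap R₁ R₂) (map_zero _) a) =
    algebraMap R₁ R₂ (Finsupp.linearCombination R₁ f a) := by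
  classical
  induction a using Finsupp.induction_linear with
  | zero => simp
  | add a b ha hb =>
    rw [Finsupp.mapRange_add (map_add _), map_add, ha, hb, map_add, map_add]
  | single s r =>
    rw [Finsupp.mapRange_single, Finsupp.linearCombination_single, Finsupp.linearCombination_single,
      smul_eq_mul, smul_eq_mul, map_mul]

theorem exists_smul_mem_triv (S : Submonoid R₁) [IsLocalization S R₂] (q : σ →₀ R₁)
    (h : Finsupp.mapRange (algebraMap R₁ R₂) (map_zero _) q ∈ triv (fun s => algebraMap R₁ R₂ (f s))) :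
    ∃ s ∈ S, s • q ∈ triv f := by
  classical
  let φ : (σ →₀ R₁) →ₗ[R₁] (σ →₀ R₂) := Finsupp.mapRange.linearMap (Algebra.linearMap R₁ R₂)
  have hφ : ∀ a, φ a = Finsupp.mapRange (algebraMap R₁ R₂) (map_zero _) a := fun a => rfl
  have : IsLocalizedModule S φ := inferInstance
  set f' : σ → R₂ := fun s => algebraMap R₁ R₂ (f s) with hf'
  have hlc : ∀ a, Finsupp.linearCombination R₂ f' (φ a) = algebraMap R₁ R₂ (Finsupp.linearCombination R₁ f a) :=
    fun a => linearCombination_mapRange f a
  have hle : triv f' ≤ Submodule.localized' R₂ S φ (triv f) := by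
    refine Submodule.span_le.mpr ?_
    rintro _ ⟨a', b', rfl⟩
    obtain ⟨⟨a, s⟩, hs⟩ := IsLocalizedModule.surj S φ a'
    obtain ⟨⟨b, t⟩, ht⟩ := IsLocalizedModule.surj S φ b'
    simp only at hs ht
    refine ⟨Finsupp.linearCombination R₁ f a • b - Finsupp.linearCombination R₁ f b • a,
      Submodule.subset_span ⟨a, b, rfl⟩, s * t, ?_⟩
    rw [IsLocalizedModule.mk'_eq_iff, map_sub, map_smul, map_smul, ← hs, ← ht]
    have e1 : ∀ (c : R₁) (x : σ →₀ R₂), Finsupp.linearCombination R₂ f' (c • x) =
        algebraMap R₁ R₂ c * Finsupp.linearCombination R₂ f' x := by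
      intro c x
      rw [← algebraMap_smul R₂ c x, map_smul, smul_eq_mul]
    have hs' : φ a = (s : R₁) • a' := hs.symm
    have ht' : φ b = (t : R₁) • b' := ht.symm
    have e2 : Finsupp.linearCombination R₁ f a • ((t : R₁) • b') =
        (algebraMap R₁ R₂ (Finsupp.linearCombination R₁ f a)) • ((t : R₁) • b') := by
      rw [algebraMap_smul]
    have e3 : Finsupp.linearCombination R₁ f b • ((s : R₁) • a') =
        (algebraMap R₁ R₂ (Finsupp.linearCombination R₁ f b)) • ((s : R₁) • a') := by
      rw [algebraMap_smul]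
    change Finsupp.linearCombination R₁ f a • ((t : R₁) • b') - Finsupp.linearCombination R₁ f b • ((s : R₁) • a') =
      ((s : R₁) * (t : R₁)) • (Finsupp.linearCombination R₂ f' a' • b' - Finsupp.linearCombination R₂ f' b' • a')
    rw [e2, e3, ← hlc, ← hlc, hs', ht', e1, e1, ← algebraMap_smul R₂ (t : R₁) b', ← algebraMap_smul R₂ (s : R₁) a',
      ← algebraMap_smul R₂ ((s : R₁) * (t : R₁)), map_mul, smul_sub, smul_smul, smul_smul, smul_smul, smul_smul]
    congr 1
    · congr 1; ring
    · congr 1; ring
  obtain ⟨n, hn, s, hns⟩ := hle h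
  rw [IsLocalizedModule.mk'_eq_iff] at hns
  have hns' : φ n = φ ((s : R₁) • q) := by
    rw [map_smul]
    exact hns
  obtain ⟨c, hc⟩ := (IsLocalizedModule.eq_iff_exists S φ).mp hns'
  refine ⟨c * s, S.mul_mem c.2 s.2, ?_⟩
  have : ((c : R₁) * (s : R₁)) • q = (c : R₁) • n := by
    rw [mul_smul]
    exact hc.symm
  rw [this]
  exact Submodule.smul_mem _ _ hn

end Groth.Agent.Lib.SyzLoc
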