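import Mathlib
import Groth.Agent.Lib.SyzLoc

/-!
# Transitivity of the syzygy condition

`π : R → A'` surjective, `ker π = (κ_s)`, `f̃ : J → R`, `f = π ∘ f̃`, `g = Sum.elim f̃ κ` (generators of the kernel `Ĩ` of
`R → A'/(f)`).  `RawSyz g`: every relation among the `g` with coefficients in `(g)` is a trivial relation.
Under hypotheses `(H1)` (relations among `κ` with coefficients in `Ĩ` are trivial modulo `Ĩ`·relations) and
`(H2)` (`ker π ∩ Ĩ² ⊆ Ĩ ker π`): `RawSyz f ↔ RawSyz g`.
-/

set_option autoImplicit false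
set_option linter.unusedVariables false
set_option linter.unusedSectionVars false

namespace Groth.Agent.Lib.T2Trans

open Groth.Agent.Lib.SyzLoc

/-- the syzygy condition for a family: relations with coefficients in the ideal generated are trivial. -/
def RawSyz {R : Type*} [CommRing R] {σ : Type*} (g : σ → R) : Prop :=
  ∀ q : σ →₀ R, Finsupp.linearCombination R g q = 0 → (∀ s, q s ∈ Ideal.span (Set.range g)) → q ∈ triv g

section General

variable {R : Type*} [CommRing R] {σ : Type*} (g : σ → R)

theorem triv_le_ker : triv g ≤ LinearMap.ker (Finsupp.linearCombination R g) := by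
  refine Submodule.span_le.mpr ?_
  rintro _ ⟨a, b, rfl⟩
  simp only [SetLike.mem_coe, LinearMap.mem_ker, map_sub, map_smul, smul_eq_mul]
  ring

theorem mem_triv_gen (a b : σ →₀ R) :
    Finsupp.linearCombination R g a • b - Finsupp.linearCombination R g b • a ∈ triv g :=
  Submodule.subset_span ⟨a, b, rfl⟩

/-- `i • h` is trivial for `i ∈ (g)` and `h` a relation. -/
theorem smul_mem_triv {i : R} (hi : i ∈ Ideal.span (Set.range g)) {h : σ →₀ R}
    (hh : Finsupp.linearCombination R g h = 0) : i • h ∈ triv g := by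
  obtain ⟨x, rfl⟩ := (Finsupp.mem_span_range_iff_exists_finsupp).mp hi
  have := mem_triv_gen g x h
  rw [hh, zero_smul, sub_zero] at this
  exact this

theorem smul_ker_le_triv :
    (Ideal.span (Set.range g)) • LinearMap.ker (Finsupp.linearCombination R g) ≤ triv g := by
  rw [Submodule.smul_le]
  intro i hi h hh
  exact smul_mem_triv g hi hh

/-- functoriality of `triv` along a map of index sets. -/
theorem mapDomain_mem_triv {σ₁ : Type*} (e : σ₁ → σ) {x : σ₁ →₀ R} (hx : x ∈ triv (g ∘ e)) :
    Finsupp.mapDomain e x ∈ triv g := by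
  induction hx using Submodule.span_induction with
  | mem y hy =>
    obtain ⟨a, b, rfl⟩ := hy
    rw [Finsupp.mapDomain_sub, Finsupp.mapDomain_smul, Finsupp.mapDomain_smul,
      ← Finsupp.linearCombination_mapDomain, ← Finsupp.linearCombination_mapDomain]
    exact mem_triv_gen g _ _
  | zero => rw [Finsupp.mapDomain_zero]; exact Submodule.zero_mem _
  | add a b _ _ ha hb => rw [Finsupp.mapDomain_add]; exact Submodule.add_mem _ ha hb
  | smul r a _ ha => rw [Finsupp.mapDomain_smul]; exact Submodule.smul_mem _ _ ha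

end General

section Trans

variable {R A' : Type*} [CommRing R] [CommRing A'] (π : R →+* A')
  {S J : Type*} (κ : S → R) (ft : J → R)

theorem lc_mapRange {σ : Type*} (f : σ → R) (a : σ →₀ R) :
    Finsupp.linearCombination A' (fun s => π (f s)) (Finsupp.mapRange π (map_zero _) a) =
      π (Finsupp.linearCombination R f a) := by
  classical
  induction a using Finsupp.induction_linear with
  | zero => simp
  | add a b ha hb =>
    rw [Finsupp.mapRange_add (map_add _), map_add, ha, hb, map_add, map_add]
  | single s r =>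
    rw [Finsupp.mapRange_single, Finsupp.linearCombination_single, Finsupp.linearCombination_single,
      smul_eq_mul, smul_eq_mul, map_mul]

/-- the combined family of generators. -/
abbrev gg : J ⊕ S → R := Sum.elim ft κ

theorem decomp (q : (J ⊕ S) →₀ R) :
    q = Finsupp.mapDomain Sum.inl (Finsupp.comapDomain Sum.inl q Sum.inl_injective.injOn) +
      Finsupp.mapDomain Sum.inr (Finsupp.comapDomain Sum.inr q Sum.inr_injective.injOn) := by
  classical
  ext i
  rcases i with j | s
  · rw [Finsupp.add_apply, Finsupp.mapDomain_apply Sum.inl_injective, Finsupp.comapDomain_apply,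
      Finsupp.mapDomain_of_notMem_range _ _ (by simp), add_zero]
  · rw [Finsupp.add_apply, Finsupp.mapDomain_apply Sum.inr_injective, Finsupp.comapDomain_apply,
      Finsupp.mapDomain_of_notMem_range _ _ (by simp), zero_add]

theorem lc_gg_inl (b : J →₀ R) :
    Finsupp.linearCombination R (gg κ ft) (Finsupp.mapDomain Sum.inl b) = Finsupp.linearCombination R ft b := by
  rw [Finsupp.linearCombination_mapDomain]
  rfl

theorem lc_gg_inr (a : S →₀ R) :
    Finsupp.linearCombination R (gg κ ft) (Finsupp.mapDomain Sum.inr a) = Finsupp.linearCombination R κ a := by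
  rw [Finsupp.linearCombination_mapDomain]
  rfl

theorem range_ft_le : Ideal.span (Set.range ft) ≤ Ideal.span (Set.range (gg κ ft)) := by
  apply Ideal.span_mono
  rintro _ ⟨j, rfl⟩
  exact ⟨Sum.inl j, rfl⟩

theorem range_κ_le : Ideal.span (Set.range κ) ≤ Ideal.span (Set.range (gg κ ft)) := by
  apply Ideal.span_mono
  rintro _ ⟨j, rfl⟩
  exact ⟨Sum.inr j, rfl⟩

include π in
/-- lifting trivial relations along a surjection. -/
theorem exists_lift_triv (hπ : Function.Surjective π) {z : J →₀ A'} (hz : z ∈ triv (fun j => π (ft j))) :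
    ∃ β ∈ triv ft, Finsupp.mapRange π (map_zero _) β = z := by
  classical
  have hsurj : Function.Surjective (Finsupp.mapRange (α := J) π (map_zero _)) :=
    Finsupp.mapRange_surjective π (map_zero _) hπ
  induction hz using Submodule.span_induction with
  | mem y hy =>
    obtain ⟨x, y', rfl⟩ := hy
    obtain ⟨x₀, rfl⟩ := hsurj x
    obtain ⟨y₀, rfl⟩ := hsurj y'
    refine ⟨_, mem_triv_gen ft x₀ y₀, ?_⟩
    rw [lc_mapRange, lc_mapRange]
    ext j
    simp [Finsupp.mapRange_apply]
  | zero => exact ⟨0, Submodule.zero_mem _, by simp⟩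
  | add a b _ _ ha hb =>
    obtain ⟨a₀, ha₀, rfl⟩ := ha
    obtain ⟨b₀, hb₀, rfl⟩ := hb
    exact ⟨a₀ + b₀, Submodule.add_mem _ ha₀ hb₀, Finsupp.mapRange_add (map_add _) _ _⟩
  | smul r a _ ha =>
    obtain ⟨a₀, ha₀, rfl⟩ := ha
    obtain ⟨r₀, rfl⟩ := hπ r
    refine ⟨r₀ • a₀, Submodule.smul_mem _ _ ha₀, ?_⟩
    ext j
    simp [Finsupp.mapRange_apply]

/-- moving coefficients in `ker π = (κ)` from the `ft`-part to the `κ`-part modulo trivial relations. -/
theorem exists_move (hκ : Ideal.span (Set.range κ) = RingHom.ker π) (c : J →₀ R)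
    (hc : ∀ j, c j ∈ RingHom.ker π) :
    ∃ a'' : S →₀ R, (∀ s, a'' s ∈ Ideal.span (Set.range ft)) ∧
      Finsupp.mapDomain Sum.inl c - Finsupp.mapDomain Sum.inr a'' ∈ triv (gg κ ft) := by
  classical
  have h1 : ∀ j, ∃ d : S →₀ R, Finsupp.linearCombination R κ d = c j := by
    intro j
    have := hc j
    rw [← hκ] at this
    exact (Finsupp.mem_span_range_iff_exists_finsupp).mp this
  choose d hd using h1
  refine ⟨∑ j ∈ c.support, ft j • d j, ?_, ?_⟩
  · intro s
    rw [Finsupp.finsetSum_apply]
    refine Ideal.sum_mem _ fun j _ => ?_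
    rw [Finsupp.smul_apply, smul_eq_mul]
    exact Ideal.mul_mem_right _ _ (Ideal.subset_span ⟨j, rfl⟩)
  · have h2 : Finsupp.mapDomain Sum.inl c - Finsupp.mapDomain Sum.inr (∑ j ∈ c.support, ft j • d j) =
        ∑ j ∈ c.support, (Finsupp.linearCombination R (gg κ ft) (Finsupp.mapDomain Sum.inr (d j)) •
          Finsupp.single (Sum.inl j) (1 : R) -
          Finsupp.linearCombination R (gg κ ft) (Finsupp.single (Sum.inl j) (1 : R)) •
            Finsupp.mapDomain Sum.inr (d j)) := by
      rw [Finset.sum_sub_distrib, Finsupp.mapDomain_finsetSum]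
      congr 1
      · conv_lhs => rw [← Finsupp.sum_single c]
        rw [Finsupp.sum, Finsupp.mapDomain_finsetSum]
        refine Finset.sum_congr rfl fun j _ => ?_
        rw [lc_gg_inr, hd, Finsupp.mapDomain_single, Finsupp.smul_single, smul_eq_mul, mul_one]
      · refine Finset.sum_congr rfl fun j _ => ?_
        rw [Finsupp.linearCombination_single, one_smul, Finsupp.mapDomain_smul]
        rfl
    rw [h2]
    exact Submodule.sum_mem _ fun j _ => mem_triv_gen _ _ _

theorem map_span_gg_le (hκ : Ideal.span (Set.range κ) = RingHom.ker π) :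
    (Ideal.span (Set.range (gg κ ft))).map π ≤ Ideal.span (Set.range fun j => π (ft j)) := by
  rw [Ideal.map_span]
  apply Ideal.span_le.mpr
  rintro _ ⟨_, ⟨i, rfl⟩, rfl⟩
  rcases i with j | s
  · exact Ideal.subset_span ⟨j, rfl⟩
  · have : κ s ∈ RingHom.ker π := hκ ▸ Ideal.subset_span ⟨s, rfl⟩
    change π (κ s) ∈ _
    rw [RingHom.mem_ker.mp this]
    exact Ideal.zero_mem _

/-- **(i)**: the syzygy condition downstairs and `(H1)` give the syzygy condition for the combined family. -/
theorem rawSyz_gg (hπ : Function.Surjective π) (hκ : Ideal.span (Set.range κ) = RingHom.ker π)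
    (hf : RawSyz (fun j => π (ft j)))
    (H1 : ∀ a : S →₀ R, Finsupp.linearCombination R κ a = 0 →
      (∀ s, a s ∈ Ideal.span (Set.range (gg κ ft))) →
      a ∈ triv κ ⊔ (Ideal.span (Set.range (gg κ ft))) • LinearMap.ker (Finsupp.linearCombination R κ)) :
    RawSyz (gg κ ft) := by
  classical
  intro q hq hc
  set b := Finsupp.comapDomain Sum.inl q Sum.inl_injective.injOn with hb
  set a := Finsupp.comapDomain Sum.inr q Sum.inr_injective.injOn with ha
  have hqd : q = Finsupp.mapDomain Sum.inl b + Finsupp.mapDomain Sum.inr a := decomp q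
  have hsum : Finsupp.linearCombination R ft b + Finsupp.linearCombination R κ a = 0 := by
    rw [← lc_gg_inl κ ft, ← lc_gg_inr κ ft, ← map_add, ← hqd, hq]
  -- step 1
  have hκa : Finsupp.linearCombination R κ a ∈ RingHom.ker π := by
    rw [← hκ]
    exact (Finsupp.mem_span_range_iff_exists_finsupp).mpr ⟨a, rfl⟩
  have h1 : Finsupp.linearCombination A' (fun j => π (ft j)) (Finsupp.mapRange π (map_zero _) b) = 0 := by
    rw [lc_mapRange, eq_neg_of_add_eq_zero_left hsum, map_neg, RingHom.mem_ker.mp hκa, neg_zero]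
  have h1c : ∀ j, (Finsupp.mapRange π (map_zero _) b) j ∈ Ideal.span (Set.range fun j => π (ft j)) := by
    intro j
    rw [Finsupp.mapRange_apply]
    apply map_span_gg_le π κ ft hκ
    exact Ideal.mem_map_of_mem π (hc (Sum.inl j))
  have h2 := hf _ h1 h1c
  -- step 2
  obtain ⟨β, hβ, hβb⟩ := exists_lift_triv π ft hπ h2
  have hb' : ∀ j, (b - β) j ∈ RingHom.ker π := by
    intro j
    have := DFunLike.congr_fun hβb j
    rw [Finsupp.mapRange_apply, Finsupp.mapRange_apply] at this
    rw [Finsupp.sub_apply, RingHom.mem_ker, map_sub, this, sub_self]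
  -- step 3
  obtain ⟨a'', ha''c, ha''⟩ := exists_move π κ ft hκ (b - β) hb'
  -- step 4
  have h4 : q - Finsupp.mapDomain Sum.inr (a + a'') ∈ triv (gg κ ft) := by
    have e : q - Finsupp.mapDomain Sum.inr (a + a'') =
        Finsupp.mapDomain Sum.inl β +
          (Finsupp.mapDomain Sum.inl (b - β) - Finsupp.mapDomain Sum.inr a'') := by
      rw [hqd, Finsupp.mapDomain_add, Finsupp.mapDomain_sub]
      abel
    rw [e]
    exact Submodule.add_mem _ (mapDomain_mem_triv (gg κ ft) Sum.inl hβ) ha''
  have h4lc : Finsupp.linearCombination R κ (a + a'') = 0 := by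
    have := triv_le_ker _ h4
    rw [LinearMap.mem_ker, map_sub, hq, zero_sub, neg_eq_zero, lc_gg_inr] at this
    exact this
  have h4c : ∀ s, (a + a'') s ∈ Ideal.span (Set.range (gg κ ft)) := by
    intro s
    rw [Finsupp.add_apply]
    refine Ideal.add_mem _ ?_ (range_ft_le κ ft (ha''c s))
    rw [ha, Finsupp.comapDomain_apply]
    exact hc _
  -- step 5
  have h5 := H1 _ h4lc h4c
  obtain ⟨t, ht, u, hu, htu⟩ := Submodule.mem_sup.mp h5
  have h5t : Finsupp.mapDomain Sum.inr t ∈ triv (gg κ ft) := mapDomain_mem_triv (gg κ ft) Sum.inr ht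
  have h5u : Finsupp.mapDomain Sum.inr u ∈ triv (gg κ ft) := by
    refine Submodule.smul_induction_on hu ?_ ?_
    · intro i hi h hh
      rw [Finsupp.mapDomain_smul]
      refine smul_mem_triv _ hi ?_
      rw [lc_gg_inr]
      exact hh
    · intro x y hx hy
      rw [Finsupp.mapDomain_add]
      exact Submodule.add_mem _ hx hy
  have h6 : q = (q - Finsupp.mapDomain Sum.inr (a + a'')) +
      (Finsupp.mapDomain Sum.inr t + Finsupp.mapDomain Sum.inr u) := by
    rw [← Finsupp.mapDomain_add, htu]
    abel
  rw [h6]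
  exact Submodule.add_mem _ h4 (Submodule.add_mem _ h5t h5u)

/-- the projection `((J ⊕ S) →₀ R) → (J →₀ A')`. -/
noncomputable def proj : ((J ⊕ S) →₀ R) →+ (J →₀ A') :=
  (Finsupp.mapRange.addMonoidHom π.toAddMonoidHom).comp
    (Finsupp.comapDomain.addMonoidHom Sum.inl_injective)

theorem proj_apply (q : (J ⊕ S) →₀ R) (j : J) : proj (S := S) π q j = π (q (Sum.inl j)) := rfl

theorem proj_smul (r : R) (q : (J ⊕ S) →₀ R) : proj (S := S) π (r • q) = π r • proj (S := S) π q := by
  ext j
  rw [proj_apply, Finsupp.smul_apply, Finsupp.smul_apply, proj_apply, smul_eq_mul, smul_eq_mul, map_mul]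

theorem lc_proj (hκ : Ideal.span (Set.range κ) = RingHom.ker π) (q : (J ⊕ S) →₀ R) :
    Finsupp.linearCombination A' (fun j => π (ft j)) (proj (S := S) π q) =
      π (Finsupp.linearCombination R (gg κ ft) q) := by
  classical
  conv_rhs => rw [decomp q]
  rw [map_add, lc_gg_inl, lc_gg_inr, map_add]
  have h1 : Finsupp.linearCombination R κ (Finsupp.comapDomain Sum.inr q Sum.inr_injective.injOn) ∈
      RingHom.ker π := by
    rw [← hκ]
    exact (Finsupp.mem_span_range_iff_exists_finsupp).mpr ⟨_, rfl⟩
  rw [RingHom.mem_ker.mp h1, add_zero, ← lc_mapRange]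
  rfl

theorem proj_mem_triv (hκ : Ideal.span (Set.range κ) = RingHom.ker π) {t : (J ⊕ S) →₀ R}
    (ht : t ∈ triv (gg κ ft)) : proj (S := S) π t ∈ triv (fun j => π (ft j)) := by
  induction ht using Submodule.span_induction with
  | mem y hy =>
    obtain ⟨x, y', rfl⟩ := hy
    rw [map_sub, proj_smul, proj_smul, ← lc_proj π κ ft hκ, ← lc_proj π κ ft hκ]
    exact mem_triv_gen _ _ _
  | zero => rw [map_zero]; exact Submodule.zero_mem _
  | add a b _ _ ha hb => rw [map_add]; exact Submodule.add_mem _ ha hb
  | smul r a _ ha => rw [proj_smul]; exact Submodule.smul_mem _ _ ha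

/-- **(ii)**: the syzygy condition for the combined family and `(H2)` give the syzygy condition downstairs. -/
theorem rawSyz_of_gg (hπ : Function.Surjective π) (hκ : Ideal.span (Set.range κ) = RingHom.ker π)
    (hg : RawSyz (gg κ ft))
    (H2 : ∀ x ∈ RingHom.ker π, x ∈ Ideal.span (Set.range (gg κ ft)) * Ideal.span (Set.range (gg κ ft)) →
      x ∈ Ideal.span (Set.range (gg κ ft)) * RingHom.ker π) :
    RawSyz (fun j => π (ft j)) := by
  classical
  intro bb hbb hcc
  -- step 1: lift
  have h1 : ∀ j, ∃ r ∈ Ideal.span (Set.range ft), π r = bb j := by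
    intro j
    have := hcc j
    have e : Ideal.span (Set.range fun j => π (ft j)) = (Ideal.span (Set.range ft)).map π := by
      rw [Ideal.map_span, ← Set.range_comp]
      rfl
    rw [e] at this
    obtain ⟨r, hr, hr'⟩ := (Ideal.mem_map_iff_of_surjective π hπ).mp this
    exact ⟨r, hr, hr'⟩
  choose r hr hrπ using h1
  set b : J →₀ R := ∑ j ∈ bb.support, Finsupp.single j (r j) with hb
  have hbc : ∀ j, b j ∈ Ideal.span (Set.range ft) := by
    intro j
    rw [hb, Finsupp.finsetSum_apply]
    refine Ideal.sum_mem _ fun i _ => ?_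
    rw [Finsupp.single_apply]
    split_ifs
    · exact hr i
    · exact Ideal.zero_mem _
  have hbπ : Finsupp.mapRange π (map_zero _) b = bb := by
    have : Finsupp.mapRange π (map_zero _) b =
        Finsupp.mapRange.addMonoidHom π.toAddMonoidHom b := rfl
    rw [this, hb, map_sum]
    conv_rhs => rw [← Finsupp.sum_single bb]
    rw [Finsupp.sum]
    refine Finset.sum_congr rfl fun j _ => ?_
    change Finsupp.mapRange π (map_zero _) (Finsupp.single j (r j)) = _
    rw [Finsupp.mapRange_single, hrπ]
  -- step 2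
  set x := Finsupp.linearCombination R ft b with hx
  have hxker : x ∈ RingHom.ker π := by
    rw [RingHom.mem_ker, hx, ← lc_mapRange, hbπ, hbb]
  have hxsq : x ∈ Ideal.span (Set.range (gg κ ft)) * Ideal.span (Set.range (gg κ ft)) := by
    rw [hx, Finsupp.linearCombination_apply, Finsupp.sum]
    refine Ideal.sum_mem _ fun j _ => ?_
    rw [smul_eq_mul]
    exact Ideal.mul_mem_mul (range_ft_le κ ft (hbc j)) (Ideal.subset_span ⟨Sum.inl j, rfl⟩)
  have hx2 := H2 x hxker hxsq
  rw [← hκ, ← smul_eq_mul, Submodule.mem_ideal_smul_span_iff_exists_sum] at hx2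
  obtain ⟨a, hac, hax⟩ := hx2
  have hax' : Finsupp.linearCombination R κ a = x := by
    rw [Finsupp.linearCombination_apply]
    exact hax
  -- step 3
  set q : (J ⊕ S) →₀ R := Finsupp.mapDomain Sum.inl b - Finsupp.mapDomain Sum.inr a with hq
  have hqlc : Finsupp.linearCombination R (gg κ ft) q = 0 := by
    rw [hq, map_sub, lc_gg_inl, lc_gg_inr, hax', sub_self]
  have hqc : ∀ s, q s ∈ Ideal.span (Set.range (gg κ ft)) := by
    intro s
    rw [hq, Finsupp.sub_apply]
    rcases s with j | s
    · rw [Finsupp.mapDomain_apply Sum.inl_injective, Finsupp.mapDomain_of_notMem_range _ _ (by simp), sub_zero]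
      exact range_ft_le κ ft (hbc j)
    · rw [Finsupp.mapDomain_apply Sum.inr_injective, Finsupp.mapDomain_of_notMem_range _ _ (by simp), zero_sub]
      exact Ideal.neg_mem_iff _ |>.mpr (hac s)
  have hqt := hg q hqlc hqc
  -- step 4
  have h4 := proj_mem_triv π κ ft hκ hqt
  have h5 : proj (S := S) π q = bb := by
    ext j
    rw [proj_apply, hq, Finsupp.sub_apply, Finsupp.mapDomain_apply Sum.inl_injective,
      Finsupp.mapDomain_of_notMem_range _ _ (by simp), sub_zero, ← hbπ, Finsupp.mapRange_apply]
  rw [h5] at h4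
  exact h4

end Trans

end Groth.Agent.Lib.T2Trans
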