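import Mathlib
import Groth.Prelude.Def_CotT2
import Groth.Agent.Lib.CotTPull
import Groth.Agent.Lib.T2Trans

/-!
# The nine-term sequence for compatible presentations (helper1)

For `A → B → C`, `P` a presentation of `B` over `A`, `Q` a presentation of `C` over `B` and `Q.comp P` Mathlib's composite
presentation of `C` over `A`: morphisms of presentations `toC : P → Q.comp P`, `ofC : Q.comp P → Q`; the sequences
`0 → Hom(Lⱼ(Q), M) → Hom(Lⱼ(Q.comp P), M) → Hom(Lⱼ(P), M)` are exact (`j = 0, 1, 2`), and right exact for `j = 0, 1`;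
hence the nine-term exact sequence of the `Tⁱ` (`comp_nine_term`).
-/

set_option autoImplicit false
set_option linter.unusedVariables false
set_option linter.unusedSectionVars false
universe u
open scoped TensorProduct

namespace Groth.Agent.Lib.CotTComp

open CotT Groth.Agent.Lib.SyzLoc Groth.Agent.Lib.T2Trans Groth.Agent.Lib.CotTPull

section BasisSum

variable {C B : Type*} [CommRing C] [CommRing B] {X' X X'' M : Type*} [AddCommGroup X'] [AddCommGroup X]
  [AddCommGroup X''] [AddCommGroup M] [Module C X'] [Module C X] [Module B X''] [Module C M] [Module B M]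
  {J S : Type*} (e' : Module.Basis J C X') (e : Module.Basis (J ⊕ S) C X) (e'' : Module.Basis S B X'')
  (f : X → X') (g : X'' → X)

/-- `0 → Hom(X', M) → Hom(X, M) → Hom(X'', M) → 0` for free modules with `X = X' ⊕ X''` on bases. -/
theorem basis_sum_exact (hf1 : ∀ j, f (e (Sum.inl j)) = e' j) (hf2 : ∀ s, f (e (Sum.inr s)) = 0)
    (hg : ∀ s, g (e'' s) = e (Sum.inr s))
    (i : (X' →ₗ[C] M) → (X →ₗ[C] M)) (hi : ∀ φ x, i φ x = φ (f x))
    (p : (X →ₗ[C] M) → (X'' →ₗ[B] M)) (hp : ∀ ψ x, p ψ x = ψ (g x)) :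
    Function.Injective i ∧ (∀ ψ, p ψ = 0 ↔ ∃ φ, i φ = ψ) ∧ Function.Surjective p := by
  refine ⟨?_, ?_, ?_⟩
  · intro φ₁ φ₂ h
    refine e'.ext fun j => ?_
    rw [← hf1, ← hi, ← hi, h]
  · intro ψ
    constructor
    · intro h
      have h0 : ∀ s, ψ (e (Sum.inr s)) = 0 := by
        intro s
        rw [← hg, ← hp, h, LinearMap.zero_apply]
      refine ⟨e'.constr C (fun j => ψ (e (Sum.inl j))), ?_⟩
      refine e.ext fun k => ?_
      rcases k with j | s
      · rw [hi, hf1, Module.Basis.constr_basis]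
      · rw [hi, hf2, map_zero, h0]
    · rintro ⟨φ, rfl⟩
      refine e''.ext fun s => ?_
      rw [hp, hg, hi, hf2, map_zero, LinearMap.zero_apply]
  · intro χ
    refine ⟨e.constr C (Sum.elim (fun _ => 0) (fun s => χ (e'' s))), ?_⟩
    refine e''.ext fun s => ?_
    rw [hp, hg, Module.Basis.constr_basis, Sum.elim_inr]

/-- factoring through a surjection. -/
theorem exists_factor {C : Type*} [CommRing C] {Y Z M : Type*} [AddCommGroup Y] [AddCommGroup Z]
    [AddCommGroup M] [Module C Y] [Module C Z] [Module C M]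
    (g : Y →ₗ[C] Z) (hg : Function.Surjective g) (ψ : Y →ₗ[C] M) (hker : ∀ y, g y = 0 → ψ y = 0) :
    ∃ φ : Z →ₗ[C] M, ∀ y, φ (g y) = ψ y := by
  have hle : LinearMap.ker g ≤ LinearMap.ker ψ := fun y hy => hker y hy
  let e := g.quotKerEquivOfSurjective hg
  refine ⟨(LinearMap.ker g).liftQ ψ hle ∘ₗ e.symm.toLinearMap, fun y => ?_⟩
  have : e.symm (g y) = Submodule.Quotient.mk y := by
    rw [LinearEquiv.symm_apply_eq]
    rfl
  rw [LinearMap.comp_apply, LinearEquiv.coe_coe, this, Submodule.liftQ_apply]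

end BasisSum

section FreeSyz

variable {R₁ R₃ : Type*} [CommRing R₁] [CommRing R₃] [Algebra R₁ R₃] {I : Type*} (bas : Module.Basis I R₁ R₃)
  {σ : Type*} (g : σ → R₁)

/-- relations over a free extension are generated by relations over the base. -/
theorem free_syz (a : σ →₀ R₃)
    (ha : Finsupp.linearCombination R₃ (fun s => algebraMap R₁ R₃ (g s)) a = 0) :
    ∃ (U : Finset I) (q : I → σ →₀ R₁), (∀ μ, Finsupp.linearCombination R₁ g (q μ) = 0) ∧
      a = ∑ μ ∈ U, bas μ • Finsupp.mapRange (algebraMap R₁ R₃) (map_zero _) (q μ) := by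
  classical
  let q : I → σ →₀ R₁ := fun μ => Finsupp.mapRange (fun p => bas.repr p μ) (by simp) a
  refine ⟨a.support.biUnion (fun s => (bas.repr (a s)).support), q, ?_, ?_⟩
  · intro μ
    have h1 : Finsupp.linearCombination R₁ g (q μ) = ∑ s ∈ a.support, bas.repr (a s) μ * g s := by
      rw [Finsupp.linearCombination_apply, Finsupp.sum_mapRange_index (by simp)]
      rfl
    have h2 : bas.repr (Finsupp.linearCombination R₃ (fun s => algebraMap R₁ R₃ (g s)) a) μ =
        ∑ s ∈ a.support, bas.repr (a s) μ * g s := by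
      rw [Finsupp.linearCombination_apply, Finsupp.sum, map_sum, Finsupp.finsetSum_apply]
      refine Finset.sum_congr rfl fun s _ => ?_
      have : a s • algebraMap R₁ R₃ (g s) = g s • a s := by
        rw [smul_eq_mul, Algebra.smul_def, mul_comm]
      rw [this, map_smul, Finsupp.smul_apply, smul_eq_mul, mul_comm]
    rw [h1, ← h2, ha, map_zero, Finsupp.zero_apply]
  · ext s
    rw [Finsupp.finsetSum_apply]
    have h3 : ∀ μ, (bas μ • Finsupp.mapRange (algebraMap R₁ R₃) (map_zero _) (q μ)) s =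
        bas.repr (a s) μ • bas μ := by
      intro μ
      rw [Finsupp.smul_apply, Finsupp.mapRange_apply, Finsupp.mapRange_apply, smul_eq_mul, Algebra.smul_def,
        mul_comm]
    simp only [h3]
    have h4 : a s = ∑ μ ∈ (bas.repr (a s)).support, bas.repr (a s) μ • bas μ := by
      conv_lhs => rw [← bas.linearCombination_repr (a s)]
      rw [Finsupp.linearCombination_apply, Finsupp.sum]
    refine h4.trans (Finset.sum_subset ?_ ?_)
    · intro μ hμ
      by_cases hs : s ∈ a.support
      · exact Finset.mem_biUnion.mpr ⟨s, hs, hμ⟩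
      · have h0 : a s = 0 := Finsupp.notMem_support_iff.mp hs
        rw [h0, map_zero] at hμ
        simp at hμ
    · intro μ _ hμ
      rw [Finsupp.notMem_support_iff.mp hμ, zero_smul]

end FreeSyz

section Comp

variable {A B C : Type u} [CommRing A] [CommRing B] [CommRing C] [Algebra A B] [Algebra B C] [Algebra A C]
  [IsScalarTower A B C] {ι σ ι' σ' : Type u}
  (P : Algebra.Presentation A B ι σ) (Q : Algebra.Presentation B C ι' σ')

/-- `P → Q.comp P`. -/
noncomputable def toC : PresHom P (Q.comp P) where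
  hom := Q.toGenerators.toComp P.toGenerators
  relVal s := Finsupp.single (Sum.inr s) 1
  jmap_relVal s := by
    rw [jmap_single, one_mul]
    change (Q.comp P).relation (Sum.inr s) = (Q.toGenerators.toComp P.toGenerators).toAlgHom (P.relation s)
    rw [Algebra.Generators.toComp_toAlgHom]
    rfl

/-- `Q.comp P → Q`. -/
noncomputable def ofC : PresHom (Q.comp P) Q where
  hom := Q.toGenerators.ofComp P.toGenerators
  relVal := Sum.elim (fun t => Finsupp.single t 1) (fun _ => 0)
  jmap_relVal ρ := by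
    rcases ρ with t | s
    · rw [Sum.elim_inl, jmap_single, one_mul]
      exact (Algebra.Presentation.comp_aeval_relation_inl Q P t).symm
    · rw [Sum.elim_inr, map_zero]
      change 0 = (Q.toGenerators.ofComp P.toGenerators).toAlgHom
        (MvPolynomial.rename Sum.inr (P.relation s))
      rw [Algebra.Generators.toAlgHom_ofComp_rename]
      have h0 : algebraMap P.toExtension.Ring B (rel P s) = 0 := algebraMap_rel P s
      have h1 : algebraMap P.Ring B (P.relation s) = 0 := h0
      rw [h1, map_zero]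

lemma toC_ringHom_apply (p : P.toExtension.Ring) :
    (toC P Q).ringHom p =
      (MvPolynomial.rename Sum.inr (p : MvPolynomial ι A) : MvPolynomial (ι' ⊕ ι) A) := by
  change (Q.toGenerators.toComp P.toGenerators).toAlgHom p = _
  rw [Algebra.Generators.toComp_toAlgHom]

lemma ofC_ringHom_surjective : Function.Surjective (ofC P Q).ringHom :=
  Algebra.Generators.toAlgHom_ofComp_surjective Q.toGenerators P.toGenerators

lemma rel_comp_eq : rel (Q.comp P) =
    gg (fun s => (toC P Q).ringHom (rel P s)) (fun t => rel (Q.comp P) (Sum.inl t)) := by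
  funext ρ
  rcases ρ with t | s
  · rfl
  · change _ = (toC P Q).ringHom (rel P s)
    rw [toC_ringHom_apply]
    rfl

lemma span_kappa : Ideal.span (Set.range fun s => (toC P Q).ringHom (rel P s)) =
    RingHom.ker (ofC P Q).ringHom := by
  have h1 := Algebra.Generators.map_toComp_ker Q.toGenerators P.toGenerators
  have h2 : Ideal.span (Set.range fun s => (toC P Q).ringHom (rel P s)) =
      Ideal.map (toC P Q).ringHom (Ideal.span (Set.range (rel P))) := by
    rw [Ideal.map_span, ← Set.range_comp]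
    rfl
  rw [h2, show Ideal.span (Set.range (rel P)) = P.ker from P.span_range_relation_eq_ker]
  exact h1

lemma ofC_rel (t : σ') : (ofC P Q).ringHom (rel (Q.comp P) (Sum.inl t)) = rel Q t :=
  Algebra.Presentation.comp_aeval_relation_inl Q P t

lemma ofC_relModMap_eq (q : relMod (Q.comp P)) :
    (ofC P Q).relModMap q = proj (S := σ) (ofC P Q).ringHom q := by
  classical
  induction q using Finsupp.induction_linear with
  | zero => simp
  | add f g hf hg => rw [map_add, map_add, hf, hg]
  | single ρ r =>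
    rw [PresHom.relModMap_single]
    ext j
    rw [proj_apply]
    rcases ρ with t | s
    · change ((ofC P Q).ringHom r • Finsupp.single t (1 : Q.toExtension.Ring)) j = _
      rw [Finsupp.smul_single, smul_eq_mul, mul_one, Finsupp.single_apply, Finsupp.single_apply]
      by_cases h : t = j
      · rw [if_pos h, if_pos (by rw [h])]
      · rw [if_neg h, if_neg (by intro h'; exact h (Sum.inl_injective h')), map_zero]
    · change ((ofC P Q).ringHom r • (0 : relMod Q)) j = _
      rw [smul_zero, Finsupp.single_apply, if_neg (by simp), map_zero]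
      rfl

lemma toC_relModMap_eq (q : relMod P) :
    (toC P Q).relModMap q =
      Finsupp.mapDomain Sum.inr (Finsupp.mapRange (toC P Q).ringHom (map_zero _) q) := by
  classical
  induction q using Finsupp.induction_linear with
  | zero => simp
  | add f g hf hg =>
    rw [map_add, hf, hg, Finsupp.mapRange_add (map_add _), Finsupp.mapDomain_add]
  | single s r =>
    rw [PresHom.relModMap_single, Finsupp.mapRange_single, Finsupp.mapDomain_single]
    change (toC P Q).ringHom r • Finsupp.single (Sum.inr s) (1 : (Q.comp P).toExtension.Ring) = _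
    rw [Finsupp.smul_single, smul_eq_mul, mul_one]

/-! ### degrees 0 and 1 -/

lemma toC_ringHom_X (β : ι) : (toC P Q).ringHom (MvPolynomial.X β : MvPolynomial ι A) =
    (MvPolynomial.X (Sum.inr β) : MvPolynomial (ι' ⊕ ι) A) :=
  (toC_ringHom_apply P Q _).trans (MvPolynomial.rename_X _ _)

lemma ofC_ringHom_X_inl (c : ι') : (ofC P Q).ringHom (MvPolynomial.X (Sum.inl c) : MvPolynomial (ι' ⊕ ι) A) =
    (MvPolynomial.X c : MvPolynomial ι' B) := by
  change (Q.toGenerators.ofComp P.toGenerators).toAlgHom (MvPolynomial.X (Sum.inl c)) = _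
  rw [Algebra.Generators.Hom.toAlgHom_X]
  rfl

lemma ofC_ringHom_X_inr (β : ι) : (ofC P Q).ringHom (MvPolynomial.X (Sum.inr β) : MvPolynomial (ι' ⊕ ι) A) =
    (MvPolynomial.C (P.val β) : MvPolynomial ι' B) := by
  change (Q.toGenerators.ofComp P.toGenerators).toAlgHom (MvPolynomial.X (Sum.inr β)) = _
  rw [Algebra.Generators.Hom.toAlgHom_X]
  rfl

lemma toC_L0map_basis (β : ι) :
    (toC P Q).L0map (P.cotangentSpaceBasis β) = (Q.comp P).cotangentSpaceBasis (Sum.inr β) := by
  rw [basis_eq, basis_eq]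
  have e1 := L0map_one_tmul_D (toC P Q) (MvPolynomial.X β)
  rw [e1]
  exact congrArg (fun r : (Q.comp P).toExtension.Ring =>
    ((1 : C) ⊗ₜ[(Q.comp P).toExtension.Ring] KaehlerDifferential.D A (Q.comp P).toExtension.Ring r :
      L0 (Q.comp P))) (toC_ringHom_X P Q β)

lemma ofC_L0map_basis_inl (c : ι') :
    (ofC P Q).L0map ((Q.comp P).cotangentSpaceBasis (Sum.inl c)) = Q.cotangentSpaceBasis c := by
  rw [basis_eq, basis_eq]
  have e1 := L0map_one_tmul_D (ofC P Q) (MvPolynomial.X (Sum.inl c))
  rw [e1]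
  exact congrArg (fun r : Q.toExtension.Ring =>
    ((1 : C) ⊗ₜ[Q.toExtension.Ring] KaehlerDifferential.D B Q.toExtension.Ring r : L0 Q))
    (ofC_ringHom_X_inl P Q c)

lemma ofC_L0map_basis_inr (β : ι) :
    (ofC P Q).L0map ((Q.comp P).cotangentSpaceBasis (Sum.inr β)) = 0 := by
  rw [basis_eq]
  have e1 := L0map_one_tmul_D (ofC P Q) (MvPolynomial.X (Sum.inr β))
  rw [e1]
  have e2 : KaehlerDifferential.D B Q.toExtension.Ring
      ((ofC P Q).ringHom (MvPolynomial.X (Sum.inr β) : MvPolynomial (ι' ⊕ ι) A)) = 0 := by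
    rw [ofC_ringHom_X_inr]
    exact (KaehlerDifferential.D B Q.toExtension.Ring).map_algebraMap (P.val β)
  rw [e2, TensorProduct.tmul_zero]

lemma toC_L1map_basis (s : σ) :
    (toC P Q).L1map (L1basis P s) = L1basis (Q.comp P) (Sum.inr s) := by
  rw [L1basis_apply, L1basis_apply, PresHom.L1map_tmul, map_one, PresHom.relModMap_single, map_one, one_smul]
  rfl

lemma ofC_L1map_basis_inl (t : σ') :
    (ofC P Q).L1map (L1basis (Q.comp P) (Sum.inl t)) = L1basis Q t := by
  rw [L1basis_apply, L1basis_apply, PresHom.L1map_tmul, map_one, PresHom.relModMap_single, map_one, one_smul]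
  rfl

lemma ofC_L1map_basis_inr (s : σ) :
    (ofC P Q).L1map (L1basis (Q.comp P) (Sum.inr s)) = 0 := by
  rw [L1basis_apply, PresHom.L1map_tmul, map_one, PresHom.relModMap_single, map_one, one_smul]
  change (1 : C) ⊗ₜ[Q.toExtension.Ring] (0 : relMod Q) = 0
  rw [TensorProduct.tmul_zero]

variable (M : Type u) [AddCommGroup M] [Module C M] [Module B M] [IsScalarTower B C M]

theorem deg0 : Function.Injective ((ofC P Q).pull0 M) ∧
    (∀ ψ, (toC P Q).pull0 M ψ = 0 ↔ ∃ φ, (ofC P Q).pull0 M φ = ψ) ∧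
    Function.Surjective ((toC P Q).pull0 M) :=
  basis_sum_exact Q.cotangentSpaceBasis (Q.comp P).cotangentSpaceBasis P.cotangentSpaceBasis
    (ofC P Q).L0map (toC P Q).L0map (ofC_L0map_basis_inl P Q) (ofC_L0map_basis_inr P Q)
    (toC_L0map_basis P Q) ((ofC P Q).pull0 M) (fun φ x => PresHom.pull0_apply (ofC P Q) M φ x)
    ((toC P Q).pull0 M) (fun ψ x => PresHom.pull0_apply (toC P Q) M ψ x)

theorem deg1 : Function.Injective ((ofC P Q).pull1 M) ∧
    (∀ ψ, (toC P Q).pull1 M ψ = 0 ↔ ∃ φ, (ofC P Q).pull1 M φ = ψ) ∧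
    Function.Surjective ((toC P Q).pull1 M) :=
  basis_sum_exact (L1basis Q) (L1basis (Q.comp P)) (L1basis P)
    (ofC P Q).L1map (toC P Q).L1map (ofC_L1map_basis_inl P Q) (ofC_L1map_basis_inr P Q)
    (toC_L1map_basis P Q) ((ofC P Q).pull1 M) (fun φ x => PresHom.pull1_apply (ofC P Q) M φ x)
    ((toC P Q).pull1 M) (fun ψ x => PresHom.pull1_apply (toC P Q) M ψ x)

/-! ### degree 2 -/

lemma ofC_toC_relModMap (q : relMod P) : (ofC P Q).relModMap ((toC P Q).relModMap q) = 0 := by
  induction q using Finsupp.induction_linear with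
  | zero => simp
  | add f g hf hg => rw [map_add, map_add, hf, hg, add_zero]
  | single s r =>
    rw [PresHom.relModMap_single, LinearMap.map_smulₛₗ]
    change _ • (ofC P Q).relModMap (Finsupp.single (Sum.inr s) 1) = 0
    rw [PresHom.relModMap_single]
    change _ • (_ • (0 : relMod Q)) = 0
    rw [smul_zero, smul_zero]

lemma ofC_toC_L2map (w : L2 P) : (ofC P Q).L2map ((toC P Q).L2map w) = 0 := by
  induction w using Submodule.Quotient.induction_on with
  | H w =>
    induction w using TensorProduct.induction_on with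
    | zero => simp
    | add a b ha hb => rw [Submodule.Quotient.mk_add, map_add, map_add, ha, hb, add_zero]
    | tmul b q =>
      have e : (ofC P Q).relKerMap ((toC P Q).relKerMap q) = 0 := by
        apply Subtype.ext
        rw [PresHom.relKerMap_coe, PresHom.relKerMap_coe, ofC_toC_relModMap]
        rfl
      rw [PresHom.L2map_mk_tmul, PresHom.L2map_mk_tmul, e, TensorProduct.tmul_zero]
      rfl

lemma trivRel_comp_eq : trivRel (Q.comp P) =
    triv (gg (fun s => (toC P Q).ringHom (rel P s)) (fun t => rel (Q.comp P) (Sum.inl t))) := by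
  rw [← rel_comp_eq]
  rfl

lemma jmap_comp_eq (q : relMod (Q.comp P)) : jmap (Q.comp P) q =
    Finsupp.linearCombination (Q.comp P).toExtension.Ring
      (gg (fun s => (toC P Q).ringHom (rel P s)) (fun t => rel (Q.comp P) (Sum.inl t))) q := by
  rw [← rel_comp_eq]
  rfl

lemma ofC_fun_rel : (fun t => (ofC P Q).ringHom (rel (Q.comp P) (Sum.inl t))) = rel Q :=
  funext (ofC_rel P Q)

theorem ofC_L2map_surjective : Function.Surjective (ofC P Q).L2map := by
  classical
  intro z
  induction z using Submodule.Quotient.induction_on with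
  | H z =>
    obtain ⟨q₂, rfl⟩ := Groth.Agent.Lib.T2Syz.exists_one_tmul Q z
    obtain ⟨β, hβ⟩ := Finsupp.mapRange_surjective (ofC P Q).ringHom (map_zero _)
      (ofC_ringHom_surjective P Q) (q₂ : relMod Q)
    have h1 : (ofC P Q).ringHom (Finsupp.linearCombination (Q.comp P).toExtension.Ring
        (fun t => rel (Q.comp P) (Sum.inl t)) β) = 0 := by
      rw [← lc_mapRange (ofC P Q).ringHom (fun t => rel (Q.comp P) (Sum.inl t)) β, hβ, ofC_fun_rel]
      exact q₂.2
    have h2 : Finsupp.linearCombination (Q.comp P).toExtension.Ring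
        (fun t => rel (Q.comp P) (Sum.inl t)) β ∈
        Ideal.span (Set.range fun s => (toC P Q).ringHom (rel P s)) := by
      rw [span_kappa]
      exact h1
    obtain ⟨a, ha⟩ := (Finsupp.mem_span_range_iff_exists_finsupp).mp h2
    replace ha : Finsupp.linearCombination (Q.comp P).toExtension.Ring
        (fun s => (toC P Q).ringHom (rel P s)) a = _ := ha
    have hq₃ : Finsupp.mapDomain Sum.inl β - Finsupp.mapDomain Sum.inr a ∈ relKer (Q.comp P) := by
      change jmap (Q.comp P) _ = 0
      rw [jmap_comp_eq, map_sub, lc_gg_inl, lc_gg_inr, ha, sub_self]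
    refine ⟨Submodule.Quotient.mk ((1 : C) ⊗ₜ ⟨_, hq₃⟩), ?_⟩
    have e : (ofC P Q).relKerMap ⟨_, hq₃⟩ = q₂ := by
      apply Subtype.ext
      rw [PresHom.relKerMap_coe, ofC_relModMap_eq]
      ext t
      rw [proj_apply, Finsupp.sub_apply, Finsupp.mapDomain_apply Sum.inl_injective,
        Finsupp.mapDomain_of_notMem_range _ _ (by simp), sub_zero, ← hβ, Finsupp.mapRange_apply]
    rw [PresHom.L2map_mk_tmul, e, map_one]

/-- the polynomial ring of `Q.comp P` is free over the polynomial ring of `P`. -/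
theorem free_toC :
    letI : Algebra P.toExtension.Ring (Q.comp P).toExtension.Ring := (toC P Q).ringHom.toAlgebra
    Module.Free P.toExtension.Ring (Q.comp P).toExtension.Ring := by
  let _ : Algebra P.toExtension.Ring (Q.comp P).toExtension.Ring := (toC P Q).ringHom.toAlgebra
  let e : (Q.comp P).toExtension.Ring ≃+* MvPolynomial ι' P.toExtension.Ring :=
    (MvPolynomial.sumAlgEquiv A ι' ι).toRingEquiv
  have he : ∀ r : P.toExtension.Ring, e ((toC P Q).ringHom r) = MvPolynomial.C r := by
    intro r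
    rw [toC_ringHom_apply]
    exact DFunLike.congr_fun (MvPolynomial.sumAlgEquiv_comp_rename_inr (R := A) (S₁ := ι') (S₂ := ι)) r
  let eL : (Q.comp P).toExtension.Ring ≃ₗ[P.toExtension.Ring] MvPolynomial ι' P.toExtension.Ring :=
    { e.toAddEquiv with
      map_smul' := fun r p => by
        change e ((toC P Q).ringHom r * p) = r • e p
        rw [map_mul, he, MvPolynomial.smul_eq_C_mul] }
  exact Module.Free.of_equiv eL.symm

variable {M} in
set_option maxHeartbeats 1000000 in
/-- the kernel of `L₂(Q.comp P) → L₂(Q)` is generated by the image of `L₂(P)`. -/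
theorem ker_ofC_L2map (ψ : L2 (Q.comp P) →ₗ[C] M) (hψ : ∀ w : L2 P, ψ ((toC P Q).L2map w) = 0)
    (z : L2 (Q.comp P)) (hz : (ofC P Q).L2map z = 0) : ψ z = 0 := by
  classical
  induction z using Submodule.Quotient.induction_on with
  | H z =>
    obtain ⟨q₃, rfl⟩ := Groth.Agent.Lib.T2Syz.exists_one_tmul (Q.comp P) z
    -- step 1
    rw [PresHom.L2map_mk_tmul, map_one, Submodule.Quotient.mk_eq_zero] at hz
    have h1 := Groth.Agent.Lib.T2Syz.mem_trivRel_of_mem_range Q _ hz
    rw [PresHom.relKerMap_coe, ofC_relModMap_eq] at h1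
    have h1' : proj (S := σ) (ofC P Q).ringHom (q₃ : relMod (Q.comp P)) ∈
        triv (fun t => (ofC P Q).ringHom (rel (Q.comp P) (Sum.inl t))) := by
      rw [ofC_fun_rel]
      exact h1
    -- step 2
    obtain ⟨β, hβt, hβ⟩ := exists_lift_triv (ofC P Q).ringHom (fun t => rel (Q.comp P) (Sum.inl t))
      (ofC_ringHom_surjective P Q) h1'
    -- step 3
    have hc : ∀ t, (Finsupp.comapDomain Sum.inl (q₃ : relMod (Q.comp P)) Sum.inl_injective.injOn - β) t ∈
        RingHom.ker (ofC P Q).ringHom := by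
      intro t
      rw [RingHom.mem_ker, Finsupp.sub_apply, Finsupp.comapDomain_apply, map_sub, sub_eq_zero]
      have := DFunLike.congr_fun hβ t
      rw [Finsupp.mapRange_apply, proj_apply] at this
      exact this.symm
    -- step 4
    obtain ⟨a'', -, ha''⟩ := exists_move (ofC P Q).ringHom (fun s => (toC P Q).ringHom (rel P s))
      (fun t => rel (Q.comp P) (Sum.inl t)) (span_kappa P Q) _ hc
    -- step 5
    have hdiff : (q₃ : relMod (Q.comp P)) - Finsupp.mapDomain Sum.inr
        (a'' + Finsupp.comapDomain Sum.inr (q₃ : relMod (Q.comp P)) Sum.inr_injective.injOn) ∈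
        trivRel (Q.comp P) := by
      have e0 : ∀ (x : (σ' ⊕ σ) →₀ (Q.comp P).toExtension.Ring) (Y β' : σ' →₀ (Q.comp P).toExtension.Ring)
          (X a : σ →₀ (Q.comp P).toExtension.Ring),
          x = Finsupp.mapDomain Sum.inl Y + Finsupp.mapDomain Sum.inr X →
          x - Finsupp.mapDomain Sum.inr (a + X) =
            Finsupp.mapDomain Sum.inl β' + (Finsupp.mapDomain Sum.inl (Y - β') - Finsupp.mapDomain Sum.inr a) := by
        intro x Y β' X a hx
        rw [hx, Finsupp.mapDomain_add, Finsupp.mapDomain_sub]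
        abel
      have e := e0 _ _ β _ a'' (decomp (q₃ : relMod (Q.comp P)))
      rw [e, trivRel_comp_eq]
      exact Submodule.add_mem _ (mapDomain_mem_triv _ Sum.inl hβt) ha''
    have hq₃' : Finsupp.mapDomain Sum.inr
        (a'' + Finsupp.comapDomain Sum.inr (q₃ : relMod (Q.comp P)) Sum.inr_injective.injOn) ∈
        relKer (Q.comp P) := by
      have := (relKer (Q.comp P)).sub_mem q₃.2 (trivRel_le_relKer _ hdiff)
      rwa [sub_sub_cancel] at this
    rw [Groth.Agent.Lib.CotTMor.L2_mk_eq (1 : C) q₃ ⟨_, hq₃'⟩ hdiff]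
    generalize a'' + Finsupp.comapDomain Sum.inr (q₃ : relMod (Q.comp P)) Sum.inr_injective.injOn = a₃
      at hq₃'
    -- step 6
    have h6 : Finsupp.linearCombination (Q.comp P).toExtension.Ring
        (fun s => (toC P Q).ringHom (rel P s)) a₃ = 0 := by
      have := hq₃'
      change jmap (Q.comp P) _ = 0 at this
      rw [jmap_comp_eq, lc_gg_inr] at this
      exact this
    -- step 7
    let _ : Algebra P.toExtension.Ring (Q.comp P).toExtension.Ring := (toC P Q).ringHom.toAlgebra
    have := free_toC P Q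
    obtain ⟨U, q, hq, ha₃⟩ := free_syz
      (Module.Free.chooseBasis P.toExtension.Ring (Q.comp P).toExtension.Ring) (rel P) a₃ h6
    set bas := Module.Free.chooseBasis P.toExtension.Ring (Q.comp P).toExtension.Ring
    -- step 8
    have hqk : ∀ μ, q μ ∈ relKer P := fun μ => hq μ
    have e8 : (⟨Finsupp.mapDomain Sum.inr a₃, hq₃'⟩ : relKer (Q.comp P)) =
        ∑ μ ∈ U, bas μ • (toC P Q).relKerMap ⟨q μ, hqk μ⟩ := by
      apply Subtype.ext
      rw [Submodule.coe_sum]
      simp only [Submodule.coe_smul, PresHom.relKerMap_coe, toC_relModMap_eq]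
      conv_lhs => rw [ha₃]
      rw [Finsupp.mapDomain_finsetSum]
      refine Finset.sum_congr rfl fun μ _ => ?_
      rw [Finsupp.mapDomain_smul]
      rfl
    rw [e8, TensorProduct.tmul_sum, ← Submodule.mkQ_apply, map_sum, map_sum]
    refine Finset.sum_eq_zero fun μ _ => ?_
    have e9 : ((1 : C) ⊗ₜ[(Q.comp P).toExtension.Ring] (bas μ • (toC P Q).relKerMap ⟨q μ, hqk μ⟩) :
        C ⊗[(Q.comp P).toExtension.Ring] relKer (Q.comp P)) =
        algebraMap (Q.comp P).toExtension.Ring C (bas μ) •
          ((1 : C) ⊗ₜ[(Q.comp P).toExtension.Ring] (toC P Q).relKerMap ⟨q μ, hqk μ⟩) := by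
      rw [← TensorProduct.smul_tmul, Algebra.smul_def, mul_one, TensorProduct.smul_tmul', smul_eq_mul, mul_one]
    rw [e9, map_smul, map_smul]
    have e10 : (toC P Q).L2map (Submodule.Quotient.mk ((1 : B) ⊗ₜ ⟨q μ, hqk μ⟩)) =
        Submodule.Quotient.mk ((1 : C) ⊗ₜ (toC P Q).relKerMap ⟨q μ, hqk μ⟩) := by
      rw [PresHom.L2map_mk_tmul, map_one]
    rw [Submodule.mkQ_apply, ← e10, hψ, smul_zero]

/-- `L₂(Q.comp P) → L₂(Q)` as a `C`-linear map. -/
noncomputable def ofCL2 : L2 (Q.comp P) →ₗ[C] L2 Q where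
  toFun := (ofC P Q).L2map
  map_add' := map_add _
  map_smul' c z := by
    rw [LinearMap.map_smulₛₗ]
    rfl

theorem deg2 : Function.Injective ((ofC P Q).pull2 M) ∧
    (∀ ψ, (toC P Q).pull2 M ψ = 0 ↔ ∃ φ, (ofC P Q).pull2 M φ = ψ) := by
  refine ⟨?_, ?_⟩
  · intro φ₁ φ₂ h
    refine LinearMap.ext fun z => ?_
    obtain ⟨y, rfl⟩ := ofC_L2map_surjective P Q z
    have := LinearMap.congr_fun h y
    rwa [PresHom.pull2_apply, PresHom.pull2_apply] at this
  · intro ψ
    constructor
    · intro h
      have hψ : ∀ w, ψ ((toC P Q).L2map w) = 0 := fun w => by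
        have := LinearMap.congr_fun h w
        rwa [PresHom.pull2_apply] at this
      obtain ⟨φ, hφ⟩ := exists_factor (ofCL2 P Q) (ofC_L2map_surjective P Q) ψ
        (fun z hz => ker_ofC_L2map P Q ψ hψ z hz)
      refine ⟨φ, LinearMap.ext fun z => ?_⟩
      rw [PresHom.pull2_apply]
      exact hφ z
    · rintro ⟨φ, rfl⟩
      refine LinearMap.ext fun w => ?_
      rw [PresHom.pull2_apply, PresHom.pull2_apply, ofC_toC_L2map, map_zero, LinearMap.zero_apply]

set_option maxHeartbeats 400000 in
/-- **The nine-term sequence for compatible presentations.** -/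
theorem comp_nine_term :
    Function.Injective ((ofC P Q).T0pull M) ∧
    Function.Exact ((ofC P Q).T0pull M) ((toC P Q).T0pull M) ∧
    Function.Exact ((ofC P Q).T1pull M) ((toC P Q).T1pull M) ∧
    Function.Exact ((ofC P Q).T2pull M) ((toC P Q).T2pull M) ∧
    ∃ (δ₀ : T0 P M →+ T1 Q M) (δ₁ : T1 P M →+ T2 Q M),
      Function.Exact ((toC P Q).T0pull M) δ₀ ∧ Function.Exact δ₀ ((ofC P Q).T1pull M) ∧
      Function.Exact ((toC P Q).T1pull M) δ₁ ∧ Function.Exact δ₁ ((ofC P Q).T2pull M) := by
  have key := Groth.Agent.Lib.NineTerm.nine_term (cohPres Q M) (cohPres (Q.comp P) M) (cohPres P M)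
  have k2 := key ((ofC P Q).pull0 M).toAddMonoidHom ((ofC P Q).pull1 M).toAddMonoidHom
    ((ofC P Q).pull2 M).toAddMonoidHom
    ((toC P Q).pull0 M).toAddMonoidHom ((toC P Q).pull1 M).toAddMonoidHom
    ((toC P Q).pull2 M).toAddMonoidHom
  have hd : ∀ x, (d2Star (Q.comp P) M).toAddMonoidHom ((d1Star (Q.comp P) M).toAddMonoidHom x) = 0 :=
    fun x => LinearMap.congr_fun (d2Star_comp_d1Star (Q.comp P) M) x
  have hi01 : ∀ x, ((ofC P Q).pull1 M).toAddMonoidHom ((d1Star Q M).toAddMonoidHom x) =
      (d1Star (Q.comp P) M).toAddMonoidHom (((ofC P Q).pull0 M).toAddMonoidHom x) :=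
    fun x => PresHom.pull1_d1Star (ofC P Q) M x
  have hi12 : ∀ x, ((ofC P Q).pull2 M).toAddMonoidHom ((d2Star Q M).toAddMonoidHom x) =
      (d2Star (Q.comp P) M).toAddMonoidHom (((ofC P Q).pull1 M).toAddMonoidHom x) :=
    fun x => PresHom.pull2_d2Star (ofC P Q) M x
  have hp01 : ∀ x, ((toC P Q).pull1 M).toAddMonoidHom ((d1Star (Q.comp P) M).toAddMonoidHom x) =
      (d1Star P M).toAddMonoidHom (((toC P Q).pull0 M).toAddMonoidHom x) :=
    fun x => PresHom.pull1_d1Star (toC P Q) M x
  have hp12 : ∀ x, ((toC P Q).pull2 M).toAddMonoidHom ((d2Star (Q.comp P) M).toAddMonoidHom x) =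
      (d2Star P M).toAddMonoidHom (((toC P Q).pull1 M).toAddMonoidHom x) :=
    fun x => PresHom.pull2_d2Star (toC P Q) M x
  have k3 := k2 hd hi01 hi12 hp01 hp12
  have h0 := deg0 P Q M
  have h1 := deg1 P Q M
  have h2 := deg2 P Q M
  have k4 := k3 h0.1 h1.1 h2.1
  have k5 := k4 h0.2.1 h1.2.1 h2.2
  have k6 := k5 h0.2.2 h1.2.2
  have k7 := k6 ((ofC P Q).T0pull M) ((toC P Q).T0pull M) ((ofC P Q).T1pull M) ((toC P Q).T1pull M)
    ((ofC P Q).T2pull M) ((toC P Q).T2pull M)
  have hU0 : ∀ h : T0 Q M, (cohPres (Q.comp P) M).ι ((ofC P Q).T0pull M h) =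
      ((ofC P Q).pull0 M).toAddMonoidHom ((cohPres Q M).ι h) := fun h => rfl
  have hV0 : ∀ h : T0 (Q.comp P) M, (cohPres P M).ι ((toC P Q).T0pull M h) =
      ((toC P Q).pull0 M).toAddMonoidHom ((cohPres (Q.comp P) M).ι h) := fun h => rfl
  have hU2 : ∀ x, (ofC P Q).T2pull M ((cohPres Q M).cl2 x) =
      (cohPres (Q.comp P) M).cl2 (((ofC P Q).pull2 M).toAddMonoidHom x) := fun x => rfl
  have hV2 : ∀ x, (toC P Q).T2pull M ((cohPres (Q.comp P) M).cl2 x) =
      (cohPres P M).cl2 (((toC P Q).pull2 M).toAddMonoidHom x) := fun x => rfl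
  have k8 := k7 hU0 hV0
  have k9 := k8 (T1pull_cl1 (ofC P Q) M) (T1pull_cl1 (toC P Q) M)
  exact k9 hU2 hV2

end Comp

end Groth.Agent.Lib.CotTComp
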