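import Groth.Agent.S12289
import Mathlib.RingTheory.Extension.Cotangent.Basic

/-!
# `T⁰` and `T¹` of a presentation do not depend on the presentation (helper1)

* `T0equivKaehler P M : CotT.T0 P M ≃ₗ[B] (Ω[B⁄A] →ₗ[B] M)`
* `T1equiv P P' M : CotT.T1 P M ≃ₗ[B] CotT.T1 P' M` (via Mathlib's homotopy lemmas for the naive cotangent complex)
-/

set_option autoImplicit false
universe u w w' m
open scoped TensorProduct

namespace Groth.Agent.Lib.CotTIndep

open Algebra Algebra.Extension

section General

variable {B : Type*} [CommRing B] {X Y Z : Type*} [AddCommGroup X] [Module B X] [AddCommGroup Y] [Module B Y]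
  [AddCommGroup Z] [Module B Z] (M : Type*) [AddCommGroup M] [Module B M]

/-- `Hom(-, M)` is left exact: for `X → Y → Z → 0` exact, `Hom(Z, M) ≃ ker (Hom(Y, M) → Hom(X, M))`. -/
noncomputable def homKerEquiv (f : X →ₗ[B] Y) (g : Y →ₗ[B] Z) (hfg : Function.Exact f g)
    (hg : Function.Surjective g) :
    (Z →ₗ[B] M) ≃ₗ[B] LinearMap.ker (LinearMap.lcomp B M f) :=
  LinearEquiv.ofBijective
    (LinearMap.codRestrict (LinearMap.ker (LinearMap.lcomp B M f)) (LinearMap.lcomp B M g) (fun v => by
      rw [LinearMap.mem_ker]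
      ext x
      simp only [LinearMap.lcomp_apply', LinearMap.coe_comp, Function.comp_apply, LinearMap.zero_apply]
      rw [hfg.apply_apply_eq_zero, map_zero]))
    (by
      constructor
      · intro v v' h
        have h' := congrArg Subtype.val h
        simp only [LinearMap.codRestrict_apply] at h'
        ext z
        obtain ⟨y, rfl⟩ := hg z
        exact LinearMap.congr_fun h' y
      · rintro ⟨u, hu⟩
        rw [LinearMap.mem_ker] at hu
        have hker : LinearMap.ker g ≤ LinearMap.ker u := by
          intro y hy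
          rw [LinearMap.mem_ker] at hy
          obtain ⟨x, rfl⟩ := (hfg y).1 hy
          exact LinearMap.congr_fun hu x
        let e := LinearMap.quotKerEquivOfSurjective g hg
        refine ⟨((LinearMap.ker g).liftQ u hker) ∘ₗ e.symm.toLinearMap, ?_⟩
        apply Subtype.ext
        simp only [LinearMap.codRestrict_apply]
        ext y
        simp only [LinearMap.lcomp_apply', LinearMap.coe_comp, Function.comp_apply,
          LinearEquiv.coe_coe]
        have : e.symm (g y) = Submodule.Quotient.mk y := by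
          rw [LinearEquiv.symm_apply_eq]; rfl
        rw [this, Submodule.liftQ_apply])

end General

section T0

variable {A B : Type u} [CommRing A] [CommRing B] [Algebra A B] {ι σ : Type w}
  (P : Algebra.Presentation A B ι σ) (M : Type m) [AddCommGroup M] [Module B M]

/-- `T⁰` is `Hom_B(Ω_{B/A}, M)`. -/
noncomputable def T0equivKaehler : CotT.T0 P M ≃ₗ[B] (Ω[B⁄A] →ₗ[B] M) :=
  (LinearEquiv.ofEq _ _ (Groth.Agent.S12289.result A B ι σ P M).1).trans
    (homKerEquiv M P.toExtension.cotangentComplex P.toExtension.toKaehler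
      P.toExtension.exact_cotangentComplex_toKaehler P.toExtension.toKaehler_surjective).symm

end T0


section Y

variable {A B : Type u} [CommRing A] [CommRing B] [Algebra A B]
  (M : Type m) [AddCommGroup M] [Module B M]

/-- `H¹` of the `M`-dual of the naive cotangent complex of an extension. -/
abbrev Y (E : Extension.{w} A B) : Type _ :=
  (E.Cotangent →ₗ[B] M) ⧸ LinearMap.range (LinearMap.lcomp B M E.cotangentComplex)

variable {M}

/-- the map induced on `Y` by a morphism of extensions. -/
noncomputable def Ymap {E : Extension.{w} A B} {E' : Extension.{w'} A B} (f : E.Hom E') : Y M E' →ₗ[B] Y M E :=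
  Submodule.mapQ _ _ (LinearMap.lcomp B M (Cotangent.map f)) (by
    rintro _ ⟨ψ, rfl⟩
    refine ⟨ψ ∘ₗ CotangentSpace.map f, ?_⟩
    ext x
    simp only [LinearMap.lcomp_apply', LinearMap.coe_comp, Function.comp_apply]
    rw [CotangentSpace.map_cotangentComplex])

lemma Ymap_mk {E : Extension.{w} A B} {E' : Extension.{w'} A B} (f : E.Hom E') (v : E'.Cotangent →ₗ[B] M) :
    Ymap f (Submodule.Quotient.mk v) = Submodule.Quotient.mk (v ∘ₗ Cotangent.map f) := rfl

lemma Ymap_eq {E : Extension.{w} A B} {E' : Extension.{w'} A B} (f g : E.Hom E') :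
    (Ymap f : Y M E' →ₗ[B] Y M E) = Ymap g := by
  apply Submodule.linearMap_qext
  ext v
  simp only [LinearMap.coe_comp, Function.comp_apply, Submodule.mkQ_apply, Ymap_mk]
  rw [Submodule.Quotient.eq]
  refine ⟨v ∘ₗ (f.sub g), ?_⟩
  rw [← LinearMap.comp_sub, Cotangent.map_sub_map]
  rfl


lemma Ymap_id (E : Extension.{w} A B) : (Ymap (Extension.Hom.id E) : Y M E →ₗ[B] Y M E) = LinearMap.id := by
  apply Submodule.linearMap_qext
  ext v
  simp only [LinearMap.coe_comp, Function.comp_apply, Submodule.mkQ_apply, Ymap_mk, LinearMap.id_coe, id_eq]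
  rw [Cotangent.map_id]
  rfl

lemma Ymap_comp {E₁ E₂ E₃ : Extension.{w} A B} (f : E₁.Hom E₂) (g : E₂.Hom E₃) :
    (Ymap (g.comp f) : Y M E₃ →ₗ[B] Y M E₁) = Ymap f ∘ₗ Ymap g := by
  apply Submodule.linearMap_qext
  ext v
  simp only [LinearMap.coe_comp, Function.comp_apply, Submodule.mkQ_apply, Ymap_mk]
  rw [Cotangent.map_comp]
  rfl

/-- `Y` does not depend on the extension, as soon as there are morphisms both ways. -/
noncomputable def Yequiv {E₁ E₂ : Extension.{w} A B} (f₁ : E₁.Hom E₂) (f₂ : E₂.Hom E₁) : Y M E₁ ≃ₗ[B] Y M E₂ where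
  __ := (Ymap f₂ : Y M E₁ →ₗ[B] Y M E₂)
  invFun := (Ymap f₁ : Y M E₂ →ₗ[B] Y M E₁)
  left_inv x := by
    change (Ymap f₁ ∘ₗ Ymap f₂) x = x
    rw [← Ymap_comp, Ymap_eq (f₂.comp f₁) (Extension.Hom.id E₁), Ymap_id]
    rfl
  right_inv x := by
    change (Ymap f₂ ∘ₗ Ymap f₁) x = x
    rw [← Ymap_comp, Ymap_eq (f₁.comp f₂) (Extension.Hom.id E₂), Ymap_id]
    rfl

end Y


section T1

variable {A B : Type u} [CommRing A] [CommRing B] [Algebra A B] {ι σ ι' σ' : Type w}
  (P : Algebra.Presentation A B ι σ) (P' : Algebra.Presentation A B ι' σ')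
  (M : Type m) [AddCommGroup M] [Module B M]

/-- `T¹` of a presentation is `H¹` of the dual of the naive cotangent complex. -/
noncomputable def T1equivY : CotT.T1 P M ≃ₗ[B] Y M P.toExtension :=
  ((Submodule.quotEquivOfEq _ _ (Groth.Agent.S12289.result A B ι σ P M).2.1).symm.trans
    (LinearMap.quotKerEquivOfSurjective (CotT.homToT1 P M) (Groth.Agent.S12289.result A B ι σ P M).2.2)).symm

/-- `T¹` does not depend on the presentation. -/
noncomputable def T1equiv : CotT.T1 P M ≃ₗ[B] CotT.T1 P' M :=
  (T1equivY P M).trans ((Yequiv (P.defaultHom P'.toGenerators).toExtensionHom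
    (P'.defaultHom P.toGenerators).toExtensionHom).trans (T1equivY P' M).symm)

end T1

end Groth.Agent.Lib.CotTIndep
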