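import Mathlib.RingTheory.Extension.Cotangent.BaseChange
import Mathlib.RingTheory.Flat.Equalizer

/-!
# Base change of the conormal module when the quotient is flat (helper32)

Mathlib proves that `T ⊗[R] I/I² → (I (T ⊗[R] S)) / (I (T ⊗[R] S))²` is bijective when `T` is `R`-flat.  Here we prove
the same when instead `S ⧸ I` is `R`-flat (`T` arbitrary), and deduce that flatness / projectivity of the conormal
module of an extension `P → S` of a flat `R`-algebra `S` passes to the base change `T ⊗ P → T ⊗ S`.
-/

set_option autoImplicit false
universe u v w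

open TensorProduct

namespace Groth.Agent.Lib.CotangentFibre32

section ideal

variable (R : Type*) {S : Type*} [CommRing R] [CommRing S] [Algebra R S]
variable (T : Type*) [CommRing T] [Algebra R T] (I : Ideal S)

/-- the exact sequence `I/I² → S/I² → S/I` -/
theorem exact_cotangentToQuotientSquare :
    Function.Exact (I.cotangentToQuotientSquare.restrictScalars R)
      ((Ideal.Quotient.factorₐ R (Ideal.pow_le_self two_ne_zero : I ^ 2 ≤ I)).toLinearMap) := by
  intro x
  constructor
  · intro hx
    obtain ⟨y, rfl⟩ := Ideal.Quotient.mk_surjective x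
    have hy : y ∈ I := by
      rw [← Ideal.Quotient.eq_zero_iff_mem]
      exact hx
    exact ⟨I.toCotangent ⟨y, hy⟩, Ideal.toCotangent_to_quotient_square _ _⟩
  · rintro ⟨z, rfl⟩
    obtain ⟨⟨y, hy⟩, rfl⟩ := I.toCotangent_surjective z
    show (Ideal.Quotient.factorₐ R (Ideal.pow_le_self two_ne_zero : I ^ 2 ≤ I))
      (I.cotangentToQuotientSquare (I.toCotangent ⟨y, hy⟩)) = 0
    rw [Ideal.toCotangent_to_quotient_square]
    show Ideal.Quotient.mk I y = 0
    exact Ideal.Quotient.eq_zero_iff_mem.mpr hy

set_option backward.isDefEq.respectTransparency.types false in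
set_option backward.defeqAttrib.useBackward true in
/-- If `S ⧸ I` is a flat `R`-module, the canonical map `tensorCotangentHom R T I` is injective. -/
theorem tensorCotangentHom_injective_of_flat_quotient [Module.Flat R (S ⧸ I)] :
    Function.Injective (I.tensorCotangentHom R T) := by
  let a : S →+* T ⊗[R] S := Algebra.TensorProduct.includeRight.toRingHom
  let f : (I.map a).Cotangent →ₗ[T] T ⊗[R] S ⧸ (I.map a) ^ 2 :=
    (Ideal.cotangentToQuotientSquare _).restrictScalars T
  suffices h : Function.Injective (f ∘ₗ Ideal.tensorCotangentHom R T I) from .of_comp h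
  let g : T ⊗[R] I.Cotangent →ₗ[T] T ⊗[R] (S ⧸ I ^ 2) :=
    AlgebraTensorModule.lTensor T T I.cotangentToQuotientSquare
  let hₐ : T ⊗[R] (S ⧸ I ^ 2) ≃ₐ[T] T ⊗[R] S ⧸ (I.map a) ^ 2 :=
    (Algebra.TensorProduct.tensorQuotientEquiv _ _ _ _).trans
      (Ideal.quotientEquivAlgOfEq T (Ideal.map_pow _ _ _))
  have : f ∘ₗ Ideal.tensorCotangentHom R T I = hₐ.toLinearMap ∘ₗ g := by
    ext x
    obtain ⟨x, rfl⟩ := I.toCotangent_surjective x
    dsimp [f, g, hₐ]
    rw [Ideal.tensorCotangentHom_tmul, one_smul, Ideal.toCotangent_to_quotient_square]
    simp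
  rw [this, LinearMap.coe_comp]
  apply hₐ.injective.comp
  have hle : I ^ 2 ≤ I := Ideal.pow_le_self two_ne_zero
  have key := LinearMap.lTensor_injective_of_exact_of_flat
    ((Ideal.Quotient.factorₐ R hle).toLinearMap)
    (Ideal.Quotient.factor_surjective hle)
    (I.cotangentToQuotientSquare.restrictScalars R) I.cotangentToQuotientSquare_injective
    (exact_cotangentToQuotientSquare R I) T
  exact key

/-- If `S ⧸ I` is a flat `R`-module, the base change of the cotangent space of `I` is linearly
equivalent to the cotangent space of the extended ideal `I · (T ⊗[R] S)`. -/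
noncomputable def tensorCotangentEquiv [Module.Flat R (S ⧸ I)] :
    T ⊗[R] I.Cotangent ≃ₗ[T]
      (I.map (Algebra.TensorProduct.includeRight.toRingHom : _ →+* T ⊗[R] S)).Cotangent :=
  LinearEquiv.ofBijective (I.tensorCotangentHom R T)
    ⟨tensorCotangentHom_injective_of_flat_quotient R T I, I.tensorCotangentHom_surjective R T⟩

theorem tensorCotangentEquiv_tmul [Module.Flat R (S ⧸ I)] (t : T) (x : I) :
    tensorCotangentEquiv R T I (t ⊗ₜ I.toCotangent x) =
      t • (I.map (Algebra.TensorProduct.includeRight.toRingHom : S →+* T ⊗[R] S)).toCotangent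
        ⟨1 ⊗ₜ x, Ideal.mem_map_of_mem _ x.2⟩ :=
  rfl

end ideal

section extension

open Algebra

variable {R S : Type*} [CommRing R] [CommRing S] [Algebra R S] (P : Extension.{u} R S)
variable (T : Type*) [CommRing T] [Algebra R T]

/-- flatness of `P.Ring ⧸ P.ker ≅ S` over `R` -/
theorem flat_quotient_ker [Module.Flat R S] : Module.Flat R (P.Ring ⧸ P.ker) := by
  have e : (P.Ring ⧸ P.ker) ≃ₐ[R] S :=
    Ideal.quotientKerAlgEquivOfSurjective (f := IsScalarTower.toAlgHom R P.Ring S)
      P.algebraMap_surjective
  exact Module.Flat.of_linearEquiv e.toLinearEquiv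

set_option backward.isDefEq.respectTransparency.types false in
/-- If `S` is flat over `R`, there is a `T`-linear isomorphism
`T ⊗[R] P.Cotangent ≃ₗ[T] (P.baseChange).Cotangent`, for ANY `R`-algebra `T`. -/
noncomputable def tensorCotangentOfFlatTarget [Module.Flat R S] :
    T ⊗[R] P.Cotangent ≃ₗ[T] (P.baseChange (T := T)).Cotangent :=
  haveI := flat_quotient_ker P
  AlgebraTensorModule.congr (.refl T T) (P.cotangentEquivCotangentKer.restrictScalars R) ≪≫ₗ
    tensorCotangentEquiv R T P.ker ≪≫ₗ
    (Ideal.Cotangent.equivOfEq _ _ (P.ker_baseChange T).symm).restrictScalars T ≪≫ₗ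
    (P.baseChange (T := T)).cotangentEquivCotangentKer.symm.restrictScalars T

set_option backward.isDefEq.respectTransparency.types false in
attribute [local instance] Algebra.TensorProduct.rightAlgebra in
theorem tensorCotangentOfFlatTarget_tmul [Module.Flat R S] (t : T) (x : P.Cotangent) :
    tensorCotangentOfFlatTarget P T (t ⊗ₜ x) = t • Extension.Cotangent.map (P.toBaseChange T) x := by
  obtain ⟨x, rfl⟩ := Extension.Cotangent.mk_surjective x
  simp only [tensorCotangentOfFlatTarget, LinearEquiv.trans_apply, AlgebraTensorModule.congr_tmul,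
    LinearEquiv.refl_apply, LinearEquiv.restrictScalars_apply,
    Extension.cotangentEquivCotangentKer_apply,
    Extension.Cotangent.val_mk, tensorCotangentEquiv_tmul, map_smul, Extension.Cotangent.map_mk,
    Extension.Hom.toAlgHom_apply, Ideal.Cotangent.equivOfEq_toCotangent]
  rfl

attribute [local instance] Algebra.TensorProduct.rightAlgebra in
/-- the canonical `T ⊗ S`-linear map `(T ⊗ S) ⊗[S] P.Cotangent → (P.baseChange).Cotangent` -/
noncomputable def cotBC :
    (T ⊗[R] S) ⊗[S] P.Cotangent →ₗ[T ⊗[R] S] (P.baseChange (T := T)).Cotangent :=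
  LinearMap.liftBaseChange (T ⊗[R] S) (Extension.Cotangent.map (P.toBaseChange T))

attribute [local instance] Algebra.TensorProduct.rightAlgebra in
theorem cotBC_tmul (b : T ⊗[R] S) (x : P.Cotangent) :
    cotBC P T (b ⊗ₜ x) = b • Extension.Cotangent.map (P.toBaseChange T) x := by
  simp [cotBC]

attribute [local instance] Algebra.TensorProduct.rightAlgebra in
theorem cotBC_bijective [Module.Flat R S] : Function.Bijective (cotBC P T) := by
  let Ξ := Algebra.IsPushout.cancelBaseChange R T S (T ⊗[R] S) P.Cotangent
  have key : ∀ z : T ⊗[R] P.Cotangent,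
      cotBC P T (Ξ.symm z) = tensorCotangentOfFlatTarget P T z := by
    intro z
    induction z with
    | zero => simp
    | add x y hx hy => simp only [map_add, hx, hy]
    | tmul t x =>
      rw [Algebra.IsPushout.cancelBaseChange_symm_tmul, cotBC_tmul,
        tensorCotangentOfFlatTarget_tmul, algebraMap_smul]
  have h2 : (cotBC P T : _ → _) = (tensorCotangentOfFlatTarget P T) ∘ Ξ := by
    funext y
    rw [Function.comp_apply, ← key, LinearEquiv.symm_apply_apply]
  rw [h2]
  exact (tensorCotangentOfFlatTarget P T).bijective.comp Ξ.bijective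

attribute [local instance] Algebra.TensorProduct.rightAlgebra in
/-- projectivity of the conormal module passes to the base change when `S` is `R`-flat -/
theorem projective_cotangent_baseChange [Module.Flat R S] [Module.Projective S P.Cotangent] :
    Module.Projective (T ⊗[R] S) (P.baseChange (T := T)).Cotangent :=
  Module.Projective.of_equiv (LinearEquiv.ofBijective (cotBC P T) (cotBC_bijective P T))

attribute [local instance] Algebra.TensorProduct.rightAlgebra in
/-- flatness of the conormal module passes to the base change when `S` is `R`-flat -/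
theorem flat_cotangent_baseChange [Module.Flat R S] [Module.Flat S P.Cotangent] :
    Module.Flat (T ⊗[R] S) (P.baseChange (T := T)).Cotangent :=
  Module.Flat.of_linearEquiv (LinearEquiv.ofBijective (cotBC P T) (cotBC_bijective P T)).symm

end extension

section generators

open Algebra

variable {R S : Type*} [CommRing R] [CommRing S] [Algebra R S] {ι : Type*}
  (G : Generators R S ι) (T : Type*) [CommRing T] [Algebra R T]

/-- projectivity of the conormal module of a presentation passes to the base-changed presentation when `S` is
`R`-flat -/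
theorem projective_cotangent_generators_baseChange [Module.Flat R S]
    [Module.Projective S G.toExtension.Cotangent] :
    Module.Projective (T ⊗[R] S) (G.baseChange T).toExtension.Cotangent := by
  have := projective_cotangent_baseChange G.toExtension T
  refine Module.Projective.of_split (Extension.Cotangent.map (G.baseChangeToBaseChange T))
    (Extension.Cotangent.map (G.baseChangeFromBaseChange T)) ?_
  ext x
  obtain ⟨x, rfl⟩ := Extension.Cotangent.mk_surjective x
  simp only [LinearMap.coe_comp, Function.comp_apply, Extension.Cotangent.map_mk,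
    LinearMap.id_coe, id_eq]
  have hx : (⟨(G.baseChangeFromBaseChange T).toAlgHom ((G.baseChangeToBaseChange T).toAlgHom ↑x),
      by
        have h1 : (G.baseChangeFromBaseChange T).toRingHom
            ((G.baseChangeToBaseChange T).toRingHom ↑x) = ↑x := by
          exact (MvPolynomial.algebraTensorAlgEquiv R T).apply_symm_apply _
        change (G.baseChangeFromBaseChange T).toRingHom
            ((G.baseChangeToBaseChange T).toRingHom ↑x) ∈ _
        rw [h1]
        exact x.2⟩ : (Generators.baseChange T G).toExtension.ker) = x := by
    ext1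
    show (G.baseChangeFromBaseChange T).toRingHom ((G.baseChangeToBaseChange T).toRingHom ↑x) = ↑x
    exact (MvPolynomial.algebraTensorAlgEquiv R T).apply_symm_apply _
  exact congrArg (fun y => (Extension.Cotangent.mk y).val) hx

/-- flatness of the conormal module of a presentation passes to the base-changed presentation when `S` is
`R`-flat -/
theorem flat_cotangent_generators_baseChange [Module.Flat R S]
    [Module.Flat S G.toExtension.Cotangent] :
    Module.Flat (T ⊗[R] S) (G.baseChange T).toExtension.Cotangent := by
  have := flat_cotangent_baseChange G.toExtension T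
  refine Module.Flat.of_retract (Extension.Cotangent.map (G.baseChangeToBaseChange T))
    (Extension.Cotangent.map (G.baseChangeFromBaseChange T)) ?_
  ext x
  obtain ⟨x, rfl⟩ := Extension.Cotangent.mk_surjective x
  simp only [LinearMap.coe_comp, Function.comp_apply, Extension.Cotangent.map_mk,
    LinearMap.id_coe, id_eq]
  have hx : (⟨(G.baseChangeFromBaseChange T).toAlgHom ((G.baseChangeToBaseChange T).toAlgHom ↑x),
      by
        have h1 : (G.baseChangeFromBaseChange T).toRingHom
            ((G.baseChangeToBaseChange T).toRingHom ↑x) = ↑x := by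
          exact (MvPolynomial.algebraTensorAlgEquiv R T).apply_symm_apply _
        change (G.baseChangeFromBaseChange T).toRingHom
            ((G.baseChangeToBaseChange T).toRingHom ↑x) ∈ _
        rw [h1]
        exact x.2⟩ : (Generators.baseChange T G).toExtension.ker) = x := by
    ext1
    show (G.baseChangeFromBaseChange T).toRingHom ((G.baseChangeToBaseChange T).toRingHom ↑x) = ↑x
    exact (MvPolynomial.algebraTensorAlgEquiv R T).apply_symm_apply _
  exact congrArg (fun y => (Extension.Cotangent.mk y).val) hx

end generators

end Groth.Agent.Lib.CotangentFibre32
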