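/-
helper42: local generation by global sections.
* `spanRes N ξ V`, `rs_mem_spanRes`.
* `exists_rs_mem_spanRes`: if the global sections `ξ j` generate `N` (`Epi (ofSections N ξ)`), every local section is
  locally a combination of the `ξ j`.
* `exists_preimage_of_restrict_globGen`: if `P|_Y` is globally generated (`j : Y ⟶ X` open immersion) and `φ : M ⟶ P`
  is surjective on sections over `j(Y)`, then `φ` is locally surjective at the points of `j(Y)`.
-/
import Groth.Agent.Lib.GlobGenDescent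
import Groth.Agent.Lib.H90UnitSections
import Groth.Agent.Lib.H78Restrict

set_option autoImplicit false
universe u
open CategoryTheory CategoryTheory.Limits AlgebraicGeometry Opposite TopologicalSpace
open Groth.Agent.Lib.H90Invertible Groth.Agent.Lib.StructureModule Groth.Agent.Lib.H78TensorGen
open Groth.Agent.Lib.H78SecCoord Groth.Agent.Lib.H78GlobGen2 Groth.Agent.Lib.H78Atlas
open Groth.Agent.Lib.H78SecAdd Groth.Agent.Lib.QCohStalk Groth.Agent.Lib.GlobGenDescent

namespace Groth.Agent.Lib.GlobGenLocal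

variable {X : Scheme.{u}}

/-- the span over `Γ(X, V)` of the restrictions of a family of global sections -/
noncomputable def spanRes (N : X.Modules) {J : Type*} (ξ : J → Γ(N, ⊤)) (V : X.Opens) :
    Submodule Γ(X, V) Γ(N, V) :=
  Submodule.span Γ(X, V) (Set.range fun j => rs N (le_top : V ≤ ⊤) (ξ j))

lemma rs_mem_spanRes (N : X.Modules) {J : Type*} (ξ : J → Γ(N, ⊤)) {V V' : X.Opens} (h : V' ≤ V)
    {t : Γ(N, V)} (ht : t ∈ spanRes N ξ V) : rs N h t ∈ spanRes N ξ V' := by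
  induction ht using Submodule.span_induction with
  | mem x hx =>
    obtain ⟨j, rfl⟩ := hx
    change rs N h (rs N le_top (ξ j)) ∈ _
    rw [rs_rs]
    exact Submodule.subset_span ⟨j, rfl⟩
  | zero =>
    have : rs N h (0 : Γ(N, V)) = 0 := map_zero (N.presheaf.map (homOfLE h).op).hom
    rw [this]; exact Submodule.zero_mem _
  | add x y _ _ hx hy => rw [rs_add]; exact Submodule.add_mem _ hx hy
  | smul a x _ hx => rw [rs_smul]; exact Submodule.smul_mem _ _ hx

/-- **local generation**: if the global sections `ξ j` generate `N`, every local section is, locally, a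
combination of the `ξ j`. -/
theorem exists_rs_mem_spanRes (N : X.Modules) {J : Type u} (ξ : J → Γ(N, ⊤)) [hE : Epi (ofSections N ξ)]
    (W : X.Opens) (s : Γ(N, W)) (x : X) (hx : x ∈ W) :
    ∃ (V : X.Opens) (hVW : V ≤ W), x ∈ V ∧ rs N hVW s ∈ spanRes N ξ V := by
  let G : SheafOfModules.GeneratingSections N :=
    { I := J, s := fun k => SheafOfModules.unitHomEquiv N (ofSection (ξ k))
      epi := hE }
  have hGs : ∀ j, (G.s j).val (op ⊤) = ξ j := by
    intro j
    exact ofSection_app_one (ξ j)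
  have hspan := Groth.Agent.Lib.H78GlobGen.span_germ_eq_top' N G x
  have key : ∀ ν : N.presheaf.stalk x, ν ∈ Submodule.span (X.presheaf.stalk x)
      (Set.range fun i : G.I => N.presheaf.germ ⊤ x trivial ((G.s i).val (op ⊤))) →
      ∃ (V : X.Opens) (hxV : x ∈ V) (t : Γ(N, V)), t ∈ spanRes N ξ V ∧
        N.presheaf.germ V x hxV t = ν := by
    intro ν hν
    induction hν using Submodule.span_induction with
    | mem ν hν =>
      obtain ⟨j, rfl⟩ := hν
      refine ⟨⊤, trivial, rs N le_rfl (ξ j), Submodule.subset_span ⟨j, rfl⟩, ?_⟩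
      rw [rs_self]
      exact congrArg _ (hGs j).symm
    | zero =>
      exact ⟨⊤, trivial, 0, Submodule.zero_mem _, map_zero _⟩
    | add ν₁ ν₂ _ _ h₁ h₂ =>
      obtain ⟨V₁, hx₁, t₁, ht₁, rfl⟩ := h₁
      obtain ⟨V₂, hx₂, t₂, ht₂, rfl⟩ := h₂
      refine ⟨V₁ ⊓ V₂, ⟨hx₁, hx₂⟩, rs N inf_le_left t₁ + rs N inf_le_right t₂,
        Submodule.add_mem _ (rs_mem_spanRes N ξ _ ht₁) (rs_mem_spanRes N ξ _ ht₂), ?_⟩
      rw [map_add]
      congr 1
      · exact germ_res N inf_le_left x ⟨hx₁, hx₂⟩ t₁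
      · exact germ_res N inf_le_right x ⟨hx₁, hx₂⟩ t₂
    | smul a ν _ h =>
      obtain ⟨V, hxV, t, ht, rfl⟩ := h
      obtain ⟨V', hxV', a', rfl⟩ := TopCat.Presheaf.exists_germ_eq X.presheaf a
      have hmem : x ∈ V' ⊓ V := ⟨hxV', hxV⟩
      refine ⟨V' ⊓ V, hmem, rf inf_le_left a' • rs N inf_le_right t,
        Submodule.smul_mem _ _ (rs_mem_spanRes N ξ _ ht), ?_⟩
      refine (germ_smul N (V' ⊓ V) x hmem _ _).trans ?_
      congr 1
      · exact germO_res X inf_le_left x hmem a'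
      · exact germ_res N inf_le_right x hmem t
  obtain ⟨V, hxV, t, ht, hgerm⟩ := key (N.presheaf.germ W x hx s) (by rw [hspan]; trivial)
  obtain ⟨V'', hxV'', i₁, i₂, heq⟩ := TopCat.Presheaf.germ_eq N.presheaf x hxV hx t s hgerm
  refine ⟨V'', i₂.le, hxV'', ?_⟩
  have : rs N i₂.le s = rs N i₁.le t := heq.symm
  rw [this]
  exact rs_mem_spanRes N ξ _ ht


/-- If `P|_Y` is globally generated (`j : Y ⟶ X` an open immersion) and `φ : M ⟶ P` is surjective on sections
over `j(Y)`, then `φ` is locally surjective at the points of `j(Y)`. -/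
theorem exists_preimage_of_restrict_globGen {Y : Scheme.{u}} (j : Y ⟶ X) [IsOpenImmersion j]
    {M P : X.Modules} (φ : M ⟶ P) (hP : Curv2.IsGloballyGenerated (P.restrict j))
    (hφ : Function.Surjective (φ.app (j ''ᵁ ⊤)))
    (W : X.Opens) (s : Γ(P, W)) (y : Y) (hy : j y ∈ W) :
    ∃ (V : X.Opens) (hVW : V ≤ W), j y ∈ V ∧ ∃ t : Γ(M, V), φ.app V t = rs P hVW s := by
  obtain ⟨K, q, hq⟩ := hP
  let ξ : K → Γ(P.restrict j, ⊤) := fun k => sec (ιF k ≫ q)
  haveI : Epi (ofSections (P.restrict j) ξ) := by rw [← eq_ofSections (K := K) q]; exact hq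
  have hW' : j ''ᵁ (j ⁻¹ᵁ W) ≤ W := j.image_preimage_le W
  let s' : Γ(P.restrict j, j ⁻¹ᵁ W) := Groth.Agent.Lib.H78Restrict.toR j P (j ⁻¹ᵁ W) (rs P hW' s)
  obtain ⟨V', hV'W', hyV', hmem⟩ := exists_rs_mem_spanRes (P.restrict j) ξ (j ⁻¹ᵁ W) s' y hy
  refine ⟨j ''ᵁ V', (j.image_mono hV'W').trans hW', ⟨y, hyV', rfl⟩, ?_⟩
  have key : ∀ t' ∈ spanRes (P.restrict j) ξ V', ∃ t : Γ(M, j ''ᵁ V'),
      φ.app (j ''ᵁ V') t = (show Γ(P, j ''ᵁ V') from t') := by
    intro t' ht'
    induction ht' using Submodule.span_induction with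
    | mem x hx =>
      obtain ⟨k, rfl⟩ := hx
      obtain ⟨m, hm⟩ := hφ (show Γ(P, j ''ᵁ ⊤) from ξ k)
      refine ⟨rs M (j.image_mono le_top) m, ?_⟩
      rw [app_rs, hm]
      rfl
    | zero => exact ⟨0, map_zero _⟩
    | add x x' _ _ hx hx' =>
      obtain ⟨t, ht⟩ := hx
      obtain ⟨t', ht'⟩ := hx'
      refine ⟨t + t', ?_⟩
      rw [map_add, ht, ht']
      rfl
    | smul a x _ hx =>
      obtain ⟨t, ht⟩ := hx
      refine ⟨((j.appIso V').inv a : Γ(X, j ''ᵁ V')) • t, ?_⟩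
      rw [Scheme.Modules.Hom.app_smul, ht]
      rfl
  obtain ⟨t, ht⟩ := key _ hmem
  refine ⟨t, ht.trans ?_⟩
  exact rs_rs P hW' (j.image_mono hV'W') s

end Groth.Agent.Lib.GlobGenLocal
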