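/-
helper42: on a quasi-affine scheme every quasi-coherent module is globally generated (`isGloballyGenerated_of_isQuasiAffine`).
-/
import Groth.Prelude.Def_Curv2
import Groth.Agent.Lib.H78GlobGen2
import Groth.Agent.Lib.H90OXModQcqs
import Mathlib.AlgebraicGeometry.QuasiAffine

set_option autoImplicit false
universe u

namespace Groth.Agent.Lib.QuasiAffineGlobGen

open AlgebraicGeometry CategoryTheory TopologicalSpace Opposite
open Groth.Agent.Lib.QCohStalk Groth.Agent.Lib.H90OXModQcqs Groth.Agent.Lib.H78GlobGen2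
  Groth.Agent.Lib.H78TensorGen Groth.Agent.Lib.H78Atlas

theorem isGloballyGenerated_of_isQuasiAffine (X : Scheme.{u}) [X.IsQuasiAffine] (F : X.Modules)
    (hF : Coh.IsQCoh F) : Curv2.IsGloballyGenerated F := by
  have : F.IsQuasicoherent := hF
  -- index set: affine basic opens of global functions
  let ι := {r : Γ(X, ⊤) // IsAffineOpen (X.basicOpen r)}
  let V : ι → X.Opens := fun r => X.basicOpen r.1
  have hV : ⨆ i, V i = ⊤ := by
    rw [eq_top_iff]
    intro x _
    obtain ⟨_, ⟨_, ⟨r, hr, rfl⟩, rfl⟩, hxr, -⟩ :=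
      (Scheme.IsQuasiAffine.isBasis_basicOpen X).exists_subset_of_mem_open
        (Set.mem_univ x) isOpen_univ
    exact Opens.mem_iSup.mpr ⟨⟨r, hr⟩, hxr⟩
  refine isGloballyGenerated_of_span V hV (fun i => i.2) ?_ (K := Γ(F, ⊤)) (fun s => s) ?_
  · intro i f t
    obtain ⟨n, s, hs⟩ := exists_pow_smul_eq_res F i.2 f t
    exact ⟨n, s, hs.symm⟩
  · intro i
    rw [eq_top_iff]
    intro t _
    have hc : IsCompact ((⊤ : X.Opens) : Set X) := by
      rw [Opens.coe_top]; exact isCompact_univ
    have hqs : IsQuasiSeparated ((⊤ : X.Opens) : Set X) := by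
      rw [Opens.coe_top]; exact isQuasiSeparated_univ
    obtain ⟨n, s, hs⟩ := exists_pow_smul_eq_res_of_qcqs F hc hqs i.1 t
    have hu : IsUnit (resO X (X.basicOpen_le i.1) i.1 ^ n) :=
      (RingedSpace.isUnit_res_basicOpen _ i.1).pow n
    obtain ⟨v, hv⟩ := hu.exists_left_inv
    have ht : t = v • res F (X.basicOpen_le i.1) s := by
      rw [← hs, ← mul_smul, hv, one_smul]
    rw [ht]
    refine Submodule.smul_mem _ _ (Submodule.subset_span ⟨s, rfl⟩)

end Groth.Agent.Lib.QuasiAffineGlobGen
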