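import Mathlib.CategoryTheory.Preadditive.Biproducts
import Mathlib.CategoryTheory.Preadditive.AdditiveFunctor

/-!
# Natural transformations between additive functors and finite (co)products (helper90)

`isIso_app_biproduct`, `isIso_app_sigma`: a natural transformation between additive functors which is an
isomorphism on each `f j` is an isomorphism on `⨁ f` (resp. `∐ f`), `J` finite.
`isIso_app_of_iso`: being an isomorphism at an object is invariant under isomorphisms of the object.
-/

set_option autoImplicit false
universe v₁ v₂ u₁ u₂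

open CategoryTheory CategoryTheory.Limits

namespace Groth.Agent.Lib.H90NatTransBiprod

variable {C : Type u₁} [Category.{v₁} C] {D : Type u₂} [Category.{v₂} D]

theorem isIso_app_of_iso {F G : C ⥤ D} (α : F ⟶ G) {P P' : C} (e : P ≅ P') [IsIso (α.app P')] :
    IsIso (α.app P) := by
  have : α.app P = F.map e.hom ≫ α.app P' ≫ G.map e.inv := by
    rw [← Category.assoc, α.naturality, Category.assoc, ← Functor.map_comp, e.hom_inv_id,
      CategoryTheory.Functor.map_id, Category.comp_id]
  rw [this]
  infer_instance

variable [Preadditive C] [Preadditive D] {F G : C ⥤ D} [F.Additive] [G.Additive]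

theorem isIso_app_biproduct (α : F ⟶ G) {J : Type} [Fintype J] (f : J → C) [HasBiproduct f]
    [∀ j, IsIso (α.app (f j))] : IsIso (α.app (⨁ f)) := by
  classical
  refine ⟨∑ j, G.map (biproduct.π f j) ≫ inv (α.app (f j)) ≫ F.map (biproduct.ι f j), ?_, ?_⟩
  · rw [Preadditive.comp_sum]
    have : ∀ j, α.app (⨁ f) ≫ G.map (biproduct.π f j) ≫ inv (α.app (f j)) ≫ F.map (biproduct.ι f j) =
        F.map (biproduct.π f j ≫ biproduct.ι f j) := by
      intro j
      rw [← α.naturality_assoc, IsIso.hom_inv_id_assoc, Functor.map_comp]
    simp only [this]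
    rw [← Functor.map_sum, biproduct.total, CategoryTheory.Functor.map_id]
  · rw [Preadditive.sum_comp]
    have : ∀ j, (G.map (biproduct.π f j) ≫ inv (α.app (f j)) ≫ F.map (biproduct.ι f j)) ≫ α.app (⨁ f) =
        G.map (biproduct.π f j ≫ biproduct.ι f j) := by
      intro j
      rw [Category.assoc, Category.assoc, α.naturality, IsIso.inv_hom_id_assoc, Functor.map_comp]
    simp only [this]
    rw [← Functor.map_sum, biproduct.total, CategoryTheory.Functor.map_id]

theorem isIso_app_sigma (α : F ⟶ G) {J : Type} [Fintype J] (f : J → C) [HasBiproduct f]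
    [∀ j, IsIso (α.app (f j))] : IsIso (α.app (∐ f)) := by
  haveI := isIso_app_biproduct α f
  exact isIso_app_of_iso α (biproduct.isoCoproduct f).symm

/-- Version of `isIso_app_sigma` with an explicit hypothesis. -/
theorem isIso_app_sigma' (α : F ⟶ G) {J : Type} [Fintype J] (f : J → C) [HasBiproduct f]
    (h : ∀ j, IsIso (α.app (f j))) : IsIso (α.app (∐ f)) :=
  isIso_app_sigma α f

end Groth.Agent.Lib.H90NatTransBiprod
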