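import Groth.Agent.Lib.H90UnitSections
import Groth.Agent.Lib.H90NatTransBiprod
import Groth.Agent.Lib.H90InvertiblePullback
import Mathlib.CategoryTheory.Abelian.Basic

/-!
# Finite locally free modules and the unit `E ⟶ j_* j^* E` (helper90)

* `secFunctor W : X.Modules ⥤ Ab` (additive), `resNat`, `bijective_map_congr`.
* `bijective_res_freeMod`: restriction maps of `freeMod X n` are bijective when those of `O_X` are.
* `bijective_res_of_restrict_iso`: transport of bijectivity of restriction maps along `E|_V ≅ P`.
* `isIso_unit_of_isFinLocFree`: for `E` finite locally free and an open immersion `j` such that all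
  `Γ(X, W) → Γ(X, j(j⁻¹ W))` are bijective, `E ⟶ j_* j^* E` is an isomorphism.
-/

set_option autoImplicit false
universe u

open CategoryTheory CategoryTheory.Limits AlgebraicGeometry TopologicalSpace Opposite
open AlgebraicGeometry.Scheme AlgebraicGeometry.Scheme.Modules
open Groth.Agent.Lib.H90OXModLocal Groth.Agent.Lib.H90NatTransBiprod

namespace Groth.Agent.Lib.H90Invertible

variable {X : Scheme.{u}}

/-- Bijectivity of a restriction map of a module only depends on the opens. -/
theorem bijective_map_congr (E : X.Modules) {A B A' B' : X.Opens} (h : A ≤ B) (h' : A' ≤ B')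
    (eA : A = A') (eB : B = B') :
    Function.Bijective (E.presheaf.map (homOfLE h).op) ↔
      Function.Bijective (E.presheaf.map (homOfLE h').op) := by
  subst eA eB
  rfl

/-- Sections over `W` as an additive functor. -/
noncomputable def secFunctor (W : X.Opens) : X.Modules ⥤ Ab :=
  Modules.toPresheaf X ⋙ (CategoryTheory.evaluation _ _).obj (op W)

instance (W : X.Opens) : (secFunctor W).Additive where
  map_add := rfl

/-- Restriction of sections as a natural transformation. -/
noncomputable def resNat {W₁ W₂ : X.Opens} (h : W₂ ≤ W₁) : secFunctor W₁ ⟶ secFunctor W₂ :=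
  Functor.whiskerLeft (Modules.toPresheaf X) ((CategoryTheory.evaluation _ _).map (homOfLE h).op)

theorem resNat_app {W₁ W₂ : X.Opens} (h : W₂ ≤ W₁) (M : X.Modules) :
    (resNat h).app M = M.presheaf.map (homOfLE h).op := rfl

/-- For a free module of finite rank, a restriction map is bijective as soon as the corresponding
restriction map of functions is. -/
theorem bijective_res_freeMod (n : ℕ) {W₁ W₂ : X.Opens} (h : W₂ ≤ W₁)
    (hb : Function.Bijective (X.presheaf.map (homOfLE h).op)) :
    Function.Bijective ((FlatMod.freeMod X n).presheaf.map (homOfLE h).op) := by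
  have h1 : ∀ _ : Fin n, IsIso ((resNat h).app (Coh.structureModule X)) := fun _ => by
    rw [resNat_app]
    exact (ConcreteCategory.isIso_iff_bijective _).mpr hb
  haveI : HasFiniteBiproducts X.Modules := Abelian.hasFiniteBiproducts
  haveI : HasBiproduct (fun _ : Fin n => Coh.structureModule X) := inferInstance
  have := isIso_app_sigma' (resNat h) (fun _ : Fin n => Coh.structureModule X) h1
  rw [resNat_app] at this
  exact (ConcreteCategory.isIso_iff_bijective _).mp this

/-- Transport of bijectivity of restriction maps along a local isomorphism `E|_V ≅ P`. -/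
theorem bijective_res_of_restrict_iso (E : X.Modules) (V : X.Opens) (P : (V : Scheme.{u}).Modules)
    (e : E.restrict V.ι ≅ P) {W₁ W₂ : X.Opens} (h : W₂ ≤ W₁) (hV : W₁ ≤ V)
    (hb : Function.Bijective (P.presheaf.map (homOfLE (V.ι.preimage_mono h)).op)) :
    Function.Bijective (E.presheaf.map (homOfLE h).op) := by
  have h' : V.ι ⁻¹ᵁ W₂ ≤ V.ι ⁻¹ᵁ W₁ := V.ι.preimage_mono h
  have b1 : Function.Bijective (e.hom.app (V.ι ⁻¹ᵁ W₁)) :=
    (ConcreteCategory.isIso_iff_bijective _).mp inferInstance
  have b2 : Function.Bijective (e.hom.app (V.ι ⁻¹ᵁ W₂)) :=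
    (ConcreteCategory.isIso_iff_bijective _).mp inferInstance
  have step1 : Function.Bijective ((E.restrict V.ι).presheaf.map (homOfLE h').op) := by
    rw [← Function.Bijective.of_comp_iff' b2]
    have : (e.hom.app (V.ι ⁻¹ᵁ W₂)) ∘ ((E.restrict V.ι).presheaf.map (homOfLE h').op) =
        (P.presheaf.map (homOfLE h').op) ∘ (e.hom.app (V.ι ⁻¹ᵁ W₁)) := by
      funext s
      exact NatTrans.naturality_apply e.hom.mapPresheaf (homOfLE h').op s
    rw [this]
    exact hb.comp b1
  have step2 : Function.Bijective (E.presheaf.map (homOfLE (V.ι.image_mono h')).op) := step1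
  rwa [bijective_map_congr E _ h (ι_image_preimage_of_le (h.trans hV))
    (ι_image_preimage_of_le hV)] at step2

section Unit

variable {Y : Scheme.{u}} (j : Y ⟶ X) [IsOpenImmersion j]

/-- For a finite locally free module `E`: if restriction of functions `Γ(X, W) → Γ(X, j(j⁻¹ W))` is
bijective for all opens `W`, then the unit `E ⟶ j_* j^* E` is an isomorphism. -/
theorem isIso_unit_of_isFinLocFree (E : X.Modules) (hE : FlatMod.IsFinLocFree E)
    (h : ∀ W : X.Opens, Function.Bijective (X.presheaf.map (homOfLE (j.image_preimage_le W)).op)) :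
    IsIso ((restrictAdjunction j).unit.app E) := by
  choose V n hxV e using hE
  have hV : ⨆ x, V x = ⊤ := by
    rw [eq_top_iff]
    intro x _
    exact TopologicalSpace.Opens.mem_iSup.mpr ⟨x, hxV x⟩
  refine isIso_unit_of_small j hV E (fun W ⟨x, hW⟩ => ?_)
  refine bijective_res_of_restrict_iso E (V x) _ (e x).some (j.image_preimage_le W) hW ?_
  refine bijective_res_freeMod (n x) _ ?_
  have key : Function.Bijective (X.presheaf.map (homOfLE ((V x).ι.image_mono
      ((V x).ι.preimage_mono (j.image_preimage_le W)))).op) := by
    rw [bijective_res_congr _ (j.image_preimage_le W)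
      (ι_image_preimage_of_le ((j.image_preimage_le W).trans hW)) (ι_image_preimage_of_le hW)]
    exact h W
  exact key

end Unit

end Groth.Agent.Lib.H90Invertible
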