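import Groth.Agent.Lib.H78PullSec
import Groth.Agent.Lib.IdealMod2
import Groth.Agent.Lib.H90FinLocFreeUnit

/-!
# The unit `M ⟶ f_* f^* M` on finite locally free modules when `O_Y ≅ f_* O_X` (helper42)

For `f : X ⟶ Y` with `f.app U` bijective for all opens `U` of `Y`:

* `bijective_pb_of_isIso_unit`, `isIso_unit_of_bijective_pb`: the unit at `M` is an isomorphism iff
  pullback of sections `Γ(M, W) → Γ(f^*M, f⁻¹W)` (`H78PullSec.pb`) is bijective over (a basis of) opens.
* `bijective_pb_of_restrict`: bijectivity of `pb f M` over `V' ≤ V` follows from that of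
  `pb (f ∣_ V) (M|_V)`.
* `isIso_unit_structureModule`, `isIso_unit_of_iso_freeMod`, `isIso_unit_of_isFinLocFree`.
* `bijective_pullback_map`: `f^*` is fully faithful from `Hom(N, N')` for `N'` finite locally free.
* `isIso_counit_pullback`: the counit at `f^* M` is an isomorphism for `M` finite locally free.
-/

set_option autoImplicit false
set_option linter.style.haveILetI false
universe u
open CategoryTheory CategoryTheory.Limits AlgebraicGeometry Opposite TopologicalSpace
open Groth.Agent.Lib.H90Invertible Groth.Agent.Lib.StructureModule Groth.Agent.Lib.H78TensorGen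
open Groth.Agent.Lib.H78SecCoord Groth.Agent.Lib.H78PullSec Groth.Agent.Lib.H78Restrict
open Groth.Agent.Lib.ModPullback

namespace Groth.Agent.Lib.UnitFinLocFree

variable {X Y : Scheme.{u}} (f : X ⟶ Y)

/-- restriction between equal opens is bijective -/
lemma bijective_rs_of_eq (M : X.Modules) {V W : X.Opens} (h : W = V) :
    Function.Bijective (fun x : Γ(M, V) => rs M h.le x) := by
  subst h
  have : (fun x : Γ(M, W) => rs M le_rfl x) = id := funext fun x => rs_self M x
  rw [this]
  exact Function.bijective_id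

/-- if the unit at `M` is an isomorphism, pullback of sections is bijective over every open -/
theorem bijective_pb_of_isIso_unit (M : Y.Modules)
    [IsIso ((Scheme.Modules.pullbackPushforwardAdjunction f).unit.app M)] (W : Y.Opens) :
    Function.Bijective (fun m : Γ(M, W) => pb f M m) := by
  have h1 : IsIso (((Scheme.Modules.pullbackPushforwardAdjunction f).unit.app M).app W) :=
    Scheme.Modules.Hom.isIso_iff_isIso_app.mp inferInstance W
  exact (ConcreteCategory.isIso_iff_bijective _).mp h1

/-- if pullback of sections is bijective over a basis of opens, the unit at `M` is an isomorphism -/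
theorem isIso_unit_of_bijective_pb (M : Y.Modules) {ι : Type*} (B : ι → Y.Opens)
    (hB : Opens.IsBasis (Set.range B))
    (h : ∀ i, Function.Bijective (fun m : Γ(M, B i) => pb f M m)) :
    IsIso ((Scheme.Modules.pullbackPushforwardAdjunction f).unit.app M) :=
  Groth.Agent.Lib.IdealMod.isIso_of_bijective_on_basis _ B hB h

/-- bijectivity of pullback of sections over `V' ≤ V` can be checked after restricting to `V` -/
theorem bijective_pb_of_restrict (M : Y.Modules) (V : Y.Opens) {V' : Y.Opens} (hV' : V' ≤ V)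
    (h : Function.Bijective (fun m : Γ(M.restrict V.ι, V.ι ⁻¹ᵁ V') => pb (f ∣_ V) (M.restrict V.ι) m)) :
    Function.Bijective (fun m : Γ(M, V') => pb f M m) := by
  have e1 : V.ι ''ᵁ (V.ι ⁻¹ᵁ V') = V' := by
    rw [Scheme.Hom.image_preimage_eq_opensRange_inf, Scheme.Opens.opensRange_ι]
    exact inf_eq_right.mpr hV'
  have e2 : (f ⁻¹ᵁ V).ι ''ᵁ ((f ⁻¹ᵁ V).ι ⁻¹ᵁ (f ⁻¹ᵁ V')) = f ⁻¹ᵁ V' := by
    rw [Scheme.Hom.image_preimage_eq_opensRange_inf, Scheme.Opens.opensRange_ι]
    exact inf_eq_right.mpr (f.preimage_mono hV')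
  have b1 := bijective_rs_of_eq M e1
  have b2 := bijective_rs_of_eq ((Scheme.Modules.pullback f).obj M) e2
  have b3 := bijective_rs_of_eq ((Scheme.Modules.pullback (f ∣_ V)).obj (M.restrict V.ι))
    (preimage_eq f V V')
  have b4 : Function.Bijective ((restrictPullbackIso f V M).hom.app ((f ⁻¹ᵁ V).ι ⁻¹ᵁ (f ⁻¹ᵁ V'))) := by
    have : IsIso ((restrictPullbackIso f V M).hom.app ((f ⁻¹ᵁ V).ι ⁻¹ᵁ (f ⁻¹ᵁ V'))) :=
      Scheme.Modules.Hom.isIso_iff_isIso_app.mp inferInstance _
    exact (ConcreteCategory.isIso_iff_bijective _).mp this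
  have sq : ∀ m : Γ(M, V'),
      (restrictPullbackIso f V M).hom.app ((f ⁻¹ᵁ V).ι ⁻¹ᵁ (f ⁻¹ᵁ V'))
        (toR (f ⁻¹ᵁ V).ι _ _ (rs _ e2.le (pb f M m))) =
      rs _ (le_of_eq (preimage_eq f V V'))
        (pb (f ∣_ V) (M.restrict V.ι) (toR V.ι M (V.ι ⁻¹ᵁ V') (rs M e1.le m))) :=
    fun m => restrictPullbackIso_pb f V M m
  have hL : Function.Bijective (fun m : Γ(M, V') =>
      (restrictPullbackIso f V M).hom.app ((f ⁻¹ᵁ V).ι ⁻¹ᵁ (f ⁻¹ᵁ V'))
        (toR (f ⁻¹ᵁ V).ι _ _ (rs _ e2.le (pb f M m)))) := by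
    have : (fun m : Γ(M, V') =>
      (restrictPullbackIso f V M).hom.app ((f ⁻¹ᵁ V).ι ⁻¹ᵁ (f ⁻¹ᵁ V'))
        (toR (f ⁻¹ᵁ V).ι _ _ (rs _ e2.le (pb f M m)))) =
      (fun x => rs _ (le_of_eq (preimage_eq f V V')) x) ∘
        (fun m : Γ(M.restrict V.ι, V.ι ⁻¹ᵁ V') => pb (f ∣_ V) (M.restrict V.ι) m) ∘
        (fun m : Γ(M, V') => toR V.ι M (V.ι ⁻¹ᵁ V') (rs M e1.le m)) := funext sq
    rw [this]
    exact b3.comp (h.comp b1)
  have hL' : Function.Bijective ((fun x => (restrictPullbackIso f V M).hom.app
      ((f ⁻¹ᵁ V).ι ⁻¹ᵁ (f ⁻¹ᵁ V')) x) ∘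
      (fun x : Γ((Scheme.Modules.pullback f).obj M, f ⁻¹ᵁ V') =>
        toR (f ⁻¹ᵁ V).ι _ _ (rs _ e2.le x)) ∘ (fun m : Γ(M, V') => pb f M m)) := hL
  have hL'' := (Function.Bijective.of_comp_iff' b4 _).mp hL'
  exact (Function.Bijective.of_comp_iff' b2 _).mp hL''

/-- the unit at the structure sheaf -/
theorem isIso_unit_structureModule (hf : ∀ U : Y.Opens, Function.Bijective (f.app U)) :
    IsIso ((Scheme.Modules.pullbackPushforwardAdjunction f).unit.app (Coh.structureModule Y)) := by
  refine isIso_unit_of_bijective_pb f _ (fun W : Y.Opens => W) ?_ (fun W => ?_)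
  · rw [Set.range_id']
    exact Opens.isBasis_iff_nbhd.mpr fun {U x} hx => ⟨U, trivial, hx, le_rfl⟩
  · have b1 : Function.Bijective ((unitHom f).app (f ⁻¹ᵁ W)) := by
      have : IsIso ((unitHom f).app (f ⁻¹ᵁ W)) :=
        Scheme.Modules.Hom.isIso_iff_isIso_app.mp inferInstance _
      exact (ConcreteCategory.isIso_iff_bijective _).mp this
    have b2 := toSec_bijective (X := Y) W
    have b3 := toSec_bijective (X := X) (f ⁻¹ᵁ W)
    have hcomp : (fun x => (unitHom f).app (f ⁻¹ᵁ W) x) ∘
        (fun m : Γ(Coh.structureModule Y, W) => pb f _ m) ∘ (toSec W) =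
        (toSec (f ⁻¹ᵁ W)) ∘ (fun a => f.app W a) := funext fun a => unitHom_pb f W a
    have h1 : Function.Bijective ((fun x => (unitHom f).app (f ⁻¹ᵁ W) x) ∘
        (fun m : Γ(Coh.structureModule Y, W) => pb f _ m) ∘ (toSec W)) := by
      rw [hcomp]; exact b3.comp (hf W)
    have h2 := (Function.Bijective.of_comp_iff' b1 _).mp h1
    exact (Function.Bijective.of_comp_iff _ b2).mp h2

instance : (Scheme.Modules.pullback f).Additive :=
  (Scheme.Modules.pullbackPushforwardAdjunction f).left_adjoint_additive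

instance : (Scheme.Modules.pushforward f).Additive :=
  (Scheme.Modules.pullbackPushforwardAdjunction f).right_adjoint_additive

/-- the unit at a free module of finite rank -/
theorem isIso_unit_of_iso_freeMod (hf : ∀ U : Y.Opens, Function.Bijective (f.app U))
    {N : Y.Modules} {n : ℕ} (e : N ≅ FlatMod.freeMod Y n) :
    IsIso ((Scheme.Modules.pullbackPushforwardAdjunction f).unit.app N) := by
  have h0 := isIso_unit_structureModule f hf
  haveI : HasFiniteBiproducts Y.Modules := Abelian.hasFiniteBiproducts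
  haveI : HasBiproduct (fun _ : Fin n => Coh.structureModule Y) := inferInstance
  haveI := Groth.Agent.Lib.H90NatTransBiprod.isIso_app_sigma'
    (Scheme.Modules.pullbackPushforwardAdjunction f).unit (fun _ : Fin n => Coh.structureModule Y)
    (fun _ => h0)
  exact Groth.Agent.Lib.H90NatTransBiprod.isIso_app_of_iso
    (Scheme.Modules.pullbackPushforwardAdjunction f).unit e

/-- the hypothesis `O_Y ≅ f_* O_X` restricts to opens of the base -/
theorem bijective_morphismRestrict_app (hf : ∀ U : Y.Opens, Function.Bijective (f.app U))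
    (V : Y.Opens) (U' : V.toScheme.Opens) : Function.Bijective ((f ∣_ V).app U') := by
  rw [morphismRestrict_app]
  have h1 := hf (V.ι ''ᵁ U')
  have h2 : Function.Bijective (X.presheaf.map
      (eqToHom (image_morphismRestrict_preimage f V U')).op) := by
    have : IsIso (X.presheaf.map (eqToHom (image_morphismRestrict_preimage f V U')).op) :=
      inferInstance
    exact (ConcreteCategory.isIso_iff_bijective _).mp this
  exact h2.comp h1

/-- **the unit `M ⟶ f_* f^* M` is an isomorphism for `M` finite locally free when `O_Y ≅ f_* O_X`** -/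
theorem isIso_unit_of_isFinLocFree (hf : ∀ U : Y.Opens, Function.Bijective (f.app U))
    {M : Y.Modules} (hM : FlatMod.IsFinLocFree M) :
    IsIso ((Scheme.Modules.pullbackPushforwardAdjunction f).unit.app M) := by
  choose V n hxV e using hM
  refine isIso_unit_of_bijective_pb f M
    (fun W : {W : Y.Opens // ∃ x, W ≤ V x} => W.1) ?_ (fun W => ?_)
  · refine Opens.isBasis_iff_nbhd.mpr fun {U x} hx => ?_
    exact ⟨U ⊓ V x, ⟨⟨U ⊓ V x, x, inf_le_right⟩, rfl⟩, ⟨hx, hxV x⟩, inf_le_left⟩
  · obtain ⟨W, x, hW⟩ := W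
    refine bijective_pb_of_restrict f M (V x) hW ?_
    haveI := isIso_unit_of_iso_freeMod (f ∣_ V x) (bijective_morphismRestrict_app f hf (V x))
      (e x).some
    exact bijective_pb_of_isIso_unit (f ∣_ V x) (M.restrict (V x).ι) _

/-- `f^*` is fully faithful on morphisms into a finite locally free module when `O_Y ≅ f_* O_X` -/
theorem bijective_pullback_map (hf : ∀ U : Y.Opens, Function.Bijective (f.app U))
    (N N' : Y.Modules) (hN' : FlatMod.IsFinLocFree N') :
    Function.Bijective (fun φ : N ⟶ N' => (Scheme.Modules.pullback f).map φ) := by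
  haveI := isIso_unit_of_isFinLocFree f hf hN'
  let adj := Scheme.Modules.pullbackPushforwardAdjunction f
  have h1 : Function.Bijective (fun φ : N ⟶ N' => φ ≫ adj.unit.app N') :=
    ⟨fun a b hab => (cancel_mono (adj.unit.app N')).mp hab,
      fun ψ => ⟨ψ ≫ inv (adj.unit.app N'), by simp⟩⟩
  have h2 : (fun φ : N ⟶ N' => (Scheme.Modules.pullback f).map φ) =
      (adj.homEquiv N ((Scheme.Modules.pullback f).obj N')).symm ∘
        (fun φ : N ⟶ N' => φ ≫ adj.unit.app N') := by
    funext φ
    change _ = (adj.homEquiv N ((Scheme.Modules.pullback f).obj N')).symm (φ ≫ adj.unit.app N')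
    rw [Equiv.eq_symm_apply, Adjunction.homEquiv_unit]
    exact (adj.unit.naturality φ).symm
  rw [h2]
  exact (Equiv.bijective _).comp h1

/-- the counit at `f^* M` is an isomorphism for `M` finite locally free when `O_Y ≅ f_* O_X` -/
theorem isIso_counit_pullback (hf : ∀ U : Y.Opens, Function.Bijective (f.app U))
    {M : Y.Modules} (hM : FlatMod.IsFinLocFree M) :
    IsIso ((Scheme.Modules.pullbackPushforwardAdjunction f).counit.app
      ((Scheme.Modules.pullback f).obj M)) := by
  haveI := isIso_unit_of_isFinLocFree f hf hM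
  let adj := Scheme.Modules.pullbackPushforwardAdjunction f
  have h := adj.left_triangle_components M
  haveI : IsIso ((Scheme.Modules.pullback f).map (adj.unit.app M)) := inferInstance
  exact IsIso.of_isIso_fac_left h

end Groth.Agent.Lib.UnitFinLocFree
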