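/-
helper42: the counit `f^*f_*F ⟶ F` and global generation over the base.
* `epi_counit_of_locally_globGen`: if every point `x` of `X` has an open `U ∋ f x` of `S` with `F|_{f⁻¹U}` globally
  generated, then the counit `f^*f_*F ⟶ F` is an epimorphism (no hypotheses on `f`, `F`).
* `isGloballyGenerated_restrict_of_epi_counit`: conversely for `f` qcqs, `F` quasi-coherent and `U` affine.
* `quasiSeparated_of_forall_affine`.
-/
import Groth.Agent.S10869

set_option autoImplicit false
universe u
open CategoryTheory CategoryTheory.Limits AlgebraicGeometry Opposite TopologicalSpace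

namespace Groth.Agent.Lib.CounitEpi

variable {X S : Scheme.{u}} (f : X ⟶ S)

theorem epi_counit_of_locally_globGen (F : X.Modules)
    (h : ∀ x : X, ∃ U : S.Opens, f x ∈ U ∧ Curv2.IsGloballyGenerated (F.restrict (f ⁻¹ᵁ U).ι)) :
    Epi ((Scheme.Modules.pullbackPushforwardAdjunction f).counit.app F) := by
  apply Groth.Agent.Lib.IdealMod.epi_of_locally_surjective
  intro W s x hx
  obtain ⟨U, hxU, hU⟩ := h x
  have hsurj : Function.Surjective
      (((Scheme.Modules.pullbackPushforwardAdjunction f).counit.app F).app ((f ⁻¹ᵁ U).ι ''ᵁ ⊤)) := by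
    have e : (f ⁻¹ᵁ U).ι ''ᵁ ⊤ = f ⁻¹ᵁ U := Scheme.Opens.ι_image_top _
    rw [e]
    intro σ
    exact ⟨_, Groth.Agent.S12057.counit_pb f F U σ⟩
  obtain ⟨V, hVW, hxV, t, ht⟩ :=
    Groth.Agent.Lib.GlobGenLocal.exists_preimage_of_restrict_globGen (f ⁻¹ᵁ U).ι
      ((Scheme.Modules.pullbackPushforwardAdjunction f).counit.app F) hU hsurj W s
      ⟨x, hxU⟩ hx
  exact ⟨V, hVW, hxV, t, ht⟩

theorem isGloballyGenerated_restrict_of_epi_counit [QuasiCompact f] [QuasiSeparated f] (F : X.Modules)
    (hF : Coh.IsQCoh F) (h : Epi ((Scheme.Modules.pullbackPushforwardAdjunction f).counit.app F))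
    (U : S.Opens) (hU : IsAffineOpen U) : Curv2.IsGloballyGenerated (F.restrict (f ⁻¹ᵁ U).ι) :=
  (Groth.Agent.S10869.result f F hF).2.mp h U hU

set_option backward.isDefEq.respectTransparency false in
/-- a morphism is quasi-separated if the preimages of affine opens are quasi-separated -/
theorem quasiSeparated_of_forall_affine
    (h : ∀ U : S.affineOpens, QuasiSeparatedSpace ↥((f ⁻¹ᵁ U.1 : X.Opens) : Scheme.{u})) :
    QuasiSeparated f := by
  rw [HasAffineProperty.eq_targetAffineLocally (P := @QuasiSeparated)]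
  intro U
  exact h U

end Groth.Agent.Lib.CounitEpi
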