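import Mathlib.LinearAlgebra.Span.Basic
import Mathlib.Algebra.Module.LinearMap.End
import Mathlib.Algebra.BigOperators.Group.List.Basic
import Mathlib.Tactic.LinearCombination
import Mathlib.Tactic.Abel

/-!
# Fixed vectors of a product of "reflections" with independent "coroots"

Abstract linear algebra: `S i y = y - a i y • c i`, with linear functionals dual to the `c i`.
If a product of the `S i` along a duplicate-free list fixes `H`, then every `a i` kills `H`.
-/

namespace Groth.Agent.Lib.CoxeterFixed

variable {k W ι : Type*} [CommRing k] [AddCommGroup W] [Module k W]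

theorem prod_sub_mem_span (a : ι → W →ₗ[k] k) (c : ι → W)
    (S : ι → Module.End k W) (hS : ∀ i y, S i y = y - a i y • c i)
    (l : List ι) (z : W) :
    (l.map S).prod z - z ∈ Submodule.span k (c '' {j | j ∈ l}) := by
  induction l generalizing z with
  | nil => simp
  | cons i l ih =>
    rw [List.map_cons, List.prod_cons, Module.End.mul_apply, hS]
    have h1 : (l.map S).prod z - z ∈ Submodule.span k (c '' {j | j ∈ i :: l}) := by
      refine Submodule.span_mono ?_ (ih z)
      apply Set.image_mono
      intro j hj
      exact List.mem_cons_of_mem _ hj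
    have h2 : c i ∈ Submodule.span k (c '' {j | j ∈ i :: l}) :=
      Submodule.subset_span ⟨i, List.mem_cons_self, rfl⟩
    have : (l.map S).prod z - a i ((l.map S).prod z) • c i - z
        = ((l.map S).prod z - z) - a i ((l.map S).prod z) • c i := by abel
    rw [this]
    exact Submodule.sub_mem _ h1 (Submodule.smul_mem _ _ h2)

theorem apply_eq_zero_of_prod_fixed (a : ι → W →ₗ[k] k) (c : ι → W) (supp : Set ι)
    (hω : ∀ i ∈ supp, ∃ ω : W →ₗ[k] k, ω (c i) = 1 ∧ ∀ j ∈ supp, j ≠ i → ω (c j) = 0)
    (S : ι → Module.End k W) (hS : ∀ i y, S i y = y - a i y • c i)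
    (l : List ι) (hl : l.Nodup) (hls : ∀ i ∈ l, i ∈ supp) (H : W)
    (hH : (l.map S).prod H = H) : ∀ i ∈ l, a i H = 0 := by
  induction l generalizing H with
  | nil => intro i hi; simp at hi
  | cons i l ih =>
    rw [List.nodup_cons] at hl
    obtain ⟨hil, hl'⟩ := hl
    have hi_supp : i ∈ supp := hls i List.mem_cons_self
    have hl_supp : ∀ j ∈ l, j ∈ supp := fun j hj => hls j (List.mem_cons_of_mem _ hj)
    obtain ⟨ω, hω1, hω0⟩ := hω i hi_supp
    set y := (l.map S).prod H with hy
    rw [List.map_cons, List.prod_cons, Module.End.mul_apply, ← hy, hS] at hH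
    -- ω kills the span of the c j, j ∈ l
    have hker : Submodule.span k (c '' {j | j ∈ l}) ≤ LinearMap.ker ω := by
      rw [Submodule.span_le]
      rintro _ ⟨j, hj, rfl⟩
      have hji : j ≠ i := fun h => hil (h ▸ hj)
      exact hω0 j (hl_supp j hj) hji
    have hyH : ω (y - H) = 0 := hker (prod_sub_mem_span a c S hS l H)
    have h1 : ω (y - a i y • c i) = ω H := by rw [hH]
    rw [map_sub, map_smul, hω1, smul_eq_mul, mul_one] at h1
    rw [map_sub] at hyH
    have hay : a i y = 0 := by linear_combination hyH - h1
    rw [hay, zero_smul, sub_zero] at hH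
    intro j hj
    rcases List.mem_cons.mp hj with rfl | hj'
    · rw [← hH]; exact hay
    · exact ih hl' hl_supp H (hy ▸ hH) j hj'

end Groth.Agent.Lib.CoxeterFixed
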