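import Groth.Agent.Lib.FinDimRel53b

/-!
# Brodmann–Sharp 9.3.7: `f_a^b(M) ≤ λ_a^b(M)`, the induction (helper53)
-/

set_option maxHeartbeats 400000
set_option linter.unusedSectionVars false
universe u

namespace Groth.Agent.Lib.FinDimRel53
open Groth.Agent.Lib.LocCohLES Groth.Agent.Lib.DimIneqCore Groth.Agent.Lib.AdjDepth53

section dpos
variable {R : Type u} [CommRing R] [IsNoetherianRing R] (a b : Ideal R)
  (M : Type u) [AddCommGroup M] [Module R M] [Module.Finite R M] (p : PrimeSpectrum R)

/-- `depth M_p = d + 1`: kill the kernel of `M → M_p`, then divide by a regular element of `p`. -/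
theorem case_dpos (hb : ¬ b ≤ p.asIdeal) (d h : ℕ)
    (hd : LocCoh.depth (Localization.AtPrime p.asIdeal)
      (LocalizedModule p.asIdeal.primeCompl M) = ((d + 1 : ℕ) : ℕ∞))
    (IH : ∀ (M'' : Type u) [AddCommGroup M''] [Module R M''] [Module.Finite R M'']
      (b' : Ideal R), ¬ b' ≤ p.asIdeal →
      LocCoh.depth (Localization.AtPrime p.asIdeal)
        (LocalizedModule p.asIdeal.primeCompl M'') = d →
      ∃ i, i ≤ d + h ∧ ¬ b' ≤ (Module.annihilator R (LocCoh.H a i M'')).radical) :
    ∃ i, i ≤ d + 1 + h ∧ ¬ b ≤ (Module.annihilator R (LocCoh.H a i M)).radical := by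
  by_contra hcon
  push Not at hcon
  obtain ⟨u, hup, hu⟩ := exists_smul_K_eq_zero p.asIdeal M
  have hd' : LocCoh.depth (Localization.AtPrime p.asIdeal)
      (LocalizedModule p.asIdeal.primeCompl (M ⧸ K p.asIdeal M)) = ((d + 1 : ℕ) : ℕ∞) := by
    rw [depth_quotient_K]
    exact hd
  haveI hnt : Nontrivial (LocalizedModule p.asIdeal.primeCompl (M ⧸ K p.asIdeal M)) :=
    nontrivial_of_depth_ne_top _ (by rw [hd']; exact ENat.natCast_ne_top _)
  have hpass : p.asIdeal ∉ associatedPrimes R (M ⧸ K p.asIdeal M) := by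
    rw [Groth.Agent.Lib.ZClosed58.mem_associatedPrimes_iff_not_one_le_depth R _ p, not_not, hd']
    exact_mod_cast Nat.succ_le_succ (Nat.zero_le d)
  obtain ⟨x, hxp, hx⟩ := Groth.Agent.Lib.H8CM.exists_isSMulRegular_mem_of_forall_not_le
    (M := M ⧸ K p.asIdeal M) p.asIdeal (fun P hP hle => hpass
      ((le_antisymm (le_of_mem_associatedPrimes_quotient_K p.asIdeal M P hP) hle) ▸ hP))
  have hreg : RingTheory.Sequence.IsWeaklyRegular (M ⧸ K p.asIdeal M) [x] :=
    RingTheory.Sequence.IsWeaklyRegular.cons hx (RingTheory.Sequence.IsWeaklyRegular.nil _ _)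
  have hdq := Groth.Agent.Lib.H8LocTrans.depth_localizedModule_quotient_add_length
    (M := M ⧸ K p.asIdeal M) p.asIdeal [x] hreg (by simpa using hxp)
  rw [hd', List.length_singleton] at hdq
  have hd'' : LocCoh.depth (Localization.AtPrime p.asIdeal)
      (LocalizedModule p.asIdeal.primeCompl
        ((M ⧸ K p.asIdeal M) ⧸ Ideal.ofList [x] • (⊤ : Submodule R (M ⧸ K p.asIdeal M)))) =
      (d : ℕ∞) := by
    have hfin : LocCoh.depth (Localization.AtPrime p.asIdeal)
        (LocalizedModule p.asIdeal.primeCompl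
        ((M ⧸ K p.asIdeal M) ⧸ Ideal.ofList [x] • (⊤ : Submodule R (M ⧸ K p.asIdeal M)))) ≠ ⊤ := by
      intro htop
      rw [htop, top_add] at hdq
      exact ENat.natCast_ne_top _ hdq.symm
    obtain ⟨k, hk⟩ := ENat.ne_top_iff_exists.1 hfin
    rw [← hk] at hdq ⊢
    have : k + 1 = d + 1 := by exact_mod_cast hdq
    have : k = d := by omega
    rw [this]
  have hb' : ¬ b * Ideal.span {u} ≤ p.asIdeal := by
    intro hle
    rcases (Ideal.IsPrime.mul_le p.isPrime).1 hle with h1 | h1
    · exact hb h1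
    · exact hup (h1 (Ideal.mem_span_singleton_self u))
  obtain ⟨i, hi, hni⟩ := IH _ (b * Ideal.span {u}) hb' hd''
  apply hni
  have hM' : ∀ j, j ≤ d + 1 + h → b * Ideal.span {u} ≤
      (Module.annihilator R (LocCoh.H a j (M ⧸ K p.asIdeal M))).radical :=
    fun j hj => radAnn_quotient a b u (K p.asIdeal M) hu j (hcon j hj)
  exact radAnn_quotient_regular a _ x hx i (hM' i (by omega)) (hM' (i + 1) (by omega))

end dpos

section main
variable {R : Type u} [CommRing R] [IsNoetherianRing R] (a : Ideal R)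

theorem exists_not_le_radical : ∀ (h d : ℕ) (M : Type u) [AddCommGroup M] [Module R M]
    [Module.Finite R M] (b : Ideal R) (p : PrimeSpectrum R), ¬ b ≤ p.asIdeal →
    LocCoh.depth (Localization.AtPrime p.asIdeal)
      (LocalizedModule p.asIdeal.primeCompl M) = d →
    ((a ⊔ p.asIdeal).map (Ideal.Quotient.mk p.asIdeal)).height = h →
    ∃ i, i ≤ d + h ∧ ¬ b ≤ (Module.annihilator R (LocCoh.H a i M)).radical := by
  intro h
  induction h using Nat.strong_induction_on with
  | _ h IHh =>
    intro d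
    induction d with
    | zero =>
      intro M _ _ _ b p hb hd hh
      rcases Nat.eq_zero_or_pos h with rfl | hpos
      · exact case_h0 a b M p hb 0 hd (by exact_mod_cast hh)
      · have hass : p.asIdeal ∈ associatedPrimes R M := by
          rw [Groth.Agent.Lib.ZClosed58.mem_associatedPrimes_iff_not_one_le_depth R _ p, hd]
          simp
        rcases (Nat.succ_le_of_lt hpos).eq_or_lt with h1 | h2
        · subst h1
          exact ⟨1, le_refl _, Groth.Agent.S11648.result R a b M p.asIdeal hass hb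
            (by exact_mod_cast hh)⟩
        · obtain ⟨i, hi, hni⟩ := case_d0 a b M p hb h h2 (by exact_mod_cast hd) hh
            (fun t d' h' hlt hbt hd' hh' => IHh h' hlt d' M b t hbt hd' hh')
          exact ⟨i, by omega, hni⟩
    | succ d IHd =>
      intro M _ _ _ b p hb hd hh
      rcases Nat.eq_zero_or_pos h with rfl | hpos
      · exact case_h0 a b M p hb (d + 1) hd (by exact_mod_cast hh)
      · exact case_dpos a b M p hb d h hd
          (fun M'' _ _ _ b' hb' hd'' => IHd M'' b' p hb' hd'' hh)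

/-- **Brodmann–Sharp 9.3.7**. -/
theorem finDimRel_le_minAdjDepth (b : Ideal R) (M : Type u) [AddCommGroup M] [Module R M]
    [Module.Finite R M] : LocCoh.finDimRel a b M ≤ LocCoh.minAdjDepth a b M := by
  unfold LocCoh.minAdjDepth
  refine le_iInf₂ fun p hp => ?_
  by_cases htop : LocCoh.adjDepth a M p = ⊤
  · rw [htop]
    exact le_top
  · have hdfin : LocCoh.depth (Localization.AtPrime p.asIdeal)
        (LocalizedModule p.asIdeal.primeCompl M) ≠ ⊤ := by
      intro h
      apply htop
      unfold LocCoh.adjDepth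
      rw [h, top_add]
    have hhfin : ((a ⊔ p.asIdeal).map (Ideal.Quotient.mk p.asIdeal)).height ≠ ⊤ := by
      intro h
      apply htop
      unfold LocCoh.adjDepth
      rw [h, add_top]
    obtain ⟨d, hd⟩ := ENat.ne_top_iff_exists.1 hdfin
    obtain ⟨h, hh⟩ := ENat.ne_top_iff_exists.1 hhfin
    obtain ⟨i, hi, hni⟩ := exists_not_le_radical a h d M b p hp hd.symm hh.symm
    unfold LocCoh.adjDepth
    rw [← hd, ← hh]
    calc LocCoh.finDimRel a b M ≤ (i : ℕ∞) := iInf₂_le i hni
      _ ≤ _ := by exact_mod_cast hi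

end main

end Groth.Agent.Lib.FinDimRel53
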