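import Groth.Agent.Lib.Faltings53b
import Groth.Agent.Lib.FinDimRel53c
import Groth.Agent.Lib.LocCohFaltings
import Groth.Prelude.Def_SGA2

/-!
# Grothendieck's finiteness theorem for local cohomology (BS 9.5.2 / SGA2 VIII 2.3) (helper53)

`A` a quotient of a regular ring: `H^i_I(M)` is finite for all `i ≤ n` iff
`n < depth M_p + ht((I+p)/p)` for every prime `p ⊉ I`.  Bridging with `SGA2.relCodim`.
-/

set_option maxHeartbeats 400000
set_option linter.unusedSectionVars false
universe u

namespace Groth.Agent.Lib.GFT53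
open Groth.Agent.Lib.FinDimRel53 Groth.Agent.Lib.Faltings53 Groth.Agent.Lib.AdjDepth53
open Groth.Agent.Lib.DimIneqCore

section relCodim
variable {A : Type u} [CommRing A]

/-- the height of `q` in the poset of primes above `p` is the height of `q/p` in `A/p`. -/
theorem orderHeight_Ici_eq (p q : PrimeSpectrum A) (h : p ≤ q) :
    Order.height (⟨q, h⟩ : Set.Ici p) =
      (q.asIdeal.map (Ideal.Quotient.mk p.asIdeal)).height := by
  haveI hprime := isPrime_map_mk p.asIdeal q.asIdeal h
  have hQ : (q.asIdeal.map (Ideal.Quotient.mk p.asIdeal)).height =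
      Order.height (⟨q.asIdeal.map (Ideal.Quotient.mk p.asIdeal), hprime⟩ :
        PrimeSpectrum (A ⧸ p.asIdeal)) :=
    PrimeSpectrum.height_eq_orderHeight ⟨_, hprime⟩
  rw [hQ]
  apply le_antisymm
  · let g : Set.Ici p → PrimeSpectrum (A ⧸ p.asIdeal) := fun q' =>
      ⟨q'.1.asIdeal.map (Ideal.Quotient.mk p.asIdeal), isPrime_map_mk p.asIdeal q'.1.asIdeal q'.2⟩
    have hg : StrictMono g := by
      intro q₁ q₂ hlt
      exact map_mk_lt_map_mk p.asIdeal q₁.1.asIdeal q₂.1.asIdeal q₁.2 hlt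
    exact Order.height_le_height_apply_of_strictMono g hg ⟨q, h⟩
  · let f : PrimeSpectrum (A ⧸ p.asIdeal) → Set.Ici p := fun Q =>
      ⟨PrimeSpectrum.comap (Ideal.Quotient.mk p.asIdeal) Q, le_comap_mk p.asIdeal Q.asIdeal⟩
    have hf : StrictMono f := by
      intro Q₁ Q₂ hlt
      exact comap_mk_lt_comap_mk p.asIdeal hlt
    have h1 := Order.height_le_height_apply_of_strictMono f hf
      ⟨q.asIdeal.map (Ideal.Quotient.mk p.asIdeal), hprime⟩
    have h2 : f ⟨q.asIdeal.map (Ideal.Quotient.mk p.asIdeal), hprime⟩ = ⟨q, h⟩ :=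
      Subtype.ext (PrimeSpectrum.ext (comap_map_mk_eq p.asIdeal q.asIdeal h))
    rw [h2] at h1
    exact h1

/-- `c(p) = ht((I+p)/p)`. -/
theorem relCodim_eq (I : Ideal A) (p : PrimeSpectrum A) :
    SGA2.relCodim I p = ((I ⊔ p.asIdeal).map (Ideal.Quotient.mk p.asIdeal)).height := by
  unfold SGA2.relCodim
  apply le_antisymm
  · rw [Ideal.height_eq_inf_minimalPrimes]
    refine le_iInf₂ fun Q hQ => ?_
    haveI : Q.IsPrime := hQ.1.1
    have hle : I ⊔ p.asIdeal ≤ Q.comap (Ideal.Quotient.mk p.asIdeal) :=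
      Ideal.map_le_iff_le_comap.1 hQ.1.2
    have hpq : p ≤ (⟨Q.comap (Ideal.Quotient.mk p.asIdeal), Ideal.IsPrime.comap _⟩ :
        PrimeSpectrum A) := le_sup_right.trans hle
    refine le_trans (iInf_le _ ⟨⟨Q.comap (Ideal.Quotient.mk p.asIdeal), Ideal.IsPrime.comap _⟩,
      hpq, le_sup_left.trans hle⟩) ?_
    rw [orderHeight_Ici_eq]
    change ((Q.comap (Ideal.Quotient.mk p.asIdeal)).map (Ideal.Quotient.mk p.asIdeal)).height ≤ _
    rw [Ideal.map_comap_of_surjective _ Ideal.Quotient.mk_surjective]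
  · refine le_iInf fun q => ?_
    rw [orderHeight_Ici_eq]
    exact Ideal.height_mono (Ideal.map_mono (sup_le q.2.2 q.2.1))

theorem adjDepth_eq_relCodim (I : Ideal A) (M : Type u) [AddCommGroup M] [Module A M]
    (p : PrimeSpectrum A) :
    LocCoh.adjDepth I M p =
      LocCoh.depth (Localization.AtPrime p.asIdeal) (LocalizedModule p.asIdeal.primeCompl M) +
        SGA2.relCodim I p := by
  rw [relCodim_eq]
  rfl

end relCodim

section gft
variable (R : Type u) [CommRing R] [IsRegularRing R] (A : Type u) [CommRing A]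
  [IsNoetherianRing A] (π : R →+* A) (hπ : Function.Surjective π) (I : Ideal A)
  (M : Type u) [AddCommGroup M] [Module A M] [Module.Finite A M] (n : ℕ)

omit [IsRegularRing R] in
/-- the direction that holds over any Noetherian ring. -/
theorem lt_adjDepth_of_finite (h : ∀ i : ℕ, i ≤ n → Module.Finite A (LocCoh.H I i M))
    (p : PrimeSpectrum A) (hp : ¬ I ≤ p.asIdeal) : (n : ℕ∞) < LocCoh.adjDepth I M p := by
  obtain ⟨k, -, hk⟩ := Groth.Agent.Lib.LocCohFaltings.exists_pow_annihilates_of_finite_H I M n h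
  have h1 : ((n + 1 : ℕ) : ℕ∞) ≤ LocCoh.finDimRel I I M := by
    unfold LocCoh.finDimRel
    refine le_iInf₂ fun i hi => ?_
    by_contra hlt
    rw [not_le] at hlt
    have hin : i ≤ n := by
      have : i < n + 1 := by exact_mod_cast hlt
      omega
    apply hi
    rw [le_radical_annihilator_iff]
    exact fun e he => ⟨k, hk i hin (e ^ k) (Ideal.pow_mem_pow he k)⟩
  have h2 := finDimRel_le_minAdjDepth I I M
  have h3 : LocCoh.minAdjDepth I I M ≤ LocCoh.adjDepth I M p := iInf₂_le p hp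
  have h4 := le_trans h1 (le_trans h2 h3)
  refine lt_of_lt_of_le ?_ h4
  exact_mod_cast Nat.lt_succ_self n

include hπ in
/-- **Grothendieck's finiteness theorem** for a quotient of a regular ring. -/
theorem finite_H_iff_lt_adjDepth :
    (∀ i : ℕ, i ≤ n → Module.Finite A (LocCoh.H I i M)) ↔
      ∀ p : PrimeSpectrum A, ¬ I ≤ p.asIdeal → (n : ℕ∞) < LocCoh.adjDepth I M p := by
  refine ⟨fun h p hp => lt_adjDepth_of_finite A I M n h p hp, fun h => ?_⟩
  have h1 : ((n + 1 : ℕ) : ℕ∞) ≤ LocCoh.minAdjDepth I I M := by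
    unfold LocCoh.minAdjDepth
    refine le_iInf₂ fun p hp => ?_
    have := h p hp
    rw [Nat.cast_succ]
    exact Order.add_one_le_of_lt this
  have h2 := le_trans h1 (minAdjDepth_le_finDimRel R A π hπ I I M)
  have hrad : ∀ i : ℕ, i ≤ n → I ≤ (Module.annihilator A (LocCoh.H I i M)).radical := by
    intro i hi
    by_contra hnot
    have h3 : LocCoh.finDimRel I I M ≤ (i : ℕ∞) := iInf₂_le i hnot
    have h4 : ((n + 1 : ℕ) : ℕ∞) ≤ (i : ℕ∞) := le_trans h2 h3
    have : n + 1 ≤ i := by exact_mod_cast h4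
    omega
  have hpow : ∀ i : ℕ, ∃ k : ℕ, i ≤ n → I ^ k ≤ Module.annihilator A (LocCoh.H I i M) := by
    intro i
    by_cases hi : i ≤ n
    · obtain ⟨k, hk⟩ := Ideal.exists_pow_le_of_le_radical_of_fg (hrad i hi)
        (IsNoetherian.noetherian I)
      exact ⟨k, fun _ => hk⟩
    · exact ⟨0, fun h => absurd h hi⟩
  choose kf hkf using hpow
  refine Groth.Agent.Lib.LocCohFaltings.finite_H_of_pow_annihilates I n M
    ((Finset.range (n + 1)).sup kf) ?_
  intro i hi a ha x
  have hle : kf i ≤ (Finset.range (n + 1)).sup kf :=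
    Finset.le_sup (f := kf) (Finset.mem_range.2 (by omega))
  exact Module.mem_annihilator.1 (hkf i hi (Ideal.pow_le_pow_right hle ha)) x

include hπ in
theorem finite_H_iff_lt_depth_add_relCodim :
    (∀ i : ℕ, i ≤ n → Module.Finite A (LocCoh.H I i M)) ↔
      ∀ p : PrimeSpectrum A, ¬ I ≤ p.asIdeal → (n : ℕ∞) <
        LocCoh.depth (Localization.AtPrime p.asIdeal) (LocalizedModule p.asIdeal.primeCompl M) +
          SGA2.relCodim I p := by
  rw [finite_H_iff_lt_adjDepth R A π hπ I M n]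
  exact forall₂_congr fun p _ => by rw [adjDepth_eq_relCodim]

end gft

end Groth.Agent.Lib.GFT53
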