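import Groth.Agent.Lib.LocCohFaltings
import Mathlib.RingTheory.Ideal.AssociatedPrime.Finiteness
import Mathlib.RingTheory.Localization.Finiteness

/-!
# Local-global principle for finiteness of local cohomology (helper53)

* `annSub I X`: the elements of `X` killed by `I`;
* `annSub_H_fg`: if `H^i_I(M)` is finite for `i < n` then `(0 :_{H^n_I(M)} I)` is finitely generated;
* `finite_associatedPrimes_H`: then `Ass H^n_I(M)` is finite;
* `finite_H_of_locally_finite`: Faltings' local-global principle.
-/

set_option maxHeartbeats 400000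
universe u
open CategoryTheory CategoryTheory.Limits Opposite

namespace Groth.Agent.Lib.LocCohLocalGlobal
open Groth.Agent.Lib.LocCohConcrete Groth.Agent.Lib.LocCohLES Groth.Agent.Lib.LocCohTorsion
open Groth.Agent.Lib.LocCohH0 Groth.Agent.Lib.H29LocCohReg Groth.Agent.Lib.H47Reflexive
open Groth.Agent.Lib.LocCohFaltings

variable {R : Type u} [CommRing R] (I : Ideal R)

/-- the elements killed by `I`. -/
def annSub (X : Type*) [AddCommGroup X] [Module R X] : Submodule R X where
  carrier := {x | ∀ a ∈ I, a • x = 0}
  add_mem' := fun {x y} hx hy a ha => by rw [smul_add, hx a ha, hy a ha, add_zero]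
  zero_mem' := fun a _ => smul_zero a
  smul_mem' := fun c x hx a ha => by rw [smul_comm, hx a ha, smul_zero]

theorem mem_annSub {X : Type*} [AddCommGroup X] [Module R X] {x : X} :
    x ∈ annSub I X ↔ ∀ a ∈ I, a • x = 0 := Iff.rfl

theorem annSub_map_equiv {X Y : Type*} [AddCommGroup X] [Module R X] [AddCommGroup Y] [Module R Y]
    (e : X ≃ₗ[R] Y) : (annSub I X).map e.toLinearMap = annSub I Y := by
  ext y
  constructor
  · rintro ⟨x, hx, rfl⟩ a ha
    change a • e x = 0
    rw [← map_smul, hx a ha, map_zero]
  · intro hy
    refine ⟨e.symm y, fun a ha => ?_, e.apply_symm_apply y⟩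
    rw [← map_smul, hy a ha, map_zero]

/-- the middle term of an exact sequence of modules with finite ends is finite. -/
theorem finite_of_exact [IsNoetherianRing R] {X Y Z : Type*} [AddCommGroup X] [Module R X]
    [AddCommGroup Y] [Module R Y] [AddCommGroup Z] [Module R Z] (f : X →ₗ[R] Y) (g : Y →ₗ[R] Z)
    (h : Function.Exact f g) [Module.Finite R X] [Module.Finite R Z] : Module.Finite R Y := by
  have hN : IsNoetherian R Z := isNoetherian_of_isNoetherianRing_of_finite R Z
  have h1 : Module.Finite R (LinearMap.ker g) := by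
    rw [LinearMap.exact_iff.1 h]
    exact Module.Finite.range f
  have h2 : Module.Finite R (Y ⧸ LinearMap.ker g) :=
    Module.Finite.equiv (LinearMap.quotKerEquivRange g).symm
  exact Module.Finite.of_submodule_quotient (LinearMap.ker g)

variable [IsNoetherianRing R]

/-- the torsion-free step of `annSub_H_fg`. -/
theorem annSub_H_fg_of_tf (n : ℕ)
    (ih : ∀ (M : Type u) [AddCommGroup M] [Module R M] [Module.Finite R M],
      (∀ i : ℕ, i < n → Module.Finite R (LocCoh.H I i M)) → (annSub I (LocCoh.H I n M)).FG)
    (M : Type u) [AddCommGroup M] [Module R M] [Module.Finite R M] (hTF : TF I M)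
    (hfin : ∀ i : ℕ, i < n + 1 → Module.Finite R (LocCoh.H I i M)) :
    (annSub I (LocCoh.H I (n + 1) M)).FG := by
  classical
  by_cases hIM : I • (⊤ : Submodule R M) = ⊤
  · have := subsingleton_H_of_smul_top_eq_top I M hIM (n + 1)
    have : annSub I (LocCoh.H I (n + 1) M) = ⊥ := by
      rw [eq_bot_iff]; intro x _; rw [Submodule.mem_bot]; exact Subsingleton.elim _ _
    rw [this]
    exact Submodule.fg_bot
  · obtain ⟨r, hrI, hr⟩ := exists_regular_of_tf I M hIM hTF
    have hf := mulMap_injective hr
    have hfg := mul_exact (M := M) r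
    have hg := quotMap_surjective (M := M) r
    -- finiteness of `H^i(M/rM)` for `i < n`
    have hfin'' : ∀ i : ℕ, i < n →
        Module.Finite R (LocCoh.H I i (M ⧸ LinearMap.range (mulMap (M := M) r))) := by
      intro i hi
      have := hfin i (by omega)
      have := hfin (i + 1) (by omega)
      exact finite_of_exact (Hmap I (quotMap r) i) (Hδ I (mulMap (M := M) r) (quotMap r) hf hfg hg i)
        (fun y => exact₃ I (mulMap (M := M) r) (quotMap r) hf hfg hg i y)
    have ihM := ih (M ⧸ LinearMap.range (mulMap (M := M) r)) hfin''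
    set δ := Hδ I (mulMap (M := M) r) (quotMap r) hf hfg hg n with hδ
    -- `C = ker δ` is finitely generated
    have hC : (LinearMap.ker δ).FG := by
      have h1 : LinearMap.ker δ = LinearMap.range (Hmap I (quotMap (M := M) r) n) :=
        LinearMap.exact_iff.1 (fun y => exact₃ I (mulMap (M := M) r) (quotMap r) hf hfg hg n y)
      rw [h1]
      have := hfin n (by omega)
      exact Module.Finite.iff_fg.1 (Module.Finite.range (Hmap I (quotMap (M := M) r) n))
    obtain ⟨s, hs⟩ := (IsNoetherian.noetherian I : I.FG)
    let Φ : LocCoh.H I n (M ⧸ LinearMap.range (mulMap (M := M) r)) →ₗ[R]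
        ({a // a ∈ s} → LocCoh.H I n (M ⧸ LinearMap.range (mulMap (M := M) r))) :=
      LinearMap.pi (fun a => (a.1 : R) • LinearMap.id)
    let P := (annSub I (LocCoh.H I (n + 1) M)).comap δ
    have hsI : ∀ a ∈ s, a ∈ I := fun a ha => by rw [← hs]; exact Submodule.subset_span ha
    have h1 : (P.map Φ).FG := by
      refine Submodule.FG.of_le (Submodule.fg_pi (p := fun _ : {a // a ∈ s} => LinearMap.ker δ)
        (fun _ => hC)) ?_
      rintro _ ⟨y, hy, rfl⟩ a _
      change (a.1 : R) • y ∈ LinearMap.ker δ
      rw [LinearMap.mem_ker, map_smul]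
      exact hy a.1 (hsI a.1 a.2)
    have h2 : (P ⊓ LinearMap.ker Φ).FG := by
      have : P ⊓ LinearMap.ker Φ =
          annSub I (LocCoh.H I n (M ⧸ LinearMap.range (mulMap (M := M) r))) := by
        ext y
        constructor
        · rintro ⟨-, hy⟩ a ha
          have hy : Φ y = 0 := hy
          rw [← hs] at ha
          induction ha using Submodule.span_induction with
          | mem a ha => exact congrFun hy ⟨a, ha⟩
          | zero => rw [zero_smul]
          | add a b _ _ h1 h2 => rw [add_smul, h1, h2, add_zero]
          | smul c a _ h1 => rw [smul_eq_mul, mul_smul, h1, smul_zero]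
        · intro hy
          refine ⟨fun a ha => ?_, ?_⟩
          · rw [← map_smul, hy a ha, map_zero]
          · change Φ y = 0
            funext a
            exact hy a.1 (hsI a.1 a.2)
      rw [this]
      exact ihM
    have hP : P.FG := Submodule.fg_of_fg_map_of_fg_inf_ker Φ h1 h2
    have hmap : annSub I (LocCoh.H I (n + 1) M) = P.map δ := by
      ext x
      constructor
      · intro hx
        have h0 : Hmap I (mulMap (M := M) r) (n + 1) x = 0 := by
          rw [Hmap_smul, Hmap_id]
          exact hx r hrI
        obtain ⟨y, rfl⟩ := (exact₁ I (mulMap (M := M) r) (quotMap r) hf hfg hg n x).1 h0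
        exact ⟨y, hx, rfl⟩
      · rintro ⟨y, hy, rfl⟩
        exact hy
    rw [hmap]
    exact hP.map δ

/-- if `H^i_I(M)` is finite for `i < n`, then `(0 :_{H^n_I(M)} I)` is finitely generated. -/
theorem annSub_H_fg : ∀ (n : ℕ) (M : Type u) [AddCommGroup M] [Module R M] [Module.Finite R M],
    (∀ i : ℕ, i < n → Module.Finite R (LocCoh.H I i M)) → (annSub I (LocCoh.H I n M)).FG := by
  intro n
  induction n with
  | zero =>
    intro M _ _ _ _
    have := finite_H_zero I M
    have : IsNoetherian R (LocCoh.H I 0 M) := isNoetherian_of_isNoetherianRing_of_finite R _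
    exact IsNoetherian.noetherian _
  | succ n ih =>
    intro M _ _ _ hfin
    have hTF : TF I (M ⧸ DRing.torsionSub I M) :=
      tf_quotient_torsionSub I M (IsNoetherian.noetherian _)
    have hb : ∀ i : ℕ, Function.Bijective (Hmap I (DRing.torsionSub I M).mkQ (i + 1)) :=
      fun i => Hmap_mkQ_torsionSub_bijective I M (i + 1) (Nat.succ_pos i)
    have hfin' : ∀ i : ℕ, i < n + 1 →
        Module.Finite R (LocCoh.H I i (M ⧸ DRing.torsionSub I M)) := by
      intro i hi
      rcases i with _ | i
      · exact finite_H_zero I _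
      · have := hfin (i + 1) hi
        exact Module.Finite.equiv (LinearEquiv.ofBijective _ (hb i))
    have h1 := annSub_H_fg_of_tf I n ih (M ⧸ DRing.torsionSub I M) hTF hfin'
    rw [← annSub_map_equiv I (LinearEquiv.ofBijective _ (hb n)).symm]
    exact h1.map _

/-- if `H^i_I(M)` is finite for `i < n`, then `H^n_I(M)` has finitely many associated primes. -/
theorem finite_associatedPrimes_H (n : ℕ) (M : Type u) [AddCommGroup M] [Module R M]
    [Module.Finite R M] (hfin : ∀ i : ℕ, i < n → Module.Finite R (LocCoh.H I i M)) :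
    (associatedPrimes R (LocCoh.H I n M)).Finite := by
  have hfg := annSub_H_fg I n M hfin
  have : Module.Finite R (annSub I (LocCoh.H I n M)) := Module.Finite.iff_fg.2 hfg
  refine (associatedPrimes.finite (A := R) (M := annSub I (LocCoh.H I n M))).subset ?_
  intro q hq
  obtain ⟨hqp, x, hx⟩ := (isAssociatedPrime_iff.1 hq)
  obtain ⟨k, hk⟩ := isPowerTorsion_H I M n x
  have hIq : I ≤ q := by
    apply hqp.le_of_pow_le (n := k)
    intro a ha
    rw [hx, Submodule.mem_colon_singleton, hk a ha]
    exact Submodule.zero_mem _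
  have hxT : x ∈ annSub I (LocCoh.H I n M) := by
    intro a ha
    have := hIq ha
    rw [hx, Submodule.mem_colon_singleton] at this
    exact (Submodule.mem_bot R).1 this
  refine isAssociatedPrime_iff.2 ⟨hqp, ⟨x, hxT⟩, ?_⟩
  ext c
  rw [hx, Submodule.mem_colon_singleton, Submodule.mem_colon_singleton, Submodule.mem_bot,
    Submodule.mem_bot]
  constructor
  · intro h
    apply Subtype.ext
    exact h
  · intro h
    exact congrArg Subtype.val h

omit [IsNoetherianRing R] in
/-- a module which is `I`-power torsion and whose localization at `p` is finite is locally killed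
by a power of `I`. -/
theorem exists_pow_locally_annihilates (N : Type u) [AddCommGroup N] [Module R N]
    (hN : LocCoh.IsPowerTorsion I N) (p : Ideal R) [p.IsPrime]
    (hfin : Module.Finite (Localization.AtPrime p) (LocalizedModule p.primeCompl N)) :
    ∃ u : ℕ, ∀ a ∈ I ^ u, ∀ x : N, ∃ s : R, s ∉ p ∧ s • a • x = 0 := by
  classical
  obtain ⟨G, hG⟩ := (Module.Finite.fg_top :
    (⊤ : Submodule (Localization.AtPrime p) (LocalizedModule p.primeCompl N)).FG)
  have h1 : ∀ g : LocalizedModule p.primeCompl N, ∃ k : ℕ, ∀ a ∈ I ^ k, a • g = 0 := by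
    intro g
    induction g using LocalizedModule.induction_on with
    | h y t =>
      obtain ⟨k, hk⟩ := hN y
      refine ⟨k, fun a ha => ?_⟩
      rw [LocalizedModule.smul'_mk, hk a ha, LocalizedModule.zero_mk]
  choose kf hkf using h1
  refine ⟨G.sup kf, fun a ha x => ?_⟩
  let Z : Submodule (Localization.AtPrime p) (LocalizedModule p.primeCompl N) :=
    LinearMap.ker ((algebraMap R (Localization.AtPrime p) a) •
      (LinearMap.id : LocalizedModule p.primeCompl N →ₗ[Localization.AtPrime p]
        LocalizedModule p.primeCompl N))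
  have hZ : ∀ ξ, ξ ∈ Z ↔ a • ξ = 0 := by
    intro ξ
    change (algebraMap R (Localization.AtPrime p) a) • ξ = 0 ↔ _
    rw [algebraMap_smul]
  have htop : Z = ⊤ := by
    rw [eq_top_iff, ← hG, Submodule.span_le]
    intro g hg
    rw [SetLike.mem_coe, hZ]
    exact hkf g a (Ideal.pow_le_pow_right (Finset.le_sup (f := kf) hg) ha)
  have h0 : a • LocalizedModule.mk x (1 : p.primeCompl) = 0 := by
    rw [← hZ, htop]; trivial
  rw [LocalizedModule.smul'_mk, ← LocalizedModule.mkLinearMap_apply,
    IsLocalizedModule.eq_zero_iff p.primeCompl] at h0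
  obtain ⟨t, ht⟩ := h0
  exact ⟨t, t.2, ht⟩

/-- Faltings' local-global principle for finiteness of local cohomology. -/
theorem finite_H_of_locally_finite (M : Type u) [AddCommGroup M] [Module R M] [Module.Finite R M] :
    ∀ n : ℕ, (∀ (p : Ideal R) [p.IsPrime], ∀ i : ℕ, i ≤ n →
      Module.Finite (Localization.AtPrime p) (LocalizedModule p.primeCompl (LocCoh.H I i M))) →
      ∀ i : ℕ, i ≤ n → Module.Finite R (LocCoh.H I i M) := by
  classical
  intro n
  induction n with
  | zero =>
    intro _ i hi
    obtain rfl : i = 0 := by omega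
    exact finite_H_zero I M
  | succ n ih =>
    intro hloc
    have hlow := ih (fun p _ i hi => hloc p i (by omega))
    have hAss := finite_associatedPrimes_H I (n + 1) M (fun i hi => hlow i (by omega))
    -- uniform exponent on the associated primes
    have h1 : ∀ q : Ideal R, ∃ u : ℕ, q ∈ associatedPrimes R (LocCoh.H I (n + 1) M) →
        ∀ a ∈ I ^ u, ∀ x : LocCoh.H I (n + 1) M, ∃ s : R, s ∉ q ∧ s • a • x = 0 := by
      intro q
      by_cases hq : q ∈ associatedPrimes R (LocCoh.H I (n + 1) M)
      · have hqp : q.IsPrime := hq.1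
        obtain ⟨u, hu⟩ := exists_pow_locally_annihilates I (LocCoh.H I (n + 1) M)
          (isPowerTorsion_H I M (n + 1)) q (hloc q (n + 1) le_rfl)
        exact ⟨u, fun _ => hu⟩
      · exact ⟨0, fun h => absurd h hq⟩
    choose uf huf using h1
    obtain ⟨k, -, hk⟩ := exists_pow_annihilates_of_finite_H I M n hlow
    let K := max k (hAss.toFinset.sup uf)
    refine finite_H_of_pow_annihilates I (n + 1) M K ?_
    intro i hi a ha x
    rcases Nat.lt_or_ge i (n + 1) with hlt | hge
    · exact hk i (by omega) a (Ideal.pow_le_pow_right (le_max_left _ _) ha) x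
    · obtain rfl : i = n + 1 := by omega
      by_contra hne
      -- an associated prime of the cyclic submodule generated by `a • x`
      let Y := Submodule.span R {a • x}
      have : Nontrivial Y :=
        ⟨⟨⟨a • x, Submodule.mem_span_singleton_self _⟩, 0, fun h => hne (congrArg Subtype.val h)⟩⟩
      obtain ⟨q, hq⟩ := associatedPrimes.nonempty R Y
      have hq' : q ∈ associatedPrimes R (LocCoh.H I (n + 1) M) :=
        associatedPrimes.subset_of_injective (f := Y.subtype) (Submodule.injective_subtype _) hq
      obtain ⟨hqp, ⟨w, hw⟩, hqw⟩ := isAssociatedPrime_iff.1 hq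
      obtain ⟨c, rfl⟩ := Submodule.mem_span_singleton.1 hw
      have haq : a ∈ I ^ uf q := by
        refine Ideal.pow_le_pow_right ?_ ha
        refine le_trans ?_ (le_max_right _ _)
        exact Finset.le_sup (f := uf) (hAss.mem_toFinset.2 hq')
      obtain ⟨t, htq, ht⟩ := huf q hq' a haq (c • x)
      apply htq
      rw [hqw, Submodule.mem_colon_singleton, Submodule.mem_bot]
      apply Subtype.ext
      change t • c • a • x = 0
      rw [smul_comm c a x]
      exact ht

end Groth.Agent.Lib.LocCohLocalGlobal
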