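import Groth.Agent.Lib.LocCohLES
import Groth.Agent.Lib.LocCohH0
import Groth.Agent.Lib.LocCohTorsion
import Groth.Agent.Lib.LocCohLocalGlobal

/-!
# Finiteness of `H^1_I`: the class of modules with `H^1_I` finite (helper53)
-/

set_option maxHeartbeats 400000
set_option linter.unusedSectionVars false
universe u

namespace Groth.Agent.Lib.H1Fin53
open Groth.Agent.Lib.LocCohLES

variable {A : Type u} [CommRing A] [IsNoetherianRing A] (I : Ideal A)

/-- the class of modules `N` with `H^1_I(N)` finite. -/
def F (N : Type u) [AddCommGroup N] [Module A N] : Prop := Module.Finite A (LocCoh.H I 1 N)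

variable {N₁ N₂ N₃ : Type u} [AddCommGroup N₁] [Module A N₁] [AddCommGroup N₂] [Module A N₂]
  [AddCommGroup N₃] [Module A N₃]

theorem F_of_exact (f : N₁ →ₗ[A] N₂) (g : N₂ →ₗ[A] N₃) (hf : Function.Injective f)
    (hfg : Function.Exact f g) (hg : Function.Surjective g) (h1 : F I N₁) (h3 : F I N₃) :
    F I N₂ := by
  unfold F at *
  exact Groth.Agent.Lib.LocCohLocalGlobal.finite_of_exact _ _ (exact₂ I f g hfg hf hg 1)

theorem finite_H0 (N : Type u) [AddCommGroup N] [Module A N] [Module.Finite A N] :
    Module.Finite A (LocCoh.H I 0 N) := by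
  haveI : IsNoetherian A N := isNoetherian_of_isNoetherianRing_of_finite A N
  exact Module.Finite.equiv (Groth.Agent.Lib.LocCohH0.gammaEquiv I N).symm

theorem F_of_injective [Module.Finite A N₂] (f : N₁ →ₗ[A] N₂) (hf : Function.Injective f)
    (h2 : F I N₂) : F I N₁ := by
  unfold F at *
  haveI : Module.Finite A (N₂ ⧸ LinearMap.range f) := inferInstance
  haveI := finite_H0 I (N₂ ⧸ LinearMap.range f)
  exact Groth.Agent.Lib.LocCohLocalGlobal.finite_of_exact _ _
    (exact₁ I f (LinearMap.range f).mkQ hf (LinearMap.exact_map_mkQ_range f)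
      (Submodule.mkQ_surjective _) 0)

theorem F_of_equiv (e : N₁ ≃ₗ[A] N₂) (h : F I N₁) : F I N₂ := by
  unfold F at *
  exact Module.Finite.equiv (LinearEquiv.ofBijective _ (Hmap_bijective_of_equiv I e 1))

theorem F_of_torsion (h : LocCoh.IsPowerTorsion I N₁) : F I N₁ := by
  unfold F
  haveI := Groth.Agent.Lib.LocCohTorsion.subsingleton_H_of_isPowerTorsion I 1 Nat.one_pos N₁ h
  infer_instance

end Groth.Agent.Lib.H1Fin53
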