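import Groth.Agent.Lib.LocCohLES
import Groth.Agent.Lib.H29ExtBaseChange

/-!
# Flat base change for local cohomology (helper53)

`R → R'` flat, `R` Noetherian: `R' ⊗_R H^i_I(M) ≃ₗ[R'] H^i_{IR'}(R' ⊗_R M)`.
-/

set_option maxHeartbeats 400000
set_option linter.unusedSectionVars false
universe u
open CategoryTheory CategoryTheory.Limits Opposite TensorProduct

namespace Groth.Agent.Lib.LocCohBaseChange
open Groth.Agent.Lib.ExtBridge Groth.Agent.Lib.LocCohConcrete Groth.Agent.Lib.LocCohLES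
open Groth.Agent.Lib.H29ExtBaseChange
open Abelian

variable {R R' : Type u} [CommRing R] [CommRing R'] [Algebra R R'] (I : Ideal R)

/-- the extended ideal `I R'`. -/
abbrev J : Ideal R' := I.map (algebraMap R R')

/-- `R'/(IR')^n ≃ R' ⊗ R/I^n`. -/
noncomputable def θlin (n : ℕ) : (R' ⧸ (J (R' := R') I) ^ n) ≃ₗ[R'] R' ⊗[R] (R ⧸ I ^ n) :=
  (Submodule.quotEquivOfEq _ _ (Ideal.map_pow (algebraMap R R') I n).symm).trans
    (Algebra.TensorProduct.quotIdealMapEquivTensorQuot R' (I ^ n)).toLinearEquiv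

theorem θlin_mk (n : ℕ) (b : R') :
    θlin (R' := R') I n (Submodule.Quotient.mk b) = b ⊗ₜ[R] (1 : R ⧸ I ^ n) := rfl

/-- `θ_n : R'/(IR')^n ≅ R' ⊗ R/I^n` in `ModuleCat R'`. -/
noncomputable def θ (n : ℕ) : Q (J (R' := R') I) n ≅ (tensF R R').obj (Q I n) :=
  (θlin I n).toModuleIso

theorem θ_hom_apply (n : ℕ) (b : R') :
    (θ (R' := R') I n).hom.hom (Submodule.Quotient.mk b) = b ⊗ₜ[R] (1 : R ⧸ I ^ n) := rfl

theorem θ_naturality {n k : ℕ} (h : n ≤ k) :
    proj (J (R' := R') I) h ≫ (θ I n).hom = (θ I k).hom ≫ (tensF R R').map (proj I h) := by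
  apply ModuleCat.hom_ext
  apply LinearMap.ext
  intro q
  obtain ⟨b, rfl⟩ := Submodule.Quotient.mk_surjective _ q
  rfl

section flat
variable [Module.Flat R R'] (M : Type u) [AddCommGroup M] [Module R M] (i : ℕ)

variable (R R') in
/-- the module `R' ⊗ M` as an object. -/
noncomputable abbrev TM : ModuleCat.{u} R' := (tensF R R').obj (ModuleCat.of R M)

/-- level map on tensors: `R' ⊗ Ext_R(R/I^n, M) → Ext_{R'}(R'/(IR')^n, R' ⊗ M)`. -/
noncomputable def lvlT (n : ℕ) :
    R' ⊗[R] Ext.{u} (Q I n) (ModuleCat.of R M) i →ₗ[R']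
      Ext.{u} (Q (J (R' := R') I) n) (TM R R' M) i :=
  (Ext.mk₀ (θ (R' := R') I n).hom).precompOfLinear R' (TM R R' M) (zero_add i) ∘ₗ
    cmp (tensF_scalarCompat R R') (Q I n) (ModuleCat.of R M) i

theorem lvlT_apply (n : ℕ) (s : R' ⊗[R] Ext.{u} (Q I n) (ModuleCat.of R M) i) :
    lvlT (R' := R') I M i n s = (Ext.mk₀ (θ (R' := R') I n).hom).comp
      (cmp (tensF_scalarCompat R R') (Q I n) (ModuleCat.of R M) i s) (zero_add i) := rfl

theorem lvlT_tmul (n : ℕ) (b : R') (e : Ext.{u} (Q I n) (ModuleCat.of R M) i) :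
    lvlT (R' := R') I M i n (b ⊗ₜ e) = b • (Ext.mk₀ (θ (R' := R') I n).hom).comp
      (e.mapExactFunctor (tensF R R')) (zero_add i) := by
  rw [lvlT_apply, cmp_tmul, Ext.comp_smul]

/-- transition on the source. -/
noncomputable abbrev trans {n k : ℕ} (h : n ≤ k) :
    Ext.{u} (Q I n) (ModuleCat.of R M) i →ₗ[R] Ext.{u} (Q I k) (ModuleCat.of R M) i :=
  (Ext.mk₀ (proj I h)).precompOfLinear R (ModuleCat.of R M) (zero_add i)

theorem lvlT_transition {n k : ℕ} (h : n ≤ k)
    (s : R' ⊗[R] Ext.{u} (Q I n) (ModuleCat.of R M) i) :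
    lvlT (R' := R') I M i k ((trans I M i h).lTensor R' s) =
      (Ext.mk₀ (proj (J (R' := R') I) h)).comp (lvlT (R' := R') I M i n s) (zero_add i) := by
  rw [lvlT_apply, lvlT_apply, cmp_precomp, Ext.mapExactFunctor_mk₀,
    ← Ext.comp_assoc _ _ _ (zero_add 0) (zero_add i) (by omega),
    ← Ext.comp_assoc _ _ _ (zero_add 0) (zero_add i) (by omega),
    Ext.mk₀_comp_mk₀, Ext.mk₀_comp_mk₀, θ_naturality]

variable [IsNoetherianRing R]

theorem lvlT_bijective (n : ℕ) : Function.Bijective (lvlT (R' := R') I M i n) := by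
  have h1 : Function.Bijective (cmp (tensF_scalarCompat R R') (Q I n) (ModuleCat.of R M) i) :=
    cmp_tensF_bijective (Q I n) (ModuleCat.of R M) i
  have h2 : Function.Bijective
      ((Ext.mk₀ (θ (R' := R') I n).hom).precompOfLinear R' (TM R R' M) (zero_add i)) := by
    refine Function.bijective_iff_has_inverse.2
      ⟨(Ext.mk₀ (θ (R' := R') I n).inv).precompOfLinear R' (TM R R' M) (zero_add i), ?_, ?_⟩
    · intro x
      change (Ext.mk₀ (θ (R' := R') I n).inv).comp
        ((Ext.mk₀ (θ (R' := R') I n).hom).comp x (zero_add i)) (zero_add i) = x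
      rw [← Ext.comp_assoc _ _ _ (zero_add 0) (zero_add i) (by omega), Ext.mk₀_comp_mk₀,
        Iso.inv_hom_id, Ext.mk₀_id_comp]
    · intro x
      change (Ext.mk₀ (θ (R' := R') I n).hom).comp
        ((Ext.mk₀ (θ (R' := R') I n).inv).comp x (zero_add i)) (zero_add i) = x
      rw [← Ext.comp_assoc _ _ _ (zero_add 0) (zero_add i) (by omega), Ext.mk₀_comp_mk₀,
        Iso.hom_inv_id, Ext.mk₀_id_comp]
  exact h2.comp h1

end flat

section main
variable [Module.Flat R R'] (M : Type u) [AddCommGroup M] [Module R M] (i : ℕ)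

/-- the target `H^i_{IR'}(R' ⊗ M)`. -/
abbrev Tg : Type u := LocCoh.H (J (R' := R') I) i (R' ⊗[R] M)

/-- `R`-module structure on the target by restriction of scalars. -/
@[reducible] noncomputable def tgModule : Module R (Tg (R' := R') I M i) :=
  Module.compHom _ (algebraMap R R')

attribute [local instance] tgModule

theorem tg_smul_def (r : R) (y : Tg (R' := R') I M i) : r • y = algebraMap R R' r • y := rfl

/-- scalar tower on the target. -/
theorem tgTower : IsScalarTower R R' (Tg (R' := R') I M i) :=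
  ⟨fun r b y => by
    change (r • b) • y = algebraMap R R' r • (b • y)
    rw [Algebra.smul_def, mul_smul]⟩

attribute [local instance] tgTower

/-- `R'`-linear level map to the target. -/
noncomputable def L (n : ℕ) :
    R' ⊗[R] Ext.{u} (Q I n) (ModuleCat.of R M) i →ₗ[R'] Tg (R' := R') I M i :=
  HιE (J (R' := R') I) (R' ⊗[R] M) i n ∘ₗ lvlT (R' := R') I M i n

theorem L_apply (n : ℕ) (s : R' ⊗[R] Ext.{u} (Q I n) (ModuleCat.of R M) i) :
    L (R' := R') I M i n s = HιE (J (R' := R') I) (R' ⊗[R] M) i n (lvlT (R' := R') I M i n s) := rfl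

theorem L_transition {n k : ℕ} (h : n ≤ k)
    (s : R' ⊗[R] Ext.{u} (Q I n) (ModuleCat.of R M) i) :
    L (R' := R') I M i k ((trans I M i h).lTensor R' s) = L (R' := R') I M i n s := by
  rw [L_apply, L_apply, lvlT_transition]
  exact HιE_transition (J (R' := R') I) (R' ⊗[R] M) i h _

/-- `R`-linear level map. -/
noncomputable def lvl' (n : ℕ) :
    Ext.{u} (Q I n) (ModuleCat.of R M) i →ₗ[R] Tg (R' := R') I M i :=
  (L (R' := R') I M i n).restrictScalars R ∘ₗ
    TensorProduct.mk R R' (Ext.{u} (Q I n) (ModuleCat.of R M) i) 1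

theorem lvl'_apply (n : ℕ) (e : Ext.{u} (Q I n) (ModuleCat.of R M) i) :
    lvl' (R' := R') I M i n e = L (R' := R') I M i n ((1 : R') ⊗ₜ[R] e) := rfl

theorem lvl'_compat (n k : ℕ) (h : n ≤ k) (e : Ext.{u} (Q I n) (ModuleCat.of R M) i) :
    lvl' (R' := R') I M i k ((Ext.mk₀ (proj I h)).comp e (zero_add i)) =
      lvl' (R' := R') I M i n e := by
  rw [lvl'_apply, lvl'_apply, ← L_transition I M i h]
  rfl

/-- the `R`-linear comparison map `H^i_I(M) → H^i_{IR'}(R' ⊗ M)`. -/
noncomputable def Φ' : LocCoh.H I i M →ₗ[R] Tg (R' := R') I M i :=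
  Hdesc I M i (Tg (R' := R') I M i) (lvl' (R' := R') I M i) (lvl'_compat I M i)

theorem Φ'_HιE (n : ℕ) (e : Ext.{u} (Q I n) (ModuleCat.of R M) i) :
    Φ' (R' := R') I M i (HιE I M i n e) = L (R' := R') I M i n ((1 : R') ⊗ₜ[R] e) := by
  rw [Φ', Hdesc_HιE, lvl'_apply]

/-- the base change map `R' ⊗ H^i_I(M) → H^i_{IR'}(R' ⊗ M)`. -/
noncomputable def Ψ : R' ⊗[R] LocCoh.H I i M →ₗ[R'] LocCoh.H (J (R' := R') I) i (R' ⊗[R] M) :=
  LinearMap.liftBaseChange R' (Φ' (R' := R') I M i)

theorem Ψ_baseChange (n : ℕ) (s : R' ⊗[R] Ext.{u} (Q I n) (ModuleCat.of R M) i) :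
    Ψ (R' := R') I M i ((HιE I M i n).baseChange R' s) = L (R' := R') I M i n s := by
  induction s using TensorProduct.induction_on with
  | zero => simp
  | tmul b e =>
    rw [LinearMap.baseChange_tmul, Ψ, LinearMap.liftBaseChange_tmul, Φ'_HιE, ← map_smul,
      TensorProduct.smul_tmul', smul_eq_mul, mul_one]
  | add x y hx hy => rw [map_add, map_add, map_add, hx, hy]

theorem baseChange_trans {n k : ℕ} (h : n ≤ k)
    (s : R' ⊗[R] Ext.{u} (Q I n) (ModuleCat.of R M) i) :
    (HιE I M i k).baseChange R' ((trans I M i h).lTensor R' s) =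
      (HιE I M i n).baseChange R' s := by
  induction s using TensorProduct.induction_on with
  | zero => simp
  | tmul b e =>
    rw [LinearMap.lTensor_tmul, LinearMap.baseChange_tmul, LinearMap.baseChange_tmul]
    congr 1
    exact HιE_transition I M i h e
  | add x y hx hy => rw [map_add, map_add, map_add, hx, hy]

theorem exists_level (t : R' ⊗[R] LocCoh.H I i M) :
    ∃ (n : ℕ) (s : R' ⊗[R] Ext.{u} (Q I n) (ModuleCat.of R M) i),
      (HιE I M i n).baseChange R' s = t := by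
  induction t using TensorProduct.induction_on with
  | zero => exact ⟨0, 0, map_zero _⟩
  | tmul b y =>
    obtain ⟨n, e, rfl⟩ := exists_rep I M i y
    exact ⟨n, b ⊗ₜ e, LinearMap.baseChange_tmul _ _ _⟩
  | add x y hx hy =>
    obtain ⟨n₁, s₁, rfl⟩ := hx
    obtain ⟨n₂, s₂, rfl⟩ := hy
    refine ⟨max n₁ n₂, (trans I M i (le_max_left n₁ n₂)).lTensor R' s₁ +
      (trans I M i (le_max_right n₁ n₂)).lTensor R' s₂, ?_⟩
    rw [map_add, baseChange_trans, baseChange_trans]

variable [IsNoetherianRing R]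

theorem Ψ_surjective : Function.Surjective (Ψ (R' := R') I M i) := by
  intro z
  obtain ⟨n, x', rfl⟩ := exists_rep (J (R' := R') I) (R' ⊗[R] M) i z
  obtain ⟨s, hs⟩ := (lvlT_bijective (R' := R') I M i n).2 x'
  refine ⟨(HιE I M i n).baseChange R' s, ?_⟩
  rw [Ψ_baseChange, L_apply, hs]

theorem Ψ_injective : Function.Injective (Ψ (R' := R') I M i) := by
  rw [injective_iff_map_eq_zero]
  intro t ht
  obtain ⟨n, s, rfl⟩ := exists_level I M i t
  rw [Ψ_baseChange, L_apply, HιE_eq_zero_iff] at ht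
  obtain ⟨k, h, hk⟩ := ht
  have hk' : lvlT (R' := R') I M i k ((trans I M i h).lTensor R' s) = 0 := by
    rw [lvlT_transition]
    exact hk
  have h0 : (trans I M i h).lTensor R' s = 0 :=
    (lvlT_bijective (R' := R') I M i k).1 (by rw [hk', map_zero])
  rw [← baseChange_trans I M i h, h0, map_zero]

/-- **Flat base change for local cohomology.** -/
noncomputable def baseChangeEquiv :
    R' ⊗[R] LocCoh.H I i M ≃ₗ[R'] LocCoh.H (J (R' := R') I) i (R' ⊗[R] M) :=
  LinearEquiv.ofBijective (Ψ (R' := R') I M i) ⟨Ψ_injective I M i, Ψ_surjective I M i⟩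

end main

end Groth.Agent.Lib.LocCohBaseChange
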