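import Mathlib.AlgebraicGeometry.Modules.Tilde
import Mathlib.RingTheory.Finiteness.Ideal
import Mathlib.Algebra.Module.Torsion.Basic
import Mathlib.Tactic

/-!
Sections of `M~` on opens of `Spec R`: elementary lemmas (no gluing, only separatedness and the
localisation property on basic opens).
-/

set_option autoImplicit false
universe u

namespace Groth.Agent.Lib.TildePunct97

open AlgebraicGeometry CategoryTheory TopologicalSpace Opposite

variable {R : Type u} [CommRing R] (M : Type u) [AddCommGroup M] [Module R M]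

/-- the sheaf of `R`-modules on `Spec R` attached to `M`. -/
noncomputable abbrev F : TopCat.Sheaf (ModuleCat R) (Spec (CommRingCat.of R)) :=
  modulesSpecToSheaf.obj (tilde (R := CommRingCat.of R) (ModuleCat.of R M))

/-- restriction of sections, as a linear map -/
noncomputable abbrev res {U V : (Spec (CommRingCat.of R)).Opens} (h : V ≤ U) :
    ↑((F M).presheaf.obj (op U)) →ₗ[R] ↑((F M).presheaf.obj (op V)) :=
  ((F M).presheaf.map (homOfLE h).op).hom

/-- the canonical map `M → Γ(U, M~)` -/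
noncomputable abbrev eps (U : (Spec (CommRingCat.of R)).Opens) :
    M →ₗ[R] ↑((F M).presheaf.obj (op U)) :=
  (tilde.toOpen (R := CommRingCat.of R) (ModuleCat.of R M) U).hom

lemma res_eps {U V : (Spec (CommRingCat.of R)).Opens} (h : V ≤ U) (m : M) :
    res M h (eps M U m) = eps M V m := rfl

lemma res_res {U V W : (Spec (CommRingCat.of R)).Opens} (h : V ≤ U) (h' : W ≤ V)
    (s : ↑((F M).presheaf.obj (op U))) :
    res M h' (res M h s) = res M (h'.trans h) s := by
  show ((F M).presheaf.map (homOfLE h).op ≫ (F M).presheaf.map (homOfLE h').op).hom s = _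
  rw [← Functor.map_comp]
  rfl

/-- separatedness on the basis of basic opens -/
lemma sec_ext {U : (Spec (CommRingCat.of R)).Opens} (s t : ↑((F M).presheaf.obj (op U)))
    (h : ∀ (f : R) (hf : PrimeSpectrum.basicOpen f ≤ U), res M hf s = res M hf t) : s = t := by
  apply TopCat.Presheaf.IsSheaf.section_ext (F M).2
  intro x hxU
  obtain ⟨a, ⟨_, ⟨r, rfl⟩, rfl⟩, hxr, hrU⟩ :=
    PrimeSpectrum.isBasis_basic_opens.exists_subset_of_mem_open hxU U.2
  exact ⟨PrimeSpectrum.basicOpen r, hrU, hxr, h r hrU⟩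

theorem isLocalizedModule_toOpen (R' : CommRingCat.{u}) (M' : ModuleCat.{u} R') (f : R') :
    IsLocalizedModule (Submonoid.powers f) (tilde.toOpen M' (PrimeSpectrum.basicOpen f)).hom := by
  infer_instance

instance isLocalizedModule_eps (f : R) :
    IsLocalizedModule (Submonoid.powers f) (eps M (PrimeSpectrum.basicOpen f)) :=
  isLocalizedModule_toOpen (CommRingCat.of R) (ModuleCat.of R M) f

lemma eps_basicOpen_eq_zero_iff (f : R) (m : M) :
    eps M (PrimeSpectrum.basicOpen f) m = 0 ↔ ∃ k : ℕ, f ^ k • m = 0 := by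
  have := IsLocalizedModule.eq_zero_iff (Submonoid.powers f) (eps M (PrimeSpectrum.basicOpen f))
    (m := m)
  rw [this]
  constructor
  · rintro ⟨⟨_, k, rfl⟩, hk⟩; exact ⟨k, hk⟩
  · rintro ⟨k, hk⟩; exact ⟨⟨f ^ k, k, rfl⟩, hk⟩

lemma exists_pow_smul_eq_eps (f : R) (x : ↑((F M).presheaf.obj (op (PrimeSpectrum.basicOpen f)))) :
    ∃ (k : ℕ) (m : M), f ^ k • x = eps M (PrimeSpectrum.basicOpen f) m := by
  obtain ⟨⟨m, ⟨_, k, rfl⟩⟩, h⟩ :=
    IsLocalizedModule.surj (Submonoid.powers f) (eps M (PrimeSpectrum.basicOpen f)) x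
  exact ⟨k, m, h⟩

lemma eq_zero_of_pow_smul_eq_zero (f : R) (k : ℕ)
    (x : ↑((F M).presheaf.obj (op (PrimeSpectrum.basicOpen f)))) (h : f ^ k • x = 0) : x = 0 := by
  have hu := IsLocalizedModule.map_units (S := Submonoid.powers f)
    (eps M (PrimeSpectrum.basicOpen f)) ⟨f ^ k, k, rfl⟩
  rw [Module.End.isUnit_iff] at hu
  apply hu.injective
  rw [map_zero]
  exact h

/-- a section over `D(g)` vanishing on `D(f g)` is killed by a power of `f`. -/
lemma exists_pow_smul_eq_zero_of_res_eq_zero (f g : R)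
    (x : ↑((F M).presheaf.obj (op (PrimeSpectrum.basicOpen g))))
    (hle : PrimeSpectrum.basicOpen (f * g) ≤ PrimeSpectrum.basicOpen g)
    (hx : res M hle x = 0) : ∃ d : ℕ, f ^ d • x = 0 := by
  obtain ⟨c, m, hcm⟩ := exists_pow_smul_eq_eps M g x
  have h1 : eps M (PrimeSpectrum.basicOpen (f * g)) m = 0 := by
    rw [← res_eps M hle, ← hcm, map_smul, hx, smul_zero]
  obtain ⟨d, hd⟩ := (eps_basicOpen_eq_zero_iff M (f * g) m).mp h1
  refine ⟨d, ?_⟩
  apply eq_zero_of_pow_smul_eq_zero M g (c + d)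
  have : g ^ (c + d) • f ^ d • x = f ^ d • g ^ d • (g ^ c • x) := by
    rw [smul_smul, smul_smul, smul_smul]; congr 1; ring
  rw [this, hcm, ← map_smul, ← map_smul, smul_smul, ← mul_pow, hd, map_zero]

lemma basicOpen_mul_le_right (f g : R) :
    PrimeSpectrum.basicOpen (f * g) ≤ PrimeSpectrum.basicOpen g := by
  rw [PrimeSpectrum.basicOpen_mul]; exact inf_le_right

lemma basicOpen_mul_le_left (f g : R) :
    PrimeSpectrum.basicOpen (f * g) ≤ PrimeSpectrum.basicOpen f := by
  rw [PrimeSpectrum.basicOpen_mul]; exact inf_le_left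

section finset

variable {M}
variable (W : (Spec (CommRingCat.of R)).Opens) (G : Finset R)
  (hW : (W : Set ↥(Spec (CommRingCat.of R))) = (PrimeSpectrum.zeroLocus (R := R) (G : Set R))ᶜ)

include hW

lemma basicOpen_le_of_mem {g : R} (hg : g ∈ G) : PrimeSpectrum.basicOpen g ≤ W := by
  intro x hx
  show x ∈ (W : Set ↥(Spec (CommRingCat.of R)))
  rw [hW]
  intro hxz
  exact hx (hxz hg)

lemma exists_mem_basicOpen {x : ↥(Spec (CommRingCat.of R))} (hx : x ∈ W) :
    ∃ g ∈ G, x ∈ PrimeSpectrum.basicOpen (R := R) g := by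
  have hx' : x ∈ (W : Set ↥(Spec (CommRingCat.of R))) := hx
  rw [hW] at hx'
  by_contra hcon
  apply hx'
  intro g hg
  by_contra hgx
  exact hcon ⟨g, hg, hgx⟩

lemma sec_ext_finset (s t : ↑((F M).presheaf.obj (op W)))
    (h : ∀ (g : R) (hg : g ∈ G), res M (basicOpen_le_of_mem W G hW hg) s =
      res M (basicOpen_le_of_mem W G hW hg) t) : s = t := by
  apply TopCat.Presheaf.IsSheaf.section_ext (F M).2
  intro x hxW
  obtain ⟨g, hg, hxg⟩ := exists_mem_basicOpen W G hW hxW
  exact ⟨PrimeSpectrum.basicOpen g, basicOpen_le_of_mem W G hW hg, hxg, h g hg⟩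

/-- a section over `W` vanishing on all `D(f g)`, `g ∈ G`, is killed by a power of `f`. -/
lemma exists_pow_smul_eq_zero (f : R) (s : ↑((F M).presheaf.obj (op W)))
    (h : ∀ (g : R) (hg : g ∈ G),
      res M ((basicOpen_mul_le_right f g).trans (basicOpen_le_of_mem W G hW hg)) s = 0) :
    ∃ l : ℕ, f ^ l • s = 0 := by
  classical
  have h1 : ∀ g : R, ∃ d : ℕ, g ∈ G →
      ∀ hg : g ∈ G, f ^ d • res M (basicOpen_le_of_mem W G hW hg) s = 0 := by
    intro g
    by_cases hg : g ∈ G
    · obtain ⟨d, hd⟩ := exists_pow_smul_eq_zero_of_res_eq_zero M f g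
        (res M (basicOpen_le_of_mem W G hW hg) s) (basicOpen_mul_le_right f g) (by
          rw [res_res]; exact h g hg)
      exact ⟨d, fun _ _ => hd⟩
    · exact ⟨0, fun h' => absurd h' hg⟩
  choose d hd using h1
  refine ⟨G.sup d, ?_⟩
  apply sec_ext_finset W G hW
  intro g hg
  rw [map_smul, map_zero]
  have hle : d g ≤ G.sup d := Finset.le_sup hg
  obtain ⟨e, he⟩ := Nat.exists_eq_add_of_le hle
  rw [he, pow_add, mul_comm, mul_smul, hd g hg hg, smul_zero]

end finset

/-- if every `f ∈ a` has a power killing `x`, then a power of `a` kills `x` (`a` f.g.). -/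
lemma exists_mem_torsionBySet_pow {N : Type*} [AddCommGroup N] [Module R N] (a : Ideal R)
    (ha : a.FG) (x : N) (h : ∀ f ∈ a, ∃ k : ℕ, f ^ k • x = 0) :
    ∃ n : ℕ, x ∈ Submodule.torsionBySet R N ((a ^ n : Ideal R) : Set R) := by
  have hrad : a ≤ (Ideal.torsionOf R N x).radical := by
    intro f hf
    obtain ⟨k, hk⟩ := h f hf
    exact ⟨k, (Ideal.mem_torsionOf_iff x _).mpr hk⟩
  obtain ⟨n, hn⟩ := Ideal.exists_pow_le_of_le_radical_of_fg hrad ha
  refine ⟨n, ?_⟩
  rw [Submodule.mem_torsionBySet_iff]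
  rintro ⟨r, hr⟩
  exact (Ideal.mem_torsionOf_iff x r).mp (hn hr)

lemma mem_iSup_torsionBySet_pow_iff {N : Type*} [AddCommGroup N] [Module R N] (a : Ideal R) (x : N) :
    x ∈ ⨆ n : ℕ, Submodule.torsionBySet R N ((a ^ n : Ideal R) : Set R) ↔
      ∃ n : ℕ, x ∈ Submodule.torsionBySet R N ((a ^ n : Ideal R) : Set R) := by
  apply Submodule.mem_iSup_of_directed
  apply Monotone.directed_le
  intro i j hij
  exact Submodule.torsionBySet_le_torsionBySet_pow i j hij a

end Groth.Agent.Lib.TildePunct97
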