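import Groth.Agent.S4720
import Groth.Agent.Lib.SerreSk
import Groth.Agent.Lib.H8CM10
import Groth.Agent.Lib.H47Reflexive
import Groth.Agent.Lib.TildePunct97
import Mathlib.RingTheory.Ideal.AssociatedPrime.Localization

/-!
# Modules pure / closed along a set of primes stable under specialization (EGA IV 5.10)

(helper58.)
-/

set_option autoImplicit false
universe u

open EGA4 AlgebraicGeometry CategoryTheory Opposite

namespace Groth.Agent.Lib.ZClosed58

open Groth.Agent.S4720

section Pure

variable (A : Type u) [CommRing A] [IsNoetherianRing A] (Z : Set (PrimeSpectrum A))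
  (M : Type u) [AddCommGroup M] [Module A M]

omit [IsNoetherianRing A] in
variable {A Z} in
theorem zeroLocus_subset_of_mem (hZ : StableUnderSpecialization Z) {p : PrimeSpectrum A}
    (hp : p ∈ Z) : PrimeSpectrum.zeroLocus (p.asIdeal : Set A) ⊆ Z := by
  intro q hq
  have hle : p ≤ q := hq
  exact hZ ((PrimeSpectrum.le_iff_specializes p q).1 hle) hp

/-- `M` is pure along `Z` iff no associated prime of `M` lies in `Z`. -/
theorem isPureAlong_iff_associatedPrimes (hZ : StableUnderSpecialization Z) :
    EGA4.IsPureAlong Z M ↔
      ∀ p : PrimeSpectrum A, p.asIdeal ∈ associatedPrimes A M → p ∉ Z := by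
  constructor
  · intro hpure p hpass hpZ
    obtain ⟨hprime, m, hm⟩ := (isAssociatedPrime_iff (I := p.asIdeal) (M := M)).1 hpass
    have hinj := hpure p.asIdeal (zeroLocus_subset_of_mem hZ hpZ)
    rw [injective_restr_iff] at hinj
    have hm0 : m = 0 := by
      apply hinj
      intro x hx
      have hx' : ¬ (p.asIdeal : Set A) ⊆ x.asIdeal := hx
      obtain ⟨s, hsp, hsx⟩ := Set.not_subset.1 hx'
      refine ⟨s, hsx, ?_⟩
      have : s ∈ (⊥ : Submodule A M).colon {m} := by rw [← hm]; exact hsp
      rw [Submodule.mem_colon_singleton] at this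
      exact this
    apply hprime.ne_top
    rw [hm, hm0]
    rw [eq_top_iff]
    intro a _
    rw [Submodule.mem_colon_singleton, smul_zero]
    exact Submodule.zero_mem _
  · intro h J hJ
    rw [injective_restr_iff]
    intro m hm
    by_contra hne
    obtain ⟨P, hP, hle⟩ := exists_le_isAssociatedPrime_of_isNoetherianRing (R := A) m hne
    have hPprime := hP.isPrime
    have hPZ : (⟨P, hPprime⟩ : PrimeSpectrum A) ∉ Z := h ⟨P, hPprime⟩ hP
    have hPJ : (⟨P, hPprime⟩ : PrimeSpectrum A) ∈ (PrimeSpectrum.zeroLocus (J : Set A))ᶜ :=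
      fun hcon => hPZ (hJ hcon)
    obtain ⟨s, hs, hsm⟩ := hm _ hPJ
    apply hs
    apply hle
    rw [Submodule.mem_colon_singleton, hsm]
    exact Submodule.zero_mem _

/-- A prime is associated to a finite module iff the localization has depth zero. -/
theorem mem_associatedPrimes_iff_not_one_le_depth [Module.Finite A M] (p : PrimeSpectrum A) :
    p.asIdeal ∈ associatedPrimes A M ↔
      ¬ (1 : ℕ∞) ≤ LocCoh.depth (Localization.AtPrime p.asIdeal)
        (LocalizedModule p.asIdeal.primeCompl M) := by
  have key := Module.associatedPrimes.preimage_comap_associatedPrimes_eq_associatedPrimes_of_isLocalizedModule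
    p.asIdeal.primeCompl (Localization.AtPrime p.asIdeal)
    (LocalizedModule.mkLinearMap p.asIdeal.primeCompl M)
  have h1 : p.asIdeal ∈ associatedPrimes A M ↔
      IsLocalRing.maximalIdeal (Localization.AtPrime p.asIdeal) ∈
        associatedPrimes (Localization.AtPrime p.asIdeal)
          (LocalizedModule p.asIdeal.primeCompl M) := by
    rw [← key, Set.mem_preimage]
    have : Ideal.comap (algebraMap A (Localization.AtPrime p.asIdeal))
        (IsLocalRing.maximalIdeal (Localization.AtPrime p.asIdeal)) = p.asIdeal :=
      Localization.AtPrime.under_maximalIdeal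
    rw [this]
  rw [h1]
  by_cases hN : Nontrivial (LocalizedModule p.asIdeal.primeCompl M)
  · exact Groth.Agent.Lib.SerreSk.maximalIdeal_mem_associatedPrimes_iff _
  · rw [not_nontrivial_iff_subsingleton] at hN
    constructor
    · intro h
      exact absurd h not_isAssociatedPrime_of_subsingleton
    · intro h
      exfalso
      apply h
      rw [Groth.Agent.Lib.H8CM.depth_eq_top_of_subsingleton]
      exact le_top

theorem isPureAlong_iff_depth [Module.Finite A M] (hZ : StableUnderSpecialization Z) :
    EGA4.IsPureAlong Z M ↔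
      ∀ p : PrimeSpectrum A, p ∈ Z → (1 : ℕ∞) ≤ LocCoh.depth (Localization.AtPrime p.asIdeal)
        (LocalizedModule p.asIdeal.primeCompl M) := by
  rw [isPureAlong_iff_associatedPrimes A Z M hZ]
  constructor
  · intro h p hp
    by_contra hcon
    exact h p ((mem_associatedPrimes_iff_not_one_le_depth A M p).2 hcon) hp
  · intro h p hpass hpZ
    exact (mem_associatedPrimes_iff_not_one_le_depth A M p).1 hpass (h p hpZ)

end Pure

end Groth.Agent.Lib.ZClosed58
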