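import Groth.Agent.Lib.ComplUC33
import Groth.Agent.Lib.H87Serre2
import Groth.Agent.Lib.GFT53
import Groth.Agent.Lib.H1Fin53a
import Groth.Agent.Lib.ZClosed58
import Groth.Agent.Lib.LocCohBaseChange

/-!
# `H^1_m` and completion (helper53)

* `exists_regular_surjection` : a complete Noetherian local ring is a quotient of a regular ring
  (Cohen structure theorem);
* `finite_H1_iff_of_complete` : over a complete Noetherian local ring `B`, `H^1_m(N)` is finite iff
  `dim B/P ≥ 2` for all `P ∈ Ass N`, `P ≠ m`;
* `finite_H_iff_cpl` : `H^i_m(M)` is finite over `A` iff `H^i_{m̂}(Â ⊗ M)` is finite over `Â`.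
-/

set_option maxHeartbeats 400000
set_option linter.unusedSectionVars false
set_option linter.style.haveILetI false
universe u

namespace Groth.Agent.Lib.CplH1_53
open IsLocalRing

section cohen
variable (B : Type u) [CommRing B] [IsLocalRing B] [IsNoetherianRing B]
  [IsAdicComplete (maximalIdeal B) B]

/-- A complete Noetherian local ring is a quotient of a regular ring. -/
theorem exists_regular_surjection :
    ∃ (R : Type u) (_ : CommRing R) (_ : IsRegularRing R) (π : R →+* B),
      Function.Surjective π := by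
  obtain ⟨Λ, _, n, f, hΛ, hf⟩ := Groth.Agent.S0580.result B
    ((isNoetherianRing_iff_ideal_fg B).mp inferInstance _)
  haveI : IsRegularLocalRing Λ := by
    rcases hΛ with h | h
    · exact Groth.Agent.Lib.ComplUC33.isRegularLocalRing_of_isField Λ h
    · exact Groth.Agent.Lib.ComplUC33.isRegularLocalRing_of_isCohenRing Λ h
  haveI := Groth.Agent.Lib.PSRegular33.isRegularLocalRing_mvPowerSeries_fin Λ n
  exact ⟨MvPowerSeries (Fin n) Λ, inferInstance,
    Groth.Agent.Lib.H87Serre2.isRegularRing_of_isRegularLocalRing, f, hf⟩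

end cohen

section local_
variable (B : Type u) [CommRing B] [IsLocalRing B] [IsNoetherianRing B]

/-- the adjusted depth w.r.t. the maximal ideal: `depth N_p + dim B/p`. -/
theorem height_map_maximalIdeal (p : PrimeSpectrum B) :
    (((maximalIdeal B ⊔ p.asIdeal).map (Ideal.Quotient.mk p.asIdeal)).height : WithBot ℕ∞) =
      ringKrullDim (B ⧸ p.asIdeal) := by
  have hle : p.asIdeal ≤ maximalIdeal B := IsLocalRing.le_maximalIdeal p.2.ne_top
  rw [sup_eq_left.2 hle]
  haveI : Nontrivial (B ⧸ p.asIdeal) := Ideal.Quotient.nontrivial_iff.2 p.2.ne_top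
  haveI : IsLocalRing (B ⧸ p.asIdeal) :=
    IsLocalRing.of_surjective' (Ideal.Quotient.mk p.asIdeal) Ideal.Quotient.mk_surjective
  have hmax : ((maximalIdeal B).map (Ideal.Quotient.mk p.asIdeal)).IsMaximal :=
    Ideal.IsMaximal.map_of_surjective_of_ker_le Ideal.Quotient.mk_surjective
      (by rw [Ideal.mk_ker]; exact hle)
  rw [IsLocalRing.eq_maximalIdeal hmax]
  exact IsLocalRing.maximalIdeal_height_eq_ringKrullDim

end local_

end Groth.Agent.Lib.CplH1_53
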