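import Groth.Agent.Lib.CplH1_53a

/-!
# `H^1_m` finiteness over a local quotient of a regular ring (helper53)
-/

set_option maxHeartbeats 400000
set_option linter.unusedSectionVars false
set_option linter.style.haveILetI false
universe u

namespace Groth.Agent.Lib.CplH1_53
open IsLocalRing

section reg
variable (R : Type u) [CommRing R] [IsRegularRing R]
  (B : Type u) [CommRing B] [IsLocalRing B] [IsNoetherianRing B]
  (π : R →+* B) (hπ : Function.Surjective π)
  (N : Type u) [AddCommGroup N] [Module B N] [Module.Finite B N]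

theorem two_le_height_iff (p : PrimeSpectrum B) :
    (2 : ℕ∞) ≤ ((maximalIdeal B ⊔ p.asIdeal).map (Ideal.Quotient.mk p.asIdeal)).height ↔
      (2 : WithBot ℕ∞) ≤ ringKrullDim (B ⧸ p.asIdeal) := by
  rw [← height_map_maximalIdeal B p]
  exact (WithBot.coe_le_coe (a := (2 : ℕ∞))).symm

include hπ in
/-- over a local quotient of a regular ring: `H^1_m(N)` finite iff `dim B/P ≥ 2` for all
non-maximal associated primes `P` of `N`. -/
theorem finite_H1_iff_of_regular :
    Module.Finite B (LocCoh.H (maximalIdeal B) 1 N) ↔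
      ∀ P ∈ associatedPrimes B N, P ≠ maximalIdeal B →
        (2 : WithBot ℕ∞) ≤ ringKrullDim (B ⧸ P) := by
  have hGFT := Groth.Agent.Lib.GFT53.finite_H_iff_lt_adjDepth R B π hπ (maximalIdeal B) N 1
  have hiff : Module.Finite B (LocCoh.H (maximalIdeal B) 1 N) ↔
      ∀ i : ℕ, i ≤ 1 → Module.Finite B (LocCoh.H (maximalIdeal B) i N) := by
    refine ⟨fun h i hi => ?_, fun h => h 1 le_rfl⟩
    interval_cases i
    · exact Groth.Agent.Lib.H1Fin53.finite_H0 _ N
    · exact h
  rw [hiff, hGFT]
  constructor
  · intro h P hP hPm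
    have hPp : P.IsPrime := hP.isPrime
    have hnot : ¬ maximalIdeal B ≤ (⟨P, hPp⟩ : PrimeSpectrum B).asIdeal := by
      intro hle
      exact hPm ((IsLocalRing.maximalIdeal.isMaximal B).eq_of_le hPp.ne_top hle).symm
    have h1 := h ⟨P, hPp⟩ hnot
    set q : PrimeSpectrum B := ⟨P, hPp⟩ with hq
    have hd : LocCoh.depth (Localization.AtPrime q.asIdeal)
        (LocalizedModule q.asIdeal.primeCompl N) = 0 := by
      have := (Groth.Agent.Lib.ZClosed58.mem_associatedPrimes_iff_not_one_le_depth B N q).1 hP
      rw [not_le] at this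
      exact ENat.lt_one_iff_eq_zero.1 this
    unfold LocCoh.adjDepth at h1
    rw [hd, zero_add] at h1
    have h2 := (two_le_height_iff B q).1 (by
      have := Order.add_one_le_of_lt h1
      refine le_trans ?_ this
      norm_num)
    exact h2
  · intro h p hp
    unfold LocCoh.adjDepth
    by_cases hd : (1 : ℕ∞) ≤ LocCoh.depth (Localization.AtPrime p.asIdeal)
        (LocalizedModule p.asIdeal.primeCompl N)
    · have hh : (1 : ℕ∞) ≤
          ((maximalIdeal B ⊔ p.asIdeal).map (Ideal.Quotient.mk p.asIdeal)).height := by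
        rw [ENat.one_le_iff_ne_zero, Ne, Ideal.height_eq_zero_iff_eq_bot,
          Ideal.map_eq_bot_iff_le_ker, Ideal.mk_ker]
        exact fun h => hp (le_sup_left.trans h)
      refine lt_of_lt_of_le ?_ (add_le_add hd hh)
      exact_mod_cast (by norm_num : (1 : ℕ) < 1 + 1)
    · have hass := (Groth.Agent.Lib.ZClosed58.mem_associatedPrimes_iff_not_one_le_depth B N p).2 hd
      have hne : p.asIdeal ≠ maximalIdeal B := fun he => hp he.ge
      have h2 := (two_le_height_iff B p).2 (h p.asIdeal hass hne)
      refine lt_of_lt_of_le ?_ (le_trans h2 le_add_self)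
      exact_mod_cast (by norm_num : (1 : ℕ) < 2)

end reg

section complete
variable (B : Type u) [CommRing B] [IsLocalRing B] [IsNoetherianRing B]
  [IsAdicComplete (maximalIdeal B) B]
  (N : Type u) [AddCommGroup N] [Module B N] [Module.Finite B N]

/-- over a complete Noetherian local ring: `H^1_m(N)` finite iff `dim B/P ≥ 2` for all
non-maximal associated primes `P` of `N`. -/
theorem finite_H1_iff_of_complete :
    Module.Finite B (LocCoh.H (maximalIdeal B) 1 N) ↔
      ∀ P ∈ associatedPrimes B N, P ≠ maximalIdeal B →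
        (2 : WithBot ℕ∞) ≤ ringKrullDim (B ⧸ P) := by
  obtain ⟨R, _, _, π, hπ⟩ := exists_regular_surjection B
  exact finite_H1_iff_of_regular R B π hπ N

end complete

end Groth.Agent.Lib.CplH1_53
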