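import Groth.Agent.Lib.H1Fin53d

/-!
# Finiteness of `H^1_I`: reduction to `A/p` for associated primes, final step (helper53)
-/

set_option maxHeartbeats 400000
set_option linter.unusedSectionVars false
universe u

namespace Groth.Agent.Lib.H1Fin53
open Groth.Agent.Lib.LocCohLES Groth.Agent.Lib.FinDimRel53

section main
variable {A : Type u} [CommRing A] [IsNoetherianRing A] (I : Ideal A)

theorem F_of_ass : ∀ (n : ℕ) (M : Type u) [AddCommGroup M] [Module A M] [Module.Finite A M],
    (associatedPrimes A M).ncard ≤ n →
    (∀ p : Ideal A, p ∈ associatedPrimes A M → ¬ I ≤ p → F I (A ⧸ p)) → F I M := by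
  intro n
  induction n with
  | zero =>
    intro M _ _ _ hcard h
    have hfin := associatedPrimes.finite A M
    have hemp : associatedPrimes A M = ∅ := (Set.ncard_eq_zero hfin).1 (Nat.le_zero.1 hcard)
    haveI : Subsingleton M := by
      by_contra hns
      rw [not_subsingleton_iff_nontrivial] at hns
      have := associatedPrimes.nonempty A M
      rw [hemp] at this
      exact Set.not_nonempty_empty this
    exact F_of_subsingleton I M
  | succ n ih =>
    intro M _ _ _ hcard h
    by_cases hM : Subsingleton M
    · exact F_of_subsingleton I M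
    rw [not_subsingleton_iff_nontrivial] at hM
    have hann : Module.annihilator A M ≠ ⊤ := by
      rw [Ne, Module.annihilator_eq_top_iff]
      exact not_subsingleton M
    obtain ⟨p, hp⟩ := Ideal.nonempty_minimalPrimes hann
    haveI : p.IsPrime := hp.1.1
    have hpM : p ∈ associatedPrimes A M :=
      Module.associatedPrimes.minimalPrimes_annihilator_subset_associatedPrimes A M hp
    have hK_ass : associatedPrimes A (K p M) ⊆ associatedPrimes A M \ {p} := by
      intro q hq
      refine ⟨associatedPrimes.subset_of_injective (K p M).injective_subtype hq, ?_⟩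
      rw [Set.mem_singleton_iff]
      rintro rfl
      obtain ⟨-, x, hx⟩ := isAssociatedPrime_iff.1 hq
      obtain ⟨s, hs⟩ := (mem_K_iff q M x.1).1 x.2
      apply s.2
      have hmem : s.1 ∈ (⊥ : Submodule A (K q M)).colon {x} := by
        rw [Submodule.mem_colon_singleton, Submodule.mem_bot]
        exact Subtype.ext hs
      rw [← hx] at hmem
      exact hmem
    have hcardK : (associatedPrimes A (K p M)).ncard ≤ n := by
      have hlt : (associatedPrimes A (K p M)).ncard < (associatedPrimes A M).ncard := by
        refine Set.ncard_lt_ncard ?_ (associatedPrimes.finite A M)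
        refine lt_of_le_of_lt hK_ass ?_
        exact Set.diff_singleton_ssubset.2 hpM
      omega
    haveI : IsNoetherian A M := isNoetherian_of_isNoetherianRing_of_finite A M
    have hFK : F I (K p M) := ih (K p M) hcardK (fun q hq hIq => h q (hK_ass hq).1 hIq)
    have hQ_ass : associatedPrimes A (M ⧸ K p M) ⊆ {p} := by
      intro q hq
      rw [Set.mem_singleton_iff]
      have hqp : q ≤ p := le_of_mem_associatedPrimes_quotient_K p M q hq
      have hqprime : q.IsPrime := hq.isPrime
      have h1 : Module.annihilator A M ≤ q := by
        refine (LinearMap.annihilator_le_of_surjective (K p M).mkQ (K p M).mkQ_surjective).trans ?_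
        rw [← Submodule.annihilator_top]
        exact IsAssociatedPrime.annihilator_le hq
      exact le_antisymm hqp (hp.2 ⟨hqprime, h1⟩ hqp)
    have hFQ : F I (M ⧸ K p M) := by
      by_cases hIp : I ≤ p
      · exact F_of_torsion I (isPowerTorsion_of_ass I hQ_ass hIp)
      · exact F_of_coprimary I p _ hQ_ass (h p hpM hIp)
    exact F_of_exact I (K p M).subtype (K p M).mkQ (K p M).injective_subtype
      (LinearMap.exact_subtype_mkQ _) (K p M).mkQ_surjective hFK hFQ

/-- `H^1_I(M)` is finite iff `H^1_I(A/p)` is finite for all `p ∈ Ass M` with `I ⊄ p`. -/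
theorem finite_H1_iff (M : Type u) [AddCommGroup M] [Module A M] [Module.Finite A M] :
    Module.Finite A (LocCoh.H I 1 M) ↔
      ∀ p : Ideal A, p ∈ associatedPrimes A M → ¬ I ≤ p →
        Module.Finite A (LocCoh.H I 1 (A ⧸ p)) := by
  constructor
  · intro hM p hp _
    obtain ⟨f, hf⟩ := (isAssociatedPrime_iff_exists_injective_linearMap p M).1 hp |>.2
    exact F_of_injective I f hf hM
  · intro h
    exact F_of_ass I _ M le_rfl h

end main

end Groth.Agent.Lib.H1Fin53
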