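import Groth.Agent.Lib.IdealTransform4

/-!
Ideal transforms under change of rings (Brodmann–Sharp 2.2.24, for one module).
-/

universe u
open CategoryTheory CategoryTheory.Limits Opposite TensorProduct

namespace Groth.Agent.Lib.IdealTransform
open LocCoh

section changeOfRings
variable {R : Type u} [CommRing R] {R' : Type u} [CommRing R'] [Algebra R R'] (I : Ideal R)

theorem algebraMap_mem_map_pow {n : ℕ} {a : R} (ha : a ∈ I ^ n) :
    algebraMap R R' a ∈ (I.map (algebraMap R R')) ^ n := by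
  rw [← Ideal.map_pow]
  exact Ideal.mem_map_of_mem _ ha

variable {X : Type u} [AddCommGroup X] [Module R' X] [Module R X] [IsScalarTower R R' X]

/-- If `algebraMap a • x = 0` for all `a ∈ I^n` then `b • x = 0` for all `b ∈ (I R')^n`. -/
theorem smul_eq_zero_of_mem_map_pow {n : ℕ} {x : X} (h : ∀ a ∈ I ^ n, a • x = 0) {b : R'}
    (hb : b ∈ (I.map (algebraMap R R')) ^ n) : b • x = 0 := by
  rw [← Ideal.map_pow, Ideal.map] at hb
  induction hb using Submodule.span_induction with
  | mem b hb =>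
    obtain ⟨a, ha, rfl⟩ := hb
    rw [algebraMap_smul]
    exact h a ha
  | zero => simp
  | add b c _ _ hb hc => rw [add_smul, hb, hc, add_zero]
  | smul c b _ hb => rw [smul_eq_mul, mul_smul, hb, smul_zero]

theorem mem_torsionSub_map_iff (x : X) :
    x ∈ DRing.torsionSub (I.map (algebraMap R R')) X ↔ x ∈ DRing.torsionSub I X := by
  constructor
  · rintro ⟨n, h⟩
    refine ⟨n, fun a ha => ?_⟩
    rw [← algebraMap_smul R' a x]
    exact h _ (algebraMap_mem_map_pow I ha)
  · rintro ⟨n, h⟩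
    exact ⟨n, fun b hb => smul_eq_zero_of_mem_map_pow I h hb⟩

section eps
variable (R')
variable [IsNoetherianRing R] [IsNoetherianRing R'] (M' : Type u) [AddCommGroup M'] [Module R' M']
  [Module R M'] [IsScalarTower R R' M']

/-- `D_{IR'}(M')` with scalars restricted to `R`. -/
noncomputable abbrev DTR : Type u := ↑((ModuleCat.restrictScalars (algebraMap R R')).obj
  ((idealTransform (I.map (algebraMap R R'))).obj (ModuleCat.of R' M')))

/-- the identity `D_{IR'}(M') → DTR`. -/
noncomputable def toR : DT (I.map (algebraMap R R')) M' ≃+ DTR R' I M' := AddEquiv.refl _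

omit [IsNoetherianRing R] [IsNoetherianRing R'] [Module R M'] [IsScalarTower R R' M'] in
theorem toR_smul (r : R) (x : DT (I.map (algebraMap R R')) M') :
    toR R' I M' (algebraMap R R' r • x) = r • toR R' I M' x := rfl

/-- `η'` as an `R`-linear map. -/
noncomputable def toDT'R : M' →ₗ[R] DTR R' I M' where
  toFun m := toR R' I M' (toDT (I.map (algebraMap R R')) M' m)
  map_add' m m' := by rw [map_add, map_add]
  map_smul' r m := by
    rw [RingHom.id_apply, ← toR_smul, ← map_smul, algebraMap_smul]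

theorem toDT'R_apply (m : M') :
    toDT'R R' I M' m = toR R' I M' (toDT (I.map (algebraMap R R')) M' m) := rfl

theorem ker_toDT'R_le : LinearMap.ker (toDT'R R' I M') ≤ DRing.torsionSub I M' := by
  intro m hm
  rw [← mem_torsionSub_map_iff (R' := R'), ← ker_toDT, LinearMap.mem_ker]
  rw [LinearMap.mem_ker, toDT'R_apply] at hm
  exact (toR R' I M').injective (by rw [hm, map_zero])

theorem isPowerTorsion_coker_toDT'R :
    IsPowerTorsion I (DTR R' I M' ⧸ LinearMap.range (toDT'R R' I M')) := by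
  intro q
  obtain ⟨x, rfl⟩ := Submodule.Quotient.mk_surjective _ q
  obtain ⟨x, rfl⟩ := (toR R' I M').surjective x
  obtain ⟨n, f, rfl⟩ := exists_rep _ M' x
  refine ⟨n, fun a ha => ?_⟩
  rw [← Submodule.Quotient.mk_smul, Submodule.Quotient.mk_eq_zero, ← toR_smul,
    smul_ι _ f _ (algebraMap_mem_map_pow I ha)]
  exact ⟨_, rfl⟩

/-- The comparison `ε : D_{IR'}(M') → D_I(M')`, `R`-linear. -/
noncomputable def epsR : DTR R' I M' →ₗ[R] DT I M' :=
  factor I (toDT'R R' I M') (ker_toDT'R_le R' I M') (isPowerTorsion_coker_toDT'R R' I M')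
    LinearMap.id

/-- The comparison `ε : D_{IR'}(M') → D_I(M')`. -/
noncomputable def eps : DT (I.map (algebraMap R R')) M' →+ DT I M' :=
  (epsR R' I M').toAddMonoidHom.comp (toR R' I M').toAddMonoidHom

theorem eps_toDT (m : M') : eps R' I M' (toDT (I.map (algebraMap R R')) M' m) = toDT I M' m :=
  LinearMap.congr_fun (factor_comp I (toDT'R R' I M') (ker_toDT'R_le R' I M')
    (isPowerTorsion_coker_toDT'R R' I M') LinearMap.id) m

theorem eps_smul (r : R) (x : DT (I.map (algebraMap R R')) M') :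
    eps R' I M' (algebraMap R R' r • x) = r • eps R' I M' x := by
  change epsR R' I M' (toR R' I M' (algebraMap R R' r • x)) = r • epsR R' I M' (toR R' I M' x)
  rw [toR_smul, map_smul]

/-- An `R'`-linear map on `(IR')^n` with values in an `R'`-submodule on the image of `I^n` has all
values in it. -/
theorem forall_mem_of_forall_algebraMap_mem {X : Type*} [AddCommGroup X] [Module R' X] {n : ℕ}
    (f : ↥((I.map (algebraMap R R')) ^ n) →ₗ[R'] X) (N : Submodule R' X)
    (h : ∀ a (ha : a ∈ I ^ n), f ⟨algebraMap R R' a, algebraMap_mem_map_pow I ha⟩ ∈ N) :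
    ∀ c, f c ∈ N := by
  let S : Submodule R' R' := Submodule.map ((I.map (algebraMap R R')) ^ n).subtype
    (Submodule.comap f N)
  have hS : (I.map (algebraMap R R')) ^ n ≤ S := by
    rw [← Ideal.map_pow, Ideal.map, Ideal.span_le]
    rintro _ ⟨a, ha, rfl⟩
    exact ⟨⟨algebraMap R R' a, algebraMap_mem_map_pow I ha⟩, h a ha, rfl⟩
  rintro ⟨b, hb⟩
  obtain ⟨y, hy, hyb⟩ := hS hb
  have : y = ⟨b, hb⟩ := Subtype.ext hyb
  rw [← this]
  exact hy

theorem eps_injective : Function.Injective (eps R' I M') := by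
  rw [injective_iff_map_eq_zero]
  intro x hx
  obtain ⟨n, f, rfl⟩ := exists_rep _ M' x
  apply ι_eq_zero_of_forall_mem_torsionSub
  apply forall_mem_of_forall_algebraMap_mem R' I f
  intro a ha
  rw [mem_torsionSub_map_iff, ← ker_toDT, LinearMap.mem_ker, ← eps_toDT R' I M',
    ← smul_ι _ f _ (algebraMap_mem_map_pow I ha), eps_smul, hx, smul_zero]

section tensor
variable (n : ℕ)

/-- `I^n → (IR')^n`. -/
def alphaN : ↥(I ^ n) →ₗ[R] ↥((I.map (algebraMap R R')) ^ n) where
  toFun x := ⟨algebraMap R R' x.1, algebraMap_mem_map_pow I x.2⟩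
  map_add' x y := Subtype.ext (by simp)
  map_smul' r x := Subtype.ext (by simp [Algebra.smul_def])

/-- `R' ⊗ I^n → (IR')^n`. -/
noncomputable def eN : R' ⊗[R] ↥(I ^ n) →ₗ[R'] ↥((I.map (algebraMap R R')) ^ n) :=
  (alphaN R' I n).liftBaseChange R'

theorem eN_tmul (r' : R') (x : ↥(I ^ n)) :
    ((eN R' I n (r' ⊗ₜ x) : ↥((I.map (algebraMap R R')) ^ n)) : R') =
      r' * algebraMap R R' x.1 := by
  simp [eN, alphaN]

theorem eN_surjective : Function.Surjective (eN R' I n) := by
  intro c
  have := forall_mem_of_forall_algebraMap_mem R' I (n := n) LinearMap.id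
    (LinearMap.range (eN R' I n)) (fun a ha => by
      refine ⟨1 ⊗ₜ ⟨a, ha⟩, Subtype.ext ?_⟩
      rw [eN_tmul, one_mul]
      rfl) c
  exact this

/-- Key identity: `alg(a) • z = (e z) ⊗ a` for `a ∈ I^n`. -/
theorem algebraMap_smul_eq_eN_tmul (a : R) (ha : a ∈ I ^ n) (z : R' ⊗[R] ↥(I ^ n)) :
    algebraMap R R' a • z =
      ((eN R' I n z : ↥((I.map (algebraMap R R')) ^ n)) : R') ⊗ₜ[R] (⟨a, ha⟩ : ↥(I ^ n)) := by
  induction z using TensorProduct.induction_on with
  | zero => simp
  | tmul r' x =>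
    rw [eN_tmul, TensorProduct.smul_tmul', smul_eq_mul, mul_comm r' (algebraMap R R' x.1),
      ← Algebra.smul_def, ← Algebra.smul_def, TensorProduct.smul_tmul, TensorProduct.smul_tmul]
    congr 1
    ext
    simp [mul_comm]
  | add z w hz hw =>
    rw [smul_add, hz, hw, map_add, Submodule.coe_add, TensorProduct.add_tmul]

theorem ker_eN_le : LinearMap.ker (eN R' I n) ≤
    DRing.torsionSub (I.map (algebraMap R R')) (R' ⊗[R] ↥(I ^ n)) := by
  intro z hz
  refine ⟨n, fun b hb => ?_⟩
  refine smul_eq_zero_of_mem_map_pow I (fun a ha => ?_) hb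
  rw [← algebraMap_smul R' a z, algebraMap_smul_eq_eN_tmul R' I n a ha, LinearMap.mem_ker.1 hz]
  simp

theorem isPowerTorsion_coker_eN : IsPowerTorsion (I.map (algebraMap R R'))
    (↥((I.map (algebraMap R R')) ^ n) ⧸ LinearMap.range (eN R' I n)) := by
  intro q
  obtain ⟨x, rfl⟩ := Submodule.Quotient.mk_surjective _ q
  refine ⟨0, fun a _ => ?_⟩
  rw [← Submodule.Quotient.mk_smul, Submodule.Quotient.mk_eq_zero,
    LinearMap.range_eq_top.2 (eN_surjective R' I n)]
  trivial

end tensor

theorem eps_surjective : Function.Surjective (eps R' I M') := by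
  intro y
  obtain ⟨n, g, rfl⟩ := exists_rep I M' y
  set I' := I.map (algebraMap R R') with hI'
  let ghat : R' ⊗[R] ↥(I ^ n) →ₗ[R'] M' := g.liftBaseChange R'
  let E := mapEquiv I' (eN R' I n) (ker_eN_le R' I n) (isPowerTorsion_coker_eN R' I n)
  let z₀ := E.symm (ι I' ↥(I' ^ n) n LinearMap.id)
  obtain ⟨k, u, hu⟩ := exists_rep I' (R' ⊗[R] ↥(I ^ n)) z₀
  have h1 : E z₀ = ι I' ↥(I' ^ n) n LinearMap.id := E.apply_symm_apply _
  rw [← hu] at h1
  change ((idealTransform I').map (ModuleCat.ofHom (eN R' I n))).hom _ = _ at h1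
  rw [map_ι, ι_eq_ι_iff] at h1
  obtain ⟨N, hkN, hnN, hN⟩ := h1
  refine ⟨ι I' M' k (ghat ∘ₗ u), ?_⟩
  rw [← sub_eq_zero]
  have hmem : eps R' I M' (ι I' M' k (ghat ∘ₗ u)) - ι I M' n g ∈ DRing.torsionSub I (DT I M') := by
    refine ⟨N, fun a ha => ?_⟩
    have haN : algebraMap R R' a ∈ I' ^ N := algebraMap_mem_map_pow I ha
    have hak : algebraMap R R' a ∈ I' ^ k := Ideal.pow_le_pow_right hkN haN
    have han : a ∈ I ^ n := Ideal.pow_le_pow_right hnN ha
    rw [smul_sub, ← eps_smul, smul_ι I' (ghat ∘ₗ u) _ hak, eps_toDT, smul_ι I g a han,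
      ← map_sub, ← LinearMap.mem_ker, ker_toDT]
    -- the difference is killed by `I^n`
    set w : R' ⊗[R] ↥(I ^ n) := u ⟨algebraMap R R' a, hak⟩ - 1 ⊗ₜ ⟨a, han⟩ with hw
    have hw0 : eN R' I n w = 0 := by
      rw [hw, map_sub, sub_eq_zero]
      have h2 := LinearMap.congr_fun hN ⟨algebraMap R R' a, haN⟩
      simp only [LinearMap.comp_apply, LinearMap.id_apply] at h2
      apply Subtype.ext
      have h3 := congrArg Subtype.val h2
      rw [eN_tmul, one_mul]
      exact h3
    have hgw : (ghat ∘ₗ u) ⟨algebraMap R R' a, hak⟩ - g ⟨a, han⟩ = ghat w := by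
      rw [hw, map_sub, LinearMap.comp_apply]
      congr 1
      simp [ghat]
    rw [hgw]
    refine ⟨n, fun b hb => ?_⟩
    rw [← algebraMap_smul R' b (ghat w), ← map_smul, algebraMap_smul_eq_eN_tmul R' I n b hb, hw0]
    simp
  rw [torsionSub_DT_eq_bot] at hmem
  exact (Submodule.mem_bot R).1 hmem

/-- Brodmann–Sharp 2.2.24 for one module. -/
noncomputable def epsEquiv : DT (I.map (algebraMap R R')) M' ≃+ DT I M' :=
  AddEquiv.ofBijective (eps R' I M') ⟨eps_injective R' I M', eps_surjective R' I M'⟩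

end eps

end changeOfRings

end Groth.Agent.Lib.IdealTransform
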