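import Groth.Agent.Lib.LocCohRestrict
import Groth.Agent.Lib.IdealTransform5
import Groth.Agent.S0299

/-!
# Independence of base for local cohomology (Brodmann–Sharp 4.2.1) (helper53)

`R → R'` Noetherian rings, `M'` an `R'`-module: `H^i_{IR'}(M') ≃+ H^i_I(M')`, compatible with the
`R`-actions.
-/

set_option maxHeartbeats 400000
set_option linter.unusedSectionVars false
universe u
open CategoryTheory CategoryTheory.Limits Opposite

namespace Groth.Agent.Lib.LocCohIndepBase
open Groth.Agent.Lib.LocCohConcrete Groth.Agent.Lib.LocCohLES Groth.Agent.Lib.LocCohH0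
open Groth.Agent.Lib.LocCohTorsion Groth.Agent.Lib.LocCohRestrict

section group
variable {B₁ C₁ B₂ C₂ : Type*} [AddCommGroup B₁] [AddCommGroup C₁] [AddCommGroup B₂]
  [AddCommGroup C₂]

/-- two surjections with corresponding kernels have isomorphic targets. -/
theorem exists_addEquiv_of_ker (d₁ : B₁ →+ C₁) (d₂ : B₂ →+ C₂) (hd₁ : Function.Surjective d₁)
    (hd₂ : Function.Surjective d₂) (β : B₁ ≃+ B₂) (hker : ∀ b, d₁ b = 0 ↔ d₂ (β b) = 0) :
    ∃ γ : C₁ ≃+ C₂, ∀ b, γ (d₁ b) = d₂ (β b) := by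
  have hwd : ∀ b b', d₁ b = d₁ b' → d₂ (β b) = d₂ (β b') := by
    intro b b' h
    have h1 : d₁ (b - b') = 0 := by rw [map_sub, h, sub_self]
    have h2 := (hker _).1 h1
    rw [map_sub, map_sub, sub_eq_zero] at h2
    exact h2
  let γf : C₁ → C₂ := fun c => d₂ (β (Classical.choose (hd₁ c)))
  have hγ : ∀ b, γf (d₁ b) = d₂ (β b) := fun b =>
    hwd _ _ (Classical.choose_spec (hd₁ (d₁ b)))
  let γh : C₁ →+ C₂ := AddMonoidHom.mk' γf (by
    intro c c'
    obtain ⟨b, rfl⟩ := hd₁ c
    obtain ⟨b', rfl⟩ := hd₁ c'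
    rw [← map_add, hγ, hγ, hγ, map_add, map_add])
  have hbij : Function.Bijective γh := by
    constructor
    · rw [injective_iff_map_eq_zero]
      intro c hc
      obtain ⟨b, rfl⟩ := hd₁ c
      have : γf (d₁ b) = 0 := hc
      rw [hγ] at this
      exact (hker b).2 this
    · intro c₂
      obtain ⟨b₂, rfl⟩ := hd₂ c₂
      refine ⟨d₁ (β.symm b₂), ?_⟩
      change γf (d₁ (β.symm b₂)) = _
      rw [hγ, AddEquiv.apply_symm_apply]
  exact ⟨AddEquiv.ofBijective γh hbij, hγ⟩

end group

section zero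
variable {R R' : Type u} [CommRing R] [CommRing R'] [Algebra R R'] (I : Ideal R)

/-- the extended ideal. -/
abbrev J : Ideal R' := I.map (algebraMap R R')

variable (X : Type u) [AddCommGroup X] [Module R' X] [Module R X] [IsScalarTower R R' X]

/-- `Γ_{IR'}(X) ≃+ Γ_I(X)` (identity on elements). -/
def gammaAddEquiv : DRing.torsionSub (J (R' := R') I) X ≃+ DRing.torsionSub I X where
  toFun x := ⟨x.1, (Groth.Agent.Lib.IdealTransform.mem_torsionSub_map_iff I x.1).1 x.2⟩
  invFun x := ⟨x.1, (Groth.Agent.Lib.IdealTransform.mem_torsionSub_map_iff I x.1).2 x.2⟩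
  left_inv _ := rfl
  right_inv _ := rfl
  map_add' _ _ := rfl

/-- the degree zero isomorphism. -/
noncomputable def φ₀ : LocCoh.H (J (R' := R') I) 0 X ≃+ LocCoh.H I 0 X :=
  (gammaEquiv (J (R' := R') I) X).toAddEquiv.trans
    ((gammaAddEquiv I X).trans (gammaEquiv I X).symm.toAddEquiv)

theorem toGamma_φ₀ (y : LocCoh.H (J (R' := R') I) 0 X) :
    (toGamma I X (φ₀ I X y) : X) = (toGamma (J (R' := R') I) X y : X) := by
  have h1 : toGamma I X (φ₀ I X y) = gammaAddEquiv I X (toGamma (J (R' := R') I) X y) := by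
    change gammaEquiv I X ((gammaEquiv I X).symm _) = _
    rw [LinearEquiv.apply_symm_apply]
    rfl
  rw [h1]
  rfl

theorem φ₀_smul (r : R) (y : LocCoh.H (J (R' := R') I) 0 X) :
    φ₀ I X (algebraMap R R' r • y) = r • φ₀ I X y := by
  apply toGamma_injective I X
  apply Subtype.ext
  rw [toGamma_φ₀, map_smul, map_smul]
  change algebraMap R R' r • (toGamma (J (R' := R') I) X y : X) = r • (toGamma I X (φ₀ I X y) : X)
  rw [toGamma_φ₀, algebraMap_smul]

variable {X} in
theorem φ₀_natural {Y : Type u} [AddCommGroup Y] [Module R' Y] [Module R Y]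
    [IsScalarTower R R' Y] (g' : X →ₗ[R'] Y) (y : LocCoh.H (J (R' := R') I) 0 X) :
    φ₀ I Y (Hmap (J (R' := R') I) g' 0 y) = Hmap I (g'.restrictScalars R) 0 (φ₀ I X y) := by
  apply toGamma_injective I Y
  apply Subtype.ext
  rw [toGamma_φ₀, toGamma_Hmap, toGamma_Hmap, toGamma_φ₀]
  rfl

end zero

section main
variable {R R' : Type u} [CommRing R] [CommRing R'] [Algebra R R'] [IsNoetherianRing R]
  [IsNoetherianRing R'] (I : Ideal R)

/-- the statement of independence of base in degree `i` for the module `X`. -/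
def P (i : ℕ) (X : Type u) [AddCommGroup X] [Module R' X] [Module R X]
    [IsScalarTower R R' X] : Prop :=
  ∃ φ : LocCoh.H (J (R' := R') I) i X ≃+ LocCoh.H I i X,
    ∀ (r : R) (x : LocCoh.H (J (R' := R') I) i X), φ (algebraMap R R' r • x) = r • φ x

theorem P_zero (X : Type u) [AddCommGroup X] [Module R' X] [Module R X]
    [IsScalarTower R R' X] : P (R' := R') I 0 X :=
  ⟨φ₀ I X, φ₀_smul I X⟩

/-- data of an injective embedding with compatible `R`-structures. -/
theorem exists_embedding (X : Type u) [AddCommGroup X] [Module R' X] :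
    ∃ (E : Type u) (_ : AddCommGroup E) (_ : Module R' E) (ι : X →ₗ[R'] E),
      Function.Injective ι ∧ Module.Injective R' E :=
  Groth.Agent.S0299.exists_injective_embedding R' X

theorem P_one (X : Type u) [AddCommGroup X] [Module R' X] [Module R X]
    [IsScalarTower R R' X] : P (R' := R') I 1 X := by
  obtain ⟨E, _, _, ι, hι, hE⟩ := exists_embedding (R' := R') X
  let _ : Module R E := Module.compHom E (algebraMap R R')
  have : IsScalarTower R R' E :=
    ⟨fun r b y => by
      change (r • b) • y = algebraMap R R' r • (b • y)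
      rw [Algebra.smul_def, mul_smul]⟩
  let g' : E →ₗ[R'] E ⧸ LinearMap.range ι := (LinearMap.range ι).mkQ
  have hg' : Function.Surjective g' := Submodule.mkQ_surjective _
  have hfg' : Function.Exact ι g' := LinearMap.exact_map_mkQ_range ι
  let f : X →ₗ[R] E := ι.restrictScalars R
  let g : E →ₗ[R] E ⧸ LinearMap.range ι := g'.restrictScalars R
  have hf : Function.Injective f := hι
  have hg : Function.Surjective g := hg'
  have hfg : Function.Exact f g := hfg'
  have hE1 : Subsingleton (LocCoh.H (J (R' := R') I) 1 E) :=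
    subsingleton_H_of_injective _ E hE 1 one_pos
  have hE2 : Subsingleton (LocCoh.H I 1 E) :=
    subsingleton_H_of_injective_restrict (R' := R') I E hE 1 one_pos
  let d₁ := (Hδ (J (R' := R') I) ι g' hι hfg' hg' 0).toAddMonoidHom
  let d₂ := (Hδ I f g hf hfg hg 0).toAddMonoidHom
  have hd₁ : Function.Surjective d₁ := fun y =>
    (exact₁ (J (R' := R') I) ι g' hι hfg' hg' 0 y).1 (Subsingleton.elim _ _)
  have hd₂ : Function.Surjective d₂ := fun y =>
    (exact₁ I f g hf hfg hg 0 y).1 (Subsingleton.elim _ _)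
  have hker : ∀ b, d₁ b = 0 ↔ d₂ (φ₀ I (E ⧸ LinearMap.range ι) b) = 0 := by
    intro b
    constructor
    · intro hb
      obtain ⟨v, rfl⟩ := (exact₃ (J (R' := R') I) ι g' hι hfg' hg' 0 b).1 hb
      rw [φ₀_natural]
      exact (exact₃ I f g hf hfg hg 0 _).2 ⟨_, rfl⟩
    · intro hb
      obtain ⟨v, hv⟩ := (exact₃ I f g hf hfg hg 0 _).1 hb
      obtain ⟨v', rfl⟩ := (φ₀ (R' := R') I E).surjective v
      have h1 : φ₀ I (E ⧸ LinearMap.range ι) (Hmap (J (R' := R') I) g' 0 v') =
          φ₀ I (E ⧸ LinearMap.range ι) b := by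
        rw [φ₀_natural]
        exact hv
      have h2 := (φ₀ I (E ⧸ LinearMap.range ι)).injective h1
      rw [← h2]
      exact (exact₃ (J (R' := R') I) ι g' hι hfg' hg' 0 _).2 ⟨_, rfl⟩
  obtain ⟨γ, hγ⟩ := exists_addEquiv_of_ker d₁ d₂ hd₁ hd₂ (φ₀ I (E ⧸ LinearMap.range ι)) hker
  refine ⟨γ, fun r x => ?_⟩
  obtain ⟨b, rfl⟩ := hd₁ x
  have h1 : algebraMap R R' r • d₁ b = d₁ (algebraMap R R' r • b) :=
    (map_smul (Hδ (J (R' := R') I) ι g' hι hfg' hg' 0) _ b).symm
  rw [h1, hγ, hγ, φ₀_smul]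
  exact map_smul (Hδ I f g hf hfg hg 0) r _

theorem P_succ (i : ℕ) (hi : 1 ≤ i)
    (ih : ∀ (X : Type u) [AddCommGroup X] [Module R' X] [Module R X] [IsScalarTower R R' X],
      P (R' := R') I i X)
    (X : Type u) [AddCommGroup X] [Module R' X] [Module R X] [IsScalarTower R R' X] :
    P (R' := R') I (i + 1) X := by
  obtain ⟨E, _, _, ι, hι, hE⟩ := exists_embedding (R' := R') X
  let _ : Module R E := Module.compHom E (algebraMap R R')
  have : IsScalarTower R R' E :=
    ⟨fun r b y => by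
      change (r • b) • y = algebraMap R R' r • (b • y)
      rw [Algebra.smul_def, mul_smul]⟩
  let g' : E →ₗ[R'] E ⧸ LinearMap.range ι := (LinearMap.range ι).mkQ
  have hg' : Function.Surjective g' := Submodule.mkQ_surjective _
  have hfg' : Function.Exact ι g' := LinearMap.exact_map_mkQ_range ι
  let f : X →ₗ[R] E := ι.restrictScalars R
  let g : E →ₗ[R] E ⧸ LinearMap.range ι := g'.restrictScalars R
  have hf : Function.Injective f := hι
  have hg : Function.Surjective g := hg'
  have hfg : Function.Exact f g := hfg'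
  have hpos : 0 < i := lt_of_lt_of_le one_pos hi
  have hE1 : Subsingleton (LocCoh.H (J (R' := R') I) i E) :=
    subsingleton_H_of_injective _ E hE i hpos
  have hE1' : Subsingleton (LocCoh.H (J (R' := R') I) (i + 1) E) :=
    subsingleton_H_of_injective _ E hE (i + 1) (Nat.succ_pos i)
  have hE2 : Subsingleton (LocCoh.H I i E) :=
    subsingleton_H_of_injective_restrict (R' := R') I E hE i hpos
  have hE2' : Subsingleton (LocCoh.H I (i + 1) E) :=
    subsingleton_H_of_injective_restrict (R' := R') I E hE (i + 1) (Nat.succ_pos i)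
  have hb₁ := Hδ_bijective_of_subsingleton_middle (J (R' := R') I) ι g' hι hfg' hg' i
  have hb₂ := Hδ_bijective_of_subsingleton_middle I f g hf hfg hg i
  obtain ⟨φ, hφ⟩ := ih (E ⧸ LinearMap.range ι)
  let e₁ : LocCoh.H (J (R' := R') I) i (E ⧸ LinearMap.range ι) ≃+
      LocCoh.H (J (R' := R') I) (i + 1) X :=
    AddEquiv.ofBijective (Hδ (J (R' := R') I) ι g' hι hfg' hg' i).toAddMonoidHom hb₁
  let e₂ : LocCoh.H I i (E ⧸ LinearMap.range ι) ≃+ LocCoh.H I (i + 1) X :=
    AddEquiv.ofBijective (Hδ I f g hf hfg hg i).toAddMonoidHom hb₂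
  refine ⟨e₁.symm.trans (φ.trans e₂), fun r x => ?_⟩
  obtain ⟨b, rfl⟩ := e₁.surjective x
  have h1 : algebraMap R R' r • e₁ b = e₁ (algebraMap R R' r • b) :=
    (map_smul (Hδ (J (R' := R') I) ι g' hι hfg' hg' i) _ b).symm
  rw [h1]
  simp only [AddEquiv.trans_apply, AddEquiv.symm_apply_apply]
  rw [hφ]
  exact map_smul (Hδ I f g hf hfg hg i) r _

/-- **Independence of base** (Brodmann–Sharp 4.2.1). -/
theorem indep_base (i : ℕ) :
    ∀ (X : Type u) [AddCommGroup X] [Module R' X] [Module R X] [IsScalarTower R R' X],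
      P (R' := R') I i X := by
  induction i with
  | zero => exact fun X _ _ _ _ => P_zero I X
  | succ i ih =>
    rcases Nat.eq_zero_or_pos i with rfl | hi
    · exact fun X _ _ _ _ => P_one I X
    · exact fun X _ _ _ _ => P_succ I i hi ih X

end main

end Groth.Agent.Lib.LocCohIndepBase
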