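import Groth.Agent.Lib.PushCompl53
import Groth.Agent.Lib.FinDimRel53c
import Groth.Agent.Lib.H1Fin53e
import Groth.Agent.Lib.LocCohFaltings
import Groth.Agent.Lib.LocCohIndepBase

/-!
# Coherence of `i_*(M~|U)`: necessity of the codimension-two condition, reduction to `A/p` (helper53)
-/

set_option maxHeartbeats 400000
set_option linter.unusedSectionVars false
set_option linter.style.haveILetI false
universe u

namespace Groth.Agent.Lib.PushCompl53
open Groth.Agent.Lib.FinDimRel53 Groth.Agent.Lib.H1Fin53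

section nec
variable (A : Type u) [CommRing A] [IsNoetherianRing A] (J : Ideal A)
  (M : Type u) [AddCommGroup M] [Module A M] [Module.Finite A M]

theorem height_ge_two_of_finite_H1 (h1 : Module.Finite A (LocCoh.H J 1 M)) :
    ∀ p ∈ associatedPrimes A M, ¬ J ≤ p → (2 : ℕ∞) ≤ (J.map (Ideal.Quotient.mk p)).height := by
  intro p hp hJp
  haveI hpp : p.IsPrime := hp.isPrime
  have hfin : ∀ i : ℕ, i ≤ 1 → Module.Finite A (LocCoh.H J i M) := by
    intro i hi
    interval_cases i
    · exact finite_H0 J M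
    · exact h1
  obtain ⟨k, -, hk⟩ :=
    Groth.Agent.Lib.LocCohFaltings.exists_pow_annihilates_of_finite_H J M 1 hfin
  have h2 : (2 : ℕ∞) ≤ LocCoh.finDimRel J J M := by
    unfold LocCoh.finDimRel
    refine le_iInf₂ fun i hi => ?_
    by_contra hlt
    push Not at hlt
    have hi1 : i ≤ 1 := by
      have : (i : ℕ∞) < ((2 : ℕ) : ℕ∞) := hlt
      have := Nat.cast_lt.1 this
      omega
    apply hi
    intro e he
    exact ⟨k, Module.mem_annihilator.2 (hk i hi1 (e ^ k) (Ideal.pow_mem_pow he k))⟩
  have h3 := h2.trans (finDimRel_le_minAdjDepth J J M)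
  unfold LocCoh.minAdjDepth at h3
  have h4 := h3.trans (iInf₂_le (⟨p, hpp⟩ : PrimeSpectrum A) hJp)
  unfold LocCoh.adjDepth at h4
  have hd : ¬ (1 : ℕ∞) ≤ LocCoh.depth (Localization.AtPrime p)
      (LocalizedModule p.primeCompl M) :=
    (Groth.Agent.Lib.ZClosed58.mem_associatedPrimes_iff_not_one_le_depth A M ⟨p, hpp⟩).1 hp
  have hd0 : LocCoh.depth (Localization.AtPrime p) (LocalizedModule p.primeCompl M) = 0 := by
    rw [ENat.one_le_iff_ne_zero] at hd
    push Not at hd
    exact hd
  change (2 : ℕ∞) ≤ LocCoh.depth (Localization.AtPrime p) (LocalizedModule p.primeCompl M) +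
    ((J ⊔ p).map (Ideal.Quotient.mk p)).height at h4
  rw [hd0, zero_add, Ideal.map_sup, Ideal.map_quotient_self, sup_bot_eq] at h4
  exact h4

end nec

section red

theorem finite_iff_of_addEquiv {R R' Y Z : Type*} [CommRing R] [CommRing R'] [Algebra R R']
    [AddCommGroup Y] [Module R' Y] [AddCommGroup Z] [Module R Z]
    (hs : Function.Surjective (algebraMap R R')) (φ : Y ≃+ Z)
    (hφ : ∀ (r : R) (y : Y), φ (algebraMap R R' r • y) = r • φ y) :
    Module.Finite R' Y ↔ Module.Finite R Z := by
  letI : Module R Y := Module.compHom Y (algebraMap R R')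
  have h1 : Module.Finite R' Y ↔ Module.Finite R Y :=
    finite_iff_of_surjective (algebraMap R R') hs (fun a x => rfl)
  let e : Y ≃ₗ[R] Z := { φ with map_smul' := fun r y => hφ r y }
  exact h1.trans ⟨fun h => Module.Finite.equiv e, fun h => Module.Finite.equiv e.symm⟩

variable (A : Type u) [CommRing A] [IsNoetherianRing A] (J : Ideal A)
  (M : Type u) [AddCommGroup M] [Module A M] [Module.Finite A M]

/-- EGA IV 5.11.? a) ⇔ b). -/
theorem isCoherentPushCompl_iff_forall :
    EGA4.IsCoherentPushCompl A J M ↔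
      ∀ p ∈ associatedPrimes A M, ¬ J ≤ p →
        EGA4.IsCoherentPushCompl (A ⧸ p) (J.map (Ideal.Quotient.mk p)) (A ⧸ p) := by
  rw [isCoherentPushCompl_iff_finite_H1, finite_H1_iff]
  refine forall_congr' fun p => forall_congr' fun hp => forall_congr' fun hJp => ?_
  rw [isCoherentPushCompl_iff_finite_H1]
  obtain ⟨φ, hφ⟩ := Groth.Agent.Lib.LocCohIndepBase.indep_base (R := A) (R' := A ⧸ p) J 1 (A ⧸ p)
  exact (finite_iff_of_addEquiv Ideal.Quotient.mk_surjective φ hφ).symm

end red

end Groth.Agent.Lib.PushCompl53
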