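import Groth.Agent.Lib.CplH1_53b
import Groth.Agent.Lib.PushCompl53b

/-!
# `H^i_m` finiteness and completion (helper53)
-/

set_option maxHeartbeats 400000
set_option linter.unusedSectionVars false
set_option linter.style.haveILetI false
universe u

namespace Groth.Agent.Lib.CplH1_53
open IsLocalRing TensorProduct

section transfer
variable (A : Type u) [CommRing A] [IsLocalRing A] [IsNoetherianRing A]
  (M : Type u) [AddCommGroup M] [Module A M] (i : ℕ)

instance faithfullyFlat_cpl : Module.FaithfullyFlat A (AdicCompletion (maximalIdeal A) A) :=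
  Module.FaithfullyFlat.of_flat_of_isLocalHom

/-- `H^i_m(M)` is finite over `A` iff `H^i_{m̂}(Â ⊗ M)` is finite over `Â`. -/
theorem finite_H_iff_cpl :
    Module.Finite A (LocCoh.H (maximalIdeal A) i M) ↔
      Module.Finite (AdicCompletion (maximalIdeal A) A)
        (LocCoh.H (maximalIdeal (AdicCompletion (maximalIdeal A) A)) i
          (AdicCompletion (maximalIdeal A) A ⊗[A] M)) := by
  have e := Groth.Agent.Lib.LocCohBaseChange.baseChangeEquiv
    (R' := AdicCompletion (maximalIdeal A) A) (maximalIdeal A) M i
  unfold Groth.Agent.Lib.LocCohBaseChange.J at e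
  rw [← AdicCompletion.maximalIdeal_eq_map] at e
  constructor
  · intro h
    exact Module.Finite.equiv e
  · intro h
    haveI : Module.Finite (AdicCompletion (maximalIdeal A) A)
        (AdicCompletion (maximalIdeal A) A ⊗[A] LocCoh.H (maximalIdeal A) i M) :=
      Module.Finite.equiv e.symm
    exact Module.Finite.of_finite_tensorProduct_of_faithfullyFlat
      (AdicCompletion (maximalIdeal A) A)

end transfer

section main
variable (A : Type u) [CommRing A] [IsLocalRing A] [IsNoetherianRing A]
  (M : Type u) [AddCommGroup M] [Module A M] [Module.Finite A M]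

/-- **EGA IV 5.11.? / SGA2 VIII**: `H^1_m(M)` is finite iff all non-maximal associated primes
`p'` of `Â ⊗ M` have `dim Â/p' ≥ 2`. -/
theorem finite_H1_iff_assPrimes_cpl :
    Module.Finite A (LocCoh.H (maximalIdeal A) 1 M) ↔
      ∀ p' ∈ associatedPrimes (AdicCompletion (maximalIdeal A) A)
          (AdicCompletion (maximalIdeal A) A ⊗[A] M),
        p' ≠ maximalIdeal (AdicCompletion (maximalIdeal A) A) →
          (2 : WithBot ℕ∞) ≤ ringKrullDim (AdicCompletion (maximalIdeal A) A ⧸ p') := by
  rw [finite_H_iff_cpl A M 1]
  exact finite_H1_iff_of_complete (AdicCompletion (maximalIdeal A) A)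
    (AdicCompletion (maximalIdeal A) A ⊗[A] M)

/-- coherence of the direct image from the punctured spectrum in terms of the completion. -/
theorem isCoherentPushCompl_iff_assPrimes_cpl :
    EGA4.IsCoherentPushCompl A (maximalIdeal A) M ↔
      ∀ p' ∈ associatedPrimes (AdicCompletion (maximalIdeal A) A)
          (AdicCompletion (maximalIdeal A) A ⊗[A] M),
        p' ≠ maximalIdeal (AdicCompletion (maximalIdeal A) A) →
          (2 : WithBot ℕ∞) ≤ ringKrullDim (AdicCompletion (maximalIdeal A) A ⧸ p') := by
  rw [Groth.Agent.Lib.PushCompl53.isCoherentPushCompl_iff_finite_H1]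
  exact finite_H1_iff_assPrimes_cpl A M

end main

end Groth.Agent.Lib.CplH1_53
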