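import Groth.Agent.Lib.HomTensor25

/-!
# The braiding for tensor products of cochain complexes of modules (helper25)

`tensorBraid K L : K ⊗ L ≅ L ⊗ K`, `x ⊗ y ↦ (-1)^{ij} y ⊗ x`.
-/

set_option autoImplicit false
universe u

open CategoryTheory Category Limits MonoidalCategory CochainComplex HomComplex

namespace Groth.Agent.Lib.HomTensor25

open Groth.Agent.Lib.TensorCxZ35 (ι)

variable {A : Type u} [CommRing A] (K L : DRing.Cx A)

lemma hom_ext_tm {n : ℤ} {X : ModuleCat.{u} A} (f g : (T K L).X n ⟶ X)
    (H : ∀ (i j : ℤ) (h : i + j = n) (x : K.X i) (y : L.X j),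
      f.hom (tm n h x y) = g.hom (tm n h x y)) : f = g := by
  apply HomologicalComplex.mapBifunctor.hom_ext
  intro i j h
  apply ModuleCat.MonoidalCategory.tensor_ext
  intro x y
  exact H i j h x y

/-- the components of the braiding -/
noncomputable def braidF (n : ℤ) : (T K L).X n ⟶ (T L K).X n :=
  HomologicalComplex.mapBifunctorDesc (K₁ := K) (K₂ := L)
    (F := curriedTensor (ModuleCat.{u} A)) (c := ComplexShape.up ℤ) (j := n)
    (fun i j (h : i + j = n) =>
      (i * j).negOnePow • ((β_ (K.X i) (L.X j)).hom ≫ ι L K j i n (by omega)))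

lemma braidF_tm {i j : ℤ} (n : ℤ) (h : i + j = n) (x : K.X i) (y : L.X j) :
    (braidF K L n).hom (tm n h x y) = (i * j).negOnePow • tm n (show j + i = n by omega) y x := by
  unfold braidF tm
  have := HomologicalComplex.ι_mapBifunctorDesc (K₁ := K) (K₂ := L)
    (F := curriedTensor (ModuleCat.{u} A)) (c := ComplexShape.up ℤ) (j := n)
    (fun i j (h : i + j = n) =>
      (i * j).negOnePow • ((β_ (K.X i) (L.X j)).hom ≫ ι L K j i n (by omega))) i j h
  have h2 := congrArg (fun f => f.hom (x ⊗ₜ[A] y)) this
  refine h2.trans ?_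
  rw [hom_units_smul]
  rfl

lemma braidF_comm (n : ℤ) :
    braidF K L n ≫ (T L K).d n (n + 1) = (T K L).d n (n + 1) ≫ braidF K L (n + 1) := by
  apply hom_ext_tm
  intro i j h x y
  simp only [ModuleCat.hom_comp, LinearMap.comp_apply]
  rw [braidF_tm, d_tm, map_add, braidF_tm]
  have e1 : ∀ (e : ℤˣ) (z : (T K L).X (n + 1)),
      (braidF K L (n + 1)).hom (e • z) = e • (braidF K L (n + 1)).hom z := by
    intro e z
    rcases Int.units_eq_one_or e with rfl | rfl <;> simp
  have e2 : ∀ (e : ℤˣ) (z : (T L K).X n),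
      ((T L K).d n (n + 1)).hom (e • z) = e • ((T L K).d n (n + 1)).hom z := by
    intro e z
    rcases Int.units_eq_one_or e with rfl | rfl <;> simp
  rw [e1, braidF_tm, e2, d_tm, smul_add, smul_smul, smul_smul]
  have hu1 : (i * j).negOnePow * j.negOnePow = ((i + 1) * j).negOnePow := by
    rw [← Int.negOnePow_add]
    congr 1
    ring
  have hu2 : i.negOnePow * (i * (j + 1)).negOnePow = (i * j).negOnePow := by
    rw [← Int.negOnePow_add, Int.negOnePow_eq_iff]
    exact ⟨i, by ring⟩
  rw [hu1, hu2]
  exact add_comm _ _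

/-- the braiding as a chain map -/
noncomputable def braidHom : T K L ⟶ T L K where
  f n := braidF K L n
  comm' i j hij := by
    obtain rfl : i + 1 = j := hij
    exact braidF_comm K L i

lemma braidHom_f_tm {i j : ℤ} (n : ℤ) (h : i + j = n) (x : K.X i) (y : L.X j) :
    ((braidHom K L).f n).hom (tm n h x y) =
      (i * j).negOnePow • tm n (show j + i = n by omega) y x :=
  braidF_tm K L n h x y

lemma braidHom_comp : braidHom K L ≫ braidHom L K = 𝟙 _ := by
  apply HomologicalComplex.hom_ext
  intro n
  apply hom_ext_tm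
  intro i j h x y
  simp only [HomologicalComplex.comp_f, HomologicalComplex.id_f, ModuleCat.hom_comp,
    LinearMap.comp_apply, ModuleCat.hom_id, LinearMap.id_apply]
  rw [braidHom_f_tm]
  have e1 : ∀ (e : ℤˣ) (z : (T L K).X n),
      ((braidHom L K).f n).hom (e • z) = e • ((braidHom L K).f n).hom z := by
    intro e z
    rcases Int.units_eq_one_or e with rfl | rfl <;> simp
  rw [e1, braidHom_f_tm, smul_smul, mul_comm j i, ← Int.negOnePow_add,
    Int.negOnePow_even _ ⟨i * j, rfl⟩, one_smul]

/-- **The braiding** `K ⊗ L ≅ L ⊗ K` for cochain complexes of modules. -/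
noncomputable def tensorBraid : T K L ≅ T L K where
  hom := braidHom K L
  inv := braidHom L K
  hom_inv_id := braidHom_comp K L
  inv_hom_id := braidHom_comp L K

end Groth.Agent.Lib.HomTensor25
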