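import Groth.Agent.Lib.HomCxDC25
import Groth.Agent.Lib.TensorBraid25
import Groth.Agent.Lib.CechFlat25
import Groth.Agent.Lib.SemiFreeKProj35

/-!
# Acyclicity of Hom complexes and derived completeness of `Q(Hom•(K, J))` (helper25)

* `acyclic_homCx_iff`: `Hom•(S, Y)` is acyclic iff all cocycles are coboundaries.
* `subsingleton_hom_of_coboundaries_proj`, `mem_coboundaries_of_subsingleton`,
  `mem_coboundaries_of_acyclic_target`.
* `homCxSwapIso : Hom•(P, Hom•(K, J)) ≅ Hom•(K, Hom•(P, J))`.
* `DC_homCx_of_DC`: if `Q J` is derived `g`-complete (`J` K-injective) then so is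
  `Q(Hom•(K, J))` for every complex `K`.
-/

set_option autoImplicit false
set_option linter.style.haveILetI false
universe u

open CategoryTheory Category Limits CochainComplex HomComplex Pretriangulated

attribute [local instance] HasDerivedCategory.standard

namespace Groth.Agent.Lib.HomTensor25

open Groth.Agent.Lib.TKfMod Groth.Agent.Lib.TKfCompl

variable {A : Type u} [CommRing A]

lemma acyclic_homCx_iff (S Y : DRing.Cx A) :
    (DRing.homCx S Y).Acyclic ↔ ∀ (n : ℤ) (z : Cocycle S Y n), z ∈ coboundaries S Y n := by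
  constructor
  · intro h n z
    have hex := h n
    rw [HomologicalComplex.exactAt_iff' _ (n - 1) n (n + 1) (by simp) (by simp),
      ShortComplex.moduleCat_exact_iff] at hex
    obtain ⟨y, hy⟩ := hex (z.1 : Cochain S Y n) (z.δ_eq_zero (n + 1))
    rw [mem_coboundaries_iff _ (n - 1) (by omega)]
    exact ⟨y, hy⟩
  · intro h n
    rw [HomologicalComplex.exactAt_iff' _ (n - 1) n (n + 1) (by simp) (by simp),
      ShortComplex.moduleCat_exact_iff]
    intro x hx
    have h1 := h n (Cocycle.mk (x : Cochain S Y n) (n + 1) rfl hx)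
    rw [mem_coboundaries_iff _ (n - 1) (by omega)] at h1
    obtain ⟨y, hy⟩ := h1
    exact ⟨y, hy⟩

/-- K-projective version of `subsingleton_hom_of_coboundaries` -/
lemma subsingleton_hom_of_coboundaries_proj (S Y : DRing.Cx A) [S.IsKProjective] (n : ℤ)
    (h : ∀ z : Cocycle S Y n, z ∈ coboundaries S Y n) :
    Subsingleton (DerivedCategory.Q.obj S ⟶ (DerivedCategory.Q.obj Y)⟦n⟧) := by
  let q := HomotopyCategory.quotient (ModuleCat.{u} A) (ComplexShape.up ℤ)
  let i := DerivedCategory.quotientCompQhIso (ModuleCat.{u} A)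
  suffices H : ∀ g : DerivedCategory.Q.obj S ⟶ (DerivedCategory.Q.obj Y)⟦n⟧, g = 0 from
    ⟨fun a b => by rw [H a, H b]⟩
  intro g
  let g' : DerivedCategory.Qh.obj (q.obj S) ⟶ DerivedCategory.Qh.obj (q.obj (Y⟦n⟧)) :=
    i.hom.app S ≫ g ≫ (DerivedCategory.Q.commShiftIso n).inv.app Y ≫ i.inv.app (Y⟦n⟧)
  obtain ⟨k, hk⟩ := (CochainComplex.IsKProjective.Qh_map_bijective S (q.obj (Y⟦n⟧))).2 g'
  obtain ⟨c, rfl⟩ := (CohomologyClass.toHom_bijective S Y n).2 k
  obtain ⟨z, rfl⟩ := c.mk_surjective
  have hz : CohomologyClass.toHom (CohomologyClass.mk z) = 0 := by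
    rw [CohomologyClass.toHom_mk_eq_zero_iff]
    exact h z
  rw [hz, Functor.map_zero] at hk
  have hg' : g' = 0 := hk.symm
  have : g = i.inv.app S ≫ g' ≫ i.hom.app (Y⟦n⟧) ≫ (DerivedCategory.Q.commShiftIso n).hom.app Y := by
    simp [g']
  rw [this, hg']
  simp

/-- converse of `subsingleton_hom_of_coboundaries` -/
lemma mem_coboundaries_of_subsingleton (S Y : DRing.Cx A) [Y.IsKInjective] (n : ℤ)
    (h : Subsingleton (DerivedCategory.Q.obj S ⟶ (DerivedCategory.Q.obj Y)⟦n⟧))
    (z : Cocycle S Y n) : z ∈ coboundaries S Y n := by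
  let q := HomotopyCategory.quotient (ModuleCat.{u} A) (ComplexShape.up ℤ)
  let i := DerivedCategory.quotientCompQhIso (ModuleCat.{u} A)
  rw [← CohomologyClass.toHom_mk_eq_zero_iff]
  apply (CochainComplex.IsKInjective.Qh_map_bijective (q.obj S) (Y⟦n⟧)).1
  rw [Functor.map_zero]
  set k := DerivedCategory.Qh.map (CohomologyClass.toHom (CohomologyClass.mk z)) with hk
  let g : DerivedCategory.Q.obj S ⟶ (DerivedCategory.Q.obj Y)⟦n⟧ :=
    i.inv.app S ≫ k ≫ i.hom.app (Y⟦n⟧) ≫ (DerivedCategory.Q.commShiftIso n).hom.app Y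
  have hg : g = 0 := Subsingleton.elim _ _
  have : k = i.hom.app S ≫ g ≫ (DerivedCategory.Q.commShiftIso n).inv.app Y ≫ i.inv.app (Y⟦n⟧) := by
    simp [g]
  rw [this, hg]
  simp

/-- cocycles into an acyclic K-injective complex are coboundaries -/
lemma mem_coboundaries_of_acyclic_target (K W : DRing.Cx A) [W.IsKInjective] (hW : W.Acyclic)
    (n : ℤ) (z : Cocycle K W n) : z ∈ coboundaries K W n := by
  rw [← CohomologyClass.toHom_mk_eq_zero_iff]
  have h1 : 𝟙 ((HomotopyCategory.quotient (ModuleCat.{u} A) (ComplexShape.up ℤ)).obj (W⟦n⟧)) = 0 := by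
    apply IsKInjective.rightOrthogonal (W⟦n⟧)
    rw [HomotopyCategory.quotient_obj_mem_subcategoryAcyclic_iff_acyclic]
    exact Groth.Agent.Lib.CechFlat25.acyclic_shift W n hW
  rw [← Category.comp_id (CohomologyClass.toHom (CohomologyClass.mk z)), h1, comp_zero]

/-- the swap isomorphism `Hom•(P, Hom•(K, J)) ≅ Hom•(K, Hom•(P, J))` -/
noncomputable def homCxSwapIso (P K J : DRing.Cx A) :
    DRing.homCx P (DRing.homCx K J) ≅ DRing.homCx K (DRing.homCx P J) :=
  homTensorIso P K J ≪≫ homCxPreIso (tensorBraid P K) J ≪≫ (homTensorIso K P J).symm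

/-- **Derived completeness passes to `Hom•(K, -)`**: if `J` is K-injective and `Q J` is derived
`g`-complete, then `Q(Hom•(K, J))` is derived `g`-complete for every complex `K`. -/
theorem DC_homCx_of_DC (g : A) (K J : DRing.Cx A) [J.IsKInjective]
    (h : DC g (DerivedCategory.Q.obj J)) : DC g (DerivedCategory.Q.obj (DRing.homCx K J)) := by
  obtain ⟨P, r, hP, hPf, -, hr, -⟩ :=
    Groth.Agent.Lib.SemiFreeKProj35.exists_kprojective_resolution
      (sg (ModuleCat.of A (Localization.Away g)))
  haveI := hP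
  have hiso : IsIso (DerivedCategory.Q.map r) := by
    rw [DerivedCategory.isIso_Q_map_iff_quasiIso]; exact hr
  let eP : DerivedCategory.Q.obj P ≅ Dual.inD A (Localization.Away g) :=
    @asIso _ _ _ _ (DerivedCategory.Q.map r) hiso
  haveI : (DRing.homCx P J).IsKInjective := isKInjective_homCx P J hPf
  -- `W = Hom•(P, J)` is acyclic
  have hW : (DRing.homCx P J).Acyclic := by
    rw [acyclic_homCx_iff]
    intro n z
    apply mem_coboundaries_of_subsingleton P J n
    have := h n
    exact ⟨fun a b => by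
      rw [← cancel_epi eP.inv]
      exact Subsingleton.elim _ _⟩
  -- hence `Hom•(K, W)` is acyclic
  have h2 : (DRing.homCx K (DRing.homCx P J)).Acyclic := by
    rw [acyclic_homCx_iff]
    intro n z
    exact mem_coboundaries_of_acyclic_target K _ hW n z
  have h3 : (DRing.homCx P (DRing.homCx K J)).Acyclic :=
    Groth.Agent.Lib.KFlat35.acyclic_of_iso (homCxSwapIso P K J).symm h2
  rw [acyclic_homCx_iff] at h3
  intro n
  have := subsingleton_hom_of_coboundaries_proj P (DRing.homCx K J) n (h3 n)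
  exact ⟨fun a b => by
    rw [← cancel_epi eP.hom]
    exact Subsingleton.elim _ _⟩

end Groth.Agent.Lib.HomTensor25
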