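import Groth.Agent.Lib.HomCxStep25

/-!
# `Hom•(K₀, -)` applied to degreewise split short exact sequences (helper25)

* `shortExact_map_homCxFunctor`: `Hom•(K₀, -)` preserves degreewise split short exact sequences.
* `bijective_smul_cochain_right`.
* `bijective_comp_homCxMap_homCxPre_fst`: one Čech step under `Hom•(K₀, Hom•(-, J))`.
-/

set_option autoImplicit false
universe u

open CategoryTheory Category Limits CochainComplex HomComplex Pretriangulated

attribute [local instance] HasDerivedCategory.standard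

namespace Groth.Agent.Lib.HomTensor25

open Groth.Agent.Lib.TKfMod Groth.Agent.Lib.TKfCompl

variable {A : Type u} [CommRing A]

instance (K₀ : DRing.Cx A) : (DRing.homCxFunctor K₀).Additive where
  map_add {L L' f g} := by
    refine HomologicalComplex.hom_ext _ _ fun i => ModuleCat.hom_ext
      (LinearMap.ext fun (z : Cochain K₀ L i) => ?_)
    change z.comp (Cochain.ofHom (f + g)) (add_zero i) =
      z.comp (Cochain.ofHom f) (add_zero i) + z.comp (Cochain.ofHom g) (add_zero i)
    rw [Cochain.ofHom_add, Cochain.comp_add]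

/-- `Hom•(K₀, -)` preserves degreewise split short exact sequences of complexes. -/
lemma shortExact_map_homCxFunctor (K₀ : DRing.Cx A) (S : ShortComplex (DRing.Cx A))
    (r : ∀ n, S.X₂.X n ⟶ S.X₁.X n) (σ : ∀ n, S.X₃.X n ⟶ S.X₂.X n)
    (h1 : ∀ n, S.f.f n ≫ r n = 𝟙 _) (h2 : ∀ n, σ n ≫ S.g.f n = 𝟙 _)
    (h3 : ∀ n, r n ≫ S.f.f n + S.g.f n ≫ σ n = 𝟙 _) :
    (S.map (DRing.homCxFunctor K₀)).ShortExact := by
  apply HomologicalComplex.shortExact_of_degreewise_shortExact
  intro n
  have hmono : Mono (((S.map (DRing.homCxFunctor K₀)).map (HomologicalComplex.eval _ _ n)).f) := by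
    rw [ModuleCat.mono_iff_injective]
    intro z z' h
    replace h : (z : Cochain K₀ S.X₁ n).comp (Cochain.ofHom S.f) (add_zero n) =
      (z' : Cochain K₀ S.X₁ n).comp (Cochain.ofHom S.f) (add_zero n) := h
    apply Cochain.ext
    intro p q hpq
    have h' := congrArg (fun w : Cochain K₀ S.X₂ n => w.v p q hpq ≫ r q) h
    simp only [Cochain.comp_zero_cochain_v, Cochain.ofHom_v, Category.assoc, h1,
      Category.comp_id] at h'
    exact h'
  have hepi : Epi (((S.map (DRing.homCxFunctor K₀)).map (HomologicalComplex.eval _ _ n)).g) := by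
    rw [ModuleCat.epi_iff_surjective]
    intro w
    refine ⟨Cochain.mk (fun p q hpq => (w : Cochain K₀ S.X₃ n).v p q hpq ≫ σ q), ?_⟩
    change (Cochain.mk (fun p q hpq => (w : Cochain K₀ S.X₃ n).v p q hpq ≫ σ q)).comp
      (Cochain.ofHom S.g) (add_zero n) = w
    apply Cochain.ext
    intro p q hpq
    simp only [Cochain.comp_zero_cochain_v, Cochain.ofHom_v, Cochain.mk_v, Category.assoc, h2,
      Category.comp_id]
  refine ⟨?_⟩
  rw [ShortComplex.moduleCat_exact_iff]
  intro z hz
  replace hz : (z : Cochain K₀ S.X₂ n).comp (Cochain.ofHom S.g) (add_zero n) = 0 := hz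
  refine ⟨Cochain.mk (fun p q hpq => (z : Cochain K₀ S.X₂ n).v p q hpq ≫ r q), ?_⟩
  change (Cochain.mk (fun p q hpq => (z : Cochain K₀ S.X₂ n).v p q hpq ≫ r q)).comp
    (Cochain.ofHom S.f) (add_zero n) = z
  apply Cochain.ext
  intro p q hpq
  have hz' := congrArg (fun w : Cochain K₀ S.X₃ n => w.v p q hpq ≫ σ q) hz
  simp only [Cochain.comp_zero_cochain_v, Cochain.ofHom_v, Category.assoc, Cochain.zero_v,
    zero_comp] at hz'
  simp only [Cochain.comp_zero_cochain_v, Cochain.ofHom_v, Cochain.mk_v, Category.assoc]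
  have h3' : r q ≫ S.f.f q = 𝟙 _ - S.g.f q ≫ σ q := eq_sub_of_add_eq (h3 q)
  rw [h3', Preadditive.comp_sub, Category.comp_id, hz', sub_zero]

/-- if `f` acts bijectively on the terms of `W`, it acts bijectively on cochains into `W` -/
lemma bijective_smul_cochain_right (f : A) (K₀ W : DRing.Cx A)
    (hW : ∀ q : ℤ, Function.Bijective (fun x : W.X q => f • x)) (m : ℤ) :
    Function.Bijective (fun z : Cochain K₀ W m => f • z) := by
  have hiso : ∀ q, IsIso (f • 𝟙 (W.X q)) := fun q => isIso_smul_of_bijective f (W.X q) (hW q)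
  constructor
  · intro z z' h
    apply Cochain.ext
    intro p q hpq
    have h1 := congrArg (fun w : Cochain K₀ W m => w.v p q hpq) h
    simp only [Cochain.smul_v] at h1
    have h2 : z.v p q hpq ≫ (f • 𝟙 (W.X q)) = z'.v p q hpq ≫ (f • 𝟙 (W.X q)) := by
      rw [Linear.comp_smul, Linear.comp_smul, Category.comp_id, Category.comp_id]
      exact h1
    have := hiso q
    exact (cancel_mono _).mp h2
  · intro z
    refine ⟨Cochain.mk (fun p q hpq => z.v p q hpq ≫ (haveI := hiso q; inv (f • 𝟙 (W.X q)))), ?_⟩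
    apply Cochain.ext
    intro p q hpq
    have := hiso q
    simp only [Cochain.smul_v, Cochain.mk_v]
    have e : f • (z.v p q hpq ≫ inv (f • 𝟙 (W.X q))) =
        z.v p q hpq ≫ (inv (f • 𝟙 (W.X q)) ≫ (f • 𝟙 (W.X q))) := by
      rw [Linear.comp_smul, Category.comp_id, Linear.comp_smul]
    rw [e, IsIso.inv_hom_id, Category.comp_id]

section step

open mappingCocone

variable {K L : DRing.Cx A} (φ : K ⟶ L) (J : DRing.Cx A)

/-- `Hom•(K₀, -)` applied to the sequence `Hom•(K, J) ⟶ Hom•(mappingCocone φ, J) ⟶ W` -/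
lemma homCxSC_map_shortExact (K₀ : DRing.Cx A) :
    ((homCxSC φ J).map (DRing.homCxFunctor K₀)).ShortExact := by
  refine shortExact_map_homCxFunctor K₀ (homCxSC φ J)
    (fun n => ModuleCat.ofHom (compLeftLin (inl φ) J n n (zero_add n)))
    (fun n => ModuleCat.ofHom (compLeftLin (snd φ) J (n + 1) n (by omega))) ?_ ?_ ?_
  · intro n
    apply ModuleCat.hom_ext
    apply LinearMap.ext
    intro z
    change (inl φ).comp ((Cochain.ofHom (fst φ)).comp (z : Cochain K J n) (zero_add n))
      (zero_add n) = z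
    rw [← Cochain.comp_assoc_of_first_is_zero_cochain, cc_inl_fst, Cochain.id_comp]
  · intro n
    apply ModuleCat.hom_ext
    apply LinearMap.ext
    intro w
    change (inr φ).1.comp ((snd φ).comp (w : Cochain L J (n + 1)) (by omega)) (add_comm 1 n) = w
    rw [← Cochain.comp_assoc _ _ _ (add_neg_cancel 1) (by omega) (by omega), cc_inr_snd,
      Cochain.id_comp]
  · intro n
    apply ModuleCat.hom_ext
    apply LinearMap.ext
    intro z
    change (Cochain.ofHom (fst φ)).comp ((inl φ).comp (z : Cochain (mappingCocone φ) J n)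
      (zero_add n)) (zero_add n) + (snd φ).comp ((inr φ).1.comp
      (z : Cochain (mappingCocone φ) J n) (add_comm 1 n)) (by omega) = z
    have h1 : (z : Cochain (mappingCocone φ) J n) =
        (Cochain.ofHom (𝟙 (mappingCocone φ))).comp (z : Cochain (mappingCocone φ) J n)
          (zero_add n) := (Cochain.id_comp _).symm
    conv_rhs => rw [h1, ← cc_id, Cochain.add_comp,
      Cochain.comp_assoc _ _ _ (neg_add_cancel 1) (add_comm 1 n) (by omega),
      Cochain.comp_assoc_of_first_is_zero_cochain]
    rfl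

/-- **One Čech step under `Hom•(K₀, Hom•(-, J))`**. -/
theorem bijective_comp_homCxMap_homCxPre_fst (K₀ : DRing.Cx A) (f : A)
    (hL : ∀ p : ℤ, Function.Bijective (fun x : L.X p => f • x)) (E : Dual.D A) (hE : Cpl f E) :
    Function.Bijective (fun g : DerivedCategory.Q.obj
        (DRing.homCx K₀ (DRing.homCx (mappingCocone φ) J)) ⟶ E =>
      DerivedCategory.Q.map (DRing.homCxMap K₀ (homCxPre (mappingCocone.fst φ) J)) ≫ g) :=
  bijective_comp_of_cpl _
    (DerivedCategory.triangleOfSES_distinguished (homCxSC_map_shortExact φ J K₀)) f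
    (isIso_smul_Q_of_bijective f _ (fun i => bijective_smul_cochain_right f K₀ (homCxS L J)
      (fun q => bijective_smul_cochain f L J hL (q + 1)) i)) E hE

end step

end Groth.Agent.Lib.HomTensor25
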