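import Groth.Agent.Lib.TKfAmp
import Mathlib.CategoryTheory.Triangulated.Subcategory
import Mathlib.CategoryTheory.Triangulated.Adjunction
import Mathlib.CategoryTheory.Shift.Adjunction

/-!
# Derived completion is a triangulated functor (helper25)
-/

set_option autoImplicit false
universe u

open CategoryTheory Limits Pretriangulated ZeroObject

attribute [local instance] HasDerivedCategory.standard

namespace Groth.Agent.Lib.TKfTri

open Groth.Agent.Lib.TKfMod Groth.Agent.Lib.TKfIdeal Groth.Agent.Lib.TKfCompl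
  Groth.Agent.Lib.TKfAdj Groth.Agent.Lib.TKfAmp

variable {A : Type u} [CommRing A] (I : Ideal A)

lemma isDerivedComplete_iff_Cpl (K : Dual.D A) :
    DRing.IsDerivedComplete I K ↔ ∀ f ∈ I, Cpl f K := by
  constructor
  · intro h f hf
    exact (DC_iff_Cpl f K).mp (h f hf)
  · intro h f hf
    exact (DC_iff_Cpl f K).mpr (h f hf)

instance : (DRing.IsDerivedComplete I).IsClosedUnderIsomorphisms where
  of_iso e h := by
    rw [isDerivedComplete_iff_Cpl] at h ⊢
    exact fun f hf => (h f hf).of_iso e

instance : (DRing.IsDerivedComplete I).IsTriangulated where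
  exists_zero := ⟨(0 : Dual.D A), isZero_zero _, by
    rw [isDerivedComplete_iff_Cpl]
    intro f _ Y _ g
    exact (isZero_zero _).eq_of_tgt _ _⟩
  isStableUnderShiftBy n :=
    { le_shift := fun K hK => by
        change DRing.IsDerivedComplete I (K⟦n⟧)
        rw [isDerivedComplete_iff_Cpl] at hK ⊢
        exact fun f hf => (hK f hf).shift n }
  ext₂' T hT h₁ h₃ := by
    apply ObjectProperty.le_isoClosure
    rw [isDerivedComplete_iff_Cpl] at h₁ h₃ ⊢
    exact fun f hf => Cpl.of_triangle₂ T hT (h₁ f hf) (h₃ f hf)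

section functor

variable [DRing.HasDerivedCompletion I]

noncomputable instance : (DRing.derivedCompletion I).CommShift ℤ :=
  (DRing.derivedCompletionAdj I).leftAdjointCommShift ℤ

instance : (DRing.derivedCompletionAdj I).CommShift ℤ :=
  (DRing.derivedCompletionAdj I).commShift_of_rightAdjoint ℤ

instance : (DRing.derivedCompletion I).IsTriangulated :=
  (DRing.derivedCompletionAdj I).isTriangulated_leftAdjoint

/-- derived completion sends a distinguished triangle to a distinguished triangle of `D(A)`. -/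
theorem exists_triangle (T : Triangle (Dual.D A)) (hT : T ∈ distTriang (Dual.D A)) :
    ∃ h : ((DRing.derivedCompletion I).obj T.obj₃).obj ⟶
        (((DRing.derivedCompletion I).obj T.obj₁).obj)⟦(1 : ℤ)⟧,
      Triangle.mk ((DRing.derivedCompletion I).map T.mor₁).hom
        ((DRing.derivedCompletion I).map T.mor₂).hom h ∈ distTriang (Dual.D A) := by
  have h1 := (DRing.derivedCompletion I).map_distinguished T hT
  exact ⟨_, h1⟩

/-- vanishing of cohomology of the derived completion. -/
theorem isZero_H_derivedCompletion (s : Finset A) (hs : Ideal.span (s : Set A) = I)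
    (K : Dual.D A) (S : Set ℤ) (hX : ∀ i ∈ S, IsZero ((H A i).obj K)) (i : ℤ)
    (hi : ∀ k : ℕ, k ≤ s.card → i + k ∈ S) :
    IsZero ((H A i).obj ((DRing.derivedCompletion I).obj K).obj) := by
  obtain ⟨Khat, hst, ⟨e⟩⟩ := exists_steps_iso_derivedCompletion s I hs K
  exact IsZero.of_iso (steps_isZero s.card K Khat hst S hX i hi) ((H A i).mapIso e)

end functor

section homologySequence

open DerivedCategory.HomologySequence

variable (T : Triangle (Dual.D A)) (hT : T ∈ distTriang (Dual.D A))
include hT

lemma isZero_H_obj₃ (n : ℤ) (hepi : Epi ((H A n).map T.mor₁))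
    (hmono : Mono ((H A (n + 1)).map T.mor₁)) : IsZero ((H A n).obj T.obj₃) :=
  (exact₃ T hT n (n + 1) rfl).isZero_of_both_zeros
    ((epi_homologyMap_mor₁_iff T hT n).mp hepi)
    ((mono_homologyMap_mor₁_iff T hT n (n + 1) rfl).mp hmono)

lemma epi_H_mor₁ (n : ℤ) (h : IsZero ((H A n).obj T.obj₃)) : Epi ((H A n).map T.mor₁) :=
  (epi_homologyMap_mor₁_iff T hT n).mpr (h.eq_of_tgt _ _)

lemma mono_H_mor₁ (n₀ n₁ : ℤ) (hn : n₀ + 1 = n₁) (h : IsZero ((H A n₀).obj T.obj₃)) :
    Mono ((H A n₁).map T.mor₁) :=
  (mono_homologyMap_mor₁_iff T hT n₀ n₁ hn).mpr (h.eq_of_src _ _)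

end homologySequence

end Groth.Agent.Lib.TKfTri
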