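import Groth.Agent.Lib.CechCompletion25
import Groth.Agent.Lib.HomCxAcyc25
import Groth.Agent.Lib.HomCxPost25
import Groth.Agent.Lib.TKfTri

/-!
# `RHom(K, L^)` is the derived completion of `RHom(K, L)` (helper25)

* `theta J fs : J ⟶ Hom•(Č(fs), J)`, the explicit chain-level completion map.
* `theta_universal`, `theta_universal_homCx`.
* `rhom_completion` (= S7101).
-/

set_option autoImplicit false
set_option linter.style.haveILetI false
universe u

open CategoryTheory Category Limits CochainComplex HomComplex Pretriangulated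

attribute [local instance] HasDerivedCategory.standard

namespace Groth.Agent.Lib.CechCompletion25

open Groth.Agent.Lib.HomTensor25 Groth.Agent.Lib.CechFlat25 Groth.Agent.Lib.RHomCx25
  Groth.Agent.Lib.TKfMod Groth.Agent.Lib.TKfCompl Groth.Agent.Lib.TKfAdj Groth.Agent.Lib.TKfIdeal

variable {A : Type u} [CommRing A]

/-- the canonical chain map `J ⟶ Hom•(Č(fs), J)` -/
noncomputable def theta (J : DRing.Cx A) :
    ∀ fs : List A, J ⟶ DRing.homCx (DerCA.extCech (RA A) fs) J
  | [] => (homSingleIso J).inv
  | f :: fs => theta J fs ≫ homCxPre (mappingCocone.fst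
      (DerCA.locCxUnit (Submonoid.powers f) (DerCA.extCech (RA A) fs))) J

lemma theta_cons (J : DRing.Cx A) (f : A) (fs : List A) :
    theta J (f :: fs) = theta J fs ≫ homCxPre (mappingCocone.fst
      (DerCA.locCxUnit (Submonoid.powers f) (DerCA.extCech (RA A) fs))) J := rfl

/-- generic: bijectivity of precomposition transfers along a commutative square of isos -/
lemma bijective_comp_of_comm {D : Type*} [Category D] {X Y X' Y' E : D} (a : X ⟶ Y) (b : X' ⟶ Y')
    (i : X ≅ X') (j : Y ≅ Y') (w : a ≫ j.hom = i.hom ≫ b)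
    (hb : Function.Bijective (fun φ : Y' ⟶ E => b ≫ φ)) :
    Function.Bijective (fun φ : Y ⟶ E => a ≫ φ) := by
  have ha : a = i.hom ≫ b ≫ j.inv := by
    rw [← Category.assoc, ← w, Category.assoc, Iso.hom_inv_id, Category.comp_id]
  have e : (fun φ : Y ⟶ E => a ≫ φ) =
      (fun ψ : X' ⟶ E => i.hom ≫ ψ) ∘ (fun φ : Y' ⟶ E => b ≫ φ) ∘ (fun φ : Y ⟶ E => j.inv ≫ φ) := by
    funext φ
    simp [ha]
  rw [e]
  refine Function.Bijective.comp ?_ (Function.Bijective.comp hb ?_)
  · constructor
    · intro x y h
      exact (cancel_epi i.hom).mp h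
    · intro x
      exact ⟨i.inv ≫ x, by simp⟩
  · constructor
    · intro x y h
      exact (cancel_epi j.inv).mp h
    · intro x
      exact ⟨j.hom ≫ x, by simp⟩

/-- `Q(theta)` is the universal arrow to `fs`-complete objects. -/
theorem theta_universal (J : DRing.Cx A) [J.IsKInjective] (fs : List A) :
    (∀ g ∈ fs, Cpl g (DerivedCategory.Q.obj (DRing.homCx (DerCA.extCech (RA A) fs) J))) ∧
    (∀ E : Dual.D A, (∀ g ∈ fs, Cpl g E) → Function.Bijective
      (fun h : DerivedCategory.Q.obj (DRing.homCx (DerCA.extCech (RA A) fs) J) ⟶ E =>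
        DerivedCategory.Q.map (theta J fs) ≫ h)) := by
  induction fs with
  | nil =>
    refine ⟨fun g hg => by simp at hg, fun E _ => ?_⟩
    have : IsIso (DerivedCategory.Q.map (theta J [])) :=
      inferInstanceAs (IsIso (DerivedCategory.Q.map (homSingleIso J).inv))
    constructor
    · intro a b hab
      exact (cancel_epi _).mp hab
    · intro a
      exact ⟨inv (DerivedCategory.Q.map (theta J [])) ≫ a, by simp⟩
  | cons f fs ih =>
    obtain ⟨h1, h2⟩ := ih
    let C := DerCA.extCech (RA A) fs
    let φ := DerCA.locCxUnit (Submonoid.powers f) C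
    let Y := DerivedCategory.Q.obj (DRing.homCx C J)
    let Y' := DerivedCategory.Q.obj (DRing.homCx (mappingCocone φ) J)
    let ρ : Y ⟶ Y' := DerivedCategory.Q.map (homCxPre (mappingCocone.fst φ) J)
    have hflat : Groth.Agent.Lib.KFlat35.IsKFlat (mappingCocone φ) :=
      isKFlat_extCech (RA A) (f :: fs)
    have hL : ∀ p : ℤ, Function.Bijective
        (fun x : ((DerCA.locCx (Submonoid.powers f)).obj C).X p => f • x) :=
      fun p => bijective_smul_localizedModule f (C.X p)
    have hbij : ∀ E : Dual.D A, Cpl f E → Function.Bijective (fun h : Y' ⟶ E => ρ ≫ h) :=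
      fun E hE => bijective_comp_homCxPre_fst φ J f hL E hE
    have hf : Cpl f Y' := (DC_iff_Cpl f _).mp (DC_homCx f _ J hflat (acyclic_tensor_ce f C))
    have hη : DerivedCategory.Q.map (theta J (f :: fs)) = DerivedCategory.Q.map (theta J fs) ≫ ρ :=
      DerivedCategory.Q.map_comp (theta J fs) (homCxPre (mappingCocone.fst φ) J)
    refine ⟨?_, ?_⟩
    · intro g hg
      rcases List.mem_cons.mp hg with rfl | hg'
      · exact hf
      · obtain ⟨Khat, ηk, hc, hu, hp, -⟩ := exists_completion_step (A := A) f Y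
        obtain ⟨e⟩ := nonempty_iso_of_universal f ηk ρ hc hf hu hbij
        exact Cpl.of_iso e (hp g (h1 g hg'))
    · intro E hE
      have e1 := hbij E (hE f List.mem_cons_self)
      have e2 := h2 E (fun g hg => hE g (List.mem_cons_of_mem f hg))
      have : (fun h : Y' ⟶ E => DerivedCategory.Q.map (theta J (f :: fs)) ≫ h) =
          (fun h : Y ⟶ E => DerivedCategory.Q.map (theta J fs) ≫ h) ∘
            (fun h : Y' ⟶ E => ρ ≫ h) := by
        funext h
        rw [hη]
        exact Category.assoc _ _ _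
      change Function.Bijective (fun h : Y' ⟶ E => DerivedCategory.Q.map (theta J (f :: fs)) ≫ h)
      rw [this]
      exact e2.comp e1

/-- `Q(Hom•(K₀, theta))` induces bijections on morphisms to `fs`-complete objects. -/
theorem theta_universal_homCx (K₀ J : DRing.Cx A) (fs : List A) (E : Dual.D A)
    (hE : ∀ g ∈ fs, Cpl g E) : Function.Bijective
      (fun h : DerivedCategory.Q.obj (DRing.homCx K₀ (DRing.homCx (DerCA.extCech (RA A) fs) J)) ⟶ E =>
        DerivedCategory.Q.map (DRing.homCxMap K₀ (theta J fs)) ≫ h) := by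
  induction fs with
  | nil =>
    have h0 : IsIso ((DRing.homCxFunctor K₀).map (theta J [])) :=
      inferInstanceAs (IsIso ((DRing.homCxFunctor K₀).map (homSingleIso J).inv))
    have : IsIso (DerivedCategory.Q.map (DRing.homCxMap K₀ (theta J []))) :=
      inferInstanceAs (IsIso (DerivedCategory.Q.map ((DRing.homCxFunctor K₀).map (theta J []))))
    constructor
    · intro a b hab
      exact (cancel_epi _).mp hab
    · intro a
      exact ⟨inv (DerivedCategory.Q.map (DRing.homCxMap K₀ (theta J []))) ≫ a, by simp⟩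
  | cons f fs ih =>
    let C := DerCA.extCech (RA A) fs
    let φ := DerCA.locCxUnit (Submonoid.powers f) C
    let Y := DerivedCategory.Q.obj (DRing.homCx K₀ (DRing.homCx C J))
    let Y' := DerivedCategory.Q.obj (DRing.homCx K₀ (DRing.homCx (mappingCocone φ) J))
    let ρ : Y ⟶ Y' := DerivedCategory.Q.map (DRing.homCxMap K₀ (homCxPre (mappingCocone.fst φ) J))
    have hL : ∀ p : ℤ, Function.Bijective
        (fun x : ((DerCA.locCx (Submonoid.powers f)).obj C).X p => f • x) :=
      fun p => bijective_smul_localizedModule f (C.X p)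
    have e1 : Function.Bijective (fun h : Y' ⟶ E => ρ ≫ h) :=
      bijective_comp_homCxMap_homCxPre_fst φ J K₀ f hL E (hE f List.mem_cons_self)
    have e2 := ih (fun g hg => hE g (List.mem_cons_of_mem f hg))
    have hη : DerivedCategory.Q.map (DRing.homCxMap K₀ (theta J (f :: fs))) =
        DerivedCategory.Q.map (DRing.homCxMap K₀ (theta J fs)) ≫ ρ :=
      (DRing.homCxFunctor K₀ ⋙ DerivedCategory.Q).map_comp (theta J fs)
        (homCxPre (mappingCocone.fst φ) J)
    have : (fun h : Y' ⟶ E => DerivedCategory.Q.map (DRing.homCxMap K₀ (theta J (f :: fs))) ≫ h) =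
        (fun h : Y ⟶ E => DerivedCategory.Q.map (DRing.homCxMap K₀ (theta J fs)) ≫ h) ∘
          (fun h : Y' ⟶ E => ρ ≫ h) := by
      funext h
      rw [hη]
      exact Category.assoc _ _ _
    change Function.Bijective
      (fun h : Y' ⟶ E => DerivedCategory.Q.map (DRing.homCxMap K₀ (theta J (f :: fs))) ≫ h)
    rw [this]
    exact e2.comp e1

/-- the statement for `L = Q J` with `J` K-injective -/
theorem rhom_completion_aux (fs : List A) (I : Ideal A)
    (hI : Ideal.span {x : A | x ∈ fs} = I) [DRing.HasDerivedCompletion I]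
    (K : DRing.Cx A) [DRing.HasRHomCx K] (J : DRing.Cx A) [J.IsKInjective] :
    DRing.IsDerivedComplete I ((DRing.RHomCx K).obj
        ((DRing.derivedCompletion I).obj (DerivedCategory.Q.obj J)).obj) ∧
      ∀ E : Dual.D A, DRing.IsDerivedComplete I E →
        Function.Bijective (fun φ : (DRing.RHomCx K).obj
            ((DRing.derivedCompletion I).obj (DerivedCategory.Q.obj J)).obj ⟶ E =>
          (DRing.RHomCx K).map (DRing.toDerivedCompletion I (DerivedCategory.Q.obj J)) ≫ φ) := by
  let C := DerCA.extCech (RA A) fs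
  let Jh := DRing.homCx C J
  haveI : Jh.IsKInjective := isKInjective_homCx C J (isKFlat_extCech (RA A) fs)
  obtain ⟨h1, h2⟩ := theta_universal J fs
  have hLh : DRing.IsDerivedComplete I (DerivedCategory.Q.obj Jh) := by
    rw [isDerivedComplete_iff_le, ← hI, Ideal.span_le]
    intro x hx
    exact (DC_iff_Cpl x _).mpr (h1 x hx)
  have hcpl : ∀ E : Dual.D A, DRing.IsDerivedComplete I E → ∀ g ∈ fs, Cpl g E := by
    intro E hE g hg
    apply (DC_iff_Cpl g E).mp
    have : g ∈ I := by
      rw [← hI]
      exact Ideal.subset_span hg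
    exact (isDerivedComplete_iff_le I E).mp hE this
  have huniv : ∀ E : Dual.D A, DRing.IsDerivedComplete I E →
      Function.Bijective (fun g : DerivedCategory.Q.obj Jh ⟶ E =>
        DerivedCategory.Q.map (theta J fs) ≫ g) := fun E hE => h2 E (hcpl E hE)
  obtain ⟨e, he⟩ := Groth.Agent.Lib.TKfNoeth.exists_iso_of_universal I _ _
    (DerivedCategory.Q.map (theta J fs)) hLh huniv
  let T := DerivedCategory.Q.obj (DRing.homCx K Jh)
  have hT : DRing.IsDerivedComplete I T := by
    rw [isDerivedComplete_iff_le, ← hI, Ideal.span_le]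
    intro x hx
    exact DC_homCx_of_DC x K Jh ((DC_iff_Cpl x _).mpr (h1 x hx))
  let i2 : (DRing.RHomCx K).obj ((DRing.derivedCompletion I).obj (DerivedCategory.Q.obj J)).obj ≅ T :=
    (DRing.RHomCx K).mapIso e ≪≫ rhomIso K Jh
  refine ⟨(DRing.IsDerivedComplete I).prop_of_iso i2.symm hT, fun E hE => ?_⟩
  have hnat := (rhomUnit K).naturality (theta J fs)
  have w : (DRing.RHomCx K).map (DRing.toDerivedCompletion I (DerivedCategory.Q.obj J)) ≫ i2.hom =
      (rhomIso K J).hom ≫ (DRing.homCxQ K).map (theta J fs) := by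
    change (DRing.RHomCx K).map (DRing.toDerivedCompletion I (DerivedCategory.Q.obj J)) ≫
      (DRing.RHomCx K).map e.hom ≫
        inv ((rhomUnit K).app (DRing.homCx (DerCA.extCech (RA A) fs) J)) =
      inv ((rhomUnit K).app J) ≫ (DRing.homCxQ K).map (theta J fs)
    rw [← Category.assoc, ← Functor.map_comp, he, IsIso.comp_inv_eq, Category.assoc, hnat,
      IsIso.inv_hom_id_assoc]
    rfl
  exact bijective_comp_of_comm _ _ (rhomIso K J) i2 w
    (theta_universal_homCx K J fs E (hcpl E hE))

/-- **`RHom(K, L^)` is the derived completion of `RHom(K, L)`** (= S7101). -/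
theorem rhom_completion (I : Ideal A) (hI : I.FG) [DRing.HasDerivedCompletion I]
    (K : DRing.Cx A) [DRing.HasRHomCx K] (L : Dual.D A) :
    DRing.IsDerivedComplete I ((DRing.RHomCx K).obj ((DRing.derivedCompletion I).obj L).obj) ∧
      ∀ E : Dual.D A, DRing.IsDerivedComplete I E →
        Function.Bijective (fun φ : (DRing.RHomCx K).obj ((DRing.derivedCompletion I).obj L).obj ⟶ E =>
          (DRing.RHomCx K).map (DRing.toDerivedCompletion I L) ≫ φ) := by
  obtain ⟨s, hs⟩ := hI
  have hfs : Ideal.span {x : A | x ∈ s.toList} = I := by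
    rw [← hs]
    congr 1
    ext x
    simp
  obtain ⟨X, ⟨eX⟩⟩ : ∃ X : DRing.Cx A, Nonempty (DerivedCategory.Q.obj X ≅ L) :=
    ⟨_, ⟨DerivedCategory.Q.objObjPreimageIso L⟩⟩
  obtain ⟨J, j, hJ, hj⟩ := Groth.Agent.Lib.RGammaKInj.exists_kinj X
  have : IsIso (DerivedCategory.Q.map j) := by
    rw [DerivedCategory.isIso_Q_map_iff_quasiIso]; exact hj
  let eJ : DerivedCategory.Q.obj J ≅ L := (asIso (DerivedCategory.Q.map j)).symm ≪≫ eX
  obtain ⟨a1, a2⟩ := rhom_completion_aux s.toList I hfs K J
  let c : ((DRing.derivedCompletion I).obj (DerivedCategory.Q.obj J)).obj ≅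
      ((DRing.derivedCompletion I).obj L).obj :=
    (ObjectProperty.ι (DRing.IsDerivedComplete I)).mapIso ((DRing.derivedCompletion I).mapIso eJ)
  have hc : eJ.hom ≫ DRing.toDerivedCompletion I L =
      DRing.toDerivedCompletion I (DerivedCategory.Q.obj J) ≫ c.hom :=
    (DRing.derivedCompletionAdj I).unit.naturality eJ.hom
  refine ⟨(DRing.IsDerivedComplete I).prop_of_iso ((DRing.RHomCx K).mapIso c) a1, fun E hE => ?_⟩
  refine bijective_comp_of_comm _ _ ((DRing.RHomCx K).mapIso eJ.symm)
    ((DRing.RHomCx K).mapIso c.symm) ?_ (a2 E hE)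
  change (DRing.RHomCx K).map (DRing.toDerivedCompletion I L) ≫ (DRing.RHomCx K).map c.inv =
    (DRing.RHomCx K).map eJ.inv ≫
      (DRing.RHomCx K).map (DRing.toDerivedCompletion I (DerivedCategory.Q.obj J))
  rw [← Functor.map_comp, ← Functor.map_comp]
  congr 1
  rw [Iso.comp_inv_eq, Category.assoc, ← hc, Iso.inv_hom_id_assoc]

end Groth.Agent.Lib.CechCompletion25
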