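import Groth.Agent.Lib.KProjDevissage25
import Groth.Agent.Lib.HomCxAcyc25
import Groth.Agent.Lib.LTensorCxKProj
import Groth.Agent.Lib.TKfTri
import Groth.Agent.Lib.TKfRestrict
import Groth.Agent.Lib.RHomCompletion25
import Groth.Agent.Lib.KFlatSES35
import Groth.Agent.Lib.BifunctorCone66
import Groth.Agent.Lib.ProjResolution
import Groth.Agent.Lib.EvalHomPC25
import Mathlib.Algebra.Homology.BifunctorShift

/-!
# Derived completion and derived tensor products with pseudo-coherent complexes (helper25)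

* `bijective_comp_tensor`: chain level tensor-hom adjunction: if `Q φ` is universal towards
  `Q(Hom•(F, J))` then `Q(φ ⊗ F)` is universal towards `Q J` (`J` K-injective).
* `isDerivedComplete_tensor`: `P` bounded above with `Q P` derived complete, `F` bounded above
  termwise finite free ⟹ `Q(P ⊗ F)` derived complete.
-/

set_option autoImplicit false
set_option linter.unusedSectionVars false
set_option linter.style.haveILetI false
universe u

open CategoryTheory Category Limits MonoidalCategory CochainComplex HomComplex Pretriangulated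

attribute [local instance] HasDerivedCategory.standard

namespace Groth.Agent.Lib.CplTensor25

open Groth.Agent.Lib.RHomModel25 Groth.Agent.Lib.HomTensor25 DerivedCategory
  Groth.Agent.Lib.TKfMod Groth.Agent.Lib.TKfIdeal Groth.Agent.Lib.TKfCompl Groth.Agent.Lib.TKfAdj
  Groth.Agent.Lib.TKfTri

variable {A : Type u} [CommRing A]

section CoreB

variable {P P' : DRing.Cx A} [P.IsKProjective] [P'.IsKProjective] (φ : P ⟶ P')
  (F J : DRing.Cx A) [J.IsKInjective]

lemma uncurry_comp (θ : P' ⟶ DRing.homCx F J) :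
    uncurry (φ ≫ θ) = (φ ▷ F) ≫ uncurry θ := by
  rw [uncurry_eq, uncurry_eq, comp_whiskerRight, Category.assoc]

lemma curry_comp (χ : T P' F ⟶ J) : curry ((φ ▷ F) ≫ χ) = φ ≫ curry χ := by
  have := uncurry_comp φ F J (curry χ)
  rw [uncurry_curry] at this
  rw [← this, curry_uncurry]

/-- chain level tensor-hom adjunction transports universality -/
theorem bijective_comp_tensor
    (h : Function.Bijective (fun g : Q.obj P' ⟶ Q.obj (DRing.homCx F J) => Q.map φ ≫ g)) :
    Function.Bijective (fun g : Q.obj (T P' F) ⟶ Q.obj J => Q.map (φ ▷ F) ≫ g) := by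
  constructor
  · intro g₁ g₂ h12
    obtain ⟨χ₁, rfl⟩ := exists_Q_map_eq_of_kinj g₁
    obtain ⟨χ₂, rfl⟩ := exists_Q_map_eq_of_kinj g₂
    change Q.map (φ ▷ F) ≫ Q.map χ₁ = Q.map (φ ▷ F) ≫ Q.map χ₂ at h12
    rw [← Functor.map_comp, ← Functor.map_comp] at h12
    obtain ⟨ho⟩ := nonempty_homotopy_of_kinj h12
    have ho' := curryHomotopy ho
    rw [curry_comp, curry_comp] at ho'
    have h3 : Q.map φ ≫ Q.map (curry χ₁) = Q.map φ ≫ Q.map (curry χ₂) := by
      rw [← Functor.map_comp, ← Functor.map_comp]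
      exact DerivedCategory.Q_map_eq_of_homotopy _ ho'
    have h4 := h.1 h3
    obtain ⟨ho2⟩ := nonempty_homotopy_of_kproj h4
    have ho3 := uncurryHomotopy ho2
    rw [uncurry_curry, uncurry_curry] at ho3
    exact DerivedCategory.Q_map_eq_of_homotopy _ ho3
  · intro g
    obtain ⟨γ, rfl⟩ := exists_Q_map_eq_of_kinj g
    obtain ⟨t, ht⟩ := h.2 (Q.map (curry γ))
    obtain ⟨θ, rfl⟩ := exists_Q_map_eq_of_kproj t
    change Q.map φ ≫ Q.map θ = Q.map (curry γ) at ht
    rw [← Functor.map_comp] at ht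
    obtain ⟨ho⟩ := nonempty_homotopy_of_kproj ht
    have ho' := uncurryHomotopy ho
    rw [uncurry_comp, uncurry_curry] at ho'
    refine ⟨Q.map (uncurry θ), ?_⟩
    change Q.map (φ ▷ F) ≫ Q.map (uncurry θ) = Q.map γ
    rw [← Functor.map_comp]
    exact DerivedCategory.Q_map_eq_of_homotopy _ ho'

end CoreB

section Universal

variable (I : Ideal A) [DRing.HasDerivedCompletion I]

/-- the universal property of the derived completion -/
lemma bijective_toDerivedCompletion_comp (K E : Dual.D A) (hE : DRing.IsDerivedComplete I E) :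
    Function.Bijective (fun g : ((DRing.derivedCompletion I).obj K).obj ⟶ E =>
      DRing.toDerivedCompletion I K ≫ g) := by
  let Z : DRing.DComp I := ⟨E, hE⟩
  let e := (DRing.derivedCompletionAdj I).homEquiv K Z
  constructor
  · intro g₁ g₂ h
    have h1 : e (ObjectProperty.homMk g₁) = e (ObjectProperty.homMk g₂) := by
      rw [Adjunction.homEquiv_unit, Adjunction.homEquiv_unit]
      exact h
    have h2 := e.injective h1
    exact congrArg (fun m => m.hom) h2
  · intro g
    refine ⟨(e.symm g).hom, ?_⟩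
    have := e.apply_symm_apply g
    rw [Adjunction.homEquiv_unit] at this
    exact this

/-- bijectivity of precomposition is independent of the target up to isomorphism -/
lemma bijective_comp_of_iso_target {D : Type*} [Category D] {X Y E E' : D} (a : X ⟶ Y)
    (j : E ≅ E') (h : Function.Bijective (fun g : Y ⟶ E' => a ≫ g)) :
    Function.Bijective (fun g : Y ⟶ E => a ≫ g) := by
  have e : (fun g : Y ⟶ E => a ≫ g) =
      (fun g : X ⟶ E' => g ≫ j.inv) ∘ (fun g : Y ⟶ E' => a ≫ g) ∘ (fun g : Y ⟶ E => g ≫ j.hom) := by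
    funext g
    simp
  rw [e]
  refine Function.Bijective.comp ?_ (Function.Bijective.comp h ?_)
  · constructor
    · intro x y hxy
      exact (cancel_mono j.inv).mp hxy
    · intro x
      exact ⟨x ≫ j.hom, by simp⟩
  · constructor
    · intro x y hxy
      exact (cancel_mono j.hom).mp hxy
    · intro x
      exact ⟨x ≫ j.inv, by simp⟩

/-- **Universality**: `K ⊗^L F ⟶ K^ ⊗^L F` is universal towards derived complete objects. -/
theorem bijective_LTensorCx_map_toDerivedCompletion (F : DRing.Cx A) [DRing.HasLTensorCx A F]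
    (K E : Dual.D A) (hE : DRing.IsDerivedComplete I E) :
    Function.Bijective
      (fun φ : (DRing.LTensorCx A F).obj ((DRing.derivedCompletion I).obj K).obj ⟶ E =>
        (DRing.LTensorCx A F).map (DRing.toDerivedCompletion I K) ≫ φ) := by
  obtain ⟨P, hP, ⟨eP⟩⟩ := exists_kproj_rep K
  obtain ⟨P', hP', ⟨eP'⟩⟩ := exists_kproj_rep ((DRing.derivedCompletion I).obj K).obj
  haveI := hP
  haveI := hP'
  obtain ⟨X, ⟨eX⟩⟩ : ∃ X : DRing.Cx A, Nonempty (Q.obj X ≅ E) := ⟨_, ⟨Q.objObjPreimageIso E⟩⟩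
  obtain ⟨J, j, hJ, hj⟩ := Groth.Agent.Lib.RGammaKInj.exists_kinj X
  haveI := hJ
  have : IsIso (Q.map j) := by
    rw [DerivedCategory.isIso_Q_map_iff_quasiIso]; exact hj
  let eJ : E ≅ Q.obj J := eX.symm ≪≫ asIso (Q.map j)
  obtain ⟨φ, hφ⟩ := exists_Q_map_eq_of_kproj
    (eP.hom ≫ DRing.toDerivedCompletion I K ≫ eP'.inv)
  have hJc : DRing.IsDerivedComplete I (Q.obj J) :=
    (DRing.IsDerivedComplete I).prop_of_iso eJ hE
  have hL : DRing.IsDerivedComplete I (Q.obj (DRing.homCx F J)) := fun f hf =>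
    DC_homCx_of_DC f F J (hJc f hf)
  have hcore : Function.Bijective
      (fun g : Q.obj P' ⟶ Q.obj (DRing.homCx F J) => Q.map φ ≫ g) := by
    refine Groth.Agent.Lib.CechCompletion25.bijective_comp_of_comm _
      (DRing.toDerivedCompletion I K) eP eP' ?_ (bijective_toDerivedCompletion_comp I K _ hL)
    rw [hφ, Category.assoc, Category.assoc, Iso.inv_hom_id, Category.comp_id]
  have h2 := bijective_comp_tensor φ F J hcore
  apply bijective_comp_of_iso_target _ eJ
  refine Groth.Agent.Lib.CechCompletion25.bijective_comp_of_comm _ (Q.map (φ ▷ F))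
    ((DRing.LTensorCx A F).mapIso eP.symm ≪≫ Groth.Agent.Lib.LTensorCxKProj.ltcIso A F P)
    ((DRing.LTensorCx A F).mapIso eP'.symm ≪≫ Groth.Agent.Lib.LTensorCxKProj.ltcIso A F P') ?_ h2
  have nat := Groth.Agent.Lib.LTensorCxKProj.ltcIso_hom_naturality A F φ
  rw [hφ] at nat
  simp only [Iso.trans_hom, Functor.mapIso_hom, Iso.symm_hom]
  rw [Category.assoc, ← nat, ← Functor.map_comp_assoc, ← Functor.map_comp_assoc]
  congr 2
  rw [Iso.inv_hom_id_assoc]

end Universal

section CoreA

open Groth.Agent.Lib.DStupid Groth.Agent.Lib.SeqComplete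

variable (I : Ideal A) (P : DRing.Cx A)

lemma isDerivedComplete_of_retract {X Y : Dual.D A} (i : X ⟶ Y) (r : Y ⟶ X) (h : i ≫ r = 𝟙 X)
    (hY : DRing.IsDerivedComplete I Y) : DRing.IsDerivedComplete I X := by
  rw [isDerivedComplete_iff_Cpl] at hY ⊢
  intro f hf Z hZ g
  have h0 := hY f hf Z hZ (g ≫ i)
  calc g = g ≫ i ≫ r := by rw [h, Category.comp_id]
    _ = (g ≫ i) ≫ r := (Category.assoc _ _ _).symm
    _ = 0 := by rw [h0, zero_comp]

/-- the predicate for the dévissage: `Q(P ⊗ E)` is derived complete -/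
def ΦT (E : DRing.Cx A) : Prop := DRing.IsDerivedComplete I (Q.obj (T P E))

lemma ΦT_retract (E E' : DRing.Cx A) (ι : E ⟶ E') (π : E' ⟶ E) (ho : Homotopy (ι ≫ π) (𝟙 E))
    (h : ΦT I P E') : ΦT I P E := by
  have h' : Homotopy (P ◁ (ι ≫ π)) (P ◁ 𝟙 E) :=
    HomologicalComplex.mapBifunctorMapHomotopy₂ (𝟙 P) ho (curriedTensor (ModuleCat.{u} A))
      (ComplexShape.up ℤ)
  have h1 := DerivedCategory.Q_map_eq_of_homotopy _ h'
  rw [MonoidalCategory.whiskerLeft_comp, MonoidalCategory.whiskerLeft_id, Functor.map_comp,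
    CategoryTheory.Functor.map_id] at h1
  exact isDerivedComplete_of_retract I _ _ h1 h

lemma ΦT_unit (hP : DRing.IsDerivedComplete I (Q.obj P)) : ΦT I P (S0 A) :=
  (DRing.IsDerivedComplete I).prop_of_iso (Q.mapIso (ρ_ P)).symm hP

lemma ΦT_shift (E : DRing.Cx A) (n : ℤ) (h : ΦT I P E) : ΦT I P (E⟦n⟧) := by
  let e : T P (E⟦n⟧) ≅ (T P E)⟦n⟧ :=
    CochainComplex.mapBifunctorShift₂Iso P E (curriedTensor (ModuleCat.{u} A)) n
  have h1 : DRing.IsDerivedComplete I ((Q.obj (T P E))⟦n⟧) :=
    (DRing.IsDerivedComplete I).le_shift n _ h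
  exact (DRing.IsDerivedComplete I).prop_of_iso
    (Q.mapIso e ≪≫ (Q.commShiftIso n).app (T P E)).symm h1

lemma ΦT_cone (X Y : DRing.Cx A) (φ : X ⟶ Y) (hX : ΦT I P X) (hY : ΦT I P Y) :
    ΦT I P (mappingCone φ) := by
  let e : T P (mappingCone φ) ≅ mappingCone (P ◁ φ) :=
    Groth.Agent.Lib.BifunctorCone66.coneIso₂ (curriedTensor (ModuleCat.{u} A)) P φ
  have hd : Q.mapTriangle.obj (mappingCone.triangle (P ◁ φ)) ∈ distTriang (Dual.D A) := by
    rw [DerivedCategory.mem_distTriang_iff]
    exact ⟨_, _, P ◁ φ, ⟨Iso.refl _⟩⟩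
  have h3 := (DRing.IsDerivedComplete I).ext_of_isTriangulatedClosed₃ _ hd hX hY
  exact (DRing.IsDerivedComplete I).prop_of_iso (Q.mapIso e).symm h3

/-- `Q(P ⊗ G)` is derived complete for `G` K-projective and perfect, if `Q P` is. -/
theorem isDerivedComplete_tensor_of_isPerfect (hP : DRing.IsDerivedComplete I (Q.obj P))
    (G : DRing.Cx A) [G.IsKProjective] (hG : DRing.IsPerfect A (Q.obj G)) :
    DRing.IsDerivedComplete I (Q.obj (T P G)) :=
  Groth.Agent.Lib.KProjDevissage25.prop_of_isPerfect (ΦT I P)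
    (fun E E' _ _ ι π ho h => ΦT_retract I P E E' ι π ho h) (ΦT_unit I P hP)
    (fun E _ n h => ΦT_shift I P E n h) (fun X Y _ _ φ hX hY => ΦT_cone I P X Y φ hX hY) G hG

lemma isLE_of_iso_Q' {X : Dual.D A} (Z : DRing.Cx A) (e : X ≅ Q.obj Z) (c : ℤ)
    (hZ : ∀ i : ℤ, c < i → IsZero (Z.X i)) : X.IsLE c := by
  haveI : Z.IsStrictlyLE c := by
    rw [CochainComplex.isStrictlyLE_iff]
    exact hZ
  exact TStructure.t.isLE_of_iso e.symm c

/-- **Derived completeness of `P ⊗ F`**, `P` bounded above with `Q P` derived complete, `F` bounded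
above termwise finite free. -/
theorem isDerivedComplete_tensor (b : ℤ) (hPb : DRing.VanishesAbove P b)
    (hP : DRing.IsDerivedComplete I (Q.obj P)) (F : DRing.Cx A) (c : ℤ)
    (hFc : DRing.VanishesAbove F c) (hFf : DRing.TermwiseFiniteFree F) :
    DRing.IsDerivedComplete I (Q.obj (T P F)) := by
  intro f hf
  change DC f (Q.obj (T P F))
  rw [Groth.Agent.Lib.TKfIdeal.DC_iff_isSeqComplete]
  intro i
  let m : ℤ := i - 1 - b
  let G := stupidGE F m
  let E' := stupidLT F m
  let S := ses F (topFamily F m) (topFamily_le F m)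
  have hS : S.ShortExact := ses_shortExact F (topFamily F m) (topFamily_le F m)
  have hfl : ∀ n : ℤ, Module.Flat A (S.X₃.X n) := by
    intro n
    by_cases hn : n < m
    · obtain ⟨h1, h2⟩ := hFf n
      exact Module.Flat.of_linearEquiv (stupidLTXIso F m n hn).toLinearEquiv
    · have hz := isZero_stupidLT_X_of_le F m n (by omega)
      haveI : Subsingleton (S.X₃.X n) := ModuleCat.subsingleton_of_isZero hz
      infer_instance
  have hS' := Groth.Agent.Lib.KFlatSES35.tensorLeft_shortExact P S hS hfl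
  have hT := DerivedCategory.triangleOfSES_distinguished hS'
  have hz : ∀ j : ℤ, i - 1 ≤ j →
      IsZero ((homologyFunctor (ModuleCat.{u} A) j).obj (Q.obj (T P E'))) := by
    intro j hj
    haveI : (Q.obj (T P E')).IsLE (i - 2) := by
      refine isLE_of_iso_Q' (T P E') (Iso.refl _) (i - 2) ?_
      intro n hn
      apply Groth.Agent.Lib.EvalHomPC25.isZero_tensor_X
      intro p q hpq
      by_cases hp : b < p
      · exact Or.inl (hPb p hp)
      · exact Or.inr (isZero_stupidLT_X_of_le F m q (by omega))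
    exact DerivedCategory.isZero_of_isLE _ (i - 2) j (by omega)
  have hiso := Groth.Agent.Lib.EvalHomPC25.isIso_homologyMap_mor₁ _ hT i (hz i (by omega))
    (hz (i - 1) le_rfl)
  -- the truncation is perfect and K-projective
  have hGb : ∀ n : ℤ, n < m ∨ c < n → IsZero (G.X n) := by
    rintro n (hn | hn)
    · exact isZero_stupidGE_X_of_lt F m n hn
    · exact isZero_stupidGE_X_of_isZero F m n (hFc n hn)
  have hGfp : ∀ n : ℤ, Module.Finite A (G.X n) ∧ Module.Projective A (G.X n) := by
    intro n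
    by_cases hn : m ≤ n
    · obtain ⟨h1, h2⟩ := hFf n
      let e := (stupidGEXIso F m n hn).toLinearEquiv
      exact ⟨Module.Finite.equiv e.symm, Module.Projective.of_equiv e.symm⟩
    · have hz := isZero_stupidGE_X_of_lt F m n (by omega)
      haveI : Subsingleton (G.X n) := ModuleCat.subsingleton_of_isZero hz
      exact ⟨inferInstance, inferInstance⟩
  haveI : G.IsKProjective :=
    Groth.Agent.Lib.RHomCx25.isKProjective_of_vanishesAbove G c (fun n hn => hGb n (Or.inr hn))
      (fun n => (hGfp n).2)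
  have hGperf : DRing.IsPerfect A (Q.obj G) := ⟨G, m, c, hGb, hGfp, ⟨Iso.refl _⟩⟩
  have hG := isDerivedComplete_tensor_of_isPerfect I P hP G hGperf
  have h1 : IsSeqComplete f (Dual.HD A (Q.obj (T P G)) i) := isSeqComplete_HD f _ (hG f hf) i
  haveI : IsIso ((homologyFunctor (ModuleCat.{u} A) i).map (Q.map (P ◁ S.f))) := hiso
  exact of_linearEquiv h1
    (asIso ((homologyFunctor (ModuleCat.{u} A) i).map (Q.map (P ◁ S.f)))).toLinearEquiv

end CoreA

end Groth.Agent.Lib.CplTensor25
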