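import Groth.Agent.Lib.FinFreeRes
import Groth.Prelude.Def_DRing2

/-!
# Finite modules over Noetherian rings are pseudo-coherent (`DRing.IsPseudoCoherentModule'`)
-/

set_option autoImplicit false

open CategoryTheory Limits

namespace Groth.Agent.Lib.FinFreeRes

universe u

attribute [local instance] HasDerivedCategory.standard

variable (P : Type u) [CommRing P] [IsNoetherianRing P]

/-- A module over any ring is represented in `D(P)` by a bounded above complex of free modules,
finite when the ring is Noetherian and the module finite. -/
theorem exists_finite_free_rep (N : Type u) [AddCommGroup N] [Module P N] [Module.Finite P N] :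
    ∃ E : DRing.Cx P, DRing.VanishesAbove E 0 ∧ DRing.TermwiseFiniteFree E ∧
      Nonempty (DRing.toD E ≅ Dual.inD P N) := by
  let Rs := freeRes (ModuleCat.of P N)
  refine ⟨Rs.cochainComplex, ?_, ?_, ?_⟩
  · intro i hi
    exact CochainComplex.isZero_of_isStrictlyLE _ 0 i hi
  · intro i
    by_cases hi : i ≤ 0
    · obtain ⟨k, rfl⟩ := Int.exists_eq_neg_ofNat hi
      let e := (Rs.cochainComplexXIso (-k) k rfl).toLinearEquiv
      have h1 : Module.Finite P (Rs.complex.X k) := finite_X (ModuleCat.of P N) k
      have h2 : Module.Free P (Rs.complex.X k) := free_X (ModuleCat.of P N) k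
      exact ⟨Module.Finite.equiv e.symm, Module.Free.of_equiv e.symm⟩
    · have hz : IsZero (Rs.cochainComplex.X i) :=
        CochainComplex.isZero_of_isStrictlyLE _ 0 i (by omega)
      have : Subsingleton (Rs.cochainComplex.X i) := ModuleCat.subsingleton_of_isZero hz
      exact ⟨inferInstance, Module.Free.of_subsingleton P _⟩
  · have h : IsIso (DerivedCategory.Q.map Rs.π') := by
      rw [DerivedCategory.isIso_Q_map_iff_quasiIso]
      infer_instance
    exact ⟨@asIso _ _ _ _ (DerivedCategory.Q.map Rs.π') h⟩

theorem isPseudoCoherentModule' (N : Type u) [AddCommGroup N] [Module P N] [Module.Finite P N] :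
    DRing.IsPseudoCoherentModule' P N := by
  obtain ⟨E, h1, h2, h3⟩ := exists_finite_free_rep P N
  exact ⟨E, 0, h1, h2, h3⟩

end Groth.Agent.Lib.FinFreeRes
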