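import Groth.Agent.Lib.CplTensor25
import Groth.Agent.Lib.LBaseChangeKProj
import Groth.Agent.Lib.FinFreeResD

/-!
# Derived completion and `- ⊗^L M` for a finite module `M` (helper25)

* `tensorSingleRightIso X : (Xⁿ ⊗ M)ₙ ≅ X ⊗ M[0]`, natural in `X`.
* `bijective_map_toDerivedCompletion_of_iso`: generic version of the universality statement for a
  functor `Φ` computed on two K-projective representatives by `- ⊗ F`.
-/

set_option autoImplicit false
set_option linter.unusedSectionVars false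
set_option linter.style.haveILetI false
universe u

open CategoryTheory Category Limits MonoidalCategory CochainComplex HomComplex Pretriangulated

attribute [local instance] HasDerivedCategory.standard

namespace Groth.Agent.Lib.CplTensor25

open Groth.Agent.Lib.RHomModel25 Groth.Agent.Lib.HomTensor25 DerivedCategory
  Groth.Agent.Lib.TKfMod Groth.Agent.Lib.TKfIdeal Groth.Agent.Lib.TKfCompl Groth.Agent.Lib.TKfAdj
  Groth.Agent.Lib.TKfTri
open Groth.Agent.Lib.TensorCxZ35 (ι pr)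

variable {A : Type u} [CommRing A]

section singleRight

variable (M : ModuleCat.{u} A) (X : DRing.Cx A)

/-- termwise tensor product with `M` on the right -/
noncomputable abbrev GMR : DRing.Cx A ⥤ DRing.Cx A :=
  (tensorRight M).mapHomologicalComplex (ComplexShape.up ℤ)

lemma tm_zero_right {K L : DRing.Cx A} {i j : ℤ} (n : ℤ) (h : i + j = n) (x : K.X i) :
    tm (L := L) n h x 0 = 0 := by
  have := tm_smul_right (L := L) n h (0 : A) x 0
  simpa using this

/-- the map `Xⁿ ⊗ M ⟶ (X ⊗ M[0])ⁿ` -/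
noncomputable def tsInvR (n : ℤ) : X.X n ⊗ M ⟶ (T X (sg M)).X n :=
  (X.X n ◁ (e0 M).inv) ≫ ι X (sg M) n 0 n (add_zero n)

/-- the map `(X ⊗ M[0])ⁿ ⟶ Xⁿ ⊗ M` -/
noncomputable def tsHomR (n : ℤ) : (T X (sg M)).X n ⟶ X.X n ⊗ M :=
  pr X (sg M) n 0 n (add_zero n) ≫ (X.X n ◁ (e0 M).hom)

lemma tsInvR_apply (n : ℤ) (x : X.X n) (m : M) :
    (tsInvR M X n).hom (x ⊗ₜ[A] m) = tm n (add_zero n) x ((e0 M).inv.hom m) := rfl

lemma tsInvR_tsHomR (n : ℤ) : tsInvR M X n ≫ tsHomR M X n = 𝟙 _ := by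
  unfold tsInvR tsHomR
  rw [Category.assoc, Groth.Agent.Lib.TensorCxZ35.ι_pr_self_assoc, ← MonoidalCategory.whiskerLeft_comp,
    Iso.inv_hom_id, MonoidalCategory.whiskerLeft_id]

lemma tsHomR_tsInvR (n : ℤ) : tsHomR M X n ≫ tsInvR M X n = 𝟙 _ := by
  apply hom_ext_tm
  intro i j h x y
  by_cases hj : j = 0
  · subst hj
    obtain rfl : i = n := by omega
    simp only [ModuleCat.hom_comp, LinearMap.comp_apply, ModuleCat.hom_id, LinearMap.id_apply]
    unfold tsHomR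
    simp only [ModuleCat.hom_comp, LinearMap.comp_apply]
    unfold tm
    rw [Groth.Agent.Lib.TensorCxZ35.pr_ι_apply]
    change (tsInvR M X i).hom (x ⊗ₜ[A] ((e0 M).hom.hom y)) = _
    rw [tsInvR_apply]
    have : (e0 M).inv.hom ((e0 M).hom.hom y) = y := by
      have := congrArg (fun f => f.hom y) (e0 M).hom_inv_id
      exact this
    rw [this]
    rfl
  · rw [sg_eq_zero M hj y, tm_zero_right, map_zero, map_zero]

lemma tsInvR_comm (n : ℤ) :
    tsInvR M X n ≫ (T X (sg M)).d n (n + 1) =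
      (X.d n (n + 1) ▷ M) ≫ tsInvR M X (n + 1) := by
  apply ModuleCat.MonoidalCategory.tensor_ext
  intro x m
  rw [ModuleCat.hom_comp, LinearMap.comp_apply, ModuleCat.hom_comp, LinearMap.comp_apply]
  rw [tsInvR_apply, d_tm, sg_d_apply, tm_zero_right, smul_zero, add_zero]
  change _ = (tsInvR M X (n + 1)).hom ((X.d n (n + 1)).hom x ⊗ₜ[A] m)
  rw [tsInvR_apply]

/-- `(Xⁿ ⊗ M)ₙ ≅ X ⊗ M[0]` -/
noncomputable def tensorSingleRightIso : (GMR M).obj X ≅ T X (sg M) :=
  HomologicalComplex.Hom.isoOfComponents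
    (fun n => { hom := tsInvR M X n, inv := tsHomR M X n,
                hom_inv_id := tsInvR_tsHomR M X n, inv_hom_id := tsHomR_tsInvR M X n })
    (by
      rintro i j (rfl : i + 1 = j)
      exact tsInvR_comm M X i)

lemma tensorSingleRightIso_hom_naturality {X X' : DRing.Cx A} (φ : X ⟶ X') :
    (GMR M).map φ ≫ (tensorSingleRightIso M X').hom =
      (tensorSingleRightIso M X).hom ≫ (φ ▷ sg M) := by
  refine HomologicalComplex.hom_ext _ _ (fun n => ?_)
  refine ModuleCat.MonoidalCategory.tensor_ext (M₁ := X.X n) (M₂ := M) ?_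
  intro x m
  change (tsInvR M X' n).hom ((φ.f n).hom x ⊗ₜ[A] m) =
    ((φ ▷ sg M).f n).hom ((tsInvR M X n).hom (x ⊗ₜ[A] m))
  rw [tsInvR_apply, tsInvR_apply, whiskerRight_f_tm]

end singleRight

section Generic

variable (I : Ideal A) [DRing.HasDerivedCompletion I]

/-- generic universality: `Φ` is computed by `- ⊗ F` on two K-projective representatives of
`K` and `K^`, compatibly with a chain map representing `K ⟶ K^`. -/
theorem bijective_map_toDerivedCompletion_of_iso (Φ : Dual.D A ⥤ Dual.D A) (F : DRing.Cx A)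
    (K E : Dual.D A) (hE : DRing.IsDerivedComplete I E)
    (P P' : DRing.Cx A) [P.IsKProjective] [P'.IsKProjective] (eP : Q.obj P ≅ K)
    (eP' : Q.obj P' ≅ ((DRing.derivedCompletion I).obj K).obj) (φ : P ⟶ P')
    (hφ : Q.map φ = eP.hom ≫ DRing.toDerivedCompletion I K ≫ eP'.inv)
    (i : Φ.obj (Q.obj P) ≅ Q.obj (T P F)) (i' : Φ.obj (Q.obj P') ≅ Q.obj (T P' F))
    (nat : Φ.map (Q.map φ) ≫ i'.hom = i.hom ≫ Q.map (φ ▷ F)) :
    Function.Bijective (fun g : Φ.obj ((DRing.derivedCompletion I).obj K).obj ⟶ E =>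
      Φ.map (DRing.toDerivedCompletion I K) ≫ g) := by
  obtain ⟨X, ⟨eX⟩⟩ : ∃ X : DRing.Cx A, Nonempty (Q.obj X ≅ E) := ⟨_, ⟨Q.objObjPreimageIso E⟩⟩
  obtain ⟨J, j, hJ, hj⟩ := Groth.Agent.Lib.RGammaKInj.exists_kinj X
  haveI := hJ
  have : IsIso (Q.map j) := by
    rw [DerivedCategory.isIso_Q_map_iff_quasiIso]; exact hj
  let eJ : E ≅ Q.obj J := eX.symm ≪≫ asIso (Q.map j)
  have hJc : DRing.IsDerivedComplete I (Q.obj J) :=
    (DRing.IsDerivedComplete I).prop_of_iso eJ hE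
  have hL : DRing.IsDerivedComplete I (Q.obj (DRing.homCx F J)) := fun f hf =>
    DC_homCx_of_DC f F J (hJc f hf)
  have hcore : Function.Bijective
      (fun g : Q.obj P' ⟶ Q.obj (DRing.homCx F J) => Q.map φ ≫ g) := by
    refine Groth.Agent.Lib.CechCompletion25.bijective_comp_of_comm _
      (DRing.toDerivedCompletion I K) eP eP' ?_ (bijective_toDerivedCompletion_comp I K _ hL)
    rw [hφ, Category.assoc, Category.assoc, Iso.inv_hom_id, Category.comp_id]
  have h2 := bijective_comp_tensor φ F J hcore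
  apply bijective_comp_of_iso_target _ eJ
  refine Groth.Agent.Lib.CechCompletion25.bijective_comp_of_comm _ (Q.map (φ ▷ F))
    (Φ.mapIso eP.symm ≪≫ i) (Φ.mapIso eP'.symm ≪≫ i') ?_ h2
  rw [hφ] at nat
  simp only [Iso.trans_hom, Functor.mapIso_hom, Iso.symm_hom]
  rw [Category.assoc, ← nat, ← Functor.map_comp_assoc, ← Functor.map_comp_assoc]
  congr 2
  rw [Iso.inv_hom_id_assoc]

end Generic

section Module

lemma quasiIso_whiskerLeft_of_isKFlat' {K : DRing.Cx A}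
    (hK : Groth.Agent.Lib.KFlat35.IsKFlat K) {R N : DRing.Cx A}
    (r : R ⟶ N) [QuasiIso r] : QuasiIso (K ◁ r) := by
  haveI : QuasiIso (r ▷ K) := by
    have := Groth.Agent.Lib.KFlat35.quasiIso_tensorHom_right hK r
    exact this
  have e : K ◁ r = (DTen.braidCx K R).hom ≫ (r ▷ K) ≫ (DTen.braidCx K N).inv := by
    have := DTen.braidCx_naturality (𝟙 K) r
    rw [MonoidalCategory.id_tensorHom, MonoidalCategory.tensorHom_id] at this
    rw [← Category.assoc, ← this, Category.assoc, Iso.hom_inv_id, Category.comp_id]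
  rw [e]
  infer_instance

variable (M : ModuleCat.{u} A) [DRing.HasLTensor A M] (F : DRing.Cx A) (ψ : F ⟶ sg M) [QuasiIso ψ]

lemma isIso_Q_whiskerLeft (P₀ : DRing.Cx A) (b : ℤ) (hb : DRing.VanishesAbove P₀ b)
    (hp : ∀ i : ℤ, Module.Projective A (P₀.X i)) : IsIso (Q.map (P₀ ◁ ψ)) := by
  have hfl : Groth.Agent.Lib.KFlat35.IsKFlat P₀ :=
    isKFlat_of_flat P₀ (fun i => by haveI := hp i; infer_instance) b hb
  haveI := quasiIso_whiskerLeft_of_isKFlat' hfl ψ
  rw [DerivedCategory.isIso_Q_map_iff_quasiIso]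
  infer_instance

/-- `(Q P₀) ⊗^L M ≅ Q(P₀ ⊗ F)` for `P₀` a bounded above complex of projectives and `F ⟶ M[0]` a
quasi-isomorphism. -/
noncomputable def ltmIso (P₀ : DRing.Cx A) (b : ℤ) (hb : DRing.VanishesAbove P₀ b)
    (hp : ∀ i : ℤ, Module.Projective A (P₀.X i)) :
    (DRing.LTensor A M).obj (Q.obj P₀) ≅ Q.obj (T P₀ F) :=
  haveI : P₀.IsStrictlyLE b := by
    rw [CochainComplex.isStrictlyLE_iff]
    exact hb
  haveI : ∀ n : ℤ, Projective (P₀.X n) := fun n =>
    (IsProjective.iff_projective (R := A) (P := P₀.X n)).mp (hp n)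
  haveI := isIso_Q_whiskerLeft M F ψ P₀ b hb hp
  Groth.Agent.Lib.LBaseChangeKProj.ltIsoOfBdd A M P₀ b ≪≫
    Q.mapIso (tensorSingleRightIso M P₀) ≪≫ (asIso (Q.map (P₀ ◁ ψ))).symm

lemma ltmIso_hom_naturality (P₀ P₁ : DRing.Cx A) (b₀ b₁ : ℤ) (hb₀ : DRing.VanishesAbove P₀ b₀)
    (hp₀ : ∀ i : ℤ, Module.Projective A (P₀.X i)) (hb₁ : DRing.VanishesAbove P₁ b₁)
    (hp₁ : ∀ i : ℤ, Module.Projective A (P₁.X i)) (φ : P₀ ⟶ P₁) :
    (DRing.LTensor A M).map (Q.map φ) ≫ (ltmIso M F ψ P₁ b₁ hb₁ hp₁).hom =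
      (ltmIso M F ψ P₀ b₀ hb₀ hp₀).hom ≫ Q.map (φ ▷ F) := by
  haveI : P₀.IsStrictlyLE b₀ := by
    rw [CochainComplex.isStrictlyLE_iff]
    exact hb₀
  haveI : ∀ n : ℤ, Projective (P₀.X n) := fun n =>
    (IsProjective.iff_projective (R := A) (P := P₀.X n)).mp (hp₀ n)
  haveI : P₁.IsStrictlyLE b₁ := by
    rw [CochainComplex.isStrictlyLE_iff]
    exact hb₁
  haveI : ∀ n : ℤ, Projective (P₁.X n) := fun n =>
    (IsProjective.iff_projective (R := A) (P := P₁.X n)).mp (hp₁ n)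
  haveI := isIso_Q_whiskerLeft M F ψ P₀ b₀ hb₀ hp₀
  haveI := isIso_Q_whiskerLeft M F ψ P₁ b₁ hb₁ hp₁
  have n1 := Groth.Agent.Lib.LBaseChangeKProj.ltIsoOfBdd_hom_naturality A M b₀ b₁ φ
  have n2 : Q.map ((GMR M).map φ) ≫ Q.map (tensorSingleRightIso M P₁).hom =
      Q.map (tensorSingleRightIso M P₀).hom ≫ Q.map (φ ▷ sg M) := by
    rw [← Functor.map_comp, ← Functor.map_comp, tensorSingleRightIso_hom_naturality]
  have n3 : Q.map (φ ▷ F) ≫ Q.map (P₁ ◁ ψ) = Q.map (P₀ ◁ ψ) ≫ Q.map (φ ▷ sg M) := by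
    rw [← Functor.map_comp, ← Functor.map_comp, MonoidalCategory.whisker_exchange]
  have n3' : Q.map (φ ▷ sg M) ≫ inv (Q.map (P₁ ◁ ψ)) = inv (Q.map (P₀ ◁ ψ)) ≫ Q.map (φ ▷ F) := by
    rw [IsIso.comp_inv_eq, Category.assoc, n3, IsIso.inv_hom_id_assoc]
  unfold ltmIso
  simp only [Iso.trans_hom, Functor.mapIso_hom, Iso.symm_hom, asIso_inv]
  rw [← Category.assoc, n1, Category.assoc, Category.assoc, Category.assoc, ← n3',
    ← Category.assoc (Q.map ((GMR M).map φ)), n2, Category.assoc]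

end Module

end Groth.Agent.Lib.CplTensor25
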