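import Mathlib

/-
Lib/CrimpDiscr (helper75): discriminant vs. length for full-rank subalgebras over a DVR.
* `trace_eq_of_diag`, `discr_of_diag`: if bases of `S ≤ St` are related diagonally (Smith normal form)
  then traces agree and `discr bS = (∏ a_i)^2 * discr b'`.
* `discr_basis_change`: discriminants of two bases differ by the square of a unit.
* `ord_prod`, `ord_pow_irreducible`: `Ring.ord` of products / powers of a uniformizer.
* `main`: over a DVR, `disc(St) = (ϖ^a)`, `disc(S) = (ϖ^b)` ⇒ `ϖ^b` kills `St/S` and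
  `2 * length(St/S) + a = b`.
-/

set_option autoImplicit false
universe u v
open Module

namespace Groth.Agent.Lib.CrimpDiscr

section Trace
variable {R : Type u} {St : Type v} [CommRing R] [IsDomain R] [CommRing St] [Algebra R St]
variable {ι : Type} [Fintype ι] [DecidableEq ι]

theorem trace_eq_of_diag (S : Subalgebra R St) (b' : Basis ι R St) (bS : Basis ι R S)
    (a : ι → R) (ha : ∀ i, a i ≠ 0) (hab : ∀ i, (bS i : St) = a i • b' i) (x : S) :
    Algebra.trace R S x = Algebra.trace R St (x : St) := by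
  rw [Algebra.trace_eq_matrix_trace bS, Algebra.trace_eq_matrix_trace b']
  unfold Matrix.trace
  apply Finset.sum_congr rfl
  intro i _
  rw [Matrix.diag_apply, Matrix.diag_apply, Algebra.leftMulMatrix_eq_repr_mul,
    Algebra.leftMulMatrix_eq_repr_mul]
  set y : S := x * bS i with hy
  have h1 : (y : St) = a i • ((x : St) * b' i) := by
    rw [hy, MulMemClass.coe_mul, hab, mul_smul_comm]
  have h2 : (y : St) = ∑ l, (bS.repr y l * a l) • b' l := by
    conv_lhs => rw [← bS.sum_repr y]
    rw [AddSubmonoidClass.coe_finsetSum]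
    apply Finset.sum_congr rfl
    intro l _
    rw [SetLike.val_smul, hab, smul_smul]
  have h3 : b'.repr (y : St) i = bS.repr y i * a i := by
    rw [h2, b'.repr_sum_self]
  have h4 : b'.repr (y : St) i = a i * b'.repr ((x : St) * b' i) i := by
    rw [h1, map_smul]
    rfl
  have h5 : bS.repr y i * a i = a i * b'.repr ((x : St) * b' i) i := h3.symm.trans h4
  rw [mul_comm] at h5
  exact mul_left_cancel₀ (ha i) h5

end Trace

section Discr
variable {R : Type u} {St : Type v} [CommRing R] [IsDomain R] [CommRing St] [Algebra R St]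
variable {ι : Type} [Fintype ι] [DecidableEq ι]

theorem discr_of_diag (S : Subalgebra R St) (b' : Basis ι R St) (bS : Basis ι R S)
    (a : ι → R) (ha : ∀ i, a i ≠ 0) (hab : ∀ i, (bS i : St) = a i • b' i) :
    Algebra.discr R bS = (∏ i, a i) ^ 2 * Algebra.discr R b' := by
  rw [Algebra.discr_def, Algebra.discr_def]
  have hT : Algebra.traceMatrix R bS =
      Matrix.diagonal a * Algebra.traceMatrix R b' * Matrix.diagonal a := by
    ext i j
    rw [Matrix.mul_diagonal, Matrix.diagonal_mul, Algebra.traceMatrix_apply,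
      Algebra.traceMatrix_apply, Algebra.traceForm_apply, Algebra.traceForm_apply,
      trace_eq_of_diag S b' bS a ha hab, MulMemClass.coe_mul, hab, hab, smul_mul_assoc,
      mul_smul_comm, map_smul, map_smul, smul_eq_mul, smul_eq_mul]
    ring
  rw [hT, Matrix.det_mul, Matrix.det_mul, Matrix.det_diagonal]
  ring

/-- Two bases of the same algebra have discriminants differing by the square of a unit. -/
theorem discr_basis_change (b b' : Basis ι R St) :
    ∃ w : R, IsUnit w ∧ Algebra.discr R b = w ^ 2 * Algebra.discr R b' := by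
  refine ⟨(b'.toMatrix b).det, ?_, ?_⟩
  · rw [← LinearMap.toMatrix_id_eq_basis_toMatrix b b']
    exact LinearEquiv.isUnit_det (LinearEquiv.refl R St) b b'
  · rw [← Algebra.discr_of_matrix_vecMul, Basis.toMatrix_map_vecMul]

end Discr

section Main
variable {R : Type u} [CommRing R] [IsDomain R] [IsDiscreteValuationRing R]

theorem ord_prod {ι : Type} (s : Finset ι) (c : ι → R) (hc : ∀ i ∈ s, c i ≠ 0) :
    Ring.ord R (∏ i ∈ s, c i) = ∑ i ∈ s, Ring.ord R (c i) := by
  classical
  induction s using Finset.induction_on with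
  | empty => simp
  | insert i s hi ih =>
    rw [Finset.prod_insert hi, Finset.sum_insert hi, Ring.ord_mul, ih]
    · intro j hj; exact hc j (Finset.mem_insert_of_mem hj)
    · exact mem_nonZeroDivisors_of_ne_zero
        (Finset.prod_ne_zero_iff.mpr fun j hj => hc j (Finset.mem_insert_of_mem hj))

theorem ord_pow_irreducible {ϖ : R} (hϖ : Irreducible ϖ) (n : ℕ) : Ring.ord R (ϖ ^ n) = n := by
  rw [Ring.ord, ← Ideal.span_singleton_pow, ← hϖ.maximalIdeal_eq]
  exact IsDiscreteValuationRing.length_quotient_pow_maximalIdeal R n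

theorem main (ϖ : R) (hϖ : Irreducible ϖ) {St : Type v} [CommRing St] [Algebra R St]
    (d a b : ℕ) (bt : Basis (Fin d) R St)
    (ha : Ideal.span {Algebra.discr R ⇑bt} = Ideal.span {ϖ ^ a})
    (S : Subalgebra R St) (bS : Basis (Fin d) R S)
    (hb : Ideal.span {Algebra.discr R ⇑bS} = Ideal.span {ϖ ^ b}) :
    (∀ q : St ⧸ Subalgebra.toSubmodule S, (ϖ ^ b) • q = 0) ∧
    2 * Module.length R (St ⧸ Subalgebra.toSubmodule S) + (a : ℕ∞) = (b : ℕ∞) := by
  classical
  set N := Subalgebra.toSubmodule S with hN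
  have hfr : Module.finrank R N = Module.finrank R St := by
    rw [Module.finrank_eq_card_basis bt,
      Module.finrank_eq_card_basis (bS.map (Subalgebra.toSubmoduleEquiv S).symm)]
  set b' := N.smithNormalFormTopBasis bt hfr with hb'
  set ab' := N.smithNormalFormBotBasis bt hfr with hab'
  set c := N.smithNormalFormCoeffs bt hfr with hc
  have hab0 : ∀ i, (ab' i : St) = c i • b' i := Submodule.smithNormalFormBotBasis_def bt hfr
  have hc0 : ∀ i, c i ≠ 0 := Submodule.smithNormalFormCoeffs_ne_zero bt hfr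
  let bS' : Basis (Fin d) R S := ab'.map (Subalgebra.toSubmoduleEquiv S)
  have hbS' : ∀ i, (bS' i : St) = c i • b' i := fun i => by
    rw [← hab0 i]; rfl
  set P := ∏ i, c i with hP
  have hP0 : P ≠ 0 := Finset.prod_ne_zero_iff.mpr fun i _ => hc0 i
  have D1 : Algebra.discr R bS' = P ^ 2 * Algebra.discr R b' :=
    discr_of_diag S b' bS' c hc0 hbS'
  obtain ⟨w, hw, D2⟩ := discr_basis_change bS bS'
  obtain ⟨w', hw', D3⟩ := discr_basis_change b' bt
  have hideal : Ideal.span {ϖ ^ b} = Ideal.span {P ^ 2 * ϖ ^ a} := by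
    rw [← hb, D2, D1, D3]
    have hunit : IsUnit (w ^ 2 * w' ^ 2) := (hw.pow 2).mul (hw'.pow 2)
    have : w ^ 2 * (P ^ 2 * (w' ^ 2 * Algebra.discr R ⇑bt)) =
        (w ^ 2 * w' ^ 2) * (P ^ 2 * Algebra.discr R ⇑bt) := by ring
    rw [this, ← Ideal.span_singleton_mul_span_singleton,
      Ideal.span_singleton_eq_top.mpr hunit, Ideal.top_mul,
      ← Ideal.span_singleton_mul_span_singleton, ha, Ideal.span_singleton_mul_span_singleton]
  let e := N.quotientEquivPiSpan bt hfr
  constructor
  · intro q
    apply e.injective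
    rw [map_smul, map_zero]
    funext i
    rw [Pi.smul_apply, Pi.zero_apply]
    obtain ⟨z, hz⟩ := Ideal.Quotient.mk_surjective (e q i)
    rw [← hz, Algebra.smul_def]
    change Ideal.Quotient.mk _ (ϖ ^ b) * Ideal.Quotient.mk _ z = 0
    rw [← map_mul]
    have hmem : ϖ ^ b ∈ Ideal.span {c i} := by
      have h1 : ϖ ^ b ∈ Ideal.span {P ^ 2 * ϖ ^ a} := by
        rw [← hideal]; exact Ideal.mem_span_singleton_self _
      rw [Ideal.mem_span_singleton] at h1 ⊢
      have h2 : c i ∣ P := Finset.dvd_prod_of_mem c (Finset.mem_univ i)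
      exact (h2.trans (Dvd.intro _ (by ring : P * (P * ϖ ^ a) = P ^ 2 * ϖ ^ a))).trans h1
    exact Ideal.Quotient.eq_zero_iff_mem.mpr (Ideal.mul_mem_right _ _ hmem)
  · have hlen : Module.length R (St ⧸ N) = Ring.ord R P := by
      rw [e.length_eq, Module.length_pi_of_fintype, hP, ord_prod _ _ (fun i _ => hc0 i)]
      rfl
    have hord : Ring.ord R (ϖ ^ b) = Ring.ord R (P ^ 2 * ϖ ^ a) := by
      unfold Ring.ord
      rw [hideal]
    rw [ord_pow_irreducible hϖ, Ring.ord_mul, ord_pow_irreducible hϖ, pow_two, Ring.ord_mul,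
      ← two_mul] at hord
    · rw [hlen, hord]
    · exact mem_nonZeroDivisors_of_ne_zero hP0
    · exact mem_nonZeroDivisors_of_ne_zero (pow_ne_zero _ hϖ.ne_zero)

end Main

end Groth.Agent.Lib.CrimpDiscr
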