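import Mathlib
import Groth.Agent.Lib.CrimpDiscr

/-
Lib/CrimpRank2H27 (helper27): rank-2 crimps over a DVR.
`St` a commutative `R`-algebra with basis `b' = {1, ε}`.  Subalgebras `S ≤ St` that are free of rank 2 are
exactly `R·1 + ϖ^m St`; their discriminant is `ϖ^(2m) · discr b'`; `discr b' = 4p + q²` if `ε² = p + qε`;
a rank-2 algebra with basis `{1, y}`, `y² = d` is `R[y]/(y² - d)`.
-/

set_option autoImplicit false
universe u v
open Module

namespace Groth.Agent.Lib.CrimpRank2H27

section Basic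
variable {R : Type u} {St : Type v} [CommRing R] [CommRing St] [Algebra R St]

theorem decomp (b' : Basis (Fin 2) R St) (h0 : b' 0 = 1) (s : St) :
    s = b'.repr s 0 • (1 : St) + b'.repr s 1 • b' 1 := by
  conv_lhs => rw [← b'.sum_repr s]
  rw [Fin.sum_univ_two, h0]

theorem coords_eq (b' : Basis (Fin 2) R St) (h0 : b' 0 = 1) (a c : R) :
    b'.repr (a • (1 : St) + c • b' 1) 0 = a ∧ b'.repr (a • (1 : St) + c • b' 1) 1 = c := by
  rw [← h0]
  simp [Basis.repr_self]

theorem mem_form_iff (c : R) (x : St) :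
    x ∈ Submodule.span R {(1 : St)} ⊔ Ideal.span {c} • (⊤ : Submodule R St) ↔
      ∃ (a : R) (z : St), x = a • (1 : St) + c • z := by
  rw [Submodule.mem_sup]
  constructor
  · rintro ⟨y, hy, w, hw, rfl⟩
    rw [Submodule.mem_span_singleton] at hy
    obtain ⟨a, rfl⟩ := hy
    rw [Submodule.ideal_span_singleton_smul, Submodule.mem_smul_pointwise_iff_exists] at hw
    obtain ⟨z, -, rfl⟩ := hw
    exact ⟨a, z, rfl⟩
  · rintro ⟨a, z, rfl⟩
    exact ⟨_, Submodule.smul_mem _ _ (Submodule.subset_span rfl), _,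
      Submodule.smul_mem_smul (Ideal.subset_span rfl) trivial, rfl⟩

/-- Basis `{1, c ε}` of `S = R·1 + c St`. -/
theorem exists_basis_of_form [IsDomain R] (b' : Basis (Fin 2) R St) (h0 : b' 0 = 1) (S : Subalgebra R St)
    (c : R) (hc : c ≠ 0)
    (hS : Subalgebra.toSubmodule S =
      Submodule.span R {(1 : St)} ⊔ Ideal.span {c} • (⊤ : Submodule R St)) :
    ∃ bS : Basis (Fin 2) R S, ((bS 0 : S) : St) = 1 ∧ ((bS 1 : S) : St) = c • b' 1 := by
  have hmem : ∀ x : St, x ∈ S ↔ ∃ (a : R) (z : St), x = a • (1 : St) + c • z := by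
    intro x
    rw [← Subalgebra.mem_toSubmodule, hS, mem_form_iff]
  have h1 : c • b' 1 ∈ S := (hmem _).2 ⟨0, b' 1, by simp⟩
  let v : Fin 2 → S := ![⟨1, S.one_mem⟩, ⟨c • b' 1, h1⟩]
  have hli : LinearIndependent R v := by
    rw [Fintype.linearIndependent_iff]
    intro g hg
    have hg' : g 0 • (1 : St) + (g 1 * c) • b' 1 = 0 := by
      have := congrArg (Subtype.val : S → St) hg
      rw [Fin.sum_univ_two] at this
      simpa [v, mul_smul] using this
    obtain ⟨e0, e1⟩ := coords_eq b' h0 (g 0) (g 1 * c)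
    rw [hg'] at e0 e1
    simp only [map_zero, Finsupp.coe_zero, Pi.zero_apply] at e0 e1
    intro i
    fin_cases i
    · exact e0.symm
    · exact (mul_eq_zero.1 e1.symm).resolve_right hc
  have hsp : ⊤ ≤ Submodule.span R (Set.range v) := by
    rintro ⟨s, hs⟩ -
    obtain ⟨a, z, rfl⟩ := (hmem s).1 hs
    have hz := decomp b' h0 z
    have : (⟨a • (1 : St) + c • z, hs⟩ : S) =
        (a + c * b'.repr z 0) • v 0 + b'.repr z 1 • v 1 := by
      apply Subtype.ext
      simp only [v, Subalgebra.coe_add, Subalgebra.coe_smul, Matrix.cons_val_zero,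
        Matrix.cons_val_one]
      conv_lhs => rw [hz]
      simp only [smul_add, smul_smul, add_smul]
      rw [mul_comm c (b'.repr z 1)]
      abel
    rw [this]
    exact Submodule.add_mem _ (Submodule.smul_mem _ _ (Submodule.subset_span ⟨0, rfl⟩))
      (Submodule.smul_mem _ _ (Submodule.subset_span ⟨1, rfl⟩))
  refine ⟨Basis.mk hli hsp, ?_, ?_⟩
  · rw [Basis.mk_apply]; rfl
  · rw [Basis.mk_apply]; rfl


/-- Structure: a rank-2 free subalgebra of `St = R1 ⊕ Rε` over a DVR is `R1 + ϖ^m St`. -/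
theorem exists_form_of_basis [IsDomain R] [IsDiscreteValuationRing R] (ϖ : R) (hϖ : Irreducible ϖ)
    (b' : Basis (Fin 2) R St) (h0 : b' 0 = 1) (S : Subalgebra R St) (bS : Basis (Fin 2) R S) :
    ∃ m : ℕ, Subalgebra.toSubmodule S =
      Submodule.span R {(1 : St)} ⊔ Ideal.span {ϖ ^ m} • (⊤ : Submodule R St) := by
  let I : Ideal R := (Subalgebra.toSubmodule S).comap (LinearMap.toSpanSingleton R St (b' 1))
  have hI : ∀ d : R, d ∈ I ↔ d • b' 1 ∈ S := fun d => Iff.rfl
  have hone : ∀ a : R, a • (1 : St) ∈ S := fun a => S.smul_mem S.one_mem a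
  -- the ε-coordinate of any element of S lies in I
  have hcoord : ∀ s ∈ S, b'.repr s 1 ∈ I := by
    intro s hs
    rw [hI]
    have h := decomp b' h0 s
    have : b'.repr s 1 • b' 1 = s - b'.repr s 0 • (1 : St) :=
      eq_sub_iff_add_eq.2 (by rw [add_comm]; exact h.symm)
    rw [this]
    exact S.sub_mem hs (hone _)
  have hIne : I ≠ ⊥ := by
    intro hbot
    have hz : ∀ s ∈ S, b'.repr s 1 = 0 := fun s hs => by
      have := hcoord s hs
      rwa [hbot, Ideal.mem_bot] at this
    have hs : ∀ s : S, (s : St) = b'.repr (s : St) 0 • (1 : St) := fun s => by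
      conv_lhs => rw [decomp b' h0 (s : St), hz _ s.2, zero_smul, add_zero]
    have hli := bS.linearIndependent
    rw [Fintype.linearIndependent_iff] at hli
    set a0 := b'.repr ((bS 0 : S) : St) 0 with ha0
    set a1 := b'.repr ((bS 1 : S) : St) 0 with ha1
    have hrel : ∑ i, (![a1, -a0] : Fin 2 → R) i • bS i = 0 := by
      rw [Fin.sum_univ_two]
      apply Subtype.ext
      simp only [Matrix.cons_val_zero, Matrix.cons_val_one, Subalgebra.coe_add,
        Subalgebra.coe_smul, Subalgebra.coe_zero]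
      rw [hs (bS 0), hs (bS 1), ← ha0, ← ha1, smul_smul, smul_smul]
      rw [← add_smul]
      have : a1 * a0 + -a0 * a1 = 0 := by ring
      rw [this, zero_smul]
    have h := hli _ hrel
    have h1 : a1 = 0 := by simpa using h 0
    have h0' : a0 = 0 := by simpa using h 1
    have : (bS 0 : S) = 0 := by
      apply Subtype.ext
      rw [hs (bS 0), ← ha0, h0', zero_smul]; rfl
    exact bS.ne_zero 0 this
  obtain ⟨m, hm⟩ := IsDiscreteValuationRing.ideal_eq_span_pow_irreducible hIne hϖ
  refine ⟨m, ?_⟩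
  ext x
  rw [mem_form_iff, Subalgebra.mem_toSubmodule]
  constructor
  · intro hx
    have hc := hcoord x hx
    rw [hm, Ideal.mem_span_singleton'] at hc
    obtain ⟨c', hc'⟩ := hc
    refine ⟨b'.repr x 0, c' • b' 1, ?_⟩
    conv_lhs => rw [decomp b' h0 x]
    rw [smul_smul, mul_comm, hc']
  · rintro ⟨a, z, rfl⟩
    refine S.add_mem (hone a) ?_
    rw [decomp b' h0 z, smul_add, smul_smul, smul_smul]
    refine S.add_mem (hone _) ?_
    rw [← hI, hm, Ideal.mem_span_singleton']
    exact ⟨b'.repr z 1, mul_comm _ _⟩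

end Basic

section Discr
variable {R : Type u} {St : Type v} [CommRing R] [CommRing St] [Algebra R St]

theorem trace_eq (b' : Basis (Fin 2) R St) (x : St) :
    Algebra.trace R St x = b'.repr (x * b' 0) 0 + b'.repr (x * b' 1) 1 := by
  rw [Algebra.trace_eq_matrix_trace b', Matrix.trace, Fin.sum_univ_two, Matrix.diag_apply,
    Matrix.diag_apply, Algebra.leftMulMatrix_eq_repr_mul, Algebra.leftMulMatrix_eq_repr_mul]

/-- `discr {1, ε} = 4p + q²` when `ε² = p + qε`. -/
theorem discr_eq (b' : Basis (Fin 2) R St) (h0 : b' 0 = 1) (p q : R)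
    (hsq : b' 1 * b' 1 = p • (1 : St) + q • b' 1) :
    Algebra.discr R b' = 4 * p + q ^ 2 := by
  have t1 : Algebra.trace R St 1 = 2 := by
    rw [trace_eq b', one_mul, one_mul]
    simp only [Basis.repr_self, Finsupp.single_eq_same]
    norm_num
  have tε : Algebra.trace R St (b' 1) = q := by
    rw [trace_eq b', hsq, h0, mul_one, (coords_eq b' h0 p q).2]
    simp [Basis.repr_self]
  have tε2 : Algebra.trace R St (b' 1 * b' 1) = 2 * p + q ^ 2 := by
    rw [hsq, map_add, map_smul, map_smul, t1, tε, smul_eq_mul, smul_eq_mul]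
    ring
  rw [Algebra.discr_def, Matrix.det_fin_two]
  simp only [Algebra.traceMatrix_apply, Algebra.traceForm_apply]
  rw [h0, one_mul, one_mul, mul_one, t1, tε, tε2]
  ring

theorem discr_of_form [IsDomain R] (b' : Basis (Fin 2) R St) (S : Subalgebra R St)
    (bS : Basis (Fin 2) R S) (c : R) (hc : c ≠ 0) (h0 : b' 0 = 1)
    (hb0 : ((bS 0 : S) : St) = 1) (hb1 : ((bS 1 : S) : St) = c • b' 1) :
    Algebra.discr R bS = c ^ 2 * Algebra.discr R b' := by
  have h := Groth.Agent.Lib.CrimpDiscr.discr_of_diag S b' bS ![1, c]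
    (by intro i; fin_cases i
        · exact one_ne_zero
        · exact hc)
    (by intro i; fin_cases i
        · simpa [h0] using hb0
        · simpa using hb1)
  rw [h, Fin.prod_univ_two]
  simp

/-- For any basis of `S = R·1 + c St`, the discriminant ideal is `(c² · discr b')`. -/
theorem span_discr_of_form [IsDomain R] (b' : Basis (Fin 2) R St) (h0 : b' 0 = 1)
    (S : Subalgebra R St) (c : R) (hc : c ≠ 0)
    (hS : Subalgebra.toSubmodule S =
      Submodule.span R {(1 : St)} ⊔ Ideal.span {c} • (⊤ : Submodule R St))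
    (bS : Basis (Fin 2) R S) :
    Ideal.span {Algebra.discr R ⇑bS} = Ideal.span {c ^ 2 * Algebra.discr R b'} := by
  obtain ⟨bS', hb0, hb1⟩ := exists_basis_of_form b' h0 S c hc hS
  obtain ⟨w, hw, hD⟩ := Groth.Agent.Lib.CrimpDiscr.discr_basis_change bS bS'
  rw [hD, discr_of_form b' S bS' c hc h0 hb0 hb1, ← Ideal.span_singleton_mul_span_singleton,
    Ideal.span_singleton_eq_top.mpr (hw.pow 2), Ideal.top_mul]

theorem pow_eq_of_span_eq [IsDomain R] [IsDiscreteValuationRing R] {ϖ : R} (hϖ : Irreducible ϖ)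
    {a b : ℕ} (h : Ideal.span {ϖ ^ a} = Ideal.span {ϖ ^ b}) : a = b := by
  have : Ring.ord R (ϖ ^ a) = Ring.ord R (ϖ ^ b) := by
    unfold Ring.ord
    rw [h]
  rw [Groth.Agent.Lib.CrimpDiscr.ord_pow_irreducible hϖ,
    Groth.Agent.Lib.CrimpDiscr.ord_pow_irreducible hϖ] at this
  exact_mod_cast this

end Discr

section AlgEquiv
open Polynomial
variable {R : Type u} {A : Type v} [CommRing R] [Nontrivial R] [CommRing A] [Algebra R A]

/-- A rank-2 algebra with basis `{1, y}`, `y² = d`, is `R[y]/(y² - d)`. -/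
theorem nonempty_algEquiv_adjoinRoot (b : Basis (Fin 2) R A) (h0 : b 0 = 1) (d : R)
    (hsq : b 1 * b 1 = algebraMap R A d) :
    Nonempty (A ≃ₐ[R] AdjoinRoot ((X : R[X]) ^ 2 - C d)) := by
  set f : R[X] := X ^ 2 - C d with hf
  have hmonic : f.Monic := monic_X_pow_sub_C d (by norm_num)
  have hdeg : f.natDegree = 2 := natDegree_X_pow_sub_C
  have hroot : f.eval₂ (Algebra.ofId R A : R →+* A) (b 1) = 0 := by
    rw [hf, eval₂_sub, eval₂_pow, eval₂_X, eval₂_C, pow_two, hsq]
    exact sub_self _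
  let φ : AdjoinRoot f →ₐ[R] A := AdjoinRoot.liftAlgHom f (Algebra.ofId R A) (b 1) hroot
  have hφ : ∀ g : R[X], φ (AdjoinRoot.mk f g) = g.eval₂ (Algebra.ofId R A : R →+* A) (b 1) :=
    fun g => rfl
  have hlin : ∀ α β : R, (C α + C β * X : R[X]).eval₂ (Algebra.ofId R A : R →+* A) (b 1) =
      α • (1 : A) + β • b 1 := by
    intro α β
    rw [eval₂_add, eval₂_mul, eval₂_C, eval₂_C, eval₂_X]
    change algebraMap R A α + algebraMap R A β * b 1 = _
    rw [Algebra.smul_def, Algebra.smul_def, mul_one]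
  have hsurj : Function.Surjective φ := by
    intro a
    refine ⟨AdjoinRoot.mk f (C (b.repr a 0) + C (b.repr a 1) * X), ?_⟩
    rw [hφ, hlin]
    exact (decomp b h0 a).symm
  have hinj : Function.Injective φ := by
    rw [injective_iff_map_eq_zero]
    intro z hz
    obtain ⟨g, rfl⟩ := AdjoinRoot.mk_surjective z
    rw [hφ] at hz
    set r := g %ₘ f with hr
    have hg : r + f * (g /ₘ f) = g := modByMonic_add_div g f
    have hne1 : f ≠ 1 := by
      intro h1
      rw [h1, natDegree_one] at hdeg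
      omega
    have hrdeg : r.natDegree ≤ 1 := by
      have := natDegree_modByMonic_lt g hmonic hne1
      rw [hdeg, ← hr] at this
      omega
    have hr' := eq_X_add_C_of_natDegree_le_one hrdeg
    rw [← hg, eval₂_add, eval₂_mul, hroot, zero_mul, add_zero] at hz
    have hr'' : r = C (r.coeff 0) + C (r.coeff 1) * X := by
      rw [add_comm]; exact hr'
    rw [hr'', hlin] at hz
    obtain ⟨e0, e1⟩ := coords_eq b h0 (r.coeff 0) (r.coeff 1)
    rw [hz] at e0 e1
    simp only [map_zero, Finsupp.coe_zero, Pi.zero_apply] at e0 e1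
    have hr0 : r = 0 := by
      rw [hr'', ← e0, ← e1]; simp
    rw [AdjoinRoot.mk_eq_zero]
    exact (modByMonic_eq_zero_iff_dvd hmonic).1 hr0
  exact ⟨(AlgEquiv.ofBijective φ ⟨hinj, hsurj⟩).symm⟩

end AlgEquiv

end Groth.Agent.Lib.CrimpRank2H27
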