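import Groth.Agent.Lib.FlatCrit

/-!
# Critère de platitude par fibres, nilpotent case (helper88)

`R → S`, `I ⊆ R` a nilpotent ideal, `M` an `S`-module flat over `R` with `M/IM` flat over `S/IS`.
Then `M` is flat over `S`.  (Ring-level core of Stacks 06A5 / `deform_flat_iff`.)
-/

set_option autoImplicit false
universe u

namespace Groth.Agent.Lib.FlatFibreNil88

open TensorProduct Function Groth.Agent.Lib.FlatCrit

variable {R : Type u} [CommRing R] {S : Type*} [CommRing S] [Algebra R S]
variable (M : Type*) [AddCommGroup M] [Module R M] [Module S M] [IsScalarTower R S M]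

/-- Fibrewise criterion of flatness over a nilpotent ideal, tensor form. -/
theorem flat_of_flat_fibre_of_isNilpotent (I : Ideal R) (hI : IsNilpotent I) [Module.Flat R M]
    [Module.Flat (S ⧸ I.map (algebraMap R S)) ((S ⧸ I.map (algebraMap R S)) ⊗[S] M)] :
    Module.Flat S M := by
  have h1 : Injective (I.subtype.rTensor M) :=
    Module.Flat.rTensor_preserves_injective_linearMap _ I.subtype_injective
  have h2 : Injective ((I.map (algebraMap R S)).subtype.rTensor M) :=
    rTensor_map_injective (S := S) I h1
  have hnil : IsNilpotent (I.map (algebraMap R S)) := by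
    obtain ⟨n, hn⟩ := hI
    refine ⟨n, ?_⟩
    rw [← Ideal.map_pow, hn, Ideal.zero_eq_bot, Ideal.map_bot, Ideal.zero_eq_bot]
  exact flat_of_isNilpotent (I.map (algebraMap R S)) hnil h2

/-- Fibrewise criterion of flatness over a nilpotent ideal, quotient form. -/
theorem flat_of_flat_fibre_of_isNilpotent' (I : Ideal R) (hI : IsNilpotent I) [Module.Flat R M]
    [Module.Flat (S ⧸ I.map (algebraMap R S))
      (M ⧸ (I.map (algebraMap R S) • ⊤ : Submodule S M))] :
    Module.Flat S M := by
  have : Module.Flat (S ⧸ I.map (algebraMap R S)) ((S ⧸ I.map (algebraMap R S)) ⊗[S] M) :=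
    Module.Flat.of_linearEquiv
      ((TensorProduct.quotTensorEquivQuotSMul M (I.map (algebraMap R S))).extendScalarsOfSurjective
        Ideal.Quotient.mk_surjective)
  exact flat_of_flat_fibre_of_isNilpotent M I hI

/-- Ring version: `R → S → T`, `T` flat over `R`, `T/IT` flat over `S/IS`, `I` nilpotent: `T` is
flat over `S`. -/
theorem algebra_flat_of_flat_fibre_of_isNilpotent (T : Type*) [CommRing T] [Algebra R T]
    [Algebra S T] [IsScalarTower R S T] (I : Ideal R) (hI : IsNilpotent I) [Module.Flat R T]
    [Module.Flat (S ⧸ I.map (algebraMap R S)) ((S ⧸ I.map (algebraMap R S)) ⊗[S] T)] :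
    Module.Flat S T :=
  flat_of_flat_fibre_of_isNilpotent T I hI

end Groth.Agent.Lib.FlatFibreNil88
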