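import Groth.Agent.Lib.ArtinianFlatten88
import Groth.Agent.Lib.NilNakayama
import Mathlib.RingTheory.Artinian.Ring
import Mathlib.RingTheory.MvPolynomial.Basic

/-!
# Flat lifts of polynomial quotients over a nilpotent thickening (helper88)

* `ker_eq_of_flat_of_le_sup_smul`: `g : F ↠ Q` with `Q` flat, `𝔞` nilpotent, `N ≤ ker g ≤ N + 𝔞 F`
  implies `ker g = N`.
* `exists_lift_presentation`: a flat `A'`-algebra `B'` with `B'/IB' ≅ (A'/I)[x]/(f)` (`I` nilpotent) is
  `A'[x]/(f')` for suitable lifts `f'` of `f`.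
-/

set_option autoImplicit false
universe u v

namespace Groth.Agent.Lib.FlatLiftPoly88

open Function

section General

variable {R : Type*} [CommRing R] {F Q : Type*} [AddCommGroup F] [Module R F]
  [AddCommGroup Q] [Module R Q]

theorem ker_eq_of_flat_of_le_sup_smul [Module.Flat R Q] (g : F →ₗ[R] Q) (hg : Surjective g)
    (𝔞 : Ideal R) (h𝔞 : IsNilpotent 𝔞) (N : Submodule R F) (hN : N ≤ LinearMap.ker g)
    (h : LinearMap.ker g ≤ N ⊔ 𝔞 • (⊤ : Submodule R F)) : LinearMap.ker g = N := by
  set K := LinearMap.ker g with hK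
  have h1 : K ≤ N ⊔ 𝔞 • K := by
    intro x hx
    obtain ⟨y, hy, z, hz, rfl⟩ := Submodule.mem_sup.mp (h hx)
    have hzK : z ∈ K := by
      have := K.sub_mem hx (hN hy)
      simpa using this
    exact Submodule.add_mem_sup hy
      (Groth.Agent.Lib.ArtinianFlatten88.ker_inf_smul_le g hg 𝔞 ⟨hzK, hz⟩)
  obtain ⟨n, hn⟩ := h𝔞
  have key : ∀ i : ℕ, K ≤ N ⊔ 𝔞 ^ i • K := by
    intro i
    induction i with
    | zero => simp
    | succ i ih =>
      calc K ≤ N ⊔ 𝔞 • K := h1
        _ ≤ N ⊔ 𝔞 • (N ⊔ 𝔞 ^ i • K) := by gcongr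
        _ = N ⊔ (𝔞 • N ⊔ 𝔞 • 𝔞 ^ i • K) := by rw [Submodule.smul_sup]
        _ ≤ N ⊔ 𝔞 ^ (i + 1) • K := by
          rw [pow_succ', Submodule.mul_smul]
          exact sup_le le_sup_left (sup_le (le_sup_of_le_left Submodule.smul_le_right) le_sup_right)
  have := key n
  rw [hn, Ideal.zero_eq_bot, Submodule.bot_smul, sup_bot_eq] at this
  exact le_antisymm this hN

end General

section Poly

variable {A' : Type u} [CommRing A'] (I : Ideal A') (hI : IsNilpotent I)
  {σ : Type*} {ι : Type*} (f : ι → MvPolynomial σ (A' ⧸ I))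
  {B' : Type v} [CommRing B'] [Algebra A' B'] [Module.Flat A' B']
  (π : B' →+* MvPolynomial σ (A' ⧸ I) ⧸ Ideal.span (Set.range f))

include hI in
theorem exists_lift_presentation
    (hπ : Surjective π) (hker : RingHom.ker π = I.map (algebraMap A' B'))
    (hcomp : π.comp (algebraMap A' B') =
      ((Ideal.Quotient.mk (Ideal.span (Set.range f))).comp MvPolynomial.C).comp
        (Ideal.Quotient.mk I)) :
    ∃ (f' : ι → MvPolynomial σ A') (ψ : MvPolynomial σ A' →ₐ[A'] B'),
      (∀ i, MvPolynomial.map (Ideal.Quotient.mk I) (f' i) = f i) ∧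
      Surjective ψ ∧ RingHom.ker ψ.toRingHom = Ideal.span (Set.range f') ∧
      ∀ q, π (ψ q) = Ideal.Quotient.mk (Ideal.span (Set.range f))
        (MvPolynomial.map (Ideal.Quotient.mk I) q) := by
  classical
  let ρ : MvPolynomial σ A' →+* MvPolynomial σ (A' ⧸ I) := MvPolynomial.map (Ideal.Quotient.mk I)
  have hρ : Surjective ρ := MvPolynomial.map_surjective _ Ideal.Quotient.mk_surjective
  let mkf := Ideal.Quotient.mk (Ideal.span (Set.range f))
  have hmkf : Surjective mkf := Ideal.Quotient.mk_surjective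
  choose b hb using fun j : σ => hπ (mkf (MvPolynomial.X j))
  let ψ : MvPolynomial σ A' →ₐ[A'] B' := MvPolynomial.aeval b
  have hψ : ∀ q, π (ψ q) = mkf (ρ q) := by
    have : π.comp ψ.toRingHom = mkf.comp ρ := by
      apply MvPolynomial.ringHom_ext
      · intro a
        have h1 := RingHom.congr_fun hcomp a
        simp only [RingHom.comp_apply] at h1
        simp only [RingHom.comp_apply, AlgHom.toRingHom_eq_coe, RingHom.coe_coe, ψ,
          MvPolynomial.aeval_C, ρ, MvPolynomial.map_C, mkf]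
        exact h1
      · intro j
        simp only [RingHom.comp_apply, AlgHom.toRingHom_eq_coe, RingHom.coe_coe, ψ,
          MvPolynomial.aeval_X, ρ, MvPolynomial.map_X, hb]
    intro q
    exact RingHom.congr_fun this q
  -- elements of `ker π` lie in `I • ⊤`
  have hkerπ : ∀ y : B', π y = 0 → y ∈ (I • ⊤ : Submodule A' B') := by
    intro y hy
    rw [Ideal.smul_top_eq_map, Submodule.restrictScalars_mem, ← hker]
    exact hy
  -- `ψ` is surjective
  have hψsurj : Surjective ψ := by
    have htop : LinearMap.range ψ.toLinearMap = ⊤ := by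
      apply Groth.Agent.Lib.NilNakayama.eq_top_of_top_le_sup_smul I hI
      intro y _
      obtain ⟨q, hq⟩ := hmkf (π y)
      obtain ⟨q', rfl⟩ := hρ q
      have : π (y - ψ q') = 0 := by rw [map_sub, hψ, hq, sub_self]
      have h2 := hkerπ _ this
      have : y = ψ q' + (y - ψ q') := by ring
      rw [this]
      exact Submodule.add_mem_sup ⟨q', rfl⟩ h2
    intro y
    have : y ∈ LinearMap.range ψ.toLinearMap := htop ▸ Submodule.mem_top
    obtain ⟨q, hq⟩ := this
    exact ⟨q, hq⟩
  -- `I • ⊤` in `B'` is the image of `I • ⊤`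
  have himage : ∀ y ∈ (I • ⊤ : Submodule A' B'), ∃ g ∈ (I • ⊤ : Submodule A' (MvPolynomial σ A')),
      ψ g = y := by
    intro y hy
    have : (I • ⊤ : Submodule A' B') = (I • ⊤ : Submodule A' (MvPolynomial σ A')).map
        ψ.toLinearMap := by
      rw [Submodule.map_smul'', Submodule.map_top]
      congr 1
      exact (LinearMap.range_eq_top.mpr hψsurj).symm
    rw [this] at hy
    obtain ⟨g, hg, rfl⟩ := hy
    exact ⟨g, hg, rfl⟩
  -- `I • ⊤` in the polynomial ring is killed by `ρ`
  have hρker : ∀ g ∈ (I • ⊤ : Submodule A' (MvPolynomial σ A')), ρ g = 0 := by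
    intro g hg
    refine Submodule.smul_induction_on hg ?_ ?_
    · intro r hr p _
      rw [Algebra.smul_def, map_mul]
      have : ρ (algebraMap A' _ r) = 0 := by
        simp only [ρ, MvPolynomial.algebraMap_eq, MvPolynomial.map_C]
        rw [Ideal.Quotient.eq_zero_iff_mem.mpr hr, map_zero]
      rw [this, zero_mul]
    · intro x y hx hy
      rw [map_add, hx, hy, add_zero]
  -- conversely the kernel of `ρ` is `I • ⊤`
  have hρker' : ∀ g, ρ g = 0 → g ∈ (I • ⊤ : Submodule A' (MvPolynomial σ A')) := by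
    intro g hg
    rw [Ideal.smul_top_eq_map, Submodule.restrictScalars_mem, MvPolynomial.algebraMap_eq]
    rw [← RingHom.mem_ker, MvPolynomial.ker_map, Ideal.mk_ker] at hg
    exact hg
  -- choose lifts
  have hlift : ∀ i, ∃ p : MvPolynomial σ A', ρ p = f i ∧ ψ p = 0 := by
    intro i
    obtain ⟨p0, hp0⟩ := hρ (f i)
    have h1 : π (ψ p0) = 0 := by
      rw [hψ, hp0]
      exact Ideal.Quotient.eq_zero_iff_mem.mpr (Ideal.subset_span ⟨i, rfl⟩)
    obtain ⟨g, hg, hgψ⟩ := himage _ (hkerπ _ h1)
    refine ⟨p0 - g, ?_, ?_⟩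
    · rw [map_sub, hρker g hg, sub_zero, hp0]
    · rw [map_sub, hgψ, sub_self]
  choose f' hf'ρ hf'ψ using hlift
  refine ⟨f', ψ, hf'ρ, hψsurj, ?_, hψ⟩
  -- kernel computation
  have hkey : LinearMap.ker ψ.toLinearMap =
      (Ideal.span (Set.range f')).restrictScalars A' := by
    apply ker_eq_of_flat_of_le_sup_smul ψ.toLinearMap hψsurj I hI
    · intro x hx
      rw [Submodule.restrictScalars_mem] at hx
      rw [LinearMap.mem_ker]
      refine Submodule.span_induction ?_ ?_ ?_ ?_ hx
      · rintro _ ⟨i, rfl⟩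
        exact hf'ψ i
      · exact map_zero _
      · intro x y _ _ hx hy
        rw [map_add, hx, hy, add_zero]
      · intro a x _ hx
        change ψ (a * x) = 0
        change ψ x = 0 at hx
        rw [map_mul, hx, mul_zero]
    · intro x hx
      have hx' : ψ x = 0 := hx
      have h1 : mkf (ρ x) = 0 := by rw [← hψ, hx', map_zero]
      have h2 : ρ x ∈ Ideal.span (Set.range f) := Ideal.Quotient.eq_zero_iff_mem.mp h1
      have h3 : Ideal.span (Set.range f) = (Ideal.span (Set.range f')).map ρ := by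
        rw [Ideal.map_span]
        congr 1
        ext y
        constructor
        · rintro ⟨i, rfl⟩
          exact ⟨f' i, ⟨i, rfl⟩, hf'ρ i⟩
        · rintro ⟨_, ⟨i, rfl⟩, rfl⟩
          exact ⟨i, (hf'ρ i).symm⟩
      rw [h3, Ideal.mem_map_iff_of_surjective ρ hρ] at h2
      obtain ⟨z, hz, hzx⟩ := h2
      have h4 : ρ (x - z) = 0 := by rw [map_sub, hzx, sub_self]
      have : x = z + (x - z) := by ring
      rw [this]
      exact Submodule.add_mem_sup hz (hρker' _ h4)
  ext x
  have := SetLike.ext_iff.mp hkey x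
  simpa using this

end Poly

end Groth.Agent.Lib.FlatLiftPoly88
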