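import Groth.Agent.Lib.DeformBC88
import Groth.Agent.Lib.FlatFibreNil88
import Mathlib.Algebra.Category.Ring.Constructions
import Mathlib.RingTheory.RingHom.Flat
import Mathlib.RingTheory.IsTensorProduct
import Mathlib.RingTheory.FinitePresentation
import Mathlib.RingTheory.RingHom.FinitePresentation
import Groth.Agent.Lib.FlatLiftPoly88
import Groth.Agent.S1309

/-!
# Ring-level ascent along nilpotent thickenings (helper88)

`R' → B' → C'`, `R = R'/I` with `I` nilpotent, `B = B' ⊗ R`, `C = C' ⊗ B`, `C'` flat over `R'`.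
* `flat_of_isPushout`: `C` flat over `B` implies `C'` flat over `B'`.
-/

set_option autoImplicit false
set_option linter.style.haveILetI false
universe u

namespace Groth.Agent.Lib.DeformRing88

open TensorProduct Function CategoryTheory Limits

section Transport

/-- Transport of flatness of a base change along the isomorphism `S/ker ≃ S̄`. -/
theorem flat_quotient_ker_tensor {S Sb : Type*} [CommRing S] [CommRing Sb] [Algebra S Sb]
    (hsurj : Surjective (algebraMap S Sb)) (M : Type*) [AddCommGroup M] [Module S M]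
    [Module.Flat Sb (Sb ⊗[S] M)] :
    Module.Flat (S ⧸ RingHom.ker (algebraMap S Sb))
      ((S ⧸ RingHom.ker (algebraMap S Sb)) ⊗[S] M) := by
  set K := RingHom.ker (algebraMap S Sb) with hK
  let e : (S ⧸ K) ≃ₐ[S] Sb :=
    Ideal.quotientKerAlgEquivOfSurjective (f := Algebra.ofId S Sb) hsurj
  let _ : Algebra Sb (S ⧸ K) := (e.symm : Sb →+* S ⧸ K).toAlgebra
  have : IsScalarTower S Sb (S ⧸ K) := IsScalarTower.of_algebraMap_eq' (by
    ext x
    simp only [RingHom.comp_apply]
    exact (e.symm.commutes x).symm)
  have h1 : Module.Flat (S ⧸ K) ((S ⧸ K) ⊗[Sb] (Sb ⊗[S] M)) := inferInstance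
  exact Module.Flat.of_linearEquiv
    (TensorProduct.AlgebraTensorModule.cancelBaseChange S Sb (S ⧸ K) (S ⧸ K) M).symm

end Transport

section Algebraic

variable {R' R B' B C' C : Type u} [CommRing R'] [CommRing R] [CommRing B'] [CommRing B]
  [CommRing C'] [CommRing C]
  [Algebra R' B'] [Algebra B' C'] [Algebra R' C'] [IsScalarTower R' B' C']
  [Algebra R' R] [Algebra B' B] [Algebra C' C] [Algebra R B] [Algebra B C]
  [Algebra R' B] [IsScalarTower R' B' B] [IsScalarTower R' R B]
  [Algebra B' C] [IsScalarTower B' C' C] [IsScalarTower B' B C]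

/-- The kernel of `B' → B = B' ⊗ R` is `I B'`. -/
theorem ker_eq_map_of_isPushout [Algebra.IsPushout R' R B' B]
    (hsurj : Surjective (algebraMap R' R)) :
    RingHom.ker (algebraMap B' B) = (RingHom.ker (algebraMap R' R)).map (algebraMap R' B') := by
  apply le_antisymm
  · intro x hx
    set I := RingHom.ker (algebraMap R' R) with hI
    -- `B ≃ R ⊗ B'`, and `R ≃ R'/I`
    let e := Algebra.IsPushout.equiv R' R B' B
    have h1 : (1 : R) ⊗ₜ[R'] x = 0 := by
      apply e.injective
      rw [map_zero, Algebra.IsPushout.equiv_tmul, map_one, one_mul]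
      exact hx
    let e0 : (R' ⧸ I) ≃ₐ[R'] R :=
      Ideal.quotientKerAlgEquivOfSurjective (f := Algebra.ofId R' R) hsurj
    have h2 : (TensorProduct.mk R' (R' ⧸ I) B' 1) x = 0 := by
      have : (TensorProduct.congr e0.toLinearEquiv (LinearEquiv.refl R' B'))
          ((1 : R' ⧸ I) ⊗ₜ[R'] x) = 0 := by
        rw [TensorProduct.congr_tmul]
        simp only [AlgEquiv.toLinearEquiv_apply, map_one, LinearEquiv.refl_apply]
        exact h1
      exact (TensorProduct.congr e0.toLinearEquiv (LinearEquiv.refl R' B')).injective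
        (by rw [map_zero]; exact this)
    rw [← LinearMap.mem_ker, LinearMap.ker_tensorProductMk] at h2
    rw [Ideal.smul_top_eq_map] at h2
    exact h2
  · rw [Ideal.map_le_iff_le_comap]
    intro a ha
    rw [Ideal.mem_comap, RingHom.mem_ker, ← IsScalarTower.algebraMap_apply,
      IsScalarTower.algebraMap_apply R' R B, (RingHom.mem_ker).mp ha, map_zero]

/-- `B' → B = B' ⊗ R` is surjective when `R' → R` is. -/
theorem surjective_of_isPushout [Algebra.IsPushout R' R B' B]
    (hsurj : Surjective (algebraMap R' R)) : Surjective (algebraMap B' B) := by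
  intro b
  obtain ⟨t, rfl⟩ := (Algebra.IsPushout.equiv R' R B' B).surjective b
  induction t with
  | zero => exact ⟨0, by simp⟩
  | add x y hx hy =>
    obtain ⟨a, ha⟩ := hx
    obtain ⟨b, hb⟩ := hy
    exact ⟨a + b, by rw [map_add, ha, hb, map_add]⟩
  | tmul r b' =>
    obtain ⟨r', rfl⟩ := hsurj r
    refine ⟨r' • b', ?_⟩
    rw [Algebra.IsPushout.equiv_tmul, Algebra.smul_def, map_mul,
      ← IsScalarTower.algebraMap_apply, IsScalarTower.algebraMap_apply R' R B]

/-- Flatness ascends: `C` flat over `B`, `C'` flat over `R'`, `I` nilpotent. -/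
theorem flat_of_isPushout [Algebra.IsPushout R' R B' B] [Algebra.IsPushout B' B C' C]
    (hsurj : Surjective (algebraMap R' R)) (hnil : IsNilpotent (RingHom.ker (algebraMap R' R)))
    [Module.Flat R' C'] [Module.Flat B C] : Module.Flat B' C' := by
  set I := RingHom.ker (algebraMap R' R) with hI
  have hker := ker_eq_map_of_isPushout (R' := R') (R := R) (B' := B') (B := B) hsurj
  have hsurjB : Surjective (algebraMap B' B) := by
    intro b
    obtain ⟨t, rfl⟩ := (Algebra.IsPushout.equiv R' R B' B).surjective b
    induction t with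
    | zero => exact ⟨0, by simp⟩
    | add x y hx hy =>
      obtain ⟨a, ha⟩ := hx
      obtain ⟨b, hb⟩ := hy
      exact ⟨a + b, by rw [map_add, ha, hb, map_add]⟩
    | tmul r b' =>
      obtain ⟨r', rfl⟩ := hsurj r
      refine ⟨r' • b', ?_⟩
      rw [Algebra.IsPushout.equiv_tmul, Algebra.smul_def, map_mul,
        ← IsScalarTower.algebraMap_apply, IsScalarTower.algebraMap_apply R' R B]
  -- flatness of the reduction
  have hfl : Module.Flat B (B ⊗[B'] C') :=
    Module.Flat.of_linearEquiv (Algebra.IsPushout.equiv B' B C' C).toLinearEquiv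
  have hfl' := flat_quotient_ker_tensor hsurjB C'
  -- nilpotency and injectivity
  have hnilK : IsNilpotent (RingHom.ker (algebraMap B' B)) := by
    rw [hker]
    obtain ⟨n, hn⟩ := hnil
    refine ⟨n, ?_⟩
    rw [← Ideal.map_pow, hn, Ideal.zero_eq_bot, Ideal.map_bot, Ideal.zero_eq_bot]
  have h1 : Injective (I.subtype.rTensor C') :=
    Module.Flat.rTensor_preserves_injective_linearMap _ I.subtype_injective
  have h2 : Injective ((I.map (algebraMap R' B')).subtype.rTensor C') :=
    Groth.Agent.Lib.FlatCrit.rTensor_map_injective (S := B') I h1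
  rw [← hker] at h2
  exact Groth.Agent.Lib.FlatCrit.flat_of_isNilpotent _ hnilK h2

end Algebraic

end Groth.Agent.Lib.DeformRing88

namespace Groth.Agent.Lib.DeformRing88

open TensorProduct Function CategoryTheory Limits

/-- Pass from the algebraic formulation of an ascent statement to the categorical one used by
`DeformBC88.of_ringAscent`. -/
theorem ringAscent_of_algebraic
    {Q : ∀ {R T : Type u} [CommRing R] [CommRing T], (R →+* T) → Prop}
    (H : ∀ (R' R B' B C' C : Type u) [CommRing R'] [CommRing R] [CommRing B'] [CommRing B]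
      [CommRing C'] [CommRing C]
      [Algebra R' B'] [Algebra B' C'] [Algebra R' C'] [IsScalarTower R' B' C']
      [Algebra R' R] [Algebra B' B] [Algebra C' C] [Algebra R B] [Algebra B C]
      [Algebra R' B] [IsScalarTower R' B' B] [IsScalarTower R' R B]
      [Algebra B' C] [IsScalarTower B' C' C] [IsScalarTower B' B C]
      [Algebra.IsPushout R' R B' B] [Algebra.IsPushout B' B C' C],
      Surjective (algebraMap R' R) → IsNilpotent (RingHom.ker (algebraMap R' R)) →
      Module.Flat R' C' → Q (algebraMap B C) → Q (algebraMap B' C')) :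
    Groth.Agent.Lib.DeformBC88.RingAscent Q := by
  intro R' R B' B C' C ρ α φR φB φC ρb β h1 h2 hsurj hnil hflat hβ
  letI := ρ.hom.toAlgebra
  letI := α.hom.toAlgebra
  letI := (ρ ≫ α).hom.toAlgebra
  letI := φR.hom.toAlgebra
  letI := φB.hom.toAlgebra
  letI := φC.hom.toAlgebra
  letI := ρb.hom.toAlgebra
  letI := β.hom.toAlgebra
  letI := (φB.hom.comp ρ.hom).toAlgebra
  letI := (φC.hom.comp α.hom).toAlgebra
  have : IsScalarTower R' B' C' := IsScalarTower.of_algebraMap_eq' rfl
  have : IsScalarTower R' B' B := IsScalarTower.of_algebraMap_eq' rfl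
  have : IsScalarTower R' R B := IsScalarTower.of_algebraMap_eq' (by
    show φB.hom.comp ρ.hom = ρb.hom.comp φR.hom
    rw [← CommRingCat.hom_comp, ← CommRingCat.hom_comp, h1.w])
  have : IsScalarTower B' C' C := IsScalarTower.of_algebraMap_eq' rfl
  have : IsScalarTower B' B C := IsScalarTower.of_algebraMap_eq' (by
    show φC.hom.comp α.hom = β.hom.comp φB.hom
    rw [← CommRingCat.hom_comp, ← CommRingCat.hom_comp, h2.w])
  have hP1 : Algebra.IsPushout R' B' R B := CommRingCat.isPushout_iff_isPushout.mp h1
  have hP1' : Algebra.IsPushout R' R B' B := hP1.symm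
  have hP2 : Algebra.IsPushout B' C' B C := CommRingCat.isPushout_iff_isPushout.mp h2
  have hP2' : Algebra.IsPushout B' B C' C := hP2.symm
  exact H R' R B' B C' C hsurj hnil hflat hβ

theorem ringAscent_flat : Groth.Agent.Lib.DeformBC88.RingAscent @RingHom.Flat := by
  apply ringAscent_of_algebraic
  intro R' R B' B C' C _ _ _ _ _ _ _ _ _ _ _ _ _ _ _ _ _ _ _ _ _ _ _ hsurj hnil hflat hβ
  have : Module.Flat B C := RingHom.flat_algebraMap_iff.mp hβ
  rw [RingHom.flat_algebraMap_iff]
  exact flat_of_isPushout (R' := R') (R := R) (B' := B') (B := B) (C' := C') (C := C) hsurj hnil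

end Groth.Agent.Lib.DeformRing88

namespace Groth.Agent.Lib.DeformRing88

open TensorProduct Function CategoryTheory Limits

section FP

variable {R' R B' B C' C : Type u} [CommRing R'] [CommRing R] [CommRing B'] [CommRing B]
  [CommRing C'] [CommRing C]
  [Algebra R' B'] [Algebra B' C'] [Algebra R' C'] [IsScalarTower R' B' C']
  [Algebra R' R] [Algebra B' B] [Algebra C' C] [Algebra R B] [Algebra B C]
  [Algebra R' B] [IsScalarTower R' B' B] [IsScalarTower R' R B]
  [Algebra B' C] [IsScalarTower B' C' C] [IsScalarTower B' B C]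

/-- Finite type ascends. -/
theorem finiteType_of_isPushout [Algebra.IsPushout R' R B' B] [Algebra.IsPushout B' B C' C]
    (hsurj : Surjective (algebraMap R' R)) (hnil : IsNilpotent (RingHom.ker (algebraMap R' R)))
    [Algebra.FiniteType B C] : Algebra.FiniteType B' C' := by
  have hkerB := ker_eq_map_of_isPushout (R' := R') (R := R) (B' := B') (B := B) hsurj
  have hsurjB : Surjective (algebraMap B' B) :=
    surjective_of_isPushout (R' := R') (R := R) (B' := B') (B := B) hsurj
  have hkerC := ker_eq_map_of_isPushout (R' := B') (R := B) (B' := C') (B := C) hsurjB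
  have hsurjC : Surjective (algebraMap C' C) :=
    surjective_of_isPushout (R' := B') (R := B) (B' := C') (B := C) hsurjB
  have hnilJ : IsNilpotent (RingHom.ker (algebraMap B' B)) := by
    rw [hkerB]
    obtain ⟨n, hn⟩ := hnil
    refine ⟨n, ?_⟩
    rw [← Ideal.map_pow, hn, Ideal.zero_eq_bot, Ideal.map_bot, Ideal.zero_eq_bot]
  have h1 : Algebra.FiniteType B' B :=
    Algebra.FiniteType.of_surjective (Algebra.ofId B' B) hsurjB
  have h2 : Algebra.FiniteType B' C := Algebra.FiniteType.trans h1 inferInstance
  exact Groth.Agent.S1309.finiteType_of_surjective_of_nilpotent (IsScalarTower.toAlgHom B' C' C)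
    hsurjC _ hnilJ hkerC.le

/-- Finite presentation ascends when `C'` is flat over `R'`. -/
theorem finitePresentation_of_isPushout [Algebra.IsPushout R' R B' B]
    [Algebra.IsPushout B' B C' C]
    (hsurj : Surjective (algebraMap R' R)) (hnil : IsNilpotent (RingHom.ker (algebraMap R' R)))
    [Module.Flat R' C'] [Algebra.FinitePresentation B C] : Algebra.FinitePresentation B' C' := by
  classical
  set I := RingHom.ker (algebraMap R' R) with hI
  have hkerB := ker_eq_map_of_isPushout (R' := R') (R := R) (B' := B') (B := B) hsurj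
  have hsurjB : Surjective (algebraMap B' B) :=
    surjective_of_isPushout (R' := R') (R := R) (B' := B') (B := B) hsurj
  have hkerC := ker_eq_map_of_isPushout (R' := B') (R := B) (B' := C') (B := C) hsurjB
  have hsurjC : Surjective (algebraMap C' C) :=
    surjective_of_isPushout (R' := B') (R := B) (B' := C') (B := C) hsurjB
  have hft : Algebra.FiniteType B' C' :=
    finiteType_of_isPushout (R' := R') (R := R) (B := B) (C := C) hsurj hnil
  obtain ⟨n, ψ, hψ⟩ := Algebra.FiniteType.iff_quotient_mvPolynomial''.mp hft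
  -- the reduction of `ψ`
  let π : MvPolynomial (Fin n) B' →+* MvPolynomial (Fin n) B := MvPolynomial.map (algebraMap B' B)
  have hπ : Surjective π := MvPolynomial.map_surjective _ hsurjB
  let ψb : MvPolynomial (Fin n) B →ₐ[B] C :=
    MvPolynomial.aeval (fun i => algebraMap C' C (ψ (MvPolynomial.X i)))
  have hcompat : ∀ p, algebraMap C' C (ψ p) = ψb (π p) := by
    have : (algebraMap C' C).comp ψ.toRingHom = ψb.toRingHom.comp π := by
      apply MvPolynomial.ringHom_ext
      · intro b
        simp only [RingHom.comp_apply, AlgHom.toRingHom_eq_coe, RingHom.coe_coe, π,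
          MvPolynomial.map_C, ψb, MvPolynomial.aeval_C]
        rw [← MvPolynomial.algebraMap_eq, AlgHom.commutes, ← IsScalarTower.algebraMap_apply,
          IsScalarTower.algebraMap_apply B' B C]
      · intro i
        simp only [RingHom.comp_apply, AlgHom.toRingHom_eq_coe, RingHom.coe_coe, π,
          MvPolynomial.map_X, ψb, MvPolynomial.aeval_X]
    intro p
    exact RingHom.congr_fun this p
  have hψb : Surjective ψb := by
    intro c
    obtain ⟨c', rfl⟩ := hsurjC c
    obtain ⟨p, rfl⟩ := hψ c'
    exact ⟨π p, (hcompat p).symm⟩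
  have hKb : (RingHom.ker ψb.toRingHom).FG :=
    Algebra.FinitePresentation.ker_fG_of_surjective ψb hψb
  obtain ⟨sb, hsb⟩ := hKb
  -- `I • ⊤` in the polynomial ring is the kernel of `π`
  have hπker : ∀ p, π p = 0 ↔ p ∈ (I • ⊤ : Submodule R' (MvPolynomial (Fin n) B')) := by
    intro p
    rw [Ideal.smul_top_eq_map, Submodule.restrictScalars_mem,
      IsScalarTower.algebraMap_eq R' B' (MvPolynomial (Fin n) B'), ← Ideal.map_map, ← hkerB,
      MvPolynomial.algebraMap_eq, ← RingHom.mem_ker, MvPolynomial.ker_map]
  -- `I • ⊤` in `C'` is the kernel of `C' → C`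
  have hCker : ∀ y : C', algebraMap C' C y = 0 ↔ y ∈ (I • ⊤ : Submodule R' C') := by
    intro y
    rw [Ideal.smul_top_eq_map, Submodule.restrictScalars_mem,
      IsScalarTower.algebraMap_eq R' B' C', ← Ideal.map_map, ← hkerB, ← hkerC, RingHom.mem_ker]
  -- image of `I • ⊤`
  have himage : ∀ y ∈ (I • ⊤ : Submodule R' C'),
      ∃ q ∈ (I • ⊤ : Submodule R' (MvPolynomial (Fin n) B')), ψ q = y := by
    intro y hy
    have : (I • ⊤ : Submodule R' C') =
        (I • ⊤ : Submodule R' (MvPolynomial (Fin n) B')).map (ψ.toLinearMap.restrictScalars R') := by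
      rw [Submodule.map_smul'', Submodule.map_top]
      congr 1
      symm
      rw [LinearMap.range_eq_top]
      exact hψ
    rw [this] at hy
    obtain ⟨q, hq, rfl⟩ := hy
    exact ⟨q, hq, rfl⟩
  -- lifts of the generators
  have hlift : ∀ z : MvPolynomial (Fin n) B, ψb z = 0 →
      ∃ p : MvPolynomial (Fin n) B', π p = z ∧ ψ p = 0 := by
    intro z hz
    obtain ⟨p0, rfl⟩ := hπ z
    have h1 : algebraMap C' C (ψ p0) = 0 := by rw [hcompat, hz]
    obtain ⟨q, hq, hqψ⟩ := himage _ ((hCker _).mp h1)
    refine ⟨p0 - q, ?_, ?_⟩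
    · rw [map_sub, (hπker q).mpr hq, sub_zero]
    · rw [map_sub, hqψ, sub_self]
  have hsbmem : ∀ z ∈ sb, ψb z = 0 := by
    intro z hz
    have : z ∈ RingHom.ker ψb.toRingHom := hsb ▸ Ideal.subset_span hz
    exact this
  choose! lift hliftπ hliftψ using hlift
  let K₀ : Ideal (MvPolynomial (Fin n) B') := Ideal.span (lift '' (sb : Set _))
  have hK₀fg : K₀.FG := ⟨sb.image lift, by rw [Finset.coe_image]⟩
  -- the kernel computation
  have hkey : LinearMap.ker (ψ.toLinearMap.restrictScalars R') = K₀.restrictScalars R' := by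
    apply Groth.Agent.Lib.FlatLiftPoly88.ker_eq_of_flat_of_le_sup_smul
      (ψ.toLinearMap.restrictScalars R') hψ I hnil
    · intro x hx
      rw [Submodule.restrictScalars_mem] at hx
      rw [LinearMap.mem_ker]
      change ψ x = 0
      refine Submodule.span_induction ?_ ?_ ?_ ?_ hx
      · rintro _ ⟨z, hz, rfl⟩
        exact hliftψ z (hsbmem z hz)
      · exact map_zero _
      · intro x y _ _ hx hy
        rw [map_add, hx, hy, add_zero]
      · intro a x _ hx
        rw [smul_eq_mul, map_mul, hx, mul_zero]
    · intro x hx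
      have hx' : ψ x = 0 := hx
      have h1 : ψb (π x) = 0 := by rw [← hcompat, hx', map_zero]
      have h2 : π x ∈ Ideal.span (sb : Set (MvPolynomial (Fin n) B)) := by
        rw [hsb]; exact h1
      have h3 : Ideal.span (sb : Set (MvPolynomial (Fin n) B)) = K₀.map π := by
        rw [Ideal.map_span]
        congr 1
        ext y
        constructor
        · intro hy
          exact ⟨lift y, ⟨y, hy, rfl⟩, hliftπ y (hsbmem y hy)⟩
        · rintro ⟨_, ⟨z, hz, rfl⟩, rfl⟩
          rw [hliftπ z (hsbmem z hz)]
          exact hz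
      rw [h3, Ideal.mem_map_iff_of_surjective π hπ] at h2
      obtain ⟨z, hz, hzx⟩ := h2
      have h4 : π (x - z) = 0 := by rw [map_sub, hzx, sub_self]
      have : x = z + (x - z) := by ring
      rw [this]
      exact Submodule.add_mem_sup hz ((hπker _).mp h4)
  have hker : RingHom.ker ψ.toRingHom = K₀ := by
    ext x
    have := SetLike.ext_iff.mp hkey x
    simpa using this
  exact Algebra.FinitePresentation.of_surjective hψ (hker ▸ hK₀fg)

end FP

theorem ringAscent_finitePresentation :
    Groth.Agent.Lib.DeformBC88.RingAscent @RingHom.FinitePresentation := by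
  apply ringAscent_of_algebraic
  intro R' R B' B C' C _ _ _ _ _ _ _ _ _ _ _ _ _ _ _ _ _ _ _ _ _ _ _ hsurj hnil hflat hβ
  have : Algebra.FinitePresentation B C := RingHom.finitePresentation_algebraMap.mp hβ
  rw [RingHom.finitePresentation_algebraMap]
  exact finitePresentation_of_isPushout (R' := R') (R := R) (B' := B') (B := B) (C' := C') (C := C)
    hsurj hnil

end Groth.Agent.Lib.DeformRing88
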