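import Mathlib
import Groth.Agent.Lib.FlatAtCrit22
import Groth.Agent.Lib.FlatCrit
import Groth.Agent.Lib.FlatLimGlobal88
import Groth.Agent.Lib.DeformRing88

/-!
# Abstract lemmas for the fibrewise criterion of flatness (helper88)

* `flat_of_ringEquiv_semilinear`: transfer of flatness along a ring isomorphism.
* `flatAt_baseChange` (ascent): flatness at a prime is stable under base change in a pushout square.
* `flatAt_descend` (descent): flatness at a prime descends along flat base change
  (wrapper of helper22's `flatAt_iff_of_isBaseChange`).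
* `flatAt_of_noetherian`: the Noetherian local criterion in the form
  "`M_Q` flat over `R`, fibre `(B/pB) ⊗ M_Q` flat over `B/pB` ⇒ `M_Q` flat over `B`".
* `flatAt_quotient_iff`: fibre identification along a surjection `B → B̄`.
-/

set_option autoImplicit false
set_option maxHeartbeats 400000
set_option linter.style.haveILetI false
set_option linter.unusedSectionVars false
set_option linter.unusedSimpArgs false

open TensorProduct Function
open Groth.Agent.Lib.FlatLimStage88 Groth.Agent.Lib.FlatLimGlobal88 Groth.Agent.Lib.FlatLimOpenBC88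
open scoped Groth.Agent.Lib.FlatLimStage88

universe u

namespace Groth.Agent.Lib.CritFibA88

/-- Flatness transfers along a ring isomorphism and a compatible additive isomorphism. -/
theorem flat_of_ringEquiv_semilinear {A A' X X' : Type*} [CommRing A] [CommRing A']
    [AddCommGroup X] [Module A X] [AddCommGroup X'] [Module A' X']
    (β : A ≃+* A') (φ : X ≃+ X') (hφ : ∀ (a : A) (x : X), φ (a • x) = β a • φ x)
    (h : Module.Flat A X) : Module.Flat A' X' := by
  letI : Algebra A A' := β.toRingHom.toAlgebra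
  letI : Module A X' := Module.compHom X' β.toRingHom
  haveI : IsScalarTower A A' X' := ⟨fun a a' x => by
    change (β a * a') • x = β a • (a' • x)
    rw [mul_smul]⟩
  let φ' : X ≃ₗ[A] X' := { φ with map_smul' := fun a x => hφ a x }
  have h1 : Module.Flat A X' := Module.Flat.of_linearEquiv φ'.symm
  haveI : IsLocalization (⊥ : Submonoid A) A' :=
    IsLocalization.of_le_isUnit_of_bijective (by
      rintro _ ⟨x, hx, rfl⟩
      have hx' : x = 1 := Submonoid.mem_bot.mp hx
      subst hx'
      simp [IsUnit.mem_submonoid_iff]) β.bijective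
  exact (Module.flat_iff_of_isLocalization A' (⊥ : Submonoid A) X').mpr h1

section Asc

variable {B' B C' C M' M : Type u} [CommRing B'] [CommRing B] [CommRing C'] [CommRing C]
    [Algebra B' B] [Algebra B' C'] [Algebra B C] [Algebra C' C] [Algebra B' C]
    [IsScalarTower B' B C] [IsScalarTower B' C' C] [Algebra.IsPushout B' B C' C]
    [AddCommGroup M'] [Module C' M'] [Module B' M'] [IsScalarTower B' C' M']
    [AddCommGroup M] [Module C M] [Module B M] [IsScalarTower B C M] [Module C' M]
    [IsScalarTower C' C M]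

/-- The `B`-linear identification `B ⊗[B'] M' ≃ M` attached to a base change `ψ : M' → M` along
`C' → C` in a pushout square. -/
noncomputable def bcEquiv (ψ : M' →ₗ[C'] M) (hψ : IsBaseChange C ψ) : B ⊗[B'] M' ≃ₗ[B] M :=
  (Algebra.IsPushout.cancelBaseChange B' B C' C M').symm ≪≫ₗ (hψ.equiv.restrictScalars B)

theorem bcEquiv_tmul (ψ : M' →ₗ[C'] M) (hψ : IsBaseChange C ψ) (b : B) (m : M') :
    bcEquiv ψ hψ (b ⊗ₜ[B'] m) = b • ψ m := by
  unfold bcEquiv
  rw [LinearEquiv.trans_apply, Algebra.IsPushout.cancelBaseChange_symm_tmul]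
  change hψ.equiv (algebraMap B C b ⊗ₜ[C'] m) = _
  rw [hψ.equiv_tmul, algebraMap_smul]

theorem bcEquiv_smul (ψ : M' →ₗ[C'] M) (hψ : IsBaseChange C ψ) (c : B ⊗[B'] C')
    (x : B ⊗[B'] M') :
    bcEquiv ψ hψ (c • x) = (Algebra.IsPushout.equiv B' B C' C) c • bcEquiv ψ hψ x := by
  induction c with
  | zero => simp
  | add c₁ c₂ h₁ h₂ => rw [add_smul, map_add, h₁, h₂, map_add, add_smul]
  | tmul b c =>
    induction x with
    | zero => simp
    | add x₁ x₂ h₁ h₂ => rw [smul_add, map_add, h₁, h₂, map_add, smul_add]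
    | tmul b₁ m =>
      rw [tmul_smul_tmul, bcEquiv_tmul, bcEquiv_tmul, Algebra.IsPushout.equiv_tmul, map_smul]
      simp only [← algebraMap_smul C b, ← algebraMap_smul C b₁, ← algebraMap_smul C c,
        ← algebraMap_smul C (b * b₁), ← mul_smul, map_mul]
      congr 1
      ring

/-- **Ascent**: flatness at a prime is stable under base change (abstract pushout form). -/
theorem flatAt_baseChange (ψ : M' →ₗ[C'] M) (hψ : IsBaseChange C ψ)
    (Q : Ideal C) [Q.IsPrime] (Q' : Ideal C') [Q'.IsPrime] (hQ : Q.comap (algebraMap C' C) = Q')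
    (h : Module.Flat B' (LocalizedModule Q'.primeCompl M')) :
    Module.Flat B (LocalizedModule Q.primeCompl M) := by
  let e := Algebra.IsPushout.equiv B' B C' C
  have hcontr : (Q.comap e.toRingEquiv).comap
      (Algebra.TensorProduct.includeRight : C' →ₐ[B'] B ⊗[B'] C') = Q' := by
    rw [← hQ]
    ext x
    simp only [Ideal.mem_comap, Algebra.TensorProduct.includeRight_apply]
    change e ((1 : B) ⊗ₜ[B'] x) ∈ Q ↔ _
    rw [Algebra.IsPushout.equiv_tmul, map_one, one_mul]
  have h1 := flat_baseChange_at (k := B') (S₀ := C') (M₀ := M') B (Q.comap e.toRingEquiv) Q'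
    hcontr h
  exact flat_localizedModule_of_semilinearEquiv e.toRingEquiv (bcEquiv ψ hψ)
    (fun c x => bcEquiv_smul ψ hψ c x) Q h1

end Asc

section Desc

variable {B' B C' C M' M : Type u} [CommRing B'] [CommRing B] [CommRing C'] [CommRing C]
    [Algebra B' B] [Algebra B' C'] [Algebra B C] [Algebra C' C] [Algebra B' C]
    [IsScalarTower B' B C] [IsScalarTower B' C' C]
    [AddCommGroup M'] [Module C' M'] [Module B' M'] [IsScalarTower B' C' M']
    [AddCommGroup M] [Module C M] [Module B M] [IsScalarTower B C M] [Module C' M]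
    [IsScalarTower C' C M]

/-- **Descent**: flatness at a prime descends along flat base change. -/
theorem flatAt_descend [Module.Flat B' B] [Module.Flat C' C]
    (ψ : M' →ₗ[C'] M) (hψ : IsBaseChange C ψ)
    (Q : Ideal C) [Q.IsPrime] (Q' : Ideal C') [Q'.IsPrime] (hQ : Q.comap (algebraMap C' C) = Q')
    (h : Module.Flat B (LocalizedModule Q.primeCompl M)) :
    Module.Flat B' (LocalizedModule Q'.primeCompl M') := by
  letI : Module B' M := Module.compHom M (algebraMap B' C)
  have hsm : ∀ (b : B') (m : M), b • m = algebraMap B' C b • m := fun _ _ => rfl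
  haveI : IsScalarTower B' C M := ⟨fun b c m => by
    rw [hsm b (c • m), Algebra.smul_def, mul_smul]⟩
  haveI : IsScalarTower B' C' M := ⟨fun b c m => by
    rw [hsm b (c • m), ← algebraMap_smul C (b • c) m, ← algebraMap_smul C c m, Algebra.smul_def,
      map_mul, ← IsScalarTower.algebraMap_apply, mul_smul]⟩
  haveI : IsScalarTower B' B M := ⟨fun b b₁ m => by
    rw [hsm b (b₁ • m), ← algebraMap_smul C (b • b₁) m, ← algebraMap_smul C b₁ m,
      Algebra.smul_def, map_mul, ← IsScalarTower.algebraMap_apply, mul_smul]⟩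
  haveI : IsScalarTower B' B (LocalizedModule Q.primeCompl M) := ⟨fun b b₁ x => by
    induction x using LocalizedModule.induction_on with
    | h m s =>
      rw [LocalizedModule.smul'_mk, LocalizedModule.smul'_mk, LocalizedModule.smul'_mk, smul_assoc]⟩
  have h2 : Module.Flat B' (LocalizedModule Q.primeCompl M) :=
    Module.Flat.trans B' B (LocalizedModule Q.primeCompl M)
  exact (Groth.Agent.Lib.FlatAtCrit22.flatAt_iff_of_isBaseChange (R := B') M' M ψ hψ Q Q' hQ).mpr h2

end Desc

section Noeth

variable {R B C M : Type u} [CommRing R] [CommRing B] [CommRing C]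
    [Algebra R B] [Algebra B C] [Algebra R C] [IsScalarTower R B C]
    [AddCommGroup M] [Module C M] [Module B M] [Module R M] [IsScalarTower B C M]
    [IsScalarTower R C M] [IsScalarTower R B M]

/-- **Noetherian step** (local criterion of flatness): if `M_Q` is flat over `R` and its fibre over
the prime `p = Q ∩ R` is flat over `B/pB`, then `M_Q` is flat over `B`. -/
theorem flatAt_of_noetherian [IsNoetherianRing B] [IsNoetherianRing C] [Module.Finite C M]
    (Q : Ideal C) [Q.IsPrime] (p : Ideal R) (hp : p.map (algebraMap R C) ≤ Q)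
    (h1 : Module.Flat R (LocalizedModule Q.primeCompl M))
    (h2 : Module.Flat (B ⧸ p.map (algebraMap R B))
      ((B ⧸ p.map (algebraMap R B)) ⊗[B] LocalizedModule Q.primeCompl M)) :
    Module.Flat B (LocalizedModule Q.primeCompl M) := by
  set N := LocalizedModule Q.primeCompl M with hN
  set I : Ideal B := p.map (algebraMap R B) with hI
  have hIQ : I.map (algebraMap B (Localization.AtPrime Q)) ≤ Ideal.jacobson ⊥ := by
    rw [IsLocalRing.jacobson_eq_maximalIdeal ⊥ bot_ne_top, hI, Ideal.map_map,
      ← IsScalarTower.algebraMap_eq, IsScalarTower.algebraMap_eq R C (Localization.AtPrime Q),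
      ← Ideal.map_map, ← Localization.AtPrime.map_eq_maximalIdeal]
    exact Ideal.map_mono hp
  refine Groth.Agent.Lib.FlatCrit.flat_of_idealSeparated (R := B) (M := N) I ?_ ?_
  · intro 𝔞 x hx
    exact Groth.Agent.Lib.FlatCrit.eq_zero_of_forall_mem_pow_smul_top
      (S := Localization.AtPrime Q) (M := N) I hIQ x hx
  · refine Groth.Agent.Lib.FlatCrit.rTensor_map_injective (R := R) (S := B) (M := N) p ?_
    exact Module.Flat.rTensor_preserves_injective_linearMap _ (Subtype.val_injective)

end Noeth

section Ker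

variable {B Bb M Mb : Type*} [CommRing B] [CommRing Bb] [Algebra B Bb]
  [AddCommGroup M] [Module B M] [AddCommGroup Mb] [Module Bb Mb] [Module B Mb]
  [IsScalarTower B Bb Mb]

/-- Base change along a surjective ring map is surjective. -/
theorem surjective_of_isBaseChange (hs : Surjective (algebraMap B Bb)) (ψ : M →ₗ[B] Mb)
    (hψ : IsBaseChange Bb ψ) : Surjective ψ := by
  intro y
  induction y using hψ.inductionOn with
  | zero => exact ⟨0, map_zero _⟩
  | tmul m => exact ⟨m, rfl⟩
  | smul s n hn =>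
    obtain ⟨m, rfl⟩ := hn
    obtain ⟨b, rfl⟩ := hs s
    exact ⟨b • m, by rw [map_smul, algebraMap_smul]⟩
  | add n₁ n₂ h₁ h₂ =>
    obtain ⟨m₁, rfl⟩ := h₁
    obtain ⟨m₂, rfl⟩ := h₂
    exact ⟨m₁ + m₂, map_add _ _ _⟩

/-- The kernel of a base change along a surjective ring map with kernel `I` is `I M`. -/
theorem ker_of_isBaseChange (hs : Surjective (algebraMap B Bb)) (ψ : M →ₗ[B] Mb)
    (hψ : IsBaseChange Bb ψ) (m : M) :
    ψ m = 0 ↔ m ∈ (RingHom.ker (algebraMap B Bb)) • (⊤ : Submodule B M) := by
  set I := RingHom.ker (algebraMap B Bb) with hI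
  let e0 : (B ⧸ I) ≃ₐ[B] Bb :=
    Ideal.quotientKerAlgEquivOfSurjective (f := Algebra.ofId B Bb) hs
  have h1 : ψ m = 0 ↔ (1 : Bb) ⊗ₜ[B] m = 0 := by
    rw [← hψ.equiv.map_eq_zero_iff, hψ.equiv_tmul, one_smul]
  have h2 : (1 : Bb) ⊗ₜ[B] m = 0 ↔ (1 : B ⧸ I) ⊗ₜ[B] m = 0 := by
    rw [← (TensorProduct.congr e0.toLinearEquiv (LinearEquiv.refl B M)).map_eq_zero_iff,
      TensorProduct.congr_tmul]
    simp
  rw [h1, h2, ← LinearMap.ker_tensorProductMk (R := B) (Q := M) (I := I), LinearMap.mem_ker]
  rfl

end Ker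

section Transfer

variable {B Bb N Nb : Type*} [CommRing B] [CommRing Bb] [Algebra B Bb]
  [AddCommGroup N] [Module B N] [AddCommGroup Nb] [Module Bb Nb] [Module B Nb]
  [IsScalarTower B Bb Nb]

/-- If `B → B̄` is surjective with kernel `I` and `l : N → N̄` is a surjective `B`-linear map with
kernel `I N`, then `N̄` is flat over `B̄` iff `(B/I) ⊗ N` is flat over `B/I`. -/
theorem flat_iff_of_surjective_ker (hs : Surjective (algebraMap B Bb)) (I : Ideal B)
    (hI : RingHom.ker (algebraMap B Bb) = I) (l : N →ₗ[B] Nb) (hl : Surjective l)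
    (hker : ∀ x, l x = 0 ↔ x ∈ I • (⊤ : Submodule B N)) :
    Module.Flat Bb Nb ↔ Module.Flat (B ⧸ I) ((B ⧸ I) ⊗[B] N) := by
  have hk : I • (⊤ : Submodule B N) = LinearMap.ker l := by
    ext x
    rw [LinearMap.mem_ker, hker]
  let φ : (B ⧸ I) ⊗[B] N ≃ₗ[B] Nb :=
    (TensorProduct.quotTensorEquivQuotSMul N I) ≪≫ₗ (Submodule.quotEquivOfEq _ _ hk) ≪≫ₗ
      l.quotKerEquivOfSurjective hl
  let β : B ⧸ I ≃+* Bb :=
    (Ideal.quotEquivOfEq hI.symm).trans (RingHom.quotientKerEquivOfSurjective hs)
  have hβ : ∀ a : B, β (Ideal.Quotient.mk I a) = algebraMap B Bb a := fun a => rfl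
  have hφ : ∀ (a : B ⧸ I) (x : (B ⧸ I) ⊗[B] N), φ (a • x) = β a • φ x := by
    intro a x
    obtain ⟨a, rfl⟩ := Ideal.Quotient.mk_surjective a
    rw [hβ, algebraMap_smul, ← map_smul]
    congr 1
  constructor
  · intro h
    exact flat_of_ringEquiv_semilinear β.symm φ.symm.toAddEquiv (fun a x => by
      apply φ.injective
      change φ (φ.symm (a • x)) = φ (β.symm a • φ.symm x)
      rw [hφ, LinearEquiv.apply_symm_apply, LinearEquiv.apply_symm_apply,
        RingEquiv.apply_symm_apply]) h
  · intro h
    exact flat_of_ringEquiv_semilinear β φ.toAddEquiv hφ h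

end Transfer

section LemmaI

variable {B Bb C Cb M Mb : Type u} [CommRing B] [CommRing Bb] [CommRing C] [CommRing Cb]
  [Algebra B Bb] [Algebra B C] [Algebra Bb Cb] [Algebra C Cb] [Algebra B Cb]
  [IsScalarTower B Bb Cb] [IsScalarTower B C Cb] [Algebra.IsPushout B Bb C Cb]
  [AddCommGroup M] [Module C M] [Module B M] [IsScalarTower B C M]
  [AddCommGroup Mb] [Module Cb Mb] [Module Bb Mb] [IsScalarTower Bb Cb Mb] [Module C Mb]
  [IsScalarTower C Cb Mb]

/-- **Fibre identification**: for a surjection `B → B̄` with kernel `I`, pushout `C̄ = B̄ ⊗ C` and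
base change `M̄`, flatness of `M̄` at `Q̄` over `B̄` is flatness of `(B/I) ⊗ M_Q` over `B/I`. -/
theorem flatAt_quotient_iff (hs : Surjective (algebraMap B Bb)) (I : Ideal B)
    (hI : RingHom.ker (algebraMap B Bb) = I)
    (ψ : M →ₗ[C] Mb) (hψ : IsBaseChange Cb ψ) (Qb : Ideal Cb) [Qb.IsPrime] (Q : Ideal C)
    [Q.IsPrime] (hQ : Qb.comap (algebraMap C Cb) = Q) :
    Module.Flat Bb (LocalizedModule Qb.primeCompl Mb) ↔
      Module.Flat (B ⧸ I) ((B ⧸ I) ⊗[B] LocalizedModule Q.primeCompl M) := by
  classical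
  -- `B`-module structure on `M̄`
  letI : Module B Mb := Module.compHom Mb (algebraMap B Cb)
  have hsm : ∀ (b : B) (m : Mb), b • m = algebraMap B Cb b • m := fun _ _ => rfl
  haveI : IsScalarTower B Cb Mb := ⟨fun b c m => by
    rw [hsm b (c • m), Algebra.smul_def, mul_smul]⟩
  haveI : IsScalarTower B C Mb := ⟨fun b c m => by
    rw [hsm b (c • m), ← algebraMap_smul Cb (b • c) m, ← algebraMap_smul Cb c m, Algebra.smul_def,
      map_mul, ← IsScalarTower.algebraMap_apply, mul_smul]⟩
  haveI : IsScalarTower B Bb Mb := ⟨fun b c m => by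
    rw [hsm b (c • m), ← algebraMap_smul Cb (b • c) m, ← algebraMap_smul Cb c m, Algebra.smul_def,
      map_mul, ← IsScalarTower.algebraMap_apply, mul_smul]⟩
  have hsC : Surjective (algebraMap C Cb) :=
    Groth.Agent.Lib.DeformRing88.surjective_of_isPushout (R' := B) (R := Bb) (B' := C) (B := Cb) hs
  -- `ψ` as a base change along `B → B̄`
  have hψB : IsBaseChange Bb (ψ.restrictScalars B) :=
    IsBaseChange.of_equiv (bcEquiv ψ hψ) (fun x => by
      rw [bcEquiv_tmul, one_smul]; rfl)
  have hψsurj : Surjective ψ := surjective_of_isBaseChange hs (ψ.restrictScalars B) hψB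
  -- localizations
  set W := Q.primeCompl with hW
  set Wb := Qb.primeCompl with hWb
  have hWW : Wb = Algebra.algebraMapSubmonoid Cb W := by
    ext x
    constructor
    · intro hx
      obtain ⟨c, rfl⟩ := hsC x
      refine ⟨c, ?_, rfl⟩
      intro hc
      apply hx
      rw [← hQ] at hc
      exact hc
    · rintro ⟨c, hc, rfl⟩
      intro hx
      apply hc
      rw [← hQ]
      exact hx
  let f₂ : M →ₗ[C] LocalizedModule W M := LocalizedModule.mkLinearMap W M
  let f₃' : Mb →ₗ[Cb] LocalizedModule Wb Mb := LocalizedModule.mkLinearMap Wb Mb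
  haveI h3' : IsLocalizedModule (Algebra.algebraMapSubmonoid Cb W) f₃' := by
    rw [← hWW]
    infer_instance
  haveI h3 : IsLocalizedModule W (f₃'.restrictScalars C) :=
    IsLocalizedModule.restrictScalars W f₃'
  let lam : LocalizedModule W M →ₗ[C] LocalizedModule Wb Mb :=
    IsLocalizedModule.map W f₂ (f₃'.restrictScalars C) ψ
  have hlam_surj : Surjective lam :=
    IsLocalizedModule.map_surjective W f₂ (f₃'.restrictScalars C) ψ hψsurj
  have hkerψ : ∀ m : M, ψ m = 0 ↔ m ∈ I • (⊤ : Submodule B M) := fun m => by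
    rw [← hI]
    exact ker_of_isBaseChange hs (ψ.restrictScalars B) hψB m
  have hmem : ∀ y : M, y ∈ I • (⊤ : Submodule B M) → ∀ u : W,
      IsLocalizedModule.mk' f₂ y u ∈ I • (⊤ : Submodule B (LocalizedModule W M)) := by
    intro y hy
    refine Submodule.smul_induction_on hy ?_ ?_
    · intro i hi y' _ u
      have : IsLocalizedModule.mk' f₂ (i • y') u = i • IsLocalizedModule.mk' f₂ y' u := by
        rw [← algebraMap_smul C i y', ← algebraMap_smul C i (IsLocalizedModule.mk' f₂ y' u),
          IsLocalizedModule.mk'_smul]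
      rw [this]
      exact Submodule.smul_mem_smul hi trivial
    · intro y₁ y₂ h₁ h₂ u
      rw [IsLocalizedModule.mk'_add]
      exact Submodule.add_mem _ (h₁ u) (h₂ u)
  have hker : ∀ x, (lam.restrictScalars B) x = 0 ↔
      x ∈ I • (⊤ : Submodule B (LocalizedModule W M)) := by
    intro x
    constructor
    · intro hx
      obtain ⟨⟨m, s⟩, rfl⟩ := IsLocalizedModule.mk'_surjective W f₂ x
      have h1 : IsLocalizedModule.mk' (f₃'.restrictScalars C) (ψ m) s = 0 := by
        have := IsLocalizedModule.map_mk' W f₂ (f₃'.restrictScalars C) ψ m s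
        rw [← this]
        exact hx
      obtain ⟨t, ht⟩ := (IsLocalizedModule.mk'_eq_zero' (f₃'.restrictScalars C) s).mp h1
      have h2 : ψ ((t : C) • m) = 0 := by rw [map_smul]; exact ht
      have h3 := (hkerψ _).mp h2
      have h4 := hmem _ h3 (t * s)
      have h5 : IsLocalizedModule.mk' f₂ ((t : C) • m) (t * s) = IsLocalizedModule.mk' f₂ m s :=
        IsLocalizedModule.mk'_cancel_left f₂ m t s
      rw [Function.uncurry_apply_pair, ← h5]
      exact h4
    · intro hx
      refine Submodule.smul_induction_on hx ?_ ?_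
      · intro i hi y _
        rw [map_smul, ← algebraMap_smul Bb i, (RingHom.mem_ker).mp (hI ▸ hi), zero_smul]
      · intro y₁ y₂ h₁ h₂
        rw [map_add, h₁, h₂, add_zero]
  exact flat_iff_of_surjective_ker hs I hI (lam.restrictScalars B) hlam_surj hker

end LemmaI

end Groth.Agent.Lib.CritFibA88
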