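import Groth.Agent.Lib.FlatLimIntModel88

/-!
# From explicit tensor stages to abstract pushout / base change data (helper88)

Given a model `e : R ⊗[k] S₀ ≃ₐ[R] S`, `ε : R ⊗[k] M₀ ≃ₗ[R] M` (semilinear over `e`) and a
`k`-algebra `A` with a `k`-algebra map to `R` (e.g. a subalgebra), the stage `(A ⊗[k] S₀, A ⊗[k] M₀)`
maps to `(S, M)`:

* `stageAlgebra e A : Algebra (A ⊗[k] S₀) S`, `stageModuleTop e A : Module (A ⊗[k] S₀) M`;
* `isPushout_stage : Algebra.IsPushout A R (A ⊗[k] S₀) S`;
* `stageMap e ε hε A : A ⊗[k] M₀ →ₗ[A ⊗[k] S₀] M` with `isBaseChange_stageMap : IsBaseChange S _`.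
-/

set_option autoImplicit false
set_option maxHeartbeats 400000
set_option linter.style.haveILetI false
set_option linter.unusedSectionVars false

namespace Groth.Agent.Lib.StageAbs88

open TensorProduct Function Groth.Agent.Lib.FlatLimStage88 Groth.Agent.Lib.FlatLimGlobal88
open scoped Groth.Agent.Lib.FlatLimStage88

universe u

section

variable {k R S₀ S M₀ M : Type u} [CommRing k] [CommRing R] [Algebra k R] [CommRing S₀]
  [Algebra k S₀] [CommRing S] [Algebra R S]
  [AddCommGroup M₀] [Module k M₀] [Module S₀ M₀] [IsScalarTower k S₀ M₀]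
  [AddCommGroup M] [Module S M] [Module R M] [IsScalarTower R S M]
  (e : R ⊗[k] S₀ ≃ₐ[R] S) (ε : R ⊗[k] M₀ ≃ₗ[R] M)
  (hε : ∀ (c : R ⊗[k] S₀) (y : R ⊗[k] M₀), ε (c • y) = e c • ε y)
  (A : Type u) [CommRing A] [Algebra k A] [Algebra A R] [IsScalarTower k A R]

/-- The stage ring `A ⊗[k] S₀` maps to `S`. -/
@[reducible] noncomputable def stageAlgebra : Algebra (A ⊗[k] S₀) S :=
  ((e : R ⊗[k] S₀ →+* S).comp
    (sMap (IsScalarTower.toAlgHom k A R) S₀ : A ⊗[k] S₀ →+* R ⊗[k] S₀)).toAlgebra

/-- `M` as a module over the stage ring. -/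
@[reducible] noncomputable def stageModuleTop : Module (A ⊗[k] S₀) M :=
  letI := stageAlgebra e A
  Module.compHom M (algebraMap (A ⊗[k] S₀) S)

theorem stage_algebraMap_apply (x : A ⊗[k] S₀) :
    letI := stageAlgebra e A
    algebraMap (A ⊗[k] S₀) S x = e (sMap (IsScalarTower.toAlgHom k A R) S₀ x) := rfl

theorem sMap_smul_left (a : A) (x : A ⊗[k] S₀) :
    sMap (IsScalarTower.toAlgHom k A R) S₀ (a • x) =
      algebraMap A R a • sMap (IsScalarTower.toAlgHom k A R) S₀ x := by
  induction x with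
  | zero => simp
  | add x y hx hy => simp only [smul_add, map_add, hx, hy]
  | tmul b s => simp [TensorProduct.smul_tmul', sMap_tmul, Algebra.smul_def]

variable [Algebra A S] [IsScalarTower A R S]

theorem isScalarTower_stage :
    letI := stageAlgebra e A
    IsScalarTower A (A ⊗[k] S₀) S := by
  letI := stageAlgebra e A
  refine IsScalarTower.of_algebraMap_eq fun a => ?_
  rw [stage_algebraMap_apply, Algebra.TensorProduct.algebraMap_apply, sMap_tmul,
    Algebra.algebraMap_self_apply, IsScalarTower.coe_toAlgHom']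
  have h1 : (algebraMap A R a) ⊗ₜ[k] (1 : S₀) = algebraMap R (R ⊗[k] S₀) (algebraMap A R a) := by
    rw [Algebra.TensorProduct.algebraMap_apply, Algebra.algebraMap_self_apply]
  rw [h1, AlgEquiv.commutes, ← IsScalarTower.algebraMap_apply]

theorem isPushout_stage :
    letI := stageAlgebra e A
    haveI := isScalarTower_stage e A
    Algebra.IsPushout A R (A ⊗[k] S₀) S := by
  letI := stageAlgebra e A
  haveI := isScalarTower_stage e A
  constructor
  refine IsBaseChange.of_equiv
    ((Algebra.TensorProduct.cancelBaseChange k A R R S₀).toLinearEquiv ≪≫ₗ e.toLinearEquiv) ?_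
  intro x
  simp only [LinearEquiv.trans_apply, AlgEquiv.toLinearEquiv_apply]
  rw [cancelBaseChange_one_tmul']
  rfl

variable [Module A M] [IsScalarTower A R M]

theorem stage_smul_def (x : A ⊗[k] S₀) (z : M) :
    letI := stageModuleTop e A (M := M)
    x • z = e (sMap (IsScalarTower.toAlgHom k A R) S₀ x) • z := rfl

theorem isScalarTower_stageModuleTop :
    letI := stageAlgebra e A
    letI := stageModuleTop e A (M := M)
    IsScalarTower (A ⊗[k] S₀) S M := by
  letI := stageAlgebra e A
  letI := stageModuleTop e A (M := M)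
  exact ⟨fun x y z => by
    change (algebraMap (A ⊗[k] S₀) S x * y) • z = algebraMap (A ⊗[k] S₀) S x • (y • z)
    rw [mul_smul]⟩

/-- The stage module maps to `M`. -/
noncomputable def stageMap :
    letI := stageModuleTop e A (M := M)
    A ⊗[k] M₀ →ₗ[A ⊗[k] S₀] M :=
  letI := stageModuleTop e A (M := M)
  { toFun := fun y => ε (mMap (IsScalarTower.toAlgHom k A R) M₀ y)
    map_add' := fun y y' => by rw [map_add, map_add]
    map_smul' := fun c y => by
      rw [RingHom.id_apply, mMap_smul, hε]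
      rfl }

theorem stageMap_apply (y : A ⊗[k] M₀) :
    stageMap e ε hε A y = ε (mMap (IsScalarTower.toAlgHom k A R) M₀ y) := rfl

set_option synthInstance.maxHeartbeats 400000 in
theorem isBaseChange_stageMap :
    letI := stageAlgebra e A
    letI := stageModuleTop e A (M := M)
    haveI := isScalarTower_stageModuleTop e A (M := M)
    IsBaseChange S (stageMap e ε hε A) := by
  letI := stageAlgebra e A
  letI := stageModuleTop e A (M := M)
  haveI := isScalarTower_stage e A
  haveI := isScalarTower_stageModuleTop e A (M := M)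
  haveI hpush := isPushout_stage e A
  let f := stageMap e ε hε A
  let Λ : S ⊗[A ⊗[k] S₀] (A ⊗[k] M₀) →ₗ[S] M :=
    (TensorProduct.isBaseChange (A ⊗[k] S₀) (A ⊗[k] M₀) S).lift f
  have hΛ : ∀ (s : S) (y : A ⊗[k] M₀), Λ (s ⊗ₜ y) = s • f y := by
    intro s y
    have h0 : s ⊗ₜ[A ⊗[k] S₀] y = s • ((1 : S) ⊗ₜ[A ⊗[k] S₀] y) := by
      rw [TensorProduct.smul_tmul', smul_eq_mul, mul_one]
    rw [h0, map_smul]
    congr 1
    exact (TensorProduct.isBaseChange (A ⊗[k] S₀) (A ⊗[k] M₀) S).lift_eq f y
  let Λ'' : S ⊗[A ⊗[k] S₀] (A ⊗[k] M₀) ≃ₗ[R] M :=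
    (Algebra.IsPushout.cancelBaseChange A R (A ⊗[k] S₀) S (A ⊗[k] M₀)) ≪≫ₗ
      (AlgebraTensorModule.cancelBaseChange k A R R M₀) ≪≫ₗ ε
  have hcomp : ∀ m : M, Λ (Λ''.symm m) = m := by
    intro m
    obtain ⟨t, rfl⟩ := ε.surjective m
    induction t with
    | zero => simp
    | add a b ha hb => simp only [map_add, ha, hb]
    | tmul r x =>
      have h1 : Λ''.symm (ε (r ⊗ₜ x)) = (algebraMap R S r) ⊗ₜ ((1 : A) ⊗ₜ[k] x) := by
        simp only [Λ'', LinearEquiv.trans_symm, LinearEquiv.trans_apply,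
          LinearEquiv.symm_apply_apply]
        rw [AlgebraTensorModule.cancelBaseChange_symm_tmul,
          Algebra.IsPushout.cancelBaseChange_symm_tmul]
      rw [h1, hΛ, stageMap_apply, mMap_tmul, algebraMap_smul, ← map_smul,
        TensorProduct.smul_tmul', map_one, smul_eq_mul, mul_one]
  have hbij : Function.Bijective Λ := by
    have h2 : (Λ : _ → M) = Λ'' := by
      funext z
      obtain ⟨m, rfl⟩ := Λ''.symm.surjective z
      rw [hcomp, LinearEquiv.apply_symm_apply]
    rw [h2]
    exact Λ''.bijective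
  exact IsBaseChange.of_equiv (LinearEquiv.ofBijective Λ hbij) (fun y => by
    rw [LinearEquiv.ofBijective_apply, hΛ, one_smul])

end

end Groth.Agent.Lib.StageAbs88
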