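import Groth.Agent.Lib.CritFibA88
import Groth.Agent.Lib.StageAbs88

set_option autoImplicit false
set_option maxHeartbeats 400000
set_option linter.style.haveILetI false
set_option linter.unusedSectionVars false

open TensorProduct Function
open Groth.Agent.Lib.FlatLimStage88 Groth.Agent.Lib.FlatLimGlobal88 Groth.Agent.Lib.CritFibA88
open scoped Groth.Agent.Lib.FlatLimStage88

/-!
# Explicit stages `X ⊗[k] B₀ → X ⊗[k] C₀`, `X ⊗[k] M₀` for the fibrewise criterion (helper88)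

For a fixed tower `k → B₀ → C₀` and `C₀`-module `M₀`, every `k`-algebra `X` gives a stage
`(X ⊗ B₀ → X ⊗ C₀, X ⊗ M₀)`. For a `k`-algebra map `X → Y`:
* `asc_stage`: flatness of the stage module over `X ⊗ B₀` at a prime ascends to `Y`;
* `desc_stage`: it descends when `Y` is flat over `X`;
* `quot_stage`: for `X → Y` surjective it is the fibre condition `(B/I) ⊗ M_Q` flat over `B/I`;
* `noeth_stage`: the Noetherian local criterion at a stage.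
-/

universe u

namespace Groth.Agent.Lib.CritFibB88

variable {k B₀ C₀ M₀ : Type u} [CommRing k] [CommRing B₀] [CommRing C₀]
  [Algebra k B₀] [Algebra B₀ C₀] [Algebra k C₀] [IsScalarTower k B₀ C₀]
  [AddCommGroup M₀] [Module C₀ M₀] [Module B₀ M₀] [Module k M₀]
  [IsScalarTower B₀ C₀ M₀] [IsScalarTower k C₀ M₀] [IsScalarTower k B₀ M₀]

section Stage

variable (k B₀ C₀) (X : Type u) [CommRing X] [Algebra k X]

/-- The stage algebra map `X ⊗ B₀ → X ⊗ C₀`. -/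
noncomputable def bcHom : X ⊗[k] B₀ →ₐ[X] X ⊗[k] C₀ :=
  Algebra.TensorProduct.map (AlgHom.id X X) (IsScalarTower.toAlgHom k B₀ C₀)

theorem stage_smul_eq (r : X ⊗[k] B₀) (x : X ⊗[k] C₀) :
    r • x = bcHom k B₀ C₀ X r * x := by
  induction r with
  | zero => simp
  | add r₁ r₂ h₁ h₂ => rw [add_smul, h₁, h₂, map_add, add_mul]
  | tmul a b =>
    induction x with
    | zero => simp
    | add x₁ x₂ h₁ h₂ => rw [smul_add, h₁, h₂, mul_add]
    | tmul a' c =>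
      rw [tmul_smul_tmul, bcHom, Algebra.TensorProduct.map_tmul,
        Algebra.TensorProduct.tmul_mul_tmul, Algebra.smul_def]
      rfl

/-- `X ⊗ C₀` as an algebra over `X ⊗ B₀` (scalar action = the stage module action). -/
@[instance_reducible] noncomputable def algBC : Algebra (X ⊗[k] B₀) (X ⊗[k] C₀) where
  toSMul := (stageModule k X B₀ C₀).toDistribMulAction.toMulAction.toSMul
  algebraMap := (bcHom k B₀ C₀ X).toRingHom
  commutes' _ _ := mul_comm _ _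
  smul_def' r x := stage_smul_eq k B₀ C₀ X r x

scoped[Groth.Agent.Lib.CritFibB88] attribute [instance 1100] algBC

variable {k B₀ C₀ X}

theorem algebraMap_BC_tmul (x : X) (b : B₀) :
    algebraMap (X ⊗[k] B₀) (X ⊗[k] C₀) (x ⊗ₜ[k] b) = x ⊗ₜ[k] algebraMap B₀ C₀ b := rfl

instance : IsScalarTower X (X ⊗[k] B₀) (X ⊗[k] C₀) :=
  IsScalarTower.of_algebraMap_eq (fun x => ((bcHom k B₀ C₀ X).commutes x).symm)

instance (priority := 1100) : IsScalarTower (X ⊗[k] B₀) (X ⊗[k] C₀) (X ⊗[k] C₀) :=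
  IsScalarTower.right

instance (priority := 1100) : IsScalarTower (X ⊗[k] B₀) (X ⊗[k] C₀) (X ⊗[k] M₀) where
  smul_assoc b c m := by
    induction b with
    | zero => simp
    | add b₁ b₂ h₁ h₂ => rw [add_smul, add_smul, add_smul, h₁, h₂]
    | tmul x b =>
      induction c with
      | zero => simp
      | add c₁ c₂ h₁ h₂ => rw [smul_add, add_smul, add_smul, smul_add, h₁, h₂]
      | tmul x' c =>
        induction m with
        | zero => simp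
        | add m₁ m₂ h₁ h₂ => rw [smul_add, smul_add, smul_add, h₁, h₂]
        | tmul x'' m =>
          rw [tmul_smul_tmul, tmul_smul_tmul, tmul_smul_tmul, tmul_smul_tmul, smul_assoc,
            mul_assoc]

end Stage

section Pair

variable (k) (X Y : Type u) [CommRing X] [CommRing Y] [Algebra k X] [Algebra k Y] [Algebra X Y]
  [IsScalarTower k X Y]

/-- The transition algebra `X ⊗ S₀ → Y ⊗ S₀`. -/
@[reducible] noncomputable def algXY (S₀ : Type u) [CommRing S₀] [Algebra k S₀] :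
    Algebra (X ⊗[k] S₀) (Y ⊗[k] S₀) :=
  Groth.Agent.Lib.StageAbs88.stageAlgebra (AlgEquiv.refl : Y ⊗[k] S₀ ≃ₐ[Y] Y ⊗[k] S₀) X

theorem algebraMap_XY_apply (S₀ : Type u) [CommRing S₀] [Algebra k S₀] (x : X ⊗[k] S₀) :
    letI := algXY k X Y S₀
    algebraMap (X ⊗[k] S₀) (Y ⊗[k] S₀) x = sMap (IsScalarTower.toAlgHom k X Y) S₀ x := rfl

variable (B₀ C₀ M₀)

set_option hygiene false in
/-- Sets up the instance package for a morphism of stages `X → Y`. -/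
macro "pair_setup" : tactic => `(tactic| (
  letI aB := algXY k X Y B₀
  letI aC := algXY k X Y C₀
  haveI tXB : IsScalarTower X (X ⊗[k] B₀) (Y ⊗[k] B₀) :=
    Groth.Agent.Lib.StageAbs88.isScalarTower_stage (AlgEquiv.refl : Y ⊗[k] B₀ ≃ₐ[Y] Y ⊗[k] B₀) X
  haveI tXC : IsScalarTower X (X ⊗[k] C₀) (Y ⊗[k] C₀) :=
    Groth.Agent.Lib.StageAbs88.isScalarTower_stage (AlgEquiv.refl : Y ⊗[k] C₀ ≃ₐ[Y] Y ⊗[k] C₀) X
  haveI pB : Algebra.IsPushout X Y (X ⊗[k] B₀) (Y ⊗[k] B₀) :=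
    Groth.Agent.Lib.StageAbs88.isPushout_stage (AlgEquiv.refl : Y ⊗[k] B₀ ≃ₐ[Y] Y ⊗[k] B₀) X
  haveI pC : Algebra.IsPushout X Y (X ⊗[k] C₀) (Y ⊗[k] C₀) :=
    Groth.Agent.Lib.StageAbs88.isPushout_stage (AlgEquiv.refl : Y ⊗[k] C₀ ≃ₐ[Y] Y ⊗[k] C₀) X
  letI aBC : Algebra (X ⊗[k] B₀) (Y ⊗[k] C₀) :=
    ((algebraMap (X ⊗[k] C₀) (Y ⊗[k] C₀)).comp (algebraMap (X ⊗[k] B₀) (X ⊗[k] C₀))).toAlgebra
  haveI t1 : IsScalarTower (X ⊗[k] B₀) (X ⊗[k] C₀) (Y ⊗[k] C₀) :=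
    IsScalarTower.of_algebraMap_eq (fun _ => rfl)
  haveI t2 : IsScalarTower (X ⊗[k] B₀) (Y ⊗[k] B₀) (Y ⊗[k] C₀) :=
    IsScalarTower.of_algebraMap_eq (fun b => by
      induction b with
      | zero => simp
      | add b₁ b₂ h₁ h₂ => rw [map_add, map_add, map_add, h₁, h₂]
      | tmul x b => rfl)
  haveI t3 : IsScalarTower X (Y ⊗[k] B₀) (Y ⊗[k] C₀) :=
    IsScalarTower.of_algebraMap_eq (fun x => by
      rw [IsScalarTower.algebraMap_apply X Y (Y ⊗[k] C₀),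
        IsScalarTower.algebraMap_apply X Y (Y ⊗[k] B₀),
        ← IsScalarTower.algebraMap_apply Y (Y ⊗[k] B₀) (Y ⊗[k] C₀)])
  haveI pBC : Algebra.IsPushout (X ⊗[k] B₀) (Y ⊗[k] B₀) (X ⊗[k] C₀) (Y ⊗[k] C₀) := by
    have h1 : Algebra.IsPushout X (X ⊗[k] B₀) Y (Y ⊗[k] B₀) := pB.symm
    have h2 : Algebra.IsPushout X (X ⊗[k] C₀) Y (Y ⊗[k] C₀) := pC.symm
    have h3 : Algebra.IsPushout (X ⊗[k] B₀) (X ⊗[k] C₀) (Y ⊗[k] B₀) (Y ⊗[k] C₀) :=
      (Algebra.IsPushout.comp_iff X (X ⊗[k] B₀) Y (Y ⊗[k] B₀) (T := X ⊗[k] C₀)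
        (T' := Y ⊗[k] C₀)).mp h2
    exact h3.symm
  letI mCY : Module (X ⊗[k] C₀) (Y ⊗[k] M₀) :=
    Groth.Agent.Lib.StageAbs88.stageModuleTop (AlgEquiv.refl : Y ⊗[k] C₀ ≃ₐ[Y] Y ⊗[k] C₀) X
  haveI tCM : IsScalarTower (X ⊗[k] C₀) (Y ⊗[k] C₀) (Y ⊗[k] M₀) :=
    Groth.Agent.Lib.StageAbs88.isScalarTower_stageModuleTop
      (AlgEquiv.refl : Y ⊗[k] C₀ ≃ₐ[Y] Y ⊗[k] C₀) X
  let ψ : X ⊗[k] M₀ →ₗ[X ⊗[k] C₀] Y ⊗[k] M₀ :=
    Groth.Agent.Lib.StageAbs88.stageMap (AlgEquiv.refl : Y ⊗[k] C₀ ≃ₐ[Y] Y ⊗[k] C₀)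
      (LinearEquiv.refl Y (Y ⊗[k] M₀)) (fun _ _ => rfl) X
  have hψ : IsBaseChange (Y ⊗[k] C₀) ψ :=
    Groth.Agent.Lib.StageAbs88.isBaseChange_stageMap (AlgEquiv.refl : Y ⊗[k] C₀ ≃ₐ[Y] Y ⊗[k] C₀)
      (LinearEquiv.refl Y (Y ⊗[k] M₀)) (fun _ _ => rfl) X))

set_option synthInstance.maxHeartbeats 400000 in
/-- **Ascent for stages**. -/
theorem asc_stage (QY : Ideal (Y ⊗[k] C₀)) [QY.IsPrime] (QX : Ideal (X ⊗[k] C₀)) [QX.IsPrime]
    (hQ : QY.comap (sMap (IsScalarTower.toAlgHom k X Y) C₀) = QX)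
    (h : Module.Flat (X ⊗[k] B₀) (LocalizedModule QX.primeCompl (X ⊗[k] M₀))) :
    Module.Flat (Y ⊗[k] B₀) (LocalizedModule QY.primeCompl (Y ⊗[k] M₀)) := by
  pair_setup
  exact flatAt_baseChange ψ hψ QY QX hQ h

set_option synthInstance.maxHeartbeats 400000 in
/-- **Descent for stages** along a flat map `X → Y`. -/
theorem desc_stage [Module.Flat X Y] (QY : Ideal (Y ⊗[k] C₀)) [QY.IsPrime]
    (QX : Ideal (X ⊗[k] C₀)) [QX.IsPrime]
    (hQ : QY.comap (sMap (IsScalarTower.toAlgHom k X Y) C₀) = QX)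
    (h : Module.Flat (Y ⊗[k] B₀) (LocalizedModule QY.primeCompl (Y ⊗[k] M₀))) :
    Module.Flat (X ⊗[k] B₀) (LocalizedModule QX.primeCompl (X ⊗[k] M₀)) := by
  pair_setup
  haveI fB : Module.Flat (X ⊗[k] B₀) (Y ⊗[k] B₀) :=
    Module.Flat.isBaseChange X (X ⊗[k] B₀) Y (Y ⊗[k] B₀) pB.symm.out
  haveI fC : Module.Flat (X ⊗[k] C₀) (Y ⊗[k] C₀) :=
    Module.Flat.isBaseChange X (X ⊗[k] C₀) Y (Y ⊗[k] C₀) pC.symm.out
  exact flatAt_descend ψ hψ QY QX hQ h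

set_option synthInstance.maxHeartbeats 400000 in
/-- **Fibre identification for stages** along a surjection `X → Y`. -/
theorem quot_stage (hs : Surjective (algebraMap X Y)) (QY : Ideal (Y ⊗[k] C₀)) [QY.IsPrime]
    (QX : Ideal (X ⊗[k] C₀)) [QX.IsPrime]
    (hQ : QY.comap (sMap (IsScalarTower.toAlgHom k X Y) C₀) = QX) :
    Module.Flat (Y ⊗[k] B₀) (LocalizedModule QY.primeCompl (Y ⊗[k] M₀)) ↔
      Module.Flat ((X ⊗[k] B₀) ⧸ (RingHom.ker (algebraMap X Y)).map (algebraMap X (X ⊗[k] B₀)))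
        (((X ⊗[k] B₀) ⧸ (RingHom.ker (algebraMap X Y)).map (algebraMap X (X ⊗[k] B₀)))
          ⊗[X ⊗[k] B₀] LocalizedModule QX.primeCompl (X ⊗[k] M₀)) := by
  pair_setup
  have hsB : Surjective (algebraMap (X ⊗[k] B₀) (Y ⊗[k] B₀)) :=
    Groth.Agent.Lib.DeformRing88.surjective_of_isPushout (R' := X) (R := Y) (B' := X ⊗[k] B₀)
      (B := Y ⊗[k] B₀) hs
  have hI : RingHom.ker (algebraMap (X ⊗[k] B₀) (Y ⊗[k] B₀)) =
      (RingHom.ker (algebraMap X Y)).map (algebraMap X (X ⊗[k] B₀)) :=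
    Groth.Agent.Lib.DeformRing88.ker_eq_map_of_isPushout (R' := X) (R := Y) (B' := X ⊗[k] B₀)
      (B := Y ⊗[k] B₀) hs
  exact flatAt_quotient_iff hsB _ hI ψ hψ QY QX hQ

end Pair

section Noeth

variable (k B₀ C₀ M₀) (X : Type u) [CommRing X] [Algebra k X]

/-- **Noetherian step for a stage**. -/
theorem noeth_stage [IsNoetherianRing (X ⊗[k] B₀)] [IsNoetherianRing (X ⊗[k] C₀)]
    [Module.Finite (X ⊗[k] C₀) (X ⊗[k] M₀)] (Q : Ideal (X ⊗[k] C₀)) [Q.IsPrime] (p : Ideal X)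
    (hp : p.map (algebraMap X (X ⊗[k] C₀)) ≤ Q)
    (h1 : Module.Flat X (LocalizedModule Q.primeCompl (X ⊗[k] M₀)))
    (h2 : Module.Flat ((X ⊗[k] B₀) ⧸ p.map (algebraMap X (X ⊗[k] B₀)))
      (((X ⊗[k] B₀) ⧸ p.map (algebraMap X (X ⊗[k] B₀))) ⊗[X ⊗[k] B₀]
        LocalizedModule Q.primeCompl (X ⊗[k] M₀))) :
    Module.Flat (X ⊗[k] B₀) (LocalizedModule Q.primeCompl (X ⊗[k] M₀)) :=
  flatAt_of_noetherian Q p hp h1 h2

end Noeth

end Groth.Agent.Lib.CritFibB88
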