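import Mathlib
import Groth.Prelude.Def_FlatCA

/-!
# Lifting maps out of finitely presented algebras to a stage of a directed colimit (helper88)

`exists_lift_of_finitePresentation`: if `A'` is a finitely presented `k`-algebra and `A` is the
directed colimit (in the sense of `FlatCA.IsDirectedColimitRing`) of `k`-algebras `G i`, then every
`k`-algebra map `A' → A` lifts to some `G i`.
-/

set_option autoImplicit false
set_option maxHeartbeats 400000

namespace Groth.Agent.Lib.DirColimLift88

open Function

universe u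

theorem exists_lift_of_finitePresentation {k A' : Type u} [CommRing k] [CommRing A'] [Algebra k A']
    [Algebra.FinitePresentation k A']
    {ι : Type u} [Preorder ι] (G : ι → Type u) [∀ i, CommRing (G i)] [∀ i, Algebra k (G i)]
    (g : ∀ i j, i ≤ j → G i →+* G j)
    (hg : ∀ i j (h : i ≤ j) (c : k), g i j h (algebraMap k (G i) c) = algebraMap k (G j) c)
    (A : Type u) [CommRing A] [Algebra k A] [∀ i, Algebra (G i) A] [∀ i, IsScalarTower k (G i) A]
    (hcolim : FlatCA.IsDirectedColimitRing G g A) (φ : A' →ₐ[k] A) :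
    ∃ (i : ι) (ψ : A' →ₐ[k] G i), ∀ a, algebraMap (G i) A (ψ a) = φ a := by
  classical
  obtain ⟨hdir, hne, hid, hcomp, hcompat, hsurj, hinj⟩ := hcolim
  haveI := hdir
  haveI := hne
  obtain ⟨n, f, hfsurj, hker⟩ := Algebra.FinitePresentation.out (R := k) (A := A')
  -- the transition maps as algebra homs
  let ga : ∀ i j, i ≤ j → G i →ₐ[k] G j := fun i j h =>
    { g i j h with commutes' := hg i j h }
  have hga : ∀ i j (h : i ≤ j) (x : G i), ga i j h x = g i j h x := fun _ _ _ _ => rfl
  have hcompat' : ∀ i j (h : i ≤ j) (x : G i),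
      algebraMap (G j) A (g i j h x) = algebraMap (G i) A x := fun i j h x => by
    have := congrArg (fun φ : G i →+* A => φ x) (hcompat i j h)
    simpa using this
  -- lifts of the generators
  choose ij yj hyj using fun j : Fin n => hsurj (φ (f (MvPolynomial.X j)))
  obtain ⟨i₀, hi₀⟩ := Finite.exists_le ij
  let y' : Fin n → G i₀ := fun j => g (ij j) i₀ (hi₀ j) (yj j)
  have hy' : ∀ j, algebraMap (G i₀) A (y' j) = φ (f (MvPolynomial.X j)) := fun j => by
    rw [hcompat', hyj]
  let ψ₀ : MvPolynomial (Fin n) k →ₐ[k] G i₀ := MvPolynomial.aeval y'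
  have hψ₀ : (IsScalarTower.toAlgHom k (G i₀) A).comp ψ₀ = φ.comp f := by
    apply MvPolynomial.algHom_ext
    intro j
    simp only [AlgHom.comp_apply, IsScalarTower.coe_toAlgHom', ψ₀, MvPolynomial.aeval_X]
    exact hy' j
  have hψ₀' : ∀ p, algebraMap (G i₀) A (ψ₀ p) = φ (f p) := fun p =>
    congrArg (fun F : MvPolynomial (Fin n) k →ₐ[k] A => F p) hψ₀
  -- kill the relations
  obtain ⟨T, hT⟩ := hker
  have hTker : ∀ r ∈ T, f r = 0 := fun r hr => by
    have : r ∈ RingHom.ker f.toRingHom := by rw [← hT]; exact Ideal.subset_span hr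
    exact this
  have key : ∀ r : T, ∃ j, ∃ h : i₀ ≤ j, g i₀ j h (ψ₀ r.1) = 0 := fun r => by
    apply hinj
    rw [hψ₀', hTker r.1 r.2, map_zero]
  choose jr hjr hjr0 using key
  obtain ⟨i₁', hi₁'⟩ := Finite.exists_le jr
  obtain ⟨i₁, h01, h11⟩ := hdir.directed i₀ i₁'
  have hjle : ∀ r : T, jr r ≤ i₁ := fun r => (hi₁' r).trans h11
  have hcomp' : ∀ i j l (hij : i ≤ j) (hjl : j ≤ l) (x : G i),
      g j l hjl (g i j hij x) = g i l (hij.trans hjl) x := fun i j l hij hjl x => by
    have := congrArg (fun φ : G i →+* G l => φ x) (hcomp i j l hij hjl)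
    simpa using this
  let ψ₁ : MvPolynomial (Fin n) k →ₐ[k] G i₁ := (ga i₀ i₁ h01).comp ψ₀
  have hψ₁ : ∀ p, ψ₁ p = g i₀ i₁ h01 (ψ₀ p) := fun p => rfl
  have hkill : ∀ p, f p = 0 → ψ₁ p = 0 := by
    intro p hp
    have hp' : p ∈ Ideal.span (T : Set (MvPolynomial (Fin n) k)) := by
      rw [hT]; exact hp
    refine Submodule.span_induction ?_ ?_ ?_ ?_ hp'
    · intro r hr
      rw [hψ₁, ← hcomp' i₀ (jr ⟨r, hr⟩) i₁ (hjr ⟨r, hr⟩) (hjle ⟨r, hr⟩), hjr0 ⟨r, hr⟩, map_zero]
    · exact map_zero _
    · intro a b _ _ ha hb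
      rw [map_add, ha, hb, add_zero]
    · intro c a _ ha
      rw [smul_eq_mul, map_mul, ha, mul_zero]
  -- define the lift
  let ψ : A' →ₐ[k] G i₁ :=
    { toFun := fun a => ψ₁ (Function.surjInv hfsurj a)
      map_one' := by
        have h1 : f (Function.surjInv hfsurj 1 - 1) = 0 := by
          rw [map_sub, Function.surjInv_eq hfsurj, map_one, sub_self]
        have := hkill _ h1
        rw [map_sub, map_one, sub_eq_zero] at this
        exact this
      map_mul' := fun a b => by
        have h1 : f (Function.surjInv hfsurj (a * b) -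
            Function.surjInv hfsurj a * Function.surjInv hfsurj b) = 0 := by
          rw [map_sub, map_mul, Function.surjInv_eq hfsurj, Function.surjInv_eq hfsurj,
            Function.surjInv_eq hfsurj, sub_self]
        have := hkill _ h1
        rw [map_sub, map_mul, sub_eq_zero] at this
        exact this
      map_zero' := by
        have h1 : f (Function.surjInv hfsurj 0) = 0 := Function.surjInv_eq hfsurj 0
        exact hkill _ h1
      map_add' := fun a b => by
        have h1 : f (Function.surjInv hfsurj (a + b) -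
            (Function.surjInv hfsurj a + Function.surjInv hfsurj b)) = 0 := by
          rw [map_sub, map_add, Function.surjInv_eq hfsurj, Function.surjInv_eq hfsurj,
            Function.surjInv_eq hfsurj, sub_self]
        have := hkill _ h1
        rw [map_sub, map_add, sub_eq_zero] at this
        exact this
      commutes' := fun c => by
        have h1 : f (Function.surjInv hfsurj (algebraMap k A' c) - algebraMap k _ c) = 0 := by
          rw [map_sub, Function.surjInv_eq hfsurj, AlgHom.commutes, sub_self]
        have := hkill _ h1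
        rw [map_sub, AlgHom.commutes, sub_eq_zero] at this
        exact this }
  refine ⟨i₁, ψ, fun a => ?_⟩
  change algebraMap (G i₁) A (ψ₁ (Function.surjInv hfsurj a)) = φ a
  rw [hψ₁, hcompat', hψ₀', Function.surjInv_eq hfsurj]

end Groth.Agent.Lib.DirColimLift88
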