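import Groth.Agent.Lib.FlatLimIntModel88
import Groth.Agent.Lib.DirColimLift88

/-!
# Flatness over a directed colimit descends to a stage (helper88)

* `exists_model_data`: a Noetherian model `(k, S₀, e, ub)` of a finitely presented algebra together
  with lifts of finitely many matrix entries.
* `exists_flat_stage_of_directed`: `k` Noetherian, `S₀` of finite type, `M₀` finite over `S₀`,
  `A = colim G i` a directed colimit of `k`-algebras with `A ⊗[k] M₀` flat over `A`; then
  `G i ⊗[k] M₀` is flat over `G i` for some `i`.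
* `flat_directed_iff`: EGA IV 11.2.6.1-type statement for finitely presented data over any base.
-/

set_option autoImplicit false
set_option maxHeartbeats 400000
set_option linter.style.haveILetI false

namespace Groth.Agent.Lib.FlatLimDirected88

open TensorProduct Function Groth.Agent.Lib.FlatLimStage88 Groth.Agent.Lib.FlatLimGlobal88
  Groth.Agent.Lib.FlatLimModel88
open scoped Groth.Agent.Lib.FlatLimStage88

universe u

/-- A Noetherian model of a finitely presented algebra with lifts of a finite matrix of elements. -/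
theorem exists_model_data {R S : Type u} [CommRing R] [CommRing S] [Algebra R S]
    [Algebra.FinitePresentation R S] {n m : ℕ} (u : Fin m → Fin n → S) :
    ∃ (k : Type u) (_ : CommRing k) (_ : Algebra k R) (S₀ : Type u) (_ : CommRing S₀)
      (_ : Algebra k S₀) (e : R ⊗[k] S₀ ≃ₐ[R] S) (ub : Fin m → Fin n → S₀),
      Algebra.FiniteType ℤ k ∧ Algebra.FiniteType k S₀ ∧
        ∀ j i, iota0 e (ub j i) = u j i := by
  classical
  let P := Algebra.Presentation.ofFinitePresentation R S
  choose ut hut using fun (j : Fin m) (i : Fin n) => P.algebraMap_surjective (u j i)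
  let s : Set R := ⋃ j, ⋃ i, ((ut j i).coeffs : Set R)
  have hs : s.Finite :=
    Set.finite_iUnion fun j => Set.finite_iUnion fun i => Finset.finite_toSet _
  let k := Algebra.adjoin P.Core s
  have : Algebra.FiniteType P.Core k := (Subalgebra.fg_iff_finiteType _).mp
    (Subalgebra.fg_def.mpr ⟨s, hs, rfl⟩)
  have hk : Algebra.FiniteType ℤ k :=
    Algebra.FiniteType.trans (S := P.Core) inferInstance inferInstance
  have hv : ∀ j i, ∃ v : MvPolynomial _ k, MvPolynomial.map (algebraMap k R) v = ut j i := by
    intro j i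
    have : ut j i ∈ Set.range (MvPolynomial.map (algebraMap k R)) := by
      rw [MvPolynomial.mem_range_map_iff_coeffs_subset]
      intro c hc
      have hcs : c ∈ s := Set.mem_iUnion.mpr ⟨j, Set.mem_iUnion.mpr ⟨i, hc⟩⟩
      exact ⟨⟨c, Algebra.subset_adjoin hcs⟩, rfl⟩
    exact this
  choose v hv using hv
  let S₀ := P.ModelOfHasCoeffs k
  let e : R ⊗[k] S₀ ≃ₐ[R] S := P.tensorModelOfHasCoeffsEquiv k
  let ub : Fin m → Fin n → S₀ := fun j i => Ideal.Quotient.mk _ (v j i)
  have hub : ∀ j i, iota0 e (ub j i) = u j i := by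
    intro j i
    rw [iota0_apply]
    change P.tensorModelOfHasCoeffsEquiv k ((1 : R) ⊗ₜ[k] Ideal.Quotient.mk _ (v j i)) = _
    rw [Algebra.Presentation.tensorModelOfHasCoeffsEquiv_tmul, map_one, one_mul,
      ← MvPolynomial.aeval_map_algebraMap R, hv, ← hut j i, Algebra.Generators.algebraMap_apply]
  exact ⟨k, inferInstance, inferInstance, S₀, inferInstance, inferInstance, e, ub, hk,
    inferInstance, hub⟩

/-- Descent of flatness from a directed colimit to a stage, Noetherian model form. -/
theorem exists_flat_stage_of_directed {k : Type u} [CommRing k] [IsNoetherianRing k]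
    (S₀ : Type u) {M₀ : Type u} [CommRing S₀] [Algebra k S₀] [Algebra.FiniteType k S₀]
    [AddCommGroup M₀] [Module k M₀] [Module S₀ M₀] [IsScalarTower k S₀ M₀] [Module.Finite S₀ M₀]
    {ι : Type u} [Preorder ι] (G : ι → Type u) [∀ i, CommRing (G i)] [∀ i, Algebra k (G i)]
    (g : ∀ i j, i ≤ j → G i →+* G j)
    (hg : ∀ i j (h : i ≤ j) (c : k), g i j h (algebraMap k (G i) c) = algebraMap k (G j) c)
    (A : Type u) [CommRing A] [Algebra k A] [∀ i, Algebra (G i) A] [∀ i, IsScalarTower k (G i) A]
    (hcolim : FlatCA.IsDirectedColimitRing G g A)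
    [Module.Flat A (A ⊗[k] M₀)] : ∃ i, Module.Flat (G i) (G i ⊗[k] M₀) := by
  classical
  obtain ⟨A', -, hA', hflat⟩ :=
    exists_fg_flat_global (k := k) S₀ (M₀ := M₀) (R := A) ⊥ Subalgebra.fg_bot
  have hft : Algebra.FiniteType k A' := (Subalgebra.fg_iff_finiteType A').mp hA'
  have hfp : Algebra.FinitePresentation k A' := Algebra.FinitePresentation.of_finiteType.mp hft
  obtain ⟨i, ψ, -⟩ :=
    Groth.Agent.Lib.DirColimLift88.exists_lift_of_finitePresentation G g hg A hcolim A'.val
  refine ⟨i, ?_⟩
  letI : Algebra A' (G i) := ψ.toRingHom.toAlgebra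
  haveI : IsScalarTower k A' (G i) := IsScalarTower.of_algebraMap_eq fun c => (ψ.commutes c).symm
  haveI : Module.Flat (G i) (G i ⊗[A'] (A' ⊗[k] M₀)) := inferInstance
  exact Module.Flat.of_linearEquiv
    (AlgebraTensorModule.cancelBaseChange k A' (G i) (G i) M₀).symm

end Groth.Agent.Lib.FlatLimDirected88
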