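import Groth.Agent.Lib.CritFibC88
import Groth.Agent.Lib.FlatLimDirected88

set_option autoImplicit false
set_option maxHeartbeats 400000
set_option linter.style.haveILetI false
set_option linter.unusedSectionVars false

open TensorProduct Function
open Groth.Agent.Lib.FlatLimStage88 Groth.Agent.Lib.FlatLimGlobal88 Groth.Agent.Lib.CritFibA88
  Groth.Agent.Lib.CritFibB88 Groth.Agent.Lib.CritFibC88 Groth.Agent.Lib.FlatLimCore88
  Groth.Agent.Lib.FlatLimModel88
open scoped Groth.Agent.Lib.FlatLimStage88 Groth.Agent.Lib.CritFibB88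

/-!
# Critère de platitude par fibres, finitely presented (non-Noetherian) form (helper88)

* `flat_of_fibre_noeth_base`: explicit stage form over a Noetherian base model.
* `exists_tower_model_data`: a Noetherian model of a tower `R → B → C` of finitely presented
  algebras together with lifts of a finite matrix over `C`.
* `exists_presentation_of_isLocalization`: clearing denominators in a presentation.
* `flat_fibre_transport`: transport of the closed fibre flatness hypothesis along `B' → B`.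
* `flat_of_fibre_fp`: **the criterion**: `R` local, `R → B → C` finitely presented, `Q` a prime of
  `C` over `𝔪_R`, `T = C_Q`, `N` a finitely presented `T`-module flat over `R` with
  `(B/𝔪B) ⊗ N` flat over `B/𝔪B`; then `N` is flat over `B`.
-/

universe u

namespace Groth.Agent.Lib.CritFibD88

section NoethBase

variable {k B₀ C₀ M₀ : Type u} [CommRing k] [CommRing B₀] [CommRing C₀]
  [Algebra k B₀] [Algebra B₀ C₀] [Algebra k C₀] [IsScalarTower k B₀ C₀]
  [AddCommGroup M₀] [Module C₀ M₀] [Module B₀ M₀] [Module k M₀]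
  [IsScalarTower B₀ C₀ M₀] [IsScalarTower k C₀ M₀] [IsScalarTower k B₀ M₀]
  (R : Type u) [CommRing R] [Algebra k R] [IsLocalRing R]

set_option synthInstance.maxHeartbeats 400000 in
/-- **Fibrewise criterion over a Noetherian base model.** -/
theorem flat_of_fibre_noeth_base [IsNoetherianRing k] [Algebra.FiniteType k B₀]
    [Algebra.FiniteType k C₀] [Module.Finite C₀ M₀]
    (Q : Ideal (R ⊗[k] C₀)) [Q.IsPrime]
    (hQ : (IsLocalRing.maximalIdeal R).map (algebraMap R (R ⊗[k] C₀)) ≤ Q)
    (h1 : Module.Flat R (LocalizedModule Q.primeCompl (R ⊗[k] M₀)))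
    (h2 : Module.Flat ((R ⊗[k] B₀) ⧸ (IsLocalRing.maximalIdeal R).map (algebraMap R (R ⊗[k] B₀)))
      (((R ⊗[k] B₀) ⧸ (IsLocalRing.maximalIdeal R).map (algebraMap R (R ⊗[k] B₀)))
        ⊗[R ⊗[k] B₀] LocalizedModule Q.primeCompl (R ⊗[k] M₀))) :
    Module.Flat (R ⊗[k] B₀) (LocalizedModule Q.primeCompl (R ⊗[k] M₀)) := by
  obtain ⟨A, hA, hflat⟩ := exists_fg_flat_stage (k := k) (S := C₀) (M := M₀) (R := R) Q
  have hA' := hflat A le_rfl hA
  have : Algebra.FiniteType k A := (Subalgebra.fg_iff_finiteType A).mp hA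
  have : IsNoetherianRing A := Algebra.FiniteType.isNoetherianRing k A
  have : IsNoetherianRing (A ⊗[k] B₀) := Algebra.FiniteType.isNoetherianRing A (A ⊗[k] B₀)
  have : IsNoetherianRing (A ⊗[k] C₀) := Algebra.FiniteType.isNoetherianRing A (A ⊗[k] C₀)
  exact flat_of_fibre_explicit (k := k) (B₀ := B₀) (C₀ := C₀) (M₀ := M₀) R A Q hQ hA' h2

end NoethBase

section L2

variable {A T N : Type u} [CommRing A] [CommRing T] [Algebra A T]
  [AddCommGroup N] [Module T N] [Module A N] [IsScalarTower A T N]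

/-- A `T`-module presented by a matrix with entries in the image of `A → T` is the base change of
the `A`-module presented by that matrix. -/
theorem exists_isBaseChange_model0 {n m : ℕ} (ub : Fin m → Fin n → A)
    (f : (Fin n → T) →ₗ[T] N) (hf : Surjective f)
    (hker : LinearMap.ker f = Submodule.span T
      (Set.range fun j i => algebraMap A T (ub j i))) :
    ∃ g' : Model0 ub →ₗ[A] N, IsBaseChange T g' := by
  let e1 : T ⊗[A] A ≃ₐ[T] T := Algebra.TensorProduct.rid A T T
  have hub1 : ∀ j i, iota0 e1 (ub j i) = algebraMap A T (ub j i) := by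
    intro j i
    rw [iota0_apply]
    simp [e1, Algebra.smul_def]
  let E1 : T ⊗[A] Model0 ub ≃ₗ[T] N :=
    modelEquiv e1 f (fun j i => algebraMap A T (ub j i)) hub1 hker hf
  let g' : Model0 ub →ₗ[A] N :=
    (E1.toLinearMap.restrictScalars A) ∘ₗ (TensorProduct.mk A T (Model0 ub) 1)
  exact ⟨g', IsBaseChange.of_equiv E1 (fun x => rfl)⟩

end L2

section L3

variable {k C₀ : Type u} [CommRing k] [CommRing C₀] [Algebra k C₀]
  (R : Type u) [CommRing R] [Algebra k R]

/-- The stage of the model module is the model module of the stage matrix. -/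
theorem exists_stage_model_equiv {n m : ℕ} (cb : Fin m → Fin n → C₀) :
    Nonempty (R ⊗[k] Model0 cb ≃ₗ[R ⊗[k] C₀] Model0 (fun j i => (1 : R) ⊗ₜ[k] cb j i)) := by
  let ub' : Fin m → Fin n → R ⊗[k] C₀ := fun j i => (1 : R) ⊗ₜ[k] cb j i
  let e2 : R ⊗[k] C₀ ≃ₐ[R] R ⊗[k] C₀ := AlgEquiv.refl
  let f2 : (Fin n → R ⊗[k] C₀) →ₗ[R ⊗[k] C₀] Model0 ub' := Submodule.mkQ _
  have hu2 : LinearMap.ker f2 = Submodule.span (R ⊗[k] C₀) (Set.range ub') := Submodule.ker_mkQ _
  have hf2 : Surjective f2 := Submodule.mkQ_surjective _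
  have hub2 : ∀ j i, iota0 e2 (cb j i) = ub' j i := fun j i => rfl
  let E2 : R ⊗[k] Model0 cb ≃ₗ[R] Model0 ub' := modelEquiv e2 f2 ub' hub2 hu2 hf2
  have hE2 : ∀ (c : R ⊗[k] C₀) (y : R ⊗[k] Model0 cb), E2 (c • y) = c • E2 y :=
    modelEquiv_smul e2 f2 ub' hub2 hu2 hf2
  exact ⟨{ E2 with map_smul' := hE2 }⟩

end L3

section L4

theorem flat_quot_tensor_congr {B' X Y : Type*} [CommRing B'] (I : Ideal B')
    [AddCommGroup X] [Module B' X] [AddCommGroup Y] [Module B' Y] (e : X ≃ₗ[B'] Y)
    (h : Module.Flat (B' ⧸ I) ((B' ⧸ I) ⊗[B'] Y)) : Module.Flat (B' ⧸ I) ((B' ⧸ I) ⊗[B'] X) :=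
  Module.Flat.of_linearEquiv (TensorProduct.AlgebraTensorModule.congr
      (LinearEquiv.refl (B' ⧸ I) (B' ⧸ I)) e)

end L4

section Hop2

variable {k B₀ C₀ : Type u} [CommRing k] [CommRing B₀] [CommRing C₀]
  [Algebra k B₀] [Algebra B₀ C₀] [Algebra k C₀] [IsScalarTower k B₀ C₀]
  (R : Type u) [CommRing R] [Algebra k R] [IsLocalRing R]
  {T N : Type u} [CommRing T] [Algebra (R ⊗[k] C₀) T]
  [AddCommGroup N] [Module T N] [Module (R ⊗[k] C₀) N] [IsScalarTower (R ⊗[k] C₀) T N]
  [Module (R ⊗[k] B₀) N] [IsScalarTower (R ⊗[k] B₀) (R ⊗[k] C₀) N]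
  [Module R N] [IsScalarTower R (R ⊗[k] C₀) N] [IsScalarTower R (R ⊗[k] B₀) N]

set_option synthInstance.maxHeartbeats 400000 in
/-- **Fibrewise criterion, stage-module form**: `N` is a module over the localization `T` of
`R ⊗ C₀` at `Q`, presented by a matrix with entries coming from `C₀`. -/
theorem flat_of_fibre_stage_module [IsNoetherianRing k] [Algebra.FiniteType k B₀]
    [Algebra.FiniteType k C₀]
    (Q : Ideal (R ⊗[k] C₀)) [Q.IsPrime] [IsLocalization.AtPrime T Q]
    (hQ : (IsLocalRing.maximalIdeal R).map (algebraMap R (R ⊗[k] C₀)) ≤ Q)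
    {n m : ℕ} (cb : Fin m → Fin n → C₀) (f : (Fin n → T) →ₗ[T] N) (hf : Surjective f)
    (hker : LinearMap.ker f = Submodule.span T
      (Set.range fun j i => algebraMap (R ⊗[k] C₀) T ((1 : R) ⊗ₜ[k] cb j i)))
    (h1 : Module.Flat R N)
    (h2 : Module.Flat ((R ⊗[k] B₀) ⧸ (IsLocalRing.maximalIdeal R).map (algebraMap R (R ⊗[k] B₀)))
      (((R ⊗[k] B₀) ⧸ (IsLocalRing.maximalIdeal R).map (algebraMap R (R ⊗[k] B₀)))
        ⊗[R ⊗[k] B₀] N)) :
    Module.Flat (R ⊗[k] B₀) N := by
  classical
  obtain ⟨g', hg'⟩ := exists_isBaseChange_model0 (A := R ⊗[k] C₀) (T := T) (N := N)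
    (fun j i => (1 : R) ⊗ₜ[k] cb j i) f hf hker
  obtain ⟨E2⟩ := exists_stage_model_equiv (k := k) R cb
  haveI hl' : IsLocalizedModule Q.primeCompl g' :=
    (isLocalizedModule_iff_isBaseChange Q.primeCompl T g').mpr hg'
  haveI hl : IsLocalizedModule Q.primeCompl (g' ∘ₗ E2.toLinearMap) :=
    IsLocalizedModule.of_linearEquiv_right Q.primeCompl g' E2
  let lam : LocalizedModule Q.primeCompl (R ⊗[k] Model0 cb) ≃ₗ[R ⊗[k] C₀] N :=
    IsLocalizedModule.iso Q.primeCompl (g' ∘ₗ E2.toLinearMap)
  have h1' : Module.Flat R (LocalizedModule Q.primeCompl (R ⊗[k] Model0 cb)) :=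
    Module.Flat.of_linearEquiv (lam.restrictScalars R)
  have h2' : Module.Flat
      ((R ⊗[k] B₀) ⧸ (IsLocalRing.maximalIdeal R).map (algebraMap R (R ⊗[k] B₀)))
      (((R ⊗[k] B₀) ⧸ (IsLocalRing.maximalIdeal R).map (algebraMap R (R ⊗[k] B₀)))
        ⊗[R ⊗[k] B₀] LocalizedModule Q.primeCompl (R ⊗[k] Model0 cb)) :=
    flat_quot_tensor_congr (B' := R ⊗[k] B₀)
      (X := LocalizedModule Q.primeCompl (R ⊗[k] Model0 cb)) (Y := N) _
      (lam.restrictScalars (R ⊗[k] B₀)) h2
  have h3 := flat_of_fibre_noeth_base (k := k) (B₀ := B₀) (C₀ := C₀) (M₀ := Model0 cb) R Q hQ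
    h1' h2'
  exact Module.Flat.of_linearEquiv (lam.symm.restrictScalars (R ⊗[k] B₀))

end Hop2

/-- A Noetherian model of a tower `R → B → C` of finitely presented algebras, with lifts of a finite
matrix of elements of `C`. -/
theorem exists_tower_model_data {R B C : Type u} [CommRing R] [CommRing B] [CommRing C]
    [Algebra R B] [Algebra B C] [Algebra R C] [IsScalarTower R B C]
    [Algebra.FinitePresentation R B] [Algebra.FinitePresentation B C] {n m : ℕ}
    (u : Fin m → Fin n → C) :
    ∃ (k : Type u) (_ : CommRing k) (_ : Algebra k R) (B₀ : Type u) (_ : CommRing B₀)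
      (_ : Algebra k B₀) (C₀ : Type u) (_ : CommRing C₀) (_ : Algebra k C₀) (_ : Algebra B₀ C₀)
      (_ : IsScalarTower k B₀ C₀)
      (eB : R ⊗[k] B₀ ≃ₐ[R] B) (eC : R ⊗[k] C₀ ≃ₐ[R] C) (ub : Fin m → Fin n → C₀),
      Algebra.FiniteType ℤ k ∧ Algebra.FiniteType k B₀ ∧ Algebra.FiniteType k C₀ ∧
        (∀ j i, iota0 eC (ub j i) = u j i) ∧
        ∀ (r : R) (b : B₀), eC (r ⊗ₜ[k] algebraMap B₀ C₀ b) = algebraMap B C (eB (r ⊗ₜ[k] b)) := by
  classical
  let P := Algebra.Presentation.ofFinitePresentation R B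
  let Q := Algebra.Presentation.ofFinitePresentation B C
  let PQ := Q.comp P
  choose ut hut using fun (j : Fin m) (i : Fin n) => PQ.algebraMap_surjective (u j i)
  let s : Set R := (⋃ j, ⋃ i, ((ut j i).coeffs : Set R)) ∪ P.coeffs
  have hs : s.Finite :=
    (Set.finite_iUnion fun j => Set.finite_iUnion fun i => Finset.finite_toSet _).union
      P.finite_coeffs
  let k := Algebra.adjoin PQ.Core s
  have : Algebra.FiniteType PQ.Core k := (Subalgebra.fg_iff_finiteType _).mp
    (Subalgebra.fg_def.mpr ⟨s, hs, rfl⟩)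
  have hk : Algebra.FiniteType ℤ k :=
    Algebra.FiniteType.trans (S := PQ.Core) inferInstance inferInstance
  haveI hPk : P.HasCoeffs k := ⟨fun c hc => ⟨⟨c, Algebra.subset_adjoin (Or.inr hc)⟩, rfl⟩⟩
  have hv : ∀ j i, ∃ v : MvPolynomial _ k, MvPolynomial.map (algebraMap k R) v = ut j i := by
    intro j i
    have : ut j i ∈ Set.range (MvPolynomial.map (algebraMap k R)) := by
      rw [MvPolynomial.mem_range_map_iff_coeffs_subset]
      intro c hc
      have hcs : c ∈ s := Or.inl (Set.mem_iUnion.mpr ⟨j, Set.mem_iUnion.mpr ⟨i, hc⟩⟩)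
      exact ⟨⟨c, Algebra.subset_adjoin hcs⟩, rfl⟩
    exact this
  choose v hv using hv
  let B₀ := P.ModelOfHasCoeffs k
  let C₀ := PQ.ModelOfHasCoeffs k
  let eB : R ⊗[k] B₀ ≃ₐ[R] B := P.tensorModelOfHasCoeffsEquiv k
  let eC : R ⊗[k] C₀ ≃ₐ[R] C := PQ.tensorModelOfHasCoeffsEquiv k
  have hinj : Injective (MvPolynomial.map (σ := Fin (Algebra.Presentation.ofFinitePresentationVars B C) ⊕
      Fin (Algebra.Presentation.ofFinitePresentationVars R B)) (algebraMap k R)) :=
    MvPolynomial.map_injective _ (FaithfulSMul.algebraMap_injective k R)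
  have hrel : ∀ r, MvPolynomial.rename Sum.inr (P.relationOfHasCoeffs k r) =
      PQ.relationOfHasCoeffs k (Sum.inr r) := by
    intro r
    apply hinj
    rw [MvPolynomial.map_rename, Algebra.Presentation.map_relationOfHasCoeffs,
      Algebra.Presentation.map_relationOfHasCoeffs, Algebra.Presentation.comp_relation_inr]
  let φ : B₀ →ₐ[k] C₀ := Ideal.quotientMapₐ _ (MvPolynomial.rename Sum.inr) (by
    rw [Ideal.span_le]
    rintro _ ⟨r, rfl⟩
    rw [SetLike.mem_coe, Ideal.mem_comap]
    change MvPolynomial.rename Sum.inr (P.relationOfHasCoeffs k r) ∈ _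
    rw [hrel]
    exact Ideal.subset_span ⟨_, rfl⟩)
  letI : Algebra B₀ C₀ := φ.toRingHom.toAlgebra
  haveI : IsScalarTower k B₀ C₀ := IsScalarTower.of_algebraMap_eq (fun x => (φ.commutes x).symm)
  let ub : Fin m → Fin n → C₀ := fun j i => Ideal.Quotient.mk _ (v j i)
  have hub : ∀ j i, iota0 eC (ub j i) = u j i := by
    intro j i
    rw [iota0_apply]
    change PQ.tensorModelOfHasCoeffsEquiv k ((1 : R) ⊗ₜ[k] Ideal.Quotient.mk _ (v j i)) = _
    rw [Algebra.Presentation.tensorModelOfHasCoeffsEquiv_tmul, map_one, one_mul,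
      ← MvPolynomial.aeval_map_algebraMap R, hv, ← hut j i, Algebra.Generators.algebraMap_apply]
  refine ⟨k, inferInstance, inferInstance, B₀, inferInstance, inferInstance, C₀, inferInstance,
    inferInstance, inferInstance, inferInstance, eB, eC, ub, hk, inferInstance, inferInstance,
    hub, ?_⟩
  intro r b
  obtain ⟨p, rfl⟩ := Ideal.Quotient.mk_surjective b
  have h1 : algebraMap B₀ C₀ (Ideal.Quotient.mk _ p) =
      Ideal.Quotient.mk _ (MvPolynomial.rename Sum.inr p) := rfl
  rw [h1]
  change PQ.tensorModelOfHasCoeffsEquiv k (r ⊗ₜ[k] Ideal.Quotient.mk _ _) =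
    algebraMap B C (P.tensorModelOfHasCoeffsEquiv k (r ⊗ₜ[k] Ideal.Quotient.mk _ p))
  rw [Algebra.Presentation.tensorModelOfHasCoeffsEquiv_tmul,
    Algebra.Presentation.tensorModelOfHasCoeffsEquiv_tmul, map_mul,
    ← IsScalarTower.algebraMap_apply, MvPolynomial.aeval_rename]
  congr 1
  have : (PQ.val ∘ Sum.inr) = algebraMap B C ∘ P.val := by
    ext i
    simp [PQ, Algebra.Presentation.comp, Algebra.Generators.comp]
  rw [this, MvPolynomial.aeval_algebraMap_apply]


section T2

variable {B B' N : Type*} [CommRing B] [CommRing B'] [AddCommGroup N] [Module B N] [Module B' N]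

/-- Transport of the fibre hypothesis along a surjective ring map `B' → B` inducing an isomorphism
modulo `I'`, `I` (`I' = β⁻¹ I`), for a `B`-module `N` viewed as a `B'`-module through `β`. -/
theorem flat_fibre_transport (β : B' →+* B) (hβs : Surjective β)
    (hβ : ∀ (x : B') (n : N), x • n = β x • n) (I : Ideal B) (I' : Ideal B')
    (hI : I.comap β = I')
    (h : Module.Flat (B ⧸ I) ((B ⧸ I) ⊗[B] N)) : Module.Flat (B' ⧸ I') ((B' ⧸ I') ⊗[B'] N) := by
  letI algB' : Algebra B' (B ⧸ I) := ((Ideal.Quotient.mk I).comp β).toAlgebra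
  have halg : ∀ x : B', algebraMap B' (B ⧸ I) x = Ideal.Quotient.mk I (β x) := fun x => rfl
  have hsmul1 : ∀ (x : B'), x • (1 : B ⧸ I) = Ideal.Quotient.mk I (β x) := fun x => by
    rw [Algebra.smul_def, mul_one, halg]
  have hs : Surjective (algebraMap B' (B ⧸ I)) := by
    intro y
    obtain ⟨b, rfl⟩ := Ideal.Quotient.mk_surjective y
    obtain ⟨x, rfl⟩ := hβs b
    exact ⟨x, rfl⟩
  have hker : RingHom.ker (algebraMap B' (B ⧸ I)) = I' := by
    ext x
    rw [RingHom.mem_ker, halg, Ideal.Quotient.eq_zero_iff_mem, ← hI, Ideal.mem_comap]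
  let l : N →ₗ[B'] (B ⧸ I) ⊗[B] N :=
    { toFun := fun n => (1 : B ⧸ I) ⊗ₜ[B] n
      map_add' := fun a b => TensorProduct.tmul_add _ _ _
      map_smul' := fun x n => by
        simp only [RingHom.id_apply]
        rw [hβ, TensorProduct.tmul_smul, TensorProduct.smul_tmul',
          TensorProduct.smul_tmul', hsmul1]
        congr 1
        rw [Algebra.smul_def, mul_one]
        rfl }
  have hl : Surjective l := by
    intro z
    induction z with
    | zero => exact ⟨0, map_zero _⟩
    | add z₁ z₂ h₁ h₂ =>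
      obtain ⟨x₁, rfl⟩ := h₁
      obtain ⟨x₂, rfl⟩ := h₂
      exact ⟨x₁ + x₂, map_add _ _ _⟩
    | tmul a n =>
      obtain ⟨b, rfl⟩ := Ideal.Quotient.mk_surjective a
      refine ⟨b • n, ?_⟩
      change (1 : B ⧸ I) ⊗ₜ[B] (b • n) = _
      rw [TensorProduct.tmul_smul, TensorProduct.smul_tmul']
      congr 1
      rw [Algebra.smul_def, mul_one]
      rfl
  have hsub : ∀ x : N, x ∈ I • (⊤ : Submodule B N) ↔ x ∈ I' • (⊤ : Submodule B' N) := by
    intro x
    constructor
    · intro hx
      refine Submodule.smul_induction_on hx (fun r hr n _ => ?_) (fun a b ha hb => add_mem ha hb)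
      obtain ⟨r', rfl⟩ := hβs r
      rw [← hβ]
      exact Submodule.smul_mem_smul (by rw [← hI]; exact hr) Submodule.mem_top
    · intro hx
      refine Submodule.smul_induction_on hx (fun r hr n _ => ?_) (fun a b ha hb => add_mem ha hb)
      rw [hβ]
      exact Submodule.smul_mem_smul (by rw [← hI] at hr; exact hr) Submodule.mem_top
  have hkerl : ∀ x, l x = 0 ↔ x ∈ I' • (⊤ : Submodule B' N) := by
    intro x
    rw [← hsub]
    change (1 : B ⧸ I) ⊗ₜ[B] x = 0 ↔ _
    rw [← (TensorProduct.quotTensorEquivQuotSMul N I).map_eq_zero_iff,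
      TensorProduct.quotTensorEquivQuotSMul_mk_one_tmul, Submodule.Quotient.mk_eq_zero]
  exact (flat_iff_of_surjective_ker hs I' hker l hl hkerl).mp h

end T2


section L1

variable {C T N : Type*} [CommRing C] [CommRing T] [Algebra C T]
  [AddCommGroup N] [Module T N]

/-- A finitely presented module over a localization has a presentation by a matrix with entries
in the image of the base ring. -/
theorem exists_presentation_of_isLocalization (W : Submonoid C) [IsLocalization W T]
    [Module.FinitePresentation T N] :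
    ∃ (n m : ℕ) (c : Fin m → Fin n → C) (f : (Fin n → T) →ₗ[T] N), Surjective f ∧
      LinearMap.ker f = Submodule.span T (Set.range fun j i => algebraMap C T (c j i)) := by
  classical
  obtain ⟨n, m, f, g, hf, hex⟩ := Module.FinitePresentation.exists_fin' T N
  let u₀ : Fin m → Fin n → T := fun j => g (Pi.single j 1)
  have hu₀ : LinearMap.ker f = Submodule.span T (Set.range u₀) := by
    rw [(LinearMap.exact_iff).mp hex, LinearMap.range_eq_map, ← (Pi.basisFun T (Fin m)).span_eq,
      Submodule.map_span, ← Set.range_comp]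
    congr 2
    funext j
    simp [u₀, Pi.basisFun_apply]
  obtain ⟨s, hs⟩ := IsLocalization.exist_integer_multiples_of_finite W
    (fun p : Fin m × Fin n => u₀ p.1 p.2)
  choose c hc using hs
  have hunit : IsUnit (algebraMap C T (s : C)) := IsLocalization.map_units T s
  obtain ⟨a, ha⟩ := hunit
  have hcu : ∀ j, (fun i => algebraMap C T (c (j, i))) = (a : T) • u₀ j := by
    intro j
    funext i
    rw [hc (j, i), Algebra.smul_def, ha]
    rfl
  refine ⟨n, m, fun j i => c (j, i), f, hf, ?_⟩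
  rw [hu₀]
  apply le_antisymm
  · rw [Submodule.span_le]
    rintro _ ⟨j, rfl⟩
    have : u₀ j = ((a⁻¹ : Tˣ) : T) • (fun i => algebraMap C T (c (j, i))) := by
      rw [hcu, smul_smul, Units.inv_mul, one_smul]
    rw [this]
    exact Submodule.smul_mem _ _ (Submodule.subset_span ⟨j, rfl⟩)
  · rw [Submodule.span_le]
    rintro _ ⟨j, rfl⟩
    change (fun i => algebraMap C T (c (j, i))) ∈ _
    rw [hcu]
    exact Submodule.smul_mem _ _ (Submodule.subset_span ⟨j, rfl⟩)

end L1


section Hop1

variable {R B C T N : Type u} [CommRing R] [IsLocalRing R] [CommRing B] [CommRing C] [CommRing T]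
  [Algebra R B] [Algebra B C] [Algebra R C] [IsScalarTower R B C] [Algebra C T]
  [AddCommGroup N] [Module T N] [Module C N] [Module B N] [Module R N]
  [IsScalarTower C T N] [IsScalarTower B C N] [IsScalarTower R B N]

set_option synthInstance.maxHeartbeats 400000 in
/-- **Critère de platitude par fibres, finitely presented form.** `R` local, `R → B → C` finitely
presented `R`-algebras, `Q` a prime of `C` above the maximal ideal of `R`, `T = C_Q`, `N` a finitely
presented `T`-module. If `N` is flat over `R` and `N/𝔪N` is flat over `B/𝔪B` then `N` is flat over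
`B`. -/
theorem flat_of_fibre_fp [Algebra.FinitePresentation R B] [Algebra.FinitePresentation R C]
    (Q : Ideal C) [Q.IsPrime] [IsLocalization.AtPrime T Q]
    (hQ : (IsLocalRing.maximalIdeal R).map (algebraMap R C) ≤ Q)
    [Module.FinitePresentation T N]
    (h1 : Module.Flat R N)
    (h2 : Module.Flat (B ⧸ (IsLocalRing.maximalIdeal R).map (algebraMap R B))
      ((B ⧸ (IsLocalRing.maximalIdeal R).map (algebraMap R B)) ⊗[B] N)) :
    Module.Flat B N := by
  classical
  haveI : Algebra.FinitePresentation B C :=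
    Algebra.FinitePresentation.of_restrict_scalars_finitePresentation R B C
  obtain ⟨n, m, c, f, hf, hker⟩ :=
    exists_presentation_of_isLocalization (C := C) (T := T) (N := N) Q.primeCompl
  obtain ⟨k, _, _, B₀, _, _, C₀, _, _, _, _, eB, eC, cb, hk, hB₀, hC₀, hcb, hcompat⟩ :=
    exists_tower_model_data (R := R) (B := B) (C := C) c
  haveI : IsNoetherianRing k := Algebra.FiniteType.isNoetherianRing ℤ k
  -- the induced structures
  letI algT : Algebra (R ⊗[k] C₀) T :=
    ((algebraMap C T).comp (eC : R ⊗[k] C₀ →+* C)).toAlgebra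
  have halgT : ∀ x, algebraMap (R ⊗[k] C₀) T x = algebraMap C T (eC x) := fun x => rfl
  letI modC' : Module (R ⊗[k] C₀) N := Module.compHom N (eC : R ⊗[k] C₀ →+* C)
  have hsmulC' : ∀ (x : R ⊗[k] C₀) (z : N), x • z = eC x • z := fun x z => rfl
  haveI : IsScalarTower (R ⊗[k] C₀) T N := ⟨fun x t z => by
    rw [hsmulC', Algebra.smul_def, halgT, mul_smul, algebraMap_smul]⟩
  letI modB' : Module (R ⊗[k] B₀) N := Module.compHom N (eB : R ⊗[k] B₀ →+* B)
  have hsmulB' : ∀ (x : R ⊗[k] B₀) (z : N), x • z = eB x • z := fun x z => rfl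
  have hcompat' : ∀ x : R ⊗[k] B₀,
      eC (algebraMap (R ⊗[k] B₀) (R ⊗[k] C₀) x) = algebraMap B C (eB x) := by
    intro x
    induction x with
    | zero => simp
    | add x y hx hy => simp only [map_add, hx, hy]
    | tmul r b => rw [algebraMap_BC_tmul, hcompat]
  haveI : IsScalarTower (R ⊗[k] B₀) (R ⊗[k] C₀) N := ⟨fun x y z => by
    rw [hsmulC', hsmulB', hsmulC', Algebra.smul_def, map_mul, hcompat', mul_smul,
      algebraMap_smul]⟩
  haveI : IsScalarTower R C N := IsScalarTower.of_algebraMap_smul (fun r z => by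
    rw [IsScalarTower.algebraMap_apply R B C, algebraMap_smul, algebraMap_smul])
  haveI : IsScalarTower R (R ⊗[k] C₀) N := ⟨fun r x z => by
    rw [hsmulC', hsmulC', map_smul, smul_assoc]⟩
  haveI : IsScalarTower R (R ⊗[k] B₀) N := ⟨fun r x z => by
    rw [hsmulB', hsmulB', map_smul, smul_assoc]⟩
  -- the prime
  let Q' : Ideal (R ⊗[k] C₀) := Q.comap (eC : R ⊗[k] C₀ →+* C)
  haveI : Q'.IsPrime := Ideal.comap_isPrime _ _
  have hM : Q'.primeCompl.map (eC.toRingEquiv : R ⊗[k] C₀ →* C) = Q.primeCompl := by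
    ext x
    constructor
    · rintro ⟨y, hy, rfl⟩
      exact hy
    · intro hx
      refine ⟨eC.symm x, ?_, eC.apply_symm_apply x⟩
      change eC.symm x ∉ Q'
      rw [Ideal.mem_comap]
      change ¬ (eC (eC.symm x) ∈ Q)
      rw [eC.apply_symm_apply]
      exact hx
  haveI : IsLocalization.AtPrime T Q' :=
    IsLocalization.of_ringEquiv_left eC.toRingEquiv hM (fun x => rfl)
  have hQ' : (IsLocalRing.maximalIdeal R).map (algebraMap R (R ⊗[k] C₀)) ≤ Q' := by
    rw [Ideal.map_le_iff_le_comap]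
    intro r hr
    rw [Ideal.mem_comap, Ideal.mem_comap]
    change eC (algebraMap R (R ⊗[k] C₀) r) ∈ Q
    rw [eC.commutes]
    exact hQ (Ideal.mem_map_of_mem _ hr)
  have hker' : LinearMap.ker f = Submodule.span T
      (Set.range fun j i => algebraMap (R ⊗[k] C₀) T ((1 : R) ⊗ₜ[k] cb j i)) := by
    rw [hker]
    congr 2
    funext j i
    rw [halgT, ← iota0_apply, hcb]
  have hI : ((IsLocalRing.maximalIdeal R).map (algebraMap R B)).comap (eB : R ⊗[k] B₀ →+* B) =
      (IsLocalRing.maximalIdeal R).map (algebraMap R (R ⊗[k] B₀)) := by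
    have h3 : ((IsLocalRing.maximalIdeal R).map (algebraMap R B)).comap
        (eB : R ⊗[k] B₀ →+* B) =
        ((IsLocalRing.maximalIdeal R).map (algebraMap R B)).map
          (eB.symm : B →+* R ⊗[k] B₀) := (Ideal.map_symm eB.toRingEquiv).symm
    rw [h3, Ideal.map_map]
    congr 1
    ext r
    exact eB.symm.commutes r
  have h2' := flat_fibre_transport (B := B) (B' := R ⊗[k] B₀) (N := N)
    (eB : R ⊗[k] B₀ →+* B) eB.surjective hsmulB' _ _ hI h2
  have h3 := flat_of_fibre_stage_module (k := k) (B₀ := B₀) (C₀ := C₀) R (T := T) (N := N) Q' hQ'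
    cb f hf hker' h1 h2'
  exact flat_of_ringEquiv_semilinear eB.toRingEquiv (AddEquiv.refl N) (fun a x => rfl) h3

end Hop1

end Groth.Agent.Lib.CritFibD88
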