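import Groth.Agent.Lib.CritFibD88

set_option autoImplicit false
set_option maxHeartbeats 400000
set_option linter.style.haveILetI false
set_option linter.unusedSectionVars false

open TensorProduct Function
open Groth.Agent.Lib.CritFibA88 Groth.Agent.Lib.CritFibD88

/-!
# Critère de platitude par fibres: finite type middle ring, local form (helper88)

* `flat_of_fibre_ft`: as `CritFibD88.flat_of_fibre_fp` but `B` only of finite type over `R`
  (Stacks 00R9-type reduction).
* `flat_of_isLocalization`, `faithfullyFlat_of_local`, `flat_fibre_of_flat`: auxiliary transfers.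
* `flat_of_fibre_local`: local rings `R → S → T`, `S = B_q` with `B` of finite type over `R`,
  `T = C_Q` with `C` finitely presented over `R`, `N` a nonzero finitely presented `T`-module flat
  over `R` with `N/𝔪N` flat over `S/𝔪S`; then `N` is flat over `S` and `S` is flat over `R`.
-/

universe u

namespace Groth.Agent.Lib.CritFibE88

section E1

variable {B B' N : Type*} [CommRing B] [CommRing B'] [AddCommGroup N] [Module B N] [Module B' N]

/-- Flatness over the source of a surjection implies flatness over the target. -/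
theorem flat_of_surjective_of_flat (β : B' →+* B) (hβs : Surjective β)
    (hβ : ∀ (x : B') (n : N), x • n = β x • n) (h : Module.Flat B' N) : Module.Flat B N := by
  letI : Algebra B' B := β.toAlgebra
  haveI : IsScalarTower B' B N := ⟨fun x b n => by
    rw [hβ, Algebra.smul_def, mul_smul]
    rfl⟩
  have hfl : Module.Flat B (B ⊗[B'] N) := inferInstance
  let μ : B ⊗[B'] N →ₗ[B] N := LinearMap.liftBaseChange B (LinearMap.id (R := B') (M := N))
  have hμ : ∀ (b : B) (n : N), μ (b ⊗ₜ[B'] n) = b • n := fun b n => by
    simp [μ]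
  let ν : N →ₗ[B'] B ⊗[B'] N := TensorProduct.mk B' B N 1
  have h1 : ∀ z, ν (μ z) = z := by
    intro z
    induction z with
    | zero => simp
    | add x y hx hy => rw [map_add, map_add, hx, hy]
    | tmul b n =>
      obtain ⟨b', rfl⟩ := hβs b
      rw [hμ, ← hβ]
      change (1 : B) ⊗ₜ[B'] (b' • n) = _
      rw [TensorProduct.tmul_smul, TensorProduct.smul_tmul', Algebra.smul_def, mul_one]
      rfl
  have h2 : ∀ n, μ (ν n) = n := fun n => by
    change μ ((1 : B) ⊗ₜ[B'] n) = n
    rw [hμ, one_smul]
  let E : B ⊗[B'] N ≃ₗ[B] N :=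
    { μ with
      invFun := ν
      left_inv := h1
      right_inv := h2 }
  exact Module.Flat.of_linearEquiv E.symm

end E1

section E2

/-- If `P/J` is Noetherian, every ideal `I` is contained in `I' + J` for a finitely generated
`I' ≤ I`. -/
theorem exists_fg_le_sup {P : Type*} [CommRing P] (I J : Ideal P) [IsNoetherianRing (P ⧸ J)] :
    ∃ I' : Ideal P, I' ≤ I ∧ I'.FG ∧ I ≤ I' ⊔ J := by
  classical
  obtain ⟨S, hS⟩ := (isNoetherianRing_iff_ideal_fg (P ⧸ J)).mp inferInstance
    (I.map (Ideal.Quotient.mk J))
  have hmem : ∀ s ∈ S, ∃ p ∈ I, Ideal.Quotient.mk J p = s := by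
    intro s hs
    have : s ∈ I.map (Ideal.Quotient.mk J) := by
      rw [← hS]
      exact Ideal.subset_span hs
    exact (Ideal.mem_map_iff_of_surjective _ Ideal.Quotient.mk_surjective).mp this
  choose! l hlI hl using hmem
  refine ⟨Ideal.span (S.image l : Set P), ?_, ⟨S.image l, rfl⟩, ?_⟩
  · rw [Ideal.span_le]
    intro p hp
    obtain ⟨s, hs, rfl⟩ := Finset.mem_image.mp (Finset.mem_coe.mp hp)
    exact hlI s hs
  · intro p hp
    have h1 : Ideal.Quotient.mk J p ∈ (Ideal.span (S.image l : Set P)).map (Ideal.Quotient.mk J) := by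
      rw [Ideal.map_span]
      have : (Ideal.Quotient.mk J) '' (S.image l : Set P) = (S : Set (P ⧸ J)) := by
        ext s
        constructor
        · rintro ⟨p, hp, rfl⟩
          obtain ⟨s, hs, rfl⟩ := Finset.mem_image.mp (Finset.mem_coe.mp hp)
          rw [hl s hs]
          exact hs
        · intro hs
          exact ⟨l s, Finset.mem_coe.mpr (Finset.mem_image.mpr ⟨s, hs, rfl⟩), hl s hs⟩
      rw [this, hS]
      exact Ideal.mem_map_of_mem _ hp
    obtain ⟨p', hp', hpp'⟩ := (Ideal.mem_map_iff_of_surjective _ Ideal.Quotient.mk_surjective).mp h1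
    have h2 : p - p' ∈ J := by
      rw [← Ideal.Quotient.eq_zero_iff_mem, map_sub, hpp', sub_self]
    have : p = p' + (p - p') := by ring
    rw [this]
    exact Submodule.add_mem_sup hp' h2

end E2


section Main

variable {R B C T N : Type u} [CommRing R] [IsLocalRing R] [CommRing B] [CommRing C] [CommRing T]
  [Algebra R B] [Algebra B C] [Algebra R C] [IsScalarTower R B C] [Algebra C T]
  [AddCommGroup N] [Module T N] [Module C N] [Module B N] [Module R N]
  [IsScalarTower C T N] [IsScalarTower B C N] [IsScalarTower R B N]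

/-- **Critère de platitude par fibres, finite type middle ring.** -/
theorem flat_of_fibre_ft [Algebra.FiniteType R B] [Algebra.FinitePresentation R C]
    (Q : Ideal C) [Q.IsPrime] [IsLocalization.AtPrime T Q]
    (hQ : (IsLocalRing.maximalIdeal R).map (algebraMap R C) ≤ Q)
    [Module.FinitePresentation T N]
    (h1 : Module.Flat R N)
    (h2 : Module.Flat (B ⧸ (IsLocalRing.maximalIdeal R).map (algebraMap R B))
      ((B ⧸ (IsLocalRing.maximalIdeal R).map (algebraMap R B)) ⊗[B] N)) :
    Module.Flat B N := by
  classical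
  obtain ⟨n, π, hπ⟩ := Algebra.FiniteType.iff_quotient_mvPolynomial''.mp
    (inferInstance : Algebra.FiniteType R B)
  let J : Ideal (MvPolynomial (Fin n) R) :=
    (IsLocalRing.maximalIdeal R).map (algebraMap R (MvPolynomial (Fin n) R))
  letI : Field (R ⧸ IsLocalRing.maximalIdeal R) := Ideal.Quotient.field _
  haveI : IsNoetherianRing (MvPolynomial (Fin n) R ⧸ J) :=
    isNoetherianRing_of_ringEquiv _ (MvPolynomial.quotientEquivQuotientMvPolynomial (σ := Fin n)
      (IsLocalRing.maximalIdeal R)).toRingEquiv
  obtain ⟨I', hI'le, hI'fg, hle⟩ := exists_fg_le_sup (RingHom.ker π.toRingHom) J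
  haveI : Algebra.FinitePresentation R (MvPolynomial (Fin n) R ⧸ I') :=
    Algebra.FinitePresentation.quotient hI'fg
  let β : (MvPolynomial (Fin n) R ⧸ I') →ₐ[R] B := Ideal.Quotient.liftₐ I' π (fun p hp => hI'le hp)
  have hβmk : ∀ p, β (Ideal.Quotient.mk I' p) = π p := fun p => rfl
  have hβs : Surjective β := by
    intro b
    obtain ⟨p, rfl⟩ := hπ b
    exact ⟨Ideal.Quotient.mk I' p, rfl⟩
  letI algB'C : Algebra (MvPolynomial (Fin n) R ⧸ I') C :=
    ((algebraMap B C).comp β.toRingHom).toAlgebra
  have halg : ∀ x, algebraMap (MvPolynomial (Fin n) R ⧸ I') C x = algebraMap B C (β x) :=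
    fun x => rfl
  haveI : IsScalarTower R (MvPolynomial (Fin n) R ⧸ I') C :=
    IsScalarTower.of_algebraMap_eq (fun r => by
      rw [halg, β.commutes, ← IsScalarTower.algebraMap_apply])
  letI modB'N : Module (MvPolynomial (Fin n) R ⧸ I') N := Module.compHom N β.toRingHom
  have hsm : ∀ (x : MvPolynomial (Fin n) R ⧸ I') (z : N), x • z = β x • z := fun _ _ => rfl
  haveI : IsScalarTower (MvPolynomial (Fin n) R ⧸ I') C N := ⟨fun x c z => by
    rw [hsm, Algebra.smul_def, mul_smul, halg, algebraMap_smul]⟩
  haveI : IsScalarTower R (MvPolynomial (Fin n) R ⧸ I') N := ⟨fun r x z => by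
    rw [hsm, hsm, map_smul, smul_assoc]⟩
  have hJπ : J.map π.toRingHom = (IsLocalRing.maximalIdeal R).map (algebraMap R B) := by
    rw [Ideal.map_map]
    congr 1
    ext r
    exact π.commutes r
  have hJmk : J.map (Ideal.Quotient.mk I') =
      (IsLocalRing.maximalIdeal R).map (algebraMap R (MvPolynomial (Fin n) R ⧸ I')) := by
    rw [Ideal.map_map]
    rfl
  have hI : ((IsLocalRing.maximalIdeal R).map (algebraMap R B)).comap β.toRingHom =
      (IsLocalRing.maximalIdeal R).map (algebraMap R (MvPolynomial (Fin n) R ⧸ I')) := by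
    apply le_antisymm
    · intro x hx
      obtain ⟨p, rfl⟩ := Ideal.Quotient.mk_surjective x
      rw [Ideal.mem_comap] at hx
      change π p ∈ _ at hx
      rw [← hJπ] at hx
      obtain ⟨q, hq, hqp⟩ := (Ideal.mem_map_iff_of_surjective π.toRingHom hπ).mp hx
      have hker : p - q ∈ RingHom.ker π.toRingHom := by
        rw [RingHom.mem_ker, map_sub, sub_eq_zero]
        exact hqp.symm
      obtain ⟨a, ha, b, hb, hab⟩ := Submodule.mem_sup.mp (hle hker)
      have hp : Ideal.Quotient.mk I' p = Ideal.Quotient.mk I' (b + q) := by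
        rw [Ideal.Quotient.eq]
        have : p - (b + q) = a := by linear_combination -hab
        rw [this]
        exact ha
      rw [hp, ← hJmk]
      exact Ideal.mem_map_of_mem _ (J.add_mem hb hq)
    · rw [Ideal.map_le_iff_le_comap]
      intro r hr
      rw [Ideal.mem_comap, Ideal.mem_comap]
      change β (algebraMap R _ r) ∈ _
      rw [β.commutes]
      exact Ideal.mem_map_of_mem _ hr
  have h2' := flat_fibre_transport (B := B) (B' := MvPolynomial (Fin n) R ⧸ I') (N := N)
    β.toRingHom hβs hsm _ _ hI h2
  have h3 : Module.Flat (MvPolynomial (Fin n) R ⧸ I') N :=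
    flat_of_fibre_fp (R := R) (B := MvPolynomial (Fin n) R ⧸ I') (C := C) (T := T) (N := N)
      Q hQ h1 h2'
  exact flat_of_surjective_of_flat β.toRingHom hβs hsm h3

end Main


section W1

/-- A module over a localization `S` of `B` which is flat over `B` is flat over `S`. -/
theorem flat_of_isLocalization {B S N : Type*} [CommRing B] [CommRing S] [Algebra B S]
    (W : Submonoid B) [IsLocalization W S] [AddCommGroup N] [Module S N] [Module B N]
    [IsScalarTower B S N] (h : Module.Flat B N) : Module.Flat S N := by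
  haveI := isLocalizedModule_id W N S
  exact Module.Flat.of_isLocalizedModule (R := B) (M := N) (Rp := S) (Mp := N) W LinearMap.id

end W1

section W2

/-- A nonzero finite module over a local ring `T`, flat over a local ring `S` mapping locally to
`T`, is faithfully flat over `S`. -/
theorem faithfullyFlat_of_local {S T N : Type*} [CommRing S] [CommRing T] [IsLocalRing S]
    [IsLocalRing T] [Algebra S T] [IsLocalHom (algebraMap S T)] [AddCommGroup N] [Module T N]
    [Module S N] [IsScalarTower S T N] [Module.Finite T N] [Nontrivial N]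
    (h : Module.Flat S N) : Module.FaithfullyFlat S N := by
  refine (Module.FaithfullyFlat.iff_flat_and_proper_ideal S N).mpr ⟨h, fun I hI => ?_⟩
  intro htop
  have hIm : I ≤ IsLocalRing.maximalIdeal S := IsLocalRing.le_maximalIdeal hI
  -- `𝔪_T N = N`
  have h1 : (IsLocalRing.maximalIdeal T) • (⊤ : Submodule T N) = ⊤ := by
    rw [eq_top_iff]
    intro x _
    have hx : x ∈ I • (⊤ : Submodule S N) := by rw [htop]; trivial
    refine Submodule.smul_induction_on hx (fun r hr n _ => ?_) (fun a b ha hb => add_mem ha hb)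
    rw [← algebraMap_smul T r n]
    refine Submodule.smul_mem_smul ?_ Submodule.mem_top
    have hr' : r ∈ IsLocalRing.maximalIdeal S := hIm hr
    rw [IsLocalRing.mem_maximalIdeal, mem_nonunits_iff] at hr' ⊢
    intro hu
    exact hr' (isUnit_of_map_unit (algebraMap S T) r hu)
  have h2 : (⊤ : Submodule T N) = ⊥ :=
    Submodule.eq_bot_of_le_smul_of_le_jacobson_bot _ _ (Module.Finite.fg_top)
      (by rw [h1]) (IsLocalRing.maximalIdeal_le_jacobson _)
  exact top_ne_bot h2

end W2

section W3

variable {B S N : Type*} [CommRing B] [CommRing S] [Algebra B S] [AddCommGroup N] [Module S N]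
  [Module B N] [IsScalarTower B S N]

theorem smul_top_map_iff (I : Ideal B) (x : N) :
    x ∈ (I.map (algebraMap B S)) • (⊤ : Submodule S N) ↔ x ∈ I • (⊤ : Submodule B N) := by
  constructor
  · intro hx
    refine Submodule.smul_induction_on hx (fun a ha n _ => ?_) (fun a b ha hb => add_mem ha hb)
    -- a ∈ span (algebraMap '' I)
    have : ∀ a ∈ I.map (algebraMap B S), ∀ n : N, a • n ∈ I • (⊤ : Submodule B N) := by
      intro a ha
      refine Submodule.span_induction (p := fun a _ => ∀ n : N, a • n ∈ I • (⊤ : Submodule B N))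
        ?_ ?_ ?_ ?_ ha
      · rintro _ ⟨i, hi, rfl⟩ n
        rw [algebraMap_smul]
        exact Submodule.smul_mem_smul hi Submodule.mem_top
      · intro n
        rw [zero_smul]
        exact zero_mem _
      · intro a b _ _ ha hb n
        rw [add_smul]
        exact add_mem (ha n) (hb n)
      · intro s a _ ha n
        rw [smul_eq_mul, mul_comm, mul_smul]
        exact ha _
    exact this a ha n
  · intro hx
    refine Submodule.smul_induction_on hx (fun i hi n _ => ?_) (fun a b ha hb => add_mem ha hb)
    rw [← algebraMap_smul S i n]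
    exact Submodule.smul_mem_smul (Ideal.mem_map_of_mem _ hi) Submodule.mem_top

/-- If `S` is flat over `B` and `N/IN` is flat over `S/IS` then `(B/I) ⊗ N` is flat over `B/I`. -/
theorem flat_fibre_of_flat [Module.Flat B S] (I : Ideal B)
    (h : Module.Flat (S ⧸ I.map (algebraMap B S))
      (N ⧸ (I.map (algebraMap B S)) • (⊤ : Submodule S N))) :
    Module.Flat (B ⧸ I) ((B ⧸ I) ⊗[B] N) := by
  have hs : Surjective (algebraMap B (B ⧸ I)) := Ideal.Quotient.mk_surjective
  have hI : RingHom.ker (algebraMap B (B ⧸ I)) = I := Ideal.mk_ker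
  -- Step C: `S/IS` is flat over `B/I`
  have hC : Module.Flat (B ⧸ I) (S ⧸ I.map (algebraMap B S)) := by
    let l : S →ₗ[B] S ⧸ I.map (algebraMap B S) :=
      (Ideal.Quotient.mkₐ B (I.map (algebraMap B S))).toLinearMap
    have hl : Surjective l := Ideal.Quotient.mk_surjective
    have hker : ∀ x, l x = 0 ↔ x ∈ I • (⊤ : Submodule B S) := by
      intro x
      rw [Ideal.smul_top_eq_map]
      exact Ideal.Quotient.eq_zero_iff_mem
    exact (flat_iff_of_surjective_ker hs I hI l hl hker).mpr inferInstance
  -- Step A/B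
  letI modQ : Module (B ⧸ I) (N ⧸ (I.map (algebraMap B S)) • (⊤ : Submodule S N)) :=
    Module.compHom _ (algebraMap (B ⧸ I) (S ⧸ I.map (algebraMap B S)))
  have hsm : ∀ (a : B ⧸ I) (z : N ⧸ (I.map (algebraMap B S)) • (⊤ : Submodule S N)),
      a • z = algebraMap (B ⧸ I) (S ⧸ I.map (algebraMap B S)) a • z := fun _ _ => rfl
  haveI t1 : IsScalarTower (B ⧸ I) (S ⧸ I.map (algebraMap B S))
      (N ⧸ (I.map (algebraMap B S)) • (⊤ : Submodule S N)) := ⟨fun a s z => by
    rw [hsm, Algebra.smul_def, mul_smul]⟩
  have hB : Module.Flat (B ⧸ I) (N ⧸ (I.map (algebraMap B S)) • (⊤ : Submodule S N)) :=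
    Module.Flat.trans (B ⧸ I) (S ⧸ I.map (algebraMap B S)) _
  haveI t2 : IsScalarTower B (B ⧸ I) (N ⧸ (I.map (algebraMap B S)) • (⊤ : Submodule S N)) :=
    IsScalarTower.of_algebraMap_smul (fun b z => by
      obtain ⟨n, rfl⟩ := Submodule.Quotient.mk_surjective _ z
      rw [hsm]
      change Submodule.Quotient.mk (algebraMap B S b • n) = Submodule.Quotient.mk (b • n)
      rw [algebraMap_smul])
  let l : N →ₗ[B] N ⧸ (I.map (algebraMap B S)) • (⊤ : Submodule S N) :=
    { toFun := Submodule.Quotient.mk
      map_add' := fun _ _ => rfl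
      map_smul' := fun _ _ => rfl }
  have hl : Surjective l := Submodule.Quotient.mk_surjective _
  have hker : ∀ x, l x = 0 ↔ x ∈ I • (⊤ : Submodule B N) := by
    intro x
    rw [← smul_top_map_iff (S := S)]
    exact Submodule.Quotient.mk_eq_zero _
  exact (flat_iff_of_surjective_ker hs I hI l hl hker).mp hB

end W3

section K

variable {R S T N B C : Type u} [CommRing R] [CommRing S] [CommRing T] [IsLocalRing R]
  [IsLocalRing S] [IsLocalRing T]
  [Algebra R S] [Algebra S T] [Algebra R T] [IsScalarTower R S T]
  [IsLocalHom (algebraMap R S)] [IsLocalHom (algebraMap S T)]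
  [AddCommGroup N] [Module T N] [Module S N] [Module R N] [IsScalarTower S T N]
  [IsScalarTower R S N]
  [CommRing B] [CommRing C] [Algebra R B] [Algebra B C] [Algebra R C] [IsScalarTower R B C]
  [Algebra B S] [IsScalarTower R B S] [Algebra C T]

/-- **Critère de platitude par fibres, local form.** -/
theorem flat_of_fibre_local [Algebra.FiniteType R B] [Algebra.FinitePresentation R C]
    (q : Ideal B) [q.IsPrime] [IsLocalization.AtPrime S q]
    (Q : Ideal C) [Q.IsPrime] [IsLocalization.AtPrime T Q]
    (hcompat : ∀ b : B, algebraMap S T (algebraMap B S b) = algebraMap C T (algebraMap B C b))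
    [Module.FinitePresentation T N] [Nontrivial N]
    (h1 : Module.Flat R N)
    (h2 : Module.Flat (S ⧸ (IsLocalRing.maximalIdeal R).map (algebraMap R S))
      (N ⧸ ((IsLocalRing.maximalIdeal R).map (algebraMap R S)) • (⊤ : Submodule S N))) :
    Module.Flat S N ∧ Module.Flat R S := by
  classical
  letI modC : Module C N := Module.compHom N (algebraMap C T)
  have hsmC : ∀ (c : C) (n : N), c • n = algebraMap C T c • n := fun _ _ => rfl
  haveI : IsScalarTower C T N := ⟨fun c t n => by
    rw [hsmC, Algebra.smul_def, mul_smul]⟩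
  letI modB : Module B N := Module.compHom N (algebraMap B S)
  have hsmB : ∀ (b : B) (n : N), b • n = algebraMap B S b • n := fun _ _ => rfl
  haveI : IsScalarTower B S N := ⟨fun b s n => by
    rw [hsmB, Algebra.smul_def, mul_smul]⟩
  haveI : IsScalarTower B C N := ⟨fun b c n => by
    rw [hsmC, hsmB, hsmC, Algebra.smul_def, map_mul, mul_smul, ← hcompat, algebraMap_smul]⟩
  haveI : IsScalarTower R B N := ⟨fun r b n => by
    rw [hsmB, hsmB, Algebra.smul_def, map_mul, mul_smul, ← IsScalarTower.algebraMap_apply,
      algebraMap_smul]⟩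
  have hQ : (IsLocalRing.maximalIdeal R).map (algebraMap R C) ≤ Q := by
    rw [Ideal.map_le_iff_le_comap]
    intro r hr
    rw [Ideal.mem_comap, ← IsLocalization.AtPrime.to_map_mem_maximal_iff T Q]
    have h3 : algebraMap C T (algebraMap R C r) = algebraMap S T (algebraMap R S r) := by
      rw [IsScalarTower.algebraMap_apply R B C, ← hcompat, ← IsScalarTower.algebraMap_apply R B S]
    rw [h3]
    rw [IsLocalRing.mem_maximalIdeal, mem_nonunits_iff] at hr ⊢
    intro hu
    exact hr (isUnit_of_map_unit (algebraMap R S) r (isUnit_of_map_unit (algebraMap S T) _ hu))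
  haveI : Module.Flat B S := IsLocalization.flat S q.primeCompl
  have hIS : ((IsLocalRing.maximalIdeal R).map (algebraMap R B)).map (algebraMap B S) =
      (IsLocalRing.maximalIdeal R).map (algebraMap R S) := by
    rw [Ideal.map_map, ← IsScalarTower.algebraMap_eq]
  have key : ∀ J : Ideal S, J = ((IsLocalRing.maximalIdeal R).map (algebraMap R B)).map
      (algebraMap B S) → Module.Flat (S ⧸ J) (N ⧸ J • (⊤ : Submodule S N)) →
      Module.Flat (B ⧸ (IsLocalRing.maximalIdeal R).map (algebraMap R B))
        ((B ⧸ (IsLocalRing.maximalIdeal R).map (algebraMap R B)) ⊗[B] N) := by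
    rintro _ rfl h
    exact flat_fibre_of_flat _ h
  have h2' := key _ hIS.symm h2
  have h3 : Module.Flat B N :=
    flat_of_fibre_ft (R := R) (B := B) (C := C) (T := T) (N := N) Q hQ h1 h2'
  have h4 : Module.Flat S N := flat_of_isLocalization q.primeCompl h3
  haveI : Module.FaithfullyFlat S N := faithfullyFlat_of_local (S := S) (T := T) (N := N) h4
  exact ⟨h4, Groth.Agent.Lib.FlatCrit.flat_of_faithfullyFlat_of_flat S (N := N)⟩

end K

end Groth.Agent.Lib.CritFibE88
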