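import Groth.Agent.Lib.CritFibE88

set_option autoImplicit false
set_option maxHeartbeats 400000
set_option linter.style.haveILetI false
set_option linter.unusedSectionVars false

open TensorProduct Function
open Groth.Agent.Lib.CritFibA88 Groth.Agent.Lib.CritFibD88 Groth.Agent.Lib.CritFibE88

/-!
# Critère de platitude par fibres over a non-local base chart (helper88)

* `isLocalization_atPrime_tensor`: if `R` is a localization of `R₁` and `S = B_q` receives `R ⊗ B`,
  then `S` is the localization of `R ⊗[R₁] B` at the contraction of its maximal ideal.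
* `flat_of_fibre_local'`: the local form of the criterion when the charts `R₁ → B → C` live over a
  non-local ring `R₁` with `R = (R₁)_p`, `S = B_q`, `T = C_Q`.
-/

universe u

namespace Groth.Agent.Lib.CritFibF88

section Loc

variable {R₁ R B S : Type*} [CommRing R₁] [CommRing R] [CommRing B] [CommRing S]
  [Algebra R₁ R] [Algebra R₁ B] [Algebra B S]

/-- Clearing the denominators of an element of `R ⊗ B` when `R` is a localization of `R₁`. -/
theorem exists_mul_eq_one_tmul (W : Submonoid R₁) [IsLocalization W R] (x : R ⊗[R₁] B) :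
    ∃ t ∈ W, ∃ b : B, (algebraMap R₁ R t ⊗ₜ[R₁] (1 : B)) * x = (1 : R) ⊗ₜ[R₁] b := by
  induction x with
  | zero => exact ⟨1, W.one_mem, 0, by simp⟩
  | tmul r b =>
    obtain ⟨⟨a, t⟩, hat⟩ := IsLocalization.surj W r
    refine ⟨t, t.2, a • b, ?_⟩
    rw [Algebra.TensorProduct.tmul_mul_tmul, one_mul, mul_comm, hat, Algebra.algebraMap_eq_smul_one,
      TensorProduct.smul_tmul]
  | add x y hx hy =>
    obtain ⟨t₁, ht₁, b₁, h₁⟩ := hx
    obtain ⟨t₂, ht₂, b₂, h₂⟩ := hy
    refine ⟨t₁ * t₂, W.mul_mem ht₁ ht₂, t₂ • b₁ + t₁ • b₂, ?_⟩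
    have e1 : (algebraMap R₁ R (t₁ * t₂) ⊗ₜ[R₁] (1 : B)) =
        (algebraMap R₁ R t₂ ⊗ₜ[R₁] (1 : B)) * (algebraMap R₁ R t₁ ⊗ₜ[R₁] (1 : B)) := by
      rw [Algebra.TensorProduct.tmul_mul_tmul, one_mul, map_mul, mul_comm]
    have e2 : (algebraMap R₁ R (t₁ * t₂) ⊗ₜ[R₁] (1 : B)) =
        (algebraMap R₁ R t₁ ⊗ₜ[R₁] (1 : B)) * (algebraMap R₁ R t₂ ⊗ₜ[R₁] (1 : B)) := by
      rw [Algebra.TensorProduct.tmul_mul_tmul, one_mul, map_mul]
    have e3 : ∀ (t : R₁) (b : B), (algebraMap R₁ R t ⊗ₜ[R₁] (1 : B)) * ((1 : R) ⊗ₜ[R₁] b) =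
        (1 : R) ⊗ₜ[R₁] (t • b) := by
      intro t b
      rw [Algebra.TensorProduct.tmul_mul_tmul, one_mul, mul_one, Algebra.algebraMap_eq_smul_one,
        TensorProduct.smul_tmul]
    rw [mul_add]
    nth_rewrite 1 [e1]
    rw [e2, mul_assoc, mul_assoc, h₁, h₂, e3, e3, TensorProduct.tmul_add]

/-- `S = B_q` is a localization of `R ⊗[R₁] B` at a prime, when `R` is a localization of `R₁`. -/
theorem isLocalization_atPrime_tensor (W : Submonoid R₁) [IsLocalization W R]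
    [IsLocalRing S] (q : Ideal B) [q.IsPrime] [IsLocalization.AtPrime S q]
    (ρ : R ⊗[R₁] B →+* S) (hρ : ∀ b : B, ρ ((1 : R) ⊗ₜ[R₁] b) = algebraMap B S b) :
    letI := ρ.toAlgebra
    haveI : ((IsLocalRing.maximalIdeal S).comap ρ).IsPrime := Ideal.comap_isPrime _ _
    IsLocalization.AtPrime S ((IsLocalRing.maximalIdeal S).comap ρ) := by
  letI := ρ.toAlgebra
  haveI : ((IsLocalRing.maximalIdeal S).comap ρ).IsPrime := Ideal.comap_isPrime _ _
  have hmem : ∀ y : R ⊗[R₁] B, y ∈ ((IsLocalRing.maximalIdeal S).comap ρ).primeCompl ↔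
      IsUnit (ρ y) := by
    intro y
    change ¬ (y ∈ (IsLocalRing.maximalIdeal S).comap ρ) ↔ _
    rw [Ideal.mem_comap, IsLocalRing.mem_maximalIdeal, mem_nonunits_iff, not_not]
  have hunitW : ∀ t ∈ W, IsUnit (ρ (algebraMap R₁ R t ⊗ₜ[R₁] (1 : B))) := by
    intro t ht
    have h1 : IsUnit (algebraMap R₁ R t) := IsLocalization.map_units R ⟨t, ht⟩
    have h2 : IsUnit (algebraMap R₁ R t ⊗ₜ[R₁] (1 : B)) :=
      h1.map (Algebra.TensorProduct.includeLeftRingHom : R →+* R ⊗[R₁] B)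
    exact h2.map ρ
  refine (isLocalization_iff _ _).mpr ⟨?_, ?_, ?_⟩
  · intro y
    exact (hmem y).mp y.2
  · intro s
    obtain ⟨⟨b, b'⟩, hb⟩ := IsLocalization.surj q.primeCompl s
    have hb' : (1 : R) ⊗ₜ[R₁] (b' : B) ∈ ((IsLocalRing.maximalIdeal S).comap ρ).primeCompl := by
      rw [hmem, hρ]
      exact IsLocalization.map_units S b'
    refine ⟨⟨(1 : R) ⊗ₜ[R₁] b, ⟨_, hb'⟩⟩, ?_⟩
    change s * ρ _ = ρ _
    rw [hρ, hρ]
    exact hb
  · intro x y hxy
    change ρ x = ρ y at hxy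
    obtain ⟨t₁, ht₁, b₁, h₁⟩ := exists_mul_eq_one_tmul (B := B) W x
    obtain ⟨t₂, ht₂, b₂, h₂⟩ := exists_mul_eq_one_tmul (B := B) W y
    set u₁ := (algebraMap R₁ R t₁ ⊗ₜ[R₁] (1 : B)) with hu₁
    set u₂ := (algebraMap R₁ R t₂ ⊗ₜ[R₁] (1 : B)) with hu₂
    have hx' : (u₂ * u₁) * x = (1 : R) ⊗ₜ[R₁] (t₂ • b₁) := by
      rw [mul_assoc, h₁, hu₂, Algebra.TensorProduct.tmul_mul_tmul, one_mul, mul_one,
        Algebra.algebraMap_eq_smul_one, TensorProduct.smul_tmul]
    have hy' : (u₂ * u₁) * y = (1 : R) ⊗ₜ[R₁] (t₁ • b₂) := by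
      rw [mul_comm u₂ u₁, mul_assoc, h₂, hu₁, Algebra.TensorProduct.tmul_mul_tmul, one_mul, mul_one,
        Algebra.algebraMap_eq_smul_one, TensorProduct.smul_tmul]
    have heq : algebraMap B S (t₂ • b₁) = algebraMap B S (t₁ • b₂) := by
      rw [← hρ, ← hρ, ← hx', ← hy', map_mul, map_mul (f := ρ) (u₂ * u₁) y, hxy]
    obtain ⟨c, hc⟩ := (IsLocalization.eq_iff_exists q.primeCompl S).mp heq
    have hw : ((1 : R) ⊗ₜ[R₁] (c : B)) * (u₂ * u₁) ∈
        ((IsLocalRing.maximalIdeal S).comap ρ).primeCompl := by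
      rw [hmem, map_mul, map_mul, hρ]
      exact (IsLocalization.map_units S c).mul ((hunitW t₂ ht₂).mul (hunitW t₁ ht₁))
    refine ⟨⟨_, hw⟩, ?_⟩
    change ((1 : R) ⊗ₜ[R₁] (c : B)) * (u₂ * u₁) * x = ((1 : R) ⊗ₜ[R₁] (c : B)) * (u₂ * u₁) * y
    rw [mul_assoc _ (u₂ * u₁) x, mul_assoc _ (u₂ * u₁) y, hx', hy',
      Algebra.TensorProduct.tmul_mul_tmul, Algebra.TensorProduct.tmul_mul_tmul, hc]

end Loc

section K2

variable {R₁ B C R S T N : Type u} [CommRing R₁] [CommRing B] [CommRing C]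
  [Algebra R₁ B] [Algebra B C] [Algebra R₁ C] [IsScalarTower R₁ B C]
  [CommRing R] [CommRing S] [CommRing T] [IsLocalRing R] [IsLocalRing S] [IsLocalRing T]
  [Algebra R S] [Algebra S T] [Algebra R T] [IsScalarTower R S T]
  [IsLocalHom (algebraMap R S)] [IsLocalHom (algebraMap S T)]
  [Algebra R₁ R] [Algebra B S] [Algebra C T]
  [AddCommGroup N] [Module T N] [Module S N] [Module R N] [IsScalarTower S T N]
  [IsScalarTower R S N]

set_option synthInstance.maxHeartbeats 400000 in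
/-- **Critère de platitude par fibres, local form over a non-local base chart.** -/
theorem flat_of_fibre_local' [Algebra.FiniteType R₁ B] [Algebra.FinitePresentation R₁ C]
    (p : Ideal R₁) [p.IsPrime] [IsLocalization.AtPrime R p]
    (q : Ideal B) [q.IsPrime] [IsLocalization.AtPrime S q]
    (Q : Ideal C) [Q.IsPrime] [IsLocalization.AtPrime T Q]
    (h₁ : ∀ a : R₁, algebraMap R S (algebraMap R₁ R a) = algebraMap B S (algebraMap R₁ B a))
    (h₂ : ∀ b : B, algebraMap S T (algebraMap B S b) = algebraMap C T (algebraMap B C b))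
    [Module.FinitePresentation T N] [Nontrivial N]
    (hf1 : Module.Flat R N)
    (hf2 : Module.Flat (S ⧸ (IsLocalRing.maximalIdeal R).map (algebraMap R S))
      (N ⧸ ((IsLocalRing.maximalIdeal R).map (algebraMap R S)) • (⊤ : Submodule S N))) :
    Module.Flat S N ∧ Module.Flat R S := by
  classical
  letI algR₁S : Algebra R₁ S := ((algebraMap R S).comp (algebraMap R₁ R)).toAlgebra
  haveI : IsScalarTower R₁ R S := IsScalarTower.of_algebraMap_eq (fun _ => rfl)
  haveI : IsScalarTower R₁ B S := IsScalarTower.of_algebraMap_eq (fun a => h₁ a)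
  letI algR₁T : Algebra R₁ T := ((algebraMap R T).comp (algebraMap R₁ R)).toAlgebra
  haveI : IsScalarTower R₁ R T := IsScalarTower.of_algebraMap_eq (fun _ => rfl)
  haveI : IsScalarTower R₁ C T := IsScalarTower.of_algebraMap_eq (fun a => by
    change algebraMap R T (algebraMap R₁ R a) = algebraMap C T (algebraMap R₁ C a)
    rw [IsScalarTower.algebraMap_apply R S T, h₁, h₂, ← IsScalarTower.algebraMap_apply R₁ B C])
  let ρS : R ⊗[R₁] B →ₐ[R] S :=
    Algebra.TensorProduct.productLeftAlgHom (Algebra.ofId R S) (IsScalarTower.toAlgHom R₁ B S)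
  let ρT : R ⊗[R₁] C →ₐ[R] T :=
    Algebra.TensorProduct.productLeftAlgHom (Algebra.ofId R T) (IsScalarTower.toAlgHom R₁ C T)
  have hρS : ∀ (r : R) (b : B), ρS (r ⊗ₜ[R₁] b) = algebraMap R S r * algebraMap B S b :=
    fun r b => by simp [ρS, Algebra.ofId_apply]
  have hρT : ∀ (r : R) (c : C), ρT (r ⊗ₜ[R₁] c) = algebraMap R T r * algebraMap C T c :=
    fun r c => by simp [ρT, Algebra.ofId_apply]
  letI algBpS : Algebra (R ⊗[R₁] B) S := ρS.toRingHom.toAlgebra
  haveI : IsScalarTower R (R ⊗[R₁] B) S :=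
    IsScalarTower.of_algebraMap_eq (fun r => (ρS.commutes r).symm)
  letI algCpT : Algebra (R ⊗[R₁] C) T := ρT.toRingHom.toAlgebra
  let bc : R ⊗[R₁] B →ₐ[R] R ⊗[R₁] C :=
    Algebra.TensorProduct.map (AlgHom.id R R) (IsScalarTower.toAlgHom R₁ B C)
  letI algBpCp : Algebra (R ⊗[R₁] B) (R ⊗[R₁] C) := bc.toRingHom.toAlgebra
  haveI : IsScalarTower R (R ⊗[R₁] B) (R ⊗[R₁] C) :=
    IsScalarTower.of_algebraMap_eq (fun r => (bc.commutes r).symm)
  have hcompat : ∀ x : R ⊗[R₁] B,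
      algebraMap S T (algebraMap (R ⊗[R₁] B) S x) =
        algebraMap (R ⊗[R₁] C) T (algebraMap (R ⊗[R₁] B) (R ⊗[R₁] C) x) := by
    intro x
    change algebraMap S T (ρS x) = ρT (bc x)
    induction x with
    | zero => simp
    | add x y hx hy => simp only [map_add, hx, hy]
    | tmul r b =>
      rw [hρS, map_mul, h₂, ← IsScalarTower.algebraMap_apply R S T]
      simp [bc, hρT]
  haveI locS := isLocalization_atPrime_tensor (R₁ := R₁) (R := R) (B := B) (S := S) p.primeCompl q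
    ρS.toRingHom (fun b => by
      change ρS ((1 : R) ⊗ₜ[R₁] b) = _
      rw [hρS, map_one, one_mul])
  haveI locT := isLocalization_atPrime_tensor (R₁ := R₁) (R := R) (B := C) (S := T) p.primeCompl Q
    ρT.toRingHom (fun c => by
      change ρT ((1 : R) ⊗ₜ[R₁] c) = _
      rw [hρT, map_one, one_mul])
  haveI : ((IsLocalRing.maximalIdeal S).comap ρS.toRingHom).IsPrime := Ideal.comap_isPrime _ _
  haveI : ((IsLocalRing.maximalIdeal T).comap ρT.toRingHom).IsPrime := Ideal.comap_isPrime _ _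
  exact flat_of_fibre_local (R := R) (S := S) (T := T) (N := N) (B := R ⊗[R₁] B)
    (C := R ⊗[R₁] C) ((IsLocalRing.maximalIdeal S).comap ρS.toRingHom)
    ((IsLocalRing.maximalIdeal T).comap ρT.toRingHom) hcompat hf1 hf2

end K2

end Groth.Agent.Lib.CritFibF88
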