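import Groth.Agent.Lib.CritFibE88
import Groth.Prelude.Def_CAlgX

set_option autoImplicit false
set_option maxHeartbeats 400000
set_option linter.style.haveILetI false
set_option linter.unusedSectionVars false

open TensorProduct Function

/-!
# Critère de platitude par fibres for essentially finitely presented local algebras (helper88)

* `isLocalization_atPrime_of_isLocalRing`: a local localization is a localization at a prime.
* `exists_chart_over`: a local ring `S'`, localization of a finitely presented `R`-algebra, receiving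
  a finitely presented `R`-algebra `B`, is the localization at a prime of a finitely presented
  `R`-algebra `C` which is a `B`-algebra compatibly.
* `fibre_criterion_essFP`: Stacks 00R8 for essentially finitely presented local algebras.
-/

universe u

namespace Groth.Agent.Lib.CritFibG88

section AtPrime

/-- A local ring which is a localization is the localization at the contraction of its maximal
ideal. -/
theorem isLocalization_atPrime_of_isLocalRing {B S : Type*} [CommRing B] [CommRing S] [Algebra B S]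
    [IsLocalRing S] (W : Submonoid B) [IsLocalization W S] :
    haveI : ((IsLocalRing.maximalIdeal S).comap (algebraMap B S)).IsPrime :=
      Ideal.comap_isPrime _ _
    IsLocalization.AtPrime S ((IsLocalRing.maximalIdeal S).comap (algebraMap B S)) := by
  haveI : ((IsLocalRing.maximalIdeal S).comap (algebraMap B S)).IsPrime :=
    Ideal.comap_isPrime _ _
  have hmem : ∀ y : B, y ∈ ((IsLocalRing.maximalIdeal S).comap (algebraMap B S)).primeCompl ↔
      IsUnit (algebraMap B S y) := by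
    intro y
    change ¬ (y ∈ (IsLocalRing.maximalIdeal S).comap (algebraMap B S)) ↔ _
    rw [Ideal.mem_comap, IsLocalRing.mem_maximalIdeal, mem_nonunits_iff, not_not]
  refine IsLocalization.of_le W _ (fun w hw => ?_) (fun r hr => (hmem r).mp hr)
  exact (hmem w).mpr (IsLocalization.map_units S ⟨w, hw⟩)

end AtPrime

section Chart

variable {R B C' S' : Type u} [CommRing R] [CommRing B] [CommRing C'] [CommRing S']
  [Algebra R B] [Algebra R C'] [Algebra R S'] [Algebra B S'] [IsScalarTower R B S']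
  [Algebra C' S'] [IsScalarTower R C' S'] [IsLocalRing S']

set_option synthInstance.maxHeartbeats 400000 in
/-- If `S'` is a local ring, a localization of the finitely presented `R`-algebra `C'`, and receives
the finitely presented `R`-algebra `B`, then `S'` is the localization at a prime of a finitely
presented `R`-algebra `C` which is a `B`-algebra compatibly. -/
theorem exists_chart_over (W' : Submonoid C') [IsLocalization W' S']
    [Algebra.FinitePresentation R B] [Algebra.FinitePresentation R C'] :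
    ∃ (C : Type u) (_ : CommRing C) (_ : Algebra R C) (_ : Algebra B C) (_ : IsScalarTower R B C)
      (_ : Algebra C S') (Q : Ideal C) (_ : Q.IsPrime),
      Algebra.FinitePresentation R C ∧ IsLocalization.AtPrime S' Q ∧
        ∀ b : B, algebraMap C S' (algebraMap B C b) = algebraMap B S' b := by
  classical
  -- generators of `B`
  obtain ⟨G, hG⟩ := (Algebra.FiniteType.out : (⊤ : Subalgebra R B).FG)
  -- common denominator
  obtain ⟨t, ht⟩ := IsLocalization.exist_integer_multiples_of_finite W'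
    (fun x : G => algebraMap B S' (x : B))
  choose c hc using ht
  have hc' : ∀ x : G, algebraMap B S' (x : B) * algebraMap C' S' (t : C') =
      algebraMap C' S' (c x) := by
    intro x
    rw [hc x, Algebra.smul_def, mul_comm]
  -- the tensor product and the relations
  let π : B ⊗[R] C' →ₐ[R] S' :=
    Algebra.TensorProduct.productMap (IsScalarTower.toAlgHom R B S') (IsScalarTower.toAlgHom R C' S')
  have hπ : ∀ (b : B) (c' : C'), π (b ⊗ₜ[R] c') = algebraMap B S' b * algebraMap C' S' c' :=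
    fun b c' => by simp [π]
  let κ : G → B ⊗[R] C' := fun x => (x : B) ⊗ₜ[R] (t : C') - (1 : B) ⊗ₜ[R] c x
  let K : Ideal (B ⊗[R] C') := Ideal.span (Set.range κ)
  have hKfg : K.FG := ⟨Finset.univ.image κ, by simp [K]⟩
  have hKπ : ∀ z ∈ K, π.toRingHom z = 0 := by
    intro z hz
    have : K ≤ RingHom.ker π.toRingHom := by
      rw [Ideal.span_le]
      rintro _ ⟨x, rfl⟩
      change π (κ x) = 0
      simp only [κ, map_sub, hπ, map_one, one_mul]
      rw [hc', sub_self]
    exact this hz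
  haveI : Algebra.FinitePresentation B (B ⊗[R] C') := inferInstance
  haveI : Algebra.FinitePresentation R (B ⊗[R] C') :=
    Algebra.FinitePresentation.trans R B (B ⊗[R] C')
  haveI hfpC : Algebra.FinitePresentation R ((B ⊗[R] C') ⧸ K) :=
    Algebra.FinitePresentation.quotient hKfg
  -- the algebra structures
  let mk : B ⊗[R] C' →+* (B ⊗[R] C') ⧸ K := Ideal.Quotient.mk K
  have halgBC : ∀ b : B, algebraMap B ((B ⊗[R] C') ⧸ K) b = mk (b ⊗ₜ[R] (1 : C')) := fun b => rfl
  haveI : IsScalarTower R B ((B ⊗[R] C') ⧸ K) := inferInstance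
  let σ : (B ⊗[R] C') ⧸ K →+* S' := Ideal.Quotient.lift K π.toRingHom hKπ
  have hσ : ∀ z, σ (mk z) = π z := fun z => rfl
  letI algCS : Algebra ((B ⊗[R] C') ⧸ K) S' := σ.toAlgebra
  let Q : Ideal ((B ⊗[R] C') ⧸ K) := (IsLocalRing.maximalIdeal S').comap σ
  haveI : Q.IsPrime := Ideal.comap_isPrime _ _
  have hmem : ∀ y, y ∈ Q.primeCompl ↔ IsUnit (σ y) := by
    intro y
    change ¬ (y ∈ (IsLocalRing.maximalIdeal S').comap σ) ↔ _
    rw [Ideal.mem_comap, IsLocalRing.mem_maximalIdeal, mem_nonunits_iff, not_not]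
  have hunit : ∀ w ∈ W', IsUnit (σ (mk ((1 : B) ⊗ₜ[R] w))) := by
    intro w hw
    rw [hσ, hπ, map_one, one_mul]
    exact IsLocalization.map_units S' ⟨w, hw⟩
  -- the key reduction to `1 ⊗ c'`
  have key1 : ∀ b : B, ∃ (N : ℕ) (c' : C'),
      mk (b ⊗ₜ[R] ((t : C') ^ N)) = mk ((1 : B) ⊗ₜ[R] c') := by
    intro b
    have hb : b ∈ Algebra.adjoin R (G : Set B) := by rw [hG]; trivial
    induction hb using Algebra.adjoin_induction with
    | mem x hx =>
      refine ⟨1, c ⟨x, hx⟩, ?_⟩
      rw [pow_one, ← sub_eq_zero, ← map_sub, Ideal.Quotient.eq_zero_iff_mem]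
      exact Ideal.subset_span ⟨⟨x, hx⟩, rfl⟩
    | algebraMap r =>
      refine ⟨0, algebraMap R C' r, ?_⟩
      rw [pow_zero, Algebra.algebraMap_eq_smul_one, Algebra.algebraMap_eq_smul_one,
        TensorProduct.smul_tmul]
    | add b₁ b₂ _ _ h₁ h₂ =>
      obtain ⟨N₁, c₁, e₁⟩ := h₁
      obtain ⟨N₂, c₂, e₂⟩ := h₂
      refine ⟨N₁ + N₂, c₁ * (t : C') ^ N₂ + c₂ * (t : C') ^ N₁, ?_⟩
      have f₁ : mk (b₁ ⊗ₜ[R] ((t : C') ^ (N₁ + N₂))) = mk ((1 : B) ⊗ₜ[R] (c₁ * (t : C') ^ N₂)) := by
        have : b₁ ⊗ₜ[R] ((t : C') ^ (N₁ + N₂)) =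
            (b₁ ⊗ₜ[R] ((t : C') ^ N₁)) * ((1 : B) ⊗ₜ[R] ((t : C') ^ N₂)) := by
          rw [Algebra.TensorProduct.tmul_mul_tmul, mul_one, pow_add]
        rw [this, map_mul, e₁, ← map_mul, Algebra.TensorProduct.tmul_mul_tmul, mul_one]
      have f₂ : mk (b₂ ⊗ₜ[R] ((t : C') ^ (N₁ + N₂))) = mk ((1 : B) ⊗ₜ[R] (c₂ * (t : C') ^ N₁)) := by
        have : b₂ ⊗ₜ[R] ((t : C') ^ (N₁ + N₂)) =
            (b₂ ⊗ₜ[R] ((t : C') ^ N₂)) * ((1 : B) ⊗ₜ[R] ((t : C') ^ N₁)) := by
          rw [Algebra.TensorProduct.tmul_mul_tmul, mul_one, pow_add, mul_comm]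
        rw [this, map_mul, e₂, ← map_mul, Algebra.TensorProduct.tmul_mul_tmul, mul_one]
      rw [TensorProduct.add_tmul, map_add, f₁, f₂, ← map_add, ← TensorProduct.tmul_add]
    | mul b₁ b₂ _ _ h₁ h₂ =>
      obtain ⟨N₁, c₁, e₁⟩ := h₁
      obtain ⟨N₂, c₂, e₂⟩ := h₂
      refine ⟨N₁ + N₂, c₁ * c₂, ?_⟩
      have : (b₁ * b₂) ⊗ₜ[R] ((t : C') ^ (N₁ + N₂)) =
          (b₁ ⊗ₜ[R] ((t : C') ^ N₁)) * (b₂ ⊗ₜ[R] ((t : C') ^ N₂)) := by
        rw [Algebra.TensorProduct.tmul_mul_tmul, pow_add]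
      rw [this, map_mul, e₁, e₂, ← map_mul, Algebra.TensorProduct.tmul_mul_tmul, mul_one]
  have key2 : ∀ z : B ⊗[R] C', ∃ (N : ℕ) (c' : C'),
      mk (z * ((1 : B) ⊗ₜ[R] ((t : C') ^ N))) = mk ((1 : B) ⊗ₜ[R] c') := by
    intro z
    induction z with
    | zero => exact ⟨0, 0, by simp⟩
    | tmul b c'' =>
      obtain ⟨N, c₁, e₁⟩ := key1 b
      refine ⟨N, c₁ * c'', ?_⟩
      have : (b ⊗ₜ[R] c'') * ((1 : B) ⊗ₜ[R] ((t : C') ^ N)) =
          (b ⊗ₜ[R] ((t : C') ^ N)) * ((1 : B) ⊗ₜ[R] c'') := by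
        rw [Algebra.TensorProduct.tmul_mul_tmul, Algebra.TensorProduct.tmul_mul_tmul, mul_one,
          mul_comm]
      rw [this, map_mul, e₁, ← map_mul, Algebra.TensorProduct.tmul_mul_tmul, mul_one]
    | add z₁ z₂ h₁ h₂ =>
      obtain ⟨N₁, c₁, e₁⟩ := h₁
      obtain ⟨N₂, c₂, e₂⟩ := h₂
      refine ⟨N₁ + N₂, c₁ * (t : C') ^ N₂ + c₂ * (t : C') ^ N₁, ?_⟩
      have hpow : ((1 : B) ⊗ₜ[R] ((t : C') ^ (N₁ + N₂))) =
          ((1 : B) ⊗ₜ[R] ((t : C') ^ N₁)) * ((1 : B) ⊗ₜ[R] ((t : C') ^ N₂)) := by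
        rw [Algebra.TensorProduct.tmul_mul_tmul, mul_one, pow_add]
      have f₁ : mk (z₁ * ((1 : B) ⊗ₜ[R] ((t : C') ^ (N₁ + N₂)))) =
          mk ((1 : B) ⊗ₜ[R] (c₁ * (t : C') ^ N₂)) := by
        rw [hpow, ← mul_assoc, map_mul, e₁, ← map_mul, Algebra.TensorProduct.tmul_mul_tmul, mul_one]
      have f₂ : mk (z₂ * ((1 : B) ⊗ₜ[R] ((t : C') ^ (N₁ + N₂)))) =
          mk ((1 : B) ⊗ₜ[R] (c₂ * (t : C') ^ N₁)) := by
        rw [hpow, mul_comm ((1 : B) ⊗ₜ[R] ((t : C') ^ N₁)), ← mul_assoc, map_mul, e₂, ← map_mul,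
          Algebra.TensorProduct.tmul_mul_tmul, mul_one]
      rw [add_mul, map_add, f₁, f₂, ← map_add, ← TensorProduct.tmul_add]
  have hloc : IsLocalization.AtPrime S' Q := by
    refine (isLocalization_iff _ _).mpr ⟨?_, ?_, ?_⟩
    · intro y
      exact (hmem y).mp y.2
    · intro s'
      obtain ⟨⟨c', w'⟩, hw⟩ := IsLocalization.surj W' s'
      have hw' : mk ((1 : B) ⊗ₜ[R] (w' : C')) ∈ Q.primeCompl := (hmem _).mpr (hunit w' w'.2)
      refine ⟨⟨mk ((1 : B) ⊗ₜ[R] c'), ⟨_, hw'⟩⟩, ?_⟩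
      change s' * σ (mk _) = σ (mk _)
      rw [hσ, hσ, hπ, hπ, map_one, one_mul, one_mul]
      exact hw
    · intro x y hxy
      change σ x = σ y at hxy
      obtain ⟨z, hz⟩ := Ideal.Quotient.mk_surjective (x - y)
      obtain ⟨N, c', e⟩ := key2 z
      have h0 : algebraMap C' S' c' = 0 := by
        have h1 : σ (mk (z * ((1 : B) ⊗ₜ[R] ((t : C') ^ N)))) = σ (mk ((1 : B) ⊗ₜ[R] c')) := by
          rw [e]
        rw [map_mul, map_mul] at h1
        change σ (mk z) * _ = _ at h1
        have hz' : mk z = x - y := hz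
        rw [hz', map_sub, hxy, sub_self, zero_mul, hσ, hπ, map_one, one_mul] at h1
        exact h1.symm
      obtain ⟨w', hw'⟩ := (IsLocalization.map_eq_zero_iff W' S' c').mp h0
      have hwmem : mk ((1 : B) ⊗ₜ[R] ((w' : C') * (t : C') ^ N)) ∈ Q.primeCompl :=
        (hmem _).mpr (hunit _ (W'.mul_mem w'.2 (W'.pow_mem t.2 N)))
      refine ⟨⟨_, hwmem⟩, ?_⟩
      change mk ((1 : B) ⊗ₜ[R] ((w' : C') * (t : C') ^ N)) * x =
        mk ((1 : B) ⊗ₜ[R] ((w' : C') * (t : C') ^ N)) * y
      rw [← sub_eq_zero, ← mul_sub]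
      have hz' : mk z = x - y := hz
      rw [← hz']
      have : ((1 : B) ⊗ₜ[R] ((w' : C') * (t : C') ^ N)) * z =
          ((1 : B) ⊗ₜ[R] (w' : C')) * (z * ((1 : B) ⊗ₜ[R] ((t : C') ^ N))) := by
        rw [mul_comm z, ← mul_assoc, Algebra.TensorProduct.tmul_mul_tmul, mul_one]
      rw [← map_mul, this, map_mul, e, ← map_mul, Algebra.TensorProduct.tmul_mul_tmul, mul_one, hw',
        TensorProduct.tmul_zero, map_zero]
  refine ⟨(B ⊗[R] C') ⧸ K, inferInstance, inferInstance, inferInstance, inferInstance, algCS, Q,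
    inferInstance, hfpC, hloc, ?_⟩
  intro b
  change σ (mk (b ⊗ₜ[R] (1 : C'))) = _
  rw [hσ, hπ, map_one, mul_one]

end Chart

section Main

open Groth.Agent.Lib.CritFibE88 in
/-- **Critère de platitude par fibres** for essentially finitely presented local algebras. -/
theorem fibre_criterion_essFP {R S S' M : Type u} [CommRing R] [CommRing S] [CommRing S']
    [IsLocalRing R] [IsLocalRing S] [IsLocalRing S'] [Algebra R S] [Algebra S S'] [Algebra R S']
    [IsScalarTower R S S']
    [IsLocalHom (algebraMap R S)] [IsLocalHom (algebraMap S S')]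
    (hS : CAlgX.IsEssFinitePresentation R S) (hS' : CAlgX.IsEssFinitePresentation R S')
    [AddCommGroup M] [Module S' M] [Module S M] [Module R M] [IsScalarTower S S' M]
    [IsScalarTower R S' M]
    [IsScalarTower R S M] [Module.FinitePresentation S' M] [Nontrivial M] [Module.Flat R M]
    (hfib : Module.Flat (S ⧸ (IsLocalRing.maximalIdeal R).map (algebraMap R S))
      (M ⧸ (IsLocalRing.maximalIdeal R).map (algebraMap R S) • (⊤ : Submodule S M))) :
    Module.Flat R S ∧ Module.Flat S M := by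
  obtain ⟨B, _, _, _, _, W, hBfp, hWloc⟩ := hS
  obtain ⟨C', _, _, _, _, W', hC'fp, hW'loc⟩ := hS'
  letI algBS' : Algebra B S' := ((algebraMap S S').comp (algebraMap B S)).toAlgebra
  haveI : IsScalarTower B S S' := IsScalarTower.of_algebraMap_eq (fun _ => rfl)
  haveI : IsScalarTower R B S' := IsScalarTower.of_algebraMap_eq (fun r => by
    change algebraMap R S' r = algebraMap S S' (algebraMap B S (algebraMap R B r))
    rw [← IsScalarTower.algebraMap_apply R B S, ← IsScalarTower.algebraMap_apply R S S'])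
  obtain ⟨C, _, _, _, _, _, Q, _, hCfp, hQloc, hcompat⟩ :=
    exists_chart_over (R := R) (B := B) (C' := C') (S' := S') W'
  haveI hq := isLocalization_atPrime_of_isLocalRing (B := B) (S := S) W
  haveI : ((IsLocalRing.maximalIdeal S).comap (algebraMap B S)).IsPrime :=
    Ideal.comap_isPrime _ _
  have key := flat_of_fibre_local (R := R) (S := S) (T := S') (N := M) (B := B) (C := C)
    ((IsLocalRing.maximalIdeal S).comap (algebraMap B S)) Q (fun b => (hcompat b).symm)
    inferInstance hfib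
  exact ⟨key.2, key.1⟩

end Main

end Groth.Agent.Lib.CritFibG88
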