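import Groth.Agent.Lib.CritFibF88
import Groth.Agent.Lib.FibreFreeSch88

set_option autoImplicit false
set_option maxHeartbeats 400000
set_option linter.style.haveILetI false
set_option linter.unusedSectionVars false

open TensorProduct Function CategoryTheory AlgebraicGeometry
open Groth.Agent.Lib.CritFibF88

/-!
# Critère de platitude par fibres on schemes, at a point (helper88)

* `critere_stalk`: `f : X ⟶ Y`, `g : Y ⟶ S` with `f ≫ g` locally of finite presentation and `g`
  locally of finite type; `N` a nonzero finitely presented `O_{X,x}`-module, flat over `O_{S,s}`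
  with `N/𝔪_s N` flat over `O_{Y,y}/𝔪_s O_{Y,y}`. Then `g` is flat at `y` and `N` is flat over
  `O_{Y,y}`.
* `critere_module`: the statement for the stalk of a finitely presented `O_X`-module.
-/

universe u

namespace Groth.Agent.Lib.CritFibSch88

theorem stalkMap_germ_appLE {X Y : Scheme.{u}} (f : X ⟶ Y) (U : Y.Opens) (V : X.Opens)
    (e : V ≤ f ⁻¹ᵁ U) (x : X) (hx : x ∈ V) (a : Γ(Y, U)) :
    (f.stalkMap x).hom ((Y.presheaf.germ U (f x) (e hx)).hom a) =
      (X.presheaf.germ V x hx).hom ((f.appLE U V e).hom a) := by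
  have h1 := Scheme.Hom.germ_stalkMap_apply f U x (e hx) a
  have h2 := TopCat.Presheaf.germ_res_apply X.presheaf (homOfLE e) x hx (f.app U a)
  rw [Scheme.Hom.appLE]
  exact h1.trans h2.symm

/-- **Critère de platitude par fibres at a point of a scheme** (hard direction), for an abstract
module `N` over the local ring `O_{X,x}`. -/
theorem critere_stalk {X Y S : Scheme.{u}} (f : X ⟶ Y) (g : Y ⟶ S)
    [LocallyOfFinitePresentation (f ≫ g)] [LocallyOfFiniteType g] (x : X)
    {N : Type u} [AddCommGroup N] [Module (X.presheaf.stalk x) N]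
    [Module (Y.presheaf.stalk (f x)) N] [Module (S.presheaf.stalk (g (f x))) N]
    (hY : ∀ (b : Y.presheaf.stalk (f x)) (n : N), b • n = (f.stalkMap x).hom b • n)
    (hS : ∀ (a : S.presheaf.stalk (g (f x))) (n : N), a • n = (g.stalkMap (f x)).hom a • n)
    [Module.FinitePresentation (X.presheaf.stalk x) N] [Nontrivial N]
    (h1 : Module.Flat (S.presheaf.stalk (g (f x))) N)
    (h2 : Module.Flat (Y.presheaf.stalk (f x) ⧸
        Ideal.map (g.stalkMap (f x)).hom (IsLocalRing.maximalIdeal (S.presheaf.stalk (g (f x)))))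
      (N ⧸ (Ideal.map (g.stalkMap (f x)).hom
        (IsLocalRing.maximalIdeal (S.presheaf.stalk (g (f x))))) •
          (⊤ : Submodule (Y.presheaf.stalk (f x)) N))) :
    (g.stalkMap (f x)).hom.Flat ∧ Module.Flat (Y.presheaf.stalk (f x)) N := by
  -- charts
  obtain ⟨_, ⟨W, hW, rfl⟩, hsW, -⟩ :=
    S.isBasis_affineOpens.exists_subset_of_mem_open (Set.mem_univ (g (f x))) isOpen_univ
  obtain ⟨_, ⟨V, hV, rfl⟩, hyV, hVW⟩ :=
    Y.isBasis_affineOpens.exists_subset_of_mem_open hsW (W.2.preimage g.continuous)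
  obtain ⟨_, ⟨U, hU, rfl⟩, hxU, hUV⟩ :=
    X.isBasis_affineOpens.exists_subset_of_mem_open hyV (V.2.preimage f.continuous)
  have hUW : U ≤ (f ≫ g) ⁻¹ᵁ W := fun z hz => hVW (hUV hz)
  -- algebra structures on the charts
  letI algRB : Algebra Γ(S, W) Γ(Y, V) := (g.appLE W V hVW).hom.toAlgebra
  letI algBC : Algebra Γ(Y, V) Γ(X, U) := (f.appLE V U hUV).hom.toAlgebra
  letI algRC : Algebra Γ(S, W) Γ(X, U) := ((f ≫ g).appLE W U hUW).hom.toAlgebra
  haveI : IsScalarTower Γ(S, W) Γ(Y, V) Γ(X, U) := IsScalarTower.of_algebraMap_eq (fun a => by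
    change ((f ≫ g).appLE W U hUW).hom a = (f.appLE V U hUV).hom ((g.appLE W V hVW).hom a)
    rw [← Scheme.Hom.appLE_comp_appLE f g W V U hVW hUV]
    rfl)
  haveI : Algebra.FiniteType Γ(S, W) Γ(Y, V) := g.finiteType_appLE hW hV hVW
  haveI : Algebra.FinitePresentation Γ(S, W) Γ(X, U) :=
    (f ≫ g).finitePresentation_appLE hW hU hUW
  -- algebra structures on the stalks
  letI algRS : Algebra (S.presheaf.stalk (g (f x))) (Y.presheaf.stalk (f x)) :=
    (g.stalkMap (f x)).hom.toAlgebra
  letI algST : Algebra (Y.presheaf.stalk (f x)) (X.presheaf.stalk x) := (f.stalkMap x).hom.toAlgebra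
  letI algRT : Algebra (S.presheaf.stalk (g (f x))) (X.presheaf.stalk x) :=
    ((f.stalkMap x).hom.comp (g.stalkMap (f x)).hom).toAlgebra
  haveI : IsScalarTower (S.presheaf.stalk (g (f x))) (Y.presheaf.stalk (f x))
      (X.presheaf.stalk x) := IsScalarTower.of_algebraMap_eq (fun _ => rfl)
  haveI : IsLocalHom (algebraMap (S.presheaf.stalk (g (f x))) (Y.presheaf.stalk (f x))) :=
    show IsLocalHom (g.stalkMap (f x)).hom from inferInstance
  haveI : IsLocalHom (algebraMap (Y.presheaf.stalk (f x)) (X.presheaf.stalk x)) :=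
    show IsLocalHom (f.stalkMap x).hom from inferInstance
  haveI : IsScalarTower (Y.presheaf.stalk (f x)) (X.presheaf.stalk x) N :=
    IsScalarTower.of_algebraMap_smul (fun b n => (hY b n).symm)
  haveI : IsScalarTower (S.presheaf.stalk (g (f x))) (Y.presheaf.stalk (f x)) N :=
    IsScalarTower.of_algebraMap_smul (fun a n => (hS a n).symm)
  -- localizations
  letI := S.presheaf.algebra_section_stalk ⟨g (f x), hsW⟩
  haveI := hW.isLocalization_stalk ⟨g (f x), hsW⟩
  letI := Y.presheaf.algebra_section_stalk ⟨f x, hyV⟩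
  haveI := hV.isLocalization_stalk ⟨f x, hyV⟩
  letI := X.presheaf.algebra_section_stalk ⟨x, hxU⟩
  haveI := hU.isLocalization_stalk ⟨x, hxU⟩
  have h₁ : ∀ a : Γ(S, W), algebraMap (S.presheaf.stalk (g (f x))) (Y.presheaf.stalk (f x))
      (algebraMap Γ(S, W) (S.presheaf.stalk (g (f x))) a) =
      algebraMap Γ(Y, V) (Y.presheaf.stalk (f x)) (algebraMap Γ(S, W) Γ(Y, V) a) := by
    intro a
    exact stalkMap_germ_appLE g W V hVW (f x) hyV a
  have h₂ : ∀ b : Γ(Y, V), algebraMap (Y.presheaf.stalk (f x)) (X.presheaf.stalk x)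
      (algebraMap Γ(Y, V) (Y.presheaf.stalk (f x)) b) =
      algebraMap Γ(X, U) (X.presheaf.stalk x) (algebraMap Γ(Y, V) Γ(X, U) b) := by
    intro b
    exact stalkMap_germ_appLE f V U hUV x hxU b
  have key := flat_of_fibre_local' (R₁ := Γ(S, W)) (B := Γ(Y, V)) (C := Γ(X, U))
    (R := S.presheaf.stalk (g (f x))) (S := Y.presheaf.stalk (f x)) (T := X.presheaf.stalk x)
    (N := N) (hW.primeIdealOf ⟨g (f x), hsW⟩).asIdeal (hV.primeIdealOf ⟨f x, hyV⟩).asIdeal
    (hU.primeIdealOf ⟨x, hxU⟩).asIdeal h₁ h₂ h1 h2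
  exact ⟨key.2, key.1⟩

/-- The easy direction, ring level: `R → S` flat, `N` flat over `S`; then `N` is flat over `R` and
`N/IN` is flat over `S/I`. -/
theorem easy_direction {R S N : Type*} [CommRing R] [CommRing S] [Algebra R S]
    [AddCommGroup N] [Module S N] [Module R N] [IsScalarTower R S N]
    (hRS : Module.Flat R S) (hSN : Module.Flat S N) (I : Ideal S) :
    Module.Flat R N ∧ Module.Flat (S ⧸ I) (N ⧸ I • (⊤ : Submodule S N)) := by
  refine ⟨Module.Flat.trans R S N, ?_⟩
  have h : Module.Flat (S ⧸ I) ((S ⧸ I) ⊗[S] N) := inferInstance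
  let e0 := TensorProduct.quotTensorEquivQuotSMul N I
  let e1 : (S ⧸ I) ⊗[S] N ≃ₗ[S ⧸ I] N ⧸ (I • (⊤ : Submodule S N)) :=
    LinearEquiv.extendScalarsOfSurjective Ideal.Quotient.mk_surjective e0
  exact Module.Flat.of_linearEquiv e1.symm

/-- **Critère de platitude par fibres for a finitely presented module at a point.** -/
theorem critere_module {X Y S : Scheme.{u}} (f : X ⟶ Y) (g : Y ⟶ S)
    [LocallyOfFinitePresentation (f ≫ g)] [LocallyOfFiniteType g]
    (F : X.Modules) (hfp : CohB1.IsFP F) (x : X) (hx : Nontrivial ↑(F.presheaf.stalk x)) :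
    letI := FlatMod.moduleStalkOver f F x
    (FlatMod.IsFlatOverAt (f ≫ g) F x ∧
      Module.Flat (↑(Y.presheaf.stalk (f x)) ⧸ Ideal.map (g.stalkMap (f x)).hom (IsLocalRing.maximalIdeal ↑(S.presheaf.stalk (g (f x)))))
        (↑(F.presheaf.stalk x) ⧸ (Ideal.map (g.stalkMap (f x)).hom (IsLocalRing.maximalIdeal ↑(S.presheaf.stalk (g (f x)))) •
          (⊤ : Submodule ↑(Y.presheaf.stalk (f x)) ↑(F.presheaf.stalk x))))) ↔
    ((g.stalkMap (f x)).hom.Flat ∧ FlatMod.IsFlatOverAt f F x) := by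
  letI modY := FlatMod.moduleStalkOver f F x
  letI modS : Module (S.presheaf.stalk (g (f x))) (F.presheaf.stalk x) :=
    FlatMod.moduleStalkOver (f ≫ g) F x
  have hY : ∀ (b : Y.presheaf.stalk (f x)) (n : F.presheaf.stalk x),
      b • n = (f.stalkMap x).hom b • n := fun _ _ => rfl
  have hS : ∀ (a : S.presheaf.stalk (g (f x))) (n : F.presheaf.stalk x),
      a • n = (g.stalkMap (f x)).hom a • n := by
    intro a n
    change ((f ≫ g).stalkMap x).hom a • n = (f.stalkMap x).hom ((g.stalkMap (f x)).hom a) • n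
    rw [Scheme.Hom.stalkMap_comp]
    rfl
  haveI := Groth.Agent.Lib.FibreFreeSch88.finitePresentation_stalk_of_isFP F hfp x
  constructor
  · rintro ⟨h1, h2⟩
    exact critere_stalk f g x hY hS h1 h2
  · rintro ⟨h1, h2⟩
    letI algRS : Algebra (S.presheaf.stalk (g (f x))) (Y.presheaf.stalk (f x)) :=
      (g.stalkMap (f x)).hom.toAlgebra
    haveI : IsScalarTower (S.presheaf.stalk (g (f x))) (Y.presheaf.stalk (f x))
        (F.presheaf.stalk x) := IsScalarTower.of_algebraMap_smul (fun a n => (hS a n).symm)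
    exact easy_direction h1 h2 _

end Groth.Agent.Lib.CritFibSch88
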