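import Groth.Agent.Lib.CtblProjective

/-!
Countably generated Mittag-Leffler modules are direct summands of countable direct sums of
finitely presented modules.
-/

set_option autoImplicit false
universe u
open scoped TensorProduct

namespace Groth.Agent.Lib.CtblML

open TensorProduct CAlg DirectSum Groth.Agent.Lib.CtblProjective

section telescope
variable {R : Type u} [CommRing R] {M : Type u} [AddCommGroup M] [Module R M]
variable {F : ℕ → Type u} [∀ n, AddCommGroup (F n)] [∀ n, Module R (F n)]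
  {v : ∀ n, F n →ₗ[R] F (n+1)} {u : ∀ n, F n →ₗ[R] M}
  {h : ∀ n, F (n+2) →ₗ[R] F (n+1)}

/-- A Mittag-Leffler telescope with colimit `M` exhibits `M` as a direct summand of `⨁ F n`. -/
theorem exists_section_of_telescope
    (hu : ∀ n, u (n+1) ∘ₗ v n = u n)
    (hsurj : ∀ m : M, ∃ n y, u n y = m)
    (hker : ∀ n, LinearMap.ker (u n) ≤ LinearMap.ker (v n))
    (hh : ∀ n, h n ∘ₗ v (n+1) ∘ₗ v n = v n) :
    ∃ s : M →ₗ[R] (⨁ n, F n), (DirectSum.toModule R ℕ M u) ∘ₗ s = LinearMap.id := by
  classical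
  set U : (⨁ n, F n) →ₗ[R] M := DirectSum.toModule R ℕ M u with hU
  set Ψ : (⨁ n, F n) →ₗ[R] (⨁ n, F n) := DirectSum.toModule R ℕ _ (psi F v h) with hΨ
  have hUΨ : U ∘ₗ Ψ = U := by
    apply DirectSum.linearMap_ext
    intro n
    ext y
    have := LinearMap.congr_fun (toModule_comp_psi (h := h) hu n) y
    simp only [LinearMap.comp_apply] at this
    simp only [hU, hΨ, LinearMap.comp_apply, DirectSum.toModule_lof]
    exact this
  have hpush : ∀ t : ⨁ n, F n, ∃ N₀ : ℕ, ∀ N, N₀ ≤ N →
      ∃ y : F N, Ψ t = psi F v h N y ∧ U t = u N y := by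
    intro t
    induction t using DirectSum.induction_on with
    | zero => exact ⟨0, fun N _ => ⟨0, by simp⟩⟩
    | of n x =>
      refine ⟨n, fun N hN => ?_⟩
      induction N, hN using Nat.le_induction with
      | base =>
        refine ⟨x, ?_, ?_⟩
        · show Ψ (DirectSum.lof R ℕ F n x) = _
          simp [hΨ, DirectSum.toModule_lof]
        · show U (DirectSum.lof R ℕ F n x) = _
          simp [hU, DirectSum.toModule_lof]
      | succ N hN ih =>
        obtain ⟨y, hy1, hy2⟩ := ih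
        refine ⟨v N y, ?_, ?_⟩
        · rw [hy1, ← psi_succ_comp hh N]; rfl
        · rw [hy2, ← hu N]; rfl
    | add t t' iht iht' =>
      obtain ⟨N₁, h1⟩ := iht
      obtain ⟨N₂, h2⟩ := iht'
      refine ⟨max N₁ N₂, fun N hN => ?_⟩
      obtain ⟨y1, hy1, hy1'⟩ := h1 N (le_trans (le_max_left _ _) hN)
      obtain ⟨y2, hy2, hy2'⟩ := h2 N (le_trans (le_max_right _ _) hN)
      exact ⟨y1 + y2, by rw [map_add, map_add, hy1, hy2], by rw [map_add, map_add, hy1', hy2']⟩
  have hkerU : LinearMap.ker U ≤ LinearMap.ker Ψ := by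
    intro t ht
    rw [LinearMap.mem_ker] at ht ⊢
    obtain ⟨N₀, hN⟩ := hpush t
    obtain ⟨y, hy1, hy2⟩ := hN N₀ le_rfl
    rw [ht] at hy2
    have : v N₀ y = 0 := hker N₀ (by rw [LinearMap.mem_ker]; exact hy2.symm)
    rw [hy1, ← psi_succ_comp hh N₀, LinearMap.comp_apply, this, map_zero]
  have hsurjU : Function.Surjective U := by
    intro m
    obtain ⟨n, y, hy⟩ := hsurj m
    exact ⟨DirectSum.lof R ℕ F n y, by simp [hU, DirectSum.toModule_lof, hy]⟩
  let s : M →ₗ[R] (⨁ n, F n) :=
    (Submodule.liftQ (LinearMap.ker U) Ψ hkerU) ∘ₗ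
      (U.quotKerEquivOfSurjective hsurjU).symm.toLinearMap
  refine ⟨s, ?_⟩
  ext m
  obtain ⟨t, rfl⟩ := hsurjU m
  have : (U.quotKerEquivOfSurjective hsurjU).symm (U t) = Submodule.Quotient.mk t := by
    rw [LinearEquiv.symm_apply_eq]
    rfl
  simp only [s, LinearMap.comp_apply, LinearEquiv.coe_coe, this, Submodule.liftQ_apply,
    LinearMap.id_apply]
  exact LinearMap.congr_fun hUΨ t

end telescope

section step
variable {R : Type u} [CommRing R] {M : Type u} [AddCommGroup M] [Module R M]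

lemma ker_le_ker_of_dominates {A B : Type u} [AddCommGroup A] [Module R A] [AddCommGroup B]
    [Module R B] (f : A →ₗ[R] M) (g : A →ₗ[R] B)
    (hdom : LinearMap.ker (f.rTensor R) ≤ LinearMap.ker (g.rTensor R)) :
    LinearMap.ker f ≤ LinearMap.ker g := by
  intro y hy
  rw [LinearMap.mem_ker] at hy ⊢
  have h1 : (y ⊗ₜ[R] (1 : R)) ∈ LinearMap.ker (f.rTensor R) := by
    rw [LinearMap.mem_ker, LinearMap.rTensor_tmul, hy, zero_tmul]
  have h2 := hdom h1
  rw [LinearMap.mem_ker, LinearMap.rTensor_tmul] at h2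
  have := congrArg (TensorProduct.rid R _) h2
  simpa using this

/-- one step of the f.p. telescope -/
lemma exists_step_fp (hML : CAlg.IsMittagLeffler R M) {k : ℕ} (K : Submodule R (Fin k → R))
    (h : ((Fin k → R) ⧸ K) →ₗ[R] M) (x : M) :
    ∃ (k' : ℕ) (K' : Submodule R (Fin k' → R)) (w : ((Fin k → R) ⧸ K) →ₗ[R] ((Fin k' → R) ⧸ K'))
      (h' : ((Fin k' → R) ⧸ K') →ₗ[R] M), K'.FG ∧
      h' ∘ₗ w = h ∧ x ∈ LinearMap.range h' ∧
      ∀ (N : Type u) [AddCommGroup N] [Module R N],
        LinearMap.ker (h.rTensor N) ≤ LinearMap.ker (w.rTensor N) := by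
  let inc : (Fin k → R) →ₗ[R] (Fin (k + 1) → R) :=
    Fintype.linearCombination R
      (fun i : Fin k => (Pi.single (Fin.castSucc i) 1 : Fin (k + 1) → R))
  let z : Fin (k + 1) → M := Fin.snoc (fun i : Fin k => h (K.mkQ (Pi.single i 1))) x
  let u : (Fin (k + 1) → R) →ₗ[R] M := Fintype.linearCombination R z
  have hinc : ∀ i : Fin k, inc (Pi.single i 1) = Pi.single (Fin.castSucc i) 1 := by
    intro i
    simp [inc, Fintype.linearCombination_apply, Pi.single_apply, Finset.sum_ite_eq']
  have husingle : ∀ j : Fin (k + 1), u (Pi.single j 1) = z j := by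
    intro j
    simp [u, Fintype.linearCombination_apply, Pi.single_apply, Finset.sum_ite_eq']
  have huinc : u ∘ₗ inc = h ∘ₗ K.mkQ := by
    apply (Pi.basisFun R (Fin k)).ext
    intro i
    rw [Pi.basisFun_apply, LinearMap.comp_apply, hinc, husingle]
    simp [z]
  obtain ⟨n', K', g, h'', hK', hgh, hdom⟩ := exists_dominating_factorization hML u
  have hKle : K ≤ LinearMap.ker (g ∘ₗ inc) := by
    intro y hy
    have h1 : inc y ∈ LinearMap.ker u := by
      rw [LinearMap.mem_ker, ← LinearMap.comp_apply, huinc, LinearMap.comp_apply]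
      have : K.mkQ y = 0 := by
        rw [Submodule.mkQ_apply, Submodule.Quotient.mk_eq_zero]; exact hy
      rw [this, map_zero]
    have := ker_le_ker_of_dominates u g (hdom R) h1
    rw [LinearMap.mem_ker] at this ⊢
    exact this
  let w : ((Fin k → R) ⧸ K) →ₗ[R] ((Fin n' → R) ⧸ K') := K.liftQ (g ∘ₗ inc) hKle
  have hw : w ∘ₗ K.mkQ = g ∘ₗ inc := Submodule.liftQ_mkQ K _ hKle
  refine ⟨n', K', w, h'', hK', ?_, ?_, ?_⟩
  · apply Submodule.linearMap_qext
    rw [LinearMap.comp_assoc, hw, ← LinearMap.comp_assoc, hgh, huinc]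
  · refine ⟨g (Pi.single (Fin.last k) 1), ?_⟩
    rw [← LinearMap.comp_apply, hgh, husingle]
    simp [z]
  · intro N _ _ y hy
    rw [LinearMap.mem_ker] at hy ⊢
    obtain ⟨y', rfl⟩ := LinearMap.rTensor_surjective N K.mkQ_surjective y
    rw [← LinearMap.comp_apply, ← LinearMap.rTensor_comp] at hy ⊢
    rw [hw, LinearMap.rTensor_comp, LinearMap.comp_apply]
    rw [← huinc, LinearMap.rTensor_comp, LinearMap.comp_apply] at hy
    exact hdom N hy

end step


section main
variable {R : Type u} [CommRing R] {M : Type u} [AddCommGroup M] [Module R M]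

variable (R M) in
/-- state of the f.p. telescope construction -/
structure St where
  k : ℕ
  K : Submodule R (Fin k → R)
  fg : K.FG
  h : ((Fin k → R) ⧸ K) →ₗ[R] M

variable (hML : CAlg.IsMittagLeffler R M)

noncomputable def St.nextk (s : St R M) (x : M) : ℕ := (exists_step_fp hML s.K s.h x).choose

noncomputable def St.nextK (s : St R M) (x : M) : Submodule R (Fin (s.nextk hML x) → R) :=
  (exists_step_fp hML s.K s.h x).choose_spec.choose

noncomputable def St.nextW (s : St R M) (x : M) :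
    ((Fin s.k → R) ⧸ s.K) →ₗ[R] ((Fin (s.nextk hML x) → R) ⧸ s.nextK hML x) :=
  (exists_step_fp hML s.K s.h x).choose_spec.choose_spec.choose

noncomputable def St.nextH (s : St R M) (x : M) :
    ((Fin (s.nextk hML x) → R) ⧸ s.nextK hML x) →ₗ[R] M :=
  (exists_step_fp hML s.K s.h x).choose_spec.choose_spec.choose_spec.choose

lemma St.next_spec (s : St R M) (x : M) :
    (s.nextK hML x).FG ∧ s.nextH hML x ∘ₗ s.nextW hML x = s.h ∧
      x ∈ LinearMap.range (s.nextH hML x) ∧
      ∀ (N : Type u) [AddCommGroup N] [Module R N],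
        LinearMap.ker (s.h.rTensor N) ≤ LinearMap.ker ((s.nextW hML x).rTensor N) :=
  (exists_step_fp hML s.K s.h x).choose_spec.choose_spec.choose_spec.choose_spec

noncomputable def St.next (s : St R M) (x : M) : St R M :=
  ⟨s.nextk hML x, s.nextK hML x, (s.next_spec hML x).1, s.nextH hML x⟩

noncomputable def seq (x : ℕ → M) : ℕ → St R M
  | 0 => ⟨0, ⊥, Submodule.fg_bot, 0⟩
  | n+1 => (seq x n).next hML (x n)

lemma finitePresentation_quotient {k : ℕ} (K : Submodule R (Fin k → R)) (hK : K.FG) :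
    Module.FinitePresentation R ((Fin k → R) ⧸ K) :=
  Module.finitePresentation_of_surjective K.mkQ K.mkQ_surjective
    (by rw [Submodule.ker_mkQ]; exact hK)

include hML in
theorem exists_fp_summand_of_seq_span (x : ℕ → M) (hx : Submodule.span R (Set.range x) = ⊤) :
    ∃ (k : ℕ → ℕ) (K : ∀ n, Submodule R (Fin (k n) → R)), (∀ n, (K n).FG) ∧
      ∃ (u : ∀ n, ((Fin (k n) → R) ⧸ K n) →ₗ[R] M)
        (s : M →ₗ[R] (⨁ n, (Fin (k n) → R) ⧸ K n)),
        (DirectSum.toModule R ℕ M u) ∘ₗ s = LinearMap.id := by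
  let F : ℕ → Type u := fun n => (Fin (seq hML x n).k → R) ⧸ (seq hML x n).K
  let vv : ∀ n, F n →ₗ[R] F (n+1) := fun n => (seq hML x n).nextW hML (x n)
  let uu : ∀ n, F n →ₗ[R] M := fun n => (seq hML x n).h
  have hfp : ∀ n, Module.FinitePresentation R (F n) := fun n =>
    finitePresentation_quotient _ (seq hML x n).fg
  have hu : ∀ n, uu (n+1) ∘ₗ vv n = uu n := fun n => ((seq hML x n).next_spec hML (x n)).2.1
  have hxr : ∀ n, x n ∈ LinearMap.range (uu (n+1)) :=
    fun n => ((seq hML x n).next_spec hML (x n)).2.2.1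
  have hdom : ∀ n (N : Type u) [AddCommGroup N] [Module R N],
      LinearMap.ker ((uu n).rTensor N) ≤ LinearMap.ker ((vv n).rTensor N) :=
    fun n => ((seq hML x n).next_spec hML (x n)).2.2.2
  -- surjectivity
  have hmono : Monotone (fun n => LinearMap.range (uu n)) := by
    apply monotone_nat_of_le_succ
    intro n
    rintro _ ⟨y, rfl⟩
    exact ⟨vv n y, LinearMap.congr_fun (hu n) y⟩
  have hsurj : ∀ m : M, ∃ n y, uu n y = m := by
    intro m
    have hm : m ∈ ⨆ k, (⟨fun n => LinearMap.range (uu n), hmono⟩ : ℕ →o Submodule R M) k := by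
      have : (⊤ : Submodule R M) ≤
          ⨆ k, (⟨fun n => LinearMap.range (uu n), hmono⟩ : ℕ →o Submodule R M) k := by
        rw [← hx, Submodule.span_le]
        rintro _ ⟨n, rfl⟩
        exact Submodule.mem_iSup_of_mem (n+1) (hxr n)
      exact this Submodule.mem_top
    obtain ⟨k, hk⟩ := (Submodule.mem_iSup_of_chain _ m).mp hm
    obtain ⟨y, hy⟩ := hk
    exact ⟨k, y, hy⟩
  have hker : ∀ n, LinearMap.ker (uu n) ≤ LinearMap.ker (vv n) :=
    fun n => ker_le_ker_of_dominates (uu n) (vv n) (hdom n R)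
  -- the retractions
  have hex : ∀ n, ∃ h : F (n+2) →ₗ[R] F (n+1), vv n = h ∘ₗ (vv (n+1) ∘ₗ vv n) := by
    intro n
    have := hfp (n+2)
    have := hfp n
    have : Module.FinitePresentation R (F (n+2) ⧸ LinearMap.range (vv (n+1) ∘ₗ vv n)) := by
      apply Module.finitePresentation_of_surjective (LinearMap.range (vv (n+1) ∘ₗ vv n)).mkQ
        (Submodule.mkQ_surjective _)
      rw [Submodule.ker_mkQ]
      rw [← Module.Finite.iff_fg]
      infer_instance
    refine (Groth.Agent.S6359.result R (vv (n+1) ∘ₗ vv n) (vv n)).mp ?_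
    intro Q _ _ z hz
    apply hdom n Q
    rw [LinearMap.mem_ker] at hz ⊢
    have e : uu n = uu (n+2) ∘ₗ (vv (n+1) ∘ₗ vv n) := by
      rw [← LinearMap.comp_assoc, hu (n+1), hu n]
    rw [e, LinearMap.rTensor_comp, LinearMap.comp_apply, hz, map_zero]
  choose h hh using hex
  obtain ⟨s, hs⟩ := exists_section_of_telescope (F := F) (v := vv) (u := uu) (h := h) hu hsurj hker
    (fun n => (hh n).symm)
  exact ⟨fun n => (seq hML x n).k, fun n => (seq hML x n).K, fun n => (seq hML x n).fg, uu, s, hs⟩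

include hML in
/-- A countably generated Mittag-Leffler module is a direct summand of a countable direct sum of
finitely presented modules. -/
theorem exists_fp_summand (hc : CAlg.IsCountablyGenerated R M) :
    ∃ (k : ℕ → ℕ) (K : ∀ n, Submodule R (Fin (k n) → R)), (∀ n, (K n).FG) ∧
      ∃ (u : ∀ n, ((Fin (k n) → R) ⧸ K n) →ₗ[R] M)
        (s : M →ₗ[R] (⨁ n, (Fin (k n) → R) ⧸ K n)),
        (DirectSum.toModule R ℕ M u) ∘ₗ s = LinearMap.id := by
  obtain ⟨s, hs, hspan⟩ := hc
  have hs' : (insert (0 : M) s).Countable := hs.insert 0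
  obtain ⟨x, hx⟩ := hs'.exists_eq_range (Set.insert_nonempty 0 s)
  apply exists_fp_summand_of_seq_span hML x
  rw [← hx, eq_top_iff, ← hspan]
  exact Submodule.span_mono (Set.subset_insert 0 s)

end main

end Groth.Agent.Lib.CtblML
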