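import Groth.Prelude.Def_CohB1
import Mathlib.AlgebraicGeometry.QuasiAffine

/-!
# helper78: the structure sheaf as an invertible module: endomorphisms, tensor powers, `genLocus`
(namespace `Groth.Agent.Lib.H78AmpleUnit`)
-/

set_option autoImplicit false
universe u
open CategoryTheory CategoryTheory.Limits AlgebraicGeometry MonoidalCategory Opposite

namespace Groth.Agent.Lib.H78AmpleUnit

variable {X : Scheme.{u}}

/-- the structure sheaf as a module -/
noncomputable abbrev O (X : Scheme.{u}) : X.Modules := Coh.structureModule X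

/-- a function on `V` as a section of the structure module -/
noncomputable def toSec (V : X.Opens) (a : Γ(X, V)) : Γ(O X, V) := a

/-- a section of the structure module as a function -/
noncomputable def ofSec (V : X.Opens) (s : Γ(O X, V)) : Γ(X, V) := s

@[simp] lemma ofSec_toSec (V : X.Opens) (a : Γ(X, V)) : ofSec V (toSec V a) = a := rfl
@[simp] lemma toSec_ofSec (V : X.Opens) (s : Γ(O X, V)) : toSec V (ofSec V s) = s := rfl

lemma toSec_mul (V : X.Opens) (a b : Γ(X, V)) : toSec V (a * b) = a • toSec V b := rfl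

lemma toSec_eq_smul_one (V : X.Opens) (a : Γ(X, V)) : toSec V a = a • toSec V 1 := by
  rw [← toSec_mul, mul_one]

lemma toSec_res {U V : X.Opens} (i : U ⟶ V) (a : Γ(X, V)) :
    (O X).presheaf.map i.op (toSec V a) = toSec U (X.presheaf.map i.op a) := rfl

lemma toSec_add (V : X.Opens) (a b : Γ(X, V)) : toSec V (a + b) = toSec V a + toSec V b := rfl

/-- the function attached to an endomorphism of the structure module -/
noncomputable def fn (φ : O X ⟶ O X) : Γ(X, ⊤) := ofSec ⊤ (φ.app ⊤ (toSec ⊤ 1))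

lemma app_toSec (φ : O X ⟶ O X) (U : X.Opens) (a : Γ(X, U)) :
    φ.app U (toSec U a) = toSec U (a * X.presheaf.map (homOfLE le_top).op (fn φ)) := by
  rw [toSec_eq_smul_one U a, Scheme.Modules.Hom.app_smul, toSec_mul]
  congr 1
  have h1 : toSec U (1 : Γ(X, U)) = (O X).presheaf.map (homOfLE (le_top : U ≤ ⊤)).op (toSec ⊤ 1) := by
    rw [toSec_res, map_one]
  rw [h1]
  have hnat := φ.mapPresheaf.naturality (homOfLE (le_top : U ≤ ⊤)).op
  have := congrArg (fun ψ => ψ (toSec ⊤ (1 : Γ(X, ⊤)))) hnat
  rw [fn, ← toSec_res, toSec_ofSec]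
  exact this

lemma toSec_injective (V : X.Opens) : Function.Injective (toSec (X := X) V) := fun _ _ h => h

lemma toSec_surjective (V : X.Opens) : Function.Surjective (toSec (X := X) V) := fun s => ⟨ofSec V s, rfl⟩

/-- restriction of a global function -/
noncomputable abbrev res (f : Γ(X, ⊤)) (U : X.Opens) : Γ(X, U) := X.presheaf.map (homOfLE (le_top : U ≤ ⊤)).op f

lemma res_res (f : Γ(X, ⊤)) {U V : X.Opens} (h : U ≤ V) :
    X.presheaf.map (homOfLE h).op (res f V) = res f U := by
  rw [res, res, ← CommRingCat.comp_apply, ← Functor.map_comp]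
  rfl

lemma res_map (f : Γ(X, ⊤)) {U V : X.Opens} (i : U ⟶ V) :
    X.presheaf.map i.op (res f V) = res f U := by
  rw [res, res, ← CommRingCat.comp_apply, ← Functor.map_comp]
  rfl

lemma isUnit_res_of_le (f : Γ(X, ⊤)) {U V : X.Opens} (h : U ≤ V) (hV : IsUnit (res f V)) : IsUnit (res f U) := by
  rw [← res_res f h]
  exact hV.map _

lemma isIso_app_iff (φ : O X ⟶ O X) (U : X.Opens) : IsIso (φ.app U) ↔ IsUnit (res (fn φ) U) := by
  rw [ConcreteCategory.isIso_iff_bijective]
  constructor
  · rintro ⟨-, hsurj⟩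
    obtain ⟨y, hy⟩ := hsurj (toSec U 1)
    obtain ⟨b, rfl⟩ := toSec_surjective U y
    rw [app_toSec] at hy
    exact IsUnit.of_mul_eq_one _ ((mul_comm _ _).trans (toSec_injective U hy))
  · intro hu
    obtain ⟨g, hg⟩ := hu.exists_right_inv
    constructor
    · intro y y' hyy'
      obtain ⟨b, rfl⟩ := toSec_surjective U y
      obtain ⟨b', rfl⟩ := toSec_surjective U y'
      rw [app_toSec, app_toSec] at hyy'
      have := toSec_injective U hyy'
      rw [hu.mul_left_inj] at this
      rw [this]
    · intro z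
      obtain ⟨c, rfl⟩ := toSec_surjective U z
      refine ⟨toSec U (c * g), ?_⟩
      rw [app_toSec, mul_assoc, mul_comm g, hg, mul_one]

lemma isIso_restrict_iff (φ : O X ⟶ O X) (U : X.Opens) :
    IsIso ((Scheme.Modules.restrictFunctor U.ι).map φ) ↔ IsUnit (res (fn φ) U) := by
  rw [Scheme.Modules.Hom.isIso_iff_isIso_app]
  constructor
  · intro h
    have h1 : IsIso (φ.app (U.ι ''ᵁ ⊤)) := h ⊤
    rw [isIso_app_iff] at h1
    exact isUnit_res_of_le _ (by simp) h1
  · intro hu V
    change IsIso (φ.app (U.ι ''ᵁ V))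
    rw [isIso_app_iff]
    exact isUnit_res_of_le _ (Scheme.Opens.ι_image_le U V) hu

lemma isUnit_res_iff (f : Γ(X, ⊤)) (U : X.Opens) : IsUnit (res f U) ↔ U ≤ X.basicOpen f := by
  constructor
  · intro hu
    have := Scheme.basicOpen_of_isUnit X hu
    rw [Scheme.basicOpen_res] at this
    exact inf_eq_left.1 this
  · intro hle
    have h1 : IsUnit (res f (X.basicOpen f)) := RingedSpace.isUnit_res_basicOpen _ f
    exact isUnit_res_of_le f hle h1

lemma genLocus_eq (φ : O X ⟶ O X) : CohB1.genLocus (O X) φ = X.basicOpen (fn φ) := by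
  unfold CohB1.genLocus
  apply le_antisymm
  · refine sSup_le fun U hU => ?_
    rw [Set.mem_ofPred_eq, isIso_restrict_iff, isUnit_res_iff] at hU
    exact hU
  · refine le_sSup ?_
    rw [Set.mem_ofPred_eq, isIso_restrict_iff, isUnit_res_iff]

/-- the endomorphism of the structure module given by multiplication by a global function -/
noncomputable def homOfFn (f : Γ(X, ⊤)) : O X ⟶ O X :=
  (O X).unitHomEquiv.symm (PresheafOfModules.sectionsMk (fun U => toSec U.unop (res f U.unop)) (by
    intro U V i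
    have := toSec_res (X := X) i.unop (res f U.unop)
    rw [res_map] at this
    exact this))

lemma fn_homOfFn (f : Γ(X, ⊤)) : fn (homOfFn f) = f := by
  have h := SheafOfModules.unitHomEquiv_apply_coe (O X) (homOfFn f) (op ⊤)
  rw [homOfFn, Equiv.apply_symm_apply] at h
  have h2 : res f ⊤ = f := by
    rw [res]
    have : (homOfLE (le_top : (⊤ : X.Opens) ≤ ⊤)).op = 𝟙 _ := rfl
    rw [this, X.presheaf.map_id]
    rfl
  simp only [PresheafOfModules.sectionsMk_coe, Opposite.unop_op] at h
  rw [h2] at h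
  exact (toSec_injective ⊤ h).symm

section tensor

/-- an isomorphism of modules, on underlying presheaves of modules (in the monoidal form) -/
noncomputable def toPModIso {M M' : X.Modules} (e : M ≅ M') : CohB1.toPMod M ≅ CohB1.toPMod M' :=
  (SheafOfModules.forget X.ringCatSheaf).mapIso e

/-- `tensorMod` is functorial for isomorphisms -/
noncomputable def tensorModIso {M M' N N' : X.Modules} (e : M ≅ M') (e' : N ≅ N') :
    CohB1.tensorMod M N ≅ CohB1.tensorMod M' N' :=
  (CohB1.sheafifyMod X).mapIso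
    (show (show X.PresheafOfModules from CohB1.tensorPre M N) ≅ (show X.PresheafOfModules from CohB1.tensorPre M' N') from
      (toPModIso e ⊗ᵢ toPModIso e'))

/-- tensor powers are functorial for isomorphisms -/
noncomputable def tensorPowIso {L L' : X.Modules} (e : L ≅ L') : ∀ n : ℕ, CohB1.tensorPow L n ≅ CohB1.tensorPow L' n
  | 0 => Iso.refl _
  | n + 1 => tensorModIso (tensorPowIso e n) e

variable (X) in
/-- the sheafification adjunction for `O_X`-modules -/
noncomputable def adj : CohB1.sheafifyMod X ⊣ Scheme.Modules.toPresheafOfModules X :=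
  PresheafOfModules.sheafificationAdjunction (𝟙 X.ringCatSheaf.obj)

variable (X) in
/-- sheafifying a sheaf of modules gives it back -/
noncomputable def counitIso : Scheme.Modules.toPresheafOfModules X ⋙ CohB1.sheafifyMod X ≅ 𝟭 _ :=
  haveI : IsIso ((adj X).counit) := Adjunction.counit_isIso_of_R_fully_faithful (adj X)
  asIso (adj X).counit

/-- sheafifying a sheaf of modules gives it back -/
noncomputable def sheafifyValIso (M : X.Modules) : (CohB1.sheafifyMod X).obj M.val ≅ M :=
  (counitIso X).app M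

/-- `O ⊗ O ≅ O` on presheaves -/
noncomputable def unitPreIso : (show X.PresheafOfModules from CohB1.tensorPre (O X) (O X)) ≅ (O X).val :=
  show (𝟙_ (CohB1.PMod X) ⊗ 𝟙_ (CohB1.PMod X)) ≅ 𝟙_ (CohB1.PMod X) from λ_ (𝟙_ (CohB1.PMod X))

variable (X) in
/-- `O ⊗ O ≅ O` -/
noncomputable def tensorUnitIso : CohB1.tensorMod (O X) (O X) ≅ O X :=
  (CohB1.sheafifyMod X).mapIso unitPreIso ≪≫ sheafifyValIso (O X)

variable (X) in
/-- `O^{⊗ n} ≅ O` -/
noncomputable def tensorPowUnitIso : ∀ n : ℕ, CohB1.tensorPow (O X) n ≅ O X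
  | 0 => Iso.refl _
  | n + 1 => tensorModIso (tensorPowUnitIso n) (Iso.refl _) ≪≫ tensorUnitIso X

end tensor

section ample

lemma genLocus_comp_iso {L L' : X.Modules} (s : O X ⟶ L) (e : L ≅ L') :
    CohB1.genLocus L' (s ≫ e.hom) = CohB1.genLocus L s := by
  unfold CohB1.genLocus
  congr 1
  ext U
  simp only [Set.mem_ofPred_eq, Functor.map_comp]
  constructor
  · intro h
    exact IsIso.of_isIso_comp_right _ ((Scheme.Modules.restrictFunctor U.ι).map e.hom)
  · intro h
    infer_instance

lemma isInvertible_of_iso {L L' : X.Modules} (e : L ≅ L') (h : PicF.IsInvertible L) : PicF.IsInvertible L' := by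
  intro y
  obtain ⟨U, hy, ⟨i⟩⟩ := h y
  exact ⟨U, hy, ⟨(Scheme.Modules.restrictFunctor U.ι).mapIso e.symm ≪≫ i⟩⟩

variable (X) in
lemma isInvertible_unit : PicF.IsInvertible (O X) := by
  intro y
  exact ⟨⊤, trivial, ⟨Scheme.Modules.restrictUnitIso _⟩⟩

lemma isAmple_of_iso {L L' : X.Modules} (e : L ≅ L') (h : CohB1.IsAmple L) : CohB1.IsAmple L' := by
  refine ⟨isInvertible_of_iso e h.1, h.2.1, fun x => ?_⟩
  obtain ⟨n, s, hx, haff⟩ := h.2.2 x
  refine ⟨n, s ≫ (tensorPowIso e (n + 1)).hom, ?_, ?_⟩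
  · rw [genLocus_comp_iso]; exact hx
  · rw [genLocus_comp_iso]; exact haff

/-- `O_X` is ample iff `X` is quasi-affine (for `X` quasi-compact). -/
theorem isAmple_unit_iff [CompactSpace X] : CohB1.IsAmple (O X) ↔ X.IsQuasiAffine := by
  constructor
  · intro h
    refine Scheme.IsQuasiAffine.of_forall_exists_mem_basicOpen X (fun x => ?_)
    obtain ⟨n, s, hx, haff⟩ := h.2.2 x
    have key : CohB1.genLocus _ s = X.basicOpen (fn (s ≫ (tensorPowUnitIso X (n + 1)).hom)) := by
      rw [← genLocus_eq, genLocus_comp_iso]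
    rw [key] at hx haff
    exact ⟨_, haff, hx⟩
  · intro h
    refine ⟨isInvertible_unit X, inferInstance, fun x => ?_⟩
    obtain ⟨V, ⟨r, hr, rfl⟩, hxV, -⟩ := TopologicalSpace.Opens.isBasis_iff_nbhd.mp
      (Scheme.IsQuasiAffine.isBasis_basicOpen X) (U := ⊤) (x := x) trivial
    have key : CohB1.genLocus _ (homOfFn r ≫ (tensorPowUnitIso X (0 + 1)).inv) = X.basicOpen r := by
      have := genLocus_comp_iso (homOfFn r) (tensorPowUnitIso X (0 + 1)).symm
      rw [Iso.symm_hom] at this
      rw [this, genLocus_eq, fn_homOfFn]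
    exact ⟨0, homOfFn r ≫ (tensorPowUnitIso X (0 + 1)).inv, key ▸ hxV, key ▸ hr⟩

end ample

end Groth.Agent.Lib.H78AmpleUnit
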