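/-
# helper78: sections from `H¹`-vanishing of twisted ideal sheaves (namespace `Groth.Agent.Lib.H78H1Ample`)

* `exists_sec_of_H1`: `P` invertible with a generator over an affine open `U ∋ x`, `x` a closed point, `J` the vanishing
  ideal of `Uᶜ ∪ {x}`; if `H¹(X, J ⊗ P) = 0` there is a section `s` of `P` with `x ∈ X_s ⊆ U`, and `X_s` is affine.
-/
import Groth.Agent.Lib.H78Dual
import Groth.Agent.Lib.H78SecCoord
import Groth.Agent.Lib.H78GlobGen2
import Groth.Agent.Lib.IdealMod2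
import Groth.Agent.Lib.H77QCohKernel
import Groth.Agent.Lib.H4H0Nat
import Groth.Agent.Lib.H4KoszulPn
import Groth.Agent.Lib.TwistEquiv
import Groth.Agent.Lib.H78AmpleUnit

set_option autoImplicit false
universe u
open CategoryTheory CategoryTheory.Limits AlgebraicGeometry MonoidalCategory Opposite TopologicalSpace
open Groth.Agent.Lib.H90Invertible Groth.Agent.Lib.StructureModule Groth.Agent.Lib.H78TensorGen
open Groth.Agent.Lib.H78SecCoord Groth.Agent.Lib.IdealMod Groth.Agent.Lib.OXModTensor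

namespace Groth.Agent.Lib.H78H1Ample

variable {X : Scheme.{u}}

/-- functions in an ideal sheaf vanish on its support -/
lemma not_mem_basicOpen_of_mem_support (J : X.IdealSheafData) (T : X.affineOpens) {β : Γ(X, T.1)}
    (hβ : β ∈ J.ideal T) {z : X} (hzT : z ∈ T.1) (hz : z ∈ J.support) : z ∉ X.basicOpen β := by
  have h1 := (Scheme.IdealSheafData.mem_support_iff_of_mem (I := J) (U := T) hzT).1 hz
  exact (Scheme.mem_zeroLocus_iff X _ z).1 h1 β hβ

/-- if `β` vanishes at `z` then `1 + β` does not -/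
lemma mem_basicOpen_one_add {T : X.Opens} {β : Γ(X, T)} {z : X} (hzT : z ∈ T) (hz : z ∉ X.basicOpen β) :
    z ∈ X.basicOpen (1 + β) := by
  rw [Scheme.mem_basicOpen X β z hzT] at hz
  rw [Scheme.mem_basicOpen X (1 + β) z hzT]
  have h1 : IsUnit ((X.presheaf.germ T z hzT).hom (1 + β) + (X.presheaf.germ T z hzT).hom (-β)) := by
    rw [← map_add, add_neg_cancel_right, map_one]
    exact isUnit_one
  rcases IsLocalRing.isUnit_or_isUnit_of_isUnit_add h1 with h | h
  · exact h
  · exfalso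
    apply hz
    rw [map_neg] at h
    exact (IsUnit.neg_iff _).1 h

variable {P : X.Modules}

/-- the twisted inclusion of an ideal sheaf on sections over an open with a generator of `P` -/
lemma twist_incl_app (J : X.IdealSheafData) {T : X.Opens} {g : Γ(P, T)} (hg : IsGen P T g)
    (a : Γ(CohB1.tensorMod (ClSub.idealMod J) P, T)) :
    ∃ b : Γ(ClSub.idealMod J, T), (tensorModMap (ClSub.idealModι J) (𝟙 P)).app T a =
      idealFn J T b • tmul (toSec T 1) g := by
  obtain ⟨b, hb⟩ := (tmul_gen_bijective (ClSub.idealMod J) hg le_rfl).2 a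
  refine ⟨b, ?_⟩
  have hb' : tmul b g = a := by
    have := hb
    simp only [rs_self] at this
    exact this
  rw [← hb', Groth.Agent.Lib.H4KoszulPn.tensorModMap_tmul, ← smul_tmul, ← toSec_eq_smul_one]
  rfl

/-- gluing two sections -/
lemma sec_glue₂ (M : X.Modules) (U V : X.Opens) (hcover : ∀ z : X, z ∈ U ∨ z ∈ V) (a : Γ(M, U)) (b : Γ(M, V))
    (h : rs M (inf_le_left : U ⊓ V ≤ U) a = rs M (inf_le_right : U ⊓ V ≤ V) b) :
    ∃ s : Γ(M, ⊤), rs M le_top s = a ∧ rs M le_top s = b := by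
  let W : Bool → X.Opens := fun i => bif i then U else V
  let sf : ∀ i, Γ(M, W i) := fun i => match i with
    | true => a
    | false => b
  obtain ⟨s, hs⟩ := sec_glue M (V := ⊤) W (fun _ => le_top) (by
    intro z _
    rcases hcover z with h | h
    · exact Opens.mem_iSup.2 ⟨true, h⟩
    · exact Opens.mem_iSup.2 ⟨false, h⟩) sf (by
    intro i j
    cases i <;> cases j
    · rfl
    · have h2 := congrArg (rs M (show V ⊓ U ≤ U ⊓ V from le_inf inf_le_right inf_le_left)) h
      rw [rs_rs, rs_rs] at h2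
      exact h2.symm
    · exact h
    · rfl)
  exact ⟨s, hs true, hs false⟩

section Main

/-- the closed set `Uᶜ ∪ {x}` -/
def cl (U : X.Opens) {x : X} (hx : IsClosed ({x} : Set X)) : Closeds X :=
  ⟨(U : Set X)ᶜ ∪ {x}, U.2.isClosed_compl.union hx⟩

/-- **sections from `H¹`-vanishing**: see the header -/
theorem exists_sec_of_H1 (hP : PicF.IsInvertible P) {U : X.Opens} (hU : IsAffineOpen U) {e : Γ(P, U)}
    (he : IsGen P U e) {x : X} (hxU : x ∈ U) (hx : IsClosed ({x} : Set X))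
    (h1 : Subsingleton (Coh.HH X (CohB1.tensorMod
      (ClSub.idealMod (Scheme.IdealSheafData.vanishingIdeal (cl U hx))) P) 1)) :
    ∃ s : Coh.structureModule X ⟶ P, x ∈ CohB1.genLocus P s ∧ IsAffineOpen (CohB1.genLocus P s) := by
  obtain ⟨J, hJ⟩ : ∃ J : X.IdealSheafData, J = Scheme.IdealSheafData.vanishingIdeal (cl U hx) := ⟨_, rfl⟩
  rw [← hJ] at h1
  have hsupp : ∀ z : X, z ∈ J.support ↔ (z ∉ U ∨ z = x) := by
    intro z
    have h2 : (J.support : Set X) = (U : Set X)ᶜ ∪ {x} := by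
      rw [hJ]; exact Scheme.IdealSheafData.coe_support_vanishingIdeal _
    change z ∈ (J.support : Set X) ↔ _
    rw [h2]
    rfl
  -- the module `M = O ⊗ P` and its generator over `U`
  have hg : IsGen (CohB1.tensorMod (Coh.structureModule X) P) U (tmul (toSec U 1) e) :=
    isGen_tmul (isGen_one U) he
  -- the short exact sequence `0 → J ⊗ P → O ⊗ P → O/J ⊗ P → 0`
  obtain ⟨P', -, ⟨e'⟩⟩ := Groth.Agent.Lib.H78Dual.exists_tensor_inverse hP
  have e'' : CohB1.tensorMod P P' ≅ Coh.structureModule X := braiding P P' ≪≫ e'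
  let F := Groth.Agent.Lib.TwistEquiv.tensorRightFunctor P
  let S₀ := ShortComplex.mk (ClSub.idealModι J) (ClSub.toSubscheme J) (kernel.condition (ClSub.toSubscheme J))
  have hS : (S₀.map F).ShortExact :=
    Groth.Agent.Lib.TwistEquiv.shortExact_map_tensorRight e'' (idealMod_shortExact J)
  have hφ : (S₀.map F).f = tensorModMap (ClSub.idealModι J) (𝟙 P) :=
    Groth.Agent.Lib.TwistEquiv.tensorRightFunctor_map P _
  have hπ : (S₀.map F).g = tensorModMap (ClSub.toSubscheme J) (𝟙 P) :=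
    Groth.Agent.Lib.TwistEquiv.tensorRightFunctor_map P _
  haveI : Mono (S₀.map F).f := hS.mono_f
  haveI : Subsingleton (Coh.HH X (S₀.map F).X₁ 1) := h1
  -- the open `V = X ∖ {x}`
  obtain ⟨V, hV⟩ : ∃ V : X.Opens, (V : Set X) = ({x} : Set X)ᶜ := ⟨⟨_, hx.isOpen_compl⟩, rfl⟩
  have hmemV : ∀ z : X, z ∈ V ↔ z ≠ x := fun z => by
    change z ∈ (V : Set X) ↔ _
    rw [hV]
    rfl
  -- `O/J` vanishes over `U ⊓ V`
  have hW : J.subschemeι ⁻¹ᵁ (U ⊓ V) = ⊥ := by
    rw [eq_bot_iff]
    intro y hy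
    exfalso
    have hy1 : J.subschemeι y ∈ J.support := by
      have h3 := Scheme.IdealSheafData.range_subschemeι J
      have h4 : J.subschemeι y ∈ Set.range J.subschemeι := ⟨y, rfl⟩
      rw [h3] at h4
      exact h4
    rcases (hsupp _).1 hy1 with h | h
    · exact h hy.1
    · exact (hmemV _).1 hy.2 h
  have hzero : ∀ y : Γ(ClSub.quotMod J, U ⊓ V), y = 0 := by
    intro y
    have hsub : Subsingleton Γ(J.subscheme, J.subschemeι ⁻¹ᵁ (U ⊓ V)) := by rw [hW]; infer_instance
    exact hsub.elim _ _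
  -- the section `t` of `O/J ⊗ P`: the class of `1 ⊗ e` on `U`, zero on `V`
  have hcompat : rs _ (inf_le_left : U ⊓ V ≤ U)
      ((tensorModMap (ClSub.toSubscheme J) (𝟙 P)).app U (tmul (toSec U 1) e)) = 0 := by
    rw [← app_rs, tmul_rs, Groth.Agent.Lib.H4KoszulPn.tensorModMap_tmul,
      hzero ((ClSub.toSubscheme J).app (U ⊓ V) _), Groth.Agent.Lib.H78GlobGen2.tmul_zero_left]
  have hcov : ∀ z : X, z ∈ U ∨ z ∈ V := by
    intro z
    by_cases hz : z = x
    · left; rw [hz]; exact hxU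
    · right; exact (hmemV z).2 hz
  obtain ⟨t, htU, htV⟩ := sec_glue₂ (CohB1.tensorMod (ClSub.quotMod J) P) U V hcov
    ((tensorModMap (ClSub.toSubscheme J) (𝟙 P)).app U (tmul (toSec U 1) e)) 0
    (by rw [hcompat]; exact (map_zero _).symm)
  -- lift `t`
  obtain ⟨s, hs⟩ := Groth.Agent.Lib.H4Twist.exists_section_lift hS t
  have hs' : (tensorModMap (ClSub.toSubscheme J) (𝟙 P)).app ⊤ s = t := by rw [← hπ]; exact hs
  obtain ⟨s, rfl⟩ : ∃ s' : Γ(CohB1.tensorMod (Coh.structureModule X) P, ⊤), s' = s := ⟨s, rfl⟩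
  -- the shape of `s` over `U`
  have hU1 : (tensorModMap (ClSub.toSubscheme J) (𝟙 P)).app U
      (rs _ le_top s - tmul (toSec U 1) e) = 0 := by
    rw [map_sub, app_rs, hs', htU, sub_self]
  obtain ⟨a, ha⟩ := (sections_exact hS.exact U).2 _ (by rw [hπ]; exact hU1)
  rw [hφ] at ha
  obtain ⟨b, hb⟩ := twist_incl_app J he a
  have hsU : rs _ le_top s = (1 + idealFn J U b) • tmul (toSec U 1) e := by
    have h5 : (tensorModMap (ClSub.idealModι J) (𝟙 P)).app U a =
        rs _ le_top s - tmul (toSec U 1) e := ha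
    rw [add_smul, one_smul, ← hb, h5]
    abel
  -- the section of `M = O ⊗ P`
  obtain ⟨σ, hσ⟩ : ∃ σ : Coh.structureModule X ⟶ CohB1.tensorMod (Coh.structureModule X) P,
      σ = ofSection s := ⟨_, rfl⟩
  have hsec : sec σ = s := by rw [hσ]; exact sec_ofSection s
  have hβ : idealFn J U b ∈ J.ideal ⟨U, hU⟩ := idealFn_mem J ⟨U, hU⟩ b
  have hxJ : x ∈ J.support := (hsupp x).2 (Or.inr rfl)
  have hcoord : coord hg le_rfl (rs _ le_top (sec σ)) = 1 + idealFn J U b := by
    symm
    apply coord_unique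
    rw [rs_self, hsec, hsU]
  have hinf : CohB1.genLocus _ σ ⊓ U = X.basicOpen (1 + idealFn J U b) := by
    rw [genLocus_inf_eq hg σ, hcoord]
  have hx1 : x ∈ CohB1.genLocus _ σ := by
    have h6 : x ∈ X.basicOpen (1 + idealFn J U b) :=
      mem_basicOpen_one_add hxU (not_mem_basicOpen_of_mem_support J ⟨U, hU⟩ hβ hxU hxJ)
    rw [← hinf] at h6
    exact h6.1
  -- `X_σ ⊆ U`
  have hle : CohB1.genLocus _ σ ≤ U := by
    intro z hz
    by_contra hzU
    have hzV : z ∈ V := (hmemV z).2 (fun h => hzU (h ▸ hxU))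
    have hzJ : z ∈ J.support := (hsupp z).2 (Or.inl hzU)
    obtain ⟨T₀, hzT₀, eT₀, heT₀⟩ := (isInvertible_iff_exists_isGen P).1 hP z
    obtain ⟨T, hT, hzT, hTle⟩ := Opens.isBasis_iff_nbhd.1 X.isBasis_affineOpens
      (show z ∈ T₀ ⊓ V from ⟨hzT₀, hzV⟩)
    have hTV : T ≤ V := hTle.trans inf_le_right
    have heT : IsGen P T (rs P (hTle.trans inf_le_left) eT₀) := heT₀.mono _
    have hgT : IsGen (CohB1.tensorMod (Coh.structureModule X) P) T
        (tmul (toSec T 1) (rs P (hTle.trans inf_le_left) eT₀)) := isGen_tmul (isGen_one T) heT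
    have hT1 : (tensorModMap (ClSub.toSubscheme J) (𝟙 P)).app T (rs _ le_top s) = 0 := by
      rw [app_rs, hs', ← rs_rs _ (le_top : V ≤ ⊤) hTV, htV]
      exact map_zero _
    obtain ⟨aT, haT⟩ := (sections_exact hS.exact T).2 _ (by rw [hπ]; exact hT1)
    rw [hφ] at haT
    obtain ⟨bT, hbT⟩ := twist_incl_app J heT aT
    have hsT : rs _ le_top s = idealFn J T bT • tmul (toSec T 1) (rs P (hTle.trans inf_le_left) eT₀) := by
      rw [← hbT]
      exact haT.symm
    have hcoordT : coord hgT le_rfl (rs _ le_top (sec σ)) = idealFn J T bT := by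
      symm
      apply coord_unique
      rw [rs_self, hsec, hsT]
    have hinfT := genLocus_inf_eq hgT σ
    rw [hcoordT] at hinfT
    have hz' : z ∈ X.basicOpen (idealFn J T bT) := by
      rw [← hinfT]
      exact ⟨hz, hzT⟩
    exact not_mem_basicOpen_of_mem_support J ⟨T, hT⟩ (idealFn_mem J ⟨T, hT⟩ bT) hzT hzJ hz'
  refine ⟨σ ≫ (leftUnitor P).hom, ?_, ?_⟩
  · rw [Groth.Agent.Lib.H78AmpleUnit.genLocus_comp_iso]
    exact hx1
  · rw [Groth.Agent.Lib.H78AmpleUnit.genLocus_comp_iso]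
    have h7 : CohB1.genLocus _ σ = X.basicOpen (1 + idealFn J U b) := by
      rw [← hinf, inf_eq_left.2 hle]
    rw [h7]
    exact hU.basicOpen _

end Main

end Groth.Agent.Lib.H78H1Ample
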