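import Groth.Agent.Lib.CurveSerreVan54
import Groth.Agent.Lib.DegTensor54
import Groth.Agent.Lib.DegCurve54b
import Groth.Agent.Lib.H90DevFilt
import Groth.Agent.Lib.AlgSpDim91
import Groth.Agent.S0050

/-!
# Ampleness and degree on integral proper curves (helper54; campaign K2a)

Namespace `Groth.Agent.Lib.CurveAmple54`.  Hypothesis form: `H : ProperFinHyp.Hyp` (= S0002), `HS : SnapperHyp` (= S3230),
`V : VanHyp` (Grothendieck vanishing, from S0458).

* `subsingleton_H1_tensor_tensorPow`: **Serre vanishing** `H^1(F ⊗ L^n) = 0` for `n ≫ 0`, `F` coherent, `deg L > 0`.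
* `isAmple_of_deg_pos`: `deg L > 0 ⇒ L` ample (through helper78's S0050).
* `not_mem_genLocus_zero`, `topologicalKrullDim_le_zero_of_isAffine` (affine and proper over a field ⇒ `dim ≤ 0`),
  `deg_pos_of_isAmple`: `L` ample `⇒ deg L > 0`.  Together: S1530.
-/

set_option autoImplicit false
universe u
open CategoryTheory CategoryTheory.Limits AlgebraicGeometry Opposite TopologicalSpace

namespace Groth.Agent.Lib.CurveAmple54

open Groth.Agent.Lib.EulerChar54 Groth.Agent.Lib.ProperFinHyp Groth.Agent.Lib.DegCurve54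
open Groth.Agent.Lib.InvMap54 Groth.Agent.Lib.H90Invertible Groth.Agent.Lib.CohLES
open Groth.Agent.Lib.H78SecCoord Groth.Agent.Lib.EulerNat54 Groth.Agent.Lib.StructureModule
open Groth.Agent.Lib.OXModTensor Groth.Agent.Lib.CurveH1Van54 Groth.Agent.Lib.CurveSerreVan54 CohB1
open Groth.Agent.Lib.IntNumAlg13 Groth.Agent.Lib.EulerLE48

lemma auxE (a b c : ℕ) (chi e D d : ℤ) (n : ℕ) (h1 : chi = (a : ℤ) - b) (h2 : D = chi - 1 * e)
    (h3 : D = n * d) (hd : 0 < d) (hn : (c - e).toNat + 1 ≤ n) (ha : a ≤ c) : False := by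
  have h4 : (n : ℤ) ≤ n * d := by nlinarith
  lia

section Vanishing

variable (H : Hyp.{u}) (HS : SnapperHyp.{u}) (V : VanHyp.{u}) (k : Type u) [Field k] (X : Scheme.{u})
  [X.Over (Spec (CommRingCat.of k))] [IsIntegral X] [IsProper (X ↘ (Spec (CommRingCat.of k)))]
  (hdim : topologicalKrullDim X ≤ 1) {L : X.Modules} (hL : PicF.IsInvertible L)
  (hdeg : 0 < Curv2.deg k X L 1)

include H HS V hdim hL hdeg in
/-- **Serre vanishing** for an invertible module of positive degree on an integral proper curve -/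
theorem subsingleton_H1_tensor_tensorPow {F : X.Modules} (hF : Coh.IsCoh F) :
    ∃ n₀ : ℕ, ∀ n : ℕ, n₀ ≤ n → Subsingleton (Coh.HH X (tensorMod F (tensorPow L n)) 1) := by
  refine ⟨((Module.finrank k (Coh.HH X ((tensorLeftFunctor F).obj (Coh.structureModule X)) 1) : ℤ) -
    Curv2.euler k X (Coh.structureModule X)).toNat + 1, fun n hn => ?_⟩
  by_contra hns
  have hnt : Nontrivial (Coh.HH X ((tensorLeftFunctor F).obj (tensorPow L n)) 1) :=
    not_subsingleton_iff_nontrivial.mp hns
  have hLn : PicF.IsInvertible (tensorPow L n) := Groth.Agent.Lib.H78TensorGen.isInvertible_tensorPow hL n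
  have hq : (tensorPow L n).IsQuasicoherent := (isCoh_of_isInvertible hLn).1
  have hle := finrank_H0_le_of_nontrivial_H1_tensor k X H hdim hF hLn
  have hD : Curv2.deg k X (tensorPow L n) 1 =
      Curv2.euler k X (tensorPow L n) - ((1 : ℕ) : ℤ) * Curv2.euler k X (Coh.structureModule X) := rfl
  rw [Nat.cast_one] at hD
  exact auxE _ _ _ _ _ _ _ n (Groth.Agent.Lib.RiemannRoch54.euler_eq_sub k X hdim _) hD
    (Groth.Agent.Lib.DegTensor54.deg_tensorPow HS V k hdim hL n) hdeg hn hle

include H HS V hdim hL hdeg in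
/-- positive degree implies ample (integral proper curve) -/
theorem isAmple_of_deg_pos : CohB1.IsAmple L := by
  have : IsLocallyNoetherian X :=
    LocallyOfFiniteType.isLocallyNoetherian (X ↘ (Spec (CommRingCat.of k)))
  have : CompactSpace X := compactSpace_of_isProper k X
  have hOc : Coh.IsCoh (Coh.structureModule X) :=
    isCoh_of_isInvertible (isInvertible_structureModule X)
  refine Groth.Agent.S0050.result X L hL fun I i hi hI => ?_
  have hIq : I.IsQuasicoherent := hI
  have hIc : Coh.IsCoh I := Groth.Agent.Lib.H90DevFilt.isCoh_of_mono i hOc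
  obtain ⟨n₀, hn₀⟩ := subsingleton_H1_tensor_tensorPow H HS V k X hdim hL hdeg hIc
  exact ⟨n₀, hn₀ (n₀ + 1) (Nat.le_succ n₀)⟩

end Vanishing

section Converse

/-- the zero section generates nowhere -/
theorem not_mem_genLocus_zero {X : Scheme.{u}} (L : X.Modules) (x : X) :
    x ∉ CohB1.genLocus L (0 : Coh.structureModule X ⟶ L) := by
  intro hx
  obtain ⟨V, hxV, hgen⟩ := (mem_genLocus_iff _ x).1 hx
  have h0 : sec (0 : Coh.structureModule X ⟶ L) = 0 := by
    change (0 : Coh.structureModule X ⟶ L).app ⊤ _ = 0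
    rw [Scheme.Modules.Hom.zero_app]
    rfl
  rw [h0] at hgen
  have hinj := (hgen V le_rfl).1
  have h10 : (1 : Γ(X, V)) = 0 := by
    apply hinj
    change (1 : Γ(X, V)) • Groth.Agent.Lib.H78TensorGen.rs L le_rfl (Groth.Agent.Lib.H78TensorGen.rs L le_top 0) =
      (0 : Γ(X, V)) • Groth.Agent.Lib.H78TensorGen.rs L le_rfl (Groth.Agent.Lib.H78TensorGen.rs L le_top 0)
    rw [rs_zero, rs_zero, smul_zero, smul_zero]
  have h1 := congrArg (X.presheaf.germ V x hxV).hom h10
  rw [map_one, map_zero] at h1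
  exact one_ne_zero h1

/-- an affine scheme which is proper over a field has dimension `≤ 0` -/
theorem topologicalKrullDim_le_zero_of_isAffine (k : Type u) [Field k] (X : Scheme.{u})
    [X.Over (Spec (CommRingCat.of k))] [IsProper (X ↘ (Spec (CommRingCat.of k)))] [IsAffine X] :
    topologicalKrullDim X ≤ 0 := by
  have : IsFinite (X ↘ (Spec (CommRingCat.of k))) :=
    IsFinite.iff_isProper_and_isAffineHom.mpr ⟨inferInstance, inferInstance⟩
  have h1 := Groth.Agent.Lib.AlgSpDim91.topologicalKrullDim_le_of_locallyQuasiFinite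
    (X ↘ (Spec (CommRingCat.of k)))
  refine h1.trans ?_
  change topologicalKrullDim (PrimeSpectrum k) ≤ 0
  rw [PrimeSpectrum.topologicalKrullDim_eq_ringKrullDim, ringKrullDim_eq_zero_of_field]

variable (H : Hyp.{u}) (HS : SnapperHyp.{u}) (V : VanHyp.{u}) (k : Type u) [Field k] (X : Scheme.{u})
  [X.Over (Spec (CommRingCat.of k))] [IsIntegral X] [IsProper (X ↘ (Spec (CommRingCat.of k)))]
  (hdim : topologicalKrullDim X = 1) {L : X.Modules} (hL : PicF.IsInvertible L)

include H HS V hdim hL in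
/-- ample implies positive degree (integral proper curve) -/
theorem deg_pos_of_isAmple (hamp : CohB1.IsAmple L) : 0 < Curv2.deg k X L 1 := by
  obtain ⟨x⟩ : Nonempty X := inferInstance
  obtain ⟨n, s, hxs, haff⟩ := hamp.2.2 x
  have hLn : PicF.IsInvertible (tensorPow L (n + 1)) :=
    Groth.Agent.Lib.H78TensorGen.isInvertible_tensorPow hL (n + 1)
  have hs : s ≠ 0 := fun h0 => not_mem_genLocus_zero _ x (h0 ▸ hxs)
  have hne : CohB1.genLocus _ s ≠ ⊤ := by
    intro htop
    rw [htop] at haff
    have : IsAffine X := by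
      have : IsAffine ↑(⊤ : X.Opens) := haff
      exact IsAffine.of_isIso (X.topIso).inv
    have h0 := topologicalKrullDim_le_zero_of_isAffine k X
    rw [hdim] at h0
    exact absurd h0 (by norm_num)
  obtain ⟨z, hz⟩ : ∃ z : X, z ∉ CohB1.genLocus _ s := by
    by_contra hall
    simp only [not_exists, not_not] at hall
    exact hne (top_le_iff.mp fun z _ => hall z)
  have hpos := Groth.Agent.Lib.DegCurve54b.deg_pos H k X hdim hLn s hs z hz
  rw [Groth.Agent.Lib.DegTensor54.deg_tensorPow HS V k hdim.le hL (n + 1)] at hpos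
  have hn : (0 : ℤ) < ((n + 1 : ℕ) : ℤ) := by positivity
  exact (mul_pos_iff_of_pos_left hn).mp hpos

end Converse

end Groth.Agent.Lib.CurveAmple54
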