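import Groth.Agent.Lib.CurveEnd54
import Groth.Agent.Lib.DegTensor54
import Groth.Agent.Lib.GlobGenDescent
import Groth.Agent.Lib.H4H0Nat

/-!
# Extension classes of invertible modules on curves (helper54; campaign K6)

Namespace `Groth.Agent.Lib.CurveExt54`.

* `nontrivial_H1_of_not_isSplitEpi`: if `0 → L → E → M → 0` does not split and `N ⊗ M ≅ O` then `H^1(N ⊗ L) ≠ 0`.
* `eq_zero_of_hom_eq_zero`: if `Hom(M, L) = 0` and `N ⊗ M ≅ O` then every section of `N ⊗ L` vanishes.
* `two_deg_le_of_simple` (S11817).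
-/

set_option autoImplicit false
universe u
open CategoryTheory CategoryTheory.Limits AlgebraicGeometry Opposite TopologicalSpace

namespace Groth.Agent.Lib.CurveExt54

open Groth.Agent.Lib.ProperFinHyp Groth.Agent.Lib.H90Invertible Groth.Agent.Lib.CohLES
open Groth.Agent.Lib.H78SecCoord Groth.Agent.Lib.StructureModule
open Groth.Agent.Lib.OXModTensor Groth.Agent.Lib.CurveH1Van54 Groth.Agent.Lib.CurveSerreVan54 CohB1
open Groth.Agent.Lib.TwistEquiv Groth.Agent.Lib.CurveEnd54 Groth.Agent.Lib.GlobGenDescent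
open Groth.Agent.Lib.IntNumAlg13 Groth.Agent.Lib.EulerLE48 Groth.Agent.Lib.H4Twist

section General

variable {X : Scheme.{u}}

/-- a non-split extension has a nonzero class: `H^1(N ⊗ L) ≠ 0` when `N ⊗ M ≅ O` -/
theorem nontrivial_H1_of_not_isSplitEpi (S : ShortComplex X.Modules) (hS : S.ShortExact)
    (hns : ¬ IsSplitEpi S.g) {N : X.Modules} (e₀ : tensorMod N S.X₃ ≅ Coh.structureModule X) :
    Nontrivial (Coh.HH X ((tensorLeftFunctor N).obj S.X₁) 1) := by
  by_contra hnt
  rw [not_nontrivial_iff_subsingleton] at hnt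
  have := isEquivalence_tensorLeftFunctor e₀
  obtain ⟨e, -⟩ : ∃ e : (tensorLeftFunctor N).obj S.X₃ ≅ Coh.structureModule X, True := ⟨e₀, trivial⟩
  have hTS : (S.map (tensorLeftFunctor N)).ShortExact := shortExact_map_tensorLeft e₀ hS
  have hsub : Subsingleton (Coh.HH X (S.map (tensorLeftFunctor N)).X₁ 1) := hnt
  obtain ⟨s, hs⟩ : ∃ s : Γ((tensorLeftFunctor N).obj S.X₂, ⊤),
      ((tensorLeftFunctor N).map S.g).app ⊤ s = sec e.inv := exists_section_lift hTS (sec e.inv)
  have h1 : ofSection s ≫ (tensorLeftFunctor N).map S.g = e.inv := by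
    rw [ofSection_comp]
    exact (congrArg ofSection hs).trans (ofSection_sec e.inv)
  apply hns
  refine ⟨⟨(tensorLeftFunctor N).preimage (e.hom ≫ ofSection s), ?_⟩⟩
  apply (tensorLeftFunctor N).map_injective
  rw [Functor.map_comp, Functor.map_preimage, Category.assoc, h1, e.hom_inv_id]
  exact ((tensorLeftFunctor N).map_id S.X₃).symm

/-- if `Hom(M, L) = 0` and `N ⊗ M ≅ O` then `N ⊗ L` has no nonzero sections -/
theorem eq_zero_of_hom_eq_zero {L M N : X.Modules} (hhom : ∀ g : M ⟶ L, g = 0)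
    (e₀ : tensorMod N M ≅ Coh.structureModule X)
    (s : Coh.structureModule X ⟶ (tensorLeftFunctor N).obj L) : s = 0 := by
  have := isEquivalence_tensorLeftFunctor e₀
  obtain ⟨e, -⟩ : ∃ e : (tensorLeftFunctor N).obj M ≅ Coh.structureModule X, True := ⟨e₀, trivial⟩
  have h1 : (tensorLeftFunctor N).preimage (e.hom ≫ s) = 0 := hhom _
  have h2 : e.hom ≫ s = 0 := by
    rw [← (tensorLeftFunctor N).map_preimage (e.hom ≫ s), h1, Functor.map_zero]
  rw [← cancel_epi e.hom, h2, comp_zero]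

end General

section Curve

lemma auxX (a b : ℕ) (D dN dL dM dE : ℤ) (c g : ℕ) (hrr : (a : ℤ) - b = D + c - g) (ha : a = 0) (hb : 0 < b)
    (hc : c = 1) (hD : D = dN + dL) (hM : dM = -dN) (hE : dE = dL + dM) : 2 * dL ≤ dE + g - 2 := by lia

variable (H : Hyp.{u}) (HS : SnapperHyp.{u}) (V : VanHyp.{u}) (k : Type u) [Field k] [IsAlgClosed k]
  (X : Scheme.{u}) [X.Over (Spec (CommRingCat.of k))] [IsIntegral X]
  [IsProper (X ↘ (Spec (CommRingCat.of k)))] (hdim : topologicalKrullDim X = 1)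

omit [IsAlgClosed k] [IsProper (X ↘ (Spec (CommRingCat.of k)))] in
/-- a saturated invertible submodule of a simple module is not a direct summand -/
theorem not_isSplitEpi_of_simple {E L : X.Modules} (hsimple : ∀ φ : E ⟶ E, ∃ c : k, φ = sc k X E c)
    (hL : PicF.IsInvertible L) (i : L ⟶ E) [Mono i] (hq : PicF.IsInvertible (cokernel i)) :
    ¬ IsSplitEpi (cokernel.π i) := by
  rintro ⟨⟨σ, hσ⟩⟩
  have hLnz : ¬ IsZero L := Groth.Agent.Lib.CurveVB54.not_isZero_of_isInvertible hL
  have hMnz : ¬ IsZero (cokernel i) := Groth.Agent.Lib.CurveVB54.not_isZero_of_isInvertible hq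
  obtain ⟨c, hc⟩ := hsimple (cokernel.π i ≫ σ)
  have h1 : cokernel.π i ≫ sc k X (cokernel i) c = cokernel.π i ≫ 𝟙 _ := by
    rw [← sc_comp, ← hc, Category.assoc, hσ]
  have h2 : sc k X (cokernel i) c = 𝟙 _ := (cancel_epi _).mp h1
  have h3 : sc k X (cokernel i) (c - 1) = 0 := by rw [sc_sub, sc_one, h2, sub_self]
  have hc1 : c = 1 := sub_eq_zero.mp (eq_zero_of_sc_eq_zero k X hMnz _ h3)
  rw [hc1, sc_one] at hc
  apply hLnz
  apply IsZero.of_mono_eq_zero i
  rw [← Category.comp_id i, ← hc, cokernel.condition_assoc, zero_comp]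

include H HS V hdim in
/-- S11817: a saturated invertible submodule `L` of a simple rank two module `E` has `2 deg L ≤ deg E + g - 2` -/
theorem two_deg_le_of_simple {E L : X.Modules} (hE : FlatMod.IsFinLocFreeOfRank 2 E)
    (hsimple : ∀ φ : E ⟶ E, ∃ c : k, φ = sc k X E c)
    (hL : PicF.IsInvertible L) (i : L ⟶ E) [Mono i] (hq : PicF.IsInvertible (cokernel i)) :
    2 * Curv2.deg k X L 1 ≤ Curv2.deg k X E 2 + (Curv2.genus k X : ℤ) - 2 := by
  have hS : (ShortComplex.mk i (cokernel.π i) (cokernel.condition i)).ShortExact :=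
    { exact := ShortComplex.exact_cokernel i }
  have hns := not_isSplitEpi_of_simple k X hsimple hL i hq
  have hhom : ∀ g : cokernel i ⟶ L, g = 0 := by
    intro g
    by_contra hg
    obtain ⟨-, φ, hφ⟩ := indecomposable_not_simple H k X hdim _ hS hL hq hns g hg
    obtain ⟨c, hc⟩ := hsimple φ
    exact hφ c hc
  obtain ⟨N, hN, ⟨e₀⟩⟩ := Groth.Agent.Lib.H78Dual.exists_tensor_inverse hq
  have hnt : Nontrivial (Coh.HH X ((tensorLeftFunctor N).obj L) 1) :=
    nontrivial_H1_of_not_isSplitEpi _ hS hns e₀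
  have hNL : PicF.IsInvertible ((tensorLeftFunctor N).obj L) :=
    Groth.Agent.Lib.H78TensorGen.isInvertible_tensorMod hN hL
  have hNLc : Coh.IsCoh ((tensorLeftFunctor N).obj L) := isCoh_of_isInvertible hNL
  have hq' : ((tensorLeftFunctor N).obj L).IsQuasicoherent := hNLc.1
  have h0 : Module.finrank k (Coh.HH X ((tensorLeftFunctor N).obj L) 0) = 0 := by
    by_contra hne
    obtain ⟨s, hs⟩ := Groth.Agent.Lib.RiemannRoch54.exists_section_ne_zero k X _ (Nat.pos_of_ne_zero hne)
    exact hs (eq_zero_of_hom_eq_zero hhom e₀ s)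
  have hfin : Module.Finite k (Coh.HH X ((tensorLeftFunctor N).obj L) 1) := H k X _ hNLc 1
  have hpos : 0 < Module.finrank k (Coh.HH X ((tensorLeftFunctor N).obj L) 1) := Module.finrank_pos
  have hrr := Groth.Agent.Lib.RiemannRoch54.riemann_roch k X hdim.le ((tensorLeftFunctor N).obj L)
  have hD : Curv2.deg k X ((tensorLeftFunctor N).obj L) 1 = Curv2.deg k X N 1 + Curv2.deg k X L 1 :=
    Groth.Agent.Lib.DegTensor54.deg_tensorMod HS V k hdim.le hN hL
  have hM := Groth.Agent.Lib.DegTensor54.deg_eq_neg_of_iso HS V k hdim.le hN hq e₀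
  exact auxX _ _ _ _ _ _ _ _ _ hrr h0 hpos (finrank_H0_structure_eq_one H k X) hD hM
    (Groth.Agent.Lib.CurveVB54.deg_eq_add_cokernel H k X hE hL i hq)

end Curve

end Groth.Agent.Lib.CurveExt54
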