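import Groth.Agent.Lib.CurveIdeal54
import Groth.Agent.Lib.GlobGenDescent
import Groth.Agent.Lib.H4H0Nat

set_option autoImplicit false
universe u
open CategoryTheory CategoryTheory.Limits AlgebraicGeometry Opposite TopologicalSpace

namespace Groth.Agent.Lib.CurveGlobGen54

open Groth.Agent.Lib.EulerChar54 Groth.Agent.Lib.ProperFinHyp Groth.Agent.Lib.DegCurve54
open Groth.Agent.Lib.InvMap54 Groth.Agent.Lib.H90Invertible Groth.Agent.Lib.CohLES
open Groth.Agent.Lib.H78SecCoord Groth.Agent.Lib.EulerNat54 Groth.Agent.Lib.StructureModule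
open Groth.Agent.Lib.OXModTensor Groth.Agent.Lib.CurveH1Van54 Groth.Agent.Lib.CurveSerreVan54 CohB1
open Groth.Agent.Lib.ModStalkLin Groth.Agent.Lib.H78GlobGen2 Groth.Agent.Lib.GlobGenDescent
open Groth.Agent.Lib.CurveIdeal54 Groth.Agent.Lib.H4Twist

section General

variable {X : Scheme.{u}}

/-- the support of a quotient is contained in the support -/
theorem support_subset_of_epi {A B : X.Modules} (q : A ⟶ B) [Epi q] :
    CohB1.support B ⊆ CohB1.support A := by
  intro x hx hA
  have hA' : Subsingleton (A.presheaf.stalk x) := hA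
  exact hx ((stalkLin_surjective_of_epi q x).subsingleton)

/-- every section of `L` is killed by the cokernel of the tautological map `free Γ(L) ⟶ L` -/
theorem comp_cokernel_ofSections_eq_zero (L : X.Modules) (s : Coh.structureModule X ⟶ L) :
    s ≫ cokernel.π (ofSections L (fun σ : Γ(L, ⊤) => σ)) = 0 := by
  rw [← ofSection_sec s, ← ιF_ofSections L (fun σ : Γ(L, ⊤) => σ) (sec s), Category.assoc,
    cokernel.condition, comp_zero]

/-- the cokernel of the tautological map `free Γ(L) ⟶ L` kills `H^0` -/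
theorem map_cokernel_ofSections_zero (L : X.Modules) (x : Coh.HH X L 0) :
    map (cokernel.π (ofSections L (fun σ : Γ(L, ⊤) => σ))) 0 x = 0 := by
  apply (h0Equiv _).injective
  rw [h0Equiv_map, map_zero]
  have h1 := ofSection_comp (h0Equiv L x) (cokernel.π (ofSections L (fun σ : Γ(L, ⊤) => σ)))
  rw [comp_cokernel_ofSections_eq_zero] at h1
  have h2 := congrArg sec h1
  rw [sec_ofSection] at h2
  rw [← h2]
  change (0 : Coh.structureModule X ⟶ _).app ⊤ _ = 0
  rw [Scheme.Modules.Hom.zero_app]
  rfl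

end General

section Main

lemma auxG (a b : ℕ) (D : ℤ) (c g : ℕ) (hrr : (a : ℤ) - b = D + c - g) (hc : c = 1) (hb : b = 0)
    (hD : 2 * (g : ℤ) ≤ D) : g + 1 ≤ a := by lia

lemma auxG2 (a b g : ℕ) (hle : b ≤ g) (heq : b = a) (hbig : g + 1 ≤ a) : False := by lia

variable (H : Hyp.{u}) (k : Type u) [Field k] (X : Scheme.{u}) [X.Over (Spec (CommRingCat.of k))]
  [IsIntegral X] [IsProper (X ↘ (Spec (CommRingCat.of k)))] (hdim : topologicalKrullDim X ≤ 1)
  {L : X.Modules} (hL : PicF.IsInvertible L)

include H hdim hL in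
/-- if a map `p : A ⟶ L` to an invertible module with many sections has cokernel supported at closed points
and killing all global sections, then the cokernel vanishes -/
theorem isZero_cokernel_of_map_zero {A : X.Modules} (p : A ⟶ L)
    (hp : ∀ x : Coh.HH X L 0, map (cokernel.π p) 0 x = 0)
    (hCc : Coh.IsCoh (cokernel p))
    (hsupp : ∀ x ∈ CohB1.support (cokernel p), IsClosed ({x} : Set X))
    (hbig : Curv2.genus k X + 1 ≤ Module.finrank k (Coh.HH X L 0)) :
    IsZero (cokernel p) := by
  have : IsLocallyNoetherian X :=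
    LocallyOfFiniteType.isLocallyNoetherian (X ↘ (Spec (CommRingCat.of k)))
  have hLc : Coh.IsCoh L := isCoh_of_isInvertible hL
  have hCq : (cokernel p).IsQuasicoherent := hCc.1
  by_contra hnz
  have hS : (ShortComplex.mk (kernel.ι (cokernel.π p)) (cokernel.π p) (kernel.condition _)).ShortExact :=
    ShortComplex.ShortExact.mk' (ShortComplex.exact_of_f_is_kernel _ (kernelIsKernel _))
      inferInstance inferInstance
  have hL'c : Coh.IsCoh (kernel (cokernel.π p)) :=
    Groth.Agent.Lib.H90OXModExact.isCoh_kernel (cokernel.π p) hLc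
  -- `H^0(C) ≠ 0`
  have hC0 : Nontrivial (Coh.HH X (cokernel p) 0) := by
    by_contra hns
    rw [not_nontrivial_iff_subsingleton] at hns
    exact hnz (isZero_of_isFlasque_of_subsingleton _
      (Groth.Agent.S0047.isFlasque_toAb _ hCc hsupp) hns)
  -- `δ` is injective
  have hδ : Function.Injective (δ hS 0) := by
    rw [injective_iff_map_eq_zero]
    intro x hx
    obtain ⟨y, hy⟩ := exact₃ hS 0 x hx
    rw [← hy]
    exact hp y
  have hnt : Nontrivial (Coh.HH X (kernel (cokernel.π p)) 1) := hδ.nontrivial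
  have hle := finrank_H0_le_genus_of_mono H k X hdim hL'c hL (kernel.ι (cokernel.π p))
  -- `H^0(L') ≅ H^0(L)`
  have hbij : Function.Bijective (mapₗ k (kernel.ι (cokernel.π p)) 0) :=
    ⟨map_f_injective_zero hS, fun x => exact₂ hS 0 x (hp x)⟩
  have heq := (LinearEquiv.ofBijective _ hbij).finrank_eq
  exact auxG2 _ _ _ hle heq hbig


include H hdim hL in
/-- **S1533**: an invertible module of degree `≥ 2g` on an integral proper curve with `h^0(O) = 1` is globally
generated -/
theorem isGloballyGenerated_of_deg_ge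
    (h0 : Module.finrank k (Coh.HH X (Coh.structureModule X) 0) = 1)
    (hdeg : 2 * (Curv2.genus k X : ℤ) ≤ Curv2.deg k X L 1) :
    Curv2.IsGloballyGenerated L := by
  have : IsLocallyNoetherian X :=
    LocallyOfFiniteType.isLocallyNoetherian (X ↘ (Spec (CommRingCat.of k)))
  have hLc : Coh.IsCoh L := isCoh_of_isInvertible hL
  have hLq : L.IsQuasicoherent := hLc.1
  have hOinv := isInvertible_structureModule X
  have hH1 : Subsingleton (Coh.HH X L 1) :=
    subsingleton_H1_of_deg_ge H k X hdim hL h0 (by lia)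
  have hrr := Groth.Agent.Lib.RiemannRoch54.riemann_roch k X hdim L
  have hbig : Curv2.genus k X + 1 ≤ Module.finrank k (Coh.HH X L 0) :=
    auxG _ _ _ _ _ hrr h0 Module.finrank_zero_of_subsingleton hdeg
  have hpos : 0 < Module.finrank k (Coh.HH X L 0) := by lia
  -- a nonzero section
  obtain ⟨s, hs⟩ := Groth.Agent.Lib.RiemannRoch54.exists_section_ne_zero k X L hpos
  have hsπ : s ≫ cokernel.π (ofSections L (fun σ : Γ(L, ⊤) => σ)) = 0 :=
    comp_cokernel_ofSections_eq_zero L s
  have hCc : Coh.IsCoh (cokernel (ofSections L (fun σ : Γ(L, ⊤) => σ))) :=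
    Groth.Agent.Lib.H90OXModExact.isCoh_cokernel _ hLc
  have hdesc : Epi (cokernel.desc s (cokernel.π (ofSections L (fun σ : Γ(L, ⊤) => σ))) hsπ) :=
    epi_of_epi_fac (cokernel.π_desc s (cokernel.π (ofSections L (fun σ : Γ(L, ⊤) => σ))) hsπ)
  have hsupp : ∀ x ∈ CohB1.support (cokernel (ofSections L (fun σ : Γ(L, ⊤) => σ))),
      IsClosed ({x} : Set X) := fun x hx =>
    isClosed_singleton_of_mem_support_cokernel hOinv hL s hdim hs x
      (support_subset_of_epi (cokernel.desc s (cokernel.π (ofSections L (fun σ : Γ(L, ⊤) => σ))) hsπ) hx)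
  have hZ := isZero_cokernel_of_map_zero H k X hdim hL (ofSections L (fun σ : Γ(L, ⊤) => σ))
    (map_cokernel_ofSections_zero L) hCc hsupp hbig
  exact ⟨Γ(L, ⊤), ofSections L (fun σ : Γ(L, ⊤) => σ), Preadditive.epi_of_isZero_cokernel _ hZ⟩

end Main

end Groth.Agent.Lib.CurveGlobGen54
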