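import Groth.Agent.Lib.CurveBpf54
import Groth.Agent.Lib.CurveExt54
import Groth.Agent.Lib.CurveGlobGen54
import Groth.Agent.Lib.SupportTensor
import Groth.Agent.Lib.DegTensor54

/-!
# Linear series on integral proper curves: `r ≤ d`, with equality only in genus zero (helper54; campaign K6)

Namespace `Groth.Agent.Lib.CurveLinSeries54`.  `H : ProperFinHyp.Hyp` (= S0002), `HS : SnapperHyp` (= S3230),
`V : VanHyp` (= S0458).

* diagram chases on cohomology: `map_g_surjective_of_square`, `map_f_one_bijective`,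
  `map_g_zero_surjective_of_finrank_eq` (and its unbundled form), `map_map_surjective_of_iso_id`,
  `map_one_bijective_of_natTrans`.
* `finite_of_isClosed_of_forall_isClosed_singleton`: a closed set of closed points in a Noetherian quasi-sober space is finite.
* `tensRightFMap`, `tensRightUnitIso` (abstract, for helper42's `LocData`), `tensorRightNat t : - ⊗ M ⟶ - ⊗ N`,
  `tensorRightUnitIso : - ⊗ O ≅ 𝟭`, `epi_tensorRightNat_app_of_disjoint`, `map_tensorRightNat_app_surjective`.
* `map_tensorRight_one_bijective`, `finrank_H1_tensor_self`: (doubling) if `s ≠ 0` is a section of an invertible `L` on an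
  integral proper curve and `H^0(L) → H^0(L/sO)` is onto then `h^1(L ⊗ L) = h^1(L)`.
* `finrank_H1_le_genus`: `h^1(L) ≤ g` when `H^0(L) ≠ 0`; `finrank_H1_tensor_self_of_eq_genus`;
  `exists_pow_finrank_H1_eq_genus`; `genus_eq_zero_of_finrank_H1_eq`: `h^1(L) = g`, `deg L > 0` ⇒ `g = 0`.
* **`finrank_H0_le_deg_add_one`** (= S1564).
-/

set_option autoImplicit false
universe u
open CategoryTheory CategoryTheory.Limits AlgebraicGeometry Opposite TopologicalSpace

namespace Groth.Agent.Lib.CurveLinSeries54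

open Groth.Agent.Lib.EulerChar54 Groth.Agent.Lib.ProperFinHyp Groth.Agent.Lib.DegCurve54
open Groth.Agent.Lib.InvMap54 Groth.Agent.Lib.H90Invertible Groth.Agent.Lib.CohLES
open Groth.Agent.Lib.H78SecCoord Groth.Agent.Lib.StructureModule
open Groth.Agent.Lib.OXModTensor Groth.Agent.Lib.CurveH1Van54 Groth.Agent.Lib.CurveSerreVan54 CohB1
open Groth.Agent.Lib.TwistEquiv Groth.Agent.Lib.GlobGenDescent Groth.Agent.Lib.H4Twist
open Groth.Agent.Lib.IntNumAlg13 Groth.Agent.Lib.EulerLE48 Groth.Agent.Lib.CurveBpf54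

section Abstract

variable {X : Scheme.{u}}

/-- chasing a commutative square: surjectivity on `H^0` of the right hand map of a second sequence -/
theorem map_g_surjective_of_square {S S' : ShortComplex X.Modules} (τ₂ : S.X₂ ⟶ S'.X₂) (τ₃ : S.X₃ ⟶ S'.X₃)
    (hcomm : τ₂ ≫ S'.g = S.g ≫ τ₃) (ha : Function.Surjective (map S.g 0))
    (hb : Function.Surjective (map τ₃ 0)) : Function.Surjective (map S'.g 0) := by
  intro x
  obtain ⟨y, rfl⟩ := hb x
  obtain ⟨z, rfl⟩ := ha y
  refine ⟨map τ₂ 0 z, ?_⟩
  rw [← map_comp, hcomm, map_comp]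

/-- if `H^0(X₂) → H^0(X₃)` is surjective and `H^1(X₃) = 0` then `H^1(X₁) → H^1(X₂)` is bijective -/
theorem map_f_one_bijective {S : ShortComplex X.Modules} (hS : S.ShortExact)
    (hg : Function.Surjective (map S.g 0)) [Subsingleton (Coh.HH X S.X₃ 1)] :
    Function.Bijective (map S.f 1) := by
  constructor
  · rw [injective_iff_map_eq_zero]
    intro x hx
    obtain ⟨y, rfl⟩ := exact₁ hS 0 x hx
    obtain ⟨z, rfl⟩ := hg y
    exact δ_map_g hS 0 z
  · intro z
    exact exact₂ hS 1 z (Subsingleton.elim _ _)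

end Abstract

section Linear

variable (k : Type u) [Field k] {X : Scheme.{u}} [X.Over (Spec (CommRingCat.of k))]

/-- if `H^1(X₃) = 0` and `h^1(X₁) = h^1(X₂)` is finite then `H^0(X₂) → H^0(X₃)` is surjective -/
theorem map_g_zero_surjective_of_finrank_eq {S : ShortComplex X.Modules} (hS : S.ShortExact)
    [Subsingleton (Coh.HH X S.X₃ 1)] [Module.Finite k (Coh.HH X S.X₁ 1)] [Module.Finite k (Coh.HH X S.X₂ 1)]
    (h : Module.finrank k (Coh.HH X S.X₁ 1) = Module.finrank k (Coh.HH X S.X₂ 1)) :
    Function.Surjective (map S.g 0) := by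
  have hsurj : Function.Surjective (mapₗ k S.f 1) := fun z => exact₂ hS 1 z (Subsingleton.elim _ _)
  have hinj : Function.Injective (mapₗ k S.f 1) :=
    (LinearMap.injective_iff_surjective_of_finrank_eq_finrank h).mpr hsurj
  intro x
  refine exact₃ hS 0 x (hinj ?_)
  rw [map_zero]
  exact map_f_δ hS 0 x

/-- unbundled form -/
theorem map_g_zero_surjective_of_finrank_eq' {A B C : X.Modules} (f : A ⟶ B) (g : B ⟶ C) (w : f ≫ g = 0)
    (hS : (ShortComplex.mk f g w).ShortExact)
    (h1 : Subsingleton (Coh.HH X C 1)) (hA : Module.Finite k (Coh.HH X A 1))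
    (hB : Module.Finite k (Coh.HH X B 1))
    (h : Module.finrank k (Coh.HH X A 1) = Module.finrank k (Coh.HH X B 1)) :
    Function.Surjective (map g 0) := by
  have i1 : Subsingleton (Coh.HH X (ShortComplex.mk f g w).X₃ 1) := h1
  have i2 : Module.Finite k (Coh.HH X (ShortComplex.mk f g w).X₁ 1) := hA
  have i3 : Module.Finite k (Coh.HH X (ShortComplex.mk f g w).X₂ 1) := hB
  have := @map_g_zero_surjective_of_finrank_eq k _ X _ _ hS i1 i2 i3 h
  exact this

end Linear

section Topology

/-- a closed subset of a Noetherian quasi-sober space all of whose points are closed is finite -/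
theorem finite_of_isClosed_of_forall_isClosed_singleton {α : Type*} [TopologicalSpace α] [NoetherianSpace α]
    [QuasiSober α] {Z : Set α} (hZ : IsClosed Z) (h : ∀ x ∈ Z, IsClosed ({x} : Set α)) : Z.Finite := by
  obtain ⟨S, hSf, hSc, hSi, rfl⟩ := NoetherianSpace.exists_finite_set_isClosed_irreducible hZ
  refine Set.Finite.sUnion hSf fun t ht => ?_
  obtain ⟨x, hx⟩ := QuasiSober.sober (hSi t ht) (hSc t ht)
  have hxt : x ∈ t := hx.mem
  have hcl : IsClosed ({x} : Set α) := h x ⟨t, ht, hxt⟩
  have : t = {x} := by rw [← hx.def, hcl.closure_eq]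
  rw [this]
  exact Set.finite_singleton x

end Topology

section Loc

open MonoidalCategory Groth.Agent.Lib.MonLoc

universe v₁ v₂ u₁ u₂

variable {C : Type u₁} {D : Type u₂} [Category.{v₁} C] [Category.{v₂} D] [MonoidalCategory C]
    [SymmetricCategory C] (L : LocData C D)

/-- `- ⊗ M → - ⊗ N` induced by `t : M → N` -/
def tensRightFMap {M N : D} (t : M ⟶ N) : L.tensRightF M ⟶ L.tensRightF N where
  app A := L.tensMap (𝟙 A) t
  naturality A B f := by
    rw [LocData.tensRightF_map, LocData.tensRightF_map]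
    exact L.tensMap_comm f t

/-- `- ⊗ unit ≅ 𝟭` -/
noncomputable def tensRightUnitIso : L.tensRightF L.unit ≅ 𝟭 D :=
  L.tensRightIsoLeft L.unit ≪≫ L.tensLeftUnitIso

end Loc


section Concrete

variable {X : Scheme.{u}}

/-- the natural transformation `- ⊗ M → - ⊗ N` induced by `t : M → N` -/
noncomputable def tensorRightNat {M N : X.Modules} (t : M ⟶ N) :
    tensorRightFunctor M ⟶ tensorRightFunctor N := tensRightFMap (locData X) t

theorem tensorRightNat_app {M N : X.Modules} (t : M ⟶ N) (A : X.Modules) :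
    (tensorRightNat t).app A = tensorModMap (𝟙 A) t := rfl

theorem tensorRightNat_app_eq {M N : X.Modules} (t : M ⟶ N) (A : X.Modules) :
    (tensorRightNat t).app A = (tensorLeftFunctor A).map t := (tensorLeftFunctor_map A t).symm

/-- `- ⊗ O ≅ 𝟭` -/
noncomputable def tensorRightUnitIso : tensorRightFunctor (Coh.structureModule X) ≅ 𝟭 X.Modules :=
  tensRightUnitIso (locData X)

/-- transport of surjectivity on cohomology along a functor isomorphic to the identity -/
theorem map_map_surjective_of_iso_id (F : X.Modules ⥤ X.Modules) (e : F ≅ 𝟭 X.Modules) {A B : X.Modules}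
    (g : A ⟶ B) (n : ℕ) (h : Function.Surjective (map g n)) : Function.Surjective (map (F.map g) n) := by
  intro x
  obtain ⟨y, hy⟩ := h (map (e.hom.app B) n x)
  refine ⟨map (e.inv.app A) n y, ?_⟩
  have hnat : e.inv.app A ≫ F.map g = g ≫ e.inv.app B := (e.inv.naturality g).symm
  rw [← map_comp, hnat, map_comp, hy, ← map_comp]
  have : e.hom.app B ≫ e.inv.app B = 𝟙 _ := e.hom_inv_id_app B
  rw [this, map_id]

/-- the key diagram chase: `H^1(G X₁) → H^1(G X₂)` is bijective -/
theorem map_one_bijective_of_natTrans {S : ShortComplex X.Modules} (F G : X.Modules ⥤ X.Modules)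
    [G.PreservesZeroMorphisms] (η : F ⟶ G) (hG : (S.map G).ShortExact)
    (ha : Function.Surjective (map (F.map S.g) 0))
    (hb : Function.Surjective (map (η.app S.X₃) 0))
    (h1 : Subsingleton (Coh.HH X (S.map G).X₃ 1)) :
    Function.Bijective (map (S.map G).f 1) := by
  have hg : Function.Surjective (map (S.map G).g 0) := by
    intro x
    obtain ⟨y, hy⟩ := hb x
    obtain ⟨z, hz⟩ := ha y
    refine ⟨map (η.app S.X₂) 0 z, ?_⟩
    have hnat : η.app S.X₂ ≫ G.map S.g = F.map S.g ≫ η.app S.X₃ := (η.naturality S.g).symm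
    have e1 : map (G.map S.g) 0 (map (η.app S.X₂) 0 z) = map (η.app S.X₂ ≫ G.map S.g) 0 z :=
      (map_comp _ _ 0 z).symm
    have e2 : map (F.map S.g ≫ η.app S.X₃) 0 z = map (η.app S.X₃) 0 (map (F.map S.g) 0 z) :=
      map_comp _ _ 0 z
    have e3 : map (G.map S.g) 0 (map (η.app S.X₂) 0 z) = x := by
      rw [e1, hnat, e2, hz, hy]
    exact e3
  exact map_f_one_bijective hG hg

/-- if the supports of `C` and `coker t` are disjoint, then `C ⊗ t` is an epimorphism -/
theorem epi_tensorRightNat_app_of_disjoint {C M N : X.Modules} [M.IsQuasicoherent] (hC : Coh.IsCoh C)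
    (hN : Coh.IsCoh N) (t : M ⟶ N)
    (h : ∀ x ∈ CohB1.support C, x ∉ CohB1.support (cokernel t)) : Epi ((tensorRightNat t).app C) := by
  have hQ : Coh.IsCoh (cokernel t) := Groth.Agent.Lib.H90OXModExact.isCoh_cokernel t hN
  have i1 : C.IsQuasicoherent := hC.1
  have i2 : C.IsFiniteType := hC.2
  have i3 : (cokernel t).IsQuasicoherent := hQ.1
  have i4 : (cokernel t).IsFiniteType := hQ.2
  have hz : IsZero ((tensorLeftFunctor C).obj (cokernel t)) := by
    apply Groth.Agent.Lib.H90QCohLocalization.isZero_of_stalks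
    intro x
    by_contra hx
    have hx' : x ∈ CohB1.support (tensorMod C (cokernel t)) := hx
    rw [Groth.Agent.Lib.SupportTensor.support_tensorMod] at hx'
    exact h x hx'.1 hx'.2
  have hz' : IsZero (cokernel ((tensorLeftFunctor C).map t)) :=
    hz.of_iso (PreservesCokernel.iso (tensorLeftFunctor C) t).symm
  rw [tensorRightNat_app_eq]
  exact Preadditive.epi_of_isZero_cokernel _ hz'

/-- if `C` is supported at closed points away from the support of `coker t`, then `H^0(C ⊗ M) → H^0(C ⊗ N)` is onto -/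
theorem map_tensorRightNat_app_surjective [IsLocallyNoetherian X] {C M N : X.Modules} (hC : Coh.IsCoh C)
    (hM : Coh.IsCoh M) (hN : Coh.IsCoh N) (t : M ⟶ N)
    (hcl : ∀ x ∈ CohB1.support C, IsClosed ({x} : Set X))
    (h : ∀ x ∈ CohB1.support C, x ∉ CohB1.support (cokernel t)) :
    Function.Surjective (map ((tensorRightNat t).app C) 0) := by
  have i0 : M.IsQuasicoherent := hM.1
  have i1 : C.IsQuasicoherent := hC.1
  have i2 : C.IsFiniteType := hC.2
  have i3 : M.IsFiniteType := hM.2
  have hepi : Epi ((tensorRightNat t).app C) := epi_tensorRightNat_app_of_disjoint hC hN t h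
  have hCM : Coh.IsCoh ((tensorRightFunctor M).obj C) := Groth.Agent.Lib.CohFinAmple.isCoh_tensorMod hC hM
  have hCN : Coh.IsCoh ((tensorRightFunctor N).obj C) := Groth.Agent.Lib.CohFinAmple.isCoh_tensorMod hC hN
  have i4 : ((tensorRightFunctor N).obj C).IsQuasicoherent := hCN.1
  have hK : Coh.IsCoh (kernel ((tensorRightNat t).app C)) :=
    Groth.Agent.Lib.H90OXModExact.isCoh_kernel _ hCM
  have hKcl : ∀ x ∈ CohB1.support (kernel ((tensorRightNat t).app C)), IsClosed ({x} : Set X) := by
    intro x hx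
    have hx' : x ∈ CohB1.support (tensorMod C M) :=
      Groth.Agent.Lib.H90DevHub2.support_subset_of_mono (kernel.ι ((tensorRightNat t).app C)) hx
    rw [Groth.Agent.Lib.SupportTensor.support_tensorMod] at hx'
    exact hcl x hx'.1
  have h1 : Subsingleton (Coh.HH X (kernel ((tensorRightNat t).app C)) (0 + 1)) :=
    Groth.Agent.S0047.result X _ hK hKcl 1 Nat.one_pos
  have hz : IsZero (cokernel ((tensorRightNat t).app C)) := isZero_cokernel_of_epi _
  have h0 : Subsingleton (Coh.HH X (cokernel ((tensorRightNat t).app C)) 0) := by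
    refine subsingleton_of_forall_eq 0 fun x => ?_
    rw [← map_id _ 0 x, hz.eq_of_src (𝟙 _) 0, map_zero']
  exact map_surjective_of_kernel_cokernel ((tensorRightNat t).app C) 0

end Concrete


section Geometric

variable (k : Type u) [Field k] {X : Scheme.{u}} [X.Over (Spec (CommRingCat.of k))]
  [IsIntegral X] [IsProper (X ↘ (Spec (CommRingCat.of k)))] (hdim : topologicalKrullDim X ≤ 1)
  {L : X.Modules} (hL : PicF.IsInvertible L)

include k hdim hL in
/-- **doubling**: if `s ≠ 0` is a section of `L` with `H^0(L) → H^0(L/sO)` onto, then `H^1(O ⊗ L) → H^1(L ⊗ L)` is bijective -/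
theorem map_tensorRight_one_bijective (s : Coh.structureModule X ⟶ L) (hs : s ≠ 0)
    (hsurj : Function.Surjective (map (cokernel.π s) 0)) :
    Function.Bijective (map ((tensorRightFunctor L).map s) 1) := by
  have : IsLocallyNoetherian X :=
    LocallyOfFiniteType.isLocallyNoetherian (X ↘ (Spec (CommRingCat.of k)))
  have : CompactSpace X := compactSpace_of_isProper k X
  have : IsNoetherian X := {}
  have hO := isInvertible_structureModule X
  have hLc : Coh.IsCoh L := isCoh_of_isInvertible hL
  have hOc : Coh.IsCoh (Coh.structureModule X) := isCoh_of_isInvertible hO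
  have hOq : (Coh.structureModule X).IsQuasicoherent := hOc.1
  have hQ : Coh.IsCoh (cokernel s) := Groth.Agent.Lib.H90OXModExact.isCoh_cokernel s hLc
  have hcl := isClosed_singleton_of_mem_support_cokernel hO hL s hdim hs
  have hmono : Mono s := mono_of_ne_zero hO hL s hs
  have hS : (ShortComplex.mk s (cokernel.π s) (cokernel.condition s)).ShortExact :=
    { exact := ShortComplex.exact_cokernel s }
  have i2 : (cokernel s).IsFiniteType := hQ.2
  have hfin : (CohB1.support (cokernel s)).Finite :=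
    finite_of_isClosed_of_forall_isClosed_singleton
      (Groth.Agent.Lib.ModStalk.isClosed_support_of_isFiniteType _) hcl
  obtain ⟨c, hc⟩ := exists_epi_ofSection hL (cokernel.π s) hfin hcl
  obtain ⟨y, hy⟩ := hsurj ((h0Equiv (cokernel s)).symm c)
  obtain ⟨t, ht⟩ : ∃ t : Coh.structureModule X ⟶ L, t ≫ cokernel.π s = ofSection c := by
    refine ⟨ofSection (h0Equiv L y), ?_⟩
    rw [ofSection_comp, ← h0Equiv_map, hy, AddEquiv.apply_symm_apply]
  have hepi : Epi (t ≫ cokernel.π s) := by rw [ht]; exact hc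
  have hdisj : ∀ x ∈ CohB1.support (cokernel s), x ∉ CohB1.support (cokernel t) :=
    fun x hx => not_mem_support_cokernel_of_epi hL s t x hx
  obtain ⟨L', -, ⟨e₀⟩⟩ := Groth.Agent.Lib.H78Dual.exists_tensor_inverse hL
  obtain ⟨e, -⟩ : ∃ e : tensorMod L L' ≅ Coh.structureModule X, True := ⟨braiding L L' ≪≫ e₀, trivial⟩
  have hSL := shortExact_map_tensorRight e hS
  have ha : Function.Surjective
      (map ((tensorRightFunctor (Coh.structureModule X)).map (cokernel.π s)) 0) :=
    map_map_surjective_of_iso_id _ tensorRightUnitIso _ 0 hsurj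
  have hb : Function.Surjective (map ((tensorRightNat t).app (cokernel s)) 0) :=
    map_tensorRightNat_app_surjective hQ hOc hLc t hcl hdisj
  have hCL : Coh.IsCoh ((tensorRightFunctor L).obj (cokernel s)) :=
    Groth.Agent.Lib.CohFinAmple.isCoh_tensorMod hQ hLc
  have hCLcl : ∀ x ∈ CohB1.support ((tensorRightFunctor L).obj (cokernel s)), IsClosed ({x} : Set X) := by
    intro x hx
    have i0 : L.IsQuasicoherent := hLc.1
    have i1 : (cokernel s).IsQuasicoherent := hQ.1
    have i3 : L.IsFiniteType := hLc.2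
    have hx' : x ∈ CohB1.support (tensorMod (cokernel s) L) := hx
    rw [Groth.Agent.Lib.SupportTensor.support_tensorMod] at hx'
    exact hcl x hx'.1
  have h1 : Subsingleton (Coh.HH X ((tensorRightFunctor L).obj (cokernel s)) 1) :=
    Groth.Agent.S0047.result X _ hCL hCLcl 1 Nat.one_pos
  exact map_one_bijective_of_natTrans (S := ShortComplex.mk s (cokernel.π s) (cokernel.condition s))
    (tensorRightFunctor (Coh.structureModule X)) (tensorRightFunctor L) (tensorRightNat t) hSL ha hb h1

include hdim hL in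
/-- dimension form of the doubling lemma -/
theorem finrank_H1_tensor_self (s : Coh.structureModule X ⟶ L) (hs : s ≠ 0)
    (hsurj : Function.Surjective (map (cokernel.π s) 0)) :
    Module.finrank k (Coh.HH X (tensorMod L L) 1) = Module.finrank k (Coh.HH X L 1) := by
  have hbij := map_tensorRight_one_bijective k hdim hL s hs hsurj
  have e1 : Coh.HH X ((tensorRightFunctor L).obj (Coh.structureModule X)) 1 ≃ₗ[k]
      Coh.HH X ((tensorRightFunctor L).obj L) 1 :=
    LinearEquiv.ofBijective (mapₗ k ((tensorRightFunctor L).map s) 1) hbij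
  have e2 : Coh.HH X ((tensorRightFunctor L).obj (Coh.structureModule X)) 1 ≃ₗ[k] Coh.HH X L 1 :=
    mapEquivₗ k (leftUnitor L) 1
  exact e1.symm.finrank_eq.trans e2.finrank_eq

end Geometric


section Main

lemma auxA (a b g c : ℕ) (D chi e : ℤ) (hD : D = chi - 1 * e) (hchi : chi = (a : ℤ) - b)
    (he : e = (c : ℤ) - g) (hc : c = 1) (hb : b ≤ g) : (a : ℤ) ≤ D + 1 := by lia

lemma auxB (a b g c : ℕ) (D chi e : ℤ) (hD : D = chi - 1 * e) (hchi : chi = (a : ℤ) - b)
    (he : e = (c : ℤ) - g) (hc : c = 1) (heq : (a : ℤ) = D + 1) : b = g := by lia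

lemma auxC (a b g c : ℕ) (D chi e : ℤ) (hD : D = chi - 1 * e) (hchi : chi = (a : ℤ) - b)
    (he : e = (c : ℤ) - g) (hc : c = 1) (hb : b = g) (hpos : 0 < D) : 0 < a := by lia

lemma auxE (m g : ℕ) (D d : ℤ) (hD : D = 2 ^ m * d) (hd : 0 < d) (hm : 2 * g < 2 ^ m) :
    2 * (g : ℤ) - 1 ≤ D := by
  have h1 : (2 * g : ℤ) < 2 ^ m := by exact_mod_cast hm
  have h2 : (2 : ℤ) ^ m * 1 ≤ 2 ^ m * d := by
    apply mul_le_mul_of_nonneg_left _ (by positivity)
    lia
  lia

variable (H : Hyp.{u}) (HS : SnapperHyp.{u}) (V : VanHyp.{u})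
  (k : Type u) [Field k] (X : Scheme.{u}) [X.Over (Spec (CommRingCat.of k))]
  [IsIntegral X] [IsProper (X ↘ (Spec (CommRingCat.of k)))] (hdim : topologicalKrullDim X ≤ 1)
  (h0 : Module.finrank k (Coh.HH X (Coh.structureModule X) 0) = 1)

include H hdim in
/-- `h^1(L) ≤ g` for an invertible module with a nonzero section -/
theorem finrank_H1_le_genus {L : X.Modules} (hL : PicF.IsInvertible L) (hs : Nontrivial (Coh.HH X L 0)) :
    Module.finrank k (Coh.HH X L 1) ≤ Curv2.genus k X := by
  have : IsLocallyNoetherian X :=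
    LocallyOfFiniteType.isLocallyNoetherian (X ↘ (Spec (CommRingCat.of k)))
  have hO := isInvertible_structureModule X
  have hOc : Coh.IsCoh (Coh.structureModule X) := isCoh_of_isInvertible hO
  have hfin : Module.Finite k (Coh.HH X (Coh.structureModule X) 1) := H k X _ hOc 1
  obtain ⟨a, ha⟩ := exists_ne (0 : Coh.HH X L 0)
  have hsne : ofSection (h0Equiv L a) ≠ 0 := by
    intro h0'
    apply ha
    have h1 : sec (ofSection (h0Equiv L a)) = 0 := by
      rw [h0']
      change (0 : Coh.structureModule X ⟶ L).app ⊤ _ = 0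
      rw [Scheme.Modules.Hom.zero_app]
      rfl
    rw [sec_ofSection] at h1
    exact (h0Equiv L).map_eq_zero_iff.mp h1
  have hsurj : Function.Surjective (mapₗ k (ofSection (h0Equiv L a)) 1) :=
    map_one_surjective_of_ne_zero hdim hO hL _ hsne
  exact LinearMap.finrank_le_finrank_of_surjective hsurj

include H hdim in
/-- the doubling step: `h^1(M) = g` and `deg M > 0` imply `h^1(M ⊗ M) = g` -/
theorem finrank_H1_tensor_self_of_eq_genus {M : X.Modules} (hM : PicF.IsInvertible M)
    (hs : Nontrivial (Coh.HH X M 0))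
    (h1 : Module.finrank k (Coh.HH X M 1) = Curv2.genus k X) :
    Module.finrank k (Coh.HH X (tensorMod M M) 1) = Curv2.genus k X := by
  have : IsLocallyNoetherian X :=
    LocallyOfFiniteType.isLocallyNoetherian (X ↘ (Spec (CommRingCat.of k)))
  have hO := isInvertible_structureModule X
  have hOc : Coh.IsCoh (Coh.structureModule X) := isCoh_of_isInvertible hO
  have hMc : Coh.IsCoh M := isCoh_of_isInvertible hM
  have hOq : (Coh.structureModule X).IsQuasicoherent := hOc.1
  obtain ⟨a, ha⟩ := exists_ne (0 : Coh.HH X M 0)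
  obtain ⟨s, hsdef⟩ : ∃ s : Coh.structureModule X ⟶ M, s = ofSection (h0Equiv M a) := ⟨_, rfl⟩
  have hsne : s ≠ 0 := by
    intro h0'
    apply ha
    have h1 : sec (ofSection (h0Equiv M a)) = 0 := by
      rw [← hsdef, h0']
      change (0 : Coh.structureModule X ⟶ M).app ⊤ _ = 0
      rw [Scheme.Modules.Hom.zero_app]
      rfl
    rw [sec_ofSection] at h1
    exact (h0Equiv M).map_eq_zero_iff.mp h1
  have hQ : Coh.IsCoh (cokernel s) := Groth.Agent.Lib.H90OXModExact.isCoh_cokernel s hMc
  have hcl := isClosed_singleton_of_mem_support_cokernel hO hM s hdim hsne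
  have hmono : Mono s := mono_of_ne_zero hO hM s hsne
  have hS : (ShortComplex.mk s (cokernel.π s) (cokernel.condition s)).ShortExact :=
    { exact := ShortComplex.exact_cokernel s }
  have hQ1 : Subsingleton (Coh.HH X (cokernel s) 1) :=
    Groth.Agent.S0047.result X _ hQ hcl 1 Nat.one_pos
  have hf1 : Module.Finite k (Coh.HH X (Coh.structureModule X) 1) := H k X _ hOc 1
  have hf2 : Module.Finite k (Coh.HH X M 1) := H k X _ hMc 1
  have hg : Module.finrank k (Coh.HH X (Coh.structureModule X) 1) = Module.finrank k (Coh.HH X M 1) :=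
    h1.symm
  have hsurj : Function.Surjective (map (cokernel.π s) 0) :=
    map_g_zero_surjective_of_finrank_eq' k s (cokernel.π s) (cokernel.condition s) hS hQ1 hf1 hf2 hg
  exact (finrank_H1_tensor_self k hdim hM s hsne hsurj).trans h1

lemma auxF (D D' d : ℤ) (m : ℕ) (h1 : D' = D + D) (h2 : D = 2 ^ m * d) : D' = 2 ^ (m + 1) * d := by
  rw [h1, h2]; ring

lemma auxG (D d : ℤ) (m : ℕ) (h2 : D = 2 ^ m * d) (hd : 0 < d) : 0 < D := by
  rw [h2]; positivity

include H HS V hdim h0 in
/-- the `2^m`-th tensor powers of `L` all have `h^1 = g` -/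
theorem exists_pow_finrank_H1_eq_genus {L : X.Modules} (hL : PicF.IsInvertible L)
    (h1 : Module.finrank k (Coh.HH X L 1) = Curv2.genus k X) (hdeg : 0 < Curv2.deg k X L 1) (m : ℕ) :
    ∃ M : X.Modules, PicF.IsInvertible M ∧ Curv2.deg k X M 1 = 2 ^ m * Curv2.deg k X L 1 ∧
      Module.finrank k (Coh.HH X M 1) = Curv2.genus k X := by
  induction m with
  | zero => exact ⟨L, hL, by simp, h1⟩
  | succ m ih =>
    obtain ⟨M, hM, hdM, h1M⟩ := ih
    have hMc : Coh.IsCoh M := isCoh_of_isInvertible hM
    have hMq : M.IsQuasicoherent := hMc.1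
    have hOq : (Coh.structureModule X).IsQuasicoherent :=
      (isCoh_of_isInvertible (isInvertible_structureModule X)).1
    have hpos : 0 < Curv2.deg k X M 1 := auxG _ _ _ hdM hdeg
    have hD : Curv2.deg k X M 1 =
        Curv2.euler k X M - ((1 : ℕ) : ℤ) * Curv2.euler k X (Coh.structureModule X) := rfl
    rw [Nat.cast_one] at hD
    have ha : 0 < Module.finrank k (Coh.HH X M 0) :=
      auxC _ _ _ _ _ _ _ hD (Groth.Agent.Lib.RiemannRoch54.euler_eq_sub k X hdim M)
        (Groth.Agent.Lib.RiemannRoch54.euler_eq_sub k X hdim _) h0 h1M hpos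
    have hnt : Nontrivial (Coh.HH X M 0) := Module.nontrivial_of_finrank_pos ha
    refine ⟨tensorMod M M, Groth.Agent.Lib.H78TensorGen.isInvertible_tensorMod hM hM, ?_,
      finrank_H1_tensor_self_of_eq_genus H k X hdim hM hnt h1M⟩
    exact auxF _ _ _ _ (Groth.Agent.Lib.DegTensor54.deg_tensorMod HS V k hdim hM hM) hdM

include H HS V hdim h0 in
/-- **equality in `r ≤ d` forces genus zero**: `h^1(L) = g` and `deg L > 0` imply `g = 0` -/
theorem genus_eq_zero_of_finrank_H1_eq {L : X.Modules} (hL : PicF.IsInvertible L)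
    (h1 : Module.finrank k (Coh.HH X L 1) = Curv2.genus k X) (hdeg : 0 < Curv2.deg k X L 1) :
    Curv2.genus k X = 0 := by
  obtain ⟨M, hM, hdM, h1M⟩ :=
    exists_pow_finrank_H1_eq_genus H HS V k X hdim h0 hL h1 hdeg (2 * Curv2.genus k X + 1)
  have hm : 2 * Curv2.genus k X < 2 ^ (2 * Curv2.genus k X + 1) :=
    lt_trans (Nat.lt_succ_self _) Nat.lt_two_pow_self
  have hsub : Subsingleton (Coh.HH X M 1) :=
    subsingleton_H1_of_deg_ge H k X hdim hM h0 (auxE _ _ _ _ hdM hdeg hm)
  rw [← h1M]
  exact Module.finrank_zero_of_subsingleton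

include H HS V in
/-- **`r ≤ d` for linear series**, with equality for `d ≥ 1` only in genus zero (= S1564) -/
theorem finrank_H0_le_deg_add_one (hdim1 : topologicalKrullDim X = 1)
    (h0 : Module.finrank k (Coh.HH X (Coh.structureModule X) 0) = 1)
    (L : X.Modules) (hL : PicF.IsInvertible L) (hs : Nontrivial (Coh.HH X L 0)) :
    (Module.finrank k (Coh.HH X L 0) : ℤ) ≤ Curv2.deg k X L 1 + 1 ∧
      ((Module.finrank k (Coh.HH X L 0) : ℤ) = Curv2.deg k X L 1 + 1 → 0 < Curv2.deg k X L 1 →
        Curv2.genus k X = 0) := by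
  have hd : topologicalKrullDim X ≤ 1 := hdim1.le
  have hLq : L.IsQuasicoherent := (isCoh_of_isInvertible hL).1
  have hOq : (Coh.structureModule X).IsQuasicoherent :=
    (isCoh_of_isInvertible (isInvertible_structureModule X)).1
  have hD : Curv2.deg k X L 1 =
      Curv2.euler k X L - ((1 : ℕ) : ℤ) * Curv2.euler k X (Coh.structureModule X) := rfl
  rw [Nat.cast_one] at hD
  have hb := finrank_H1_le_genus H k X hd hL hs
  have e1 := Groth.Agent.Lib.RiemannRoch54.euler_eq_sub k X hd L
  have e2 := Groth.Agent.Lib.RiemannRoch54.euler_eq_sub k X hd (Coh.structureModule X)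
  refine ⟨auxA _ _ _ _ _ _ _ hD e1 e2 h0 hb, fun heq hpos => ?_⟩
  have h1 : Module.finrank k (Coh.HH X L 1) = Curv2.genus k X := auxB _ _ _ _ _ _ _ hD e1 e2 h0 heq
  exact genus_eq_zero_of_finrank_H1_eq H HS V k X hd h0 hL h1 hpos

end Main

end Groth.Agent.Lib.CurveLinSeries54
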