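import Groth.Agent.Lib.CurveVB67K
import Groth.Agent.Lib.DegTensor54
import Groth.Agent.Lib.H78Dual
import Groth.Agent.Lib.TwistEquiv
import Groth.Agent.Lib.RegularDimOne
import Groth.Agent.Lib.RegularLocal

/-!
# Vector bundles on curves, part L (helper67; campaign K6): normalized bundles

Namespace `Groth.Agent.Lib.CurveVB67`.  `H : ProperFinHyp.Hyp` is the statement of S0002, `HS : SnapperHyp` is S3230,
`V : VanHyp` is S0458.

* `hpid_of_regular` : regular local rings on a scheme of dimension `≤ 1` are principal ideal rings.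
* `nontrivial_H0_of_hom_ne_zero` : a nonzero `O_X ⟶ F` gives `H⁰(F) ≠ 0`.
* `deg_le_zero_of_mono_of_normalized` : if `H⁰(E ⊗ M) = 0` for all invertible `M` of negative degree then every
  invertible submodule of `E` has degree `≤ 0`.
* `isIso_of_mono_of_deg_le_zero` : `O_X ↪ L` with `L` invertible of degree `≤ 0` is an isomorphism.
-/

set_option autoImplicit false
universe u
open CategoryTheory CategoryTheory.Limits AlgebraicGeometry

namespace Groth.Agent.Lib.CurveVB67

open Groth.Agent.Lib.ModStalkLin Groth.Agent.Lib.ProperFinHyp Groth.Agent.Lib.CohLES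
open Groth.Agent.Lib.OXModTensor Groth.Agent.Lib.TwistEquiv

theorem hpid_of_regular (X : Scheme.{u}) (hdim : topologicalKrullDim X ≤ 1)
    (hreg : ∀ x : X, IsRegularLocalRing (X.presheaf.stalk x)) (x : X) :
    IsPrincipalIdealRing (X.presheaf.stalk x) := by
  have := hreg x
  have := Groth.Agent.Lib.RegularLocal.isDomain (X.presheaf.stalk x)
  exact Groth.Agent.Lib.RegularDimOne.isPrincipalIdealRing_of_regular_of_dim_le_one _
    ((Groth.Agent.Lib.RegularDimOne.dim_stalk_le X x).trans hdim)

theorem nontrivial_H0_of_hom_ne_zero {X : Scheme.{u}} {F : X.Modules} (t : Coh.structureModule X ⟶ F)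
    (ht : t ≠ 0) : Nontrivial (Coh.HH X F 0) := by
  refine ⟨(Groth.Agent.Lib.H4Twist.h0Equiv F).symm (Groth.Agent.Lib.FreeModSch.toSection t), 0, fun h => ht ?_⟩
  have h1 : Groth.Agent.Lib.FreeModSch.toSection t = 0 := by
    have := congrArg (Groth.Agent.Lib.H4Twist.h0Equiv F) h
    rwa [AddEquiv.apply_symm_apply, map_zero] at this
  apply Groth.Agent.Lib.FreeModSch.unit_hom_ext
  rw [h1, toSection_zero]

variable (H : Hyp.{u}) (HS : Groth.Agent.Lib.IntNumAlg13.SnapperHyp.{u}) (V : Groth.Agent.Lib.EulerLE48.VanHyp.{u})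
  (k : Type u) [Field k] (X : Scheme.{u}) [X.Over (Spec (CommRingCat.of k))]
  [IsProper (X ↘ (Spec (CommRingCat.of k)))] [IsIntegral X]

include HS V in
/-- if `H⁰(E ⊗ M) = 0` for every invertible `M` of negative degree, the invertible submodules of `E` have degree `≤ 0` -/
theorem deg_le_zero_of_mono_of_normalized (hdim : topologicalKrullDim X ≤ 1) {E L : X.Modules}
    (hneg : ∀ M : X.Modules, PicF.IsInvertible M → Curv2.deg k X M 1 < 0 →
      Subsingleton (Coh.HH X (CohB1.tensorMod E M) 0))
    (hL : PicF.IsInvertible L) (g : L ⟶ E) [Mono g] : Curv2.deg k X L 1 ≤ 0 := by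
  by_contra hcon
  obtain ⟨M, hM, ⟨e⟩⟩ := Groth.Agent.Lib.H78Dual.exists_tensor_inverse hL
  have hdM := Groth.Agent.Lib.DegTensor54.deg_eq_neg_of_iso HS V k hdim hM hL e
  have hsub := hneg M hM (by lia)
  have := isEquivalence_tensorRightFunctor e
  have hmono : Mono ((tensorRightFunctor M).map g) := inferInstance
  let t : Coh.structureModule X ⟶ CohB1.tensorMod E M :=
    e.inv ≫ (braiding M L).hom ≫ (tensorRightFunctor M).map g
  have hm2 : Mono ((braiding M L).hom ≫ (tensorRightFunctor M).map g) :=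
    @mono_comp _ _ _ _ _ (braiding M L).hom inferInstance ((tensorRightFunctor M).map g) hmono
  have htm : Mono t := @mono_comp _ _ _ _ _ e.inv inferInstance _ hm2
  have ht : t ≠ 0 := by
    intro h0
    have hz : IsZero (Coh.structureModule X) := IsZero.of_mono_eq_zero t h0
    exact not_isZero_of_rank_pos X (isFinLocFreeOfRank_one_structureModule X) Nat.one_pos hz
  have := nontrivial_H0_of_hom_ne_zero t ht
  exact not_subsingleton _ hsub

include H in
/-- `O_X ↪ L` with `L` invertible of degree `≤ 0` is an isomorphism -/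
theorem isIso_of_mono_of_deg_le_zero (hdim : topologicalKrullDim X ≤ 1) {L : X.Modules}
    (hL : FlatMod.IsFinLocFreeOfRank 1 L) (j : Coh.structureModule X ⟶ L) [Mono j]
    (hd : Curv2.deg k X L 1 ≤ 0) : IsIso j := by
  have hO1 := isFinLocFreeOfRank_one_structureModule X
  refine isIso_of_deg_le H k X hdim j (isCoh_of_rank hO1) (isCoh_of_rank hL) ?_ 1 ?_
  · rw [← eq_rk_of_isFinLocFreeOfRank hO1, ← eq_rk_of_isFinLocFreeOfRank hL]
  · rw [deg_structureModule k X]; exact hd

end Groth.Agent.Lib.CurveVB67
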