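import Groth.Agent.Lib.PoleSep42
import Groth.Agent.Lib.H78GlobGen
import Groth.Agent.Lib.CodimOne13e
import Groth.Agent.Lib.DimOneTop42
import Groth.Agent.Lib.RegularDimOne

/-!
# helper42: ample invertible modules on Noetherian separated schemes of dimension one
(namespace `Groth.Agent.Lib.PoleGlue42`)

* `exists_bpf_of_poles`: from a function `a` on `U` with strong poles at the points outside `U`, an invertible
  module `L` generated by two global sections `σ`, `τ'` with `X_σ = U`.
* `exists_isAmple_of_cover'`: `H78GlobGen.exists_isAmple_of_cover` with base point freeness as hypothesis.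
* `exists_isAmple_of_dim_le_one`: a Noetherian separated scheme of dimension `≤ 1` has an ample invertible module.
-/

set_option autoImplicit false
universe u

open CategoryTheory CategoryTheory.Limits AlgebraicGeometry TopologicalSpace Opposite
open Groth.Agent.Lib.H90Invertible Groth.Agent.Lib.H78TensorGen Groth.Agent.Lib.H78SecCoord
open Groth.Agent.Lib.H78Atlas Groth.Agent.Lib.InvGlue42 Groth.Agent.Lib.H78PullSec
open Groth.Agent.Lib.FinModifPic42 Groth.Agent.Lib.StarDescent42 Groth.Agent.Lib.H78GlobGen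

namespace Groth.Agent.Lib.PoleGlue42

variable {X : Scheme.{u}}

/-- **gluing**: a function with strong poles outside `U` produces a base point free invertible module with a
section whose non-vanishing locus is `U`. -/
theorem exists_bpf_of_poles (U : X.Opens) (a : Γ(X, U))
    (h : ∀ x : X, x ∉ U → ∃ (W : X.Opens) (g : Γ(X, W)), x ∈ W ∧ (∀ z ∈ W, z ∉ U → z = x) ∧
      x ∉ X.basicOpen g ∧ rf (inf_le_left : U ⊓ W ≤ U) a * rf (inf_le_right : U ⊓ W ≤ W) g = 1) :
    ∃ (L : X.Modules) (s : Coh.structureModule X ⟶ L), PicF.IsInvertible L ∧ IsBpf L ∧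
      CohB1.genLocus L s = U := by
  classical
  let T := {x : X // x ∉ U}
  have hex : ∀ x : T, ∃ (W : X.Opens) (g : Γ(X, W)), x.1 ∈ W ∧ (∀ z ∈ W, z ∉ U → z = x.1) ∧
      x.1 ∉ X.basicOpen g ∧ rf (inf_le_left : U ⊓ W ≤ U) a * rf (inf_le_right : U ⊓ W ≤ W) g = 1 :=
    fun x => h x.1 x.2
  choose W g hxW hWsep hxg hag using hex
  let Wc : Option T → X.Opens := fun i => match i with
    | none => U
    | some x => W x
  let b : ∀ i, Γ(X, U ⊓ Wc i) := fun i => match i with
    | none => 1
    | some x => rf (inf_le_left : U ⊓ W x ≤ U) a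
  let binv : ∀ i, Γ(X, U ⊓ Wc i) := fun i => match i with
    | none => 1
    | some x => rf (inf_le_right : U ⊓ W x ≤ W x) (g x)
  have hb : ∀ i, b i * binv i = 1 := fun i => by
    match i with
    | none => exact mul_one 1
    | some x => exact hag x
  have hpair : ∀ i j, i ≠ j → Wc i ⊓ Wc j ≤ U := by
    intro i j hij
    match i, j with
    | none, none => exact absurd rfl hij
    | none, some x => exact inf_le_left
    | some x, none => exact inf_le_right
    | some x, some y =>
      intro z hz
      by_contra hzU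
      have h1 := hWsep x z hz.1 hzU
      have h2 := hWsep y z hz.2 hzU
      exact hij (congrArg some (Subtype.ext (h1.symm.trans h2)))
  have hc := etaS_cocycle U Wc hpair b binv hb
  have h1 := etaS_self U Wc b binv hb
  have hcov : ⨆ i, Wc i = ⊤ := by
    rw [eq_top_iff]
    intro z _
    by_cases hz : z ∈ U
    · exact Opens.mem_iSup.mpr ⟨none, hz⟩
    · exact Opens.mem_iSup.mpr ⟨some ⟨z, hz⟩, hxW ⟨z, hz⟩⟩
  let N : X.Modules := glue Wc (etaS U Wc b binv)
  have hNinv : PicF.IsInvertible N := isInvertible_glue hc hcov h1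
  -- the transition function between `none` and `some x`
  have htrans : ∀ x : T, etaS U Wc b binv none (some x) = rf (inf_le_right : U ⊓ W x ≤ W x) (g x) := by
    intro x
    have h2 := rf_etaS U Wc hpair b binv hb none (some x) (G := Wc none ⊓ Wc (some x)) le_rfl inf_le_left
    rw [rf_self] at h2
    rw [h2]
    change rf _ (1 : Γ(X, U ⊓ U)) * rf _ (rf (inf_le_right : U ⊓ W x ≤ W x) (g x)) = _
    rw [rf_one, one_mul, rf_rf]
  -- on `G ≤ U ⊓ W x`: `gen none = g x • gen (some x)`
  have hgen : ∀ (x : T) (G : X.Opens) (hGW : G ≤ W x) (hGU : G ≤ U),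
      rs N (show G ≤ Wc none from hGU) (gen hc none) =
        rf hGW (g x) • rs N (show G ≤ Wc (some x) from hGW) (gen hc (some x)) := by
    intro x G hGW hGU
    have h0 := gen_transition hc none (some x)
    rw [htrans x] at h0
    have h4 := congrArg (rs N (le_inf hGU hGW : G ≤ Wc none ⊓ Wc (some x))) h0
    rw [rs_rs, rs_smul, rs_rs, rf_rf] at h4
    exact h4
  -- the first section
  let σ : ∀ i, Γ(N, Wc i) := fun i => match i with
    | none => gen hc none
    | some x => g x • gen hc (some x)
  have key : ∀ (i : Option T) (G : X.Opens) (hGW : G ≤ Wc i) (hGU : G ≤ U),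
      rs N hGW (σ i) = rs N (show G ≤ Wc none from hGU) (gen hc none) := by
    intro i G hGW hGU
    match i with
    | none => rfl
    | some x =>
      change rs N hGW (g x • gen hc (some x)) = _
      rw [rs_smul, hgen x G hGW hGU]
  obtain ⟨τ, hτ⟩ := sec_glue N Wc (fun i => le_top) (by rw [hcov]) σ (fun i j => by
    by_cases hij : i = j
    · subst hij
      rfl
    · rw [key i _ inf_le_left (hpair i j hij), key j _ inf_le_right (hpair i j hij)])
  -- the second section
  let σ' : ∀ i, Γ(N, Wc i) := fun i => match i with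
    | none => a • gen hc none
    | some x => gen hc (some x)
  have key' : ∀ (i : Option T) (G : X.Opens) (hGW : G ≤ Wc i) (hGU : G ≤ U),
      rs N hGW (σ' i) = rf hGU a • rs N (show G ≤ Wc none from hGU) (gen hc none) := by
    intro i G hGW hGU
    match i with
    | none => exact rs_smul N hGW a (gen hc none)
    | some x =>
      change rs N hGW (gen hc (some x)) = _
      rw [hgen x G hGW hGU, smul_smul]
      have h5 := congrArg (rf (le_inf hGU hGW : G ≤ U ⊓ W x)) (hag x)
      rw [rf_mul, rf_rf, rf_rf, rf_one] at h5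
      rw [h5, one_smul]
  obtain ⟨τ', hτ'⟩ := sec_glue N Wc (fun i => le_top) (by rw [hcov]) σ' (fun i j => by
    by_cases hij : i = j
    · subst hij
      rfl
    · rw [key' i _ inf_le_left (hpair i j hij), key' j _ inf_le_right (hpair i j hij)])
  have hsec : sec (ofSection τ) = τ := sec_ofSection τ
  have hsec' : sec (ofSection τ') = τ' := sec_ofSection τ'
  -- the non-vanishing locus of `τ` is `U`
  have hlocus : CohB1.genLocus N (ofSection τ) = U := by
    ext z
    constructor
    · intro hz
      by_contra hzU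
      have h5 := genLocus_inf_eq (isGen_gen hc h1 (some ⟨z, hzU⟩)) (ofSection τ)
      rw [hsec, hτ (some ⟨z, hzU⟩)] at h5
      have h6 : coord (isGen_gen hc h1 (some ⟨z, hzU⟩)) le_rfl (σ (some ⟨z, hzU⟩)) = g ⟨z, hzU⟩ := by
        refine (coord_unique (isGen_gen hc h1 (some ⟨z, hzU⟩)) le_rfl ?_).symm
        rw [rs_self]
      rw [h6] at h5
      have h7 : z ∈ CohB1.genLocus N (ofSection τ) ⊓ W ⟨z, hzU⟩ := ⟨hz, hxW ⟨z, hzU⟩⟩
      rw [h5] at h7
      exact hxg ⟨z, hzU⟩ h7
    · intro hz
      have h5 := genLocus_inf_eq (isGen_gen hc h1 none) (ofSection τ)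
      rw [hsec, hτ none] at h5
      have h6 : coord (isGen_gen hc h1 none) le_rfl (σ none) = 1 := by
        refine (coord_unique (isGen_gen hc h1 none) le_rfl ?_).symm
        rw [rs_self, one_smul]
      rw [h6] at h5
      have h7 : z ∈ X.basicOpen (1 : Γ(X, U)) := by
        rw [Scheme.basicOpen_of_isUnit X isUnit_one]
        exact hz
      rw [← h5] at h7
      exact h7.1
  refine ⟨N, ofSection τ, hNinv, fun z => ?_, hlocus⟩
  by_cases hzU : z ∈ U
  · exact ⟨τ, hlocus ▸ hzU⟩
  · refine ⟨τ', ?_⟩
    have h5 := genLocus_inf_eq (isGen_gen hc h1 (some ⟨z, hzU⟩)) (ofSection τ')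
    rw [hsec', hτ' (some ⟨z, hzU⟩)] at h5
    have h6 : coord (isGen_gen hc h1 (some ⟨z, hzU⟩)) le_rfl (σ' (some ⟨z, hzU⟩)) = 1 := by
      refine (coord_unique (isGen_gen hc h1 (some ⟨z, hzU⟩)) le_rfl ?_).symm
      rw [rs_self, one_smul]
    rw [h6] at h5
    have h7 : z ∈ X.basicOpen (1 : Γ(X, W ⟨z, hzU⟩)) := by
      rw [Scheme.basicOpen_of_isUnit X isUnit_one]
      exact hxW ⟨z, hzU⟩
    rw [← h5] at h7
    exact h7.1

/-- `H78GlobGen.exists_isAmple_of_cover` with base point freeness in terms of sections -/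
theorem exists_isAmple_of_cover' [CompactSpace X]
    (h : ∀ x : X, ∃ (L : X.Modules) (s : Coh.structureModule X ⟶ L), PicF.IsInvertible L ∧
      IsBpf L ∧ x ∈ CohB1.genLocus L s ∧ IsAffineOpen (CohB1.genLocus L s)) :
    ∃ M : X.Modules, CohB1.IsAmple M := by
  choose L s hinv hgg hx haff using h
  obtain ⟨t, ht⟩ := isCompact_univ.elim_finite_subcover (fun y => (CohB1.genLocus (L y) (s y) : Set X))
    (fun y => (CohB1.genLocus (L y) (s y)).2) (fun x _ => Set.mem_iUnion.2 ⟨x, hx x⟩)
  have key : ∀ l : List X, ∃ M : X.Modules, PicF.IsInvertible M ∧ IsBpf M ∧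
      ∀ x, (∃ y ∈ l, x ∈ CohB1.genLocus (L y) (s y)) → HasAffSec M x := by
    intro l
    induction l with
    | nil =>
      exact ⟨Coh.structureModule X, H78AmpleUnit.isInvertible_unit X, isBpf_unit X, by simp⟩
    | cons y l ih =>
      obtain ⟨M, hM, hbpf, hM2⟩ := ih
      have hbpfy := hgg y
      refine ⟨CohB1.tensorMod (L y) M, isInvertible_tensorMod (hinv y) hM,
        hbpfy.tensorMod (hinv y) hM hbpf, ?_⟩
      rintro x ⟨z, hz, hxz⟩
      rcases List.mem_cons.1 hz with rfl | hz'
      · refine HasAffSec.tensorMod_left (hinv z) hM ⟨sec (s z), ?_, ?_⟩ hbpf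
        · rw [ofSection_sec]; exact hxz
        · rw [ofSection_sec]; exact haff z
      · exact HasAffSec.tensorMod_right (hinv y) hM hbpfy (hM2 x ⟨z, hz', hxz⟩)
  obtain ⟨M, hM, -, hM2⟩ := key t.toList
  refine ⟨M, isAmple_of_hasAffSec hM (fun x => hM2 x ?_)⟩
  obtain ⟨y, hy, hxy⟩ := Set.mem_iUnion₂.1 (ht (Set.mem_univ x))
  exact ⟨y, Finset.mem_toList.2 hy, hxy⟩

/-- **a Noetherian separated scheme of dimension at most one has an ample invertible module** -/
theorem exists_isAmple_of_dim_le_one (X : Scheme.{u}) [IsNoetherian X] [X.IsSeparated]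
    (hdim : topologicalKrullDim X ≤ 1) : ∃ L : X.Modules, CohB1.IsAmple L := by
  classical
  have hirr : (irreducibleComponents X).Finite := NoetherianSpace.finite_irreducibleComponents
  have hgen : (genericPoints X).Finite := genericPoints.finite hirr
  have hstalk : ∀ x : X, IsNoetherianRing (X.presheaf.stalk x) ∧ ringKrullDim (X.presheaf.stalk x) ≤ 1 :=
    fun x => ⟨inferInstance, (Groth.Agent.Lib.RegularDimOne.dim_stalk_le X x).trans hdim⟩
  apply exists_isAmple_of_cover'
  intro x
  obtain ⟨U, hU, hsU⟩ := Groth.Agent.Lib.CodimOne13.exists_isAffineOpen_of_finite_irreducibleComponents hirr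
    (insert x hgen.toFinset) (fun y _ => hstalk y)
  have hxU : x ∈ U := hsU x (Finset.mem_insert_self _ _)
  have hgU : ∀ y ∈ genericPoints X, y ∈ U := fun y hy =>
    hsU y (Finset.mem_insert_of_mem (hgen.mem_toFinset.2 hy))
  have hng : ∀ y, y ∉ U → y ∉ genericPoints X := fun y hy hy' => hy (hgU y hy')
  have hfin : ((U : Set X)ᶜ).Finite := by
    have := Groth.Agent.Lib.DimOneTop42.finite_of_disjoint_genericPoints hdim ((U : Set X)ᶜ) Set.univ
      U.2.isClosed_compl isOpen_univ (fun y hy => hng y hy.1)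
    rwa [Set.inter_univ] at this
  have hdisc : DiscreteTopology ↥((U : Set X)ᶜ) := by
    have : Finite ↥((U : Set X)ᶜ) := hfin.to_subtype
    have : T1Space ↥((U : Set X)ᶜ) := ⟨fun y => by
      have h1 := Groth.Agent.Lib.DimOneTop42.isClosed_singleton_of_notMem_genericPoints hdim y.1 (hng y.1 y.2)
      have h2 : ({y} : Set ↥((U : Set X)ᶜ)) = Subtype.val ⁻¹' ({y.1} : Set X) := by
        ext z
        simp only [Set.mem_singleton_iff, Set.mem_preimage]
        exact ⟨fun h => congrArg Subtype.val h, fun h => Subtype.ext h⟩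
      rw [h2]
      exact h1.preimage continuous_subtype_val⟩
    infer_instance
  have : CompactSpace (U : Scheme.{u}) := isCompact_iff_compactSpace.mp (NoetherianSpace.isCompact (U : Set X))
  have : QuasiCompact U.ι := inferInstance
  obtain ⟨a, ha⟩ := Groth.Agent.Lib.PoleSep42.exists_pole_function hU hfin hdisc (fun y _ => (hstalk y).2)
  obtain ⟨L, s, hL, hbpf, hloc⟩ := exists_bpf_of_poles U a ha
  exact ⟨L, s, hL, hbpf, hloc ▸ hxU, hloc ▸ hU⟩

end Groth.Agent.Lib.PoleGlue42
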