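import Groth.Agent.Lib.CurvePoint54
import Groth.Agent.Lib.CurveLinSeries54
import Groth.Agent.Lib.HilbPoly48b
import Groth.Agent.Lib.PoleGlue42
import Groth.Agent.Lib.CurveVB67L

/-!
# Base points of invertible modules on curves (helper54)

Namespace `Groth.Agent.Lib.CurveBasePt54`.  `H : ProperFinHyp.Hyp` (= S0002), `HS : SnapperHyp` (= S3230), `V : VanHyp` (= S0458).
Setting: `X` proper over a field `k`, `dim X ≤ 1`; for the point statements `k` algebraically closed.

* `euler_eq_finrank_of_support_subset`, `finrank_H0_tensorMod_of_support_subset`: for `F` coherent supported at a closed point,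
  `χ(F) = h^0(F)` and `h^0(F ⊗ L) = h^0(F)` for `L` invertible.
* `nontrivial_H0_of_support_subset`: a nonzero coherent module supported at a closed point has a nonzero global section.
* `finrank_H0_quotMod_point_tensor`: `h^0(O_p ⊗ L) = 1`;  `finrank_H0_le_idealMod_tensor_succ`: `h^0(L) ≤ h^0(I_p ⊗ L) + 1`.
* `comp_toSubscheme_eq_zero` (**base points**): a section `s` of `L` killed by an epimorphism `q : L → Q` with `p ∈ Supp Q`
  vanishes at `p`, i.e. `O → O ⊗ L → O_p ⊗ L` is zero;  `exists_lift_of_mem_support`: such a section lifts to `I_p ⊗ L`.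
* `finrank_H0_idealMod_tensor_eq_one`: if `h^0(L) = 1` and the section vanishes at `p` then `h^0(I_p ⊗ L) = 1`.
-/

set_option autoImplicit false
set_option linter.style.haveILetI false
universe u
open CategoryTheory CategoryTheory.Limits AlgebraicGeometry Opposite TopologicalSpace

namespace Groth.Agent.Lib.CurveBasePt54

open Groth.Agent.Lib.ProperFinHyp Groth.Agent.Lib.H90Invertible Groth.Agent.Lib.CohLES
open Groth.Agent.Lib.H78SecCoord Groth.Agent.Lib.StructureModule
open Groth.Agent.Lib.OXModTensor Groth.Agent.Lib.CurveH1Van54 Groth.Agent.Lib.CurveSerreVan54 CohB1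
open Groth.Agent.Lib.TwistEquiv Groth.Agent.Lib.IdealMod Groth.Agent.Lib.CurveLinSeries54
open Groth.Agent.Lib.IntNumAlg13 Groth.Agent.Lib.EulerLE48 Groth.Agent.Lib.H4Twist
open Groth.Agent.Lib.GlobGenDescent Groth.Agent.Lib.EulerChar54

section Sky

variable (H : Hyp.{u}) (HS : SnapperHyp.{u}) (V : VanHyp.{u})
  (k : Type u) [Field k] (X : Scheme.{u}) [X.Over (Spec (CommRingCat.of k))]
  [IsProper (X ↘ Spec (CommRingCat.of k))] (hdim : topologicalKrullDim X ≤ 1)

omit [X.Over (Spec (CommRingCat.of k))] [IsProper (X ↘ Spec (CommRingCat.of k))] in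
theorem dim_le_zero_of_subset_singleton {S : Set X} (p : X) (h : S ⊆ {p}) : topologicalKrullDim S ≤ 0 :=
  (topologicalKrullDim_mono h).trans (topologicalKrullDim_zero_of_discreteTopology _)

include k in
/-- the Euler characteristic of a coherent module supported at a closed point is `h^0` -/
theorem euler_eq_finrank_of_support_subset {F : X.Modules} (hF : Coh.IsCoh F) (p : X)
    (hp : IsClosed ({p} : Set X)) (hsub : CohB1.support F ⊆ {p}) :
    Curv2.euler k X F = Module.finrank k (Coh.HH X F 0) := by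
  have : IsLocallyNoetherian X :=
    LocallyOfFiniteType.isLocallyNoetherian (X ↘ Spec (CommRingCat.of k))
  refine euler_eq_finrank_zero k X _ fun i hi => ?_
  refine Groth.Agent.S0047.result X _ hF (fun x hx => ?_) i hi
  rw [Set.mem_singleton_iff.mp (hsub hx)]
  exact hp

include HS V hdim in
/-- twisting by an invertible module does not change `h^0` of a module supported at a closed point -/
theorem finrank_H0_tensorMod_of_support_subset {F L : X.Modules} (hF : Coh.IsCoh F) (hL : PicF.IsInvertible L)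
    (p : X) (hp : IsClosed ({p} : Set X)) (hsub : CohB1.support F ⊆ {p}) :
    Module.finrank k (Coh.HH X (tensorMod F L) 0) = Module.finrank k (Coh.HH X F 0) := by
  have hLc : Coh.IsCoh L := isCoh_of_isInvertible hL
  have hFL : Coh.IsCoh (tensorMod F L) := Groth.Agent.Lib.CohFinAmple.isCoh_tensorMod hF hLc
  have i1 : F.IsQuasicoherent := hF.1
  have i2 : F.IsFiniteType := hF.2
  have i3 : L.IsQuasicoherent := hLc.1
  have i4 : L.IsFiniteType := hLc.2
  have hsub' : CohB1.support (tensorMod F L) ⊆ {p} := by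
    rw [Groth.Agent.Lib.SupportTensor.support_tensorMod]
    exact fun x hx => hsub hx.1
  have e1 := euler_eq_finrank_of_support_subset k X hF p hp hsub
  have e2 := euler_eq_finrank_of_support_subset k X hFL p hp hsub'
  have e3 := Groth.Agent.Lib.DegTensor54.euler_tensorMod_of_support_dim_le_zero' HS V k 1
    (by simpa using hdim) hL hF (dim_le_zero_of_subset_singleton X p hsub)
  have : (Module.finrank k (Coh.HH X (tensorMod F L) 0) : ℤ) = Module.finrank k (Coh.HH X F 0) := by
    rw [← e1, ← e2, e3]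
  exact_mod_cast this

include H HS V k hdim in
/-- a nonzero coherent module supported at a closed point has a nonzero global section -/
theorem nontrivial_H0_of_support_subset {F : X.Modules} (hF : Coh.IsCoh F) (h0 : ¬ IsZero F) (p : X)
    (hp : IsClosed ({p} : Set X)) (hsub : CohB1.support F ⊆ {p}) : Nontrivial (Coh.HH X F 0) := by
  have : IsLocallyNoetherian X :=
    LocallyOfFiniteType.isLocallyNoetherian (X ↘ Spec (CommRingCat.of k))
  haveI := Groth.Agent.Lib.CurveVB67.isNoetherian_of_proper k X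
  haveI : X.IsSeparated :=
    Groth.Agent.Lib.H90ProperFin.isSeparated_of_over_affine (X ↘ Spec (CommRingCat.of k))
  haveI := compactSpace_of_isProper k X
  obtain ⟨A, hA⟩ := Groth.Agent.Lib.PoleGlue42.exists_isAmple_of_dim_le_one X hdim
  obtain ⟨n₀, hn⟩ := Groth.Agent.Lib.H78GlobGen2.isGloballyGenerated_twist hA F hF
  have hg := hn n₀ le_rfl
  have hnz : ¬ IsZero (tensorMod F (tensorPow A n₀)) := Groth.Agent.Lib.HilbPoly48.not_isZero_twist hA.1 h0 n₀
  have hnt := Groth.Agent.Lib.HilbPoly48.nontrivial_H0_of_isGloballyGenerated hg hnz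
  have hAn : PicF.IsInvertible (tensorPow A n₀) := Groth.Agent.Lib.H78TensorGen.isInvertible_tensorPow hA.1 n₀
  have heq := finrank_H0_tensorMod_of_support_subset HS V k X hdim hF hAn p hp hsub
  have hfin : Module.Finite k (Coh.HH X (tensorMod F (tensorPow A n₀)) 0) :=
    H k X _ (Groth.Agent.Lib.CohFinAmple.isCoh_tensorMod hF (isCoh_of_isInvertible hAn)) 0
  have hpos : 0 < Module.finrank k (Coh.HH X (tensorMod F (tensorPow A n₀)) 0) := Module.finrank_pos
  rw [heq] at hpos
  exact Module.nontrivial_of_finrank_pos hpos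

end Sky

section Point

variable (H : Hyp.{u}) (HS : SnapperHyp.{u}) (V : VanHyp.{u})
  (k : Type u) [Field k] [IsAlgClosed k] (X : Scheme.{u}) [X.Over (Spec (CommRingCat.of k))]
  [IsIntegral X] [IsProper (X ↘ Spec (CommRingCat.of k))] (hdim : topologicalKrullDim X ≤ 1)
  {L : X.Modules} (hL : PicF.IsInvertible L) (p : X) (hp : IsClosed ({p} : Set X))

omit [IsAlgClosed k] [IsIntegral X] [IsProper (X ↘ Spec (CommRingCat.of k))] [X.Over (Spec (CommRingCat.of k))] in
theorem support_quotMod_point_subset :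
    CohB1.support (ClSub.quotMod (Scheme.IdealSheafData.vanishingIdeal (⟨{p}, hp⟩ : Closeds X))) ⊆ {p} := by
  refine (Groth.Agent.Lib.CurveIdeal54.support_quotMod_subset X _).trans ?_
  rw [Scheme.IdealSheafData.coe_support_vanishingIdeal]
  rfl

omit [IsIntegral X] in
include HS V hdim hL in
/-- `h^0(O_p ⊗ L) = 1` -/
theorem finrank_H0_quotMod_point_tensor :
    Module.finrank k (Coh.HH X ((tensorRightFunctor L).obj
      (ClSub.quotMod (Scheme.IdealSheafData.vanishingIdeal (⟨{p}, hp⟩ : Closeds X)))) 0) = 1 := by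
  have hQc := Groth.Agent.Lib.CurveIdeal54.isCoh_quotMod k X
    (Scheme.IdealSheafData.vanishingIdeal (⟨{p}, hp⟩ : Closeds X))
  have h1 := finrank_H0_tensorMod_of_support_subset HS V k X hdim hQc hL p hp
    (support_quotMod_point_subset X p hp)
  rw [Groth.Agent.Lib.PointDeg.finrank_H0_quotMod_point k X p hp] at h1
  exact h1

omit [IsAlgClosed k] [IsIntegral X] in
include H k in
/-- unbundled form of `CurveVB67.finrank_H0_le_add` -/
theorem finrank_H0_le_add' {A B C : X.Modules} (f : A ⟶ B) (g : B ⟶ C) (w : f ≫ g = 0)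
    (hS : (ShortComplex.mk f g w).ShortExact) (h₂ : Coh.IsCoh B) (h₃ : Coh.IsCoh C) :
    Module.finrank k (Coh.HH X B 0) ≤ Module.finrank k (Coh.HH X A 0) + Module.finrank k (Coh.HH X C 0) :=
  Groth.Agent.Lib.CurveVB67.finrank_H0_le_add H k X (ShortComplex.mk f g w) hS h₂ h₃

omit [IsAlgClosed k] [IsIntegral X] [IsProper (X ↘ Spec (CommRingCat.of k))] in
/-- `h^0` of a subobject (unbundled) -/
theorem finrank_H0_le_of_shortExact' {A B C : X.Modules} (f : A ⟶ B) (g : B ⟶ C) (w : f ≫ g = 0)
    (hS : (ShortComplex.mk f g w).ShortExact) (hfin : Module.Finite k (Coh.HH X B 0)) :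
    Module.finrank k (Coh.HH X A 0) ≤ Module.finrank k (Coh.HH X B 0) := by
  have hinj : Function.Injective (mapₗ k (ShortComplex.mk f g w).f 0) := map_f_injective_zero hS
  exact LinearMap.finrank_le_finrank_of_injective hinj

omit [IsIntegral X] in
include H HS V hdim hL in
/-- twisting down at a point drops `h^0` by at most one -/
theorem finrank_H0_le_idealMod_tensor_succ :
    Module.finrank k (Coh.HH X L 0) ≤ Module.finrank k (Coh.HH X (tensorMod (ClSub.idealMod
      (Scheme.IdealSheafData.vanishingIdeal (⟨{p}, hp⟩ : Closeds X))) L) 0) + 1 := by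
  obtain ⟨I, hI⟩ : ∃ I : X.IdealSheafData, I = Scheme.IdealSheafData.vanishingIdeal (⟨{p}, hp⟩ : Closeds X) :=
    ⟨_, rfl⟩
  have hq := finrank_H0_quotMod_point_tensor HS V k X hdim hL p hp
  rw [← hI] at hq ⊢
  obtain ⟨M, -, ⟨e₀⟩⟩ := Groth.Agent.Lib.H78Dual.exists_tensor_inverse hL
  obtain ⟨e', -⟩ : ∃ e : tensorMod L M ≅ Coh.structureModule X, True := ⟨braiding L M ≪≫ e₀, trivial⟩
  have hSL := shortExact_map_tensorRight e' (idealMod_shortExact I)
  have hLc : Coh.IsCoh L := isCoh_of_isInvertible hL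
  have hOc : Coh.IsCoh (Coh.structureModule X) := isCoh_of_isInvertible (isInvertible_structureModule X)
  have hQc : Coh.IsCoh (ClSub.quotMod I) := Groth.Agent.Lib.CurveIdeal54.isCoh_quotMod k X I
  have h2 : Coh.IsCoh ((tensorRightFunctor L).obj (Coh.structureModule X)) :=
    Groth.Agent.Lib.CohFinAmple.isCoh_tensorMod hOc hLc
  have h3 : Coh.IsCoh ((tensorRightFunctor L).obj (ClSub.quotMod I)) :=
    Groth.Agent.Lib.CohFinAmple.isCoh_tensorMod hQc hLc
  have hle := finrank_H0_le_add' H k X ((tensorRightFunctor L).map (ClSub.idealModι I))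
    ((tensorRightFunctor L).map (ClSub.toSubscheme I)) _ hSL h2 h3
  rw [hq] at hle
  have e2 : Coh.HH X ((tensorRightFunctor L).obj (Coh.structureModule X)) 0 ≃ₗ[k] Coh.HH X L 0 :=
    mapEquivₗ k (leftUnitor L) 0
  rw [← e2.finrank_eq]
  exact hle

end Point

section LinAlg

/-- a surjective linear map from a one dimensional space onto a nonzero space is injective -/
theorem injective_of_surjective_of_finrank_eq_one {k V W : Type*} [Field k] [AddCommGroup V] [Module k V]
    [AddCommGroup W] [Module k W] [Nontrivial W] (f : V →ₗ[k] W) (hf : Function.Surjective f)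
    (h1 : Module.finrank k V = 1) : Function.Injective f := by
  rw [← LinearMap.ker_eq_bot, LinearMap.ker_eq_bot']
  intro v hv
  by_contra hne
  obtain ⟨w, hw⟩ := exists_ne (0 : W)
  obtain ⟨v', rfl⟩ := hf w
  obtain ⟨c, rfl⟩ := (finrank_eq_one_iff_of_nonzero' v hne).mp h1 v'
  exact hw (by rw [LinearMap.map_smul, hv, smul_zero])

end LinAlg

section BasePoint

variable (H : Hyp.{u}) (HS : SnapperHyp.{u}) (V : VanHyp.{u})
  (k : Type u) [Field k] [IsAlgClosed k] (X : Scheme.{u}) [X.Over (Spec (CommRingCat.of k))]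
  [IsIntegral X] [IsProper (X ↘ Spec (CommRingCat.of k))] (hdim : topologicalKrullDim X ≤ 1)
  {L : X.Modules} (hL : PicF.IsInvertible L) (p : X) (hp : IsClosed ({p} : Set X))

omit [IsIntegral X] in
include H HS V k hdim hL in
/-- **base points**: if `s ≫ q = 0` for an epimorphism `q : L → Q` onto a coherent module with `p` in its support, then the
section `s` of `L` vanishes at `p`: the composite `O → O ⊗ L → O_p ⊗ L` is zero -/
theorem comp_toSubscheme_eq_zero {Q : X.Modules} (s : Coh.structureModule X ⟶ L) (q : L ⟶ Q) [Epi q]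
    (hsq : s ≫ q = 0) (hQ : Coh.IsCoh Q) (hpQ : p ∈ CohB1.support Q) :
    (s ≫ (leftUnitor L).inv : Coh.structureModule X ⟶ (tensorRightFunctor L).obj (Coh.structureModule X)) ≫
      (tensorRightFunctor L).map
        (ClSub.toSubscheme (Scheme.IdealSheafData.vanishingIdeal (⟨{p}, hp⟩ : Closeds X))) = 0 := by
  have : IsLocallyNoetherian X :=
    LocallyOfFiniteType.isLocallyNoetherian (X ↘ Spec (CommRingCat.of k))
  have hq1 := finrank_H0_quotMod_point_tensor HS V k X hdim hL p hp
  have hpO := Groth.Agent.Lib.CurvePoint54.mem_support_quotMod_point k X p hp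
  have hsubO := support_quotMod_point_subset X p hp
  obtain ⟨I, hI⟩ : ∃ I : X.IdealSheafData, I = Scheme.IdealSheafData.vanishingIdeal (⟨{p}, hp⟩ : Closeds X) :=
    ⟨_, rfl⟩
  rw [← hI] at hq1 hpO hsubO ⊢
  have hLc : Coh.IsCoh L := isCoh_of_isInvertible hL
  have hOpc : Coh.IsCoh (ClSub.quotMod I) := Groth.Agent.Lib.CurveIdeal54.isCoh_quotMod k X I
  have i1 : (ClSub.quotMod I).IsQuasicoherent := hOpc.1
  have i2 : (ClSub.quotMod I).IsFiniteType := hOpc.2
  have i3 : Q.IsQuasicoherent := hQ.1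
  have i4 : Q.IsFiniteType := hQ.2
  have i5 : L.IsQuasicoherent := hLc.1
  have i6 : L.IsFiniteType := hLc.2
  have hN : Coh.IsCoh ((tensorRightFunctor L).obj (ClSub.quotMod I)) :=
    Groth.Agent.Lib.CohFinAmple.isCoh_tensorMod hOpc hLc
  have hN'' : Coh.IsCoh ((tensorRightFunctor Q).obj (ClSub.quotMod I)) :=
    Groth.Agent.Lib.CohFinAmple.isCoh_tensorMod hOpc hQ
  have i7 : ((tensorRightFunctor Q).obj (ClSub.quotMod I)).IsQuasicoherent := hN''.1
  have hsubN : CohB1.support ((tensorRightFunctor L).obj (ClSub.quotMod I)) ⊆ {p} := by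
    change CohB1.support (tensorMod (ClSub.quotMod I) L) ⊆ {p}
    rw [Groth.Agent.Lib.SupportTensor.support_tensorMod]
    exact fun x hx => hsubO hx.1
  have hsubN'' : CohB1.support ((tensorRightFunctor Q).obj (ClSub.quotMod I)) ⊆ {p} := by
    change CohB1.support (tensorMod (ClSub.quotMod I) Q) ⊆ {p}
    rw [Groth.Agent.Lib.SupportTensor.support_tensorMod]
    exact fun x hx => hsubO hx.1
  have hpN'' : p ∈ CohB1.support ((tensorRightFunctor Q).obj (ClSub.quotMod I)) := by
    change p ∈ CohB1.support (tensorMod (ClSub.quotMod I) Q)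
    rw [Groth.Agent.Lib.SupportTensor.support_tensorMod]
    exact ⟨hpO, hpQ⟩
  have hN''nz : ¬ IsZero ((tensorRightFunctor Q).obj (ClSub.quotMod I)) := by
    intro hz
    apply hpN''
    have hz' : IsZero ((Groth.Agent.Lib.ModStalk.stalkFunctor p).obj ((tensorRightFunctor Q).obj (ClSub.quotMod I))) :=
      (Groth.Agent.Lib.ModStalk.stalkFunctor p).map_isZero hz
    exact AddCommGrpCat.subsingleton_of_isZero hz'
  -- the comparison map
  obtain ⟨b, hb⟩ : ∃ b : (tensorRightFunctor L).obj (ClSub.quotMod I) ⟶ (tensorRightFunctor Q).obj (ClSub.quotMod I),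
      b = (tensorRightNat q).app (ClSub.quotMod I) := ⟨_, rfl⟩
  have hbepi : Epi b := by
    rw [hb, tensorRightNat_app_eq]
    have hz0 : IsZero (cokernel q) := isZero_cokernel_of_epi q
    have hz1 : IsZero ((tensorLeftFunctor (ClSub.quotMod I)).obj (cokernel q)) :=
      (tensorLeftFunctor (ClSub.quotMod I)).map_isZero hz0
    have hz2 : IsZero (cokernel ((tensorLeftFunctor (ClSub.quotMod I)).map q)) :=
      hz1.of_iso (PreservesCokernel.iso (tensorLeftFunctor (ClSub.quotMod I)) q).symm
    exact Preadditive.epi_of_isZero_cokernel _ hz2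
  have hK : Coh.IsCoh (kernel b) := Groth.Agent.Lib.H90OXModExact.isCoh_kernel _ hN
  have hKcl : ∀ x ∈ CohB1.support (kernel b), IsClosed ({x} : Set X) := by
    intro x hx
    have hx' := hsubN (Groth.Agent.Lib.H90DevHub2.support_subset_of_mono (kernel.ι b) hx)
    rw [Set.mem_singleton_iff.mp hx']
    exact hp
  have h1 : Subsingleton (Coh.HH X (kernel b) (0 + 1)) := Groth.Agent.S0047.result X _ hK hKcl 1 Nat.one_pos
  have hz : IsZero (cokernel b) := isZero_cokernel_of_epi _
  have h0 : Subsingleton (Coh.HH X (cokernel b) 0) := by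
    refine subsingleton_of_forall_eq 0 fun x => ?_
    rw [← map_id _ 0 x, hz.eq_of_src (𝟙 _) 0, map_zero']
  have hsurj : Function.Surjective (map b 0) := map_surjective_of_kernel_cokernel b 0
  have hnt : Nontrivial (Coh.HH X ((tensorRightFunctor Q).obj (ClSub.quotMod I)) 0) :=
    nontrivial_H0_of_support_subset H HS V k X hdim hN'' hN''nz p hp hsubN''
  have hinj : Function.Injective (mapₗ k b 0) :=
    injective_of_surjective_of_finrank_eq_one (mapₗ k b 0) hsurj hq1
  -- the section
  obtain ⟨uL, huL⟩ : ∃ e : (tensorRightFunctor L).obj (Coh.structureModule X) ≅ L, e = leftUnitor L := ⟨_, rfl⟩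
  obtain ⟨uQ, huQ⟩ : ∃ e : (tensorRightFunctor Q).obj (Coh.structureModule X) ≅ Q, e = leftUnitor Q := ⟨_, rfl⟩
  suffices hmain : (s ≫ uL.inv) ≫ (tensorRightFunctor L).map (ClSub.toSubscheme I) = 0 by
    rw [huL] at hmain
    exact hmain
  obtain ⟨T, hT⟩ : ∃ T : (tensorRightFunctor L).obj (Coh.structureModule X) ⟶
      (tensorRightFunctor Q).obj (Coh.structureModule X), T = (tensorRightNat q).app (Coh.structureModule X) :=
    ⟨_, rfl⟩
  have hnat1 : (tensorRightFunctor L).map (ClSub.toSubscheme I) ≫ b = T ≫ (tensorRightFunctor Q).map (ClSub.toSubscheme I) := by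
    rw [hb, hT]
    exact (tensorRightNat q).naturality (ClSub.toSubscheme I)
  have hnat2 : T ≫ uQ.hom = uL.hom ≫ q := by
    rw [hT, huL, huQ]
    exact (locData X).leftUnitor_hom_nat q
  have hnat3 : uL.inv ≫ T = q ≫ uQ.inv := by
    rw [Iso.inv_comp_eq, ← Category.assoc, Iso.eq_comp_inv]
    exact hnat2
  have hstT : (s ≫ uL.inv) ≫ T = 0 := by
    rw [Category.assoc, hnat3, ← Category.assoc, hsq, zero_comp]
  obtain ⟨st, hst⟩ : ∃ st : Coh.structureModule X ⟶ (tensorRightFunctor L).obj (Coh.structureModule X),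
      st = s ≫ uL.inv := ⟨_, rfl⟩
  rw [← hst] at hstT ⊢
  obtain ⟨a, ha⟩ : ∃ a : Coh.structureModule X ⟶ (tensorRightFunctor L).obj (ClSub.quotMod I),
      a = st ≫ (tensorRightFunctor L).map (ClSub.toSubscheme I) := ⟨_, rfl⟩
  rw [← ha]
  have hab : a ≫ b = 0 := by
    rw [ha, Category.assoc, hnat1, ← Category.assoc, hstT, zero_comp]
  have hsec0 : sec (0 : Coh.structureModule X ⟶ (tensorRightFunctor Q).obj (ClSub.quotMod I)) = 0 := by
    change (0 : Coh.structureModule X ⟶ _).app ⊤ _ = 0
    rw [Scheme.Modules.Hom.zero_app]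
    rfl
  have hx0 : map b 0 ((h0Equiv _).symm (sec a)) = 0 := by
    apply (h0Equiv _).injective
    rw [h0Equiv_map, AddEquiv.apply_symm_apply, map_zero]
    have : b.app ⊤ (sec a) = sec (a ≫ b) := rfl
    rw [this, hab, hsec0]
  have hx1 : (h0Equiv ((tensorRightFunctor L).obj (ClSub.quotMod I))).symm (sec a) = 0 :=
    hinj (hx0.trans (map_zero (mapₗ k b 0)).symm)
  have hsa : sec a = 0 := by
    have := congrArg (h0Equiv ((tensorRightFunctor L).obj (ClSub.quotMod I))) hx1
    rwa [AddEquiv.apply_symm_apply, map_zero] at this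
  apply hom_ext_sec
  rw [hsa]
  change _ = (0 : Coh.structureModule X ⟶ _).app ⊤ _
  rw [Scheme.Modules.Hom.zero_app]
  rfl

end BasePoint

section Down

lemma auxDown (chiL chiL' chiO dL dL' : ℤ) (q : ℕ) (h1 : chiL' = chiL - q) (hq : q = 1)
    (hD : dL = chiL - 1 * chiO) (hD' : dL' = chiL' - 1 * chiO) : dL' = dL - 1 := by lia

variable (H : Hyp.{u}) (HS : SnapperHyp.{u}) (V : VanHyp.{u})
  (k : Type u) [Field k] [IsAlgClosed k] (X : Scheme.{u}) [X.Over (Spec (CommRingCat.of k))]
  [IsIntegral X] [IsProper (X ↘ Spec (CommRingCat.of k))] (hdim : topologicalKrullDim X ≤ 1)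
  {L : X.Modules} (hL : PicF.IsInvertible L) (p : X) (hp : IsClosed ({p} : Set X))

omit [IsIntegral X] in
include H HS V k hdim hL in
/-- a section of `L` vanishing at `p` comes from a section of `I_p ⊗ L` -/
theorem exists_lift_of_mem_support (s : Coh.structureModule X ⟶ L) (hs : p ∈ CohB1.support (cokernel s)) :
    ∃ s' : Coh.structureModule X ⟶ (tensorRightFunctor L).obj
        (ClSub.idealMod (Scheme.IdealSheafData.vanishingIdeal (⟨{p}, hp⟩ : Closeds X))),
      s' ≫ (tensorRightFunctor L).map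
        (ClSub.idealModι (Scheme.IdealSheafData.vanishingIdeal (⟨{p}, hp⟩ : Closeds X))) ≫ (leftUnitor L).hom = s := by
  have hOq : (Coh.structureModule X).IsQuasicoherent :=
    (isCoh_of_isInvertible (isInvertible_structureModule X)).1
  have hQ : Coh.IsCoh (cokernel s) :=
    Groth.Agent.Lib.H90OXModExact.isCoh_cokernel s (isCoh_of_isInvertible hL)
  have hz := comp_toSubscheme_eq_zero H HS V k X hdim hL p hp s (cokernel.π s) (cokernel.condition s) hQ hs
  obtain ⟨I, hI⟩ : ∃ I : X.IdealSheafData, I = Scheme.IdealSheafData.vanishingIdeal (⟨{p}, hp⟩ : Closeds X) :=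
    ⟨_, rfl⟩
  rw [← hI] at hz ⊢
  obtain ⟨M, -, ⟨e₀⟩⟩ := Groth.Agent.Lib.H78Dual.exists_tensor_inverse hL
  obtain ⟨e', -⟩ : ∃ e : tensorMod L M ≅ Coh.structureModule X, True := ⟨braiding L M ≪≫ e₀, trivial⟩
  have hSL := shortExact_map_tensorRight e' (idealMod_shortExact I)
  have := hSL.mono_f
  obtain ⟨uL, huL⟩ : ∃ e : (tensorRightFunctor L).obj (Coh.structureModule X) ≅ L, e = leftUnitor L := ⟨_, rfl⟩
  rw [← huL] at hz ⊢
  refine ⟨hSL.exact.lift (s ≫ uL.inv) hz, ?_⟩
  have h1 : hSL.exact.lift (s ≫ uL.inv) hz ≫ (tensorRightFunctor L).map (ClSub.idealModι I) = s ≫ uL.inv :=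
    hSL.exact.lift_f (s ≫ uL.inv) hz
  have h2 : (hSL.exact.lift (s ≫ uL.inv) hz ≫ (tensorRightFunctor L).map (ClSub.idealModι I)) ≫ uL.hom =
      (s ≫ uL.inv) ≫ uL.hom := congrArg (fun m => m ≫ uL.hom) h1
  have h3 : (s ≫ uL.inv) ≫ uL.hom = s := by rw [Category.assoc, Iso.inv_hom_id, Category.comp_id]
  exact (Category.assoc _ _ _).symm.trans (h2.trans h3)

omit [IsIntegral X] in
include H HS V k hdim hL in
/-- **twisting down at a base point keeps `h^0 = 1`** -/
theorem finrank_H0_idealMod_tensor_eq_one (h1 : Module.finrank k (Coh.HH X L 0) = 1)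
    (s : Coh.structureModule X ⟶ L) (hsne : s ≠ 0) (hs : p ∈ CohB1.support (cokernel s)) :
    Module.finrank k (Coh.HH X (tensorMod (ClSub.idealMod
      (Scheme.IdealSheafData.vanishingIdeal (⟨{p}, hp⟩ : Closeds X))) L) 0) = 1 := by
  have : IsLocallyNoetherian X :=
    LocallyOfFiniteType.isLocallyNoetherian (X ↘ Spec (CommRingCat.of k))
  have key := exists_lift_of_mem_support H HS V k X hdim hL p hp s hs
  obtain ⟨I, hI⟩ : ∃ I : X.IdealSheafData, I = Scheme.IdealSheafData.vanishingIdeal (⟨{p}, hp⟩ : Closeds X) :=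
    ⟨_, rfl⟩
  rw [← hI] at key ⊢
  obtain ⟨s', hs'⟩ := key
  have hs'ne : s' ≠ 0 := by
    intro h0
    apply hsne
    rw [← hs', h0, zero_comp]
  have hnt : Nontrivial (Coh.HH X ((tensorRightFunctor L).obj (ClSub.idealMod I)) 0) :=
    Groth.Agent.Lib.CurveVB67.nontrivial_H0_of_hom_ne_zero s' hs'ne
  have hLc : Coh.IsCoh L := isCoh_of_isInvertible hL
  have hIc : Coh.IsCoh (ClSub.idealMod I) := Groth.Agent.Lib.CurveIdeal54.isCoh_idealMod k X I
  have hfin : Module.Finite k (Coh.HH X ((tensorRightFunctor L).obj (ClSub.idealMod I)) 0) :=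
    H k X _ (Groth.Agent.Lib.CohFinAmple.isCoh_tensorMod hIc hLc) 0
  have hpos : 0 < Module.finrank k (Coh.HH X ((tensorRightFunctor L).obj (ClSub.idealMod I)) 0) :=
    Module.finrank_pos
  have hle : Module.finrank k (Coh.HH X ((tensorRightFunctor L).obj (ClSub.idealMod I)) 0) + 0 ≤
      Module.finrank k (Coh.HH X L 0) := by
    obtain ⟨M, -, ⟨e₀⟩⟩ := Groth.Agent.Lib.H78Dual.exists_tensor_inverse hL
    obtain ⟨e', -⟩ : ∃ e : tensorMod L M ≅ Coh.structureModule X, True := ⟨braiding L M ≪≫ e₀, trivial⟩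
    have hSL := shortExact_map_tensorRight e' (idealMod_shortExact I)
    have hOc : Coh.IsCoh (Coh.structureModule X) := isCoh_of_isInvertible (isInvertible_structureModule X)
    have hfin2 : Module.Finite k (Coh.HH X ((tensorRightFunctor L).obj (Coh.structureModule X)) 0) :=
      H k X _ (Groth.Agent.Lib.CohFinAmple.isCoh_tensorMod hOc hLc) 0
    have h2 := finrank_H0_le_of_shortExact' k X ((tensorRightFunctor L).map (ClSub.idealModι I))
      ((tensorRightFunctor L).map (ClSub.toSubscheme I)) _ hSL hfin2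
    have e2 : Coh.HH X ((tensorRightFunctor L).obj (Coh.structureModule X)) 0 ≃ₗ[k] Coh.HH X L 0 :=
      mapEquivₗ k (leftUnitor L) 0
    rw [← e2.finrank_eq, add_zero]
    exact h2
  rw [h1] at hle
  change Module.finrank k (Coh.HH X ((tensorRightFunctor L).obj (ClSub.idealMod I)) 0) = 1
  omega

end Down

end Groth.Agent.Lib.CurveBasePt54
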