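import Groth.Agent.Lib.CurveBasePt54

/-!
# Invertible modules of small degree with one section (helper54)

Namespace `Groth.Agent.Lib.CurveBasePt54`.

* `exists_twist_down_base`: from `L` invertible with `h^0 = 1` and `deg L ≥ 1`, an invertible `L' = I_p ⊗ L` with `h^0 = 1` and
  `deg L' = deg L - 1` (twist down at a zero of the section).
* `exists_invertible_deg_eq_finrank_H0_eq_one`: for `r ≤ g`, an invertible module of degree `r` with `h^0 = 1`.
-/

set_option autoImplicit false
set_option linter.style.haveILetI false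
universe u
open CategoryTheory CategoryTheory.Limits AlgebraicGeometry Opposite TopologicalSpace

namespace Groth.Agent.Lib.CurveBasePt54

open Groth.Agent.Lib.ProperFinHyp Groth.Agent.Lib.H90Invertible Groth.Agent.Lib.CohLES
open Groth.Agent.Lib.H78SecCoord Groth.Agent.Lib.StructureModule
open Groth.Agent.Lib.OXModTensor Groth.Agent.Lib.CurveH1Van54 Groth.Agent.Lib.CurveSerreVan54 CohB1
open Groth.Agent.Lib.TwistEquiv Groth.Agent.Lib.IdealMod Groth.Agent.Lib.CurveLinSeries54
open Groth.Agent.Lib.IntNumAlg13 Groth.Agent.Lib.EulerLE48 Groth.Agent.Lib.H4Twist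
open Groth.Agent.Lib.GlobGenDescent Groth.Agent.Lib.EulerChar54

section Descent

lemma auxG0 (a b : ℕ) (D : ℤ) (c g : ℕ) (hrr : (a : ℤ) - b = D + c - g) (hc : c = 1) (ha : a = 1) (hb : b = 0) :
    D = g := by lia

variable (H : Hyp.{u}) (HS : SnapperHyp.{u}) (V : VanHyp.{u})
  (k : Type u) [Field k] [IsAlgClosed k] (X : Scheme.{u}) [X.Over (Spec (CommRingCat.of k))]
  [IsIntegral X] [IsProper (X ↘ Spec (CommRingCat.of k))] (hdim : topologicalKrullDim X = 1)
  (hpid : ∀ x : X, IsPrincipalIdealRing (X.presheaf.stalk x))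

include H HS V hdim hpid in
/-- **one step down at a base point** -/
theorem exists_twist_down_base {L : X.Modules} (hL : PicF.IsInvertible L)
    (h1 : Module.finrank k (Coh.HH X L 0) = 1) (hdeg : 1 ≤ Curv2.deg k X L 1) :
    ∃ L' : X.Modules, PicF.IsInvertible L' ∧ Module.finrank k (Coh.HH X L' 0) = 1 ∧
      Curv2.deg k X L' 1 = Curv2.deg k X L 1 - 1 := by
  have : IsLocallyNoetherian X :=
    LocallyOfFiniteType.isLocallyNoetherian (X ↘ Spec (CommRingCat.of k))
  have hO := isInvertible_structureModule X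
  obtain ⟨s, hs⟩ := Groth.Agent.Lib.RiemannRoch54.exists_section_ne_zero k X L (by rw [h1]; exact Nat.one_pos)
  have hmono : Mono s := Groth.Agent.Lib.H90InvMono.mono_of_ne_zero hO hL s hs
  have hnz : ¬ IsZero (cokernel s) := by
    intro hz
    have hepi : Epi s := Preadditive.epi_of_isZero_cokernel s hz
    have hiso : IsIso s := isIso_of_mono_of_epi s
    have hd := Groth.Agent.Lib.DegTensor54.deg_congr k (asIso s) 1
    rw [Groth.Agent.Lib.DegCurve54b.deg_structureModule k X] at hd
    change (0 : ℤ) = Curv2.deg k X L 1 at hd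
    rw [← hd] at hdeg
    exact absurd hdeg (by norm_num)
  obtain ⟨p, hp⟩ : ∃ p : X, p ∈ CohB1.support (cokernel s) := by
    by_contra hcon
    apply hnz
    apply Groth.Agent.Lib.H90QCohLocalization.isZero_of_stalks
    intro x
    by_contra hx
    exact hcon ⟨x, hx⟩
  have hpc : IsClosed ({p} : Set X) :=
    Groth.Agent.Lib.H90InvMono.isClosed_singleton_of_mem_support_cokernel' hdim.le hO hL s hs p hp
  have hIp := Groth.Agent.Lib.CurvePoint54.isInvertible_idealMod_point k X hdim hpid p hpc
  have hfr := finrank_H0_idealMod_tensor_eq_one H HS V k X hdim.le hL p hpc h1 s hs hp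
  have hq := Groth.Agent.Lib.PointDeg.finrank_H0_quotMod_point k X p hpc
  obtain ⟨I, hI⟩ : ∃ I : X.IdealSheafData, I = Scheme.IdealSheafData.vanishingIdeal (⟨{p}, hpc⟩ : Closeds X) :=
    ⟨_, rfl⟩
  rw [← hI] at hIp hfr hq
  have hZ : topologicalKrullDim (I.support : Set X) ≤ 0 := by
    rw [hI, Scheme.IdealSheafData.coe_support_vanishingIdeal]
    change topologicalKrullDim (({p} : Set X)) ≤ 0
    exact topologicalKrullDim_zero_of_discreteTopology _
  have e1 := Groth.Agent.Lib.CurveIdeal54.euler_idealMod_tensor H HS V k X hdim.le hL I hZ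
  have hD : Curv2.deg k X L 1 = Curv2.euler k X L - ((1 : ℕ) : ℤ) * Curv2.euler k X (Coh.structureModule X) := rfl
  have hD' : Curv2.deg k X (tensorMod (ClSub.idealMod I) L) 1 = Curv2.euler k X (tensorMod (ClSub.idealMod I) L) -
      ((1 : ℕ) : ℤ) * Curv2.euler k X (Coh.structureModule X) := rfl
  rw [Nat.cast_one] at hD hD'
  exact ⟨tensorMod (ClSub.idealMod I) L, Groth.Agent.Lib.H78TensorGen.isInvertible_tensorMod hIp hL, hfr,
    auxDown _ _ _ _ _ _ e1 hq hD hD'⟩

include H HS V hdim hpid in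
/-- **invertible modules of degree `r ≤ g` with exactly one section** -/
theorem exists_invertible_deg_eq_finrank_H0_eq_one (r : ℕ) (hr : r ≤ Curv2.genus k X) :
    ∃ L : X.Modules, PicF.IsInvertible L ∧ Curv2.deg k X L 1 = (r : ℤ) ∧
      Module.finrank k (Coh.HH X L 0) = 1 := by
  have hgood := Groth.Agent.Lib.CurvePoint54.goodPoints_of_pid k X hdim hpid
  obtain ⟨d, hd⟩ : ∃ d : ℕ, Curv2.genus k X = r + d := ⟨_, (Nat.add_sub_cancel' hr).symm⟩
  induction d generalizing r with
  | zero =>
    obtain ⟨⟨L, hL, hL0, hL1⟩, -⟩ :=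
      Groth.Agent.Lib.CurvePoint54.exists_invertible_h0_one_h1_zero H HS V k X hdim.le hgood
    have hq : L.IsQuasicoherent := (isCoh_of_isInvertible hL).1
    have hrr := Groth.Agent.Lib.RiemannRoch54.riemann_roch k X hdim.le L
    have hb : Module.finrank k (Coh.HH X L 1) = 0 := Module.finrank_zero_of_subsingleton
    have hg := auxG0 _ _ _ _ _ hrr (finrank_H0_structure_eq_one H k X) hL0 hb
    refine ⟨L, hL, ?_, hL0⟩
    rw [hg, hd, add_zero]
  | succ d ih =>
    obtain ⟨L, hL, hLd, hL0⟩ := ih (r + 1) (by omega) (by omega)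
    obtain ⟨L', hL', hL'0, hL'd⟩ := exists_twist_down_base H HS V k X hdim hpid hL hL0
      (by rw [hLd]; push_cast; omega)
    refine ⟨L', hL', ?_, hL'0⟩
    rw [hL'd, hLd]
    push_cast
    ring

end Descent

end Groth.Agent.Lib.CurveBasePt54
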