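import Groth.Agent.Lib.InvMap54b
import Groth.Agent.Lib.H78Dual
import Groth.Agent.Lib.ModStalkIso
import Groth.Agent.Lib.GlobGenDescent

/-!
# Base point free pencils (helper54; campaign K6)

Namespace `Groth.Agent.Lib.CurveBpf54`.

* `stalkLin_ofSection_congr`, `stalkLin_ofSection_surjective_of_rs_eq`, `subsingleton_sections_of_disjoint_support`.
* `exists_epi_ofSection`: a quotient `q : L → C` of an invertible module whose support is a finite set of closed points
  has a global section generating it everywhere.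
-/

set_option autoImplicit false
universe u
open CategoryTheory CategoryTheory.Limits AlgebraicGeometry Opposite TopologicalSpace

namespace Groth.Agent.Lib.CurveBpf54

open Groth.Agent.Lib.H90Invertible Groth.Agent.Lib.StructureModule Groth.Agent.Lib.H78TensorGen
open Groth.Agent.Lib.H78SecCoord Groth.Agent.Lib.ModStalkLin Groth.Agent.Lib.ModStalkCoker
open Groth.Agent.Lib.InvMap54 Groth.Agent.Lib.H78Dual Groth.Agent.Lib.GlobGenDescent

variable {X : Scheme.{u}}

section Local

/-- the stalk map of `ofSection c` at `x` only depends on `c` near `x` -/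
theorem stalkLin_ofSection_congr {C : X.Modules} (c c' : Γ(C, ⊤)) (W : X.Opens) (x : X) (hx : x ∈ W)
    (h : rs C (le_top : W ≤ ⊤) c = rs C (le_top : W ≤ ⊤) c') :
    stalkLin (ofSection c) x = stalkLin (ofSection c') x := by
  apply LinearMap.ext
  intro g
  obtain ⟨W₁, hx₁, u, rfl⟩ := TopCat.Presheaf.exists_germ_eq (Coh.structureModule X).presheaf g
  have hx₂ : x ∈ W₁ ⊓ W := ⟨hx₁, hx⟩
  have hg : (Coh.structureModule X).presheaf.germ W₁ x hx₁ u =
      (Coh.structureModule X).presheaf.germ (W₁ ⊓ W) x hx₂ (rs _ inf_le_left u) :=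
    (germ_rs _ inf_le_left x hx₂ u).symm
  obtain ⟨a, ha⟩ := (toSec_bijective (X := X) (W₁ ⊓ W)).2 (rs _ inf_le_left u)
  rw [hg, ← ha, stalkLin_germ, stalkLin_germ, ofSection_app, ofSection_app]
  have e1 : C.presheaf.map (homOfLE (le_top : W₁ ⊓ W ≤ ⊤)).op c =
      rs C (inf_le_right : W₁ ⊓ W ≤ W) (rs C le_top c) := (rs_rs C le_top inf_le_right c).symm
  have e2 : C.presheaf.map (homOfLE (le_top : W₁ ⊓ W ≤ ⊤)).op c' =
      rs C (inf_le_right : W₁ ⊓ W ≤ W) (rs C le_top c') := (rs_rs C le_top inf_le_right c').symm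
  rw [e1, e2, h]

/-- if `c` restricts near `y` to the image of a generator of `L`, then `c` generates the quotient `C` of `L` at `y` -/
theorem stalkLin_ofSection_surjective_of_rs_eq {L C : X.Modules} (q : L ⟶ C) [Epi q] {V : X.Opens}
    {l : Γ(L, V)} (hl : IsGen L V l) (c : Γ(C, ⊤)) {W : X.Opens} (hW : W ≤ V)
    (hc : rs C (le_top : W ≤ ⊤) c = rs C hW (q.app V l)) (y : X) (hy : y ∈ W) :
    Function.Surjective (stalkLin (ofSection c) y) := by
  intro g
  obtain ⟨m₀, rfl⟩ := stalkLin_surjective_of_epi q y g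
  obtain ⟨W₁, hy₁, m, rfl⟩ := TopCat.Presheaf.exists_germ_eq L.presheaf m₀
  have hy₂ : y ∈ W₁ ⊓ W := ⟨hy₁, hy⟩
  have hle : W₁ ⊓ W ≤ V := inf_le_right.trans hW
  obtain ⟨a, ha⟩ := (hl (W₁ ⊓ W) hle).2 (rs L inf_le_left m)
  refine ⟨(Coh.structureModule X).presheaf.germ (W₁ ⊓ W) y hy₂ (toSec _ a), ?_⟩
  rw [stalkLin_germ, ofSection_app, ← germ_rs L inf_le_left y hy₂ m, stalkLin_germ, ← ha]
  congr 1
  change a • rs C le_top c = q.app _ (a • rs L hle l)
  rw [Scheme.Modules.Hom.app_smul, app_rs, ← rs_rs C hW inf_le_right, ← hc, rs_rs]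

/-- a module has no nonzero sections over an open disjoint from its support -/
theorem subsingleton_sections_of_disjoint_support (C : X.Modules) (W : X.Opens)
    (h : ∀ x ∈ W, x ∉ CohB1.support C) : Subsingleton Γ(C, W) := by
  refine ⟨fun a b => germ_ext C a b fun x hx => ?_⟩
  have hsub : Subsingleton (C.presheaf.stalk x) := not_not.mp (h x hx)
  exact Subsingleton.elim _ _

end Local

section Global

variable {L C : X.Modules} (hL : PicF.IsInvertible L) (q : L ⟶ C) [Epi q]
  (hfin : (CohB1.support C).Finite) (hcl : ∀ x ∈ CohB1.support C, IsClosed ({x} : Set X))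

include hL q hfin hcl in
/-- sections generating `C` at the points of a finite subset of the support -/
theorem exists_section_generating (S : Finset X) :
    ∃ c : Γ(C, ⊤), ∀ x ∈ S, Function.Surjective (stalkLin (ofSection c) x) := by
  classical
  induction S using Finset.induction_on with
  | empty => exact ⟨0, fun x hx => absurd hx (Finset.notMem_empty x)⟩
  | insert x S hxS ih =>
    obtain ⟨c, hc⟩ := ih
    by_cases hxC : x ∈ CohB1.support C
    · obtain ⟨V, hxV, l, hl⟩ := (isInvertible_iff_exists_isGen L).1 hL x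
      -- the other points of the support form a closed set
      have hFcl : IsClosed (CohB1.support C \ {x}) := by
        have : CohB1.support C \ {x} = ⋃ y ∈ CohB1.support C \ {x}, {y} :=
          (Set.biUnion_of_singleton _).symm
        rw [this]
        exact (hfin.subset Set.sdiff_subset).isClosed_biUnion fun y hy => hcl y hy.1
      have hxcl : IsClosed ({x} : Set X) := hcl x hxC
      let W₁ : X.Opens := V ⊓ ⟨(CohB1.support C \ {x})ᶜ, hFcl.isOpen_compl⟩
      let W₂ : X.Opens := ⟨({x} : Set X)ᶜ, hxcl.isOpen_compl⟩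
      have hxW₁ : x ∈ W₁ := ⟨hxV, fun h => h.2 rfl⟩
      let U : Bool → X.Opens := fun b => cond b W₁ W₂
      have hcover : (⊤ : X.Opens) ≤ iSup U := by
        intro y _
        by_cases hyx : y = x
        · exact Opens.mem_iSup.2 ⟨true, hyx ▸ hxW₁⟩
        · exact Opens.mem_iSup.2 ⟨false, hyx⟩
      have hdisj : ∀ y ∈ W₁ ⊓ W₂, y ∉ CohB1.support C := by
        rintro y ⟨⟨-, hy1⟩, hy2⟩ hyC
        exact hy1 ⟨hyC, hy2⟩
      have hsub : Subsingleton Γ(C, W₁ ⊓ W₂) := subsingleton_sections_of_disjoint_support C _ hdisj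
      have hsub' : Subsingleton Γ(C, W₂ ⊓ W₁) :=
        subsingleton_sections_of_disjoint_support C _ fun y hy => hdisj y ⟨hy.2, hy.1⟩
      let sf : ∀ b : Bool, Γ(C, U b) := fun b => match b with
        | true => rs C (inf_le_left : W₁ ≤ V) (q.app V l)
        | false => rs C (le_top : W₂ ≤ ⊤) c
      obtain ⟨c', hc'⟩ := sec_glue C U (fun _ => le_top) hcover sf (by
        intro i j
        cases i <;> cases j
        · rfl
        · exact @Subsingleton.elim _ hsub' _ _
        · exact @Subsingleton.elim _ hsub _ _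
        · rfl)
      refine ⟨c', fun y hy => ?_⟩
      rcases Finset.mem_insert.mp hy with rfl | hyS
      · exact stalkLin_ofSection_surjective_of_rs_eq q hl c' (inf_le_left : W₁ ≤ V) (hc' true) y hxW₁
      · have hyx : y ≠ x := fun h => hxS (h ▸ hyS)
        have hyW₂ : y ∈ W₂ := hyx
        rw [stalkLin_ofSection_congr c' c W₂ y hyW₂ (hc' false)]
        exact hc y hyS
    · refine ⟨c, fun y hy => ?_⟩
      rcases Finset.mem_insert.mp hy with rfl | hyS
      · intro g
        have hsub : Subsingleton (C.presheaf.stalk y) := not_not.mp hxC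
        exact ⟨0, Subsingleton.elim _ _⟩
      · exact hc y hyS

include hL q hfin hcl in
/-- **a global generator**: a quotient of an invertible module supported at finitely many closed points is generated by
one global section -/
theorem exists_epi_ofSection : ∃ c : Γ(C, ⊤), Epi (ofSection c) := by
  obtain ⟨c, hc⟩ := exists_section_generating hL q hfin hcl hfin.toFinset
  have key : ∀ x : X, Function.Surjective (stalkLin (ofSection c) x) := by
    intro x
    by_cases hxC : x ∈ CohB1.support C
    · exact hc x (hfin.mem_toFinset.mpr hxC)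
    · intro g
      have hsub : Subsingleton (C.presheaf.stalk x) := not_not.mp hxC
      exact ⟨0, Subsingleton.elim _ _⟩
  refine ⟨c, Groth.Agent.Lib.ModStalkIso.epi_of_stalk_surjective _ fun x g => ?_⟩
  obtain ⟨m, hm⟩ := key x g
  exact ⟨m, hm⟩

end Global

section LocalAlgebra

/-- in a free module of rank one over a local ring, two submodules spanning everything cannot both be proper -/
theorem eq_top_or_eq_top_of_sup_eq_top {R M : Type*} [CommRing R] [IsLocalRing R] [AddCommGroup M]
    [Module R M] (e : R ≃ₗ[R] M) (N₁ N₂ : Submodule R M) (h : N₁ ⊔ N₂ = ⊤) : N₁ = ⊤ ∨ N₂ = ⊤ := by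
  have hm : e 1 ∈ N₁ ⊔ N₂ := h ▸ Submodule.mem_top
  obtain ⟨n₁, hn₁, n₂, hn₂, hsum⟩ := Submodule.mem_sup.mp hm
  have h1 : e.symm n₁ + e.symm n₂ = 1 := by
    rw [← map_add, hsum, e.symm_apply_apply]
  have key : ∀ (N : Submodule R M) (n : M), n ∈ N → IsUnit (e.symm n) → N = ⊤ := by
    intro N n hn hu
    obtain ⟨u, hu⟩ := hu
    rw [eq_top_iff]
    intro m _
    have : m = (e.symm m * ↑u⁻¹) • n := by
      apply e.symm.injective
      rw [map_smul, ← hu, smul_eq_mul, mul_assoc, Units.inv_mul, mul_one]
    rw [this]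
    exact N.smul_mem _ hn
  rcases IsLocalRing.isUnit_or_isUnit_of_add_one h1 with hu | hu
  · exact Or.inl (key N₁ n₁ hn₁ hu)
  · exact Or.inr (key N₂ n₂ hn₂ hu)

variable {L : X.Modules} (hL : PicF.IsInvertible L)

include hL in
/-- **two sections without common zeros**: if `t` generates the cokernel of `s`, then the cokernels of `s` and `t` have
disjoint supports -/
theorem not_mem_support_cokernel_of_epi (s t : Coh.structureModule X ⟶ L) [Epi (t ≫ cokernel.π s)]
    (x : X) (hx : x ∈ CohB1.support (cokernel s)) : x ∉ CohB1.support (cokernel t) := by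
  obtain ⟨V, hxV, l, hl⟩ := (isInvertible_iff_exists_isGen L).1 hL x
  have hsup : LinearMap.range (stalkLin s x) ⊔ LinearMap.range (stalkLin t x) = ⊤ := by
    rw [eq_top_iff]
    intro m _
    obtain ⟨u, hu⟩ := stalkLin_surjective_of_epi (t ≫ cokernel.π s) x (stalkLin (cokernel.π s) x m)
    rw [stalkLin_comp, LinearMap.comp_apply] at hu
    have h0 : stalkLin (cokernel.π s) x (m - stalkLin t x u) = 0 := by
      rw [map_sub, hu, sub_self]
    obtain ⟨f, hf⟩ := (stalkLin_cokernel_exact s x _).mp h0
    rw [Submodule.mem_sup]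
    exact ⟨stalkLin s x f, ⟨f, rfl⟩, stalkLin t x u, ⟨u, rfl⟩, by rw [hf, sub_add_cancel]⟩
  rcases eq_top_or_eq_top_of_sup_eq_top (stalkEquiv hl x hxV) _ _ hsup with h | h
  · exact absurd hx ((not_mem_support_cokernel_iff s x).mpr (LinearMap.range_eq_top.mp h))
  · exact (not_mem_support_cokernel_iff t x).mpr (LinearMap.range_eq_top.mp h)

end LocalAlgebra

end Groth.Agent.Lib.CurveBpf54
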