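import Groth.Agent.Lib.CurveSerreVan54
import Groth.Agent.Lib.H78Dual
import Groth.Agent.Lib.TwistEquiv
import Groth.Agent.Lib.CohLESLinear
import Groth.Agent.Lib.CurveVB54

/-!
# Endomorphisms of invertible modules (helper54; campaign K6)

Namespace `Groth.Agent.Lib.CurveEnd54`.

* `mulHom` API: `mulHom_comp` (naturality), `mulHom_mul`, `mulHom_one`, `mulHom_zero`, `mulHom_add`.
* `exists_mulHom_eq_structure`, **`exists_mulHom_eq`**: every endomorphism of an invertible module is the homothety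
  by a global function.
* `toGlobal_surjective`: on an integral proper scheme over an algebraically closed field, global functions are
  constants;  `exists_toGlobal_mulHom_eq`.
-/

set_option autoImplicit false
universe u
open CategoryTheory CategoryTheory.Limits AlgebraicGeometry Opposite TopologicalSpace

namespace Groth.Agent.Lib.CurveEnd54

open Groth.Agent.Lib.ProperFinHyp Groth.Agent.Lib.H90Invertible Groth.Agent.Lib.CohLES
open Groth.Agent.Lib.H78SecCoord Groth.Agent.Lib.StructureModule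
open Groth.Agent.Lib.OXModTensor Groth.Agent.Lib.CurveH1Van54 Groth.Agent.Lib.CurveSerreVan54 CohB1
open Groth.Agent.Lib.TwistEquiv

section MulHom

variable {X : Scheme.{u}}

theorem mulHom_comp {M N : X.Modules} (φ : M ⟶ N) (r : Coh.Γtop X) :
    mulHom M r ≫ φ = φ ≫ mulHom N r := by
  apply (toAbF X).map_injective
  rw [Functor.map_comp, Functor.map_comp, toAb_map_mulHom, toAb_map_mulHom]
  exact smulAb_naturality φ r

theorem mulHom_mul (M : X.Modules) (r s : Coh.Γtop X) : mulHom M (r * s) = mulHom M s ≫ mulHom M r := by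
  apply (toAbF X).map_injective
  rw [Functor.map_comp, toAb_map_mulHom, toAb_map_mulHom, toAb_map_mulHom]
  exact Coh.smulAb_mul M r s

theorem mulHom_one (M : X.Modules) : mulHom M 1 = 𝟙 M := by
  apply (toAbF X).map_injective
  rw [toAb_map_mulHom]
  exact (Coh.smulAb_one M).trans ((toAbF X).map_id M).symm

theorem mulHom_zero (M : X.Modules) : mulHom M 0 = 0 := by
  apply (toAbF X).map_injective
  rw [toAb_map_mulHom]
  exact (Coh.smulAb_zero M).trans ((toAbF X).map_zero M M).symm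

theorem mulHom_add (M : X.Modules) (r s : Coh.Γtop X) : mulHom M (r + s) = mulHom M r + mulHom M s := by
  apply (toAbF X).map_injective
  rw [Functor.map_add, toAb_map_mulHom, toAb_map_mulHom, toAb_map_mulHom]
  exact Coh.smulAb_add M r s

/-- every endomorphism of the structure module is a homothety -/
theorem exists_mulHom_eq_structure (ρ : Coh.structureModule X ⟶ Coh.structureModule X) :
    ∃ r : Coh.Γtop X, ρ = mulHom _ r := by
  obtain ⟨r, hr⟩ := (toSec_bijective (X := X) ⊤).2 (sec ρ)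
  refine ⟨(show Coh.Γtop X from r), ?_⟩
  have h1 : sec (𝟙 (Coh.structureModule X)) = toSec ⊤ 1 := rfl
  have h2 : sec ρ = (show Γ(X, ⊤) from (show Coh.Γtop X from r)) • toSec ⊤ 1 :=
    hr.symm.trans (toSec_eq_smul_one _ _)
  have h3 := ofSection_smul (L := Coh.structureModule X) (show Coh.Γtop X from r) (toSec ⊤ 1)
  have h4 : ofSection (toSec (X := X) ⊤ 1) = 𝟙 (Coh.structureModule X) := by
    rw [← h1, ofSection_sec]
  rw [h4, Category.id_comp] at h3
  rw [← h3, ← h2, ofSection_sec]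

/-- **every endomorphism of an invertible module is the homothety by a global function** -/
theorem exists_mulHom_eq {L : X.Modules} (hL : PicF.IsInvertible L) (φ : L ⟶ L) :
    ∃ r : Coh.Γtop X, φ = mulHom L r := by
  obtain ⟨M, hM, ⟨e₀⟩⟩ := Groth.Agent.Lib.H78Dual.exists_tensor_inverse hL
  have := isEquivalence_tensorLeftFunctor e₀
  obtain ⟨e, -⟩ : ∃ e : (tensorLeftFunctor M).obj L ≅ Coh.structureModule X, True := ⟨e₀, trivial⟩
  obtain ⟨r, hr⟩ := exists_mulHom_eq_structure (e.inv ≫ (tensorLeftFunctor M).map φ ≫ e.hom)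
  refine ⟨r, (tensorLeftFunctor M).map_injective ?_⟩
  have h1 : (tensorLeftFunctor M).map φ = e.hom ≫ mulHom _ r ≫ e.inv := by
    rw [← hr, Category.assoc, Category.assoc, e.hom_inv_id, Category.comp_id, e.hom_inv_id_assoc]
  have h2 : (tensorLeftFunctor M).map (mulHom L r) = mulHom ((tensorLeftFunctor M).obj L) r :=
    tensorLeft_map_mulHom M L r
  rw [h1, h2, ← Category.assoc, ← mulHom_comp, Category.assoc, e.hom_inv_id, Category.comp_id]

end MulHom

section AlgClosed

open Groth.Agent.Lib.H4Twist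

variable (H : Hyp.{u}) (k : Type u) [Field k] [IsAlgClosed k] (X : Scheme.{u})
  [X.Over (Spec (CommRingCat.of k))] [IsIntegral X] [IsProper (X ↘ (Spec (CommRingCat.of k)))]

include H in
/-- global functions on an integral proper scheme over an algebraically closed field are constants -/
theorem toGlobal_surjective : Function.Surjective (Coh.toGlobal (X ↘ Spec (CommRingCat.of k))) := by
  have hOinv := isInvertible_structureModule X
  have hOc : Coh.IsCoh (Coh.structureModule X) := isCoh_of_isInvertible hOinv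
  have hfin : Module.Finite k (Coh.HH X (Coh.structureModule X) 0) := H k X _ hOc 0
  let _ : Algebra k Γ(X, ⊤) := (Coh.toGlobal (X ↘ Spec (CommRingCat.of k))).toAlgebra
  let e : Coh.HH X (Coh.structureModule X) 0 ≃+ Γ(X, ⊤) := h0Equiv (Coh.structureModule X)
  have he : ∀ (c : k) (x : Coh.HH X (Coh.structureModule X) 0), e (c • x) = c • e x := by
    intro c x
    rw [smul_over_def]
    exact h0Equiv_smul (Coh.structureModule X) _ x
  let eₗ : Coh.HH X (Coh.structureModule X) 0 ≃ₗ[k] Γ(X, ⊤) :=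
    { e with map_smul' := he }
  have hfinR : Module.Finite k Γ(X, ⊤) := Module.Finite.equiv eₗ
  have hint : Algebra.IsIntegral k Γ(X, ⊤) := Algebra.IsIntegral.of_finite k _
  have hbij : Function.Bijective (algebraMap k Γ(X, ⊤)) :=
    IsAlgClosed.algebraMap_bijective_of_isIntegral
  exact hbij.2

/-- the homothety by a constant -/
noncomputable def sc (M : X.Modules) (c : k) : M ⟶ M :=
  mulHom M (Coh.toGlobal (X ↘ Spec (CommRingCat.of k)) c)

omit [IsAlgClosed k] [IsIntegral X] [IsProper (X ↘ (Spec (CommRingCat.of k)))] in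
theorem sc_comp {M N : X.Modules} (φ : M ⟶ N) (c : k) : sc k X M c ≫ φ = φ ≫ sc k X N c :=
  mulHom_comp φ _

omit [IsAlgClosed k] [IsIntegral X] [IsProper (X ↘ (Spec (CommRingCat.of k)))] in
theorem sc_mul (M : X.Modules) (c d : k) : sc k X M (c * d) = sc k X M d ≫ sc k X M c := by
  unfold sc
  rw [map_mul, mulHom_mul]

omit [IsAlgClosed k] [IsIntegral X] [IsProper (X ↘ (Spec (CommRingCat.of k)))] in
theorem sc_one (M : X.Modules) : sc k X M 1 = 𝟙 M := by
  unfold sc
  rw [map_one, mulHom_one]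

omit [IsAlgClosed k] [IsIntegral X] [IsProper (X ↘ (Spec (CommRingCat.of k)))] in
theorem sc_zero (M : X.Modules) : sc k X M 0 = 0 := by
  unfold sc
  rw [map_zero, mulHom_zero]

omit [IsAlgClosed k] [IsIntegral X] [IsProper (X ↘ (Spec (CommRingCat.of k)))] in
theorem sc_sub (M : X.Modules) (c d : k) : sc k X M (c - d) = sc k X M c - sc k X M d := by
  have h : sc k X M (c - d) + sc k X M d = sc k X M c := by
    unfold sc
    rw [← mulHom_add, ← map_add, sub_add_cancel]
  rw [← h, add_sub_cancel_right]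

omit [IsAlgClosed k] [IsIntegral X] [IsProper (X ↘ (Spec (CommRingCat.of k)))] in
/-- a nonzero constant acts invertibly; so a vanishing homothety on a nonzero module has constant zero -/
theorem eq_zero_of_sc_eq_zero {M : X.Modules} (hM : ¬ IsZero M) (c : k) (h : sc k X M c = 0) : c = 0 := by
  by_contra hc
  apply hM
  rw [IsZero.iff_id_eq_zero, ← sc_one k X M, ← inv_mul_cancel₀ hc, sc_mul, h, zero_comp]

omit [IsAlgClosed k] [IsIntegral X] [IsProper (X ↘ (Spec (CommRingCat.of k)))] in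
theorem toSheaf_map_sc (M : X.Modules) (c : k) :
    (SheafOfModules.toSheaf X.ringCatSheaf).map (sc k X M c) =
      Coh.smulAb M (Coh.toGlobal (X ↘ Spec (CommRingCat.of k)) c) := rfl

include H in
/-- every endomorphism of an invertible module is the homothety by a constant -/
theorem exists_sc_eq {L : X.Modules} (hL : PicF.IsInvertible L) (φ : L ⟶ L) :
    ∃ c : k, φ = sc k X L c := by
  obtain ⟨r, hr⟩ := exists_mulHom_eq hL φ
  obtain ⟨c, hc⟩ := toGlobal_surjective H k X r
  exact ⟨c, by rw [hr, ← hc]; rfl⟩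

include H in
/-- **structure of endomorphisms of a non-split extension of invertible modules**: an endomorphism `p` of `E` mapping
`L` into `L` is a constant plus a map factoring as `E → M → L → E` -/
theorem exists_sc_add_of_comp_eq_zero (S : ShortComplex X.Modules) (hS : S.ShortExact)
    (hL : PicF.IsInvertible S.X₁) (hM : PicF.IsInvertible S.X₃) (hns : ¬ IsSplitEpi S.g)
    (p : S.X₂ ⟶ S.X₂) (hp : S.f ≫ p ≫ S.g = 0) :
    ∃ (c : k) (γ : S.X₃ ⟶ S.X₁), p = sc k X S.X₂ c + S.g ≫ γ ≫ S.f := by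
  have := hS.mono_f
  have := hS.epi_g
  -- the restriction of `p` to `L`
  have hp' : (S.f ≫ p) ≫ S.g = 0 := by rw [Category.assoc, hp]
  obtain ⟨a, ha⟩ := exists_sc_eq H k X hL (hS.exact.lift (S.f ≫ p) hp')
  have hα : sc k X S.X₁ a ≫ S.f = S.f ≫ p := by
    rw [← ha]
    exact hS.exact.lift_f _ _
  -- `p - a` factors through `M`
  have hψ : S.f ≫ (p - sc k X S.X₂ a) = 0 := by
    rw [Preadditive.comp_sub, ← hα, sc_comp, sub_self]
  have hβ : S.g ≫ hS.exact.desc (p - sc k X S.X₂ a) hψ = p - sc k X S.X₂ a := hS.exact.g_desc _ _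
  obtain ⟨b, hb⟩ := exists_sc_eq H k X hM (hS.exact.desc (p - sc k X S.X₂ a) hψ ≫ S.g)
  have hb0 : b = 0 := by
    by_contra hne
    apply hns
    refine ⟨⟨sc k X S.X₃ b⁻¹ ≫ hS.exact.desc (p - sc k X S.X₂ a) hψ, ?_⟩⟩
    rw [Category.assoc, hb, ← sc_mul, mul_inv_cancel₀ hne, sc_one]
  rw [hb0, sc_zero] at hb
  refine ⟨a, hS.exact.lift _ hb, ?_⟩
  rw [hS.exact.lift_f, hβ]
  abel

end AlgClosed

section Curve

variable (H : Hyp.{u}) (k : Type u) [Field k] [IsAlgClosed k] (X : Scheme.{u})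
  [X.Over (Spec (CommRingCat.of k))] [IsIntegral X] [IsProper (X ↘ (Spec (CommRingCat.of k)))]
  (hdim : topologicalKrullDim X = 1)
  (S : ShortComplex X.Modules) (hS : S.ShortExact)
  (hL : PicF.IsInvertible S.X₁) (hM : PicF.IsInvertible S.X₃) (hns : ¬ IsSplitEpi S.g)

include H hdim hS hL hM hns in
/-- S11818: a non-split extension of `M` by `L` with `deg M < deg L` and `Hom(M, L) = 0` is simple -/
theorem simple_of_nonsplit (hdeg : Curv2.deg k X S.X₃ 1 < Curv2.deg k X S.X₁ 1)
    (hhom : ∀ g : S.X₃ ⟶ S.X₁, g = 0) (φ : S.X₂ ⟶ S.X₂) :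
    ∃ c : k, φ = sc k X S.X₂ c := by
  have h0 : S.f ≫ φ ≫ S.g = 0 := by
    by_contra hne
    have := (Groth.Agent.Lib.DegCurve54b.deg_le_and_isIso H k X hdim hL hM _ hne).1
    exact absurd hdeg (not_lt.mpr this)
  obtain ⟨c, γ, h⟩ := exists_sc_add_of_comp_eq_zero H k X S hS hL hM hns φ h0
  refine ⟨c, ?_⟩
  rw [h, hhom γ, zero_comp, comp_zero, add_zero]

omit [IsAlgClosed k] in
include H k hdim hL hM hns in
/-- in a non-split extension with `Hom(M, L) ≠ 0`, every endomorphism preserves `L` -/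
theorem comp_eq_zero_of_hom_ne_zero (g : S.X₃ ⟶ S.X₁) (hg : g ≠ 0) (p : S.X₂ ⟶ S.X₂) :
    S.f ≫ p ≫ S.g = 0 := by
  by_contra hne
  have I : IsIso (S.f ≫ p ≫ S.g) :=
    Groth.Agent.Lib.CurveVB54.isIso_of_ne_zero_of_ne_zero H k X hdim hL hM _ g hne hg
  apply hns
  refine ⟨⟨inv (S.f ≫ p ≫ S.g) ≫ S.f ≫ p, ?_⟩⟩
  rw [Category.assoc, Category.assoc, IsIso.inv_hom_id]

include H k hdim hS hL hM hns in
/-- in a non-split extension with `Hom(M, L) ≠ 0`, every idempotent endomorphism is `0` or `1` -/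
theorem idempotent_eq_zero_or_one (g : S.X₃ ⟶ S.X₁) (hg : g ≠ 0) (p : S.X₂ ⟶ S.X₂) (hpp : p ≫ p = p) :
    p = 0 ∨ p = 𝟙 _ := by
  have := hS.mono_f
  have hLnz : ¬ IsZero S.X₁ := Groth.Agent.Lib.CurveVB54.not_isZero_of_isInvertible hL
  obtain ⟨c, γ, h⟩ := exists_sc_add_of_comp_eq_zero H k X S hS hL hM hns p
    (comp_eq_zero_of_hom_ne_zero H k X hdim S hL hM hns g hg p)
  have hn : (S.g ≫ γ ≫ S.f) ≫ (S.g ≫ γ ≫ S.f) = 0 := by
    simp only [Category.assoc]
    rw [S.zero_assoc, zero_comp, comp_zero, comp_zero]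
  -- restriction to `L`
  have hfp : S.f ≫ p = sc k X S.X₁ c ≫ S.f := by
    rw [h, Preadditive.comp_add, S.zero_assoc, zero_comp, add_zero, sc_comp]
  have hcc : sc k X S.X₁ (c * c - c) = 0 := by
    rw [← cancel_mono S.f, zero_comp, sc_sub, Preadditive.sub_comp, sc_mul, Category.assoc, ← hfp,
      ← Category.assoc, ← hfp, Category.assoc, hpp, sub_self]
  have hc := eq_zero_of_sc_eq_zero k X hLnz _ hcc
  have hc' : c = 0 ∨ c = 1 := by
    have : c * (c - 1) = 0 := by rw [mul_sub, mul_one]; exact hc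
    rcases mul_eq_zero.mp this with h1 | h1
    · exact Or.inl h1
    · exact Or.inr (sub_eq_zero.mp h1)
  rcases hc' with rfl | rfl
  · left
    rw [sc_zero, zero_add] at h
    rw [← hpp, h, hn]
  · right
    rw [sc_one] at h
    have h1 : (p - 𝟙 _) ≫ (p - 𝟙 _) = 0 := by
      have : p - 𝟙 _ = S.g ≫ γ ≫ S.f := by rw [h, add_sub_cancel_left]
      rw [this, hn]
    have h2 : (p - 𝟙 _) ≫ (p - 𝟙 _) = 𝟙 _ - p := by
      rw [Preadditive.sub_comp, Preadditive.comp_sub, Preadditive.comp_sub, hpp, Category.comp_id,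
        Category.id_comp, Category.id_comp]
      abel
    rw [h1] at h2
    exact (sub_eq_zero.mp h2.symm).symm

include H hdim hS hL hM hns in
/-- S11819 -/
theorem indecomposable_not_simple (g : S.X₃ ⟶ S.X₁) (hg : g ≠ 0) :
    (¬ IsZero S.X₂ ∧ ∀ (E₁ E₂ : X.Modules), Nonempty (S.X₂ ≅ E₁ ⊞ E₂) → IsZero E₁ ∨ IsZero E₂) ∧
      ∃ φ : S.X₂ ⟶ S.X₂, ∀ c : k, φ ≠ sc k X S.X₂ c := by
  have := hS.mono_f
  have := hS.epi_g
  have hLnz : ¬ IsZero S.X₁ := Groth.Agent.Lib.CurveVB54.not_isZero_of_isInvertible hL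
  have hEnz : ¬ IsZero S.X₂ := fun hz => hLnz (IsZero.of_mono S.f hz)
  refine ⟨⟨hEnz, ?_⟩, ?_⟩
  · rintro E₁ E₂ ⟨e⟩
    have hpp : (e.hom ≫ biprod.fst ≫ biprod.inl ≫ e.inv) ≫ (e.hom ≫ biprod.fst ≫ biprod.inl ≫ e.inv) =
        e.hom ≫ biprod.fst ≫ biprod.inl ≫ e.inv := by
      simp
    rcases idempotent_eq_zero_or_one H k X hdim S hS hL hM hns g hg _ hpp with h0 | h1
    · left
      rw [IsZero.iff_id_eq_zero]
      have : 𝟙 E₁ = (biprod.inl ≫ e.inv) ≫ (e.hom ≫ biprod.fst ≫ biprod.inl ≫ e.inv) ≫ (e.hom ≫ biprod.fst) := by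
        simp
      rw [this, h0, zero_comp, comp_zero]
    · right
      rw [IsZero.iff_id_eq_zero]
      have : 𝟙 E₂ = (biprod.inr ≫ e.inv) ≫ 𝟙 _ ≫ (e.hom ≫ biprod.snd) := by
        simp
      rw [this, ← h1]
      simp
  · refine ⟨S.g ≫ g ≫ S.f, fun c hc => ?_⟩
    have hn : (S.g ≫ g ≫ S.f) ≫ (S.g ≫ g ≫ S.f) = 0 := by
      simp only [Category.assoc]
      rw [S.zero_assoc, zero_comp, comp_zero, comp_zero]
    have hc0 : c = 0 := by
      have h2 : sc k X S.X₂ (c * c) = 0 := by
        rw [sc_mul, ← hc, hn]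
      have := eq_zero_of_sc_eq_zero k X hEnz _ h2
      exact (mul_self_eq_zero.mp this)
    rw [hc0, sc_zero] at hc
    have h3 : g ≫ S.f = 0 := by
      rw [← cancel_epi S.g, hc, comp_zero]
    exact hg (by rw [← cancel_mono S.f, h3, zero_comp])

end Curve

end Groth.Agent.Lib.CurveEnd54
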