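import Groth.Agent.Lib.CurveBasePt54
import Groth.Agent.Lib.CurveEndLocal54
import Groth.Agent.Lib.CurveGlobGen54
import Groth.Agent.Lib.H78AmpleTwist

/-!
# Global generation versus base points on a curve (helper54)

Namespace `Groth.Agent.Lib.CurveBpfCrit54`.

* `isGloballyGenerated_iff`: an invertible module `L` on an integral proper curve over an algebraically closed field is
  globally generated iff `h^0(I_p ⊗ L) + 1 = h^0(L)` for every closed point `p`.
-/

set_option autoImplicit false
set_option linter.style.haveILetI false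
universe u
open CategoryTheory CategoryTheory.Limits AlgebraicGeometry Opposite TopologicalSpace

namespace Groth.Agent.Lib.CurveBpfCrit54

open Groth.Agent.Lib.ProperFinHyp Groth.Agent.Lib.H90Invertible Groth.Agent.Lib.CohLES
open Groth.Agent.Lib.H78SecCoord Groth.Agent.Lib.StructureModule
open Groth.Agent.Lib.OXModTensor Groth.Agent.Lib.CurveH1Van54 Groth.Agent.Lib.CurveSerreVan54 CohB1
open Groth.Agent.Lib.TwistEquiv Groth.Agent.Lib.IdealMod Groth.Agent.Lib.CurveLinSeries54
open Groth.Agent.Lib.IntNumAlg13 Groth.Agent.Lib.EulerLE48 Groth.Agent.Lib.H4Twist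
open Groth.Agent.Lib.GlobGenDescent Groth.Agent.Lib.EulerChar54 Groth.Agent.Lib.H78GlobGen2
open Groth.Agent.Lib.CurveBasePt54

section Crit

variable (H : Hyp.{u}) (HS : SnapperHyp.{u}) (V : VanHyp.{u})
  (k : Type u) [Field k] [IsAlgClosed k] (X : Scheme.{u}) [X.Over (Spec (CommRingCat.of k))]
  [IsIntegral X] [IsProper (X ↘ Spec (CommRingCat.of k))] (hdim : topologicalKrullDim X ≤ 1)
  {L : X.Modules} (hL : PicF.IsInvertible L) (p : X) (hp : IsClosed ({p} : Set X))

omit [IsIntegral X] in
include H HS V hdim hL in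
/-- `h^0` drops exactly by one at `p` iff some global section of `O ⊗ L` has nonzero image in `O_p ⊗ L` -/
theorem finrank_H0_idealMod_tensor_succ_eq_iff :
    Module.finrank k (Coh.HH X (tensorMod (ClSub.idealMod
      (Scheme.IdealSheafData.vanishingIdeal (⟨{p}, hp⟩ : Closeds X))) L) 0) + 1 = Module.finrank k (Coh.HH X L 0) ↔
    ∃ x : Coh.HH X ((tensorRightFunctor L).obj (Coh.structureModule X)) 0,
      map ((tensorRightFunctor L).map
        (ClSub.toSubscheme (Scheme.IdealSheafData.vanishingIdeal (⟨{p}, hp⟩ : Closeds X)))) 0 x ≠ 0 := by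
  have : IsLocallyNoetherian X :=
    LocallyOfFiniteType.isLocallyNoetherian (X ↘ Spec (CommRingCat.of k))
  have hB := finrank_H0_le_idealMod_tensor_succ H HS V k X hdim hL p hp
  obtain ⟨I, hI⟩ : ∃ I : X.IdealSheafData, I = Scheme.IdealSheafData.vanishingIdeal (⟨{p}, hp⟩ : Closeds X) :=
    ⟨_, rfl⟩
  rw [← hI] at hB ⊢
  obtain ⟨M, -, ⟨e₀⟩⟩ := Groth.Agent.Lib.H78Dual.exists_tensor_inverse hL
  obtain ⟨e', -⟩ : ∃ e : tensorMod L M ≅ Coh.structureModule X, True := ⟨braiding L M ≪≫ e₀, trivial⟩
  have hSL := shortExact_map_tensorRight e' (idealMod_shortExact I)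
  have hLc : Coh.IsCoh L := isCoh_of_isInvertible hL
  have hOc : Coh.IsCoh (Coh.structureModule X) := isCoh_of_isInvertible (isInvertible_structureModule X)
  have hfin : Module.Finite k (Coh.HH X ((tensorRightFunctor L).obj (Coh.structureModule X)) 0) :=
    H k X _ (Groth.Agent.Lib.CohFinAmple.isCoh_tensorMod hOc hLc) 0
  have e2 : Coh.HH X ((tensorRightFunctor L).obj (Coh.structureModule X)) 0 ≃ₗ[k] Coh.HH X L 0 :=
    mapEquivₗ k (leftUnitor L) 0
  constructor
  · intro heq
    by_contra hcon
    have hall : ∀ x : Coh.HH X ((tensorRightFunctor L).obj (Coh.structureModule X)) 0,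
        map ((tensorRightFunctor L).map (ClSub.toSubscheme I)) 0 x = 0 := by
      intro x
      by_contra hx
      exact hcon ⟨x, hx⟩
    have hsurj : Function.Surjective (mapₗ k ((tensorRightFunctor L).map (ClSub.idealModι I)) 0) := by
      intro x
      obtain ⟨y, hy⟩ := exact₂ hSL 0 x (hall x)
      exact ⟨y, hy⟩
    have hIc : Coh.IsCoh (ClSub.idealMod I) := Groth.Agent.Lib.CurveIdeal54.isCoh_idealMod k X I
    have hfin1 : Module.Finite k (Coh.HH X ((tensorRightFunctor L).obj (ClSub.idealMod I)) 0) :=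
      H k X _ (Groth.Agent.Lib.CohFinAmple.isCoh_tensorMod hIc hLc) 0
    have hle := LinearMap.finrank_le_finrank_of_surjective hsurj
    rw [e2.finrank_eq] at hle
    change Module.finrank k (Coh.HH X L 0) ≤ Module.finrank k (Coh.HH X (tensorMod (ClSub.idealMod I) L) 0) at hle
    omega
  · rintro ⟨x, hx⟩
    have hA := @Groth.Agent.Lib.CurvePoint54.finrank_H0_succ_le_of_map_g_ne_zero k _ X _ _ hSL hfin x hx
    have hA' : Module.finrank k (Coh.HH X (tensorMod (ClSub.idealMod I) L) 0) + 1 ≤
        Module.finrank k (Coh.HH X L 0) := by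
      rw [← e2.finrank_eq]
      exact hA
    omega

omit [IsIntegral X] in
include H HS V hdim hL in
/-- **global generation criterion**: `L` is globally generated iff twisting down at any closed point drops `h^0` by one -/
theorem isGloballyGenerated_iff :
    Curv2.IsGloballyGenerated L ↔ ∀ (P : X) (hP : IsClosed ({P} : Set X)),
      Module.finrank k (Coh.HH X (tensorMod (ClSub.idealMod
        (Scheme.IdealSheafData.vanishingIdeal (⟨{P}, hP⟩ : Closeds X))) L) 0) + 1 =
        Module.finrank k (Coh.HH X L 0) := by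
  have : IsLocallyNoetherian X :=
    LocallyOfFiniteType.isLocallyNoetherian (X ↘ Spec (CommRingCat.of k))
  have hLc : Coh.IsCoh L := isCoh_of_isInvertible hL
  constructor
  · intro hg P hP
    rw [finrank_H0_idealMod_tensor_succ_eq_iff H HS V k X hdim hL P hP]
    have hq1 := finrank_H0_quotMod_point_tensor HS V k X hdim hL P hP
    obtain ⟨I, hI⟩ : ∃ I : X.IdealSheafData, I = Scheme.IdealSheafData.vanishingIdeal (⟨{P}, hP⟩ : Closeds X) :=
      ⟨_, rfl⟩
    rw [← hI] at hq1 ⊢
    by_contra hcon
    have hall : ∀ x : Coh.HH X ((tensorRightFunctor L).obj (Coh.structureModule X)) 0,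
        map ((tensorRightFunctor L).map (ClSub.toSubscheme I)) 0 x = 0 := by
      intro x
      by_contra hx
      exact hcon ⟨x, hx⟩
    have hg' : Curv2.IsGloballyGenerated ((tensorRightFunctor L).obj (Coh.structureModule X)) :=
      Groth.Agent.Lib.H78AmpleTwist.isGloballyGenerated_of_iso (leftUnitor L).symm hg
    have hzero := Groth.Agent.Lib.CurveEndLocal54.eq_zero_of_map_zero_eq_zero hg'
      ((tensorRightFunctor L).map (ClSub.toSubscheme I)) hall
    obtain ⟨M, -, ⟨e₀⟩⟩ := Groth.Agent.Lib.H78Dual.exists_tensor_inverse hL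
    obtain ⟨e', -⟩ : ∃ e : tensorMod L M ≅ Coh.structureModule X, True := ⟨braiding L M ≪≫ e₀, trivial⟩
    have hSL := shortExact_map_tensorRight e' (idealMod_shortExact I)
    have hepi : Epi ((tensorRightFunctor L).map (ClSub.toSubscheme I)) := hSL.epi_g
    have hz : IsZero ((tensorRightFunctor L).obj (ClSub.quotMod I)) := IsZero.of_epi_eq_zero _ hzero
    have hsub : Subsingleton (Coh.HH X ((tensorRightFunctor L).obj (ClSub.quotMod I)) 0) := by
      refine subsingleton_of_forall_eq 0 fun x => ?_
      rw [← map_id _ 0 x, hz.eq_of_src (𝟙 _) 0, map_zero']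
    rw [Module.finrank_zero_of_subsingleton] at hq1
    exact zero_ne_one hq1
  · intro hall
    obtain ⟨C, q, hqepi, hkill, hCc, hback⟩ : ∃ (C : X.Modules) (q : L ⟶ C), Epi q ∧
        (∀ s : Coh.structureModule X ⟶ L, s ≫ q = 0) ∧ Coh.IsCoh C ∧
        (IsZero C → Curv2.IsGloballyGenerated L) :=
      ⟨cokernel (ofSections L (fun σ : Γ(L, ⊤) => σ)), cokernel.π _, inferInstance,
        fun s => Groth.Agent.Lib.CurveGlobGen54.comp_cokernel_ofSections_eq_zero L s,
        Groth.Agent.Lib.H90OXModExact.isCoh_cokernel _ hLc,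
        fun hZ => ⟨Γ(L, ⊤), ofSections L (fun σ : Γ(L, ⊤) => σ), Preadditive.epi_of_isZero_cokernel _ hZ⟩⟩
    have hZ : IsZero C := by
      by_contra hnz
      have hne : (CohB1.support C).Nonempty := by
        by_contra hemp
        apply hnz
        apply Groth.Agent.Lib.H90QCohLocalization.isZero_of_stalks
        intro y
        by_contra hy
        exact hemp ⟨y, hy⟩
      haveI : C.IsFiniteType := hCc.2
      have hcl : IsClosed (CohB1.support C) := Groth.Agent.Lib.ModStalk.isClosed_support_of_isFiniteType _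
      have : JacobsonSpace X := LocallyOfFiniteType.jacobsonSpace (X ↘ Spec (CommRingCat.of k))
      obtain ⟨P, hPC, hP⟩ := nonempty_inter_closedPoints hne hcl.isLocallyClosed
      have hP' : IsClosed ({P} : Set X) := hP
      obtain ⟨x, hx⟩ := (finrank_H0_idealMod_tensor_succ_eq_iff H HS V k X hdim hL P hP').1 (hall P hP')
      obtain ⟨st, hst⟩ : ∃ st : Coh.structureModule X ⟶ (tensorRightFunctor L).obj (Coh.structureModule X),
          st = ofSection (Groth.Agent.Lib.H4Twist.h0Equiv _ x) := ⟨_, rfl⟩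
      obtain ⟨u, hu⟩ : ∃ e : (tensorRightFunctor L).obj (Coh.structureModule X) ≅ L, e = leftUnitor L :=
        ⟨_, rfl⟩
      have h3 : (st ≫ u.hom) ≫ u.inv = st := by rw [Category.assoc, Iso.hom_inv_id, Category.comp_id]
      have hkey := comp_toSubscheme_eq_zero H HS V k X hdim hL P hP' (st ≫ u.hom) q (hkill _) hCc hPC
      have hkey' : st ≫ (tensorRightFunctor L).map
          (ClSub.toSubscheme (Scheme.IdealSheafData.vanishingIdeal (⟨{P}, hP'⟩ : Closeds X))) = 0 := by
        rw [← h3]
        subst hu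
        exact hkey
      apply hx
      have h1 : sec (st ≫ (tensorRightFunctor L).map
          (ClSub.toSubscheme (Scheme.IdealSheafData.vanishingIdeal (⟨{P}, hP'⟩ : Closeds X)))) = 0 := by
        rw [hkey']
        change (0 : Coh.structureModule X ⟶ _).app ⊤ _ = 0
        rw [Scheme.Modules.Hom.zero_app]
        rfl
      have h2 : sec (st ≫ (tensorRightFunctor L).map
          (ClSub.toSubscheme (Scheme.IdealSheafData.vanishingIdeal (⟨{P}, hP'⟩ : Closeds X)))) =
          ((tensorRightFunctor L).map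
          (ClSub.toSubscheme (Scheme.IdealSheafData.vanishingIdeal (⟨{P}, hP'⟩ : Closeds X)))).app ⊤ (sec st) := rfl
      rw [h2, hst, sec_ofSection, ← Groth.Agent.Lib.H4Twist.h0Equiv_map] at h1
      exact (Groth.Agent.Lib.H4Twist.h0Equiv _).map_eq_zero_iff.mp h1
    exact hback hZ

end Crit

end Groth.Agent.Lib.CurveBpfCrit54
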