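import Groth.Agent.Lib.AgreeNbhd
import Mathlib.AlgebraicGeometry.SpreadingOut
import Mathlib.AlgebraicGeometry.Birational.RationalMap

/-!
Uniqueness of spreading out without germ-injectivity (EGA I 6.5.1 (ii); the TODO in Mathlib's
`SpreadingOut.lean`): two `S`-morphisms `X ⟶ Y` with `Y` locally of finite type over `S` which agree
on `Spec 𝒪_{X,x}` agree on an open neighbourhood of `x`.  Consequence for rational maps.
-/

set_option autoImplicit false
universe u

open AlgebraicGeometry CategoryTheory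

namespace Groth.Agent.Lib.SpreadOutLFT

/-- For a finite type ring map `a : R0 → R1` there is a finite set of elements of `R1` such that two
ring maps out of `R1` agreeing on `R0` and on this set are equal. -/
theorem exists_finset_ringHom_ext {R0 R1 : Type u} [CommRing R0] [CommRing R1]
    (a : R0 →+* R1) (ha : a.FiniteType) :
    ∃ s : Finset R1, ∀ (R' : Type u) [CommRing R'] (φ γ : R1 →+* R'), φ.comp a = γ.comp a →
      (∀ t ∈ s, φ t = γ t) → φ = γ := by
  classical
  let _ := a.toAlgebra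
  obtain ⟨s, hs⟩ := (ha : Algebra.FiniteType R0 R1).out
  refine ⟨s, ?_⟩
  intro R' _ φ γ hφγ hst
  let _ : Algebra R0 R' := (φ.comp a).toAlgebra
  let φ' : R1 →ₐ[R0] R' := { φ with commutes' := fun _ => rfl }
  let γ' : R1 →ₐ[R0] R' := { γ with
    commutes' := fun x => by
      show γ (a x) = φ (a x)
      have := congrArg (fun k => k x) hφγ
      simp only [RingHom.comp_apply] at this
      rw [this] }
  have : φ' = γ' := AlgHom.ext_of_adjoin_eq_top hs (fun t ht => hst t ht)
  ext t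
  exact congrArg (fun k => k t) this

/-- If `f` and `g` induce the same maps `Γ(Y, V) ⟶ Γ(X, U)` for an affine open `V`, they agree on
`U`. -/
theorem ι_comp_eq_of_appLE_eq {X Y : Scheme.{u}} (f g : X ⟶ Y) {V : Y.Opens} (hV : IsAffineOpen V)
    (U : X.Opens) (ef : U ≤ f ⁻¹ᵁ V) (eg : U ≤ g ⁻¹ᵁ V)
    (h : f.appLE V U ef = g.appLE V U eg) : U.ι ≫ f = U.ι ≫ g := by
  rw [← Scheme.Hom.resLE_comp_ι f ef, ← Scheme.Hom.resLE_comp_ι g eg]
  congr 1
  have : IsAffine V := hV
  apply ext_of_isAffine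
  rw [Scheme.Hom.appTop, Scheme.Hom.appTop, Scheme.Hom.resLE_app_top, Scheme.Hom.resLE_app_top, h]

/-- Uniqueness of spreading out without germ-injectivity, for morphisms over `S` into a scheme locally
of finite type over `S` (the TODO after `spread_out_unique_of_isGermInjective` in Mathlib;
EGA I 6.5.1 (ii)). -/
theorem spread_out_unique_of_locallyOfFiniteType {S X Y : Scheme.{u}} (p : Y ⟶ S)
    [LocallyOfFiniteType p] (f g : X ⟶ Y) (hfg : f ≫ p = g ≫ p) {x : X} (e : f x = g x)
    (H : f.stalkMap x =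
      Y.presheaf.stalkSpecializes (Inseparable.of_eq e.symm).specializes ≫ g.stalkMap x) :
    ∃ U : X.Opens, x ∈ U ∧ U.ι ≫ f = U.ι ≫ g := by
  classical
  obtain ⟨_, ⟨W, hW, rfl⟩, hsW, -⟩ := S.isBasis_affineOpens.exists_subset_of_mem_open
    (Set.mem_univ (p (f x))) isOpen_univ
  have hyW : f x ∈ p ⁻¹ᵁ W := hsW
  obtain ⟨_, ⟨V, hV, rfl⟩, hyV, hVW⟩ := Y.isBasis_affineOpens.exists_subset_of_mem_open hyW
    (p ⁻¹ᵁ W).isOpen
  have hxfg : x ∈ f ⁻¹ᵁ V ⊓ g ⁻¹ᵁ V := ⟨hyV, by show g x ∈ V; rw [← e]; exact hyV⟩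
  obtain ⟨_, ⟨U0, hU0, rfl⟩, hxU0, hU0fg⟩ := X.isBasis_affineOpens.exists_subset_of_mem_open hxfg
    (f ⁻¹ᵁ V ⊓ g ⁻¹ᵁ V).isOpen
  have eW : V ≤ p ⁻¹ᵁ W := hVW
  have ef : U0 ≤ f ⁻¹ᵁ V := fun z hz => (hU0fg hz).1
  have eg : U0 ≤ g ⁻¹ᵁ V := fun z hz => (hU0fg hz).2
  -- the two maps agree in the stalk
  have hgerm : f.appLE V U0 ef ≫ X.presheaf.germ U0 x hxU0 =
      g.appLE V U0 eg ≫ X.presheaf.germ U0 x hxU0 := by
    have hfx : f x ∈ V := ef hxU0
    have hgx : g x ∈ V := eg hxU0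
    simp only [Scheme.Hom.appLE, Category.assoc, X.presheaf.germ_res']
    rw [← Scheme.Hom.germ_stalkMap f V x hfx, ← Scheme.Hom.germ_stalkMap g V x hgx, H,
      TopCat.Presheaf.germ_stalkSpecializes_assoc]
  obtain ⟨s, hs⟩ := exists_finset_ringHom_ext (p.appLE W V eW).hom
    (LocallyOfFiniteType.finiteType_appLE p hW hV eW)
  -- neighbourhoods on which the generators agree
  have hnb : ∀ t : Γ(Y, V), ∃ (Ut : X.Opens) (_ : x ∈ Ut) (hle : Ut ≤ U0),
      X.presheaf.map (homOfLE hle).op ((f.appLE V U0 ef).hom t) =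
        X.presheaf.map (homOfLE hle).op ((g.appLE V U0 eg).hom t) := by
    intro t
    have h1 : X.presheaf.germ U0 x hxU0 ((f.appLE V U0 ef).hom t) =
        X.presheaf.germ U0 x hxU0 ((g.appLE V U0 eg).hom t) := by
      have := congrArg (fun k => k.hom t) hgerm
      simpa using this
    obtain ⟨Ut, hxUt, i1, i2, h2⟩ := X.presheaf.germ_eq x hxU0 hxU0 _ _ h1
    exact ⟨Ut, hxUt, i1.le, h2⟩
  choose Ut hxUt hUtle hUteq using hnb
  let U' : X.Opens := s.inf Ut ⊓ U0
  have hxU' : x ∈ U' := by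
    refine ⟨?_, hxU0⟩
    show x ∈ ((s.inf Ut : X.Opens) : Set X)
    rw [TopologicalSpace.Opens.coe_finset_inf]
    simpa using fun t _ => hxUt t
  have hU'le : U' ≤ U0 := inf_le_right
  refine ⟨U', hxU', ι_comp_eq_of_appLE_eq f g hV U' (hU'le.trans ef) (hU'le.trans eg) ?_⟩
  rw [← Scheme.Hom.appLE_map f ef (homOfLE hU'le).op, ← Scheme.Hom.appLE_map g eg (homOfLE hU'le).op]
  ext1
  rw [CommRingCat.hom_comp, CommRingCat.hom_comp]
  apply hs
  · rw [RingHom.comp_assoc, RingHom.comp_assoc]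
    congr 1
    rw [← CommRingCat.hom_comp, ← CommRingCat.hom_comp, Scheme.Hom.appLE_comp_appLE,
      Scheme.Hom.appLE_comp_appLE]
    exact congrArg _ (Groth.Agent.Lib.AgreeNbhd.appLE_congr_hom hfg W U0 _ _)
  · intro t ht
    have hle : U' ≤ Ut t := inf_le_left.trans (Finset.inf_le ht)
    have h3 := congrArg (X.presheaf.map (homOfLE hle).op) (hUteq t)
    simp only [RingHom.comp_apply]
    have hcomp : ∀ z : Γ(X, U0), X.presheaf.map (homOfLE hle).op
        (X.presheaf.map (homOfLE (hUtle t)).op z) = (X.presheaf.map (homOfLE hU'le).op).hom z := by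
      intro z
      rw [← CommRingCat.comp_apply, ← X.presheaf.map_comp]
      rfl
    rw [hcomp, hcomp] at h3
    exact h3


set_option backward.isDefEq.respectTransparency.types false in
/-- Variant of `spread_out_unique_of_locallyOfFiniteType` with the hypothesis phrased via
`Spec 𝒪_{X,x}`. -/
theorem spread_out_unique_of_locallyOfFiniteType' {S X Y : Scheme.{u}} (p : Y ⟶ S)
    [LocallyOfFiniteType p] (f g : X ⟶ Y) (hfg : f ≫ p = g ≫ p) {x : X}
    (e : X.fromSpecStalk x ≫ f = X.fromSpecStalk x ≫ g) :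
    ∃ U : X.Opens, x ∈ U ∧ U.ι ≫ f = U.ι ≫ g := by
  fapply spread_out_unique_of_locallyOfFiniteType p f g hfg
  · simpa using congr($e (IsLocalRing.closedPoint _))
  · apply Spec.map_injective
    rw [← cancel_mono (Y.fromSpecStalk _)]
    simpa [Scheme.SpecMap_stalkSpecializes_fromSpecStalk]

set_option backward.defeqAttrib.useBackward true in
set_option backward.isDefEq.respectTransparency false in
open Scheme in
/-- Two partial `S`-maps into a scheme locally of finite type over `S` inducing the same morphism on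
`Spec 𝒪_{X,x}` are equivalent (no germ-injectivity needed). -/
theorem equiv_of_fromSpecStalkOfMem_eq {S X Y : Scheme.{u}} [X.Over S] [Y.Over S]
    [IrreducibleSpace X] [LocallyOfFiniteType (Y ↘ S)] {x : X} (f g : X.PartialMap Y)
    [f.IsOver S] [g.IsOver S] (hxf : x ∈ f.domain) (hxg : x ∈ g.domain)
    (H : f.fromSpecStalkOfMem hxf = g.fromSpecStalkOfMem hxg) : f.equiv g := by
  have hdense : Dense ((f.domain ⊓ g.domain) : Set X) :=
    f.dense_domain.inter_of_isOpen_left g.dense_domain f.domain.2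
  have hover : (X.homOfLE inf_le_left ≫ f.hom) ≫ Y ↘ S =
      (X.homOfLE (inf_le_right : f.domain ⊓ g.domain ≤ g.domain) ≫ g.hom) ≫ Y ↘ S := by
    have h1 := (PartialMap.isOver_iff (S := S) (f := f)).1 inferInstance
    have h2 := (PartialMap.isOver_iff (S := S) (f := g)).1 inferInstance
    simp only [PartialMap.compHom_hom] at h1 h2
    rw [Category.assoc, Category.assoc, h1, h2, Scheme.homOfLE_ι_assoc, Scheme.homOfLE_ι_assoc]
  have := spread_out_unique_of_locallyOfFiniteType' (X := (f.domain ⊓ g.domain).toScheme) (Y ↘ S)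
    (X.homOfLE inf_le_left ≫ f.hom) (X.homOfLE inf_le_right ≫ g.hom) hover (x := ⟨x, hxf, hxg⟩) ?_
  · obtain ⟨U, hxU, e⟩ := this
    refine ⟨(f.domain ⊓ g.domain).ι ''ᵁ U, ((f.domain ⊓ g.domain).ι ''ᵁ U).2.dense
      ⟨_, ⟨_, hxU, rfl⟩⟩,
      ((Set.image_subset_range _ _).trans_eq (Subtype.range_val)).trans inf_le_left,
      ((Set.image_subset_range _ _).trans_eq (Subtype.range_val)).trans inf_le_right, ?_⟩
    rw [← cancel_epi (Scheme.Hom.isoImage _ _).hom]
    simp only [PartialMap.restrict_hom, ← Category.assoc] at e ⊢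
    convert! e using 2 <;> rw [← cancel_mono (Scheme.Opens.ι _)] <;> simp
  · rw [← f.fromSpecStalkOfMem_restrict hdense inf_le_left ⟨hxf, hxg⟩,
      ← g.fromSpecStalkOfMem_restrict hdense inf_le_right ⟨hxf, hxg⟩] at H
    simpa only [PartialMap.fromSpecStalkOfMem, PartialMap.restrict_domain,
      Opens.fromSpecStalkOfMem, Spec.map_inv,
      PartialMap.restrict_hom, Category.assoc, IsIso.eq_inv_comp, IsIso.hom_inv_id_assoc] using H

end Groth.Agent.Lib.SpreadOutLFT
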