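import Mathlib
import Groth.Agent.S7659

/-!
# Extending a morphism across a point whose local ring is a valuation ring

* `exists_glue_iSup`: gluing morphisms defined on a family of opens of `X` agreeing on overlaps,
  to a morphism on the union.
* `genPt x`: the image in `X` of the generic point of `Spec O_{X,x}` (`O_{X,x}` a domain).
* `exists_isIntegral_nbhd`: a germ-injective point with domain stalk has an integral affine open
  neighbourhood.
* `exists_extension`: the core extension lemma (given a lift `Spec O_{X,x} ⟶ Y`).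
* `exists_extension_of_existence`: the extension lemma under the valuative criterion.
* `exists_glue_extensions`: gluing extensions over a set of points.
-/

set_option autoImplicit false

universe u

open CategoryTheory CategoryTheory.Limits AlgebraicGeometry TopologicalSpace

namespace Groth.Agent.Lib.ExtVal

section glue

variable {X Z : Scheme.{u}} {ι : Type u} (U : ι → X.Opens)

/-- Gluing morphisms on a family of opens, agreeing on pairwise intersections, to the union. -/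
theorem exists_glue_iSup (g : ∀ i, ((U i : X.Opens) : Scheme.{u}) ⟶ Z)
    (hg : ∀ i j, X.homOfLE (inf_le_left : U i ⊓ U j ≤ U i) ≫ g i =
      X.homOfLE (inf_le_right : U i ⊓ U j ≤ U j) ≫ g j) :
    ∃ h : ((⨆ i, U i : X.Opens) : Scheme.{u}) ⟶ Z, ∀ i, X.homOfLE (le_iSup U i) ≫ h = g i := by
  have compat : ∀ i j : ι, pullback.fst (X.homOfLE (le_iSup U i)) (X.homOfLE (le_iSup U j)) ≫ g i =
      pullback.snd (X.homOfLE (le_iSup U i)) (X.homOfLE (le_iSup U j)) ≫ g j := by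
    intro i j
    let P := pullback (X.homOfLE (le_iSup U i)) (X.homOfLE (le_iSup U j))
    let a : P ⟶ X := pullback.fst (X.homOfLE (le_iSup U i)) (X.homOfLE (le_iSup U j)) ≫ (U i).ι
    have ha : a = pullback.snd (X.homOfLE (le_iSup U i)) (X.homOfLE (le_iSup U j)) ≫ (U j).ι := by
      have h1 : X.homOfLE (le_iSup U i) ≫ (⨆ i, U i : X.Opens).ι = (U i).ι := X.homOfLE_ι _
      have h2 : X.homOfLE (le_iSup U j) ≫ (⨆ i, U i : X.Opens).ι = (U j).ι := X.homOfLE_ι _
      change pullback.fst (X.homOfLE (le_iSup U i)) (X.homOfLE (le_iSup U j)) ≫ (U i).ι = _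
      rw [← h1, ← h2, pullback.condition_assoc]
    have hle : Set.range a ⊆ Set.range (U i ⊓ U j).ι := by
      rw [Scheme.Opens.range_ι]
      rintro _ ⟨z, rfl⟩
      refine ⟨?_, ?_⟩
      · change (pullback.fst (X.homOfLE (le_iSup U i)) (X.homOfLE (le_iSup U j)) ≫ (U i).ι) z ∈ U i
        rw [Scheme.Hom.comp_apply]
        exact (pullback.fst (X.homOfLE (le_iSup U i)) (X.homOfLE (le_iSup U j)) z).2
      · rw [ha, Scheme.Hom.comp_apply]
        exact (pullback.snd (X.homOfLE (le_iSup U i)) (X.homOfLE (le_iSup U j)) z).2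
    let l : P ⟶ (U i ⊓ U j : X.Opens) := IsOpenImmersion.lift (U i ⊓ U j).ι a hle
    have hl : l ≫ (U i ⊓ U j).ι = a := IsOpenImmersion.lift_fac _ _ _
    have h1 : pullback.fst (X.homOfLE (le_iSup U i)) (X.homOfLE (le_iSup U j)) =
        l ≫ X.homOfLE inf_le_left := by
      rw [← cancel_mono (U i).ι, Category.assoc, X.homOfLE_ι, hl]
    have h2 : pullback.snd (X.homOfLE (le_iSup U i)) (X.homOfLE (le_iSup U j)) =
        l ≫ X.homOfLE inf_le_right := by
      rw [← cancel_mono (U j).ι, Category.assoc, X.homOfLE_ι, hl, ha]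
    rw [h1, h2, Category.assoc, Category.assoc, hg i j]
  exact ⟨(Scheme.Opens.iSupOpenCover U).glueMorphisms g compat,
    fun i => (Scheme.Opens.iSupOpenCover U).ι_glueMorphisms g compat i⟩

end glue

section genPt

variable {X : Scheme.{u}} (x : X) [IsDomain (X.presheaf.stalk x)]

/-- The generic point of `Spec O_{X,x}`. -/
noncomputable def botPt : ↥(Spec (X.presheaf.stalk x)) := ⟨⊥, Ideal.isPrime_bot⟩

/-- The image in `X` of the generic point of `Spec O_{X,x}`. -/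
noncomputable def genPt : X := X.fromSpecStalk x (botPt x)

lemma botPt_specializes (P : ↥(Spec (X.presheaf.stalk x))) : botPt x ⤳ P :=
  (PrimeSpectrum.le_iff_specializes _ _).mp (bot_le (a := P.asIdeal))

lemma genPt_specializes : genPt x ⤳ x := by
  have h := (botPt_specializes x (IsLocalRing.closedPoint _)).map (X.fromSpecStalk x).continuous
  rwa [Scheme.fromSpecStalk_closedPoint] at h

lemma genPt_specializes_of_mem (W₀ : X.Opens) [IsIntegral W₀] (hx : x ∈ W₀) {y : X}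
    (hy : y ∈ W₀) : genPt x ⤳ y := by
  have hgen := genericPoint_spec (W₀ : Scheme.{u})
  have h1 : W₀.ι (genericPoint W₀) ⤳ x := by
    have := (hgen.specializes (y := (⟨x, hx⟩ : W₀)) trivial).map W₀.ι.continuous
    exact this
  have h2 : W₀.ι (genericPoint W₀) ∈ Set.range (X.fromSpecStalk x) := by
    rw [Scheme.range_fromSpecStalk]; exact h1
  obtain ⟨P, hP⟩ := h2
  have h3 : genPt x ⤳ W₀.ι (genericPoint W₀) := by
    rw [← hP]
    exact (botPt_specializes x P).map (X.fromSpecStalk x).continuous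
  have h4 : W₀.ι (genericPoint W₀) ⤳ y := by
    have := (hgen.specializes (y := (⟨y, hy⟩ : W₀)) trivial).map W₀.ι.continuous
    exact this
  exact h3.trans h4

lemma genPt_mem_of_mem_closure (W₀ : X.Opens) [IsIntegral W₀] (hx : x ∈ W₀) (U : X.Opens)
    (hxU : x ∈ closure (U : Set X)) : genPt x ∈ U := by
  obtain ⟨y, hyW, hyU⟩ := mem_closure_iff.mp hxU W₀ W₀.2 hx
  exact (genPt_specializes_of_mem x W₀ hx hyW).mem_open U.2 hyU

lemma SpecMap_algebraMap_apply {K : Type u} [Field K] [Algebra (X.presheaf.stalk x) K]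
    (hinj : Function.Injective (algebraMap (X.presheaf.stalk x) K))
    (z : ↥(Spec (CommRingCat.of K))) :
    Spec.map (CommRingCat.ofHom (algebraMap (X.presheaf.stalk x) K)) z = botPt x := by
  apply PrimeSpectrum.ext
  change Ideal.comap (algebraMap (X.presheaf.stalk x) K) z.asIdeal = ⊥
  have hz : z.asIdeal = ⊥ := Ideal.eq_bot_of_prime z.asIdeal
  rw [hz, Ideal.comap_bot_of_injective _ hinj]

end genPt

section nbhd

variable {X : Scheme.{u}}

/-- A point with domain stalk at which `X` is germ-injective has an integral affine open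
neighbourhood. -/
theorem exists_isIntegral_nbhd (x : X) [X.IsGermInjectiveAt x] [IsDomain (X.presheaf.stalk x)] :
    ∃ W : X.Opens, x ∈ W ∧ IsAffineOpen W ∧ IsIntegral W := by
  obtain ⟨W, hxW, hW, hinj⟩ := X.exists_germ_injective x
  refine ⟨W, hxW, hW, ?_⟩
  have h1 : IsDomain Γ(X, W) := hinj.isDomain (X.presheaf.germ W x hxW).hom
  have h2 : IsDomain Γ(W, ⊤) := MulEquiv.isDomain Γ(X, W) (W.topIso.commRingCatIsoToRingEquiv).toMulEquiv
  have : IsAffine W := hW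
  have : Nonempty W := ⟨⟨x, hxW⟩⟩
  exact isIntegral_of_isAffine_of_isDomain _

end nbhd

section two

variable {X Z : Scheme.{u}}

/-- Gluing two morphisms agreeing on the intersection. -/
theorem exists_glue_two (U W : X.Opens) (f : (U : Scheme.{u}) ⟶ Z) (g : (W : Scheme.{u}) ⟶ Z)
    (h : X.homOfLE (inf_le_left : U ⊓ W ≤ U) ≫ f = X.homOfLE (inf_le_right : U ⊓ W ≤ W) ≫ g) :
    ∃ (U' : X.Opens) (hU : U ≤ U') (hW : W ≤ U') (k : (U' : Scheme.{u}) ⟶ Z),
      X.homOfLE hU ≫ k = f ∧ X.homOfLE hW ≫ k = g ∧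
      ∀ {T : Scheme.{u}} (a b : (U' : Scheme.{u}) ⟶ T), X.homOfLE hU ≫ a = X.homOfLE hU ≫ b →
        X.homOfLE hW ≫ a = X.homOfLE hW ≫ b → a = b := by
  let fam : ULift.{u} Bool → X.Opens := fun b => if b.down then U else W
  let gg : ∀ b : ULift.{u} Bool, ((fam b : X.Opens) : Scheme.{u}) ⟶ Z := fun b =>
    match b with
    | ⟨true⟩ => f
    | ⟨false⟩ => g
  have hgg : ∀ i j, X.homOfLE (inf_le_left : fam i ⊓ fam j ≤ fam i) ≫ gg i =
      X.homOfLE (inf_le_right : fam i ⊓ fam j ≤ fam j) ≫ gg j := by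
    rintro ⟨_ | _⟩ ⟨_ | _⟩
    · rfl
    · change X.homOfLE (inf_le_left : W ⊓ U ≤ W) ≫ g = X.homOfLE (inf_le_right : W ⊓ U ≤ U) ≫ f
      have e1 : X.homOfLE (inf_le_left : W ⊓ U ≤ W) =
          X.homOfLE (le_of_eq (inf_comm W U) : W ⊓ U ≤ U ⊓ W) ≫ X.homOfLE (inf_le_right : U ⊓ W ≤ W) :=
        (X.homOfLE_homOfLE _ _).symm
      have e2 : X.homOfLE (inf_le_right : W ⊓ U ≤ U) =
          X.homOfLE (le_of_eq (inf_comm W U) : W ⊓ U ≤ U ⊓ W) ≫ X.homOfLE (inf_le_left : U ⊓ W ≤ U) :=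
        (X.homOfLE_homOfLE _ _).symm
      rw [e1, e2, Category.assoc, Category.assoc, h]
    · exact h
    · rfl
  obtain ⟨k, hk⟩ := exists_glue_iSup fam gg hgg
  refine ⟨⨆ b, fam b, le_iSup fam ⟨true⟩, le_iSup fam ⟨false⟩, k, hk ⟨true⟩, hk ⟨false⟩, ?_⟩
  intro T a b h1 h2
  refine (Scheme.Opens.iSupOpenCover fam).hom_ext _ _ ?_
  rintro ⟨_ | _⟩
  · exact h2
  · exact h1

end two

section core

variable {X Y S : Scheme.{u}} (p : X ⟶ S) (q : Y ⟶ S) [IsSeparated q] [LocallyOfFiniteType q]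

/-- Core extension lemma: `x` a point of `X` with an integral open neighbourhood `W₀` and domain
stalk, `f : U ⟶ Y` over `S` defined at the generic point of `Spec O_{X,x}` (through `ξU`), and
`φ : Spec O_{X,x} ⟶ Y` over `S` agreeing with `f` at the generic point. Then `f` extends to an
open containing `U` and `x`. -/
theorem exists_extension (x : X) (U : X.Opens) (f : (U : Scheme.{u}) ⟶ Y) (hf : f ≫ q = U.ι ≫ p)
    (W₀ : X.Opens) [IsIntegral W₀] (hxW₀ : x ∈ W₀)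
    [IsDomain (X.presheaf.stalk x)]
    {K : Type u} [Field K] [Algebra (X.presheaf.stalk x) K]
    (hinj : Function.Injective (algebraMap (X.presheaf.stalk x) K))
    (ξU : Spec (CommRingCat.of K) ⟶ U)
    (hξ : ξU ≫ U.ι =
      Spec.map (CommRingCat.ofHom (algebraMap (X.presheaf.stalk x) K)) ≫ X.fromSpecStalk x)
    (φ : Spec (X.presheaf.stalk x) ⟶ Y) (hφ1 : φ ≫ q = X.fromSpecStalk x ≫ p)
    (hφ2 : Spec.map (CommRingCat.ofHom (algebraMap (X.presheaf.stalk x) K)) ≫ φ = ξU ≫ f) :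
    ∃ (U' : X.Opens) (hUU' : U ≤ U'), x ∈ U' ∧
      ∃ f' : (U' : Scheme.{u}) ⟶ Y, f' ≫ q = U'.ι ≫ p ∧ X.homOfLE hUU' ≫ f' = f := by
  -- germ-injectivity at `x`
  have hgi : X.IsGermInjectiveAt x := by
    have h0 : (W₀ : Scheme.{u}).IsGermInjectiveAt ⟨x, hxW₀⟩ := inferInstance
    exact (inferInstance : X.IsGermInjectiveAt (W₀.ι ⟨x, hxW₀⟩))
  obtain ⟨W', hxW', f₁, hf₁φ, hf₁⟩ := spread_out_of_isGermInjective' p q φ hφ1
  let W : X.Opens := W' ⊓ W₀
  have hxW : x ∈ W := ⟨hxW', hxW₀⟩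
  let f₂ : (W : Scheme.{u}) ⟶ Y := X.homOfLE (inf_le_left : W ≤ W') ≫ f₁
  have hf₂ : f₂ ≫ q = W.ι ≫ p := by
    change (X.homOfLE (inf_le_left : W ≤ W') ≫ f₁) ≫ q = _
    rw [Category.assoc, hf₁, X.homOfLE_ι_assoc]
  let Z : X.Opens := U ⊓ W
  let ξ : Spec (CommRingCat.of K) ⟶ X := ξU ≫ U.ι
  have hξpt : ∀ z, ξ z = genPt x := by
    intro z
    change (ξU ≫ U.ι) z = _
    rw [hξ, Scheme.Hom.comp_apply, SpecMap_algebraMap_apply x hinj z]
    rfl
  have hξrange : Set.range ξ ⊆ Set.range Z.ι := by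
    rw [Scheme.Opens.range_ι]
    rintro _ ⟨z, rfl⟩
    refine ⟨?_, ?_⟩
    · change (ξU ≫ U.ι) z ∈ U
      rw [Scheme.Hom.comp_apply]
      exact (ξU z).2
    · rw [hξpt z]
      exact (genPt_specializes x).mem_open W.2 hxW
  let ξZ : Spec (CommRingCat.of K) ⟶ Z := IsOpenImmersion.lift Z.ι ξ hξrange
  have hξZ : ξZ ≫ Z.ι = ξ := IsOpenImmersion.lift_fac _ _ _
  have hZW₀ : Z ≤ W₀ := inf_le_right.trans inf_le_right
  have hdomn : IsDominant ξZ := by
    refine ⟨fun z' => ?_⟩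
    let z₀ : ↥(Spec (CommRingCat.of K)) := ⟨⊥, Ideal.isPrime_bot⟩
    have h1 : Z.ι (ξZ z₀) = genPt x := by
      rw [← Scheme.Hom.comp_apply, hξZ]; exact hξpt z₀
    have h2 : Z.ι (ξZ z₀) ⤳ Z.ι z' := by
      rw [h1]
      exact genPt_specializes_of_mem x W₀ hxW₀ (hZW₀ z'.2)
    have h3 : ξZ z₀ ⤳ z' := (Z.ι.isEmbedding.isInducing.specializes_iff).mp h2
    have h4 : ({ξZ z₀} : Set ↥(Z : Scheme.{u})) ⊆ Set.range ξZ :=
      Set.singleton_subset_iff.mpr ⟨z₀, rfl⟩
    exact closure_mono h4 (specializes_iff_mem_closure.mp h3)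
  have hred : IsReduced Z := isReduced_of_isOpenImmersion (X.homOfLE hZW₀)
  have hagree : X.homOfLE (inf_le_left : Z ≤ U) ≫ f = X.homOfLE (inf_le_right : Z ≤ W) ≫ f₂ := by
    refine ext_of_isDominant_of_isSeparated q ?_ ξZ ?_
    · rw [Category.assoc, Category.assoc, hf, hf₂, X.homOfLE_ι_assoc, X.homOfLE_ι_assoc]
    · have e1 : ξZ ≫ X.homOfLE (inf_le_left : Z ≤ U) = ξU := by
        rw [← cancel_mono U.ι, Category.assoc, X.homOfLE_ι, hξZ]
      have e2 : ξZ ≫ X.homOfLE (inf_le_right : Z ≤ W) ≫ X.homOfLE (inf_le_left : W ≤ W') =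
          Spec.map (CommRingCat.ofHom (algebraMap (X.presheaf.stalk x) K)) ≫
            W'.fromSpecStalkOfMem x hxW' := by
        rw [← cancel_mono W'.ι, Category.assoc, Category.assoc, X.homOfLE_ι, X.homOfLE_ι, hξZ,
          Category.assoc, Scheme.Opens.fromSpecStalkOfMem_ι]
        exact hξ
      rw [reassoc_of% e1]
      change _ = ξZ ≫ X.homOfLE (inf_le_right : Z ≤ W) ≫ X.homOfLE (inf_le_left : W ≤ W') ≫ f₁
      rw [reassoc_of% e2, ← hf₁φ, hφ2]
  obtain ⟨U', hU, hW, k, hk1, hk2, hext⟩ := exists_glue_two U W f f₂ hagree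
  refine ⟨U', hU, hW hxW, k, ?_, hk1⟩
  refine hext _ _ ?_ ?_
  · rw [reassoc_of% hk1, hf, X.homOfLE_ι_assoc]
  · rw [reassoc_of% hk2, hf₂, X.homOfLE_ι_assoc]

end core

section existence

variable {X Y S : Scheme.{u}} (p : X ⟶ S) (q : Y ⟶ S) [IsSeparated q] [LocallyOfFiniteType q]

/-- The extension lemma when `q` satisfies the existence part of the valuative criterion. -/
theorem exists_extension_of_existence (hq : ValuativeCriterion.Existence q)
    (x : X) (U : X.Opens) (f : (U : Scheme.{u}) ⟶ Y) (hf : f ≫ q = U.ι ≫ p)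
    (hxU : x ∈ closure (U : Set X)) [X.IsGermInjectiveAt x]
    (hdom : IsDomain (X.presheaf.stalk x)) (hval : @ValuationRing (X.presheaf.stalk x) _ hdom) :
    ∃ (U' : X.Opens) (hUU' : U ≤ U'), x ∈ U' ∧
      ∃ f' : (U' : Scheme.{u}) ⟶ Y, f' ≫ q = U'.ι ≫ p ∧ X.homOfLE hUU' ≫ f' = f := by
  obtain ⟨W₀, hxW₀, -, hW₀⟩ := exists_isIntegral_nbhd x
  let R : Type u := X.presheaf.stalk x
  let K : Type u := FractionRing R
  have hinj : Function.Injective (algebraMap R K) := IsFractionRing.injective R K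
  let ξ : Spec (CommRingCat.of K) ⟶ X :=
    Spec.map (CommRingCat.ofHom (algebraMap R K)) ≫ X.fromSpecStalk x
  have hgU : genPt x ∈ U := genPt_mem_of_mem_closure x W₀ hxW₀ U hxU
  have hξrange : Set.range ξ ⊆ Set.range U.ι := by
    rw [Scheme.Opens.range_ι]
    rintro _ ⟨z, rfl⟩
    change (Spec.map (CommRingCat.ofHom (algebraMap R K)) ≫ X.fromSpecStalk x) z ∈ U
    rw [Scheme.Hom.comp_apply, SpecMap_algebraMap_apply x hinj z]
    exact hgU
  let ξU : Spec (CommRingCat.of K) ⟶ U := IsOpenImmersion.lift U.ι ξ hξrange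
  have hξU : ξU ≫ U.ι = ξ := IsOpenImmersion.lift_fac _ _ _
  let i₂ : Spec (CommRingCat.of R) ⟶ S := X.fromSpecStalk x ≫ p
  have hsq : CommSq (ξU ≫ f) (Spec.map (CommRingCat.ofHom (algebraMap R K))) q i₂ := by
    refine ⟨?_⟩
    rw [Category.assoc, hf, reassoc_of% hξU]
    rfl
  let Sq : ValuativeCommSq q :=
    { R := R, K := K, i₁ := ξU ≫ f, i₂ := i₂, commSq := hsq }
  obtain ⟨⟨l⟩⟩ := hq Sq
  let φ : Spec (X.presheaf.stalk x) ⟶ Y := l.l
  have hφ1 : φ ≫ q = X.fromSpecStalk x ≫ p := l.fac_right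
  have hφ2 : Spec.map (CommRingCat.ofHom (algebraMap R K)) ≫ φ = ξU ≫ f := l.fac_left
  exact exists_extension p q x U f hf W₀ hxW₀ hinj ξU hξU φ hφ1 hφ2

end existence

section family

variable {Y X S : Scheme.{u}} (p : X ⟶ S) [IsSeparated p] (q : Y ⟶ S) [IsReduced Y]

/-- Two extensions of `g : V ⟶ X` (over `S`, `V` dense in the reduced `Y`, `X` separated over
`S`) agree on the intersection of their domains. -/
theorem extensions_agree (V : Y.Opens) (hV : Dense (V : Set Y)) (g : (V : Scheme.{u}) ⟶ X)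
    (U₁ U₂ : Y.Opens) (h₁ : V ≤ U₁) (h₂ : V ≤ U₂)
    (g₁ : (U₁ : Scheme.{u}) ⟶ X) (g₂ : (U₂ : Scheme.{u}) ⟶ X)
    (hg₁ : g₁ ≫ p = U₁.ι ≫ q) (hg₂ : g₂ ≫ p = U₂.ι ≫ q)
    (e₁ : Y.homOfLE h₁ ≫ g₁ = g) (e₂ : Y.homOfLE h₂ ≫ g₂ = g) :
    Y.homOfLE (inf_le_left : U₁ ⊓ U₂ ≤ U₁) ≫ g₁ = Y.homOfLE (inf_le_right : U₁ ⊓ U₂ ≤ U₂) ≫ g₂ := by
  have hred : IsReduced (U₁ ⊓ U₂ : Y.Opens) := isReduced_of_isOpenImmersion (U₁ ⊓ U₂).ι
  have hVT : V ≤ U₁ ⊓ U₂ := le_inf h₁ h₂
  have hdomn : IsDominant (Y.homOfLE hVT) := Opens.isDominant_homOfLE hV hVT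
  refine ext_of_isDominant_of_isSeparated p ?_ (Y.homOfLE hVT) ?_
  · rw [Category.assoc, Category.assoc, hg₁, hg₂, Y.homOfLE_ι_assoc, Y.homOfLE_ι_assoc]
  · rw [← Category.assoc, ← Category.assoc, Y.homOfLE_homOfLE, Y.homOfLE_homOfLE, e₁, e₂]

/-- Gluing extensions of `g : V ⟶ X` given around each point of a set `D`. -/
theorem exists_glue_extensions (V : Y.Opens) (hV : Dense (V : Set Y)) (g : (V : Scheme.{u}) ⟶ X)
    (hg : g ≫ p = V.ι ≫ q) (D : Set Y)
    (H : ∀ y ∈ D, ∃ (U' : Y.Opens) (hVU : V ≤ U'), y ∈ U' ∧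
      ∃ g' : (U' : Scheme.{u}) ⟶ X, g' ≫ p = U'.ι ≫ q ∧ Y.homOfLE hVU ≫ g' = g) :
    ∃ (U : Y.Opens) (hVU : V ≤ U) (g' : (U : Scheme.{u}) ⟶ X),
      g' ≫ p = U.ι ≫ q ∧ Y.homOfLE hVU ≫ g' = g ∧ ∀ y ∈ D, y ∈ U := by
  classical
  choose Uy hVUy hyU gy hgy1 hgy2 using H
  let fam : Option D → Y.Opens := fun o =>
    match o with
    | none => V
    | some y => Uy y.1 y.2
  have hVfam : ∀ o, V ≤ fam o := by
    rintro (_ | y)
    · exact le_rfl
    · exact hVUy y.1 y.2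
  let gg : ∀ o : Option D, ((fam o : Y.Opens) : Scheme.{u}) ⟶ X := fun o =>
    match o with
    | none => g
    | some y => gy y.1 y.2
  have hgg1 : ∀ o, gg o ≫ p = (fam o).ι ≫ q := by
    rintro (_ | y)
    · exact hg
    · exact hgy1 y.1 y.2
  have hgg2 : ∀ o, Y.homOfLE (hVfam o) ≫ gg o = g := by
    rintro (_ | y)
    · change Y.homOfLE (le_refl V) ≫ g = g
      rw [Y.homOfLE_rfl, Category.id_comp]
    · exact hgy2 y.1 y.2
  obtain ⟨k, hk⟩ := exists_glue_iSup fam gg fun i j =>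
    extensions_agree p q V hV g (fam i) (fam j) (hVfam i) (hVfam j) (gg i) (gg j)
      (hgg1 i) (hgg1 j) (hgg2 i) (hgg2 j)
  refine ⟨⨆ o, fam o, le_iSup fam none, k, ?_, ?_, ?_⟩
  · refine (Scheme.Opens.iSupOpenCover fam).hom_ext _ _ fun o => ?_
    change Y.homOfLE (le_iSup fam o) ≫ k ≫ p = Y.homOfLE (le_iSup fam o) ≫ (⨆ o, fam o).ι ≫ q
    rw [reassoc_of% (hk o), hgg1 o, Y.homOfLE_ι_assoc]
  · exact (hk none).trans rfl
  · intro y hy
    exact Opens.mem_iSup.mpr ⟨some ⟨y, hy⟩, hyU y hy⟩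

end family

end Groth.Agent.Lib.ExtVal
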