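import Mathlib
import Groth.Agent.Lib.ExtVal
import Groth.Agent.Lib.RegularLocal
import Groth.Agent.Lib.RegularDimOne

/-!
# Extension of rational maps over points of codimension at most one

* `valuationRing_of_regular_of_dim_le_one`: a regular local ring of dimension `≤ 1` is a
  valuation ring.
* `exists_extension_codim_one`: on a reduced locally Noetherian scheme whose local rings of
  dimension `≤ 1` are regular, a morphism from a dense open to a scheme satisfying the existence
  part of the valuative criterion (separated, locally of finite type) extends over all points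
  of codimension `≤ 1`.
-/

set_option autoImplicit false

universe u

open CategoryTheory CategoryTheory.Limits AlgebraicGeometry TopologicalSpace

namespace Groth.Agent.Lib.ExtVal

/-- A regular local ring of dimension at most one is a valuation ring. -/
theorem valuationRing_of_regular_of_dim_le_one (R : Type u) [CommRing R] [IsRegularLocalRing R]
    (h : ringKrullDim R ≤ 1) : ∃ hdom : IsDomain R, @ValuationRing R _ hdom := by
  have hdom : IsDomain R := Groth.Agent.Lib.RegularLocal.isDomain R
  have hpid : IsPrincipalIdealRing R :=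
    Groth.Agent.Lib.RegularDimOne.isPrincipalIdealRing_of_regular_of_dim_le_one R h
  exact ⟨hdom, inferInstance⟩

/-- Extension over all points of codimension at most one. -/
theorem exists_extension_codim_one {S X Y : Scheme.{u}}
    (p : X ⟶ S) [IsSeparated p] [LocallyOfFiniteType p] (hp : ValuativeCriterion.Existence p)
    (q : Y ⟶ S) [IsLocallyNoetherian Y] [IsReduced Y]
    (hreg : ∀ y : Y, ringKrullDim (Y.presheaf.stalk y) ≤ 1 →
      IsRegularLocalRing (Y.presheaf.stalk y))
    (V : Y.Opens) (hV : Dense (V : Set Y)) (g : (V : Scheme.{u}) ⟶ X) (hg : g ≫ p = V.ι ≫ q) :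
    ∃ (U : Y.Opens) (hVU : V ≤ U) (g' : (U : Scheme.{u}) ⟶ X),
      g' ≫ p = U.ι ≫ q ∧ Y.homOfLE hVU ≫ g' = g ∧
        ∀ y : Y, ringKrullDim (Y.presheaf.stalk y) ≤ 1 → y ∈ U := by
  refine exists_glue_extensions p q V hV g hg {y | ringKrullDim (Y.presheaf.stalk y) ≤ 1} ?_
  intro y hy
  have hR : IsRegularLocalRing (Y.presheaf.stalk y) := hreg y hy
  obtain ⟨hdom, hval⟩ := valuationRing_of_regular_of_dim_le_one (Y.presheaf.stalk y) hy
  exact exists_extension_of_existence q p hp y V g hg (hV y) hdom hval

/-- A Noetherian integrally closed local domain of dimension at most one is a valuation ring. -/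
theorem valuationRing_of_isIntegrallyClosed_of_dim_le_one (R : Type u) [CommRing R] [IsDomain R]
    [IsLocalRing R] [IsNoetherianRing R] [IsIntegrallyClosed R] (h : ringKrullDim R ≤ 1) :
    ValuationRing R := by
  by_cases hF : IsField R
  · have : IsPrincipalIdealRing R := hF.isPrincipalIdealRing
    infer_instance
  · have h1 : Ring.KrullDimLE 1 R := Ring.krullDimLE_iff.mpr h
    have h2 : Ring.DimensionLEOne R :=
      ⟨fun {p} hp hpp => Ring.krullDimLE_one_iff_of_noZeroDivisors.mp h1 p hp hpp⟩
    have h3 : IsDedekindDomain R := { }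
    exact ((IsDiscreteValuationRing.TFAE R hF).out 2 1).mp h3

/-- In a quasi-compact scheme whose closed points have local rings of dimension one, all local
rings have dimension at most one. -/
theorem dim_stalk_le_one_of_closed {X : Scheme.{u}} [CompactSpace X]
    (hcurve : ∀ x : X, IsClosed ({x} : Set X) → ringKrullDim (X.presheaf.stalk x) = 1) (x : X) :
    ringKrullDim (X.presheaf.stalk x) ≤ 1 := by
  by_cases hx : IsClosed ({x} : Set X)
  · exact (hcurve x hx).le
  · obtain ⟨c, hc, hcc⟩ := IsClosed.exists_closed_singleton (isClosed_closure (s := {x}))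
      ⟨x, subset_closure rfl⟩
    have hxc : x ⤳ c := specializes_iff_mem_closure.mpr hc
    have hne : c ≠ x := fun e => hx (e ▸ hcc)
    have hlt : c < x := by
      refine lt_iff_le_not_ge.mpr ⟨Scheme.le_iff_specializes.mpr hxc, fun hle => hne ?_⟩
      have hcx : c ⤳ x := Scheme.le_iff_specializes.mp hle
      have : x ∈ closure ({c} : Set X) := specializes_iff_mem_closure.mp hcx
      rw [hcc.closure_eq] at this
      exact this.symm
    have h1 := Order.coheight_add_one_le hlt
    have h2 : (Order.coheight c : WithBot ℕ∞) = 1 := by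
      rw [← ringKrullDim_stalk_eq_coheight]; exact hcurve c hcc
    have h3 : Order.coheight c = 1 := by exact_mod_cast h2
    rw [h3] at h1
    have h4 : Order.coheight x = 0 := by
      have : Order.coheight x + 1 ≤ 0 + 1 := by simpa using h1
      exact le_antisymm ((ENat.add_le_add_iff_right (by simp)).mp this) zero_le
    rw [ringKrullDim_stalk_eq_coheight, h4]
    exact_mod_cast zero_le_one

/-- If all local rings of the reduced germ-injective scheme `Y` are valuation rings, a morphism
from a dense open to `X` (separated, locally of finite type over `S`, with the existence part of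
the valuative criterion) extends uniquely to `Y`. -/
theorem existsUnique_extension_of_forall_valuationRing {S X Y : Scheme.{u}}
    (p : X ⟶ S) [IsSeparated p] [LocallyOfFiniteType p] (hp : ValuativeCriterion.Existence p)
    (q : Y ⟶ S) [Y.IsGermInjective] [IsReduced Y]
    (hval : ∀ y : Y, ∃ hdom : IsDomain (Y.presheaf.stalk y),
      @ValuationRing (Y.presheaf.stalk y) _ hdom)
    (V : Y.Opens) (hV : Dense (V : Set Y)) (g : (V : Scheme.{u}) ⟶ X) (hg : g ≫ p = V.ι ≫ q) :
    ∃! g' : Y ⟶ X, V.ι ≫ g' = g ∧ g' ≫ p = q := by
  obtain ⟨U, hVU, g', hg'1, hg'2, hU⟩ := exists_glue_extensions p q V hV g hg Set.univ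
    (fun y _ => by
      obtain ⟨hdom, hv⟩ := hval y
      exact exists_extension_of_existence q p hp y V g hg (hV y) hdom hv)
  have hUtop : U = ⊤ := top_le_iff.mp fun y _ => hU y trivial
  subst hUtop
  have hdomn : IsDominant V.ι := Opens.isDominant_ι hV
  have e1 : (⊤ : Y.Opens).ι ≫ Y.topIso.inv = 𝟙 _ := Y.topIso.hom_inv_id
  have e2 : Y.topIso.inv ≫ (⊤ : Y.Opens).ι = 𝟙 _ := Y.topIso.inv_hom_id
  refine ⟨Y.topIso.inv ≫ g', ⟨?_, ?_⟩, ?_⟩
  · rw [← hg'2, ← Y.homOfLE_ι hVU, Category.assoc, reassoc_of% e1]
  · rw [Category.assoc, hg'1, reassoc_of% e2]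
  · rintro g'' ⟨h1, h2⟩
    refine ext_of_isDominant_of_isSeparated p ?_ V.ι ?_
    · rw [h2, Category.assoc, hg'1, reassoc_of% e2]
    · rw [h1, ← hg'2, ← Y.homOfLE_ι hVU, Category.assoc, reassoc_of% e1]

end Groth.Agent.Lib.ExtVal
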