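import Mathlib.AlgebraicGeometry.FunctionField
import Mathlib.AlgebraicGeometry.Morphisms.Separated
import Mathlib.AlgebraicGeometry.Stalk
import Mathlib.RingTheory.LocalRing.LocalSubring
import Mathlib.Topology.NoetherianSpace

/-!
Local rings of an integral separated scheme inside its function field.
-/

set_option autoImplicit false
universe u

namespace Groth.Agent.Lib.FunctionFieldDom

open AlgebraicGeometry CategoryTheory

variable (X : Scheme.{u}) [IsIntegral X]

/-- The map `Spec K ⟶ Spec R` induced by an injective map from a ring to a field is dominant. -/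
lemma isDominant_SpecMap_of_injective {R K : CommRingCat.{u}} (ι : R ⟶ K)
    (hι : Function.Injective ι.hom) : IsDominant (Spec.map ι) := by
  constructor
  change DenseRange (PrimeSpectrum.comap ι.hom)
  rw [PrimeSpectrum.denseRange_comap_iff_ker_le_nilRadical,
    (RingHom.injective_iff_ker_eq_bot _).mp hι]
  exact bot_le

/-- The algebra map from a stalk to the function field, as a morphism of rings. -/
noncomputable abbrev stalkToFF (x : X) : X.presheaf.stalk x ⟶ X.functionField :=
  X.presheaf.stalkSpecializes ((genericPoint_spec X).specializes trivial)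

lemma algebraMap_eq (x : X) :
    algebraMap (X.presheaf.stalk x) X.functionField = (stalkToFF X x).hom := rfl

/-- Two maps from local rings of a separated integral scheme into a reduced ring, compatible with
an injection into the function field, induce the same morphism to `X`. -/
lemma SpecMap_comp_fromSpecStalk_eq [X.IsSeparated] {x y : X} {R : CommRingCat.{u}}
    [_root_.IsReduced R]
    (φ : X.presheaf.stalk x ⟶ R) (ψ : X.presheaf.stalk y ⟶ R) (ι : R ⟶ X.functionField)
    (hι : Function.Injective ι.hom)
    (hφ : φ ≫ ι = stalkToFF X x) (hψ : ψ ≫ ι = stalkToFF X y) :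
    Spec.map φ ≫ X.fromSpecStalk x = Spec.map ψ ≫ X.fromSpecStalk y := by
  have := isDominant_SpecMap_of_injective ι hι
  apply ext_of_isDominant (Spec.map ι)
  rw [← Spec.map_comp_assoc, ← Spec.map_comp_assoc, hφ, hψ,
    Scheme.SpecMap_stalkSpecializes_fromSpecStalk, Scheme.SpecMap_stalkSpecializes_fromSpecStalk]

lemma stalkToFF_injective (x : X) : Function.Injective (stalkToFF X x).hom :=
  IsFractionRing.injective (X.presheaf.stalk x) X.functionField

lemma range_le_of_specializes {x y : X} (h : y ⤳ x) :
    (algebraMap (X.presheaf.stalk x) X.functionField).range ≤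
      (algebraMap (X.presheaf.stalk y) X.functionField).range := by
  rintro _ ⟨a, rfl⟩
  refine ⟨(X.presheaf.stalkSpecializes h).hom a, ?_⟩
  rw [algebraMap_eq, algebraMap_eq, ← CommRingCat.comp_apply,
    TopCat.Presheaf.stalkSpecializes_comp]

/-- If `O_x ⊆ O_y` inside the function field, the induced ring map `O_x → O_y`. -/
noncomputable def stalkInclusion {x y : X}
    (h : (algebraMap (X.presheaf.stalk x) X.functionField).range ≤
      (algebraMap (X.presheaf.stalk y) X.functionField).range) :
    X.presheaf.stalk x →+* X.presheaf.stalk y :=
  ((RingEquiv.ofBijective (algebraMap (X.presheaf.stalk y) X.functionField).rangeRestrict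
    ⟨fun _ _ hab => stalkToFF_injective X y (congrArg Subtype.val hab),
      (algebraMap (X.presheaf.stalk y) X.functionField).rangeRestrict_surjective⟩).symm :
        (algebraMap (X.presheaf.stalk y) X.functionField).range →+* X.presheaf.stalk y).comp
    ((Subring.inclusion h).comp
      (algebraMap (X.presheaf.stalk x) X.functionField).rangeRestrict)

lemma algebraMap_stalkInclusion {x y : X}
    (h : (algebraMap (X.presheaf.stalk x) X.functionField).range ≤
      (algebraMap (X.presheaf.stalk y) X.functionField).range) (a : X.presheaf.stalk x) :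
    algebraMap (X.presheaf.stalk y) X.functionField (stalkInclusion X h a) =
      algebraMap (X.presheaf.stalk x) X.functionField a := by
  let e := RingEquiv.ofBijective (algebraMap (X.presheaf.stalk y) X.functionField).rangeRestrict
    ⟨fun _ _ hab => stalkToFF_injective X y (congrArg Subtype.val hab),
      (algebraMap (X.presheaf.stalk y) X.functionField).rangeRestrict_surjective⟩
  have h1 : ∀ z, ((algebraMap (X.presheaf.stalk y) X.functionField) (e.symm z) : X.functionField)
      = z.1 := by
    intro z
    have := congrArg Subtype.val (e.apply_symm_apply z)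
    exact this
  exact h1 _

/-- `stalkInclusion` as a morphism of commutative rings. -/
noncomputable def stalkInclusionHom {x y : X}
    (h : (algebraMap (X.presheaf.stalk x) X.functionField).range ≤
      (algebraMap (X.presheaf.stalk y) X.functionField).range) :
    X.presheaf.stalk x ⟶ X.presheaf.stalk y :=
  CommRingCat.ofHom (stalkInclusion X h)

lemma stalkInclusionHom_comp {x y : X}
    (h : (algebraMap (X.presheaf.stalk x) X.functionField).range ≤
      (algebraMap (X.presheaf.stalk y) X.functionField).range) :
    stalkInclusionHom X h ≫ stalkToFF X y = stalkToFF X x := by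
  ext a
  exact algebraMap_stalkInclusion X h a

lemma specializes_of_range_le [X.IsSeparated] {x y : X}
    (h : (algebraMap (X.presheaf.stalk x) X.functionField).range ≤
      (algebraMap (X.presheaf.stalk y) X.functionField).range) : y ⤳ x := by
  have key := SpecMap_comp_fromSpecStalk_eq X (stalkInclusionHom X h)
    (𝟙 (X.presheaf.stalk y)) (stalkToFF X y) (stalkToFF_injective X y)
    (stalkInclusionHom_comp X h) (Category.id_comp _)
  rw [Spec.map_id] at key
  replace key := key.trans (Category.id_comp _)
  have h2 : y ∈ Set.range (X.fromSpecStalk x) := by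
    refine ⟨Spec.map (stalkInclusionHom X h)
      (IsLocalRing.closedPoint (X.presheaf.stalk y)), ?_⟩
    rw [← Scheme.Hom.comp_apply, key, Scheme.fromSpecStalk_closedPoint]
  rw [Scheme.range_fromSpecStalk] at h2
  exact h2

/-- The domain of definition of a rational function. -/
def domain (f : X.functionField) : Set X :=
  {x : X | f ∈ (algebraMap (X.presheaf.stalk x) X.functionField).range}

lemma isOpen_domain (f : X.functionField) : IsOpen (domain X f) := by
  rw [isOpen_iff_forall_mem_open]
  rintro x ⟨a, rfl⟩
  obtain ⟨U, hxU, s, rfl⟩ := X.presheaf.exists_germ_eq a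
  have : Nonempty U := ⟨⟨x, hxU⟩⟩
  refine ⟨U, ?_, U.2, hxU⟩
  intro y hy
  refine ⟨X.presheaf.germ U y hy s, ?_⟩
  rw [Scheme.algebraMap_germ_eq_germToFunctionField, Scheme.algebraMap_germ_eq_germToFunctionField]

/-- On an integral separated scheme with Noetherian underlying space, the domains of definition of
rational functions generate the topology. -/
lemma generateFrom_domain_eq [X.IsSeparated] [TopologicalSpace.NoetherianSpace X] :
    TopologicalSpace.generateFrom {S : Set X | ∃ f : X.functionField, S = domain X f} =
      (inferInstance : TopologicalSpace X) := by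
  apply le_antisymm
  · intro U hU
    refine (@isOpen_iff_forall_mem_open _ (TopologicalSpace.generateFrom _) _).mpr ?_
    intro x hx
    obtain ⟨S, hSf, hScl, hSirr, hS⟩ :=
      TopologicalSpace.NoetherianSpace.exists_finite_set_isClosed_irreducible
        (isClosed_compl_iff.mpr hU)
    have hex : ∀ t ∈ S, ∃ f : X.functionField, x ∈ domain X f ∧ Disjoint (domain X f) t := by
      intro t ht
      have hgen := (hSirr t ht).isGenericPoint_genericPoint (hScl t ht)
      have hxt : x ∉ t := fun hxt =>
        (hS ▸ Set.mem_sUnion.mpr ⟨t, ht, hxt⟩ : x ∈ (U : Set X)ᶜ) hx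
      have hns : ¬ ((hSirr t ht).genericPoint ⤳ x) := fun h =>
        hxt (hgen.specializes_iff_mem.mp h)
      have hnle : ¬ (algebraMap (X.presheaf.stalk x) X.functionField).range ≤
          (algebraMap (X.presheaf.stalk (hSirr t ht).genericPoint) X.functionField).range :=
        fun h => hns (specializes_of_range_le X h)
      obtain ⟨f, hfx, hfy⟩ := SetLike.not_le_iff_exists.mp hnle
      refine ⟨f, hfx, ?_⟩
      rw [Set.disjoint_left]
      intro z hz hzt
      exact hfy ((hgen.specializes hzt).mem_open (isOpen_domain X f) hz)
    choose! f hfx hfd using hex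
    refine ⟨⋂ t ∈ S, domain X (f t), ?_, ?_, ?_⟩
    · intro z hz
      by_contra hzU
      have hz' : z ∈ ⋃₀ S := hS ▸ (hzU : z ∈ (U : Set X)ᶜ)
      obtain ⟨t, ht, hzt⟩ := Set.mem_sUnion.mp hz'
      exact Set.disjoint_left.mp (hfd t ht) (Set.mem_iInter₂.mp hz t ht) hzt
    · exact @Set.Finite.isOpen_biInter X _ (TopologicalSpace.generateFrom _) _ _ hSf
        (fun t _ => TopologicalSpace.isOpen_generateFrom_of_mem ⟨f t, rfl⟩)
    · exact Set.mem_iInter₂.mpr fun t ht => hfx t ht
  · rw [TopologicalSpace.le_generateFrom_iff_subset_isOpen]
    rintro _ ⟨f, rfl⟩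
    exact isOpen_domain X f

end Groth.Agent.Lib.FunctionFieldDom
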