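import Mathlib.Topology.Sober
import Mathlib.Topology.Irreducible
import Mathlib.Topology.Inseparable
import Mathlib.Topology.Homeomorph.Lemmas

set_option autoImplicit false
universe u

namespace Groth.Agent.Lib.GenerizationIrred

open Set Topology TopologicalSpace

variable {X : Type u} [TopologicalSpace X]

/-- In a quasi-sober space, the set of generizations of `x` is irreducible iff all irreducible
components through `x` coincide. -/
theorem isIrreducible_generizations_iff [QuasiSober X] (x : X) :
    IsIrreducible {y : X | y ⤳ x} ↔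
      ∀ Z₁ ∈ irreducibleComponents X, ∀ Z₂ ∈ irreducibleComponents X,
        x ∈ Z₁ → x ∈ Z₂ → Z₁ = Z₂ := by
  constructor
  · intro hG
    have key : ∀ Z ∈ irreducibleComponents X, x ∈ Z → Z = closure {y : X | y ⤳ x} := by
      intro Z hZ hxZ
      have hZc : IsClosed Z := isClosed_of_mem_irreducibleComponents Z hZ
      have hgen := hZ.1.isGenericPoint_genericPoint hZc
      have hmem : hZ.1.genericPoint ∈ {y : X | y ⤳ x} := hgen.specializes hxZ
      have hsub : Z ⊆ closure {y : X | y ⤳ x} := by
        rw [← hgen.def]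
        exact closure_mono (singleton_subset_iff.mpr hmem)
      exact le_antisymm hsub (hZ.2 hG.closure hsub)
    intro Z₁ hZ₁ Z₂ hZ₂ h1 h2
    rw [key Z₁ hZ₁ h1, key Z₂ hZ₂ h2]
  · intro H
    have hxG : x ∈ {y : X | y ⤳ x} := specializes_rfl
    let Z := irreducibleComponent x
    have hZ : Z ∈ irreducibleComponents X := irreducibleComponent_mem_irreducibleComponents x
    have hZc : IsClosed Z := isClosed_irreducibleComponent
    have hGZ : {y : X | y ⤳ x} ⊆ Z := by
      intro y (hy : y ⤳ x)
      have hx' : x ∈ irreducibleComponent y :=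
        hy.mem_closed isClosed_irreducibleComponent mem_irreducibleComponent
      have := H _ (irreducibleComponent_mem_irreducibleComponents y) _ hZ hx'
        mem_irreducibleComponent
      rw [← this]
      exact mem_irreducibleComponent
    have hgen := hZ.1.isGenericPoint_genericPoint hZc
    have hξG : hZ.1.genericPoint ∈ {y : X | y ⤳ x} := hgen.specializes mem_irreducibleComponent
    refine ⟨⟨x, hxG⟩, ?_⟩
    intro U V hU hV ⟨y₁, hy₁G, hy₁U⟩ ⟨y₂, hy₂G, hy₂V⟩
    refine ⟨hZ.1.genericPoint, hξG, ?_, ?_⟩
    · exact (hgen.mem_open_set_iff hU).mpr ⟨y₁, hGZ hy₁G, hy₁U⟩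
    · exact (hgen.mem_open_set_iff hV).mpr ⟨y₂, hGZ hy₂G, hy₂V⟩

/-- The irreducible components are pairwise disjoint iff any two irreducible components through
a common point coincide. -/
theorem pairwiseDisjoint_irreducibleComponents_iff :
    (irreducibleComponents X).PairwiseDisjoint id ↔
      ∀ x : X, ∀ Z₁ ∈ irreducibleComponents X, ∀ Z₂ ∈ irreducibleComponents X,
        x ∈ Z₁ → x ∈ Z₂ → Z₁ = Z₂ := by
  constructor
  · intro hd x Z₁ hZ₁ Z₂ hZ₂ h1 h2
    by_contra hne
    exact (Set.disjoint_left.mp (hd hZ₁ hZ₂ hne)) h1 h2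
  · intro H Z₁ hZ₁ Z₂ hZ₂ hne
    rw [Function.onFun, Set.disjoint_left]
    intro y h1 h2
    exact hne (H y Z₁ hZ₁ Z₂ hZ₂ h1 h2)

/-- For an embedding, the source is an irreducible space iff the range is irreducible. -/
theorem irreducibleSpace_iff_isIrreducible_range {Y : Type*} [TopologicalSpace Y] {f : Y → X}
    (hf : IsEmbedding f) : IrreducibleSpace Y ↔ IsIrreducible (Set.range f) := by
  rw [isIrreducible_iff_irreducibleSpace]
  exact hf.toHomeomorph.irreducibleSpace_iff

/-- Let `ι : Y → X` be an embedding whose range is the set of generizations of `x`, with `X`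
quasi-sober and T0. Then `z ↦ closure {ι z}` is a bijection from the generic points of the
irreducible components of `Y` onto the irreducible components of `X` through `x`. -/
theorem bijOn_closure_singleton {Y : Type*} [TopologicalSpace Y] [QuasiSober X] [T0Space X]
    {ι : Y → X} (hι : IsEmbedding ι) (x : X) (hrange : Set.range ι = {y | y ⤳ x}) :
    Set.BijOn (fun z : Y => closure ({ι z} : Set X))
      {z | closure ({z} : Set Y) ∈ irreducibleComponents Y}
      {Z | Z ∈ irreducibleComponents X ∧ x ∈ Z} := by
  have hspec : ∀ z : Y, ι z ⤳ x := fun z ↦ by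
    have : ι z ∈ {y | y ⤳ x} := hrange ▸ Set.mem_range_self z
    exact this
  refine ⟨?_, ?_, ?_⟩
  · -- maps to
    intro z (hz : closure ({z} : Set Y) ∈ irreducibleComponents Y)
    refine ⟨⟨isIrreducible_singleton.closure, fun W hW hle ↦ ?_⟩, (hspec z).mem_closure⟩
    -- generic point of `closure W`
    have hWc : IsIrreducible (closure W) := hW.closure
    have hgen := hWc.isGenericPoint_genericPoint isClosed_closure
    set w := hWc.genericPoint with hw
    have hzW : ι z ∈ closure W := subset_closure (hle (subset_closure rfl))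
    have hwz : w ⤳ ι z := hgen.specializes hzW
    have hwx : w ⤳ x := hwz.trans (hspec z)
    obtain ⟨z', hz'⟩ : w ∈ Set.range ι := hrange ▸ hwx
    rw [← hz'] at hwz
    have hz'z : z' ⤳ z := hι.isInducing.specializes_iff.mp hwz
    have hsub : closure ({z} : Set Y) ⊆ closure {z'} := specializes_iff_closure_subset.mp hz'z
    have hsub' : closure ({z'} : Set Y) ⊆ closure {z} :=
      hz.2 isIrreducible_singleton.closure hsub
    have hzz' : z ⤳ z' := specializes_iff_closure_subset.mpr hsub'
    have : ι z ⤳ w := hz' ▸ hι.isInducing.specializes_iff.mpr hzz'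
    calc W ⊆ closure W := subset_closure
      _ = closure {w} := hgen.def.symm
      _ ⊆ closure {ι z} := specializes_iff_closure_subset.mp this
  · -- injective
    intro z₁ _ z₂ _ (h : closure ({ι z₁} : Set X) = closure {ι z₂})
    have h1 : ι z₁ ⤳ ι z₂ := specializes_iff_closure_subset.mpr h.ge
    have h2 : ι z₂ ⤳ ι z₁ := specializes_iff_closure_subset.mpr h.le
    exact hι.injective ((h1.antisymm h2).eq)
  · -- surjective
    rintro Z ⟨hZ, hxZ⟩
    have hZc : IsClosed Z := isClosed_of_mem_irreducibleComponents Z hZ
    have hgen := hZ.1.isGenericPoint_genericPoint hZc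
    set ξ := hZ.1.genericPoint with hξ
    have hξx : ξ ⤳ x := hgen.specializes hxZ
    obtain ⟨z, hz⟩ : ξ ∈ Set.range ι := hrange ▸ hξx
    refine ⟨z, ⟨isIrreducible_singleton.closure, fun W' hW' hle ↦ ?_⟩, ?_⟩
    · intro w' hw'
      have hirr : IsIrreducible (closure (ι '' W')) :=
        (hW'.image ι hι.continuous.continuousOn).closure
      have hZsub : Z ⊆ closure (ι '' W') := by
        rw [← hgen.def, ← hz]
        exact closure_mono (Set.singleton_subset_iff.mpr ⟨z, hle (subset_closure rfl), rfl⟩)
      have hle' : closure (ι '' W') ⊆ Z := hZ.2 hirr hZsub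
      have hmem : ι w' ∈ Z := hle' (subset_closure ⟨w', hw', rfl⟩)
      have : ι z ⤳ ι w' := hz ▸ hgen.specializes hmem
      exact (hι.isInducing.specializes_iff.mp this).mem_closure
    · change closure ({ι z} : Set X) = Z
      rw [hz]
      exact hgen.def

end Groth.Agent.Lib.GenerizationIrred
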