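import Mathlib
import Groth.Agent.Lib.ExtVal2

/-!
# Morphisms from a scheme with valuation-ring stalks determined by function-field maps
-/

set_option autoImplicit false

universe u

open CategoryTheory CategoryTheory.Limits AlgebraicGeometry TopologicalSpace

namespace Groth.Agent.Lib.CurveMor

open Groth.Agent.Lib.ExtVal

/-- The inclusion of the generic point of an integral scheme is dominant. -/
lemma isDominant_fromSpecStalk_genericPoint (X : Scheme.{u}) [IsIntegral X] :
    IsDominant (X.fromSpecStalk (genericPoint X)) := by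
  refine ⟨fun z => ?_⟩
  have h1 : genericPoint X ⤳ z := (genericPoint_spec X).specializes trivial
  have h2 : ({genericPoint X} : Set X) ⊆ Set.range (X.fromSpecStalk (genericPoint X)) :=
    Set.singleton_subset_iff.mpr ⟨IsLocalRing.closedPoint _, Scheme.fromSpecStalk_closedPoint⟩
  exact closure_mono h2 (specializes_iff_mem_closure.mp h1)

/-- Two morphisms over `S` from an integral scheme to a separated `S`-scheme agreeing at the generic
point are equal. -/
lemma hom_ext_of_genericPoint {S X Y : Scheme.{u}} [IsIntegral X] (q : Y ⟶ S) [IsSeparated q]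
    (u u' : X ⟶ Y) (h : u ≫ q = u' ≫ q)
    (hg : X.fromSpecStalk (genericPoint X) ≫ u = X.fromSpecStalk (genericPoint X) ≫ u') :
    u = u' := by
  have := isDominant_fromSpecStalk_genericPoint X
  exact ext_of_isDominant_of_isSeparated q h (X.fromSpecStalk (genericPoint X)) hg

/-- A map of function fields over `S` extends uniquely to a morphism `X ⟶ Y` when all local
rings of the integral scheme `X` are valuation rings and `Y` is separated, locally of finite type
and satisfies the existence part of the valuative criterion over `S`. -/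
theorem existsUnique_of_functionField_hom {S X Y : Scheme.{u}} [IsIntegral X] [IsIntegral Y]
    (p : X ⟶ S) (q : Y ⟶ S) [IsSeparated q] [LocallyOfFiniteType q]
    (hq : ValuativeCriterion.Existence q)
    (hval : ∀ x : X, ValuationRing (X.presheaf.stalk x))
    (φ : Y.functionField ⟶ X.functionField)
    (hφ : Spec.map φ ≫ Y.fromSpecStalk (genericPoint Y) ≫ q =
      X.fromSpecStalk (genericPoint X) ≫ p) :
    ∃! u : X ⟶ Y, u ≫ q = p ∧
      X.fromSpecStalk (genericPoint X) ≫ u = Spec.map φ ≫ Y.fromSpecStalk (genericPoint Y) := by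
  let t : Spec (X.presheaf.stalk (genericPoint X)) ⟶ Y :=
    Spec.map φ ≫ Y.fromSpecStalk (genericPoint Y)
  have ht : t ≫ q = X.fromSpecStalk (genericPoint X) ≫ p := by
    change (Spec.map φ ≫ Y.fromSpecStalk (genericPoint Y)) ≫ q = _
    rw [Category.assoc, hφ]
  obtain ⟨U, hηU, g, hg1, hg2⟩ := spread_out_of_isGermInjective' p q t ht
  have hdense : Dense (U : Set X) := U.2.dense ⟨genericPoint X, hηU⟩
  obtain ⟨u, ⟨hu1, hu2⟩, -⟩ := existsUnique_extension_of_forall_valuationRing q hq p
    (fun x => ⟨inferInstance, hval x⟩) U hdense g hg2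
  have hu3 : X.fromSpecStalk (genericPoint X) ≫ u =
      Spec.map φ ≫ Y.fromSpecStalk (genericPoint Y) := by
    rw [← Scheme.Opens.fromSpecStalkOfMem_ι U (genericPoint X) hηU, Category.assoc, hu1, ← hg1]
  refine ⟨u, ⟨hu2, hu3⟩, ?_⟩
  rintro u' ⟨h1, h2⟩
  exact hom_ext_of_genericPoint q u' u (h1.trans hu2.symm) (h2.trans hu3.symm)

/-- Reformulation of agreement at the generic point in terms of stalk maps. -/
lemma fromSpecStalk_comp_eq_iff {X Y : Scheme.{u}} [IsIntegral X] [IsIntegral Y] (u : X ⟶ Y)
    (φ : Y.functionField ⟶ X.functionField) :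
    X.fromSpecStalk (genericPoint X) ≫ u = Spec.map φ ≫ Y.fromSpecStalk (genericPoint Y) ↔
      ∃ hu : u (genericPoint X) = genericPoint Y,
        Y.presheaf.stalkSpecializes (specializes_of_eq hu) ≫ u.stalkMap (genericPoint X) = φ := by
  constructor
  · intro h
    have hu : u (genericPoint X) = genericPoint Y := by
      have h1 := congrArg (fun m => m (IsLocalRing.closedPoint (X.presheaf.stalk (genericPoint X)))) h
      simp only [Scheme.Hom.comp_apply, Scheme.fromSpecStalk_closedPoint] at h1
      rw [h1]
      have h2 : Spec.map φ (IsLocalRing.closedPoint (X.presheaf.stalk (genericPoint X))) =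
          IsLocalRing.closedPoint (Y.presheaf.stalk (genericPoint Y)) := by
        apply PrimeSpectrum.ext
        exact Ideal.eq_bot_of_prime _ |>.trans (Ideal.eq_bot_of_prime _).symm
      rw [h2, Scheme.fromSpecStalk_closedPoint]
    refine ⟨hu, ?_⟩
    apply Spec.map_injective
    rw [← cancel_mono (Y.fromSpecStalk (genericPoint Y)), Spec.map_comp, Category.assoc,
      Scheme.SpecMap_stalkSpecializes_fromSpecStalk, Scheme.SpecMap_stalkMap_fromSpecStalk, h]
  · rintro ⟨hu, h⟩
    rw [← h, Spec.map_comp, Category.assoc, Scheme.SpecMap_stalkSpecializes_fromSpecStalk,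
      Scheme.SpecMap_stalkMap_fromSpecStalk]

end Groth.Agent.Lib.CurveMor
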