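import Groth.Agent.S2345
import Groth.Agent.S4445
import Groth.Agent.S4442
import Groth.Agent.S4809
import Groth.Agent.Lib.ExtVal2
import Groth.Agent.Lib.FunctionFieldDom
import Groth.Agent.Lib.GenerizationIrred
import Groth.Agent.Lib.NoethTop

/-!
# Normal completion of a normal algebraic curve (helper85)

* `exists_completion_of_isIntegral`: an integral normal curve (separated, of finite type over a field)
  is an open subscheme of an integral normal proper curve (via S2345 + S4445 + S4809).
* `exists_completion`: the same for not necessarily connected normal curves (dense open immersion).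
* auxiliary: `isOpen_of_mem_irreducibleComponents` (Noetherian scheme with domain stalks has open
  irreducible components), `isProper_sigmaDesc` (finite coproduct of proper schemes over an affine base),
  `fg_top_functionField`, `trdeg_functionField_eq_one`, `range_le_of_dom`.
-/

set_option autoImplicit false
universe u

open CategoryTheory CategoryTheory.Limits AlgebraicGeometry TopologicalSpace

namespace Groth.Agent.Lib.CurveCompl85

/-- If the stalk at `x` is a domain, the generizations of `x` form an irreducible set. -/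
theorem isIrreducible_generizations {X : Scheme.{u}} (x : X) [IsDomain (X.presheaf.stalk x)] :
    IsIrreducible {y : X | y ⤳ x} := by
  rw [← Scheme.range_fromSpecStalk, ← Set.image_univ]
  have : IrreducibleSpace (Spec (X.presheaf.stalk x)) :=
    inferInstanceAs (IrreducibleSpace (PrimeSpectrum (X.presheaf.stalk x)))
  exact (IrreducibleSpace.isIrreducible_univ _).image _
    (X.fromSpecStalk x).continuous.continuousOn

/-- On a Noetherian scheme whose stalks are domains, the irreducible components are open. -/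
theorem isOpen_of_mem_irreducibleComponents {X : Scheme.{u}} [NoetherianSpace X]
    (hdom : ∀ x : X, IsDomain (X.presheaf.stalk x)) {Z : Set X}
    (hZ : Z ∈ irreducibleComponents X) : IsOpen Z := by
  refine Groth.Agent.Lib.NoethTop.isOpen_of_mem_irreducibleComponents_of_pairwiseDisjoint
    (fun x ↦ ⟨Set.univ, Filter.univ_mem, inferInstance⟩) ?_ hZ
  rw [Groth.Agent.Lib.GenerizationIrred.pairwiseDisjoint_irreducibleComponents_iff]
  intro x
  have := hdom x
  exact (Groth.Agent.Lib.GenerizationIrred.isIrreducible_generizations_iff x).mp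
    (isIrreducible_generizations x)

theorem pairwiseDisjoint_irreducibleComponents {X : Scheme.{u}}
    (hdom : ∀ x : X, IsDomain (X.presheaf.stalk x)) :
    (irreducibleComponents X).PairwiseDisjoint id := by
  rw [Groth.Agent.Lib.GenerizationIrred.pairwiseDisjoint_irreducibleComponents_iff]
  intro x
  have := hdom x
  exact (Groth.Agent.Lib.GenerizationIrred.isIrreducible_generizations_iff x).mp
    (isIrreducible_generizations x)

/-- Normality passes to open subschemes. -/
theorem isNormalScheme_of_isOpenImmersion {T' T : Scheme.{u}} (j : T' ⟶ T) [IsOpenImmersion j]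
    (hT : Pi1.IsNormalScheme T) : Pi1.IsNormalScheme T' := by
  intro t
  let e : T.presheaf.stalk (j t) ≃+* T'.presheaf.stalk t :=
    (asIso (j.stalkMap t)).commRingCatIsoToRingEquiv
  have h1 := (hT (j t)).1
  have h2 := (hT (j t)).2
  exact ⟨e.symm.toMulEquiv.isDomain _, IsIntegrallyClosed.of_equiv e⟩

/-- Dimension of stalks is preserved by open immersions. -/
theorem ringKrullDim_stalk_of_isOpenImmersion {T' T : Scheme.{u}} (j : T' ⟶ T) [IsOpenImmersion j]
    (t : T') : ringKrullDim (T'.presheaf.stalk t) = ringKrullDim (T.presheaf.stalk (j t)) :=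
  (ringKrullDim_eq_of_ringEquiv (asIso (j.stalkMap t)).commRingCatIsoToRingEquiv).symm

end Groth.Agent.Lib.CurveCompl85

namespace Groth.Agent.Lib.CurveCompl85

/-- The codiagonal of a finite coproduct of copies of an affine scheme is finite. -/
theorem isFinite_sigmaDesc_id {σ : Type u} [Finite σ] (R : CommRingCat.{u}) :
    IsFinite (Sigma.desc (fun _ : σ ↦ 𝟙 (Spec R))) := by
  have h : Sigma.desc (fun _ : σ ↦ 𝟙 (Spec R)) = sigmaSpec (fun _ : σ ↦ R) ≫
      Spec.map (CommRingCat.ofHom (RingHom.pi fun _ : σ ↦ RingHom.id R)) := by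
    refine Sigma.hom_ext _ _ fun i ↦ ?_
    rw [Sigma.ι_desc, ι_sigmaSpec_assoc, ← Spec.map_comp]
    have : CommRingCat.ofHom (RingHom.pi fun _ : σ ↦ RingHom.id R) ≫
        CommRingCat.ofHom (Pi.evalRingHom (fun _ : σ ↦ (R : Type u)) i) = 𝟙 R := by
      ext a
      rfl
    rw [this]
    exact (Spec.map_id R).symm
  rw [h]
  have h2 : IsFinite (Spec.map (CommRingCat.ofHom (RingHom.pi fun _ : σ ↦ RingHom.id R))) := by
    rw [IsFinite.SpecMap_iff]
    let _ : Algebra R (σ → R) := (RingHom.pi fun _ : σ ↦ RingHom.id R).toAlgebra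
    have : Module.Finite R (σ → R) := by
      have hfin := Fintype.ofFinite σ
      exact Module.Finite.pi
    exact this
  infer_instance

end Groth.Agent.Lib.CurveCompl85

namespace Groth.Agent.Lib.CurveCompl85

section Sigma

universe v

variable {σ : Type v} [Small.{u} σ]

/-- Coproducts of schemes are universal: the summand `X a` is the preimage of `X' a`.
(From helper68's `ModPairCoprod68`, copied to keep imports light.) -/
theorem isPullback_sigmaι_sigmaMap {X X' : σ → Scheme.{u}} (f : ∀ a, X a ⟶ X' a) (a : σ) :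
    IsPullback (f a) (Sigma.ι X a) (Sigma.ι X' a) (Limits.Sigma.map f) := by
  refine IsOpenImmersion.isPullback _ _ _ _ (by simp) ?_
  apply le_antisymm
  · rintro t ⟨y, hy⟩
    obtain ⟨c, x, rfl⟩ := (sigmaOpenCover X).exists_eq t
    have h1 : (Limits.Sigma.map f).base ((Sigma.ι X c).base x) =
        (Sigma.ι X' c).base ((f c).base x) := by
      rw [← Scheme.Hom.comp_apply, Limits.Sigma.ι_map, Scheme.Hom.comp_apply]
    have h2 : (Sigma.ι X' a).base y = (Sigma.ι X' c).base ((f c).base x) := hy.trans h1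
    have h3 := (sigmaι_eq_iff X' a c y _).mp h2
    obtain rfl : a = c := congrArg Sigma.fst h3
    exact ⟨x, rfl⟩
  · rintro _ ⟨x, rfl⟩
    refine ⟨(f a).base x, ?_⟩
    rw [← Scheme.Hom.comp_apply, ← Scheme.Hom.comp_apply, Limits.Sigma.ι_map]

/-- A property local on the target which holds for all `f a` holds for `Sigma.map f`. -/
theorem sigmaMap_of_isZariskiLocalAtTarget (Q : MorphismProperty Scheme.{u})
    [IsZariskiLocalAtTarget Q] {X X' : σ → Scheme.{u}} (f : ∀ a, X a ⟶ X' a)
    (hf : ∀ a, Q (f a)) : Q (Limits.Sigma.map f) := by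
  refine IsZariskiLocalAtTarget.of_openCover (sigmaOpenCover X') ?_
  intro a
  have e : Q ((isPullback_sigmaι_sigmaMap f a).flip.isoPullback.hom ≫
      pullback.snd (Limits.Sigma.map f) (Sigma.ι X' a)) := by
    rw [IsPullback.isoPullback_hom_snd]
    exact hf a
  exact (MorphismProperty.cancel_left_of_respectsIso Q _ _).mp e

/-- A finite coproduct of proper schemes over an affine base is proper. -/
theorem isProper_sigmaDesc {σ : Type u} [Finite σ] (R : CommRingCat.{u}) {Y : σ → Scheme.{u}}
    (s : ∀ i, Y i ⟶ Spec R) (hs : ∀ i, IsProper (s i)) : IsProper (Sigma.desc s) := by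
  have h : Sigma.desc s = Limits.Sigma.map s ≫ Sigma.desc (fun _ : σ ↦ 𝟙 (Spec R)) := by
    refine Sigma.hom_ext _ _ fun i ↦ ?_
    simp
  rw [h]
  have h1 : IsProper (Limits.Sigma.map s) := sigmaMap_of_isZariskiLocalAtTarget @IsProper s hs
  have h2 := isFinite_sigmaDesc_id (σ := σ) R
  infer_instance

end Sigma

end Groth.Agent.Lib.CurveCompl85

namespace Groth.Agent.Lib.CurveCompl85

attribute [local instance] Curv2.stalkAlgebra Curv2.resAlgebra

theorem essFiniteType_toStalk (R : CommRingCat.{u}) (x : Spec R) :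
    ((Scheme.ΓSpecIso R).inv ≫ (Spec R).presheaf.germ ⊤ x trivial).hom.EssFiniteType := by
  let _ : Algebra ↑R ↑((Spec R).presheaf.stalk x) := StructureSheaf.stalkAlgebra (↑R) x
  have hp : x.asIdeal.IsPrime := PrimeSpectrum.isPrime x
  have : IsLocalization.AtPrime (↑((Spec R).presheaf.stalk x)) x.asIdeal :=
    StructureSheaf.IsLocalization.to_stalk R x
  have : Algebra.EssFiniteType R ((Spec R).presheaf.stalk x) :=
    Algebra.EssFiniteType.of_isLocalization _ x.asIdeal.primeCompl
  exact this

/-- Domination by a valuation ring forces equality. -/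
theorem range_le_of_dom {V O K : Type*} [CommRing V] [CommRing O] [Field K]
    (ιV : V →+* K) (ιO : O →+* K) (hιO : Function.Injective ιO) (θ : V →+* O) [IsLocalHom θ]
    (hθ : ∀ v, ιO (θ v) = ιV v)
    (hval : ∀ f : K, f ≠ 0 → f ∈ ιV.range ∨ f⁻¹ ∈ ιV.range) : ιO.range ≤ ιV.range := by
  rintro f ⟨a, rfl⟩
  by_cases hf : ιO a = 0
  · rw [hf]; exact zero_mem _
  rcases hval _ hf with h | ⟨v, hv⟩
  · exact h
  · have h1 : θ v * a = 1 := by
      apply hιO
      rw [map_mul, hθ, hv, map_one, inv_mul_cancel₀ hf]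
    have h2 : IsUnit (θ v) := IsUnit.of_mul_eq_one _ h1
    have h3 : IsUnit v := IsUnit.of_map θ v h2
    obtain ⟨w, rfl⟩ := h3
    refine ⟨((w⁻¹ : Vˣ) : V), ?_⟩
    have h4 : ιV ((w⁻¹ : Vˣ) : V) * ιV (w : V) = 1 := by
      rw [← map_mul, Units.inv_mul, map_one]
    rw [hv] at h4
    calc ιV ((w⁻¹ : Vˣ) : V) = ιV ((w⁻¹ : Vˣ) : V) * ((ιO a)⁻¹ * ιO a) := by
          rw [inv_mul_cancel₀ hf, mul_one]
      _ = ιO a := by rw [← mul_assoc, h4, one_mul]

variable (k : Type u) [Field k] (X : Scheme.{u}) [X.Over (Spec (CommRingCat.of k))]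

theorem stalkMap_eq (x : X) :
    Curv2.stalkMap k X x = ((X ↘ Spec (CommRingCat.of k)).stalkMap x).hom.comp
      ((Scheme.ΓSpecIso (CommRingCat.of k)).inv ≫
        (Spec (CommRingCat.of k)).presheaf.germ ⊤ ((X ↘ Spec (CommRingCat.of k)) x) trivial).hom := by
  unfold Curv2.stalkMap Coh.toGlobal
  rw [← CommRingCat.hom_comp, ← CommRingCat.hom_comp, ← CommRingCat.hom_comp]
  simp only [Category.assoc]
  have h := Scheme.Hom.germ_stalkMap (X ↘ Spec (CommRingCat.of k)) ⊤ x trivial
  rw [h]
  rfl

theorem essFiniteType_stalkMap [LocallyOfFiniteType (X ↘ Spec (CommRingCat.of k))] (x : X) :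
    (Curv2.stalkMap k X x).EssFiniteType := by
  rw [stalkMap_eq]
  exact (essFiniteType_toStalk _ _).comp (LocallyOfFiniteType.stalkMap _ x)

theorem fg_top_functionField [LocallyOfFiniteType (X ↘ Spec (CommRingCat.of k))] [IsIntegral X] :
    (⊤ : IntermediateField k X.functionField).FG := by
  rw [IntermediateField.fg_top_iff]
  exact essFiniteType_stalkMap k X (genericPoint X)

theorem trdeg_functionField_eq_one [LocallyOfFiniteType (X ↘ Spec (CommRingCat.of k))]
    [QuasiCompact (X ↘ Spec (CommRingCat.of k))] [IsIntegral X]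
    (hcurve : ∀ x : X, IsClosed ({x} : Set X) → ringKrullDim (X.presheaf.stalk x) = 1) :
    Algebra.trdeg k X.functionField = 1 := by
  have hgen : closure ({genericPoint X} : Set X) ∈ irreducibleComponents X := by
    rw [(genericPoint_spec X).def, irreducibleComponents_eq_singleton]
    rfl
  have h := (Groth.Agent.S4442.result k X).mpr hcurve (genericPoint X) hgen
  have hF : IsField (X.presheaf.stalk (genericPoint X)) := Field.toIsField X.functionField
  have hbij : Function.Bijective (X.residue (genericPoint X)).hom := by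
    refine ⟨?_, IsLocalRing.residue_surjective⟩
    change Function.Injective (IsLocalRing.residue (X.presheaf.stalk (genericPoint X)))
    rw [RingHom.injective_iff_ker_eq_bot, IsLocalRing.ker_residue]
    exact IsLocalRing.isField_iff_maximalIdeal_eq.mp hF
  let e : X.functionField ≃ₐ[k] X.residueField (genericPoint X) :=
    AlgEquiv.ofBijective
      { (X.residue (genericPoint X)).hom with commutes' := fun _ ↦ rfl } hbij
  rw [e.trdeg_eq]
  exact h

omit [X.Over (Spec (CommRingCat.of k))] in
theorem isIso_stalkSpecializes_of_eq {Y : Scheme.{u}} {y y' : Y} (h : y = y') :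
    Function.Bijective (Y.presheaf.stalkSpecializes (specializes_of_eq h)).hom := by
  subst h
  rw [TopCat.Presheaf.stalkSpecializes_refl]
  exact Function.bijective_id

omit [X.Over (Spec (CommRingCat.of k))] in
theorem range_algebraMap_congr {Y : Scheme.{u}} [IsIntegral Y] {y y' : Y} (h : y = y') :
    (algebraMap (Y.presheaf.stalk y) Y.functionField).range =
      (algebraMap (Y.presheaf.stalk y') Y.functionField).range := by
  subst h; rfl

/-- An integral normal curve over a field embeds as an open subscheme of an integral normal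
proper curve. -/
theorem exists_completion_of_isIntegral [LocallyOfFiniteType (X ↘ Spec (CommRingCat.of k))]
    [QuasiCompact (X ↘ Spec (CommRingCat.of k))] [IsSeparated (X ↘ Spec (CommRingCat.of k))]
    [IsIntegral X]
    (hcurve : ∀ x : X, IsClosed ({x} : Set X) → ringKrullDim (X.presheaf.stalk x) = 1)
    (hnorm : Pi1.IsNormalScheme X) :
    ∃ (Xc : Scheme.{u}) (sc : Xc ⟶ Spec (CommRingCat.of k)) (j : X ⟶ Xc),
      IsOpenImmersion j ∧ IsIntegral Xc ∧ j ≫ sc = X ↘ Spec (CommRingCat.of k) ∧ IsProper sc ∧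
      Pi1.IsNormalScheme Xc ∧
      ∀ x : Xc, IsClosed ({x} : Set Xc) → ringKrullDim (Xc.presheaf.stalk x) = 1 := by
  obtain ⟨Xc, hover, hint, hproper, hnormc, hcurvec, e, he⟩ :=
    Groth.Agent.S2345.result k X.functionField (fg_top_functionField k X)
      (trdeg_functionField_eq_one k X hcurve)
  let φ : Xc.functionField →ₐ[k] X.functionField := { e.toRingHom with commutes' := he }
  obtain ⟨u, ⟨hu1, hu2, hu3⟩, -⟩ := Groth.Agent.S4445.result k X Xc hcurve hnorm hcurvec φ
  refine ⟨Xc, Xc ↘ Spec (CommRingCat.of k), u, ?_, hint, hu1, hproper, hnormc, hcurvec⟩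
  have hXsep : X.IsSeparated := ⟨by
    rw [← terminal.comp_from (X ↘ Spec (CommRingCat.of k))]
    infer_instance⟩
  have hlft : LocallyOfFiniteType u := by
    have : LocallyOfFiniteType (u ≫ (Xc ↘ Spec (CommRingCat.of k))) := by rw [hu1]; infer_instance
    exact locallyOfFiniteType_of_comp u (Xc ↘ Spec (CommRingCat.of k))
  have hsep : IsSeparated u := by
    have : IsSeparated (u ≫ (Xc ↘ Spec (CommRingCat.of k))) := by rw [hu1]; infer_instance
    exact IsSeparated.of_comp u (Xc ↘ Spec (CommRingCat.of k))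
  have hφbij : Function.Bijective φ := e.bijective
  -- compatibility of stalk maps with `φ`
  have hθ : ∀ (x : X) (v : Xc.presheaf.stalk (u x)),
      algebraMap (X.presheaf.stalk x) X.functionField ((u.stalkMap x).hom v) =
        φ (algebraMap (Xc.presheaf.stalk (u x)) Xc.functionField v) := by
    intro x v
    have hspec : genericPoint X ⤳ x := (genericPoint_spec X).specializes trivial
    have h1 := Scheme.Hom.stalkSpecializes_stalkMap u (genericPoint X) x hspec
    have h2 : algebraMap (X.presheaf.stalk x) X.functionField ((u.stalkMap x).hom v) =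
        (u.stalkMap x ≫ X.presheaf.stalkSpecializes hspec).hom v := rfl
    rw [h2, ← h1]
    have h3 : φ (algebraMap (Xc.presheaf.stalk (u x)) Xc.functionField v) =
        (Xc.presheaf.stalkSpecializes (specializes_of_eq hu2) ≫
          u.stalkMap (genericPoint X)).hom (algebraMap (Xc.presheaf.stalk (u x))
            Xc.functionField v) := by
      rw [hu3]; rfl
    rw [h3]
    have h4 := TopCat.Presheaf.stalkSpecializes_comp Xc.presheaf (specializes_of_eq hu2)
      ((genericPoint_spec Xc).specializes (Set.mem_univ (u x)))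
    have h5 : Xc.presheaf.stalkSpecializes (u.base.hom.map_specializes hspec) ≫
        u.stalkMap (genericPoint X) =
        Xc.presheaf.stalkSpecializes ((genericPoint_spec Xc).specializes (Set.mem_univ (u x))) ≫
          (Xc.presheaf.stalkSpecializes (specializes_of_eq hu2) ≫
            u.stalkMap (genericPoint X)) := by
      rw [← Category.assoc, h4]
    exact congr($h5 v)
  have hcomp : CompactSpace Xc :=
    QuasiCompact.compactSpace_of_compactSpace (Xc ↘ Spec (CommRingCat.of k))
  have hnoeth : IsLocallyNoetherian Xc :=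
    LocallyOfFiniteType.isLocallyNoetherian (Xc ↘ Spec (CommRingCat.of k))
  have hval : ∀ (y : Xc) (f : Xc.functionField), f ≠ 0 →
      f ∈ (algebraMap (Xc.presheaf.stalk y) Xc.functionField).range ∨
        f⁻¹ ∈ (algebraMap (Xc.presheaf.stalk y) Xc.functionField).range := by
    intro y f hf
    have h1 : IsIntegrallyClosed (Xc.presheaf.stalk y) := (hnormc y).2
    have h2 := Groth.Agent.Lib.ExtVal.dim_stalk_le_one_of_closed hcurvec y
    have h3 : ValuationRing (Xc.presheaf.stalk y) :=
      Groth.Agent.Lib.ExtVal.valuationRing_of_isIntegrallyClosed_of_dim_le_one _ h2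
    rcases ValuationRing.isInteger_or_isInteger (Xc.presheaf.stalk y) f with ⟨r, hr⟩ | ⟨r, hr⟩
    · exact Or.inl ⟨r, hr⟩
    · exact Or.inr ⟨r, hr⟩
  have hrange : ∀ x : X, (algebraMap (X.presheaf.stalk x) X.functionField).range =
      ((φ : Xc.functionField →+* X.functionField).comp
        (algebraMap (Xc.presheaf.stalk (u x)) Xc.functionField)).range := by
    intro x
    apply le_antisymm
    · refine range_le_of_dom _ _ (IsFractionRing.injective _ _) (u.stalkMap x).hom
        (fun v ↦ hθ x v) ?_
      intro f hf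
      obtain ⟨g, rfl⟩ := hφbij.2 f
      have hg : g ≠ 0 := by
        rintro rfl
        exact hf (map_zero _)
      rcases hval (u x) g hg with ⟨r, hr⟩ | ⟨r, hr⟩
      · exact Or.inl ⟨r, by rw [RingHom.comp_apply, hr]; rfl⟩
      · exact Or.inr ⟨r, by rw [RingHom.comp_apply, hr]; exact map_inv₀ φ g⟩
    · rintro _ ⟨v, rfl⟩
      exact ⟨(u.stalkMap x).hom v, hθ x v⟩
  have hcongr : ∀ y y' : Xc, y = y' →
      ((φ : Xc.functionField →+* X.functionField).comp
        (algebraMap (Xc.presheaf.stalk y) Xc.functionField)).range =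
      ((φ : Xc.functionField →+* X.functionField).comp
        (algebraMap (Xc.presheaf.stalk y') Xc.functionField)).range := by
    rintro y _ rfl
    rfl
  have hinj : Function.Injective u := by
    intro x x' hxx'
    have h1 : (algebraMap (X.presheaf.stalk x) X.functionField).range =
        (algebraMap (X.presheaf.stalk x') X.functionField).range := by
      rw [hrange x, hrange x']
      exact hcongr _ _ hxx'
    have s1 := Groth.Agent.Lib.FunctionFieldDom.specializes_of_range_le X h1.le
    have s2 := Groth.Agent.Lib.FunctionFieldDom.specializes_of_range_le X h1.ge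
    exact (s2.antisymm s1).eq
  have hlqf : LocallyQuasiFinite u := LocallyQuasiFinite.of_injective hinj
  have hbir : IsIso (u.stalkMap (genericPoint X)) := by
    rw [ConcreteCategory.isIso_iff_bijective]
    have h1 : Function.Bijective (Xc.presheaf.stalkSpecializes (specializes_of_eq hu2) ≫
        u.stalkMap (genericPoint X)).hom := by
      rw [hu3]; exact hφbij
    rw [CommRingCat.hom_comp, RingHom.coe_comp] at h1
    exact (Function.Bijective.of_comp_iff _ (isIso_stalkSpecializes_of_eq hu2)).mp h1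
  exact (Groth.Agent.S4809.result (fun y ↦ (hnormc y).2) u hu2 hbir).2 hsep

end Groth.Agent.Lib.CurveCompl85


namespace Groth.Agent.Lib.CurveCompl85

/-- Normality at the image point of an open immersion. -/
theorem isNormal_at_of_isOpenImmersion {T' T : Scheme.{u}} (j : T' ⟶ T) [IsOpenImmersion j]
    (t : T') (h : IsDomain (T'.presheaf.stalk t) ∧ IsIntegrallyClosed (T'.presheaf.stalk t)) :
    IsDomain (T.presheaf.stalk (j t)) ∧ IsIntegrallyClosed (T.presheaf.stalk (j t)) := by
  let e : T.presheaf.stalk (j t) ≃+* T'.presheaf.stalk t :=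
    (asIso (j.stalkMap t)).commRingCatIsoToRingEquiv
  have h1 := h.1
  have h2 := h.2
  exact ⟨e.toMulEquiv.isDomain _, IsIntegrallyClosed.of_equiv e.symm⟩

theorem exists_sigmaι_eq {σ : Type u} (Y : σ → Scheme.{u}) (y : ↥(∐ Y)) :
    ∃ (Z : σ) (y' : Y Z), (Sigma.ι Y Z) y' = y :=
  (sigmaOpenCover Y).exists_eq y

/-- Components of a normal curve. -/
theorem exists_completion_component (k : Type u) [Field k] (X : Scheme.{u})
    [X.Over (Spec (CommRingCat.of k))] [LocallyOfFiniteType (X ↘ Spec (CommRingCat.of k))]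
    [QuasiCompact (X ↘ Spec (CommRingCat.of k))] [IsSeparated (X ↘ Spec (CommRingCat.of k))]
    (hcurve : ∀ x : X, IsClosed ({x} : Set X) → ringKrullDim (X.presheaf.stalk x) = 1)
    (hnorm : Pi1.IsNormalScheme X) (U : X.Opens)
    (hU : (U : Set X) ∈ irreducibleComponents X) :
    ∃ (Xc : Scheme.{u}) (sc : Xc ⟶ Spec (CommRingCat.of k)) (j : U.toScheme ⟶ Xc),
      IsOpenImmersion j ∧ IsIntegral Xc ∧ j ≫ sc = U.ι ≫ (X ↘ Spec (CommRingCat.of k)) ∧
      IsProper sc ∧ Pi1.IsNormalScheme Xc ∧
      ∀ x : Xc, IsClosed ({x} : Set Xc) → ringKrullDim (Xc.presheaf.stalk x) = 1 := by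
  have hlN : IsLocallyNoetherian X :=
    LocallyOfFiniteType.isLocallyNoetherian (X ↘ Spec (CommRingCat.of k))
  let _ : U.toScheme.Over (Spec (CommRingCat.of k)) :=
    ⟨U.ι ≫ (X ↘ Spec (CommRingCat.of k))⟩
  have h1 : LocallyOfFiniteType (U.toScheme ↘ Spec (CommRingCat.of k)) := by
    change LocallyOfFiniteType (U.ι ≫ (X ↘ Spec (CommRingCat.of k)))
    infer_instance
  have h2 : QuasiCompact (U.toScheme ↘ Spec (CommRingCat.of k)) := by
    change QuasiCompact (U.ι ≫ (X ↘ Spec (CommRingCat.of k)))
    infer_instance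
  have h3 : IsSeparated (U.toScheme ↘ Spec (CommRingCat.of k)) := by
    change IsSeparated (U.ι ≫ (X ↘ Spec (CommRingCat.of k)))
    infer_instance
  have h4 : IsIntegral U.toScheme := by
    have : IrreducibleSpace U.toScheme := isIrreducible_iff_irreducibleSpace.mp hU.1
    have hred : ∀ x : X, _root_.IsReduced (X.presheaf.stalk x) := fun x ↦ by
      have := (hnorm x).1
      infer_instance
    have : IsReduced X := isReduced_of_isReduced_stalk X
    exact isIntegral_of_irreducibleSpace_of_isReduced _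
  have h5 : ∀ x : U.toScheme, IsClosed ({x} : Set U.toScheme) →
      ringKrullDim (U.toScheme.presheaf.stalk x) = 1 := by
    intro x hx
    rw [ringKrullDim_stalk_of_isOpenImmersion U.ι x]
    apply hcurve
    have hcl : Topology.IsClosedEmbedding U.ι := ⟨U.ι.isEmbedding, by
      rw [Scheme.Opens.range_ι]
      exact isClosed_of_mem_irreducibleComponents _ hU⟩
    have := hcl.isClosedMap _ hx
    rwa [Set.image_singleton] at this
  exact exists_completion_of_isIntegral k U.toScheme h5
    (isNormalScheme_of_isOpenImmersion U.ι hnorm)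

/-- Every normal algebraic curve admits a dense open immersion into a normal proper curve. -/
theorem exists_completion (k : Type u) [Field k] (X : Scheme.{u})
    [X.Over (Spec (CommRingCat.of k))] [LocallyOfFiniteType (X ↘ Spec (CommRingCat.of k))]
    [QuasiCompact (X ↘ Spec (CommRingCat.of k))] [IsSeparated (X ↘ Spec (CommRingCat.of k))]
    (hcurve : ∀ x : X, IsClosed ({x} : Set X) → ringKrullDim (X.presheaf.stalk x) = 1)
    (hnorm : Pi1.IsNormalScheme X) :
    ∃ (Xc : Scheme.{u}) (sc : Xc ⟶ Spec (CommRingCat.of k)) (j : X ⟶ Xc),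
      IsOpenImmersion j ∧ Dense (Set.range j.base) ∧ j ≫ sc = X ↘ Spec (CommRingCat.of k) ∧
      IsProper sc ∧ Pi1.IsNormalScheme Xc ∧
      ∀ x : Xc, IsClosed ({x} : Set Xc) → ringKrullDim (Xc.presheaf.stalk x) = 1 := by
  have hlN : IsLocallyNoetherian X :=
    LocallyOfFiniteType.isLocallyNoetherian (X ↘ Spec (CommRingCat.of k))
  have hcomp : CompactSpace X :=
    QuasiCompact.compactSpace_of_compactSpace (X ↘ Spec (CommRingCat.of k))
  have hN : IsNoetherian X := {}
  have hdom : ∀ x : X, IsDomain (X.presheaf.stalk x) := fun x ↦ (hnorm x).1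
  let σ : Type u := {Z : Set X // Z ∈ irreducibleComponents X}
  have hfin : Finite σ := (NoetherianSpace.finite_irreducibleComponents (α := X)).to_subtype
  have hopen : ∀ Z : σ, IsOpen Z.1 := fun Z ↦ isOpen_of_mem_irreducibleComponents hdom Z.2
  let U : σ → X.Opens := fun Z ↦ ⟨Z.1, hopen Z⟩
  have hcomponent := fun Z : σ ↦ exists_completion_component k X hcurve hnorm (U Z) Z.2
  choose Xc sc j hj1 hj2 hj3 hj4 hj5 hj6 using hcomponent
  -- `X` is the disjoint union of its components
  have hcov : ⨆ Z, ((U Z).ι).opensRange = ⊤ := by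
    rw [eq_top_iff]
    intro x _
    rw [Opens.mem_iSup]
    refine ⟨⟨irreducibleComponent x, irreducibleComponent_mem_irreducibleComponents x⟩, ?_⟩
    rw [Scheme.Opens.opensRange_ι]
    exact mem_irreducibleComponent
  have hdisj : Pairwise (Function.onFun Disjoint fun Z ↦ ((U Z).ι).opensRange) := by
    intro Z Z' hne
    rw [Function.onFun, Scheme.Opens.opensRange_ι, Scheme.Opens.opensRange_ι]
    have := pairwiseDisjoint_irreducibleComponents hdom Z.2 Z'.2
      (fun h ↦ hne (Subtype.ext h))
    rw [disjoint_iff]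
    ext x
    simp only [Opens.coe_inf, Opens.coe_bot, Set.mem_inter_iff, Set.mem_empty_iff_false, iff_false]
    rintro ⟨h1, h2⟩
    exact (Set.disjoint_left.mp this) h1 h2
  obtain ⟨hc⟩ := nonempty_isColimit_cofanMk_of (fun Z ↦ (U Z).ι) hcov hdisj
  have hd : IsIso (Sigma.desc fun Z ↦ (U Z).ι) :=
    (Cofan.nonempty_isColimit_iff_isIso_sigmaDesc (Cofan.mk X fun Z ↦ (U Z).ι)).mp ⟨hc⟩
  let α : ∀ Z, (U Z).toScheme ⟶ ∐ Xc := fun Z ↦ j Z ≫ Sigma.ι Xc Z
  have hα : ∀ Z, IsOpenImmersion (α Z) := fun Z ↦ by
    have := hj1 Z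
    infer_instance
  have hαrange : ∀ Z, Set.range (α Z) ⊆ Set.range (Sigma.ι Xc Z) := by
    rintro Z _ ⟨x, rfl⟩
    exact ⟨j Z x, rfl⟩
  have hαdisj : Pairwise (Function.onFun Disjoint fun Z ↦ Set.range (α Z)) := by
    intro Z Z' hne
    have h := disjoint_opensRange_sigmaι Xc Z Z' hne
    rw [Function.onFun]
    refine Set.disjoint_left.mpr fun x hx hx' ↦ ?_
    have h1 : x ∈ (Sigma.ι Xc Z).opensRange ⊓ (Sigma.ι Xc Z').opensRange :=
      ⟨hαrange Z hx, hαrange Z' hx'⟩
    rw [h.eq_bot] at h1
    exact h1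
  have hopenimm : IsOpenImmersion (Sigma.desc α) := isOpenImmersion_sigmaDesc _ α hαdisj
  let jj : X ⟶ ∐ Xc := inv (Sigma.desc fun Z ↦ (U Z).ι) ≫ Sigma.desc α
  have hjj : ∀ Z, (U Z).ι ≫ jj = α Z := by
    intro Z
    have h1 : (U Z).ι = Sigma.ι (fun Z ↦ (U Z).toScheme) Z ≫ Sigma.desc fun Z ↦ (U Z).ι :=
      (Sigma.ι_desc (fun Z ↦ (U Z).ι) Z).symm
    rw [h1, Category.assoc, IsIso.hom_inv_id_assoc, Sigma.ι_desc]
  refine ⟨∐ Xc, Sigma.desc sc, jj, inferInstance, ?_, ?_, isProper_sigmaDesc _ sc hj4, ?_, ?_⟩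
  · -- density
    rw [dense_iff_closure_eq, Set.eq_univ_iff_forall]
    intro y
    obtain ⟨Z, y', rfl⟩ := exists_sigmaι_eq Xc y
    have hint := hj2 Z
    have hne : (Set.range (j Z)).Nonempty := by
      obtain ⟨x, hx⟩ := Z.2.1.1
      exact ⟨j Z ⟨x, hx⟩, ⟨⟨x, hx⟩, rfl⟩⟩
    have hdense : Dense (Set.range (j Z)) :=
      (hj1 Z).base_open.isOpen_range.dense hne
    have h1 : (Sigma.ι Xc Z) y' ∈ (Sigma.ι Xc Z) '' closure (Set.range (j Z)) :=
      ⟨y', hdense y', rfl⟩
    have h2 := image_closure_subset_closure_image (Sigma.ι Xc Z).continuous h1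
    refine closure_mono ?_ h2
    rintro _ ⟨_, ⟨x, rfl⟩, rfl⟩
    refine ⟨(U Z).ι x, ?_⟩
    change ((U Z).ι ≫ jj) x = _
    rw [hjj Z]
    rfl
  · rw [← cancel_epi (Sigma.desc fun Z ↦ (U Z).ι)]
    refine Sigma.hom_ext _ _ fun Z ↦ ?_
    rw [Sigma.ι_desc_assoc, Sigma.ι_desc_assoc, ← Category.assoc, hjj Z, Category.assoc,
      Sigma.ι_desc, hj3 Z]
  · intro y
    obtain ⟨Z, y', rfl⟩ := exists_sigmaι_eq Xc y
    exact isNormal_at_of_isOpenImmersion (Sigma.ι Xc Z) y' (hj5 Z y')
  · intro y hy
    obtain ⟨Z, y', rfl⟩ := exists_sigmaι_eq Xc y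
    change ringKrullDim ((∐ Xc).presheaf.stalk ((Sigma.ι Xc Z) y')) = 1
    rw [← ringKrullDim_stalk_of_isOpenImmersion (Sigma.ι Xc Z) y']
    apply hj6 Z
    have hpre : ({y'} : Set (Xc Z)) = (Sigma.ι Xc Z) ⁻¹' {(Sigma.ι Xc Z) y'} := by
      ext z
      simp only [Set.mem_singleton_iff, Set.mem_preimage]
      exact ⟨fun h ↦ by rw [h], fun h ↦ (Sigma.ι Xc Z).isOpenEmbedding.injective h⟩
    rw [hpre]
    exact hy.preimage (Sigma.ι Xc Z).continuous

end Groth.Agent.Lib.CurveCompl85

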