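/-
helper84: a DVR criterion without domain hypothesis.
* `isDVR_of_maximalIdeal_eq_span` : Noetherian local ring with maximal ideal generated by a nonzerodivisor is a DVR (and a domain);
* `isIntegral_of_mul_mem` : an element stabilizing a f.g. submodule containing a unit is integral;
* `isDVR_of_integrallyClosed_away` : Noetherian local `B`, `τ ∈ m` a nonzerodivisor with `V(τ) = {m}`, `B` integrally closed in `B[1/τ]` ⇒ `B` DVR;
* `integrallyClosed_away_localization` : "integrally closed in `C[1/t]`" passes to localizations of `C`;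
* `isDVR_localization_of_integrallyClosed_away` : global form: `C` Noetherian, integrally closed in `C[1/t]`, `n` prime with `V(t) ∩ Spec C_n = {n}` ⇒ `C_n` DVR;
* `isMaximal_of_lt_of_dim_le_one`, `exists_isolating_function` : in a Noetherian ring of dim ≤ 1, a non-minimal maximal ideal `m` is cut out on some `D(g)` by one function `t` avoiding all minimal primes.
-/
import Mathlib

set_option autoImplicit false
set_option maxHeartbeats 800000
set_option linter.style.haveILetI false

open IsLocalRing

namespace Groth.Agent.Lib.DVRCrit84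

/-- A Noetherian local ring whose maximal ideal is generated by a nonzerodivisor is a DVR. -/
theorem isDVR_of_maximalIdeal_eq_span {B : Type*} [CommRing B] [IsLocalRing B] [IsNoetherianRing B]
    (u : B) (hu : u ∈ nonZeroDivisors B) (hm : maximalIdeal B = Ideal.span {u}) :
    ∃ _ : IsDomain B, IsDiscreteValuationRing B := by
  have hne : maximalIdeal B ≠ ⊤ := Ideal.IsPrime.ne_top'
  have hinf := Ideal.iInf_pow_eq_bot_of_isLocalRing (maximalIdeal B) hne
  have key : ∀ b : B, b ≠ 0 → b ∈ nonZeroDivisors B := by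
    intro b hb
    have : ∃ k, b ∉ maximalIdeal B ^ k := by
      by_contra hcon
      push Not at hcon
      apply hb
      have : b ∈ ⨅ i, maximalIdeal B ^ i := by
        rw [Ideal.mem_iInf]; exact hcon
      rw [hinf] at this
      simpa using this
    classical
    let k := Nat.find this
    have hk : b ∉ maximalIdeal B ^ k := Nat.find_spec this
    have hk0 : k ≠ 0 := by
      intro h0
      rw [h0, pow_zero, Ideal.one_eq_top] at hk
      exact hk trivial
    obtain ⟨j, hj⟩ : ∃ j, k = j + 1 := ⟨k - 1, by omega⟩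
    have hj' : b ∈ maximalIdeal B ^ j := by
      by_contra hcon
      have := Nat.find_min' this hcon
      omega
    rw [hm, Ideal.span_singleton_pow, Ideal.mem_span_singleton'] at hj'
    obtain ⟨w, hw⟩ := hj'
    have hwu : IsUnit w := by
      by_contra hcon
      have hwm : w ∈ maximalIdeal B := (mem_maximalIdeal w).mpr hcon
      apply hk
      rw [hj, pow_succ, ← hw]
      refine Ideal.mul_mem_mul_rev ?_ hwm
      rw [hm, Ideal.span_singleton_pow]
      exact Ideal.mem_span_singleton_self _
    rw [← hw]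
    exact mul_mem hwu.mem_nonZeroDivisors (pow_mem hu j)
  haveI : NoZeroDivisors B := by
    constructor
    intro a b hab
    by_contra hcon
    push Not at hcon
    have := key a hcon.1
    have h2 := (mem_nonZeroDivisors_iff.mp this).1 b hab
    exact hcon.2 h2
  haveI : IsDomain B := NoZeroDivisors.to_isDomain B
  refine ⟨inferInstance, ?_⟩
  have hprin : (maximalIdeal B).IsPrincipal := ⟨⟨u, hm⟩⟩
  haveI : IsPrincipalIdealRing B :=
    ((tfae_of_isNoetherianRing_of_isLocalRing_of_isDomain B).out 4 0).mp hprin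
  refine { not_a_field' := ?_ }
  rw [hm]
  intro h0
  have : u = 0 := Ideal.span_singleton_eq_bot.mp h0
  exact nonZeroDivisors.ne_zero hu this

/-- an element `x` of an algebra stabilizing a f.g. submodule `N` containing a unit times ... is integral -/
theorem isIntegral_of_mul_mem {B Bτ : Type*} [CommRing B] [IsNoetherianRing B] [CommRing Bτ] [Algebra B Bτ]
    (N : Submodule B Bτ) (hN : N.FG) (e : Bτ) (he : IsUnit e) (heN : e ∈ N)
    (x : Bτ) (hx : ∀ n ∈ N, x * n ∈ N) : IsIntegral B x := by
  let S := Algebra.adjoin B {x}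
  have hS : ∀ y ∈ S, ∀ n ∈ N, y * n ∈ N := by
    intro y hy
    induction hy using Algebra.adjoin_induction with
    | mem z hz =>
      rw [Set.mem_singleton_iff] at hz
      subst hz
      exact hx
    | algebraMap r =>
      intro n hn
      rw [← Algebra.smul_def]
      exact N.smul_mem r hn
    | add a b _ _ ha hb =>
      intro n hn
      rw [add_mul]
      exact N.add_mem (ha n hn) (hb n hn)
    | mul a b _ _ ha hb =>
      intro n hn
      rw [mul_assoc]
      exact ha _ (hb n hn)
  let ψ : Bτ →ₗ[B] Bτ := LinearMap.mulRight B e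
  have hψ : Function.Injective ψ := by
    intro a b hab
    have : a * e = b * e := hab
    exact he.mul_left_injective this
  have hle : S.toSubmodule.map ψ ≤ N := by
    rintro _ ⟨y, hy, rfl⟩
    exact hS y hy e heN
  haveI : IsNoetherian B N := isNoetherian_of_fg_of_noetherian N hN
  haveI : IsNoetherian B (S.toSubmodule.map ψ) := isNoetherian_of_le hle
  have hfg : (S.toSubmodule.map ψ).FG := by
    rw [← Submodule.fg_top]
    exact Module.Finite.fg_top
  have hSfg : S.toSubmodule.FG := Submodule.fg_of_fg_map_injective ψ hψ hfg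
  exact IsIntegral.of_mem_of_fg S hSfg x (Algebra.subset_adjoin (Set.mem_singleton x))

theorem isDVR_of_integrallyClosed_away {B : Type*} [CommRing B] [IsLocalRing B] [IsNoetherianRing B]
    (τ : B) (hτm : τ ∈ maximalIdeal B) (hτ : τ ∈ nonZeroDivisors B)
    (hP : ∀ P : Ideal B, P.IsPrime → τ ∈ P → P = maximalIdeal B)
    (Bτ : Type*) [CommRing Bτ] [Algebra B Bτ] [IsLocalization.Away τ Bτ]
    (hic : ∀ x : Bτ, IsIntegral B x → x ∈ (algebraMap B Bτ).range) :
    ∃ _ : IsDomain B, IsDiscreteValuationRing B := by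
  have hrad : (Ideal.span {τ}).radical = maximalIdeal B := by
    rw [Ideal.radical_eq_sInf]
    apply le_antisymm
    · apply sInf_le
      exact ⟨(Ideal.span_singleton_le_iff_mem _).mpr hτm, inferInstance⟩
    · apply le_sInf
      rintro J ⟨hJ, hJp⟩
      rw [hP J hJp ((Ideal.span_singleton_le_iff_mem _).mp hJ)]
  have hex : ∃ k, maximalIdeal B ^ k ≤ Ideal.span {τ} := by
    have := Ideal.exists_radical_pow_le_of_fg (Ideal.span {τ})
      (by rw [hrad]; exact IsNoetherian.noetherian _)
    rwa [hrad] at this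
  classical
  let k₀ := Nat.find hex
  have hk₀ : maximalIdeal B ^ k₀ ≤ Ideal.span {τ} := Nat.find_spec hex
  have hτnu : ¬ IsUnit τ := (mem_maximalIdeal τ).mp hτm
  have hk0 : k₀ ≠ 0 := by
    intro h0
    rw [h0, pow_zero, Ideal.one_eq_top, top_le_iff, Ideal.span_singleton_eq_top] at hk₀
    exact hτnu hk₀
  obtain ⟨j, hj⟩ : ∃ j, k₀ = j + 1 := ⟨k₀ - 1, by omega⟩
  have hjn : ¬ maximalIdeal B ^ j ≤ Ideal.span {τ} := by
    intro hcon
    have := Nat.find_min' hex hcon
    omega
  obtain ⟨a, haj, haτ⟩ := Set.not_subset.mp hjn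
  have hav : ∀ v ∈ maximalIdeal B, ∃ w, a * v = τ * w := by
    intro v hv
    have h1 : a * v ∈ maximalIdeal B ^ k₀ := by
      rw [hj, pow_succ]
      exact Ideal.mul_mem_mul haj hv
    obtain ⟨w, hw⟩ := Ideal.mem_span_singleton'.mp (hk₀ h1)
    exact ⟨w, by rw [← hw, mul_comm]⟩
  by_cases hA : ∀ v ∈ maximalIdeal B, ∀ w, a * v = τ * w → w ∈ maximalIdeal B
  · -- case A : contradiction through integrality
    exfalso
    have hinj : Function.Injective (algebraMap B Bτ) :=
      IsLocalization.injective Bτ (M := Submonoid.powers τ) (Submonoid.powers_le.mpr hτ)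
    have he : IsUnit (algebraMap B Bτ τ) := IsLocalization.Away.algebraMap_isUnit τ
    let x : Bτ := algebraMap B Bτ a * ↑(he.unit⁻¹)
    have hxe : x * algebraMap B Bτ τ = algebraMap B Bτ a := by
      change algebraMap B Bτ a * ↑(he.unit⁻¹) * algebraMap B Bτ τ = _
      rw [mul_assoc, IsUnit.val_inv_mul, mul_one]
    let N : Submodule B Bτ := Submodule.map (Algebra.linearMap B Bτ) (maximalIdeal B)
    have hNfg : N.FG := Submodule.FG.map _ (IsNoetherian.noetherian _)
    have heN : algebraMap B Bτ τ ∈ N := ⟨τ, hτm, rfl⟩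
    have hxN : ∀ n ∈ N, x * n ∈ N := by
      rintro _ ⟨v, hv, rfl⟩
      obtain ⟨w, hw⟩ := hav v hv
      refine ⟨w, hA v hv w hw, ?_⟩
      change algebraMap B Bτ w = x * algebraMap B Bτ v
      apply he.mul_left_injective
      change algebraMap B Bτ w * algebraMap B Bτ τ = x * algebraMap B Bτ v * algebraMap B Bτ τ
      rw [mul_assoc, mul_comm (algebraMap B Bτ v), ← mul_assoc, hxe, ← map_mul, ← map_mul, hw,
        mul_comm]
    have hint : IsIntegral B x := isIntegral_of_mul_mem N hNfg _ he heN x hxN
    obtain ⟨b, hb⟩ := hic x hint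
    apply haτ
    have : algebraMap B Bτ a = algebraMap B Bτ (b * τ) := by
      rw [map_mul, hb, hxe]
    have := hinj this
    rw [this]
    exact Ideal.mem_span_singleton'.mpr ⟨b, rfl⟩
  · push Not at hA
    obtain ⟨v, hv, w, hw, hwm⟩ := hA
    have hwu : IsUnit w := by
      by_contra hcon
      exact hwm ((mem_maximalIdeal w).mpr hcon)
    have hvnzd : v ∈ nonZeroDivisors B := by
      have h1 : a * v ∈ nonZeroDivisors B := by
        rw [hw]
        exact mul_mem hτ hwu.mem_nonZeroDivisors
      exact (mul_mem_nonZeroDivisors.mp h1).2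
    refine isDVR_of_maximalIdeal_eq_span v hvnzd ?_
    apply le_antisymm
    · intro v' hv'
      obtain ⟨w', hw'⟩ := hav v' hv'
      have h2 : τ * (w * v') = τ * (v * w') := by
        calc τ * (w * v') = (τ * w) * v' := by ring
          _ = (a * v) * v' := by rw [hw]
          _ = v * (a * v') := by ring
          _ = v * (τ * w') := by rw [hw']
          _ = τ * (v * w') := by ring
      have h3 : w * v' = v * w' := by
        have := (mem_nonZeroDivisors_iff.mp hτ).1
        have h4 : (w * v' - v * w') * τ = 0 := by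
          rw [sub_mul, mul_comm _ τ, mul_comm _ τ, h2, sub_self]
        have := (mem_nonZeroDivisors_iff.mp hτ).2 _ h4
        exact sub_eq_zero.mp this
      obtain ⟨w₁, hw₁⟩ := hwu.exists_left_inv
      rw [Ideal.mem_span_singleton']
      refine ⟨w₁ * w', ?_⟩
      calc w₁ * w' * v = w₁ * (v * w') := by ring
        _ = w₁ * (w * v') := by rw [h3]
        _ = (w₁ * w) * v' := by ring
        _ = v' := by rw [hw₁, one_mul]
    · rw [Ideal.span_singleton_le_iff_mem]
      exact hv

/-- "integrally closed in the localization away from `t`" passes to localizations -/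
theorem integrallyClosed_away_localization {C Ct B Bτ : Type*} [CommRing C] [CommRing Ct]
    [CommRing B] [CommRing Bτ] [Algebra C Ct] [Algebra C B] [Algebra B Bτ] [Algebra C Bτ]
    [Algebra Ct Bτ] [IsScalarTower C B Bτ] [IsScalarTower C Ct Bτ]
    (t : C) (M : Submonoid C) [IsLocalization.Away t Ct] [IsLocalization M B]
    [IsLocalization.Away (algebraMap C B t) Bτ]
    (hic : ∀ x : Ct, IsIntegral C x → x ∈ (algebraMap C Ct).range) :
    ∀ x : Bτ, IsIntegral B x → x ∈ (algebraMap B Bτ).range := by
  haveI h1 : IsLocalization (Algebra.algebraMapSubmonoid B (Submonoid.powers t)) Bτ := by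
    have : Algebra.algebraMapSubmonoid B (Submonoid.powers t) =
        Submonoid.powers (algebraMap C B t) := by
      simp [Algebra.algebraMapSubmonoid, Submonoid.map_powers]
    rw [this]
    infer_instance
  haveI h2 : IsLocalization (Algebra.algebraMapSubmonoid Ct M) Bτ :=
    IsLocalization.commutes Ct B Bτ (Submonoid.powers t) M
  intro x hx
  obtain ⟨⟨x₀, ⟨_, m₀, hm₀, rfl⟩⟩, e⟩ := IsLocalization.surj (Algebra.algebraMapSubmonoid Ct M) x
  dsimp only at e
  have hm₀' : algebraMap Ct Bτ (algebraMap C Ct m₀) = algebraMap B Bτ (algebraMap C B m₀) := by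
    rw [← IsScalarTower.algebraMap_apply, ← IsScalarTower.algebraMap_apply]
  have hx1 : IsIntegral B (algebraMap Ct Bτ x₀) := by
    rw [← e, hm₀']
    exact hx.mul isIntegral_algebraMap
  obtain ⟨⟨m₁, hm₁⟩, h3⟩ :=
    IsIntegral.exists_multiple_integral_of_isLocalization M (algebraMap Ct Bτ x₀) hx1
  have h3' : IsIntegral C (algebraMap Ct Bτ (m₁ • x₀)) := by
    rw [Algebra.smul_def, map_mul, ← IsScalarTower.algebraMap_apply, ← Algebra.smul_def]
    exact h3
  obtain ⟨m₂, hm₂, h4⟩ := IsLocalization.exists_isIntegral_smul_of_isIntegral_map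
    (R := C) (S := Ct) (Sₘ := Bτ) M (x := m₁ • x₀) h3'
  obtain ⟨c, hc⟩ := hic _ h4
  have hu : IsUnit (algebraMap C B (m₀ * m₁ * m₂)) :=
    IsLocalization.map_units B ⟨m₀ * m₁ * m₂, mul_mem (mul_mem hm₀ hm₁) hm₂⟩
  refine ⟨algebraMap C B c * ↑(hu.unit⁻¹), ?_⟩
  have hu' : IsUnit (algebraMap B Bτ (algebraMap C B (m₀ * m₁ * m₂))) := hu.map _
  apply hu'.mul_left_injective
  change algebraMap B Bτ (algebraMap C B c * ↑(hu.unit⁻¹)) * algebraMap B Bτ (algebraMap C B (m₀ * m₁ * m₂)) =
    x * algebraMap B Bτ (algebraMap C B (m₀ * m₁ * m₂))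
  rw [← map_mul, mul_assoc, IsUnit.val_inv_mul, mul_one]
  have hc' : algebraMap C Ct c = algebraMap C Ct m₂ * (algebraMap C Ct m₁ * x₀) := by
    rw [hc, Algebra.smul_def, Algebra.smul_def]
  calc algebraMap B Bτ (algebraMap C B c) = algebraMap Ct Bτ (algebraMap C Ct c) := by
        rw [← IsScalarTower.algebraMap_apply, ← IsScalarTower.algebraMap_apply]
    _ = algebraMap Ct Bτ (algebraMap C Ct m₂) * (algebraMap Ct Bτ (algebraMap C Ct m₁) *
          algebraMap Ct Bτ x₀) := by rw [hc', map_mul, map_mul]
    _ = algebraMap Ct Bτ (algebraMap C Ct m₂) * (algebraMap Ct Bτ (algebraMap C Ct m₁) *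
          (x * algebraMap Ct Bτ (algebraMap C Ct m₀))) := by rw [e]
    _ = x * algebraMap B Bτ (algebraMap C B (m₀ * m₁ * m₂)) := by
        rw [← IsScalarTower.algebraMap_apply C Ct Bτ, ← IsScalarTower.algebraMap_apply C Ct Bτ,
          ← IsScalarTower.algebraMap_apply C Ct Bτ, ← IsScalarTower.algebraMap_apply C B Bτ,
          map_mul, map_mul]
        ring

theorem isDVR_localization_of_integrallyClosed_away {C : Type*} [CommRing C] [IsNoetherianRing C]
    (t : C) (ht : t ∈ nonZeroDivisors C) (Ct : Type*) [CommRing Ct] [Algebra C Ct]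
    [IsLocalization.Away t Ct]
    (hic : ∀ x : Ct, IsIntegral C x → x ∈ (algebraMap C Ct).range)
    (n : Ideal C) [n.IsPrime] (htn : t ∈ n)
    (hq : ∀ q : Ideal C, q.IsPrime → q ≤ n → t ∈ q → q = n)
    (B : Type*) [CommRing B] [Algebra C B] [IsLocalization.AtPrime B n] :
    ∃ _ : IsDomain B, IsDiscreteValuationRing B := by
  haveI : IsLocalRing B := IsLocalization.AtPrime.isLocalRing B n
  haveI : IsNoetherianRing B := IsLocalization.isNoetherianRing n.primeCompl B inferInstance
  let τ : B := algebraMap C B t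
  have hτm : τ ∈ maximalIdeal B := (IsLocalization.AtPrime.to_map_mem_maximal_iff B n t).mpr htn
  have hτ : τ ∈ nonZeroDivisors B :=
    IsLocalization.map_nonZeroDivisors_le n.primeCompl B ⟨t, ht, rfl⟩
  have hP : ∀ P : Ideal B, P.IsPrime → τ ∈ P → P = maximalIdeal B := by
    intro P hPp hτP
    have hdisj := ((IsLocalization.isPrime_iff_isPrime_disjoint n.primeCompl B P).mp hPp).2
    have hqp : (P.comap (algebraMap C B)).IsPrime := Ideal.IsPrime.comap _
    have hle : P.comap (algebraMap C B) ≤ n := by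
      intro c hc
      by_contra hcn
      exact Set.disjoint_left.mp hdisj hcn hc
    have := hq _ hqp hle hτP
    have h5 := IsLocalization.map_under n.primeCompl B P
    rw [Ideal.under_def, this, IsLocalization.AtPrime.map_eq_maximalIdeal] at h5
    exact h5.symm
  let Bτ := Localization.Away τ
  haveI : IsScalarTower C B Bτ := inferInstance
  have hunit : IsUnit (algebraMap C Bτ t) := by
    rw [IsScalarTower.algebraMap_apply C B Bτ]
    exact IsLocalization.Away.algebraMap_isUnit τ
  letI : Algebra Ct Bτ := (IsLocalization.Away.lift t (g := algebraMap C Bτ) hunit).toAlgebra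
  haveI : IsScalarTower C Ct Bτ := IsScalarTower.of_algebraMap_eq
    (fun c => (IsLocalization.Away.lift_eq t hunit c).symm)
  haveI : IsLocalization.Away (algebraMap C B t) Bτ := inferInstanceAs (IsLocalization.Away τ Bτ)
  have hicB := integrallyClosed_away_localization (C := C) (Ct := Ct) (B := B) (Bτ := Bτ)
    t n.primeCompl hic
  exact isDVR_of_integrallyClosed_away τ hτm hτ hP Bτ hicB

/-- in a ring of dimension `≤ 1`, a prime strictly containing a prime is maximal -/
theorem isMaximal_of_lt_of_dim_le_one {R : Type*} [CommRing R] (hdim : ringKrullDim R ≤ 1)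
    (p q : Ideal R) [p.IsPrime] [hq : q.IsPrime] (hpq : p < q) : q.IsMaximal := by
  obtain ⟨m', hm', hqm'⟩ := Ideal.exists_le_maximal q hq.ne_top
  by_contra hcon
  have hne : q ≠ m' := fun h => hcon (h ▸ hm')
  have hlt : q < m' := lt_of_le_of_ne hqm' hne
  haveI : m'.IsPrime := hm'.isPrime
  have h1 := Ideal.height_add_one_le_of_lt_of_isPrime hpq
  have h2 := Ideal.height_add_one_le_of_lt_of_isPrime hlt
  have h3 : (m'.height : WithBot ℕ∞) ≤ ringKrullDim R :=
    Ideal.height_le_ringKrullDim_of_ne_top hm'.ne_top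
  have h4 : (2 : ℕ∞) ≤ m'.height := by
    calc (2 : ℕ∞) = 0 + 1 + 1 := by norm_num
      _ ≤ p.height + 1 + 1 := by gcongr; exact bot_le
      _ ≤ q.height + 1 := by gcongr
      _ ≤ m'.height := h2
  have h5 : ((2 : ℕ∞) : WithBot ℕ∞) ≤ 1 := (WithBot.coe_le_coe.mpr h4).trans (h3.trans hdim)
  have h6 : (2 : ℕ∞) ≤ 1 := by exact_mod_cast h5
  norm_num at h6

/-- In a Noetherian ring of dimension `≤ 1`, a maximal ideal `m` which is not a minimal prime is,
on a basic open neighbourhood `D(g)`, the zero locus of a single function `t`. -/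
theorem exists_isolating_function {R : Type*} [CommRing R] [IsNoetherianRing R]
    (hdim : ringKrullDim R ≤ 1) (m : Ideal R) [hm : m.IsMaximal] (hmin : m ∉ minimalPrimes R) :
    ∃ g t : R, g ∉ m ∧ t ∈ m ∧ (∀ p ∈ minimalPrimes R, t ∉ p) ∧
      ∀ q : Ideal R, q.IsPrime → t ∈ q → g ∉ q → q = m := by
  classical
  have hfin : (minimalPrimes R).Finite := minimalPrimes.finite_of_isNoetherianRing R
  -- step 1 : `t`
  obtain ⟨t, htm, ht⟩ : ∃ t ∈ m, ∀ p ∈ minimalPrimes R, t ∉ p := by
    by_contra hcon
    push Not at hcon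
    have hsub : (m : Set R) ⊆ ⋃ p ∈ (↑hfin.toFinset : Set (Ideal R)), (id p : Ideal R) := by
      intro x hx
      obtain ⟨p, hp, hxp⟩ := hcon x hx
      simp only [Set.mem_iUnion]
      exact ⟨p, by simpa using hp, hxp⟩
    obtain ⟨p, hp, hmp⟩ := (Ideal.subset_union_prime (R := R) (s := hfin.toFinset)
      (f := fun p => p) ⊥ ⊥ (fun i hi _ _ => by
        have : i ∈ minimalPrimes R := by simpa using hi
        exact this.1.1)).mp hsub
    have hp' : p ∈ minimalPrimes R := by simpa using hp
    have : m = p := hm.eq_of_le hp'.1.1.ne_top hmp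
    exact hmin (this ▸ hp')
  -- step 2 : primes containing `t` are maximal
  have hmax : ∀ q : Ideal R, q.IsPrime → t ∈ q → q.IsMaximal := by
    intro q hq htq
    obtain ⟨p, hp, hpq⟩ := Ideal.exists_minimalPrimes_le (I := ⊥) (J := q) bot_le
    haveI := hp.1.1
    have hne : p ≠ q := fun h => ht p hp (h ▸ htq)
    exact isMaximal_of_lt_of_dim_le_one hdim p q (lt_of_le_of_ne hpq hne)
  -- step 3 : finitely many such primes
  have hFfin : {q : Ideal R | q.IsPrime ∧ t ∈ q}.Finite := by
    refine (Ideal.finite_minimalPrimes_of_isNoetherianRing R (Ideal.span {t})).subset ?_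
    rintro q ⟨hq, htq⟩
    refine ⟨⟨hq, (Ideal.span_singleton_le_iff_mem _).mpr htq⟩, ?_⟩
    rintro q' ⟨hq', htq'⟩ hle
    have := hmax q' hq' ((Ideal.span_singleton_le_iff_mem _).mp htq')
    exact (this.eq_of_le hq.ne_top hle).ge
  -- step 4 : `g`
  let F' : Finset (Ideal R) := hFfin.toFinset.erase m
  have hg : ∃ g, (∀ q ∈ F', g ∈ q) ∧ g ∉ m := by
    by_contra hcon
    push Not at hcon
    have hle : F'.inf (fun q => q) ≤ m := by
      intro g hg
      apply hcon g
      intro q hq
      have := (Finset.inf_le hq : F'.inf (fun q => q) ≤ q)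
      exact this hg
    obtain ⟨q, hqF, hqm⟩ := (Ideal.IsPrime.inf_le' hm.isPrime).mp hle
    have hq1 : q ≠ m := (Finset.mem_erase.mp hqF).1
    have hq2 : q.IsPrime ∧ t ∈ q := by simpa using (Finset.mem_erase.mp hqF).2
    have := hmax q hq2.1 hq2.2
    exact hq1 (this.eq_of_le hm.ne_top hqm)
  obtain ⟨g, hgF, hgm⟩ := hg
  refine ⟨g, t, hgm, htm, ht, ?_⟩
  intro q hq htq hgq
  by_contra hne
  apply hgq
  apply hgF
  rw [Finset.mem_erase]
  exact ⟨hne, by simpa using ⟨hq, htq⟩⟩

end Groth.Agent.Lib.DVRCrit84
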