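import Groth.Agent.Lib.NagataNormFin96D
import Groth.Agent.Lib.H87FieldN2

/-!
# Finiteness of relative normalization for schemes locally of finite type over a field
-/

set_option autoImplicit false
set_option linter.style.haveILetI false
universe u

open CategoryTheory CategoryTheory.Limits AlgebraicGeometry TopologicalSpace

namespace Groth.Agent.Lib.NagataNormFin96

/-- A finite type algebra over a field is Nagata. -/
theorem isNagata_of_finiteType_field (k A : Type u) [Field k] [CommRing A] [Algebra k A]
    [Algebra.FiniteType k A] : CAlg.IsNagata A := by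
  refine ⟨Algebra.FiniteType.isNoetherianRing k A, fun p _ => ?_⟩
  haveI : Algebra.FiniteType k (A ⧸ p) :=
    Algebra.FiniteType.of_surjective (Ideal.Quotient.mkₐ k p) (Ideal.Quotient.mkₐ_surjective k p)
  exact Groth.Agent.Lib.H87FieldN2.isN2_of_finiteType_field k (A ⧸ p)

theorem isNagata_of_lft_field (k : Type u) [Field k] (X : Scheme.{u})
    (g : X ⟶ Spec (CommRingCat.of k)) [LocallyOfFiniteType g] (U : X.affineOpens) :
    CAlg.IsNagata Γ(X, U) := by
  have h1 : (g.appLE ⊤ U.1 le_top).hom.FiniteType :=
    HasRingHomProperty.appLE (P := @LocallyOfFiniteType) g inferInstance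
      ⟨⊤, isAffineOpen_top _⟩ U le_top
  let φ : k →+* Γ(X, U) :=
    (g.appLE ⊤ U.1 le_top).hom.comp (Scheme.ΓSpecIso (CommRingCat.of k)).inv.hom
  have h2 : φ.FiniteType := h1.comp (RingHom.FiniteType.of_surjective _
    (ConcreteCategory.bijective_of_isIso (Scheme.ΓSpecIso (CommRingCat.of k)).inv).2)
  letI := φ.toAlgebra
  haveI : Algebra.FiniteType k Γ(X, U) := h2
  exact isNagata_of_finiteType_field k _

theorem isFinite_fromNormalization_of_lft_field (k : Type u) [Field k] (X Y : Scheme.{u})
    (gX : X ⟶ Spec (CommRingCat.of k)) (gY : Y ⟶ Spec (CommRingCat.of k))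
    [LocallyOfFiniteType gX] [LocallyOfFiniteType gY] [IsReduced Y] (f : Y ⟶ X)
    (hf : f ≫ gX = gY) [QuasiCompact f] [QuasiSeparated f] :
    IsFinite f.fromNormalization := by
  haveI : LocallyOfFiniteType (f ≫ gX) := by rw [hf]; infer_instance
  haveI : LocallyOfFiniteType f := locallyOfFiniteType_of_comp f gX
  exact isFinite_fromNormalization_of_nagata_of_finiteType f (isNagata_of_lft_field k X gX)

end Groth.Agent.Lib.NagataNormFin96
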