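/-
helper84: S1626 — projective completion of a reduced curve with DVR local rings at infinity:
relative normalization `j.normalization` of the S1625 completion `j : X → Ȳ`.
-/
import Groth.Agent.S1625
import Groth.Agent.S1667
import Groth.Agent.Lib.NagataNormFin96E
import Groth.Agent.Lib.DVRCrit84
import Groth.Agent.Lib.ImageInt84
import Groth.Agent.Lib.ProjCompl84
import Groth.Agent.Lib.DimOneTop42
import Groth.Agent.Lib.H8DenseDim
import Groth.Agent.Lib.ProjSpaceProper

set_option autoImplicit false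
set_option maxHeartbeats 800000
set_option linter.style.haveILetI false
universe u
open CategoryTheory CategoryTheory.Limits AlgebraicGeometry

namespace Groth.Agent.Lib.CurveDVRCompl84

/-- a general version: if `j' ≫ π = j` with `j`, `j'` open immersions, `π` separated and `j'` dominant,
then `π⁻¹(range j) ⊆ range j'`. -/
theorem preimage_range_subset {X Y Yb : Scheme.{u}} (j : X ⟶ Yb) (j' : X ⟶ Y) (π : Y ⟶ Yb)
    [IsOpenImmersion j] [IsOpenImmersion j'] [IsSeparated π] (h : j' ≫ π = j)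
    (hd : Dense (Set.range j'.base)) :
    π.base ⁻¹' (Set.range j.base) ⊆ Set.range j'.base := by
  let U : Yb.Opens := j.opensRange
  let W : Y.Opens := π ⁻¹ᵁ U
  have hsub : Set.range j'.base ⊆ Set.range W.ι.base := by
    rintro _ ⟨x, rfl⟩
    rw [Scheme.Opens.range_ι]
    change π.base (j'.base x) ∈ Set.range j.base
    rw [← Scheme.Hom.comp_apply, h]
    exact ⟨x, rfl⟩
  let j'' : X ⟶ W := IsOpenImmersion.lift W.ι j' hsub
  have hj'' : j'' ≫ W.ι = j' := IsOpenImmersion.lift_fac _ _ _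
  have hcomp : j'' ≫ (π ∣_ U) = j.isoOpensRange.hom := by
    rw [← cancel_mono U.ι, Category.assoc, morphismRestrict_ι, ← Category.assoc, hj'', h,
      Scheme.Hom.isoOpensRange_hom_ι]
  haveI : IsClosedImmersion (j'' ≫ (π ∣_ U)) := by
    rw [hcomp]; infer_instance
  haveI : IsClosedImmersion j'' := IsClosedImmersion.of_comp j'' (π ∣_ U)
  have hclosed : IsClosed (Set.range j''.base) := j''.isClosedEmbedding.isClosed_range
  have hdense : Dense (Set.range j''.base) := by
    have h1 : Set.range j''.base = W.ι.base ⁻¹' (Set.range j'.base) := by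
      ext w
      constructor
      · rintro ⟨x, rfl⟩
        refine ⟨x, ?_⟩
        rw [← hj'', Scheme.Hom.comp_apply]
      · rintro ⟨x, hx⟩
        refine ⟨x, ?_⟩
        apply W.ι.isOpenEmbedding.injective
        rw [← hx, ← hj'', Scheme.Hom.comp_apply]
    rw [h1]
    exact hd.preimage W.ι.isOpenEmbedding.isOpenMap
  have huniv : Set.range j''.base = Set.univ := by
    rw [← hclosed.closure_eq]; exact hdense.closure_eq
  intro y hy
  have hyW : y ∈ W := hy
  obtain ⟨x, hx⟩ : (⟨y, hyW⟩ : W) ∈ Set.range j''.base := by rw [huniv]; trivial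
  refine ⟨x, ?_⟩
  rw [← hj'', Scheme.Hom.comp_apply, hx]
  rfl

theorem mem_basicOpen_iff_notMem_primeIdealOf {X : Scheme.{u}} {U : X.Opens} (hU : IsAffineOpen U)
    (x : U) (f : Γ(X, U)) : (x : X) ∈ X.basicOpen f ↔ f ∉ (hU.primeIdealOf x).asIdeal := by
  have h1 : (x : X) ∈ X.basicOpen f ↔ hU.primeIdealOf x ∈ hU.fromSpec ⁻¹ᵁ X.basicOpen f := by
    change _ ↔ hU.fromSpec (hU.primeIdealOf x) ∈ X.basicOpen f
    rw [hU.fromSpec_primeIdealOf]
  rw [h1, hU.fromSpec_preimage_basicOpen]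
  exact PrimeSpectrum.mem_basicOpen _ _

theorem primeIdealOf_injective {X : Scheme.{u}} {U : X.Opens} (hU : IsAffineOpen U) :
    Function.Injective hU.primeIdealOf := by
  intro x y hxy
  apply Subtype.ext
  rw [← hU.fromSpec_primeIdealOf x, ← hU.fromSpec_primeIdealOf y, hxy]

theorem exists_primeIdealOf_eq {X : Scheme.{u}} {U : X.Opens} (hU : IsAffineOpen U)
    (q : PrimeSpectrum Γ(X, U)) : ∃ x : U, hU.primeIdealOf x = q := by
  have hq : hU.fromSpec q ∈ U := by
    have := hU.range_fromSpec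
    rw [← SetLike.mem_coe, ← this]
    exact ⟨q, rfl⟩
  refine ⟨⟨hU.fromSpec q, hq⟩, ?_⟩
  apply hU.fromSpec.isOpenEmbedding.injective
  rw [hU.fromSpec_primeIdealOf]

/-- in a Noetherian ring, a maximal ideal which is a minimal prime is an open point of the spectrum -/
theorem isOpen_singleton_of_mem_minimalPrimes {R : Type*} [CommRing R] [IsNoetherianRing R]
    (m : PrimeSpectrum R) (hm : m.asIdeal.IsMaximal) (hmin : m.asIdeal ∈ minimalPrimes R) :
    IsOpen ({m} : Set (PrimeSpectrum R)) := by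
  have hfin : (minimalPrimes R).Finite := minimalPrimes.finite_of_isNoetherianRing R
  have hcl : IsClosed (⋃ p ∈ (minimalPrimes R) \ {m.asIdeal}, PrimeSpectrum.zeroLocus (p : Set R)) :=
    (hfin.subset Set.sdiff_subset).isClosed_biUnion fun p _ => PrimeSpectrum.isClosed_zeroLocus _
  have heq : ({m} : Set (PrimeSpectrum R)) =
      (⋃ p ∈ (minimalPrimes R) \ {m.asIdeal}, PrimeSpectrum.zeroLocus (p : Set R))ᶜ := by
    ext q
    simp only [Set.mem_singleton_iff, Set.mem_compl_iff, Set.mem_iUnion, not_exists]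
    constructor
    · rintro rfl p ⟨hp, hpm⟩ hq
      have hle : p ≤ q.asIdeal := (PrimeSpectrum.mem_zeroLocus _ _).mp hq
      apply hpm
      have := hmin.2 ⟨hp.1.1, bot_le⟩ hle
      exact le_antisymm hle this
    · intro h
      by_contra hne
      obtain ⟨p, hp, hpq⟩ := Ideal.exists_minimalPrimes_le (I := ⊥) (J := q.asIdeal) bot_le
      have hpm : p ≠ m.asIdeal := by
        rintro rfl
        apply hne
        apply PrimeSpectrum.ext
        exact (hm.eq_of_le q.2.ne_top hpq).symm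
      exact h p ⟨hp, hpm⟩ ((PrimeSpectrum.mem_zeroLocus _ _).mpr hpq)
  rw [heq]
  exact hcl.isOpen_compl

theorem exists_affine_basicOpen_eq {Yb : Scheme.{u}} [IsLocallyNoetherian Yb]
    (hdimb : topologicalKrullDim Yb ≤ 1)
    (U : Yb.Opens) (hdense : Dense (U : Set Yb)) (hfin : ((U : Set Yb)ᶜ).Finite)
    (hcl : ∀ y ∈ (U : Set Yb)ᶜ, IsClosed ({y} : Set Yb)) (z : Yb) (hz : z ∉ U) :
    ∃ (V : Yb.Opens) (_ : IsAffineOpen V) (t : Γ(Yb, V)), z ∈ V ∧ Yb.basicOpen t = V ⊓ U := by
  -- the open set `U ∪ {z}`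
  have hK : IsClosed ((U : Set Yb)ᶜ \ {z}) := by
    have h1 := (hfin.subset (Set.sdiff_subset (t := {z}))).isClosed_biUnion
      (f := fun y => ({y} : Set Yb)) (fun y hy => hcl y hy.1)
    rwa [Set.biUnion_of_singleton] at h1
  have hzO : z ∈ ((U : Set Yb)ᶜ \ {z})ᶜ := by
    simp
  obtain ⟨_, ⟨V₁, hV₁', rfl⟩, hzV₁, hV₁O⟩ :=
    Yb.isBasis_affineOpens.exists_subset_of_mem_open hzO hK.isOpen_compl
  have hV₁ : IsAffineOpen V₁ := hV₁'
  have hV₁U : ∀ y ∈ V₁, y ≠ z → y ∈ U := by
    intro y hy hyz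
    have := hV₁O hy
    simp only [Set.mem_compl_iff, Set.mem_sdiff, Set.mem_singleton_iff, not_and, not_not] at this
    by_contra hyU
    exact hyz (this hyU)
  let R := Γ(Yb, V₁)
  haveI : IsNoetherianRing R := IsLocallyNoetherian.component_noetherian ⟨V₁, hV₁⟩
  let m : ↥(Spec Γ(Yb, V₁)) := hV₁.primeIdealOf ⟨z, hzV₁⟩
  haveI hm : m.asIdeal.IsMaximal := hV₁.primeIdealOf_isMaximal_of_isClosed ⟨z, hzV₁⟩ (hcl z hz)
  have hdimR : ringKrullDim R ≤ 1 := by
    rw [← PrimeSpectrum.topologicalKrullDim_eq_ringKrullDim]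
    exact (hV₁.fromSpec.isOpenEmbedding.isInducing.topologicalKrullDim_le).trans hdimb
  have hmin : m.asIdeal ∉ minimalPrimes R := by
    intro hmin
    have hopen : IsOpen ({m} : Set ↥(Spec Γ(Yb, V₁))) :=
      isOpen_singleton_of_mem_minimalPrimes (R := Γ(Yb, V₁)) m hm hmin
    have hzz : hV₁.fromSpec m = z := hV₁.fromSpec_primeIdealOf ⟨z, hzV₁⟩
    have hopen' : IsOpen ({z} : Set Yb) := by
      have h := hV₁.fromSpec.isOpenEmbedding.isOpenMap _ hopen
      have heq : (hV₁.fromSpec '' {m} : Set Yb) = {z} := by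
        ext y
        constructor
        · rintro ⟨q, hq, rfl⟩
          rw [Set.mem_singleton_iff] at hq
          rw [hq]; exact hzz
        · intro hy
          rw [Set.mem_singleton_iff] at hy
          exact ⟨m, rfl, hy ▸ hzz⟩
      rwa [heq] at h
    obtain ⟨y, hy1, hy2⟩ := hdense.inter_open_nonempty _ hopen' ⟨z, rfl⟩
    rw [Set.mem_singleton_iff] at hy1
    exact hz (hy1 ▸ hy2)
  obtain ⟨g, t, hgm, htm, -, hq⟩ :=
    Groth.Agent.Lib.DVRCrit84.exists_isolating_function hdimR m.asIdeal hmin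
  let V : Yb.Opens := Yb.basicOpen g
  have hVV₁ : V ≤ V₁ := Yb.basicOpen_le g
  have hV : IsAffineOpen V := hV₁.basicOpen g
  let tV : Γ(Yb, V) := Yb.presheaf.map (homOfLE hVV₁).op t
  have hzV : z ∈ V := (mem_basicOpen_iff_notMem_primeIdealOf hV₁ ⟨z, hzV₁⟩ g).mpr hgm
  refine ⟨V, hV, tV, hzV, ?_⟩
  have h1 : Yb.basicOpen tV = V ⊓ Yb.basicOpen t := Scheme.basicOpen_res _ _ _
  rw [h1]
  ext y
  simp only [TopologicalSpace.Opens.coe_inf, Set.mem_inter_iff, SetLike.mem_coe]
  constructor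
  · rintro ⟨hyV, hyt⟩
    refine ⟨hyV, hV₁U y (hVV₁ hyV) ?_⟩
    rintro rfl
    exact (mem_basicOpen_iff_notMem_primeIdealOf hV₁ ⟨y, hzV₁⟩ t).mp hyt htm
  · rintro ⟨hyV, hyU⟩
    refine ⟨hyV, ?_⟩
    rw [mem_basicOpen_iff_notMem_primeIdealOf hV₁ ⟨y, hVV₁ hyV⟩ t]
    intro htq
    have hgq : g ∉ (hV₁.primeIdealOf ⟨y, hVV₁ hyV⟩).asIdeal :=
      (mem_basicOpen_iff_notMem_primeIdealOf hV₁ ⟨y, hVV₁ hyV⟩ g).mp hyV
    have := hq _ (hV₁.primeIdealOf ⟨y, hVV₁ hyV⟩).2 htq hgq
    have h2 : hV₁.primeIdealOf ⟨y, hVV₁ hyV⟩ = m := PrimeSpectrum.ext this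
    have h3 := primeIdealOf_injective hV₁ h2
    have : y = z := congrArg Subtype.val h3
    exact hz (this ▸ hyU)

theorem injective_map_of_eq {Y : Scheme.{u}} {A D : Y.Opens} (h : A = D) (hle : A ≤ D) :
    Function.Injective (Y.presheaf.map (homOfLE hle).op).hom := by
  subst h
  have : homOfLE hle = 𝟙 A := Subsingleton.elim _ _
  rw [this]
  simp only [op_id, CategoryTheory.Functor.map_id]
  exact fun _ _ h => h

/-- sections of the relative normalization over `π⁻¹ V` are integrally closed in the sections over an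
open `D ⊆ π⁻¹ V` contained in the image of `X` with `j'⁻¹ D = j⁻¹ V`. -/
theorem integrallyClosed_restrict {X Yb : Scheme.{u}} (j : X ⟶ Yb) [QuasiCompact j]
    [QuasiSeparated j] [IsOpenImmersion j.toNormalization] (V : Yb.Opens) (hV : IsAffineOpen V)
    (D : j.normalization.Opens) (hDW : D ≤ j.fromNormalization ⁻¹ᵁ V)
    (hD : j.toNormalization ⁻¹ᵁ D = j ⁻¹ᵁ V) (hDr : D ≤ j.toNormalization.opensRange)
    (x : Γ(j.normalization, D))
    (hx : (j.normalization.presheaf.map (homOfLE hDW).op).hom.IsIntegralElem x) :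
    x ∈ (j.normalization.presheaf.map (homOfLE hDW).op).hom.range := by
  let Y := j.normalization
  let j' : X ⟶ Y := j.toNormalization
  let π : Y ⟶ Yb := j.fromNormalization
  let Ux : X.Opens := j ⁻¹ᵁ V
  let W' : Y.Opens := π ⁻¹ᵁ V
  have hleW : Ux ≤ j' ⁻¹ᵁ W' := by
    change j ⁻¹ᵁ V ≤ j.toNormalization ⁻¹ᵁ j.fromNormalization ⁻¹ᵁ V
    rw [← Scheme.Hom.comp_preimage, j.toNormalization_fromNormalization]
  have hleD : Ux ≤ j' ⁻¹ᵁ D := hD.ge
  let res := Y.presheaf.map (homOfLE hDW).op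
  let φ := j'.appLE W' Ux hleW
  let ψ := j'.appLE D Ux hleD
  have hφ : res ≫ ψ = φ := Scheme.Hom.map_appLE _ _ _
  have himg : j' ''ᵁ Ux = D := by
    change j' ''ᵁ (j ⁻¹ᵁ V) = D
    rw [← hD, Scheme.Hom.image_preimage_eq_opensRange_inf]
    exact inf_eq_right.mpr hDr
  have hψinj : Function.Injective ψ.hom := by
    have h1 := j'.appLE_appIso_inv (U := D) (V := Ux) hleD
    have h2 : Function.Injective (ψ ≫ (j'.appIso Ux).inv).hom := by
      rw [h1]
      exact injective_map_of_eq himg _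
    intro a b hab
    apply h2
    simp only [CommRingCat.hom_comp, RingHom.coe_comp, Function.comp_apply]
    rw [hab]
  letI := (j.app V).hom.toAlgebra
  let IC := integralClosure Γ(Yb, V) Γ(X, j ⁻¹ᵁ V)
  let e := j.normalizationObjIso hV
  have he : e.hom ≫ CommRingCat.ofHom (Subalgebra.val IC).toRingHom = φ :=
    j.normalizationObjIso_hom_val hV
  obtain ⟨p, hpm, hp⟩ := hx
  have hx' : IsIntegral IC (ψ.hom x) := by
    refine ⟨p.map e.hom.hom, hpm.map _, ?_⟩
    rw [Polynomial.eval₂_map]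
    have h3 : (algebraMap IC Γ(X, j ⁻¹ᵁ V)).comp e.hom.hom = ψ.hom.comp res.hom := by
      rw [← CommRingCat.hom_comp, hφ, ← he]
      rfl
    rw [h3, ← Polynomial.hom_eval₂, hp, map_zero]
  have hmem : ψ.hom x ∈ integralClosure IC Γ(X, j ⁻¹ᵁ V) := hx'
  rw [integralClosure_idem] at hmem
  obtain ⟨y, hy⟩ := Algebra.mem_bot.mp hmem
  refine ⟨e.inv.hom y, ?_⟩
  apply hψinj
  have h4 : ψ.hom (res.hom (e.inv.hom y)) = φ.hom (e.inv.hom y) := by
    rw [← hφ]; rfl
  rw [h4, ← he, ← hy]
  simp only [CommRingCat.hom_comp, RingHom.coe_comp, Function.comp_apply]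
  have : e.hom.hom (e.inv.hom y) = y := by
    have := e.inv_hom_id
    exact congr($(this).hom y)
  rw [this]
  rfl

/-- the DVR property at the points at infinity of the relative normalization -/
theorem dvr_at_infinity {X Yb : Scheme.{u}} [IsReduced X] [IsLocallyNoetherian Yb]
    (j : X ⟶ Yb) [IsOpenImmersion j] [QuasiCompact j] [IsOpenImmersion j.toNormalization]
    [IsLocallyNoetherian j.normalization]
    (hdense : Dense (Set.range j.base)) (hdimb : topologicalKrullDim Yb ≤ 1)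
    (hfin : (Set.range j.base)ᶜ.Finite) (hcl : ∀ y ∈ (Set.range j.base)ᶜ, IsClosed ({y} : Set Yb))
    (hclY : ∀ y ∈ (Set.range j.toNormalization.base)ᶜ, IsClosed ({y} : Set j.normalization))
    (y : j.normalization) (hy : y ∈ (Set.range j.toNormalization.base)ᶜ) :
    ∃ _ : IsDomain (j.normalization.presheaf.stalk y),
      IsDiscreteValuationRing (j.normalization.presheaf.stalk y) := by
  let Y := j.normalization
  let j' : X ⟶ Y := j.toNormalization
  let π : Y ⟶ Yb := j.fromNormalization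
  have hj'π : j' ≫ π = j := j.toNormalization_fromNormalization
  have hdense' : Dense (Set.range j'.base) :=
    (inferInstance : IsDominant j.toNormalization).denseRange
  have hsub : π.base ⁻¹' (Set.range j.base) ⊆ Set.range j'.base :=
    preimage_range_subset j j' π hj'π hdense'
  let U : Yb.Opens := j.opensRange
  let z : Yb := π.base y
  have hz : z ∉ U := fun hzU => hy (hsub hzU)
  obtain ⟨V, hV, t, hzV, hbo⟩ := exists_affine_basicOpen_eq hdimb U
    (by rw [Scheme.Hom.coe_opensRange]; exact hdense)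
    (by rw [Scheme.Hom.coe_opensRange]; exact hfin)
    (by rw [Scheme.Hom.coe_opensRange]; exact hcl) z hz
  let W' : Y.Opens := π ⁻¹ᵁ V
  have hW' : IsAffineOpen W' := hV.preimage π
  let t' : Γ(Y, W') := π.app V t
  let D : Y.Opens := Y.basicOpen t'
  have hDeq : D = π ⁻¹ᵁ (V ⊓ U) := by
    change Y.basicOpen (π.app V t) = _
    rw [← Scheme.preimage_basicOpen, hbo]
  have hDW : D ≤ W' := Y.basicOpen_le t'
  have hDU : ∀ w ∈ D, π.base w ∈ U := by
    intro w hw
    rw [hDeq] at hw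
    exact hw.2
  have hDr : D ≤ j'.opensRange := by
    intro w hw
    exact hsub (hDU w hw)
  have hD : j' ⁻¹ᵁ D = j ⁻¹ᵁ V := by
    rw [hDeq, ← Scheme.Hom.comp_preimage, hj'π, Scheme.Hom.preimage_inf,
      Scheme.Hom.preimage_opensRange, inf_top_eq]
  have hWD : ∀ w ∈ W', w ∉ D → w ∉ Set.range j'.base := by
    rintro w hw hwD ⟨x, rfl⟩
    apply hwD
    rw [hDeq]
    refine ⟨hw, ?_⟩
    change π.base (j'.base x) ∈ Set.range j.base
    rw [← Scheme.Hom.comp_apply, hj'π]
    exact ⟨x, rfl⟩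
  letI alg : Algebra Γ(Y, W') Γ(Y, D) := (Y.presheaf.map (homOfLE hDW).op).hom.toAlgebra
  haveI hloc : IsLocalization.Away t' Γ(Y, D) :=
    hW'.isLocalization_of_eq_basicOpen t' (homOfLE hDW) rfl
  have hic : ∀ x : Γ(Y, D), IsIntegral Γ(Y, W') x → x ∈ (algebraMap Γ(Y, W') Γ(Y, D)).range :=
    fun x hx => integrallyClosed_restrict j V hV D hDW hD hDr x hx
  haveI : IsNoetherianRing Γ(Y, W') := IsLocallyNoetherian.component_noetherian ⟨W', hW'⟩
  haveI : IsReduced Y := inferInstanceAs (IsReduced j.normalization)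
  have ht'nzd : t' ∈ nonZeroDivisors Γ(Y, W') := by
    rw [mem_nonZeroDivisors_iff_right]
    intro c hc
    rw [← basicOpen_eq_bot_iff]
    by_contra hne
    obtain ⟨w, hw⟩ : ∃ w, w ∈ Y.basicOpen c := by
      by_contra hcon
      push Not at hcon
      apply hne
      ext w
      simp only [TopologicalSpace.Opens.coe_bot, Set.mem_empty_iff_false, iff_false]
      exact hcon w
    obtain ⟨w₁, hw₁c, hw₁r⟩ := hdense'.inter_open_nonempty _ (Y.basicOpen c).isOpen ⟨w, hw⟩
    have hw₁W : w₁ ∈ W' := Y.basicOpen_le c hw₁c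
    have hw₁D : w₁ ∈ D := by
      by_contra hcon
      exact hWD w₁ hw₁W hcon hw₁r
    have : w₁ ∈ Y.basicOpen (c * t') := by
      rw [Scheme.basicOpen_mul]
      exact ⟨hw₁c, hw₁D⟩
    rw [hc, Scheme.basicOpen_zero] at this
    exact this
  have hyW' : y ∈ W' := hzV
  have hyD : y ∉ D := fun h => hy (hDr h)
  let n := (hW'.primeIdealOf ⟨y, hyW'⟩).asIdeal
  have htn : t' ∈ n := by
    by_contra hcon
    exact hyD ((mem_basicOpen_iff_notMem_primeIdealOf hW' ⟨y, hyW'⟩ t').mpr hcon)
  have hq : ∀ q : Ideal Γ(Y, W'), q.IsPrime → q ≤ n → t' ∈ q → q = n := by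
    intro q hqp hqn htq
    obtain ⟨w, hw⟩ := exists_primeIdealOf_eq hW' ⟨q, hqp⟩
    have hwD : (w : Y) ∉ D := by
      intro h
      have := (mem_basicOpen_iff_notMem_primeIdealOf hW' w t').mp h
      rw [hw] at this
      exact this htq
    have hwcl : IsClosed ({(w : Y)} : Set Y) := hclY _ (hWD w w.2 hwD)
    have hmax := hW'.primeIdealOf_isMaximal_of_isClosed w hwcl
    rw [hw] at hmax
    exact hmax.eq_of_le (hW'.primeIdealOf ⟨y, hyW'⟩).2.ne_top hqn
  letI := TopCat.Presheaf.algebra_section_stalk Y.presheaf ⟨y, hyW'⟩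
  haveI hlocst := hW'.isLocalization_stalk ⟨y, hyW'⟩
  exact Groth.Agent.Lib.DVRCrit84.isDVR_localization_of_integrallyClosed_away t' ht'nzd Γ(Y, D) hic
    n htn hq (Y.presheaf.stalk y)

/-- **S1626**: projective completion of a reduced curve with DVRs at infinity. -/
theorem exists_dvr_completion (k : Type u) [Field k] (X : Scheme.{u}) [X.Over (Spec (CommRingCat.of k))]
    [IsReduced X] [IsSeparated (X ↘ (Spec (CommRingCat.of k)))]
    [LocallyOfFiniteType (X ↘ (Spec (CommRingCat.of k)))]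
    [QuasiCompact (X ↘ (Spec (CommRingCat.of k)))] (hdim : topologicalKrullDim X ≤ 1) :
    ∃ (d : ℕ) (Y : Scheme.{u}) (c : Y ⟶ CohB1.ProjSpace d k) (j : X ⟶ Y), IsClosedImmersion c ∧
      IsOpenImmersion j ∧
      j ≫ c ≫ CohB1.ProjSpace.toSpec d k = X ↘ (Spec (CommRingCat.of k)) ∧
      Dense (Set.range j.base) ∧ IsSchemeTheoreticallyDominant j ∧
      (Set.range j.base)ᶜ.Finite ∧ ∀ y ∈ (Set.range j.base)ᶜ, IsClosed ({y} : Set Y) ∧
        ∃ _ : IsDomain (Y.presheaf.stalk y), IsDiscreteValuationRing (Y.presheaf.stalk y) := by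
  obtain ⟨d, Yb, c, j, hc, hj, hcomp, hdense, hstd, hfin, hclosed⟩ :=
    Groth.Agent.S1625.result k X hdim
  haveI := hc
  haveI := hj
  haveI hproper : IsProper (CohB1.ProjSpace.toSpec d k) :=
    Groth.Agent.Lib.ProjSpaceProper.isProper_toSpec d k
  let sb : Yb ⟶ Spec (CommRingCat.of k) := c ≫ CohB1.ProjSpace.toSpec d k
  haveI : IsProper sb := by
    change IsProper (c ≫ CohB1.ProjSpace.toSpec d k)
    infer_instance
  haveI : QuasiCompact (j ≫ sb) := by
    change QuasiCompact (j ≫ c ≫ CohB1.ProjSpace.toSpec d k)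
    rw [hcomp]; infer_instance
  haveI : QuasiCompact j := QuasiCompact.of_comp j sb
  let Y := j.normalization
  let j' : X ⟶ Y := j.toNormalization
  let π : Y ⟶ Yb := j.fromNormalization
  have hj'π : j' ≫ π = j := j.toNormalization_fromNormalization
  haveI : IsFinite π :=
    Groth.Agent.Lib.NagataNormFin96.isFinite_fromNormalization_of_lft_field k Yb X sb
      (X ↘ (Spec (CommRingCat.of k))) j hcomp
  haveI : IsOpenImmersion j' := inferInstanceAs (IsOpenImmersion j.toNormalization)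
  let sY : Y ⟶ Spec (CommRingCat.of k) := π ≫ sb
  haveI : IsProper sY := by
    change IsProper (π ≫ sb)
    infer_instance
  letI : Y.Over (Spec (CommRingCat.of k)) := ⟨sY⟩
  haveI : IsSeparated (Y ↘ (Spec (CommRingCat.of k))) := inferInstanceAs (IsSeparated sY)
  haveI : LocallyOfFiniteType (Y ↘ (Spec (CommRingCat.of k))) :=
    inferInstanceAs (LocallyOfFiniteType sY)
  haveI : QuasiCompact (Y ↘ (Spec (CommRingCat.of k))) := inferInstanceAs (QuasiCompact sY)
  haveI : CompactSpace Y := QuasiCompact.compactSpace_of_compactSpace sY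
  haveI : IsLocallyNoetherian Y := LocallyOfFiniteType.isLocallyNoetherian sY
  haveI : IsNoetherian Y := {}
  have hopen : IsOpen (Set.range j'.base) := j'.isOpenEmbedding.isOpen_range
  have hdense' : Dense (Set.range j'.base) :=
    (inferInstance : IsDominant j.toNormalization).denseRange
  have hdimY : topologicalKrullDim Y ≤ 1 := by
    rw [← Groth.Agent.Lib.H8DenseDim.dim_dense_open k Y (Set.range j'.base) hopen hdense']
    have e : X ≃ₜ Set.range j'.base := j'.isOpenEmbedding.isEmbedding.toHomeomorph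
    rw [← e.isHomeomorph.topologicalKrullDim_eq]
    exact hdim
  have hG : ∀ y ∈ (Set.range j'.base)ᶜ ∩ Set.univ, y ∉ genericPoints Y := by
    rintro y ⟨hy, -⟩ hgen
    exact hy (Groth.Agent.Lib.ProjCompl84.genericPoints_subset_of_dense _ hopen hdense' y hgen)
  -- immersion into projective space
  obtain ⟨n, i, hi, hicomp⟩ := Groth.Agent.S1667.result k Y hdimY
  haveI := hi
  haveI : IsProper (i ≫ CohB1.ProjSpace.toSpec n k) := by
    rw [hicomp]; exact inferInstanceAs (IsProper sY)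
  haveI : IsProper i := IsProper.of_comp i (CohB1.ProjSpace.toSpec n k)
  have hicl : IsClosedImmersion i :=
    Groth.Agent.Lib.ImageInt84.isClosedImmersion_of_isClosed_range i
      (i.isClosedMap.isClosed_range)
  have hdimb : topologicalKrullDim Yb ≤ 1 := by
    have hopenb : IsOpen (Set.range j.base) := j.isOpenEmbedding.isOpen_range
    letI : Yb.Over (Spec (CommRingCat.of k)) := ⟨sb⟩
    haveI : LocallyOfFiniteType (Yb ↘ (Spec (CommRingCat.of k))) :=
      inferInstanceAs (LocallyOfFiniteType sb)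
    rw [← Groth.Agent.Lib.H8DenseDim.dim_dense_open k Yb (Set.range j.base) hopenb hdense]
    have e : X ≃ₜ Set.range j.base := j.isOpenEmbedding.isEmbedding.toHomeomorph
    rw [← e.isHomeomorph.topologicalKrullDim_eq]
    exact hdim
  refine ⟨n, Y, i, j', hicl, inferInstance, ?_, hdense', ⟨j.ker_toNormalization⟩, ?_, ?_⟩
  · rw [hicomp]
    change j' ≫ π ≫ sb = _
    rw [← Category.assoc, hj'π]
    exact hcomp
  · have := Groth.Agent.Lib.DimOneTop42.finite_of_disjoint_genericPoints hdimY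
      (Set.range j'.base)ᶜ Set.univ hopen.isClosed_compl isOpen_univ hG
    rwa [Set.inter_univ] at this
  · have hclY : ∀ y ∈ (Set.range j'.base)ᶜ, IsClosed ({y} : Set Y) := fun y hy =>
      Groth.Agent.Lib.DimOneTop42.isClosed_singleton_of_notMem_genericPoints hdimY y
        (hG y ⟨hy, trivial⟩)
    haveI : IsLocallyNoetherian Yb := LocallyOfFiniteType.isLocallyNoetherian sb
    intro y hy
    exact ⟨hclY y hy, dvr_at_infinity j hdense hdimb hfin hclosed hclY y hy⟩


end Groth.Agent.Lib.CurveDVRCompl84
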