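import Groth.Agent.Lib.H78TensorGen
import Groth.Agent.Lib.H90DevHub2
import Groth.Agent.Lib.ModStalkIso

/-!
# Modules supported in a closed subset of an open set (helper48, K6/D3)

`F : X.Modules`, `Z ⊆ U` with `Z` closed, `U` open, `Supp F ⊆ Z`.
* `section_eq_zero_of_disjoint_support`: a section over an open set missing the support is zero.
* `bijective_rs_of_support_subset`: `Γ(F, W) → Γ(F, W ⊓ U)` is bijective.
* `isIso_unit_of_support_subset`: the unit `F ⟶ j_* j^* F` (`j = U.ι`) is an isomorphism.
* `restrict_map_injective`, `exists_lift_restrict`: `Hom(G, F) → Hom(G|_U, F|_U)` is bijective.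
* `nonempty_iso_of_restrict_iso`: two modules supported in `Z` whose restrictions to `U` are isomorphic are isomorphic.
-/

set_option autoImplicit false
universe u
open CategoryTheory CategoryTheory.Limits AlgebraicGeometry Opposite TopologicalSpace

namespace Groth.Agent.Lib.CurveDeg48

open Groth.Agent.Lib.H78TensorGen Groth.Agent.Lib.H90DevHub2

variable {X : Scheme.{u}}

/-- a section over an open set which does not meet the support is zero -/
theorem section_eq_zero_of_disjoint_support (F : X.Modules) (V : X.Opens)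
    (h : ∀ x ∈ V, x ∉ CohB1.support F) (s : Γ(F, V)) : s = 0 := by
  refine sec_ext F s 0 fun x hx => ?_
  have hsub : Subsingleton ↑(F.presheaf.stalk x) := (notMem_support_iff F x).mp (h x hx)
  have h0 : F.presheaf.germ V x hx s = F.presheaf.germ V x hx 0 := Subsingleton.elim _ _
  obtain ⟨W, hxW, iW, iW₂, e⟩ := TopCat.Presheaf.germ_eq F.presheaf x hx hx _ _ h0
  exact ⟨W, iW.le, hxW, e⟩

/-- restriction from `W` to `W ⊓ U` is bijective for a module supported in a closed subset of `U` -/
theorem bijective_rs_of_support_subset (F : X.Modules) {Z : Set X} (hZ : IsClosed Z)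
    (hF : CohB1.support F ⊆ Z) (U : X.Opens) (hZU : Z ⊆ (U : Set X)) (W W' : X.Opens)
    (hW' : W' ≤ W) (hWU : W ⊓ U ≤ W') :
    Function.Bijective (rs F hW') := by
  -- the complement of `Z` in `W`
  let C : X.Opens := ⟨(W : Set X) ∩ Zᶜ, W.isOpen.inter hZ.isOpen_compl⟩
  have hCW : C ≤ W := fun x hx => hx.1
  have hCs : ∀ (V : X.Opens), V ≤ C → ∀ s : Γ(F, V), s = 0 := fun V hV s =>
    section_eq_zero_of_disjoint_support F V (fun x hx hxs => (hV hx).2 (hF hxs)) s
  constructor
  · intro s t hst
    refine sec_ext F s t fun x hx => ?_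
    by_cases hxZ : x ∈ Z
    · exact ⟨W', hW', hWU ⟨hx, hZU hxZ⟩, hst⟩
    · refine ⟨C, hCW, ⟨hx, hxZ⟩, ?_⟩
      rw [hCs C le_rfl (rs F hCW s), hCs C le_rfl (rs F hCW t)]
  · intro t
    let Uc : Bool → X.Opens := fun b => if b then W' else C
    have hUc : ∀ b, Uc b ≤ W := fun b => by
      cases b
      · exact hCW
      · exact hW'
    have hcover : W ≤ iSup Uc := by
      intro x hx
      by_cases hxZ : x ∈ Z
      · exact Opens.mem_iSup.mpr ⟨true, hWU ⟨hx, hZU hxZ⟩⟩
      · exact Opens.mem_iSup.mpr ⟨false, ⟨hx, hxZ⟩⟩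
    let sf : ∀ b, Γ(F, Uc b) := fun b => by
      cases b
      · exact (0 : Γ(F, C))
      · exact t
    obtain ⟨s, hs⟩ := sec_glue F Uc hUc hcover sf (by
      intro i j
      cases i <;> cases j
      · rfl
      · exact (hCs _ inf_le_left _).trans (hCs _ inf_le_left _).symm
      · exact (hCs _ inf_le_right _).trans (hCs _ inf_le_right _).symm
      · rfl)
    exact ⟨s, hs true⟩

/-- the unit `F ⟶ j_* j^* F` is an isomorphism for a module supported in a closed subset of `U` -/
theorem isIso_unit_of_support_subset (F : X.Modules) {Z : Set X} (hZ : IsClosed Z)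
    (hF : CohB1.support F ⊆ Z) (U : X.Opens) (hZU : Z ⊆ (U : Set X)) :
    IsIso ((Scheme.Modules.restrictAdjunction U.ι).unit.app F) := by
  rw [Scheme.Modules.Hom.isIso_iff_isIso_app]
  intro W
  rw [Scheme.Modules.restrictAdjunction_unit_app_app]
  have hb : Function.Bijective
      (F.presheaf.map (homOfLE (U.ι.image_preimage_le W)).op) := by
    refine bijective_rs_of_support_subset F hZ hF U hZU W _ (U.ι.image_preimage_le W) ?_
    rw [Scheme.Hom.image_preimage_eq_opensRange_inf, Scheme.Opens.opensRange_ι, inf_comm]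
  exact (ConcreteCategory.isIso_iff_bijective _).mpr hb

/-- morphisms into a module supported in a closed subset of `U` are determined by their restrictions to `U` -/
theorem restrict_map_injective {G F : X.Modules} {Z : Set X} (hZ : IsClosed Z)
    (hF : CohB1.support F ⊆ Z) (U : X.Opens) (hZU : Z ⊆ (U : Set X)) (a b : G ⟶ F)
    (h : (Scheme.Modules.restrictFunctor U.ι).map a = (Scheme.Modules.restrictFunctor U.ι).map b) :
    a = b := by
  haveI := isIso_unit_of_support_subset F hZ hF U hZU
  let adj := Scheme.Modules.restrictAdjunction U.ι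
  have ha := adj.unit.naturality a
  have hb := adj.unit.naturality b
  simp only [Functor.id_obj, Functor.id_map, Functor.comp_obj, Functor.comp_map] at ha hb
  rw [← cancel_mono (adj.unit.app F), ha, hb, h]

/-- morphisms between restrictions to `U` lift, when the target is supported in a closed subset of `U` -/
theorem exists_lift_restrict {G F : X.Modules} {Z : Set X} (hZ : IsClosed Z)
    (hF : CohB1.support F ⊆ Z) (U : X.Opens) (hZU : Z ⊆ (U : Set X))
    (ψ : (Scheme.Modules.restrictFunctor U.ι).obj G ⟶ (Scheme.Modules.restrictFunctor U.ι).obj F) :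
    ∃ a : G ⟶ F, (Scheme.Modules.restrictFunctor U.ι).map a = ψ := by
  haveI := isIso_unit_of_support_subset F hZ hF U hZU
  let adj := Scheme.Modules.restrictAdjunction U.ι
  let R := Scheme.Modules.restrictFunctor U.ι
  let P := Scheme.Modules.pushforward U.ι
  refine ⟨adj.unit.app G ≫ P.map ψ ≫ inv (adj.unit.app F), ?_⟩
  -- `R (η_F)⁻¹ = ε_{R F}`
  have h1 : R.map (adj.unit.app F) ≫ adj.counit.app (R.obj F) = 𝟙 _ := adj.left_triangle_components F
  have h2 : R.map (inv (adj.unit.app F)) = adj.counit.app (R.obj F) := by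
    rw [← cancel_epi (R.map (adj.unit.app F)), ← R.map_comp, IsIso.hom_inv_id, R.map_id, h1]
  have h3 : R.map (P.map ψ) ≫ adj.counit.app (R.obj F) = adj.counit.app (R.obj G) ≫ ψ :=
    adj.counit.naturality ψ
  have h4 : R.map (adj.unit.app G) ≫ adj.counit.app (R.obj G) = 𝟙 _ := adj.left_triangle_components G
  change R.map (adj.unit.app G ≫ P.map ψ ≫ inv (adj.unit.app F)) = ψ
  rw [R.map_comp, R.map_comp, h2, h3, ← Category.assoc, h4, Category.id_comp]

/-- two modules supported in a closed subset of `U` with isomorphic restrictions to `U` are isomorphic -/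
theorem nonempty_iso_of_restrict_iso {G F : X.Modules} {Z : Set X} (hZ : IsClosed Z)
    (hG : CohB1.support G ⊆ Z) (hF : CohB1.support F ⊆ Z) (U : X.Opens) (hZU : Z ⊆ (U : Set X))
    (ψ : (Scheme.Modules.restrictFunctor U.ι).obj G ≅ (Scheme.Modules.restrictFunctor U.ι).obj F) :
    Nonempty (G ≅ F) := by
  obtain ⟨a, ha⟩ := exists_lift_restrict hZ hF U hZU ψ.hom
  obtain ⟨b, hb⟩ := exists_lift_restrict hZ hG U hZU ψ.inv
  refine ⟨⟨a, b, ?_, ?_⟩⟩
  · apply restrict_map_injective hZ hG U hZU
    rw [Functor.map_comp, ha, hb, ψ.hom_inv_id, CategoryTheory.Functor.map_id]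
  · apply restrict_map_injective hZ hF U hZU
    rw [Functor.map_comp, ha, hb, ψ.inv_hom_id, CategoryTheory.Functor.map_id]

end Groth.Agent.Lib.CurveDeg48
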