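import Groth.Agent.Lib.LocFreeRank
import Mathlib.AlgebraicGeometry.FunctionField

/-!
# Generic freeness of finite type modules on integral schemes

* `stalkSpecializes_smul`: the specialization maps on stalks of a module are semilinear.
* `linearIndependent_of_specializes`: linear independence at a generization implies linear
  independence at the specialization when the specialization map of `𝒪` is injective.
* `exists_open_free_of_isFT_of_isIntegral`: generic freeness.
-/

set_option autoImplicit false
universe u

open CategoryTheory CategoryTheory.Limits AlgebraicGeometry TopologicalSpace Opposite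

namespace Groth.Agent.Lib.GenericFree

open Groth.Agent.Lib.QCohStalk Groth.Agent.Lib.LocFreeRank Groth.Agent.Lib.LocalRingRank

variable {X : Scheme.{u}}

/-- Specialization maps of the stalks of a module are semilinear over those of `𝒪_X`. -/
theorem stalkSpecializes_smul (F : X.Modules) {x y : X} (h : x ⤳ y)
    (a : X.presheaf.stalk y) (m : F.presheaf.stalk y) :
    F.presheaf.stalkSpecializes h (a • m) =
      (X.presheaf.stalkSpecializes h a) • (F.presheaf.stalkSpecializes h m) := by
  obtain ⟨U, hyU, a', rfl⟩ := TopCat.Presheaf.exists_germ_eq X.presheaf a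
  obtain ⟨V, hyV, m', rfl⟩ := TopCat.Presheaf.exists_germ_eq F.presheaf m
  let W : X.Opens := U ⊓ V
  have hyW : y ∈ W := ⟨hyU, hyV⟩
  have hxW : x ∈ W := h.mem_open W.isOpen hyW
  have ha : X.presheaf.germ U y hyU a' =
      X.presheaf.germ W y hyW (resO X (inf_le_left : W ≤ U) a') :=
    (germO_res X (inf_le_left : W ≤ U) y hyW a').symm
  have hm : F.presheaf.germ V y hyV m' =
      F.presheaf.germ W y hyW (res F (inf_le_right : W ≤ V) m') :=
    (germ_res F (inf_le_right : W ≤ V) y hyW m').symm
  rw [ha, hm, ← germ_smul]
  have e1 : ∀ s : Γ(F, W), F.presheaf.stalkSpecializes h (F.presheaf.germ W y hyW s) =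
      F.presheaf.germ W x hxW s := fun s =>
    ConcreteCategory.congr_hom (F.presheaf.germ_stalkSpecializes (U := W) hyW h) s
  have e2 : ∀ s : Γ(X, W), X.presheaf.stalkSpecializes h (X.presheaf.germ W y hyW s) =
      X.presheaf.germ W x hxW s := fun s =>
    ConcreteCategory.congr_hom (X.presheaf.germ_stalkSpecializes (U := W) hyW h) s
  rw [e1, e1, e2, germ_smul]

/-- If the specialization map `𝒪_{X,y} → 𝒪_{X,x}` is injective and the germs of `t` at `x` are
linearly independent, then so are the germs at `y`. -/
theorem linearIndependent_of_specializes (F : X.Modules) {x y : X} (h : x ⤳ y)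
    (hinj : Function.Injective (X.presheaf.stalkSpecializes h))
    {W : X.Opens} (hyW : y ∈ W) {n : ℕ} (t : Fin n → Γ(F, W))
    (hli : LinearIndependent (X.presheaf.stalk x)
      (fun i => F.presheaf.germ W x (h.mem_open W.isOpen hyW) (t i))) :
    LinearIndependent (X.presheaf.stalk y) (fun i => F.presheaf.germ W y hyW (t i)) := by
  rw [Fintype.linearIndependent_iff] at hli ⊢
  intro g hg i
  apply hinj
  rw [map_zero]
  refine hli (fun i => X.presheaf.stalkSpecializes h (g i)) ?_ i
  have := congrArg (F.presheaf.stalkSpecializes h) hg
  rw [map_sum, map_zero] at this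
  rw [← this]
  refine Finset.sum_congr rfl fun j _ => ?_
  rw [stalkSpecializes_smul]
  congr 1
  exact (ConcreteCategory.congr_hom (F.presheaf.germ_stalkSpecializes (U := W) hyW h) (t j)).symm

/-- Over a field, the fibre rank is the dimension. -/
theorem finrank_residueField_tensor_of_isField {K : Type*} [Field K] (N : Type*) [AddCommGroup N]
    [Module K N] :
    Module.finrank (IsLocalRing.ResidueField K) (TensorProduct K (IsLocalRing.ResidueField K) N) =
      Module.finrank K N :=
  Module.finrank_baseChange

section Integral

variable [IsIntegral X]

theorem genericPoint_specializes (y : X) : genericPoint X ⤳ y :=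
  (genericPoint_spec X).specializes trivial

theorem stalkSpecializes_genericPoint_injective (y : X) :
    Function.Injective (X.presheaf.stalkSpecializes (genericPoint_specializes y)) :=
  IsFractionRing.injective (X.presheaf.stalk y) X.functionField

/-- **Generic freeness**: a finite type module on an integral scheme is free on a nonempty open,
of rank the dimension of the generic stalk. -/
theorem exists_open_free_of_isFT_of_isIntegral (F : X.Modules) [F.IsFiniteType] :
    ∃ U : X.Opens, genericPoint X ∈ U ∧
      Nonempty (F.restrict U.ι ≅ FlatMod.freeMod (↑U)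
        (Module.finrank ↑(X.presheaf.stalk (genericPoint ↥X))
          ↑(F.presheaf.stalk (genericPoint ↥X)))) := by
  let η := genericPoint X
  let K := X.presheaf.stalk η
  let _ : Field K := inferInstanceAs (Field X.functionField)
  set r := Module.finrank K (F.presheaf.stalk η) with hr
  have hfin : Module.Finite K (F.presheaf.stalk η) :=
    Groth.Agent.Lib.CohFinite.finite_stalk_of_isFiniteType F η
  have hrank : fibreRank F η = r :=
    finrank_residueField_tensor_of_isField (K := K) (F.presheaf.stalk η)
  obtain ⟨W, hηW, t, hspan⟩ := exists_sections_span_near F η hrank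
  refine ⟨W, hηW, ?_⟩
  have hliη : LinearIndependent K (fun i => F.presheaf.germ W η hηW (t i)) := by
    apply linearIndependent_of_top_le_span_of_card_eq_finrank
    · exact (hspan ⟨η, hηW⟩).ge
    · simp [hr]
  refine nonempty_iso_freeMod_of_forall_basis F (le_refl W) t (fun y => ?_) (fun y => hspan y)
  exact linearIndependent_of_specializes F (genericPoint_specializes y.1)
    (stalkSpecializes_genericPoint_injective y.1) y.2 t hliη

end Integral

end Groth.Agent.Lib.GenericFree
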