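/-
helper90: dévissage, transfer of a two-out-of-three property along morphisms which are isomorphisms near the generic
point.  `Zc` is an irreducible closed subset of a Noetherian scheme `X` with generic point `ξ`, `i : Z ⟶ X` the reduced
closed subscheme on `Zc`; `P` is a property of `O_X`-modules which is two-out-of-three on short exact sequences of
coherent modules and holds for coherent modules supported on `Zc` whose stalk at `ξ` vanishes.  Then for a morphism
`φ : M ⟶ N` of coherent `O_Z`-modules which is an isomorphism over a neighbourhood of the generic point,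
`P (i_* M) ↔ P (i_* N)`.
-/
import Mathlib
import Groth.Agent.Lib.H90SnapGeom
import Groth.Agent.Lib.ClosedPushExact17
import Groth.Agent.Lib.H90QCohLocalization

set_option autoImplicit false
set_option linter.style.haveILetI false
universe u

open CategoryTheory CategoryTheory.Limits AlgebraicGeometry TopologicalSpace Opposite

namespace Groth.Agent.Lib.H90DevGeneric

open Groth.Agent.Lib.H90DevCanon Groth.Agent.Lib.H90DevHub Groth.Agent.Lib.H90DevHub2
  Groth.Agent.Lib.ModStalkLin Groth.Agent.Lib.ModStalk Groth.Agent.Lib.H90DevTwo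
  Groth.Agent.Lib.H90DevTwo2 Groth.Agent.Lib.PushStalk Groth.Agent.Lib.H90SnapGeom

variable {X : Scheme.{u}}

/-- stalks of a direct image along a topological embedding: membership in the support -/
theorem mem_support_pushforward_iff {Z : Scheme.{u}} (f : Z ⟶ X) (hf : Topology.IsInducing f.base)
    (M : Z.Modules) (z : Z) :
    f z ∈ CohB1.support ((Scheme.Modules.pushforward f).obj M) ↔ z ∈ CohB1.support M := by
  rw [mem_support_iff, mem_support_iff]
  have hb := pushStalkHom_bijective f M hf z
  constructor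
  · intro h
    haveI := h
    exact hb.1.nontrivial
  · intro h
    haveI := h
    exact hb.2.nontrivial

section Transfer

variable [AlgebraicGeometry.IsNoetherian X] (Zc : Closeds X) (ξ : X)
  (P : X.Modules → Prop)
  (h₁ : ∀ S : ShortComplex X.Modules, S.ShortExact → Coh.IsCoh S.X₁ → Coh.IsCoh S.X₂ →
      Coh.IsCoh S.X₃ →
      (P S.X₁ → P S.X₂ → P S.X₃) ∧ (P S.X₁ → P S.X₃ → P S.X₂) ∧ (P S.X₂ → P S.X₃ → P S.X₁))
  (IH : ∀ M : X.Modules, Coh.IsCoh M → CohB1.support M ⊆ (Zc : Set X) → ξ ∉ CohB1.support M → P M)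

include h₁ IH in
/-- transfer along a morphism of coherent modules on `Z` which is an isomorphism near the generic point -/
theorem P_push_iff [IsIntegral (ZZ Zc)] (hξ : (iZ Zc) (genericPoint (ZZ Zc)) = ξ)
    {M N : (ZZ Zc).Modules} (hM : Coh.IsCoh M) (hN : Coh.IsCoh N) (φ : M ⟶ N) (U : (ZZ Zc).Opens)
    (hzU : genericPoint (ZZ Zc) ∈ U)
    (hφ : IsIso ((Scheme.Modules.restrictFunctor U.ι).map φ)) :
    P ((Scheme.Modules.pushforward (iZ Zc)).obj M) ↔ P ((Scheme.Modules.pushforward (iZ Zc)).obj N) := by
  haveI : IsLocallyNoetherian (ZZ Zc) := LocallyOfFiniteType.isLocallyNoetherian (iZ Zc)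
  let i := iZ Zc
  let Fi := Scheme.Modules.pushforward i
  have hind : Topology.IsInducing i.base := i.isEmbedding.isInducing
  obtain ⟨hk, hc⟩ := (Groth.Agent.Lib.H90QCohLocalization.isIso_restrict_map_iff φ U).mp hφ
  haveI : M.IsQuasicoherent := hM.1
  haveI : N.IsQuasicoherent := hN.1
  -- coherence on `Z`
  have hKc : Coh.IsCoh (kernel φ) := Groth.Agent.Lib.H90OXModExact.isCoh_kernel φ hM
  haveI : (kernel φ).IsQuasicoherent := hKc.1
  let ψ := Abelian.factorThruCoimage φ
  have hCoimc : Coh.IsCoh (Abelian.coimage φ) :=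
    Groth.Agent.Lib.H90OXModExact.isCoh_cokernel (kernel.ι φ) hM
  haveI : (Abelian.coimage φ).IsQuasicoherent := hCoimc.1
  have hQc : Coh.IsCoh (cokernel ψ) := Groth.Agent.Lib.H90OXModExact.isCoh_cokernel ψ hN
  -- the two short exact sequences on `Z`
  have hS₁ : (ShortComplex.mk (kernel.ι φ) (cokernel.π (kernel.ι φ)) (cokernel.condition _)).ShortExact :=
    shortExact_cokernel (kernel.ι φ)
  have hS₂ : (ShortComplex.mk ψ (cokernel.π ψ) (cokernel.condition _)).ShortExact :=
    shortExact_cokernel ψ
  -- supports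
  have hzK : genericPoint (ZZ Zc) ∉ CohB1.support (kernel φ) := fun h => hk h hzU
  have hzQ : genericPoint (ZZ Zc) ∉ CohB1.support (cokernel ψ) := by
    intro h
    have hzero : φ ≫ cokernel.π ψ = 0 := by
      have h1 : φ ≫ cokernel.π ψ = (Abelian.coimage.π φ ≫ ψ) ≫ cokernel.π ψ := by
        rw [Abelian.coimage.fac]
      rw [h1, Category.assoc, cokernel.condition, comp_zero]
    have hepi : Epi (cokernel.desc φ (cokernel.π ψ) hzero) := by
      haveI : Epi (cokernel.π φ ≫ cokernel.desc φ (cokernel.π ψ) hzero) := by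
        rw [cokernel.π_desc]; infer_instance
      exact epi_of_epi (cokernel.π φ) _
    haveI := hepi
    exact hc (support_subset_of_epi (cokernel.desc φ (cokernel.π ψ) hzero) h) hzU
  -- push forward
  have hPK : P (Fi.obj (kernel φ)) := by
    refine IH _ (Groth.Agent.Lib.H90OXModPushFinite.isCoh_pushforward i _ hKc) ?_ ?_
    · rw [← range_iZ Zc]; exact support_push_subset i _
    · rw [← hξ, mem_support_pushforward_iff i hind]; exact hzK
  have hPQ : P (Fi.obj (cokernel ψ)) := by
    refine IH _ (Groth.Agent.Lib.H90OXModPushFinite.isCoh_pushforward i _ hQc) ?_ ?_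
    · rw [← range_iZ Zc]; exact support_push_subset i _
    · rw [← hξ, mem_support_pushforward_iff i hind]; exact hzQ
  have hT₁ := hS₁.map_of_exact Fi
  have hT₂ := hS₂.map_of_exact Fi
  have c := fun (A : (ZZ Zc).Modules) (hA : Coh.IsCoh A) =>
    Groth.Agent.Lib.H90OXModPushFinite.isCoh_pushforward i A hA
  have e₁ := h₁ _ hT₁ (c _ hKc) (c _ hM) (c _ hCoimc)
  have e₂ := h₁ _ hT₂ (c _ hCoimc) (c _ hN) (c _ hQc)
  constructor
  · intro hPM
    exact e₂.2.1 (e₁.1 hPK hPM) hPQ
  · intro hPN
    exact e₁.2.1 hPK (e₂.2.2 hPN hPQ)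

end Transfer

end Groth.Agent.Lib.H90DevGeneric
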