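/-
helper90: two-out-of-three dévissage relative to a subset `X'` (EGA III 3.1.2 in the form with an arbitrary set `X'` of
allowed supports), with the hypotheses on closed subsets rather than closed subschemes.
-/
import Mathlib
import Groth.Agent.Lib.H90DevTwo2

set_option autoImplicit false
universe u

open CategoryTheory CategoryTheory.Limits AlgebraicGeometry TopologicalSpace Opposite

namespace Groth.Agent.Lib.H90DevSubset

open Groth.Agent.Lib.QCohStalk Groth.Agent.Lib.H90OXModSections Groth.Agent.Lib.H90OXModExt
  Groth.Agent.Lib.H90DevAtom Groth.Agent.Lib.H90DevFilt Groth.Agent.Lib.H90DevFiltP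
  Groth.Agent.Lib.H90DevCanon Groth.Agent.Lib.H90DevHub Groth.Agent.Lib.H90DevHub2
  Groth.Agent.Lib.ModStalkLin Groth.Agent.Lib.ModStalk Groth.Agent.Lib.H90DevTwo
  Groth.Agent.Lib.H90DevTwo2

variable {X : Scheme.{u}}

set_option backward.isDefEq.respectTransparency false in
/-- **Two-out-of-three dévissage relative to a set of supports** (EGA III 3.1.2). -/
theorem devissage_two_of_three_subset (X : Scheme.{u}) [AlgebraicGeometry.IsNoetherian X] (X' : Set X)
    (P : X.Modules → Prop) (hP : ∀ M N : X.Modules, Nonempty (M ≅ N) → P M → P N)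
    (hzero : ∀ N : X.Modules, IsZero N → P N)
    (h₁ : ∀ S : ShortComplex X.Modules, S.ShortExact → Coh.IsCoh S.X₁ → Coh.IsCoh S.X₂ →
      Coh.IsCoh S.X₃ →
      (P S.X₁ → P S.X₂ → P S.X₃) ∧ (P S.X₁ → P S.X₃ → P S.X₂) ∧ (P S.X₂ → P S.X₃ → P S.X₁))
    (h₂ : ∀ Zc : Closeds X, IsIrreducible (Zc : Set X) → (Zc : Set X) ⊆ X' → ∀ ξ : X,
      closure {ξ} = (Zc : Set X) →
      ∃ G : X.Modules, Coh.IsCoh G ∧ CohB1.support G = (Zc : Set X) ∧
        Nonempty (↑(G.presheaf.stalk ξ) ≃ₗ[X.presheaf.stalk ξ]
          IsLocalRing.ResidueField (X.presheaf.stalk ξ)) ∧ P G)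
    (M : X.Modules) (hM : Coh.IsCoh M) (hsupp : CohB1.support M ⊆ X') : P M := by
  classical
  have key : ∀ T : Closeds X, (T : Set X) ⊆ X' → ∀ M : X.Modules, Coh.IsCoh M →
      CohB1.support M ⊆ (T : Set X) → P M := by
    intro T
    induction T using WellFoundedLT.induction with
    | ind T IH =>
      intro hTX' M hM hsM
      have hfilt := filt_atomC_of_isCoh hM
      induction hfilt with
      | zero N h0 => exact hzero N h0
      | step A B f hf hA hAc hB hat ih =>
        haveI := hf
        haveI : A.IsQuasicoherent := hAc.1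
        have hS := shortExact_cokernel f
        have hCc : Coh.IsCoh (cokernel f) := Groth.Agent.Lib.H90OXModExact.isCoh_cokernel f hB
        have hsA : CohB1.support A ⊆ (T : Set X) := (support_subset_of_mono f).trans hsM
        have hsC : CohB1.support (cokernel f) ⊆ (T : Set X) :=
          (support_subset_of_epi (cokernel.π f)).trans hsM
        have hPA := ih hAc hsA
        have hPC : P (cokernel f) := by
          obtain ⟨Zc', hat'⟩ := hat
          have hle : Zc' ≤ T := atomC_subset_of_support_subset hat' T.isClosed hsC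
          rcases hle.lt_or_eq with hlt | heq
          · exact IH Zc' hlt (fun x hx => hTX' (hle hx)) _ hCc (support_atomC_subset hat')
          · subst heq
            have hirr : IsIrreducible (Zc' : Set X) := hat'.1
            obtain ⟨ξ, hξ⟩ := QuasiSober.sober hirr Zc'.isClosed
            have hξ' : closure {ξ} = (Zc' : Set X) := hξ
            obtain ⟨G, hGc, hGs, hGe, hPG⟩ := h₂ Zc' hirr hTX' ξ hξ'
            refine devissage_two_of_three_irreducible X (Zc' : Set X) Zc'.isClosed hirr
              ξ ⟨?_, hξ'⟩ P hP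
              (fun S hS c1 c2 c3 _ => h₁ S hS c1 c2 c3) ?_ ⟨G, hGc, hGs, hGe, hPG⟩ _ hCc hsC
            · rw [← hξ']; exact subset_closure rfl
            · intro Z i hi hZ hsub hne I ι hι hI
              haveI := hi
              haveI := hι
              have hlt : (⟨Set.range ⇑i, i.isClosedEmbedding.isClosed_range⟩ : Closeds X) < Zc' :=
                lt_of_le_of_ne hsub (fun h => hne (congrArg (fun W : Closeds X => (W : Set X)) h))
              exact IH _ hlt (fun x hx => hTX' (hsub hx)) _ (isCoh_push_ideal i I ι hI) (support_push_subset i I)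
        exact (h₁ _ hS hAc hB hCc).2.1 hPA hPC
  exact key ⟨CohB1.support M, isClosed_support_of_isFT _ hM.2⟩ hsupp M hM (le_refl _)

end Groth.Agent.Lib.H90DevSubset
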