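/-
helper90: dévissage with direct summands (EGA III 3.1.3): the structure sheaf of the reduced closed subscheme on an
irreducible closed subset `Zc` has property `P` as soon as some coherent module killed by the ideal of `Zc` with nonzero
generic stalk has it, `P` being two-out-of-three, stable under coherent direct summands, and known for coherent modules
supported on proper closed subsets of `Zc`.
-/
import Mathlib
import Groth.Agent.Lib.H90DevGeneric
import Groth.Agent.Lib.H90GraphExt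
import Groth.Agent.Lib.H90DevSubset
import Groth.Agent.Lib.ClosedImmersionPush
import Groth.Agent.Lib.GenericFree
import Groth.Agent.Lib.PerfectLocal
import Groth.Agent.Lib.H90InvertiblePullback

set_option autoImplicit false
set_option linter.style.haveILetI false
universe u

open CategoryTheory CategoryTheory.Limits AlgebraicGeometry TopologicalSpace Opposite

namespace Groth.Agent.Lib.H90DevSummand

open Groth.Agent.Lib.H90DevCanon Groth.Agent.Lib.H90DevHub Groth.Agent.Lib.H90DevHub2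
  Groth.Agent.Lib.ModStalkLin Groth.Agent.Lib.ModStalk Groth.Agent.Lib.H90DevTwo
  Groth.Agent.Lib.H90DevTwo2 Groth.Agent.Lib.PushStalk Groth.Agent.Lib.H90SnapGeom
  Groth.Agent.Lib.H90DevGeneric

variable {X : Scheme.{u}}

/-- the generic point of `Zc` is the image of the generic point of the reduced closed subscheme on `Zc` -/
theorem iZ_genericPoint_eq (Zc : Closeds X) [IsIntegral (ZZ Zc)] {ξ : X}
    (hgen : closure {ξ} = (Zc : Set X)) : (iZ Zc) (genericPoint (ZZ Zc)) = ξ := by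
  have h1 : IsGenericPoint ((iZ Zc) (genericPoint (ZZ Zc))) (Zc : Set X) := by
    have := isGenericPoint_image_genericPoint (iZ Zc)
    rw [range_iZ] at this
    exact this
  have h2 : IsGenericPoint ξ (Zc : Set X) := hgen
  exact h1.eq h2

section Hub

variable [AlgebraicGeometry.IsNoetherian X] (Zc : Closeds X) (ξ : X)
  (P : X.Modules → Prop)
  (hP : ∀ M N : X.Modules, Nonempty (M ≅ N) → P M → P N)
  (h₁ : ∀ S : ShortComplex X.Modules, S.ShortExact → Coh.IsCoh S.X₁ → Coh.IsCoh S.X₂ →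
      Coh.IsCoh S.X₃ →
      (P S.X₁ → P S.X₂ → P S.X₃) ∧ (P S.X₁ → P S.X₃ → P S.X₂) ∧ (P S.X₂ → P S.X₃ → P S.X₁))
  (hsum : ∀ (M N : X.Modules) (i : N ⟶ M) (r : M ⟶ N), i ≫ r = 𝟙 N → Coh.IsCoh M → Coh.IsCoh N →
      P M → P N)
  (IH : ∀ M : X.Modules, Coh.IsCoh M → CohB1.support M ⊆ (Zc : Set X) → ξ ∉ CohB1.support M → P M)

include hP h₁ hsum IH in
/-- **EGA III 3.1.3, key step.** -/
theorem P_hub_of_generic (hirr : IsIrreducible (Zc : Set X)) (hgen : closure {ξ} = (Zc : Set X))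
    (G : X.Modules) (hGc : Coh.IsCoh G) (hPG : P G)
    (hkill : ClSub.KilledByIdeal (Scheme.IdealSheafData.vanishingIdeal Zc) G)
    (hξG : ξ ∈ CohB1.support G) : P (hub Zc) := by
  haveI : IsIntegral (ZZ Zc) := Groth.Agent.Lib.H90DevAtom.isIntegral_subscheme Zc hirr
  haveI : IsLocallyNoetherian (ZZ Zc) := LocallyOfFiniteType.isLocallyNoetherian (iZ Zc)
  haveI : CompactSpace (ZZ Zc) := QuasiCompact.compactSpace_of_compactSpace (iZ Zc)
  haveI : AlgebraicGeometry.IsNoetherian (ZZ Zc) := { }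
  let i := iZ Zc
  let Fi := Scheme.Modules.pushforward i
  let z := genericPoint (ZZ Zc)
  have hind : Topology.IsInducing i.base := i.isEmbedding.isInducing
  have hξ : i z = ξ := iZ_genericPoint_eq Zc hgen
  have hk' : ClSub.KilledByIdeal i.ker G := by
    have : i.ker = Scheme.IdealSheafData.vanishingIdeal Zc :=
      Scheme.IdealSheafData.ker_subschemeι _
    rw [this]; exact hkill
  obtain ⟨GZ, hGZc, ⟨eG⟩⟩ :=
    Groth.Agent.Lib.ClosedImmersionPush.exists_iso_pushforward_of_killedByIdeal i G hGc hk'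
  haveI : GZ.IsFiniteType := hGZc.2
  haveI : GZ.IsQuasicoherent := hGZc.1
  have hzG : z ∈ CohB1.support GZ := by
    rw [← mem_support_pushforward_iff i hind, hξ]
    exact support_subset_of_mono eG.inv hξG
  obtain ⟨U, hzU, ⟨eU⟩⟩ := Groth.Agent.Lib.GenericFree.exists_open_free_of_isFT_of_isIntegral GZ
  set r := Module.finrank ↑((ZZ Zc).presheaf.stalk (genericPoint ↥(ZZ Zc)))
    ↑(GZ.presheaf.stalk (genericPoint ↥(ZZ Zc))) with hr
  have hr0 : r ≠ 0 := by
    intro h0
    rw [h0] at eU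
    have hz : IsZero ((Scheme.Modules.restrictFunctor U.ι).obj GZ) :=
      (Groth.Agent.Lib.PerfectLocal.isZero_freeMod_zero _).of_iso eU
    exact (Groth.Agent.Lib.H90QCohLocalization.isZero_restrict_iff GZ U).mp hz hzG hzU
  have hfree : Coh.IsCoh (FlatMod.freeMod (ZZ Zc) r) :=
    Groth.Agent.Lib.H90Invertible.isCoh_of_isFinLocFree
      (Groth.Agent.Lib.H90Invertible.isFinLocFree_freeMod _ r)
  let φ : (Scheme.Modules.restrictFunctor U.ι).obj GZ ⟶
      (Scheme.Modules.restrictFunctor U.ι).obj (FlatMod.freeMod (ZZ Zc) r) :=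
    eU.hom ≫ (Groth.Agent.Lib.FinLocFree.restrictFreeModIso U.ι r).inv
  haveI : IsIso φ := inferInstance
  have hX : ∀ x : ZZ Zc, ∃ V : (ZZ Zc).Opens, x ∈ V ∧ NoetherianSpace (V : Set (ZZ Zc)) :=
    fun x => ⟨⊤, trivial, inferInstance⟩
  obtain ⟨E, a, b, hE, -, ha, hb⟩ :=
    Groth.Agent.Lib.H90GraphExt.exists_graph_extension hX GZ (FlatMod.freeMod (ZZ Zc) r) hGZc hfree U φ
  haveI := ha
  have hb' : IsIso ((Scheme.Modules.restrictFunctor U.ι).map b) := by rw [hb]; infer_instance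
  have hPGZ : P (Fi.obj GZ) := hP _ _ ⟨eG.symm⟩ hPG
  have hPE : P (Fi.obj E) := (P_push_iff Zc ξ P h₁ IH hξ hE hGZc a U hzU ha).mpr hPGZ
  have hPF : P (Fi.obj (FlatMod.freeMod (ZZ Zc) r)) :=
    (P_push_iff Zc ξ P h₁ IH hξ hE hfree b U hzU hb').mp hPE
  -- the structure sheaf is a direct summand of the free module
  let j0 : Fin r := ⟨0, Nat.pos_of_ne_zero hr0⟩
  let ι₀ : Coh.structureModule (ZZ Zc) ⟶ FlatMod.freeMod (ZZ Zc) r :=
    Sigma.ι (fun _ : Fin r => Coh.structureModule (ZZ Zc)) j0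
  let π₀ : FlatMod.freeMod (ZZ Zc) r ⟶ Coh.structureModule (ZZ Zc) :=
    Sigma.desc (fun j => if j = j0 then 𝟙 _ else 0)
  have hιπ : ι₀ ≫ π₀ = 𝟙 _ := by
    simp [ι₀, π₀]
  refine hsum (Fi.obj (FlatMod.freeMod (ZZ Zc) r)) (hub Zc) (Fi.map ι₀) (Fi.map π₀) ?_
    (Groth.Agent.Lib.H90OXModPushFinite.isCoh_pushforward i _ hfree) (isCoh_hub Zc) hPF
  rw [← Fi.map_comp, hιπ, Fi.map_id]

end Hub

/-- the hub has support `Zc` and residue-field stalk at the generic point -/
theorem hub_props [AlgebraicGeometry.IsNoetherian X] (Zc : Closeds X) (hirr : IsIrreducible (Zc : Set X))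
    (ξ : X) (hgen : closure {ξ} = (Zc : Set X)) :
    CohB1.support (hub Zc) = (Zc : Set X) ∧
      Nonempty (↑((hub Zc).presheaf.stalk ξ) ≃ₗ[X.presheaf.stalk ξ]
        IsLocalRing.ResidueField (X.presheaf.stalk ξ)) := by
  have hξ : IsGenericPoint ξ (Zc : Set X) := hgen
  have hsimple := isSimpleModule_hub hirr hξ
  obtain ⟨I, hI, ⟨e⟩⟩ := isSimpleModule_iff_quot_maximal.mp hsimple
  have hIm : I = IsLocalRing.maximalIdeal (X.presheaf.stalk ξ) := IsLocalRing.eq_maximalIdeal hI
  subst hIm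
  refine ⟨Set.Subset.antisymm (support_hub_subset Zc) ?_, ⟨e⟩⟩
  have hmem : ξ ∈ CohB1.support (hub Zc) := by
    rw [mem_support_iff]
    exact e.symm.injective.nontrivial
  rw [← hgen]
  exact closure_minimal (Set.singleton_subset_iff.mpr hmem)
    (isClosed_support_of_isFT _ (isCoh_hub Zc).2)

/-- **Dévissage with direct summands** (EGA III 3.1.3). -/
theorem devissage_summand (X : Scheme.{u}) [AlgebraicGeometry.IsNoetherian X]
    (P : X.Modules → Prop) (hP : ∀ M N : X.Modules, Nonempty (M ≅ N) → P M → P N)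
    (hzero : ∀ N : X.Modules, IsZero N → P N)
    (h₁ : ∀ S : ShortComplex X.Modules, S.ShortExact → Coh.IsCoh S.X₁ → Coh.IsCoh S.X₂ →
      Coh.IsCoh S.X₃ →
      (P S.X₁ → P S.X₂ → P S.X₃) ∧ (P S.X₁ → P S.X₃ → P S.X₂) ∧ (P S.X₂ → P S.X₃ → P S.X₁))
    (hsum : ∀ (M N : X.Modules) (i : N ⟶ M) (r : M ⟶ N), i ≫ r = 𝟙 N → Coh.IsCoh M → Coh.IsCoh N →
      P M → P N)
    (X' : Set X)
    (hgen : ∀ Zc : Closeds X, IsIrreducible (Zc : Set X) → (Zc : Set X) ⊆ X' → ∀ ξ : X,
      closure {ξ} = (Zc : Set X) →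
      ∃ G : X.Modules, Coh.IsCoh G ∧ P G ∧
        ClSub.KilledByIdeal (Scheme.IdealSheafData.vanishingIdeal Zc) G ∧ ξ ∈ CohB1.support G)
    (F : X.Modules) (hF : Coh.IsCoh F) (hsupp : CohB1.support F ⊆ X') : P F := by
  classical
  have key : ∀ T : Closeds X, (T : Set X) ⊆ X' → ∀ M : X.Modules, Coh.IsCoh M →
      CohB1.support M ⊆ (T : Set X) → P M := by
    intro T
    induction T using WellFoundedLT.induction with
    | ind T IH =>
      intro hTX' M hM hsM
      refine Groth.Agent.Lib.H90DevSubset.devissage_two_of_three_subset X (T : Set X) P hP hzero h₁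
        ?_ M hM hsM
      intro Zc hirr hZT ξ hξ
      obtain ⟨hs, he⟩ := hub_props Zc hirr ξ hξ
      refine ⟨hub Zc, isCoh_hub Zc, hs, he, ?_⟩
      rcases (show Zc ≤ T from hZT).lt_or_eq with hlt | heq
      · exact IH Zc hlt (fun x hx => hTX' (hZT hx)) _ (isCoh_hub Zc) (support_hub_subset Zc)
      · subst heq
        obtain ⟨G, hGc, hPG, hkill, hξG⟩ := hgen Zc hirr hTX' ξ hξ
        refine P_hub_of_generic Zc ξ P hP h₁ hsum ?_ hirr hξ G hGc hPG hkill hξG
        intro N hN hsN hξN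
        have hlt : (⟨CohB1.support N, isClosed_support_of_isFT _ hN.2⟩ : Closeds X) < Zc := by
          refine lt_of_le_of_ne hsN ?_
          intro h
          apply hξN
          have h' : CohB1.support N = (Zc : Set X) := congrArg (fun W : Closeds X => (W : Set X)) h
          rw [h', ← hξ]
          exact subset_closure rfl
        exact IH _ hlt (fun x hx => hTX' (hsN hx)) N hN (le_refl _)
  exact key ⟨CohB1.support F, isClosed_support_of_isFT _ hF.2⟩ hsupp F hF (le_refl _)

end Groth.Agent.Lib.H90DevSummand
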