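import Groth.Agent.Lib.CurveDeg48c
import Groth.Agent.Lib.H90DevSummand
import Groth.Agent.Lib.EulerLE48
import Groth.Agent.Lib.CohFinAmple

/-!
# `χ(F ⊗ E) = n χ(F)` for `F` coherent with finite support and `E` locally free of rank `n` (helper48, K6/D3)

* `isClosed_singleton_of_dim_le_zero`, `isClosed_singleton_of_mem_of_dim_le_zero`: points of a `T0` space of Krull
  dimension `≤ 0` are closed.
* `euler_tensorRight_add`, `euler_tensorLeft_add`: `χ(- ⊗ E)`, `χ(E ⊗ -)` are additive on short exact sequences of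
  coherent modules when `E` is finite locally free.
* **`euler_tensorMod_of_dim_support_le_zero`** (= S1558), `euler_tensorMod_of_dim_support_le_zero'` (`E ⊗ F` form).
-/

set_option autoImplicit false
universe u
open CategoryTheory CategoryTheory.Limits AlgebraicGeometry Opposite TopologicalSpace

namespace Groth.Agent.Lib.CurveDeg48

open Groth.Agent.Lib.OXModTensor Groth.Agent.Lib.H90DevHub2 Groth.Agent.Lib.TwistEquiv
  Groth.Agent.Lib.H90DevHub Groth.Agent.Lib.H90DevCanon

/-- points of a `T0` space of Krull dimension `≤ 0` are closed -/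
theorem isClosed_singleton_of_dim_le_zero {T : Type*} [TopologicalSpace T] [T0Space T]
    (h : topologicalKrullDim T ≤ 0) (x : T) : IsClosed ({x} : Set T) := by
  rw [← closure_subset_iff_isClosed]
  intro y hy
  let B : IrreducibleCloseds T := ⟨closure {x}, isIrreducible_singleton.closure, isClosed_closure⟩
  let A : IrreducibleCloseds T := ⟨closure {y}, isIrreducible_singleton.closure, isClosed_closure⟩
  have hAB : A ≤ B := by
    change closure {y} ⊆ closure {x}
    exact closure_minimal (Set.singleton_subset_iff.mpr hy) isClosed_closure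
  have hmin : IsMin B := (Order.krullDim_nonpos_iff_forall_isMin.mp h) B
  have hBA : B ≤ A := hmin hAB
  have hx : x ∈ closure ({y} : Set T) := hBA (subset_closure rfl)
  have hins : Inseparable x y := by
    rw [inseparable_iff_specializes_and]
    exact ⟨specializes_iff_mem_closure.mpr hy, specializes_iff_mem_closure.mpr hx⟩
  exact hins.eq.symm

/-- points of a closed subset of Krull dimension `≤ 0` of a `T0` space are closed -/
theorem isClosed_singleton_of_mem_of_dim_le_zero {T : Type*} [TopologicalSpace T] [T0Space T]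
    {S : Set T} (hS : IsClosed S) (h : topologicalKrullDim S ≤ 0) {x : T} (hx : x ∈ S) :
    IsClosed ({x} : Set T) := by
  have h1 : IsClosed ({⟨x, hx⟩} : Set S) := isClosed_singleton_of_dim_le_zero h ⟨x, hx⟩
  have h2 := hS.isClosedEmbedding_subtypeVal.isClosedMap _ h1
  rwa [Set.image_singleton] at h2

section Euler

variable (H : Groth.Agent.Lib.ProperFinHyp.Hyp.{u}) (k : Type u) [Field k] (X : Scheme.{u})
  [X.Over (Spec (CommRingCat.of k))] [IsProper (X ↘ (Spec (CommRingCat.of k)))]

include H in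
/-- `χ(- ⊗ E)` is additive on short exact sequences of coherent modules, `E` finite locally free -/
theorem euler_tensorRight_add {n : ℕ} {E : X.Modules} (hE : FlatMod.IsFinLocFreeOfRank n E)
    (S : ShortComplex X.Modules) (hS : S.ShortExact)
    (h₁ : Coh.IsCoh S.X₁) (h₂ : Coh.IsCoh S.X₂) (h₃ : Coh.IsCoh S.X₃) :
    Curv2.euler k X (CohB1.tensorMod S.X₂ E) =
      Curv2.euler k X (CohB1.tensorMod S.X₁ E) + Curv2.euler k X (CohB1.tensorMod S.X₃ E) := by
  have hEc : Coh.IsCoh E :=
    Groth.Agent.Lib.H90Invertible.isCoh_of_isFinLocFree (isFinLocFree_of_isFinLocFreeOfRank hE)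
  have hS' := shortExact_map_tensorRight_of_isFlat E (isFlat_of_isFinLocFreeOfRank hE) hS
  have c₁ : Coh.IsCoh (CohB1.tensorMod S.X₁ E) := Groth.Agent.Lib.CohFinAmple.isCoh_tensorMod h₁ hEc
  have c₂ : Coh.IsCoh (CohB1.tensorMod S.X₂ E) := Groth.Agent.Lib.CohFinAmple.isCoh_tensorMod h₂ hEc
  have c₃ : Coh.IsCoh (CohB1.tensorMod S.X₃ E) := Groth.Agent.Lib.CohFinAmple.isCoh_tensorMod h₃ hEc
  exact Groth.Agent.Lib.EulerChar54.euler_add H k X (S.map (tensorRightFunctor E)) hS' c₁ c₂ c₃

include H in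
/-- `χ(E ⊗ -)` is additive on short exact sequences of coherent modules, `E` finite locally free -/
theorem euler_tensorLeft_add {n : ℕ} {E : X.Modules} (hE : FlatMod.IsFinLocFreeOfRank n E)
    (S : ShortComplex X.Modules) (hS : S.ShortExact)
    (h₁ : Coh.IsCoh S.X₁) (h₂ : Coh.IsCoh S.X₂) (h₃ : Coh.IsCoh S.X₃) :
    Curv2.euler k X (CohB1.tensorMod E S.X₂) =
      Curv2.euler k X (CohB1.tensorMod E S.X₁) + Curv2.euler k X (CohB1.tensorMod E S.X₃) := by
  have hEc : Coh.IsCoh E :=
    Groth.Agent.Lib.H90Invertible.isCoh_of_isFinLocFree (isFinLocFree_of_isFinLocFreeOfRank hE)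
  have hS' := shortExact_map_tensorLeft_of_isFlat E (isFlat_of_isFinLocFreeOfRank hE) hS
  have c₁ : Coh.IsCoh (CohB1.tensorMod E S.X₁) := Groth.Agent.Lib.CohFinAmple.isCoh_tensorMod hEc h₁
  have c₂ : Coh.IsCoh (CohB1.tensorMod E S.X₂) := Groth.Agent.Lib.CohFinAmple.isCoh_tensorMod hEc h₂
  have c₃ : Coh.IsCoh (CohB1.tensorMod E S.X₃) := Groth.Agent.Lib.CohFinAmple.isCoh_tensorMod hEc h₃
  exact Groth.Agent.Lib.EulerChar54.euler_add H k X (S.map (tensorLeftFunctor E)) hS' c₁ c₂ c₃

include H in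
/-- **S1558**: `χ(F ⊗ E) = n χ(F)` for `F` coherent with `dim Supp F ≤ 0` and `E` finite locally free of rank `n`,
on a proper scheme over a field. -/
theorem euler_tensorMod_of_dim_support_le_zero (F : X.Modules) (hF : Coh.IsCoh F)
    (hsupp : topologicalKrullDim (CohB1.support F) ≤ 0)
    (n : ℕ) (E : X.Modules) (hE : FlatMod.IsFinLocFreeOfRank n E) :
    Curv2.euler k X (CohB1.tensorMod F E) = n * Curv2.euler k X F := by
  haveI := Groth.Agent.Lib.EulerLE48.isNoetherian k X
  have hEc : Coh.IsCoh E :=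
    Groth.Agent.Lib.H90Invertible.isCoh_of_isFinLocFree (isFinLocFree_of_isFinLocFreeOfRank hE)
  have hcl : IsClosed (CohB1.support F) := Groth.Agent.Lib.ModStalk.isClosed_support_of_isFT _ hF.2
  refine Groth.Agent.Lib.H90DevSubset.devissage_two_of_three_subset X
    {x | IsClosed ({x} : Set X)}
    (fun M => Curv2.euler k X (CohB1.tensorMod M E) = n * Curv2.euler k X M) ?_ ?_ ?_ ?_ F hF ?_
  · rintro M N ⟨e⟩ hM
    rw [← Groth.Agent.Lib.DegTensor54.euler_congr k e,
      ← Groth.Agent.Lib.DegTensor54.euler_congr k (tensorModIso e (Iso.refl E))]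
    exact hM
  · intro N hN
    have h0 : IsZero (CohB1.tensorMod N E) := (tensorRightFunctor E).map_isZero hN
    rw [Groth.Agent.Lib.HilbPoly48.euler_eq_zero_of_isZero k X hN,
      Groth.Agent.Lib.HilbPoly48.euler_eq_zero_of_isZero k X h0]
    simp
  · intro S hS h₁ h₂ h₃
    have ha := Groth.Agent.Lib.EulerChar54.euler_add H k X S hS h₁ h₂ h₃
    have hb := euler_tensorRight_add H k X hE S hS h₁ h₂ h₃
    refine ⟨fun p₁ p₂ => ?_, fun p₁ p₃ => ?_, fun p₂ p₃ => ?_⟩
    · rw [p₁, p₂, ha] at hb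
      linarith
    · rw [hb, p₁, p₃, ha]
      ring
    · rw [p₂, p₃, ha] at hb
      linarith
  · intro Zc hirr hZX ξ hgen
    obtain ⟨hs, he⟩ := Groth.Agent.Lib.H90DevSummand.hub_props Zc hirr ξ hgen
    refine ⟨hub Zc, isCoh_hub Zc, hs, he, ?_⟩
    have hξZ : ξ ∈ (Zc : Set X) := by rw [← hgen]; exact subset_closure rfl
    have hξcl : IsClosed ({ξ} : Set X) := hZX hξZ
    have hZeq : (Zc : Set X) = {ξ} := by rw [← hgen, hξcl.closure_eq]
    obtain ⟨U, hξU, ⟨e⟩⟩ := hE ξ
    have hZU : (Zc : Set X) ⊆ (U : Set X) := by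
      rw [hZeq]
      exact Set.singleton_subset_iff.mpr hξU
    obtain ⟨i⟩ := nonempty_tensor_iso_pw (isCoh_hub Zc) hEc Zc.isClosed (support_hub_subset Zc) U hZU n e
    rw [Groth.Agent.Lib.DegTensor54.euler_congr k i, euler_pw H k X n (isCoh_hub Zc)]
  · intro x hx
    exact isClosed_singleton_of_mem_of_dim_le_zero hcl hsupp hx

include H in
/-- `χ(E ⊗ F) = n χ(F)` for `F` coherent with `dim Supp F ≤ 0` and `E` finite locally free of rank `n` -/
theorem euler_tensorMod_of_dim_support_le_zero' (F : X.Modules) (hF : Coh.IsCoh F)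
    (hsupp : topologicalKrullDim (CohB1.support F) ≤ 0)
    (n : ℕ) (E : X.Modules) (hE : FlatMod.IsFinLocFreeOfRank n E) :
    Curv2.euler k X (CohB1.tensorMod E F) = n * Curv2.euler k X F := by
  rw [Groth.Agent.Lib.DegTensor54.euler_congr k (braiding E F)]
  exact euler_tensorMod_of_dim_support_le_zero H k X F hF hsupp n E hE

end Euler

end Groth.Agent.Lib.CurveDeg48
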