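import Mathlib.Topology.KrullDimension
import Mathlib.Topology.Irreducible

/-!
# K3 (lead): the dimension of a proper closed subset of an irreducible closed set drops

`topologicalKrullDim_add_one_le_of_ssubset` : for subsets `S ⊆ T` of a topological space with `S` closed,
`T` irreducible and `S ≠ T`, `dim S + 1 ≤ dim T`.
-/

set_option autoImplicit false
set_option linter.style.haveILetI false

open Set Function Order TopologicalSpace Topology TopologicalSpace.IrreducibleCloseds

namespace Groth.Agent.Lib.DimDrop

variable {X : Type*} [TopologicalSpace X]

theorem topologicalKrullDim_mono {S T : Set X} (hST : S ⊆ T) :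
    topologicalKrullDim S ≤ topologicalKrullDim T :=
  (IsInducing.subtypeVal.of_comp (continuous_inclusion hST) continuous_subtype_val
    |> fun h => h).topologicalKrullDim_le (f := Set.inclusion hST)

theorem topologicalKrullDim_add_one_le_of_ssubset {S T : Set X} (hS : IsClosed S)
    (hT : IsIrreducible T) (hST : S ⊆ T) (hne : S ≠ T) :
    topologicalKrullDim S + 1 ≤ topologicalKrullDim T := by
  classical
  by_cases hemp : IsEmpty (IrreducibleCloseds S)
  · have : topologicalKrullDim S = ⊥ := by
      unfold topologicalKrullDim
      exact krullDim_eq_bot
    rw [this]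
    simp
  rw [not_isEmpty_iff] at hemp
  haveI := hemp
  haveI : IrreducibleSpace T := Subtype.irreducibleSpace hT
  let j : S → T := Set.inclusion hST
  have hjc : Continuous j := continuous_inclusion hST
  have hji : IsInducing j :=
    IsInducing.of_comp hjc continuous_subtype_val (by
      have : (Subtype.val : T → X) ∘ j = (Subtype.val : S → X) := rfl
      rw [this]
      exact IsInducing.subtypeVal)
  have hjcl : IsClosedMap j := by
    intro C hC
    -- `C` closed in `S`, `S` closed in `X`
    obtain ⟨D, hD, rfl⟩ := isClosed_induced_iff.mp hC
    have : j '' (Subtype.val ⁻¹' D) = Subtype.val ⁻¹' (D ∩ S) := by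
      ext ⟨t, ht⟩
      constructor
      · rintro ⟨⟨s, hs⟩, hsD, hst⟩
        have : s = t := congrArg Subtype.val hst
        subst this
        exact ⟨hsD, hs⟩
      · rintro ⟨htD, htS⟩
        exact ⟨⟨t, htS⟩, htD, rfl⟩
    rw [this]
    exact (hD.inter hS).preimage continuous_subtype_val
  let g : IrreducibleCloseds S → IrreducibleCloseds T := IrreducibleCloseds.map j hjc
  have hg : StrictMono g := map_strictMono_of_isInducing hji
  let top : IrreducibleCloseds T := ⟨Set.univ, (irreducibleSpace_def T).mp inferInstance, isClosed_univ⟩
  have hlt : ∀ c, g c < top := by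
    intro c
    have hsub : (g c : Set T) ⊆ Set.range j := by
      change closure (j '' (c : Set S)) ⊆ Set.range j
      have hcl : IsClosed (Set.range j) := by
        rw [← Set.image_univ]
        exact hjcl _ isClosed_univ
      exact closure_minimal (Set.image_subset_range _ _) hcl
    have hrange : Set.range j ≠ Set.univ := by
      intro h
      apply hne
      refine Set.Subset.antisymm hST fun t ht => ?_
      have : (⟨t, ht⟩ : T) ∈ Set.range j := h ▸ Set.mem_univ _
      obtain ⟨⟨s, hs⟩, hst⟩ := this
      have : s = t := congrArg Subtype.val hst
      exact this ▸ hs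
    refine lt_of_le_of_ne (fun x _ => Set.mem_univ x) ?_
    intro h
    apply hrange
    have h' : (g c : Set T) = Set.univ := congrArg (fun z : IrreducibleCloseds T => (z : Set T)) h
    exact Set.eq_univ_of_univ_subset (h' ▸ hsub)
  let f : WithTop (IrreducibleCloseds S) → IrreducibleCloseds T := fun x =>
    match x with
    | ⊤ => top
    | (c : IrreducibleCloseds S) => g c
  have hf : StrictMono f := by
    intro a b hab
    induction a using WithTop.recTopCoe with
    | top => exact absurd hab (not_top_lt)
    | coe a =>
      induction b using WithTop.recTopCoe with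
      | top => exact hlt a
      | coe b => exact hg (WithTop.coe_lt_coe.mp hab)
  have := krullDim_le_of_strictMono f hf
  rw [krullDim_WithTop] at this
  exact this

end Groth.Agent.Lib.DimDrop
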