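import Groth.Agent.Lib.CurveDeg48c
import Groth.Agent.Lib.H90DevSummand
import Groth.Agent.Lib.DimDrop
import Groth.Agent.Lib.RestrictStalk
import Mathlib.RingTheory.Length

/-!
# Additive invariants of coherent modules on schemes of dimension `≤ 1` (helper48, K6/D3)

An `AddInv X` is a function `φ : X.Modules → ℤ`, invariant under isomorphisms, additive on short exact sequences of
coherent modules, and vanishing on coherent modules whose support has dimension `≤ 0`
(e.g. `M ↦ χ(E ⊗ M) - n χ(M)` for `E` locally free of rank `n` on a proper scheme over a field).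

* `AddInv.eq_glen_mul` (Stacks 0AYW flavour): on a Noetherian scheme, for `Z` irreducible closed of dimension `≤ 1` with generic
  point `ξ` and `M` coherent with `Supp M ⊆ Z`: `M_ξ` has finite length and `φ(M) = length(M_ξ) · φ(hub Z)`, `hub Z = i_* O_Z`.
* `AddInv.eq_of_glen_eq`: `φ(M) = φ(M')` if the lengths at `ξ` agree.
* `glen_eq_of_restrict_iso`: modules which are isomorphic on a neighbourhood of `ξ` have the same length at `ξ`.
* `AddInv.phi_pw`: `φ(G^m) = m φ(G)`.
-/

set_option autoImplicit false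
universe u
open CategoryTheory CategoryTheory.Limits AlgebraicGeometry Opposite TopologicalSpace

namespace Groth.Agent.Lib.CurveDeg48

open Groth.Agent.Lib.H90DevHub2 Groth.Agent.Lib.H90DevHub Groth.Agent.Lib.H90DevCanon
  Groth.Agent.Lib.ModStalkLin Groth.Agent.Lib.RestrictStalk

variable {X : Scheme.{u}}

/-- additive invariants of coherent modules vanishing on modules with support of dimension `≤ 0` -/
structure AddInv (X : Scheme.{u}) where
  φ : X.Modules → ℤ
  iso : ∀ {M N : X.Modules}, (M ≅ N) → φ M = φ N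
  zero : ∀ {M : X.Modules}, IsZero M → φ M = 0
  add : ∀ (S : ShortComplex X.Modules), S.ShortExact → Coh.IsCoh S.X₁ → Coh.IsCoh S.X₂ →
    Coh.IsCoh S.X₃ → φ S.X₂ = φ S.X₁ + φ S.X₃
  tors : ∀ (M : X.Modules), Coh.IsCoh M → topologicalKrullDim (CohB1.support M) ≤ 0 → φ M = 0

/-- the length of the stalk at `ξ` -/
noncomputable def glen (ξ : X) (M : X.Modules) : ℕ∞ :=
  Module.length (X.presheaf.stalk ξ) (M.presheaf.stalk ξ)

theorem glen_congr (ξ : X) {M N : X.Modules} (e : M ≅ N) : glen ξ M = glen ξ N :=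
  (stalkLinEquiv e ξ).length_eq

theorem subsingleton_stalk_of_isZero {M : X.Modules} (hM : IsZero M) (ξ : X) :
    Subsingleton ↑(M.presheaf.stalk ξ) := by
  refine ⟨fun a b => ?_⟩
  have key : ∀ m : ↑(M.presheaf.stalk ξ), m = 0 := by
    intro m
    have h1 : stalkLin (𝟙 M) ξ m = m := by rw [stalkLin_id]; rfl
    rw [← h1, hM.eq_of_src (𝟙 M) 0, Groth.Agent.Lib.FreeModStalk.stalkLin_zero]
    rfl
  rw [key a, key b]

theorem glen_eq_zero_of_notMem_support {ξ : X} {M : X.Modules} (h : ξ ∉ CohB1.support M) :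
    glen ξ M = 0 := by
  rw [notMem_support_iff] at h
  exact Module.length_eq_zero

theorem glen_add (ξ : X) {S : ShortComplex X.Modules} (hS : S.ShortExact) :
    glen ξ S.X₂ = glen ξ S.X₁ + glen ξ S.X₃ := by
  obtain ⟨hinj, hex, hsurj⟩ := stalkLin_exact hS ξ
  exact Module.length_eq_add_of_exact _ _ hinj hsurj hex

theorem le_zero_of_add_one_le_one' {x : WithBot ℕ∞} (h : x + 1 ≤ 1) : x ≤ 0 := by
  induction x using WithBot.recBotCoe with
  | bot => exact bot_le
  | coe y =>
    have h1 : y + 1 ≤ (0 : ℕ∞) + 1 := by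
      rw [zero_add]
      exact_mod_cast h
    have hy : y ≠ ⊤ := by
      rintro rfl
      simp at h1
    lift y to ℕ using hy
    have : y + 1 ≤ 0 + 1 := by exact_mod_cast h1
    have h2 : y ≤ 0 := Nat.le_of_succ_le_succ this
    exact_mod_cast h2

/-- **Additive invariants on an irreducible closed subset of dimension `≤ 1` are multiples of the length at the generic
point.** -/
theorem AddInv.eq_glen_mul [AlgebraicGeometry.IsNoetherian X] (A : AddInv X) (Z : Closeds X)
    (hirr : IsIrreducible (Z : Set X)) (ξ : X) (hξ : closure {ξ} = (Z : Set X))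
    (hdim : topologicalKrullDim ↥(Z : Set X) ≤ 1) (M : X.Modules) (hM : Coh.IsCoh M)
    (hsupp : CohB1.support M ⊆ (Z : Set X)) :
    glen ξ M ≠ ⊤ ∧ A.φ M = ((glen ξ M).toNat : ℤ) * A.φ (hub Z) := by
  refine Groth.Agent.Lib.H90DevSubset.devissage_two_of_three_subset X (Z : Set X)
    (fun M => glen ξ M ≠ ⊤ ∧ A.φ M = ((glen ξ M).toNat : ℤ) * A.φ (hub Z)) ?_ ?_ ?_ ?_ M hM hsupp
  · rintro M N ⟨e⟩ ⟨h1, h2⟩
    rw [← glen_congr ξ e, ← A.iso e]
    exact ⟨h1, h2⟩
  · intro N hN
    have hs := subsingleton_stalk_of_isZero hN ξ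
    have h0 : glen ξ N = 0 := Module.length_eq_zero
    rw [h0, A.zero hN]
    simp
  · intro S hS h₁ h₂ h₃
    have hl := glen_add ξ hS
    have ha := A.add S hS h₁ h₂ h₃
    refine ⟨fun p₁ p₂ => ?_, fun p₁ p₃ => ?_, fun p₂ p₃ => ?_⟩
    · obtain ⟨f₁, e₁⟩ := p₁
      obtain ⟨f₂, e₂⟩ := p₂
      have f₃ : glen ξ S.X₃ ≠ ⊤ := by
        intro h
        rw [h, add_top] at hl
        exact f₂ hl
      refine ⟨f₃, ?_⟩
      have ht : (glen ξ S.X₂).toNat = (glen ξ S.X₁).toNat + (glen ξ S.X₃).toNat := by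
        rw [hl, ENat.toNat_add f₁ f₃]
      rw [e₁, e₂, ht] at ha
      push_cast at ha
      linear_combination (-1 : ℤ) * ha
    · obtain ⟨f₁, e₁⟩ := p₁
      obtain ⟨f₃, e₃⟩ := p₃
      have f₂ : glen ξ S.X₂ ≠ ⊤ := by
        rw [hl]
        exact WithTop.add_ne_top.mpr ⟨f₁, f₃⟩
      refine ⟨f₂, ?_⟩
      have ht : (glen ξ S.X₂).toNat = (glen ξ S.X₁).toNat + (glen ξ S.X₃).toNat := by
        rw [hl, ENat.toNat_add f₁ f₃]
      rw [ha, e₁, e₃, ht]
      push_cast
      ring
    · obtain ⟨f₂, e₂⟩ := p₂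
      obtain ⟨f₃, e₃⟩ := p₃
      have f₁ : glen ξ S.X₁ ≠ ⊤ := by
        intro h
        rw [h, top_add] at hl
        exact f₂ hl
      refine ⟨f₁, ?_⟩
      have ht : (glen ξ S.X₂).toNat = (glen ξ S.X₁).toNat + (glen ξ S.X₃).toNat := by
        rw [hl, ENat.toNat_add f₁ f₃]
      rw [e₂, e₃, ht] at ha
      push_cast at ha
      linear_combination (-1 : ℤ) * ha
  · intro Zc hirrc hZcZ ξ' hgen
    obtain ⟨hs, he⟩ := Groth.Agent.Lib.H90DevSummand.hub_props Zc hirrc ξ' hgen
    refine ⟨hub Zc, isCoh_hub Zc, hs, he, ?_⟩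
    by_cases hZ : (Zc : Set X) = (Z : Set X)
    · have hZ' : Zc = Z := SetLike.coe_injective hZ
      subst hZ'
      have hξ' : IsGenericPoint ξ (Zc : Set X) := hξ
      haveI := isSimpleModule_hub hirrc hξ'
      have h1 : glen ξ (hub Zc) = 1 := Module.length_eq_one _ _
      rw [h1]
      refine ⟨by simp, ?_⟩
      simp
    · have hdimZc : topologicalKrullDim ↥(Zc : Set X) ≤ 0 := by
        have h1 := Groth.Agent.Lib.DimDrop.topologicalKrullDim_add_one_le_of_ssubset
          Zc.isClosed hirr hZcZ hZ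
        exact le_zero_of_add_one_le_one' (h1.trans hdim)
      have hξZc : ξ ∉ CohB1.support (hub Zc) := by
        rw [hs]
        intro hmem
        apply hZ
        refine Set.Subset.antisymm hZcZ ?_
        rw [← hξ]
        exact closure_minimal (Set.singleton_subset_iff.mpr hmem) Zc.isClosed
      rw [glen_eq_zero_of_notMem_support hξZc, A.tors (hub Zc) (isCoh_hub Zc) (by rw [hs]; exact hdimZc)]
      simp

/-- an additive invariant takes the same value on two coherent modules supported on `Z` with the same length at the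
generic point -/
theorem AddInv.eq_of_glen_eq [AlgebraicGeometry.IsNoetherian X] (A : AddInv X) (Z : Closeds X)
    (hirr : IsIrreducible (Z : Set X)) (ξ : X) (hξ : closure {ξ} = (Z : Set X))
    (hdim : topologicalKrullDim ↥(Z : Set X) ≤ 1) {M M' : X.Modules} (hM : Coh.IsCoh M)
    (hM' : Coh.IsCoh M') (hsupp : CohB1.support M ⊆ (Z : Set X))
    (hsupp' : CohB1.support M' ⊆ (Z : Set X)) (h : glen ξ M = glen ξ M') : A.φ M = A.φ M' := by
  rw [(A.eq_glen_mul Z hirr ξ hξ hdim M hM hsupp).2, (A.eq_glen_mul Z hirr ξ hξ hdim M' hM' hsupp').2, h]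

/-- modules which are isomorphic on an open neighbourhood of a point have isomorphic stalks there -/
noncomputable def stalkEquivOfRestrictIso {M M' : X.Modules} (U : X.Opens)
    (e : M.restrict U.ι ≅ M'.restrict U.ι) (y : U) :
    ↑(M.presheaf.stalk (U.ι y)) ≃ₗ[X.presheaf.stalk (U.ι y)] ↑(M'.presheaf.stalk (U.ι y)) :=
  { (restrictStalkAddEquiv U.ι M y).symm.trans
      ((stalkLinEquiv e y).toAddEquiv.trans (restrictStalkAddEquiv U.ι M' y)) with
    map_smul' := fun b μ => by
      change restrictStalkAddEquiv U.ι M' y (stalkLinEquiv e y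
        ((restrictStalkAddEquiv U.ι M y).symm (b • μ))) =
        b • restrictStalkAddEquiv U.ι M' y (stalkLinEquiv e y
          ((restrictStalkAddEquiv U.ι M y).symm μ))
      have h1 : (restrictStalkAddEquiv U.ι M y).symm (b • μ) =
          (U.ι.stalkMap y).hom b • (restrictStalkAddEquiv U.ι M y).symm μ := by
        apply (restrictStalkAddEquiv U.ι M y).injective
        rw [AddEquiv.apply_symm_apply, restrictStalkAddEquiv_smul, AddEquiv.apply_symm_apply]
      rw [h1, map_smul, restrictStalkAddEquiv_smul] }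

theorem glen_eq_of_restrict_iso {M M' : X.Modules} (U : X.Opens)
    (e : M.restrict U.ι ≅ M'.restrict U.ι) (y : U) : glen (U.ι y) M = glen (U.ι y) M' :=
  (stalkEquivOfRestrictIso U e y).length_eq

/-- `φ(G^m) = m φ(G)` -/
theorem AddInv.phi_pw (A : AddInv X) (m : ℕ) {G : X.Modules} (hG : Coh.IsCoh G) :
    A.φ (pw m G) = m * A.φ G := by
  induction m with
  | zero =>
    rw [A.zero (isZero_pw_zero G)]
    simp
  | succ m ih =>
    rw [A.iso (pwSuccIso m G)]
    have hS := (ShortComplex.Splitting.ofHasBinaryBiproduct G (pw m G)).shortExact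
    have := A.add _ hS hG (Groth.Agent.Lib.H90CohCenter.isCoh_biprod hG (isCoh_pw m hG)) (isCoh_pw m hG)
    rw [this, ih]
    push_cast
    ring

end Groth.Agent.Lib.CurveDeg48
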