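import Groth.Agent.Lib.CurveDeg48d
import Groth.Agent.Lib.CurveDeg48f

/-!
# `deg(E ⊗ V) = n deg V + m deg E` on a proper scheme of dimension `≤ 1` (helper48, K6/D3; = S7637)

* `eulerInv H k X hE : AddInv X`: the additive invariant `M ↦ χ(E ⊗ M) - n χ(M)` for `E` finite locally free of rank `n`.
* `eulerInv_tensor`: `χ(E ⊗ (V ⊗ F)) - n χ(V ⊗ F) = m (χ(E ⊗ F) - n χ(F))` for all coherent `F`, `V` finite locally free
  of rank `m`, `dim X ≤ 1` (no integrality/reducedness assumption).
* `deg_tensorMod_locFree` (= S7637).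
-/

set_option autoImplicit false
universe u
open CategoryTheory CategoryTheory.Limits AlgebraicGeometry Opposite TopologicalSpace

namespace Groth.Agent.Lib.CurveDeg48

open Groth.Agent.Lib.OXModTensor Groth.Agent.Lib.H90DevHub2 Groth.Agent.Lib.TwistEquiv
  Groth.Agent.Lib.H90DevHub Groth.Agent.Lib.H90DevCanon

variable (H : Groth.Agent.Lib.ProperFinHyp.Hyp.{u}) (k : Type u) [Field k] (X : Scheme.{u})
  [X.Over (Spec (CommRingCat.of k))] [IsProper (X ↘ (Spec (CommRingCat.of k)))]

/-- the additive invariant `M ↦ χ(E ⊗ M) - n χ(M)` -/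
noncomputable def eulerInv {n : ℕ} {E : X.Modules} (hE : FlatMod.IsFinLocFreeOfRank n E) : AddInv X where
  φ M := Curv2.euler k X (CohB1.tensorMod E M) - n * Curv2.euler k X M
  iso e := by
    rw [Groth.Agent.Lib.DegTensor54.euler_congr k e,
      Groth.Agent.Lib.DegTensor54.euler_congr k (tensorModIso (Iso.refl E) e)]
  zero {M} hM := by
    have h0 : IsZero (CohB1.tensorMod E M) := (tensorLeftFunctor E).map_isZero hM
    rw [Groth.Agent.Lib.HilbPoly48.euler_eq_zero_of_isZero k X hM,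
      Groth.Agent.Lib.HilbPoly48.euler_eq_zero_of_isZero k X h0]
    simp
  add S hS h₁ h₂ h₃ := by
    rw [euler_tensorLeft_add H k X hE S hS h₁ h₂ h₃,
      Groth.Agent.Lib.EulerChar54.euler_add H k X S hS h₁ h₂ h₃]
    ring
  tors M hM hs := by
    rw [euler_tensorMod_of_dim_support_le_zero' H k X M hM hs n _ hE]
    ring

include H in
/-- `χ(E ⊗ (V ⊗ F)) - n χ(V ⊗ F) = m (χ(E ⊗ F) - n χ(F))` for coherent `F` -/
theorem eulerInv_tensor (hdim : topologicalKrullDim X ≤ 1) {n m : ℕ} {E V : X.Modules}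
    (hE : FlatMod.IsFinLocFreeOfRank n E) (hV : FlatMod.IsFinLocFreeOfRank m V)
    (F : X.Modules) (hF : Coh.IsCoh F) :
    (eulerInv H k X hE).φ (CohB1.tensorMod V F) = m * (eulerInv H k X hE).φ F := by
  haveI := Groth.Agent.Lib.EulerLE48.isNoetherian k X
  have hVc : Coh.IsCoh V :=
    Groth.Agent.Lib.H90Invertible.isCoh_of_isFinLocFree (isFinLocFree_of_isFinLocFreeOfRank hV)
  have hVflat := isFlat_of_isFinLocFreeOfRank hV
  set A := eulerInv H k X hE with hA
  refine Groth.Agent.Lib.H90DevSubset.devissage_two_of_three_subset X Set.univ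
    (fun M => A.φ (CohB1.tensorMod V M) = m * A.φ M) ?_ ?_ ?_ ?_ F hF (Set.subset_univ _)
  · rintro M N ⟨e⟩ hM
    rw [← A.iso e, ← A.iso (tensorModIso (Iso.refl V) e)]
    exact hM
  · intro N hN
    have h0 : IsZero (CohB1.tensorMod V N) := (tensorLeftFunctor V).map_isZero hN
    rw [A.zero hN, A.zero h0]
    simp
  · intro S hS h₁ h₂ h₃
    have ha := A.add S hS h₁ h₂ h₃
    have hS' := shortExact_map_tensorLeft_of_isFlat V hVflat hS
    have c₁ : Coh.IsCoh (CohB1.tensorMod V S.X₁) := Groth.Agent.Lib.CohFinAmple.isCoh_tensorMod hVc h₁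
    have c₂ : Coh.IsCoh (CohB1.tensorMod V S.X₂) := Groth.Agent.Lib.CohFinAmple.isCoh_tensorMod hVc h₂
    have c₃ : Coh.IsCoh (CohB1.tensorMod V S.X₃) := Groth.Agent.Lib.CohFinAmple.isCoh_tensorMod hVc h₃
    have hb : A.φ (CohB1.tensorMod V S.X₂) =
        A.φ (CohB1.tensorMod V S.X₁) + A.φ (CohB1.tensorMod V S.X₃) :=
      A.add (S.map (tensorLeftFunctor V)) hS' c₁ c₂ c₃
    refine ⟨fun p₁ p₂ => ?_, fun p₁ p₃ => ?_, fun p₂ p₃ => ?_⟩
    · rw [p₁, p₂, ha] at hb
      linear_combination (-1 : ℤ) * hb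
    · rw [hb, p₁, p₃, ha]
      ring
    · rw [p₂, p₃, ha] at hb
      linear_combination (-1 : ℤ) * hb
  · intro Zc hirr _ ξ hgen
    obtain ⟨hs, he⟩ := Groth.Agent.Lib.H90DevSummand.hub_props Zc hirr ξ hgen
    refine ⟨hub Zc, isCoh_hub Zc, hs, he, ?_⟩
    have hGc := isCoh_hub Zc
    have hVGc : Coh.IsCoh (CohB1.tensorMod V (hub Zc)) :=
      Groth.Agent.Lib.CohFinAmple.isCoh_tensorMod hVc hGc
    have hsVG : CohB1.support (CohB1.tensorMod V (hub Zc)) ⊆ (Zc : Set X) := by
      haveI := hGc.1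
      haveI := hVc.1
      haveI := hGc.2
      haveI := hVc.2
      rw [Groth.Agent.Lib.SupportTensor.support_tensorMod V (hub Zc), hs]
      exact Set.inter_subset_right
    by_cases hd : topologicalKrullDim ↥(Zc : Set X) ≤ 0
    · have h1 : topologicalKrullDim ↥(CohB1.support (hub Zc)) ≤ 0 := by rw [hs]; exact hd
      have h2 : topologicalKrullDim ↥(CohB1.support (CohB1.tensorMod V (hub Zc))) ≤ 0 :=
        (Groth.Agent.Lib.DimDrop.topologicalKrullDim_mono hsVG).trans hd
      change A.φ (CohB1.tensorMod V (hub Zc)) = m * A.φ (hub Zc)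
      rw [A.tors _ hGc h1, A.tors _ hVGc h2]
      simp
    · have hd1 : topologicalKrullDim ↥(Zc : Set X) ≤ 1 :=
        (topologicalKrullDim_subspace_le X (Zc : Set X)).trans hdim
      have hξZ : ξ ∈ (Zc : Set X) := by rw [← hgen]; exact subset_closure rfl
      obtain ⟨U, hξU, ⟨e⟩⟩ := hV ξ
      let ι₁ : (CohB1.tensorMod V (hub Zc)).restrict U.ι ≅ (pw m (hub Zc)).restrict U.ι :=
        (Scheme.Modules.restrictFunctor U.ι).mapIso (braiding V (hub Zc)) ≪≫
          restrictTensorFreeIso U.ι (hub Zc) V m e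
      have hlen : glen ξ (CohB1.tensorMod V (hub Zc)) = glen ξ (pw m (hub Zc)) :=
        glen_eq_of_restrict_iso U ι₁ ⟨ξ, hξU⟩
      change A.φ (CohB1.tensorMod V (hub Zc)) = m * A.φ (hub Zc)
      rw [A.eq_of_glen_eq Zc hirr ξ hgen hd1 hVGc (isCoh_pw m hGc) hsVG
        ((support_pw_subset m (hub Zc)).trans (support_hub_subset Zc)) hlen, A.phi_pw m hGc]

include H in
/-- **S7637**: `deg(E ⊗ V) = n deg V + m deg E` for finite locally free `E`, `V` of ranks `n`, `m` on a proper scheme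
of dimension `≤ 1` over a field. -/
theorem deg_tensorMod_locFree (hdim : topologicalKrullDim X ≤ 1) (n m : ℕ) (E V : X.Modules)
    (hE : FlatMod.IsFinLocFreeOfRank n E) (hV : FlatMod.IsFinLocFreeOfRank m V) :
    Curv2.deg k X (CohB1.tensorMod E V) (n * m) =
      n * Curv2.deg k X V m + m * Curv2.deg k X E n := by
  have h := eulerInv_tensor H k X hdim hE hV (Coh.structureModule X)
    (Groth.Agent.Lib.CohFinAmple.isCoh_structureModule X)
  change Curv2.euler k X (CohB1.tensorMod E (CohB1.tensorMod V (Coh.structureModule X))) -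
      n * Curv2.euler k X (CohB1.tensorMod V (Coh.structureModule X)) =
    m * (Curv2.euler k X (CohB1.tensorMod E (Coh.structureModule X)) -
      n * Curv2.euler k X (Coh.structureModule X)) at h
  rw [Groth.Agent.Lib.DegTensor54.euler_congr k (tensorModIso (Iso.refl E) (rightUnitor V)),
    Groth.Agent.Lib.DegTensor54.euler_congr k (rightUnitor V),
    Groth.Agent.Lib.DegTensor54.euler_congr k (rightUnitor E)] at h
  unfold Curv2.deg
  push_cast
  linear_combination h

end Groth.Agent.Lib.CurveDeg48
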