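import Groth.Agent.Lib.H78Dual
import Groth.Agent.Lib.H78SecCoord
import Groth.Agent.Lib.IdealMod2
import Groth.Prelude.Def_BlowUp2

/-!
# helper78: the canonical section of `O(D)` for an effective Cartier divisor
(namespace `Groth.Agent.Lib.H78CartierSec`)

* `canSec I : O_X ⟶ (idealMod I)^∨`: the section "inclusion `I ⊆ O_X`" of `O(D) = 𝓗om(I, O_X)`.
* `isInvertible_dual_idealMod`: `O(D)` is invertible for an effective Cartier `I`.
* `genLocus_canSec`: the locus where `canSec I` generates `O(D)` is the complement of the support of `I`.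
-/

set_option autoImplicit false
universe u
open CategoryTheory CategoryTheory.Limits AlgebraicGeometry MonoidalCategory Opposite TopologicalSpace
open Groth.Agent.Lib.H90Invertible Groth.Agent.Lib.StructureModule Groth.Agent.Lib.H78TensorGen
open Groth.Agent.Lib.H78Dual Groth.Agent.Lib.H78SecCoord Groth.Agent.Lib.IdealMod

namespace Groth.Agent.Lib.H78CartierSec

variable {X : Scheme.{u}}

/-- the canonical section of `O(D) = 𝓗om(I, O_X)` -/
noncomputable def canSec (I : X.IdealSheafData) :
    Coh.structureModule X ⟶ RefHull.dual (ClSub.idealMod I) :=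
  ofSection (RefHull.ofHom (ClSub.idealModι I) ⊤)

theorem isInvertible_idealMod {I : X.IdealSheafData} (hI : BlowUp.IsEffCartierIdeal I) :
    PicF.IsInvertible (ClSub.idealMod I) := by
  rw [isInvertible_iff_exists_isGen]
  intro x
  obtain ⟨U, hxU, f, hf, hIU⟩ := hI x
  have hfI : f ∈ I.ideal U := by rw [hIU]; exact Ideal.mem_span_singleton_self f
  obtain ⟨s, hs⟩ := exists_idealFn_eq I U hfI
  exact ⟨U.1, hxU, s, isGen_idealMod_of_span_singleton I U f hf hIU s hs⟩

theorem isInvertible_dual_idealMod {I : X.IdealSheafData} (hI : BlowUp.IsEffCartierIdeal I) :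
    PicF.IsInvertible (RefHull.dual (ClSub.idealMod I)) :=
  isInvertible_dual (isInvertible_idealMod hI)

theorem genLocus_canSec {I : X.IdealSheafData} (hI : BlowUp.IsEffCartierIdeal I) :
    CohB1.genLocus _ (canSec I) = I.support.compl := by
  ext x
  obtain ⟨U, hxU, f, hf, hIU⟩ := hI x
  have hfI : f ∈ I.ideal U := by rw [hIU]; exact Ideal.mem_span_singleton_self f
  obtain ⟨e, hef⟩ := exists_idealFn_eq I U hfI
  have he : IsGen (ClSub.idealMod I) U.1 e := isGen_idealMod_of_span_singleton I U f hf hIU e hef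
  have hδ : IsGen (RefHull.dual (ClSub.idealMod I)) U.1 (delta he (toSec U.1 1)) :=
    isGen_delta he (isGen_one U.1)
  have h1 := genLocus_inf_eq hδ (canSec I)
  have h2 : f = coord hδ le_rfl (rs _ le_top (sec (canSec I))) := by
    refine coord_unique hδ le_rfl ?_
    rw [rs_self, canSec, sec_ofSection]
    refine Subtype.ext (funext fun y => ?_)
    refine stalkHom_ext he y.1 y.2 _ _ ?_
    change (X.presheaf.germ U.1 y.1 y.2 f • deltaAt he (toSec U.1 1) y.1 y.2) _ =
      RefHull.stalkMapₗ (ClSub.idealModι I) y.1 _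
    rw [LinearMap.smul_apply, RefHull.stalkMapₗ_germ]
    have h3 := deltaAt_smul he (toSec U.1 1) y.1 y.2 1
    rw [one_smul, one_smul] at h3
    rw [h3, ← Mero.germ_smul, ← toSec_eq_smul_one, ← hef]
    rfl
  rw [← h2] at h1
  have h4 : x ∈ CohB1.genLocus _ (canSec I) ↔ x ∈ X.basicOpen f := by
    rw [← h1]
    exact ⟨fun h => ⟨h, hxU⟩, fun h => h.1⟩
  have h5 : x ∈ I.support ↔ x ∉ X.basicOpen f := by
    rw [Scheme.IdealSheafData.mem_support_iff_of_mem hxU, hIU, Scheme.zeroLocus_span,
      Scheme.zeroLocus_singleton]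
    rfl
  change x ∈ CohB1.genLocus _ (canSec I) ↔ x ∈ ((I.support : Set X)ᶜ)
  rw [h4, Set.mem_compl_iff, SetLike.mem_coe, h5, not_not]

end Groth.Agent.Lib.H78CartierSec
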