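import Groth.Agent.Lib.CurveDeg48d
import Groth.Agent.Lib.CartierDim48
import Groth.Agent.Lib.IdealMod
import Groth.Agent.Lib.H78CartierSec
import Groth.Agent.Lib.CurveVanishing54
import Groth.Agent.Lib.H90OXModPushFinite
import Groth.Agent.Lib.H90DevTwo2

/-!
# `deg(E ⊗ O(D)) = n · h⁰(O_D) + deg E` on a proper scheme of dimension `≤ 1` (helper48, K6/D3; = S1604)

* `isFinite_subscheme_of_isEffCartierIdeal`: an effective Cartier divisor on a proper scheme of dimension `≤ 1` over a
  field is finite over the field (Zariski's main theorem from Mathlib + `CartierDim48`).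
* `deg_tensor_effCartier` (= S1604).
-/

set_option autoImplicit false
universe u
open CategoryTheory CategoryTheory.Limits AlgebraicGeometry Opposite TopologicalSpace

namespace Groth.Agent.Lib.CurveDeg48

open Groth.Agent.Lib.OXModTensor Groth.Agent.Lib.H90DevHub2 Groth.Agent.Lib.TwistEquiv
  Groth.Agent.Lib.CartierDim48

variable (H : Groth.Agent.Lib.ProperFinHyp.Hyp.{u}) (k : Type u) [Field k] (X : Scheme.{u})
  [X.Over (Spec (CommRingCat.of k))] [IsProper (X ↘ (Spec (CommRingCat.of k)))]

/-- an effective Cartier divisor on a proper scheme of dimension `≤ 1` over a field is finite over the field -/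
theorem isFinite_subscheme_of_isEffCartierIdeal (hdim : topologicalKrullDim X ≤ 1)
    (D : X.IdealSheafData) (hD : BlowUp.IsEffCartierIdeal D) :
    IsFinite (D.subschemeι ≫ (X ↘ (Spec (CommRingCat.of k)))) := by
  let f : D.subscheme ⟶ Spec (CommRingCat.of k) := D.subschemeι ≫ (X ↘ (Spec (CommRingCat.of k)))
  letI : D.subscheme.Over (Spec (CommRingCat.of k)) := ⟨f⟩
  haveI : IsProper (D.subscheme ↘ (Spec (CommRingCat.of k))) :=
    inferInstanceAs (IsProper (D.subschemeι ≫ (X ↘ (Spec (CommRingCat.of k)))))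
  haveI := Groth.Agent.Lib.EulerLE48.isNoetherian k D.subscheme
  have hd0 : topologicalKrullDim D.subscheme ≤ 0 := by
    have h1 := dim_support_le_zero_of_isEffCartierIdeal hdim D hD
    have h2 : topologicalKrullDim D.subscheme = topologicalKrullDim ↥(Set.range D.subschemeι) :=
      (D.subschemeι.isClosedEmbedding.isEmbedding.toHomeomorph).isHomeomorph.topologicalKrullDim_eq
    rw [h2, D.range_subschemeι]
    exact h1
  haveI : Finite D.subscheme := finite_of_noetherianSpace_of_dim_le_zero hd0
  haveI : LocallyQuasiFinite f :=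
    LocallyQuasiFinite.of_finite_preimage_singleton f fun x => Set.toFinite _
  haveI : IsProper f := inferInstanceAs (IsProper (D.subschemeι ≫ (X ↘ (Spec (CommRingCat.of k)))))
  exact IsFinite.of_isProper_of_locallyQuasiFinite f

include H in
/-- **S1604**, degree part: `deg(E ⊗ L) = n · h⁰(O_D) + deg E` for `L` an inverse of the ideal sheaf of an effective
Cartier divisor `D`. -/
theorem deg_tensor_effCartier (hdim : topologicalKrullDim X ≤ 1)
    (D : X.IdealSheafData) (hD : BlowUp.IsEffCartierIdeal D)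
    (L : X.Modules) (hL : PicF.IsInvertible L) (hLD : ClSub.IsInverseOf L (ClSub.idealMod D))
    (n : ℕ) (E : X.Modules) (hE : FlatMod.IsFinLocFreeOfRank n E) :
    Curv2.deg k X (CohB1.tensorMod E L) n =
      n * Module.finrank k (Coh.HH X (ClSub.quotMod D) 0) + Curv2.deg k X E n := by
  haveI := Groth.Agent.Lib.EulerLE48.isNoetherian k X
  haveI : IsLocallyNoetherian X := Groth.Agent.Lib.EulerLE48.isLocallyNoetherian k X
  obtain ⟨eLD⟩ := hLD
  have hL1 : FlatMod.IsFinLocFreeOfRank 1 L :=
    (Groth.Agent.Lib.H90Invertible.isInvertible_iff_isFinLocFreeOfRank_one L).mp hL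
  have hLc : Coh.IsCoh L := Groth.Agent.Lib.H90Invertible.isCoh_of_isInvertible hL
  have hIc : Coh.IsCoh (ClSub.idealMod D) :=
    Groth.Agent.Lib.H90Invertible.isCoh_of_isInvertible
      (Groth.Agent.Lib.H78CartierSec.isInvertible_idealMod hD)
  have hOc := Groth.Agent.Lib.CohFinAmple.isCoh_structureModule X
  have hQc : Coh.IsCoh (ClSub.quotMod D) :=
    Groth.Agent.Lib.H90OXModPushFinite.isCoh_pushforward D.subschemeι _
      (Groth.Agent.Lib.CohFinAmple.isCoh_structureModule D.subscheme)
  -- the support of `O_D`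
  have hsQ : CohB1.support (ClSub.quotMod D) ⊆ (D.support : Set X) := by
    rw [← D.range_subschemeι]
    exact Groth.Agent.Lib.H90DevTwo2.support_push_subset D.subschemeι _
  have hd0 := dim_support_le_zero_of_isEffCartierIdeal hdim D hD
  have hdQ : topologicalKrullDim ↥(CohB1.support (ClSub.quotMod D)) ≤ 0 :=
    (Groth.Agent.Lib.DimDrop.topologicalKrullDim_mono hsQ).trans hd0
  -- `χ(O_D) = h⁰(O_D)`
  have hχQ : Curv2.euler k X (ClSub.quotMod D) =
      Module.finrank k (Coh.HH X (ClSub.quotMod D) 0) := by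
    apply Groth.Agent.Lib.EulerChar54.euler_eq_finrank_zero
    intro i hi
    obtain ⟨j, rfl⟩ : ∃ j, i = j + 1 := ⟨i - 1, by omega⟩
    exact Groth.Agent.Lib.CurveVanishing54.subsingleton_HH_of_support_subset (ClSub.quotMod D)
      (D.support : Set X) D.support.isClosed
      (fun x hx => isClosed_singleton_of_mem_of_dim_le_zero D.support.isClosed hd0 hx) hsQ j
  -- the twisted sequence `0 → L ⊗ I → L ⊗ O → L ⊗ O_D → 0`
  let S₀ : ShortComplex X.Modules := ShortComplex.mk (ClSub.idealModι D) (ClSub.toSubscheme D)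
    (kernel.condition (ClSub.toSubscheme D))
  have hS₀ : S₀.ShortExact := Groth.Agent.Lib.IdealMod.idealMod_shortExact D
  have hS₁ : (S₀.map (tensorLeftFunctor L)).ShortExact :=
    shortExact_map_tensorLeft_of_isFlat L (isFlat_of_isFinLocFreeOfRank hL1) hS₀
  have c₁ : Coh.IsCoh (CohB1.tensorMod L (ClSub.idealMod D)) :=
    Groth.Agent.Lib.CohFinAmple.isCoh_tensorMod hLc hIc
  have c₂ : Coh.IsCoh (CohB1.tensorMod L (Coh.structureModule X)) :=
    Groth.Agent.Lib.CohFinAmple.isCoh_tensorMod hLc hOc
  have c₃ : Coh.IsCoh (CohB1.tensorMod L (ClSub.quotMod D)) :=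
    Groth.Agent.Lib.CohFinAmple.isCoh_tensorMod hLc hQc
  have hadd : Curv2.euler k X (CohB1.tensorMod E (CohB1.tensorMod L (Coh.structureModule X))) =
      Curv2.euler k X (CohB1.tensorMod E (CohB1.tensorMod L (ClSub.idealMod D))) +
        Curv2.euler k X (CohB1.tensorMod E (CohB1.tensorMod L (ClSub.quotMod D))) :=
    euler_tensorLeft_add H k X hE (S₀.map (tensorLeftFunctor L)) hS₁ c₁ c₂ c₃
  -- the support of `L ⊗ O_D`
  have hsLQ : CohB1.support (CohB1.tensorMod L (ClSub.quotMod D)) ⊆
      CohB1.support (ClSub.quotMod D) := by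
    haveI := hLc.1
    haveI := hQc.1
    haveI := hLc.2
    haveI := hQc.2
    rw [Groth.Agent.Lib.SupportTensor.support_tensorMod L (ClSub.quotMod D)]
    exact Set.inter_subset_right
  have hdLQ : topologicalKrullDim ↥(CohB1.support (CohB1.tensorMod L (ClSub.quotMod D))) ≤ 0 :=
    (Groth.Agent.Lib.DimDrop.topologicalKrullDim_mono hsLQ).trans hdQ
  rw [euler_tensorMod_of_dim_support_le_zero' H k X _ c₃ hdLQ n E hE,
    euler_tensorMod_of_dim_support_le_zero' H k X _ hQc hdQ 1 L hL1, hχQ,
    Groth.Agent.Lib.DegTensor54.euler_congr k (tensorModIso (Iso.refl E) (rightUnitor L)),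
    Groth.Agent.Lib.DegTensor54.euler_congr k (tensorModIso (Iso.refl E) eLD),
    Groth.Agent.Lib.DegTensor54.euler_congr k (rightUnitor E)] at hadd
  unfold Curv2.deg
  rw [hadd]
  push_cast
  ring

end Groth.Agent.Lib.CurveDeg48
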