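import Mathlib
import Groth.Agent.Lib.CommonFactor3
set_option maxHeartbeats 800000
set_option autoImplicit false
set_option linter.style.haveILetI false
universe u v

namespace Groth.Agent.Lib.DegOrd
open Groth.Agent.Lib.PerHex3 Groth.Agent.Lib.PerHex4 Groth.Agent.Lib.CommonFactor
open Groth.Agent.Lib.FiniteLengthSupport

section general
variable {A : Type u} [CommRing A] {M : Type v} [AddCommGroup M] [Module A M]

/-- `x • W` as the image of `W` under multiplication by `x`. -/
abbrev sm (x : A) (W : Submodule A M) : Submodule A M := W.map (LinearMap.lsmul A M x)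

theorem mem_sm {x : A} {W : Submodule A M} {m : M} : m ∈ sm x W ↔ ∃ w ∈ W, x • w = m := by
  simp [sm, Submodule.mem_map]

theorem sm_le (x : A) (W : Submodule A M) : sm x W ≤ W := by
  rintro _ ⟨w, hw, rfl⟩
  exact W.smul_mem x hw

theorem sm_mono (x : A) {W' W : Submodule A M} (h : W' ≤ W) : sm x W' ≤ sm x W :=
  Submodule.map_mono h

theorem le_of_length_sq_eq_zero {X Y : Submodule A M} (h : Module.length A (sq X Y) = 0) :
    X ≤ Y := by
  rw [Module.length_eq_zero_iff, Submodule.Quotient.subsingleton_iff] at h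
  intro x hx
  have : (⟨x, hx⟩ : X) ∈ Y.submoduleOf X := by rw [h]; trivial
  exact this

theorem length_sq_sm_eq (x : A) (hx : Function.Injective (LinearMap.lsmul A M x))
    {W' W : Submodule A M} (h : W' ≤ W) (hfin : Module.length A (sq W W') < ⊤) :
    Module.length A (sq W (sm x W)) = Module.length A (sq W' (sm x W')) := by
  set f := LinearMap.lsmul A M x with hf
  have c1 := length_sq_chain (Z := sm x W') (Y := W') (X := W) (sm_le x W') h
  have c2 := length_sq_chain (Z := sm x W') (Y := sm x W) (X := W) (sm_mono x h) (sm_le x W)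
  have c3 := length_sq_map f (X := W) (X' := W') (Y := sm x W) (Y' := sm x W') h (sm_mono x h)
    (Submodule.map_le_iff_le_comap.mp le_rfl) (Submodule.map_le_iff_le_comap.mp le_rfl)
  rw [length_sq_eq_zero_of_le (le_sup_left : sm x W ≤ W.map f ⊔ sm x W'), add_zero,
    length_sq_eq_zero_of_le (X := W ⊓ (sm x W').comap f) (Y := W') (by
      rw [Submodule.comap_map_eq_of_injective hx]; exact inf_le_right), add_zero] at c3
  rw [c1, ← c3, add_comm] at c2
  exact (ENat.add_right_injective_of_ne_top hfin.ne c2).symm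

theorem length_sq_le_sm (x : A) (W : Submodule A M) :
    Module.length A (sq W (sm x ⊤)) ≤ Module.length A (sq W (sm x W)) := by
  have hle : sm x W ≤ W ⊓ sm x ⊤ := le_inf (sm_le x W) (sm_mono x le_top)
  have c := length_sq_chain (Z := sm x W) (Y := W ⊓ sm x ⊤) (X := W) hle inf_le_left
  rw [c, length_sq_inf]
  exact le_add_self

end general

section dimone
variable {A : Type u} [CommRing A] [IsDomain A] [IsNoetherianRing A] [Ring.KrullDimLE 1 A]
  {M : Type v} [AddCommGroup M] [Module A M]

theorem length_sq_lt_top_of_sm_le {W F : Submodule A M} (hW : W.FG) {d : A} (hd : d ≠ 0)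
    (h : sm d W ≤ F) : Module.length A (sq W F) < ⊤ := by
  haveI : Module.Finite A W := Module.Finite.iff_fg.mpr hW
  rw [lt_top_iff_ne_top, Module.length_ne_top_iff]
  apply isFiniteLength_of_support_isMaximal
  intro p hp
  have hann : d ∈ Module.annihilator A (sq W F) := by
    rw [Module.mem_annihilator]
    intro q
    obtain ⟨w, rfl⟩ := Submodule.mkQ_surjective _ q
    rw [← map_smul, Submodule.mkQ_apply, Submodule.Quotient.mk_eq_zero]
    exact h ⟨w, w.2, rfl⟩
  have hdp : d ∈ p.asIdeal := Module.annihilator_le_of_mem_support hp hann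
  exact Ideal.IsPrime.isMaximal_of_ne_bot p.isPrime
    (fun hb => hd (by rw [hb] at hdp; simpa using hdp))

omit [IsNoetherianRing A] [Ring.KrullDimLE 1 A] in
theorem exists_sm_le (F : Submodule A M) (hM : ∀ m : M, ∃ d : A, d ≠ 0 ∧ d • m ∈ F)
    {W : Submodule A M} (hW : W.FG) : ∃ d : A, d ≠ 0 ∧ sm d W ≤ F := by
  classical
  obtain ⟨S, rfl⟩ := hW
  choose d hd0 hd using hM
  refine ⟨∏ s ∈ S, d s, Finset.prod_ne_zero_iff.mpr (fun s _ => hd0 s), ?_⟩
  rw [sm, Submodule.map_span_le]
  intro s hs
  obtain ⟨c, hc⟩ := Finset.dvd_prod_of_mem d hs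
  change (∏ s ∈ S, d s) • s ∈ F
  rw [hc, mul_comm, mul_smul]
  exact F.smul_mem c (hd s)

omit [IsDomain A] [IsNoetherianRing A] [Ring.KrullDimLE 1 A] in
theorem length_sq_sm_free {n : ℕ} (e : Fin n → M) (he : LinearIndependent A e) (x : A) :
    Module.length A (sq (Submodule.span A (Set.range e)) (sm x (Submodule.span A (Set.range e)))) =
      n * Module.length A (A ⧸ Ideal.span {x}) := by
  classical
  set F := Submodule.span A (Set.range e) with hF
  let b : Module.Basis (Fin n) A F := Module.Basis.span he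
  let φ : ↥F ≃ₗ[A] (Fin n → A) := b.equivFun
  have hmap : Submodule.map (φ : ↥F →ₗ[A] (Fin n → A)) ((sm x F).submoduleOf F) =
      Submodule.pi Set.univ (fun _ : Fin n => (Ideal.span {x} : Submodule A A)) := by
    ext g
    rw [Submodule.mem_map, Submodule.mem_pi]
    constructor
    · rintro ⟨y, hy, rfl⟩ i _
      obtain ⟨w, hw, hwy⟩ := mem_sm.mp (hy : (y : M) ∈ sm x F)
      have : y = x • (⟨w, hw⟩ : F) := Subtype.ext hwy.symm
      rw [this, LinearEquiv.coe_coe, map_smul, Pi.smul_apply, smul_eq_mul]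
      exact Ideal.mul_mem_right _ _ (Ideal.mem_span_singleton_self x)
    · intro hg
      have hg' : ∀ i, ∃ c : A, c * x = g i := fun i =>
        Ideal.mem_span_singleton'.mp (hg i trivial)
      choose c hc using hg'
      refine ⟨x • φ.symm c, ?_, ?_⟩
      · change ((x • φ.symm c : F) : M) ∈ sm x F
        exact mem_sm.mpr ⟨(φ.symm c : F), (φ.symm c).2, rfl⟩
      · rw [LinearEquiv.coe_coe, map_smul, LinearEquiv.apply_symm_apply]
        ext i
        rw [Pi.smul_apply, smul_eq_mul, mul_comm, hc]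
  rw [(Submodule.Quotient.equiv _ _ φ hmap).length_eq,
    (Submodule.quotientPi (fun _ : Fin n => (Ideal.span {x} : Submodule A A))).length_eq,
    Module.length_pi_of_fintype]
  simp

theorem length_sq_sm_lattice {n : ℕ} (e : Fin n → M) (he : LinearIndependent A e)
    (hM : ∀ m : M, ∃ d : A, d ≠ 0 ∧ d • m ∈ Submodule.span A (Set.range e))
    (x : A) (hxM : Function.Injective (LinearMap.lsmul A M x))
    {W : Submodule A M} (hW : W.FG) (hFW : Submodule.span A (Set.range e) ≤ W) :
    Module.length A (sq W (sm x W)) = n * Module.length A (A ⧸ Ideal.span {x}) := by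
  obtain ⟨d, hd0, hd⟩ := exists_sm_le _ hM hW
  have hfin := length_sq_lt_top_of_sm_le hW hd0 hd
  rw [length_sq_sm_eq x hxM hFW hfin, length_sq_sm_free e he x]

end dimone

section maxlattice
variable {A : Type u} [CommRing A] [IsDomain A] [IsNoetherianRing A] [Ring.KrullDimLE 1 A]
  {M : Type v} [AddCommGroup M] [Module A M]

theorem exists_fg_sup_eq_top {n : ℕ} (e : Fin n → M) (he : LinearIndependent A e)
    (hM : ∀ m : M, ∃ d : A, d ≠ 0 ∧ d • m ∈ Submodule.span A (Set.range e))
    (x : A) (hx : x ≠ 0) (hxM : Function.Injective (LinearMap.lsmul A M x)) :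
    ∃ W : Submodule A M, W.FG ∧ Submodule.span A (Set.range e) ≤ W ∧ W ⊔ sm x ⊤ = ⊤ := by
  by_contra hcon
  push Not at hcon
  set F := Submodule.span A (Set.range e) with hF
  set Z : Submodule A M := sm x ⊤ with hZ
  have hc : Module.length A (A ⧸ Ideal.span {x}) ≠ ⊤ :=
    Module.length_ne_top_iff.mpr
      (isFiniteLength_quotient_span_singleton A (mem_nonZeroDivisors_of_ne_zero hx))
  have key : ∀ k : ℕ, ∃ W : Submodule A M, W.FG ∧ F ≤ W ∧
      (k : ℕ∞) ≤ Module.length A (sq W Z) := by
    intro k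
    induction k with
    | zero => exact ⟨F, Submodule.fg_span (Set.finite_range e), le_rfl, by simp⟩
    | succ k ih =>
      obtain ⟨W, hWfg, hFW, hk⟩ := ih
      have hne := hcon W hWfg hFW
      obtain ⟨b, hb⟩ : ∃ b : M, b ∉ W ⊔ Z := by
        by_contra h
        push Not at h
        exact hne (eq_top_iff.mpr fun m _ => h m)
      refine ⟨W ⊔ Submodule.span A {b}, hWfg.sup (Submodule.fg_span_singleton b),
        hFW.trans le_sup_left, ?_⟩
      have hmono : W ⊔ Z ≤ (W ⊔ Submodule.span A {b}) ⊔ Z := sup_le_sup_right le_sup_left Z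
      rw [← length_sq_sup, length_sq_chain (le_sup_right : Z ≤ W ⊔ Z) hmono, length_sq_sup]
      push_cast
      refine add_le_add hk (one_le_length_sq (x := b) ?_ hb)
      exact Submodule.mem_sup_left
        (Submodule.mem_sup_right (Submodule.mem_span_singleton_self b))
  obtain ⟨c, hcc⟩ := ENat.ne_top_iff_exists.mp hc
  obtain ⟨W, hWfg, hFW, hk⟩ := key (n * c + 1)
  have h1 := (length_sq_le_sm x W).trans_eq (length_sq_sm_lattice e he hM x hxM hWfg hFW)
  rw [← hcc] at h1
  have h2 := hk.trans h1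
  have : ((n * c + 1 : ℕ) : ℕ∞) ≤ ((n * c : ℕ) : ℕ∞) := by
    push_cast
    push_cast at h2
    exact h2
  have := Nat.cast_le.mp this
  omega

theorem length_quot_sm_le {n : ℕ} (e : Fin n → M) (he : LinearIndependent A e)
    (hM : ∀ m : M, ∃ d : A, d ≠ 0 ∧ d • m ∈ Submodule.span A (Set.range e))
    (x : A) (hx : x ≠ 0) (hxM : Function.Injective (LinearMap.lsmul A M x)) :
    Module.length A (M ⧸ sm x (⊤ : Submodule A M)) ≤
      n * Module.length A (A ⧸ Ideal.span {x}) := by
  obtain ⟨W, hWfg, hFW, htop⟩ := exists_fg_sup_eq_top e he hM x hx hxM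
  have hWZ : Module.length A (sq W (sm x ⊤)) = Module.length A (M ⧸ sm x (⊤ : Submodule A M)) := by
    rw [← length_sq_sup, htop, length_sq_top]
  rw [← hWZ]
  exact (length_sq_le_sm x W).trans_eq (length_sq_sm_lattice e he hM x hxM hWfg hFW)

theorem length_quot_sm_eq_of_finite [Module.Finite A M] {n : ℕ} (e : Fin n → M)
    (he : LinearIndependent A e)
    (hM : ∀ m : M, ∃ d : A, d ≠ 0 ∧ d • m ∈ Submodule.span A (Set.range e))
    (x : A) (hxM : Function.Injective (LinearMap.lsmul A M x)) :
    Module.length A (M ⧸ sm x (⊤ : Submodule A M)) =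
      n * Module.length A (A ⧸ Ideal.span {x}) := by
  rw [← length_sq_top]
  exact length_sq_sm_lattice e he hM x hxM (Module.finite_def.mp inferInstance) le_top

theorem finite_of_length_quot_sm_eq [IsLocalRing A] {n : ℕ} (e : Fin n → M)
    (he : LinearIndependent A e)
    (hM : ∀ m : M, ∃ d : A, d ≠ 0 ∧ d • m ∈ Submodule.span A (Set.range e))
    (x : A) (hx : x ≠ 0) (hxm : x ∈ IsLocalRing.maximalIdeal A)
    (hxM : Function.Injective (LinearMap.lsmul A M x))
    (heq : Module.length A (M ⧸ sm x (⊤ : Submodule A M)) =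
      n * Module.length A (A ⧸ Ideal.span {x})) : Module.Finite A M := by
  obtain ⟨W, hWfg, hFW, htop⟩ := exists_fg_sup_eq_top e he hM x hx hxM
  have hc : Module.length A (A ⧸ Ideal.span {x}) ≠ ⊤ :=
    Module.length_ne_top_iff.mpr
      (isFiniteLength_quotient_span_singleton A (mem_nonZeroDivisors_of_ne_zero hx))
  have hlat := length_sq_sm_lattice e he hM x hxM hWfg hFW
  have hWZ : Module.length A (sq W (sm x ⊤)) = Module.length A (M ⧸ sm x (⊤ : Submodule A M)) := by
    rw [← length_sq_sup, htop, length_sq_top]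
  rw [← hWZ, ← hlat] at heq
  have hle : sm x W ≤ W ⊓ sm x ⊤ := le_inf (sm_le x W) (sm_mono x le_top)
  have c := length_sq_chain (Z := sm x W) (Y := W ⊓ sm x ⊤) (X := W) hle inf_le_left
  rw [length_sq_inf, heq] at c
  have hfin : Module.length A (sq W (sm x W)) ≠ ⊤ := by
    rw [hlat]
    exact WithTop.mul_ne_top (ENat.natCast_ne_top n) hc
  have hzero : Module.length A (sq (W ⊓ sm x ⊤) (sm x W)) = 0 := by
    have : Module.length A (sq W (sm x W)) + 0 =
        Module.length A (sq W (sm x W)) + Module.length A (sq (W ⊓ sm x ⊤) (sm x W)) := by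
      rw [add_zero, add_comm]; exact c
    exact (ENat.add_right_injective_of_ne_top hfin this).symm
  have hsub : W ⊓ sm x ⊤ ≤ sm x W := le_of_length_sq_eq_zero hzero
  have hpow : ∀ k : ℕ, ∀ m : M, x ^ k • m ∈ W → m ∈ W := by
    intro k
    induction k with
    | zero => intro m hm; simpa using hm
    | succ k ih =>
      intro m hm
      apply ih
      have h1 : x ^ (k + 1) • m ∈ W ⊓ sm x ⊤ := by
        refine ⟨hm, mem_sm.mpr ⟨x ^ k • m, trivial, ?_⟩⟩
        rw [smul_smul, ← pow_succ']
      obtain ⟨w, hw, hwe⟩ := mem_sm.mp (hsub h1)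
      have : w = x ^ k • m := by
        apply hxM
        change x • w = x • (x ^ k • m)
        rw [hwe, smul_smul, ← pow_succ']
      rw [← this]
      exact hw
  have hWtop : W = ⊤ := by
    rw [eq_top_iff]
    intro m _
    obtain ⟨d, hd0, hd⟩ := hM m
    obtain ⟨N, hN⟩ := exists_pow_le_span (mem_nonZeroDivisors_of_ne_zero hd0)
    have hxN : x ^ N ∈ Ideal.span {d} := hN (Ideal.pow_mem_pow hxm N)
    obtain ⟨a, ha⟩ := Ideal.mem_span_singleton'.mp hxN
    apply hpow N
    rw [← ha, mul_smul]
    exact W.smul_mem a (hFW hd)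
  rw [Module.finite_def, ← hWtop]
  exact hWfg

end maxlattice

end Groth.Agent.Lib.DegOrd
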