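import Mathlib
import Groth.Prelude.Def_CycAlg
set_option maxHeartbeats 400000
set_option autoImplicit false
set_option linter.style.haveILetI false

namespace Groth.Agent.Lib.PerHex
open CategoryTheory

universe u v

/-- cyclic complex shape on Bool -/
def cyc : ComplexShape Bool where
  Rel i j := j = !i
  next_eq h h' := h.trans h'.symm
  prev_eq := by
    intro i i' j h h'
    revert h h'; cases i <;> cases i' <;> cases j <;> simp

variable {R : Type u} [CommRing R]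

section cx
variable {M N : Type v} [AddCommGroup M] [Module R M] [AddCommGroup N] [Module R N]

variable (R M N) in
def X : Bool → ModuleCat.{v} R
  | false => ModuleCat.of R M
  | true => ModuleCat.of R N

def d (φ : M →ₗ[R] N) (ψ : N →ₗ[R] M) : ∀ i j, X R M N i ⟶ X R M N j
  | false, true => ModuleCat.ofHom φ
  | true, false => ModuleCat.ofHom ψ
  | false, false => 0
  | true, true => 0

noncomputable def cx (φ : M →ₗ[R] N) (ψ : N →ₗ[R] M) (h : CycAlg.IsPeriodic φ ψ) :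
    HomologicalComplex (ModuleCat.{v} R) cyc where
  X := X R M N
  d := d φ ψ
  shape := by
    intro i j hij; cases i <;> cases j <;> simp [cyc, d] at hij ⊢
  d_comp_d' := by
    intro i j k hij hjk
    cases i <;> cases j <;> cases k <;> simp [cyc] at hij hjk
    · ext x
      exact LinearMap.congr_fun h.2 x
    · ext x
      exact LinearMap.congr_fun h.1 x

end cx

section hom
variable {M N M' N' : Type v} [AddCommGroup M] [Module R M] [AddCommGroup N] [Module R N]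
  [AddCommGroup M'] [Module R M'] [AddCommGroup N'] [Module R N']

def homX (f : M →ₗ[R] M') (g : N →ₗ[R] N') : ∀ i, X R M N i ⟶ X R M' N' i
  | false => ModuleCat.ofHom f
  | true => ModuleCat.ofHom g

noncomputable def hom {φ : M →ₗ[R] N} {ψ : N →ₗ[R] M} (h : CycAlg.IsPeriodic φ ψ)
    {φ' : M' →ₗ[R] N'} {ψ' : N' →ₗ[R] M'} (h' : CycAlg.IsPeriodic φ' ψ')
    (f : M →ₗ[R] M') (g : N →ₗ[R] N') (cφ : φ' ∘ₗ f = g ∘ₗ φ) (cψ : ψ' ∘ₗ g = f ∘ₗ ψ) :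
    cx φ ψ h ⟶ cx φ' ψ' h' where
  f := homX f g
  comm' := by
    intro i j hij
    cases i <;> cases j <;> simp [cyc] at hij
    · ext x
      exact LinearMap.congr_fun cφ x
    · ext x
      exact LinearMap.congr_fun cψ x

end hom

section homology
variable {M N : Type v} [AddCommGroup M] [Module R M] [AddCommGroup N] [Module R N]
  (φ : M →ₗ[R] N) (ψ : N →ₗ[R] M) (h : CycAlg.IsPeriodic φ ψ)

/-- generic: homology of a short complex of modules vs perH -/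
noncomputable def scEquiv (w : ModuleCat.ofHom ψ ≫ ModuleCat.ofHom φ = 0) :
    (ShortComplex.mk (ModuleCat.ofHom ψ) (ModuleCat.ofHom φ) w).homology ≃ₗ[R] CycAlg.perH φ ψ :=
  (ShortComplex.mk (ModuleCat.ofHom ψ) (ModuleCat.ofHom φ) w).moduleCatHomologyIso.toLinearEquiv ≪≫ₗ
    Submodule.quotEquivOfEq _ _ (by
      ext y
      simp only [LinearMap.mem_range, Submodule.submoduleOf, Submodule.mem_comap,
        Submodule.subtype_apply]
      constructor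
      · rintro ⟨n, rfl⟩
        exact ⟨n, rfl⟩
      · rintro ⟨n, hn⟩
        exact ⟨n, Subtype.ext hn⟩)

noncomputable def homologyFalseEquiv :
    ((cx φ ψ h).homology false) ≃ₗ[R] CycAlg.perH φ ψ :=
  ((cx φ ψ h).homologyIsoSc' true false true (cyc.prev_eq' (show cyc.Rel true false from rfl))
    (cyc.next_eq' (show cyc.Rel false true from rfl))).toLinearEquiv ≪≫ₗ
    scEquiv φ ψ _

noncomputable def homologyTrueEquiv :
    ((cx φ ψ h).homology true) ≃ₗ[R] CycAlg.perH ψ φ :=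
  ((cx φ ψ h).homologyIsoSc' false true false (cyc.prev_eq' (show cyc.Rel false true from rfl))
    (cyc.next_eq' (show cyc.Rel true false from rfl))).toLinearEquiv ≪≫ₗ
    scEquiv ψ φ _

theorem length_homology_false :
    Module.length R ((cx φ ψ h).homology false) = Module.length R (CycAlg.perH φ ψ) :=
  (homologyFalseEquiv φ ψ h).length_eq

theorem length_homology_true :
    Module.length R ((cx φ ψ h).homology true) = Module.length R (CycAlg.perH ψ φ) :=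
  (homologyTrueEquiv φ ψ h).length_eq

end homology

section count

theorem length_eq_range_add_range {X Y Z : Type v} [AddCommGroup X] [Module R X]
    [AddCommGroup Y] [Module R Y] [AddCommGroup Z] [Module R Z]
    (f : X →ₗ[R] Y) (g : Y →ₗ[R] Z) (e : Function.Exact f g) :
    Module.length R Y = Module.length R (LinearMap.range f) + Module.length R (LinearMap.range g) := by
  have h := Module.length_eq_add_of_exact (LinearMap.ker g).subtype g.rangeRestrict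
    (Submodule.subtype_injective _) g.surjective_rangeRestrict (by
      rw [LinearMap.exact_iff]
      ext y
      simp [LinearMap.mem_ker])
  rw [h, (LinearMap.exact_iff.mp e)]

theorem length_range_le {X Y : Type v} [AddCommGroup X] [Module R X]
    [AddCommGroup Y] [Module R Y] (f : X →ₗ[R] Y) :
    Module.length R (LinearMap.range f) ≤ Module.length R X :=
  Module.length_le_of_surjective f.rangeRestrict f.surjective_rangeRestrict

theorem length_range_le' {X Y : Type v} [AddCommGroup X] [Module R X]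
    [AddCommGroup Y] [Module R Y] (f : X →ₗ[R] Y) :
    Module.length R (LinearMap.range f) ≤ Module.length R Y :=
  Module.length_le_of_injective (LinearMap.range f).subtype (Submodule.subtype_injective _)

theorem hex_count {X₁ X₂ X₃ X₄ X₅ X₆ : Type v}
    [AddCommGroup X₁] [Module R X₁] [AddCommGroup X₂] [Module R X₂]
    [AddCommGroup X₃] [Module R X₃] [AddCommGroup X₄] [Module R X₄]
    [AddCommGroup X₅] [Module R X₅] [AddCommGroup X₆] [Module R X₆]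
    (d₁ : X₁ →ₗ[R] X₂) (d₂ : X₂ →ₗ[R] X₃) (d₃ : X₃ →ₗ[R] X₄) (d₄ : X₄ →ₗ[R] X₅)
    (d₅ : X₅ →ₗ[R] X₆) (d₆ : X₆ →ₗ[R] X₁)
    (e₁ : Function.Exact d₆ d₁) (e₂ : Function.Exact d₁ d₂) (e₃ : Function.Exact d₂ d₃)
    (e₄ : Function.Exact d₃ d₄) (e₅ : Function.Exact d₄ d₅) (e₆ : Function.Exact d₅ d₆) :
    Module.length R X₁ + Module.length R X₃ + Module.length R X₅ =
      Module.length R X₂ + Module.length R X₄ + Module.length R X₆ ∧
    Module.length R X₁ ≤ Module.length R X₆ + Module.length R X₂ ∧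
    Module.length R X₂ ≤ Module.length R X₁ + Module.length R X₃ ∧
    Module.length R X₃ ≤ Module.length R X₂ + Module.length R X₄ ∧
    Module.length R X₄ ≤ Module.length R X₃ + Module.length R X₅ ∧
    Module.length R X₅ ≤ Module.length R X₄ + Module.length R X₆ ∧
    Module.length R X₆ ≤ Module.length R X₅ + Module.length R X₁ := by
  have h₁ := length_eq_range_add_range d₆ d₁ e₁
  have h₂ := length_eq_range_add_range d₁ d₂ e₂
  have h₃ := length_eq_range_add_range d₂ d₃ e₃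
  have h₄ := length_eq_range_add_range d₃ d₄ e₄
  have h₅ := length_eq_range_add_range d₄ d₅ e₅
  have h₆ := length_eq_range_add_range d₅ d₆ e₆
  refine ⟨?_, ?_, ?_, ?_, ?_, ?_, ?_⟩
  · rw [h₁, h₂, h₃, h₄, h₅, h₆]; ring
  · rw [h₁]; exact add_le_add (length_range_le d₆) (length_range_le' d₁)
  · rw [h₂]; exact add_le_add (length_range_le d₁) (length_range_le' d₂)
  · rw [h₃]; exact add_le_add (length_range_le d₂) (length_range_le' d₃)
  · rw [h₄]; exact add_le_add (length_range_le d₃) (length_range_le' d₄)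
  · rw [h₅]; exact add_le_add (length_range_le d₄) (length_range_le' d₅)
  · rw [h₆]; exact add_le_add (length_range_le d₅) (length_range_le' d₆)

end count

section ses
variable {M₁ N₁ M₂ N₂ M₃ N₃ : Type v} [AddCommGroup M₁] [Module R M₁] [AddCommGroup N₁] [Module R N₁]
  [AddCommGroup M₂] [Module R M₂] [AddCommGroup N₂] [Module R N₂] [AddCommGroup M₃] [Module R M₃]
  [AddCommGroup N₃] [Module R N₃]
  {φ₁ : M₁ →ₗ[R] N₁} {ψ₁ : N₁ →ₗ[R] M₁} {φ₂ : M₂ →ₗ[R] N₂} {ψ₂ : N₂ →ₗ[R] M₂}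
  {φ₃ : M₃ →ₗ[R] N₃} {ψ₃ : N₃ →ₗ[R] M₃}
  (h₁ : CycAlg.IsPeriodic φ₁ ψ₁) (h₂ : CycAlg.IsPeriodic φ₂ ψ₂) (h₃ : CycAlg.IsPeriodic φ₃ ψ₃)
  (f₁ : M₁ →ₗ[R] M₂) (g₁ : N₁ →ₗ[R] N₂) (f₂ : M₂ →ₗ[R] M₃) (g₂ : N₂ →ₗ[R] N₃)
  (cφ₁ : φ₂ ∘ₗ f₁ = g₁ ∘ₗ φ₁) (cψ₁ : ψ₂ ∘ₗ g₁ = f₁ ∘ₗ ψ₁) (cφ₂ : φ₃ ∘ₗ f₂ = g₂ ∘ₗ φ₂)
  (cψ₂ : ψ₃ ∘ₗ g₂ = f₂ ∘ₗ ψ₂)

noncomputable def ses (hM : LinearMap.range f₁ = LinearMap.ker f₂)
    (hN : LinearMap.range g₁ = LinearMap.ker g₂) :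
    ShortComplex (HomologicalComplex (ModuleCat.{v} R) cyc) :=
  ShortComplex.mk (hom h₁ h₂ f₁ g₁ cφ₁ cψ₁) (hom h₂ h₃ f₂ g₂ cφ₂ cψ₂) (by
    ext i x
    cases i
    · have : f₁ x ∈ LinearMap.ker f₂ := hM ▸ LinearMap.mem_range_self f₁ x
      exact this
    · have : g₁ x ∈ LinearMap.ker g₂ := hN ▸ LinearMap.mem_range_self g₁ x
      exact this)

theorem ses_shortExact (hf₁ : Function.Injective f₁) (hg₁ : Function.Injective g₁)
    (hf₂ : Function.Surjective f₂) (hg₂ : Function.Surjective g₂)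
    (hM : LinearMap.range f₁ = LinearMap.ker f₂)
    (hN : LinearMap.range g₁ = LinearMap.ker g₂) :
    (ses h₁ h₂ h₃ f₁ g₁ f₂ g₂ cφ₁ cψ₁ cφ₂ cψ₂ hM hN).ShortExact := by
  apply HomologicalComplex.shortExact_of_degreewise_shortExact
  intro i
  cases i
  · refine ShortComplex.ShortExact.mk' ?_ ?_ ?_
    · rw [ShortComplex.moduleCat_exact_iff_range_eq_ker]
      exact hM
    · exact (ModuleCat.mono_iff_injective _).mpr hf₁
    · exact (ModuleCat.epi_iff_surjective _).mpr hf₂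
  · refine ShortComplex.ShortExact.mk' ?_ ?_ ?_
    · rw [ShortComplex.moduleCat_exact_iff_range_eq_ker]
      exact hN
    · exact (ModuleCat.mono_iff_injective _).mpr hg₁
    · exact (ModuleCat.epi_iff_surjective _).mpr hg₂

theorem exact_of_sc {S : ShortComplex (ModuleCat.{v} R)} (hS : S.Exact) :
    Function.Exact S.f.hom S.g.hom := by
  rw [LinearMap.exact_iff]
  exact ((ShortComplex.moduleCat_exact_iff_range_eq_ker S).mp hS).symm

include cφ₁ cψ₁ cφ₂ cψ₂ h₁ h₂ h₃ in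
theorem hexagon (hf₁ : Function.Injective f₁) (hg₁ : Function.Injective g₁)
    (hf₂ : Function.Surjective f₂) (hg₂ : Function.Surjective g₂)
    (hM : LinearMap.range f₁ = LinearMap.ker f₂)
    (hN : LinearMap.range g₁ = LinearMap.ker g₂) :
    Module.length R (CycAlg.perH φ₁ ψ₁) + Module.length R (CycAlg.perH φ₃ ψ₃) +
        Module.length R (CycAlg.perH ψ₂ φ₂) =
      Module.length R (CycAlg.perH φ₂ ψ₂) + Module.length R (CycAlg.perH ψ₁ φ₁) +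
        Module.length R (CycAlg.perH ψ₃ φ₃) ∧
    Module.length R (CycAlg.perH φ₁ ψ₁) ≤
      Module.length R (CycAlg.perH ψ₃ φ₃) + Module.length R (CycAlg.perH φ₂ ψ₂) ∧
    Module.length R (CycAlg.perH φ₂ ψ₂) ≤
      Module.length R (CycAlg.perH φ₁ ψ₁) + Module.length R (CycAlg.perH φ₃ ψ₃) ∧
    Module.length R (CycAlg.perH φ₃ ψ₃) ≤
      Module.length R (CycAlg.perH φ₂ ψ₂) + Module.length R (CycAlg.perH ψ₁ φ₁) ∧
    Module.length R (CycAlg.perH ψ₁ φ₁) ≤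
      Module.length R (CycAlg.perH φ₃ ψ₃) + Module.length R (CycAlg.perH ψ₂ φ₂) ∧
    Module.length R (CycAlg.perH ψ₂ φ₂) ≤
      Module.length R (CycAlg.perH ψ₁ φ₁) + Module.length R (CycAlg.perH ψ₃ φ₃) ∧
    Module.length R (CycAlg.perH ψ₃ φ₃) ≤
      Module.length R (CycAlg.perH ψ₂ φ₂) + Module.length R (CycAlg.perH φ₁ ψ₁) := by
  have hS := ses_shortExact h₁ h₂ h₃ f₁ g₁ f₂ g₂ cφ₁ cψ₁ cφ₂ cψ₂ hf₁ hg₁ hf₂ hg₂ hM hN
  have rft : cyc.Rel false true := rfl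
  have rtf : cyc.Rel true false := rfl
  have := hex_count (R := R) _ _ _ _ _ _
    (exact_of_sc (hS.homology_exact₁ true false rtf))
    (exact_of_sc (hS.homology_exact₂ false))
    (exact_of_sc (hS.homology_exact₃ false true rft))
    (exact_of_sc (hS.homology_exact₁ false true rft))
    (exact_of_sc (hS.homology_exact₂ true))
    (exact_of_sc (hS.homology_exact₃ true false rtf))
  rw [← length_homology_false φ₁ ψ₁ h₁, ← length_homology_false φ₂ ψ₂ h₂,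
    ← length_homology_false φ₃ ψ₃ h₃, ← length_homology_true φ₁ ψ₁ h₁,
    ← length_homology_true φ₂ ψ₂ h₂, ← length_homology_true φ₃ ψ₃ h₃]
  exact this

end ses

section additive


theorem herbrand_additive {M₁ N₁ M₂ N₂ M₃ N₃ : Type v} [AddCommGroup M₁] [Module R M₁] [AddCommGroup N₁] [Module R N₁] [AddCommGroup M₂] [Module R M₂] [AddCommGroup N₂] [Module R N₂] [AddCommGroup M₃] [Module R M₃] [AddCommGroup N₃] [Module R N₃] (φ₁ : M₁ →ₗ[R] N₁) (ψ₁ : N₁ →ₗ[R] M₁) (φ₂ : M₂ →ₗ[R] N₂) (ψ₂ : N₂ →ₗ[R] M₂) (φ₃ : M₃ →ₗ[R] N₃) (ψ₃ : N₃ →ₗ[R] M₃) (h₁ : CycAlg.IsPeriodic φ₁ ψ₁) (h₂ : CycAlg.IsPeriodic φ₂ ψ₂) (h₃ : CycAlg.IsPeriodic φ₃ ψ₃) (f₁ : M₁ →ₗ[R] M₂) (g₁ : N₁ →ₗ[R] N₂) (f₂ : M₂ →ₗ[R] M₃) (g₂ : N₂ →ₗ[R] N₃) (cφ₁ : φ₂ ∘ₗ f₁ = g₁ ∘ₗ φ₁) (cψ₁ : ψ₂ ∘ₗ g₁ = f₁ ∘ₗ ψ₁) (cφ₂ : φ₃ ∘ₗ f₂ = g₂ ∘ₗ φ₂) (cψ₂ : ψ₃ ∘ₗ g₂ = f₂ ∘ₗ ψ₂) (hf₁ : Function.Injective f₁) (hg₁ : Function.Injective g₁) (hf₂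 : Function.Surjective f₂) (hg₂ : Function.Surjective g₂) (hM : LinearMap.range f₁ = LinearMap.ker f₂) (hN : LinearMap.range g₁ = LinearMap.ker g₂) (htwo : (CycAlg.FinCoh R φ₁ ψ₁ ∧ CycAlg.FinCoh R φ₂ ψ₂) ∨ (CycAlg.FinCoh R φ₁ ψ₁ ∧ CycAlg.FinCoh R φ₃ ψ₃) ∨ (CycAlg.FinCoh R φ₂ ψ₂ ∧ CycAlg.FinCoh R φ₃ ψ₃)) : CycAlg.FinCoh R φ₁ ψ₁ ∧ CycAlg.FinCoh R φ₂ ψ₂ ∧ CycAlg.FinCoh R φ₃ ψ₃ ∧ CycAlg.herbrand R φ₂ ψ₂ = CycAlg.herbrand R φ₁ ψ₁ + CycAlg.herbrand R φ₃ ψ₃ := by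
  obtain ⟨H0, I1, I2, I3, I4, I5, I6⟩ :=
    hexagon h₁ h₂ h₃ f₁ g₁ f₂ g₂ cφ₁ cψ₁ cφ₂ cψ₂ hf₁ hg₁ hf₂ hg₂ hM hN
  unfold CycAlg.FinCoh CycAlg.herbrand at *
  generalize Module.length R (CycAlg.perH φ₁ ψ₁) = a₁ at *
  generalize Module.length R (CycAlg.perH φ₂ ψ₂) = a₂ at *
  generalize Module.length R (CycAlg.perH φ₃ ψ₃) = a₃ at *
  generalize Module.length R (CycAlg.perH ψ₁ φ₁) = b₁ at *
  generalize Module.length R (CycAlg.perH ψ₂ φ₂) = b₂ at *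
  generalize Module.length R (CycAlg.perH ψ₃ φ₃) = b₃ at *
  have fin : (a₁ < ⊤ ∧ b₁ < ⊤) ∧ (a₂ < ⊤ ∧ b₂ < ⊤) ∧ (a₃ < ⊤ ∧ b₃ < ⊤) := by
    rcases htwo with ⟨⟨x1, y1⟩, ⟨x2, y2⟩⟩ | ⟨⟨x1, y1⟩, ⟨x3, y3⟩⟩ | ⟨⟨x2, y2⟩, ⟨x3, y3⟩⟩
    · exact ⟨⟨x1, y1⟩, ⟨x2, y2⟩, ⟨I3.trans_lt (ENat.add_lt_top.mpr ⟨x2, y1⟩),
        I6.trans_lt (ENat.add_lt_top.mpr ⟨y2, x1⟩)⟩⟩
    · exact ⟨⟨x1, y1⟩, ⟨I2.trans_lt (ENat.add_lt_top.mpr ⟨x1, x3⟩),
        I5.trans_lt (ENat.add_lt_top.mpr ⟨y1, y3⟩)⟩, ⟨x3, y3⟩⟩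
    · exact ⟨⟨I1.trans_lt (ENat.add_lt_top.mpr ⟨y3, x2⟩),
        I4.trans_lt (ENat.add_lt_top.mpr ⟨x3, y2⟩)⟩, ⟨x2, y2⟩, ⟨x3, y3⟩⟩
  obtain ⟨⟨x1, y1⟩, ⟨x2, y2⟩, ⟨x3, y3⟩⟩ := fin
  refine ⟨⟨x1, y1⟩, ⟨x2, y2⟩, ⟨x3, y3⟩, ?_⟩
  lift a₁ to ℕ using x1.ne
  lift a₂ to ℕ using x2.ne
  lift a₃ to ℕ using x3.ne
  lift b₁ to ℕ using y1.ne
  lift b₂ to ℕ using y2.ne
  lift b₃ to ℕ using y3.ne
  simp only [ENat.toNat_natCast]
  have : a₁ + a₃ + b₂ = a₂ + b₁ + b₃ := by exact_mod_cast H0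
  omega

end additive

end Groth.Agent.Lib.PerHex
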