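import Mathlib
import Groth.Agent.Lib.PerHex
import Groth.Agent.Lib.FiniteLengthSupport
set_option maxHeartbeats 400000
set_option autoImplicit false
set_option linter.style.haveILetI false

namespace Groth.Agent.Lib.LenQuotFormula
open IsLocalRing Groth.Agent.Lib.PerHex Groth.Agent.Lib.FiniteLengthSupport Pointwise

universe u
variable {R : Type u} [CommRing R]

section sixterm
variable {N : Type u} [AddCommGroup N] [Module R N] (x : R)

theorem length_perH_smul_zero :
    Module.length R (CycAlg.perH (LinearMap.lsmul R N x) (0 : N →ₗ[R] N)) =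
      Module.length R (LinearMap.ker (LinearMap.lsmul R N x)) := by
  refine (Submodule.quotEquivOfEqBot _ ?_).length_eq
  rw [LinearMap.range_zero]
  ext y
  simp [Submodule.submoduleOf]

theorem length_perH_zero_smul :
    Module.length R (CycAlg.perH (0 : N →ₗ[R] N) (LinearMap.lsmul R N x)) =
      Module.length R (N ⧸ x • (⊤ : Submodule R N)) := by
  let π : N →ₗ[R] CycAlg.perH (0 : N →ₗ[R] N) (LinearMap.lsmul R N x) :=
    (Submodule.mkQ _).comp (LinearMap.codRestrict (LinearMap.ker (0 : N →ₗ[R] N)) LinearMap.id
      (fun n => by simp))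
  have hπ : Function.Surjective π := by
    intro y
    obtain ⟨⟨n, hn⟩, rfl⟩ := Submodule.mkQ_surjective _ y
    exact ⟨n, rfl⟩
  have hk : LinearMap.ker π = x • (⊤ : Submodule R N) := by
    ext n
    rw [Submodule.mem_smul_pointwise_iff_exists, LinearMap.mem_ker]
    change Submodule.Quotient.mk _ = 0 ↔ _
    rw [Submodule.Quotient.mk_eq_zero]
    change n ∈ LinearMap.range (LinearMap.lsmul R N x) ↔ _
    simp
  exact ((Submodule.quotEquivOfEq _ _ hk).symm ≪≫ₗ
    LinearMap.quotKerEquivOfSurjective π hπ).length_eq.symm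

variable {N₁ N₂ N₃ : Type u} [AddCommGroup N₁] [Module R N₁] [AddCommGroup N₂] [Module R N₂]
  [AddCommGroup N₃] [Module R N₃]

theorem six_term (f : N₁ →ₗ[R] N₂) (g : N₂ →ₗ[R] N₃) (hf : Function.Injective f)
    (hg : Function.Surjective g) (hfg : Function.Exact f g) :
    Module.length R (LinearMap.ker (LinearMap.lsmul R N₁ x)) +
        Module.length R (LinearMap.ker (LinearMap.lsmul R N₃ x)) +
        Module.length R (N₂ ⧸ x • (⊤ : Submodule R N₂)) =
      Module.length R (LinearMap.ker (LinearMap.lsmul R N₂ x)) +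
        Module.length R (N₁ ⧸ x • (⊤ : Submodule R N₁)) +
        Module.length R (N₃ ⧸ x • (⊤ : Submodule R N₃)) := by
  have hp : ∀ (N : Type u) [AddCommGroup N] [Module R N],
      CycAlg.IsPeriodic (LinearMap.lsmul R N x) (0 : N →ₗ[R] N) := fun N _ _ =>
    ⟨LinearMap.comp_zero _, LinearMap.zero_comp _⟩
  have hr : LinearMap.range f = LinearMap.ker g := (LinearMap.exact_iff.mp hfg).symm
  have H := (hexagon (hp N₁) (hp N₂) (hp N₃) f f g g (by ext n; simp) (by ext n; simp)
    (by ext n; simp) (by ext n; simp) hf hf hg hg hr hr).1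
  rw [length_perH_smul_zero, length_perH_smul_zero, length_perH_smul_zero,
    length_perH_zero_smul, length_perH_zero_smul, length_perH_zero_smul] at H
  exact H

end sixterm

section good
variable [IsLocalRing R] (x : R)

/-- support conditions equivalent (for finite modules) to `supportDim N ≤ 1` and
`supportDim (N/xN) ≤ 0`. -/
def Good (N : Type u) [AddCommGroup N] [Module R N] : Prop :=
  (∀ q ∈ Module.support R N, ∀ q' ∈ Module.support R N, q' < q →
    q.asIdeal = maximalIdeal R) ∧
  (∀ q ∈ Module.support R N, x ∈ q.asIdeal → q.asIdeal = maximalIdeal R)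

variable {x}
variable {N N' : Type u} [AddCommGroup N] [Module R N] [AddCommGroup N'] [Module R N']

theorem Good.of_support_subset (hN : Good x N)
    (h : Module.support R N' ⊆ Module.support R N) : Good x N' :=
  ⟨fun q hq q' hq' hlt => hN.1 q (h hq) q' (h hq') hlt, fun q hq hx => hN.2 q (h hq) hx⟩

theorem lt_closedPoint {q : PrimeSpectrum R} (hq : q.asIdeal ≠ maximalIdeal R) :
    q < closedPoint R :=
  lt_of_le_of_ne (le_maximalIdeal q.isPrime.ne_top) (fun h => hq (congrArg (·.asIdeal) h))

theorem good_of_supportDim [Module.Finite R N] (h1 : Module.supportDim R N ≤ 1)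
    (h0 : Module.supportDim R (N ⧸ x • (⊤ : Submodule R N)) ≤ 0) : Good x N := by
  constructor
  · intro q hq q' hq' hlt
    by_contra hne
    have hqm := lt_closedPoint hne
    let a : Module.support R N := ⟨q', hq'⟩
    let b : Module.support R N := ⟨q, hq⟩
    let c : Module.support R N := ⟨closedPoint R, Module.mem_support_mono hqm.le hq⟩
    have hab : a < b := hlt
    have hbc : b < c := hqm
    let s : LTSeries (Module.support R N) :=
      ((RelSeries.singleton _ a).snoc b (by simpa using hab)).snoc c (by simpa using hbc)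
    have hs : s.length = 2 := by simp [s]
    have := Order.LTSeries.length_le_krullDim s
    rw [hs] at this
    have : ((2 : ℕ) : WithBot ℕ∞) ≤ 1 := this.trans h1
    norm_num at this
  · intro q hq hx
    by_contra hne
    have hqm := lt_closedPoint hne
    have hq' : q ∈ Module.support R (QuotSMulTop x N) := by
      rw [Module.support_quotSMulTop]
      exact ⟨hq, by simpa [PrimeSpectrum.mem_zeroLocus] using hx⟩
    let a : Module.support R (QuotSMulTop x N) := ⟨q, hq'⟩
    let b : Module.support R (QuotSMulTop x N) :=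
      ⟨closedPoint R, Module.mem_support_mono hqm.le hq'⟩
    have hab : a < b := hqm
    let s : LTSeries (Module.support R (QuotSMulTop x N)) :=
      (RelSeries.singleton _ a).snoc b (by simpa using hab)
    have hs : s.length = 1 := by simp [s]
    have := Order.LTSeries.length_le_krullDim s
    rw [hs] at this
    have : ((1 : ℕ) : WithBot ℕ∞) ≤ 0 := this.trans h0
    norm_num at this

theorem mem_of_mem_support_of_smul_eq_zero (hx : ∀ n : N, x • n = 0) {q : PrimeSpectrum R}
    (hq : q ∈ Module.support R N) : x ∈ q.asIdeal :=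
  Module.annihilator_le_of_mem_support hq (Module.mem_annihilator.mpr hx)

theorem length_lt_top_of_support [IsNoetherianRing R] [Module.Finite R N]
    (h : ∀ q ∈ Module.support R N, q.asIdeal = maximalIdeal R) : Module.length R N < ⊤ := by
  rw [lt_top_iff_ne_top, Module.length_ne_top_iff, isFiniteLength_iff_support_subset_closedPoint]
  intro p hp
  exact PrimeSpectrum.ext (h p hp)

theorem Good.length_quot_lt_top [IsNoetherianRing R] [Module.Finite R N] (hN : Good x N) :
    Module.length R (N ⧸ x • (⊤ : Submodule R N)) < ⊤ := by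
  apply length_lt_top_of_support
  intro q hq
  refine hN.2 q (Module.support_subset_of_surjective _ (Submodule.mkQ_surjective _) hq) ?_
  refine mem_of_mem_support_of_smul_eq_zero (N := N ⧸ x • (⊤ : Submodule R N)) ?_ hq
  intro n
  obtain ⟨n, rfl⟩ := Submodule.mkQ_surjective _ n
  rw [Submodule.mkQ_apply, ← Submodule.Quotient.mk_smul, Submodule.Quotient.mk_eq_zero]
  exact Submodule.smul_mem_pointwise_smul n x ⊤ Submodule.mem_top

theorem Good.length_ker_lt_top [IsNoetherianRing R] [Module.Finite R N] (hN : Good x N) :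
    Module.length R (LinearMap.ker (LinearMap.lsmul R N x)) < ⊤ := by
  apply length_lt_top_of_support
  intro q hq
  refine hN.2 q (Module.support_subset_of_injective _ (Submodule.subtype_injective _) hq) ?_
  refine mem_of_mem_support_of_smul_eq_zero ?_ hq
  rintro ⟨n, hn⟩
  exact Subtype.ext hn

end good

section sums
variable [IsLocalRing R] (x : R)

/-- the coefficient `ord_{R/q}(x)`. -/
noncomputable def c (q : PrimeSpectrum R) : ℕ∞ :=
  Ring.ord (R ⧸ q.asIdeal) (Ideal.Quotient.mk q.asIdeal x)

/-- length of the localization at `q`. -/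
noncomputable def ellq (N : Type u) [AddCommGroup N] [Module R N] (q : PrimeSpectrum R) : ℕ∞ :=
  Module.length (Localization.AtPrime q.asIdeal) (LocalizedModule q.asIdeal.primeCompl N)

variable (R) in
/-- the non-closed points. -/
def T : Set (PrimeSpectrum R) := {q | q.asIdeal ≠ maximalIdeal R}

/-- the sum in the formula. -/
noncomputable def S (N : Type u) [AddCommGroup N] [Module R N] : ℕ∞ :=
  ∑ᶠ q ∈ T R, c x q * ellq N q

variable {N N₁ N₂ N₃ : Type u} [AddCommGroup N] [Module R N]
  [AddCommGroup N₁] [Module R N₁] [AddCommGroup N₂] [Module R N₂]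
  [AddCommGroup N₃] [Module R N₃]

theorem ellq_eq_zero_iff (q : PrimeSpectrum R) : ellq N q = 0 ↔ q ∉ Module.support R N := by
  rw [ellq, Module.length_eq_zero_iff, Module.notMem_support_iff]

theorem ellq_add_of_exact (f : N₁ →ₗ[R] N₂) (g : N₂ →ₗ[R] N₃) (hf : Function.Injective f)
    (hg : Function.Surjective g) (hfg : Function.Exact f g) (q : PrimeSpectrum R) :
    ellq N₂ q = ellq N₁ q + ellq N₃ q :=
  Module.length_eq_add_of_exact (LocalizedModule.map q.asIdeal.primeCompl f)
    (LocalizedModule.map q.asIdeal.primeCompl g) (LocalizedModule.map_injective _ f hf)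
    (LocalizedModule.map_surjective _ g hg) (LocalizedModule.map_exact q.asIdeal.primeCompl f g hfg)

theorem support_term_subset :
    T R ∩ Function.support (fun q => c x q * ellq N q) ⊆
      {q | q ∈ Module.support R N ∧ q.asIdeal ≠ maximalIdeal R} := by
  rintro q ⟨hqT, hq⟩
  refine ⟨?_, hqT⟩
  by_contra hns
  apply hq
  show c x q * ellq N q = 0
  rw [(ellq_eq_zero_iff q).mpr hns, mul_zero]

variable {x}

theorem Good.finite [IsNoetherianRing R] [Module.Finite R N] (hN : Good x N) :
    {q | q ∈ Module.support R N ∧ q.asIdeal ≠ maximalIdeal R}.Finite := by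
  have hsub : {q | q ∈ Module.support R N ∧ q.asIdeal ≠ maximalIdeal R} ⊆
      PrimeSpectrum.asIdeal ⁻¹' (Module.annihilator R N).minimalPrimes := by
    rintro q ⟨hq, hne⟩
    have hann : Module.annihilator R N ≤ q.asIdeal := Module.annihilator_le_of_mem_support hq
    obtain ⟨q₀, hq₀min, hq₀le⟩ := Ideal.exists_minimalPrimes_le hann
    have hq₀ : (⟨q₀, hq₀min.1.1⟩ : PrimeSpectrum R) ∈ Module.support R N :=
      Module.mem_support_iff_of_finite.mpr hq₀min.1.2
    by_cases heq : q₀ = q.asIdeal
    · show q.asIdeal ∈ (Module.annihilator R N).minimalPrimes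
      rw [← heq]; exact hq₀min
    · exfalso
      apply hne
      exact hN.1 q hq ⟨q₀, hq₀min.1.1⟩ hq₀
        (lt_of_le_of_ne hq₀le (fun h => heq (congrArg (·.asIdeal) h)))
  refine Set.Finite.subset (Set.Finite.preimage ?_
    (Ideal.finite_minimalPrimes_of_isNoetherianRing R _)) hsub
  intro a _ b _ hab
  exact PrimeSpectrum.ext hab

theorem Good.S_add [IsNoetherianRing R] [Module.Finite R N₁] [Module.Finite R N₂]
    [Module.Finite R N₃] (hN : Good x N₂) (f : N₁ →ₗ[R] N₂) (g : N₂ →ₗ[R] N₃)
    (hf : Function.Injective f) (hg : Function.Surjective g) (hfg : Function.Exact f g) :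
    S x N₂ = S x N₁ + S x N₃ := by
  have h1 : Good x N₁ := hN.of_support_subset (Module.support_subset_of_injective f hf)
  have h3 : Good x N₃ := hN.of_support_subset (Module.support_subset_of_surjective g hg)
  unfold S
  rw [← finsum_mem_add_distrib' (h1.finite.subset (support_term_subset x))
    (h3.finite.subset (support_term_subset x))]
  refine finsum_mem_congr rfl ?_
  intro q _
  rw [ellq_add_of_exact f g hf hg hfg q, mul_add]

theorem S_eq_zero_of_support (h : ∀ q ∈ Module.support R N, q.asIdeal = maximalIdeal R) :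
    S x N = 0 := by
  unfold S
  apply finsum_mem_eq_zero_of_forall_eq_zero
  intro q hq
  rw [(ellq_eq_zero_iff q).mpr (fun hs => hq (h q hs)), mul_zero]

end sums

section base
variable [IsLocalRing R] {x : R}
variable {N : Type u} [AddCommGroup N] [Module R N]

theorem formula_of_smul_eq_zero (hx : ∀ n : N, x • n = 0) (hN : Good x N) :
    Module.length R (N ⧸ x • (⊤ : Submodule R N)) =
      Module.length R (LinearMap.ker (LinearMap.lsmul R N x)) + S x N := by
  rw [S_eq_zero_of_support (fun q hq => hN.2 q hq (mem_of_mem_support_of_smul_eq_zero hx hq)),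
    add_zero]
  have h1 : x • (⊤ : Submodule R N) = ⊥ := by
    rw [eq_bot_iff]
    intro n hn
    obtain ⟨m, -, rfl⟩ := (Submodule.mem_smul_pointwise_iff_exists _ _ _).mp hn
    exact hx m
  have h2 : LinearMap.ker (LinearMap.lsmul R N x) = ⊤ := by
    rw [eq_top_iff]
    intro n _
    exact hx n
  rw [(Submodule.quotEquivOfEqBot _ h1).length_eq, (LinearEquiv.ofTop _ h2).length_eq]

theorem ellq_quotient_prime (p : PrimeSpectrum R) : ellq (R ⧸ p.asIdeal) p = 1 := by
  unfold ellq
  rw [Module.length_eq_one_iff]
  let n := p.asIdeal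
  let x₀ : R ⧸ n := 1
  have hgen : ∀ y : R ⧸ n, ∃ b : R, y = b • x₀ := by
    intro y
    obtain ⟨b, rfl⟩ := Ideal.Quotient.mk_surjective y
    exact ⟨b, by rw [Algebra.smul_def, mul_one]; rfl⟩
  have hker : ∀ b : R, b • x₀ = 0 ↔ b ∈ n := by
    intro b
    rw [Algebra.smul_def, mul_one]
    exact Ideal.Quotient.eq_zero_iff_mem
  let y₀ : LocalizedModule n.primeCompl (R ⧸ n) := LocalizedModule.mk x₀ 1
  let π : Localization.AtPrime n →ₗ[Localization.AtPrime n] LocalizedModule n.primeCompl (R ⧸ n) :=
    LinearMap.toSpanSingleton _ _ y₀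
  have hπsurj : Function.Surjective π := by
    intro y
    induction y using LocalizedModule.induction_on with
    | h z s =>
      obtain ⟨b, rfl⟩ := hgen z
      refine ⟨Localization.mk b s, ?_⟩
      exact (LocalizedModule.mk_smul_mk b x₀ s 1).trans (by rw [mul_one])
  have hy₀ : y₀ ≠ 0 := by
    intro h
    rw [← LocalizedModule.zero_mk 1, LocalizedModule.mk_eq] at h
    obtain ⟨u, hu⟩ := h
    simp only [one_smul, smul_zero] at hu
    exact u.2 ((hker _).mp hu)
  have hkerπ : LinearMap.ker π = maximalIdeal (Localization.AtPrime n) := by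
    have hle : maximalIdeal (Localization.AtPrime n) ≤ LinearMap.ker π := by
      intro r hr
      induction r using Localization.induction_on with
      | H y =>
        obtain ⟨b, s⟩ := y
        rw [LinearMap.mem_ker]
        have hb : b ∈ n := by
          rw [Localization.mk_eq_mk'] at hr
          exact (IsLocalization.AtPrime.mk'_mem_maximal_iff (Localization.AtPrime n) n b s).mp hr
        refine (LocalizedModule.mk_smul_mk b x₀ s 1).trans ?_
        rw [(hker b).mpr hb, LocalizedModule.zero_mk]
    have hne : LinearMap.ker π ≠ ⊤ := by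
      intro h
      apply hy₀
      have : (1 : Localization.AtPrime n) ∈ LinearMap.ker π := h ▸ Submodule.mem_top
      rw [LinearMap.mem_ker] at this
      simpa [π] using this
    exact ((maximalIdeal.isMaximal _).eq_of_le hne hle).symm
  rw [isSimpleModule_iff_quot_maximal]
  refine ⟨LinearMap.ker π, hkerπ ▸ maximalIdeal.isMaximal _, ⟨?_⟩⟩
  exact (LinearMap.quotKerEquivOfSurjective π hπsurj).symm

theorem length_quot_eq_c (p : PrimeSpectrum R) :
    Module.length R ((R ⧸ p.asIdeal) ⧸ x • (⊤ : Submodule R (R ⧸ p.asIdeal))) = c x p := by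
  unfold c Ring.ord
  rw [← Module.length_eq_of_surjective (S := R) (R := R ⧸ p.asIdeal)
    (M := (R ⧸ p.asIdeal) ⧸ Ideal.span {Ideal.Quotient.mk p.asIdeal x})
    Ideal.Quotient.mk_surjective]
  have h : (Ideal.span {Ideal.Quotient.mk p.asIdeal x}).restrictScalars R =
      x • (⊤ : Submodule R (R ⧸ p.asIdeal)) := by
    ext y
    rw [Submodule.restrictScalars_mem, Ideal.mem_span_singleton',
      Submodule.mem_smul_pointwise_iff_exists]
    constructor
    · rintro ⟨a, rfl⟩
      refine ⟨a, Submodule.mem_top, ?_⟩
      rw [Algebra.smul_def, mul_comm]; rfl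
    · rintro ⟨a, -, rfl⟩
      refine ⟨a, ?_⟩
      rw [Algebra.smul_def, mul_comm]; rfl
  exact ((Submodule.quotEquivOfEq _ _ h).symm ≪≫ₗ
    Submodule.Quotient.restrictScalarsEquiv R _).length_eq

theorem formula_quotient_prime (p : PrimeSpectrum R) (hG : Good x (R ⧸ p.asIdeal)) :
    Module.length R ((R ⧸ p.asIdeal) ⧸ x • (⊤ : Submodule R (R ⧸ p.asIdeal))) =
      Module.length R (LinearMap.ker (LinearMap.lsmul R (R ⧸ p.asIdeal) x)) +
        S x (R ⧸ p.asIdeal) := by
  by_cases hxp : x ∈ p.asIdeal
  · apply formula_of_smul_eq_zero _ hG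
    intro n
    obtain ⟨b, rfl⟩ := Ideal.Quotient.mk_surjective n
    rw [Algebra.smul_def]
    have : algebraMap R (R ⧸ p.asIdeal) x = 0 := Ideal.Quotient.eq_zero_iff_mem.mpr hxp
    rw [this, zero_mul]
  · have hx0 : Ideal.Quotient.mk p.asIdeal x ≠ 0 := fun h =>
      hxp (Ideal.Quotient.eq_zero_iff_mem.mp h)
    have hker : LinearMap.ker (LinearMap.lsmul R (R ⧸ p.asIdeal) x) = ⊥ := by
      rw [eq_bot_iff]
      intro n hn
      rw [LinearMap.mem_ker, LinearMap.lsmul_apply, Algebra.smul_def] at hn
      rcases mul_eq_zero.mp hn with h | h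
      · exact absurd h hx0
      · exact h
    have hzero : Module.length R (LinearMap.ker (LinearMap.lsmul R (R ⧸ p.asIdeal) x)) = 0 := by
      rw [hker]; exact Module.length_bot
    rw [hzero, zero_add, length_quot_eq_c]
    -- the sum has at most one term
    have hsupp : ∀ q : PrimeSpectrum R, q ∈ T R → q ≠ p → ellq (R ⧸ p.asIdeal) q = 0 := by
      intro q hqT hqp
      rw [ellq_eq_zero_iff]
      intro hq
      have hpq : p.asIdeal ≤ q.asIdeal := (mem_support_quotient_iff _ _).mp hq
      have hp : p ∈ Module.support R (R ⧸ p.asIdeal) :=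
        (mem_support_quotient_iff _ _).mpr le_rfl
      exact hqT (hG.1 q hq p hp (lt_of_le_of_ne hpq (Ne.symm hqp)))
    by_cases hpT : p ∈ T R
    · unfold S
      rw [finsum_mem_inter_support_eq' _ (T R) {p}, finsum_mem_singleton, ellq_quotient_prime,
        mul_one]
      intro q hq
      simp only [Set.mem_singleton_iff]
      constructor
      · intro hqT
        by_contra hqp
        apply hq
        show c x q * ellq (R ⧸ p.asIdeal) q = 0
        rw [hsupp q hqT hqp, mul_zero]
      · rintro rfl
        exact hpT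
    · -- p is the maximal ideal, x is a unit mod p
      have hpm : p.asIdeal = maximalIdeal R := not_not.mp hpT
      have hS : S x (R ⧸ p.asIdeal) = 0 := by
        unfold S
        apply finsum_mem_eq_zero_of_forall_eq_zero
        intro q hq
        rw [hsupp q hq (fun h => hpT (h ▸ hq)), mul_zero]
      rw [hS]
      unfold c
      apply Ring.ord_of_isUnit
      have hxu : IsUnit x := by
        by_contra hnu
        exact hxp (hpm ▸ (IsLocalRing.mem_maximalIdeal x).mpr hnu)
      exact hxu.map _

end base

section main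
variable [IsLocalRing R] [IsNoetherianRing R] {x : R}
variable {N₁ N₂ N₃ : Type u} [AddCommGroup N₁] [Module R N₁] [AddCommGroup N₂] [Module R N₂]
  [AddCommGroup N₃] [Module R N₃]

theorem step [Module.Finite R N₁] [Module.Finite R N₂] [Module.Finite R N₃]
    (f : N₁ →ₗ[R] N₂) (g : N₂ →ₗ[R] N₃)
    (hf : Function.Injective f) (hg : Function.Surjective g) (hfg : Function.Exact f g)
    (P1 : Good x N₁ → Module.length R (N₁ ⧸ x • (⊤ : Submodule R N₁)) =
      Module.length R (LinearMap.ker (LinearMap.lsmul R N₁ x)) + S x N₁)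
    (P3 : Good x N₃ → Module.length R (N₃ ⧸ x • (⊤ : Submodule R N₃)) =
      Module.length R (LinearMap.ker (LinearMap.lsmul R N₃ x)) + S x N₃)
    (hN : Good x N₂) : Module.length R (N₂ ⧸ x • (⊤ : Submodule R N₂)) =
      Module.length R (LinearMap.ker (LinearMap.lsmul R N₂ x)) + S x N₂ := by
  have h1 : Good x N₁ := hN.of_support_subset (Module.support_subset_of_injective f hf)
  have h3 : Good x N₃ := hN.of_support_subset (Module.support_subset_of_surjective g hg)
  have six := six_term x f g hf hg hfg
  rw [P1 h1, P3 h3, hN.S_add f g hf hg hfg] at *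
  have fa1 := h1.length_ker_lt_top
  have fa3 := h3.length_ker_lt_top
  generalize Module.length R (LinearMap.ker (LinearMap.lsmul R N₁ x)) = a₁ at *
  generalize Module.length R (LinearMap.ker (LinearMap.lsmul R N₂ x)) = a₂ at *
  generalize Module.length R (LinearMap.ker (LinearMap.lsmul R N₃ x)) = a₃ at *
  generalize Module.length R (N₂ ⧸ x • (⊤ : Submodule R N₂)) = b₂ at *
  generalize S x N₁ = s₁ at *
  generalize S x N₃ = s₃ at *
  apply ENat.add_right_injective_of_ne_top (ENat.add_lt_top.mpr ⟨fa1, fa3⟩).ne
  show a₁ + a₃ + b₂ = a₁ + a₃ + (a₂ + (s₁ + s₃))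
  rw [six]
  ring

theorem main (N : Type u) [AddCommGroup N] [Module R N] [Module.Finite R N] :
    Good x N → Module.length R (N ⧸ x • (⊤ : Submodule R N)) =
      Module.length R (LinearMap.ker (LinearMap.lsmul R N x)) + S x N := by
  induction ‹Module.Finite R N› using IsNoetherianRing.induction_on_isQuotientEquivQuotientPrime with
  | subsingleton N =>
    intro hG
    apply formula_of_smul_eq_zero _ hG
    intro n
    exact Subsingleton.elim _ _
  | quotient N p e =>
    -- transport along `0 → 0 → N → R/p → 0`
    intro hG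
    refine step (0 : PUnit.{u+1} →ₗ[R] N) e.toLinearMap ?_ e.surjective ?_ ?_ ?_ hG
    · intro a b _; exact Subsingleton.elim _ _
    · intro n
      constructor
      · intro hn
        refine ⟨0, ?_⟩
        rw [LinearMap.zero_apply]
        exact (e.injective (by rw [map_zero]; exact hn)).symm
      · rintro ⟨a, rfl⟩
        rw [LinearMap.zero_apply]; exact map_zero _
    · intro hG'
      apply formula_of_smul_eq_zero _ hG'
      intro n
      exact Subsingleton.elim _ _
    · intro hG'
      exact formula_quotient_prime p hG'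
  | exact N₁ N₂ N₃ f g hf hg hfg h₁ h₃ =>
    intro hG
    exact step f g hf hg hfg h₁ h₃ hG

end main

end Groth.Agent.Lib.LenQuotFormula
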