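import Mathlib
import Groth.Agent.Lib.LenQuotFormula
set_option maxHeartbeats 400000
set_option autoImplicit false
set_option linter.style.haveILetI false
universe u
open Pointwise

namespace Groth.Agent.Lib.LenQuotFormula2
open IsLocalRing Groth.Agent.Lib.LenQuotFormula

variable {A : Type u} [CommRing A]

/-- `ord_{A/q}(a) = length_A (A/(q + (a)))`. -/
theorem c_eq_length (a : A) (q : PrimeSpectrum A) :
    c a q = Module.length A (A ⧸ (q.asIdeal ⊔ Ideal.span {a})) := by
  unfold c Ring.ord
  rw [← Module.length_eq_of_surjective (S := A) (R := A ⧸ q.asIdeal)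
    (M := (A ⧸ q.asIdeal) ⧸ Ideal.span {Ideal.Quotient.mk q.asIdeal a})
    Ideal.Quotient.mk_surjective]
  have h : (Ideal.span {a}).map (Ideal.Quotient.mkₐ A q.asIdeal) =
      Ideal.span {Ideal.Quotient.mk q.asIdeal a} := by
    rw [Ideal.map_span, Set.image_singleton]; rfl
  have e1 : ((A ⧸ q.asIdeal) ⧸ Ideal.span {Ideal.Quotient.mk q.asIdeal a}) ≃ₗ[A]
      ((A ⧸ q.asIdeal) ⧸ (Ideal.span {a}).map (Ideal.Quotient.mkₐ A q.asIdeal)) :=
    (Ideal.quotientEquivAlgOfEq A h.symm).toLinearEquiv
  exact (e1 ≪≫ₗ (DoubleQuot.quotQuotEquivQuotSupₐ A q.asIdeal (Ideal.span {a})).toLinearEquiv).length_eq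

variable [IsLocalRing A]

theorem not_three_chain (hA : ringKrullDim A = 1) {p q r : PrimeSpectrum A} (h1 : p < q)
    (h2 : q < r) : False := by
  let s : LTSeries (PrimeSpectrum A) :=
    ((RelSeries.singleton _ p).snoc q (by simpa using h1)).snoc r (by simpa using h2)
  have hs : s.length = 2 := by simp [s]
  have := Order.LTSeries.length_le_krullDim s
  rw [hs] at this
  have : ((2 : ℕ) : WithBot ℕ∞) ≤ 1 := this.trans hA.le
  norm_num at this

theorem mem_minimalPrimes_iff_ne_maximalIdeal (hA : ringKrullDim A = 1) (q : PrimeSpectrum A) :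
    q.asIdeal ∈ minimalPrimes A ↔ q.asIdeal ≠ maximalIdeal A := by
  constructor
  · intro hq hqm
    -- then every prime equals the maximal ideal, so the spectrum is a singleton
    have hsub : Subsingleton (PrimeSpectrum A) := by
      have key : ∀ r : PrimeSpectrum A, r.asIdeal = maximalIdeal A := by
        intro r
        have hle : r.asIdeal ≤ q.asIdeal := hqm ▸ le_maximalIdeal r.isPrime.ne_top
        have h2 : q.asIdeal ≤ r.asIdeal := hq.2 ⟨r.isPrime, bot_le⟩ hle
        exact le_antisymm (le_maximalIdeal r.isPrime.ne_top) (hqm ▸ h2)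
      exact ⟨fun r s => PrimeSpectrum.ext ((key r).trans (key s).symm)⟩
    have : ringKrullDim A ≤ 0 := Order.krullDim_nonpos_of_subsingleton
    rw [hA] at this
    norm_num at this
  · intro hne
    obtain ⟨q₀, hq₀min, hq₀le⟩ := Ideal.exists_minimalPrimes_le (bot_le : ⊥ ≤ q.asIdeal)
    by_cases heq : q₀ = q.asIdeal
    · rw [← heq]; exact hq₀min
    · exfalso
      have h1 : (⟨q₀, hq₀min.1.1⟩ : PrimeSpectrum A) < q :=
        lt_of_le_of_ne hq₀le (fun h => heq (congrArg (·.asIdeal) h))
      exact not_three_chain hA h1 (lt_closedPoint hne)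

theorem good_of_dim_one (hA : ringKrullDim A = 1) (M : Type u) [AddCommGroup M]
    [Module A M] (a : A) (ha : ∀ p ∈ minimalPrimes A, a ∉ p) : Good a M := by
  constructor
  · intro q _ q' _ hlt
    by_contra hne
    exact not_three_chain hA hlt (lt_closedPoint hne)
  · intro q _ haq
    by_contra hne
    exact ha _ ((mem_minimalPrimes_iff_ne_maximalIdeal hA q).mpr hne) haq

theorem formula_dim_one [IsNoetherianRing A] (hA : ringKrullDim A = 1) (M : Type u)
    [AddCommGroup M] [Module A M] [Module.Finite A M] (a : A)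
    (ha : ∀ p ∈ minimalPrimes A, a ∉ p) :
    Module.length A (M ⧸ a • (⊤ : Submodule A M)) =
      Module.length A (LinearMap.ker (LinearMap.lsmul A M a)) +
      ∑ᶠ (p : PrimeSpectrum A) (_ : p.asIdeal ∈ minimalPrimes A),
        Module.length (Localization.AtPrime p.asIdeal) (LocalizedModule p.asIdeal.primeCompl M) *
          Module.length A (A ⧸ (p.asIdeal ⊔ Ideal.span {a})) := by
  rw [main M (good_of_dim_one hA M a ha)]
  congr 1
  unfold S
  refine finsum_mem_congr ?_ ?_
  · ext q
    exact (mem_minimalPrimes_iff_ne_maximalIdeal hA q).symm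
  · intro q _
    rw [c_eq_length, mul_comm]
    rfl

end Groth.Agent.Lib.LenQuotFormula2
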