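import Mathlib

set_option autoImplicit false
set_option linter.style.haveILetI false
set_option maxHeartbeats 400000
universe u v

/-! helper84: lengths of kernel and cokernel of multiplication by a nonzerodivisor on a finite
module over a 1-dimensional Noetherian local ring (EGA IV 21.10.13; used for S2855). -/

namespace Groth.Agent.Lib.LengthKerCoker
open scoped Pointwise

/-- finite length endomorphism: `ℓ(ker f) = ℓ(coker f)`. -/
theorem length_ker_eq_length_coker {A : Type*} [CommRing A] {X : Type*} [AddCommGroup X]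
    [Module A X] (hX : Module.length A X ≠ ⊤) (f : X →ₗ[A] X) :
    Module.length A (LinearMap.ker f) = Module.length A (X ⧸ LinearMap.range f) := by
  have h1 := Module.length_eq_add_of_exact (LinearMap.ker f).subtype f.rangeRestrict
    (Submodule.injective_subtype _) f.surjective_rangeRestrict
    (by rw [LinearMap.exact_iff, LinearMap.ker_rangeRestrict, Submodule.range_subtype])
  have h2 := Module.length_eq_add_of_exact (LinearMap.range f).subtype (LinearMap.range f).mkQ
    (Submodule.injective_subtype _) (Submodule.mkQ_surjective _)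
    (LinearMap.exact_subtype_mkQ _)
  have hr : Module.length A (LinearMap.range f) ≠ ⊤ := by
    intro h
    rw [h, top_add] at h2
    exact hX h2
  rw [h1, add_comm] at h2
  exact (ENat.add_right_injective_of_ne_top hr h2)

/-- A finite module killed by a nonzerodivisor over a Noetherian ring of dimension `≤ 1` has finite
length. -/
theorem length_ne_top_of_smul_eq_zero {A : Type*} [CommRing A] [IsNoetherianRing A]
    (hdim : ringKrullDim A ≤ 1) {t : A} (ht : t ∈ nonZeroDivisors A)
    (X : Type*) [AddCommGroup X] [Module A X] [Module.Finite A X] (hX : ∀ x : X, t • x = 0) :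
    Module.length A X ≠ ⊤ := by
  have hT : Module.IsTorsionBySet A X (Ideal.span {t} : Ideal A) := by
    rw [Module.isTorsionBySet_span_singleton_iff]
    exact hX
  letI : Module (A ⧸ Ideal.span {t}) X := hT.module
  haveI : IsScalarTower A (A ⧸ Ideal.span {t}) X := hT.isScalarTower
  have h1 := ringKrullDim_quotient_succ_le_of_nonZeroDivisor ht
  have h2 : ringKrullDim (A ⧸ Ideal.span {t}) ≤ 0 := by
    have h3 := h1.trans hdim
    generalize ringKrullDim (A ⧸ Ideal.span {t}) = a at h3
    induction a using WithBot.recBotCoe with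
    | bot => exact bot_le
    | coe a =>
      have h' : a + 1 ≤ 1 := by exact_mod_cast h3
      have : a ≤ 0 := by
        induction a using ENat.recTopCoe with
        | top => simp at h'
        | coe n =>
          have : n + 1 ≤ 1 := by exact_mod_cast h'
          have : n = 0 := by omega
          simp [this]
      exact_mod_cast this
  haveI : Ring.KrullDimLE 0 (A ⧸ Ideal.span {t}) := (Ring.krullDimLE_iff).mpr h2
  haveI : IsArtinianRing (A ⧸ Ideal.span {t}) :=
    isArtinianRing_iff_isNoetherianRing_krullDimLE_zero.mpr ⟨inferInstance, inferInstance⟩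
  haveI : Module.Finite (A ⧸ Ideal.span {t}) X := Module.Finite.of_restrictScalars_finite A _ X
  rw [Module.length_eq_of_surjective (S := A) (R := A ⧸ Ideal.span {t})
    Ideal.Quotient.mk_surjective]
  exact Module.length_ne_top

theorem range_smul_id {A : Type*} [CommRing A] {M : Type*} [AddCommGroup M] [Module A M] (t : A) :
    LinearMap.range (t • (LinearMap.id : M →ₗ[A] M)) = t • (⊤ : Submodule A M) := by
  ext x
  rw [LinearMap.mem_range, Submodule.mem_smul_pointwise_iff_exists]
  constructor
  · rintro ⟨y, rfl⟩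
    exact ⟨y, Submodule.mem_top, rfl⟩
  · rintro ⟨y, -, rfl⟩
    exact ⟨y, rfl⟩

theorem main (A : Type u) [CommRing A] [IsNoetherianRing A] [IsLocalRing A]
    (hdim : ringKrullDim A = 1) (t : A) (ht : t ∈ nonZeroDivisors A)
    (_htm : t ∈ IsLocalRing.maximalIdeal A)
    (M : Type v) [AddCommGroup M] [Module A M] [Module.Finite A M] :
    Module.length A (LinearMap.ker (t • (LinearMap.id : M →ₗ[A] M))) ≠ ⊤ ∧
      Module.length A (QuotSMulTop t M) ≠ ⊤ ∧
      ∃ T : Submodule A M, Module.length A T ≠ ⊤ ∧
        LinearMap.ker (t • (LinearMap.id : M →ₗ[A] M)) ≤ T ∧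
        Module.length A (QuotSMulTop t M) =
          Module.length A (LinearMap.ker (t • (LinearMap.id : M →ₗ[A] M))) +
          Module.length A (M ⧸ (t • (⊤ : Submodule A M) ⊔ T)) := by
  classical
  set f : M →ₗ[A] M := t • LinearMap.id with hf
  have hfx : ∀ x, f x = t • x := fun x => rfl
  have hfk : ∀ (n : ℕ) (x : M), (f ^ n) x = t ^ n • x := by
    intro n
    induction n with
    | zero => intro x; simp
    | succ n ih => intro x; rw [pow_succ, Module.End.mul_apply, ih, hfx, pow_succ, smul_smul]
  have hmono : Monotone (fun n : ℕ => LinearMap.ker (f ^ n)) := by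
    intro a b hab x hx
    rw [LinearMap.mem_ker, hfk] at hx ⊢
    obtain ⟨c, rfl⟩ := Nat.exists_eq_add_of_le hab
    rw [pow_add, mul_comm, mul_smul, hx, smul_zero]
  obtain ⟨k, hk⟩ := monotone_stabilizes_iff_noetherian.mpr (inferInstance : IsNoetherian A M)
    ⟨fun n => LinearMap.ker (f ^ n), hmono⟩
  set T := LinearMap.ker (f ^ k) with hTdef
  have hmemT : ∀ x, x ∈ T ↔ t ^ k • x = 0 := by
    intro x
    rw [hTdef, LinearMap.mem_ker, hfk]
  have hT1 : ∀ x, t • x ∈ T → x ∈ T := by
    intro x hx
    have h1 : x ∈ LinearMap.ker (f ^ (k + 1)) := by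
      rw [LinearMap.mem_ker, hfk, pow_succ, mul_smul]
      exact (hmemT _).mp hx
    have := hk (k + 1) (Nat.le_succ k)
    simp only [OrderHom.coe_mk] at this
    rw [hTdef, this]
    exact h1
  have hNT : LinearMap.ker f ≤ T := by
    intro x hx
    apply hT1
    rw [LinearMap.mem_ker, hfx] at hx
    rw [hx]
    exact T.zero_mem
  have hTlen : Module.length A T ≠ ⊤ := by
    apply length_ne_top_of_smul_eq_zero hdim.le (pow_mem ht k)
    rintro ⟨x, hx⟩
    ext
    exact (hmemT x).mp hx
  have hNlen : Module.length A (LinearMap.ker f) ≠ ⊤ := by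
    apply length_ne_top_of_smul_eq_zero hdim.le ht
    rintro ⟨x, hx⟩
    ext
    exact hx
  have hPlen : Module.length A (QuotSMulTop t M) ≠ ⊤ := by
    apply length_ne_top_of_smul_eq_zero hdim.le ht
    intro x
    obtain ⟨m, rfl⟩ := Submodule.Quotient.mk_surjective _ x
    rw [← Submodule.Quotient.mk_smul, Submodule.Quotient.mk_eq_zero]
    exact Submodule.smul_mem_pointwise_smul m t ⊤ Submodule.mem_top
  refine ⟨hNlen, hPlen, T, hTlen, hNT, ?_⟩
  -- restriction of f to T
  have hfT : ∀ x ∈ T, f x ∈ T := by
    intro x hx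
    rw [hmemT] at hx ⊢
    rw [hfx, smul_comm, hx, smul_zero]
  let fT : T →ₗ[A] T := f.restrict hfT
  have hE := length_ker_eq_length_coker hTlen fT
  -- ker fT ≃ ker f
  have hker : Module.length A (LinearMap.ker fT) = Module.length A (LinearMap.ker f) := by
    have : LinearMap.ker fT = Submodule.comap T.subtype (LinearMap.ker f) := by
      ext x
      rw [LinearMap.mem_ker, Submodule.mem_comap, LinearMap.mem_ker]
      constructor
      · intro h
        exact congrArg Subtype.val h
      · intro h
        exact Subtype.ext h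
    rw [this]
    exact (Submodule.comapSubtypeEquivOfLe hNT).length_eq
  -- the exact sequence
  have hle : LinearMap.range fT ≤ Submodule.comap T.subtype (t • (⊤ : Submodule A M)) := by
    rintro _ ⟨y, rfl⟩
    rw [Submodule.mem_comap]
    exact Submodule.smul_mem_pointwise_smul y.1 t ⊤ Submodule.mem_top
  let g₁ : (T ⧸ LinearMap.range fT) →ₗ[A] QuotSMulTop t M :=
    Submodule.mapQ _ _ T.subtype hle
  let g₂ : QuotSMulTop t M →ₗ[A] M ⧸ (t • (⊤ : Submodule A M) ⊔ T) :=
    Submodule.factor le_sup_left
  have hg₁ : Function.Injective g₁ := by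
    rw [← LinearMap.ker_eq_bot, eq_bot_iff]
    intro x hx
    obtain ⟨x, rfl⟩ := Submodule.Quotient.mk_surjective _ x
    rw [LinearMap.mem_ker] at hx
    change Submodule.Quotient.mk (x : M) = 0 at hx
    rw [Submodule.Quotient.mk_eq_zero, Submodule.mem_smul_pointwise_iff_exists] at hx
    obtain ⟨y, -, hy⟩ := hx
    have hyT : y ∈ T := hT1 y (hy ▸ x.2)
    rw [Submodule.mem_bot, Submodule.Quotient.mk_eq_zero]
    exact ⟨⟨y, hyT⟩, Subtype.ext hy⟩
  have hg₂ : Function.Surjective g₂ := Submodule.factor_surjective _
  have hex : Function.Exact g₁ g₂ := by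
    intro y
    obtain ⟨m, rfl⟩ := Submodule.Quotient.mk_surjective _ y
    change Submodule.Quotient.mk m = 0 ↔ _
    rw [Submodule.Quotient.mk_eq_zero, Submodule.mem_sup]
    constructor
    · rintro ⟨a, ha, b, hb, rfl⟩
      refine ⟨Submodule.Quotient.mk ⟨b, hb⟩, ?_⟩
      change Submodule.Quotient.mk b = Submodule.Quotient.mk (a + b)
      rw [eq_comm, Submodule.Quotient.eq]
      simpa using ha
    · rintro ⟨x, hx⟩
      obtain ⟨x, rfl⟩ := Submodule.Quotient.mk_surjective _ x
      change Submodule.Quotient.mk (x : M) = Submodule.Quotient.mk m at hx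
      rw [eq_comm, Submodule.Quotient.eq] at hx
      exact ⟨m - x, hx, x, x.2, by abel⟩
  rw [Module.length_eq_add_of_exact g₁ g₂ hg₁ hg₂ hex, ← hE, hker]

end Groth.Agent.Lib.LengthKerCoker
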