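import Mathlib
import Groth.Agent.Lib.LengthKerCoker

set_option autoImplicit false
set_option linter.style.haveILetI false
set_option maxHeartbeats 400000
universe u v

/-! helper84: `ℓ(M/tM) = ℓ(M[t]) + n·ℓ(A/tA)` for a finite module of generic rank `n` over a
1-dimensional Noetherian ring (used for S2856). -/

namespace Groth.Agent.Lib.LengthKerCoker2
open scoped Pointwise
open Groth.Agent.Lib.LengthKerCoker

/-- If `M ⊗ K` is free of rank `n` over the total ring of fractions, then `M` contains a free
submodule of rank `n` with torsion quotient. -/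
theorem exists_free_submodule {A : Type*} [CommRing A] {M : Type*} [AddCommGroup M] [Module A M]
    [Module.Finite A M] (n : ℕ)
    (e : LocalizedModule (nonZeroDivisors A) M ≃ₗ[Localization (nonZeroDivisors A)]
      (Fin n → Localization (nonZeroDivisors A))) :
    ∃ φ : (Fin n → A) →ₗ[A] M, Function.Injective φ ∧
      ∃ s ∈ nonZeroDivisors A, ∀ m : M, s • m ∈ LinearMap.range φ := by
  classical
  set S := nonZeroDivisors A with hS
  set K := Localization S with hK
  let f : M →ₗ[A] LocalizedModule S M := LocalizedModule.mkLinearMap S M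
  let v : Fin n → LocalizedModule S M := fun i => e.symm (Pi.single i 1)
  obtain ⟨b, hb⟩ := IsLocalizedModule.exist_integer_multiples_of_finite S f v
  choose m hm using hb
  -- hm i : f (m i) = b • v i
  let φ : (Fin n → A) →ₗ[A] M := Fintype.linearCombination A m
  have hφ : ∀ a : Fin n → A, φ a = ∑ i, a i • m i := fun a => by
    simp [φ, Fintype.linearCombination_apply]
  have hinjK : Function.Injective (algebraMap A K) := IsLocalization.injective K (le_refl S)
  have heA : ∀ (a : A) (y : LocalizedModule S M), e (a • y) = a • e y :=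
    fun a y => (e.restrictScalars A).map_smul a y
  -- e (f (φ a)) = fun i => algebraMap (a i * b)
  have hefφ : ∀ (a : Fin n → A) (i : Fin n), e (f (φ a)) i = algebraMap A K (a i * b) := by
    intro a i
    rw [hφ, map_sum, map_sum, Finset.sum_apply]
    have : ∀ j, e (f (a j • m j)) i = if j = i then algebraMap A K (a j * b) else 0 := by
      intro j
      rw [f.map_smul, hm j, ← mul_smul, heA]
      simp only [v, LinearEquiv.apply_symm_apply, Pi.smul_apply, Pi.single_apply]
      rw [Algebra.smul_def]
      split_ifs with h1 h2 h2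
      · rw [mul_one]
      · exact absurd h1.symm h2
      · exact absurd h2.symm h1
      · rw [mul_zero]
    simp_rw [this]
    simp
  refine ⟨φ, ?_, ?_⟩
  · rw [← LinearMap.ker_eq_bot, eq_bot_iff]
    intro a ha
    rw [LinearMap.mem_ker] at ha
    rw [Submodule.mem_bot]
    funext i
    have h1 := hefφ a i
    rw [ha, map_zero, map_zero, Pi.zero_apply] at h1
    have h2 : a i * (b : A) = 0 := hinjK (by rw [← h1, map_zero])
    exact (mem_nonZeroDivisors_iff_right.mp b.2) _ h2
  · -- each m has a nzd multiple in range φ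
    have key : ∀ x : M, ∃ s ∈ S, s • x ∈ LinearMap.range φ := by
      intro x
      obtain ⟨u, hu⟩ := IsLocalization.exist_integer_multiples_of_finite S (fun j => e (f x) j)
      choose c hc using hu
      -- hc j : algebraMap (c j) = u • e (f x) j
      have h1 : f ((b : A) • (u : A) • x) = f (φ c) := by
        apply e.injective
        funext i
        have hL : e (f ((b : A) • (u : A) • x)) i = (b : A) • (u : A) • e (f x) i := by
          rw [f.map_smul, f.map_smul, heA, heA, Pi.smul_apply, Pi.smul_apply]
        rw [hL, hefφ, map_mul, hc i, Algebra.smul_def, mul_comm]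
      obtain ⟨w, hw⟩ := (IsLocalizedModule.eq_iff_exists S f).mp h1
      refine ⟨(w : A) * ((b : A) * (u : A)), mul_mem w.2 (mul_mem b.2 u.2), ⟨(w : A) • c, ?_⟩⟩
      rw [map_smul, mul_smul, mul_smul]
      exact hw.symm
    obtain ⟨G, hG⟩ := (Module.Finite.fg_top : (⊤ : Submodule A M).FG)
    choose s hsS hs using key
    refine ⟨∏ g ∈ G, s g, Submonoid.prod_mem _ (fun g _ => hsS g), ?_⟩
    intro x
    have hx : x ∈ Submodule.span A (G : Set M) := by rw [hG]; exact Submodule.mem_top
    induction hx using Submodule.span_induction with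
    | mem y hy =>
      rw [← Finset.mul_prod_erase G s hy, mul_comm, mul_smul]
      exact Submodule.smul_mem _ _ (hs y)
    | zero => rw [smul_zero]; exact Submodule.zero_mem _
    | add y z _ _ hy hz => rw [smul_add]; exact Submodule.add_mem _ hy hz
    | smul a y _ hy => rw [smul_comm]; exact Submodule.smul_mem _ _ hy


/-- `ℓ(M/p) = ℓ(q/p) + ℓ(M/q)` for submodules `p ≤ q`. -/
theorem length_quotient_eq_add {A : Type*} [CommRing A] {M : Type*} [AddCommGroup M] [Module A M]
    {p q : Submodule A M} (hpq : p ≤ q) :
    Module.length A (M ⧸ p) = Module.length A ↥(q.map p.mkQ) + Module.length A (M ⧸ q) := by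
  refine Module.length_eq_add_of_exact (q.map p.mkQ).subtype (Submodule.factor hpq)
    (Submodule.injective_subtype _) (Submodule.factor_surjective _) ?_
  intro y
  obtain ⟨m, rfl⟩ := Submodule.Quotient.mk_surjective _ y
  change Submodule.Quotient.mk m = 0 ↔ _
  rw [Submodule.Quotient.mk_eq_zero, Submodule.coe_subtype, Subtype.range_coe_subtype]
  constructor
  · intro hm
    exact ⟨m, hm, rfl⟩
  · rintro ⟨m', hm', h⟩
    have : m' - m ∈ p := (Submodule.Quotient.eq p).mp h
    have h2 : m = m' - (m' - m) := by abel
    rw [h2]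
    exact q.sub_mem hm' (hpq this)

/-- `ℓ(range g) = ℓ(X / ker g)`. -/
theorem length_range_eq {A : Type*} [CommRing A] {X Y : Type*} [AddCommGroup X] [Module A X]
    [AddCommGroup Y] [Module A Y] (g : X →ₗ[A] Y) :
    Module.length A ↥(LinearMap.range g) = Module.length A (X ⧸ LinearMap.ker g) :=
  g.quotKerEquivRange.symm.length_eq

theorem length_pi_quotient {A : Type*} [CommRing A] (n : ℕ) (t : A) :
    Module.length A ((Fin n → A) ⧸ (t • (⊤ : Submodule A (Fin n → A)))) =
      n * Module.length A (A ⧸ Ideal.span {t}) := by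
  classical
  have h : t • (⊤ : Submodule A (Fin n → A)) =
      Submodule.pi Set.univ (fun _ : Fin n => (Ideal.span {t} : Submodule A A)) := by
    ext a
    rw [Submodule.mem_smul_pointwise_iff_exists, Submodule.mem_pi]
    constructor
    · rintro ⟨b, -, rfl⟩ i -
      rw [Pi.smul_apply, smul_eq_mul]
      exact Ideal.mul_mem_right _ _ (Ideal.mem_span_singleton_self t)
    · intro ha
      have : ∀ i, ∃ c, a i = t * c := fun i => by
        have := ha i (Set.mem_univ i)
        rw [Ideal.mem_span_singleton'] at this
        obtain ⟨c, hc⟩ := this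
        exact ⟨c, by rw [← hc, mul_comm]⟩
      choose c hc using this
      exact ⟨c, Submodule.mem_top, by funext i; rw [Pi.smul_apply, smul_eq_mul, hc i]⟩
  rw [(Submodule.quotEquivOfEq _ _ h).length_eq, (Submodule.quotientPi _).length_eq,
    Module.length_pi_of_fintype]
  simp

theorem length_quotSMulTop_eq_of_free_submodule (A : Type*) [CommRing A] [IsNoetherianRing A]
    (hdim : ringKrullDim A ≤ 1) (t : A) (ht : t ∈ nonZeroDivisors A)
    (M : Type*) [AddCommGroup M] [Module A M] [Module.Finite A M] (n : ℕ)
    (φ : (Fin n → A) →ₗ[A] M) (hφ : Function.Injective φ) (s : A) (hs : s ∈ nonZeroDivisors A)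
    (hsM : ∀ m : M, s • m ∈ LinearMap.range φ) :
    Module.length A (QuotSMulTop t M) =
      Module.length A (LinearMap.ker (t • (LinearMap.id : M →ₗ[A] M))) +
        n * Module.length A (A ⧸ Ideal.span {t}) := by
  classical
  set f : M →ₗ[A] M := t • LinearMap.id with hf
  have hfx : ∀ x, f x = t • x := fun x => rfl
  set F : Submodule A M := LinearMap.range φ with hF
  set N : Submodule A M := LinearMap.ker f with hN
  have htinj : ∀ a : Fin n → A, t • a = 0 → a = 0 := by
    intro a ha
    funext i
    have := congrFun ha i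
    rw [Pi.smul_apply, smul_eq_mul, Pi.zero_apply, mul_comm] at this
    exact (mem_nonZeroDivisors_iff_right.mp ht) _ this
  have hC : Module.length A (M ⧸ F) ≠ ⊤ := by
    apply length_ne_top_of_smul_eq_zero hdim hs
    intro x
    obtain ⟨m, rfl⟩ := Submodule.Quotient.mk_surjective _ x
    rw [← Submodule.Quotient.mk_smul, Submodule.Quotient.mk_eq_zero]
    exact hsM m
  have h1 : t • F ≤ t • (⊤ : Submodule A M) := by
    intro x hx
    rw [Submodule.mem_smul_pointwise_iff_exists] at hx ⊢
    obtain ⟨y, -, rfl⟩ := hx
    exact ⟨y, Submodule.mem_top, rfl⟩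
  have h2 : t • F ≤ F := by
    intro x hx
    rw [Submodule.mem_smul_pointwise_iff_exists] at hx
    obtain ⟨y, hy, rfl⟩ := hx
    exact F.smul_mem t hy
  have E1 := length_quotient_eq_add h1
  have E2 := length_quotient_eq_add h2
  have E3 := length_quotient_eq_add (le_sup_left : F ≤ F ⊔ N)
  -- (a)
  have Ha : Module.length A ↥((t • (⊤ : Submodule A M)).map (t • F).mkQ) =
      Module.length A (M ⧸ (F ⊔ N)) := by
    have hr : (t • (⊤ : Submodule A M)).map (t • F).mkQ = LinearMap.range ((t • F).mkQ ∘ₗ f) := by
      rw [LinearMap.range_comp, hf, range_smul_id]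
    have hk : LinearMap.ker ((t • F).mkQ ∘ₗ f) = F ⊔ N := by
      ext x
      rw [LinearMap.mem_ker, LinearMap.comp_apply, Submodule.mkQ_apply,
        Submodule.Quotient.mk_eq_zero, hfx, Submodule.mem_smul_pointwise_iff_exists,
        Submodule.mem_sup]
      constructor
      · rintro ⟨y, hy, hxy⟩
        refine ⟨y, hy, x - y, ?_, by abel⟩
        rw [hN, LinearMap.mem_ker, hfx, smul_sub, hxy, sub_self]
      · rintro ⟨y, hy, z, hz, rfl⟩
        refine ⟨y, hy, ?_⟩
        rw [hN, LinearMap.mem_ker, hfx] at hz
        rw [smul_add, hz, add_zero]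
    rw [hr, length_range_eq, (Submodule.quotEquivOfEq _ _ hk).length_eq]
  -- (b)
  have Hb : Module.length A ↥(F.map (t • F).mkQ) = n * Module.length A (A ⧸ Ideal.span {t}) := by
    have hr : F.map (t • F).mkQ = LinearMap.range ((t • F).mkQ ∘ₗ φ) := by
      rw [LinearMap.range_comp]
    have hk : LinearMap.ker ((t • F).mkQ ∘ₗ φ) = t • (⊤ : Submodule A (Fin n → A)) := by
      ext a
      rw [LinearMap.mem_ker, LinearMap.comp_apply, Submodule.mkQ_apply,
        Submodule.Quotient.mk_eq_zero, Submodule.mem_smul_pointwise_iff_exists,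
        Submodule.mem_smul_pointwise_iff_exists]
      constructor
      · rintro ⟨y, ⟨b, rfl⟩, hy⟩
        refine ⟨b, Submodule.mem_top, ?_⟩
        apply hφ
        rw [map_smul, hy]
      · rintro ⟨b, -, rfl⟩
        exact ⟨φ b, ⟨b, rfl⟩, (map_smul φ t b).symm⟩
    rw [hr, length_range_eq, (Submodule.quotEquivOfEq _ _ hk).length_eq, length_pi_quotient]
  -- (c)
  have Hc : Module.length A ↥((F ⊔ N).map F.mkQ) = Module.length A N := by
    have hr : (F ⊔ N).map F.mkQ = LinearMap.range (F.mkQ ∘ₗ N.subtype) := by
      rw [LinearMap.range_comp, Submodule.range_subtype, Submodule.map_sup]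
      have : F.map F.mkQ = ⊥ := by
        rw [← LinearMap.le_ker_iff_map, Submodule.ker_mkQ]
      rw [this, bot_sup_eq]
    have hinj : Function.Injective (F.mkQ ∘ₗ N.subtype) := by
      rw [← LinearMap.ker_eq_bot, eq_bot_iff]
      rintro ⟨x, hx⟩ hx'
      rw [LinearMap.mem_ker, LinearMap.comp_apply, Submodule.mkQ_apply, Submodule.subtype_apply,
        Submodule.Quotient.mk_eq_zero] at hx'
      obtain ⟨a, rfl⟩ := hx'
      rw [hN, LinearMap.mem_ker, hfx, ← map_smul] at hx
      have h0 : t • a = 0 := hφ (by rw [hx, map_zero])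
      rw [Submodule.mem_bot]
      ext
      change φ a = 0
      rw [htinj a h0, map_zero]
    rw [hr]
    exact (LinearEquiv.ofInjective _ hinj).length_eq.symm
  rw [Ha] at E1
  rw [Hb] at E2
  rw [Hc] at E3
  have hD : Module.length A (M ⧸ (F ⊔ N)) ≠ ⊤ := by
    intro h
    rw [h, add_top] at E3
    exact hC E3
  have key : Module.length A (M ⧸ (F ⊔ N)) + Module.length A (QuotSMulTop t M) =
      Module.length A (M ⧸ (F ⊔ N)) +
        (Module.length A N + n * Module.length A (A ⧸ Ideal.span {t})) := by
    have e1 : Module.length A (M ⧸ (t • F)) =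
        Module.length A (M ⧸ (F ⊔ N)) + Module.length A (QuotSMulTop t M) := E1
    rw [← e1, E2, E3]
    ring
  exact ENat.add_right_injective_of_ne_top hD key


end Groth.Agent.Lib.LengthKerCoker2
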