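import Mathlib
import Groth.Prelude.Def_Tame
import Groth.Agent.Lib.LenQuotFormula2
import Groth.Agent.Lib.LengthKerCoker2
set_option maxHeartbeats 400000
set_option autoImplicit false
set_option linter.style.haveILetI false
universe u
open Pointwise

namespace Groth.Agent.Lib.LenQuotFormula3
open IsLocalRing Groth.Agent.Lib.LenQuotFormula Groth.Agent.Lib.LenQuotFormula2

variable {A : Type u} [CommRing A]

theorem ordFrac_div_eq [IsNoetherianRing A] (hA : ringKrullDim A ≤ 1) (q : PrimeSpectrum A) (a b : A)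
    (ha : a ∉ q.asIdeal) (hb : b ∉ q.asIdeal) :
    CycAlg.ordFrac (A ⧸ q.asIdeal) q.asIdeal.ResidueField
      (algebraMap A q.asIdeal.ResidueField a / algebraMap A q.asIdeal.ResidueField b) =
      ((c a q).toNat : ℤ) - ((c b q).toNat : ℤ) := by
  have hK : Ring.KrullDimLE 1 (A ⧸ q.asIdeal) := by
    rw [Ring.krullDimLE_iff]
    exact (ringKrullDim_quotient_le _).trans hA
  have hcond : IsNoetherianRing (A ⧸ q.asIdeal) ∧ Ring.KrullDimLE 1 (A ⧸ q.asIdeal) ∧
      Nontrivial (A ⧸ q.asIdeal) ∧ IsFractionRing (A ⧸ q.asIdeal) q.asIdeal.ResidueField :=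
    ⟨inferInstance, hK, inferInstance, inferInstance⟩
  unfold CycAlg.ordFrac
  rw [dif_pos hcond]
  have ha0 : Ideal.Quotient.mk q.asIdeal a ≠ 0 := fun h => ha (Ideal.Quotient.eq_zero_iff_mem.mp h)
  have hb0 : Ideal.Quotient.mk q.asIdeal b ≠ 0 := fun h => hb (Ideal.Quotient.eq_zero_iff_mem.mp h)
  have hae : algebraMap A q.asIdeal.ResidueField a =
      algebraMap (A ⧸ q.asIdeal) q.asIdeal.ResidueField (Ideal.Quotient.mk q.asIdeal a) := rfl
  have hbe : algebraMap A q.asIdeal.ResidueField b =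
      algebraMap (A ⧸ q.asIdeal) q.asIdeal.ResidueField (Ideal.Quotient.mk q.asIdeal b) := rfl
  rw [hae, hbe, map_div₀, Ring.ordFrac_eq_ord _ ha0, Ring.ordFrac_eq_ord _ hb0]
  have hand : Ideal.Quotient.mk q.asIdeal a ∈ nonZeroDivisors (A ⧸ q.asIdeal) :=
    mem_nonZeroDivisors_iff_ne_zero.mpr ha0
  have hbnd : Ideal.Quotient.mk q.asIdeal b ∈ nonZeroDivisors (A ⧸ q.asIdeal) :=
    mem_nonZeroDivisors_iff_ne_zero.mpr hb0
  have hfa : c a q ≠ ⊤ := Ring.ord_ne_top hand
  have hfb : c b q ≠ ⊤ := Ring.ord_ne_top hbnd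
  rw [Ring.ordMonoidWithZeroHom_eq_coe _ hand (n := (c a q).toNat) (ENat.coe_toNat hfa).symm,
    Ring.ordMonoidWithZeroHom_eq_coe _ hbnd (n := (c b q).toNat) (ENat.coe_toNat hfb).symm]
  rw [← WithZero.coe_div]
  simp

theorem range_lsmul {M : Type*} [AddCommGroup M] [Module A M] (t : A) :
    LinearMap.range (LinearMap.lsmul A M t) = t • (⊤ : Submodule A M) := by
  ext x
  rw [LinearMap.mem_range, Submodule.mem_smul_pointwise_iff_exists]
  constructor
  · rintro ⟨y, rfl⟩
    exact ⟨y, Submodule.mem_top, rfl⟩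
  · rintro ⟨y, -, rfl⟩
    exact ⟨y, rfl⟩

theorem length_comap_smul {M : Type*} [AddCommGroup M] [Module A M] (t : A) (p : Submodule A M)
    (hp : p ≤ t • (⊤ : Submodule A M)) :
    Module.length A (M ⧸ p) =
      Module.length A (M ⧸ Submodule.comap (LinearMap.lsmul A M t) p) +
        Module.length A (M ⧸ t • (⊤ : Submodule A M)) := by
  rw [Groth.Agent.Lib.LengthKerCoker2.length_quotient_eq_add hp]
  congr 1
  let ψ : M →ₗ[A] M ⧸ p := p.mkQ ∘ₗ LinearMap.lsmul A M t
  have hr : LinearMap.range ψ = (t • (⊤ : Submodule A M)).map p.mkQ := by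
    rw [LinearMap.range_comp, range_lsmul]
  have hk : LinearMap.ker ψ = Submodule.comap (LinearMap.lsmul A M t) p := by
    rw [LinearMap.ker_comp, Submodule.ker_mkQ]
  exact ((LinearEquiv.ofEq _ _ hr).symm ≪≫ₗ (LinearMap.quotKerEquivRange ψ).symm ≪≫ₗ
    Submodule.quotEquivOfEq _ _ hk).length_eq

theorem comap_smul_of_regular {M : Type*} [AddCommGroup M] [Module A M] (a : A)
    (hreg : IsSMulRegular M a) (I : Ideal A) :
    Submodule.comap (LinearMap.lsmul A M a) ((Ideal.span {a} * I) • (⊤ : Submodule A M)) =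
      I • (⊤ : Submodule A M) := by
  rw [Submodule.mul_smul, Submodule.ideal_span_singleton_smul]
  ext m
  rw [Submodule.mem_comap, LinearMap.lsmul_apply, Submodule.mem_smul_pointwise_iff_exists]
  constructor
  · rintro ⟨y, hy, hya⟩
    rwa [← hreg hya]
  · intro hm
    exact ⟨m, hm, rfl⟩

theorem finite_T [IsLocalRing A] [IsNoetherianRing A] (hA : ringKrullDim A = 1) : (T A).Finite := by
  have hsub : T A ⊆ PrimeSpectrum.asIdeal ⁻¹' (minimalPrimes A) := fun q hq =>
    (mem_minimalPrimes_iff_ne_maximalIdeal hA q).mpr hq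
  refine Set.Finite.subset (Set.Finite.preimage ?_ (minimalPrimes.finite_of_isNoetherianRing A)) hsub
  intro x _ y _ hxy
  exact PrimeSpectrum.ext hxy

/-- regular quotient length as an integer-valued finite sum. -/
theorem toNat_length_quot [IsLocalRing A] [IsNoetherianRing A] (hA : ringKrullDim A = 1)
    (M : Type u) [AddCommGroup M] [Module A M] [Module.Finite A M] (a : A)
    (ha : ∀ p ∈ minimalPrimes A, a ∉ p) (hreg : IsSMulRegular M a) :
    Module.length A (M ⧸ a • (⊤ : Submodule A M)) ≠ ⊤ ∧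
    (((Module.length A (M ⧸ a • (⊤ : Submodule A M))).toNat : ℕ) : ℤ) =
      ∑ q ∈ (finite_T hA).toFinset, ((ellq M q).toNat : ℤ) * ((c a q).toNat : ℤ) := by
  have hG := good_of_dim_one hA M a ha
  have hfin := hG.length_quot_lt_top
  refine ⟨hfin.ne, ?_⟩
  have hmain := main M hG
  have hker : LinearMap.ker (LinearMap.lsmul A M a) = ⊥ := by
    rw [eq_bot_iff]
    intro m hm
    rw [LinearMap.mem_ker, LinearMap.lsmul_apply] at hm
    exact hreg (by show a • m = a • 0; rw [hm, smul_zero])
  rw [hker, Module.length_bot, zero_add] at hmain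
  unfold S at hmain
  rw [finsum_mem_eq_finite_toFinset_sum _ (finite_T hA)] at hmain
  rw [hmain] at hfin ⊢
  have hterm : ∀ q ∈ (finite_T hA).toFinset, c a q * ellq M q ≠ ⊤ := by
    intro q hq htop
    have := Finset.single_le_sum (f := fun q => c a q * ellq M q) (fun i _ => zero_le) hq
    simp only [htop, top_le_iff] at this
    exact hfin.ne this
  rw [ENat.toNat_sum hterm, Nat.cast_sum]
  refine Finset.sum_congr rfl ?_
  intro q _
  rw [ENat.toNat_mul, Nat.cast_mul, mul_comm]

theorem length_sub_length [IsNoetherianRing A] [IsLocalRing A] (hA : ringKrullDim A = 1) {M : Type u} [AddCommGroup M] [Module A M] [Module.Finite A M] (a b : A) (ha : a ∈ nonZeroDivisors A) (hb : b ∈ nonZeroDivisors A) (hMemb : ∀ p ∈ associatedPrimes A M, p ∈ minimalPrimes A) (I : Ideal A) (hI : I = (Ideal.span {b}).colon (Ideal.span {a})) (P : Submodule A M) (hP : P = Submodule.comap (LinearMap.lsmul A M b) ((Ideal.span {a} * I) • (⊤ : Submodule A M))) : (Ideal.span {a} * I) • (⊤ : Submodule A M) ≤ LinearMap.range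 (LinearMap.lsmul A M b) ∧ ((Module.length A (M ⧸ P)).toNat : ℤ) - ((Module.length A (M ⧸ I • (⊤ : Submodule A M))).toNat : ℤ) = ∑ᶠ (q : PrimeSpectrum A) (_ : q.asIdeal ∈ minimalPrimes A), ((Module.length (Localization.AtPrime q.asIdeal) (LocalizedModule q.asIdeal.primeCompl M)).toNat : ℤ) * CycAlg.ordFrac (A ⧸ q.asIdeal) q.asIdeal.ResidueField (algebraMap A q.asIdeal.ResidueField a / algebraMap A q.asIdeal.ResidueField b) := by
  -- a, b avoid the minimal primes and are M-regular
  have hmin : ∀ x ∈ nonZeroDivisors A, ∀ p ∈ minimalPrimes A, x ∉ p := fun x hx p hp hxp =>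
    Set.disjoint_left.mp (Ideal.disjoint_nonZeroDivisors_of_mem_minimalPrimes hp) hxp hx
  have hregOf : ∀ x ∈ nonZeroDivisors A, IsSMulRegular M x := by
    intro x hx
    by_contra hnr
    have : x ∈ ({r : A | IsSMulRegular M r}ᶜ : Set A) := hnr
    rw [← biUnion_associatedPrimes_eq_compl_regular] at this
    simp only [Set.mem_iUnion, SetLike.mem_coe] at this
    obtain ⟨p, hp, hxp⟩ := this
    exact hmin x hx p (hMemb p hp) hxp
  have hamin := hmin a ha
  have hbmin := hmin b hb
  have hareg := hregOf a ha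
  have hbreg := hregOf b hb
  -- ideal inclusions
  have hIle : Ideal.span {a} * I ≤ Ideal.span {b} := by
    rw [Ideal.mul_le]
    intro x hx r hr
    rw [hI, Submodule.mem_colon] at hr
    obtain ⟨s, rfl⟩ := Ideal.mem_span_singleton'.mp hx
    have := hr a (Ideal.mem_span_singleton_self a)
    rw [smul_eq_mul] at this
    have h2 : s * a * r = s * (r * a) := by ring
    rw [h2]
    exact Ideal.mul_mem_left _ _ this
  have hbI : b ∈ I := by
    rw [hI, Submodule.mem_colon]
    intro p hp
    obtain ⟨s, rfl⟩ := Ideal.mem_span_singleton'.mp hp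
    rw [smul_eq_mul]
    have h2 : b * (s * a) = (s * a) * b := by ring
    rw [h2]
    exact Ideal.mul_mem_left _ _ (Ideal.mem_span_singleton_self b)
  have hle_b : (Ideal.span {a} * I) • (⊤ : Submodule A M) ≤ b • (⊤ : Submodule A M) := by
    rw [← Submodule.ideal_span_singleton_smul]
    exact Submodule.smul_mono_left hIle
  have hle_a : (Ideal.span {a} * I) • (⊤ : Submodule A M) ≤ a • (⊤ : Submodule A M) := by
    rw [← Submodule.ideal_span_singleton_smul]
    exact Submodule.smul_mono_left Ideal.mul_le_left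
  refine ⟨by rw [range_lsmul]; exact hle_b, ?_⟩
  -- length relation
  have e1 := length_comap_smul b _ hle_b
  have e2 := length_comap_smul a _ hle_a
  rw [comap_smul_of_regular a hareg I] at e2
  rw [← hP] at e1
  obtain ⟨fa, ta⟩ := toNat_length_quot hA M a hamin hareg
  obtain ⟨fb, tb⟩ := toNat_length_quot hA M b hbmin hbreg
  have hLI : Module.length A (M ⧸ I • (⊤ : Submodule A M)) ≠ ⊤ := by
    have hle : b • (⊤ : Submodule A M) ≤ I • (⊤ : Submodule A M) := by
      rw [← Submodule.ideal_span_singleton_smul]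
      exact Submodule.smul_mono_left ((Ideal.span_singleton_le_iff_mem I).mpr hbI)
    exact ne_top_of_le_ne_top fb
      (Module.length_le_of_surjective (Submodule.factor hle) (Submodule.factor_surjective hle))
  have hX : Module.length A (M ⧸ (Ideal.span {a} * I) • (⊤ : Submodule A M)) ≠ ⊤ := by
    rw [e2]
    exact (ENat.add_lt_top.mpr ⟨hLI.lt_top, fa.lt_top⟩).ne
  have hLP : Module.length A (M ⧸ P) ≠ ⊤ := by
    intro h
    rw [e1, h, top_add] at hX
    exact hX rfl
  -- the sum
  have hsum : ∑ᶠ (q : PrimeSpectrum A) (_ : q.asIdeal ∈ minimalPrimes A), ((Module.length (Localization.AtPrime q.asIdeal) (LocalizedModule q.asIdeal.primeCompl M)).toNat : ℤ) * CycAlg.ordFrac (A ⧸ q.asIdeal) q.asIdeal.ResidueField (algebraMap A q.asIdeal.ResidueField a / algebraMap A q.asIdeal.ResidueField b) =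
      ∑ q ∈ (finite_T hA).toFinset, ((ellq M q).toNat : ℤ) * (((c a q).toNat : ℤ) - ((c b q).toNat : ℤ)) := by
    have hset : {q : PrimeSpectrum A | q.asIdeal ∈ minimalPrimes A} = T A := by
      ext q
      exact mem_minimalPrimes_iff_ne_maximalIdeal hA q
    rw [← finsum_mem_eq_finite_toFinset_sum _ (finite_T hA)]
    refine finsum_mem_congr hset ?_
    intro q hq
    have hqmin : q.asIdeal ∈ minimalPrimes A := (mem_minimalPrimes_iff_ne_maximalIdeal hA q).mpr hq
    rw [ordFrac_div_eq hA.le q a b (hamin _ hqmin) (hbmin _ hqmin)]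
    rfl
  rw [hsum]
  simp only [mul_sub, Finset.sum_sub_distrib]
  rw [← ta, ← tb]
  -- integer arithmetic
  rw [e2] at e1
  generalize Module.length A (M ⧸ P) = LP at *
  generalize Module.length A (M ⧸ I • (⊤ : Submodule A M)) = LI at *
  generalize Module.length A (M ⧸ a • (⊤ : Submodule A M)) = La at *
  generalize Module.length A (M ⧸ b • (⊤ : Submodule A M)) = Lb at *
  lift LP to ℕ using hLP
  lift LI to ℕ using hLI
  lift La to ℕ using fa
  lift Lb to ℕ using fb
  simp only [ENat.toNat_natCast]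
  have : LI + La = LP + Lb := by exact_mod_cast e1
  omega

end Groth.Agent.Lib.LenQuotFormula3
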