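import Mathlib
import Groth.Agent.Lib.LenQuotFormula3
import Groth.Agent.Lib.LengthKerCoker
set_option maxHeartbeats 400000
set_option autoImplicit false
set_option linter.style.haveILetI false
universe u
open Pointwise TensorProduct

namespace Groth.Agent.Lib.EulerMinPrimes
open IsLocalRing Groth.Agent.Lib.PerHex Groth.Agent.Lib.LenQuotFormula
  Groth.Agent.Lib.LenQuotFormula2 Groth.Agent.Lib.LenQuotFormula3
  Groth.Agent.Lib.FiniteLengthSupport

variable {A : Type u} [CommRing A]

section perH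
variable {X : Type u} [AddCommGroup X] [Module A X] (φ : X →ₗ[A] X)

theorem length_perH_zero_right :
    Module.length A (CycAlg.perH φ (0 : X →ₗ[A] X)) = Module.length A (LinearMap.ker φ) := by
  refine (Submodule.quotEquivOfEqBot _ ?_).length_eq
  rw [LinearMap.range_zero]
  ext y
  simp [Submodule.submoduleOf]

theorem length_perH_zero_left :
    Module.length A (CycAlg.perH (0 : X →ₗ[A] X) φ) =
      Module.length A (X ⧸ LinearMap.range φ) := by
  let π : X →ₗ[A] CycAlg.perH (0 : X →ₗ[A] X) φ :=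
    (Submodule.mkQ _).comp (LinearMap.codRestrict (LinearMap.ker (0 : X →ₗ[A] X)) LinearMap.id
      (fun n => by simp))
  have hπ : Function.Surjective π := by
    intro y
    obtain ⟨⟨n, hn⟩, rfl⟩ := Submodule.mkQ_surjective _ y
    exact ⟨n, rfl⟩
  have hk : LinearMap.ker π = LinearMap.range φ := by
    ext n
    rw [LinearMap.mem_ker]
    change Submodule.Quotient.mk _ = 0 ↔ _
    rw [Submodule.Quotient.mk_eq_zero]
    rfl
  exact ((Submodule.quotEquivOfEq _ _ hk).symm ≪≫ₗ
    LinearMap.quotKerEquivOfSurjective π hπ).length_eq.symm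

end perH

section six
variable {M : Type u} [AddCommGroup M] [Module A M] [Module.Flat A M] (u : M →ₗ[A] M)
variable {N₁ N₂ N₃ : Type u} [AddCommGroup N₁] [Module A N₁] [AddCommGroup N₂] [Module A N₂]
  [AddCommGroup N₃] [Module A N₃]

/-- kernel length of `u ⊗ N`. -/
noncomputable def kk (N : Type u) [AddCommGroup N] [Module A N] : ℕ∞ :=
  Module.length A (LinearMap.ker (u.lTensor N))

/-- cokernel length of `u ⊗ N`. -/
noncomputable def cc (N : Type u) [AddCommGroup N] [Module A N] : ℕ∞ :=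
  Module.length A ((N ⊗[A] M) ⧸ LinearMap.range (u.lTensor N))

theorem six_term_tensor (f : N₁ →ₗ[A] N₂) (g : N₂ →ₗ[A] N₃) (hf : Function.Injective f)
    (hg : Function.Surjective g) (hfg : Function.Exact f g) :
    (kk u N₁ + kk u N₃ + cc u N₂ = kk u N₂ + cc u N₁ + cc u N₃) ∧
    kk u N₂ ≤ kk u N₁ + kk u N₃ ∧ cc u N₂ ≤ cc u N₁ + cc u N₃ := by
  have hp : ∀ (N : Type u) [AddCommGroup N] [Module A N],
      CycAlg.IsPeriodic (u.lTensor N) (0 : N ⊗[A] M →ₗ[A] N ⊗[A] M) := fun N _ _ =>
    ⟨LinearMap.comp_zero _, LinearMap.zero_comp _⟩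
  have hinj : Function.Injective (f.rTensor M) :=
    Module.Flat.rTensor_preserves_injective_linearMap f hf
  have hsurj : Function.Surjective (g.rTensor M) := LinearMap.rTensor_surjective M hg
  have hex : Function.Exact (f.rTensor M) (g.rTensor M) := rTensor_exact M hfg hg
  have hr : LinearMap.range (f.rTensor M) = LinearMap.ker (g.rTensor M) :=
    (LinearMap.exact_iff.mp hex).symm
  have H := hexagon (hp N₁) (hp N₂) (hp N₃) (f.rTensor M) (f.rTensor M) (g.rTensor M)
    (g.rTensor M) ((LinearMap.lTensor_comp_rTensor _ f u).trans (LinearMap.rTensor_comp_lTensor _ f u).symm)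
    (by simp) ((LinearMap.lTensor_comp_rTensor _ g u).trans (LinearMap.rTensor_comp_lTensor _ g u).symm)
    (by simp) hinj hinj hsurj hsurj hr hr
  simp only [length_perH_zero_right, length_perH_zero_left] at H
  exact ⟨H.1, H.2.2.1, H.2.2.2.2.2.1⟩

end six

section main
variable [IsLocalRing A] [IsNoetherianRing A] (hA : ringKrullDim A = 1)
variable {M : Type u} [AddCommGroup M] [Module A M] [Module.Flat A M] [Module.Finite A M]
  (u : M →ₗ[A] M)

/-- weighted sum of the kernel lengths over the non-maximal primes. -/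
noncomputable def sumK (N : Type u) [AddCommGroup N] [Module A N] : ℕ∞ :=
  ∑ q ∈ (finite_T hA).toFinset, ellq N q * kk u (A ⧸ q.asIdeal)

/-- weighted sum of the cokernel lengths over the non-maximal primes. -/
noncomputable def sumC (N : Type u) [AddCommGroup N] [Module A N] : ℕ∞ :=
  ∑ q ∈ (finite_T hA).toFinset, ellq N q * cc u (A ⧸ q.asIdeal)

variable {N₁ N₂ N₃ : Type u} [AddCommGroup N₁] [Module A N₁] [AddCommGroup N₂] [Module A N₂]
  [AddCommGroup N₃] [Module A N₃]

/-- the property proved by dévissage. -/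
def P (N : Type u) [AddCommGroup N] [Module A N] : Prop :=
  kk u N < ⊤ ∧ cc u N < ⊤ ∧ kk u N + sumC hA u N = cc u N + sumK hA u N

theorem P_step (f : N₁ →ₗ[A] N₂) (g : N₂ →ₗ[A] N₃) (hf : Function.Injective f)
    (hg : Function.Surjective g) (hfg : Function.Exact f g) (P1 : P hA u N₁) (P3 : P hA u N₃) :
    P hA u N₂ := by
  obtain ⟨E, ik, ic⟩ := six_term_tensor u f g hf hg hfg
  obtain ⟨fk1, fc1, e1⟩ := P1
  obtain ⟨fk3, fc3, e3⟩ := P3
  have hsK : sumK hA u N₂ = sumK hA u N₁ + sumK hA u N₃ := by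
    unfold sumK
    rw [← Finset.sum_add_distrib]
    refine Finset.sum_congr rfl fun q _ => ?_
    rw [ellq_add_of_exact f g hf hg hfg q, add_mul]
  have hsC : sumC hA u N₂ = sumC hA u N₁ + sumC hA u N₃ := by
    unfold sumC
    rw [← Finset.sum_add_distrib]
    refine Finset.sum_congr rfl fun q _ => ?_
    rw [ellq_add_of_exact f g hf hg hfg q, add_mul]
  refine ⟨ik.trans_lt (ENat.add_lt_top.mpr ⟨fk1, fk3⟩),
    ic.trans_lt (ENat.add_lt_top.mpr ⟨fc1, fc3⟩), ?_⟩
  rw [hsK, hsC]
  apply ENat.add_left_injective_of_ne_top (ENat.add_lt_top.mpr ⟨fc1, fc3⟩).ne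
  show kk u N₂ + (sumC hA u N₁ + sumC hA u N₃) + (cc u N₁ + cc u N₃) =
    cc u N₂ + (sumK hA u N₁ + sumK hA u N₃) + (cc u N₁ + cc u N₃)
  have h1 : kk u N₂ + (sumC hA u N₁ + sumC hA u N₃) + (cc u N₁ + cc u N₃) =
      (kk u N₂ + cc u N₁ + cc u N₃) + sumC hA u N₁ + sumC hA u N₃ := by ring
  rw [h1, ← E]
  have h2 : kk u N₁ + kk u N₃ + cc u N₂ + sumC hA u N₁ + sumC hA u N₃ =
      cc u N₂ + (kk u N₁ + sumC hA u N₁) + (kk u N₃ + sumC hA u N₃) := by ring
  rw [h2, e1, e3]
  ring

omit [Module.Flat A M] in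
theorem P_of_subsingleton (N : Type u) [AddCommGroup N] [Module A N] [Subsingleton N] :
    P hA u N := by
  have h1 : kk u N = 0 := by
    unfold kk
    rw [Module.length_eq_zero_iff]
    infer_instance
  have h2 : cc u N = 0 := by
    unfold cc
    rw [Module.length_eq_zero_iff]
    infer_instance
  have h3 : ∀ q : PrimeSpectrum A, ellq N q = 0 := fun q => by
    rw [ellq_eq_zero_iff, Module.support_eq_empty]
    exact Set.notMem_empty q
  refine ⟨by rw [h1]; simp, by rw [h2]; simp, ?_⟩
  unfold sumK sumC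
  simp [h1, h2, h3]

omit [Module.Flat A M] [Module.Finite A M] in
theorem smul_quot_tensor_eq_zero (p : Ideal A) {x : A} (hx : x ∈ p) (t : (A ⧸ p) ⊗[A] M) :
    x • t = 0 := by
  induction t using TensorProduct.induction_on with
  | zero => exact smul_zero _
  | tmul a m =>
    rw [TensorProduct.smul_tmul']
    obtain ⟨b, rfl⟩ := Ideal.Quotient.mk_surjective a
    have : x • (Ideal.Quotient.mk p b) = 0 := by
      rw [Algebra.smul_def]
      have : algebraMap A (A ⧸ p) x = 0 := Ideal.Quotient.eq_zero_iff_mem.mpr hx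
      rw [this, zero_mul]
    rw [this, TensorProduct.zero_tmul]
  | add a b ha hb => rw [smul_add, ha, hb, add_zero]

include hA in
omit [IsNoetherianRing A] in
theorem ellq_quot_eq_zero {p q : PrimeSpectrum A} (hq : q ∈ T A) (hqp : q ≠ p) :
    ellq (A ⧸ p.asIdeal) q = 0 := by
  rw [ellq_eq_zero_iff]
  intro hmem
  have hpq : p.asIdeal ≤ q.asIdeal := (mem_support_quotient_iff _ _).mp hmem
  exact not_three_chain hA (lt_of_le_of_ne hpq (Ne.symm hqp)) (lt_closedPoint hq)

theorem P_quot (H : ∀ q ∈ T A, kk u (A ⧸ q.asIdeal) < ⊤ ∧ cc u (A ⧸ q.asIdeal) < ⊤)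
    (p : PrimeSpectrum A) : P hA u (A ⧸ p.asIdeal) := by
  by_cases hp : p ∈ T A
  · obtain ⟨fk, fc⟩ := H p hp
    refine ⟨fk, fc, ?_⟩
    have hpF : p ∈ (finite_T hA).toFinset := (Set.Finite.mem_toFinset _).mpr hp
    have hK : sumK hA u (A ⧸ p.asIdeal) = kk u (A ⧸ p.asIdeal) := by
      unfold sumK
      rw [Finset.sum_eq_single p, ellq_quotient_prime, one_mul]
      · intro q hq hqp
        rw [ellq_quot_eq_zero hA ((Set.Finite.mem_toFinset _).mp hq) hqp, zero_mul]
      · intro h; exact absurd hpF h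
    have hC : sumC hA u (A ⧸ p.asIdeal) = cc u (A ⧸ p.asIdeal) := by
      unfold sumC
      rw [Finset.sum_eq_single p, ellq_quotient_prime, one_mul]
      · intro q hq hqp
        rw [ellq_quot_eq_zero hA ((Set.Finite.mem_toFinset _).mp hq) hqp, zero_mul]
      · intro h; exact absurd hpF h
    rw [hK, hC, add_comm]
  · have hpm : p.asIdeal = maximalIdeal A := not_not.mp hp
    have hK : sumK hA u (A ⧸ p.asIdeal) = 0 := by
      unfold sumK
      refine Finset.sum_eq_zero fun q hq => ?_
      have hqT := (Set.Finite.mem_toFinset _).mp hq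
      rw [ellq_quot_eq_zero hA hqT (fun h : q = p => hp (h ▸ hqT)), zero_mul]
    have hC : sumC hA u (A ⧸ p.asIdeal) = 0 := by
      unfold sumC
      refine Finset.sum_eq_zero fun q hq => ?_
      have hqT := (Set.Finite.mem_toFinset _).mp hq
      rw [ellq_quot_eq_zero hA hqT (fun h : q = p => hp (h ▸ hqT)), zero_mul]
    have hfin : Module.length A ((A ⧸ p.asIdeal) ⊗[A] M) < ⊤ := by
      apply length_lt_top_of_support
      intro q hq
      have h1 : p.asIdeal ≤ q.asIdeal := fun x hx =>
        Module.annihilator_le_of_mem_support hq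
          (Module.mem_annihilator.mpr (smul_quot_tensor_eq_zero p.asIdeal hx))
      rw [hpm] at h1
      exact le_antisymm (le_maximalIdeal q.isPrime.ne_top) h1
    have hkc : kk u (A ⧸ p.asIdeal) = cc u (A ⧸ p.asIdeal) :=
      Groth.Agent.Lib.LengthKerCoker.length_ker_eq_length_coker hfin.ne _
    have fk : kk u (A ⧸ p.asIdeal) < ⊤ :=
      (Module.length_le_of_injective _ (Submodule.subtype_injective _)).trans_lt hfin
    refine ⟨fk, hkc ▸ fk, ?_⟩
    rw [hK, hC, hkc]

theorem P_all (H : ∀ q ∈ T A, kk u (A ⧸ q.asIdeal) < ⊤ ∧ cc u (A ⧸ q.asIdeal) < ⊤)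
    (N : Type u) [AddCommGroup N] [Module A N] [Module.Finite A N] : P hA u N := by
  induction ‹Module.Finite A N› using IsNoetherianRing.induction_on_isQuotientEquivQuotientPrime with
  | subsingleton N => exact P_of_subsingleton hA u N
  | quotient N p e =>
    refine P_step hA u (0 : PUnit.{u+1} →ₗ[A] N) e.toLinearMap ?_ e.surjective ?_
      (P_of_subsingleton hA u _) (P_quot hA u H p)
    · intro a b _; exact Subsingleton.elim _ _
    · intro n
      constructor
      · intro hn
        refine ⟨0, ?_⟩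
        rw [LinearMap.zero_apply]
        exact (e.injective (by rw [map_zero]; exact hn)).symm
      · rintro ⟨a, rfl⟩
        rw [LinearMap.zero_apply]; exact map_zero _
  | exact N₁ N₂ N₃ f g hf hg hfg h₁ h₃ => exact P_step hA u f g hf hg hfg h₁ h₃

end main

section transport
variable {X Y : Type u} [AddCommGroup X] [Module A X] [AddCommGroup Y] [Module A Y]

theorem length_ker_eq_of_conj (e : X ≃ₗ[A] Y) (φ : X →ₗ[A] X) (ψ : Y →ₗ[A] Y)
    (h : e.toLinearMap ∘ₗ φ = ψ ∘ₗ e.toLinearMap) :
    Module.length A (LinearMap.ker φ) = Module.length A (LinearMap.ker ψ) := by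
  have hm : (LinearMap.ker φ).map e.toLinearMap = LinearMap.ker ψ := by
    ext y
    rw [Submodule.mem_map, LinearMap.mem_ker]
    constructor
    · rintro ⟨x, hx, rfl⟩
      have := LinearMap.congr_fun h x
      simp only [LinearMap.comp_apply] at this
      rw [← this, LinearMap.mem_ker.mp hx, map_zero]
    · intro hy
      refine ⟨e.symm y, ?_, by simp⟩
      rw [LinearMap.mem_ker]
      apply e.injective
      have := LinearMap.congr_fun h (e.symm y)
      simp only [LinearMap.comp_apply, LinearEquiv.coe_coe, LinearEquiv.apply_symm_apply] at this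
      rw [this, hy, map_zero]
  exact ((e.submoduleMap (LinearMap.ker φ)).trans (LinearEquiv.ofEq _ _ hm)).length_eq

theorem length_coker_eq_of_conj (e : X ≃ₗ[A] Y) (φ : X →ₗ[A] X) (ψ : Y →ₗ[A] Y)
    (h : e.toLinearMap ∘ₗ φ = ψ ∘ₗ e.toLinearMap) :
    Module.length A (X ⧸ LinearMap.range φ) = Module.length A (Y ⧸ LinearMap.range ψ) := by
  refine (Submodule.Quotient.equiv _ _ e ?_).length_eq
  rw [← LinearMap.range_comp, h, LinearMap.range_comp, LinearEquiv.range, Submodule.map_top]

end transport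

theorem enat_mul_ne_top {a b : ℕ∞} (ha : a ≠ ⊤) (hb : b ≠ ⊤) : a * b ≠ ⊤ := by
  lift a to ℕ using ha
  lift b to ℕ using hb
  exact_mod_cast ENat.coe_ne_top (a * b)

section final
variable [IsLocalRing A] [IsNoetherianRing A]

theorem ellq_self (q : PrimeSpectrum A) :
    ellq A q = Module.length (Localization.AtPrime q.asIdeal) (Localization.AtPrime q.asIdeal) := by
  unfold ellq
  exact (LinearEquiv.extendScalarsOfIsLocalization q.asIdeal.primeCompl
    (Localization.AtPrime q.asIdeal)
    (IsLocalizedModule.iso q.asIdeal.primeCompl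
      (Algebra.linearMap A (Localization.AtPrime q.asIdeal)))).length_eq

theorem length_localization_lt_top {q : PrimeSpectrum A} (hq : q.asIdeal ∈ minimalPrimes A) :
    Module.length (Localization.AtPrime q.asIdeal) (Localization.AtPrime q.asIdeal) < ⊤ := by
  have h0 : Ring.KrullDimLE 0 (Localization.AtPrime q.asIdeal) :=
    Ring.KrullDimLE.of_isLocalization q.asIdeal hq _
  have : IsArtinianRing (Localization.AtPrime q.asIdeal) :=
    isArtinianRing_iff_krullDimLE_zero.mpr h0
  exact Module.length_ne_top.lt_top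

theorem euler_char_formula (hdim : ringKrullDim A = 1)
    (M : Type u) [AddCommGroup M] [Module A M] [Module.Finite A M] [Module.Flat A M] (u : M →ₗ[A] M)
    (hi : ∀ p ∈ minimalPrimes A, Module.length A (LinearMap.ker (u.lTensor (A ⧸ p))) < ⊤ ∧
      Module.length A (TensorProduct A (A ⧸ p) M ⧸ LinearMap.range (u.lTensor (A ⧸ p))) < ⊤) :
    Module.length A (LinearMap.ker u) < ⊤ ∧ Module.length A (M ⧸ LinearMap.range u) < ⊤ ∧
    ((Module.length A (LinearMap.ker u)).toNat : ℤ) - (Module.length A (M ⧸ LinearMap.range u)).toNat =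
      ∑ᶠ (p : PrimeSpectrum A) (_ : p.asIdeal ∈ minimalPrimes A),
        ((Module.length (Localization.AtPrime p.asIdeal) (Localization.AtPrime p.asIdeal)).toNat : ℤ) *
          (((Module.length A (LinearMap.ker (u.lTensor (A ⧸ p.asIdeal)))).toNat : ℤ) -
            (Module.length A (TensorProduct A (A ⧸ p.asIdeal) M ⧸ LinearMap.range (u.lTensor (A ⧸ p.asIdeal)))).toNat) := by
  have H : ∀ q ∈ T A, kk u (A ⧸ q.asIdeal) < ⊤ ∧ cc u (A ⧸ q.asIdeal) < ⊤ := fun q hq =>
    hi _ ((mem_minimalPrimes_iff_ne_maximalIdeal hdim q).mpr hq)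
  obtain ⟨fk, fc, e⟩ := P_all hdim u H A
  have hconj : (TensorProduct.lid A M).toLinearMap ∘ₗ (u.lTensor A) =
      u ∘ₗ (TensorProduct.lid A M).toLinearMap := by
    ext m
    simp
  have ek : kk u A = Module.length A (LinearMap.ker u) :=
    length_ker_eq_of_conj (TensorProduct.lid A M) _ _ hconj
  have ec : cc u A = Module.length A (M ⧸ LinearMap.range u) :=
    length_coker_eq_of_conj (TensorProduct.lid A M) _ _ hconj
  rw [ek] at fk e
  rw [ec] at fc e
  refine ⟨fk, fc, ?_⟩
  have hset : {q : PrimeSpectrum A | q.asIdeal ∈ minimalPrimes A} = T A := by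
    ext q
    exact mem_minimalPrimes_iff_ne_maximalIdeal hdim q
  have hsum : ∑ᶠ (p : PrimeSpectrum A) (_ : p.asIdeal ∈ minimalPrimes A),
        ((Module.length (Localization.AtPrime p.asIdeal) (Localization.AtPrime p.asIdeal)).toNat : ℤ) *
          (((Module.length A (LinearMap.ker (u.lTensor (A ⧸ p.asIdeal)))).toNat : ℤ) -
            (Module.length A (TensorProduct A (A ⧸ p.asIdeal) M ⧸ LinearMap.range (u.lTensor (A ⧸ p.asIdeal)))).toNat) =
      ∑ q ∈ (finite_T hdim).toFinset, ((ellq A q).toNat : ℤ) *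
        (((kk u (A ⧸ q.asIdeal)).toNat : ℤ) - ((cc u (A ⧸ q.asIdeal)).toNat : ℤ)) := by
    rw [← finsum_mem_eq_finite_toFinset_sum _ (finite_T hdim)]
    refine finsum_mem_congr hset ?_
    intro q _
    rw [ellq_self]
    rfl
  rw [hsum]
  -- convert the ENat identity
  have hterm : ∀ q ∈ (finite_T hdim).toFinset,
      ellq A q ≠ ⊤ ∧ kk u (A ⧸ q.asIdeal) ≠ ⊤ ∧ cc u (A ⧸ q.asIdeal) ≠ ⊤ := by
    intro q hq
    have hqT := (Set.Finite.mem_toFinset _).mp hq
    have hqmin := (mem_minimalPrimes_iff_ne_maximalIdeal hdim q).mpr hqT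
    refine ⟨?_, (H q hqT).1.ne, (H q hqT).2.ne⟩
    rw [ellq_self]
    exact (length_localization_lt_top hqmin).ne
  have hK : ((sumK hdim u A).toNat : ℤ) = ∑ q ∈ (finite_T hdim).toFinset,
      ((ellq A q).toNat : ℤ) * ((kk u (A ⧸ q.asIdeal)).toNat : ℤ) := by
    unfold sumK
    rw [ENat.toNat_sum (fun q hq => enat_mul_ne_top (hterm q hq).1 (hterm q hq).2.1), Nat.cast_sum]
    refine Finset.sum_congr rfl fun q _ => ?_
    rw [ENat.toNat_mul, Nat.cast_mul]
  have hC : ((sumC hdim u A).toNat : ℤ) = ∑ q ∈ (finite_T hdim).toFinset,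
      ((ellq A q).toNat : ℤ) * ((cc u (A ⧸ q.asIdeal)).toNat : ℤ) := by
    unfold sumC
    rw [ENat.toNat_sum (fun q hq => enat_mul_ne_top (hterm q hq).1 (hterm q hq).2.2), Nat.cast_sum]
    refine Finset.sum_congr rfl fun q _ => ?_
    rw [ENat.toNat_mul, Nat.cast_mul]
  have hKf : sumK hdim u A ≠ ⊤ := by
    unfold sumK
    exact ENat.sum_ne_top.mpr
      (fun q hq => enat_mul_ne_top (hterm q hq).1 (hterm q hq).2.1)
  have hCf : sumC hdim u A ≠ ⊤ := by
    unfold sumC
    exact ENat.sum_ne_top.mpr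
      (fun q hq => enat_mul_ne_top (hterm q hq).1 (hterm q hq).2.2)
  simp only [mul_sub, Finset.sum_sub_distrib]
  rw [← hK, ← hC]
  generalize Module.length A (LinearMap.ker u) = k at *
  generalize Module.length A (M ⧸ LinearMap.range u) = c at *
  generalize sumK hdim u A = sk at *
  generalize sumC hdim u A = sc at *
  lift k to ℕ using fk.ne
  lift c to ℕ using fc.ne
  lift sk to ℕ using hKf
  lift sc to ℕ using hCf
  simp only [ENat.toNat_natCast]
  have : k + sc = c + sk := by exact_mod_cast e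
  omega

end final

end Groth.Agent.Lib.EulerMinPrimes
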