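import Mathlib
import Groth.Agent.S14502
import Groth.Agent.Lib.EulerMinPrimes
import Groth.Agent.Lib.PerHex4
set_option maxHeartbeats 800000
set_option autoImplicit false
set_option linter.style.haveILetI false
universe u
open Pointwise TensorProduct

namespace Groth.Agent.Lib.DetLength
open IsLocalRing Groth.Agent.Lib.PerHex3 Groth.Agent.Lib.PerHex4

section domain
variable (D : Type u) [CommRing D] [IsDomain D] [IsNoetherianRing D] [IsLocalRing D]
  (hD : ringKrullDim D = 1)

include hD in
/-- T1 (concrete): cokernel length of a square matrix with nonzero determinant over a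
one-dimensional Noetherian local domain. -/
theorem length_coker_matrix_domain {n : ℕ} (Ψ : Matrix (Fin n) (Fin n) D) (hdet : Ψ.det ≠ 0) :
    Module.length D ((Fin n → D) ⧸ LinearMap.range (Matrix.toLin' Ψ)) = Ring.ord D Ψ.det := by
  let K := FractionRing D
  let V := Fin n → K
  let ι : (Fin n → D) →ₗ[D] V := (Algebra.linearMap D K).compLeft (Fin n)
  have hι : Function.Injective ι := by
    intro v w hvw
    funext i
    have := congrFun hvw i
    exact IsFractionRing.injective D K this
  have hιapp : ∀ (w : Fin n → D) (j : Fin n), ι w j = algebraMap D K (w j) := fun _ _ => rfl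
  let M : Submodule D V := LinearMap.range ι
  let ΨK : Matrix (Fin n) (Fin n) K := Ψ.map (algebraMap D K)
  have hdetK : ΨK.det = algebraMap D K Ψ.det := (RingHom.map_det _ _).symm
  have hne : LinearMap.det (Matrix.toLin' ΨK) ≠ 0 := by
    rw [LinearMap.det_toLin', hdetK]
    exact (map_ne_zero_iff _ (IsFractionRing.injective D K)).mpr hdet
  let φ : V ≃ₗ[K] V := LinearMap.equivOfDetNeZero (Matrix.toLin' ΨK) hne
  have hφ : ∀ v : Fin n → D, φ (ι v) = ι (Matrix.toLin' Ψ v) := by
    intro v
    change Matrix.toLin' ΨK (ι v) = _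
    funext i
    rw [hιapp]
    simp only [Matrix.toLin'_apply, Matrix.mulVec, dotProduct, hιapp,
      ΨK, Matrix.map_apply, map_sum, map_mul]
  haveI : Submodule.IsLattice K M := by
    constructor
    · have h := Submodule.FG.map ι (Module.Finite.fg_top (R := D) (M := Fin n → D))
      rwa [Submodule.map_top] at h
    · rw [eq_top_iff]
      intro v _
      have hv : v = ∑ i, v i • (ι (Pi.single i 1)) := by
        funext j
        rw [Finset.sum_apply]
        have hc : ∀ c, (v c • ι (Pi.single c 1)) j = if j = c then v c else 0 := by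
          intro c
          change v c * algebraMap D K ((Pi.single c (1 : D) : Fin n → D) j) = _
          rw [Pi.single_apply]
          split_ifs <;> simp
        rw [Finset.sum_congr rfl (fun c _ => hc c)]
        simp
      rw [hv]
      refine Submodule.sum_mem _ fun i _ => Submodule.smul_mem _ _ (Submodule.subset_span ?_)
      exact ⟨Pi.single i 1, rfl⟩
  obtain ⟨-, f1, -, eq⟩ := Groth.Agent.S14502.result D hD K V M φ
  set φM : Submodule D V := M.map (φ.toLinearMap.restrictScalars D) with hφM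
  have hle : φM ≤ M := by
    rintro _ ⟨_, ⟨v, rfl⟩, rfl⟩
    exact ⟨Matrix.toLin' Ψ v, (hφ v).symm⟩
  have hinf : M ⊓ φM = φM := inf_eq_right.mpr hle
  rw [hinf] at eq f1
  have h0 : Module.length D (↥φM ⧸ φM.submoduleOf φM) = 0 :=
    length_sq_eq_zero_of_le (le_refl φM)
  rw [h0] at eq
  have hdetφ : LinearMap.det φ.toLinearMap = algebraMap D K Ψ.det := by
    change LinearMap.det (Matrix.toLin' ΨK) = _
    rw [LinearMap.det_toLin', hdetK]
  rw [hdetφ, Groth.Agent.S14502.ordFrac_algebraMap D hD K hdet] at eq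
  -- identify the quotient
  let e : (Fin n → D) ≃ₗ[D] ↥M := LinearEquiv.ofInjective ι hι
  have hmap : (LinearMap.range (Matrix.toLin' Ψ)).map (e : (Fin n → D) →ₗ[D] ↥M) =
      φM.submoduleOf M := by
    ext ⟨x, hx⟩
    constructor
    · rintro ⟨_, ⟨v, rfl⟩, hv⟩
      change x ∈ φM
      have : x = ι (Matrix.toLin' Ψ v) := by
        have := congrArg Subtype.val hv
        exact this.symm
      rw [this, ← hφ]
      exact ⟨ι v, ⟨v, rfl⟩, rfl⟩
    · intro hx'
      change x ∈ φM at hx'
      obtain ⟨_, ⟨v, rfl⟩, rfl⟩ := hx'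
      refine ⟨Matrix.toLin' Ψ v, ⟨v, rfl⟩, ?_⟩
      apply Subtype.ext
      exact (hφ v).symm
  have hlen : Module.length D ((Fin n → D) ⧸ LinearMap.range (Matrix.toLin' Ψ)) =
      Module.length D (↥M ⧸ φM.submoduleOf M) :=
    (Submodule.Quotient.equiv _ _ e hmap).length_eq
  haveI := Groth.Agent.S14502.krullDimLE_one D hD
  have hordne : Ring.ord D Ψ.det ≠ ⊤ := Ring.ord_ne_top (mem_nonZeroDivisors_of_ne_zero hdet)
  rw [hlen]
  rw [Ring.ord] at hordne ⊢
  have h1 : (Module.length D (↥M ⧸ φM.submoduleOf M)).toNat =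
      (Module.length D (D ⧸ Ideal.span {Ψ.det})).toNat := by
    have : ((Module.length D (↥M ⧸ φM.submoduleOf M)).toNat : ℤ) =
        ((Module.length D (D ⧸ Ideal.span {Ψ.det})).toNat : ℤ) := by
      simpa using eq
    exact_mod_cast this
  rw [← ENat.natCast_toNat f1.ne, ← ENat.natCast_toNat hordne, h1]

end domain

section conj
variable {R : Type u} [CommRing R] [Nontrivial R] {Q : Type u} [AddCommGroup Q] [Module R Q]
  [Module.Free R Q] [Module.Finite R Q]

theorem exists_matrix_conj (u : Q →ₗ[R] Q) :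
    ∃ (n : ℕ) (Ψ : Matrix (Fin n) (Fin n) R) (e : Q ≃ₗ[R] (Fin n → R)),
      Ψ.det = LinearMap.det u ∧ e.toLinearMap ∘ₗ u = Matrix.toLin' Ψ ∘ₗ e.toLinearMap := by
  let b := Module.finBasis R Q
  refine ⟨_, LinearMap.toMatrix b b u, b.equivFun, LinearMap.det_toMatrix b u, ?_⟩
  ext x : 1
  simp only [LinearMap.comp_apply, LinearEquiv.coe_coe, Matrix.toLin'_apply,
    Module.Basis.equivFun_apply]
  exact (LinearMap.toMatrix_mulVec_repr b b u x).symm

theorem injective_of_det_mem_nonZeroDivisors (u : Q →ₗ[R] Q)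
    (h : LinearMap.det u ∈ nonZeroDivisors R) : Function.Injective u := by
  obtain ⟨n, Ψ, e, hdet, hconj⟩ := exists_matrix_conj u
  have hinj : Function.Injective (Matrix.toLin' Ψ) :=
    Matrix.mulVec_injective_of_det_mem_nonZeroDivisors (hdet ▸ h)
  intro x y hxy
  apply e.injective
  apply hinj
  have h1 := LinearMap.congr_fun hconj x
  have h2 := LinearMap.congr_fun hconj y
  simp only [LinearMap.comp_apply, LinearEquiv.coe_coe] at h1 h2
  rw [← h1, ← h2, hxy]

end conj

section domain2
variable (D : Type u) [CommRing D] [IsDomain D] [IsNoetherianRing D] [IsLocalRing D]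
  (hD : ringKrullDim D = 1)

include hD in
/-- T1 (abstract) -/
theorem length_coker_domain (Q : Type u) [AddCommGroup Q] [Module D Q]
    [Module.Free D Q] [Module.Finite D Q] (u : Q →ₗ[D] Q) (h : LinearMap.det u ≠ 0) :
    Module.length D (Q ⧸ LinearMap.range u) = Ring.ord D (LinearMap.det u) := by
  obtain ⟨n, Ψ, e, hdet, hconj⟩ := exists_matrix_conj u
  rw [Groth.Agent.Lib.EulerMinPrimes.length_coker_eq_of_conj e u _ hconj, ← hdet]
  exact length_coker_matrix_domain D hD Ψ (hdet ▸ h)

end domain2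

section local1
variable {B : Type u} [CommRing B] [IsNoetherianRing B] [IsLocalRing B]

theorem ringKrullDim_quot_eq_one (hB : ringKrullDim B = 1) (p : Ideal B) [p.IsPrime]
    (hp : p ∈ minimalPrimes B) : ringKrullDim (B ⧸ p) = 1 := by
  have hne : p ≠ maximalIdeal B :=
    (Groth.Agent.Lib.LenQuotFormula2.mem_minimalPrimes_iff_ne_maximalIdeal hB ⟨p, inferInstance⟩).mp hp
  have hle : ringKrullDim (B ⧸ p) ≤ 1 := hB ▸ ringKrullDim_quotient_le p
  have hnot : ¬ ringKrullDim (B ⧸ p) ≤ 0 := by
    intro h0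
    have : Ring.KrullDimLE 0 (B ⧸ p) := Ring.krullDimLE_iff.mpr h0
    have hf : IsField (B ⧸ p) := Ring.KrullDimLE.isField_of_isDomain
    have hmax : p.IsMaximal := Ideal.Quotient.maximal_of_isField p hf
    exact hne (IsLocalRing.eq_maximalIdeal hmax)
  exact le_antisymm hle (Order.succ_le_of_lt (lt_of_not_ge hnot))

variable (P : Type u) [AddCommGroup P] [Module B P] [Module.Free B P] [Module.Finite B P]

theorem perprime (hB : ringKrullDim B = 1) (p : Ideal B) [p.IsPrime]
    (hp : p ∈ minimalPrimes B) (u : P →ₗ[B] P) (hd : LinearMap.det u ∉ p) :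
    Function.Injective (u.lTensor (B ⧸ p)) ∧
    Module.length B (((B ⧸ p) ⊗[B] P) ⧸ LinearMap.range (u.lTensor (B ⧸ p))) =
      Ring.ord (B ⧸ p) (Ideal.Quotient.mk p (LinearMap.det u)) := by
  have hD := ringKrullDim_quot_eq_one hB p hp
  let D := B ⧸ p
  haveI : IsLocalRing D :=
    IsLocalRing.of_surjective' (Ideal.Quotient.mk p) Ideal.Quotient.mk_surjective
  let ū : (D ⊗[B] P) →ₗ[D] (D ⊗[B] P) := u.baseChange D
  have hdet : LinearMap.det ū = Ideal.Quotient.mk p (LinearMap.det u) :=
    LinearMap.det_baseChange u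
  have hne : LinearMap.det ū ≠ 0 := by
    rw [hdet]
    intro h0
    exact hd (Ideal.Quotient.eq_zero_iff_mem.mp h0)
  have hcoe : ∀ x, ū x = u.lTensor D x := fun x => rfl
  constructor
  · have := injective_of_det_mem_nonZeroDivisors ū (mem_nonZeroDivisors_of_ne_zero hne)
    intro x y hxy
    exact this hxy
  · have h1 := length_coker_domain D hD (D ⊗[B] P) ū hne
    rw [hdet] at h1
    rw [← h1]
    have hrange : (LinearMap.range ū).restrictScalars B = LinearMap.range (u.lTensor D) := by
      ext x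
      simp only [Submodule.restrictScalars_mem, LinearMap.mem_range, hcoe]
    rw [← Module.length_eq_of_surjective (S := B) (R := D)
      (M := (D ⊗[B] P) ⧸ LinearMap.range ū) Ideal.Quotient.mk_surjective]
    exact ((Submodule.quotEquivOfEq _ _ hrange.symm).trans
      (Submodule.Quotient.restrictScalarsEquiv B (LinearMap.range ū))).length_eq

theorem euler_of_nzd (hB : ringKrullDim B = 1) (u : P →ₗ[B] P)
    (hnzd : LinearMap.det u ∈ nonZeroDivisors B) :
    Module.length B (P ⧸ LinearMap.range u) < ⊤ ∧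
    - ((Module.length B (P ⧸ LinearMap.range u)).toNat : ℤ) =
      ∑ᶠ (p : PrimeSpectrum B) (_ : p.asIdeal ∈ minimalPrimes B),
        ((Module.length (Localization.AtPrime p.asIdeal) (Localization.AtPrime p.asIdeal)).toNat : ℤ) *
          (0 - ((Ring.ord (B ⧸ p.asIdeal) (Ideal.Quotient.mk p.asIdeal (LinearMap.det u))).toNat : ℤ)) := by
  have hnot : ∀ p ∈ minimalPrimes B, LinearMap.det u ∉ p := fun p hp hmem =>
    Set.disjoint_left.mp (Ideal.disjoint_nonZeroDivisors_of_mem_minimalPrimes hp) hmem hnzd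
  have hker : ∀ p ∈ minimalPrimes B, Module.length B (LinearMap.ker (u.lTensor (B ⧸ p))) = 0 := by
    intro p hp
    haveI := hp.1.1
    rw [LinearMap.ker_eq_bot.mpr (perprime P hB p hp u (hnot p hp)).1]
    exact Module.length_bot
  have hcok : ∀ p ∈ minimalPrimes B,
      Module.length B (((B ⧸ p) ⊗[B] P) ⧸ LinearMap.range (u.lTensor (B ⧸ p))) =
        Ring.ord (B ⧸ p) (Ideal.Quotient.mk p (LinearMap.det u)) := by
    intro p hp
    haveI := hp.1.1
    exact (perprime P hB p hp u (hnot p hp)).2
  have hfin : ∀ p ∈ minimalPrimes B,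
      Ring.ord (B ⧸ p) (Ideal.Quotient.mk p (LinearMap.det u)) < ⊤ := by
    intro p hp
    haveI := hp.1.1
    haveI := Groth.Agent.S14502.krullDimLE_one (B ⧸ p) (ringKrullDim_quot_eq_one hB p hp)
    refine Ring.ord_lt_top (mem_nonZeroDivisors_of_ne_zero ?_)
    intro h0
    exact hnot p hp (Ideal.Quotient.eq_zero_iff_mem.mp h0)
  obtain ⟨-, c1, e1⟩ := Groth.Agent.Lib.EulerMinPrimes.euler_char_formula hB P u (by
    intro p hp
    rw [hker p hp, hcok p hp]
    exact ⟨by simp, hfin p hp⟩)
  refine ⟨c1, ?_⟩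
  have hk0 : Module.length B (LinearMap.ker u) = 0 := by
    rw [LinearMap.ker_eq_bot.mpr (injective_of_det_mem_nonZeroDivisors u hnzd)]
    exact Module.length_bot
  rw [hk0] at e1
  simp only [ENat.toNat_zero, Nat.cast_zero, zero_sub] at e1
  rw [e1]
  refine finsum_congr fun p => finsum_congr fun hp => ?_
  rw [hker _ hp, hcok _ hp]
  simp

theorem length_coker_eq_of_det_eq (hB : ringKrullDim B = 1)
    (P' : Type u) [AddCommGroup P'] [Module B P'] [Module.Free B P'] [Module.Finite B P']
    (u : P →ₗ[B] P) (u' : P' →ₗ[B] P')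
    (hdet : LinearMap.det u = LinearMap.det u') (hnzd : LinearMap.det u ∈ nonZeroDivisors B) :
    Module.length B (P ⧸ LinearMap.range u) = Module.length B (P' ⧸ LinearMap.range u') := by
  obtain ⟨f1, e1⟩ := euler_of_nzd P hB u hnzd
  obtain ⟨f2, e2⟩ := euler_of_nzd P' hB u' (hdet ▸ hnzd)
  rw [← hdet, ← e1] at e2
  have : (Module.length B (P ⧸ LinearMap.range u)).toNat =
      (Module.length B (P' ⧸ LinearMap.range u')).toNat := by
    have h := neg_injective e2
    exact_mod_cast h.symm
  rw [← ENat.natCast_toNat f1.ne, ← ENat.natCast_toNat f2.ne, this]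

theorem length_coker_eq_ord_of_dim_one (hB : ringKrullDim B = 1) (u : P →ₗ[B] P)
    (hnzd : LinearMap.det u ∈ nonZeroDivisors B) :
    Module.length B (P ⧸ LinearMap.range u) = Ring.ord B (LinearMap.det u) := by
  set d := LinearMap.det u with hd
  have hdet' : LinearMap.det (d • (LinearMap.id : B →ₗ[B] B)) = d := by
    rw [LinearMap.det_smul, Module.finrank_self, pow_one, LinearMap.det_id, mul_one]
  rw [length_coker_eq_of_det_eq P hB B u (d • LinearMap.id) hdet'.symm hnzd, Ring.ord]
  refine (Submodule.quotEquivOfEq _ _ ?_).length_eq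
  ext x
  rw [LinearMap.mem_range, Ideal.mem_span_singleton']
  constructor
  · rintro ⟨y, rfl⟩
    exact ⟨y, by simp [mul_comm]⟩
  · rintro ⟨y, rfl⟩
    exact ⟨y, by simp [mul_comm]⟩

end local1

end Groth.Agent.Lib.DetLength
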