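import Mathlib
import Groth.Agent.Lib.DetLength1
import Groth.Agent.Lib.FiniteLengthSupport
set_option maxHeartbeats 800000
set_option autoImplicit false
set_option linter.style.haveILetI false
universe u
open Pointwise TensorProduct

namespace Groth.Agent.Lib.DetLength
open IsLocalRing

section support
variable {R : Type u} [CommRing R]

theorem det_smul_mem_range {n : ℕ} (Ψ : Matrix (Fin n) (Fin n) R) (v : Fin n → R) :
    Ψ.det • v ∈ LinearMap.range (Matrix.toLin' Ψ) := by
  refine ⟨Ψ.adjugate.mulVec v, ?_⟩
  rw [Matrix.toLin'_apply, Matrix.mulVec_mulVec, Matrix.mul_adjugate, Matrix.smul_mulVec,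
    Matrix.one_mulVec]

theorem det_dvd_pow_of_smul_mem_range {n : ℕ} (Ψ : Matrix (Fin n) (Fin n) R) (s : R)
    (h : ∀ v : Fin n → R, s • v ∈ LinearMap.range (Matrix.toLin' Ψ)) : Ψ.det ∣ s ^ n := by
  choose w hw using fun i : Fin n => h (Pi.single i 1)
  let W : Matrix (Fin n) (Fin n) R := Matrix.of fun j i => w i j
  have hW : Ψ * W = s • (1 : Matrix (Fin n) (Fin n) R) := by
    ext i j
    have := congrFun (hw j) i
    simp only [Matrix.toLin'_apply, Matrix.mulVec, dotProduct] at this
    simp only [Matrix.mul_apply, W, Matrix.of_apply, Matrix.smul_apply, Matrix.one_apply]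
    rw [this]
    simp [Pi.single_apply]
  have := congrArg Matrix.det hW
  rw [Matrix.det_mul, Matrix.det_smul, Matrix.det_one, mul_one, Fintype.card_fin] at this
  exact ⟨W.det, this.symm⟩

theorem support_coker_matrix {n : ℕ} (Ψ : Matrix (Fin n) (Fin n) R) :
    Module.support R ((Fin n → R) ⧸ LinearMap.range (Matrix.toLin' Ψ)) =
      PrimeSpectrum.zeroLocus {Ψ.det} := by
  ext p
  rw [Module.mem_support_iff_of_finite, PrimeSpectrum.mem_zeroLocus, Set.singleton_subset_iff,
    SetLike.mem_coe]
  constructor
  · intro h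
    apply h
    rw [Module.mem_annihilator]
    intro x
    obtain ⟨v, rfl⟩ := Submodule.Quotient.mk_surjective _ x
    rw [← Submodule.Quotient.mk_smul, Submodule.Quotient.mk_eq_zero]
    exact det_smul_mem_range Ψ v
  · intro hd s hs
    rw [Module.mem_annihilator] at hs
    have hdvd := det_dvd_pow_of_smul_mem_range Ψ s (fun v => by
      have := hs (Submodule.Quotient.mk v)
      rwa [← Submodule.Quotient.mk_smul, Submodule.Quotient.mk_eq_zero] at this)
    exact p.isPrime.mem_of_pow_mem n (Ideal.mem_of_dvd _ hdvd hd)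

variable [Nontrivial R] (Q : Type u) [AddCommGroup Q] [Module R Q] [Module.Free R Q]
  [Module.Finite R Q]

theorem support_coker (u : Q →ₗ[R] Q) :
    Module.support R (Q ⧸ LinearMap.range u) = PrimeSpectrum.zeroLocus {LinearMap.det u} := by
  obtain ⟨n, Ψ, e, hdet, hconj⟩ := exists_matrix_conj u
  have hmap : (LinearMap.range u).map (e : Q →ₗ[R] (Fin n → R)) =
      LinearMap.range (Matrix.toLin' Ψ) := by
    rw [← LinearMap.range_comp, hconj, LinearMap.range_comp, LinearEquiv.range, Submodule.map_top]
  rw [(Submodule.Quotient.equiv _ _ e hmap).support_eq, support_coker_matrix, hdet]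

theorem support_coker_eq (u : Q →ₗ[R] Q) :
    Module.support R (Q ⧸ LinearMap.range u) =
      Module.support R (R ⧸ Ideal.span {LinearMap.det u}) := by
  rw [support_coker]
  ext p
  rw [Groth.Agent.Lib.FiniteLengthSupport.mem_support_quotient_iff, PrimeSpectrum.mem_zeroLocus,
    Set.singleton_subset_iff, Ideal.span_singleton_le_iff_mem, SetLike.mem_coe]

theorem length_coker_lt_top_iff [IsNoetherianRing R] (u : Q →ₗ[R] Q) :
    Module.length R (Q ⧸ LinearMap.range u) < ⊤ ↔
      Module.length R (R ⧸ Ideal.span {LinearMap.det u}) < ⊤ := by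
  rw [lt_top_iff_ne_top, lt_top_iff_ne_top, Module.length_ne_top_iff, Module.length_ne_top_iff,
    Groth.Agent.Lib.FiniteLengthSupport.isFiniteLength_iff_support_isMaximal,
    Groth.Agent.Lib.FiniteLengthSupport.isFiniteLength_iff_support_isMaximal, support_coker_eq]

end support

section localgen
variable {B : Type u} [CommRing B] [IsNoetherianRing B] [IsLocalRing B]

theorem ringKrullDim_eq_one_of_length_quot (d : B) (hd : d ∈ nonZeroDivisors B)
    (hm : d ∈ maximalIdeal B) (hfin : Module.length B (B ⧸ Ideal.span {d}) < ⊤) :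
    ringKrullDim B = 1 := by
  have hFL : IsFiniteLength B (B ⧸ Ideal.span {d}) := Module.length_ne_top_iff.mp hfin.ne
  have hmin : maximalIdeal B ∈ (Ideal.span {d}).minimalPrimes := by
    refine ⟨⟨inferInstance, (Ideal.span_singleton_le_iff_mem _).mpr hm⟩, ?_⟩
    rintro q ⟨hq, hdq⟩ -
    have hq' : (⟨q, hq⟩ : PrimeSpectrum B) ∈ Module.support B (B ⧸ Ideal.span {d}) :=
      (Groth.Agent.Lib.FiniteLengthSupport.mem_support_quotient_iff _ _).mpr hdq
    have hmax := Groth.Agent.Lib.FiniteLengthSupport.isMaximal_of_mem_support_of_isFiniteLength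
      hFL _ hq'
    exact (IsLocalRing.eq_maximalIdeal hmax).ge
  have hle : ringKrullDim B ≤ 1 := by
    rw [← IsLocalRing.maximalIdeal_height_eq_ringKrullDim]
    exact_mod_cast Ideal.height_le_one_of_isPrincipal_of_mem_minimalPrimes _ _ hmin
  have hnot : ¬ ringKrullDim B ≤ 0 := by
    intro h0
    have : Ring.KrullDimLE 0 B := Ring.krullDimLE_iff.mpr h0
    have hmm : maximalIdeal B ∈ minimalPrimes B :=
      Ring.KrullDimLE.mem_minimalPrimes_iff.mpr ⟨inferInstance, bot_le⟩
    exact Set.disjoint_left.mp (Ideal.disjoint_nonZeroDivisors_of_mem_minimalPrimes hmm) hm hd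
  exact le_antisymm hle (Order.succ_le_of_lt (lt_of_not_ge hnot))

variable (P : Type u) [AddCommGroup P] [Module B P] [Module.Free B P] [Module.Finite B P]

/-- T2': local Noetherian ring, determinant a nonzerodivisor. -/
theorem length_coker_eq_ord_local (u : P →ₗ[B] P)
    (hnzd : LinearMap.det u ∈ nonZeroDivisors B) :
    Module.length B (P ⧸ LinearMap.range u) = Ring.ord B (LinearMap.det u) := by
  by_cases hfin : Module.length B (B ⧸ Ideal.span {LinearMap.det u}) < ⊤
  · by_cases hunit : IsUnit (LinearMap.det u)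
    · -- both sides are zero
      have h1 : Subsingleton (B ⧸ Ideal.span {LinearMap.det u}) := by
        rw [Ideal.Quotient.subsingleton_iff, Ideal.span_singleton_eq_top]
        exact hunit
      have h2 : Subsingleton (P ⧸ LinearMap.range u) := by
        rw [← Module.support_eq_empty_iff (R := B), support_coker_eq, Module.support_eq_empty_iff]
        exact h1
      rw [Ring.ord, Module.length_eq_zero_iff.mpr h1, Module.length_eq_zero_iff.mpr h2]
    · have hm : LinearMap.det u ∈ maximalIdeal B := (IsLocalRing.mem_maximalIdeal _).mpr hunit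
      have hB := ringKrullDim_eq_one_of_length_quot _ hnzd hm hfin
      exact length_coker_eq_ord_of_dim_one P hB u hnzd
  · have h1 : Module.length B (B ⧸ Ideal.span {LinearMap.det u}) = ⊤ := not_lt_top_iff.mp hfin
    have h2 : Module.length B (P ⧸ LinearMap.range u) = ⊤ :=
      not_lt_top_iff.mp (fun h => hfin ((length_coker_lt_top_iff P u).mp h))
    rw [Ring.ord, h1, h2]

end localgen

end Groth.Agent.Lib.DetLength
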