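import Mathlib

/-!
# Lengths of localizations at primes: additivity and peeling off a simple quotient
-/

namespace Groth.Agent.Lib.LenLoc

open Pointwise Classical

universe u v
variable {B : Type u} [CommRing B]

/-- length of the localization of `M` at `p` (zero if `p` is not prime). -/
noncomputable def ell (M : Type v) [AddCommGroup M] [Module B M] (p : Ideal B) : ℕ∞ :=
  if h : p.IsPrime then
    (haveI := h; Module.length (Localization.AtPrime p) (LocalizedModule p.primeCompl M))
  else 0

theorem ell_eq (M : Type v) [AddCommGroup M] [Module B M] (p : Ideal B) [hp : p.IsPrime] :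
    ell M p = Module.length (Localization.AtPrime p) (LocalizedModule p.primeCompl M) :=
  dif_pos hp

variable {M M' M'' : Type v} [AddCommGroup M] [Module B M] [AddCommGroup M'] [Module B M']
  [AddCommGroup M''] [Module B M'']

theorem ell_add_of_exact (f : M' →ₗ[B] M) (g : M →ₗ[B] M'') (hf : Function.Injective f)
    (hg : Function.Surjective g) (H : Function.Exact f g) (p : Ideal B) :
    ell M p = ell M' p + ell M'' p := by
  by_cases hp : p.IsPrime
  · rw [ell_eq, ell_eq, ell_eq]
    exact Module.length_eq_add_of_exact (LocalizedModule.map p.primeCompl f)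
      (LocalizedModule.map p.primeCompl g) (LocalizedModule.map_injective _ f hf)
      (LocalizedModule.map_surjective _ g hg) (LocalizedModule.map_exact p.primeCompl f g H)
  · simp [ell, hp]

theorem ell_eq_of_linearEquiv (e : M ≃ₗ[B] M') (p : Ideal B) : ell M p = ell M' p := by
  by_cases hp : p.IsPrime
  · rw [ell_eq, ell_eq]
    exact (IsLocalizedModule.mapEquiv p.primeCompl (LocalizedModule.mkLinearMap p.primeCompl M)
      (LocalizedModule.mkLinearMap p.primeCompl M') (Localization.AtPrime p) e).length_eq
  · simp [ell, hp]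

theorem ell_eq_zero_of_smul_eq_zero (p : Ideal B) (a : B) (ha : a ∉ p) (h : ∀ m : M, a • m = 0) :
    ell M p = 0 := by
  by_cases hp : p.IsPrime
  · rw [ell_eq, Module.length_eq_zero_iff]
    constructor
    intro x y
    induction x using LocalizedModule.induction_on with
    | h m s =>
    induction y using LocalizedModule.induction_on with
    | h m' s' =>
    rw [LocalizedModule.mk_eq]
    refine ⟨⟨a, ha⟩, ?_⟩
    simp only [Submonoid.smul_def]
    rw [smul_comm, h, smul_comm _ (s : B) m', h, smul_zero, smul_zero]
  · simp [ell, hp]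


section Peel

open IsLocalRing

/-- In a module over a local ring, a coatom contains `𝔪 L`. -/
theorem smul_mem_of_isCoatom' {R : Type*} [CommRing R] [IsLocalRing R] {L : Type*}
    [AddCommGroup L] [Module R L] {W : Submodule R L} (hW : IsCoatom W) {a : R}
    (ha : a ∈ maximalIdeal R) (l : L) : a • l ∈ W := by
  by_contra hal
  have h1 : W ⊔ Submodule.span R {a • l} = ⊤ := by
    apply hW.2
    refine lt_of_le_of_ne le_sup_left ?_
    intro h
    apply hal
    rw [h]
    exact Submodule.mem_sup_right (Submodule.mem_span_singleton_self _)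
  have : l ∈ W ⊔ Submodule.span R {a • l} := by rw [h1]; trivial
  obtain ⟨w, hw, z, hz, hwz⟩ := Submodule.mem_sup.mp this
  obtain ⟨r, rfl⟩ := Submodule.mem_span_singleton.mp hz
  have hu : IsUnit (1 - r * a) := by
    have : r * a ∈ maximalIdeal R := Ideal.mul_mem_left _ _ ha
    by_contra hnu
    have h2 : (1 - r * a) ∈ maximalIdeal R := (mem_maximalIdeal _).mpr hnu
    have : (1 : R) ∈ maximalIdeal R := by
      have := add_mem h2 this
      simpa using this
    exact (Ideal.ne_top_iff_one _).mp (maximalIdeal.isMaximal R).ne_top this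
  apply hal
  have h3 : (1 - r * a) • l = w := by
    rw [sub_smul, one_smul, mul_smul]
    nth_rewrite 1 [← hwz]
    abel
  have : l = (hu.unit⁻¹ : Rˣ).1 • w := by
    rw [← h3, smul_smul]; simp
  rw [this]
  exact Submodule.smul_mem _ _ (Submodule.smul_mem _ _ hw)

variable (M : Type v) [AddCommGroup M] [Module B M] [Module.Finite B M]

/-- Peeling off a simple quotient of `M_p`. -/
theorem exists_peel (p : Ideal B) [p.IsPrime]
    (hM : Nontrivial (LocalizedModule p.primeCompl M)) :
    ∃ M' : Submodule B M, ell (M ⧸ M') p = 1 ∧ (∀ a ∈ p, ∀ m : M, a • m ∈ M') ∧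
      (∀ a ∉ p, ∀ m : M, a • m ∈ M' → m ∈ M') := by
  set R := Localization.AtPrime p
  set L := LocalizedModule p.primeCompl M
  set f := LocalizedModule.mkLinearMap p.primeCompl M
  obtain ⟨W, hW⟩ : ∃ W : Submodule R L, IsCoatom W := by
    obtain h | ⟨W, hW, -⟩ := eq_top_or_exists_le_coatom (⊥ : Submodule R L)
    · exact absurd h bot_ne_top
    · exact ⟨W, hW⟩
  set M' : Submodule B M := (W.restrictScalars B).comap f with hM'
  have hloc : M'.localized' R p.primeCompl f = W := (Submodule.localized'gi R p.primeCompl f).l_u_eq W
  refine ⟨M', ?_, ?_, ?_⟩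
  · rw [ell_eq]
    have e := localizedQuotientEquiv p.primeCompl M'
    rw [← e.length_eq, Module.length_eq_one_iff, isSimpleModule_iff_isCoatom]
    have : M'.localized p.primeCompl = W := hloc
    rw [this]
    exact hW
  · intro a ha m
    rw [hM', Submodule.mem_comap, map_smul, Submodule.restrictScalars_mem,
      ← algebraMap_smul R a]
    apply smul_mem_of_isCoatom' hW
    rw [← Localization.AtPrime.map_eq_maximalIdeal]
    exact Ideal.mem_map_of_mem _ ha
  · intro a ha m ham
    rw [hM', Submodule.mem_comap, Submodule.restrictScalars_mem] at ham ⊢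
    rw [map_smul, ← algebraMap_smul R a] at ham
    have hu : IsUnit (algebraMap B R a) := IsLocalization.map_units R (⟨a, ha⟩ : p.primeCompl)
    have : f m = (hu.unit⁻¹ : Rˣ).1 • (algebraMap B R a • f m) := by
      rw [smul_smul]; simp
    rw [this]
    exact Submodule.smul_mem _ _ ham

end Peel


section QuotLength

variable {M : Type v} [AddCommGroup M] [Module B M]

/-- If `t` is regular on `M/M'`, then `length (M/tM) = length (M'/tM') + length ((M/M')/t)`. -/
theorem length_quotSMulTop_add (M' : Submodule B M) (t : B) (hreg : IsSMulRegular (M ⧸ M') t) :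
    Module.length B (QuotSMulTop t M) =
      Module.length B (QuotSMulTop t M') + Module.length B (QuotSMulTop t (M ⧸ M')) := by
  have hex := QuotSMulTop.map_first_exact_on_four_term_exact_of_isSMulRegular_last (r := t)
    (f₁ := (0 : PUnit.{v+1} →ₗ[B] M')) (f₂ := M'.subtype) (f₃ := M'.mkQ)
    ((LinearMap.exact_zero_iff_injective _ _).mpr M'.subtype_injective)
    (LinearMap.exact_subtype_mkQ M') hreg
  rw [map_zero, LinearMap.exact_zero_iff_injective] at hex
  exact Module.length_eq_add_of_exact (QuotSMulTop.map t M'.subtype) (QuotSMulTop.map t M'.mkQ)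
    hex (QuotSMulTop.map_surjective t M'.mkQ_surjective)
    (QuotSMulTop.map_exact t (LinearMap.exact_subtype_mkQ M') M'.mkQ_surjective)

end QuotLength

end Groth.Agent.Lib.LenLoc
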