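import Mathlib

set_option autoImplicit false
universe u

namespace Groth.Agent.Lib.SumLengthLoc97

open IsLocalRing

section Simple

variable {B : Type*} [CommRing B] {N : Type*} [AddCommGroup N] [Module B N]

/-- A module `N ≅ B ⧸ n₀` localized at a maximal ideal `n ≠ n₀` is trivial. -/
lemma subsingleton_localized_of_ne (n₀ n : Ideal B) [n₀.IsMaximal] [n.IsMaximal] (hne : n ≠ n₀)
    (e : N ≃ₗ[B] B ⧸ n₀) : Subsingleton (LocalizedModule n.primeCompl N) := by
  rw [LocalizedModule.subsingleton_iff]
  have : ¬ n₀ ≤ n := fun h =>
    hne ((Ideal.IsMaximal.eq_of_le inferInstance (Ideal.IsMaximal.ne_top inferInstance) h).symm)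
  obtain ⟨s, hs₀, hsn⟩ := SetLike.not_le_iff_exists.mp this
  intro x
  refine ⟨s, hsn, ?_⟩
  apply e.injective
  rw [map_smul, map_zero]
  obtain ⟨b, hb⟩ := Ideal.Quotient.mk_surjective (e x)
  rw [← hb, ← Ideal.Quotient.mk_eq_mk, ← Submodule.Quotient.mk_smul]
  rw [Submodule.Quotient.mk_eq_zero]
  exact Ideal.mul_mem_right _ _ hs₀

/-- A module `N ≅ B ⧸ n` localized at the maximal ideal `n` has length one. -/
lemma length_localized_self (n : Ideal B) [n.IsMaximal] (e : N ≃ₗ[B] B ⧸ n) :
    Module.length (Localization.AtPrime n) (LocalizedModule n.primeCompl N) = 1 := by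
  rw [Module.length_eq_one_iff]
  let x₀ : N := e.symm 1
  have hgen : ∀ x : N, ∃ b : B, x = b • x₀ := by
    intro x
    obtain ⟨b, hb⟩ := Ideal.Quotient.mk_surjective (e x)
    refine ⟨b, e.injective ?_⟩
    rw [map_smul, e.apply_symm_apply, ← hb]
    rw [Algebra.smul_def, mul_one]
    rfl
  have hker : ∀ b : B, b • x₀ = 0 ↔ b ∈ n := by
    intro b
    rw [← e.map_eq_zero_iff, map_smul, e.apply_symm_apply, Algebra.smul_def, mul_one]
    exact Ideal.Quotient.eq_zero_iff_mem
  let y₀ : LocalizedModule n.primeCompl N := LocalizedModule.mk x₀ 1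
  let π : Localization.AtPrime n →ₗ[Localization.AtPrime n] LocalizedModule n.primeCompl N :=
    LinearMap.toSpanSingleton _ _ y₀
  have hπsurj : Function.Surjective π := by
    intro y
    induction y using LocalizedModule.induction_on with
    | h x s =>
      obtain ⟨b, rfl⟩ := hgen x
      refine ⟨Localization.mk b s, ?_⟩
      exact (LocalizedModule.mk_smul_mk b x₀ s 1).trans (by rw [mul_one])
  have hy₀ : y₀ ≠ 0 := by
    intro h
    rw [← LocalizedModule.zero_mk 1, LocalizedModule.mk_eq] at h
    obtain ⟨u, hu⟩ := h
    simp only [one_smul, smul_zero] at hu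
    exact u.2 ((hker _).mp hu)
  have hkerπ : LinearMap.ker π = maximalIdeal (Localization.AtPrime n) := by
    have hle : maximalIdeal (Localization.AtPrime n) ≤ LinearMap.ker π := by
      intro r hr
      induction r using Localization.induction_on with
      | H y =>
        obtain ⟨b, s⟩ := y
        rw [LinearMap.mem_ker]
        have hb : b ∈ n := by
          rw [Localization.mk_eq_mk'] at hr
          exact (IsLocalization.AtPrime.mk'_mem_maximal_iff (Localization.AtPrime n) n b s).mp hr
        refine (LocalizedModule.mk_smul_mk b x₀ s 1).trans ?_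
        rw [(hker b).mpr hb, LocalizedModule.zero_mk]
    have hne : LinearMap.ker π ≠ ⊤ := by
      intro h
      apply hy₀
      have : (1 : Localization.AtPrime n) ∈ LinearMap.ker π := h ▸ Submodule.mem_top
      rw [LinearMap.mem_ker] at this
      simpa [π] using this
    exact ((maximalIdeal.isMaximal _).eq_of_le hne hle).symm
  rw [isSimpleModule_iff_quot_maximal]
  refine ⟨LinearMap.ker π, hkerπ ▸ maximalIdeal.isMaximal _, ⟨?_⟩⟩
  exact (LinearMap.quotKerEquivOfSurjective π hπsurj).symm

end Simple

section Main

variable {A B : Type u} [CommRing A] [IsLocalRing A] [CommRing B] [Algebra A B]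

/-- the index type: maximal ideals of `B` over the maximal ideal of `A`. -/
abbrev Idx (A B : Type u) [CommRing A] [IsLocalRing A] [CommRing B] [Algebra A B] : Type u :=
  {n : MaximalSpectrum B // Ideal.map (algebraMap A B) (maximalIdeal A) ≤ n.asIdeal}

omit [IsLocalRing A] in
/-- length over `A` of `B ⧸ n₀` is one when `A → B ⧸ n₀` is surjective. -/
lemma length_quotient_eq_one (n₀ : Ideal B) [n₀.IsMaximal]
    (hsurj : Function.Surjective (algebraMap A (B ⧸ n₀))) :
    Module.length A (B ⧸ n₀) = 1 := by
  rw [Module.length_eq_of_surjective (R := B ⧸ n₀) hsurj]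
  let _ : Field (B ⧸ n₀) := Ideal.Quotient.field n₀
  rw [Module.length_eq_finrank, Module.finrank_self]
  rfl

theorem sum_length_localized_aux [Fintype (Idx A B)]
    (hres : ∀ t : Idx A B, Function.Surjective (algebraMap A (B ⧸ t.1.asIdeal))) (k : ℕ) :
    ∀ (M : Type u) [AddCommGroup M] [Module A M] [Module B M] [IsScalarTower A B M],
      (∀ a ∈ maximalIdeal A, ∀ x : M, a • x = 0) → Module.length A M = k →
      ∑ t : Idx A B, Module.length (Localization.AtPrime t.1.asIdeal)
        (LocalizedModule t.1.asIdeal.primeCompl M) = (k : ℕ∞) := by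
  classical
  induction k with
  | zero =>
    intro M _ _ _ _ hkill hlen
    have : Subsingleton M := Module.length_eq_zero_iff.mp (by simpa using hlen)
    simp [Module.length_eq_zero]
  | succ k ih =>
    intro M _ _ _ _ hkill hlen
    have hMnt : Nontrivial M := by
      rw [← Module.length_pos_iff (R := A), hlen]
      exact_mod_cast Nat.succ_pos k
    have hfl : IsFiniteLength A M := Module.length_ne_top_iff.mp (by rw [hlen]; exact ENat.natCast_ne_top _)
    have hartA : IsArtinian A M := ((isFiniteLength_iff_isNoetherian_isArtinian).mp hfl).2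
    have hart : IsArtinian B M := isArtinian_of_tower A hartA
    obtain ⟨N, hN⟩ := IsAtomic.exists_atom (Submodule B M)
    have hsimple : IsSimpleModule B N := isSimpleModule_iff_isAtom.mpr hN
    obtain ⟨n₀, hn₀, ⟨e⟩⟩ := isSimpleModule_iff_quot_maximal.mp hsimple
    -- n₀ lies over the maximal ideal
    have hJ : Ideal.map (algebraMap A B) (maximalIdeal A) ≤ n₀ := by
      rw [Ideal.map_le_iff_le_comap]
      intro a ha
      rw [Ideal.mem_comap]
      have h1 : a • (e.symm 1 : N) = 0 := Subtype.ext (hkill a ha _)
      have h2 : algebraMap A B a • (e.symm 1 : N) = 0 := by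
        rw [algebraMap_smul]; exact h1
      have h3 := congrArg e h2
      rw [map_smul, e.apply_symm_apply, map_zero, Algebra.smul_def, mul_one] at h3
      exact Ideal.Quotient.eq_zero_iff_mem.mp h3
    let t₀ : Idx A B := ⟨⟨n₀, hn₀⟩, hJ⟩
    -- length over A of N is one
    have hlenN : Module.length A N = 1 := by
      rw [(e.restrictScalars A).length_eq]
      exact length_quotient_eq_one n₀ (hres t₀)
    have hlenA : Module.length A M = Module.length A N + Module.length A (M ⧸ N) :=
      Module.length_eq_add_of_exact (N.subtype.restrictScalars A) (N.mkQ.restrictScalars A)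
        N.injective_subtype N.mkQ_surjective (LinearMap.exact_subtype_mkQ N)
    have hlenQ : Module.length A (M ⧸ N) = k := by
      rw [hlen, hlenN] at hlenA
      have hne : Module.length A (M ⧸ N) ≠ ⊤ := by
        intro h; rw [h] at hlenA; simp at hlenA
      lift Module.length A (M ⧸ N) to ℕ using hne with l hl
      have : (k + 1 : ℕ) = 1 + l := by exact_mod_cast hlenA
      congr 1; omega
    have hkillQ : ∀ a ∈ maximalIdeal A, ∀ x : M ⧸ N, a • x = 0 := by
      intro a ha x
      obtain ⟨x, rfl⟩ := N.mkQ_surjective x
      rw [← LinearMap.map_smul_of_tower, hkill a ha x, map_zero]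
    have hIH := ih (M ⧸ N) hkillQ hlenQ
    -- local additivity
    have hloc : ∀ t : Idx A B, Module.length (Localization.AtPrime t.1.asIdeal)
        (LocalizedModule t.1.asIdeal.primeCompl M) =
        (if t = t₀ then 1 else 0) + Module.length (Localization.AtPrime t.1.asIdeal)
        (LocalizedModule t.1.asIdeal.primeCompl (M ⧸ N)) := by
      intro t
      have hadd := Module.length_eq_add_of_exact
        (LocalizedModule.map t.1.asIdeal.primeCompl N.subtype)
        (LocalizedModule.map t.1.asIdeal.primeCompl N.mkQ)
        (LocalizedModule.map_injective _ _ N.injective_subtype)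
        (LocalizedModule.map_surjective _ _ N.mkQ_surjective)
        (LocalizedModule.map_exact _ _ _ (LinearMap.exact_subtype_mkQ N))
      rw [hadd]
      congr 1
      by_cases ht : t = t₀
      · subst ht
        rw [if_pos rfl]
        exact length_localized_self n₀ e
      · rw [if_neg ht]
        have hne : t.1.asIdeal ≠ n₀ := fun h => ht (Subtype.ext (MaximalSpectrum.ext h))
        have := subsingleton_localized_of_ne n₀ t.1.asIdeal hne e
        exact Module.length_eq_zero
    rw [Finset.sum_congr rfl (fun t _ => hloc t), Finset.sum_add_distrib, hIH]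
    simp [add_comm]

/-- the set of maximal ideals over the maximal ideal of `A` is finite when `B` is module-finite
over `A`. -/
lemma finite_idx [Module.Finite A B] : Finite (Idx A B) := by
  let J := Ideal.map (algebraMap A B) (maximalIdeal A)
  -- `B ⧸ J` is a finite module over the field `A ⧸ m`, hence an Artinian ring
  let _ : Field (A ⧸ maximalIdeal A) := Ideal.Quotient.field _
  have hfin : Module.Finite (A ⧸ maximalIdeal A) (B ⧸ J) :=
    Module.Finite.of_restrictScalars_finite A _ _
  have hartk : IsArtinian (A ⧸ maximalIdeal A) (B ⧸ J) := inferInstance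
  have hart : IsArtinianRing (B ⧸ J) := isArtinian_of_tower (A ⧸ maximalIdeal A) hartk
  let φ : Idx A B → MaximalSpectrum (B ⧸ J) := fun t =>
    ⟨t.1.asIdeal.map (Ideal.Quotient.mk J),
      Ideal.IsMaximal.map_of_surjective_of_ker_le Ideal.Quotient.mk_surjective
        (by rw [Ideal.mk_ker]; exact t.2)⟩
  have hφ : Function.Injective φ := by
    intro t t' h
    have h' : t.1.asIdeal.map (Ideal.Quotient.mk J) = t'.1.asIdeal.map (Ideal.Quotient.mk J) :=
      congrArg MaximalSpectrum.asIdeal h
    have h1 := congrArg (Ideal.comap (Ideal.Quotient.mk J)) h'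
    rw [Ideal.comap_map_of_surjective _ Ideal.Quotient.mk_surjective,
      Ideal.comap_map_of_surjective _ Ideal.Quotient.mk_surjective, ← RingHom.ker_eq_comap_bot,
      Ideal.mk_ker, sup_eq_left.mpr t.2, sup_eq_left.mpr t'.2] at h1
    exact Subtype.ext (MaximalSpectrum.ext h1)
  exact Finite.of_injective φ hφ

theorem finsum_length_localized [Module.Free A B] [Module.Finite A B]
    (hres : ∀ t : Idx A B, Function.Surjective (algebraMap A (B ⧸ t.1.asIdeal))) :
    ∑ᶠ t : Idx A B, Module.length (Localization.AtPrime t.1.asIdeal)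
      (LocalizedModule t.1.asIdeal.primeCompl
        (B ⧸ Ideal.map (algebraMap A B) (maximalIdeal A))) = (Module.finrank A B : ℕ∞) := by
  have := finite_idx (A := A) (B := B)
  let _ : Fintype (Idx A B) := Fintype.ofFinite _
  rw [finsum_eq_sum_of_fintype]
  apply sum_length_localized_aux hres
  · intro a ha x
    obtain ⟨b, rfl⟩ := Ideal.Quotient.mk_surjective x
    rw [← Ideal.Quotient.mk_eq_mk, ← Submodule.Quotient.mk_smul, Submodule.Quotient.mk_eq_zero,
      Algebra.smul_def]
    exact Ideal.mul_mem_right _ _ (Ideal.mem_map_of_mem _ ha)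
  · let _ : Field (A ⧸ maximalIdeal A) := Ideal.Quotient.field _
    have hfin : Module.Finite (A ⧸ maximalIdeal A)
        (B ⧸ Ideal.map (algebraMap A B) (maximalIdeal A)) :=
      Module.Finite.of_restrictScalars_finite A _ _
    rw [Module.length_eq_of_surjective (R := A ⧸ maximalIdeal A) Ideal.Quotient.mk_surjective,
      Module.length_eq_finrank, IsLocalRing.finrank_quotient_map]

end Main

end Groth.Agent.Lib.SumLengthLoc97
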