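import Mathlib
import Groth.Agent.Lib.DetLength2
import Groth.Agent.Lib.LenLoc
import Groth.Agent.Lib.SumLengthLoc97
set_option maxHeartbeats 800000
set_option autoImplicit false
set_option linter.style.haveILetI false
universe u
open Pointwise TensorProduct

namespace Groth.Agent.Lib.DetLength
open IsLocalRing Groth.Agent.Lib.LenLoc Groth.Agent.Lib.SumLengthLoc97

section sumformula
variable {A : Type u} [CommRing A]

theorem ell_of_subsingleton (C : Type u) [AddCommGroup C] [Module A C] [Subsingleton C]
    (p : Ideal A) : ell C p = 0 := by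
  by_cases hp : p.IsPrime
  · exact ell_eq_zero_of_smul_eq_zero p 1 (fun h => hp.ne_top ((Ideal.eq_top_iff_one p).mpr h))
      (fun m => Subsingleton.elim _ _)
  · simp [ell, hp]

theorem ell_simple {C : Type u} [AddCommGroup C] [Module A C] (m₀ : Ideal A) [m₀.IsMaximal]
    (e : C ≃ₗ[A] A ⧸ m₀) (m : Ideal A) [m.IsMaximal] :
    ell C m = if m = m₀ then 1 else 0 := by
  rw [ell_eq]
  split_ifs with h
  · subst h
    exact length_localized_self m e
  · haveI := subsingleton_localized_of_ne m₀ m h e
    exact Module.length_eq_zero

/-- length of a finite length module is the sum of the lengths of its localizations at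
maximal ideals. -/
theorem sum_ell (C : Type u) [AddCommGroup C] [Module A C] (h : IsFiniteLength A C) :
    (Function.support fun m : MaximalSpectrum A => ell C m.asIdeal).Finite ∧
    Module.length A C = ∑ᶠ m : MaximalSpectrum A, ell C m.asIdeal := by
  induction h with
  | @of_subsingleton M _ _ _ =>
    have h0 : ∀ m : MaximalSpectrum A, ell M m.asIdeal = 0 := fun m => ell_of_subsingleton M _
    simp only [h0, finsum_zero]
    refine ⟨?_, Module.length_eq_zero⟩
    have : (Function.support fun _ : MaximalSpectrum A => (0 : ℕ∞)) = ∅ := by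
      ext; simp
    rw [this]
    exact Set.finite_empty
  | @of_simple_quotient M _ _ N _ hN ih =>
    obtain ⟨hfin, hsum⟩ := ih
    obtain ⟨m₀, hm₀, ⟨e⟩⟩ := isSimpleModule_iff_quot_maximal.mp ‹IsSimpleModule A (M ⧸ N)›
    have hadd : ∀ m : Ideal A, ell M m = ell N m + ell (M ⧸ N) m := fun m =>
      ell_add_of_exact N.subtype N.mkQ (Submodule.injective_subtype _)
        (Submodule.mkQ_surjective _) (LinearMap.exact_subtype_mkQ N) m
    have hq : ∀ m : MaximalSpectrum A,
        ell (M ⧸ N) m.asIdeal = if m.asIdeal = m₀ then 1 else 0 := fun m => by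
      haveI := m.isMaximal
      exact ell_simple m₀ e m.asIdeal
    have hsupp : (Function.support fun m : MaximalSpectrum A => ell (M ⧸ N) m.asIdeal) ⊆
        {⟨m₀, hm₀⟩} := by
      intro m hm
      rw [Function.mem_support, hq] at hm
      rw [Set.mem_singleton_iff]
      apply MaximalSpectrum.ext
      by_contra hne
      exact hm (if_neg hne)
    have hfin2 : (Function.support fun m : MaximalSpectrum A => ell (M ⧸ N) m.asIdeal).Finite :=
      (Set.finite_singleton _).subset hsupp
    have hfun : (fun m : MaximalSpectrum A => ell M m.asIdeal) =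
        fun m => ell N m.asIdeal + ell (M ⧸ N) m.asIdeal := funext fun m => hadd _
    constructor
    · rw [hfun]
      exact (hfin.union hfin2).subset (Function.support_add _ _)
    · rw [hfun, finsum_add_distrib hfin hfin2, ← hsum,
        Module.length_eq_add_of_exact N.subtype N.mkQ (Submodule.injective_subtype _)
        (Submodule.mkQ_surjective _) (LinearMap.exact_subtype_mkQ N)]
      congr 1
      rw [finsum_eq_single _ (⟨m₀, hm₀⟩ : MaximalSpectrum A) (fun m hm => by
        rw [hq]
        exact if_neg (fun h => hm (MaximalSpectrum.ext h))), hq, if_pos rfl]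
      exact Module.length_eq_one_iff.mpr inferInstance

theorem length_eq_of_ell_eq (C C' : Type u) [AddCommGroup C] [Module A C] [AddCommGroup C']
    [Module A C'] (h : IsFiniteLength A C) (h' : IsFiniteLength A C')
    (heq : ∀ m : Ideal A, m.IsMaximal → ell C m = ell C' m) :
    Module.length A C = Module.length A C' := by
  rw [(sum_ell C h).2, (sum_ell C' h').2]
  exact finsum_congr fun m => heq _ m.isMaximal

end sumformula

section loc
variable {A : Type u} [CommRing A] (S : Submonoid A)
  {ι : Type} [Fintype ι] [DecidableEq ι] {P : Type u} [AddCommGroup P] [Module A P]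

theorem det_localizedModule_map (b : Module.Basis ι A P) (φ : P →ₗ[A] P) :
    LinearMap.det (LocalizedModule.map S φ) =
      algebraMap A (Localization S) (LinearMap.det φ) := by
  let b' := b.ofIsLocalizedModule (Localization S) S (LocalizedModule.mkLinearMap S P)
  rw [← LinearMap.det_toMatrix b', ← LinearMap.det_toMatrix b, RingHom.map_det]
  congr 1
  ext i j
  rw [LinearMap.toMatrix_apply, RingHom.mapMatrix_apply, Matrix.map_apply,
    LinearMap.toMatrix_apply, Module.Basis.ofIsLocalizedModule_apply,
    LocalizedModule.mkLinearMap_apply, LocalizedModule.map_mk,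
    ← LocalizedModule.mkLinearMap_apply]
  exact Module.Basis.ofIsLocalizedModule_repr_apply (Localization S) S
    (LocalizedModule.mkLinearMap S P) b _ i

theorem length_localized_coker (φ : P →ₗ[A] P) :
    Module.length (Localization S) (LocalizedModule S (P ⧸ LinearMap.range φ)) =
      Module.length (Localization S)
        (LocalizedModule S P ⧸ LinearMap.range (LocalizedModule.map S φ)) := by
  have hex : Function.Exact (LocalizedModule.map S φ)
      (LocalizedModule.map S (LinearMap.range φ).mkQ) :=
    LocalizedModule.map_exact S φ (LinearMap.range φ).mkQ (LinearMap.exact_map_mkQ_range φ)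
  have hsurj : Function.Surjective (LocalizedModule.map S (LinearMap.range φ).mkQ) :=
    LocalizedModule.map_surjective S _ (Submodule.mkQ_surjective _)
  have hker : LinearMap.ker (LocalizedModule.map S (LinearMap.range φ).mkQ) =
      LinearMap.range (LocalizedModule.map S φ) := LinearMap.exact_iff.mp hex
  exact ((Submodule.quotEquivOfEq _ _ hker.symm).trans
    (LinearMap.quotKerEquivOfSurjective _ hsurj)).length_eq.symm

end loc

section final
variable {A : Type u} [CommRing A]

theorem det_smul_id (d : A) : LinearMap.det (d • (LinearMap.id : A →ₗ[A] A)) = d := by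
  rw [LinearMap.det_smul, LinearMap.det_id, mul_one]
  rcases subsingleton_or_nontrivial A with hA | hA
  · exact Subsingleton.elim _ _
  · rw [Module.finrank_self, pow_one]

theorem range_smul_id (d : A) :
    LinearMap.range (d • (LinearMap.id : A →ₗ[A] A)) = Ideal.span {d} := by
  ext x
  rw [LinearMap.mem_range, Ideal.mem_span_singleton']
  constructor
  · rintro ⟨y, rfl⟩
    exact ⟨y, by simp [mul_comm]⟩
  · rintro ⟨y, rfl⟩
    exact ⟨y, by simp [mul_comm]⟩

variable [IsNoetherianRing A]
  {ι : Type} [Fintype ι] [DecidableEq ι] {P : Type u} [AddCommGroup P] [Module A P]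

theorem ell_coker (m : Ideal A) [m.IsPrime] (b : Module.Basis ι A P) (φ : P →ₗ[A] P)
    (h : LinearMap.det φ ∈ nonZeroDivisors A) :
    ell (P ⧸ LinearMap.range φ) m =
      Ring.ord (Localization.AtPrime m)
        (algebraMap A (Localization.AtPrime m) (LinearMap.det φ)) := by
  rw [ell_eq]
  have h1 := length_localized_coker m.primeCompl φ
  rw [h1]
  let b' := b.ofIsLocalizedModule (Localization.AtPrime m) m.primeCompl
    (LocalizedModule.mkLinearMap m.primeCompl P)
  haveI : Module.Free (Localization.AtPrime m) (LocalizedModule m.primeCompl P) :=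
    Module.Free.of_basis b'
  haveI : Module.Finite (Localization.AtPrime m) (LocalizedModule m.primeCompl P) :=
    Module.Finite.of_basis b'
  have hdet := det_localizedModule_map m.primeCompl b φ
  have hnzd : LinearMap.det (LocalizedModule.map m.primeCompl φ) ∈
      nonZeroDivisors (Localization.AtPrime m) := by
    rw [hdet]
    exact IsLocalization.map_nonZeroDivisors_le m.primeCompl _ (Submonoid.mem_map_of_mem _ h)
  rw [← hdet]
  exact length_coker_eq_ord_local (LocalizedModule m.primeCompl P)
    (LocalizedModule.map m.primeCompl φ) hnzd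

/-- Fulton A.2.6: `length (coker φ) = ord (det φ)` for an endomorphism of a finite free module
over a Noetherian ring whose determinant is a nonzerodivisor. -/
theorem length_coker_eq_ord (b : Module.Basis ι A P) (φ : P →ₗ[A] P)
    (h : LinearMap.det φ ∈ nonZeroDivisors A) :
    Module.length A (P ⧸ LinearMap.range φ) = Ring.ord A (LinearMap.det φ) := by
  rcases subsingleton_or_nontrivial A with hA | hA
  · haveI : Subsingleton (P ⧸ LinearMap.range φ) := Module.subsingleton A _
    haveI : Subsingleton (A ⧸ Ideal.span {LinearMap.det φ}) := Module.subsingleton A _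
    rw [Ring.ord, Module.length_eq_zero, Module.length_eq_zero]
  haveI : Module.Free A P := Module.Free.of_basis b
  haveI : Module.Finite A P := Module.Finite.of_basis b
  by_cases hfin : Module.length A (A ⧸ Ideal.span {LinearMap.det φ}) < ⊤
  · have hfin' := (length_coker_lt_top_iff P φ).mpr hfin
    rw [Ring.ord]
    refine length_eq_of_ell_eq _ _ (Module.length_ne_top_iff.mp hfin'.ne)
      (Module.length_ne_top_iff.mp hfin.ne) ?_
    intro m hm
    haveI := hm.isPrime
    rw [ell_coker m b φ h]
    set d := LinearMap.det φ with hd
    have e : (A ⧸ LinearMap.range (d • (LinearMap.id : A →ₗ[A] A))) ≃ₗ[A] A ⧸ Ideal.span {d} :=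
      Submodule.quotEquivOfEq _ _ (range_smul_id d)
    rw [← ell_eq_of_linearEquiv e m,
      ell_coker m (Module.Basis.singleton Unit A) (d • LinearMap.id)
        (by rw [det_smul_id]; exact h), det_smul_id]
  · have h1 : Module.length A (A ⧸ Ideal.span {LinearMap.det φ}) = ⊤ := not_lt_top_iff.mp hfin
    have h2 : Module.length A (P ⧸ LinearMap.range φ) = ⊤ :=
      not_lt_top_iff.mp (fun h => hfin ((length_coker_lt_top_iff P φ).mp h))
    rw [Ring.ord, h1, h2]

end final

end Groth.Agent.Lib.DetLength
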