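import Mathlib
import Groth.Agent.Lib.DetLength3
import Groth.Agent.Lib.DegOrd1
set_option autoImplicit false
set_option linter.style.haveILetI false
universe u

namespace Groth.Agent.Lib.CycNorm85
open Groth.Agent.Lib.LenLoc Groth.Agent.Lib.DetLength Groth.Agent.Lib.SumLengthLoc97

section restrict
variable (R : Type u) {B : Type u} [CommRing R] [CommRing B] [Algebra R B]

/-- the weight of an ideal: `R`-length of `B ⧸ m`. -/
noncomputable def wt (m : Ideal B) : ℕ∞ := Module.length R (B ⧸ m)

theorem length_restrictScalars_aux (n : ℕ) :
    ∀ (M : Type u) [AddCommGroup M] [Module B M] [Module R M] [IsScalarTower R B M],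
      Module.length B M = n →
      Module.length R M = ∑ᶠ m : MaximalSpectrum B, wt R m.asIdeal * ell M m.asIdeal := by
  induction n with
  | zero =>
    intro M _ _ _ _ hlen
    have hs : Subsingleton M := Module.length_eq_zero_iff.mp (by simpa using hlen)
    have h0 : ∀ m : MaximalSpectrum B, ell M m.asIdeal = 0 := fun m => ell_of_subsingleton M _
    simp only [h0, mul_zero, finsum_zero]
    exact Module.length_eq_zero
  | succ n ih =>
    intro M _ _ _ _ hlen
    have hMnt : Nontrivial M := by
      rw [← Module.length_pos_iff (R := B), hlen]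
      exact_mod_cast Nat.succ_pos n
    have hfl : IsFiniteLength B M :=
      Module.length_ne_top_iff.mp (by rw [hlen]; exact ENat.natCast_ne_top _)
    have hart : IsArtinian B M := ((isFiniteLength_iff_isNoetherian_isArtinian).mp hfl).2
    obtain ⟨N, hN⟩ := IsAtomic.exists_atom (Submodule B M)
    haveI : IsSimpleModule B N := isSimpleModule_iff_isAtom.mpr hN
    obtain ⟨m₀, hm₀, ⟨e⟩⟩ := isSimpleModule_iff_quot_maximal.mp ‹IsSimpleModule B N›
    -- lengths over B
    have hB := Module.length_eq_add_of_exact N.subtype N.mkQ (Submodule.injective_subtype _)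
        (Submodule.mkQ_surjective _) (LinearMap.exact_subtype_mkQ N)
    have hN1 : Module.length B N = 1 := Module.length_eq_one_iff.mpr inferInstance
    have hQ : Module.length B (M ⧸ N) = n := by
      rw [hlen, hN1] at hB
      have : ((n : ℕ∞) + 1) = 1 + Module.length B (M ⧸ N) := by exact_mod_cast hB
      rw [add_comm] at this
      exact (ENat.add_right_injective_of_ne_top (ENat.one_ne_top) this).symm
    have hIH := ih (M ⧸ N) hQ
    -- lengths over R
    have hR := Module.length_eq_add_of_exact (N.subtype.restrictScalars R) (N.mkQ.restrictScalars R)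
        (Submodule.injective_subtype _) (Submodule.mkQ_surjective _)
        (LinearMap.exact_subtype_mkQ N)
    have hNR : Module.length R N = wt R m₀ := (e.restrictScalars R).length_eq
    have hadd : ∀ m : Ideal B, ell M m = ell N m + ell (M ⧸ N) m := fun m =>
      ell_add_of_exact N.subtype N.mkQ (Submodule.injective_subtype _)
        (Submodule.mkQ_surjective _) (LinearMap.exact_subtype_mkQ N) m
    have hq : ∀ m : MaximalSpectrum B,
        ell N m.asIdeal = if m.asIdeal = m₀ then 1 else 0 := fun m => by
      haveI := m.isMaximal
      exact ell_simple m₀ e m.asIdeal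
    have hflQ : IsFiniteLength B (M ⧸ N) :=
      Module.length_ne_top_iff.mp (by rw [hQ]; exact ENat.natCast_ne_top _)
    have hfinQ : (Function.support fun m : MaximalSpectrum B =>
        wt R m.asIdeal * ell (M ⧸ N) m.asIdeal).Finite :=
      (sum_ell (M ⧸ N) hflQ).1.subset (fun m hm => by
        rw [Function.mem_support] at hm ⊢
        exact fun h0 => hm (by rw [h0, mul_zero]))
    have hsuppN : (Function.support fun m : MaximalSpectrum B =>
        wt R m.asIdeal * ell N m.asIdeal) ⊆ {⟨m₀, hm₀⟩} := by
      intro m hm
      rw [Function.mem_support, hq] at hm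
      rw [Set.mem_singleton_iff]
      apply MaximalSpectrum.ext
      by_contra hne
      exact hm (by rw [if_neg hne, mul_zero])
    have hfinN : (Function.support fun m : MaximalSpectrum B =>
        wt R m.asIdeal * ell N m.asIdeal).Finite := (Set.finite_singleton _).subset hsuppN
    have hfun : (fun m : MaximalSpectrum B => wt R m.asIdeal * ell M m.asIdeal) =
        fun m => wt R m.asIdeal * ell N m.asIdeal + wt R m.asIdeal * ell (M ⧸ N) m.asIdeal :=
      funext fun m => by rw [hadd, mul_add]
    rw [hfun, finsum_add_distrib hfinN hfinQ, ← hIH, hR, hNR]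
    congr 1
    rw [finsum_eq_single _ (⟨m₀, hm₀⟩ : MaximalSpectrum B) (fun m hm => by
      rw [hq, if_neg (fun h => hm (MaximalSpectrum.ext h)), mul_zero]), hq, if_pos rfl, mul_one]

/-- **Lengths under restriction of scalars**: for a `B`-module `C` of finite length,
`length_R C = ∑_m length_R (B ⧸ m) * length_{B_m} C_m`. -/
theorem length_restrictScalars (C : Type u) [AddCommGroup C] [Module B C] [Module R C]
    [IsScalarTower R B C] (h : IsFiniteLength B C) :
    Module.length R C = ∑ᶠ m : MaximalSpectrum B, wt R m.asIdeal * ell C m.asIdeal := by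
  obtain ⟨n, hn⟩ := ENat.ne_top_iff_exists.mp (Module.length_ne_top_iff.mpr h)
  exact length_restrictScalars_aux R n C hn.symm

end restrict

end Groth.Agent.Lib.CycNorm85
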