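import Mathlib

/-!
# Tensor product of a field with a purely inseparable extension (helper63)

For fields `L`, `K` over `k` with `K/k` purely inseparable:
* every element of `L ⊗[k] K` is a unit or nilpotent; hence `L ⊗[k] K` is a local ring whose
  maximal ideal is the nilradical, and it has a unique prime ideal;
* if moreover `L ⊗[k] K` is Noetherian (e.g. `L/k` finitely generated), its length over itself is
  a power of the exponential characteristic.
* `length_self_eq_of_ringEquiv`: the length of a ring over itself is an isomorphism invariant.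
-/

set_option autoImplicit false
universe u
open TensorProduct

namespace Groth.Agent.Lib.PurInsepTensorLength

/-- the length of a ring over itself is invariant under ring isomorphisms -/
theorem length_self_eq_of_ringEquiv {A B : Type*} [CommRing A] [CommRing B] (e : A ≃+* B) :
    Module.length A A = Module.length B B := by
  letI : Algebra A B := e.toRingHom.toAlgebra
  have h1 : Module.length A B = Module.length B B :=
    Module.length_eq_of_surjective (S := A) (R := B) (M := B) e.surjective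
  let e' : A ≃ₗ[A] B :=
    { e with
      map_smul' := fun r a => by
        change e (r * a) = e r * e a
        exact map_mul e r a }
  rw [← h1]
  exact e'.length_eq

section Local

variable {k : Type*} [Field k] (L K : Type*) [Field L] [Field K] [Algebra k L] [Algebra k K]
  [IsPurelyInseparable k K]

theorem isUnit_or_isNilpotent (x : L ⊗[k] K) : IsUnit x ∨ IsNilpotent x := by
  obtain ⟨n, hn, l, hl⟩ := IsPurelyInseparable.exists_pow_mem_range_tensorProduct (R := L) x
  by_cases h0 : l = 0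
  · right
    exact ⟨n, by rw [← hl, h0, map_zero]⟩
  · left
    have : IsUnit (x ^ n) := by
      rw [← hl]
      exact (IsUnit.mk0 l h0).map _
    exact (isUnit_pow_iff hn.ne').mp this

theorem isUnit_or_isNilpotent' (x : K ⊗[k] L) : IsUnit x ∨ IsNilpotent x := by
  rcases isUnit_or_isNilpotent L K (Algebra.TensorProduct.comm k K L x) with h | h
  · left
    have := h.map (Algebra.TensorProduct.comm k K L).symm
    simpa using this
  · right
    have := h.map (Algebra.TensorProduct.comm k K L).symm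
    simpa using this

theorem not_isUnit_of_isNilpotent {R : Type*} [CommRing R] [Nontrivial R] {x : R}
    (h : IsNilpotent x) : ¬ IsUnit x := by
  intro hu
  obtain ⟨n, hn⟩ := h
  have := hu.pow n
  rw [hn] at this
  exact not_isUnit_zero this

theorem isLocalRing_of_isUnit_or_isNilpotent {R : Type*} [CommRing R] [Nontrivial R]
    (h : ∀ x : R, IsUnit x ∨ IsNilpotent x) : IsLocalRing R := by
  refine IsLocalRing.of_isUnit_or_isUnit_one_sub_self fun a => ?_
  rcases h a with h | h
  · exact Or.inl h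
  · exact Or.inr h.isUnit_one_sub

theorem maximalIdeal_eq_nilradical_of {R : Type*} [CommRing R] [IsLocalRing R]
    (h : ∀ x : R, IsUnit x ∨ IsNilpotent x) : IsLocalRing.maximalIdeal R = nilradical R := by
  ext x
  rw [IsLocalRing.mem_maximalIdeal, mem_nonunits_iff, mem_nilradical]
  constructor
  · intro hx
    exact (h x).resolve_left hx
  · exact not_isUnit_of_isNilpotent

theorem eq_maximalIdeal_of_isPrime_of {R : Type*} [CommRing R] [IsLocalRing R]
    (h : ∀ x : R, IsUnit x ∨ IsNilpotent x) (q : Ideal R) [hq : q.IsPrime] :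
    q = IsLocalRing.maximalIdeal R := by
  apply le_antisymm (IsLocalRing.le_maximalIdeal hq.ne_top)
  rw [maximalIdeal_eq_nilradical_of h]
  exact nilradical_le_prime q

instance isLocalRing_tensor : IsLocalRing (L ⊗[k] K) :=
  isLocalRing_of_isUnit_or_isNilpotent (isUnit_or_isNilpotent L K)

instance isLocalRing_tensor' : IsLocalRing (K ⊗[k] L) :=
  isLocalRing_of_isUnit_or_isNilpotent (isUnit_or_isNilpotent' L K)

theorem maximalIdeal_eq_nilradical :
    IsLocalRing.maximalIdeal (L ⊗[k] K) = nilradical (L ⊗[k] K) :=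
  maximalIdeal_eq_nilradical_of (isUnit_or_isNilpotent L K)

theorem eq_maximalIdeal_of_isPrime (q : Ideal (L ⊗[k] K)) [q.IsPrime] :
    q = IsLocalRing.maximalIdeal (L ⊗[k] K) :=
  eq_maximalIdeal_of_isPrime_of (isUnit_or_isNilpotent L K) q

end Local

section Arith

theorem exists_eq_pow_of_mul_eq (p a : ℕ) (hp : p.Prime ∨ p = 1) (x y : ℕ∞)
    (h : ((p ^ a : ℕ) : ℕ∞) = x * y) : ∃ b : ℕ, x = (p ^ b : ℕ) := by
  have hN : (p ^ a : ℕ) ≠ 0 := by
    rcases hp with hp | hp
    · exact pow_ne_zero _ hp.ne_zero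
    · simp [hp]
  have hy0 : y ≠ 0 := by
    rintro rfl
    rw [mul_zero] at h
    exact hN (by exact_mod_cast h)
  have hx0 : x ≠ 0 := by
    rintro rfl
    rw [zero_mul] at h
    exact hN (by exact_mod_cast h)
  have hxtop : x ≠ ⊤ := by
    rintro rfl
    rw [ENat.top_mul hy0] at h
    exact ENat.coe_ne_top _ h
  have hytop : y ≠ ⊤ := by
    rintro rfl
    rw [ENat.mul_top hx0] at h
    exact ENat.coe_ne_top _ h
  obtain ⟨m, rfl⟩ := ENat.ne_top_iff_exists.mp hxtop
  obtain ⟨m', rfl⟩ := ENat.ne_top_iff_exists.mp hytop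
  have h' : p ^ a = m * m' := by exact_mod_cast h
  have hdvd : m ∣ p ^ a := ⟨m', h'⟩
  rcases hp with hp | hp
  · obtain ⟨b, -, hb⟩ := (Nat.dvd_prime_pow hp).mp hdvd
    exact ⟨b, by rw [hb]⟩
  · subst hp
    rw [one_pow] at hdvd
    refine ⟨0, ?_⟩
    rw [Nat.dvd_one.mp hdvd]
    simp

end Arith

section BaseChange

open IsLocalRing

/-- flat local base change with `𝔪_A B = 𝔪_B` preserves the length of the ring -/
theorem length_baseChange_eq {K₀ : Type u} [Field K₀] (R₀ : Type u) [CommRing R₀] [Algebra K₀ R₀]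
    [IsLocalRing R₀] (K : Type u) [Field K] [Algebra K₀ K] [IsLocalRing (R₀ ⊗[K₀] K)]
    [IsLocalHom (algebraMap R₀ (R₀ ⊗[K₀] K))]
    (hmax : maximalIdeal (R₀ ⊗[K₀] K) ≤ (maximalIdeal R₀).map (algebraMap R₀ (R₀ ⊗[K₀] K))) :
    Module.length (R₀ ⊗[K₀] K) (R₀ ⊗[K₀] K) = Module.length R₀ R₀ := by
  have hmax' : (maximalIdeal R₀).map (algebraMap R₀ (R₀ ⊗[K₀] K)) = maximalIdeal (R₀ ⊗[K₀] K) :=
    le_antisymm (IsLocalRing.map_maximalIdeal_le (algebraMap R₀ (R₀ ⊗[K₀] K))) hmax
  have h := IsLocalRing.length_baseChange (A := R₀) (B := R₀ ⊗[K₀] K) (M := R₀)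
  rw [hmax'] at h
  have e1 : Module.length (R₀ ⊗[K₀] K) ((R₀ ⊗[K₀] K) ⊗[R₀] R₀) =
      Module.length (R₀ ⊗[K₀] K) (R₀ ⊗[K₀] K) :=
    (TensorProduct.AlgebraTensorModule.rid R₀ (R₀ ⊗[K₀] K) (R₀ ⊗[K₀] K)).length_eq
  have e2 : Module.length (R₀ ⊗[K₀] K) ((R₀ ⊗[K₀] K) ⧸ maximalIdeal (R₀ ⊗[K₀] K)) = 1 := by
    rw [Module.length_eq_one_iff, isSimpleModule_iff_isCoatom, ← Ideal.isMaximal_def]
    infer_instance
  rw [e1, e2, mul_one] at h
  exact h

end BaseChange

section Length

variable {k : Type u} [Field k] (L K : Type u) [Field L] [Field K] [Algebra k L] [Algebra k K]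
  [IsPurelyInseparable k K]

/-- finite level: `K/k` finite purely inseparable ⇒ the length of `L ⊗[k] K` is a power of `p`. -/
theorem exists_length_eq_pow_of_finite (p : ℕ) [ExpChar k p] [FiniteDimensional k K] :
    ∃ n : ℕ, Module.length (L ⊗[k] K) (L ⊗[k] K) = (p ^ n : ℕ) := by
  obtain ⟨a, ha⟩ := IsPurelyInseparable.finrank_eq_pow (F := k) K p
  have h1 := IsLocalRing.length_restrictScalars (A := L) (B := L ⊗[k] K) (M := L ⊗[k] K)
  have h2 : Module.length L (L ⊗[k] K) = (p ^ a : ℕ) := by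
    rw [Module.length_eq_finrank, Module.finrank_baseChange, ha]
  rw [h2] at h1
  exact exists_eq_pow_of_mul_eq p a (expChar_is_prime_or_one k p) _ _ h1

/-- the base change step: if the maximal ideal of `K ⊗[k] L` is generated by elements coming from
`K₀ ⊗[k] L` for a finite subextension `K₀`, the length is a power of `p`. -/
theorem exists_length_eq_pow_of_generators (p : ℕ) [ExpChar k p]
    (K₀ : Type u) [Field K₀] [Algebra k K₀] [Algebra K₀ K] [IsScalarTower k K₀ K]
    [IsPurelyInseparable k K₀] [FiniteDimensional k K₀]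
    (s : Set (K ⊗[k] L))
    (hs : Submodule.span (K ⊗[k] L) s = IsLocalRing.maximalIdeal (K ⊗[k] L))
    (hsι : s ⊆ Set.range (Algebra.TensorProduct.map (IsScalarTower.toAlgHom k K₀ K)
      (AlgHom.id k L))) :
    ∃ n : ℕ, Module.length (K ⊗[k] L) (K ⊗[k] L) = (p ^ n : ℕ) := by
  classical
  have hUN := isUnit_or_isNilpotent' (k := k) L K
  let ι' : (K₀ ⊗[k] L) →ₐ[k] (K ⊗[k] L) :=
    Algebra.TensorProduct.map (IsScalarTower.toAlgHom k K₀ K) (AlgHom.id k L)
  -- base change `B = (K₀ ⊗[k] L) ⊗[K₀] K ≅ K ⊗[k] L`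
  let ψ : ((K₀ ⊗[k] L) ⊗[K₀] K) ≃ₐ[K₀] (K ⊗[k] L) :=
    (Algebra.TensorProduct.comm K₀ (K₀ ⊗[k] L) K).trans
      (Algebra.TensorProduct.cancelBaseChange k K₀ K₀ K L)
  have hψ : ∀ r : K₀ ⊗[k] L, ψ (algebraMap (K₀ ⊗[k] L) ((K₀ ⊗[k] L) ⊗[K₀] K) r) = ι' r := by
    intro r
    induction r with
    | zero => rw [map_zero, map_zero, map_zero]
    | tmul b l =>
      change (Algebra.TensorProduct.cancelBaseChange k K₀ K₀ K L)
        ((Algebra.TensorProduct.comm K₀ (K₀ ⊗[k] L) K) ((b ⊗ₜ[k] l) ⊗ₜ[K₀] (1 : K))) = _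
      rw [Algebra.TensorProduct.comm_tmul, Algebra.TensorProduct.cancelBaseChange_tmul]
      change (b • (1 : K)) ⊗ₜ[k] l = (algebraMap K₀ K b) ⊗ₜ[k] l
      rw [Algebra.smul_def, mul_one]
    | add x y hx hy => rw [map_add, map_add, map_add, hx, hy]
  have hUNB : ∀ y : (K₀ ⊗[k] L) ⊗[K₀] K, IsUnit y ∨ IsNilpotent y := by
    intro y
    rcases hUN (ψ y) with h | h
    · left
      have := h.map ψ.symm
      simpa using this
    · right
      have := h.map ψ.symm
      simpa using this
  haveI : Nontrivial ((K₀ ⊗[k] L) ⊗[K₀] K) := ψ.toEquiv.nontrivial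
  haveI : IsLocalRing ((K₀ ⊗[k] L) ⊗[K₀] K) := isLocalRing_of_isUnit_or_isNilpotent hUNB
  haveI : IsLocalHom (algebraMap (K₀ ⊗[k] L) ((K₀ ⊗[k] L) ⊗[K₀] K)) := ⟨fun a ha => by
    rcases isUnit_or_isNilpotent' (k := k) L K₀ a with h | h
    · exact h
    · exact absurd ha (not_isUnit_of_isNilpotent (h.map (algebraMap _ _)))⟩
  have hmax : IsLocalRing.maximalIdeal ((K₀ ⊗[k] L) ⊗[K₀] K) ≤
      (IsLocalRing.maximalIdeal (K₀ ⊗[k] L)).map
        (algebraMap (K₀ ⊗[k] L) ((K₀ ⊗[k] L) ⊗[K₀] K)) := by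
    intro y hy
    have hψy : ψ y ∈ IsLocalRing.maximalIdeal (K ⊗[k] L) := by
      rw [IsLocalRing.mem_maximalIdeal, mem_nonunits_iff] at hy ⊢
      intro hu
      apply hy
      have := hu.map ψ.symm
      simpa using this
    rw [← hs] at hψy
    have key : ∀ z ∈ Submodule.span (K ⊗[k] L) s, ψ.symm z ∈
        (IsLocalRing.maximalIdeal (K₀ ⊗[k] L)).map
          (algebraMap (K₀ ⊗[k] L) ((K₀ ⊗[k] L) ⊗[K₀] K)) := by
      intro z hz
      refine Submodule.span_induction (p := fun z _ => ψ.symm z ∈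
        (IsLocalRing.maximalIdeal (K₀ ⊗[k] L)).map
          (algebraMap (K₀ ⊗[k] L) ((K₀ ⊗[k] L) ⊗[K₀] K))) ?_ ?_ ?_ ?_ hz
      · intro z hz
        obtain ⟨z0, rfl⟩ := hsι hz
        change ψ.symm (ι' z0) ∈ _
        rw [← hψ z0, AlgEquiv.symm_apply_apply]
        apply Ideal.mem_map_of_mem
        rw [IsLocalRing.mem_maximalIdeal, mem_nonunits_iff]
        intro hu
        have hu' : IsUnit (ι' z0) := hu.map ι'
        have hz' : ι' z0 ∈ IsLocalRing.maximalIdeal (K ⊗[k] L) := by
          rw [← hs]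
          exact Submodule.subset_span hz
        exact hz' hu'
      · rw [map_zero]
        exact zero_mem _
      · intro x y _ _ hx hy
        rw [map_add]
        exact add_mem hx hy
      · intro a x _ hx
        rw [smul_eq_mul, map_mul]
        exact Ideal.mul_mem_left _ _ hx
    have := key _ hψy
    rwa [AlgEquiv.symm_apply_apply] at this
  have hlenB := length_baseChange_eq (K₀ := K₀) (K₀ ⊗[k] L) K hmax
  have h3 : Module.length (K ⊗[k] L) (K ⊗[k] L) =
      Module.length ((K₀ ⊗[k] L) ⊗[K₀] K) ((K₀ ⊗[k] L) ⊗[K₀] K) :=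
    (length_self_eq_of_ringEquiv ψ.toRingEquiv).symm
  have h4 : Module.length (K₀ ⊗[k] L) (K₀ ⊗[k] L) = Module.length (L ⊗[k] K₀) (L ⊗[k] K₀) :=
    length_self_eq_of_ringEquiv (Algebra.TensorProduct.comm k K₀ L).toRingEquiv
  obtain ⟨n, hn⟩ := exists_length_eq_pow_of_finite (k := k) L K₀ p
  exact ⟨n, by rw [h3, hlenB, h4, hn]⟩

/-- general level, purely inseparable factor on the left -/
theorem exists_length_eq_pow' (p : ℕ) [ExpChar k p] [IsNoetherianRing (K ⊗[k] L)] :
    ∃ n : ℕ, Module.length (K ⊗[k] L) (K ⊗[k] L) = (p ^ n : ℕ) := by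
  classical
  -- generators of the maximal ideal
  obtain ⟨s, hsfin, hs⟩ := Submodule.fg_def.mp
    (IsNoetherian.noetherian (IsLocalRing.maximalIdeal (K ⊗[k] L)))
  obtain ⟨M', hM'fin, hM's⟩ := TensorProduct.exists_finite_submodule_left_of_setFinite s hsfin
  obtain ⟨T, hT⟩ := Module.Finite.iff_fg.mp hM'fin
  let K₀ : IntermediateField k K := IntermediateField.adjoin k (T : Set K)
  have : Algebra.IsAlgebraic k K := inferInstance
  have : FiniteDimensional k K₀ :=
    IntermediateField.finiteDimensional_adjoin (fun x _ => Algebra.IsIntegral.isIntegral x)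
  have : IsPurelyInseparable k K₀ := IsPurelyInseparable.tower_bot k K₀ K
  have hM'le : ∀ m ∈ M', m ∈ K₀ := by
    intro m hm
    rw [← hT] at hm
    refine Submodule.span_induction (p := fun x _ => x ∈ K₀) ?_ ?_ ?_ ?_ hm
    · intro x hx
      exact IntermediateField.subset_adjoin k _ hx
    · exact zero_mem K₀
    · intro x y _ _ hx hy
      exact add_mem hx hy
    · intro a x _ hx
      rw [Algebra.smul_def]
      exact mul_mem (algebraMap_mem K₀ a) hx
  let j : M' →ₗ[k] K₀ :=
    { toFun := fun m => ⟨m.1, hM'le m.1 m.2⟩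
      map_add' := fun _ _ => rfl
      map_smul' := fun _ _ => rfl }
  let ι' : (K₀ ⊗[k] L) →ₐ[k] (K ⊗[k] L) :=
    Algebra.TensorProduct.map (IsScalarTower.toAlgHom k K₀ K) (AlgHom.id k L)
  have hιj : ∀ w : M' ⊗[k] L, ι' (LinearMap.rTensor L j w) = LinearMap.rTensor L M'.subtype w := by
    intro w
    induction w with
    | zero => simp
    | tmul m l => rfl
    | add x y hx hy => rw [map_add, map_add, map_add, hx, hy]
  have hsι : s ⊆ Set.range ι' := by
    intro z hz
    obtain ⟨w, hw⟩ := hM's hz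
    exact ⟨LinearMap.rTensor L j w, (hιj w).trans hw⟩
  exact exists_length_eq_pow_of_generators (k := k) L K p K₀ s hs hsι

/-- general level, purely inseparable factor on the right -/
theorem exists_length_eq_pow (p : ℕ) [ExpChar k p] [IsNoetherianRing (L ⊗[k] K)] :
    ∃ n : ℕ, Module.length (L ⊗[k] K) (L ⊗[k] K) = (p ^ n : ℕ) := by
  haveI : IsNoetherianRing (K ⊗[k] L) :=
    isNoetherianRing_of_ringEquiv _ (Algebra.TensorProduct.comm k L K).toRingEquiv
  obtain ⟨n, hn⟩ := exists_length_eq_pow' (k := k) L K p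
  exact ⟨n, by
    rw [length_self_eq_of_ringEquiv (Algebra.TensorProduct.comm k L K).toRingEquiv, hn]⟩

end Length

end Groth.Agent.Lib.PurInsepTensorLength
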