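import Groth.Agent.Lib.EquidimOpen
import Groth.Agent.Lib.H72PullbackStalk
import Groth.Agent.Lib.SupportPullback
import Groth.Prelude.Def_Cyc
import Mathlib

/-!
# Flat pullback of cycles: multiplicativity of fibre lengths and dimension bookkeeping (helper63)

* `length_quot_tower`: for local homomorphisms `A → B → C` with `B → C` flat,
  `ℓ_C(C/𝔪_A C) = ℓ_B(B/𝔪_A B) · ℓ_C(C/𝔪_B C)`.
* `exists_max_in_fibre`, `delta_le`, `delta_eq_iff`: a dimension function upstairs which is shifted by
  `c` at the maximal points of the fibres is at most the shifted one everywhere, with equality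
  exactly at the maximal points of the fibres.
-/

set_option autoImplicit false
universe u
open CategoryTheory AlgebraicGeometry TopologicalSpace Topology TensorProduct

namespace Groth.Agent.Lib.CycFlatPull

open Groth.Agent.Lib.H30GenFib Groth.Agent.Lib.EquidimOpen

section Ring

open IsLocalRing

/-- multiplicativity of the lengths of the closed fibres in a tower of local homomorphisms whose
upper map is flat -/
theorem length_quot_tower {A B C : Type u} [CommRing A] [CommRing B] [CommRing C] [IsLocalRing A]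
    [IsLocalRing B] [IsLocalRing C] (φ : A →+* B) (ψ : B →+* C) [IsLocalHom ψ] (hflat : ψ.Flat) :
    Module.length C (C ⧸ (maximalIdeal A).map (ψ.comp φ)) =
      Module.length B (B ⧸ (maximalIdeal A).map φ) * Module.length C (C ⧸ (maximalIdeal B).map ψ) := by
  letI := ψ.toAlgebra
  haveI : Module.Flat B C := hflat
  haveI : IsLocalHom (algebraMap B C) := inferInstanceAs (IsLocalHom ψ)
  have h1 := IsLocalRing.length_baseChange B C (B ⧸ (maximalIdeal A).map φ)
  have e := (Algebra.TensorProduct.quotIdealMapEquivTensorQuot C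
    ((maximalIdeal A).map φ)).toLinearEquiv
  rw [← e.length_eq] at h1
  have h2 : ((maximalIdeal A).map φ).map (algebraMap B C) = (maximalIdeal A).map (ψ.comp φ) := by
    rw [Ideal.map_map]; rfl
  rw [h2] at h1
  exact h1

end Ring

section Dim

variable {X X' : Scheme.{u}} (p : X' ⟶ X)

/-- every point has a generization in its fibre which is maximal in the fibre -/
theorem exists_max_in_fibre (x' : X') :
    ∃ w' : X', w' ⤳ x' ∧ p w' = p x' ∧ ∀ y : X', p y = p w' → y ⤳ w' → y = w' := by
  obtain ⟨ζ, hζmax, hζ⟩ := exists_max_generization (p.asFiber x')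
  have hpt : ∀ b : p.fiber (p x'), p (p.fiberι (p x') b) = p x' := by
    intro b
    have : p.fiberι (p x') b ∈ Set.range (p.fiberι (p x')) := ⟨b, rfl⟩
    rw [p.range_fiberι (p x')] at this
    exact this
  refine ⟨p.fiberι (p x') ζ, ?_, hpt ζ, ?_⟩
  · have := hζ.map (p.fiberι (p x')).continuous
    rwa [p.fiberι_asFiber] at this
  · intro y hy hsp
    rw [hpt ζ] at hy
    obtain ⟨b, rfl⟩ : y ∈ Set.range (p.fiberι (p x')) := by rw [p.range_fiberι]; exact hy
    have h1 : b ⤳ ζ := (p.fiberι (p x')).isEmbedding.isInducing.specializes_iff.mp hsp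
    rw [hζmax b h1]

variable {p} {δ : X → ℤ} {δ' : X' → ℤ} {c : ℤ}

theorem delta_le (hδ' : Cyc.IsDimFun X' δ')
    (hc : ∀ x' : X', (∀ y, p y = p x' → y ⤳ x' → y = x') → δ' x' = δ (p x') + c) (x' : X') :
    δ' x' ≤ δ (p x') + c := by
  obtain ⟨w', hw', hpw', hmax⟩ := exists_max_in_fibre p x'
  have h1 := hc w' hmax
  rw [hpw'] at h1
  by_cases he : w' = x'
  · rw [← he] at h1 ⊢; rw [h1, he]
  · have := (hδ' w' x' hw' he).1
    omega

theorem delta_eq_iff (hδ' : Cyc.IsDimFun X' δ')
    (hc : ∀ x' : X', (∀ y, p y = p x' → y ⤳ x' → y = x') → δ' x' = δ (p x') + c) (x' : X') :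
    δ' x' = δ (p x') + c ↔ ∀ y, p y = p x' → y ⤳ x' → y = x' := by
  refine ⟨fun h => ?_, hc x'⟩
  obtain ⟨w', hw', hpw', hmax⟩ := exists_max_in_fibre p x'
  have h1 := hc w' hmax
  rw [hpw'] at h1
  by_cases he : w' = x'
  · rw [← he]; exact hmax
  · have := (hδ' w' x' hw' he).1
    omega

end Dim

end Groth.Agent.Lib.CycFlatPull
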