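import Mathlib
import Groth.Agent.Lib.CycNorm85a
import Groth.Agent.S1907
import Groth.Agent.Lib.PurInsepTensorLength
set_option autoImplicit false
set_option linter.style.haveILetI false
set_option linter.unusedSectionVars false
set_option linter.unusedVariables false
universe u v

namespace Groth.Agent.Lib.CycNorm85
open Groth.Agent.Lib.LenLoc Groth.Agent.Lib.DetLength Groth.Agent.Lib.SumLengthLoc97
open Groth.Agent.Lib.PerHex3 Groth.Agent.Lib.PerHex4 Groth.Agent.Lib.DegOrd

section ordFracAPI
variable {R : Type u} [CommRing R] [IsDomain R] [IsNoetherianRing R] [Ring.KrullDimLE 1 R]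
  {K : Type u} [Field K] [Algebra R K] [IsFractionRing R K]

theorem ordFrac_key (w : K) : CycAlg.ordFrac R K w =
    WithZero.recZeroCoe (motive := fun _ => ℤ) 0 (fun z => Multiplicative.toAdd z)
      (Ring.ordFrac R w) := by
  unfold CycAlg.ordFrac
  rw [dif_pos ⟨inferInstance, inferInstance, inferInstance, inferInstance⟩]

theorem ordFrac_mul (u v : K) (hu : u ≠ 0) (hv : v ≠ 0) :
    CycAlg.ordFrac R K (u * v) = CycAlg.ordFrac R K u + CycAlg.ordFrac R K v := by
  rw [ordFrac_key, ordFrac_key, ordFrac_key, map_mul]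
  have hu' : Ring.ordFrac R u ≠ 0 := by rw [map_ne_zero]; exact hu
  have hv' : Ring.ordFrac R v ≠ 0 := by rw [map_ne_zero]; exact hv
  obtain ⟨a, ha⟩ := WithZero.ne_zero_iff_exists.mp hu'
  obtain ⟨b, hb⟩ := WithZero.ne_zero_iff_exists.mp hv'
  rw [← ha, ← hb, ← WithZero.coe_mul]
  simp only [WithZero.recZeroCoe_coe]
  rfl

theorem ordFrac_one : CycAlg.ordFrac R K (1 : K) = 0 := by
  rw [ordFrac_key, map_one]
  rfl

theorem ordFrac_pow (u : K) (hu : u ≠ 0) (n : ℕ) :
    CycAlg.ordFrac R K (u ^ n) = n * CycAlg.ordFrac R K u := by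
  induction n with
  | zero => simp [ordFrac_one]
  | succ n ih =>
    rw [pow_succ, ordFrac_mul _ _ (pow_ne_zero n hu) hu, ih]
    push_cast
    ring

theorem ordFrac_div (u v : K) (hu : u ≠ 0) (hv : v ≠ 0) :
    CycAlg.ordFrac R K (u / v) = CycAlg.ordFrac R K u - CycAlg.ordFrac R K v :=
  Groth.Agent.S1905.ordFrac_div u v hu hv

theorem ordFrac_algebraMap (c : R) (hc : c ≠ 0) :
    CycAlg.ordFrac R K (algebraMap R K c) = ((Ring.ord R c).toNat : ℤ) :=
  Groth.Agent.S1907.ordFrac_algebraMap c hc

end ordFracAPI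

section ordCongr
variable {R R' : Type u} [CommRing R] [CommRing R']

theorem ord_ringEquiv (e : R ≃+* R') (x : R) : Ring.ord R x = Ring.ord R' (e x) := by
  unfold Ring.ord
  rw [Module.length_eq_of_surjective (R := R ⧸ Ideal.span {x}) (Ideal.Quotient.mk_surjective),
    Module.length_eq_of_surjective (R := R' ⧸ Ideal.span {e x}) (Ideal.Quotient.mk_surjective)]
  refine Groth.Agent.Lib.PurInsepTensorLength.length_self_eq_of_ringEquiv
    (Ideal.quotientEquiv _ _ e ?_)
  rw [Ideal.map_span, Set.image_singleton]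
  rfl

variable [IsDomain R] [IsNoetherianRing R] [Ring.KrullDimLE 1 R] [IsDomain R'] [IsNoetherianRing R']
  [Ring.KrullDimLE 1 R']
  {K K' : Type u} [Field K] [Algebra R K] [IsFractionRing R K] [Field K'] [Algebra R' K']
  [IsFractionRing R' K']

theorem ordFrac_congr (e : R ≃+* R') (eK : K ≃+* K')
    (h : ∀ r, eK (algebraMap R K r) = algebraMap R' K' (e r)) (f : K) :
    CycAlg.ordFrac R K f = CycAlg.ordFrac R' K' (eK f) := by
  by_cases hf : f = 0
  · subst hf
    rw [map_zero]
    rw [ordFrac_key, ordFrac_key, map_zero, map_zero]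
  obtain ⟨a, b, hb, rfl⟩ := IsFractionRing.div_surjective (A := R) f
  have hb0 : b ≠ 0 := nonZeroDivisors.ne_zero hb
  have ha0 : a ≠ 0 := by
    rintro rfl
    exact hf (by simp)
  have hinj := FaithfulSMul.algebraMap_injective R K
  have hinj' := FaithfulSMul.algebraMap_injective R' K'
  have hA : algebraMap R K a ≠ 0 := fun h0 => ha0 (hinj (h0.trans (map_zero _).symm))
  have hB : algebraMap R K b ≠ 0 := fun h0 => hb0 (hinj (h0.trans (map_zero _).symm))
  have hea : e a ≠ 0 := fun h0 => ha0 (e.injective (h0.trans (map_zero _).symm))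
  have heb : e b ≠ 0 := fun h0 => hb0 (e.injective (h0.trans (map_zero _).symm))
  have hA' : algebraMap R' K' (e a) ≠ 0 := fun h0 => hea (hinj' (h0.trans (map_zero _).symm))
  have hB' : algebraMap R' K' (e b) ≠ 0 := fun h0 => heb (hinj' (h0.trans (map_zero _).symm))
  rw [map_div₀, h, h, ordFrac_div _ _ hA hB, ordFrac_div _ _ hA' hB',
    ordFrac_algebraMap a ha0, ordFrac_algebraMap b hb0, ordFrac_algebraMap _ hea,
    ordFrac_algebraMap _ heb, ord_ringEquiv e a, ord_ringEquiv e b]

end ordCongr

section lattice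
variable {A : Type u} [CommRing A] {M : Type v} [AddCommGroup M] [Module A M]

theorem length_sq_map_eq (f : M →ₗ[A] M) (hf : Function.Injective f)
    {W' W : Submodule A M} (h : W' ≤ W) (hW : W.map f ≤ W) (hW' : W'.map f ≤ W')
    (hfin : Module.length A (sq W W') < ⊤) :
    Module.length A (sq W (W.map f)) = Module.length A (sq W' (W'.map f)) := by
  have c1 := length_sq_chain (Z := W'.map f) (Y := W') (X := W) hW' h
  have c2 := length_sq_chain (Z := W'.map f) (Y := W.map f) (X := W) (Submodule.map_mono h) hW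
  have c3 := length_sq_map f (X := W) (X' := W') (Y := W.map f) (Y' := W'.map f) h
    (Submodule.map_mono h)
    (Submodule.map_le_iff_le_comap.mp le_rfl) (Submodule.map_le_iff_le_comap.mp le_rfl)
  rw [length_sq_eq_zero_of_le (le_sup_left : W.map f ≤ W.map f ⊔ W'.map f), add_zero,
    length_sq_eq_zero_of_le (X := W ⊓ (W'.map f).comap f) (Y := W') (by
      rw [Submodule.comap_map_eq_of_injective hf]; exact inf_le_right), add_zero] at c3
  rw [c1, ← c3, add_comm] at c2
  exact (ENat.add_right_injective_of_ne_top hfin.ne c2).symm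

end lattice

section quotLen
open Pointwise
variable (R : Type u) {B : Type u} [CommRing R] [CommRing B] [Algebra R B]

/-- `R`-length version of `Ring.ord_mul`. -/
theorem length_quot_mul (a b : B) (hb : b ∈ nonZeroDivisors B) :
    Module.length R (B ⧸ Ideal.span {a * b}) =
      Module.length R (B ⧸ Ideal.span {a}) + Module.length R (B ⧸ Ideal.span {b}) := by
  have := Module.length_eq_add_of_exact ((Ideal.mulQuot b (Ideal.span {a})).restrictScalars R)
          ((Ideal.quotOfMul b (Ideal.span {a})).restrictScalars R)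
          (Ideal.mulQuot_injective (Ideal.span {a}) hb)
          (Ideal.quotOfMul_surjective (Ideal.span {a}))
          (Ideal.exact_mulQuot_quotOfMul (Ideal.span {a}))
  rw [← this]
  have lem : (({b} : Set B) • Ideal.span {a}) = Ideal.span {b * a} := by
    simp [← Ideal.submodule_span_eq, Submodule.set_smul_span]
  have h2 : (({b} : Set B) • Ideal.span {a}) = b • Ideal.span {a} := Submodule.singleton_set_smul
    (Ideal.span {a}) b
  rw [h2] at lem
  rw [lem, mul_comm]

/-- the subquotient `⊤ / b ⊤` of `B` as an `R`-module is `B ⧸ (b)`. -/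
theorem length_sq_top_mulLeft (b : B) :
    Module.length R (sq (⊤ : Submodule R B) ((⊤ : Submodule R B).map (LinearMap.mulLeft R b))) =
      Module.length R (B ⧸ Ideal.span {b}) := by
  let g : ↥(⊤ : Submodule R B) →ₗ[R] B ⧸ Ideal.span {b} :=
    ((Ideal.span {b}).mkQ.restrictScalars R).comp (⊤ : Submodule R B).subtype
  have hg : Function.Surjective g := by
    intro z
    obtain ⟨z, rfl⟩ := Submodule.mkQ_surjective _ z
    exact ⟨⟨z, trivial⟩, rfl⟩
  have hk : LinearMap.ker g =
      ((⊤ : Submodule R B).map (LinearMap.mulLeft R b)).submoduleOf ⊤ := by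
    ext x
    rw [LinearMap.mem_ker]
    change Submodule.Quotient.mk (x : B) = 0 ↔
      (x : B) ∈ (⊤ : Submodule R B).map (LinearMap.mulLeft R b)
    rw [Submodule.Quotient.mk_eq_zero, Ideal.mem_span_singleton', Submodule.mem_map]
    constructor
    · rintro ⟨a, ha⟩
      exact ⟨a, trivial, by rw [LinearMap.mulLeft_apply, mul_comm, ha]⟩
    · rintro ⟨a, -, ha⟩
      exact ⟨a, by rw [mul_comm, ← ha, LinearMap.mulLeft_apply]⟩
  exact ((Submodule.quotEquivOfEq _ _ hk).symm ≪≫ₗ
    LinearMap.quotKerEquivOfSurjective g hg).length_eq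

end quotLen

section normLength
variable {R : Type u} [CommRing R] [IsDomain R]
  {K : Type u} [Field K] [Algebra R K] [IsFractionRing R K]
  {B : Type u} [CommRing B] [IsDomain B] [Algebra R B] [Module.Finite R B] [FaithfulSMul R B]
  {L : Type u} [Field L] [Algebra B L] [IsFractionRing B L] [Algebra K L] [Algebra R L]
  [IsScalarTower R K L] [IsScalarTower R B L]

omit [IsFractionRing R K] [FaithfulSMul R B] [Algebra K L] [IsScalarTower R K L] in
theorem exists_smul_mem_range (ℓ : L) :
    ∃ (d : R) (c : B), d ≠ 0 ∧ algebraMap B L c = d • ℓ := by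
  haveI : Algebra.IsIntegral R B := Algebra.IsIntegral.of_finite R B
  obtain ⟨β, γ, hγ, rfl⟩ := IsFractionRing.div_surjective (A := B) ℓ
  have hγ0 : γ ≠ 0 := nonZeroDivisors.ne_zero hγ
  obtain ⟨c, d, hd, h⟩ := Algebra.IsAlgebraic.exists_smul_eq_mul R β hγ0
  refine ⟨d, c, hd, ?_⟩
  have hγL : algebraMap B L γ ≠ 0 := by
    intro h0
    exact hγ0 ((IsFractionRing.injective B L) (h0.trans (map_zero _).symm))
  have h2 : d • algebraMap B L β = algebraMap B L γ * algebraMap B L c := by
    rw [← map_mul, ← h, Algebra.smul_def, Algebra.smul_def, map_mul,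
      ← IsScalarTower.algebraMap_apply R B L]
  rw [eq_comm, Algebra.smul_def, ← mul_div_assoc, ← Algebra.smul_def, h2,
    mul_div_cancel_left₀ _ hγL]

variable [FiniteDimensional K L]

omit [FiniteDimensional K L] [Module.Finite R B] [IsFractionRing B L] [FaithfulSMul R B] in
theorem linearIndependent_of_basis {n : ℕ} (e : Fin n → B) (bL : Module.Basis (Fin n) K L)
    (h : ∀ i, bL i = algebraMap B L (e i)) : LinearIndependent R e := by
  have h1 : LinearIndependent R (fun i => bL i) :=
    LinearIndependent.restrict_scalars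
      (by
        intro r r' hrr
        apply IsFractionRing.injective R K
        simpa [Algebra.smul_def] using hrr) bL.linearIndependent
  have h2 : (fun i => bL i) = (IsScalarTower.toAlgHom R B L).toLinearMap ∘ e := by
    funext i
    exact h i
  rw [h2] at h1
  exact LinearIndependent.of_comp _ h1

omit [FiniteDimensional K L] [Module.Finite R B] [FaithfulSMul R B] in
theorem exists_smul_mem_span {n : ℕ} (e : Fin n → B) (bL : Module.Basis (Fin n) K L)
    (h : ∀ i, bL i = algebraMap B L (e i)) (m : B) :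
    ∃ d : R, d ≠ 0 ∧ d • m ∈ Submodule.span R (Set.range e) := by
  classical
  obtain ⟨d, hd⟩ := IsLocalization.exist_integer_multiples_of_finset (nonZeroDivisors R)
    (Finset.univ.image fun i => bL.repr (algebraMap B L m) i)
  refine ⟨d, nonZeroDivisors.ne_zero d.2, ?_⟩
  have hd' : ∀ i, ∃ r : R, algebraMap R K r = (d : R) • bL.repr (algebraMap B L m) i := fun i =>
    hd _ (Finset.mem_image_of_mem _ (Finset.mem_univ i))
  choose r hr using hd'
  have key : (d : R) • m = ∑ i, r i • e i := by
    apply IsFractionRing.injective B L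
    rw [map_sum]
    have h3 : algebraMap B L ((d : R) • m) = (d : R) • algebraMap B L m := by
      rw [Algebra.smul_def, Algebra.smul_def, map_mul, ← IsScalarTower.algebraMap_apply R B L]
    rw [h3]
    conv_lhs => rw [← bL.sum_repr (algebraMap B L m)]
    rw [Finset.smul_sum]
    refine Finset.sum_congr rfl fun i _ => ?_
    rw [Algebra.smul_def (r i) (e i), map_mul, ← IsScalarTower.algebraMap_apply R B L,
      IsScalarTower.algebraMap_apply R K L, hr i, ← h i, ← Algebra.smul_def, smul_assoc]
  rw [key]
  exact Submodule.sum_mem _ fun i _ =>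
    Submodule.smul_mem _ _ (Submodule.subset_span (Set.mem_range_self i))

omit [FaithfulSMul R B] in
variable (R B K L) in
theorem exists_basis_in :
    ∃ (n : ℕ) (e : Fin n → B) (bL : Module.Basis (Fin n) K L),
      (∀ i, bL i = algebraMap B L (e i)) ∧ LinearIndependent R e ∧
      ∀ m : B, ∃ d : R, d ≠ 0 ∧ d • m ∈ Submodule.span R (Set.range e) := by
  let b₀ := Module.finBasis K L
  choose d c hd hc using fun i => exists_smul_mem_range (R := R) (B := B) (b₀ i)
  have hu : ∀ i, IsUnit (algebraMap R K (d i)) := fun i =>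
    isUnit_iff_ne_zero.mpr (fun h0 => hd i
      ((IsFractionRing.injective R K) (h0.trans (map_zero _).symm)))
  have hb : ∀ i, (b₀.isUnitSMul hu) i = algebraMap B L (c i) := fun i => by
    rw [Module.Basis.isUnitSMul_apply, hc i, algebraMap_smul]
  exact ⟨_, c, b₀.isUnitSMul hu, hb, linearIndependent_of_basis c _ hb,
    exists_smul_mem_span c _ hb⟩

variable [IsNoetherianRing R] [Ring.KrullDimLE 1 R]

/-- the determinant of multiplication by `x` on a free sublattice equals the norm. -/
theorem det_restrict_eq_norm {n : ℕ} (e : Fin n → B) (bL : Module.Basis (Fin n) K L)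
    (h : ∀ i, bL i = algebraMap B L (e i)) (he : LinearIndependent R e) (x : B)
    (hx : (Submodule.span R (Set.range e)).map (LinearMap.mulLeft R x) ≤
      Submodule.span R (Set.range e)) :
    algebraMap R K (LinearMap.det ((LinearMap.mulLeft R x).restrict
      (p := Submodule.span R (Set.range e)) (q := Submodule.span R (Set.range e))
      (fun z hz => hx (Submodule.mem_map_of_mem hz)))) =
      Algebra.norm K (algebraMap B L x) := by
  classical
  set F := Submodule.span R (Set.range e) with hF
  set φ := (LinearMap.mulLeft R x).restrict (p := F) (q := F)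
    (fun z hz => hx (Submodule.mem_map_of_mem hz)) with hφ
  let bF : Module.Basis (Fin n) R F := Module.Basis.span he
  have hbF : ∀ i, ((bF i : F) : B) = e i := fun i => Module.Basis.coe_span_apply he i
  rw [Algebra.norm_eq_matrix_det bL, ← LinearMap.det_toMatrix bF, RingHom.map_det]
  congr 1
  ext i j
  rw [RingHom.mapMatrix_apply, Matrix.map_apply, LinearMap.toMatrix_apply,
    Algebra.leftMulMatrix_eq_repr_mul]
  -- expand `φ (bF j)` in the basis
  have h1 : algebraMap B L x * bL j =
      ∑ k, (algebraMap R K (bF.repr (φ (bF j)) k)) • bL k := by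
    have h2 : ((φ (bF j) : F) : B) = ∑ k, bF.repr (φ (bF j)) k • e k := by
      conv_lhs => rw [← bF.sum_repr (φ (bF j))]
      rw [Submodule.coe_sum]
      refine Finset.sum_congr rfl fun k _ => ?_
      rw [Submodule.coe_smul, hbF]
    have h3 : ((φ (bF j) : F) : B) = x * e j := by
      rw [hφ, LinearMap.coe_restrict_apply, LinearMap.mulLeft_apply, hbF]
    rw [h j, ← map_mul, ← h3, h2, map_sum]
    refine Finset.sum_congr rfl fun k _ => ?_
    rw [Algebra.smul_def (bF.repr (φ (bF j)) k) (e k), map_mul,
      ← IsScalarTower.algebraMap_apply R B L, IsScalarTower.algebraMap_apply R K L, ← h k,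
      ← Algebra.smul_def]
  rw [h1, map_sum]
  simp only [map_smul, Module.Basis.repr_self, Finsupp.smul_single, smul_eq_mul, mul_one]
  rw [Finset.sum_apply']
  simp [Finsupp.single_apply]

omit [FiniteDimensional K L] in
theorem length_quot_smul_eq {n : ℕ} (e : Fin n → B) (he : LinearIndependent R e)
    (hM : ∀ m : B, ∃ d : R, d ≠ 0 ∧ d • m ∈ Submodule.span R (Set.range e))
    (c : R) (hc : c ≠ 0) :
    Module.length R (B ⧸ Ideal.span {algebraMap R B c}) =
      n * Module.length R (R ⧸ Ideal.span {c}) := by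
  have hinj : Function.Injective (LinearMap.lsmul R B c) := by
    intro z z' hzz
    simp only [LinearMap.lsmul_apply, Algebra.smul_def] at hzz
    have hc' : algebraMap R B c ≠ 0 := fun h0 =>
      hc (FaithfulSMul.algebraMap_injective R B (h0.trans (map_zero _).symm))
    exact mul_left_cancel₀ hc' hzz
  have h1 := length_sq_sm_lattice e he hM c hinj (W := ⊤) Module.Finite.fg_top le_top
  rw [← h1, ← length_sq_top_mulLeft R (algebraMap R B c)]
  have : LinearMap.mulLeft R (algebraMap R B c) = LinearMap.lsmul R B c := by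
    ext z
    simp [Algebra.smul_def]
  rw [this]

/-- **Key lemma**: for `y ≠ 0` in a finite domain extension `B` of a one-dimensional Noetherian
domain `R`, `ord_R (Nm_{L/K} y) = length_R (B ⧸ y B)`. -/
theorem ordFrac_norm_eq_length (y : B) (hy : y ≠ 0) :
    Module.length R (B ⧸ Ideal.span {y}) ≠ ⊤ ∧
    CycAlg.ordFrac R K (Algebra.norm K (algebraMap B L y)) =
      ((Module.length R (B ⧸ Ideal.span {y})).toNat : ℤ) := by
  classical
  obtain ⟨n, e, bL, hbL, he, hM⟩ := exists_basis_in R K B L
  set F := Submodule.span R (Set.range e) with hF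
  obtain ⟨c, hc0, hcF⟩ := exists_sm_le F hM (W := ⊤) Module.Finite.fg_top
  have hc' : algebraMap R B c ≠ 0 := fun h0 =>
    hc0 (FaithfulSMul.algebraMap_injective R B (h0.trans (map_zero _).symm))
  set x : B := algebraMap R B c * y with hx
  have hx0 : x ≠ 0 := mul_ne_zero hc' hy
  set f := LinearMap.mulLeft R x with hf
  have hfinj : Function.Injective f := fun z z' hzz => mul_left_cancel₀ hx0 hzz
  have hFf : F.map f ≤ F := by
    rintro _ ⟨z, hz, rfl⟩
    apply hcF
    refine mem_sm.mpr ⟨y * z, trivial, ?_⟩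
    rw [hf, LinearMap.mulLeft_apply, hx, Algebra.smul_def, mul_assoc]
  have hfin : Module.length R (sq (⊤ : Submodule R B) F) < ⊤ :=
    length_sq_lt_top_of_sm_le (W := ⊤) Module.Finite.fg_top hc0 hcF
  have E1 := length_sq_map_eq f hfinj (le_top : F ≤ ⊤) le_top hFf hfin
  rw [length_sq_top_mulLeft R x] at E1
  -- the free side
  let φ := f.restrict (p := F) (q := F) (fun z hz => hFf (Submodule.mem_map_of_mem hz))
  have hdet := det_restrict_eq_norm (K := K) (L := L) e bL hbL he x hFf
  have hrange : (F.map f).submoduleOf F = LinearMap.range φ := by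
    ext z
    rw [LinearMap.mem_range]
    change (z : B) ∈ F.map f ↔ _
    rw [Submodule.mem_map]
    constructor
    · rintro ⟨w, hw, hwz⟩
      exact ⟨⟨w, hw⟩, Subtype.ext hwz⟩
    · rintro ⟨w, rfl⟩
      exact ⟨w, w.2, rfl⟩
  have hxL : algebraMap B L x ≠ 0 := fun h0 =>
    hx0 (IsFractionRing.injective B L (h0.trans (map_zero _).symm))
  have hNx : Algebra.norm K (algebraMap B L x) ≠ 0 := Algebra.norm_ne_zero_iff.mpr hxL
  have hdet0 : LinearMap.det φ ≠ 0 := by
    intro h0
    rw [h0, map_zero] at hdet
    exact hNx hdet.symm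
  have E2 : Module.length R (sq F (F.map f)) = Ring.ord R (LinearMap.det φ) := by
    have := length_coker_eq_ord (Module.Basis.span he) φ
      (mem_nonZeroDivisors_iff_ne_zero.mpr hdet0)
    rw [← this]
    exact (Submodule.quotEquivOfEq _ _ hrange).length_eq
  -- split `x = c y`
  have E3 := length_quot_mul R (algebraMap R B c) y (mem_nonZeroDivisors_iff_ne_zero.mpr hy)
  rw [length_quot_smul_eq e he hM c hc0] at E3
  -- assemble in ℕ∞
  have hordc : Ring.ord R c ≠ ⊤ := Ring.ord_ne_top (mem_nonZeroDivisors_iff_ne_zero.mpr hc0)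
  have hordd : Ring.ord R (LinearMap.det φ) ≠ ⊤ :=
    Ring.ord_ne_top (mem_nonZeroDivisors_iff_ne_zero.mpr hdet0)
  have Etot : Ring.ord R (LinearMap.det φ) =
      n * Ring.ord R c + Module.length R (B ⧸ Ideal.span {y}) := by
    rw [← E2, ← E1, E3]
    rfl
  have hly : Module.length R (B ⧸ Ideal.span {y}) ≠ ⊤ := by
    intro htop
    rw [htop, add_top] at Etot
    exact hordd Etot
  refine ⟨hly, ?_⟩
  -- norms
  have hyL : algebraMap B L y ≠ 0 := fun h0 =>
    hy (IsFractionRing.injective B L (h0.trans (map_zero _).symm))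
  have hNy : Algebra.norm K (algebraMap B L y) ≠ 0 := Algebra.norm_ne_zero_iff.mpr hyL
  have hcK : algebraMap R K c ≠ 0 := fun h0 =>
    hc0 (IsFractionRing.injective R K (h0.trans (map_zero _).symm))
  have hfr : Module.finrank K L = n := by
    rw [Module.finrank_eq_card_basis bL, Fintype.card_fin]
  have hnorm : algebraMap R K (LinearMap.det φ) =
      (algebraMap R K c) ^ n * Algebra.norm K (algebraMap B L y) := by
    rw [hdet, hx, map_mul, map_mul, ← IsScalarTower.algebraMap_apply R B L,
      IsScalarTower.algebraMap_apply R K L, Algebra.norm_algebraMap, hfr]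
  have h1 := ordFrac_algebraMap (K := K) (LinearMap.det φ) hdet0
  rw [hnorm, ordFrac_mul _ _ (pow_ne_zero n hcK) hNy, ordFrac_pow _ hcK,
    ordFrac_algebraMap c hc0] at h1
  obtain ⟨a, ha⟩ := ENat.ne_top_iff_exists.mp hordc
  obtain ⟨d, hd⟩ := ENat.ne_top_iff_exists.mp hordd
  obtain ⟨l, hl⟩ := ENat.ne_top_iff_exists.mp hly
  rw [← ha, ← hd, ← hl] at Etot
  rw [← ha, ← hd] at h1
  rw [← hl]
  simp only [ENat.toNat_natCast] at h1 ⊢
  have : d = n * a + l := by exact_mod_cast Etot
  rw [this] at h1
  push_cast at h1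
  linarith

end normLength

end Groth.Agent.Lib.CycNorm85
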