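import Mathlib
import Groth.Agent.Lib.CycNorm85b
set_option autoImplicit false
set_option linter.style.haveILetI false
set_option linter.unusedSectionVars false
set_option linter.unusedVariables false
universe u v

namespace Groth.Agent.Lib.CycNorm85
open Groth.Agent.Lib.LenLoc Groth.Agent.Lib.DetLength Groth.Agent.Lib.SumLengthLoc97
open Groth.Agent.Lib.PerHex3 Groth.Agent.Lib.PerHex4 Groth.Agent.Lib.DegOrd

section enat

theorem toNat_finsum {ι : Type*} (f : ι → ℕ∞) (hf : (Function.support f).Finite)
    (hne : ∑ᶠ i, f i ≠ ⊤) :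
    (((∑ᶠ i, f i).toNat : ℕ) : ℤ) = ∑ᶠ i, ((f i).toNat : ℤ) := by
  classical
  have hle : ∀ i, f i ≠ ⊤ := by
    intro i hi
    apply hne
    rw [finsum_eq_sum_of_support_subset f (s := hf.toFinset) (by simp)]
    by_cases hmem : i ∈ hf.toFinset
    · rw [← Finset.add_sum_erase _ _ hmem, hi, top_add]
    · rw [Set.Finite.mem_toFinset, Function.mem_support, not_not] at hmem
      rw [hmem] at hi
      exact (ENat.zero_ne_top hi).elim
  let g : ι → ℕ := fun i => (f i).toNat
  have hfg : f = fun i => (g i : ℕ∞) := funext fun i => (ENat.natCast_toNat (hle i)).symm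
  have hsupp : Function.support g ⊆ hf.toFinset := by
    intro i hi
    rw [Finset.mem_coe, Set.Finite.mem_toFinset, Function.mem_support]
    intro h0
    exact hi (by simp [g, h0])
  have hsuppZ : (Function.support fun i => ((f i).toNat : ℤ)) ⊆ hf.toFinset := by
    intro i hi
    rw [Finset.mem_coe, Set.Finite.mem_toFinset, Function.mem_support]
    intro h0
    exact hi (by simp [h0])
  rw [finsum_eq_sum_of_support_subset f (s := hf.toFinset) (by simp),
    finsum_eq_sum_of_support_subset _ hsuppZ]
  have h1 : ∑ i ∈ hf.toFinset, f i = ((∑ i ∈ hf.toFinset, g i : ℕ) : ℕ∞) := by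
    rw [Nat.cast_sum]
    exact Finset.sum_congr rfl fun i _ => congrFun hfg i
  rw [h1, ENat.toNat_natCast]
  push_cast
  rfl

end enat

section ellQuot
variable {B : Type u} [CommRing B] [IsNoetherianRing B]

theorem ell_quot_span (y : B) (hy : y ∈ nonZeroDivisors B) (m : Ideal B) [m.IsPrime] :
    ell (B ⧸ Ideal.span {y}) m =
      Ring.ord (Localization.AtPrime m) (algebraMap B (Localization.AtPrime m) y) := by
  have e : (B ⧸ LinearMap.range (y • (LinearMap.id : B →ₗ[B] B))) ≃ₗ[B] B ⧸ Ideal.span {y} :=
    Submodule.quotEquivOfEq _ _ (range_smul_id y)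
  rw [← ell_eq_of_linearEquiv e m,
    ell_coker m (Module.Basis.singleton Unit B) (y • LinearMap.id)
      (by rw [det_smul_id]; exact hy), det_smul_id]

end ellQuot

section localSum
variable {R : Type u} [CommRing R] [IsDomain R] [IsNoetherianRing R] [Ring.KrullDimLE 1 R]
  {K : Type u} [Field K] [Algebra R K] [IsFractionRing R K]
  {B : Type u} [CommRing B] [IsDomain B] [Algebra R B] [Module.Finite R B] [FaithfulSMul R B]
  {L : Type u} [Field L] [Algebra B L] [IsFractionRing B L] [Algebra K L] [Algebra R L]
  [IsScalarTower R K L] [IsScalarTower R B L] [FiniteDimensional K L]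

theorem ordFrac_norm_eq_finsum_local (y : B) (hy : y ≠ 0) :
    CycAlg.ordFrac R K (Algebra.norm K (algebraMap B L y)) =
      ∑ᶠ m : MaximalSpectrum B, ((wt R m.asIdeal).toNat : ℤ) *
        ((Ring.ord (Localization.AtPrime m.asIdeal)
          (algebraMap B (Localization.AtPrime m.asIdeal) y)).toNat : ℤ) := by
  haveI : IsNoetherianRing B := isNoetherian_of_isNoetherianRing_of_finite R B |>
    isNoetherian_of_tower R
  obtain ⟨hfin, hkey⟩ := ordFrac_norm_eq_length (R := R) (K := K) (L := L) y hy
  rw [hkey]
  have hflR : IsFiniteLength R (B ⧸ Ideal.span {y}) := Module.length_ne_top_iff.mp hfin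
  have hflB : IsFiniteLength B (B ⧸ Ideal.span {y}) := by
    rw [isFiniteLength_iff_isNoetherian_isArtinian] at hflR ⊢
    exact ⟨isNoetherian_of_tower R hflR.1, isArtinian_of_tower R hflR.2⟩
  have hB := length_restrictScalars R (B ⧸ Ideal.span {y}) hflB
  have hsupp : (Function.support fun m : MaximalSpectrum B =>
      wt R m.asIdeal * ell (B ⧸ Ideal.span {y}) m.asIdeal).Finite :=
    (sum_ell (B ⧸ Ideal.span {y}) hflB).1.subset (fun m hm => by
      rw [Function.mem_support] at hm ⊢
      exact fun h0 => hm (by rw [h0, mul_zero]))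
  rw [hB] at hfin ⊢
  rw [toNat_finsum _ hsupp hfin]
  refine finsum_congr fun m => ?_
  haveI := m.isMaximal.isPrime
  rw [ENat.toNat_mul, ell_quot_span y (mem_nonZeroDivisors_iff_ne_zero.mpr hy)]
  push_cast
  rfl

end localSum

section dimInt
variable {R S : Type*} [CommRing R] [CommRing S] [Algebra R S]

theorem krullDimLE_of_isIntegral [Algebra.IsIntegral R S] (n : ℕ) [Ring.KrullDimLE n R] :
    Ring.KrullDimLE n S := by
  rw [Ring.krullDimLE_iff]
  refine le_trans (Order.krullDim_le_of_strictMono
      (fun I : PrimeSpectrum S ↦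
        (⟨Ideal.comap (algebraMap R S) I.asIdeal, inferInstance⟩ : PrimeSpectrum R))
      (fun I J hIJ ↦ by
        have : I.asIdeal < J.asIdeal := hIJ
        exact Ideal.IsIntegral.comap_lt_comap (R := R) this)) ?_
  exact Ring.krullDimLE_iff.mp ‹_›

end dimInt

section global
open IsLocalRing

variable {A' B' : Type u} [CommRing A'] [IsDomain A'] [CommRing B'] [IsDomain B'] [Algebra A' B']
  [Module.Finite A' B'] [FaithfulSMul A' B'] [IsNoetherianRing A']
  (q : Ideal A') [q.IsPrime]
  (R : Type u) [CommRing R] [IsLocalRing R] [Algebra A' R] [IsLocalization.AtPrime R q]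
  (Bq : Type u) [CommRing Bq] [Algebra B' Bq]
  [IsLocalization (Algebra.algebraMapSubmonoid B' q.primeCompl) Bq]
  [Algebra R Bq] [Algebra A' Bq] [IsScalarTower A' B' Bq] [IsScalarTower A' R Bq]

/-- the maximal ideals of `Bq` correspond to the primes of `B'` over `q`. -/
noncomputable def primesOverEquiv : q.primesOver B' ≃ MaximalSpectrum Bq where
  toFun P :=
    haveI : P.1.IsPrime := P.2.1
    haveI : P.1.LiesOver q := P.2.2
    haveI : Algebra.IsIntegral R Bq := by
      haveI : Module.Finite R Bq := Module.Finite.of_isLocalization A' B' q.primeCompl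
      exact Algebra.IsIntegral.of_finite R Bq
    haveI hp : (P.1.map (algebraMap B' Bq)).IsPrime :=
      IsLocalization.AtPrime.isPrime_map_of_liesOver B' q Bq P.1
    haveI hl : (P.1.map (algebraMap B' Bq)).LiesOver (maximalIdeal R) :=
      IsLocalization.AtPrime.liesOver_map_of_liesOver q R Bq P.1
    ⟨P.1.map (algebraMap B' Bq),
      Ideal.IsMaximal.of_liesOver_isMaximal (P.1.map (algebraMap B' Bq)) (maximalIdeal R)⟩
  invFun m :=
    haveI := m.isMaximal
    haveI : Algebra.IsIntegral R Bq := by
      haveI : Module.Finite R Bq := Module.Finite.of_isLocalization A' B' q.primeCompl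
      exact Algebra.IsIntegral.of_finite R Bq
    haveI : m.asIdeal.LiesOver (maximalIdeal R) :=
      (IsLocalization.AtPrime.mem_primesOver_of_isPrime (Rₚ := R) (Sₚ := Bq) (Q := m.asIdeal)).2
    ⟨Ideal.comap (algebraMap B' Bq) m.asIdeal, Ideal.IsPrime.under B' m.asIdeal,
      IsLocalization.AtPrime.liesOver_comap_of_liesOver q R m.asIdeal⟩
  left_inv P := by
    haveI : P.1.IsPrime := P.2.1
    haveI : P.1.LiesOver q := P.2.2
    apply Subtype.ext
    exact IsLocalization.under_map_of_isPrime_disjoint
      (Algebra.algebraMapSubmonoid B' q.primeCompl) Bq inferInstance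
      (Ideal.disjoint_primeCompl_of_liesOver P.1 q)
  right_inv m := by
    apply MaximalSpectrum.ext
    exact IsLocalization.map_under (Algebra.algebraMapSubmonoid B' q.primeCompl) Bq m.asIdeal

section perPrime
variable (P : Ideal B') [P.IsPrime] [P.LiesOver q]
  (C : Type u) [CommRing C] [Algebra B' C] [IsLocalization.AtPrime C P]
  [Algebra Bq C] [IsScalarTower B' Bq C]

include q in
theorem comap_map_eq : Ideal.comap (algebraMap B' Bq) (P.map (algebraMap B' Bq)) = P :=
  IsLocalization.under_map_of_isPrime_disjoint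
    (Algebra.algebraMapSubmonoid B' q.primeCompl) Bq inferInstance
    (Ideal.disjoint_primeCompl_of_liesOver P q)

include q in
theorem isLocalization_atPrime_map [hm : (P.map (algebraMap B' Bq)).IsPrime] :
    IsLocalization.AtPrime C (P.map (algebraMap B' Bq)) := by
  have hle : Algebra.algebraMapSubmonoid B' q.primeCompl ≤ P.primeCompl := by
    rintro _ ⟨s, hs, rfl⟩ hP
    have h1 : s ∈ Ideal.comap (algebraMap A' B') P := hP
    rw [← Ideal.under_def, ← Ideal.over_def P q] at h1
    exact hs h1
  haveI h1 : IsLocalization (P.primeCompl.map (algebraMap B' Bq)) C :=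
    IsLocalization.isLocalization_of_submonoid_le Bq C
      (Algebra.algebraMapSubmonoid B' q.primeCompl) P.primeCompl hle
  have hsub : P.primeCompl.map (algebraMap B' Bq) ≤ (P.map (algebraMap B' Bq)).primeCompl := by
    rintro _ ⟨b, hb, rfl⟩ hmem
    have : b ∈ Ideal.comap (algebraMap B' Bq) (P.map (algebraMap B' Bq)) := hmem
    rw [comap_map_eq q Bq P] at this
    exact hb this
  refine IsLocalization.isLocalization_of_is_exists_mul_mem C
    (P.primeCompl.map (algebraMap B' Bq)) _ hsub ?_
  rintro ⟨x, hx⟩
  obtain ⟨b, t, rfl⟩ := IsLocalization.exists_mk'_eq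
    (Algebra.algebraMapSubmonoid B' q.primeCompl) x
  refine ⟨algebraMap B' Bq t, ?_⟩
  rw [mul_comm]
  change IsLocalization.mk' Bq b t * algebraMap B' Bq t ∈ _
  rw [IsLocalization.mk'_spec]
  refine ⟨b, ?_, rfl⟩
  intro hbP
  apply hx
  change IsLocalization.mk' Bq b t ∈ P.map (algebraMap B' Bq)
  rw [IsLocalization.mk'_mem_map_algebraMap_iff]
  exact ⟨1, Submonoid.one_mem _, by simpa using hbP⟩

theorem ord_localization_eq [hm : (P.map (algebraMap B' Bq)).IsPrime]
    [IsLocalization.AtPrime C (P.map (algebraMap B' Bq))] (y' : B') :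
    Ring.ord (Localization.AtPrime (P.map (algebraMap B' Bq)))
      (algebraMap Bq (Localization.AtPrime (P.map (algebraMap B' Bq))) (algebraMap B' Bq y')) =
      Ring.ord C (algebraMap B' C y') := by
  let e := IsLocalization.algEquiv (P.map (algebraMap B' Bq)).primeCompl
    (Localization.AtPrime (P.map (algebraMap B' Bq))) C
  rw [ord_ringEquiv e.toRingEquiv]
  congr 1
  change e (algebraMap Bq _ (algebraMap B' Bq y')) = _
  rw [e.commutes, ← IsScalarTower.algebraMap_apply]

theorem wt_eq_finrank [IsLocalRing C] [Algebra R C] [IsScalarTower R Bq C]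
    [IsLocalHom (algebraMap R C)]
    [hm : (P.map (algebraMap B' Bq)).IsMaximal]
    [IsLocalization.AtPrime C (P.map (algebraMap B' Bq))] :
    (wt R (P.map (algebraMap B' Bq))).toNat =
      Module.finrank (ResidueField R) (ResidueField C) := by
  let e0 := IsLocalization.AtPrime.equivQuotMaximalIdeal (P.map (algebraMap B' Bq)) C
  let e : (Bq ⧸ P.map (algebraMap B' Bq)) ≃ₗ[R] ResidueField C :=
    { e0.toAddEquiv with
      map_smul' := by
        intro r x
        obtain ⟨b, rfl⟩ := Ideal.Quotient.mk_surjective x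
        change e0 (r • Ideal.Quotient.mk _ b) = r • e0 (Ideal.Quotient.mk _ b)
        have h1 : r • Ideal.Quotient.mk (P.map (algebraMap B' Bq)) b =
            Ideal.Quotient.mk _ (r • b) := rfl
        rw [h1, IsLocalization.AtPrime.equivQuotMaximalIdeal_apply_mk,
          IsLocalization.AtPrime.equivQuotMaximalIdeal_apply_mk, Algebra.smul_def, map_mul,
          ← IsScalarTower.algebraMap_apply R Bq C, Algebra.smul_def]
        rfl }
  unfold wt
  rw [e.length_eq, Module.length_eq_of_surjective (S := R) (R := ResidueField R)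
    residue_surjective, Module.length_eq_rank, Module.finrank]
  simp

end perPrime

end global

section globalPre

variable {A' B' : Type u} [CommRing A'] [IsDomain A'] [CommRing B'] [IsDomain B'] [Algebra A' B']
  [FaithfulSMul A' B'] (q : Ideal A') [q.IsPrime]

theorem le_nonZeroDivisors_T :
    Algebra.algebraMapSubmonoid B' q.primeCompl ≤ nonZeroDivisors B' := by
  rintro _ ⟨s, hs, rfl⟩
  rw [mem_nonZeroDivisors_iff_ne_zero]
  intro h0
  have : s = 0 := FaithfulSMul.algebraMap_injective A' B' (h0.trans (map_zero _).symm)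
  exact hs (this ▸ q.zero_mem)

theorem isDomain_Bq (Bq : Type u) [CommRing Bq] [Algebra B' Bq]
    [IsLocalization (Algebra.algebraMapSubmonoid B' q.primeCompl) Bq] : IsDomain Bq :=
  IsLocalization.isDomain_of_le_nonZeroDivisors (R := B') Bq (le_nonZeroDivisors_T q)

theorem isFractionRing_Bq (Bq : Type u) [CommRing Bq] [Algebra B' Bq]
    [IsLocalization (Algebra.algebraMapSubmonoid B' q.primeCompl) Bq]
    (L : Type u) [Field L] [Algebra B' L] [IsFractionRing B' L] [Algebra Bq L]
    [IsScalarTower B' Bq L] : IsFractionRing Bq L :=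
  haveI := isDomain_Bq (B' := B') q Bq
  IsFractionRing.isFractionRing_of_isDomain_of_isLocalization
    (Algebra.algebraMapSubmonoid B' q.primeCompl) Bq L

theorem isDomain_R (R : Type u) [CommRing R] [Algebra A' R] [IsLocalization.AtPrime R q] :
    IsDomain R :=
  IsLocalization.isDomain_of_le_nonZeroDivisors (R := A') R q.primeCompl_le_nonZeroDivisors

theorem isNoetherianRing_R [IsNoetherianRing A'] (R : Type u) [CommRing R] [Algebra A' R]
    [IsLocalization.AtPrime R q] : IsNoetherianRing R :=
  IsLocalization.isNoetherianRing q.primeCompl R inferInstance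

theorem isFractionRing_R (R : Type u) [CommRing R] [Algebra A' R] [IsLocalization.AtPrime R q]
    (K : Type u) [Field K] [Algebra A' K] [IsFractionRing A' K] [Algebra R K]
    [IsScalarTower A' R K] : IsFractionRing R K :=
  haveI := isDomain_R q R
  IsFractionRing.isFractionRing_of_isDomain_of_isLocalization q.primeCompl R K

end globalPre

end Groth.Agent.Lib.CycNorm85
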