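import Mathlib
import Groth.Agent.Lib.CycNorm85c
set_option autoImplicit false
set_option linter.style.haveILetI false
set_option linter.unusedSectionVars false
set_option linter.unusedVariables false
universe u v

namespace Groth.Agent.Lib.CycNorm85
open Groth.Agent.Lib.LenLoc Groth.Agent.Lib.DetLength Groth.Agent.Lib.SumLengthLoc97
open Groth.Agent.Lib.PerHex3 Groth.Agent.Lib.PerHex4 Groth.Agent.Lib.DegOrd

section globalThm
open IsLocalRing

variable {A' B' : Type u} [CommRing A'] [IsDomain A'] [CommRing B'] [IsDomain B'] [Algebra A' B']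
  [Module.Finite A' B'] [FaithfulSMul A' B'] [IsNoetherianRing A']
  (q : Ideal A') [q.IsPrime]
  (R : Type u) [CommRing R] [IsLocalRing R] [Algebra A' R] [IsLocalization.AtPrime R q]
  [Ring.KrullDimLE 1 R]
  (K : Type u) [Field K] [Algebra A' K] [IsFractionRing A' K] [Algebra R K] [IsScalarTower A' R K]
  (L : Type u) [Field L] [Algebra B' L] [IsFractionRing B' L] [Algebra K L] [Algebra A' L]
  [IsScalarTower A' K L] [IsScalarTower A' B' L] [FiniteDimensional K L]
  (C : q.primesOver B' → Type u) [∀ P, CommRing (C P)] [∀ P, IsLocalRing (C P)]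
  [∀ P, Algebra B' (C P)] [∀ P, IsLocalization.AtPrime (C P) P.1]
  [∀ P, Algebra (C P) L] [∀ P, IsScalarTower B' (C P) L]
  [∀ P, Algebra R (C P)] [∀ P, Algebra A' (C P)] [∀ P, IsScalarTower A' B' (C P)]
  [∀ P, IsScalarTower A' R (C P)] [∀ P, IsLocalHom (algebraMap R (C P))]

section aux
variable (Bq : Type u) [CommRing Bq] [Algebra B' Bq]
  [IsLocalization (Algebra.algebraMapSubmonoid B' q.primeCompl) Bq]
  [Algebra R Bq] [Algebra A' Bq] [IsScalarTower A' B' Bq] [IsScalarTower A' R Bq]
  [Algebra Bq L] [IsScalarTower B' Bq L]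

include Bq in
theorem ordFrac_norm_eq_finsum_primesOver_aux (y' : B') (hy : y' ≠ 0) :
    CycAlg.ordFrac R K (Algebra.norm K (algebraMap B' L y')) =
      ∑ᶠ P : q.primesOver B', (Module.finrank (ResidueField R) (ResidueField (C P)) : ℤ) *
        CycAlg.ordFrac (C P) L (algebraMap B' L y') := by
  haveI hRdom : IsDomain R := isDomain_R q R
  haveI hRnoeth : IsNoetherianRing R := isNoetherianRing_R q R
  haveI hRK : IsFractionRing R K := isFractionRing_R q R K
  haveI hBqdom : IsDomain Bq := isDomain_Bq (B' := B') q Bq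
  haveI hBqL : IsFractionRing Bq L := isFractionRing_Bq (B' := B') q Bq L
  haveI hfinBq : Module.Finite R Bq := Module.Finite.of_isLocalization A' B' q.primeCompl
  letI algRL : Algebra R L := ((algebraMap K L).comp (algebraMap R K)).toAlgebra
  haveI tRKL : IsScalarTower R K L := IsScalarTower.of_algebraMap_eq (fun _ => rfl)
  have hcomp : algebraMap R L = (algebraMap Bq L).comp (algebraMap R Bq) := by
    refine IsLocalization.ringHom_ext q.primeCompl ?_
    ext a
    change algebraMap K L (algebraMap R K (algebraMap A' R a)) =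
      algebraMap Bq L (algebraMap R Bq (algebraMap A' R a))
    rw [← IsScalarTower.algebraMap_apply A' R K, ← IsScalarTower.algebraMap_apply A' K L,
      ← IsScalarTower.algebraMap_apply A' R Bq, IsScalarTower.algebraMap_apply A' B' Bq,
      ← IsScalarTower.algebraMap_apply B' Bq L, ← IsScalarTower.algebraMap_apply A' B' L]
  haveI tRBqL : IsScalarTower R Bq L := IsScalarTower.of_algebraMap_eq (fun r => by
    rw [hcomp]; rfl)
  haveI hfaith : FaithfulSMul R Bq := by
    rw [faithfulSMul_iff_algebraMap_injective]
    intro a b hab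
    have h1 : algebraMap R L a = algebraMap R L b := by
      rw [hcomp]; change algebraMap Bq L (algebraMap R Bq a) = algebraMap Bq L (algebraMap R Bq b)
      rw [hab]
    have hinj : Function.Injective (algebraMap R L) := by
      change Function.Injective ((algebraMap K L).comp (algebraMap R K))
      exact (algebraMap K L).injective.comp (IsFractionRing.injective R K)
    exact hinj h1
  have hy1 : algebraMap B' Bq y' ≠ 0 := by
    intro h0
    apply hy
    have : algebraMap B' L y' = 0 := by
      rw [IsScalarTower.algebraMap_apply B' Bq L, h0, map_zero]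
    exact (FaithfulSMul.algebraMap_injective B' L) (this.trans (map_zero _).symm)
  have key := ordFrac_norm_eq_finsum_local (R := R) (K := K) (B := Bq) (L := L)
    (algebraMap B' Bq y') hy1
  rw [← IsScalarTower.algebraMap_apply B' Bq L] at key
  rw [key, ← finsum_comp_equiv (primesOverEquiv (B' := B') q R Bq)]
  refine finsum_congr fun P => ?_
  haveI hPprime : P.1.IsPrime := P.2.1
  haveI hPlo : P.1.LiesOver q := P.2.2
  have hunits : ∀ t : Algebra.algebraMapSubmonoid B' q.primeCompl,
      IsUnit (algebraMap B' (C P) t) := by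
    rintro ⟨_, s, hs, rfl⟩
    refine IsLocalization.map_units (C P) (⟨algebraMap A' B' s, ?_⟩ : P.1.primeCompl)
    intro hmem
    have : s ∈ Ideal.comap (algebraMap A' B') P.1 := hmem
    rw [← Ideal.under_def, ← Ideal.over_def P.1 q] at this
    exact hs this
  letI algBqC : Algebra Bq (C P) :=
    (IsLocalization.lift (M := Algebra.algebraMapSubmonoid B' q.primeCompl) (S := Bq)
      (g := algebraMap B' (C P)) hunits).toAlgebra
  haveI t1 : IsScalarTower B' Bq (C P) :=
    IsScalarTower.of_algebraMap_eq (fun b => (IsLocalization.lift_eq hunits b).symm)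
  haveI t2 : IsScalarTower R Bq (C P) := by
    refine IsScalarTower.of_algebraMap_eq' ?_
    refine IsLocalization.ringHom_ext q.primeCompl ?_
    ext a
    change algebraMap R (C P) (algebraMap A' R a) =
      algebraMap Bq (C P) (algebraMap R Bq (algebraMap A' R a))
    rw [← IsScalarTower.algebraMap_apply A' R (C P), ← IsScalarTower.algebraMap_apply A' R Bq,
      IsScalarTower.algebraMap_apply A' B' Bq, ← IsScalarTower.algebraMap_apply B' Bq (C P),
      ← IsScalarTower.algebraMap_apply A' B' (C P)]
  have hasI : ((primesOverEquiv (B' := B') q R Bq) P).asIdeal = P.1.map (algebraMap B' Bq) := rfl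
  haveI hmax : (P.1.map (algebraMap B' Bq)).IsMaximal :=
    hasI ▸ ((primesOverEquiv (B' := B') q R Bq) P).isMaximal
  haveI hpr : (P.1.map (algebraMap B' Bq)).IsPrime := hmax.isPrime
  haveI hloc : IsLocalization.AtPrime (C P) (P.1.map (algebraMap B' Bq)) :=
    isLocalization_atPrime_map q Bq P.1 (C P)
  haveI hCdom : IsDomain (C P) :=
    IsLocalization.isDomain_of_le_nonZeroDivisors (R := B') (C P)
      P.1.primeCompl_le_nonZeroDivisors
  haveI hB'noeth : IsNoetherianRing B' :=
    isNoetherian_of_isNoetherianRing_of_finite A' B' |> isNoetherian_of_tower A'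
  haveI hCnoeth : IsNoetherianRing (C P) :=
    IsLocalization.isNoetherianRing P.1.primeCompl (C P) inferInstance
  haveI hCL : IsFractionRing (C P) L :=
    IsFractionRing.isFractionRing_of_isDomain_of_isLocalization P.1.primeCompl (C P) L
  haveI hintBq : Algebra.IsIntegral R Bq := Algebra.IsIntegral.of_finite R Bq
  haveI hdimBq : Ring.KrullDimLE 1 Bq := krullDimLE_of_isIntegral (R := R) 1
  haveI hdimC : Ring.KrullDimLE 1 (C P) := by
    rw [Ring.krullDimLE_iff,
      IsLocalization.AtPrime.ringKrullDim_eq_height (P.1.map (algebraMap B' Bq)) (C P)]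
    exact (Ideal.height_le_ringKrullDim_of_ne_top hpr.ne_top).trans
      (Ring.krullDimLE_iff.mp hdimBq)
  have hyC : algebraMap B' (C P) y' ≠ 0 := by
    intro h0
    apply hy
    have : algebraMap B' L y' = 0 := by
      rw [IsScalarTower.algebraMap_apply B' (C P) L, h0, map_zero]
    exact (FaithfulSMul.algebraMap_injective B' L) (this.trans (map_zero _).symm)
  rw [IsScalarTower.algebraMap_apply B' (C P) L y', ordFrac_algebraMap _ hyC]
  have h1 := wt_eq_finrank R Bq P.1 (C P)
  have h2 := ord_localization_eq Bq P.1 (C P) y'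
  change ((wt R (P.1.map (algebraMap B' Bq))).toNat : ℤ) *
    ((Ring.ord (Localization.AtPrime (P.1.map (algebraMap B' Bq)))
      (algebraMap Bq (Localization.AtPrime (P.1.map (algebraMap B' Bq)))
        (algebraMap B' Bq y'))).toNat : ℤ) = _
  rw [h1, h2]

end aux

theorem ordFrac_norm_eq_finsum_primesOver_of_mem (y' : B') (hy : y' ≠ 0) :
    CycAlg.ordFrac R K (Algebra.norm K (algebraMap B' L y')) =
      ∑ᶠ P : q.primesOver B', (Module.finrank (ResidueField R) (ResidueField (C P)) : ℤ) *
        CycAlg.ordFrac (C P) L (algebraMap B' L y') := by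
  let T := Algebra.algebraMapSubmonoid B' q.primeCompl
  letI : Algebra R (Localization T) := localizationAlgebra q.primeCompl B'
  haveI : IsScalarTower A' R (Localization T) := isScalarTower_localizationAlgebra q.primeCompl B'
  have hunits : ∀ t : T, IsUnit (algebraMap B' L t) := fun t =>
    IsUnit.mk0 _ (fun h0 => nonZeroDivisors.ne_zero (le_nonZeroDivisors_T (B' := B') q t.2)
      ((FaithfulSMul.algebraMap_injective B' L) (h0.trans (map_zero _).symm)))
  letI : Algebra (Localization T) L :=
    (IsLocalization.lift (M := T) (g := algebraMap B' L) hunits).toAlgebra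
  haveI : IsScalarTower B' (Localization T) L :=
    IsScalarTower.of_algebraMap_eq (fun b => (IsLocalization.lift_eq hunits b).symm)
  exact ordFrac_norm_eq_finsum_primesOver_aux q R K L C (Localization T) y' hy

include q R in
theorem facts_C (P : q.primesOver B') :
    IsDomain (C P) ∧ IsNoetherianRing (C P) ∧ IsFractionRing (C P) L ∧
      Ring.KrullDimLE 1 (C P) := by
  let T := Algebra.algebraMapSubmonoid B' q.primeCompl
  let Bq := Localization T
  letI : Algebra R Bq := localizationAlgebra q.primeCompl B'
  haveI : IsScalarTower A' R Bq := isScalarTower_localizationAlgebra q.primeCompl B'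
  haveI hPprime : P.1.IsPrime := P.2.1
  haveI hPlo : P.1.LiesOver q := P.2.2
  have hunits : ∀ t : Algebra.algebraMapSubmonoid B' q.primeCompl,
      IsUnit (algebraMap B' (C P) t) := by
    rintro ⟨_, s, hs, rfl⟩
    refine IsLocalization.map_units (C P) (⟨algebraMap A' B' s, ?_⟩ : P.1.primeCompl)
    intro hmem
    have : s ∈ Ideal.comap (algebraMap A' B') P.1 := hmem
    rw [← Ideal.under_def, ← Ideal.over_def P.1 q] at this
    exact hs this
  letI algBqC : Algebra Bq (C P) :=
    (IsLocalization.lift (M := Algebra.algebraMapSubmonoid B' q.primeCompl) (S := Bq)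
      (g := algebraMap B' (C P)) hunits).toAlgebra
  haveI t1 : IsScalarTower B' Bq (C P) :=
    IsScalarTower.of_algebraMap_eq (fun b => (IsLocalization.lift_eq hunits b).symm)
  have hasI : ((primesOverEquiv (B' := B') q R Bq) P).asIdeal = P.1.map (algebraMap B' Bq) := rfl
  haveI hmax : (P.1.map (algebraMap B' Bq)).IsMaximal :=
    hasI ▸ ((primesOverEquiv (B' := B') q R Bq) P).isMaximal
  haveI hpr : (P.1.map (algebraMap B' Bq)).IsPrime := hmax.isPrime
  haveI hloc : IsLocalization.AtPrime (C P) (P.1.map (algebraMap B' Bq)) :=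
    isLocalization_atPrime_map q Bq P.1 (C P)
  haveI hCdom : IsDomain (C P) :=
    IsLocalization.isDomain_of_le_nonZeroDivisors (R := B') (C P)
      P.1.primeCompl_le_nonZeroDivisors
  haveI hB'noeth : IsNoetherianRing B' :=
    isNoetherian_of_isNoetherianRing_of_finite A' B' |> isNoetherian_of_tower A'
  haveI hCnoeth : IsNoetherianRing (C P) :=
    IsLocalization.isNoetherianRing P.1.primeCompl (C P) inferInstance
  haveI hCL : IsFractionRing (C P) L :=
    IsFractionRing.isFractionRing_of_isDomain_of_isLocalization P.1.primeCompl (C P) L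
  haveI hfinBq : Module.Finite R Bq := Module.Finite.of_isLocalization A' B' q.primeCompl
  haveI hintBq : Algebra.IsIntegral R Bq := Algebra.IsIntegral.of_finite R Bq
  haveI hdimBq : Ring.KrullDimLE 1 Bq := krullDimLE_of_isIntegral (R := R) 1
  refine ⟨hCdom, hCnoeth, hCL, ?_⟩
  rw [Ring.krullDimLE_iff,
    IsLocalization.AtPrime.ringKrullDim_eq_height (P.1.map (algebraMap B' Bq)) (C P)]
  exact (Ideal.height_le_ringKrullDim_of_ne_top hpr.ne_top).trans
    (Ring.krullDimLE_iff.mp hdimBq)

theorem ordFrac_norm_eq_finsum_primesOver (z : L) (hz : z ≠ 0) :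
    CycAlg.ordFrac R K (Algebra.norm K z) =
      ∑ᶠ P : q.primesOver B', (Module.finrank (ResidueField R) (ResidueField (C P)) : ℤ) *
        CycAlg.ordFrac (C P) L z := by
  haveI hRdom : IsDomain R := isDomain_R q R
  haveI hRnoeth : IsNoetherianRing R := isNoetherianRing_R q R
  haveI hRK : IsFractionRing R K := isFractionRing_R q R K
  haveI : Finite (q.primesOver B') := (Algebra.QuasiFinite.finite_primesOver q).to_subtype
  obtain ⟨a, b, hb, rfl⟩ := IsFractionRing.div_surjective (A := B') z
  have hb0 : b ≠ 0 := nonZeroDivisors.ne_zero hb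
  have ha0 : a ≠ 0 := by
    rintro rfl
    exact hz (by simp)
  have hinj := FaithfulSMul.algebraMap_injective B' L
  have hA : algebraMap B' L a ≠ 0 := fun h0 => ha0 (hinj (h0.trans (map_zero _).symm))
  have hB : algebraMap B' L b ≠ 0 := fun h0 => hb0 (hinj (h0.trans (map_zero _).symm))
  have hNA : Algebra.norm K (algebraMap B' L a) ≠ 0 := Algebra.norm_ne_zero_iff.mpr hA
  have hNB : Algebra.norm K (algebraMap B' L b) ≠ 0 := Algebra.norm_ne_zero_iff.mpr hB
  have hdiv : Algebra.norm K (algebraMap B' L a / algebraMap B' L b) =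
      Algebra.norm K (algebraMap B' L a) / Algebra.norm K (algebraMap B' L b) := by
    refine eq_div_of_mul_eq hNB ?_
    rw [← map_mul, div_mul_cancel₀ _ hB]
  rw [hdiv, ordFrac_div _ _ hNA hNB,
    ordFrac_norm_eq_finsum_primesOver_of_mem q R K L C a ha0,
    ordFrac_norm_eq_finsum_primesOver_of_mem q R K L C b hb0,
    ← finsum_sub_distrib (Set.toFinite _) (Set.toFinite _)]
  refine finsum_congr fun P => ?_
  obtain ⟨h1, h2, h3, h4⟩ := facts_C q R L C P
  rw [ordFrac_div _ _ hA hB]
  ring

end globalThm

end Groth.Agent.Lib.CycNorm85
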