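import Mathlib
import Groth.Agent.Lib.CycNorm85d
set_option autoImplicit false
set_option linter.style.haveILetI false
set_option linter.unusedSectionVars false
set_option linter.unusedVariables false
universe u v

namespace Groth.Agent.Lib.CycNorm85

section congr'
variable {R R' : Type u} [CommRing R] [CommRing R']
  {K K' : Type u} [Field K] [Algebra R K] [Field K'] [Algebra R' K']

theorem ordFrac_cond_of_equiv (e : R ≃+* R') (eK : K ≃+* K')
    (h : ∀ r, eK (algebraMap R K r) = algebraMap R' K' (e r))
    (hc : IsNoetherianRing R ∧ Ring.KrullDimLE 1 R ∧ Nontrivial R ∧ IsFractionRing R K) :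
    IsNoetherianRing R' ∧ Ring.KrullDimLE 1 R' ∧ Nontrivial R' ∧ IsFractionRing R' K' := by
  obtain ⟨h1, h2, h3, h4⟩ := hc
  haveI := h3
  refine ⟨isNoetherianRing_of_ringEquiv R e, ?_, e.injective.nontrivial, ?_⟩
  · rw [Ring.krullDimLE_iff, ← ringKrullDim_eq_of_ringEquiv e]
    exact Ring.krullDimLE_iff.mp h2
  · have hinj : Function.Injective (algebraMap R' K') := by
      intro a b hab
      have h5 : eK (algebraMap R K (e.symm a)) = eK (algebraMap R K (e.symm b)) := by
        rw [h, h, e.apply_symm_apply, e.apply_symm_apply, hab]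
      exact e.symm.injective (IsFractionRing.injective R K (eK.injective h5))
    haveI : FaithfulSMul R' K' := (faithfulSMul_iff_algebraMap_injective _ _).mpr hinj
    apply IsFractionRing.of_field
    intro z
    obtain ⟨a, b, hb, hab⟩ := IsFractionRing.div_surjective (A := R) (eK.symm z)
    refine ⟨e a, e b, ?_⟩
    rw [← h, ← h, ← map_div₀, hab, eK.apply_symm_apply]

/-- `CycAlg.ordFrac` is invariant under isomorphisms (no hypotheses on the rings). -/
theorem ordFrac_congr' (e : R ≃+* R') (eK : K ≃+* K')
    (h : ∀ r, eK (algebraMap R K r) = algebraMap R' K' (e r)) (f : K) :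
    CycAlg.ordFrac R K f = CycAlg.ordFrac R' K' (eK f) := by
  by_cases hc : IsNoetherianRing R ∧ Ring.KrullDimLE 1 R ∧ Nontrivial R ∧ IsFractionRing R K
  · have hc' := ordFrac_cond_of_equiv e eK h hc
    obtain ⟨h1, h2, h3, h4⟩ := hc
    obtain ⟨h1', h2', h3', h4'⟩ := hc'
    haveI : IsDomain R := (IsFractionRing.injective R K).isDomain
    haveI : IsDomain R' := (IsFractionRing.injective R' K').isDomain
    exact ordFrac_congr e eK h f
  · have hc' : ¬ (IsNoetherianRing R' ∧ Ring.KrullDimLE 1 R' ∧ Nontrivial R' ∧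
        IsFractionRing R' K') := by
      intro hc'
      apply hc
      refine ordFrac_cond_of_equiv e.symm eK.symm ?_ hc'
      intro r
      apply eK.injective
      rw [eK.apply_symm_apply, h, e.apply_symm_apply]
    unfold CycAlg.ordFrac
    rw [dif_neg hc, dif_neg hc']

end congr'

section equivVersion
open IsLocalRing

variable {A' B' : Type u} [CommRing A'] [IsDomain A'] [CommRing B'] [IsDomain B'] [Algebra A' B']
  [Module.Finite A' B'] [FaithfulSMul A' B'] [IsNoetherianRing A']
  (q : Ideal A') [q.IsPrime]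
  (R : Type u) [CommRing R] [IsLocalRing R] [Algebra A' R] [IsLocalization.AtPrime R q]
  [Ring.KrullDimLE 1 R]
  (K : Type u) [Field K] [Algebra A' K] [IsFractionRing A' K] [Algebra R K] [IsScalarTower A' R K]
  (L : Type u) [Field L] [Algebra B' L] [IsFractionRing B' L] [Algebra K L] [Algebra A' L]
  [IsScalarTower A' K L] [IsScalarTower A' B' L] [FiniteDimensional K L]
  {ι : Type*} (e : ι ≃ q.primesOver B')
  (C : ι → Type u) [∀ i, CommRing (C i)] [∀ i, IsLocalRing (C i)]
  [∀ i, Algebra B' (C i)]
  [∀ i, Algebra (C i) L] [∀ i, IsScalarTower B' (C i) L]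
  [∀ i, Algebra R (C i)] [∀ i, Algebra A' (C i)] [∀ i, IsScalarTower A' B' (C i)]
  [∀ i, IsScalarTower A' R (C i)] [∀ i, IsLocalHom (algebraMap R (C i))]

include q R in
theorem facts_C_of_equiv (hloc : ∀ i, @IsLocalization.AtPrime B' _ (C i) _ _ (e i).1 (e i).2.1)
    (i : ι) :
    IsDomain (C i) ∧ IsNoetherianRing (C i) ∧ IsFractionRing (C i) L ∧
      Ring.KrullDimLE 1 (C i) := by
  haveI : ∀ P : q.primesOver B', IsLocalization.AtPrime (C (e.symm P)) P.1 := fun P => by
    have := hloc (e.symm P)
    simp only [e.apply_symm_apply] at this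
    exact this
  have := facts_C q R L (fun P => C (e.symm P)) (e i)
  have hi : e.symm (e i) = i := e.symm_apply_apply i
  rw [hi] at this
  exact this

theorem ordFrac_norm_eq_finsum_of_equiv
    (hloc : ∀ i, @IsLocalization.AtPrime B' _ (C i) _ _ (e i).1 (e i).2.1)
    (z : L) (hz : z ≠ 0) :
    CycAlg.ordFrac R K (Algebra.norm K z) =
      ∑ᶠ i : ι, (Module.finrank (ResidueField R) (ResidueField (C i)) : ℤ) *
        CycAlg.ordFrac (C i) L z := by
  haveI : ∀ P : q.primesOver B', IsLocalization.AtPrime (C (e.symm P)) P.1 := fun P => by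
    have := hloc (e.symm P)
    simp only [e.apply_symm_apply] at this
    exact this
  rw [ordFrac_norm_eq_finsum_primesOver q R K L (fun P => C (e.symm P)) z hz]
  exact finsum_comp_equiv e.symm (f := fun i =>
    (Module.finrank (ResidueField R) (ResidueField (C i)) : ℤ) * CycAlg.ordFrac (C i) L z)

end equivVersion

end Groth.Agent.Lib.CycNorm85
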