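import Groth.Agent.Lib.H40FunFldApprox
import Mathlib.RingTheory.DedekindDomain.AdicValuation
import Mathlib.RingTheory.Valuation.ValuationSubring
import Mathlib.RingTheory.DiscreteValuationRing.Basic
import Mathlib.RingTheory.Valuation.Discrete.IsDiscreteValuationRing

/-!
# Weak approximation for finitely many surjective `ℤ`-valued valuations of a field

Mechanical generalisation of the `FunFld` weak approximation lemmas (`H40FunFld`, `H40FunFldApprox`),
which never use triviality on the constant field.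
-/

set_option autoImplicit false
set_option linter.style.haveILetI false
set_option linter.unusedSectionVars false

namespace Groth.Agent.Lib.H40WeakApprox

open Groth.Agent.Lib.H40FunFld (lt_one_iff_le_exp_neg_one one_lt_iff_exp_one_le)

universe v
variable {K : Type v} [Field K]

/-- A surjective valuation of `K` with values in `ℤ ∪ {0}` (multiplicative notation). -/
abbrev DPlace (K : Type v) [Field K] : Type v :=
  {w : Valuation K (WithZero (Multiplicative ℤ)) // True ∧ Function.Surjective w}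

theorem exists_uniformizer (P : DPlace K) : ∃ π : K, P.1 π = WithZero.exp (-1 : ℤ) :=
  P.2.2 _

/-- `log ∘ v` for a place, on nonzero elements, is additive. -/
theorem log_val_mul (P : DPlace K) {a b : K} (ha : a ≠ 0) (hb : b ≠ 0) :
    WithZero.log (P.1 (a * b)) = WithZero.log (P.1 a) + WithZero.log (P.1 b) := by
  rw [map_mul, WithZero.log_mul ((Valuation.ne_zero_iff _).2 ha) ((Valuation.ne_zero_iff _).2 hb)]

theorem log_val_zpow (P : DPlace K) (a : K) (n : ℤ) :
    WithZero.log (P.1 (a ^ n)) = n * WithZero.log (P.1 a) := by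
  rw [map_zpow₀, WithZero.log_zpow, smul_eq_mul]

theorem val_le_one_iff_log (P : DPlace K) {a : K} (ha : a ≠ 0) :
    P.1 a ≤ 1 ↔ WithZero.log (P.1 a) ≤ 0 := by
  rw [WithZero.log_le_iff_le_exp ((Valuation.ne_zero_iff _).2 ha), WithZero.exp_zero]

theorem val_eq_exp_log (P : DPlace K) {a : K} (ha : a ≠ 0) :
    P.1 a = WithZero.exp (WithZero.log (P.1 a)) :=
  (WithZero.exp_log ((Valuation.ne_zero_iff _).2 ha)).symm

/-- Two places whose valuation rings are comparable are equal. -/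
theorem eq_of_forall_le_one {P Q : DPlace K}
    (h : ∀ a : K, P.1 a ≤ 1 → Q.1 a ≤ 1) : P = Q := by
  -- step (i)
  have h1 : ∀ a : K, a ≠ 0 → WithZero.log (P.1 a) = 0 → WithZero.log (Q.1 a) = 0 := by
    intro a ha h0
    have ha' : a⁻¹ ≠ 0 := inv_ne_zero ha
    have e1 : WithZero.log (Q.1 a) ≤ 0 :=
      (val_le_one_iff_log Q ha).1 (h a ((val_le_one_iff_log P ha).2 h0.le))
    have e2 : WithZero.log (Q.1 a⁻¹) ≤ 0 := by
      apply (val_le_one_iff_log Q ha').1 (h a⁻¹ ((val_le_one_iff_log P ha').2 _))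
      rw [map_inv₀, WithZero.log_inv, h0, neg_zero]
    rw [map_inv₀, WithZero.log_inv] at e2
    omega
  obtain ⟨π, hπ⟩ := exists_uniformizer P
  have hπ0 : π ≠ 0 := by
    intro h0; rw [h0, map_zero] at hπ; exact WithZero.exp_ne_zero hπ.symm
  have hpπ : WithZero.log (P.1 π) = -1 := by rw [hπ, WithZero.log_exp]
  set c : ℤ := WithZero.log (Q.1 π) with hc
  have hc0 : c ≤ 0 := by
    apply (val_le_one_iff_log Q hπ0).1 (h π _)
    rw [hπ]; rw [← WithZero.exp_zero, WithZero.exp_le_exp]; omega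
  have h2 : ∀ a : K, a ≠ 0 → WithZero.log (Q.1 a) = -c * WithZero.log (P.1 a) := by
    intro a ha
    set n : ℤ := WithZero.log (P.1 a) with hn
    have hz : π ^ n ≠ 0 := zpow_ne_zero n hπ0
    have e := h1 (a * π ^ n) (mul_ne_zero ha hz) (by
      rw [log_val_mul P ha hz, log_val_zpow, hpπ, ← hn]; ring)
    rw [log_val_mul Q ha hz, log_val_zpow, ← hc] at e
    linarith
  obtain ⟨b, hb⟩ := Q.2.2 (WithZero.exp (-1 : ℤ))
  have hb0 : b ≠ 0 := by
    intro h0; rw [h0, map_zero] at hb; exact WithZero.exp_ne_zero hb.symm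
  have hqb : WithZero.log (Q.1 b) = -1 := by rw [hb, WithZero.log_exp]
  have h3 := h2 b hb0
  rw [hqb] at h3
  have hc1 : c = -1 := by
    have : (-c) * WithZero.log (P.1 b) = -1 := h3.symm
    have h4 : (-c) ∣ 1 := ⟨-WithZero.log (P.1 b), by linarith⟩
    have h5 : 0 ≤ -c := by omega
    have := Int.eq_one_of_dvd_one h5 h4
    omega
  apply Subtype.ext
  apply Valuation.ext
  intro a
  by_cases ha : a = 0
  · rw [ha, map_zero, map_zero]
  · rw [val_eq_exp_log P ha, val_eq_exp_log Q ha, h2 a ha, hc1]; simp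

/-- Distinct places have incomparable valuation rings. -/
theorem exists_le_one_lt_of_ne {P Q : DPlace K} (h : P ≠ Q) :
    ∃ a : K, P.1 a ≤ 1 ∧ 1 < Q.1 a := by
  by_contra hcon
  push Not at hcon
  exact h (eq_of_forall_le_one hcon)

/-- For distinct places there is `z` with `v_P z < 1 < v_Q z`. -/
theorem exists_lt_one_one_lt_of_ne {P Q : DPlace K} (h : P ≠ Q) :
    ∃ z : K, P.1 z < 1 ∧ 1 < Q.1 z := by
  obtain ⟨a, ha1, ha2⟩ := exists_le_one_lt_of_ne h
  obtain ⟨b, hb1, hb2⟩ := exists_le_one_lt_of_ne (Ne.symm h)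
  have hb0 : b ≠ 0 := by
    intro h0; rw [h0, map_zero] at hb2; exact not_lt_bot hb2
  have hPb : P.1 b ≠ 0 := (Valuation.ne_zero_iff _).2 hb0
  have hQb : Q.1 b ≠ 0 := (Valuation.ne_zero_iff _).2 hb0
  refine ⟨a / b, ?_, ?_⟩
  · rw [map_div₀, div_lt_one₀ (zero_lt_iff.2 hPb)]
    exact lt_of_le_of_lt ha1 hb2
  · rw [map_div₀, one_lt_div₀ (zero_lt_iff.2 hQb)]
    exact lt_of_le_of_lt hb1 ha2

/-- Choice of exponent: `n ≥ 1` with `v_Q(z)^n ≠ v_Q(u)` for all `Q` in a finite set on which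
`v_Q(u) > 1`. -/
theorem exists_pow_ne (s : Finset (DPlace K)) (u z : K)
    (hu : ∀ Q ∈ s, 1 < Q.1 u) :
    ∃ n : ℕ, n ≠ 0 ∧ ∀ Q ∈ s, Q.1 (z ^ n) ≠ Q.1 u := by
  classical
  refine ⟨1 + s.sup (fun Q => (WithZero.log (Q.1 u)).natAbs), by omega, ?_⟩
  intro Q hQ heq
  set n : ℕ := 1 + s.sup (fun Q => (WithZero.log (Q.1 u)).natAbs) with hn
  have hle : (WithZero.log (Q.1 u)).natAbs ≤ s.sup (fun Q => (WithZero.log (Q.1 u)).natAbs) :=
    Finset.le_sup (f := fun Q : DPlace K => (WithZero.log (Q.1 u)).natAbs) hQ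
  have hu1 := hu Q hQ
  have hu0 : Q.1 u ≠ 0 := fun h0 => by rw [h0] at hu1; exact not_lt_bot hu1
  have hlu : 0 < WithZero.log (Q.1 u) := by
    rw [WithZero.lt_log_iff_exp_lt hu0, WithZero.exp_zero]; exact hu1
  have hz0 : Q.1 z ≠ 0 := by
    intro h0
    rw [map_pow, h0, zero_pow (by omega)] at heq
    exact hu0 heq.symm
  have hlog : (n : ℤ) * WithZero.log (Q.1 z) = WithZero.log (Q.1 u) := by
    rw [← heq, map_pow, WithZero.log_pow, nsmul_eq_mul]
  by_cases hz : WithZero.log (Q.1 z) = 0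
  · rw [hz, mul_zero] at hlog; omega
  · have h1 : (n : ℤ) ≤ |(n : ℤ) * WithZero.log (Q.1 z)| := by
      rw [abs_mul, Nat.abs_cast]
      have : 1 ≤ |WithZero.log (Q.1 z)| := Int.one_le_abs hz
      nlinarith [Nat.cast_nonneg (α := ℤ) n]
    rw [hlog] at h1
    have h2 : |WithZero.log (Q.1 u)| = ((WithZero.log (Q.1 u)).natAbs : ℤ) := Int.abs_eq_natAbs _
    rw [h2] at h1
    have : n ≤ (WithZero.log (Q.1 u)).natAbs := by exact_mod_cast h1
    omega

/-- Weak approximation (one-sided form): for a place `P` not in a finite set `s` of places there is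
`u` with `v_P u < 1` and `v_Q u > 1` for all `Q ∈ s`. -/
theorem exists_lt_one_forall_one_lt (s : Finset (DPlace K)) (P : DPlace K)
    (hP : P ∉ s) : ∃ u : K, P.1 u < 1 ∧ ∀ Q ∈ s, 1 < Q.1 u := by
  classical
  induction s using Finset.induction_on with
  | empty =>
    obtain ⟨π, hπ⟩ := exists_uniformizer P
    refine ⟨π, ?_, by simp⟩
    rw [hπ, ← WithZero.exp_zero, WithZero.exp_lt_exp]; omega
  | insert Q s hQs ih =>
    have hPs : P ∉ s := fun h => hP (Finset.mem_insert_of_mem h)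
    have hPQ : P ≠ Q := fun h => hP (h ▸ Finset.mem_insert_self _ _)
    obtain ⟨u, hu1, hu2⟩ := ih hPs
    by_cases hQu : 1 < Q.1 u
    · refine ⟨u, hu1, ?_⟩
      intro Q' hQ'
      rcases Finset.mem_insert.1 hQ' with rfl | h
      · exact hQu
      · exact hu2 Q' h
    · push Not at hQu
      obtain ⟨z, hz1, hz2⟩ := exists_lt_one_one_lt_of_ne hPQ
      obtain ⟨n, hn0, hn⟩ := exists_pow_ne s u z hu2
      refine ⟨u + z ^ n, ?_, ?_⟩
      · apply Valuation.map_add_lt _ hu1
        rw [map_pow]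
        exact pow_lt_one₀ zero_le hz1 hn0
      · intro Q' hQ'
        rcases Finset.mem_insert.1 hQ' with rfl | h
        · have h1 : 1 < Q'.1 (z ^ n) := by rw [map_pow]; exact one_lt_pow₀ hz2 hn0
          rw [Valuation.map_add_eq_of_lt_right _ (lt_of_le_of_lt hQu h1)]
          exact h1
        · rw [Valuation.map_add_of_distinct_val _ (hn Q' h).symm]
          exact lt_of_lt_of_le (hu2 Q' h) (le_max_left _ _)

/-- Weak approximation: for a place `P` not in a finite set `s` of places there is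
`y` with `v_P y = 1` and `v_Q y < 1` for all `Q ∈ s`. -/
theorem exists_eq_one_forall_lt_one (s : Finset (DPlace K)) (P : DPlace K)
    (hP : P ∉ s) : ∃ y : K, P.1 y = 1 ∧ ∀ Q ∈ s, Q.1 y < 1 := by
  obtain ⟨u, hu1, hu2⟩ := exists_lt_one_forall_one_lt s P hP
  have h1 : P.1 (1 + u) = 1 := by
    have := Valuation.map_add_eq_of_lt_left P.1 (x := (1 : K)) (y := u) (by rw [map_one]; exact hu1)
    rw [this, map_one]
  have h10 : (1 + u) ≠ 0 := by
    intro h0; rw [h0, map_zero] at h1; exact zero_ne_one h1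
  refine ⟨(1 + u)⁻¹, by rw [map_inv₀, h1, inv_one], ?_⟩
  intro Q hQ
  have h2 : Q.1 (1 + u) = Q.1 u := by
    apply Valuation.map_add_eq_of_lt_right
    rw [map_one]; exact hu2 Q hQ
  rw [map_inv₀, h2]
  have := hu2 Q hQ
  exact inv_lt_one_of_one_lt₀ this

/-- For `P ∉ s` and `N ≥ 0` there is `w` with `w ≡ 1` to precision `N` at `P` and `w ≡ 0` to
precision `N` at all `Q ∈ s`. -/
theorem exists_approx_one_zero (s : Finset (DPlace K)) (P : DPlace K)
    (hP : P ∉ s) (N : ℕ) :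
    ∃ w : K, P.1 (w - 1) ≤ WithZero.exp (-(N : ℤ)) ∧ ∀ Q ∈ s, Q.1 w ≤ WithZero.exp (-(N : ℤ)) := by
  obtain ⟨u, hu1, hu2⟩ := exists_lt_one_forall_one_lt s P hP
  -- use exponent `N + 1` to make sure it is positive
  set m : ℕ := N + 1 with hm
  have hm0 : m ≠ 0 := by omega
  have hPum : P.1 (u ^ m) < 1 := by rw [map_pow]; exact pow_lt_one₀ zero_le hu1 hm0
  have h1 : P.1 (1 + u ^ m) = 1 := by
    have := Valuation.map_add_eq_of_lt_left P.1 (x := (1 : K)) (y := u ^ m)
      (by rw [map_one]; exact hPum)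
    rw [this, map_one]
  have h10 : (1 + u ^ m) ≠ 0 := by
    intro h0; rw [h0, map_zero] at h1; exact zero_ne_one h1
  refine ⟨(1 + u ^ m)⁻¹, ?_, ?_⟩
  · have e : (1 + u ^ m)⁻¹ - 1 = -(u ^ m) * (1 + u ^ m)⁻¹ := by
      field_simp
      ring
    rw [e, map_mul, Valuation.map_neg, map_inv₀, h1, inv_one, mul_one, map_pow]
    have h2 : P.1 u ≤ WithZero.exp (-1 : ℤ) := lt_one_iff_le_exp_neg_one.1 hu1
    calc P.1 u ^ m ≤ WithZero.exp (-1 : ℤ) ^ m := pow_le_pow_left₀ zero_le h2 m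
      _ = WithZero.exp (-(m : ℤ)) := by
          rw [← WithZero.exp_nsmul]; congr 1; simp
      _ ≤ WithZero.exp (-(N : ℤ)) := by
          rw [WithZero.exp_le_exp]; omega
  · intro Q hQ
    have h2 : WithZero.exp (1 : ℤ) ≤ Q.1 u := one_lt_iff_exp_one_le.1 (hu2 Q hQ)
    have h3 : WithZero.exp (m : ℤ) ≤ Q.1 (u ^ m) := by
      rw [map_pow]
      calc WithZero.exp (m : ℤ) = WithZero.exp (1 : ℤ) ^ m := by
            rw [← WithZero.exp_nsmul]; congr 1; simp
        _ ≤ Q.1 u ^ m := pow_le_pow_left₀ zero_le h2 m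
    have h4 : 1 < Q.1 (u ^ m) := by
      refine lt_of_lt_of_le ?_ h3
      rw [← WithZero.exp_zero, WithZero.exp_lt_exp]; omega
    have h5 : Q.1 (1 + u ^ m) = Q.1 (u ^ m) := by
      apply Valuation.map_add_eq_of_lt_right
      rw [map_one]; exact h4
    rw [map_inv₀, h5]
    have h6 : (0 : WithZero (Multiplicative ℤ)) < Q.1 (u ^ m) := lt_trans zero_lt_one h4
    rw [inv_le_comm₀ h6 WithZero.exp_pos, ← WithZero.exp_neg, neg_neg]
    refine le_trans ?_ h3
    rw [WithZero.exp_le_exp]; omega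

/-- Weak approximation: for a finite set `s` of places, a family `x P` and a precision `N`,
there is `z` with `v_P (z - x P) ≤ exp (-N)` for all `P ∈ s`. -/
theorem exists_approx (s : Finset (DPlace K)) (x : DPlace K → K) (N : ℕ) :
    ∃ z : K, ∀ P ∈ s, P.1 (z - x P) ≤ WithZero.exp (-(N : ℤ)) := by
  classical
  -- a bound `M` on the valuations of the `x Q` at all `P ∈ s`
  obtain ⟨M, hM⟩ : ∃ M : ℕ, ∀ P ∈ s, ∀ Q ∈ s, P.1 (x Q) ≤ WithZero.exp (M : ℤ) := by
    refine ⟨(s ×ˢ s).sup (fun pq => (WithZero.log (pq.1.1 (x pq.2))).toNat), ?_⟩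
    intro P hP Q hQ
    have hle : (WithZero.log (P.1 (x Q))).toNat ≤
        (s ×ˢ s).sup (fun pq => (WithZero.log (pq.1.1 (x pq.2))).toNat) :=
      Finset.le_sup (f := fun pq : DPlace K × DPlace K =>
        (WithZero.log (pq.1.1 (x pq.2))).toNat) (Finset.mk_mem_product hP hQ)
    apply WithZero.le_exp_of_log_le
    have := Int.self_le_toNat (WithZero.log (P.1 (x Q)))
    exact this.trans (by exact_mod_cast hle)
  have hw := fun P : DPlace K =>
    exists_approx_one_zero (s.erase P) P (Finset.notMem_erase P s) (N + M)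
  choose w hw1 hw2 using hw
  refine ⟨∑ Q ∈ s, x Q * w Q, ?_⟩
  intro P hP
  have e : (∑ Q ∈ s, x Q * w Q) - x P =
      x P * (w P - 1) + ∑ Q ∈ s.erase P, x Q * w Q := by
    rw [← Finset.add_sum_erase s _ hP]; ring
  rw [e]
  have hexp : WithZero.exp (M : ℤ) * WithZero.exp (-((N + M : ℕ) : ℤ)) =
      WithZero.exp (-(N : ℤ)) := by
    rw [← WithZero.exp_add]; congr 1; push_cast; ring
  apply Valuation.map_add_le
  · rw [map_mul, ← hexp]
    exact mul_le_mul' (hM P hP P hP) (hw1 P)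
  · apply Valuation.map_sum_le
    intro Q hQ
    have hQs : Q ∈ s := Finset.mem_of_mem_erase hQ
    have hPQ : P ∈ s.erase Q := Finset.mem_erase.2 ⟨(Finset.mem_erase.1 hQ).1.symm, hP⟩
    rw [map_mul, ← hexp]
    exact mul_le_mul' (hM P hP Q hQs) (hw2 Q P hPQ)

/-- Weak approximation with exactly prescribed valuations. -/
theorem exists_approx_exact (s : Finset (DPlace K)) (x : DPlace K → K) (m : DPlace K → ℤ) :
    ∃ z : K, ∀ P ∈ s, P.1 (z - x P) = WithZero.exp (-(m P)) := by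
  classical
  have hy : ∀ P : DPlace K, ∃ y : K, P.1 y = WithZero.exp (-(m P)) := fun P => P.2.2 _
  choose y₀ hy₀ using hy
  set N : ℕ := s.sup (fun P => (m P + 1).toNat) with hN
  have hNle : ∀ P ∈ s, m P + 1 ≤ (N : ℤ) := by
    intro P hP
    have h1 : (m P + 1).toNat ≤ N := Finset.le_sup (f := fun P => (m P + 1).toNat) hP
    have h2 := Int.self_le_toNat (m P + 1)
    exact h2.trans (by exact_mod_cast h1)
  obtain ⟨z₁, h1⟩ := exists_approx s x N
  obtain ⟨z₂, h2⟩ := exists_approx s y₀ N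
  refine ⟨z₁ + z₂, fun P hP => ?_⟩
  have e : z₁ + z₂ - x P = y₀ P + ((z₁ - x P) + (z₂ - y₀ P)) := by ring
  have hlt : WithZero.exp (-(N : ℤ)) < WithZero.exp (-(m P)) := by
    rw [WithZero.exp_lt_exp]
    have := hNle P hP
    omega
  have h3 : P.1 ((z₁ - x P) + (z₂ - y₀ P)) < P.1 (y₀ P) := by
    rw [hy₀]
    exact lt_of_le_of_lt (Valuation.map_add_le _ (h1 P hP) (h2 P hP)) hlt
  rw [e, Valuation.map_add_eq_of_lt_left _ h3, hy₀]

section DVR

open IsDedekindDomain

variable (O : ValuationSubring K) [IsDiscreteValuationRing O]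

/-- The normalised valuation of a discrete valuation subring. -/
noncomputable def dvrPlace : DPlace K :=
  ⟨(IsDiscreteValuationRing.maximalIdeal O).valuation K, trivial, by
    obtain ⟨π, hπ⟩ := (IsDiscreteValuationRing.maximalIdeal O).valuation_exists_uniformizer K
    intro γ
    by_cases hγ : γ = 0
    · exact ⟨0, by rw [hγ, map_zero]⟩
    · refine ⟨π ^ (-(WithZero.log γ)), ?_⟩
      rw [map_zpow₀, hπ, ← WithZero.exp_zsmul]
      simp [WithZero.exp_log hγ]⟩

theorem dvrPlace_le_one_iff (a : K) : (dvrPlace O).1 a ≤ 1 ↔ a ∈ O := by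
  constructor
  · intro ha
    obtain ⟨b, hb⟩ := IsDiscreteValuationRing.exists_lift_of_le_one (A := O) ha
    rw [← hb]; exact b.2
  · intro ha
    exact (IsDiscreteValuationRing.maximalIdeal O).valuation_le_one (⟨a, ha⟩ : O)

theorem dvrPlace_irreducible {ϖ : O} (hϖ : Irreducible ϖ) :
    (dvrPlace O).1 (ϖ : K) = WithZero.exp (-1 : ℤ) := by
  change (IsDiscreteValuationRing.maximalIdeal O).valuation K (algebraMap O K ϖ) = _
  rw [HeightOneSpectrum.valuation_of_algebraMap]
  apply (HeightOneSpectrum.intValuation_singleton _ hϖ.ne_zero _)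
  change IsLocalRing.maximalIdeal O = _
  exact (IsDiscreteValuationRing.irreducible_iff_uniformizer _).1 hϖ

end DVR

/-- Weak approximation for finitely many distinct discrete valuation subrings of a field. -/
theorem exists_sub_eq_unit_mul_uniformizer_zpow {r : ℕ} (O : Fin r → ValuationSubring K)
    (hO : ∀ i, IsDiscreteValuationRing (O i)) (hinj : Function.Injective O)
    (fs : Fin r → K) (n : Fin r → ℤ) :
    ∃ f : K, ∀ i : Fin r, ∃ (ϖ : O i) (_ : Irreducible ϖ) (w : (O i)ˣ),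
      f - fs i = ((w : O i) : K) * ((ϖ : K) ^ (n i)) := by
  classical
  let Pl : Fin r → DPlace K := fun i => @dvrPlace K _ (O i) (hO i)
  have hPl : Function.Injective Pl := by
    intro i j hij
    apply hinj
    ext a
    rw [← @dvrPlace_le_one_iff K _ (O i) (hO i), ← @dvrPlace_le_one_iff K _ (O j) (hO j)]
    change (Pl i).1 a ≤ 1 ↔ (Pl j).1 a ≤ 1
    rw [hij]
  -- data indexed by places
  let x : DPlace K → K := fun P => if h : ∃ i, Pl i = P then fs h.choose else 0
  let m : DPlace K → ℤ := fun P => if h : ∃ i, Pl i = P then n h.choose else 0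
  have hx : ∀ i, x (Pl i) = fs i := by
    intro i
    have h : ∃ j, Pl j = Pl i := ⟨i, rfl⟩
    simp only [x, dif_pos h]
    rw [hPl h.choose_spec]
  have hm : ∀ i, m (Pl i) = n i := by
    intro i
    have h : ∃ j, Pl j = Pl i := ⟨i, rfl⟩
    simp only [m, dif_pos h]
    rw [hPl h.choose_spec]
  obtain ⟨f, hf⟩ := exists_approx_exact (Finset.univ.image Pl) x m
  refine ⟨f, fun i => ?_⟩
  haveI := hO i
  have h1 := hf (Pl i) (Finset.mem_image_of_mem _ (Finset.mem_univ i))
  rw [hx, hm] at h1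
  obtain ⟨ϖ, hϖ⟩ := IsDiscreteValuationRing.exists_irreducible (O i)
  have hvϖ : (Pl i).1 (ϖ : K) = WithZero.exp (-1 : ℤ) := dvrPlace_irreducible (O i) hϖ
  have hϖ0 : (ϖ : K) ≠ 0 := by
    intro h0
    rw [h0, map_zero] at hvϖ
    exact WithZero.exp_ne_zero hvϖ.symm
  set u : K := (f - fs i) * ((ϖ : K) ^ (n i))⁻¹ with hu
  have hvu : (Pl i).1 u = 1 := by
    rw [hu, map_mul, map_inv₀, map_zpow₀, hvϖ, h1, ← WithZero.exp_zsmul, ← WithZero.exp_neg,
      ← WithZero.exp_add]
    simp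
  have hu0 : u ≠ 0 := by
    intro h0
    rw [h0, map_zero] at hvu
    exact zero_ne_one hvu
  have huO : u ∈ O i := (dvrPlace_le_one_iff (O i) u).1 hvu.le
  have huinvO : u⁻¹ ∈ O i := (dvrPlace_le_one_iff (O i) u⁻¹).1 (by
    change (Pl i).1 u⁻¹ ≤ 1
    rw [map_inv₀, hvu, inv_one])
  refine ⟨ϖ, hϖ, ⟨⟨u, huO⟩, ⟨u⁻¹, huinvO⟩, Subtype.ext (mul_inv_cancel₀ hu0),
    Subtype.ext (inv_mul_cancel₀ hu0)⟩, ?_⟩
  change f - fs i = u * (ϖ : K) ^ (n i)
  rw [hu, inv_mul_cancel_right₀ (zpow_ne_zero _ hϖ0)]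

end Groth.Agent.Lib.H40WeakApprox
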