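import Mathlib

/-!
# Valuation subrings containing a Dedekind domain

`B` a Dedekind domain with fraction field `L`.  A valuation subring `V ≠ ⊤` of `L` containing `B`
is the localisation of `B` at a height-one prime; in particular it is a discrete valuation ring.
-/

set_option autoImplicit false
set_option linter.unusedSectionVars false

open IsDedekindDomain IsDedekindDomain.HeightOneSpectrum

namespace Groth.Agent.Lib.ValDVR76

variable {B L : Type*} [CommRing B] [IsDedekindDomain B] [Field L] [Algebra B L]
  [IsFractionRing B L]

/-- The centre of a valuation subring `V ⊇ B` on `B`. -/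
def center (V : ValuationSubring L) (hBV : ∀ b : B, algebraMap B L b ∈ V) : Ideal B :=
  (IsLocalRing.maximalIdeal V).comap ((algebraMap B L).codRestrict V.toSubring hBV)

lemma mem_center {V : ValuationSubring L} {hBV : ∀ b : B, algebraMap B L b ∈ V} {b : B} :
    b ∈ center V hBV ↔ V.valuation (algebraMap B L b) < 1 := by
  rw [center, Ideal.mem_comap]
  exact V.valuation_lt_one_iff ⟨_, hBV b⟩

instance center_isPrime (V : ValuationSubring L) (hBV : ∀ b : B, algebraMap B L b ∈ V) :
    (center V hBV).IsPrime :=
  Ideal.comap_isPrime _ _

lemma center_ne_bot {V : ValuationSubring L} (hBV : ∀ b : B, algebraMap B L b ∈ V)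
    (hV : V ≠ ⊤) : center V hBV ≠ ⊥ := by
  intro h
  apply hV
  rw [eq_top_iff]
  intro x _
  obtain ⟨b, c, hc, rfl⟩ := IsFractionRing.div_surjective (A := B) x
  have hc0 : c ≠ 0 := nonZeroDivisors.ne_zero hc
  have hcnot : c ∉ center V hBV := by rw [h]; simpa using hc0
  rw [mem_center, not_lt] at hcnot
  have hcV : V.valuation (algebraMap B L c) ≤ 1 := (V.valuation_le_one_iff _).mpr (hBV c)
  have hc1 : V.valuation (algebraMap B L c) = 1 := le_antisymm hcV hcnot
  rw [← ValuationSubring.valuation_le_one_iff, map_div₀, hc1, div_one,
    ValuationSubring.valuation_le_one_iff]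
  exact hBV b

/-- The centre as a height one prime. -/
def centerSpec (V : ValuationSubring L) (hBV : ∀ b : B, algebraMap B L b ∈ V) (hV : V ≠ ⊤) :
    HeightOneSpectrum B where
  asIdeal := center V hBV
  isPrime := inferInstance
  ne_bot := center_ne_bot hBV hV

/-- A valuation subring `V ≠ ⊤` containing the Dedekind domain `B` is the localisation of `B` at
its centre. -/
theorem eq_valuationSubringAtPrime (V : ValuationSubring L)
    (hBV : ∀ b : B, algebraMap B L b ∈ V) (hV : V ≠ ⊤) :
    valuationSubringAtPrime L (centerSpec V hBV hV) = V := by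
  refine ValuationSubring.eq_of_le_of_ne_top _ ?_ hV
  rintro x ⟨a, s, hs, rfl⟩
  have hs' : s ∉ center V hBV := hs
  rw [mem_center, not_lt] at hs'
  have hsV : V.valuation (algebraMap B L s) ≤ 1 := (V.valuation_le_one_iff _).mpr (hBV s)
  have hs1 : V.valuation (algebraMap B L s) = 1 := le_antisymm hsV hs'
  rw [← ValuationSubring.valuation_le_one_iff, map_mul, map_inv₀, hs1, inv_one, mul_one,
    ValuationSubring.valuation_le_one_iff]
  exact hBV a

/-- A valuation subring `V ≠ ⊤` containing a Dedekind domain with the same fraction field is a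
discrete valuation ring. -/
theorem isDiscreteValuationRing_of_le (V : ValuationSubring L)
    (hBV : ∀ b : B, algebraMap B L b ∈ V) (hV : V ≠ ⊤) : IsDiscreteValuationRing V := by
  have h := eq_valuationSubringAtPrime V hBV hV
  have : IsDiscreteValuationRing (valuationSubringAtPrime L (centerSpec V hBV hV)) :=
    IsLocalization.AtPrime.isDiscreteValuationRing_of_dedekind_domain B
      (centerSpec V hBV hV).ne_bot _
  rw [h] at this
  exact this

end Groth.Agent.Lib.ValDVR76
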