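import Mathlib
import Groth.Agent.Lib.CycNorm85e
import Groth.Agent.Lib.H40WeakApprox
import Groth.Agent.Lib.ValDVR76A
import Groth.Prelude.Def_W4bk4goldsch23FF

/-!
# Degree of principal divisors on curves, part a (helper85)

Local algebra: for a one-dimensional Noetherian local domain `R` with finite integral closure in
its fraction field `F`, `ord_R f = ∑_P [κ(P):κ(R)] ord_{B_P} f` over the primes `P` of the integral
closure `B` over the maximal ideal, with `B_P` realised as valuation subrings of `F`; order function
of a discrete valuation subring as `-log` of its normalised valuation.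
-/
set_option autoImplicit false
set_option linter.style.haveILetI false
set_option linter.unusedSectionVars false
set_option linter.unusedVariables false
universe u v

namespace Groth.Agent.Lib.CurveDeg85
open IsLocalRing IsDedekindDomain HeightOneSpectrum

section dedekind
variable (R : Type u) [CommRing R] [IsDomain R] [IsNoetherianRing R] [Ring.KrullDimLE 1 R]
  (F : Type u) [Field F] [Algebra R F] [IsFractionRing R F]

theorem dimensionLEOne_of_krullDimLE : Ring.DimensionLEOne R :=
  ⟨fun {p} hp hpr => hpr.isMaximal_of_ne_bot hp⟩

theorem isDedekindDomain_integralClosure (hfin : Module.Finite R (integralClosure R F)) :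
    IsDedekindDomain (integralClosure R F) := by
  haveI := dimensionLEOne_of_krullDimLE R
  haveI : IsNoetherianRing (integralClosure R F) := IsNoetherianRing.of_finite R _
  haveI : IsIntegrallyClosed (integralClosure R F) :=
    integralClosure.isIntegrallyClosedOfFiniteExtension F
  exact { }

end dedekind

section localFormula
variable (R : Type u) [CommRing R] [IsDomain R] [IsLocalRing R] [IsNoetherianRing R]
  [Ring.KrullDimLE 1 R]
  (F : Type u) [Field F] [Algebra R F] [IsFractionRing R F]
  [hfin : Module.Finite R (integralClosure R F)] [hD : IsDedekindDomain (integralClosure R F)]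
  (hnf : maximalIdeal R ≠ ⊥)

include hnf in
theorem ne_bot_of_liesOver (P : Ideal (integralClosure R F)) [hP : P.LiesOver (maximalIdeal R)] :
    P ≠ ⊥ := by
  rintro rfl
  apply hnf
  have h := hP.over
  rw [h]
  apply le_antisymm _ bot_le
  intro r hr
  rw [Ideal.mem_comap, Ideal.mem_bot] at hr
  have hinj : Function.Injective (algebraMap R (integralClosure R F)) := by
    intro a b hab
    apply IsFractionRing.injective R F
    have := congrArg (algebraMap (integralClosure R F) F) hab
    rwa [← IsScalarTower.algebraMap_apply, ← IsScalarTower.algebraMap_apply] at this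
  rw [Ideal.mem_bot]
  exact hinj (hr.trans (map_zero _).symm)

/-- The height one prime attached to a prime over the maximal ideal. -/
def hs (P : (maximalIdeal R).primesOver (integralClosure R F)) :
    HeightOneSpectrum (integralClosure R F) :=
  ⟨P.1, P.2.1, haveI := P.2.2; ne_bot_of_liesOver R F hnf P.1⟩

/-- The valuation subring at a prime over the maximal ideal. -/
noncomputable abbrev CP (P : (maximalIdeal R).primesOver (integralClosure R F)) : ValuationSubring F :=
  valuationSubringAtPrime F (hs R F hnf P)

noncomputable instance algRCP (P : (maximalIdeal R).primesOver (integralClosure R F)) :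
    Algebra R (CP R F hnf P) :=
  ((algebraMap (integralClosure R F) (CP R F hnf P)).comp
    (algebraMap R (integralClosure R F))).toAlgebra

instance towerCP (P : (maximalIdeal R).primesOver (integralClosure R F)) :
    IsScalarTower R (integralClosure R F) (CP R F hnf P) :=
  IsScalarTower.of_algebraMap_eq (fun _ => rfl)

instance locCP (P : (maximalIdeal R).primesOver (integralClosure R F)) :
    IsLocalization.AtPrime (CP R F hnf P) P.1 :=
  inferInstanceAs (IsLocalization (hs R F hnf P).asIdeal.primeCompl
    (valuationSubringAtPrime F (hs R F hnf P)))

instance localHomCP (P : (maximalIdeal R).primesOver (integralClosure R F)) :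
    IsLocalHom (algebraMap R (CP R F hnf P)) := by
  constructor
  intro r hr
  by_contra hnu
  have h1 : r ∈ maximalIdeal R := (mem_maximalIdeal r).mpr hnu
  haveI := P.2.2
  haveI := P.2.1
  have h2 : algebraMap R (integralClosure R F) r ∈ P.1 := by
    have := (P.2.2).over
    rw [this] at h1
    exact h1
  have h3 : algebraMap (integralClosure R F) (CP R F hnf P)
      (algebraMap R (integralClosure R F) r) ∈ maximalIdeal (CP R F hnf P) :=
    (IsLocalization.AtPrime.to_map_mem_maximal_iff (CP R F hnf P) P.1 _).mpr h2
  exact ((mem_maximalIdeal _).mp h3) hr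

include hnf in
theorem ordFrac_eq_finsum_primesOver (f : F) (hf : f ≠ 0) :
    CycAlg.ordFrac R F f = ∑ᶠ P : (maximalIdeal R).primesOver (integralClosure R F),
      (Module.finrank (ResidueField R) (ResidueField (CP R F hnf P)) : ℤ) *
        CycAlg.ordFrac (CP R F hnf P) F f := by
  haveI : IsLocalization.AtPrime R (maximalIdeal R) :=
    IsLocalization.of_le_isUnit (fun x hx => by
      by_contra hnu
      exact hx ((mem_maximalIdeal x).mpr hnu))
  haveI : FaithfulSMul R (integralClosure R F) := by
    rw [faithfulSMul_iff_algebraMap_injective]
    intro a b hab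
    apply IsFractionRing.injective R F
    have := congrArg (algebraMap (integralClosure R F) F) hab
    rwa [← IsScalarTower.algebraMap_apply, ← IsScalarTower.algebraMap_apply] at this
  haveI : IsFractionRing (integralClosure R F) F :=
    integralClosure.isFractionRing_of_finite_extension F F
  have := CycNorm85.ordFrac_norm_eq_finsum_primesOver (A' := R) (B' := integralClosure R F)
    (maximalIdeal R) R F F (fun P => CP R F hnf P) f hf
  rw [Algebra.norm_self] at this
  exact this

end localFormula

section dvr
variable {F : Type u} [Field F]

/-- For a discrete valuation subring `O` whose valuation ring is that of a surjective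
`ℤ`-valued valuation `w`, the order function of `O` is `-log w`. -/
theorem ordFrac_dvr (O : ValuationSubring F) [IsDiscreteValuationRing O]
    (w : Valuation F (WithZero (Multiplicative ℤ))) (hw : Function.Surjective w)
    (hO : ∀ a : F, a ∈ O → w a ≤ 1) (f : F) (hf : f ≠ 0) :
    CycAlg.ordFrac O F f = -WithZero.log (w f) := by
  have heq : Groth.Agent.Lib.H40WeakApprox.dvrPlace O = ⟨w, trivial, hw⟩ :=
    Groth.Agent.Lib.H40WeakApprox.eq_of_forall_le_one (fun a ha =>
      hO a ((Groth.Agent.Lib.H40WeakApprox.dvrPlace_le_one_iff O a).mp ha))
  have hval : (IsDiscreteValuationRing.maximalIdeal O).valuation F f = w f := by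
    have := congrArg (fun P : Groth.Agent.Lib.H40WeakApprox.DPlace F => P.1 f) heq
    exact this
  rw [CycNorm85.ordFrac_key, Ring.ordFrac_eq_valuation_inv, hval]
  exact WithZero.log_inv (w f)

end dvr

section general
variable {F : Type u} [Field F]

theorem surjective_valuation {B : Type*} [CommRing B] [IsDedekindDomain B] [Algebra B F]
    [IsFractionRing B F] (v : HeightOneSpectrum B) : Function.Surjective (v.valuation F) := by
  obtain ⟨π, hπ⟩ := v.valuation_exists_uniformizer F
  intro γ
  by_cases hγ : γ = 0
  · exact ⟨0, by rw [hγ, map_zero]⟩
  · refine ⟨π ^ (-(WithZero.log γ)), ?_⟩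
    rw [map_zpow₀, hπ, ← WithZero.exp_zsmul]
    simp [WithZero.exp_log hγ]

/-- A valuation which is `≤ 1` on the image of `R` is `≤ 1` on elements integral over `R`. -/
theorem valuation_le_one_of_isIntegral {R : Type*} [CommRing R] [Algebra R F]
    {Γ : Type*} [LinearOrderedCommGroupWithZero Γ] (w : Valuation F Γ)
    (hR : ∀ r : R, w (algebraMap R F r) ≤ 1) {x : F} (hx : IsIntegral R x) : w x ≤ 1 := by
  let φ : R →+* w.integer := (algebraMap R F).codRestrict w.integer hR
  have hcomp : algebraMap R F = (w.integer.subtype).comp φ := rfl
  have h1 : (w.integer.subtype).IsIntegralElem x := by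
    have h2 : ((w.integer.subtype).comp φ).IsIntegralElem x := hx
    exact RingHom.IsIntegralElem.of_comp h2
  exact (Valuation.integer.integers w).isIntegral_iff_v_le_one.mp h1

end general

end Groth.Agent.Lib.CurveDeg85
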