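import Groth.Prelude.Def_W4bk4goldsch23FF
import Mathlib.RingTheory.Valuation.Basic
import Mathlib.FieldTheory.IntermediateField.Adjoin.Algebra
import Mathlib.FieldTheory.IntermediateField.Adjoin.Basic
import Mathlib.RingTheory.Localization.Module
import Mathlib.RingTheory.AlgebraicIndependent.TranscendenceBasis
import Mathlib.RingTheory.Polynomial.Basic
import Mathlib.RingTheory.EssentialFiniteness

/-!
# Function fields of one variable (`FunFld`): basics on places, weak approximation,
finiteness of zeros and poles.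
-/

set_option autoImplicit false
open FunFld Polynomial

namespace Groth.Agent.Lib.H40FunFld

universe u v
variable {k : Type u} {K : Type v} [Field k] [Field K] [Algebra k K]

/-! ### Basic facts on places -/

theorem val_algebraMap_le (P : FunFld.Place k K) (c : k) : P.1 (algebraMap k K c) ≤ 1 := P.2.1 c

theorem val_algebraMap (P : FunFld.Place k K) {c : k} (hc : c ≠ 0) : P.1 (algebraMap k K c) = 1 := by
  apply le_antisymm (P.2.1 c)
  have h1 : P.1 (algebraMap k K c⁻¹) ≤ 1 := P.2.1 c⁻¹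
  have h2 : P.1 (algebraMap k K c) * P.1 (algebraMap k K c⁻¹) = 1 := by
    rw [← map_mul, ← map_mul, mul_inv_cancel₀ hc, map_one, map_one]
  have h0 : P.1 (algebraMap k K c) ≠ 0 := by
    intro h; rw [h, zero_mul] at h2; exact zero_ne_one h2
  calc (1 : WithZero (Multiplicative ℤ)) = P.1 (algebraMap k K c) * P.1 (algebraMap k K c⁻¹) := h2.symm
    _ ≤ P.1 (algebraMap k K c) * 1 := by gcongr
    _ = P.1 (algebraMap k K c) := mul_one _

theorem exists_uniformizer (P : FunFld.Place k K) : ∃ π : K, P.1 π = WithZero.exp (-1 : ℤ) :=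
  P.2.2 _

theorem div_apply_of_finite (x : K)
    (hfin : (Function.support fun P : FunFld.Place k K => P.ord x).Finite) (P : FunFld.Place k K) :
    FunFld.div k x P = P.ord x := by
  classical
  rw [FunFld.div, dif_pos hfin]
  rfl

theorem exp_ord (P : FunFld.Place k K) {x : K} (hx : x ≠ 0) :
    WithZero.exp (P.ord x) = (P.1 x)⁻¹ := by
  have h0 : P.1 x ≠ 0 := (Valuation.ne_zero_iff _).2 hx
  rw [FunFld.Place.ord, WithZero.exp_neg, WithZero.exp_log h0]

theorem val_eq_exp_neg_ord (P : FunFld.Place k K) {x : K} (hx : x ≠ 0) :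
    P.1 x = WithZero.exp (-P.ord x) := by
  have h0 : P.1 x ≠ 0 := (Valuation.ne_zero_iff _).2 hx
  rw [FunFld.Place.ord, neg_neg, WithZero.exp_log h0]

theorem ord_ne_zero_iff (P : FunFld.Place k K) {x : K} (hx : x ≠ 0) :
    P.ord x ≠ 0 ↔ P.1 x ≠ 1 := by
  have h0 : P.1 x ≠ 0 := (Valuation.ne_zero_iff _).2 hx
  rw [FunFld.Place.ord, neg_ne_zero, not_iff_not]
  constructor
  · intro h
    have := WithZero.exp_log h0
    rw [h] at this
    simpa using this.symm
  · intro h; rw [h]; simp




/-- `log ∘ v` for a place, on nonzero elements, is additive. -/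
theorem log_val_mul (P : FunFld.Place k K) {a b : K} (ha : a ≠ 0) (hb : b ≠ 0) :
    WithZero.log (P.1 (a * b)) = WithZero.log (P.1 a) + WithZero.log (P.1 b) := by
  rw [map_mul, WithZero.log_mul ((Valuation.ne_zero_iff _).2 ha) ((Valuation.ne_zero_iff _).2 hb)]

theorem log_val_zpow (P : FunFld.Place k K) (a : K) (n : ℤ) :
    WithZero.log (P.1 (a ^ n)) = n * WithZero.log (P.1 a) := by
  rw [map_zpow₀, WithZero.log_zpow, smul_eq_mul]

theorem val_le_one_iff_log (P : FunFld.Place k K) {a : K} (ha : a ≠ 0) :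
    P.1 a ≤ 1 ↔ WithZero.log (P.1 a) ≤ 0 := by
  rw [WithZero.log_le_iff_le_exp ((Valuation.ne_zero_iff _).2 ha), WithZero.exp_zero]

theorem val_eq_exp_log (P : FunFld.Place k K) {a : K} (ha : a ≠ 0) :
    P.1 a = WithZero.exp (WithZero.log (P.1 a)) :=
  (WithZero.exp_log ((Valuation.ne_zero_iff _).2 ha)).symm

/-- Two places whose valuation rings are comparable are equal. -/
theorem eq_of_forall_le_one {P Q : FunFld.Place k K}
    (h : ∀ a : K, P.1 a ≤ 1 → Q.1 a ≤ 1) : P = Q := by
  -- step (i)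
  have h1 : ∀ a : K, a ≠ 0 → WithZero.log (P.1 a) = 0 → WithZero.log (Q.1 a) = 0 := by
    intro a ha h0
    have ha' : a⁻¹ ≠ 0 := inv_ne_zero ha
    have e1 : WithZero.log (Q.1 a) ≤ 0 :=
      (val_le_one_iff_log Q ha).1 (h a ((val_le_one_iff_log P ha).2 h0.le))
    have e2 : WithZero.log (Q.1 a⁻¹) ≤ 0 := by
      apply (val_le_one_iff_log Q ha').1 (h a⁻¹ ((val_le_one_iff_log P ha').2 _))
      rw [map_inv₀, WithZero.log_inv, h0, neg_zero]
    rw [map_inv₀, WithZero.log_inv] at e2
    omega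
  obtain ⟨π, hπ⟩ := exists_uniformizer P
  have hπ0 : π ≠ 0 := by
    intro h0; rw [h0, map_zero] at hπ; exact WithZero.exp_ne_zero hπ.symm
  have hpπ : WithZero.log (P.1 π) = -1 := by rw [hπ, WithZero.log_exp]
  set c : ℤ := WithZero.log (Q.1 π) with hc
  have hc0 : c ≤ 0 := by
    apply (val_le_one_iff_log Q hπ0).1 (h π _)
    rw [hπ]; rw [← WithZero.exp_zero, WithZero.exp_le_exp]; omega
  have h2 : ∀ a : K, a ≠ 0 → WithZero.log (Q.1 a) = -c * WithZero.log (P.1 a) := by
    intro a ha
    set n : ℤ := WithZero.log (P.1 a) with hn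
    have hz : π ^ n ≠ 0 := zpow_ne_zero n hπ0
    have e := h1 (a * π ^ n) (mul_ne_zero ha hz) (by
      rw [log_val_mul P ha hz, log_val_zpow, hpπ, ← hn]; ring)
    rw [log_val_mul Q ha hz, log_val_zpow, ← hc] at e
    linarith
  obtain ⟨b, hb⟩ := Q.2.2 (WithZero.exp (-1 : ℤ))
  have hb0 : b ≠ 0 := by
    intro h0; rw [h0, map_zero] at hb; exact WithZero.exp_ne_zero hb.symm
  have hqb : WithZero.log (Q.1 b) = -1 := by rw [hb, WithZero.log_exp]
  have h3 := h2 b hb0
  rw [hqb] at h3
  have hc1 : c = -1 := by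
    have : (-c) * WithZero.log (P.1 b) = -1 := h3.symm
    have h4 : (-c) ∣ 1 := ⟨-WithZero.log (P.1 b), by linarith⟩
    have h5 : 0 ≤ -c := by omega
    have := Int.eq_one_of_dvd_one h5 h4
    omega
  apply Subtype.ext
  apply Valuation.ext
  intro a
  by_cases ha : a = 0
  · rw [ha, map_zero, map_zero]
  · rw [val_eq_exp_log P ha, val_eq_exp_log Q ha, h2 a ha, hc1]; simp

/-- Distinct places have incomparable valuation rings. -/
theorem exists_le_one_lt_of_ne {P Q : FunFld.Place k K} (h : P ≠ Q) :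
    ∃ a : K, P.1 a ≤ 1 ∧ 1 < Q.1 a := by
  by_contra hcon
  push Not at hcon
  exact h (eq_of_forall_le_one hcon)

/-- For distinct places there is `z` with `v_P z < 1 < v_Q z`. -/
theorem exists_lt_one_one_lt_of_ne {P Q : FunFld.Place k K} (h : P ≠ Q) :
    ∃ z : K, P.1 z < 1 ∧ 1 < Q.1 z := by
  obtain ⟨a, ha1, ha2⟩ := exists_le_one_lt_of_ne h
  obtain ⟨b, hb1, hb2⟩ := exists_le_one_lt_of_ne (Ne.symm h)
  have hb0 : b ≠ 0 := by
    intro h0; rw [h0, map_zero] at hb2; exact not_lt_bot hb2
  have hPb : P.1 b ≠ 0 := (Valuation.ne_zero_iff _).2 hb0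
  have hQb : Q.1 b ≠ 0 := (Valuation.ne_zero_iff _).2 hb0
  refine ⟨a / b, ?_, ?_⟩
  · rw [map_div₀, div_lt_one₀ (zero_lt_iff.2 hPb)]
    exact lt_of_le_of_lt ha1 hb2
  · rw [map_div₀, one_lt_div₀ (zero_lt_iff.2 hQb)]
    exact lt_of_le_of_lt hb1 ha2




/-- Choice of exponent: `n ≥ 1` with `v_Q(z)^n ≠ v_Q(u)` for all `Q` in a finite set on which
`v_Q(u) > 1`. -/
theorem exists_pow_ne (s : Finset (FunFld.Place k K)) (u z : K)
    (hu : ∀ Q ∈ s, 1 < Q.1 u) :
    ∃ n : ℕ, n ≠ 0 ∧ ∀ Q ∈ s, Q.1 (z ^ n) ≠ Q.1 u := by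
  classical
  refine ⟨1 + s.sup (fun Q => (WithZero.log (Q.1 u)).natAbs), by omega, ?_⟩
  intro Q hQ heq
  set n : ℕ := 1 + s.sup (fun Q => (WithZero.log (Q.1 u)).natAbs) with hn
  have hle : (WithZero.log (Q.1 u)).natAbs ≤ s.sup (fun Q => (WithZero.log (Q.1 u)).natAbs) :=
    Finset.le_sup (f := fun Q : FunFld.Place k K => (WithZero.log (Q.1 u)).natAbs) hQ
  have hu1 := hu Q hQ
  have hu0 : Q.1 u ≠ 0 := fun h0 => by rw [h0] at hu1; exact not_lt_bot hu1
  have hlu : 0 < WithZero.log (Q.1 u) := by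
    rw [WithZero.lt_log_iff_exp_lt hu0, WithZero.exp_zero]; exact hu1
  have hz0 : Q.1 z ≠ 0 := by
    intro h0
    rw [map_pow, h0, zero_pow (by omega)] at heq
    exact hu0 heq.symm
  have hlog : (n : ℤ) * WithZero.log (Q.1 z) = WithZero.log (Q.1 u) := by
    rw [← heq, map_pow, WithZero.log_pow, nsmul_eq_mul]
  by_cases hz : WithZero.log (Q.1 z) = 0
  · rw [hz, mul_zero] at hlog; omega
  · have h1 : (n : ℤ) ≤ |(n : ℤ) * WithZero.log (Q.1 z)| := by
      rw [abs_mul, Nat.abs_cast]
      have : 1 ≤ |WithZero.log (Q.1 z)| := Int.one_le_abs hz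
      nlinarith [Nat.cast_nonneg (α := ℤ) n]
    rw [hlog] at h1
    have h2 : |WithZero.log (Q.1 u)| = ((WithZero.log (Q.1 u)).natAbs : ℤ) := Int.abs_eq_natAbs _
    rw [h2] at h1
    have : n ≤ (WithZero.log (Q.1 u)).natAbs := by exact_mod_cast h1
    omega

/-- Weak approximation (one-sided form): for a place `P` not in a finite set `s` of places there is
`u` with `v_P u < 1` and `v_Q u > 1` for all `Q ∈ s`. -/
theorem exists_lt_one_forall_one_lt (s : Finset (FunFld.Place k K)) (P : FunFld.Place k K)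
    (hP : P ∉ s) : ∃ u : K, P.1 u < 1 ∧ ∀ Q ∈ s, 1 < Q.1 u := by
  classical
  induction s using Finset.induction_on with
  | empty =>
    obtain ⟨π, hπ⟩ := exists_uniformizer P
    refine ⟨π, ?_, by simp⟩
    rw [hπ, ← WithZero.exp_zero, WithZero.exp_lt_exp]; omega
  | insert Q s hQs ih =>
    have hPs : P ∉ s := fun h => hP (Finset.mem_insert_of_mem h)
    have hPQ : P ≠ Q := fun h => hP (h ▸ Finset.mem_insert_self _ _)
    obtain ⟨u, hu1, hu2⟩ := ih hPs
    by_cases hQu : 1 < Q.1 u
    · refine ⟨u, hu1, ?_⟩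
      intro Q' hQ'
      rcases Finset.mem_insert.1 hQ' with rfl | h
      · exact hQu
      · exact hu2 Q' h
    · push Not at hQu
      obtain ⟨z, hz1, hz2⟩ := exists_lt_one_one_lt_of_ne hPQ
      obtain ⟨n, hn0, hn⟩ := exists_pow_ne s u z hu2
      refine ⟨u + z ^ n, ?_, ?_⟩
      · apply Valuation.map_add_lt _ hu1
        rw [map_pow]
        exact pow_lt_one₀ zero_le hz1 hn0
      · intro Q' hQ'
        rcases Finset.mem_insert.1 hQ' with rfl | h
        · have h1 : 1 < Q'.1 (z ^ n) := by rw [map_pow]; exact one_lt_pow₀ hz2 hn0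
          rw [Valuation.map_add_eq_of_lt_right _ (lt_of_le_of_lt hQu h1)]
          exact h1
        · rw [Valuation.map_add_of_distinct_val _ (hn Q' h).symm]
          exact lt_of_lt_of_le (hu2 Q' h) (le_max_left _ _)

/-- Weak approximation: for a place `P` not in a finite set `s` of places there is
`y` with `v_P y = 1` and `v_Q y < 1` for all `Q ∈ s`. -/
theorem exists_eq_one_forall_lt_one (s : Finset (FunFld.Place k K)) (P : FunFld.Place k K)
    (hP : P ∉ s) : ∃ y : K, P.1 y = 1 ∧ ∀ Q ∈ s, Q.1 y < 1 := by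
  obtain ⟨u, hu1, hu2⟩ := exists_lt_one_forall_one_lt s P hP
  have h1 : P.1 (1 + u) = 1 := by
    have := Valuation.map_add_eq_of_lt_left P.1 (x := (1 : K)) (y := u) (by rw [map_one]; exact hu1)
    rw [this, map_one]
  have h10 : (1 + u) ≠ 0 := by
    intro h0; rw [h0, map_zero] at h1; exact zero_ne_one h1
  refine ⟨(1 + u)⁻¹, by rw [map_inv₀, h1, inv_one], ?_⟩
  intro Q hQ
  have h2 : Q.1 (1 + u) = Q.1 u := by
    apply Valuation.map_add_eq_of_lt_right
    rw [map_one]; exact hu2 Q hQ
  rw [map_inv₀, h2]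
  have := hu2 Q hQ
  exact inv_lt_one_of_one_lt₀ this




theorem val_aeval_le_one (P : FunFld.Place k K) {x : K} (hx : P.1 x ≤ 1) (p : k[X]) :
    P.1 (aeval x p) ≤ 1 := by
  induction p using Polynomial.induction_on' with
  | add p q hp hq =>
    rw [map_add]
    exact Valuation.map_add_le _ hp hq
  | monomial n a =>
    rw [aeval_monomial, map_mul, map_pow]
    exact mul_le_one' (P.2.1 a) (pow_le_one₀ zero_le hx)

theorem val_aeval_eq_one (P : FunFld.Place k K) {x : K} (hx : P.1 x < 1) (g : k[X])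
    (hg : g.coeff 0 ≠ 0) : P.1 (aeval x g) = 1 := by
  have h1 : aeval x g = aeval x g.divX * x + algebraMap k K (g.coeff 0) := by
    conv_lhs => rw [← Polynomial.divX_mul_X_add g]
    simp
  have h2 : P.1 (aeval x g.divX * x) < 1 := by
    rw [map_mul]
    calc P.1 (aeval x g.divX) * P.1 x ≤ 1 * P.1 x := by
          gcongr
          exact val_aeval_le_one P hx.le _
      _ = P.1 x := one_mul _
      _ < 1 := hx
  rw [h1, Valuation.map_add_eq_of_lt_right _ (by rw [val_algebraMap P hg]; exact h2),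
    val_algebraMap P hg]

theorem val_aeval_eq_pow (P : FunFld.Place k K) {x : K} (hx : P.1 x < 1) {p : k[X]} (hp : p ≠ 0) :
    P.1 (aeval x p) = P.1 x ^ (p.rootMultiplicity 0) := by
  obtain ⟨q, hq1, hq2⟩ := Polynomial.exists_eq_pow_rootMultiplicity_mul_and_not_dvd p hp 0
  have hq0 : q.coeff 0 ≠ 0 := by
    intro h0
    apply hq2
    rw [C_0, sub_zero]
    exact Polynomial.X_dvd_iff.2 h0
  conv_lhs => rw [hq1]
  rw [map_mul, map_mul, map_pow, map_pow, val_aeval_eq_one P hx q hq0, mul_one]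
  simp




open IntermediateField IntermediateField.algebraAdjoinAdjoin in
/-- Elements `y_P` (`P ∈ s`) with `v_P(y_P) = 1` and `v_Q(y_P) < 1` for `Q ≠ P` are linearly
independent over `k[x]` when `x` vanishes at all `P ∈ s`. -/
theorem linearIndependent_of_forall_lt_one {x : K} (hx0 : x ≠ 0)
    (s : Finset (FunFld.Place k K)) (hs : ∀ P ∈ s, P.1 x < 1) (y : FunFld.Place k K → K)
    (hy1 : ∀ P ∈ s, P.1 (y P) = 1) (hy2 : ∀ P ∈ s, ∀ Q ∈ s, Q ≠ P → Q.1 (y P) < 1) :
    LinearIndependent (Algebra.adjoin k {x}) (fun P : s => y P.1) := by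
  classical
  rw [Fintype.linearIndependent_iff]
  intro g hg
  -- polynomial representatives
  have hrep : ∀ a : Algebra.adjoin k {x}, ∃ p : k[X], aeval x p = (a : K) := by
    intro a
    have h1 : (a : K) ∈ (aeval x : k[X] →ₐ[k] K).range := by
      rw [← Algebra.adjoin_singleton_eq_range_aeval]; exact a.2
    exact h1
  choose p hp using hrep
  by_contra hne
  push Not at hne
  obtain ⟨P₀, hP₀⟩ := hne
  have hpP₀ : p (g P₀) ≠ 0 := by
    intro h0
    apply hP₀
    apply Subtype.ext
    rw [← hp, h0, map_zero]; rfl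
  let T : Finset s := Finset.univ.filter (fun P => p (g P) ≠ 0)
  have hT : T.Nonempty := ⟨P₀, by simp [T, hpP₀]⟩
  obtain ⟨P₁, hP₁T, hmin⟩ := Finset.exists_min_image T (fun P => (p (g P)).rootMultiplicity 0) hT
  have hpP₁ : p (g P₁) ≠ 0 := (Finset.mem_filter.1 hP₁T).2
  set v := (P₁ : FunFld.Place k K).1 with hv
  have ht1 : v x < 1 := hs P₁ P₁.2
  have ht0 : v x ≠ 0 := (Valuation.ne_zero_iff _).2 hx0
  set m₁ := (p (g P₁)).rootMultiplicity 0 with hm₁
  have hpos : 0 < v x ^ m₁ := zero_lt_iff.2 (pow_ne_zero _ ht0)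
  -- the dominant term
  have hmain : v ((g P₁ : K) * y P₁) = v x ^ m₁ := by
    rw [map_mul, ← hp, val_aeval_eq_pow P₁.1 ht1 hpP₁, hy1 P₁ P₁.2, mul_one]
  have hrest : v (∑ P ∈ Finset.univ.erase P₁, (g P : K) * y P) < v x ^ m₁ := by
    apply Valuation.map_sum_lt _ hpos.ne'
    intro P hP
    have hPne : P ≠ P₁ := (Finset.mem_erase.1 hP).1
    have hPne' : (P₁ : FunFld.Place k K) ≠ P.1 := fun h => hPne (Subtype.ext h.symm)
    by_cases hpP : p (g P) = 0
    · have : (g P : K) = 0 := by rw [← hp, hpP, map_zero]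
      rw [this, zero_mul, map_zero]; exact hpos
    · have hPT : P ∈ T := by simp [T, hpP]
      have hle : m₁ ≤ (p (g P)).rootMultiplicity 0 := hmin P hPT
      rw [map_mul, ← hp, val_aeval_eq_pow P₁.1 ht1 hpP]
      have h1 : v x ^ (p (g P)).rootMultiplicity 0 ≤ v x ^ m₁ :=
        pow_le_pow_of_le_one zero_le ht1.le hle
      have h2 : v (y P) < 1 := hy2 P P.2 P₁ P₁.2 hPne'
      have h3 : 0 < v x ^ (p (g P)).rootMultiplicity 0 := zero_lt_iff.2 (pow_ne_zero _ ht0)
      calc v x ^ (p (g P)).rootMultiplicity 0 * v (y P)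
          < v x ^ (p (g P)).rootMultiplicity 0 * 1 := by gcongr
        _ = v x ^ (p (g P)).rootMultiplicity 0 := mul_one _
        _ ≤ v x ^ m₁ := h1
  have hsum : (∑ P : s, (g P : K) * y P) = 0 := by
    have := hg
    simpa [Algebra.smul_def, Subalgebra.smul_def] using this
  rw [← Finset.add_sum_erase Finset.univ _ (Finset.mem_univ P₁)] at hsum
  have := Valuation.map_add_eq_of_lt_left v (x := (g P₁ : K) * y P₁)
    (y := ∑ P ∈ Finset.univ.erase P₁, (g P : K) * y P) (by rw [hmain]; exact hrest)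
  rw [hsum, map_zero, hmain] at this
  exact hpos.ne this




open IntermediateField IntermediateField.algebraAdjoinAdjoin in
/-- In a function field of one variable, `K` is finite over `k(x)` for every transcendental `x`. -/
theorem finiteDimensional_adjoin_of_transcendental (hK : FunFld.IsFunctionField k K) {x : K}
    (hx : Transcendental k x) : FiniteDimensional k⟮x⟯ K := by
  obtain ⟨⟨t, ht, hfin⟩, -⟩ := hK
  -- `t` is a transcendence basis
  have ind_t : AlgebraicIndependent k (fun _ : PUnit.{v + 1} => t) :=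
    algebraicIndependent_unique_type_iff.2 ht
  have alg_t : Algebra.IsAlgebraic (Algebra.adjoin k (Set.range fun _ : PUnit.{v + 1} => t)) K := by
    rw [Set.range_const]
    have h1 : Algebra.IsAlgebraic k⟮t⟯ K := Algebra.IsAlgebraic.of_finite _ _
    exact Algebra.IsAlgebraic.trans (Algebra.adjoin k {t}) k⟮t⟯ K
  have hB_t : IsTranscendenceBasis k (fun _ : PUnit.{v + 1} => t) :=
    ind_t.isTranscendenceBasis_iff_isAlgebraic.2 alg_t
  have ind_x : AlgebraicIndependent k (fun _ : PUnit.{v + 1} => x) :=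
    algebraicIndependent_unique_type_iff.2 hx
  have hB_x : IsTranscendenceBasis k (fun _ : PUnit.{v + 1} => x) :=
    ind_x.isTranscendenceBasis_of_trdeg_le_of_finite (by rw [← hB_t.cardinalMk_eq_trdeg])
  have alg_x : Algebra.IsAlgebraic k⟮x⟯ K := by
    have := hB_x.isAlgebraic_field
    rwa [Set.range_const] at this
  -- essentially of finite type
  have e1 : Algebra.EssFiniteType k k⟮t⟯ :=
    IntermediateField.essFiniteType_iff.2 (fg_adjoin_of_finite (Set.finite_singleton t))
  have e2 : Algebra.EssFiniteType k⟮t⟯ K := inferInstance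
  have e3 : Algebra.EssFiniteType k K := Algebra.EssFiniteType.comp k k⟮t⟯ K
  have e4 : Algebra.EssFiniteType k⟮x⟯ K := Algebra.EssFiniteType.of_comp k k⟮x⟯ K
  exact Algebra.finite_of_essFiniteType_of_isAlgebraic




open IntermediateField IntermediateField.algebraAdjoinAdjoin in
/-- The number of zeros of `x` is at most `[K : k(x)]`. -/
theorem card_le_finrank_of_forall_lt_one {x : K} (hx0 : x ≠ 0) [FiniteDimensional k⟮x⟯ K]
    (s : Finset (FunFld.Place k K)) (hs : ∀ P ∈ s, P.1 x < 1) :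
    s.card ≤ Module.finrank k⟮x⟯ K := by
  classical
  have := fun P : FunFld.Place k K =>
    exists_eq_one_forall_lt_one (s.erase P) P (Finset.notMem_erase P s)
  choose y hy1 hy2 using this
  have hli := linearIndependent_of_forall_lt_one hx0 s hs y (fun P _ => hy1 P)
    (fun P _ Q hQ hne => hy2 P Q (Finset.mem_erase.2 ⟨hne, hQ⟩))
  have hli' : LinearIndependent k⟮x⟯ (fun P : s => y P.1) :=
    (LinearIndependent.iff_fractionRing (Algebra.adjoin k {x}) k⟮x⟯).1 hli
  simpa using hli'.fintype_card_le_finrank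

open IntermediateField in
/-- A transcendental element of a function field of one variable has finitely many zeros. -/
theorem finite_zeros (hK : FunFld.IsFunctionField k K) {x : K} (hx : Transcendental k x) :
    {P : FunFld.Place k K | P.1 x < 1}.Finite := by
  have := finiteDimensional_adjoin_of_transcendental hK hx
  have hx0 : x ≠ 0 := fun h => hx (h ▸ isAlgebraic_zero)
  by_contra hinf
  obtain ⟨s, hs, hcard⟩ := Set.Infinite.exists_subset_card_eq hinf (Module.finrank k⟮x⟯ K + 1)
  have := card_le_finrank_of_forall_lt_one hx0 s (fun P hP => hs hP)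
  omega

/-- An element of a function field of one variable has only finitely many zeros and poles. -/
theorem finite_support_ord (hK : FunFld.IsFunctionField k K) (x : K) :
    (Function.support fun P : FunFld.Place k K => P.ord x).Finite := by
  by_cases hx : IsAlgebraic k x
  · obtain ⟨c, rfl⟩ := hK.2 x hx
    convert Set.finite_empty
    rw [Set.eq_empty_iff_forall_notMem]
    intro P hP
    apply hP
    by_cases hc : c = 0
    · simp [hc, FunFld.Place.ord]
    · simp [FunFld.Place.ord, val_algebraMap P hc]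
  · have hx' : Transcendental k x := hx
    have hx0 : x ≠ 0 := fun h => hx (h ▸ isAlgebraic_zero)
    have hinv : Transcendental k x⁻¹ := fun h => hx (by simpa using h.inv)
    refine ((finite_zeros hK hx').union (finite_zeros hK hinv)).subset ?_
    intro P hP
    have hne : P.1 x ≠ 1 := (ord_ne_zero_iff P hx0).1 hP
    rcases lt_or_gt_of_ne hne with h | h
    · exact Or.inl h
    · right
      change P.1 x⁻¹ < 1
      rw [map_inv₀]
      exact inv_lt_one_of_one_lt₀ h


end Groth.Agent.Lib.H40FunFld
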