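import Mathlib
import Groth.Agent.Lib.CurveDeg85a
import Groth.Agent.Lib.H40FunFld

/-!
# Degree of principal divisors on curves, part b (helper85)

`local_formula`: for a one-dimensional Noetherian local domain `R` (a `k`-algebra, not a field) with
finite integral closure in its fraction field `F`:
`[κ(R):k] · ord_R f = ∑ deg Q · ord_Q f` over the places `Q` of `F/k` dominating `R`.
-/
set_option autoImplicit false
set_option linter.style.haveILetI false
set_option linter.unusedSectionVars false
set_option linter.unusedVariables false
universe u v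

namespace Groth.Agent.Lib.CurveDeg85
open IsLocalRing IsDedekindDomain HeightOneSpectrum

section degV
variable {k : Type v} [Field k] {F : Type u} [Field F] [Algebra k F]

/-- The degree over `k` of the residue field of a valuation subring containing `k`. -/
noncomputable def degV (V : ValuationSubring F) (hk : ∀ c : k, algebraMap k F c ∈ V) : ℕ :=
  letI : Algebra k (ResidueField V) :=
    ((residue V).comp ((algebraMap k F).codRestrict V.toSubring hk)).toAlgebra
  Module.finrank k (ResidueField V)

theorem degV_congr {V W : ValuationSubring F} (h : V = W) (hk : ∀ c : k, algebraMap k F c ∈ V) :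
    degV V hk = degV W (h ▸ hk) := by
  subst h
  rfl

theorem deg_eq_degV (Q : FunFld.Place k F) :
    Q.deg = degV Q.O (fun c => Q.2.1 c) := rfl

/-- Tower law for the residue degree of a valuation subring dominating a local `k`-algebra. -/
theorem finrank_mul_eq_degV {R : Type*} [CommRing R] [IsLocalRing R] [Algebra k R] [Algebra R F]
    [IsScalarTower k R F] (V : ValuationSubring F) [Algebra R V] [IsScalarTower R V F]
    [IsLocalHom (algebraMap R V)] (hk : ∀ c : k, algebraMap k F c ∈ V) :
    Module.finrank k (ResidueField R) * Module.finrank (ResidueField R) (ResidueField V) =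
      degV V hk := by
  unfold degV
  letI : Algebra k (ResidueField V) :=
    ((residue V).comp ((algebraMap k F).codRestrict V.toSubring hk)).toAlgebra
  haveI : IsScalarTower k (ResidueField R) (ResidueField V) := by
    refine IsScalarTower.of_algebraMap_eq (fun c => ?_)
    change residue V ((algebraMap k F).codRestrict V.toSubring hk c) =
      ResidueField.map (algebraMap R V) (residue R (algebraMap k R c))
    rw [ResidueField.map_residue]
    congr 1
    apply Subtype.ext
    change algebraMap k F c = algebraMap V F (algebraMap R V (algebraMap k R c))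
    rw [← IsScalarTower.algebraMap_apply R V F, ← IsScalarTower.algebraMap_apply k R F]
  exact Module.finrank_mul_finrank k (ResidueField R) (ResidueField V)

end degV

section places
variable {k : Type v} [Field k] (R : Type u) [CommRing R] [IsDomain R] [IsLocalRing R]
  [IsNoetherianRing R] [Ring.KrullDimLE 1 R]
  (F : Type u) [Field F] [Algebra R F] [IsFractionRing R F]
  [Algebra k R] [Algebra k F] [IsScalarTower k R F]
  [hfin : Module.Finite R (integralClosure R F)] [hD : IsDedekindDomain (integralClosure R F)]
  (hnf : maximalIdeal R ≠ ⊥)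

/-- The place `Q` dominates the local ring `R`. -/
def DomPlace (Q : FunFld.Place k F) : Prop :=
  (∀ r : R, Q.1 (algebraMap R F r) ≤ 1) ∧ ∀ r ∈ maximalIdeal R, Q.1 (algebraMap R F r) < 1

omit [IsDomain R] [IsNoetherianRing R] [Ring.KrullDimLE 1 R] [IsFractionRing R F] hfin hD in
theorem algebraMap_k_eq (c : k) : algebraMap k F c =
    algebraMap (integralClosure R F) F (algebraMap R (integralClosure R F) (algebraMap k R c)) := by
  rw [← IsScalarTower.algebraMap_apply R (integralClosure R F) F,
    ← IsScalarTower.algebraMap_apply k R F]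

/-- The place of `F/k` attached to a prime of the integral closure over the maximal ideal. -/
noncomputable def QP (P : (maximalIdeal R).primesOver (integralClosure R F)) : FunFld.Place k F :=
  ⟨(hs R F hnf P).valuation F, fun c => by
      rw [algebraMap_k_eq R F c]
      exact (hs R F hnf P).valuation_le_one _,
    surjective_valuation _⟩

theorem domPlace_QP (P : (maximalIdeal R).primesOver (integralClosure R F)) :
    DomPlace R F (QP (k := k) R F hnf P) := by
  constructor
  · intro r
    rw [IsScalarTower.algebraMap_apply R (integralClosure R F) F]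
    exact (hs R F hnf P).valuation_le_one _
  · intro r hr
    rw [IsScalarTower.algebraMap_apply R (integralClosure R F) F]
    change (hs R F hnf P).valuation F _ < 1
    rw [(hs R F hnf P).valuation_lt_one_iff_mem]
    change algebraMap R (integralClosure R F) r ∈ P.1
    have := (P.2.2).over
    rw [this] at hr
    exact hr

theorem QP_injective : Function.Injective (QP (k := k) R F hnf) := by
  intro P P' h
  have hval : (hs R F hnf P).valuation F = (hs R F hnf P').valuation F :=
    congrArg Subtype.val h
  apply Subtype.ext
  ext b
  have h1 := (hs R F hnf P).valuation_lt_one_iff_mem (K := F) b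
  have h2 := (hs R F hnf P').valuation_lt_one_iff_mem (K := F) b
  rw [hval] at h1
  exact h1.symm.trans h2

theorem exists_QP_eq (Q : FunFld.Place k F) (hQ : DomPlace R F Q) :
    ∃ P, QP (k := k) R F hnf P = Q := by
  set V : ValuationSubring F := Q.O with hVdef
  have hmemV : ∀ a : F, a ∈ V ↔ Q.1 a ≤ 1 := fun a => Iff.rfl
  have hBV : ∀ b : integralClosure R F, algebraMap (integralClosure R F) F b ∈ V := by
    intro b
    rw [hmemV]
    exact valuation_le_one_of_isIntegral Q.1 hQ.1 b.2
  have hV : V ≠ ⊤ := by
    intro htop
    obtain ⟨π, hπ⟩ := Groth.Agent.Lib.H40FunFld.exists_uniformizer Q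
    have h1 : π⁻¹ ∈ V := htop ▸ ValuationSubring.mem_top _
    rw [hmemV, map_inv₀, hπ, ← WithZero.exp_neg, neg_neg] at h1
    have h2 : (1 : WithZero (Multiplicative ℤ)) < WithZero.exp (1 : ℤ) := by
      rw [← WithZero.exp_zero]
      exact WithZero.exp_lt_exp.mpr one_pos
    exact absurd h1 (not_le.mpr h2)
  set v0 := Groth.Agent.Lib.ValDVR76.centerSpec V hBV hV with hv0
  have hVeq : valuationSubringAtPrime F v0 = V :=
    Groth.Agent.Lib.ValDVR76.eq_valuationSubringAtPrime V hBV hV
  have hlt : ∀ a : F, V.valuation a < 1 ↔ Q.1 a < 1 := by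
    intro a
    have hequiv : V.valuation.IsEquiv Q.1 :=
      (Valuation.isEquiv_valuation_valuationSubring Q.1).symm
    exact (Valuation.isEquiv_iff_val_lt_one.mp hequiv)
  have hover : v0.asIdeal.LiesOver (maximalIdeal R) := by
    constructor
    ext r
    rw [Ideal.under_def, Ideal.mem_comap]
    change r ∈ maximalIdeal R ↔ algebraMap R (integralClosure R F) r ∈
      Groth.Agent.Lib.ValDVR76.center V hBV
    rw [Groth.Agent.Lib.ValDVR76.mem_center, hlt,
      ← IsScalarTower.algebraMap_apply R (integralClosure R F) F]
    constructor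
    · exact hQ.2 r
    · intro hr
      by_contra hnm
      have hu : IsUnit r := by
        by_contra hnu
        exact hnm ((mem_maximalIdeal r).mpr hnu)
      obtain ⟨u, rfl⟩ := hu
      have h1 := hQ.1 ((u⁻¹ : Rˣ) : R)
      have h2 : Q.1 (algebraMap R F (u : R)) * Q.1 (algebraMap R F ((u⁻¹ : Rˣ) : R)) = 1 := by
        rw [← map_mul, ← map_mul, Units.mul_inv, map_one, map_one]
      have h3 : Q.1 (algebraMap R F (u : R)) * Q.1 (algebraMap R F ((u⁻¹ : Rˣ) : R)) < 1 := by
        calc _ ≤ Q.1 (algebraMap R F (u : R)) * 1 := by gcongr
          _ = Q.1 (algebraMap R F (u : R)) := mul_one _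
          _ < 1 := hr
      exact absurd h2 h3.ne
  refine ⟨⟨v0.asIdeal, v0.isPrime, hover⟩, ?_⟩
  apply Groth.Agent.Lib.H40FunFld.eq_of_forall_le_one
  intro a ha
  have h1 : a ∈ (v0.valuation F).valuationSubring := ha
  rw [← valuationSubringAtPrime_eq_valuationSubring, hVeq] at h1
  exact h1

instance towerRCPF (P : (maximalIdeal R).primesOver (integralClosure R F)) :
    IsScalarTower R (CP R F hnf P) F :=
  IsScalarTower.of_algebraMap_eq (fun r => by
    rw [IsScalarTower.algebraMap_apply R (integralClosure R F) (CP R F hnf P),
      ← IsScalarTower.algebraMap_apply (integralClosure R F) (CP R F hnf P) F,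
      ← IsScalarTower.algebraMap_apply R (integralClosure R F) F])

theorem term_eq (P : (maximalIdeal R).primesOver (integralClosure R F)) (f : F) (hf : f ≠ 0) :
    (Module.finrank k (ResidueField R) : ℤ) *
      ((Module.finrank (ResidueField R) (ResidueField (CP R F hnf P)) : ℤ) *
        CycAlg.ordFrac (CP R F hnf P) F f) =
      ((QP (k := k) R F hnf P).deg : ℤ) * (QP (k := k) R F hnf P).ord f := by
  haveI : IsDiscreteValuationRing (CP R F hnf P) :=
    IsLocalization.AtPrime.isDiscreteValuationRing_of_dedekind_domain (integralClosure R F)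
      (hs R F hnf P).ne_bot (CP R F hnf P)
  have h1 : CycAlg.ordFrac (CP R F hnf P) F f = (QP (k := k) R F hnf P).ord f :=
    ordFrac_dvr (CP R F hnf P) ((hs R F hnf P).valuation F) (surjective_valuation _)
      (fun a ha => valuationSubringAtPrime_le_valuation _ ha) f hf
  have hkV : ∀ c : k, algebraMap k F c ∈ CP R F hnf P := by
    intro c
    rw [algebraMap_k_eq R F c]
    exact (algebraMap (integralClosure R F) (CP R F hnf P) _).2
  have h2 : Module.finrank k (ResidueField R) *
      Module.finrank (ResidueField R) (ResidueField (CP R F hnf P)) = degV (CP R F hnf P) hkV :=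
    finrank_mul_eq_degV (CP R F hnf P) hkV
  have h3 : degV (CP R F hnf P) hkV = (QP (k := k) R F hnf P).deg := by
    rw [deg_eq_degV]
    exact degV_congr (valuationSubringAtPrime_eq_valuationSubring _) hkV
  rw [h1, ← mul_assoc, ← h3, ← h2]
  push_cast
  rfl

include hnf in
theorem local_formula (f : F) (hf : f ≠ 0) :
    (Module.finrank k (ResidueField R) : ℤ) * CycAlg.ordFrac R F f =
      ∑ᶠ (Q : FunFld.Place k F) (_ : DomPlace R F Q), (Q.deg : ℤ) * Q.ord f := by
  haveI : Finite ((maximalIdeal R).primesOver (integralClosure R F)) :=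
    (Algebra.QuasiFinite.finite_primesOver (maximalIdeal R)).to_subtype
  rw [ordFrac_eq_finsum_primesOver R F hnf f hf, mul_finsum]
  have hrange : {Q : FunFld.Place k F | DomPlace R F Q} = Set.range (QP (k := k) R F hnf) := by
    ext Q
    constructor
    · intro hQ
      exact exists_QP_eq R F hnf Q hQ
    · rintro ⟨P, rfl⟩
      exact domPlace_QP R F hnf P
  have h1 : ∑ᶠ (Q : FunFld.Place k F) (_ : DomPlace R F Q), (Q.deg : ℤ) * Q.ord f =
      ∑ᶠ Q ∈ Set.range (QP (k := k) R F hnf), (Q.deg : ℤ) * Q.ord f := by
    rw [← hrange]
    rfl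
  rw [h1, finsum_mem_range (QP_injective R F hnf)]
  exact finsum_congr (fun P => term_eq R F hnf P f hf)

end places

end Groth.Agent.Lib.CurveDeg85
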