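import Groth.Agent.Lib.H40FunFldExt

set_option autoImplicit false
open FunFld Polynomial

namespace Groth.Agent.Lib.H40FunFld

open Groth.Agent.Lib.H40QuotChain IntermediateField

universe u v w
variable {k : Type u} [Field k]

section Conorm

variable {K : Type v} [Field K] [Algebra k K] {K' : Type w} [Field K'] [Algebra K K']
  [Algebra k K']

theorem deg_zsmul (n : ℤ) (D : FunFld.Divisor k K) : (n • D).deg = n * D.deg := by
  induction n using Int.induction_on with
  | zero => simp [deg_zero]
  | succ i ih => rw [add_smul, one_smul, deg_add, ih]; ring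
  | pred i ih => rw [sub_smul, one_smul, deg_sub, ih]; ring

open scoped Classical in
/-- The conorm of a single place. -/
noncomputable def conormP (K' : Type w) [Field K'] [Algebra K K'] [Algebra k K']
    (P : FunFld.Place k K) : FunFld.Divisor k K' :=
  if h : {Q : FunFld.Place k K' | FunFld.IsOver Q P}.Finite then
    h.toFinset.sum (fun Q => (FunFld.ramIdx Q P : ℤ) • Finsupp.single Q 1) else 0

theorem conorm_eq_sum (D : FunFld.Divisor k K) :
    FunFld.conorm K' D = D.sum fun P n => n • conormP K' P := by
  classical
  unfold FunFld.conorm conormP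
  rfl

variable [IsScalarTower k K K'] [FiniteDimensional K K']

open scoped Classical in
theorem conormP_apply (hK : FunFld.IsFunctionField k K) (P : FunFld.Place k K)
    (Q : FunFld.Place k K') :
    conormP K' P Q = if FunFld.IsOver Q P then (FunFld.ramIdx Q P : ℤ) else 0 := by
  classical
  have hfin := (finite_isOver_and_sum_ramIdx_mul_deg (K' := K') hK P).1
  unfold conormP
  rw [dif_pos hfin, Finsupp.finsetSum_apply]
  simp only [Finsupp.smul_apply, Finsupp.single_apply, smul_eq_mul, mul_ite, mul_one, mul_zero]
  rw [Finset.sum_ite_eq']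
  simp only [Set.Finite.mem_toFinset, Set.mem_ofPred_eq]

theorem deg_conormP (hK : FunFld.IsFunctionField k K) (P : FunFld.Place k K) :
    (conormP K' P).deg = Module.finrank K K' * P.deg := by
  classical
  obtain ⟨hfin, hsum⟩ := finite_isOver_and_sum_ramIdx_mul_deg (K' := K') hK P
  unfold conormP
  rw [dif_pos hfin, deg_sum]
  have h1 := hsum hfin.toFinset (fun Q => by simp)
  have h2 : ∀ Q ∈ hfin.toFinset, FunFld.Divisor.deg ((FunFld.ramIdx Q P : ℤ) •
      (Finsupp.single Q 1 : FunFld.Divisor k K')) = ((FunFld.ramIdx Q P * Q.deg : ℕ) : ℤ) := by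
    intro Q _
    rw [deg_zsmul, deg_single]; push_cast; ring
  rw [Finset.sum_congr rfl h2, ← Nat.cast_sum, h1]
  push_cast; ring

/-- `deg N*(D) = [K' : K] deg D`. -/
theorem deg_conorm (hK : FunFld.IsFunctionField k K) (D : FunFld.Divisor k K) :
    (FunFld.conorm K' D).deg = Module.finrank K K' * D.deg := by
  classical
  rw [conorm_eq_sum, Finsupp.sum, deg_sum]
  have h : ∀ P ∈ D.support, FunFld.Divisor.deg (D P • conormP K' P) =
      Module.finrank K K' * (D P * P.deg) := by
    intro P _
    rw [deg_zsmul, deg_conormP hK]; ring
  rw [Finset.sum_congr rfl h, ← Finset.mul_sum]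
  rfl

/-- The coefficient of the conorm at a place `Q` over `P`. -/
theorem conorm_apply (hK : FunFld.IsFunctionField k K) (D : FunFld.Divisor k K)
    {Q : FunFld.Place k K'} {P : FunFld.Place k K} {e : ℕ} (h : FunFld.IsOverWith Q P e) :
    FunFld.conorm K' D Q = e * D P := by
  classical
  rw [conorm_eq_sum, Finsupp.sum, Finsupp.finsetSum_apply]
  have h1 : ∀ P' ∈ D.support, (D P' • conormP K' P') Q = if P' = P then (e : ℤ) * D P else 0 := by
    intro P' _
    rw [Finsupp.smul_apply, conormP_apply hK, smul_eq_mul]
    by_cases hP : P' = P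
    · subst hP
      rw [if_pos ⟨e, h⟩, if_pos rfl, ramIdx_eq h]; ring
    · rw [if_neg hP, if_neg, mul_zero]
      rintro ⟨e', he'⟩
      exact hP (isOverWith_unique he' h).1
  rw [Finset.sum_congr rfl h1, Finset.sum_ite_eq']
  split_ifs with h2
  · rfl
  · rw [Finsupp.notMem_support_iff.1 h2, mul_zero]

end Conorm

section DivConorm

variable {L : Type v} [Field L] [Algebra k L]

/-- Finiteness of zeros and poles over a constant field which need not be exact. -/
theorem weak_finite_support_ord {t : L} (ht : Transcendental k t) [FiniteDimensional k⟮t⟯ L]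
    (y : L) : (Function.support fun Q : FunFld.Place k L => Q.ord y).Finite := by
  have hA := isFunctionField_constField ht
  refine ((finite_support_ord hA y).preimage (placeUp_injective (k := k) (L := L)).injOn).subset ?_
  intro Q hQ
  exact hQ

variable {K : Type v} [Field K] [Algebra k K] {K' : Type w} [Field K'] [Algebra K K']
  [Algebra k K'] [IsScalarTower k K K'] [FiniteDimensional K K']

theorem finite_support_ord_ext (hK : FunFld.IsFunctionField k K) (y : K') :
    (Function.support fun Q : FunFld.Place k K' => Q.ord y).Finite := by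
  obtain ⟨t, htr, -⟩ := hK.1
  have htr' : Transcendental k (algebraMap K K' t) := by
    intro halg
    exact htr ((isAlgebraic_algebraMap_iff (algebraMap K K').injective).1 halg)
  obtain ⟨hfin', -⟩ := finrank_adjoin_algebraMap (K' := K') hK htr
  exact weak_finite_support_ord htr' y

theorem div_apply_ext (hK : FunFld.IsFunctionField k K) (y : K') (Q : FunFld.Place k K') :
    FunFld.div k y Q = Q.ord y :=
  div_apply_of_finite y (finite_support_ord_ext hK y) Q

/-- The principal divisor of `x ∈ K` in `K'` is the conorm of its principal divisor in `K`. -/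
theorem div_algebraMap_eq_conorm (hK : FunFld.IsFunctionField k K) (x : K) :
    FunFld.div k (algebraMap K K' x) = FunFld.conorm K' (FunFld.div k x) := by
  ext Q
  obtain ⟨P, e, he⟩ := exists_isOverWith hK Q
  rw [div_apply_ext hK, conorm_apply hK _ he, div_apply hK, ord_algebraMap_of_isOverWith he]

end DivConorm

end Groth.Agent.Lib.H40FunFld
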