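import Groth.Agent.Lib.H40FunFldRes
import Mathlib.RingTheory.Valuation.LocalSubring
import Mathlib.RingTheory.Valuation.Discrete.IsDiscreteValuationRing

/-!
# Function fields of one variable (`FunFld`): existence of places.

Every valuation subring of `K` containing `k` and different from `K` is a discrete valuation ring
and hence defines a place; every transcendental element has a zero and a pole.
-/

set_option autoImplicit false
open FunFld Polynomial

namespace Groth.Agent.Lib.H40FunFld

universe u v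
variable {k : Type u} {K : Type v} [Field k] [Field K] [Algebra k K]

section General

variable {Γ₀ : Type*} [LinearOrderedCommGroupWithZero Γ₀] (w : Valuation K Γ₀)

/-- A valuation is trivial on `k` if it takes the value `1` on nonzero constants. -/
def TrivialOn (w : Valuation K Γ₀) : Prop := ∀ c : k, c ≠ 0 → w (algebraMap k K c) = 1

variable {w}

theorem TrivialOn.le_one (hw : TrivialOn (k := k) w) (c : k) : w (algebraMap k K c) ≤ 1 := by
  by_cases hc : c = 0
  · rw [hc, map_zero, map_zero]; exact zero_le_one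
  · exact (hw c hc).le

theorem gval_aeval_le_one (hw : TrivialOn (k := k) w) {x : K} (hx : w x ≤ 1) (p : k[X]) :
    w (aeval x p) ≤ 1 := by
  induction p using Polynomial.induction_on' with
  | add p q hp hq =>
    rw [map_add]
    exact Valuation.map_add_le _ hp hq
  | monomial n a =>
    rw [aeval_monomial, map_mul, map_pow]
    exact mul_le_one' (hw.le_one a) (pow_le_one₀ zero_le hx)

theorem gval_aeval_eq_one (hw : TrivialOn (k := k) w) {x : K} (hx : w x < 1) (g : k[X])
    (hg : g.coeff 0 ≠ 0) : w (aeval x g) = 1 := by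
  have h1 : aeval x g = aeval x g.divX * x + algebraMap k K (g.coeff 0) := by
    conv_lhs => rw [← Polynomial.divX_mul_X_add g]
    simp
  have h2 : w (aeval x g.divX * x) < 1 := by
    rw [map_mul]
    calc w (aeval x g.divX) * w x ≤ 1 * w x := by
          gcongr
          exact gval_aeval_le_one hw hx.le _
      _ = w x := one_mul _
      _ < 1 := hx
  rw [h1, Valuation.map_add_eq_of_lt_right _ (by rw [hw _ hg]; exact h2), hw _ hg]

theorem gval_aeval_eq_pow (hw : TrivialOn (k := k) w) {x : K} (hx : w x < 1) {p : k[X]}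
    (hp : p ≠ 0) : w (aeval x p) = w x ^ (p.rootMultiplicity 0) := by
  obtain ⟨q, hq1, hq2⟩ := Polynomial.exists_eq_pow_rootMultiplicity_mul_and_not_dvd p hp 0
  have hq0 : q.coeff 0 ≠ 0 := by
    intro h0
    apply hq2
    rw [C_0, sub_zero]
    exact Polynomial.X_dvd_iff.2 h0
  conv_lhs => rw [hq1]
  rw [map_mul, map_mul, map_pow, map_pow, gval_aeval_eq_one hw hx q hq0, mul_one]
  simp

open IntermediateField IntermediateField.algebraAdjoinAdjoin in
/-- Elements whose valuations are pairwise distinct and lie in `[w y, 1)` are linearly independent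
over `k[y]`. -/
theorem glinearIndependent_of_val_injective (hw : TrivialOn (k := k) w) {y : K} (hy0 : y ≠ 0)
    (hy : w y < 1) {ι : Type*} [Fintype ι] (z : ι → K) (hz1 : ∀ i, w y ≤ w (z i))
    (hz2 : ∀ i, w (z i) < 1) (hinj : Function.Injective fun i => w (z i)) :
    LinearIndependent (Algebra.adjoin k {y}) z := by
  classical
  rw [Fintype.linearIndependent_iff]
  intro g hg
  have hrep : ∀ a : Algebra.adjoin k {y}, ∃ p : k[X], aeval y p = (a : K) := by
    intro a
    have h1 : (a : K) ∈ (aeval y : k[X] →ₐ[k] K).range := by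
      rw [← Algebra.adjoin_singleton_eq_range_aeval]; exact a.2
    exact h1
  choose p hp using hrep
  by_contra hne
  push Not at hne
  obtain ⟨i₀, hi₀⟩ := hne
  have hpi₀ : p (g i₀) ≠ 0 := by
    intro h0
    apply hi₀
    apply Subtype.ext
    rw [← hp, h0, map_zero]; rfl
  have hwy0 : w y ≠ 0 := (Valuation.ne_zero_iff _).2 hy0
  -- minimal root multiplicity
  let T : Finset ι := Finset.univ.filter (fun i => p (g i) ≠ 0)
  have hT : T.Nonempty := ⟨i₀, by simp [T, hpi₀]⟩
  obtain ⟨j₀, hj₀T, hmin⟩ := Finset.exists_min_image T (fun i => (p (g i)).rootMultiplicity 0) hT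
  set m := (p (g j₀)).rootMultiplicity 0 with hm
  -- among those with minimal multiplicity, maximal valuation of `z`
  let T' : Finset ι := T.filter (fun i => (p (g i)).rootMultiplicity 0 = m)
  have hT' : T'.Nonempty := ⟨j₀, by simp [T', hj₀T, hm]⟩
  obtain ⟨j, hjT', hmax⟩ := Finset.exists_max_image T' (fun i => w (z i)) hT'
  have hjT : j ∈ T := (Finset.mem_filter.1 hjT').1
  have hpj : p (g j) ≠ 0 := (Finset.mem_filter.1 hjT).2
  have hmj : (p (g j)).rootMultiplicity 0 = m := (Finset.mem_filter.1 hjT').2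
  have hzj0 : w (z j) ≠ 0 := fun h0 => hwy0 (le_antisymm (h0 ▸ hz1 j) zero_le)
  have hpos : 0 < w y ^ m * w (z j) :=
    zero_lt_iff.2 (mul_ne_zero (pow_ne_zero _ hwy0) hzj0)
  have hmain : w ((g j : K) * z j) = w y ^ m * w (z j) := by
    rw [map_mul, ← hp, gval_aeval_eq_pow hw hy hpj, hmj]
  have hrest : w (∑ i ∈ Finset.univ.erase j, (g i : K) * z i) < w y ^ m * w (z j) := by
    apply Valuation.map_sum_lt _ hpos.ne'
    intro i hi
    have hij : i ≠ j := (Finset.mem_erase.1 hi).1
    by_cases hpi : p (g i) = 0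
    · have : (g i : K) = 0 := by rw [← hp, hpi, map_zero]
      rw [this, zero_mul, map_zero]; exact hpos
    · have hiT : i ∈ T := by simp [T, hpi]
      have hle : m ≤ (p (g i)).rootMultiplicity 0 := hmin i hiT
      rw [map_mul, ← hp, gval_aeval_eq_pow hw hy hpi]
      rcases hle.eq_or_lt with heq | hlt
      · -- same multiplicity: compare valuations of `z`
        have hiT' : i ∈ T' := by simp [T', hiT, heq.symm]
        have h1 : w (z i) ≤ w (z j) := hmax i hiT'
        have h2 : w (z i) < w (z j) := lt_of_le_of_ne h1 (fun h => hij (hinj h))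
        rw [← heq]
        exact mul_lt_mul_of_pos_left h2 (zero_lt_iff.2 (pow_ne_zero _ hwy0))
      · -- larger multiplicity
        have h1 : w y ^ (p (g i)).rootMultiplicity 0 ≤ w y ^ (m + 1) :=
          pow_le_pow_of_le_one zero_le hy.le hlt
        have h2 : w y ^ (m + 1) ≤ w y ^ m * w (z j) := by
          rw [pow_succ]
          exact mul_le_mul_right (hz1 j) _
        have h3 : 0 < w y ^ (p (g i)).rootMultiplicity 0 :=
          zero_lt_iff.2 (pow_ne_zero _ hwy0)
        calc w y ^ (p (g i)).rootMultiplicity 0 * w (z i)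
            < w y ^ (p (g i)).rootMultiplicity 0 * 1 := mul_lt_mul_of_pos_left (hz2 i) h3
          _ = w y ^ (p (g i)).rootMultiplicity 0 := mul_one _
          _ ≤ w y ^ (m + 1) := h1
          _ ≤ w y ^ m * w (z j) := h2
  have hsum : (∑ i, (g i : K) * z i) = 0 := by
    rw [← hg]
    rfl
  rw [← Finset.add_sum_erase Finset.univ _ (Finset.mem_univ j)] at hsum
  have := Valuation.map_add_eq_of_lt_left w (x := (g j : K) * z j)
    (y := ∑ i ∈ Finset.univ.erase j, (g i : K) * z i) (by rw [hmain]; exact hrest)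
  rw [hsum, map_zero, hmain] at this
  exact hpos.ne this

open IntermediateField IntermediateField.algebraAdjoinAdjoin in
theorem gcard_le_finrank_of_val_injective (hw : TrivialOn (k := k) w) {y : K} (hy0 : y ≠ 0)
    (hy : w y < 1) [FiniteDimensional k⟮y⟯ K] {ι : Type*} [Fintype ι] (z : ι → K)
    (hz1 : ∀ i, w y ≤ w (z i)) (hz2 : ∀ i, w (z i) < 1)
    (hinj : Function.Injective fun i => w (z i)) :
    Fintype.card ι ≤ Module.finrank k⟮y⟯ K := by
  have hli := glinearIndependent_of_val_injective hw hy0 hy z hz1 hz2 hinj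
  have hli' : LinearIndependent k⟮y⟯ z :=
    (LinearIndependent.iff_fractionRing (Algebra.adjoin k {y}) k⟮y⟯).1 hli
  exact hli'.fintype_card_le_finrank

end General




section DVR

variable (O : ValuationSubring K)

theorem trivialOn_valuation (hk : ∀ c : k, algebraMap k K c ∈ O) :
    TrivialOn (k := k) O.valuation := by
  intro c hc
  apply le_antisymm ((O.valuation_le_one_iff _).2 (hk c))
  have h1 : O.valuation (algebraMap k K c⁻¹) ≤ 1 := (O.valuation_le_one_iff _).2 (hk c⁻¹)
  have h2 : O.valuation (algebraMap k K c) * O.valuation (algebraMap k K c⁻¹) = 1 := by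
    rw [← map_mul, ← map_mul, mul_inv_cancel₀ hc, map_one, map_one]
  calc (1 : O.ValueGroup) = O.valuation (algebraMap k K c) * O.valuation (algebraMap k K c⁻¹) :=
        h2.symm
    _ ≤ O.valuation (algebraMap k K c) * 1 := by gcongr
    _ = O.valuation (algebraMap k K c) := mul_one _

open IntermediateField in
/-- The values of `O.valuation` in an interval `[v y, 1)` form a finite set. -/
theorem finite_values (hK : FunFld.IsFunctionField k K) (hk : ∀ c : k, algebraMap k K c ∈ O)
    {y : K} (hy0 : y ≠ 0) (hy : O.valuation y < 1) :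
    {γ : O.ValueGroup | (∃ a : K, O.valuation a = γ) ∧ O.valuation y ≤ γ ∧ γ < 1}.Finite := by
  classical
  have hw := trivialOn_valuation O hk
  have hytr : Transcendental k y := by
    intro halg
    obtain ⟨c, rfl⟩ := hK.2 y halg
    have hc : c ≠ 0 := fun h => hy0 (by rw [h, map_zero])
    rw [hw c hc] at hy
    exact lt_irrefl _ hy
  have := finiteDimensional_adjoin_of_transcendental hK hytr
  by_contra hinf
  obtain ⟨s, hs, hcard⟩ := Set.Infinite.exists_subset_card_eq hinf (Module.finrank k⟮y⟯ K + 1)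
  have hrep : ∀ γ : s, ∃ a : K, O.valuation a = γ.1 := fun γ => (hs γ.2).1
  choose z hz using hrep
  have := gcard_le_finrank_of_val_injective hw hy0 hy z
    (fun γ => by rw [hz]; exact (hs γ.2).2.1) (fun γ => by rw [hz]; exact (hs γ.2).2.2)
    (fun γ γ' h => by
      simp only [hz] at h
      exact Subtype.ext h)
  rw [Fintype.card_coe] at this
  omega

/-- Every ideal of a valuation subring of a function field containing `k` is principal. -/
theorem isPrincipalIdealRing_of_le (hK : FunFld.IsFunctionField k K)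
    (hk : ∀ c : k, algebraMap k K c ∈ O) : IsPrincipalIdealRing O := by
  classical
  refine ⟨fun I => ?_⟩
  by_cases hI0 : I = ⊥
  · rw [hI0]; exact bot_isPrincipal
  by_cases hI1 : I = ⊤
  · rw [hI1]; exact top_isPrincipal
  obtain ⟨b, hbI, hb0⟩ := Submodule.exists_mem_ne_zero_of_ne_bot hI0
  have hlt : ∀ a ∈ I, O.valuation (a : K) < 1 := fun a ha =>
    (O.valuation_lt_one_iff a).1 (IsLocalRing.le_maximalIdeal hI1 ha)
  have hb0' : (b : K) ≠ 0 := fun h => hb0 (Subtype.ext h)
  have hfin := finite_values O hK hk hb0' (hlt b hbI)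
  let V : Set O.ValueGroup := {γ | ∃ a ∈ I, O.valuation (a : K) = γ ∧ O.valuation (b : K) ≤ γ}
  have hVfin : V.Finite := hfin.subset (by
    rintro γ ⟨a, ha, rfl, hle⟩
    exact ⟨⟨_, rfl⟩, hle, hlt a ha⟩)
  have hVne : V.Nonempty := ⟨_, b, hbI, rfl, le_rfl⟩
  obtain ⟨γ₀, hγ₀V, hmax⟩ := hVfin.exists_maximal hVne
  obtain ⟨a₀, ha₀I, ha₀, hle₀⟩ := hγ₀V
  have hall : ∀ a ∈ I, O.valuation (a : K) ≤ O.valuation (a₀ : K) := by
    intro a ha
    by_cases h : O.valuation (b : K) ≤ O.valuation (a : K)
    · have haV : O.valuation (a : K) ∈ V := ⟨a, ha, rfl, h⟩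
      rw [ha₀]
      by_contra hcon
      push Not at hcon
      exact absurd (hmax haV hcon.le) (not_le.2 hcon)
    · push Not at h
      rw [ha₀]
      exact h.le.trans hle₀
  refine ⟨⟨a₀, le_antisymm ?_ ?_⟩⟩
  · intro a ha
    obtain ⟨c, hc⟩ := (O.valuation_le_iff _ _).1 (hall a ha)
    rw [Submodule.mem_span_singleton]
    exact ⟨c, Subtype.ext (by simpa using hc)⟩
  · rw [Submodule.span_le]
    intro x hx
    rw [Set.mem_singleton_iff] at hx
    rw [hx]; exact ha₀I

theorem isDiscreteValuationRing_of_le (hK : FunFld.IsFunctionField k K)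
    (hk : ∀ c : k, algebraMap k K c ∈ O) {t : K} (ht0 : t ≠ 0) (ht : O.valuation t < 1) :
    IsDiscreteValuationRing O := by
  have := isPrincipalIdealRing_of_le O hK hk
  refine { not_a_field' := ?_ }
  intro h
  have htO : t ∈ O := (O.valuation_le_one_iff t).1 ht.le
  have : (⟨t, htO⟩ : O) ∈ IsLocalRing.maximalIdeal O := (O.valuation_lt_one_iff _).2 ht
  rw [h] at this
  exact ht0 (congrArg Subtype.val ((Submodule.mem_bot O).1 this))

end DVR




section DVR

variable (O : ValuationSubring K)


open IsDedekindDomain in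
/-- A valuation subring of a function field `K/k` which contains `k` and is not `K` is the
valuation ring of a place. -/
theorem exists_place_of_valuationSubring (hK : FunFld.IsFunctionField k K)
    (hk : ∀ c : k, algebraMap k K c ∈ O) {t : K} (ht0 : t ≠ 0) (ht : O.valuation t < 1) :
    ∃ P : FunFld.Place k K, (∀ a : K, P.1 a ≤ 1 ↔ a ∈ O) ∧
      (∀ a : K, P.1 a < 1 ↔ O.valuation a < 1) := by
  have := isDiscreteValuationRing_of_le O hK hk ht0 ht
  let vP : Valuation K (WithZero (Multiplicative ℤ)) :=
    (IsDiscreteValuationRing.maximalIdeal O).valuation K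
  have h1 : ∀ a : O, vP (a : K) ≤ 1 := fun a =>
    (IsDiscreteValuationRing.maximalIdeal O).valuation_le_one a
  have h2 : ∀ a : K, vP a ≤ 1 → a ∈ O := by
    intro a ha
    obtain ⟨b, hb⟩ := IsDiscreteValuationRing.exists_lift_of_le_one (A := O) ha
    rw [← hb]; exact b.2
  have hsurj : Function.Surjective vP := by
    obtain ⟨π, hπ⟩ := (IsDiscreteValuationRing.maximalIdeal O).valuation_exists_uniformizer K
    intro γ
    by_cases hγ : γ = 0
    · exact ⟨0, by rw [hγ, map_zero]⟩
    · refine ⟨π ^ (-(WithZero.log γ)), ?_⟩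
      have hπ' : vP π = WithZero.exp (-1 : ℤ) := hπ
      rw [map_zpow₀, hπ', ← WithZero.exp_zsmul]
      simp [WithZero.exp_log hγ]
  refine ⟨⟨vP, fun c => h1 ⟨_, hk c⟩, hsurj⟩, ?_, ?_⟩
  · intro a
    exact ⟨h2 a, fun ha => h1 ⟨a, ha⟩⟩
  · intro a
    change vP a < 1 ↔ _
    constructor
    · intro ha
      have haO : a ∈ O := h2 a ha.le
      have := ((IsDiscreteValuationRing.maximalIdeal O).valuation_lt_one_iff_mem
        (K := K) (⟨a, haO⟩ : O)).1 ha
      exact (O.valuation_lt_one_iff ⟨a, haO⟩).1 this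
    · intro ha
      have haO : a ∈ O := (O.valuation_le_one_iff a).1 ha.le
      have := (O.valuation_lt_one_iff ⟨a, haO⟩).2 ha
      exact ((IsDiscreteValuationRing.maximalIdeal O).valuation_lt_one_iff_mem
        (K := K) (⟨a, haO⟩ : O)).2 this

end DVR

/-- Existence of places: every transcendental element has a zero. -/
theorem exists_place_val_lt_one (hK : FunFld.IsFunctionField k K) {t : K}
    (ht : Transcendental k t) : ∃ P : FunFld.Place k K, P.1 t < 1 := by
  have ht0 : t ≠ 0 := fun h => ht (h ▸ isAlgebraic_zero)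
  let A : Subring K := (Algebra.adjoin k {t}).toSubring
  have htA : t ∈ A := Algebra.self_mem_adjoin_singleton k t
  let I : Ideal A := Ideal.span {⟨t, htA⟩}
  have hI : I ≠ ⊤ := by
    intro h
    rw [Ideal.eq_top_iff_one, Ideal.mem_span_singleton'] at h
    obtain ⟨a, ha⟩ := h
    have ha' : (a : K) * t = 1 := congrArg Subtype.val ha
    have h1 : (a : K) ∈ (aeval t : k[X] →ₐ[k] K).range := by
      rw [← Algebra.adjoin_singleton_eq_range_aeval]; exact a.2
    obtain ⟨q, hq⟩ := h1
    have hq : aeval t q = (a : K) := hq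
    have h2 : aeval t (q * X - 1) = 0 := by
      rw [map_sub, map_mul, aeval_X, map_one]
      change aeval t q * t - 1 = 0
      rw [hq, ha', sub_self]
    have h3 : q * X - 1 = 0 := by
      by_contra hne
      exact ht ⟨_, hne, h2⟩
    have h4 := congrArg (fun p : k[X] => p.coeff 0) h3
    simp at h4
  obtain ⟨O, hAO, hIO⟩ := Ideal.image_subset_nonunits_valuationSubring I hI
  have hk : ∀ c : k, algebraMap k K c ∈ O := fun c =>
    hAO ((Algebra.adjoin k {t}).algebraMap_mem c)
  have htO : O.valuation t < 1 := by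
    rw [← ValuationSubring.mem_nonunits_iff]
    apply hIO
    exact ⟨⟨t, htA⟩, Ideal.subset_span rfl, rfl⟩
  obtain ⟨P, -, hP⟩ := exists_place_of_valuationSubring O hK hk ht0 htO
  exact ⟨P, (hP t).2 htO⟩

/-- A nonconstant element of a function field has a zero and a pole. -/
theorem exists_zero_and_exists_pole (hK : FunFld.IsFunctionField k K) (x : K)
    (hx : x ∉ Set.range (algebraMap k K)) :
    (∃ P : FunFld.Place k K, 0 < P.ord x) ∧ ∃ Q : FunFld.Place k K, Q.ord x < 0 := by
  have hx' : Transcendental k x := fun h => hx (hK.2 x h)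
  have hx0 : x ≠ 0 := fun h => hx' (h ▸ isAlgebraic_zero)
  have hinv : Transcendental k x⁻¹ := fun h => hx' (by simpa using h.inv)
  obtain ⟨P, hP⟩ := exists_place_val_lt_one hK hx'
  obtain ⟨Q, hQ⟩ := exists_place_val_lt_one hK hinv
  refine ⟨⟨P, ?_⟩, ⟨Q, ?_⟩⟩
  · have h0 : P.1 x ≠ 0 := (Valuation.ne_zero_iff _).2 hx0
    rw [FunFld.Place.ord, neg_pos, WithZero.log_lt_iff_lt_exp h0, WithZero.exp_zero]
    exact hP
  · have h0 : Q.1 x ≠ 0 := (Valuation.ne_zero_iff _).2 hx0
    rw [map_inv₀] at hQ
    have h1 : 1 < Q.1 x := by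
      rwa [inv_lt_one₀ (zero_lt_iff.2 h0)] at hQ
    rw [FunFld.Place.ord, neg_lt_zero, WithZero.lt_log_iff_exp_lt h0, WithZero.exp_zero]
    exact h1


end Groth.Agent.Lib.H40FunFld
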