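import Groth.Agent.Lib.H40FunFldAD
import Groth.Agent.Lib.H40FunFldPlace

/-!
# Function fields of one variable (`FunFld`): the spaces `L(D)` are finite-dimensional.
-/

set_option autoImplicit false
open FunFld Polynomial

namespace Groth.Agent.Lib.H40FunFld

open Groth.Agent.Lib.H40QuotChain

universe u v
variable {k : Type u} {K : Type v} [Field k] [Field K] [Algebra k K]

theorem mem_L_iff (D : FunFld.Divisor k K) (x : K) :
    x ∈ FunFld.L D ↔ ∀ P : FunFld.Place k K, P.1 x ≤ WithZero.exp (D P) := Iff.rfl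

theorem mem_AD_iff (D : FunFld.Divisor k K) (a : FunFld.Place k K → K) :
    a ∈ FunFld.AD D ↔ ∀ P : FunFld.Place k K, P.1 (a P) ≤ WithZero.exp (D P) := Iff.rfl

theorem L_mono {D₁ D₂ : FunFld.Divisor k K} (h : D₁ ≤ D₂) : FunFld.L D₁ ≤ FunFld.L D₂ :=
  fun _ hx P => (hx P).trans (WithZero.exp_le_exp.2 (h P))

theorem diag_mem_AD_iff (D : FunFld.Divisor k K) (x : K) :
    FunFld.diag k K x ∈ FunFld.AD D ↔ x ∈ FunFld.L D := Iff.rfl

/-- The map `L(D₂) → A(D₂)/A(D₁)` induced by the diagonal. -/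
noncomputable def LtoADQuot (D₁ D₂ : FunFld.Divisor k K) :
    ↥(FunFld.L D₂) →ₗ[k] RelQuot (FunFld.AD D₁) (FunFld.AD D₂) :=
  (Submodule.mkQ _).comp
    ((FunFld.diag k K).restrict (p := FunFld.L D₂) (q := FunFld.AD D₂) (fun _ hx => hx))

theorem ker_LtoADQuot (D₁ D₂ : FunFld.Divisor k K) :
    LinearMap.ker (LtoADQuot D₁ D₂) = Submodule.comap (FunFld.L D₂).subtype (FunFld.L D₁) := by
  ext x
  rw [LinearMap.mem_ker, LtoADQuot, LinearMap.comp_apply, Submodule.mkQ_apply,
    Submodule.Quotient.mk_eq_zero]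
  rfl

/-- `L(D₂)/L(D₁)` embeds into `A(D₂)/A(D₁)`. -/
noncomputable def LQuotToADQuot (D₁ D₂ : FunFld.Divisor k K) :
    RelQuot (FunFld.L D₁) (FunFld.L D₂) →ₗ[k] RelQuot (FunFld.AD D₁) (FunFld.AD D₂) :=
  Submodule.liftQ _ (LtoADQuot D₁ D₂) (ker_LtoADQuot D₁ D₂).ge

theorem LQuotToADQuot_injective (D₁ D₂ : FunFld.Divisor k K) :
    Function.Injective (LQuotToADQuot D₁ D₂) := by
  rw [← LinearMap.ker_eq_bot, LQuotToADQuot, Submodule.ker_liftQ_eq_bot _ _ _ (ker_LtoADQuot D₁ D₂).le]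

theorem finrank_LQuot_le (hK : FunFld.IsFunctionField k K) {D₁ D₂ : FunFld.Divisor k K}
    (h : D₁ ≤ D₂) :
    FiniteDimensional k (RelQuot (FunFld.L D₁) (FunFld.L D₂)) ∧
      (Module.finrank k (RelQuot (FunFld.L D₁) (FunFld.L D₂)) : ℤ) ≤ D₂.deg - D₁.deg := by
  obtain ⟨hfin, hrank⟩ := adQuotFormula hK h
  have hinj := LQuotToADQuot_injective D₁ D₂
  refine ⟨FiniteDimensional.of_injective _ hinj, ?_⟩
  rw [← hrank]
  exact_mod_cast LinearMap.finrank_le_finrank_of_injective hinj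

theorem L_zero_eq_one (hK : FunFld.IsFunctionField k K) :
    FunFld.L (0 : FunFld.Divisor k K) = 1 := by
  ext x
  rw [Submodule.mem_one]
  change (∀ P : FunFld.Place k K, P.1 x ≤ WithZero.exp ((0 : FunFld.Divisor k K) P)) ↔ _
  constructor
  · intro hx
    by_contra hne
    have hne' : x ∉ Set.range (algebraMap k K) := hne
    obtain ⟨-, ⟨Q, hQ⟩⟩ := exists_zero_and_exists_pole hK x hne'
    have hx0 : x ≠ 0 := fun h => hne' ⟨0, by rw [map_zero, h]⟩
    have h0 : Q.1 x ≠ 0 := (Valuation.ne_zero_iff _).2 hx0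
    have h1 := hx Q
    rw [Finsupp.zero_apply, ← WithZero.log_le_iff_le_exp h0] at h1
    simp only [FunFld.Place.ord] at hQ
    omega
  · rintro ⟨c, rfl⟩ P
    rw [Finsupp.zero_apply, WithZero.exp_zero]
    exact P.2.1 c

/-- If `A ≤ B`, `A` finite-dimensional and `B/A` finite-dimensional then `B` is finite-dimensional,
and `finrank B = finrank A + finrank (B/A)`. -/
theorem finrank_of_relQuot {V : Type*} [AddCommGroup V] [Module k V] {A B : Submodule k V}
    (hAB : A ≤ B) [FiniteDimensional k A] [FiniteDimensional k (RelQuot A B)] :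
    FiniteDimensional k B ∧
      Module.finrank k B = Module.finrank k A + Module.finrank k (RelQuot A B) := by
  have e : ↥(Submodule.comap B.subtype A) ≃ₗ[k] ↥A := Submodule.comapSubtypeEquivOfLe hAB
  have h1 : FiniteDimensional k ↥(Submodule.comap B.subtype A) :=
    LinearEquiv.finiteDimensional e.symm
  have h2 : FiniteDimensional k B := Module.Finite.of_submodule_quotient (Submodule.comap B.subtype A)
  refine ⟨h2, ?_⟩
  have h3 : Module.finrank k (RelQuot A B) + Module.finrank k ↥A = Module.finrank k ↥B := by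
    rw [← LinearEquiv.finrank_eq e]
    exact Submodule.finrank_quotient_add_finrank (Submodule.comap B.subtype A)
  omega

theorem finiteDimensional_L_of_nonneg (hK : FunFld.IsFunctionField k K) {D : FunFld.Divisor k K}
    (hD : 0 ≤ D) : FiniteDimensional k (FunFld.L D) ∧ (FunFld.ell D : ℤ) ≤ D.deg + 1 := by
  have h1 : FiniteDimensional k (FunFld.L (0 : FunFld.Divisor k K)) := by
    rw [L_zero_eq_one hK, Submodule.one_eq_span]
    infer_instance
  obtain ⟨h2, h3⟩ := finrank_LQuot_le hK hD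
  obtain ⟨h4, h5⟩ := finrank_of_relQuot (L_mono hD)
  refine ⟨h4, ?_⟩
  have h6 : Module.finrank k (FunFld.L (0 : FunFld.Divisor k K)) ≤ 1 := by
    rw [L_zero_eq_one hK, Submodule.one_eq_span, finrank_span_singleton (one_ne_zero)]
  have h7 : (0 : FunFld.Divisor k K).deg = 0 := by simp [FunFld.Divisor.deg]
  rw [FunFld.ell, h5]
  push_cast
  rw [h7] at h3
  have : (Module.finrank k (FunFld.L (0 : FunFld.Divisor k K)) : ℤ) ≤ 1 := by exact_mod_cast h6
  linarith

theorem finiteDimensional_L (hK : FunFld.IsFunctionField k K) (D : FunFld.Divisor k K) :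
    FiniteDimensional k (FunFld.L D) := by
  have h1 := (finiteDimensional_L_of_nonneg hK (D := D ⊔ 0) le_sup_right).1
  exact Submodule.finiteDimensional_of_le (L_mono (le_sup_left : D ≤ D ⊔ 0))

theorem ell_sub_ell_le (hK : FunFld.IsFunctionField k K) {D₁ D₂ : FunFld.Divisor k K}
    (h : D₁ ≤ D₂) : (FunFld.ell D₂ : ℤ) - FunFld.ell D₁ ≤ D₂.deg - D₁.deg := by
  have := finiteDimensional_L hK D₁
  obtain ⟨h2, h3⟩ := finrank_LQuot_le hK h
  obtain ⟨h4, h5⟩ := finrank_of_relQuot (L_mono h)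
  rw [FunFld.ell, FunFld.ell, h5]
  push_cast
  linarith

end Groth.Agent.Lib.H40FunFld
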