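import Groth.Agent.Lib.H40FunFldApprox
import Groth.Agent.Lib.H40FunFldL
import Mathlib.RingTheory.AlgebraTower
import Mathlib.Algebra.Polynomial.Basis

/-!
# Function fields of one variable (`FunFld`): `deg (x)₀ = deg (x)_∞ = [K : k(x)]`, `deg (x) = 0`.
-/

set_option autoImplicit false
open FunFld Polynomial

namespace Groth.Agent.Lib.H40FunFld

open Groth.Agent.Lib.H40QuotChain

universe u v
variable {k : Type u} {K : Type v} [Field k] [Field K] [Algebra k K]

/-- Reduction of a nontrivial `k[x]`-linear relation to one with constant coefficients modulo `x`: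
from `∑ gᵢ zᵢ = 0` with `gᵢ ∈ k[x]` not all zero we get constants `cᵢ`, not all zero, and
polynomials `sᵢ` with `∑ cᵢ zᵢ = - x * ∑ sᵢ(x) zᵢ`. -/
theorem exists_const_combination {ι : Type*} [Fintype ι] {x : K} (hx0 : x ≠ 0) (z : ι → K)
    (g : ι → Algebra.adjoin k {x}) (hg : ∑ i, g i • z i = 0) (hne : ∃ i, g i ≠ 0) :
    ∃ (c : ι → k) (s : ι → k[X]), (∃ j, c j ≠ 0) ∧
      ∑ i, algebraMap k K (c i) * z i = -(x * ∑ i, aeval x (s i) * z i) := by
  classical
  have hrep : ∀ a : Algebra.adjoin k {x}, ∃ p : k[X], aeval x p = (a : K) := by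
    intro a
    have h1 : (a : K) ∈ (aeval x : k[X] →ₐ[k] K).range := by
      rw [← Algebra.adjoin_singleton_eq_range_aeval]; exact a.2
    exact h1
  choose p hp using hrep
  obtain ⟨i₀, hi₀⟩ := hne
  have hpi₀ : p (g i₀) ≠ 0 := by
    intro h0
    apply hi₀
    apply Subtype.ext
    rw [← hp, h0, map_zero]; rfl
  let T : Finset ι := Finset.univ.filter (fun i => p (g i) ≠ 0)
  have hT : T.Nonempty := ⟨i₀, by simp [T, hpi₀]⟩
  obtain ⟨j, hjT, hmin⟩ := Finset.exists_min_image T (fun i => (p (g i)).rootMultiplicity 0) hT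
  have hpj : p (g j) ≠ 0 := (Finset.mem_filter.1 hjT).2
  set m := (p (g j)).rootMultiplicity 0 with hm
  have hdvd : ∀ i, ∃ r : k[X], p (g i) = X ^ m * r := by
    intro i
    by_cases hpi : p (g i) = 0
    · exact ⟨0, by rw [hpi, mul_zero]⟩
    · have hle : m ≤ (p (g i)).rootMultiplicity 0 := hmin i (by simp [T, hpi])
      have h1 : (X - C (0 : k)) ^ m ∣ p (g i) := (Polynomial.le_rootMultiplicity_iff hpi).1 hle
      rw [C_0, sub_zero] at h1
      exact h1
  choose r hr using hdvd
  have hrj : (r j).coeff 0 ≠ 0 := by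
    intro h0
    have h1 : X ∣ r j := Polynomial.X_dvd_iff.2 h0
    obtain ⟨q, hq⟩ := h1
    have h2 : (X - C (0 : k)) ^ (m + 1) ∣ p (g j) := by
      rw [C_0, sub_zero, hr j, hq, pow_succ, ← mul_assoc]
      exact dvd_mul_right _ _
    have h3 := (Polynomial.le_rootMultiplicity_iff hpj).2 h2
    omega
  have hsum : ∑ i, aeval x (p (g i)) * z i = 0 := by
    rw [← hg]
    refine Finset.sum_congr rfl fun i _ => ?_
    rw [hp]
    rfl
  have hsum2 : ∑ i, aeval x (r i) * z i = 0 := by
    have h1 : x ^ m * ∑ i, aeval x (r i) * z i = 0 := by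
      rw [← hsum, Finset.mul_sum]
      refine Finset.sum_congr rfl fun i _ => ?_
      rw [hr i, map_mul, map_pow, aeval_X, mul_assoc]
    exact (mul_eq_zero.1 h1).resolve_left (pow_ne_zero _ hx0)
  have hsplit : ∀ i, aeval x (r i) = aeval x (r i).divX * x + algebraMap k K ((r i).coeff 0) := by
    intro i
    conv_lhs => rw [← Polynomial.divX_mul_X_add (r i)]
    simp
  refine ⟨fun i => (r i).coeff 0, fun i => (r i).divX, ⟨j, hrj⟩, ?_⟩
  rw [eq_neg_iff_add_eq_zero, ← hsum2, Finset.mul_sum, ← Finset.sum_add_distrib]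
  refine Finset.sum_congr rfl fun i _ => ?_
  rw [hsplit i]; ring

theorem deg_neg (D : FunFld.Divisor k K) : (-D).deg = -D.deg := by
  rw [FunFld.Divisor.deg, FunFld.Divisor.deg, Finsupp.sum_neg_index (by simp)]
  simp [Finsupp.sum, Finset.sum_neg_distrib]

theorem deg_zero : (0 : FunFld.Divisor k K).deg = 0 := by simp [FunFld.Divisor.deg]

open IntermediateField IntermediateField.algebraAdjoinAdjoin in
/-- Upper bound (Stichtenoth 1.3.3): if `D₀ ≥ 0` and `ord_P x ≥ D₀ P` wherever `D₀ P > 0`, then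
`deg D₀ ≤ [K : k(x)]`. -/
theorem deg_le_finrank_of_le_ord (hK : FunFld.IsFunctionField k K) {x : K} (hx0 : x ≠ 0)
    [FiniteDimensional k⟮x⟯ K] (D₀ : FunFld.Divisor k K) (hD₀ : 0 ≤ D₀)
    (hx : ∀ P : FunFld.Place k K, 0 < D₀ P → P.1 x ≤ WithZero.exp (-(D₀ P))) :
    D₀.deg ≤ Module.finrank k⟮x⟯ K := by
  classical
  have hle : -D₀ ≤ 0 := neg_nonpos.2 hD₀
  obtain ⟨hfin, hrank⟩ := adQuotFormula hK hle
  rw [deg_zero, deg_neg, sub_neg_eq_add, zero_add] at hrank
  rw [← hrank]
  set V := RelQuot (FunFld.AD (-D₀)) (FunFld.AD (0 : FunFld.Divisor k K)) with hV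
  set d := Module.finrank k V with hd
  let b := Module.finBasis k V
  have hsurj : ∀ i : Fin d, ∃ a : ↥(FunFld.AD (0 : FunFld.Divisor k K)),
      (Submodule.Quotient.mk a : V) = b i := fun i => Submodule.Quotient.mk_surjective _ (b i)
  choose a ha using hsurj
  let S₀ : Finset (FunFld.Place k K) := D₀.support
  let N : ℕ := S₀.sup (fun P => (D₀ P).toNat)
  have hN : ∀ P ∈ S₀, WithZero.exp (-(N : ℤ)) ≤ WithZero.exp (-(D₀ P)) := by
    intro P hP
    rw [WithZero.exp_le_exp]
    have h1 : (D₀ P).toNat ≤ N := Finset.le_sup (f := fun P => (D₀ P).toNat) hP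
    have h2 := Int.self_le_toNat (D₀ P)
    have h3 : ((D₀ P).toNat : ℤ) ≤ N := by exact_mod_cast h1
    omega
  have hapx := fun i : Fin d => exists_approx S₀ (fun P => (a i).1 P) N
  choose z hz using hapx
  have ha1 : ∀ (i : Fin d) (P : FunFld.Place k K), P.1 ((a i).1 P) ≤ 1 := by
    intro i P
    have := (a i).2 P
    simpa using this
  have hN1 : WithZero.exp (-(N : ℤ)) ≤ 1 := by
    rw [← WithZero.exp_zero, WithZero.exp_le_exp]; omega
  have hz1 : ∀ i, ∀ P ∈ S₀, P.1 (z i) ≤ 1 := by
    intro i P hP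
    have e : z i = (z i - (a i).1 P) + (a i).1 P := by ring
    rw [e]
    exact Valuation.map_add_le _ ((hz i P hP).trans hN1) (ha1 i P)
  have hpos : ∀ P ∈ S₀, 0 < D₀ P := by
    intro P hP
    exact lt_of_le_of_ne (hD₀ P) (Ne.symm (Finsupp.mem_support_iff.1 hP))
  -- linear independence over `k[x]`
  have hli : LinearIndependent (Algebra.adjoin k {x}) z := by
    rw [Fintype.linearIndependent_iff]
    intro g hg
    by_contra hne
    push Not at hne
    obtain ⟨c, s, ⟨j, hcj⟩, hrel⟩ := exists_const_combination hx0 z g hg hne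
    -- the adele `α = ∑ cᵢ aᵢ`
    have hα : (∑ i, c i • a i) ∈
        Submodule.comap (FunFld.AD (0 : FunFld.Divisor k K)).subtype (FunFld.AD (-D₀)) := by
      rw [Submodule.mem_comap]
      intro P
      have hαP : ((FunFld.AD (0 : FunFld.Divisor k K)).subtype (∑ i, c i • a i)) P =
          ∑ i, algebraMap k K (c i) * (a i).1 P := by
        rw [map_sum, Finset.sum_apply]
        refine Finset.sum_congr rfl fun i _ => ?_
        rw [map_smul, Pi.smul_apply, Algebra.smul_def]
        rfl
      rw [hαP]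
      by_cases hP : P ∈ S₀
      · have hxP : P.1 x ≤ WithZero.exp (-(D₀ P)) := hx P (hpos P hP)
        have hxP1 : P.1 x ≤ 1 := hxP.trans (by
          rw [← WithZero.exp_zero, WithZero.exp_le_exp]; have := hpos P hP; omega)
        have e : ∑ i, algebraMap k K (c i) * (a i).1 P =
            -(x * ∑ i, aeval x (s i) * z i) - ∑ i, algebraMap k K (c i) * (z i - (a i).1 P) := by
          rw [← hrel, ← Finset.sum_sub_distrib]
          refine Finset.sum_congr rfl fun i _ => ?_
          ring
        rw [e]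
        change P.1 _ ≤ WithZero.exp ((-D₀) P)
        rw [Finsupp.neg_apply]
        apply Valuation.map_sub_le
        · rw [Valuation.map_neg, map_mul]
          have h1 : P.1 (∑ i, aeval x (s i) * z i) ≤ 1 := by
            apply Valuation.map_sum_le
            intro i _
            rw [map_mul]
            exact mul_le_one' (val_aeval_le_one P hxP1 _) (hz1 i P hP)
          calc P.1 x * P.1 (∑ i, aeval x (s i) * z i) ≤ P.1 x * 1 := by gcongr
            _ = P.1 x := mul_one _
            _ ≤ WithZero.exp (-(D₀ P)) := hxP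
        · apply Valuation.map_sum_le
          intro i _
          rw [map_mul]
          calc P.1 (algebraMap k K (c i)) * P.1 (z i - (a i).1 P)
              ≤ 1 * WithZero.exp (-(N : ℤ)) := mul_le_mul' (P.2.1 _) (hz i P hP)
            _ = WithZero.exp (-(N : ℤ)) := one_mul _
            _ ≤ WithZero.exp (-(D₀ P)) := hN P hP
      · have hD0 : D₀ P = 0 := Finsupp.notMem_support_iff.1 hP
        change P.1 _ ≤ WithZero.exp ((-D₀) P)
        rw [Finsupp.neg_apply, hD0, neg_zero, WithZero.exp_zero]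
        apply Valuation.map_sum_le
        intro i _
        rw [map_mul]
        exact mul_le_one' (P.2.1 _) (ha1 i P)
    have hzero : ∑ i, c i • b i = 0 := by
      have h1 : (Submodule.Quotient.mk (∑ i, c i • a i) : V) = 0 :=
        (Submodule.Quotient.mk_eq_zero _).2 hα
      rw [← h1]
      change _ = Submodule.mkQ _ (∑ i, c i • a i)
      rw [map_sum]
      refine Finset.sum_congr rfl fun i _ => ?_
      rw [map_smul, Submodule.mkQ_apply, ha]
    exact hcj (Fintype.linearIndependent_iff.1 b.linearIndependent c hzero j)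
  have hli' : LinearIndependent k⟮x⟯ z :=
    (LinearIndependent.iff_fractionRing (Algebra.adjoin k {x}) k⟮x⟯).1 hli
  have := hli'.fintype_card_le_finrank
  rw [Fintype.card_fin] at this
  exact_mod_cast this

theorem deg_add (D E : FunFld.Divisor k K) : (D + E).deg = D.deg + E.deg := by
  classical
  rw [FunFld.Divisor.deg, FunFld.Divisor.deg, FunFld.Divisor.deg,
    Finsupp.sum_add_index' (by simp) (by intro a b c; ring)]

theorem deg_nsmul (n : ℕ) (D : FunFld.Divisor k K) : (n • D).deg = n * D.deg := by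
  induction n with
  | zero => simp [deg_zero]
  | succ n ih => rw [succ_nsmul, deg_add, ih]; push_cast; ring

theorem deg_sub (D E : FunFld.Divisor k K) : (D - E).deg = D.deg - E.deg := by
  rw [sub_eq_add_neg, deg_add, deg_neg]; ring

theorem deg_sum {ι : Type*} (s : Finset ι) (D : ι → FunFld.Divisor k K) :
    (∑ i ∈ s, D i).deg = ∑ i ∈ s, (D i).deg := by
  classical
  induction s using Finset.induction_on with
  | empty => simp [deg_zero]
  | insert a s ha ih => rw [Finset.sum_insert ha, Finset.sum_insert ha, deg_add, ih]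

theorem deg_nonneg {D : FunFld.Divisor k K} (hD : 0 ≤ D) : 0 ≤ D.deg := by
  rw [FunFld.Divisor.deg, Finsupp.sum]
  apply Finset.sum_nonneg
  intro P _
  exact mul_nonneg (hD P) (Int.natCast_nonneg _)

/-- The divisor of zeros of `x`. -/
noncomputable def zeroDiv (x : K) : FunFld.Divisor k K := FunFld.div k x ⊔ 0

/-- The divisor of poles of `x`. -/
noncomputable def poleDiv (x : K) : FunFld.Divisor k K := (-FunFld.div k x) ⊔ 0

theorem zeroDiv_nonneg (x : K) : 0 ≤ zeroDiv (k := k) x := le_sup_right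
theorem poleDiv_nonneg (x : K) : 0 ≤ poleDiv (k := k) x := le_sup_right

theorem zeroDiv_sub_poleDiv (x : K) : zeroDiv (k := k) x - poleDiv x = FunFld.div k x := by
  ext P
  simp only [zeroDiv, poleDiv, Finsupp.coe_sub, Pi.sub_apply, Finsupp.sup_apply,
    Finsupp.coe_neg, Pi.neg_apply, Finsupp.coe_zero, Pi.zero_apply]
  omega

theorem zeroDiv_apply (hK : FunFld.IsFunctionField k K) (x : K) (P : FunFld.Place k K) :
    zeroDiv x P = max (P.ord x) 0 := by
  rw [zeroDiv, Finsupp.sup_apply, div_apply_of_finite x (finite_support_ord hK x)]; rfl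

theorem poleDiv_apply (hK : FunFld.IsFunctionField k K) (x : K) (P : FunFld.Place k K) :
    poleDiv x P = max (-P.ord x) 0 := by
  rw [poleDiv, Finsupp.sup_apply, Finsupp.neg_apply,
    div_apply_of_finite x (finite_support_ord hK x)]; rfl

theorem ord_inv (P : FunFld.Place k K) (x : K) : P.ord x⁻¹ = -P.ord x := by
  rw [FunFld.Place.ord, FunFld.Place.ord, map_inv₀, WithZero.log_inv]

theorem div_inv (hK : FunFld.IsFunctionField k K) (x : K) :
    FunFld.div k x⁻¹ = -FunFld.div k x := by
  ext P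
  rw [Finsupp.neg_apply, div_apply_of_finite _ (finite_support_ord hK _),
    div_apply_of_finite _ (finite_support_ord hK _), ord_inv]

theorem poleDiv_eq_zeroDiv_inv (hK : FunFld.IsFunctionField k K) (x : K) :
    poleDiv (k := k) x = zeroDiv x⁻¹ := by
  rw [poleDiv, zeroDiv, div_inv hK]

theorem zeroDiv_eq_poleDiv_inv (hK : FunFld.IsFunctionField k K) (x : K) :
    zeroDiv (k := k) x = poleDiv x⁻¹ := by
  rw [poleDiv, zeroDiv, div_inv hK, neg_neg]

theorem val_le_exp_poleDiv (hK : FunFld.IsFunctionField k K) (x : K) (P : FunFld.Place k K) :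
    P.1 x ≤ WithZero.exp (poleDiv x P) := by
  apply WithZero.le_exp_of_log_le
  rw [poleDiv_apply hK, FunFld.Place.ord, neg_neg]
  exact le_max_left _ _

theorem val_le_exp_neg_zeroDiv (hK : FunFld.IsFunctionField k K) {x : K} (hx : x ≠ 0)
    (P : FunFld.Place k K) (hP : 0 < zeroDiv x P) : P.1 x ≤ WithZero.exp (-(zeroDiv x P)) := by
  rw [zeroDiv_apply hK] at hP ⊢
  have h1 : max (P.ord x) 0 = P.ord x := by
    rcases le_total (P.ord x) 0 with h | h
    · rw [max_eq_right h] at hP; omega
    · exact max_eq_left h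
  rw [h1, ← val_eq_exp_neg_ord P hx]

theorem linearIndependent_pow_of_transcendental {x : K} (hx : Transcendental k x) :
    LinearIndependent k (fun i : ℕ => x ^ i) := by
  have h1 : LinearIndependent k (fun i : ℕ => (monomial i (1 : k) : k[X])) := by
    have := (Polynomial.basisMonomials k).linearIndependent
    rwa [Polynomial.coe_basisMonomials] at this
  have h2 := h1.map' (aeval x : k[X] →ₐ[k] K).toLinearMap
    (LinearMap.ker_eq_bot.2 (transcendental_iff_injective.1 hx))
  have e : (fun i : ℕ => x ^ i) = (aeval x : k[X] →ₐ[k] K).toLinearMap ∘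
      (fun i : ℕ => (monomial i (1 : k) : k[X])) := by
    ext i
    simp [aeval_monomial]
  rw [e]
  exact h2

open IntermediateField in
/-- Lower bound (Stichtenoth 1.4.11): `[K : k(x)] ≤ deg (x)_∞`. -/
theorem finrank_le_deg_poleDiv (hK : FunFld.IsFunctionField k K) {x : K}
    (hx : Transcendental k x) [FiniteDimensional k⟮x⟯ K] :
    (Module.finrank k⟮x⟯ K : ℤ) ≤ (poleDiv (k := k) x).deg := by
  classical
  have hx0 : x ≠ 0 := fun h => hx (h ▸ isAlgebraic_zero)
  set n := Module.finrank k⟮x⟯ K with hn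
  let u := Module.finBasis k⟮x⟯ K
  set B : FunFld.Divisor k K := poleDiv x with hB
  let C : FunFld.Divisor k K := ∑ j : Fin n, poleDiv (u j)
  have hC0 : 0 ≤ C := Finset.sum_nonneg fun j _ => poleDiv_nonneg _
  have hB0 : 0 ≤ B := poleDiv_nonneg _
  have hCj : ∀ (j : Fin n) (P : FunFld.Place k K), poleDiv (u j) P ≤ C P := by
    intro j P
    have : poleDiv (k := k) (u j) ≤ C :=
      Finset.single_le_sum (f := fun j : Fin n => poleDiv (k := k) (u j))
        (fun j _ => poleDiv_nonneg _) (Finset.mem_univ j)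
    exact this P
  -- key inequality for every `l`
  have key : ∀ l : ℕ, ((l + 1 : ℕ) : ℤ) * n ≤ l * B.deg + C.deg + 1 := by
    intro l
    set E : FunFld.Divisor k K := l • B + C with hE
    have hE0 : 0 ≤ E := add_nonneg (nsmul_nonneg hB0 l) hC0
    obtain ⟨hfin, hell⟩ := finiteDimensional_L_of_nonneg hK hE0
    -- the family `x ^ i * u j`
    have hpow : LinearIndependent k (fun i : Fin (l + 1) => (AdjoinSimple.gen k x) ^ (i : ℕ)) := by
      have h1 := (linearIndependent_pow_of_transcendental hx).comp (fun i : Fin (l + 1) => (i : ℕ))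
        Fin.val_injective
      apply LinearIndependent.of_comp (k⟮x⟯.val.toLinearMap)
      have e : (k⟮x⟯.val.toLinearMap ∘ fun i : Fin (l + 1) => (AdjoinSimple.gen k x) ^ (i : ℕ)) =
          ((fun i : ℕ => x ^ i) ∘ fun i : Fin (l + 1) => (i : ℕ)) := by
        ext i
        simp
      rw [e]
      exact h1
    have hw := linearIndependent_smul hpow u.linearIndependent
    have hmem : ∀ p : Fin (l + 1) × Fin n,
        (AdjoinSimple.gen k x) ^ (p.1 : ℕ) • u p.2 ∈ FunFld.L E := by
      intro p P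
      have e : (AdjoinSimple.gen k x) ^ (p.1 : ℕ) • u p.2 = x ^ (p.1 : ℕ) * u p.2 := by
        rw [IntermediateField.smul_def]
        simp
      rw [e, map_mul, map_pow, hE, Finsupp.add_apply, Finsupp.smul_apply, WithZero.exp_add]
      apply mul_le_mul'
      · have h1 : P.1 x ≤ WithZero.exp (B P) := val_le_exp_poleDiv hK x P
        have h2 : (1 : WithZero (Multiplicative ℤ)) ≤ WithZero.exp (B P) := by
          rw [← WithZero.exp_zero, WithZero.exp_le_exp]; exact hB0 P
        calc P.1 x ^ (p.1 : ℕ) ≤ WithZero.exp (B P) ^ (p.1 : ℕ) := pow_le_pow_left₀ zero_le h1 _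
          _ ≤ WithZero.exp (B P) ^ l := pow_le_pow_right₀ h2 (by have := p.1.2; omega)
          _ = WithZero.exp (l • B P) := by rw [WithZero.exp_nsmul]
      · exact (val_le_exp_poleDiv hK (u p.2) P).trans (WithZero.exp_le_exp.2 (hCj p.2 P))
    -- as a family in `L E`
    let w' : Fin (l + 1) × Fin n → ↥(FunFld.L E) := fun p => ⟨_, hmem p⟩
    have hw' : LinearIndependent k w' := by
      apply LinearIndependent.of_comp (FunFld.L E).subtype
      exact hw
    have hcard := hw'.fintype_card_le_finrank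
    rw [Fintype.card_prod, Fintype.card_fin, Fintype.card_fin] at hcard
    have h3 : (FunFld.ell E : ℤ) ≤ l * B.deg + C.deg + 1 := by
      rw [hE, deg_add, deg_nsmul] at hell
      exact hell
    have h4 : (((l + 1) * n : ℕ) : ℤ) ≤ FunFld.ell E := by
      rw [FunFld.ell]; exact_mod_cast hcard
    push_cast at h4 ⊢
    linarith
  by_contra hlt
  push Not at hlt
  have hCdeg : 0 ≤ C.deg := deg_nonneg hC0
  have := key (C.deg.toNat + 1)
  have h5 : ((C.deg.toNat : ℕ) : ℤ) = C.deg := Int.toNat_of_nonneg hCdeg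
  push_cast at this
  have hn1 : (1 : ℤ) ≤ n := by
    have : 0 < n := Module.finrank_pos
    exact_mod_cast this
  nlinarith [mul_nonneg (by linarith : (0 : ℤ) ≤ (C.deg.toNat : ℤ) + 1)
    (by linarith : (0 : ℤ) ≤ (n : ℤ) - 1 - B.deg)]

open IntermediateField in
theorem adjoin_inv_eq (x : K) : k⟮x⁻¹⟯ = k⟮x⟯ := by
  apply le_antisymm
  · rw [adjoin_simple_le_iff]
    exact inv_mem (mem_adjoin_simple_self k x)
  · rw [adjoin_simple_le_iff]
    have := inv_mem (mem_adjoin_simple_self k x⁻¹)
    rwa [inv_inv] at this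

open IntermediateField in
/-- `deg (x)₀ = deg (x)_∞ = [K : k(x)]` for transcendental `x` (Stichtenoth 1.4.11). -/
theorem deg_zeroDiv_eq_and_deg_poleDiv_eq (hK : FunFld.IsFunctionField k K) {x : K}
    (hx : Transcendental k x) :
    (zeroDiv (k := k) x).deg = Module.finrank k⟮x⟯ K ∧
      (poleDiv (k := k) x).deg = Module.finrank k⟮x⟯ K := by
  have hx0 : x ≠ 0 := fun h => hx (h ▸ isAlgebraic_zero)
  have hinv0 : x⁻¹ ≠ 0 := inv_ne_zero hx0
  have hinv : Transcendental k x⁻¹ := fun h => hx (by simpa using h.inv)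
  have := finiteDimensional_adjoin_of_transcendental hK hx
  have := finiteDimensional_adjoin_of_transcendental hK hinv
  have hn : Module.finrank k⟮x⁻¹⟯ K = Module.finrank k⟮x⟯ K :=
    congrArg (fun F : IntermediateField k K => Module.finrank F K) (adjoin_inv_eq x)
  have h1 := deg_le_finrank_of_le_ord hK hx0 (zeroDiv x) (zeroDiv_nonneg x)
    (val_le_exp_neg_zeroDiv hK hx0)
  have h2 := finrank_le_deg_poleDiv hK hx
  have h3 := deg_le_finrank_of_le_ord hK hinv0 (zeroDiv x⁻¹) (zeroDiv_nonneg x⁻¹)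
    (val_le_exp_neg_zeroDiv hK hinv0)
  have h4 := finrank_le_deg_poleDiv hK hinv
  rw [← poleDiv_eq_zeroDiv_inv hK, hn] at h3
  rw [← zeroDiv_eq_poleDiv_inv hK, hn] at h4
  constructor <;> omega

theorem div_eq_zero_of_isAlgebraic (hK : FunFld.IsFunctionField k K) {x : K}
    (hx : IsAlgebraic k x) : FunFld.div k x = 0 := by
  ext P
  rw [div_apply_of_finite x (finite_support_ord hK x), Finsupp.zero_apply]
  obtain ⟨c, rfl⟩ := hK.2 x hx
  by_cases hc : c = 0
  · simp [hc, FunFld.Place.ord]
  · simp [FunFld.Place.ord, val_algebraMap P hc]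

/-- The principal divisor of any element has degree `0`. -/
theorem deg_div_eq_zero (hK : FunFld.IsFunctionField k K) (x : K) : (FunFld.div k x).deg = 0 := by
  by_cases hx : IsAlgebraic k x
  · rw [div_eq_zero_of_isAlgebraic hK hx, deg_zero]
  · obtain ⟨h1, h2⟩ := deg_zeroDiv_eq_and_deg_poleDiv_eq hK (x := x) hx
    rw [← zeroDiv_sub_poleDiv, deg_sub, h1, h2, sub_self]

theorem sum_zeros_eq_deg_zeroDiv (x : K) :
    (∑ P ∈ (FunFld.div k x).support with 0 < FunFld.div k x P,
        FunFld.div k x P * (P.deg : ℤ)) = (zeroDiv (k := k) x).deg := by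
  classical
  rw [FunFld.Divisor.deg, Finsupp.sum]
  have hS : ((FunFld.div k x).support.filter fun P => 0 < FunFld.div k x P) =
      (zeroDiv (k := k) x).support := by
    ext P
    simp only [Finset.mem_filter, Finsupp.mem_support_iff, zeroDiv, Finsupp.sup_apply,
      Finsupp.coe_zero, Pi.zero_apply]
    constructor
    · rintro ⟨-, h⟩; rw [max_eq_left h.le]; exact h.ne'
    · intro h
      rcases le_or_gt (FunFld.div k x P) 0 with h' | h'
      · rw [max_eq_right h'] at h; exact absurd rfl h
      · exact ⟨h'.ne', h'⟩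
  refine Finset.sum_congr hS ?_
  intro P hP
  rw [← hS] at hP
  have h : 0 < FunFld.div k x P := (Finset.mem_filter.1 hP).2
  simp only [zeroDiv, Finsupp.sup_apply, Finsupp.coe_zero, Pi.zero_apply, max_eq_left h.le]

theorem mem_L_iff_nonneg (hK : FunFld.IsFunctionField k K) (D : FunFld.Divisor k K) {x : K}
    (hx : x ≠ 0) : x ∈ FunFld.L D ↔ 0 ≤ D + FunFld.div k x := by
  change (∀ P : FunFld.Place k K, P.1 x ≤ WithZero.exp (D P)) ↔ _
  rw [Finsupp.le_def]
  refine forall_congr' fun P => ?_
  have h0 : P.1 x ≠ 0 := (Valuation.ne_zero_iff _).2 hx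
  rw [Finsupp.add_apply, div_apply_of_finite x (finite_support_ord hK x),
    Finsupp.zero_apply, FunFld.Place.ord, ← WithZero.log_le_iff_le_exp h0]
  constructor <;> intro h <;> linarith

theorem L_eq_bot_of_deg_neg (hK : FunFld.IsFunctionField k K) (D : FunFld.Divisor k K)
    (h : D.deg < 0) : FunFld.L D = ⊥ := by
  rw [Submodule.eq_bot_iff]
  intro x hx
  by_contra hx0
  have h1 := (mem_L_iff_nonneg hK D hx0).1 hx
  have h2 := deg_nonneg h1
  rw [deg_add, deg_div_eq_zero hK] at h2
  omega

end Groth.Agent.Lib.H40FunFld
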