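import Groth.Agent.Lib.H40FunFldGaps
import Groth.Prelude.Def_W4bk4goldsch23Ext
import Mathlib.FieldTheory.AlgebraicClosure
import Mathlib.FieldTheory.LinearDisjoint

set_option autoImplicit false
set_option linter.style.haveILetI false
open FunFld Polynomial

namespace Groth.Agent.Lib.H40FunFld

open Groth.Agent.Lib.H40QuotChain IntermediateField

universe u v w
variable {k : Type u} {K : Type v} [Field k] [Field K] [Algebra k K]

section General

variable {Γ₀ : Type*} [LinearOrderedCommGroupWithZero Γ₀] {w : Valuation K Γ₀}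

/-- A valuation trivial on `k` is trivial on every nonzero element algebraic over `k`. -/
theorem gval_eq_one_of_isAlgebraic (hw : TrivialOn (k := k) w) {x : K} (hx0 : x ≠ 0)
    (hx : IsAlgebraic k x) : w x = 1 := by
  have key : ∀ y : K, y ≠ 0 → IsAlgebraic k y → ¬ w y < 1 := by
    intro y hy0 hy hlt
    obtain ⟨p, hp0, hp⟩ := hy
    have h1 := gval_aeval_eq_pow hw hlt hp0
    rw [hp, map_zero] at h1
    have h2 : w y = 0 := by
      by_contra hne
      exact pow_ne_zero _ hne h1.symm
    exact hy0 ((Valuation.zero_iff _).1 h2)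
  have h1 := key x hx0 hx
  have h2 := key x⁻¹ (inv_ne_zero hx0) hx.inv
  rw [map_inv₀] at h2
  have hwx : w x ≠ 0 := (Valuation.ne_zero_iff _).2 hx0
  rw [inv_lt_one₀ (zero_lt_iff.2 hwx)] at h2
  exact le_antisymm (not_lt.1 h2) (not_lt.1 h1)

end General

section Restrict

variable {K' : Type w} [Field K'] [Algebra K K'] [Algebra k K']

/-- `IsOverWith` forces a positive ramification index. -/
theorem isOverWith_pos {Q : FunFld.Place k K'} {P : FunFld.Place k K} {e : ℕ}
    (h : FunFld.IsOverWith Q P e) : 0 < e := by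
  rw [Nat.pos_iff_ne_zero]
  rintro rfl
  have := h 0
  rw [map_zero, map_zero, map_zero, pow_zero] at this
  exact zero_ne_one this

theorem isOverWith_le_one_iff {Q : FunFld.Place k K'} {P : FunFld.Place k K} {e : ℕ}
    (h : FunFld.IsOverWith Q P e) (x : K) : Q.1 (algebraMap K K' x) ≤ 1 ↔ P.1 x ≤ 1 := by
  rw [h x]
  exact pow_le_one_iff_of_nonneg zero_le (isOverWith_pos h).ne'

theorem isOverWith_lt_one_iff {Q : FunFld.Place k K'} {P : FunFld.Place k K} {e : ℕ}
    (h : FunFld.IsOverWith Q P e) (x : K) : Q.1 (algebraMap K K' x) < 1 ↔ P.1 x < 1 := by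
  rw [h x]
  exact pow_lt_one_iff_of_nonneg zero_le (isOverWith_pos h).ne'

/-- The place below and the ramification index are unique. -/
theorem isOverWith_unique {Q : FunFld.Place k K'} {P P' : FunFld.Place k K} {e e' : ℕ}
    (h : FunFld.IsOverWith Q P e) (h' : FunFld.IsOverWith Q P' e') : P = P' ∧ e = e' := by
  have hP : P = P' := by
    apply eq_of_forall_le_one
    intro a ha
    rw [← isOverWith_le_one_iff h', isOverWith_le_one_iff h]
    exact ha
  subst hP
  refine ⟨rfl, ?_⟩
  obtain ⟨π, hπ⟩ := exists_uniformizer P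
  have h1 := h π
  rw [h' π, hπ, ← WithZero.exp_nsmul, ← WithZero.exp_nsmul, WithZero.exp_inj] at h1
  have : (e' : ℤ) = e := by
    simp only [nsmul_eq_mul] at h1
    linarith
  exact_mod_cast this.symm

theorem ramIdx_eq {Q : FunFld.Place k K'} {P : FunFld.Place k K} {e : ℕ}
    (h : FunFld.IsOverWith Q P e) : FunFld.ramIdx Q P = e := by
  classical
  have hex : FunFld.IsOver Q P := ⟨e, h⟩
  unfold FunFld.ramIdx
  rw [dif_pos hex]
  exact (isOverWith_unique (Nat.find_spec hex) h).2

theorem isOverWith_ramIdx {Q : FunFld.Place k K'} {P : FunFld.Place k K}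
    (h : FunFld.IsOver Q P) : FunFld.IsOverWith Q P (FunFld.ramIdx Q P) := by
  obtain ⟨e, he⟩ := h
  rw [ramIdx_eq he]; exact he

theorem ord_algebraMap_of_isOverWith {Q : FunFld.Place k K'} {P : FunFld.Place k K} {e : ℕ}
    (h : FunFld.IsOverWith Q P e) (x : K) : Q.ord (algebraMap K K' x) = e * P.ord x := by
  unfold FunFld.Place.ord
  rw [h x]
  by_cases hx : x = 0
  · rw [hx, map_zero, zero_pow (isOverWith_pos h).ne', WithZero.log_zero]; simp
  · rw [WithZero.log_pow]
    simp

/-- Every place of an algebraic extension of a function field lies over a place. -/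
theorem exists_isOverWith [IsScalarTower k K K'] (hK : FunFld.IsFunctionField k K)
    [Algebra.IsAlgebraic K K']
    (Q : FunFld.Place k K') : ∃ (P : FunFld.Place k K) (e : ℕ), FunFld.IsOverWith Q P e := by
  set f := algebraMap K K' with hf
  set O : ValuationSubring K := Q.O.comap f with hO
  have hmemO : ∀ a : K, a ∈ O ↔ Q.1 (f a) ≤ 1 := fun a => Iff.rfl
  have hk : ∀ c : k, algebraMap k K c ∈ O := by
    intro c
    rw [hmemO, hf, ← IsScalarTower.algebraMap_apply]
    exact Q.2.1 c
  -- a nonunit of `O`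
  obtain ⟨t, ht0, ht⟩ : ∃ t : K, t ≠ 0 ∧ Q.1 (f t) < 1 := by
    by_contra hcon
    push Not at hcon
    have htriv : TrivialOn (k := K) Q.1 := by
      intro c hc
      have h1 := hcon c hc
      have h2 := hcon c⁻¹ (inv_ne_zero hc)
      rw [map_inv₀, map_inv₀] at h2
      have h0 : Q.1 (f c) ≠ 0 := (Valuation.ne_zero_iff _).2 ((map_ne_zero f).2 hc)
      rw [one_le_inv₀ (zero_lt_iff.2 h0)] at h2
      exact le_antisymm h2 h1
    obtain ⟨y, hy⟩ := Q.2.2 (WithZero.exp (-1 : ℤ))
    have hy0 : y ≠ 0 := by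
      intro h0; rw [h0, map_zero] at hy; exact WithZero.exp_ne_zero hy.symm
    have := gval_eq_one_of_isAlgebraic htriv hy0 (Algebra.IsAlgebraic.isAlgebraic y)
    rw [hy, ← WithZero.exp_zero, WithZero.exp_inj] at this
    omega
  have htO : O.valuation t < 1 := by
    by_contra hge
    push Not at hge
    have h1 : O.valuation t⁻¹ ≤ 1 := by
      rw [map_inv₀]; exact inv_le_one_of_one_le₀ hge
    rw [ValuationSubring.valuation_le_one_iff, hmemO, map_inv₀, map_inv₀] at h1
    have h0 : Q.1 (f t) ≠ 0 := (Valuation.ne_zero_iff _).2 ((map_ne_zero f).2 ht0)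
    rw [inv_le_one₀ (zero_lt_iff.2 h0)] at h1
    exact not_lt.2 h1 ht
  obtain ⟨P, hP1, -⟩ := exists_place_of_valuationSubring O hK hk ht0 htO
  have hle : ∀ a : K, P.1 a ≤ 1 ↔ Q.1 (f a) ≤ 1 := fun a => (hP1 a).trans (hmemO a)
  have hunit : ∀ a : K, P.1 a = 1 → Q.1 (f a) = 1 := by
    intro a ha
    have ha0 : a ≠ 0 := by
      rintro rfl; rw [map_zero] at ha; exact zero_ne_one ha
    have h1 := (hle a).1 ha.le
    have h2 := (hle a⁻¹).1 (by rw [map_inv₀, ha, inv_one])
    rw [map_inv₀, map_inv₀] at h2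
    have h0 : Q.1 (f a) ≠ 0 := (Valuation.ne_zero_iff _).2 ((map_ne_zero f).2 ha0)
    rw [inv_le_one₀ (zero_lt_iff.2 h0)] at h2
    exact le_antisymm h1 h2
  obtain ⟨π, hπ⟩ := exists_uniformizer P
  have hπ0 : π ≠ 0 := by
    intro h0; rw [h0, map_zero] at hπ; exact WithZero.exp_ne_zero hπ.symm
  have hQπ0 : Q.1 (f π) ≠ 0 := (Valuation.ne_zero_iff _).2 ((map_ne_zero f).2 hπ0)
  have hQπ : Q.1 (f π) < 1 := by
    by_contra hge
    push Not at hge
    have h1 : Q.1 (f π⁻¹) ≤ 1 := by
      rw [map_inv₀, map_inv₀]; exact inv_le_one_of_one_le₀ hge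
    have h2 := (hle π⁻¹).2 h1
    rw [map_inv₀, hπ, ← WithZero.exp_neg, ← WithZero.exp_zero, WithZero.exp_le_exp] at h2
    omega
  set m : ℤ := WithZero.log (Q.1 (f π)) with hm
  have hmexp : Q.1 (f π) = WithZero.exp m := (WithZero.exp_log hQπ0).symm
  have hmneg : m < 0 := by
    rw [hmexp, ← WithZero.exp_zero, WithZero.exp_lt_exp] at hQπ
    exact hQπ
  refine ⟨P, (-m).toNat, ?_⟩
  have he : ((-m).toNat : ℤ) = -m := Int.toNat_of_nonneg (by omega)
  intro x
  by_cases hx : x = 0
  · rw [hx, map_zero, map_zero, map_zero, zero_pow]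
    intro h0
    omega
  set n := P.ord x with hn
  set g := x * π ^ (-n) with hg
  have hxv : P.1 x = WithZero.exp (-n) := val_eq_exp_neg_ord P hx
  have hgv : P.1 g = 1 := by
    rw [hg, map_mul, map_zpow₀, hπ, hxv, ← WithZero.exp_zsmul, ← WithZero.exp_add]
    simp
  have hxg : x = π ^ n * g := by
    rw [hg, mul_comm x, ← mul_assoc, ← zpow_add₀ hπ0]; simp
  rw [hxg, map_mul, map_mul, map_zpow₀, map_zpow₀, hunit g hgv, mul_one, map_mul, map_zpow₀, hgv,
    mul_one, hπ, hmexp, ← WithZero.exp_zsmul, ← WithZero.exp_zsmul, ← WithZero.exp_nsmul]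
  congr 1
  simp only [smul_eq_mul, nsmul_eq_mul]
  rw [he]; ring

end Restrict


variable {L : Type v} [Field L] [Algebra k L]

section ConstField

/-- The relative algebraic closure of `k` in `L`, the exact constant field. -/
abbrev constField (k : Type u) (L : Type v) [Field k] [Field L] [Algebra k L] :
    IntermediateField k L := algebraicClosure k L

theorem isAlgebraic_of_isAlgebraic_constField {y : L}
    (hy : IsAlgebraic ↥(constField k L) y) : IsAlgebraic k y :=
  IsAlgebraic.restrictScalars k hy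

/-- A finitely generated field of transcendence degree one is a function field over its exact
constant field. -/
theorem isFunctionField_constField {x : L} (hx : Transcendental k x)
    [FiniteDimensional k⟮x⟯ L] : FunFld.IsFunctionField ↥(constField k L) L := by
  refine ⟨⟨x, hx.algebraicClosure, ?_⟩, ?_⟩
  · have hle : ∀ a : L, a ∈ k⟮x⟯ → a ∈ (↥(constField k L))⟮x⟯ := by
      intro a ha
      have h1 : k⟮x⟯ ≤ ((↥(constField k L))⟮x⟯).restrictScalars k := by
        rw [adjoin_simple_le_iff]
        exact mem_adjoin_simple_self _ x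
      exact h1 ha
    let i : ↥k⟮x⟯ →+* ↥(↥(constField k L))⟮x⟯ :=
      { toFun := fun a => ⟨a.1, hle a.1 a.2⟩
        map_one' := rfl
        map_mul' := fun _ _ => rfl
        map_zero' := rfl
        map_add' := fun _ _ => rfl }
    letI := i.toAlgebra
    haveI : IsScalarTower ↥k⟮x⟯ ↥(↥(constField k L))⟮x⟯ L :=
      IsScalarTower.of_algebraMap_eq fun _ => rfl
    exact Module.Finite.of_restrictScalars_finite ↥k⟮x⟯ ↥(↥(constField k L))⟮x⟯ L
  · intro y hy
    have h1 : IsAlgebraic k y := isAlgebraic_of_isAlgebraic_constField hy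
    exact ⟨⟨y, mem_algebraicClosure_iff.2 h1⟩, rfl⟩

/-- A place over `k` is a place over the exact constant field. -/
def placeUp (Q : FunFld.Place k L) : FunFld.Place ↥(constField k L) L :=
  ⟨Q.1, fun c => by
    by_cases hc : (c : L) = 0
    · change Q.1 (c : L) ≤ 1
      rw [hc, map_zero]; exact zero_le_one
    · have htriv : TrivialOn (k := k) Q.1 := fun a ha => val_algebraMap Q ha
      have := gval_eq_one_of_isAlgebraic htriv hc (mem_algebraicClosure_iff.1 c.2)
      exact this.le, Q.2.2⟩

/-- A place over the exact constant field is a place over `k`. -/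
def placeDown (Q : FunFld.Place ↥(constField k L) L) : FunFld.Place k L :=
  ⟨Q.1, fun c => Q.2.1 (algebraMap k ↥(constField k L) c), Q.2.2⟩

theorem placeUp_val (Q : FunFld.Place k L) : (placeUp Q).1 = Q.1 := rfl
theorem placeDown_val (Q : FunFld.Place ↥(constField k L) L) : (placeDown Q).1 = Q.1 := rfl
theorem placeDown_placeUp (Q : FunFld.Place k L) : placeDown (placeUp Q) = Q := rfl
theorem placeUp_placeDown (Q : FunFld.Place ↥(constField k L) L) : placeUp (placeDown Q) = Q :=
  rfl

theorem placeUp_injective : Function.Injective (placeUp (k := k) (L := L)) := fun Q Q' h => by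
  have := congrArg placeDown h
  simpa [placeDown_placeUp] using this

theorem placeUp_ord (Q : FunFld.Place k L) (y : L) : (placeUp Q).ord y = Q.ord y := rfl

theorem finrank_tower_aux (A : IntermediateField k L) (F : Type*) [Field F] [Algebra k F]
    [Algebra ↥A F] [IsScalarTower k ↥A F] :
    Module.finrank k F = Module.finrank k ↥A * Module.finrank ↥A F :=
  (Module.finrank_mul_finrank k ↥A F).symm

/-- Degrees over `k` and over the exact constant field. -/
theorem deg_eq_mul_deg_placeUp (Q : FunFld.Place k L) :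
    Q.deg = Module.finrank k ↥(constField k L) * (placeUp Q).deg := by
  unfold FunFld.Place.deg
  exact @finrank_tower_aux k _ L _ _ (constField k L) (IsLocalRing.ResidueField Q.O) _
    (FunFld.Place.algRes Q) (FunFld.Place.algRes (placeUp Q))
    (@IsScalarTower.of_algebraMap_eq k ↥(constField k L) (IsLocalRing.ResidueField Q.O) _ _ _ _
      (FunFld.Place.algRes (placeUp Q)) (FunFld.Place.algRes Q) (fun _ => rfl))

end ConstField

section DegreeFormula

open IntermediateField.algebraAdjoinAdjoin in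
/-- A `k`-linearly independent family of constants stays linearly independent over `k(x)`. -/
theorem linearIndependent_constField_adjoin {x : L} (hx : Transcendental k x) {ι : Type*}
    (b : ι → ↥(constField k L)) (hb : LinearIndependent k b) :
    LinearIndependent ↥k⟮x⟯ (fun i => ((b i : ↥(constField k L)) : L)) := by
  classical
  rw [← LinearIndependent.iff_fractionRing (Algebra.adjoin k {x}) ↥k⟮x⟯]
  rw [linearIndependent_iff']
  intro s g hg i hi
  have hp : ∀ i, ∃ p : k[X], aeval x p = ((g i : Algebra.adjoin k {x}) : L) := by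
    intro i
    have h1 : ((g i : Algebra.adjoin k {x}) : L) ∈ (aeval x : k[X] →ₐ[k] L).range := by
      rw [← Algebra.adjoin_singleton_eq_range_aeval]; exact (g i).2
    exact h1
  choose p hp using hp
  set P : (↥(constField k L))[X] :=
    ∑ i ∈ s, C (b i) * (p i).map (algebraMap k ↥(constField k L)) with hPdef
  have hP : aeval x P = 0 := by
    rw [hPdef, map_sum, ← hg]
    refine Finset.sum_congr rfl fun i _ => ?_
    rw [map_mul, aeval_C, aeval_map_algebraMap, hp i, mul_comm]
    rfl
  have hP0 : P = 0 := by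
    by_contra h
    exact hx.algebraicClosure ⟨P, h, hP⟩
  have hcoef : ∀ j, ∑ i ∈ s, (p i).coeff j • b i = 0 := by
    intro j
    have h1 := congrArg (fun q : (↥(constField k L))[X] => q.coeff j) hP0
    simp only [hPdef, finsetSum_coeff, coeff_C_mul, coeff_map, coeff_zero] at h1
    rw [← h1]
    refine Finset.sum_congr rfl fun i _ => ?_
    rw [Algebra.smul_def, mul_comm]
  have hpi : p i = 0 := by
    ext j
    rw [coeff_zero]
    exact linearIndependent_iff'.1 hb s (fun i => (p i).coeff j) (hcoef j) i hi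
  apply Subtype.ext
  rw [← hp i, hpi, map_zero]
  rfl

/-- `[L : k(x)] = [k' : k] [L : k'(x)]` for the exact constant field `k'`. -/
theorem finrank_adjoin_eq_mul {x : L} (hx : Transcendental k x) :
    Module.finrank ↥k⟮x⟯ L =
      Module.finrank k ↥(constField k L) * Module.finrank ↥(↥(constField k L))⟮x⟯ L := by
  let b := Module.Basis.ofVectorSpace k ↥(constField k L)
  have H : (k⟮x⟯).LinearDisjoint (constField k L) :=
    IntermediateField.LinearDisjoint.of_basis_right b
      (linearIndependent_constField_adjoin hx b b.linearIndependent)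
  have h1 := H.rank_right_mul_adjoin_rank_eq_of_isAlgebraic_right
  have h2 : adjoin ↥(constField k L) ((k⟮x⟯ : IntermediateField k L) : Set L) =
      (↥(constField k L))⟮x⟯ := by
    apply le_antisymm
    · rw [adjoin_le_iff]
      intro a ha
      have h3 : k⟮x⟯ ≤ ((↥(constField k L))⟮x⟯).restrictScalars k := by
        rw [adjoin_simple_le_iff]
        exact mem_adjoin_simple_self _ x
      exact h3 ha
    · rw [adjoin_simple_le_iff]
      exact subset_adjoin _ _ (mem_adjoin_simple_self k x)
  rw [h2] at h1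
  have h3 := congrArg Cardinal.toNat h1
  rw [Cardinal.toNat_mul] at h3
  exact h3.symm

end DegreeFormula

section WeakFormula

theorem ord_pos_iff (P : FunFld.Place k L) {x : L} (hx : x ≠ 0) : 0 < P.ord x ↔ P.1 x < 1 := by
  have h0 : P.1 x ≠ 0 := (Valuation.ne_zero_iff _).2 hx
  rw [FunFld.Place.ord, neg_pos, WithZero.log_lt_iff_lt_exp h0, WithZero.exp_zero]

/-- Degree formula over an arbitrary constant field (`k` need not be algebraically closed in
`L`): a transcendental `x` has finitely many zeros and `∑ ord_Q(x) deg Q = [L : k(x)]`. -/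
theorem weak_zeros_formula {x : L} (hx : Transcendental k x) [FiniteDimensional k⟮x⟯ L] :
    {Q : FunFld.Place k L | Q.1 x < 1}.Finite ∧
    ∀ Z : Finset (FunFld.Place k L), (∀ Q, Q ∈ Z ↔ Q.1 x < 1) →
      ∑ Q ∈ Z, Q.ord x * (Q.deg : ℤ) = Module.finrank ↥k⟮x⟯ L := by
  classical
  have hA := isFunctionField_constField hx
  have hxA : Transcendental ↥(constField k L) x := hx.algebraicClosure
  have hx0 : x ≠ 0 := fun h => hx (h ▸ isAlgebraic_zero)
  constructor
  · have hfinA := finite_zeros hA hxA
    refine (hfinA.preimage (placeUp_injective (k := k) (L := L)).injOn).subset ?_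
    intro Q hQ
    exact hQ
  · intro Z hZ
    have h1 := (deg_zeroDiv_eq_and_deg_poleDiv_eq hA hxA).1
    set ZA := Z.image (placeUp (k := k) (L := L)) with hZA
    have hsupp : (zeroDiv (k := ↥(constField k L)) x).support ⊆ ZA := by
      intro Q' hQ'
      rw [Finsupp.mem_support_iff, zeroDiv_apply hA] at hQ'
      have hpos : 0 < Q'.ord x := by
        by_contra hle
        push Not at hle
        exact hQ' (max_eq_right hle)
      rw [hZA, Finset.mem_image]
      refine ⟨placeDown Q', (hZ _).2 ?_, placeUp_placeDown Q'⟩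
      exact (ord_pos_iff Q' hx0).1 hpos
    have h2 : (zeroDiv (k := ↥(constField k L)) x).deg =
        ∑ Q' ∈ ZA, zeroDiv x Q' * (Q'.deg : ℤ) := by
      unfold FunFld.Divisor.deg
      exact Finsupp.sum_of_support_subset _ hsupp _ (fun i _ => zero_mul _)
    rw [h2, hZA, Finset.sum_image (fun a _ b _ h => placeUp_injective h)] at h1
    rw [finrank_adjoin_eq_mul hx]
    push_cast
    rw [← h1, Finset.mul_sum]
    refine Finset.sum_congr rfl fun Q hQ => ?_
    have hpos : 0 < Q.ord x := (ord_pos_iff Q hx0).2 ((hZ Q).1 hQ)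
    rw [deg_eq_mul_deg_placeUp Q, zeroDiv_apply hA, placeUp_ord, max_eq_left hpos.le]
    push_cast
    ring

end WeakFormula

section Over

variable {K : Type v} [Field K] [Algebra k K] {K' : Type w} [Field K'] [Algebra K K']
  [Algebra k K'] [IsScalarTower k K K']

/-- A function whose only zero is `P`. -/
theorem exists_only_zero (hK : FunFld.IsFunctionField k K) (P : FunFld.Place k K) :
    ∃ t : K, t ≠ 0 ∧ ∀ P' : FunFld.Place k K, P'.1 t < 1 ↔ P' = P := by
  classical
  have hdegP : 0 < P.deg := deg_pos hK P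
  obtain ⟨n, hn⟩ : ∃ n : ℕ, n = 2 * FunFld.genus k K + 1 := ⟨_, rfl⟩
  have hn' : (n : ℤ) = 2 * (FunFld.genus k K : ℤ) + 1 := by rw [hn]; push_cast; ring
  have hdeg : FunFld.Divisor.deg (Finsupp.single P (n : ℤ) : FunFld.Divisor k K) = n * P.deg := by
    rw [deg_single]
  have h1 : (1 : ℤ) ≤ P.deg := by exact_mod_cast hdegP
  have hge : (n : ℤ) ≤ n * P.deg := by
    have : (0 : ℤ) ≤ n := Int.natCast_nonneg n
    nlinarith
  have hell := ell_eq_of_deg_ge hK (Finsupp.single P (n : ℤ)) (by
    rw [hdeg]; linarith)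
  rw [hdeg] at hell
  have hfin0 := finiteDimensional_L hK (0 : FunFld.Divisor k K)
  obtain ⟨f, hfB, hfA⟩ := exists_mem_not_mem_of_finrank_lt
    (A := FunFld.L (0 : FunFld.Divisor k K))
    (B := FunFld.L (Finsupp.single P (n : ℤ) : FunFld.Divisor k K)) (by
      have h0 := ell_zero hK (k := k) (K := K)
      unfold FunFld.ell at h0 hell
      rw [h0]
      have : (2 : ℤ) ≤ (Module.finrank k ↥(FunFld.L (Finsupp.single P (n : ℤ) :
          FunFld.Divisor k K)) : ℤ) := by
        rw [hell]; linarith
      exact_mod_cast this)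
  rw [mem_L_single_iff] at hfB
  have hf0 : f ≠ 0 := fun h => hfA (h ▸ Submodule.zero_mem _)
  have hPf : 1 < P.1 f := by
    by_contra hle
    push Not at hle
    apply hfA
    rw [mem_L_iff]
    intro R
    rw [Finsupp.zero_apply, WithZero.exp_zero]
    by_cases hR : R = P
    · rw [hR]; exact hle
    · exact hfB.2 R hR
  refine ⟨f⁻¹, inv_ne_zero hf0, fun P' => ?_⟩
  rw [map_inv₀]
  have hv0 : P'.1 f ≠ 0 := (Valuation.ne_zero_iff _).2 hf0
  rw [inv_lt_one₀ (zero_lt_iff.2 hv0)]
  constructor
  · intro h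
    by_contra hne
    exact not_lt.2 (hfB.2 P' hne) h
  · rintro rfl
    exact hPf

variable [FiniteDimensional K K']

/-- Characterization of the places over `P` as the zeros of a function with `P` as only zero. -/
theorem isOver_iff_of_only_zero (hK : FunFld.IsFunctionField k K) {P : FunFld.Place k K} {t : K}
    (ht : ∀ P' : FunFld.Place k K, P'.1 t < 1 ↔ P' = P) (Q : FunFld.Place k K') :
    FunFld.IsOver Q P ↔ Q.1 (algebraMap K K' t) < 1 := by
  constructor
  · rintro ⟨e, he⟩
    rw [isOverWith_lt_one_iff he, ht]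
  · intro h
    obtain ⟨P', e, he⟩ := exists_isOverWith hK Q
    rw [isOverWith_lt_one_iff he, ht] at h
    exact ⟨e, h ▸ he⟩

/-- Degree of `K'` over `k(t)` for `t ∈ K`. -/
theorem finrank_adjoin_algebraMap (hK : FunFld.IsFunctionField k K) {t : K}
    (htr : Transcendental k t) :
    FiniteDimensional ↥k⟮algebraMap K K' t⟯ K' ∧
      Module.finrank ↥k⟮algebraMap K K' t⟯ K' = Module.finrank ↥k⟮t⟯ K * Module.finrank K K' := by
  have hfinK := finiteDimensional_adjoin_of_transcendental hK htr
  have hfin' : FiniteDimensional ↥k⟮t⟯ K' := Module.Finite.trans K K'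
  have hmul := Module.finrank_mul_finrank ↥k⟮t⟯ K K'
  set f : K →ₐ[k] K' := IsScalarTower.toAlgHom k K K' with hf
  have hmap : (k⟮t⟯).map f = k⟮algebraMap K K' t⟯ := by
    rw [adjoin_map, Set.image_singleton]; rfl
  let i : ↥k⟮t⟯ ≃+* ↥k⟮algebraMap K K' t⟯ :=
    ((equivMap k⟮t⟯ f).trans (equivOfEq hmap)).toRingEquiv
  have hc : (algebraMap ↥k⟮algebraMap K K' t⟯ K').comp i.toRingHom =
      (RingEquiv.refl K').toRingHom.comp (algebraMap ↥k⟮t⟯ K') := by
    ext a
    rfl
  have heq := Algebra.finrank_eq_of_equiv_equiv i (RingEquiv.refl K') hc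
  refine ⟨?_, ?_⟩
  · apply Module.finite_of_finrank_pos
    rw [← heq]
    exact Module.finrank_pos
  · rw [← heq, ← hmul]

/-- The fundamental identity `∑_{Q | P} e(Q|P) deg Q = [K' : K] deg P`, with finiteness of the
set of places above `P`. -/
theorem finite_isOver_and_sum_ramIdx_mul_deg (hK : FunFld.IsFunctionField k K)
    (P : FunFld.Place k K) :
    {Q : FunFld.Place k K' | FunFld.IsOver Q P}.Finite ∧
    ∀ Qs : Finset (FunFld.Place k K'), (∀ Q, Q ∈ Qs ↔ FunFld.IsOver Q P) →
      ∑ Q ∈ Qs, FunFld.ramIdx Q P * Q.deg = Module.finrank K K' * P.deg := by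
  classical
  obtain ⟨t, ht0, ht⟩ := exists_only_zero hK P
  have hPt : P.1 t < 1 := (ht P).2 rfl
  have htr : Transcendental k t := transcendental_of_val_lt_one hK P ht0 hPt
  have htr' : Transcendental k (algebraMap K K' t) := by
    intro halg
    exact htr ((isAlgebraic_algebraMap_iff (algebraMap K K').injective).1 halg)
  obtain ⟨hfin', hrank⟩ := finrank_adjoin_algebraMap (K' := K') hK htr
  obtain ⟨hZfin, hZsum⟩ := weak_zeros_formula htr'
  have hset : {Q : FunFld.Place k K' | FunFld.IsOver Q P} =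
      {Q : FunFld.Place k K' | Q.1 (algebraMap K K' t) < 1} := by
    ext Q
    exact isOver_iff_of_only_zero hK ht Q
  refine ⟨hset ▸ hZfin, fun Qs hQs => ?_⟩
  have h1 := hZsum Qs (fun Q => by rw [hQs, isOver_iff_of_only_zero hK ht])
  -- the degree of `K` over `k(t)`
  set m := P.ord t with hm
  have hmpos : 0 < m := (ord_pos_iff P ht0).2 hPt
  have hzero : zeroDiv (k := k) t = Finsupp.single P m := by
    ext P'
    rw [zeroDiv_apply hK, Finsupp.single_apply]
    split_ifs with h
    · subst h; exact max_eq_left hmpos.le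
    · have : ¬ P'.1 t < 1 := fun hlt => h ((ht P').1 hlt).symm
      rw [← ord_pos_iff P' ht0] at this
      exact max_eq_right (not_lt.1 this)
  have h2 := (deg_zeroDiv_eq_and_deg_poleDiv_eq hK htr).1
  rw [hzero, deg_single] at h2
  have h3 : ∑ Q ∈ Qs, Q.ord (algebraMap K K' t) * (Q.deg : ℤ) =
      m * ∑ Q ∈ Qs, ((FunFld.ramIdx Q P * Q.deg : ℕ) : ℤ) := by
    rw [Finset.mul_sum]
    refine Finset.sum_congr rfl fun Q hQ => ?_
    have hover := isOverWith_ramIdx ((hQs Q).1 hQ)
    rw [ord_algebraMap_of_isOverWith hover]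
    push_cast
    ring
  rw [h3, hrank] at h1
  push_cast at h1
  rw [← h2] at h1
  have h4 : (m : ℤ) * ∑ Q ∈ Qs, ((FunFld.ramIdx Q P : ℤ) * (Q.deg : ℤ)) =
      m * ((Module.finrank K K' : ℤ) * P.deg) := by
    rw [h1]; ring
  have h5 := mul_left_cancel₀ hmpos.ne' h4
  exact_mod_cast h5

end Over

end Groth.Agent.Lib.H40FunFld
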