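/-
helper8: topology of the projective spectrum of an ℕ-graded ring: it is sober, and the
topological Krull dimension of a closed subset is the Krull dimension of the poset of its points.
-/
import Mathlib

set_option autoImplicit false
universe u

namespace Groth.Agent.Lib.H8ProjTop

open ProjectiveSpectrum TopologicalSpace Topology

variable {A σ : Type*} [CommRing A] [SetLike σ A] [AddSubgroupClass σ A]
  (𝒜 : ℕ → σ) [GradedRing 𝒜]

theorem specializes_iff_le (x y : ProjectiveSpectrum 𝒜) : x ⤳ y ↔ x ≤ y := by
  rw [specializes_iff_mem_closure, ← le_iff_mem_closure]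

instance t0Space : T0Space (ProjectiveSpectrum 𝒜) := by
  refine ⟨fun x y h => ?_⟩
  exact le_antisymm ((specializes_iff_le 𝒜 x y).mp h.specializes)
    ((specializes_iff_le 𝒜 y x).mp h.specializes')

/-- The generic point of an irreducible subset. -/
noncomputable def genericPt (S : Set (ProjectiveSpectrum 𝒜)) (hS : IsIrreducible S) :
    ProjectiveSpectrum 𝒜 where
  asHomogeneousIdeal := vanishingIdeal S
  isPrime := by
    obtain ⟨x, hx⟩ := hS.nonempty
    have hle : (vanishingIdeal S).toIdeal ≤ x.asHomogeneousIdeal.toIdeal := fun a ha =>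
      (mem_vanishingIdeal S a).mp ha x hx
    refine ⟨fun h => x.isPrime.ne_top (top_le_iff.mp (h ▸ hle)), fun {a b} hab => ?_⟩
    have hsub : S ⊆ zeroLocus 𝒜 {a} ∪ zeroLocus 𝒜 {b} := by
      intro y hy
      have h1 : a * b ∈ y.asHomogeneousIdeal.toIdeal := (mem_vanishingIdeal S _).mp hab y hy
      rcases y.isPrime.mem_or_mem h1 with h | h
      · left; rw [mem_zeroLocus]; simpa using h
      · right; rw [mem_zeroLocus]; simpa using h
    rcases (isPreirreducible_iff_isClosed_union_isClosed.mp hS.isPreirreducible) _ _
      (isClosed_zeroLocus 𝒜 _) (isClosed_zeroLocus 𝒜 _) hsub with h | h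
    · left
      refine (mem_vanishingIdeal S a).mpr fun y hy => ?_
      have := h hy
      rw [mem_zeroLocus] at this
      exact this (Set.mem_singleton a)
    · right
      refine (mem_vanishingIdeal S b).mpr fun y hy => ?_
      have := h hy
      rw [mem_zeroLocus] at this
      exact this (Set.mem_singleton b)
  not_irrelevant_le := by
    obtain ⟨x, hx⟩ := hS.nonempty
    intro h
    refine x.not_irrelevant_le (h.trans ?_)
    intro a ha
    exact (mem_vanishingIdeal S a).mp ha x hx

theorem closure_genericPt (S : Set (ProjectiveSpectrum 𝒜)) (hS : IsIrreducible S) :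
    closure {genericPt 𝒜 S hS} = closure S := by
  rw [← zeroLocus_vanishingIdeal_eq_closure, ← zeroLocus_vanishingIdeal_eq_closure,
    vanishingIdeal_singleton]
  rfl

instance quasiSober : QuasiSober (ProjectiveSpectrum 𝒜) := by
  refine ⟨fun {S} hS hSc => ⟨genericPt 𝒜 S hS, ?_⟩⟩
  rw [isGenericPoint_def, closure_genericPt, hSc.closure_eq]


/-- For a closed subset `Z` of the projective spectrum, the topological Krull dimension of `Z` is
the Krull dimension of the poset of its points (ordered by inclusion of homogeneous primes). -/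
theorem topologicalKrullDim_eq_krullDim {Z : Set (ProjectiveSpectrum 𝒜)} (hZ : IsClosed Z) :
    topologicalKrullDim ↥Z = Order.krullDim ↥Z := by
  haveI : QuasiSober ↥Z := hZ.isClosedEmbedding_subtypeVal.quasiSober
  have e1 : topologicalKrullDim ↥Z =
      @Order.krullDim ↥Z (specializationOrder ↥Z).toPreorder :=
    @Order.krullDim_eq_of_orderIso (IrreducibleCloseds ↥Z) ↥Z _
      (specializationOrder ↥Z).toPreorder irreducibleSetEquivPoints
  rw [e1, ← Order.krullDim_orderDual (α := ↥Z)]
  let e : @OrderIso ↥Z (↥Z)ᵒᵈ (specializationOrder ↥Z).toPreorder.toLE _ :=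
    { toEquiv := OrderDual.toDual
      map_rel_iff' := by
        intro a b
        change b ≤ a ↔ b ⤳ a
        rw [subtype_specializes_iff, specializes_iff_le]
        rfl }
  exact @Order.krullDim_eq_of_orderIso ↥Z (↥Z)ᵒᵈ (specializationOrder ↥Z).toPreorder _ e

end Groth.Agent.Lib.H8ProjTop
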