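/-
helper8: dimension theory of the projective spectrum of a Noetherian ℕ-graded algebra over a field
`K = A₀`: the dictionary between closed irreducible subsets / irreducible components and
homogeneous primes, with dimensions.
-/
import Groth.Agent.Lib.H8ProjTop
import Groth.Agent.Lib.H8GradedFT
import Groth.Agent.Lib.H8DoubleLink
import Groth.Agent.Lib.FTDim
import Groth.Agent.Lib.EquidimCat33

set_option autoImplicit false
universe u

namespace Groth.Agent.Lib.H8ProjDim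

open ProjectiveSpectrum TopologicalSpace Topology Groth.Agent.Lib

variable {K A : Type u} [Field K] [CommRing A] [Algebra K A]
  (𝒜 : ℕ → Submodule K A) [GradedAlgebra 𝒜] [IsNoetherianRing A]
  (h0 : ∀ a ∈ 𝒜 0, ∃ c : K, algebraMap K A c = a)

include h0 in
/-- Between two homogeneous primes `P < Q` there is a homogeneous prime `P'` with
`P < P' ≤ Q` and `dim A/P' + 1 = dim A/P`. -/
theorem exists_homogeneous_prime_between {P Q : Ideal A} [hPp : P.IsPrime] [hQp : Q.IsPrime]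
    (hP : P.IsHomogeneous 𝒜) (hQ : Q.IsHomogeneous 𝒜) (hPQ : P < Q) :
    ∃ P' : Ideal A, P'.IsPrime ∧ P'.IsHomogeneous 𝒜 ∧ P < P' ∧ P' ≤ Q ∧
      ringKrullDim (A ⧸ P') + 1 = ringKrullDim (A ⧸ P) := by
  classical
  haveI : Algebra.FiniteType K A := H8GradedFT.finiteType 𝒜 h0
  obtain ⟨x, hxQ, hxP⟩ := SetLike.exists_of_lt hPQ
  have hex : ∃ i, (DirectSum.decompose 𝒜 x i : A) ∉ P := by
    by_contra hcon
    push_neg at hcon
    apply hxP
    rw [← DirectSum.sum_support_decompose 𝒜 x]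
    exact Ideal.sum_mem _ fun i _ => hcon i
  obtain ⟨i, hi⟩ := hex
  set y : A := (DirectSum.decompose 𝒜 x i : A) with hy
  have hyQ : y ∈ Q := hQ i hxQ
  have hyh : SetLike.IsHomogeneousElem 𝒜 y := ⟨i, (DirectSum.decompose 𝒜 x i).2⟩
  have hJ : (P ⊔ Ideal.span {y}).IsHomogeneous 𝒜 := by
    refine hP.sup (Ideal.homogeneous_span 𝒜 {y} ?_)
    intro z hz
    rw [Set.mem_singleton_iff] at hz
    exact hz ▸ hyh
  have hJQ : P ⊔ Ideal.span {y} ≤ Q :=
    sup_le hPQ.le ((Ideal.span_singleton_le_iff_mem _).mpr hyQ)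
  obtain ⟨P', hP'min, hP'Q⟩ := Ideal.exists_minimalPrimes_le hJQ
  haveI hP'p : P'.IsPrime := hP'min.1.1
  have hP'h : P'.IsHomogeneous 𝒜 := H8DoubleLink.isHomogeneous_of_mem_minimalPrimes hJ hP'min
  have hcov := EquidimCat33.covBy_of_mem_minimalPrimes ⟨P, hPp⟩ ⟨P', hP'p⟩ y hi hP'min
  have hlt : P < P' := hcov.1
  refine ⟨P', hP'p, hP'h, hlt, hP'Q, ?_⟩
  refine FTDim.ringKrullDim_quotient_add_one_of_covBy K A P P' hlt ?_
  intro r hr hPr hrP'
  exact hcov.2 (c := ⟨r, hr⟩) hPr hrP'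

include h0 in
theorem le_irrelevant (x : ProjectiveSpectrum 𝒜) :
    x.asHomogeneousIdeal.toIdeal ≤ (HomogeneousIdeal.irrelevant 𝒜).toIdeal :=
  H8GradedFT.le_irrelevant 𝒜 h0 x.asHomogeneousIdeal.isHomogeneous x.isPrime.ne_top

include h0 in
theorem lt_irrelevant (x : ProjectiveSpectrum 𝒜) :
    x.asHomogeneousIdeal.toIdeal < (HomogeneousIdeal.irrelevant 𝒜).toIdeal :=
  lt_of_le_of_ne (le_irrelevant 𝒜 h0 x) fun h => x.not_irrelevant_le (by
    intro a ha
    change a ∈ x.asHomogeneousIdeal.toIdeal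
    rw [h]
    exact ha)

/-- A homogeneous prime not containing the irrelevant ideal, as a point. -/
def mkPoint (P : Ideal A) (hPp : P.IsPrime) (hP : P.IsHomogeneous 𝒜)
    (hne : ¬ (HomogeneousIdeal.irrelevant 𝒜).toIdeal ≤ P) : ProjectiveSpectrum 𝒜 :=
  ⟨⟨P, hP⟩, hPp, fun h => hne h⟩

@[simp]
theorem mkPoint_toIdeal (P : Ideal A) (hPp : P.IsPrime) (hP : P.IsHomogeneous 𝒜)
    (hne : ¬ (HomogeneousIdeal.irrelevant 𝒜).toIdeal ≤ P) :
    (mkPoint 𝒜 P hPp hP hne).asHomogeneousIdeal.toIdeal = P := rfl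

theorem le_iff_toIdeal_le (x y : ProjectiveSpectrum 𝒜) :
    x ≤ y ↔ x.asHomogeneousIdeal.toIdeal ≤ y.asHomogeneousIdeal.toIdeal := Iff.rfl

theorem lt_iff_toIdeal_lt (x y : ProjectiveSpectrum 𝒜) :
    x < y ↔ x.asHomogeneousIdeal.toIdeal < y.asHomogeneousIdeal.toIdeal := Iff.rfl

include h0 in
/-- The quotient by a prime has a natural number as dimension. -/
theorem exists_dim_eq (P : Ideal A) [P.IsPrime] : ∃ n : ℕ, ringKrullDim (A ⧸ P) = n := by
  haveI : Algebra.FiniteType K A := H8GradedFT.finiteType 𝒜 h0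
  obtain ⟨n, hn, -⟩ := FTDim.exists_ringKrullDim_eq K (A ⧸ P)
  exact ⟨n, hn⟩

include h0 in
theorem ringKrullDim_quotient_irrelevant [Nontrivial A] :
    ringKrullDim (A ⧸ (HomogeneousIdeal.irrelevant 𝒜).toIdeal) = 0 := by
  haveI := H8GradedFT.irrelevant_isMaximal 𝒜 h0
  letI := Ideal.Quotient.field (HomogeneousIdeal.irrelevant 𝒜).toIdeal
  exact ringKrullDim_eq_zero_of_field _

include h0 in
theorem le_coheight_add_one (d : ℕ) : ∀ x : ProjectiveSpectrum 𝒜,
    ringKrullDim (A ⧸ x.asHomogeneousIdeal.toIdeal) = d → (d : ℕ∞) ≤ Order.coheight x + 1 := by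
  induction d with
  | zero => intro x _; simp
  | succ d ih =>
    intro x hx
    by_cases hd : d = 0
    · subst hd; simp
    haveI : Nontrivial A := ⟨⟨0, 1, fun h => x.isPrime.ne_top
      ((Ideal.eq_top_iff_one _).mpr (h ▸ Ideal.zero_mem _))⟩⟩
    haveI hmax := H8GradedFT.irrelevant_isMaximal 𝒜 h0
    haveI hmp : (HomogeneousIdeal.irrelevant 𝒜).toIdeal.IsPrime := hmax.isPrime
    obtain ⟨P', hP'p, hP'h, hlt, hle, hdim⟩ := exists_homogeneous_prime_between 𝒜 h0
      x.asHomogeneousIdeal.isHomogeneous (HomogeneousIdeal.irrelevant 𝒜).isHomogeneous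
      (lt_irrelevant 𝒜 h0 x)
    obtain ⟨m, hm⟩ := exists_dim_eq 𝒜 h0 P'
    rw [hx, hm] at hdim
    have hmd : m = d := by
      have : ((m + 1 : ℕ) : WithBot ℕ∞) = ((d + 1 : ℕ) : WithBot ℕ∞) := by
        push_cast; exact hdim
      have := Nat.cast_injective (R := WithBot ℕ∞) this
      omega
    subst hmd
    have hne : ¬ (HomogeneousIdeal.irrelevant 𝒜).toIdeal ≤ P' := by
      intro h
      have heq : P' = (HomogeneousIdeal.irrelevant 𝒜).toIdeal := le_antisymm hle h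
      subst heq
      rw [ringKrullDim_quotient_irrelevant 𝒜 h0] at hm
      have : ((0 : ℕ) : WithBot ℕ∞) = (m : WithBot ℕ∞) := by exact_mod_cast hm
      exact hd (Nat.cast_injective (R := WithBot ℕ∞) this).symm
    have hxy : x < mkPoint 𝒜 P' hP'p hP'h hne := hlt
    have h1 := ih (mkPoint 𝒜 P' hP'p hP'h hne) hm
    have h2 := Order.coheight_add_one_le hxy
    calc ((m + 1 : ℕ) : ℕ∞) = (m : ℕ∞) + 1 := by push_cast; rfl
      _ ≤ Order.coheight (mkPoint 𝒜 P' hP'p hP'h hne) + 1 + 1 := by gcongr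
      _ ≤ Order.coheight x + 1 := by gcongr

include h0 in
theorem coheight_add_one_le (x : ProjectiveSpectrum 𝒜) :
    ((Order.coheight x : ℕ∞) : WithBot ℕ∞) + 1 ≤
      ringKrullDim (A ⧸ x.asHomogeneousIdeal.toIdeal) := by
  haveI : Nontrivial A := ⟨⟨0, 1, fun h => x.isPrime.ne_top
    ((Ideal.eq_top_iff_one _).mpr (h ▸ Ideal.zero_mem _))⟩⟩
  haveI hmax := H8GradedFT.irrelevant_isMaximal 𝒜 h0
  haveI hmp : (HomogeneousIdeal.irrelevant 𝒜).toIdeal.IsPrime := hmax.isPrime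
  rw [Order.coheight_eq_krullDim_Ici, ringKrullDim_quotient]
  haveI : Nonempty ↥(Set.Ici x) := ⟨⟨x, Set.mem_Ici.mpr le_rfl⟩⟩
  rw [← Order.krullDim_WithTop]
  let g : WithTop ↥(Set.Ici x) →
      ↥(PrimeSpectrum.zeroLocus (R := A) (x.asHomogeneousIdeal.toIdeal : Set A)) :=
    WithTop.recTopCoe
      ⟨⟨(HomogeneousIdeal.irrelevant 𝒜).toIdeal, hmp⟩, le_irrelevant 𝒜 h0 x⟩
      (fun y => ⟨⟨y.1.asHomogeneousIdeal.toIdeal, y.1.isPrime⟩, y.2⟩)
  refine Order.krullDim_le_of_strictMono g ?_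
  intro a b hab
  induction a using WithTop.recTopCoe with
  | top => exact absurd hab not_top_lt
  | coe a =>
    induction b using WithTop.recTopCoe with
    | top => exact lt_irrelevant 𝒜 h0 a.1
    | coe b =>
      have hab' : a < b := WithTop.coe_lt_coe.mp hab
      exact hab'

include h0 in
/-- **Dictionary**: `coheight x + 1 = dim A/P_x` for a point `x` of `Proj A`. -/
theorem exists_coheight_eq (x : ProjectiveSpectrum 𝒜) :
    ∃ m : ℕ, Order.coheight x = m ∧
      ringKrullDim (A ⧸ x.asHomogeneousIdeal.toIdeal) = (m + 1 : ℕ) := by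
  obtain ⟨d, hd⟩ := exists_dim_eq 𝒜 h0 x.asHomogeneousIdeal.toIdeal
  have h1 := le_coheight_add_one 𝒜 h0 d x hd
  have h2 := coheight_add_one_le 𝒜 h0 x
  rw [hd] at h2
  have h3 : Order.coheight x + 1 ≤ (d : ℕ∞) := by exact_mod_cast h2
  have h4 : Order.coheight x + 1 = (d : ℕ∞) := le_antisymm h3 h1
  have hne : Order.coheight x ≠ ⊤ := by
    intro h
    rw [h] at h4
    simp at h4
  obtain ⟨m, hm⟩ := ENat.ne_top_iff_exists.mp hne
  refine ⟨m, hm.symm, ?_⟩
  rw [hd]
  rw [← hm] at h4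
  have : m + 1 = d := by exact_mod_cast h4
  rw [← this]

theorem Ici_eq_closure (x : ProjectiveSpectrum 𝒜) :
    Set.Ici x = closure ({x} : Set (ProjectiveSpectrum 𝒜)) := by
  ext y
  rw [Set.mem_Ici, le_iff_mem_closure]

theorem isClosed_Ici (x : ProjectiveSpectrum 𝒜) : IsClosed (Set.Ici x) := by
  rw [Ici_eq_closure]; exact isClosed_closure

theorem isIrreducible_Ici (x : ProjectiveSpectrum 𝒜) : IsIrreducible (Set.Ici x) := by
  rw [Ici_eq_closure]; exact isIrreducible_singleton.closure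

theorem topologicalKrullDim_Ici (x : ProjectiveSpectrum 𝒜) :
    topologicalKrullDim ↥(Set.Ici x) = ((Order.coheight x : ℕ∞) : WithBot ℕ∞) := by
  rw [H8ProjTop.topologicalKrullDim_eq_krullDim 𝒜 (isClosed_Ici 𝒜 x),
    Order.coheight_eq_krullDim_Ici]

/-- A closed irreducible subset is the set of specialisations of its generic point. -/
theorem eq_Ici_genericPt {X : Set (ProjectiveSpectrum 𝒜)} (hXc : IsClosed X)
    (hXi : IsIrreducible X) : X = Set.Ici (H8ProjTop.genericPt 𝒜 X hXi) := by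
  rw [Ici_eq_closure, H8ProjTop.closure_genericPt, hXc.closure_eq]

theorem exists_eq_Ici {X : Set (ProjectiveSpectrum 𝒜)} (hXc : IsClosed X)
    (hXi : IsIrreducible X) : ∃ x : ProjectiveSpectrum 𝒜, X = Set.Ici x :=
  ⟨_, eq_Ici_genericPt 𝒜 hXc hXi⟩

include h0 in
/-- **Dimension dictionary**: a closed irreducible subset `X` of `Proj A` is `V₊(P)` for a
relevant homogeneous prime `P`, and `dim X + 1 = dim A/P`. -/
theorem exists_point_dim {X : Set (ProjectiveSpectrum 𝒜)} (hXc : IsClosed X)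
    (hXi : IsIrreducible X) : ∃ (x : ProjectiveSpectrum 𝒜) (m : ℕ), X = Set.Ici x ∧
      topologicalKrullDim ↥X = m ∧
      ringKrullDim (A ⧸ x.asHomogeneousIdeal.toIdeal) = (m + 1 : ℕ) := by
  obtain ⟨x, rfl⟩ := exists_eq_Ici 𝒜 hXc hXi
  obtain ⟨m, hm, hd⟩ := exists_coheight_eq 𝒜 h0 x
  refine ⟨x, m, rfl, ?_, hd⟩
  rw [topologicalKrullDim_Ici, hm]
  rfl

include h0 in
/-- **Components dictionary**: if the closed set `W` is `V₊(J)` for a homogeneous ideal `J`,
every irreducible component `C` of `W` is `V₊(Q)` for a relevant minimal prime `Q` of `J`, and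
`dim C + 1 = dim A/Q`. -/
theorem exists_point_of_mem_irreducibleComponents {J : Ideal A} (hJ : J.IsHomogeneous 𝒜)
    {W : Set (ProjectiveSpectrum 𝒜)} (hWc : IsClosed W)
    (hW : ∀ y : ProjectiveSpectrum 𝒜, y ∈ W ↔ J ≤ y.asHomogeneousIdeal.toIdeal)
    (C : Set ↥W) (hC : C ∈ irreducibleComponents ↥W) :
    ∃ (y : ProjectiveSpectrum 𝒜) (m : ℕ), y.asHomogeneousIdeal.toIdeal ∈ J.minimalPrimes ∧
      topologicalKrullDim ↥C = m ∧
      ringKrullDim (A ⧸ y.asHomogeneousIdeal.toIdeal) = (m + 1 : ℕ) := by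
  have hCi : IsIrreducible C := hC.1
  have hCc : IsClosed C := isClosed_of_mem_irreducibleComponents C hC
  have hDi : IsIrreducible (Subtype.val '' C) := hCi.image _ continuous_subtype_val.continuousOn
  have hDc : IsClosed (Subtype.val '' C) := hWc.isClosedEmbedding_subtypeVal.isClosedMap C hCc
  obtain ⟨y, m, hDy, hm, hd⟩ := exists_point_dim 𝒜 h0 hDc hDi
  have hyD : y ∈ Subtype.val '' C := by rw [hDy]; exact Set.mem_Ici.mpr le_rfl
  obtain ⟨⟨y', hy'W⟩, hyC, rfl⟩ := hyD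
  refine ⟨y', m, ?_, ?_, hd⟩
  · -- minimality
    have hJy : J ≤ y'.asHomogeneousIdeal.toIdeal := (hW y').mp hy'W
    obtain ⟨Q, hQmin, hQy⟩ := Ideal.exists_minimalPrimes_le hJy
    have hQh : Q.IsHomogeneous 𝒜 := H8DoubleLink.isHomogeneous_of_mem_minimalPrimes hJ hQmin
    have hQne : ¬ (HomogeneousIdeal.irrelevant 𝒜).toIdeal ≤ Q := fun h =>
      y'.not_irrelevant_le (fun a ha => hQy (h ha))
    set z := mkPoint 𝒜 Q hQmin.1.1 hQh hQne with hz
    have hzW : z ∈ W := (hW z).mpr hQmin.1.2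
    have hzy : z ≤ y' := hQy
    -- C ⊆ closure {⟨z, hzW⟩}
    have hsub : C ⊆ closure ({⟨z, hzW⟩} : Set ↥W) := by
      intro c hc
      have hcD : (c : ProjectiveSpectrum 𝒜) ∈ Subtype.val '' C := ⟨c, hc, rfl⟩
      rw [hDy, Set.mem_Ici] at hcD
      have hzc : z ≤ c.1 := hzy.trans hcD
      have : (⟨z, hzW⟩ : ↥W) ⤳ c := by
        rw [subtype_specializes_iff, H8ProjTop.specializes_iff_le]
        exact hzc
      exact this.mem_closure
    have hle : closure ({⟨z, hzW⟩} : Set ↥W) ⊆ C :=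
      hC.2 isIrreducible_singleton.closure hsub
    have hzC : (⟨z, hzW⟩ : ↥W) ∈ C := hle (subset_closure rfl)
    have hzD : z ∈ Subtype.val '' C := ⟨_, hzC, rfl⟩
    rw [hDy, Set.mem_Ici] at hzD
    have : z = y' := le_antisymm hzy hzD
    rw [← this]
    exact hQmin
  · rw [← hm]
    exact IsHomeomorph.topologicalKrullDim_eq _
      (IsEmbedding.subtypeVal.homeomorphImage C).isHomeomorph

section FT

variable (K) in
/-- In a finite type algebra over a field, a minimal prime `Q` over `P + (y)`, `y ∉ P` prime,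
has `dim A/Q + 1 = dim A/P`. -/
theorem ringKrullDim_quotient_add_one_of_mem_minimalPrimes {B : Type u} [CommRing B] [Algebra K B]
    [Algebra.FiniteType K B] {P Q : Ideal B} [hPp : P.IsPrime] (y : B) (hy : y ∉ P)
    (hQ : Q ∈ (P ⊔ Ideal.span {y}).minimalPrimes) :
    ringKrullDim (B ⧸ Q) + 1 = ringKrullDim (B ⧸ P) := by
  haveI : IsNoetherianRing B := Algebra.FiniteType.isNoetherianRing K B
  haveI hQp : Q.IsPrime := hQ.1.1
  have hcov := EquidimCat33.covBy_of_mem_minimalPrimes ⟨P, hPp⟩ ⟨Q, hQp⟩ y hy hQ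
  refine FTDim.ringKrullDim_quotient_add_one_of_covBy K B P Q hcov.1 ?_
  intro r hr hPr hrQ
  exact hcov.2 (c := ⟨r, hr⟩) hPr hrQ

variable (K) in
/-- In a finite type algebra over a field, a minimal prime `Q` over `P + (s)`, `P` prime and `s`
finite, has `dim A/P ≤ dim A/Q + #s`. -/
theorem ringKrullDim_quotient_le_add_card {B : Type u} [CommRing B] [Algebra K B]
    [Algebra.FiniteType K B] {P Q : Ideal B} [hPp : P.IsPrime] (s : Finset B)
    (hQ : Q ∈ (P ⊔ Ideal.span (s : Set B)).minimalPrimes) :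
    ringKrullDim (B ⧸ P) ≤ ringKrullDim (B ⧸ Q) + (s.card : WithBot ℕ∞) := by
  classical
  haveI : IsNoetherianRing B := Algebra.FiniteType.isNoetherianRing K B
  haveI hQp : Q.IsPrime := hQ.1.1
  have hPQ : P ≤ Q := le_sup_left.trans hQ.1.2
  haveI hQ'p : (Q.map (Ideal.Quotient.mk P)).IsPrime :=
    Ideal.isPrime_map_quotientMk_of_isPrime hPQ
  have hmin : Q.map (Ideal.Quotient.mk P) ∈
      (Ideal.span ((s.image (Ideal.Quotient.mk P) : Finset (B ⧸ P)) : Set (B ⧸ P))).minimalPrimes := by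
    have h1 : Ideal.span ((s.image (Ideal.Quotient.mk P) : Finset (B ⧸ P)) : Set (B ⧸ P)) =
        (Ideal.span (s : Set B)).map (Ideal.Quotient.mk P) := by
      rw [Ideal.map_span, Finset.coe_image]
    rw [h1, Ideal.minimalPrimes_map_of_surjective Ideal.Quotient.mk_surjective, Ideal.mk_ker,
      sup_comm]
    exact ⟨Q, hQ, rfl⟩
  have hht : (Q.map (Ideal.Quotient.mk P)).height ≤ s.card :=
    (Ideal.height_le_card_of_mem_minimalPrimes_span_finset hmin).trans
      (by exact_mod_cast Finset.card_image_le)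
  have h1 := FTDim.height_add_ringKrullDim_quotient K (B ⧸ P) (Q.map (Ideal.Quotient.mk P))
  rw [EquidimCat33.ringKrullDim_quotQuot hPQ] at h1
  rw [← h1, add_comm]
  gcongr
  exact_mod_cast hht

end FT

include h0 in
/-- A homogeneous prime whose quotient has positive dimension is relevant. -/
theorem not_irrelevant_le_of_dim_ne_zero {Q : Ideal A} [Q.IsPrime] (hQ : Q.IsHomogeneous 𝒜)
    (hd : ringKrullDim (A ⧸ Q) ≠ 0) : ¬ (HomogeneousIdeal.irrelevant 𝒜).toIdeal ≤ Q := by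
  intro h
  haveI : Nontrivial A := ⟨⟨0, 1, fun h => (‹Q.IsPrime›).ne_top
    ((Ideal.eq_top_iff_one _).mpr (h ▸ Ideal.zero_mem _))⟩⟩
  have heq : Q = (HomogeneousIdeal.irrelevant 𝒜).toIdeal :=
    le_antisymm (H8GradedFT.le_irrelevant 𝒜 h0 hQ (‹Q.IsPrime›).ne_top) h
  subst heq
  exact hd (ringKrullDim_quotient_irrelevant 𝒜 h0)

end Groth.Agent.Lib.H8ProjDim
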