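/-
helper8: the projective spectrum of a polynomial ring over a field (standard grading):
specialisation of `H8ProjDim`.
-/
import Groth.Agent.Lib.H8ProjDim
import Groth.Prelude.Def_CohB1

set_option autoImplicit false
universe u

namespace Groth.Agent.Lib.H8ProjPoly

open ProjectiveSpectrum TopologicalSpace Topology Groth.Agent.Lib

variable (n : ℕ) (k : Type u) [Field k]

theorem h0 : ∀ a ∈ CohB1.polyGrading n k 0,
    ∃ c : k, algebraMap k (MvPolynomial (Fin (n + 1)) k) c = a := by
  intro a ha
  change a ∈ MvPolynomial.homogeneousSubmodule (Fin (n + 1)) k 0 at ha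
  rw [MvPolynomial.homogeneousSubmodule_zero, Submodule.mem_one] at ha
  exact ha

theorem X_mem_irrelevant (i : Fin (n + 1)) :
    (MvPolynomial.X i : MvPolynomial (Fin (n + 1)) k) ∈
      (HomogeneousIdeal.irrelevant (CohB1.polyGrading n k)).toIdeal := by
  change _ ∈ HomogeneousIdeal.irrelevant (CohB1.polyGrading n k)
  rw [HomogeneousIdeal.mem_irrelevant_iff, GradedRing.proj_apply]
  rw [DirectSum.decompose_of_mem_ne (CohB1.polyGrading n k)
    (MvPolynomial.isHomogeneous_X k i : _ ∈ CohB1.polyGrading n k 1) one_ne_zero]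

/-- The generic point of projective space. -/
noncomputable def botPt : ProjectiveSpectrum (CohB1.polyGrading n k) :=
  H8ProjDim.mkPoint (CohB1.polyGrading n k) ⊥ Ideal.isPrime_bot
    (HomogeneousIdeal.isHomogeneous ⊥)
    (fun h => MvPolynomial.X_ne_zero (R := k) (0 : Fin (n + 1))
      ((Submodule.mem_bot _).mp (h (X_mem_irrelevant n k 0))))

theorem botPt_le (x : ProjectiveSpectrum (CohB1.polyGrading n k)) : botPt n k ≤ x := by
  rw [H8ProjDim.le_iff_toIdeal_le]
  exact bot_le

theorem Ici_botPt : Set.Ici (botPt n k) = Set.univ := by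
  ext x; simp [botPt_le]

/-- Projective `n`-space has dimension `n`. -/
theorem topologicalKrullDim_proj :
    topologicalKrullDim (ProjectiveSpectrum (CohB1.polyGrading n k)) = (n : WithBot ℕ∞) := by
  rw [← IsHomeomorph.topologicalKrullDim_eq _
    (Homeomorph.Set.univ (ProjectiveSpectrum (CohB1.polyGrading n k))).isHomeomorph,
    ← Ici_botPt, H8ProjDim.topologicalKrullDim_Ici]
  obtain ⟨m, hm, hd⟩ := H8ProjDim.exists_coheight_eq (CohB1.polyGrading n k) (h0 n k) (botPt n k)
  rw [hm]
  have h1 : ringKrullDim (MvPolynomial (Fin (n + 1)) k ⧸ (⊥ : Ideal (MvPolynomial (Fin (n + 1)) k)))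
      = ((n + 1 : ℕ) : WithBot ℕ∞) := by
    rw [ringKrullDim_eq_of_ringEquiv (RingEquiv.quotientBot _), FTDim.ringKrullDim_mvPolynomial]
  have h2 : ((m + 1 : ℕ) : WithBot ℕ∞) = ((n + 1 : ℕ) : WithBot ℕ∞) := hd.symm.trans h1
  have h3 := Nat.cast_injective (R := WithBot ℕ∞) h2
  have : m = n := by omega
  rw [this]
  rfl

end Groth.Agent.Lib.H8ProjPoly
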