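import Mathlib.AlgebraicGeometry.ProjectiveSpectrum.Basic
import Mathlib.RingTheory.GradedAlgebra.Radical
import Mathlib.RingTheory.GradedAlgebra.Homogeneous.Ideal

/-!
Projective Nullstellensatz-type lemmas for `ProjectiveSpectrum 𝒜` / `Proj 𝒜`.
-/

universe u

namespace Groth.Agent.Lib.ProjNull

open AlgebraicGeometry

variable {σ : Type*} {A : Type u} [CommRing A] [SetLike σ A] [AddSubgroupClass σ A]
variable (𝒜 : ℕ → σ) [GradedRing 𝒜]

/-- If `f` lies in the irrelevant ideal but not in the radical of the homogeneous ideal `I`,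
there is a point of the projective spectrum containing `I` but not `f`. -/
lemma exists_point_of_not_mem_radical {I : Ideal A} (hI : I.IsHomogeneous 𝒜) {f : A}
    (hf : f ∈ (HomogeneousIdeal.irrelevant 𝒜).toIdeal) (hfI : f ∉ I.radical) :
    ∃ p : ProjectiveSpectrum 𝒜, I ≤ p.asHomogeneousIdeal.toIdeal ∧
      f ∉ p.asHomogeneousIdeal := by
  rw [hI.radical_eq, Ideal.mem_sInf] at hfI
  push Not at hfI
  obtain ⟨J, ⟨hJh, hIJ, hJp⟩, hfJ⟩ := hfI
  refine ⟨⟨⟨J, hJh⟩, hJp, fun hle => hfJ (hle hf)⟩, hIJ, hfJ⟩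

/-- Every element of the irrelevant ideal contained in all points containing `I` lies in the
radical of `I`. -/
lemma mem_radical_of_forall_point {I : Ideal A} (hI : I.IsHomogeneous 𝒜) {f : A}
    (hf : f ∈ (HomogeneousIdeal.irrelevant 𝒜).toIdeal)
    (h : ∀ p : ProjectiveSpectrum 𝒜, I ≤ p.asHomogeneousIdeal.toIdeal →
      f ∈ p.asHomogeneousIdeal) : f ∈ I.radical := by
  by_contra hfI
  obtain ⟨p, hp, hfp⟩ := exists_point_of_not_mem_radical 𝒜 hI hf hfI
  exact hfp (h p hp)

lemma isEmpty_projectiveSpectrum_iff :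
    IsEmpty (ProjectiveSpectrum 𝒜) ↔
      ∀ f ∈ (HomogeneousIdeal.irrelevant 𝒜).toIdeal, IsNilpotent f := by
  constructor
  · intro h f hf
    have : f ∈ (⊥ : Ideal A).radical :=
      mem_radical_of_forall_point 𝒜 (Ideal.IsHomogeneous.bot 𝒜) hf (fun p => (h.false p).elim)
    obtain ⟨n, hn⟩ := this
    exact ⟨n, by simpa using hn⟩
  · intro h
    refine ⟨fun p => p.not_irrelevant_le fun f hf => ?_⟩
    obtain ⟨n, hn⟩ := h f hf
    exact p.isPrime.mem_of_pow_mem n (hn ▸ Ideal.zero_mem _)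

section FG

open DirectSum

/-- A finitely generated homogeneous ideal is generated by finitely many homogeneous elements. -/
lemma exists_finset_homogeneous_span_eq {I : Ideal A} (hI : I.IsHomogeneous 𝒜) (hfg : I.FG) :
    ∃ s : Finset A, (∀ x ∈ s, SetLike.IsHomogeneousElem 𝒜 x) ∧ Ideal.span (s : Set A) = I := by
  classical
  obtain ⟨t, rfl⟩ := hfg
  refine ⟨t.biUnion fun y => (DFinsupp.support (decompose 𝒜 y)).image
    fun d => (decompose 𝒜 y d : A), ?_, le_antisymm ?_ ?_⟩
  · intro x hx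
    simp only [Finset.mem_biUnion, Finset.mem_image] at hx
    obtain ⟨y, -, d, -, rfl⟩ := hx
    exact ⟨d, SetLike.coe_mem _⟩
  · rw [Ideal.span_le]
    intro x hx
    simp only [Finset.coe_biUnion, Finset.coe_image, Set.mem_iUnion, Set.mem_image] at hx
    obtain ⟨y, hy, d, -, rfl⟩ := hx
    exact hI d (Ideal.subset_span hy)
  · rw [Ideal.span_le]
    intro y hy
    rw [SetLike.mem_coe, ← DirectSum.sum_support_decompose 𝒜 y]
    refine Ideal.sum_mem _ fun d hd => Ideal.subset_span ?_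
    simp only [Finset.coe_biUnion, Finset.coe_image, Set.mem_iUnion, Set.mem_image]
    exact ⟨y, hy, d, hd, rfl⟩

/-- If the irrelevant ideal is generated by finitely many homogeneous elements of degrees
in `[1, D]`, then `𝒜 k ≤ (𝒜₊)^(j+1)` whenever `D * j < k`. -/
lemma le_irrelevant_pow (s : Finset A) (D : ℕ)
    (hs : ∀ x ∈ s, ∃ d, 0 < d ∧ d ≤ D ∧ x ∈ 𝒜 d)
    (hspan : Ideal.span (s : Set A) = (HomogeneousIdeal.irrelevant 𝒜).toIdeal) (j k : ℕ)
    (hk : D * j < k) (x : A) (hx : x ∈ 𝒜 k) :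
    x ∈ (HomogeneousIdeal.irrelevant 𝒜).toIdeal ^ (j + 1) := by
  classical
  induction j generalizing k x with
  | zero =>
    simpa using HomogeneousIdeal.mem_irrelevant_of_mem 𝒜 (by omega) hx
  | succ j ih =>
    have hx' : x ∈ Ideal.span (s : Set A) := by
      rw [hspan]
      exact HomogeneousIdeal.mem_irrelevant_of_mem 𝒜 (by omega) hx
    obtain ⟨a, -, rfl⟩ := Submodule.mem_span_finset.1 hx'
    have e : (∑ y ∈ s, a y • y) = ∑ y ∈ s, (decompose 𝒜 (a y * y) k : A) := by
      conv_lhs => rw [← DirectSum.decompose_of_mem_same 𝒜 hx]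
      rw [decompose_sum, DFinsupp.finsetSum_apply, AddSubmonoidClass.coe_finsetSum]
      rfl
    rw [e]
    refine Ideal.sum_mem _ fun y hy => ?_
    obtain ⟨d, hd0, hdD, hyd⟩ := hs y hy
    rw [coe_decompose_mul_of_right_mem 𝒜 k hyd]
    split_ifs with hdk
    · rw [pow_succ]
      refine Ideal.mul_mem_mul (ih (k - d) ?_ _ (SetLike.coe_mem _)) ?_
      · have : D * (j + 1) = D * j + D := by ring
        omega
      · exact HomogeneousIdeal.mem_irrelevant_of_mem 𝒜 hd0 hyd
    · exact Ideal.zero_mem _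

end FG

end Groth.Agent.Lib.ProjNull
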