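import Mathlib.AlgebraicGeometry.ProjectiveSpectrum.Basic
import Mathlib.AlgebraicGeometry.Properties
import Groth.Agent.Lib.ProjNull

/-!
# Integrality of `Proj` (general carrier type `σ`), and irreducibility from an open cover

* `irreducibleSpace_of_open_cover`: a space covered by irreducible open subsets that pairwise
  intersect is irreducible.
* `isReduced_proj`, `isIntegral_proj`: `Proj 𝒜` is reduced / integral when `𝒜` is essentially
  reduced / essentially integral (after helper21's `S3556`/`S3557`, which are stated for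
  `Submodule`-valued gradings; here for any `AddSubgroupClass`).
* `isIntegral_proj_of_isDomain`: `Proj 𝒜` is integral if `A` is a domain with nonzero irrelevant
  ideal.
-/

set_option autoImplicit false

universe u

open CategoryTheory AlgebraicGeometry
open scoped HomogeneousIdeal

namespace Groth.Agent.Lib.ProjIntegral

section topology

theorem irreducibleSpace_of_open_cover {X : Type*} [TopologicalSpace X] {ι : Type*} [Nonempty ι]
    (U : ι → Set X) (hU : ∀ i, IsOpen (U i)) (hcov : ⋃ i, U i = Set.univ)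
    (hirr : ∀ i, IsIrreducible (U i)) (hint : ∀ i j, (U i ∩ U j).Nonempty) :
    IrreducibleSpace X := by
  have hne : Nonempty X := by
    obtain ⟨i⟩ := ‹Nonempty ι›
    obtain ⟨x, -⟩ := (hirr i).nonempty
    exact ⟨x⟩
  refine @IrreducibleSpace.mk _ _ ⟨?_⟩ hne
  rintro V W hV hW ⟨x, -, hxV⟩ ⟨y, -, hyW⟩
  obtain ⟨i, hxi⟩ : ∃ i, x ∈ U i := by
    have : x ∈ ⋃ i, U i := hcov ▸ Set.mem_univ x
    exact Set.mem_iUnion.mp this
  obtain ⟨j, hyj⟩ : ∃ j, y ∈ U j := by
    have : y ∈ ⋃ i, U i := hcov ▸ Set.mem_univ y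
    exact Set.mem_iUnion.mp this
  -- `V` meets `U i ∩ U j`
  obtain ⟨z, hzi, hzV, hzj⟩ : ∃ z, z ∈ U i ∧ z ∈ V ∧ z ∈ U j := by
    obtain ⟨z, hz, hz1, hz2⟩ := (hirr i).isPreirreducible V (U j) hV (hU j) ⟨x, hxi, hxV⟩
      (by obtain ⟨w, hw1, hw2⟩ := hint i j; exact ⟨w, hw1, hw2⟩)
    exact ⟨z, hz, hz1, hz2⟩
  obtain ⟨w, hwj, hwV, hwW⟩ := (hirr j).isPreirreducible V W hV hW ⟨z, hzj, hzV⟩ ⟨y, hyj, hyW⟩
  exact ⟨w, trivial, hwV, hwW⟩

end topology

section proj

variable {σ : Type*} {A : Type u} [CommRing A] [SetLike σ A] [AddSubgroupClass σ A]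
variable (𝒜 : ℕ → σ) [GradedRing 𝒜]

lemma away_isReduced
    (hred : ∀ f ∈ (HomogeneousIdeal.irrelevant 𝒜).toIdeal, IsNilpotent f → f = 0)
    {f : A} {d : ℕ} (hd : 0 < d) (hf : f ∈ 𝒜 d) :
    _root_.IsReduced (HomogeneousLocalization.Away 𝒜 f) := by
  constructor
  rintro x ⟨m, hm⟩
  obtain ⟨n, a, ha, rfl⟩ := HomogeneousLocalization.Away.mk_surjective 𝒜 hf x
  have hfirr : f ∈ (HomogeneousIdeal.irrelevant 𝒜).toIdeal :=
    HomogeneousIdeal.mem_irrelevant_of_mem 𝒜 hd hf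
  have h1 := congrArg HomogeneousLocalization.val hm
  rw [HomogeneousLocalization.val_pow, HomogeneousLocalization.Away.val_mk,
    HomogeneousLocalization.val_zero, Localization.mk_pow, Localization.mk_eq_mk',
    IsLocalization.mk'_eq_zero_iff] at h1
  obtain ⟨⟨_, k, rfl⟩, hk⟩ := h1
  dsimp only at hk
  have hfa : f * a = 0 := by
    apply hred _ (Ideal.mul_mem_right _ _ hfirr)
    refine ⟨k + m, ?_⟩
    calc (f * a) ^ (k + m) = f ^ m * a ^ k * (f ^ k * a ^ m) := by ring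
      _ = 0 := by rw [hk, mul_zero]
  rw [HomogeneousLocalization.ext_iff_val, HomogeneousLocalization.Away.val_mk,
    HomogeneousLocalization.val_zero, Localization.mk_eq_mk', IsLocalization.mk'_eq_zero_iff]
  exact ⟨⟨f, 1, pow_one f⟩, hfa⟩

/-- `Proj 𝒜` is reduced when the irrelevant ideal contains no nonzero nilpotent. -/
theorem isReduced_proj
    (hred : ∀ f ∈ (HomogeneousIdeal.irrelevant 𝒜).toIdeal, IsNilpotent f → f = 0) :
    AlgebraicGeometry.IsReduced (Proj 𝒜) := by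
  have : ∀ i, IsReduced ((Proj.affineOpenCover 𝒜).openCover.X i) := by
    intro i
    have := away_isReduced 𝒜 hred i.1.2 i.2.2
    change IsReduced (Spec (CommRingCat.of (HomogeneousLocalization.Away 𝒜 i.2.1)))
    infer_instance
  exact IsReduced.of_openCover _ (Proj.affineOpenCover 𝒜).openCover

/-- `Proj 𝒜` is integral when `𝒜` is essentially reduced and essentially integral. -/
theorem isIntegral_proj
    (hred : ∀ f ∈ (HomogeneousIdeal.irrelevant 𝒜).toIdeal, IsNilpotent f → f = 0)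
    (hne : ∃ f ∈ (HomogeneousIdeal.irrelevant 𝒜).toIdeal, f ≠ 0)
    (hdom : ∀ f ∈ (HomogeneousIdeal.irrelevant 𝒜).toIdeal,
      ∀ g ∈ (HomogeneousIdeal.irrelevant 𝒜).toIdeal, f * g = 0 → f = 0 ∨ g = 0) :
    AlgebraicGeometry.IsIntegral (Proj 𝒜) := by
  classical
  have hpt : ∀ f ∈ (HomogeneousIdeal.irrelevant 𝒜).toIdeal, f ≠ 0 →
      ∃ p : ProjectiveSpectrum 𝒜, f ∉ p.asHomogeneousIdeal := by
    intro f hf hf0
    have hnil : f ∉ (⊥ : Ideal A).radical := by
      rintro ⟨n, hn⟩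
      exact hf0 (hred f hf ⟨n, by simpa using hn⟩)
    obtain ⟨p, -, hp⟩ := Groth.Agent.Lib.ProjNull.exists_point_of_not_mem_radical 𝒜
      (Ideal.IsHomogeneous.bot 𝒜) hf hnil
    exact ⟨p, hp⟩
  obtain ⟨f₀, hf₀, hf₀0⟩ := hne
  have hredP : IsReduced (Proj 𝒜) := isReduced_proj 𝒜 hred
  have hirr : IrreducibleSpace (Proj 𝒜) := by
    have hne : Nonempty (Proj 𝒜) := by
      obtain ⟨p, -⟩ := hpt f₀ hf₀ hf₀0
      exact ⟨p⟩
    refine @IrreducibleSpace.mk _ _ ⟨?_⟩ hne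
    rintro U V hU hV ⟨x, -, hxU⟩ ⟨y, -, hyV⟩
    obtain ⟨_, ⟨a, rfl⟩, hxa, haU⟩ :=
      (ProjectiveSpectrum.isTopologicalBasis_basic_opens 𝒜).exists_subset_of_mem_open hxU hU
    obtain ⟨_, ⟨b, rfl⟩, hyb, hbV⟩ :=
      (ProjectiveSpectrum.isTopologicalBasis_basic_opens 𝒜).exists_subset_of_mem_open hyV hV
    obtain ⟨a', ha', ha'x⟩ : ∃ a' ∈ (HomogeneousIdeal.irrelevant 𝒜).toIdeal,
        a' ∉ x.asHomogeneousIdeal := by
      by_contra! H'
      exact x.not_irrelevant_le fun z hz => H' z hz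
    obtain ⟨b', hb', hb'y⟩ : ∃ b' ∈ (HomogeneousIdeal.irrelevant 𝒜).toIdeal,
        b' ∉ y.asHomogeneousIdeal := by
      by_contra! H'
      exact y.not_irrelevant_le fun z hz => H' z hz
    have h1 : a * a' ∉ x.asHomogeneousIdeal.toIdeal := fun h =>
      (x.isPrime.mem_or_mem h).elim hxa ha'x
    have h2 : b * b' ∉ y.asHomogeneousIdeal.toIdeal := fun h =>
      (y.isPrime.mem_or_mem h).elim hyb hb'y
    have h1' : a * a' ≠ 0 := fun h => h1 (h ▸ Ideal.zero_mem _)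
    have h2' : b * b' ≠ 0 := fun h => h2 (h ▸ Ideal.zero_mem _)
    have hm1 : a * a' ∈ (HomogeneousIdeal.irrelevant 𝒜).toIdeal := Ideal.mul_mem_left _ _ ha'
    have hm2 : b * b' ∈ (HomogeneousIdeal.irrelevant 𝒜).toIdeal := Ideal.mul_mem_left _ _ hb'
    have h3 : (a * a') * (b * b') ≠ 0 := fun h =>
      (hdom _ hm1 _ hm2 h).elim h1' h2'
    obtain ⟨p, hp⟩ := hpt _ (Ideal.mul_mem_left _ _ hm2) h3
    refine ⟨p, trivial, haU ?_, hbV ?_⟩
    · intro ha
      exact hp (Ideal.mul_mem_right _ _ (Ideal.mul_mem_right _ _ ha))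
    · intro hb
      exact hp (Ideal.mul_mem_left _ _ (Ideal.mul_mem_right _ _ hb))
  exact isIntegral_of_irreducibleSpace_of_isReduced (Proj 𝒜)

/-- `Proj 𝒜` is integral if `A` is a domain with nonzero irrelevant ideal. -/
theorem isIntegral_proj_of_isDomain [IsDomain A]
    (h : (HomogeneousIdeal.irrelevant 𝒜).toIdeal ≠ ⊥) : AlgebraicGeometry.IsIntegral (Proj 𝒜) := by
  refine isIntegral_proj 𝒜 (fun f _ hf => hf.eq_zero) ?_ (fun f _ g _ hfg => mul_eq_zero.mp hfg)
  by_contra! H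
  exact h ((Submodule.eq_bot_iff _).mpr H)

end proj

end Groth.Agent.Lib.ProjIntegral
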