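import Groth.Agent.Lib.AffineFTImm
import Groth.Agent.Lib.ProjIntegral
import Groth.Agent.Lib.ProjSpaceProper
import Groth.Agent.Lib.H8ProjPoly
import Groth.Agent.Lib.H87Japanese

/-!
# The projective line as a base curve (helper85)

Tools to realise a finitely generated field of transcendence degree one as a finite extension of
the function field of `P¹_k`, via lead's `AffineFTImm.imm k 1 ![t] : Spec K ⟶ Proj k[X₀,X₁]`.
-/

set_option autoImplicit false
universe u

open CategoryTheory CategoryTheory.Limits AlgebraicGeometry TopologicalSpace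

namespace Groth.Agent.Lib.P1Curve85

open MvPolynomial in
/-- Dehomogenization at `X₀ = 1` is injective on homogeneous polynomials in two variables,
when evaluated at a transcendental element. -/
theorem eq_zero_of_aeval_eq_zero {k K : Type*} [Field k] [Field K] [Algebra k K] {t : K}
    (ht : Transcendental k t) {n : ℕ} {a : MvPolynomial (Fin 2) k} (ha : a.IsHomogeneous n)
    (h : MvPolynomial.aeval (Fin.cons 1 ![t] : Fin 2 → K) a = 0) : a = 0 := by
  classical
  let f : Fin 2 → Polynomial k := Fin.cons 1 ![Polynomial.X]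
  have hp : Polynomial.aeval t (MvPolynomial.aeval f a) = 0 := by
    rw [MvPolynomial.comp_aeval_apply, ← h]
    congr 2
    funext i
    fin_cases i
    · simp [f]
    · simp [f]
  have hp0 : MvPolynomial.aeval f a = 0 := transcendental_iff.mp ht _ hp
  by_contra hne
  obtain ⟨m₀, hm₀⟩ := MvPolynomial.ne_zero_iff.mp hne
  have hmon : ∀ m : Fin 2 →₀ ℕ, ∀ c : k, MvPolynomial.aeval f (monomial m c) =
      Polynomial.C c * Polynomial.X ^ (m 1) := by
    intro m c
    rw [MvPolynomial.aeval_monomial, Finsupp.prod_fintype _ _ (fun i ↦ pow_zero _),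
      Fin.prod_univ_two]
    simp [f]
  have hdeg : ∀ m : Fin 2 →₀ ℕ, coeff m a ≠ 0 → m 0 + m 1 = n := by
    intro m hm
    have := ha hm
    rw [Finsupp.weight_apply, Finsupp.sum_fintype _ _ (fun i ↦ by simp), Fin.sum_univ_two] at this
    simpa using this
  have key : Polynomial.coeff (MvPolynomial.aeval f a) (m₀ 1) = coeff m₀ a := by
    conv_lhs => rw [a.as_sum, map_sum, Polynomial.finsetSum_coeff]
    rw [Finset.sum_eq_single m₀]
    · rw [hmon, Polynomial.coeff_C_mul_X_pow, if_pos rfl]
    · intro m hm hmne
      rw [hmon, Polynomial.coeff_C_mul_X_pow, if_neg]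
      intro h1
      apply hmne
      have e1 := hdeg m (MvPolynomial.mem_support_iff.mp hm)
      have e2 := hdeg m₀ hm₀
      ext i
      fin_cases i
      · change m 0 = m₀ 0
        omega
      · change m 1 = m₀ 1
        omega
    · intro hm
      rw [MvPolynomial.mem_support_iff, not_not] at hm
      rw [hm, map_zero, map_zero, Polynomial.coeff_zero]
  rw [hp0, Polynomial.coeff_zero] at key
  exact hm₀ key.symm

section

open Groth.Agent.Lib.AffineFTImm CohB1 HomogeneousLocalization

variable (k : Type u) {K : Type u} [Field k] [Field K] [Algebra k K] {t : K}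

theorem chartHom_injective (ht : Transcendental k t) :
    Function.Injective (chartHom k 1 (![t] : Fin 1 → K)) := by
  rw [injective_iff_map_eq_zero]
  intro x hx
  obtain ⟨n, a, ha, rfl⟩ := Away.mk_surjective (polyGrading 1 k) (AffineFTImm.X_mem k 1 0) x
  rw [chartHom_mk] at hx
  have ha' : a.IsHomogeneous (n • 1) := (MvPolynomial.mem_homogeneousSubmodule _ _).mp ha
  have h0 : a = 0 := eq_zero_of_aeval_eq_zero ht ha' hx
  subst h0
  apply HomogeneousLocalization.val_injective
  rw [Away.val_mk, HomogeneousLocalization.val_zero, Localization.mk_zero]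

theorem chartHom_X (t : K) :
    ∃ x, chartHom k 1 (![t] : Fin 1 → K) x = t := by
  refine ⟨Away.mk (polyGrading 1 k) (AffineFTImm.X_mem k 1 0) 1 (MvPolynomial.X 1) ?_, ?_⟩
  · simpa using AffineFTImm.X_mem k 1 1
  · rw [chartHom_mk]
    simp [Φ]

theorem chartHom_C (t : K) (c : k) :
    ∃ x, chartHom k 1 (![t] : Fin 1 → K) x = algebraMap k K c := by
  refine ⟨Away.mk (polyGrading 1 k) (AffineFTImm.X_mem k 1 0) 0 (MvPolynomial.C c) ?_, ?_⟩
  · simp
  · rw [chartHom_mk]
    simp [Φ]

theorem isIntegral_projSpace (n : ℕ) : IsIntegral (ProjSpace n k) := by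
  unfold ProjSpace
  refine ProjIntegral.isIntegral_proj_of_isDomain (polyGrading n k) ?_
  intro h
  have := H8ProjPoly.X_mem_irrelevant n k 0
  rw [h] at this
  exact MvPolynomial.X_ne_zero (R := k) _ ((Ideal.mem_bot).mp this)

theorem imm_closedPoint (ht : Transcendental k t) [IsIntegral (Proj (polyGrading 1 k))] :
    (imm k 1 (![t] : Fin 1 → K)) (IsLocalRing.closedPoint K) =
      genericPoint (Proj (polyGrading 1 k)) := by
  have hinj := chartHom_injective k ht
  have hdom : IsDomain (Away (polyGrading 1 k) (MvPolynomial.X 0)) := hinj.isDomain _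
  have h1 : (Spec.map (CommRingCat.ofHom (chartHom k 1 (![t] : Fin 1 → K))))
      (IsLocalRing.closedPoint K) =
      genericPoint (Spec (CommRingCat.of (Away (polyGrading 1 k) (MvPolynomial.X 0)))) := by
    rw [genericPoint_eq_bot_of_affine]
    apply PrimeSpectrum.ext
    change Ideal.comap (chartHom k 1 (![t] : Fin 1 → K)) (IsLocalRing.maximalIdeal K) = ⊥
    rw [IsLocalRing.maximalIdeal_eq_bot, Ideal.comap_bot_of_injective _ hinj]
  have h2 : (imm k 1 (![t] : Fin 1 → K)) (IsLocalRing.closedPoint K) =
      (Proj.awayι (polyGrading 1 k) (MvPolynomial.X 0) (AffineFTImm.X_mem k 1 0) Nat.one_pos)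
        ((Spec.map (CommRingCat.ofHom (chartHom k 1 (![t] : Fin 1 → K))))
          (IsLocalRing.closedPoint K)) := rfl
  rw [h2, h1]
  exact genericPoint_eq_of_isOpenImmersion _

theorem range_chartHom_le (t : K) :
    Set.range (chartHom k 1 (![t] : Fin 1 → K)) ⊆
      Set.range (Scheme.stalkClosedPointTo (imm k 1 (![t] : Fin 1 → K))).hom := by
  rintro _ ⟨a, rfl⟩
  unfold imm
  rw [Scheme.stalkClosedPointTo_comp]
  have hs : Function.Surjective
      ((Proj.awayι (polyGrading 1 k) (MvPolynomial.X 0) (AffineFTImm.X_mem k 1 0)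
        Nat.one_pos).stalkMap ((Spec.map (CommRingCat.ofHom (chartHom k 1 (![t] : Fin 1 → K))))
          (IsLocalRing.closedPoint K))).hom :=
    (ConcreteCategory.bijective_of_isIso _).2
  obtain ⟨s, hs⟩ := hs (((Spec (CommRingCat.of (Away (polyGrading 1 k)
    (MvPolynomial.X 0)))).presheaf.germ ⊤ _ trivial).hom
      ((Scheme.ΓSpecIso (CommRingCat.of (Away (polyGrading 1 k) (MvPolynomial.X 0)))).inv.hom a))
  refine ⟨s, ?_⟩
  change (Scheme.stalkClosedPointTo (Spec.map (CommRingCat.ofHom
    (chartHom k 1 (![t] : Fin 1 → K))))).hom ((Scheme.Hom.stalkMap _ _).hom s) = _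
  rw [hs]
  have := Scheme.germ_stalkClosedPointTo_Spec (CommRingCat.ofHom (chartHom k 1 (![t] : Fin 1 → K)))
  have h3 := congr($(this).hom ((Scheme.ΓSpecIso (CommRingCat.of (Away (polyGrading 1 k)
    (MvPolynomial.X 0)))).inv.hom a))
  refine (Eq.trans ?_ h3).trans ?_
  · rfl
  · simp

end

/-- A morphism from the spectrum of a local ring is `Spec` of a map from the stalk at the image
of the closed point. -/
theorem exists_hom_of_closedPoint_eq {X : Scheme.{u}} {R : CommRingCat.{u}} [IsLocalRing R]
    (g : Spec R ⟶ X) {x : X} (hx : g (IsLocalRing.closedPoint R) = x) :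
    ∃ ψ : X.presheaf.stalk x ⟶ R, g = Spec.map ψ ≫ X.fromSpecStalk x ∧
      Set.range ψ.hom = Set.range (Scheme.stalkClosedPointTo g).hom := by
  subst hx
  exact ⟨Scheme.stalkClosedPointTo g, (Scheme.Spec_stalkClosedPointTo_fromSpecStalk g).symm, rfl⟩

theorem coheight_le_topologicalKrullDim (X : Scheme.{u}) (x : X) :
    (Order.coheight x : WithBot ℕ∞) ≤ topologicalKrullDim X := by
  unfold topologicalKrullDim
  let _ := specializationOrder X
  have h1 : Order.krullDim (IrreducibleCloseds X) = Order.krullDim X :=
    Order.krullDim_eq_of_orderIso irreducibleSetEquivPoints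
  rw [h1]
  exact Order.coheight_le_krullDim x

/-- On an integral scheme of dimension one, the local rings at closed points have dimension
one. -/
theorem ringKrullDim_stalk_eq_one_of_topologicalKrullDim {X : Scheme.{u}} [IsIntegral X]
    (h : topologicalKrullDim X = 1) (x : X) (hx : IsClosed ({x} : Set X)) :
    ringKrullDim (X.presheaf.stalk x) = 1 := by
  rw [ringKrullDim_stalk_eq_coheight]
  refine le_antisymm ((coheight_le_topologicalKrullDim X x).trans h.le) ?_
  have hne : x ≠ genericPoint X := by
    rintro rfl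
    have huniv : (Set.univ : Set X) = {genericPoint X} := by
      rw [← (genericPoint_spec X).def, hx.closure_eq]
    have hsub : Subsingleton X := by
      refine ⟨fun a b ↦ ?_⟩
      have ha : a ∈ ({genericPoint X} : Set X) := huniv ▸ Set.mem_univ a
      have hb : b ∈ ({genericPoint X} : Set X) := huniv ▸ Set.mem_univ b
      rw [Set.mem_singleton_iff] at ha hb
      rw [ha, hb]
    have h0 := topologicalKrullDim_zero_of_discreteTopology X
    rw [h] at h0
    exact (zero_lt_one (α := WithBot ℕ∞)).not_ge h0
  have hlt : x < genericPoint X := lt_of_le_not_ge (le_top (a := x)) fun hle ↦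
    hne ((Scheme.le_iff_specializes.mp hle).antisymm (genericPoint_specializes x)).eq
  have h3 := Order.coheight_add_one_le hlt
  have h4 : (1 : ℕ∞) ≤ Order.coheight x := le_trans (by simp) h3
  exact_mod_cast h4

/-- A finitely generated field extension of transcendence degree one is finite over any subfield
(image of a field) containing the base field and a transcendental element. -/
theorem finite_of_transcendental_mem_range {k K : Type u} [Field k] [Field K] [Algebra k K]
    (hfg : (⊤ : IntermediateField k K).FG) (htr : Algebra.trdeg k K = 1) {t : K}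
    (ht : Transcendental k t) {F : Type*} [Field F] (ψ : F →+* K)
    (hk : ∀ c : k, algebraMap k K c ∈ ψ.range) (htψ : t ∈ ψ.range) : ψ.Finite := by
  let E : IntermediateField k K := (ψ.fieldRange).toIntermediateField (fun c ↦ hk c)
  have h1 : Algebra.EssFiniteType k K := IntermediateField.fg_top_iff.mp hfg
  have h2 : Algebra.EssFiniteType E K := Algebra.EssFiniteType.of_comp k E K
  have hB : IsTranscendenceBasis k (fun _ : PUnit.{u + 1} ↦ t) :=
    (algebraicIndependent_unique_type_iff.mpr ht).isTranscendenceBasis_of_trdeg_le_of_finite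
      (by rw [htr]; simp)
  have halg := hB.isAlgebraic
  have hle : Algebra.adjoin k (Set.range fun _ : PUnit.{u + 1} ↦ t) ≤ E.toSubalgebra :=
    Algebra.adjoin_le (by rintro _ ⟨_, rfl⟩; exact htψ)
  have h3 : Algebra.IsAlgebraic E K :=
    ⟨fun y ↦ (halg.isAlgebraic y).tower_top_of_subalgebra_le hle⟩
  have hfin : Module.Finite E K := Algebra.finite_of_essFiniteType_of_isAlgebraic
  let _ := ψ.toAlgebra
  change Module.Finite F K
  refine H87Japanese.finite_of_range_le (K := E) (K' := F) (L := K) ?_ hfin
  rintro ⟨c, hc⟩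
  obtain ⟨c', rfl⟩ := hc
  exact ⟨c', rfl⟩


end Groth.Agent.Lib.P1Curve85
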