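import Mathlib
import Groth.Agent.Lib.H40FunFldExt
import Groth.Agent.Lib.H40FunFldConorm
import Groth.Agent.Lib.H40FunFldDeg
import Groth.Agent.Lib.P1Curve85

/-!
# Degree of principal divisors on curves, part c (helper85)

`sum_deg_mul_ord_eq_zero`: for a finitely generated field extension `F/k` of transcendence degree one
(`k` need not be algebraically closed in `F`) and `f ≠ 0`: `∑ deg Q · ord_Q f = 0` over all places of `F/k`.
-/
set_option autoImplicit false
set_option linter.style.haveILetI false
set_option linter.unusedSectionVars false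
set_option linter.unusedVariables false
universe u v

namespace Groth.Agent.Lib.CurveDeg85
open Groth.Agent.Lib.H40FunFld IntermediateField

section sumZero
variable {k F : Type u} [Field k] [Field F] [Algebra k F]

theorem ord_eq_zero_of_isAlgebraic (Q : FunFld.Place k F) {f : F} (hf : f ≠ 0)
    (halg : IsAlgebraic k f) : Q.ord f = 0 := by
  have htriv : TrivialOn (k := k) Q.1 := fun a ha => val_algebraMap Q ha
  have := gval_eq_one_of_isAlgebraic htriv hf halg
  unfold FunFld.Place.ord
  rw [this]
  simp

theorem finite_support_ord_of_trdeg (hfg : (⊤ : IntermediateField k F).FG)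
    (htr : Algebra.trdeg k F = 1) (f : F) (hf : f ≠ 0) :
    (Function.support fun Q : FunFld.Place k F => Q.ord f).Finite := by
  by_cases halg : IsAlgebraic k f
  · have : (Function.support fun Q : FunFld.Place k F => Q.ord f) = ∅ := by
      ext Q
      simp [ord_eq_zero_of_isAlgebraic Q hf halg]
    rw [this]
    exact Set.finite_empty
  · have hfin : (algebraMap k⟮f⟯ F).Finite :=
      Groth.Agent.Lib.P1Curve85.finite_of_transcendental_mem_range hfg htr halg
        (algebraMap k⟮f⟯ F) (fun c => ⟨algebraMap k k⟮f⟯ c, rfl⟩)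
        ⟨⟨f, mem_adjoin_simple_self k f⟩, rfl⟩
    haveI : FiniteDimensional k⟮f⟯ F := hfin
    exact weak_finite_support_ord halg f

theorem sum_deg_mul_ord_eq_zero (hfg : (⊤ : IntermediateField k F).FG)
    (htr : Algebra.trdeg k F = 1) (f : F) (hf : f ≠ 0) :
    ∑ᶠ Q : FunFld.Place k F, (Q.deg : ℤ) * Q.ord f = 0 := by
  classical
  by_cases halg : IsAlgebraic k f
  · have : ∀ Q : FunFld.Place k F, (Q.deg : ℤ) * Q.ord f = 0 := fun Q => by
      rw [ord_eq_zero_of_isAlgebraic Q hf halg, mul_zero]
    simp [this]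
  · have hfin : (algebraMap k⟮f⟯ F).Finite :=
      Groth.Agent.Lib.P1Curve85.finite_of_transcendental_mem_range hfg htr halg
        (algebraMap k⟮f⟯ F) (fun c => ⟨algebraMap k k⟮f⟯ c, rfl⟩)
        ⟨⟨f, mem_adjoin_simple_self k f⟩, rfl⟩
    haveI : FiniteDimensional k⟮f⟯ F := hfin
    have hinvtr : Transcendental k f⁻¹ := fun h => halg (by simpa using h.inv)
    have hadj : k⟮f⁻¹⟯ = k⟮f⟯ := adjoin_inv_eq f
    haveI : FiniteDimensional k⟮f⁻¹⟯ F := by rw [hadj]; infer_instance
    obtain ⟨hZfin, hZsum⟩ := weak_zeros_formula (k := k) (L := F) halg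
    obtain ⟨hPfin, hPsum⟩ := weak_zeros_formula (k := k) (L := F) hinvtr
    have hZ := hZsum hZfin.toFinset (fun Q => by simp)
    have hP := hPsum hPfin.toFinset (fun Q => by simp)
    have hn : Module.finrank k⟮f⁻¹⟯ F = Module.finrank k⟮f⟯ F :=
      congrArg (fun E : IntermediateField k F => Module.finrank E F) hadj
    rw [hn] at hP
    -- support of the summand is inside the union
    have hsupp : (Function.support fun Q : FunFld.Place k F => (Q.deg : ℤ) * Q.ord f) ⊆
        ↑(hZfin.toFinset ∪ hPfin.toFinset) := by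
      intro Q hQ
      have hne : Q.ord f ≠ 0 := fun h0 => hQ (by simp [h0])
      rw [Finset.coe_union, Set.Finite.coe_toFinset, Set.Finite.coe_toFinset]
      rcases lt_trichotomy (Q.ord f) 0 with h | h | h
      · right
        have : 0 < Q.ord f⁻¹ := by rw [ord_inv]; omega
        exact (ord_pos_iff Q (inv_ne_zero hf)).mp this
      · exact absurd h hne
      · left
        exact (ord_pos_iff Q hf).mp h
    rw [finsum_eq_sum_of_support_subset _ hsupp]
    have hdisj : Disjoint hZfin.toFinset hPfin.toFinset := by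
      rw [Finset.disjoint_left]
      intro Q h1 h2
      rw [Set.Finite.mem_toFinset] at h1 h2
      have h1' : 0 < Q.ord f := (ord_pos_iff Q hf).mpr h1
      have h2' : 0 < Q.ord f⁻¹ := (ord_pos_iff Q (inv_ne_zero hf)).mpr h2
      rw [ord_inv] at h2'
      omega
    rw [Finset.sum_union hdisj]
    have e1 : ∑ Q ∈ hZfin.toFinset, (Q.deg : ℤ) * Q.ord f = Module.finrank k⟮f⟯ F := by
      rw [← hZ]
      exact Finset.sum_congr rfl (fun Q _ => mul_comm _ _)
    have e2 : ∑ Q ∈ hPfin.toFinset, (Q.deg : ℤ) * Q.ord f = -(Module.finrank k⟮f⟯ F : ℤ) := by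
      rw [← hP, ← Finset.sum_neg_distrib]
      refine Finset.sum_congr rfl (fun Q _ => ?_)
      rw [ord_inv]
      ring
    rw [e1, e2]
    ring

end sumZero

end Groth.Agent.Lib.CurveDeg85
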