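/-
helper85: centers of valuation rings on integral separated schemes.
Composite valuation rings, restriction of valuation rings to subfields, and the valuative
criterion tested on valuation subrings of the function field (EGA II 7.3.10).
-/
import Mathlib
import Groth.Agent.Lib.FunctionFieldDom

set_option autoImplicit false
universe u
open CategoryTheory CategoryTheory.Limits AlgebraicGeometry IsLocalRing

namespace Groth.Agent.Lib.ValCenter

section composite

variable {F : Type u} [Field F] (V₁ : ValuationSubring F)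
  (V₂ : ValuationSubring (IsLocalRing.ResidueField V₁))

/-- The composite of a valuation subring `V₁` of `F` with a valuation subring `V₂` of the residue
field of `V₁`: the elements of `V₁` whose residue class lies in `V₂`. -/
def composite : ValuationSubring F where
  toSubring := (V₂.toSubring.comap (IsLocalRing.residue V₁)).map V₁.subtype
  mem_or_inv_mem' := by
    intro a
    by_cases ha : a ∈ V₁
    · by_cases hu : IsUnit (⟨a, ha⟩ : V₁)
      · -- unit of `V₁`
        obtain ⟨b, hb⟩ := hu.exists_right_inv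
        have hb' : a * (b : F) = 1 := congrArg Subtype.val hb
        have hinv : a⁻¹ = (b : F) := by
          have ha0 : a ≠ 0 := by rintro rfl; simp at hb'
          field_simp
          exact hb'.symm
        rcases V₂.mem_or_inv_mem (IsLocalRing.residue V₁ ⟨a, ha⟩) with h | h
        · exact Or.inl ⟨⟨a, ha⟩, h, rfl⟩
        · refine Or.inr ⟨b, ?_, hinv.symm⟩
          have : IsLocalRing.residue V₁ ⟨a, ha⟩ * IsLocalRing.residue V₁ b = 1 := by
            rw [← map_mul, hb, map_one]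
          have h2 : IsLocalRing.residue V₁ b = (IsLocalRing.residue V₁ ⟨a, ha⟩)⁻¹ :=
            (eq_inv_of_mul_eq_one_right this)
          change IsLocalRing.residue V₁ b ∈ V₂
          rw [h2]; exact h
      · -- nonunit of `V₁`
        refine Or.inl ⟨⟨a, ha⟩, ?_, rfl⟩
        have : IsLocalRing.residue V₁ ⟨a, ha⟩ = 0 :=
          (IsLocalRing.residue_eq_zero_iff _).mpr ((IsLocalRing.mem_maximalIdeal _).mpr hu)
        change IsLocalRing.residue V₁ ⟨a, ha⟩ ∈ V₂
        rw [this]; exact V₂.zero_mem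
    · -- `a ∉ V₁`, so `a⁻¹` is a nonunit of `V₁`
      have ha' : a⁻¹ ∈ V₁ := (V₁.mem_or_inv_mem a).resolve_left ha
      refine Or.inr ⟨⟨a⁻¹, ha'⟩, ?_, rfl⟩
      have hnu : ¬ IsUnit (⟨a⁻¹, ha'⟩ : V₁) := by
        intro hu
        obtain ⟨b, hb⟩ := hu.exists_right_inv
        have hb' : a⁻¹ * (b : F) = 1 := congrArg Subtype.val hb
        have ha0 : a ≠ 0 := by rintro rfl; simp at hb'
        have : (b : F) = a := by
          field_simp at hb'
          exact hb'
        exact ha (this ▸ b.2)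
      have : IsLocalRing.residue V₁ ⟨a⁻¹, ha'⟩ = 0 :=
        (IsLocalRing.residue_eq_zero_iff _).mpr ((IsLocalRing.mem_maximalIdeal _).mpr hnu)
      change IsLocalRing.residue V₁ ⟨a⁻¹, ha'⟩ ∈ V₂
      rw [this]; exact V₂.zero_mem

lemma mem_composite {a : F} :
    a ∈ composite V₁ V₂ ↔ ∃ h : a ∈ V₁, IsLocalRing.residue V₁ ⟨a, h⟩ ∈ V₂ := by
  constructor
  · rintro ⟨b, hb, rfl⟩
    exact ⟨b.2, hb⟩
  · rintro ⟨h, hb⟩
    exact ⟨⟨a, h⟩, hb, rfl⟩

lemma composite_le : composite V₁ V₂ ≤ V₁ := fun _ ha ↦ ((mem_composite V₁ V₂).mp ha).1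

/-- An element of `V₁` whose residue class is a nonunit of `V₂` is a nonunit of the composite. -/
lemma valuation_composite_lt_one {a : F} (h : a ∈ V₁)
    (hres : V₂.valuation (IsLocalRing.residue V₁ ⟨a, h⟩) < 1) :
    (composite V₁ V₂).valuation a < 1 := by
  rw [← ValuationSubring.mem_nonunits_iff, ValuationSubring.mem_nonunits_iff_or]
  by_contra hcon
  push Not at hcon
  obtain ⟨ha0, hinv⟩ := hcon
  obtain ⟨h', hr'⟩ := (mem_composite V₁ V₂).mp hinv
  have hmul : (⟨a, h⟩ : V₁) * ⟨a⁻¹, h'⟩ = 1 := Subtype.ext (mul_inv_cancel₀ ha0)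
  have : IsLocalRing.residue V₁ ⟨a, h⟩ * IsLocalRing.residue V₁ ⟨a⁻¹, h'⟩ = 1 := by
    rw [← map_mul, hmul, map_one]
  rw [← ValuationSubring.mem_nonunits_iff, ValuationSubring.mem_nonunits_iff_or] at hres
  rcases hres with h0 | hni
  · rw [h0, zero_mul] at this; exact zero_ne_one this
  · apply hni
    rw [eq_inv_of_mul_eq_one_right this] at hr'
    simpa using hr'

end composite

set_option backward.isDefEq.respectTransparency false in
/-- Compatibility of `stalkClosedPointTo` with restriction along a ring map. -/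
lemma stalkSpecializes_stalkClosedPointTo {Y : Scheme.{u}} {R K : CommRingCat.{u}} [IsLocalRing R]
    [IsLocalRing K] (ρ : R ⟶ K) (m : Spec R ⟶ Y) (g : Spec K ⟶ Y) (hg : g = Spec.map ρ ≫ m)
    (hsp : g (closedPoint K) ⤳ m (closedPoint R)) :
    Y.presheaf.stalkSpecializes hsp ≫ Scheme.stalkClosedPointTo g =
      Scheme.stalkClosedPointTo m ≫ ρ := by
  subst hg
  refine TopCat.Presheaf.stalk_hom_ext _ fun U hU ↦ ?_
  rw [TopCat.Presheaf.germ_stalkSpecializes_assoc, Scheme.germ_stalkClosedPointTo,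
    Scheme.germ_stalkClosedPointTo_assoc]
  simp only [Scheme.Hom.comp_app, Category.assoc, Iso.trans_hom, Functor.mapIso_hom,
    Iso.op_hom, eqToIso.hom, eqToHom_op]
  congr 1
  have h1 : m ⁻¹ᵁ U = ⊤ := Scheme.preimage_eq_top_of_closedPoint_mem m hU
  rw [(Spec.map ρ).app_eq_appLE, Scheme.Hom.appLE_map_assoc]
  generalize_proofs p1 p2
  revert p1 p2
  rw [h1]
  intro p1 p2
  simp only [eqToHom_refl, CategoryTheory.Functor.map_id, Category.id_comp]
  rw [← Scheme.ΓSpecIso_naturality]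
  congr 1


/-- `V` dominates the local ring `A` through `j`. -/
def Dom {A F : Type u} [CommRing A] [IsLocalRing A] [Field F] (V : ValuationSubring F)
    (j : A →+* F) : Prop :=
  (∀ a, j a ∈ V) ∧ ∀ a ∈ maximalIdeal A, V.valuation (j a) < 1

section restrict

variable {R K κ : Type u} [CommRing R] [IsDomain R] [ValuationRing R] [Field K] [Algebra R K]
  [IsFractionRing R K] [Field κ] (φ : κ →+* K)

/-- The restriction of a valuation ring `R` of `K` to a subfield `κ`. -/
def restrictVal : ValuationSubring κ where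
  toSubring := (algebraMap R K).range.comap φ
  mem_or_inv_mem' := by
    intro c
    rcases ValuationRing.isInteger_or_isInteger R (φ c) with ⟨r, hr⟩ | ⟨r, hr⟩
    · exact Or.inl ⟨r, hr⟩
    · exact Or.inr ⟨r, by rw [hr, map_inv₀]⟩

lemma mem_restrictVal {c : κ} : c ∈ restrictVal (R := R) φ ↔ ∃ r : R, algebraMap R K r = φ c :=
  Iff.rfl

/-- If `φ c = ρ r` with `r` a nonunit of `R` then `c` is a nonunit of the restriction. -/
lemma valuation_restrictVal_lt_one {c : κ} {r : R} (hr : algebraMap R K r = φ c)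
    (hnu : ¬ IsUnit r) : (restrictVal (R := R) φ).valuation c < 1 := by
  rw [← ValuationSubring.mem_nonunits_iff, ValuationSubring.mem_nonunits_iff_or]
  by_contra hcon
  push Not at hcon
  obtain ⟨hc0, r', hr'⟩ := hcon
  apply hnu
  have : algebraMap R K (r * r') = 1 := by
    rw [map_mul, hr, hr', map_inv₀, mul_inv_cancel₀]
    exact (map_ne_zero φ).mpr hc0
  have h1 : r * r' = 1 := IsFractionRing.injective R K (by rw [this, map_one])
  exact IsUnit.of_mul_eq_one _ h1

end restrict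

section core

open Groth.Agent.Lib.FunctionFieldDom

variable {X Y : Scheme.{u}} [IsIntegral X] [IsIntegral Y] [X.IsSeparated] [Y.IsSeparated]

/-- The map `O_{Y,y} ⟶ K(X)` for a specialization `y` of the image of the generic point. -/
noncomputable abbrev stalkToFFOver (f : X ⟶ Y) (y : Y) (hy : f (genericPoint X) ⤳ y) :
    Y.presheaf.stalk y ⟶ X.functionField :=
  Y.presheaf.stalkSpecializes hy ≫ f.stalkMap (genericPoint X)

omit [IsIntegral Y] [X.IsSeparated] [Y.IsSeparated] in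
lemma stalkToFFOver_eq (f : X ⟶ Y) (x : X) (y : Y) (hxy : f x ⤳ y)
    (hy : f (genericPoint X) ⤳ y) :
    stalkToFFOver f y hy =
      (Y.presheaf.stalkSpecializes hxy ≫ f.stalkMap x) ≫ stalkToFF X x := by
  have hξx : genericPoint X ⤳ x := (genericPoint_spec X).specializes trivial
  rw [stalkToFFOver, Category.assoc]
  change _ = _ ≫ _ ≫ X.presheaf.stalkSpecializes hξx
  rw [← Scheme.Hom.stalkSpecializes_stalkMap f _ _ hξx,
    TopCat.Presheaf.stalkSpecializes_comp_assoc]

omit [IsIntegral Y] in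
/-- **EGA II 7.3.10 (i).** Existence part of the valuative criterion from valuation subrings of the
function field: if every valuation subring of `K(X)` dominating a local ring of `Y` dominates a
local ring of `X`, then `f` satisfies the existence part of the valuative criterion. -/
theorem existence_of_forall_valuationSubring (f : X ⟶ Y)
    (h : ∀ (V : ValuationSubring X.functionField) (y : Y) (hy : f (genericPoint X) ⤳ y),
      Dom V (stalkToFFOver f y hy).hom →
      ∃ x : X, Dom V (algebraMap (X.presheaf.stalk x) X.functionField)) :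
    ValuativeCriterion.Existence f := by
  intro sq
  let ρ : CommRingCat.of sq.R ⟶ CommRingCat.of sq.K := CommRingCat.ofHom (algebraMap sq.R sq.K)
  have hcomm : sq.i₁ ≫ f = Spec.map ρ ≫ sq.i₂ := sq.commSq.w
  let x₀ : X := sq.i₁ (closedPoint sq.K)
  let y₀ : Y := sq.i₂ (closedPoint sq.R)
  let φ₁ : X.presheaf.stalk x₀ ⟶ CommRingCat.of sq.K := Scheme.stalkClosedPointTo sq.i₁
  let φ₂ : Y.presheaf.stalk y₀ ⟶ CommRingCat.of sq.R := Scheme.stalkClosedPointTo sq.i₂
  have hφ₁ : IsLocalHom φ₁.hom := inferInstance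
  have hφ₂ : IsLocalHom φ₂.hom := inferInstance
  have hx₀y₀ : f x₀ ⤳ y₀ := by
    have h1 : (Spec.map ρ) (closedPoint sq.K) ⤳ closedPoint sq.R :=
      IsLocalRing.specializes_closedPoint _
    have h2 := h1.map sq.i₂.continuous
    have h3 : f x₀ = sq.i₂ ((Spec.map ρ) (closedPoint sq.K)) := by
      change (sq.i₁ ≫ f) (closedPoint sq.K) = (Spec.map ρ ≫ sq.i₂) (closedPoint sq.K)
      rw [hcomm]
    rw [h3]; exact h2
  have hξx₀ : genericPoint X ⤳ x₀ := (genericPoint_spec X).specializes trivial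
  have hy₀ : f (genericPoint X) ⤳ y₀ := (hξx₀.map f.continuous).trans hx₀y₀
  let ψ : Y.presheaf.stalk y₀ ⟶ X.presheaf.stalk x₀ :=
    Y.presheaf.stalkSpecializes hx₀y₀ ≫ f.stalkMap x₀
  -- the bridge identity
  have hbridge : ψ ≫ φ₁ = φ₂ ≫ ρ := by
    have := stalkSpecializes_stalkClosedPointTo ρ sq.i₂ (sq.i₁ ≫ f) hcomm hx₀y₀
    rw [Scheme.stalkClosedPointTo_comp] at this
    rw [Category.assoc]
    exact this
  have hbridge' : ∀ a, φ₁.hom (ψ.hom a) = algebraMap sq.R sq.K (φ₂.hom a) := fun a ↦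
    congrArg (fun g ↦ g.hom a) hbridge
  -- residue field of `x₀` and the restriction of `R` to it
  let φ₁' : ResidueField (X.presheaf.stalk x₀) →+* sq.K := ResidueField.lift φ₁.hom
  have hφ₁' : ∀ a, φ₁' (residue _ a) = φ₁.hom a := fun a ↦ ResidueField.lift_residue_apply _ a
  let R₀ : ValuationSubring (ResidueField (X.presheaf.stalk x₀)) := restrictVal (R := sq.R) φ₁'
  -- a valuation ring `V₁` of `K(X)` dominating `O_{X,x₀}`
  obtain ⟨V₁, hV₁, hV₁loc⟩ := IsLocalRing.exists_factor_valuationRing (stalkToFF X x₀).hom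
  let θ₁ : X.presheaf.stalk x₀ →+* V₁ := (stalkToFF X x₀).hom.codRestrict V₁.toSubring hV₁
  have hθ₁loc : IsLocalHom θ₁ := hV₁loc
  let θ₁' : ResidueField (X.presheaf.stalk x₀) →+* ResidueField V₁ := ResidueField.map θ₁
  have hθ₁' : ∀ a, θ₁' (residue _ a) = residue V₁ (θ₁ a) := fun a ↦ ResidueField.map_residue θ₁ a
  -- a valuation ring `V₂` of the residue field of `V₁` dominating `R₀`
  obtain ⟨V₂, hV₂, hV₂loc⟩ := IsLocalRing.exists_factor_valuationRing (θ₁'.comp R₀.subtype)
  have V2a : ∀ c, c ∈ R₀ → θ₁' c ∈ V₂ := fun c hc ↦ hV₂ ⟨c, hc⟩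
  have V2b : ∀ c, c ∈ R₀ → R₀.valuation c < 1 → V₂.valuation (θ₁' c) < 1 := by
    intro c hc hlt
    have h1 : (⟨c, hc⟩ : R₀) ∈ maximalIdeal R₀ := (R₀.valuation_lt_one_iff ⟨c, hc⟩).mpr hlt
    have h2 : ¬ IsUnit (⟨c, hc⟩ : R₀) := (mem_maximalIdeal _).mp h1
    have h3 : ¬ IsUnit ((θ₁'.comp R₀.subtype).codRestrict V₂.toSubring hV₂ ⟨c, hc⟩) :=
      fun hu ↦ h2 (hV₂loc.map_nonunit _ hu)
    have h4 := (V₂.valuation_lt_one_iff _).mp ((mem_maximalIdeal _).mpr h3)
    exact h4
  have V2c : ∀ c, θ₁' c ∈ V₂ → c ∈ R₀ := by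
    intro c hc
    by_contra hcR
    have hc0 : c ≠ 0 := by rintro rfl; exact hcR R₀.zero_mem
    have hinv : c⁻¹ ∈ R₀ := (R₀.mem_or_inv_mem c).resolve_left hcR
    have hlt : R₀.valuation c⁻¹ < 1 := by
      rw [← ValuationSubring.mem_nonunits_iff, ValuationSubring.inv_mem_nonunits_iff]
      exact Or.inr hcR
    have h1 := V2b _ hinv hlt
    have h2 : V₂.valuation (θ₁' c) ≤ 1 := (V₂.valuation_le_one_iff _).mpr hc
    have h3 : V₂.valuation (θ₁' c) * V₂.valuation (θ₁' c⁻¹) = 1 := by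
      rw [← map_mul, ← map_mul, mul_inv_cancel₀ hc0, map_one, map_one]
    have h4 : V₂.valuation (θ₁' c) * V₂.valuation (θ₁' c⁻¹) < 1 := by
      calc V₂.valuation (θ₁' c) * V₂.valuation (θ₁' c⁻¹)
          ≤ 1 * V₂.valuation (θ₁' c⁻¹) := mul_le_mul_left h2 _
        _ = V₂.valuation (θ₁' c⁻¹) := one_mul _
        _ < 1 := h1
    exact absurd h3 h4.ne
  -- the composite valuation ring
  let V₃ : ValuationSubring X.functionField := composite V₁ V₂
  -- residues of elements of `O_{X,x₀}` in the residue field of `V₁`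
  have hres : ∀ (b : X.presheaf.stalk x₀) (hb : (stalkToFF X x₀).hom b ∈ V₁),
      residue V₁ ⟨(stalkToFF X x₀).hom b, hb⟩ = θ₁' (residue _ b) := by
    intro b hb
    rw [hθ₁']
    rfl
  -- `V₃` dominates `O_{Y,y₀}`
  have hdomY : Dom V₃ (stalkToFFOver f y₀ hy₀).hom := by
    rw [stalkToFFOver_eq f x₀ y₀ hx₀y₀ hy₀]
    have hmemR₀ : ∀ a, residue _ (ψ.hom a) ∈ R₀ := by
      intro a
      refine ⟨φ₂.hom a, ?_⟩
      rw [hφ₁', hbridge']
    constructor
    · intro a
      change (stalkToFF X x₀).hom (ψ.hom a) ∈ V₃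
      rw [mem_composite]
      refine ⟨hV₁ _, ?_⟩
      rw [hres]
      exact V2a _ (hmemR₀ a)
    · intro a ha
      change V₃.valuation ((stalkToFF X x₀).hom (ψ.hom a)) < 1
      apply valuation_composite_lt_one V₁ V₂ (hV₁ _)
      rw [hres]
      apply V2b _ (hmemR₀ a)
      refine valuation_restrictVal_lt_one (R := sq.R) φ₁' (r := φ₂.hom a) ?_ ?_
      · rw [hφ₁', hbridge']
      · exact fun hu ↦ ((mem_maximalIdeal _).mp ha) (hφ₂.map_nonunit _ hu)
  obtain ⟨x₃, hx₃, -⟩ := h V₃ y₀ hy₀ hdomY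
  -- `x₃` is a specialization of `x₀`
  have hx₃V₁ : ∀ a, (stalkToFF X x₃).hom a ∈ V₁ := fun a ↦ composite_le V₁ V₂ (hx₃ a)
  have hx₀x₃ : x₀ ⤳ x₃ := by
    have key := SpecMap_comp_fromSpecStalk_eq X (R := CommRingCat.of V₁)
      (CommRingCat.ofHom ((stalkToFF X x₃).hom.codRestrict V₁.toSubring hx₃V₁))
      (CommRingCat.ofHom θ₁) (CommRingCat.ofHom V₁.subtype) Subtype.val_injective
      (by ext a; rfl) (by ext a; rfl)
    let pt : ↥(Spec (CommRingCat.of V₁)) := closedPoint V₁
    have h1 : (Spec.map (CommRingCat.ofHom θ₁) ≫ X.fromSpecStalk x₀) pt = x₀ := by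
      rw [Scheme.Hom.comp_apply]
      have : (Spec.map (CommRingCat.ofHom θ₁)) pt =
          closedPoint (X.presheaf.stalk x₀) := IsLocalRing.comap_closedPoint θ₁
      rw [this, Scheme.fromSpecStalk_closedPoint]
    have h1' := (congrArg (fun g : Spec (CommRingCat.of V₁) ⟶ X ↦ g pt) key).trans h1
    have h2 : x₀ ∈ Set.range (X.fromSpecStalk x₃) := ⟨_, h1'⟩
    rw [Scheme.range_fromSpecStalk] at h2
    exact h2
  let σ : X.presheaf.stalk x₃ ⟶ X.presheaf.stalk x₀ := X.presheaf.stalkSpecializes hx₀x₃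
  have hσ : ∀ a, (stalkToFF X x₃).hom a = (stalkToFF X x₀).hom (σ.hom a) := by
    intro a
    have : stalkToFF X x₃ = σ ≫ stalkToFF X x₀ :=
      (TopCat.Presheaf.stalkSpecializes_comp _ _ _).symm
    rw [this]; rfl
  -- the induced map `O_{X,x₃} ⟶ R`
  have hlam : ∀ a, (σ ≫ φ₁).hom a ∈ (algebraMap sq.R sq.K).range := by
    intro a
    have h1 : (stalkToFF X x₃).hom a ∈ V₃ := hx₃ a
    rw [hσ] at h1
    obtain ⟨hb, h2⟩ := (mem_composite V₁ V₂).mp h1
    rw [hres] at h2
    obtain ⟨r, hr⟩ := V2c _ h2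
    exact ⟨r, by rw [hr, hφ₁']; rfl⟩
  let e : sq.R ≃+* (algebraMap sq.R sq.K).range :=
    RingEquiv.ofBijective (algebraMap sq.R sq.K).rangeRestrict
      ⟨fun a b hab ↦ IsFractionRing.injective sq.R sq.K (congrArg Subtype.val hab),
        (algebraMap sq.R sq.K).rangeRestrict_surjective⟩
  let lam : X.presheaf.stalk x₃ →+* sq.R :=
    e.symm.toRingHom.comp ((σ ≫ φ₁).hom.codRestrict _ hlam)
  have hlamρ : CommRingCat.ofHom lam ≫ ρ = σ ≫ φ₁ := by
    ext a
    change algebraMap sq.R sq.K (e.symm ⟨(σ ≫ φ₁).hom a, hlam a⟩) = (σ ≫ φ₁).hom a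
    exact congrArg Subtype.val (e.apply_symm_apply ⟨(σ ≫ φ₁).hom a, hlam a⟩)
  let l : Spec (CommRingCat.of sq.R) ⟶ X := Spec.map (CommRingCat.ofHom lam) ≫ X.fromSpecStalk x₃
  have hl₁ : Spec.map ρ ≫ l = sq.i₁ := by
    change Spec.map ρ ≫ Spec.map (CommRingCat.ofHom lam) ≫ X.fromSpecStalk x₃ = sq.i₁
    rw [← Spec.map_comp_assoc, hlamρ, Spec.map_comp_assoc,
      Scheme.SpecMap_stalkSpecializes_fromSpecStalk]
    exact Scheme.Spec_stalkClosedPointTo_fromSpecStalk sq.i₁
  have hl₂ : l ≫ f = sq.i₂ := by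
    have := isDominant_SpecMap_of_injective ρ (IsFractionRing.injective sq.R sq.K)
    apply ext_of_isDominant (Spec.map ρ)
    rw [← Category.assoc, hl₁, hcomm]
  exact ⟨⟨⟨l, hl₁, hl₂⟩⟩⟩


end core

end Groth.Agent.Lib.ValCenter
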