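/-
helper85: EGA II 7.3.10 (ii): over a locally Noetherian base, centers of valuation rings of the
function field can be tested on discrete valuation rings.
-/
import Groth.Agent.Lib.ValCenter
import Groth.Agent.Lib.DvrDominating

set_option autoImplicit false
universe u
open CategoryTheory CategoryTheory.Limits AlgebraicGeometry IsLocalRing

namespace Groth.Agent.Lib.ValCenter

open Groth.Agent.Lib.FunctionFieldDom

/-- **Approximating a valuation ring by a discrete valuation ring.** Let `A₀` be a Noetherian local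
ring, `F` a field essentially of finite type over `A₀`, `V` a valuation ring of `F` dominating
`A₀`, and `G` a finite set of nonunits of `V` (containing a nonzero element). Then there is a
discrete valuation ring of `F` dominating `A₀` in which all elements of `G` are nonunits. -/
theorem exists_dvr_dom_of_valuationSubring (A₀ : Type u) [CommRing A₀] [IsNoetherianRing A₀]
    [IsLocalRing A₀] (F : Type u) [Field F] [Algebra A₀ F] [Algebra.EssFiniteType A₀ F]
    (V : ValuationSubring F) (hV : Dom V (algebraMap A₀ F)) (G : Finset F)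
    (hG : ∀ t ∈ G, V.valuation t < 1) (hG0 : ∃ t ∈ G, t ≠ 0) :
    ∃ A' : ValuationSubring F, IsDiscreteValuationRing A' ∧ Dom A' (algebraMap A₀ F) ∧
      ∀ t ∈ G, A'.valuation t < 1 := by
  classical
  let S : Subalgebra A₀ F := Algebra.adjoin A₀ (G : Set F)
  have hSfg : S.FG := Subalgebra.fg_adjoin_finset G
  have hft : Algebra.FiniteType A₀ S := (Subalgebra.fg_iff_finiteType S).mp hSfg
  have hSn : IsNoetherianRing S := Algebra.FiniteType.isNoetherianRing A₀ S
  have hSV : ∀ s : S, (s : F) ∈ V := by
    rintro ⟨s, hs⟩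
    refine Algebra.adjoin_induction (p := fun x _ ↦ x ∈ V) ?_ ?_ ?_ ?_ hs
    · intro t ht
      exact (V.valuation_le_one_iff t).mp (hG t ht).le
    · intro a; exact hV.1 a
    · intro x y _ _ hx hy; exact V.add_mem _ _ hx hy
    · intro x y _ _ hx hy; exact V.mul_mem _ _ hx hy
  let β : S →+* V := S.val.toRingHom.codRestrict V.toSubring hSV
  let 𝔭 : Ideal S := (maximalIdeal V).comap β
  have h𝔭 : 𝔭.IsPrime := Ideal.comap_isPrime β _
  have hmem𝔭 : ∀ s : S, s ∈ 𝔭 ↔ V.valuation (s : F) < 1 := by
    intro s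
    change β s ∈ maximalIdeal V ↔ _
    rw [V.valuation_lt_one_iff]
    rfl
  let R₁ := Localization.AtPrime 𝔭
  have hR₁n : IsNoetherianRing R₁ := IsLocalization.isNoetherianRing 𝔭.primeCompl R₁ hSn
  have hunit : ∀ y : 𝔭.primeCompl, IsUnit (S.val.toRingHom y) := by
    intro y
    refine isUnit_iff_ne_zero.mpr ?_
    intro h0
    refine y.2 ((hmem𝔭 y.1).mpr ?_)
    change V.valuation (S.val.toRingHom y) < 1
    rw [h0, map_zero]; exact zero_lt_one
  let lam : R₁ →+* F := IsLocalization.lift (M := 𝔭.primeCompl) (g := S.val.toRingHom) hunit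
  have hlam : ∀ s : S, lam (algebraMap S R₁ s) = (s : F) := fun s ↦ IsLocalization.lift_eq hunit s
  let _ : Algebra R₁ F := lam.toAlgebra
  have htower : IsScalarTower A₀ R₁ F := by
    refine IsScalarTower.of_algebraMap_eq fun a ↦ ?_
    change algebraMap A₀ F a = lam (algebraMap A₀ R₁ a)
    rw [IsScalarTower.algebraMap_apply A₀ S R₁, hlam]
    rfl
  have hess : Algebra.EssFiniteType R₁ F := Algebra.EssFiniteType.of_comp A₀ R₁ F
  have hmax : ∀ s : S, s ∈ 𝔭 → algebraMap S R₁ s ∈ maximalIdeal R₁ := fun s hs ↦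
    (IsLocalization.AtPrime.to_map_mem_maximal_iff R₁ 𝔭 s).mpr hs
  have hGS : ∀ t ∈ G, t ∈ S := fun t ht ↦ Algebra.subset_adjoin ht
  have hR : ∃ t ∈ maximalIdeal R₁, algebraMap R₁ F t ≠ 0 := by
    obtain ⟨t, ht, ht0⟩ := hG0
    refine ⟨algebraMap S R₁ ⟨t, hGS t ht⟩, hmax _ ((hmem𝔭 _).mpr (hG t ht)), ?_⟩
    change lam _ ≠ 0
    rw [hlam]; exact ht0
  obtain ⟨A', hA', hmemA', hlocA'⟩ :=
    Groth.Agent.Lib.DvrDominating.exists_dvr_dominating R₁ F hR
  -- nonunits of `R₁` are nonunits of `A'`
  have hnon : ∀ r ∈ maximalIdeal R₁, A'.valuation (algebraMap R₁ F r) < 1 := by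
    intro r hr
    have h1 : ¬ IsUnit ((algebraMap R₁ F).codRestrict A'.toSubring hmemA' r) :=
      fun hu ↦ ((mem_maximalIdeal _).mp hr) (hlocA'.map_nonunit _ hu)
    exact (A'.valuation_lt_one_iff _).mp ((mem_maximalIdeal _).mpr h1)
  refine ⟨A', hA', ⟨fun a ↦ ?_, fun a ha ↦ ?_⟩, fun t ht ↦ ?_⟩
  · rw [IsScalarTower.algebraMap_apply A₀ R₁ F]
    exact hmemA' _
  · rw [IsScalarTower.algebraMap_apply A₀ R₁ F]
    apply hnon
    rw [IsScalarTower.algebraMap_apply A₀ S R₁]
    apply hmax
    rw [hmem𝔭]
    exact hV.2 a ha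
  · have := hnon _ (hmax ⟨t, hGS t ht⟩ ((hmem𝔭 _).mpr (hG t ht)))
    change A'.valuation (lam _) < 1 at this
    rwa [hlam] at this

/-- Generization maps of stalks are essentially of finite type (they are localizations). -/
lemma essFiniteType_stalkSpecializes {Y : Scheme.{u}} {y y' : Y} (h : y' ⤳ y) :
    (Y.presheaf.stalkSpecializes h).hom.EssFiniteType := by
  obtain ⟨_, ⟨W, hW, rfl⟩, hyW, -⟩ :=
    Y.isBasis_affineOpens.exists_subset_of_mem_open (Set.mem_univ y) isOpen_univ
  have hy'W : y' ∈ W := h.mem_open W.2 hyW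
  have hcomp : (Y.presheaf.stalkSpecializes h).hom.comp (Y.presheaf.germ W y hyW).hom =
      (Y.presheaf.germ W y' hy'W).hom := by
    rw [← CommRingCat.hom_comp, TopCat.Presheaf.germ_stalkSpecializes]
  refine RingHom.EssFiniteType.of_comp (Y.presheaf.germ W y hyW).hom ?_
  rw [hcomp]
  let _ : Algebra Γ(Y, W) (Y.presheaf.stalk y') := Y.presheaf.algebra_section_stalk ⟨y', hy'W⟩
  have hloc := hW.isLocalization_stalk ⟨y', hy'W⟩
  have : Algebra.EssFiniteType Γ(Y, W) (Y.presheaf.stalk y') :=
    Algebra.EssFiniteType.of_isLocalization _ (hW.primeIdealOf ⟨y', hy'W⟩).asIdeal.primeCompl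
  exact RingHom.essFiniteType_algebraMap.mpr this

variable {X : Scheme.{u}} [IsIntegral X]

/-- Lemma A': a morphism `Spec V ⟶ X` extending the generic point gives a center of `V`. -/
lemma dom_of_specMap (V : ValuationSubring X.functionField)
    (m : Spec (CommRingCat.of V) ⟶ X)
    (hm : Spec.map (CommRingCat.ofHom V.subtype) ≫ m = X.fromSpecStalk (genericPoint X)) :
    Dom V (algebraMap (X.presheaf.stalk (m (closedPoint V))) X.functionField) := by
  let x : X := m (closedPoint V)
  let g : Spec X.functionField ⟶ X := X.fromSpecStalk (genericPoint X)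
  have hgpt : g (closedPoint X.functionField) = genericPoint X := Scheme.fromSpecStalk_closedPoint
  have hsp : g (closedPoint X.functionField) ⤳ m (closedPoint (CommRingCat.of V)) := by
    rw [hgpt]; exact (genericPoint_spec X).specializes trivial
  have key := stalkSpecializes_stalkClosedPointTo (CommRingCat.ofHom V.subtype) m g hm.symm hsp
  have h2 : X.presheaf.stalkSpecializes hsp ≫ Scheme.stalkClosedPointTo g = stalkToFF X x := by
    change _ ≫ Scheme.stalkClosedPointTo (X.fromSpecStalk (genericPoint X)) = _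
    rw [Scheme.stalkClosedPointTo_fromSpecStalk, TopCat.Presheaf.stalkCongr_hom,
      TopCat.Presheaf.stalkSpecializes_comp]
  rw [h2] at key
  have hloc : IsLocalHom (Scheme.stalkClosedPointTo m).hom := inferInstance
  have hval : ∀ a, algebraMap (X.presheaf.stalk x) X.functionField a =
      ((Scheme.stalkClosedPointTo m).hom a : V) := by
    intro a
    rw [algebraMap_eq, key]
    rfl
  constructor
  · intro a
    rw [hval]
    exact ((Scheme.stalkClosedPointTo m).hom a).2
  · intro a ha
    rw [hval]
    apply (V.valuation_lt_one_iff _).mp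
    rw [mem_maximalIdeal]
    intro hu
    exact ((mem_maximalIdeal _).mp ha) (hloc.map_nonunit _ hu)

/-- Lemma A: if all sections over an affine open `U` (containing the generic point) lie in `V`,
then `V` has a center in `U`. -/
lemma exists_dom_of_germ_mem (V : ValuationSubring X.functionField) {U : X.Opens}
    (hU : IsAffineOpen U) (hξ : genericPoint X ∈ U)
    (hmem : ∀ c : Γ(X, U), (X.presheaf.germ U (genericPoint X) hξ).hom c ∈ V) :
    ∃ x ∈ U, Dom V (algebraMap (X.presheaf.stalk x) X.functionField) := by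
  let γ : Γ(X, U) →+* V :=
    (X.presheaf.germ U (genericPoint X) hξ).hom.codRestrict V.toSubring hmem
  let m : Spec (CommRingCat.of V) ⟶ X := Spec.map (CommRingCat.ofHom γ) ≫ hU.fromSpec
  have hm : Spec.map (CommRingCat.ofHom V.subtype) ≫ m = X.fromSpecStalk (genericPoint X) := by
    rw [← hU.fromSpecStalk_eq_fromSpecStalk hξ, IsAffineOpen.fromSpecStalk]
    change _ ≫ Spec.map _ ≫ _ = _
    rw [← Spec.map_comp_assoc]
    congr 2
  refine ⟨m (closedPoint V), ?_, dom_of_specMap V m hm⟩
  have : m (closedPoint V) ∈ Set.range hU.fromSpec := by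
    change (Spec.map (CommRingCat.ofHom γ) ≫ hU.fromSpec) _ ∈ _
    rw [Scheme.Hom.comp_apply]
    exact ⟨_, rfl⟩
  rw [hU.range_fromSpec] at this
  exact this

/-- Lemma B: if `V` dominates the local ring at `x ∈ U`, then sections over `U` lie in `V`. -/
lemma germ_mem_of_dom (V : ValuationSubring X.functionField) {U : X.Opens} {x : X} (hx : x ∈ U)
    (hξ : genericPoint X ∈ U)
    (hV : Dom V (algebraMap (X.presheaf.stalk x) X.functionField)) (c : Γ(X, U)) :
    (X.presheaf.germ U (genericPoint X) hξ).hom c ∈ V := by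
  have h1 : (X.presheaf.germ U (genericPoint X) hξ).hom c =
      algebraMap (X.presheaf.stalk x) X.functionField ((X.presheaf.germ U x hx).hom c) := by
    rw [algebraMap_eq]
    have := TopCat.Presheaf.germ_stalkSpecializes X.presheaf hx
      ((genericPoint_spec X).specializes trivial : genericPoint X ⤳ x)
    exact (congrArg (fun g ↦ g.hom c) this).symm
  rw [h1]
  exact hV.1 _

/-- The codomain restriction of a dominated map is local. -/
lemma Dom.isLocalHom {A F : Type u} [CommRing A] [IsLocalRing A] [Field F]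
    {V : ValuationSubring F} {j : A →+* F} (h : Dom V j) :
    IsLocalHom (j.codRestrict V.toSubring h.1) := by
  constructor
  intro a ha
  by_contra hnu
  have h1 : a ∈ maximalIdeal A := (mem_maximalIdeal _).mpr hnu
  have h2 := h.2 a h1
  have h3 : (⟨j a, h.1 a⟩ : V) ∈ maximalIdeal V :=
    (V.valuation_lt_one_iff _).mpr h2
  exact ((mem_maximalIdeal _).mp h3) ha

/-- Lemma C: a valuation ring has at most one center on a separated scheme. -/
lemma map_eq_of_dom {Y : Scheme.{u}} [Y.IsSeparated] (f : X ⟶ Y)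
    (V : ValuationSubring X.functionField) (x : X) (y : Y) (hy : f (genericPoint X) ⤳ y)
    (hx : Dom V (algebraMap (X.presheaf.stalk x) X.functionField))
    (hyV : Dom V (stalkToFFOver f y hy).hom) : f x = y := by
  let θx : X.presheaf.stalk x →+* V :=
    (algebraMap (X.presheaf.stalk x) X.functionField).codRestrict V.toSubring hx.1
  let θy : Y.presheaf.stalk y →+* V := (stalkToFFOver f y hy).hom.codRestrict V.toSubring hyV.1
  have hθx : IsLocalHom θx := hx.isLocalHom
  have hθy : IsLocalHom θy := hyV.isLocalHom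
  let ρ : CommRingCat.of V ⟶ X.functionField := CommRingCat.ofHom V.subtype
  let a : Spec (CommRingCat.of V) ⟶ Y := Spec.map (CommRingCat.ofHom θx) ≫ X.fromSpecStalk x ≫ f
  let b : Spec (CommRingCat.of V) ⟶ Y := Spec.map (CommRingCat.ofHom θy) ≫ Y.fromSpecStalk y
  have hab : a = b := by
    have := isDominant_SpecMap_of_injective ρ Subtype.val_injective
    apply ext_of_isDominant (Spec.map ρ)
    have h1 : Spec.map ρ ≫ a = X.fromSpecStalk (genericPoint X) ≫ f := by
      change Spec.map ρ ≫ Spec.map (CommRingCat.ofHom θx) ≫ X.fromSpecStalk x ≫ f = _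
      rw [← Spec.map_comp_assoc]
      have : CommRingCat.ofHom θx ≫ ρ = stalkToFF X x := by ext c; rfl
      rw [this, Scheme.SpecMap_stalkSpecializes_fromSpecStalk_assoc]
    have h2 : Spec.map ρ ≫ b = X.fromSpecStalk (genericPoint X) ≫ f := by
      change Spec.map ρ ≫ Spec.map (CommRingCat.ofHom θy) ≫ Y.fromSpecStalk y = _
      rw [← Spec.map_comp_assoc]
      have : CommRingCat.ofHom θy ≫ ρ = stalkToFFOver f y hy := by ext c; rfl
      rw [this, stalkToFFOver, Spec.map_comp_assoc,
        Scheme.SpecMap_stalkSpecializes_fromSpecStalk, Scheme.SpecMap_stalkMap_fromSpecStalk]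
    rw [h1, h2]
  let pt : ↥(Spec (CommRingCat.of V)) := closedPoint V
  have ha : a pt = f x := by
    change (Spec.map (CommRingCat.ofHom θx) ≫ X.fromSpecStalk x ≫ f) pt = f x
    rw [Scheme.Hom.comp_apply, Scheme.Hom.comp_apply]
    have : (Spec.map (CommRingCat.ofHom θx)) pt = closedPoint (X.presheaf.stalk x) :=
      IsLocalRing.comap_closedPoint θx
    rw [this, Scheme.fromSpecStalk_closedPoint]
  have hb : b pt = y := by
    change (Spec.map (CommRingCat.ofHom θy) ≫ Y.fromSpecStalk y) pt = y
    rw [Scheme.Hom.comp_apply]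
    have : (Spec.map (CommRingCat.ofHom θy)) pt = closedPoint (Y.presheaf.stalk y) :=
      IsLocalRing.comap_closedPoint θy
    rw [this, Scheme.fromSpecStalk_closedPoint]
  rw [← ha, hab, hb]

/-- **EGA II 7.3.10 (ii), key step.** Over a locally Noetherian base, if every discrete valuation
ring of `K(X)` dominating a local ring of `Y` has a center on `X`, then so does every valuation
ring of `K(X)` dominating a local ring of `Y`. -/
theorem exists_dom_of_forall_dvr {Y : Scheme.{u}} [Y.IsSeparated]
    [IsLocallyNoetherian Y] (f : X ⟶ Y) [LocallyOfFiniteType f] [QuasiCompact f]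
    (h : ∀ (R : ValuationSubring X.functionField), IsDiscreteValuationRing R →
      ∀ (y : Y) (hy : f (genericPoint X) ⤳ y), Dom R (stalkToFFOver f y hy).hom →
        ∃ x : X, Dom R (algebraMap (X.presheaf.stalk x) X.functionField))
    (V : ValuationSubring X.functionField) (y : Y) (hy : f (genericPoint X) ⤳ y)
    (hV : Dom V (stalkToFFOver f y hy).hom) :
    ∃ x : X, Dom V (algebraMap (X.presheaf.stalk x) X.functionField) := by
  classical
  by_contra hno
  push Not at hno
  obtain ⟨_, ⟨W, hW, rfl⟩, hyW, -⟩ :=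
    Y.isBasis_affineOpens.exists_subset_of_mem_open (Set.mem_univ y) isOpen_univ
  have hcpt : IsCompact (f ⁻¹ᵁ W : Set X) := f.isCompact_preimage hW.isCompact
  obtain ⟨s, hs, hsU⟩ := isCompact_iff_finite_and_eq_biUnion_affineOpens.mp hcpt
  have hcover : ∀ x : X, f x ∈ W → ∃ U ∈ s, x ∈ U.1 := by
    intro x hx
    have : x ∈ f ⁻¹ᵁ W := hx
    rw [hsU] at this
    simpa [TopologicalSpace.Opens.mem_iSup] using this
  -- for each affine open in `s` containing `ξ`, choose a section whose germ is not in `V`
  have hex : ∀ (U : X.affineOpens) (hξU : genericPoint X ∈ U.1),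
      ∃ c : Γ(X, U.1), (X.presheaf.germ U.1 (genericPoint X) hξU).hom c ∉ V := by
    intro U hξU
    by_contra hall
    push Not at hall
    obtain ⟨x, -, hx⟩ := exists_dom_of_germ_mem V U.2 hξU hall
    exact hno x hx
  choose c hc using hex
  let t : X.affineOpens → X.functionField := fun U ↦
    if hξU : genericPoint X ∈ U.1 then
      ((X.presheaf.germ U.1 (genericPoint X) hξU).hom (c U hξU))⁻¹ else 0
  let G : Finset X.functionField := hs.toFinset.image t
  have hG : ∀ a ∈ G, V.valuation a < 1 := by
    intro a ha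
    obtain ⟨U, -, rfl⟩ := Finset.mem_image.mp ha
    by_cases hξU : genericPoint X ∈ U.1
    · simp only [t, dif_pos hξU]
      rw [← ValuationSubring.mem_nonunits_iff, ValuationSubring.inv_mem_nonunits_iff]
      exact Or.inr (hc U hξU)
    · simp only [t, dif_neg hξU]
      rw [map_zero]; exact zero_lt_one
  have hG0 : ∃ a ∈ G, a ≠ 0 := by
    obtain ⟨U, hUs, hξU⟩ := hcover (genericPoint X) (hy.mem_open W.2 hyW)
    refine ⟨t U, Finset.mem_image_of_mem t (hs.mem_toFinset.mpr hUs), ?_⟩
    simp only [t, dif_pos hξU]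
    refine inv_ne_zero fun h0 ↦ hc U hξU ?_
    rw [h0]; exact V.zero_mem
  let _ : Algebra (Y.presheaf.stalk y) X.functionField := (stalkToFFOver f y hy).hom.toAlgebra
  have hess : Algebra.EssFiniteType (Y.presheaf.stalk y) X.functionField := by
    have h1 : (stalkToFFOver f y hy).hom.EssFiniteType := by
      rw [stalkToFFOver, CommRingCat.hom_comp]
      exact (essFiniteType_stalkSpecializes hy).comp
        (LocallyOfFiniteType.stalkMap f (genericPoint X))
    exact h1
  obtain ⟨A', hA', hdomA', hGA'⟩ :=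
    exists_dvr_dom_of_valuationSubring (Y.presheaf.stalk y) X.functionField V hV G hG hG0
  obtain ⟨x, hx⟩ := h A' hA' y hy hdomA'
  have hfx : f x = y := map_eq_of_dom f A' x y hy hx hdomA'
  obtain ⟨U, hUs, hxU⟩ := hcover x (hfx ▸ hyW)
  have hξU : genericPoint X ∈ U.1 :=
    ((genericPoint_spec X).specializes trivial : genericPoint X ⤳ x).mem_open U.1.2 hxU
  have h1 := germ_mem_of_dom A' hxU hξU hx (c U hξU)
  have h2 := hGA' (t U) (Finset.mem_image_of_mem t (hs.mem_toFinset.mpr hUs))
  simp only [t, dif_pos hξU] at h2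
  rw [← ValuationSubring.mem_nonunits_iff, ValuationSubring.inv_mem_nonunits_iff] at h2
  rcases h2 with h0 | hnot
  · apply hc U hξU
    rw [h0]; exact V.zero_mem
  · exact hnot h1

end Groth.Agent.Lib.ValCenter
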