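import Mathlib
import Groth.Agent.Lib.ExtVal2
import Groth.Agent.Lib.ValCenter2
import Groth.Agent.Lib.H71GeomRedAt

/-!
# Local rings of a normal complete curve are the valuation rings of its function field
-/

set_option autoImplicit false

universe u

open CategoryTheory CategoryTheory.Limits AlgebraicGeometry TopologicalSpace IsLocalRing

namespace Groth.Agent.Lib.CurveValRings

open Groth.Agent.Lib.ValCenter Groth.Agent.Lib.FunctionFieldDom

section alg

variable (A K : Type u) [CommRing A] [IsDomain A] [ValuationRing A] [Field K] [Algebra A K]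
  [IsFractionRing A K]

/-- The image of a valuation ring in its fraction field, as a valuation subring. -/
noncomputable def rangeVS : ValuationSubring K :=
  { (algebraMap A K).range with
    mem_or_inv_mem' := fun a => by
      rcases ValuationRing.isInteger_or_isInteger A a with ⟨r, hr⟩ | ⟨r, hr⟩
      · exact Or.inl ⟨r, hr⟩
      · exact Or.inr ⟨r, hr⟩ }

lemma coe_rangeVS : ((rangeVS A K : ValuationSubring K) : Set K) = Set.range (algebraMap A K) := rfl

variable {A K}

/-- A valuation subring dominating a valuation ring `A` with fraction field `K` equals `A`. -/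
lemma coe_eq_range_of_dom (R : ValuationSubring K) (h : Dom R (algebraMap A K)) :
    (R : Set K) = Set.range (algebraMap A K) := by
  ext b
  constructor
  · intro hb
    by_cases hb0 : b = 0
    · exact ⟨0, by rw [map_zero, hb0]⟩
    rcases ValuationRing.isInteger_or_isInteger A b with ⟨r, hr⟩ | ⟨r, hr⟩
    · exact ⟨r, hr⟩
    · by_cases hu : IsUnit r
      · obtain ⟨u, rfl⟩ := hu
        refine ⟨(↑u⁻¹ : A), ?_⟩
        have h1 : (algebraMap A K) (↑u⁻¹ : A) = ((algebraMap A K) ↑u)⁻¹ := map_units_inv _ u
        rw [h1]
        change (algebraMap A K) ↑u = b⁻¹ at hr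
        rw [hr, inv_inv]
      · exfalso
        have h1 : r ∈ maximalIdeal A := hu
        have h2 := h.2 r h1
        change (algebraMap A K) r = b⁻¹ at hr
        rw [hr, map_inv₀] at h2
        have h3 : R.valuation b ≤ 1 := (R.valuation_le_one_iff b).mpr hb
        have h4 : R.valuation b ≠ 0 := (R.valuation.ne_zero_iff).mpr hb0
        have h5 : 1 < R.valuation b := by
          have := (inv_lt_one₀ (zero_lt_iff.mpr h4)).mp h2
          exact this
        exact absurd h3 (not_le.mpr h5)
  · rintro ⟨a, rfl⟩
    exact h.1 a

end alg

section scheme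

variable (k : Type u) [Field k] (X : Scheme.{u}) [X.Over (Spec (CommRingCat.of k))]
  [IsIntegral X]

attribute [local instance] Curv2.stalkAlgebra

/-- On an integral scheme universally closed over a field `k`, every valuation ring of the
function field containing `k` has a center. -/
theorem exists_dom [UniversallyClosed (X ↘ Spec (CommRingCat.of k))]
    (R : ValuationSubring X.functionField)
    (hk : ∀ c : k, algebraMap k X.functionField c ∈ R) :
    ∃ x : X, Dom R (algebraMap (X.presheaf.stalk x) X.functionField) := by
  have hq : ValuativeCriterion.Existence (X ↘ Spec (CommRingCat.of k)) := by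
    have h : UniversallyClosed (X ↘ Spec (CommRingCat.of k)) := inferInstance
    rw [UniversallyClosed.eq_valuativeCriterion] at h
    exact h.1
  let κ : k →+* R := (Curv2.stalkMap k X (genericPoint X)).codRestrict R.toSubring hk
  let i₁ : Spec (CommRingCat.of X.functionField) ⟶ X := X.fromSpecStalk (genericPoint X)
  let i₂ : Spec (CommRingCat.of R) ⟶ Spec (CommRingCat.of k) := Spec.map (CommRingCat.ofHom κ)
  have hsq : CommSq i₁ (Spec.map (CommRingCat.ofHom (algebraMap R X.functionField)))
      (X ↘ Spec (CommRingCat.of k)) i₂ := by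
    refine ⟨?_⟩
    have h1 : i₁ ≫ (X ↘ Spec (CommRingCat.of k)) =
        Spec.map (CommRingCat.ofHom (Curv2.stalkMap k X (genericPoint X))) :=
      Groth.Agent.Lib.H71GeomRedAt.fromSpecStalk_comp k X (genericPoint X)
    rw [h1]
    change _ = Spec.map _ ≫ Spec.map _
    rw [← Spec.map_comp]
    rfl
  let Sq : ValuativeCommSq (X ↘ Spec (CommRingCat.of k)) :=
    { R := R, K := X.functionField, i₁ := i₁, i₂ := i₂, commSq := hsq }
  obtain ⟨⟨l⟩⟩ := hq Sq
  let m : Spec (CommRingCat.of R) ⟶ X := l.l
  have hm : Spec.map (CommRingCat.ofHom R.subtype) ≫ m = X.fromSpecStalk (genericPoint X) :=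
    l.fac_left
  exact ⟨_, dom_of_specMap R m hm⟩

end scheme

end Groth.Agent.Lib.CurveValRings
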