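import Mathlib
import Groth.Agent.Lib.CurveDeg85b
import Groth.Agent.Lib.CurveDeg85c
import Groth.Agent.Lib.CurveCompl85
import Groth.Agent.Lib.CurveNormFin85
import Groth.Agent.Lib.CurveValRings
import Groth.Agent.Lib.H87Japanese
import Groth.Agent.Lib.DimOneTop42

/-!
# Degree of principal divisors on curves, part d (helper85)

`deg_div_eq_zero`: on an integral scheme `X` of dimension one, proper over a field `K`, every nonzero
rational function `f` satisfies `∑_x [κ(x):K] ord_x f = 0` (sum over closed points). Route: places of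
`K(X)/K` are centred at unique closed points (valuative criterion), `local_formula` at each closed point,
and the degree formula for function fields (helper40's `weak_zeros_formula`).
-/
set_option autoImplicit false
set_option linter.style.haveILetI false
set_option linter.unusedSectionVars false
set_option linter.unusedVariables false
universe u v

namespace Groth.Agent.Lib.CurveDeg85
open CategoryTheory AlgebraicGeometry IsLocalRing

attribute [local instance] Curv2.stalkAlgebra

section scheme
variable (k : Type u) [Field k] (X : Scheme.{u}) [X.Over (Spec (CommRingCat.of k))] [IsIntegral X]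

instance tower_stalk (x : X) : IsScalarTower k (X.presheaf.stalk x) X.functionField :=
  IsScalarTower.of_algebraMap_eq (fun c => by
    change Curv2.stalkMap k X (genericPoint X) c =
      (X.presheaf.stalkSpecializes ((genericPoint_spec X).specializes trivial)).hom
        (Curv2.stalkMap k X x c)
    unfold Curv2.stalkMap
    rw [RingHom.comp_apply, RingHom.comp_apply, ← CommRingCat.comp_apply,
      TopCat.Presheaf.germ_stalkSpecializes])

theorem finite_integralClosure_stalk [LocallyOfFiniteType (X ↘ Spec (CommRingCat.of k))] (x : X) :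
    Module.Finite (X.presheaf.stalk x) (integralClosure (X.presheaf.stalk x) X.functionField) := by
  obtain ⟨_, ⟨V, hV, rfl⟩, hxV, -⟩ :=
    X.isBasis_affineOpens.exists_subset_of_mem_open (Set.mem_univ x) isOpen_univ
  haveI : Nonempty V := ⟨⟨x, hxV⟩⟩
  have h1 := CurveNormFin85.finite_integralClosure_of_lft_field k (X ↘ Spec (CommRingCat.of k))
    V hV X.functionField (inferInstance : FiniteDimensional X.functionField X.functionField)
  letI : Algebra Γ(X, V) (X.presheaf.stalk x) := X.presheaf.algebra_section_stalk ⟨x, hxV⟩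
  haveI := hV.isLocalization_stalk ⟨x, hxV⟩
  haveI : IsScalarTower Γ(X, V) (X.presheaf.stalk x) X.functionField :=
    functionField_isScalarTower (X := X) V (⟨x, hxV⟩ : V)
  exact H87Japanese.finite_integralClosure_of_isLocalization Γ(X, V)
    (hV.primeIdealOf ⟨x, hxV⟩).asIdeal.primeCompl (X.presheaf.stalk x) X.functionField h1

omit [IsIntegral X] in
theorem residueDegree_eq_finrank (x : X) :
    (X ↘ Spec (CommRingCat.of k)).residueDegree x =
      Module.finrank k (ResidueField (X.presheaf.stalk x)) := by
  set c := X ↘ Spec (CommRingCat.of k) with hc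
  set y := c x with hy
  let φ : k →+* (Spec (CommRingCat.of k)).residueField y :=
    ((Scheme.ΓSpecIso (CommRingCat.of k)).inv ≫
      (Spec (CommRingCat.of k)).presheaf.germ ⊤ y trivial ≫
        (Spec (CommRingCat.of k)).residue y).hom
  have hφ : Function.Bijective φ := by
    have h1 := Scheme.Spec.algebraMap_residueFieldIso_inv (CommRingCat.of k) y
    have h2 : φ = ((Scheme.Spec.residueFieldIso (CommRingCat.of k) y).inv).hom.comp
        (algebraMap k y.asIdeal.ResidueField) := by
      change _ = (CommRingCat.ofHom (algebraMap (CommRingCat.of k) y.asIdeal.ResidueField) ≫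
        (Scheme.Spec.residueFieldIso (CommRingCat.of k) y).inv).hom
      rw [h1]
    rw [h2]
    haveI : y.asIdeal.IsMaximal := by
      have : y.asIdeal = ⊥ := by
        have hpr := y.isPrime
        exact (Ideal.eq_bot_or_top y.asIdeal).resolve_right hpr.ne_top
      rw [this]
      exact Ideal.bot_isMaximal
    have h3 : Function.Bijective (algebraMap k y.asIdeal.ResidueField) :=
      ⟨(algebraMap k y.asIdeal.ResidueField).injective,
        Ideal.algebraMap_residueField_surjective y.asIdeal⟩
    exact (ConcreteCategory.bijective_of_isIso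
      (Scheme.Spec.residueFieldIso (CommRingCat.of k) y).inv).comp h3
  unfold Scheme.Hom.residueDegree
  letI := (c.residueFieldMap x).hom.toAlgebra
  symm
  refine Algebra.finrank_eq_of_equiv_equiv (RingEquiv.ofBijective φ hφ)
    (RingEquiv.refl (ResidueField (X.presheaf.stalk x))) ?_
  ext a
  change (c.residueFieldMap x).hom (φ a) = residue _ (Curv2.stalkMap k X x a)
  have h4 : φ a = (Spec (CommRingCat.of k)).Γevaluation y
      ((Scheme.ΓSpecIso (CommRingCat.of k)).inv.hom a) := rfl
  rw [h4]
  have h5 := Scheme.Γevaluation_naturality_apply c x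
    ((Scheme.ΓSpecIso (CommRingCat.of k)).inv.hom a)
  exact h5

open Groth.Agent.Lib.ValCenter Groth.Agent.Lib.FunctionFieldDom in
theorem dom_iff_domPlace (Q : FunFld.Place k X.functionField) (x : X) :
    Dom Q.O (algebraMap (X.presheaf.stalk x) X.functionField) ↔
      DomPlace (X.presheaf.stalk x) X.functionField Q := by
  have hlt : ∀ a : X.functionField, Q.O.valuation a < 1 ↔ Q.1 a < 1 := by
    intro a
    have hequiv : Q.O.valuation.IsEquiv Q.1 :=
      (Valuation.isEquiv_valuation_valuationSubring Q.1).symm
    exact (Valuation.isEquiv_iff_val_lt_one.mp hequiv)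
  constructor
  · rintro ⟨h1, h2⟩
    exact ⟨fun r => h1 r, fun r hr => (hlt _).mp (h2 r hr)⟩
  · rintro ⟨h1, h2⟩
    exact ⟨fun r => h1 r, fun r hr => (hlt _).mpr (h2 r hr)⟩

theorem not_domPlace_genericPoint (Q : FunFld.Place k X.functionField) (x : X)
    (hx : x = genericPoint X) :
    ¬ DomPlace (X.presheaf.stalk x) X.functionField Q := by
  subst hx
  rintro ⟨h1, -⟩
  obtain ⟨π, hπ⟩ := Groth.Agent.Lib.H40FunFld.exists_uniformizer Q
  have h2 : ∀ a : X.functionField,
      (Groth.Agent.Lib.FunctionFieldDom.stalkToFF X (genericPoint X)).hom a = a := by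
    intro a
    change (X.presheaf.stalkSpecializes (specializes_refl (genericPoint X))).hom a = a
    rw [TopCat.Presheaf.stalkSpecializes_refl]
    rfl
  have h3 := h1 (π⁻¹ : X.functionField)
  rw [Groth.Agent.Lib.FunctionFieldDom.algebraMap_eq, h2, map_inv₀, hπ, ← WithZero.exp_neg,
    neg_neg] at h3
  have h4 : (1 : WithZero (Multiplicative ℤ)) < WithZero.exp (1 : ℤ) := by
    rw [← WithZero.exp_zero]
    exact WithZero.exp_lt_exp.mpr one_pos
  exact absurd h3 (not_le.mpr h4)

theorem exists_domPlace [UniversallyClosed (X ↘ Spec (CommRingCat.of k))]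
    (Q : FunFld.Place k X.functionField) :
    ∃ x : X, DomPlace (X.presheaf.stalk x) X.functionField Q := by
  obtain ⟨x, hx⟩ := Groth.Agent.Lib.CurveValRings.exists_dom k X Q.O (fun c => Q.2.1 c)
  exact ⟨x, (dom_iff_domPlace k X Q x).mp hx⟩

open Groth.Agent.Lib.ValCenter Groth.Agent.Lib.FunctionFieldDom in
theorem domPlace_unique [X.IsSeparated] (Q : FunFld.Place k X.functionField) (x y : X)
    (hx : DomPlace (X.presheaf.stalk x) X.functionField Q)
    (hy : DomPlace (X.presheaf.stalk y) X.functionField Q) : x = y := by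
  have hx' := (dom_iff_domPlace k X Q x).mpr hx
  have hy' := (dom_iff_domPlace k X Q y).mpr hy
  set V : ValuationSubring X.functionField := Q.O
  let θx : X.presheaf.stalk x →+* V :=
    (algebraMap (X.presheaf.stalk x) X.functionField).codRestrict V.toSubring hx'.1
  let θy : X.presheaf.stalk y →+* V :=
    (algebraMap (X.presheaf.stalk y) X.functionField).codRestrict V.toSubring hy'.1
  have hθx : IsLocalHom θx := hx'.isLocalHom
  have hθy : IsLocalHom θy := hy'.isLocalHom
  let ρ : CommRingCat.of V ⟶ X.functionField := CommRingCat.ofHom V.subtype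
  have key := SpecMap_comp_fromSpecStalk_eq X (R := CommRingCat.of V)
    (CommRingCat.ofHom θx) (CommRingCat.ofHom θy) ρ Subtype.val_injective
    (by ext c; rfl) (by ext c; rfl)
  let pt : ↥(Spec (CommRingCat.of V)) := closedPoint V
  have ha : (Spec.map (CommRingCat.ofHom θx) ≫ X.fromSpecStalk x) pt = x := by
    rw [Scheme.Hom.comp_apply]
    have : (Spec.map (CommRingCat.ofHom θx)) pt = closedPoint (X.presheaf.stalk x) :=
      IsLocalRing.comap_closedPoint θx
    rw [this, Scheme.fromSpecStalk_closedPoint]
  have hb : (Spec.map (CommRingCat.ofHom θy) ≫ X.fromSpecStalk y) pt = y := by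
    rw [Scheme.Hom.comp_apply]
    have : (Spec.map (CommRingCat.ofHom θy)) pt = closedPoint (X.presheaf.stalk y) :=
      IsLocalRing.comap_closedPoint θy
    rw [this, Scheme.fromSpecStalk_closedPoint]
  have := congrArg (fun g : Spec (CommRingCat.of V) ⟶ X => g pt) key
  exact ha.symm.trans (this.trans hb)

end scheme

theorem finsum_partition {α β : Type*} (p : β → Prop) (D : β → α → Prop) (g : α → ℤ)
    (hg : (Function.support g).Finite)
    (hex : ∀ a, ∃ b, p b ∧ D b a) (huniq : ∀ a b b', D b a → D b' a → b = b') :
    ∑ᶠ (b) (_ : p b), ∑ᶠ (a) (_ : D b a), g a = ∑ᶠ a, g a := by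
  classical
  choose ctr hctr using hex
  have hD : ∀ a b, D b a ↔ ctr a = b := fun a b =>
    ⟨fun h => huniq a _ _ (hctr a).2 h, fun h => h ▸ (hctr a).2⟩
  set S := hg.toFinset with hS
  have hmemS : ∀ a, a ∈ S ↔ g a ≠ 0 := fun a => by rw [hS, Set.Finite.mem_toFinset]; rfl
  have hinner : ∀ b, ∑ᶠ (a) (_ : D b a), g a = ∑ a ∈ S.filter (fun a => ctr a = b), g a := by
    intro b
    have : ∑ᶠ (a) (_ : D b a), g a = ∑ᶠ a ∈ {a | D b a}, g a := rfl
    rw [this]
    apply finsum_mem_eq_sum_of_inter_support_eq
    ext a
    simp only [Set.mem_inter_iff, Set.mem_ofPred_eq, Function.mem_support, Finset.coe_filter, hD,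
      hmemS]
    tauto
  simp_rw [hinner]
  set T := S.image ctr with hT
  have houter : ∑ᶠ (b) (_ : p b), ∑ a ∈ S.filter (fun a => ctr a = b), g a =
      ∑ b ∈ T, ∑ a ∈ S.filter (fun a => ctr a = b), g a := by
    have : ∑ᶠ (b) (_ : p b), ∑ a ∈ S.filter (fun a => ctr a = b), g a =
        ∑ᶠ b ∈ {b | p b}, ∑ a ∈ S.filter (fun a => ctr a = b), g a := rfl
    rw [this]
    apply finsum_mem_eq_sum_of_inter_support_eq
    ext b
    simp only [Set.mem_inter_iff, Set.mem_ofPred_eq, Function.mem_support]
    constructor
    · rintro ⟨-, hb⟩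
      refine ⟨?_, hb⟩
      obtain ⟨a, ha, -⟩ := Finset.exists_ne_zero_of_sum_ne_zero hb
      rw [Finset.mem_filter] at ha
      rw [hT, Finset.coe_image]
      exact ⟨a, ha.1, ha.2⟩
    · rintro ⟨hb, hb'⟩
      refine ⟨?_, hb'⟩
      rw [hT, Finset.coe_image] at hb
      obtain ⟨a, -, rfl⟩ := hb
      exact (hctr a).1
  rw [houter, Finset.sum_fiberwise_of_maps_to (fun a ha => Finset.mem_image_of_mem ctr ha)]
  rw [finsum_eq_sum_of_support_subset g (s := S)]
  intro a ha
  rw [Finset.mem_coe, hmemS]
  exact ha


section final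

theorem eq_genericPoint_of_mem_genericPoints {X : Scheme.{u}} [IsIntegral X] (x : X)
    (hx : x ∈ genericPoints X) : x = genericPoint X := by
  have h1 : closure ({x} : Set X) ∈ irreducibleComponents X := hx
  rw [irreducibleComponents_eq_singleton] at h1
  have h2 : IsGenericPoint x (Set.univ : Set X) := h1
  exact h2.eq (genericPoint_spec X)

/-- **Degree of a principal divisor on a proper integral curve is zero.** -/
theorem deg_div_eq_zero (K : Type u) [Field K] (X : Scheme.{u}) [IsIntegral X]
    (c : X ⟶ Spec (CommRingCat.of K)) [IsProper c] (hdim : topologicalKrullDim X = 1)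
    (f : X.functionField) (hf : f ≠ 0) :
    ∑ᶠ (x : X) (_ : IsClosed ({x} : Set X)),
      (c.residueDegree x : ℤ) * CycAlg.ordFrac (X.presheaf.stalk x) X.functionField f = 0 := by
  letI : X.Over (Spec (CommRingCat.of K)) := ⟨c⟩
  have hcX : (X ↘ Spec (CommRingCat.of K)) = c := rfl
  haveI : IsProper (X ↘ Spec (CommRingCat.of K)) := ‹IsProper c›
  haveI : IsLocallyNoetherian X := LocallyOfFiniteType.isLocallyNoetherian c
  haveI : X.IsSeparated := ⟨by rw [← Limits.terminal.comp_from c]; infer_instance⟩
  have hcurve : ∀ x : X, IsClosed ({x} : Set X) → ringKrullDim (X.presheaf.stalk x) = 1 :=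
    fun x hx => Groth.Agent.Lib.P1Curve85.ringKrullDim_stalk_eq_one_of_topologicalKrullDim hdim x hx
  have hfg := Groth.Agent.Lib.CurveCompl85.fg_top_functionField K X
  have htr := Groth.Agent.Lib.CurveCompl85.trdeg_functionField_eq_one K X hcurve
  set g : FunFld.Place K X.functionField → ℤ := fun Q => (Q.deg : ℤ) * Q.ord f with hg
  have hgfin : (Function.support g).Finite :=
    (finite_support_ord_of_trdeg hfg htr f hf).subset (fun Q hQ h0 => hQ (by simp [hg, h0]))
  have hsum : ∑ᶠ Q, g Q = 0 := sum_deg_mul_ord_eq_zero hfg htr f hf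
  have hloc : ∀ x : X, IsClosed ({x} : Set X) →
      (c.residueDegree x : ℤ) * CycAlg.ordFrac (X.presheaf.stalk x) X.functionField f =
        ∑ᶠ (Q : FunFld.Place K X.functionField)
          (_ : DomPlace (X.presheaf.stalk x) X.functionField Q), g Q := by
    intro x hx
    haveI : Ring.KrullDimLE 1 (X.presheaf.stalk x) := Ring.krullDimLE_iff.mpr (hcurve x hx).le
    haveI := finite_integralClosure_stalk K X x
    haveI := isDedekindDomain_integralClosure (X.presheaf.stalk x) X.functionField inferInstance
    have hnf : maximalIdeal (X.presheaf.stalk x) ≠ ⊥ := by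
      intro h0
      have h1 : IsField (X.presheaf.stalk x) := isField_iff_maximalIdeal_eq.mpr h0
      have h2 := ringKrullDim_eq_zero_of_isField h1
      rw [hcurve x hx] at h2
      exact one_ne_zero h2
    rw [← hcX, residueDegree_eq_finrank K X x]
    exact local_formula (k := K) (X.presheaf.stalk x) X.functionField hnf f hf
  rw [finsum_congr (fun x => finsum_congr (fun hx => hloc x hx))]
  rw [finsum_partition (fun x : X => IsClosed ({x} : Set X))
    (fun x Q => DomPlace (X.presheaf.stalk x) X.functionField Q) g hgfin ?_ ?_]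
  · exact hsum
  · intro Q
    obtain ⟨x, hx⟩ := exists_domPlace K X Q
    refine ⟨x, ?_, hx⟩
    apply Groth.Agent.Lib.DimOneTop42.isClosed_singleton_of_notMem_genericPoints hdim.le
    intro hgen
    exact not_domPlace_genericPoint K X Q x (eq_genericPoint_of_mem_genericPoints x hgen) hx
  · intro Q x y hx hy
    exact domPlace_unique K X Q x y hx hy

end final

end Groth.Agent.Lib.CurveDeg85
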