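import Groth.Agent.Lib.CurveSerreVan54
import Groth.Agent.Lib.DegTensor54
import Groth.Agent.Lib.IdealMod
import Groth.Agent.Lib.H90OXModPushFinite
import Groth.Agent.Lib.H90DevTwo2
import Groth.Agent.Lib.H78Dual
import Groth.Agent.Lib.TwistEquiv

/-!
# Twisted ideal sheaves of finite subschemes on integral proper curves (helper54; campaign K2a/K6)

Namespace `Groth.Agent.Lib.CurveIdeal54`.  Hypothesis form: `H : ProperFinHyp.Hyp` (= S0002), `HS : SnapperHyp` (= S3230),
`V : VanHyp` (from S0458).

* `isClosed_singleton_of_dim_le_zero` (topology), `support_cokernel_subset_of_mono`.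
* `map_one_surjective_of_mono_invertible`, **`finrank_H0_le_genus_of_mono`**: for a coherent submodule `G` of an invertible
  module on an integral proper curve, `H^1(G) ≠ 0 ⇒ h^0(G) ≤ g`.
* `isCoh_quotMod`, `isCoh_idealMod`, `support_quotMod_subset`, `euler_quotMod` (`χ(O_Z) = h^0(O_Z)`, `dim Z ≤ 0`),
  `euler_idealMod_tensor` (`χ(I_Z ⊗ L) = χ(L) - h^0(O_Z)`), `mono_idealMod_tensor`.
* `deg_le_of_nontrivial_H1` (= S1531), `subsingleton_H1_idealMod_tensor` (= S1532).
-/

set_option autoImplicit false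
universe u
open CategoryTheory CategoryTheory.Limits AlgebraicGeometry Opposite TopologicalSpace

namespace Groth.Agent.Lib.CurveIdeal54

open Groth.Agent.Lib.EulerChar54 Groth.Agent.Lib.ProperFinHyp Groth.Agent.Lib.DegCurve54
open Groth.Agent.Lib.InvMap54 Groth.Agent.Lib.H90Invertible Groth.Agent.Lib.CohLES
open Groth.Agent.Lib.H78SecCoord Groth.Agent.Lib.EulerNat54 Groth.Agent.Lib.StructureModule
open Groth.Agent.Lib.OXModTensor Groth.Agent.Lib.CurveH1Van54 Groth.Agent.Lib.CurveSerreVan54 CohB1
open Groth.Agent.Lib.IntNumAlg13 Groth.Agent.Lib.EulerLE48 Groth.Agent.Lib.ModStalkLin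

section Topology

/-- the points of a closed subset of dimension `≤ 0` of a `T0` space are closed -/
theorem isClosed_singleton_of_dim_le_zero {T : Type*} [TopologicalSpace T] [T0Space T] (S : Set T)
    (hS : IsClosed S) (hd : topologicalKrullDim S ≤ 0) (x : T) (hx : x ∈ S) : IsClosed ({x} : Set T) := by
  have hmax := Order.krullDim_nonpos_iff_forall_isMin.mp hd
  have key : ∀ y : S, y ∈ closure ({(⟨x, hx⟩ : S)} : Set S) → y = ⟨x, hx⟩ := by
    intro y hy
    let A : IrreducibleCloseds S := ⟨closure {(⟨x, hx⟩ : S)}, isIrreducible_singleton.closure, isClosed_closure⟩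
    let B : IrreducibleCloseds S := ⟨closure {y}, isIrreducible_singleton.closure, isClosed_closure⟩
    have hBA : B ≤ A := by
      change closure {y} ⊆ closure {(⟨x, hx⟩ : S)}
      exact closure_minimal (Set.singleton_subset_iff.mpr hy) isClosed_closure
    have hAB : A ≤ B := hmax A hBA
    have hxy : (⟨x, hx⟩ : S) ∈ closure ({y} : Set S) := hAB (subset_closure rfl)
    exact ((specializes_iff_mem_closure.mpr hy).antisymm (specializes_iff_mem_closure.mpr hxy)).eq.symm
  have hcl : IsClosed ({(⟨x, hx⟩ : S)} : Set S) := by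
    rw [← closure_eq_iff_isClosed]
    exact Set.Subset.antisymm (fun y hy => key y hy) subset_closure
  have := hS.isClosedEmbedding_subtypeVal.isClosedMap _ hcl
  simpa using this

end Topology

section Cokernel

variable {X : Scheme.{u}}

/-- if `j` is a monomorphism, the cokernel of `s` is supported inside the support of the cokernel of `s ≫ j` -/
theorem support_cokernel_subset_of_mono {A B C : X.Modules} (s : A ⟶ B) (j : B ⟶ C) [Mono j] :
    CohB1.support (cokernel s) ⊆ CohB1.support (cokernel (s ≫ j)) := by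
  intro x hx
  by_contra hnot
  rw [not_mem_support_cokernel_iff] at hnot
  refine absurd hx ((not_mem_support_cokernel_iff s x).2 fun b => ?_)
  obtain ⟨a, ha⟩ := hnot (stalkLin j x b)
  refine ⟨a, stalkLin_injective_of_mono j x ?_⟩
  rw [← ha, stalkLin_comp]
  rfl

end Cokernel

section SubInvertible

open Groth.Agent.Lib.H4Twist

variable (H : Hyp.{u}) (k : Type u) [Field k] (X : Scheme.{u}) [X.Over (Spec (CommRingCat.of k))]
  [IsIntegral X] [IsProper (X ↘ (Spec (CommRingCat.of k)))] (hdim : topologicalKrullDim X ≤ 1)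
  {G L' : X.Modules} (hG : Coh.IsCoh G) (hL' : PicF.IsInvertible L') (j : G ⟶ L') [Mono j]

include k hdim hG hL' j in
/-- a nonzero section of a coherent submodule of an invertible module induces a surjection `H^1(O) → H^1(G)` -/
theorem map_one_surjective_of_mono_invertible (s : Coh.structureModule X ⟶ G) (hs : s ≠ 0) :
    Function.Surjective (map s 1) := by
  have : IsLocallyNoetherian X :=
    LocallyOfFiniteType.isLocallyNoetherian (X ↘ (Spec (CommRingCat.of k)))
  have hOinv := isInvertible_structureModule X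
  have hOc : Coh.IsCoh (Coh.structureModule X) := isCoh_of_isInvertible hOinv
  have hH2 : ∀ K : X.Modules, K.IsQuasicoherent → Subsingleton (Coh.HH X K 2) := fun K hK =>
    Groth.Agent.Lib.RiemannRoch54.subsingleton_HH_add_two k X hdim K 0
  have hsj : s ≫ j ≠ 0 := fun h0 => hs ((cancel_mono j).1 (by rw [h0, zero_comp]))
  have hC : ∀ x ∈ CohB1.support (cokernel s), IsClosed ({x} : Set X) := fun x hx =>
    isClosed_singleton_of_mem_support_cokernel hOinv hL' (s ≫ j) hdim hsj x
      (support_cokernel_subset_of_mono s j hx)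
  exact map_one_surjective_of_support_cokernel hH2 s hOc hG (Iso.refl _) hC

include H hdim hG hL' j in
/-- `H^1(G) ≠ 0` forces `h^0(G) ≤ g` for a coherent submodule `G` of an invertible module on an integral proper curve -/
theorem finrank_H0_le_genus_of_mono [Nontrivial (Coh.HH X G 1)] :
    Module.finrank k (Coh.HH X G 0) ≤ Curv2.genus k X := by
  have hOinv := isInvertible_structureModule X
  have hOc : Coh.IsCoh (Coh.structureModule X) := isCoh_of_isInvertible hOinv
  have hfin : Module.Finite k (Coh.HH X (Coh.structureModule X) 1) := H k X _ hOc 1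
  refine (finrank_le_of_pairing_surjective (pairing k X G 1) (pairing_add k X G 1)
    (pairing_smul k X G 1) fun a ha => ?_).2
  refine map_one_surjective_of_mono_invertible k X hdim hG hL' j _ fun h0 => ha ?_
  have h1 : sec (ofSection (h0Equiv G a)) = 0 := by
    rw [h0]
    change (0 : Coh.structureModule X ⟶ G).app ⊤ _ = 0
    rw [Scheme.Modules.Hom.zero_app]
    rfl
  rw [sec_ofSection] at h1
  exact (h0Equiv G).map_eq_zero_iff.mp h1

end SubInvertible

section IdealTwist

lemma auxI (a b c l d : ℤ) (q : ℕ) (hadd : a = b + c) (h2 : a = l) (h3 : c = d) (h4 : d = q) :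
    b = l - q := by lia

open Groth.Agent.Lib.TwistEquiv Groth.Agent.Lib.IdealMod

variable (H : Hyp.{u}) (HS : SnapperHyp.{u}) (V : VanHyp.{u}) (k : Type u) [Field k] (X : Scheme.{u})
  [X.Over (Spec (CommRingCat.of k))] [IsIntegral X] [IsProper (X ↘ (Spec (CommRingCat.of k)))]
  (hdim : topologicalKrullDim X ≤ 1) {L : X.Modules} (hL : PicF.IsInvertible L)
  (Z : X.IdealSheafData) (hZ : topologicalKrullDim (Z.support : Set X) ≤ 0)

omit [IsIntegral X] in
include k in
theorem isCoh_quotMod : Coh.IsCoh (ClSub.quotMod Z) := by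
  have : IsLocallyNoetherian X :=
    LocallyOfFiniteType.isLocallyNoetherian (X ↘ (Spec (CommRingCat.of k)))
  have : IsLocallyNoetherian Z.subscheme := LocallyOfFiniteType.isLocallyNoetherian Z.subschemeι
  exact Groth.Agent.Lib.H90OXModPushFinite.isCoh_pushforward Z.subschemeι _
    (isCoh_of_isInvertible (isInvertible_structureModule _))

omit [IsIntegral X] in
include k in
theorem isCoh_idealMod : Coh.IsCoh (ClSub.idealMod Z) := by
  have : IsLocallyNoetherian X :=
    LocallyOfFiniteType.isLocallyNoetherian (X ↘ (Spec (CommRingCat.of k)))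
  have hOc : Coh.IsCoh (Coh.structureModule X) :=
    isCoh_of_isInvertible (isInvertible_structureModule X)
  have := (isCoh_quotMod k X Z).1
  exact Groth.Agent.Lib.H90OXModExact.isCoh_kernel (ClSub.toSubscheme Z) hOc

omit [IsIntegral X] [IsProper (X ↘ (Spec (CommRingCat.of k)))] in
theorem support_quotMod_subset : CohB1.support (ClSub.quotMod Z) ⊆ (Z.support : Set X) := by
  rw [← Z.range_subschemeι]
  exact Groth.Agent.Lib.H90DevTwo2.support_push_subset Z.subschemeι _

include hZ in
omit [IsIntegral X] in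
/-- `χ(O_Z) = h^0(O_Z)` for a closed subscheme of dimension `≤ 0` -/
theorem euler_quotMod :
    Curv2.euler k X (ClSub.quotMod Z) = Module.finrank k (Coh.HH X (ClSub.quotMod Z) 0) := by
  have : IsLocallyNoetherian X :=
    LocallyOfFiniteType.isLocallyNoetherian (X ↘ (Spec (CommRingCat.of k)))
  refine euler_eq_finrank_zero k X _ fun i hi => ?_
  refine Groth.Agent.S0047.result X _ (isCoh_quotMod k X Z) (fun x hx => ?_) i hi
  exact isClosed_singleton_of_dim_le_zero _ Z.support.isClosed hZ x (support_quotMod_subset X Z hx)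

include H HS V hdim hL hZ in
omit [IsIntegral X] in
/-- `χ(I_Z ⊗ L) = χ(L) - h^0(O_Z)` -/
theorem euler_idealMod_tensor :
    Curv2.euler k X (tensorMod (ClSub.idealMod Z) L) =
      Curv2.euler k X L - Module.finrank k (Coh.HH X (ClSub.quotMod Z) 0) := by
  obtain ⟨M, hM, ⟨e⟩⟩ := Groth.Agent.Lib.H78Dual.exists_tensor_inverse hL
  have e' : tensorMod L M ≅ Coh.structureModule X := braiding L M ≪≫ e
  have hLc : Coh.IsCoh L := isCoh_of_isInvertible hL
  have hOc : Coh.IsCoh (Coh.structureModule X) :=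
    isCoh_of_isInvertible (isInvertible_structureModule X)
  have hQ := isCoh_quotMod k X Z
  have hI := isCoh_idealMod k X Z
  have hS := shortExact_map_tensorRight e' (idealMod_shortExact Z)
  have hadd := euler_add H k X _ hS
    (Groth.Agent.Lib.CohFinAmple.isCoh_tensorMod hI hLc)
    (Groth.Agent.Lib.CohFinAmple.isCoh_tensorMod hOc hLc)
    (Groth.Agent.Lib.CohFinAmple.isCoh_tensorMod hQ hLc)
  have h2 : Curv2.euler k X (tensorMod (Coh.structureModule X) L) = Curv2.euler k X L :=
    Groth.Agent.Lib.DegTensor54.euler_congr k (leftUnitor L)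
  have hsupp : topologicalKrullDim (CohB1.support (ClSub.quotMod Z)) ≤ 0 :=
    (Groth.Agent.Lib.IntNumAlg13.topologicalKrullDim_mono (support_quotMod_subset X Z)).trans hZ
  have h3 : Curv2.euler k X (tensorMod (ClSub.quotMod Z) L) = Curv2.euler k X (ClSub.quotMod Z) :=
    Groth.Agent.Lib.DegTensor54.euler_tensorMod_of_support_dim_le_zero' HS V k 1
      (by simpa using hdim) hL hQ hsupp
  have h4 := euler_quotMod k X Z hZ
  exact auxI _ _ _ _ _ _ hadd h2 h3 h4

lemma auxJ (a b : ℕ) (chiG chiL D e : ℤ) (q c g : ℕ) (h1 : chiG = (a : ℤ) - b) (h2 : chiG = chiL - q)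
    (h3 : D = chiL - 1 * e) (h4 : e = (c : ℤ) - g) (hc : c = 1) (hb : 0 < b) (ha : a ≤ g) :
    D ≤ 2 * (g : ℤ) - 2 + q := by lia

lemma auxK (a b : ℕ) (chiG chiL D e : ℤ) (q c g : ℕ) (h1 : chiG = (a : ℤ) - b) (h2 : chiG = chiL - q)
    (h3 : D = chiL - 1 * e) (h4 : e = (c : ℤ) - g) (hc : c = 1) (hb : b = 0) (ha : a = 0)
    (hdeg : 2 * (g : ℤ) - 2 + q < D) : g = 0 ∧ D = (q : ℤ) - 1 := by lia

include hL in
omit [IsIntegral X] [IsProper (X ↘ (Spec (CommRingCat.of k)))] in
/-- the twisted ideal `I_Z ⊗ L` embeds into the invertible module `O ⊗ L` -/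
theorem mono_idealMod_tensor : Mono ((tensorRightFunctor L).map (ClSub.idealModι Z)) := by
  obtain ⟨M, hM, ⟨e⟩⟩ := Groth.Agent.Lib.H78Dual.exists_tensor_inverse hL
  have e' : tensorMod L M ≅ Coh.structureModule X := braiding L M ≪≫ e
  exact (shortExact_map_tensorRight e' (idealMod_shortExact Z)).mono_f

include H HS V hdim hL hZ in
/-- **S1531**: `H^1(I_Z ⊗ L) ≠ 0 ⇒ deg L ≤ 2g - 2 + deg Z` (when `h^0(O) = 1`) -/
theorem deg_le_of_nontrivial_H1 (h0 : Module.finrank k (Coh.HH X (Coh.structureModule X) 0) = 1)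
    [Nontrivial (Coh.HH X (tensorMod (ClSub.idealMod Z) L) 1)] :
    Curv2.deg k X L 1 ≤
      2 * (Curv2.genus k X : ℤ) - 2 + Module.finrank k (Coh.HH X (ClSub.quotMod Z) 0) := by
  have hj := mono_idealMod_tensor X hL Z
  have hL' : PicF.IsInvertible ((tensorRightFunctor L).obj (Coh.structureModule X)) :=
    Groth.Agent.Lib.H78TensorGen.isInvertible_tensorMod (isInvertible_structureModule X) hL
  have hLc : Coh.IsCoh L := isCoh_of_isInvertible hL
  have hG : Coh.IsCoh (tensorMod (ClSub.idealMod Z) L) :=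
    Groth.Agent.Lib.CohFinAmple.isCoh_tensorMod (isCoh_idealMod k X Z) hLc
  have hGq : (tensorMod (ClSub.idealMod Z) L).IsQuasicoherent := hG.1
  have hOq : (Coh.structureModule X).IsQuasicoherent :=
    (isCoh_of_isInvertible (isInvertible_structureModule X)).1
  have hnt : Nontrivial (Coh.HH X ((tensorRightFunctor L).obj (ClSub.idealMod Z)) 1) :=
    ‹Nontrivial (Coh.HH X (tensorMod (ClSub.idealMod Z) L) 1)›
  have hle : Module.finrank k (Coh.HH X (tensorMod (ClSub.idealMod Z) L) 0) ≤ Curv2.genus k X :=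
    finrank_H0_le_genus_of_mono H k X hdim (G := (tensorRightFunctor L).obj (ClSub.idealMod Z)) hG hL'
      ((tensorRightFunctor L).map (ClSub.idealModι Z))
  have hfin : Module.Finite k (Coh.HH X (tensorMod (ClSub.idealMod Z) L) 1) := H k X _ hG 1
  have hpos : 0 < Module.finrank k (Coh.HH X (tensorMod (ClSub.idealMod Z) L) 1) := Module.finrank_pos
  have hD : Curv2.deg k X L 1 =
      Curv2.euler k X L - ((1 : ℕ) : ℤ) * Curv2.euler k X (Coh.structureModule X) := rfl
  rw [Nat.cast_one] at hD
  exact auxJ _ _ _ _ _ _ _ _ _ (Groth.Agent.Lib.RiemannRoch54.euler_eq_sub k X hdim _)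
    (euler_idealMod_tensor H HS V k X hdim hL Z hZ) hD
    (Groth.Agent.Lib.RiemannRoch54.euler_eq_sub k X hdim _) h0 hpos hle

include H HS V hdim hL hZ in
/-- **S1532**: `deg L > 2g - 2 + deg Z ⇒ H^1(I_Z ⊗ L) = 0`, and if moreover `H^0(I_Z ⊗ L) = 0` then `g = 0` and
`deg L = deg Z - 1` -/
theorem subsingleton_H1_idealMod_tensor (h0 : Module.finrank k (Coh.HH X (Coh.structureModule X) 0) = 1)
    (hdeg : 2 * (Curv2.genus k X : ℤ) - 2 + Module.finrank k (Coh.HH X (ClSub.quotMod Z) 0) <
      Curv2.deg k X L 1) :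
    Subsingleton (Coh.HH X (tensorMod (ClSub.idealMod Z) L) 1) ∧
      (Subsingleton (Coh.HH X (tensorMod (ClSub.idealMod Z) L) 0) →
        Curv2.genus k X = 0 ∧
          Curv2.deg k X L 1 = Module.finrank k (Coh.HH X (ClSub.quotMod Z) 0) - 1) := by
  have h1 : Subsingleton (Coh.HH X (tensorMod (ClSub.idealMod Z) L) 1) := by
    by_contra hns
    have hnt : Nontrivial (Coh.HH X (tensorMod (ClSub.idealMod Z) L) 1) :=
      not_subsingleton_iff_nontrivial.mp hns
    exact absurd (deg_le_of_nontrivial_H1 H HS V k X hdim hL Z hZ h0) (not_le.mpr hdeg)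
  refine ⟨h1, fun h00 => ?_⟩
  have hLc : Coh.IsCoh L := isCoh_of_isInvertible hL
  have hG : Coh.IsCoh (tensorMod (ClSub.idealMod Z) L) :=
    Groth.Agent.Lib.CohFinAmple.isCoh_tensorMod (isCoh_idealMod k X Z) hLc
  have hGq : (tensorMod (ClSub.idealMod Z) L).IsQuasicoherent := hG.1
  have hOq : (Coh.structureModule X).IsQuasicoherent :=
    (isCoh_of_isInvertible (isInvertible_structureModule X)).1
  have hD : Curv2.deg k X L 1 =
      Curv2.euler k X L - ((1 : ℕ) : ℤ) * Curv2.euler k X (Coh.structureModule X) := rfl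
  rw [Nat.cast_one] at hD
  exact auxK _ _ _ _ _ _ _ _ _ (Groth.Agent.Lib.RiemannRoch54.euler_eq_sub k X hdim _)
    (euler_idealMod_tensor H HS V k X hdim hL Z hZ) hD
    (Groth.Agent.Lib.RiemannRoch54.euler_eq_sub k X hdim _) h0
    Module.finrank_zero_of_subsingleton Module.finrank_zero_of_subsingleton hdeg

end IdealTwist

end Groth.Agent.Lib.CurveIdeal54
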