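import Groth.Agent.Lib.CurveDeg48d
import Groth.Agent.Lib.CurveIdeal54
import Groth.Agent.Lib.H4TwistGamma
import Groth.Agent.Lib.SupportTensor
import Groth.Agent.Lib.CohLESLinear
import Groth.Agent.S0047

/-!
# `h⁰(L) ≤ h⁰(L(x)) ≤ h⁰(L) + [κ(x) : k]` (helper48; = S7837)

Namespace `Groth.Agent.Lib.CurveDeg48`.

* `fromSpecResidueField_appTop_ΓSpecIso` : `Γ(X,⊤) → Γ(Spec κ(x),⊤) ≅ κ(x)` is evaluation at `x`.
* `finrank_H0_quotMod_residue` : for a closed point `x` of a `k`-scheme, `dim_k H⁰(X, O_X / I_x) = [κ(x) : k]`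
  where `I_x = ker (Spec κ(x) → X)`.
* `h0_twist_point` : `X` proper over a field `k`, `x` closed, `L ≅ L' ⊗ I_x`, `L'` invertible; then
  `h⁰(L) ≤ h⁰(L') ≤ h⁰(L) + [κ(x) : k]`.
-/

set_option autoImplicit false
universe u
open CategoryTheory CategoryTheory.Limits AlgebraicGeometry Opposite TopologicalSpace

attribute [local instance] Curv2.resAlgebra

namespace Groth.Agent.Lib.CurveDeg48

open Groth.Agent.Lib.OXModTensor Groth.Agent.Lib.IdealMod Groth.Agent.Lib.H90Invertible
  Groth.Agent.Lib.StructureModule Groth.Agent.Lib.CohLES Groth.Agent.Lib.H4Twist CohB1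

theorem fromSpecResidueField_appTop_ΓSpecIso (X : Scheme.{u}) (x : X) :
    (X.fromSpecResidueField x).appTop ≫ (Scheme.ΓSpecIso (X.residueField x)).hom =
      X.Γevaluation x := by
  unfold Scheme.fromSpecResidueField
  rw [Scheme.Hom.comp_appTop, Scheme.fromSpecStalk_appTop]
  simp only [Category.assoc]
  rw [Scheme.ΓSpecIso_naturality]
  simp
  rfl

section Res

variable (k : Type u) [Field k] (X : Scheme.{u}) [X.Over (Spec (CommRingCat.of k))]
  (x : X) (hx : IsClosed ({x} : Set X))

include hx in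
/-- `dim_k H⁰(X, O_X/I_x) = [κ(x) : k]` -/
theorem finrank_H0_quotMod_residue :
    Module.finrank k (Coh.HH X (ClSub.quotMod (X.fromSpecResidueField x).ker) 0) =
      Module.finrank k (X.residueField x) := by
  set f := X.fromSpecResidueField x with hf
  haveI hcl : IsClosedImmersion f := isClosed_singleton_iff_isClosedImmersion.mp hx
  set I := f.ker with hI
  let M : X.Modules := ClSub.quotMod I
  -- the ring isomorphism `Γ(Z, ⊤) ≅ κ(x)`
  let ψ : Γ(I.subscheme, ⊤) ⟶ X.residueField x :=
    f.toImage.appTop ≫ (Scheme.ΓSpecIso (X.residueField x)).hom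
  haveI hiso0 : IsIso f.toImage.appTop := show IsIso (f.toImage.app ⊤) from inferInstance
  have hiso : IsIso ψ :=
    show IsIso (f.toImage.appTop ≫ (Scheme.ΓSpecIso (X.residueField x)).hom) from inferInstance
  have hψ : Function.Bijective ψ.hom := ConcreteCategory.bijective_of_isIso ψ
  have hcomp : I.subschemeι.appTop ≫ ψ = X.Γevaluation x := by
    change f.imageι.appTop ≫ f.toImage.appTop ≫ _ = _
    rw [← Category.assoc, ← Scheme.Hom.comp_appTop, f.toImage_imageι]
    exact fromSpecResidueField_appTop_ΓSpecIso X x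
  let φ : Coh.HH X M 0 →ₗ[k] X.residueField x :=
    { toFun := fun w => ψ.hom (show Γ(I.subscheme, ⊤) from h0Equiv M w)
      map_add' := fun a b => by
        rw [map_add]
        exact map_add ψ.hom _ _
      map_smul' := fun r w => by
        have h1 : h0Equiv M (r • w) =
            (show Γ(X, ⊤) from Coh.toGlobal (X ↘ Spec (CommRingCat.of k)) r) • h0Equiv M w := by
          have := h0Equiv_symm_smul_over M r (h0Equiv M w)
          rw [AddEquiv.symm_apply_apply] at this
          rw [← this, AddEquiv.apply_symm_apply]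
        have h2 : (show Γ(I.subscheme, ⊤) from
            ((show Γ(X, ⊤) from Coh.toGlobal (X ↘ Spec (CommRingCat.of k)) r) • h0Equiv M w)) =
            I.subschemeι.appTop (Coh.toGlobal (X ↘ Spec (CommRingCat.of k)) r) *
              (show Γ(I.subscheme, ⊤) from h0Equiv M w) := rfl
        rw [h1, h2, map_mul, RingHom.id_apply, Algebra.smul_def]
        congr 1
        have := congr($hcomp (Coh.toGlobal (X ↘ Spec (CommRingCat.of k)) r))
        exact this }
  have hφ : Function.Bijective φ := by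
    constructor
    · intro a b hab
      exact (h0Equiv M).injective (hψ.1 hab)
    · intro c
      obtain ⟨s, hs⟩ := hψ.2 c
      exact ⟨(h0Equiv M).symm s, by
        change ψ.hom (show Γ(I.subscheme, ⊤) from h0Equiv M ((h0Equiv M).symm s)) = c
        rw [AddEquiv.apply_symm_apply]
        exact hs⟩
  exact (LinearEquiv.ofBijective φ hφ).finrank_eq

end Res

section Twist

variable (H : Groth.Agent.Lib.ProperFinHyp.Hyp.{u}) (k : Type u) [Field k] (X : Scheme.{u})
  [X.Over (Spec (CommRingCat.of k))] [IsProper (X ↘ (Spec (CommRingCat.of k)))]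
  (x : X) (hx : IsClosed ({x} : Set X))

lemma auxTw (a b c r n q : ℕ) (h1 : r + n = b) (h2 : n = a) (h3 : r ≤ c) (h4 : c = q) :
    a ≤ b ∧ b ≤ a + q := by omega

include H hx in
/-- **S7837 (general form)**: `h⁰(L) ≤ h⁰(L') ≤ h⁰(L) + [κ(x) : k]` when `L ≅ L' ⊗ I_x`, `L'` invertible. -/
theorem h0_twist_point (L L' : X.Modules) (hL' : PicF.IsInvertible L')
    (hLL' : Nonempty (L ≅ CohB1.tensorMod L' (ClSub.idealMod (X.fromSpecResidueField x).ker))) :
    Module.finrank k (Coh.HH X L 0) ≤ Module.finrank k (Coh.HH X L' 0) ∧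
      Module.finrank k (Coh.HH X L' 0) ≤
        Module.finrank k (Coh.HH X L 0) + Module.finrank k (X.residueField x) := by
  obtain ⟨e⟩ := hLL'
  haveI : IsLocallyNoetherian X :=
    LocallyOfFiniteType.isLocallyNoetherian (X ↘ (Spec (CommRingCat.of k)))
  set I := (X.fromSpecResidueField x).ker with hI
  haveI hcl : IsClosedImmersion (X.fromSpecResidueField x) :=
    isClosed_singleton_iff_isClosedImmersion.mp hx
  have hL'1 : FlatMod.IsFinLocFreeOfRank 1 L' := (isInvertible_iff_isFinLocFreeOfRank_one L').mp hL'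
  have hL'c : Coh.IsCoh L' := isCoh_of_isInvertible hL'
  have hOc : Coh.IsCoh (Coh.structureModule X) :=
    isCoh_of_isInvertible (isInvertible_structureModule X)
  have hQc : Coh.IsCoh (ClSub.quotMod I) := Groth.Agent.Lib.CurveIdeal54.isCoh_quotMod k X I
  have hIc : Coh.IsCoh (ClSub.idealMod I) := Groth.Agent.Lib.CurveIdeal54.isCoh_idealMod k X I
  -- support of the quotient
  have hsuppI : (I.support : Set X) = {x} := by
    rw [hI, Scheme.Hom.support_ker, Scheme.range_fromSpecResidueField, hx.closure_eq]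
  have hsuppQ : CohB1.support (ClSub.quotMod I) ⊆ {x} := by
    rw [← hsuppI]
    exact Groth.Agent.Lib.CurveIdeal54.support_quotMod_subset X I
  have hdimQ : topologicalKrullDim (CohB1.support (ClSub.quotMod I)) ≤ 0 := by
    refine (Groth.Agent.Lib.IntNumAlg13.topologicalKrullDim_mono hsuppQ).trans ?_
    exact topologicalKrullDim_zero_of_discreteTopology _
  -- the twisted sequence
  have hS' := shortExact_map_tensorLeft_of_isFlat L' (isFlat_of_isFinLocFreeOfRank hL'1)
    (idealMod_shortExact I)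
  set S' := (ShortComplex.mk (ClSub.idealModι I) (ClSub.toSubscheme I)
      (kernel.condition (ClSub.toSubscheme I))).map (tensorLeftFunctor L') with hS'def
  have c₂ : Coh.IsCoh S'.X₂ := Groth.Agent.Lib.CohFinAmple.isCoh_tensorMod hL'c hOc
  have c₃ : Coh.IsCoh S'.X₃ := Groth.Agent.Lib.CohFinAmple.isCoh_tensorMod hL'c hQc
  haveI f₂ : Module.Finite k (Coh.HH X S'.X₂ 0) := H k X _ c₂ 0
  haveI f₃ : Module.Finite k (Coh.HH X S'.X₃ 0) := H k X _ c₃ 0
  have hinj : Function.Injective (mapₗ k S'.f 0) := map_f_injective_zero hS'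
  have h1 : Module.finrank k (LinearMap.range (mapₗ k S'.f 0)) = Module.finrank k (Coh.HH X S'.X₁ 0) :=
    LinearMap.finrank_range_of_inj hinj
  have h2 : LinearMap.range (mapₗ k S'.f 0) = LinearMap.ker (mapₗ k S'.g 0) :=
    range_mapₗ_f_eq_ker k hS' 0
  have h3 := LinearMap.finrank_range_add_finrank_ker (mapₗ k S'.g 0)
  have h4 : Module.finrank k (LinearMap.range (mapₗ k S'.g 0)) ≤ Module.finrank k (Coh.HH X S'.X₃ 0) :=
    Submodule.finrank_le _
  rw [h2] at h1
  -- identifications
  have e1 : Module.finrank k (Coh.HH X S'.X₁ 0) = Module.finrank k (Coh.HH X L 0) :=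
    ((mapEquivₗ k e 0).finrank_eq).symm
  have e2 : Module.finrank k (Coh.HH X S'.X₂ 0) = Module.finrank k (Coh.HH X L' 0) :=
    (mapEquivₗ k (rightUnitor L') 0).finrank_eq
  -- `h⁰(L' ⊗ Q) = h⁰(Q) = [κ(x) : k]`
  have hclosed : ∀ y ∈ CohB1.support (ClSub.quotMod I), IsClosed ({y} : Set X) := by
    intro y hy
    have : y = x := hsuppQ hy
    rw [this]
    exact hx
  have hvQ : ∀ i, 0 < i → Subsingleton (Coh.HH X (ClSub.quotMod I) i) := fun i hi =>
    Groth.Agent.S0047.result X _ hQc hclosed i hi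
  have hvT : ∀ i, 0 < i → Subsingleton (Coh.HH X S'.X₃ i) := fun i hi => by
    refine Groth.Agent.S0047.result X _ c₃ (fun y hy => hclosed y ?_) i hi
    haveI := hL'c.1
    haveI := hL'c.2
    haveI := hQc.1
    haveI := hQc.2
    have : CohB1.support S'.X₃ = CohB1.support L' ∩ CohB1.support (ClSub.quotMod I) :=
      Groth.Agent.Lib.SupportTensor.support_tensorMod L' (ClSub.quotMod I)
    rw [this] at hy
    exact hy.2
  have e3 : Module.finrank k (Coh.HH X S'.X₃ 0) = Module.finrank k (X.residueField x) := by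
    have a1 := Groth.Agent.Lib.EulerChar54.euler_eq_finrank_zero k X S'.X₃ hvT
    have a2 := Groth.Agent.Lib.EulerChar54.euler_eq_finrank_zero k X (ClSub.quotMod I) hvQ
    have a3 : Curv2.euler k X S'.X₃ = 1 * Curv2.euler k X (ClSub.quotMod I) :=
      euler_tensorMod_of_dim_support_le_zero' H k X (ClSub.quotMod I) hQc hdimQ 1 L' hL'1
    have a4 := finrank_H0_quotMod_residue k X x hx
    rw [a1, a2, one_mul] at a3
    rw [← a4]
    exact_mod_cast a3
  exact auxTw _ _ _ _ _ _ (e2 ▸ h3) (h1.trans e1) h4 e3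

end Twist

end Groth.Agent.Lib.CurveDeg48
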