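import Groth.Agent.Lib.CurvePoint54b
import Groth.Agent.Lib.PointH0_48
import Groth.Agent.Lib.RegularDimOne

/-!
# Degrees of invertible modules on a proper curve over a field (helper54)

* `degGroup k X hdim : AddSubgroup ℤ`: the subgroup of degrees of invertible modules (`dim X ≤ 1`, `X` proper);
* `natCast_gcd_mem`: a subgroup of `ℤ` containing the naturals `f i`, `i ∈ s`, contains their gcd;
* `ker_fromSpecResidueField_eq`: for a closed point, `ker (Spec κ(x) ⟶ X) = vanishingIdeal {x}`;
* `deg_dual_idealMod_point`: `deg (I_x)^∨ = [κ(x) : k]` for a closed point `x` with invertible ideal sheaf;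
* `isPrincipalIdealRing_stalk_of_isIntegrallyClosed`: on an integral locally Noetherian scheme of dimension `≤ 1`,
  a normal local ring is a principal ideal ring;
* `finrank_residueField_mem_degGroup`: `[κ(x) : k] ∈ degGroup` for closed `x` with local ring a PID;
* `exists_invertible_deg_one_of_gcd`: closed points with PID local rings and residue degrees of gcd one give an
  invertible module of degree one.
-/

set_option autoImplicit false
set_option linter.style.haveILetI false
universe u
open CategoryTheory CategoryTheory.Limits AlgebraicGeometry TopologicalSpace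

attribute [local instance] Curv2.resAlgebra

namespace Groth.Agent.Lib.CurveDegGroup54

open Groth.Agent.Lib.H90Invertible Groth.Agent.Lib.StructureModule CohB1
open Groth.Agent.Lib.ProperFinHyp Groth.Agent.Lib.IntNumAlg13 Groth.Agent.Lib.EulerLE48
open Groth.Agent.Lib.OXModTensor

/-- a subgroup of `ℤ` containing naturals contains their gcd -/
theorem natCast_gcd_mem {ι : Type*} (H : AddSubgroup ℤ) (s : Finset ι) (f : ι → ℕ)
    (h : ∀ i ∈ s, (f i : ℤ) ∈ H) : ((s.gcd f : ℕ) : ℤ) ∈ H := by
  classical
  induction s using Finset.induction_on with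
  | empty => simp
  | insert a s _ ih =>
    rw [Finset.gcd_insert]
    have ha : (f a : ℤ) ∈ H := h a (Finset.mem_insert_self a s)
    have hs : ((s.gcd f : ℕ) : ℤ) ∈ H := ih fun i hi => h i (Finset.mem_insert_of_mem hi)
    change ((Nat.gcd (f a) (s.gcd f) : ℕ) : ℤ) ∈ H
    rw [Nat.gcd_eq_gcd_ab]
    refine H.add_mem ?_ ?_
    · rw [mul_comm, ← smul_eq_mul]
      exact H.zsmul_mem ha _
    · rw [mul_comm, ← smul_eq_mul]
      exact H.zsmul_mem hs _

section Group

variable (k : Type u) [Field k] (X : Scheme.{u}) [X.Over (Spec (CommRingCat.of k))]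
  [IsProper (X ↘ Spec (CommRingCat.of k))] (hdim : topologicalKrullDim X ≤ 1)

/-- the group of degrees of invertible modules -/
def degGroup : AddSubgroup ℤ where
  carrier := {d | ∃ L : X.Modules, PicF.IsInvertible L ∧ Curv2.deg k X L 1 = d}
  zero_mem' := ⟨Coh.structureModule X, isInvertible_structureModule X,
    Groth.Agent.Lib.DegTensor13.deg_structureModule k (by exact_mod_cast hdim)⟩
  add_mem' := by
    rintro a b ⟨L, hL, rfl⟩ ⟨M, hM, rfl⟩
    exact ⟨tensorMod L M, Groth.Agent.Lib.H78TensorGen.isInvertible_tensorMod hL hM,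
      Groth.Agent.Lib.DegTensor13.deg_tensorMod k (by exact_mod_cast hdim) hL hM⟩
  neg_mem' := by
    rintro a ⟨L, hL, rfl⟩
    obtain ⟨M, hM, ⟨e⟩⟩ := Groth.Agent.Lib.H78Dual.exists_tensor_inverse hL
    refine ⟨M, hM, Groth.Agent.Lib.DegTensor13.deg_eq_neg_of_iso k (by exact_mod_cast hdim) hL
      ⟨braiding L M ≪≫ e⟩⟩

theorem mem_degGroup_iff (d : ℤ) :
    d ∈ degGroup k X hdim ↔ ∃ L : X.Modules, PicF.IsInvertible L ∧ Curv2.deg k X L 1 = d := Iff.rfl

end Group

section Point

/-- the kernel of a morphism from a reduced scheme is a vanishing ideal (helper59's lemma, restated here to keep the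
imports small) -/
theorem ker_eq_vanishingIdeal_of_isReduced {T X : Scheme.{u}} (h : T ⟶ X) [IsReduced T] :
    h.ker = Scheme.IdealSheafData.vanishingIdeal (.closure (Set.range h)) := by
  rw [← Scheme.IdealSheafData.map_bot, ← Scheme.nilradical_eq_bot,
    ← Scheme.IdealSheafData.vanishingIdeal_top, Scheme.IdealSheafData.map_vanishingIdeal]
  congr 2
  simp

theorem ker_fromSpecResidueField_eq (X : Scheme.{u}) (x : X) (hx : IsClosed ({x} : Set X)) :
    (X.fromSpecResidueField x).ker =
      Scheme.IdealSheafData.vanishingIdeal (⟨{x}, hx⟩ : Closeds X) := by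
  rw [ker_eq_vanishingIdeal_of_isReduced]
  congr 1
  apply Closeds.ext
  rw [Closeds.coe_closure, Scheme.range_fromSpecResidueField, hx.closure_eq]
  rfl

/-- a normal local ring of an integral locally Noetherian scheme of dimension `≤ 1` is a principal ideal ring -/
theorem isPrincipalIdealRing_stalk_of_isIntegrallyClosed (X : Scheme.{u}) [IsIntegral X]
    [IsLocallyNoetherian X] (hdim : topologicalKrullDim X ≤ 1) (x : X)
    (hn : IsIntegrallyClosed (X.presheaf.stalk x)) : IsPrincipalIdealRing (X.presheaf.stalk x) := by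
  have hdimx : ringKrullDim (X.presheaf.stalk x) ≤ 1 :=
    (Groth.Agent.Lib.RegularDimOne.dim_stalk_le X x).trans hdim
  haveI : Ring.KrullDimLE 1 (X.presheaf.stalk x) := Ring.krullDimLE_iff.mpr hdimx
  have h03 := (tfae_of_isNoetherianRing_of_isLocalRing_of_isDomain (X.presheaf.stalk x)).out 0 3
  exact h03.mpr ⟨hn, fun P hP hPp => IsLocalRing.eq_maximalIdeal (hPp.isMaximal_of_ne_bot hP)⟩

variable (k : Type u) [Field k] (X : Scheme.{u}) [X.Over (Spec (CommRingCat.of k))]
  [IsProper (X ↘ Spec (CommRingCat.of k))] (hdim : topologicalKrullDim X ≤ 1)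
  (x : X) (hx : IsClosed ({x} : Set X))

lemma auxDeg (chiO chiL chiG D : ℤ) (q n : ℕ) (h1 : chiG = chiL - q) (h2 : chiG = chiO) (hq : q = n)
    (hD : D = chiL - 1 * chiO) : D = n := by lia

include hdim in
/-- `deg (I_x)^∨ = [κ(x) : k]` -/
theorem deg_dual_idealMod_point
    (hI : PicF.IsInvertible (ClSub.idealMod
      (Scheme.IdealSheafData.vanishingIdeal (⟨{x}, hx⟩ : Closeds X)))) :
    Curv2.deg k X (RefHull.dual (ClSub.idealMod
      (Scheme.IdealSheafData.vanishingIdeal (⟨{x}, hx⟩ : Closeds X)))) 1 =
      Module.finrank k (X.residueField x) := by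
  set I := Scheme.IdealSheafData.vanishingIdeal (⟨{x}, hx⟩ : Closeds X) with hIdef
  have hLd := Groth.Agent.Lib.H78Dual.isInvertible_dual hI
  have e := Groth.Agent.Lib.H78Dual.dualTensorIso hI
  have hZ : topologicalKrullDim (I.support : Set X) ≤ 0 := by
    rw [hIdef, Scheme.IdealSheafData.coe_support_vanishingIdeal]
    change topologicalKrullDim (({x} : Set X)) ≤ 0
    exact topologicalKrullDim_zero_of_discreteTopology _
  have h1 := Groth.Agent.Lib.CurveIdeal54.euler_idealMod_tensor Groth.Agent.Lib.PointTwist.properFinHyp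
    Groth.Agent.Lib.DegTensor13.snapperHyp Groth.Agent.Lib.DegTensor13.vanHyp k X hdim hLd I hZ
  have h2 : Curv2.euler k X (tensorMod (ClSub.idealMod I) (RefHull.dual (ClSub.idealMod I))) =
      Curv2.euler k X (Coh.structureModule X) :=
    Groth.Agent.Lib.DegTensor54.euler_congr k (braiding (ClSub.idealMod I) _ ≪≫ e)
  have hq : Module.finrank k (Coh.HH X (ClSub.quotMod I) 0) = Module.finrank k (X.residueField x) := by
    rw [hIdef, ← ker_fromSpecResidueField_eq X x hx]
    exact Groth.Agent.Lib.CurveDeg48.finrank_H0_quotMod_residue k X x hx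
  have hD : Curv2.deg k X (RefHull.dual (ClSub.idealMod I)) 1 =
      Curv2.euler k X (RefHull.dual (ClSub.idealMod I)) -
        ((1 : ℕ) : ℤ) * Curv2.euler k X (Coh.structureModule X) := rfl
  rw [Nat.cast_one] at hD
  exact auxDeg _ _ _ _ _ _ h1 h2 hq hD

include hdim in
/-- the residue degree of a closed point with invertible ideal sheaf is the degree of an invertible module -/
theorem finrank_residueField_mem_degGroup
    (hI : PicF.IsInvertible (ClSub.idealMod
      (Scheme.IdealSheafData.vanishingIdeal (⟨{x}, hx⟩ : Closeds X)))) :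
    ((Module.finrank k (X.residueField x) : ℕ) : ℤ) ∈ degGroup k X hdim :=
  ⟨_, Groth.Agent.Lib.H78Dual.isInvertible_dual hI, deg_dual_idealMod_point k X hdim x hx hI⟩

end Point

section Gcd

variable (k : Type u) [Field k] (X : Scheme.{u}) [X.Over (Spec (CommRingCat.of k))]
  [IsIntegral X] [IsProper (X ↘ Spec (CommRingCat.of k))] (hdim : topologicalKrullDim X = 1)

include hdim in
/-- closed points with principal local rings whose residue degrees have gcd one give an invertible module of degree
one -/
theorem exists_invertible_deg_one_of_gcd (s : Finset X) (hcl : ∀ x ∈ s, IsClosed ({x} : Set X))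
    (hpid : ∀ x ∈ s, IsPrincipalIdealRing (X.presheaf.stalk x))
    (hgcd : s.gcd (fun x => Module.finrank k (X.residueField x)) = 1) :
    ∃ L : X.Modules, PicF.IsInvertible L ∧ Curv2.deg k X L 1 = 1 := by
  have h := natCast_gcd_mem (degGroup k X hdim.le) s (fun x => Module.finrank k (X.residueField x))
    (fun x hx => finrank_residueField_mem_degGroup k X hdim.le x (hcl x hx)
      (Groth.Agent.Lib.CurvePoint54.isInvertible_idealMod_point' k X hdim x (hcl x hx) (hpid x hx)))
  rw [hgcd, Nat.cast_one] at h
  exact h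

end Gcd

end Groth.Agent.Lib.CurveDegGroup54
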