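import Groth.Agent.Lib.GenericSmooth45
import Mathlib.AlgebraicGeometry.Morphisms.Finite
import Mathlib.AlgebraicGeometry.Morphisms.FiniteType
import Mathlib.AlgebraicGeometry.Noetherian
import Mathlib.AlgebraicGeometry.Properties

/-!
# Morphisms of curves: dominant iff finite fibres (helper45)
-/

set_option autoImplicit false
universe u
open CategoryTheory AlgebraicGeometry TopologicalSpace

namespace Groth.Agent.Lib.CurveDominant45

variable {X Y : Scheme.{u}}

/-- The generic point has coheight zero. -/
theorem coheight_genericPoint [IrreducibleSpace X] : Order.coheight (genericPoint X) = 0 := by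
  rw [Order.coheight_eq_zero]
  intro b _
  exact genericPoint_specializes b

/-- If closed points have one-dimensional local rings, the generic point is not closed. -/
theorem not_isClosed_genericPoint [IrreducibleSpace X]
    (hX : ∀ x : X, IsClosed ({x} : Set X) → ringKrullDim (X.presheaf.stalk x) = 1) :
    ¬ IsClosed ({genericPoint X} : Set X) := by
  intro h
  have c3 := hX _ h
  rw [ringKrullDim_stalk_eq_coheight, coheight_genericPoint] at c3
  norm_num at c3

/-- In a curve, each point is closed or generic. -/
theorem isClosed_or_eq_genericPoint [CompactSpace X] [IrreducibleSpace X]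
    (hX : ∀ x : X, IsClosed ({x} : Set X) → ringKrullDim (X.presheaf.stalk x) = 1) (x : X) :
    IsClosed ({x} : Set X) ∨ x = genericPoint X := by
  by_contra hcon
  push Not at hcon
  obtain ⟨hncl, hne⟩ := hcon
  obtain ⟨x', hx'mem, hx'cl⟩ := (isClosed_closure (s := ({x} : Set X))).exists_closed_singleton
    ((Set.singleton_nonempty x).closure)
  have hxx' : x ⤳ x' := specializes_iff_mem_closure.mpr hx'mem
  have hne' : x' ≠ x := by rintro rfl; exact hncl hx'cl
  have h1 : x' < x := ⟨hxx', fun h => hne' ((hxx'.antisymm h).eq).symm⟩
  have h2 : x < genericPoint X :=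
    ⟨genericPoint_specializes x, fun h => hne ((h.antisymm (genericPoint_specializes x)).eq)⟩
  have c1 : Order.coheight x + 1 ≤ Order.coheight x' := Order.coheight_add_one_le h1
  have c2 : Order.coheight (genericPoint X) + 1 ≤ Order.coheight x := Order.coheight_add_one_le h2
  have c3 := hX x' hx'cl
  rw [ringKrullDim_stalk_eq_coheight] at c3
  have c4 : Order.coheight x' = 1 := by exact_mod_cast c3
  have c5 : (2 : ℕ∞) ≤ Order.coheight x' := by
    calc (2 : ℕ∞) = 0 + 1 + 1 := by norm_num
      _ ≤ Order.coheight (genericPoint X) + 1 + 1 := by gcongr; exact bot_le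
      _ ≤ Order.coheight x + 1 := by gcongr
      _ ≤ Order.coheight x' := c1
  rw [c4] at c5
  norm_num at c5

/-- A closed subset of a Noetherian quasi-sober space consisting of closed points is finite. -/
theorem finite_of_forall_isClosed_singleton {S : Type*} [TopologicalSpace S] [NoetherianSpace S]
    [QuasiSober S] (Z : Set S) (hZ : IsClosed Z) (h : ∀ z ∈ Z, IsClosed ({z} : Set S)) :
    Z.Finite := by
  obtain ⟨T, hTfin, hTcl, hTirr, hT⟩ :=
    NoetherianSpace.exists_finite_set_isClosed_irreducible hZ
  rw [hT]
  refine hTfin.sUnion fun t ht => ?_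
  obtain ⟨z, hz⟩ := QuasiSober.sober (hTirr t ht) (hTcl t ht)
  have hzt : z ∈ t := hz.mem
  have hzZ : z ∈ Z := by rw [hT]; exact Set.mem_sUnion.mpr ⟨t, ht, hzt⟩
  have : t = {z} := by
    rw [← hz.def, (h z hzZ).closure_eq]
  rw [this]
  exact Set.finite_singleton z

theorem isDominant_iff_finite_fibres (k : Type u) [Field k]
    (p : X ⟶ Spec (CommRingCat.of k)) (q : Y ⟶ Spec (CommRingCat.of k))
    [LocallyOfFiniteType p] [QuasiCompact p] [LocallyOfFiniteType q] [QuasiCompact q]
    [IrreducibleSpace X] [IrreducibleSpace Y]
    (hX : ∀ x : X, IsClosed ({x} : Set X) → ringKrullDim (X.presheaf.stalk x) = 1)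
    (hY : ∀ x : Y, IsClosed ({x} : Set Y) → ringKrullDim (Y.presheaf.stalk x) = 1)
    (f : X ⟶ Y) (hf : f ≫ q = p) :
    IsDominant f ↔ ∀ y : Y, (f.base ⁻¹' {y}).Finite := by
  subst hf
  have hJY : JacobsonSpace Y := LocallyOfFiniteType.jacobsonSpace q
  have hJX : JacobsonSpace X := LocallyOfFiniteType.jacobsonSpace (f ≫ q)
  have hlft : LocallyOfFiniteType f := locallyOfFiniteType_of_comp f q
  have hcX : CompactSpace X := QuasiCompact.compactSpace_of_compactSpace (f ≫ q)
  have hcY : CompactSpace Y := QuasiCompact.compactSpace_of_compactSpace q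
  have hlnX : IsLocallyNoetherian X := LocallyOfFiniteType.isLocallyNoetherian (f ≫ q)
  have hnX : IsNoetherian X := ⟨⟩
  have hclosed : ∀ x : X, IsClosed ({x} : Set X) → IsClosed ({f x} : Set Y) := fun x hx =>
    f.closePoints_subset_preimage_closedPoints hx
  constructor
  · intro hdom y
    have hgen : f (genericPoint X) = genericPoint Y :=
      Groth.Agent.Lib.GenericSmooth45.map_genericPoint_of_denseRange f hdom.denseRange
    by_cases hy : y = genericPoint Y
    · subst hy
      refine (Set.finite_singleton (genericPoint X)).subset ?_
      intro x hx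
      rcases isClosed_or_eq_genericPoint hX x with h | h
      · have := hclosed x h
        rw [show f x = genericPoint Y from hx] at this
        exact (not_isClosed_genericPoint hY this).elim
      · exact h
    · have hycl : IsClosed ({y} : Set Y) := (isClosed_or_eq_genericPoint hY y).resolve_right hy
      apply finite_of_forall_isClosed_singleton _ (hycl.preimage f.continuous)
      intro x hx
      refine (isClosed_or_eq_genericPoint hX x).resolve_right ?_
      rintro rfl
      exact hy ((show f (genericPoint X) = y from hx).symm.trans hgen)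
  · intro hfin
    by_contra hnd
    have hne : f (genericPoint X) ≠ genericPoint Y := by
      intro h
      apply hnd
      refine ⟨?_⟩
      rw [DenseRange, dense_iff_closure_eq, ← Set.univ_subset_iff, ← (genericPoint_spec Y).def, ← h]
      exact closure_mono (Set.singleton_subset_iff.mpr ⟨_, rfl⟩)
    have hycl : IsClosed ({f (genericPoint X)} : Set Y) :=
      (isClosed_or_eq_genericPoint hY _).resolve_right hne
    have huniv : f.base ⁻¹' {f (genericPoint X)} = Set.univ := by
      rw [← Set.univ_subset_iff, ← (genericPoint_spec X).def]
      exact closure_minimal (Set.singleton_subset_iff.mpr rfl) (hycl.preimage f.continuous)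
    have hfinX : Finite X := by
      have := hfin (f (genericPoint X))
      rw [huniv] at this
      exact Set.finite_univ_iff.mp this
    have hd : DiscreteTopology X := inferInstance
    exact not_isClosed_genericPoint hX (isClosed_discrete _)

end Groth.Agent.Lib.CurveDominant45
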