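import Groth.Agent.Lib.CDivDimOne45
import Mathlib.AlgebraicGeometry.Morphisms.Proper
import Mathlib.AlgebraicGeometry.Morphisms.FiniteType

/-!
# Fibres of dominant morphisms between integral curves are finite (helper45)
-/

set_option autoImplicit false
universe u
open CategoryTheory AlgebraicGeometry TopologicalSpace

namespace Groth.Agent.Lib.CurveFibres45

/-- Topological statement: the fibre over a non-generic point of a generic-point-preserving
continuous map from a Noetherian irreducible quasi-sober T0 space of dimension ≤ 1 is finite. -/
theorem finite_fibre_of_ne_genericPoint {S T : Type*} [TopologicalSpace S] [TopologicalSpace T]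
    [T0Space S] [QuasiSober S] [IrreducibleSpace S] [NoetherianSpace S]
    [T0Space T] [QuasiSober T] [IrreducibleSpace T]
    (hdim : topologicalKrullDim S ≤ 1) (f : S → T) (hf : Continuous f)
    (hgen : f (genericPoint S) = genericPoint T) (y : T) (hy : y ≠ genericPoint T) :
    (f ⁻¹' {y}).Finite := by
  have hZ : IsClosed (f ⁻¹' closure {y}) := isClosed_closure.preimage hf
  have hgenZ : genericPoint S ∉ f ⁻¹' closure {y} := by
    intro h
    have h1 : genericPoint T ∈ closure ({y} : Set T) := by
      have : f (genericPoint S) ∈ closure ({y} : Set T) := h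
      rwa [hgen] at this
    have h2 : y ⤳ genericPoint T := specializes_iff_mem_closure.mpr h1
    have h3 : genericPoint T ⤳ y := genericPoint_specializes y
    exact hy (h2.antisymm h3).eq
  have hfin := Groth.Agent.Lib.CDivDimOne45.finite_inter_of_noetherian hdim _ hZ hgenZ
    (Set.univ : Set S)
  refine hfin.subset ?_
  intro x hx
  refine ⟨?_, Set.mem_univ _⟩
  have : f x = y := hx
  change f x ∈ closure {y}
  rw [this]
  exact subset_closure rfl

/-- If the target has nonzero dimension, then its generic point is not closed. -/
theorem not_isClosed_genericPoint {T : Type*} [TopologicalSpace T]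
    [T0Space T] [QuasiSober T] [IrreducibleSpace T] (hT : topologicalKrullDim T ≠ 0) :
    ¬ IsClosed ({genericPoint T} : Set T) := by
  intro hcl
  apply hT
  have huniv : ({genericPoint T} : Set T) = Set.univ := by
    rw [← hcl.closure_eq]
    exact (genericPoint_spec T).def
  have hsub : Subsingleton T := by
    refine ⟨fun a b => ?_⟩
    have ha : a ∈ ({genericPoint T} : Set T) := huniv ▸ Set.mem_univ a
    have hb : b ∈ ({genericPoint T} : Set T) := huniv ▸ Set.mem_univ b
    exact ha.trans hb.symm
  have hsub' : Subsingleton (IrreducibleCloseds T) := by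
    refine ⟨fun A B => ?_⟩
    apply IrreducibleCloseds.ext
    have hA : (A : Set T) = Set.univ := by
      obtain ⟨a, ha⟩ := A.isIrreducible.nonempty
      ext z; simp only [Set.mem_univ, iff_true]
      rw [Subsingleton.elim z a]; exact ha
    have hB : (B : Set T) = Set.univ := by
      obtain ⟨a, ha⟩ := B.isIrreducible.nonempty
      ext z; simp only [Set.mem_univ, iff_true]
      rw [Subsingleton.elim z a]; exact ha
    rw [hA, hB]
  have hne : Nonempty (IrreducibleCloseds T) :=
    ⟨⟨Set.univ, IrreducibleSpace.isIrreducible_univ T, isClosed_univ⟩⟩
  exact Order.krullDim_eq_zero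

/-- Fibre over the generic point of a closed generic-point-preserving map from an irreducible
space of dimension ≤ 1 to an irreducible space of nonzero dimension is the generic point. -/
theorem fibre_genericPoint {S T : Type*} [TopologicalSpace S] [TopologicalSpace T]
    [T0Space S] [QuasiSober S] [IrreducibleSpace S]
    [T0Space T] [QuasiSober T] [IrreducibleSpace T]
    (hdim : topologicalKrullDim S ≤ 1) (hT : topologicalKrullDim T ≠ 0)
    (f : S → T) (hf : IsClosedMap f) :
    f ⁻¹' {genericPoint T} ⊆ {genericPoint S} := by
  intro x hx
  by_contra hne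
  have hcl := Groth.Agent.Lib.CDivDimOne45.isClosed_singleton_of_ne_genericPoint hdim x hne
  have h1 : IsClosed (f '' {x}) := hf _ hcl
  rw [Set.image_singleton] at h1
  have : f x = genericPoint T := hx
  rw [this] at h1
  exact not_isClosed_genericPoint hT h1

/-- All fibres finite. -/
theorem finite_fibres {S T : Type*} [TopologicalSpace S] [TopologicalSpace T]
    [T0Space S] [QuasiSober S] [IrreducibleSpace S] [NoetherianSpace S]
    [T0Space T] [QuasiSober T] [IrreducibleSpace T]
    (hdim : topologicalKrullDim S ≤ 1) (hT : topologicalKrullDim T ≠ 0)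
    (f : S → T) (hf : Continuous f) (hcl : IsClosedMap f)
    (hgen : f (genericPoint S) = genericPoint T) (y : T) :
    (f ⁻¹' {y}).Finite := by
  by_cases hy : y = genericPoint T
  · subst hy
    exact (Set.finite_singleton _).subset (fibre_genericPoint hdim hT f hcl)
  · exact finite_fibre_of_ne_genericPoint hdim f hf hgen y hy

end Groth.Agent.Lib.CurveFibres45
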