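import Groth.Agent.Lib.SmoothStalkRegular45
import Groth.Agent.Lib.RegularDimOne
import Groth.Agent.Lib.CurveFibres45
import Groth.Agent.Lib.EtaleDescend45
import Mathlib.AlgebraicGeometry.AlgClosed.Basic
import Mathlib.RingTheory.Unramified.LocalRing
import Mathlib.RingTheory.Flat.TorsionFree

/-!
# Étaleness of a map of smooth curves at a closed point (helper45)
-/

set_option autoImplicit false
universe u
open CategoryTheory AlgebraicGeometry IsLocalRing

namespace Groth.Agent.Lib.CurveEtale45

/-- A local homomorphism from a local PID to a local domain which is not a field, carrying the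
maximal ideal to a generating set of the maximal ideal, is flat. -/
theorem flat_of_map_maximalIdeal {A B : Type*} [CommRing A] [CommRing B] [IsLocalRing A]
    [IsLocalRing B] [IsDomain A] [IsPrincipalIdealRing A] [IsDomain B] (f : A →+* B)
    (h : Ideal.map f (maximalIdeal A) = maximalIdeal B) (hB : maximalIdeal B ≠ ⊥) : f.Flat := by
  have hinj : Function.Injective f := by
    rw [RingHom.injective_iff_ker_eq_bot]
    by_contra hk
    have hmax : (RingHom.ker f).IsMaximal := Ideal.IsPrime.isMaximal (RingHom.ker_isPrime f) hk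
    have h1 : RingHom.ker f = maximalIdeal A := IsLocalRing.eq_maximalIdeal hmax
    apply hB
    rw [← h, ← h1]
    exact (Ideal.map_eq_bot_iff_le_ker f).mpr le_rfl
  let _ : Algebra A B := f.toAlgebra
  change Module.Flat A B
  rw [IsDedekindDomain.flat_iff_torsion_eq_bot]
  rw [Submodule.eq_bot_iff]
  intro x hx
  rw [Submodule.mem_torsion_iff] at hx
  obtain ⟨a, ha⟩ := hx
  have h2 : f (a : A) * x = 0 := ha
  rcases mul_eq_zero.mp h2 with h3 | h3
  · exfalso
    have h4 : (a : A) = 0 := hinj (by rw [h3, map_zero])
    exact nonZeroDivisors.coe_ne_zero a h4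
  · exact h3

variable {X : Scheme.{u}} [IsIntegral X]

/-- At a closed point of an integral scheme of nonzero dimension, the local ring is not a field. -/
theorem maximalIdeal_stalk_ne_bot (hdim : topologicalKrullDim X ≠ 0) (x : X)
    (hx : IsClosed ({x} : Set X)) : maximalIdeal (X.presheaf.stalk x) ≠ ⊥ := by
  intro h
  have hf : IsField (X.presheaf.stalk x) := IsLocalRing.isField_iff_maximalIdeal_eq.mpr h
  let _ := hf.toField
  have hsub : Subsingleton (PrimeSpectrum (X.presheaf.stalk x)) := inferInstance
  have h1 : genericPoint X ∈ Set.range (X.fromSpecStalk x) := by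
    rw [Scheme.range_fromSpecStalk]
    exact genericPoint_specializes x
  obtain ⟨a, ha⟩ := h1
  have h2 : X.fromSpecStalk x (closedPoint (X.presheaf.stalk x)) = x :=
    Scheme.fromSpecStalk_closedPoint
  have h3 : a = closedPoint (X.presheaf.stalk x) := hsub.elim _ _
  rw [h3, h2] at ha
  rw [ha] at hx
  exact Groth.Agent.Lib.CurveFibres45.not_isClosed_genericPoint hdim hx

section main

variable (k : Type u) [Field k] [IsAlgClosed k] {X Y : Scheme.{u}}
    (pX : X ⟶ Spec (CommRingCat.of k)) (pY : Y ⟶ Spec (CommRingCat.of k)) (φ : X ⟶ Y)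
    (w : φ ≫ pY = pX)

include w in
/-- The residue field extension at a closed point of a scheme locally of finite type over an
algebraically closed field is trivial. -/
theorem residueFieldMap_surjective [LocallyOfFiniteType pX] (x : X)
    (hx : IsClosed ({x} : Set X)) : Function.Surjective (φ.residueFieldMap x).hom := by
  let e := residueFieldIsoBase pX x hx
  let a : CommRingCat.of k ⟶ Y.residueField (φ x) :=
    Spec.preimage (Y.fromSpecResidueField (φ x) ≫ pY)
  have key : e.inv = a ≫ φ.residueFieldMap x := by
    apply Spec.map_injective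
    rw [SpecMap_residueFieldIsoBase_inv, Spec.map_comp, Spec.map_preimage, ← w,
      Scheme.Hom.SpecMap_residueFieldMap_fromSpecResidueField_assoc]
  intro z
  refine ⟨a.hom (e.hom.hom z), ?_⟩
  have h1 : (a ≫ φ.residueFieldMap x).hom (e.hom.hom z) = z := by
    rw [← key]
    change (e.hom ≫ e.inv).hom z = z
    rw [Iso.hom_inv_id]
    rfl
  exact h1

include w in
theorem main [IsIntegral X] [Smooth pX] [IsIntegral Y] [Smooth pY]
    (hdX : topologicalKrullDim X = 1) (hdY : topologicalKrullDim Y = 1)
    (x : X) (hx : IsClosed ({x} : Set X)) :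
    (∃ U : X.Opens, x ∈ U ∧ Etale (U.ι ≫ φ)) ↔
      Ideal.map (φ.stalkMap x).hom (IsLocalRing.maximalIdeal (Y.presheaf.stalk (φ.base x))) =
        IsLocalRing.maximalIdeal (X.presheaf.stalk x) := by
  have hsurj := residueFieldMap_surjective k pX pY φ w x hx
  subst w
  have hlft : LocallyOfFiniteType φ := locallyOfFiniteType_of_comp φ pY
  have hYn : IsLocallyNoetherian Y := LocallyOfFiniteType.isLocallyNoetherian pY
  have hlfp : LocallyOfFinitePresentation φ :=
    (LocallyOfFinitePresentation.iff_locallyOfFiniteType (f := φ)).mpr hlft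
  let _ : Algebra (Y.presheaf.stalk (φ.base x)) (X.presheaf.stalk x) :=
    (φ.stalkMap x).hom.toAlgebra
  have hloc : IsLocalHom (algebraMap (Y.presheaf.stalk (φ.base x)) (X.presheaf.stalk x)) :=
    inferInstanceAs (IsLocalHom (φ.stalkMap x).hom)
  have hess : Algebra.EssFiniteType (Y.presheaf.stalk (φ.base x)) (X.presheaf.stalk x) :=
    LocallyOfFiniteType.stalkMap φ x
  have hsep : Algebra.IsSeparable (ResidueField (Y.presheaf.stalk (φ.base x)))
      (ResidueField (X.presheaf.stalk x)) := by
    have hsurj' : Function.Surjective (algebraMap (ResidueField (Y.presheaf.stalk (φ.base x)))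
      (ResidueField (X.presheaf.stalk x))) := hsurj
    refine ⟨fun z => ?_⟩
    obtain ⟨c, rfl⟩ := hsurj' z
    exact isSeparable_algebraMap c
  have hiff := Algebra.FormallyUnramified.iff_map_maximalIdeal_eq
    (R := Y.presheaf.stalk (φ.base x)) (S := X.presheaf.stalk x)
  constructor
  · rintro ⟨U, hxU, hU⟩
    have H1 : (φ.stalkMap x).hom.FormallyUnramified :=
      Groth.Agent.Lib.UnramDescend45.stalkMap_formallyUnramified_of_nhd φ x U hxU
    exact (hiff.mp H1).2
  · intro h
    have hun : (φ.stalkMap x).hom.FormallyUnramified := hiff.mpr ⟨hsep, h⟩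
    have hreg : IsRegularLocalRing (Y.presheaf.stalk (φ.base x)) :=
      Groth.Agent.Lib.SmoothStalkRegular45.isRegularLocalRing_stalk_of_smooth_field k pY _
    have hpid : IsPrincipalIdealRing (Y.presheaf.stalk (φ.base x)) :=
      Groth.Agent.Lib.RegularDimOne.isPrincipalIdealRing_of_regular_of_dim_le_one _
        ((Groth.Agent.Lib.RegularDimOne.dim_stalk_le Y (φ.base x)).trans hdY.le)
    have hne : maximalIdeal (X.presheaf.stalk x) ≠ ⊥ :=
      maximalIdeal_stalk_ne_bot (by rw [hdX]; norm_num) x hx
    have hfl : (φ.stalkMap x).hom.Flat := flat_of_map_maximalIdeal _ h hne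
    exact Groth.Agent.Lib.EtaleDescend45.exists_nhd_etale_of_stalk φ x hfl hun

end main

end Groth.Agent.Lib.CurveEtale45
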