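import Groth.Agent.Lib.RiemannRoch54
import Groth.Agent.Lib.H4TwistGamma
import Mathlib.LinearAlgebra.Dual.Lemmas
import Mathlib.FieldTheory.IsAlgClosed.Basic

/-!
# Vanishing of `H^1` of invertible modules of large degree on integral proper curves, without duality
(helper54; campaign K2a)

Namespace `Groth.Agent.Lib.CurveH1Van54`.  `H : ProperFinHyp.Hyp` is the statement of S0002.

* `finrank_le_of_pairing_surjective` (linear algebra): a family of linear maps `B a : W → U`, additive and homogeneous
  in `a ∈ V`, with `B a` surjective for `a ≠ 0` and `U ≠ 0`, forces `dim V ≤ dim W`.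
* `ofSection_add`, `toAbF_map_ofSection_smul`, `map_ofSection_smul`: the map `H^n(O) → H^n(L)` induced by a section of `L`
  is additive and homogeneous in the section; `pairing k X L n a : H^n(O) →ₗ[k] H^n(L)`, `pairing_add`, `pairing_smul`.
* `map_one_surjective_of_ne_zero`: a nonzero map of invertible modules on an integral locally Noetherian scheme of
  dimension `≤ 1` is surjective on `H^1`.
* **`finrank_H0_le_genus`**: on an integral proper curve, `H^1(L) ≠ 0` implies `h^0(L) ≤ g = h^1(O)`.
* `subsingleton_H1_of_genus_le_euler`: `g ≤ χ(L)` implies `H^1(L) = 0`;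
  `subsingleton_H1_of_deg_ge`: if `h^0(O) = 1` then `2g - 1 ≤ deg L` implies `H^1(L) = 0` (= S1522 form).
* `finrank_H0_structure_eq_one`: `h^0(O) = 1` over an algebraically closed field.
-/

set_option autoImplicit false
universe u
open CategoryTheory CategoryTheory.Limits AlgebraicGeometry Opposite TopologicalSpace

namespace Groth.Agent.Lib.CurveH1Van54

open Groth.Agent.Lib.EulerChar54 Groth.Agent.Lib.ProperFinHyp Groth.Agent.Lib.DegCurve54
open Groth.Agent.Lib.InvMap54 Groth.Agent.Lib.H90Invertible Groth.Agent.Lib.CohLES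
open Groth.Agent.Lib.H78SecCoord Groth.Agent.Lib.EulerNat54 Groth.Agent.Lib.StructureModule

section LinearAlgebra

/-- a "bilinear" map `V × W → U` all of whose partial maps `B a`, `a ≠ 0`, are surjective onto a nonzero space
forces `dim V ≤ dim W` -/
theorem finrank_le_of_pairing_surjective {k V W U : Type*} [Field k] [AddCommGroup V] [Module k V]
    [AddCommGroup W] [Module k W] [AddCommGroup U] [Module k U] [Module.Finite k W] [Nontrivial U]
    (B : V → W →ₗ[k] U) (hadd : ∀ a b x, B (a + b) x = B a x + B b x)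
    (hsmul : ∀ (c : k) a x, B (c • a) x = c • B a x)
    (hB : ∀ a, a ≠ 0 → Function.Surjective (B a)) :
    Module.Finite k V ∧ Module.finrank k V ≤ Module.finrank k W := by
  obtain ⟨u, hu⟩ := exists_ne (0 : U)
  obtain ⟨v, hv⟩ : ∃ v : Module.Dual k U, v u ≠ 0 := by
    by_contra h
    simp only [not_exists, not_not] at h
    exact hu ((Module.forall_dual_apply_eq_zero_iff k u).mp h)
  let Φ : V →ₗ[k] Module.Dual k W :=
    { toFun := fun a => v ∘ₗ B a
      map_add' := fun a b => by
        ext x
        simp only [LinearMap.comp_apply, LinearMap.add_apply, hadd, map_add]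
      map_smul' := fun c a => by
        ext x
        simp only [LinearMap.comp_apply, LinearMap.smul_apply, hsmul, RingHom.id_apply]
        exact v.map_smul c _ }
  have hinj : Function.Injective Φ := by
    rw [← LinearMap.ker_eq_bot, LinearMap.ker_eq_bot']
    intro a ha
    by_contra hne
    obtain ⟨w, hw⟩ := hB a hne u
    apply hv
    rw [← hw]
    exact LinearMap.congr_fun ha w
  have hfin : Module.Finite k V := Module.Finite.of_injective Φ hinj
  refine ⟨hfin, ?_⟩
  calc Module.finrank k V ≤ Module.finrank k (Module.Dual k W) :=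
        LinearMap.finrank_le_finrank_of_injective hinj
    _ = Module.finrank k W := Subspace.dual_finrank_eq

end LinearAlgebra

section Sections

variable {X : Scheme.{u}} {L : X.Modules}

lemma hom_ext_sec {s s' : Coh.structureModule X ⟶ L} (h : sec s = sec s') : s = s' := by
  rw [← ofSection_sec s, ← ofSection_sec s', h]

lemma ofSection_add (σ τ : Γ(L, ⊤)) : ofSection (σ + τ) = ofSection σ + ofSection τ := by
  apply hom_ext_sec
  rw [sec_ofSection]
  change _ = (ofSection σ + ofSection τ).app ⊤ _
  rw [Scheme.Modules.Hom.add_app]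
  change _ = sec (ofSection σ) + sec (ofSection τ)
  rw [sec_ofSection, sec_ofSection]

/-- the map on the underlying abelian sheaves induced by `ρ • σ` is that of `σ` followed by multiplication
by `ρ` -/
lemma toAbF_map_ofSection_smul (ρ : Coh.Γtop X) (σ : Γ(L, ⊤)) :
    (toAbF X).map (ofSection ((show Γ(X, ⊤) from ρ) • σ)) =
      (toAbF X).map (ofSection σ) ≫ Coh.smulAb L ρ := by
  ext U m
  change ((toAbF X).map (ofSection ((show Γ(X, ⊤) from ρ) • σ))).hom.app U m =
    (Coh.smulAb L ρ).hom.app U (((toAbF X).map (ofSection σ)).hom.app U m)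
  rw [Coh.smulAb_app]
  obtain ⟨V⟩ := U
  let a : Γ(X, V) := m
  change (ofSection ((show Γ(X, ⊤) from ρ) • σ)).app V (toSec V a) = 
    @HSMul.hSMul (X.ringCatSheaf.obj.obj (op V)) (L.val.obj (op V)) (L.val.obj (op V)) _ (Coh.resTop X (op V) ρ) ((ofSection σ).app V (toSec V a))
  rw [ofSection_app, ofSection_app]
  have h1 := L.map_smul (homOfLE (le_top : V ≤ ⊤)) (show Γ(X, ⊤) from ρ) σ
  erw [h1]
  exact smul_comm a ((X.presheaf.map (homOfLE (le_top : V ≤ ⊤)).op).hom (show Γ(X, ⊤) from ρ))
    (Groth.Agent.Lib.H78TensorGen.rs L (le_top : V ≤ ⊤) σ)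

lemma map_ofSection_smul (ρ : Coh.Γtop X) (σ : Γ(L, ⊤)) (n : ℕ)
    (x : Coh.HH X (Coh.structureModule X) n) :
    map (ofSection ((show Γ(X, ⊤) from ρ) • σ)) n x = ρ • map (ofSection σ) n x := by
  have h := congrArg (fun f => Sheaf.H.map f n x) (toAbF_map_ofSection_smul ρ σ)
  exact h.trans (Sheaf.H.map_comp_apply _ _ x)

end Sections

section Pairing

open Groth.Agent.Lib.H4Twist

variable (k : Type u) [Field k] (X : Scheme.{u}) [X.Over (Spec (CommRingCat.of k))] (L : X.Modules)

/-- the pairing `H^0(L) × H^n(O) → H^n(L)`, as a family of linear maps -/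
noncomputable def pairing (n : ℕ) (a : Coh.HH X L 0) :
    Coh.HH X (Coh.structureModule X) n →ₗ[k] Coh.HH X L n :=
  mapₗ k (ofSection (h0Equiv L a)) n

theorem pairing_add (n : ℕ) (a b : Coh.HH X L 0) (x : Coh.HH X (Coh.structureModule X) n) :
    pairing k X L n (a + b) x = pairing k X L n a x + pairing k X L n b x := by
  change map (ofSection (h0Equiv L (a + b))) n x = _
  rw [map_add (h0Equiv L), ofSection_add]
  exact map_add' _ _ n x

theorem pairing_smul (n : ℕ) (c : k) (a : Coh.HH X L 0) (x : Coh.HH X (Coh.structureModule X) n) :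
    pairing k X L n (c • a) x = c • pairing k X L n a x := by
  change map (ofSection (h0Equiv L (c • a))) n x = c • map (ofSection (h0Equiv L a)) n x
  rw [smul_over_def, smul_over_def, h0Equiv_smul]
  exact map_ofSection_smul _ _ n x

end Pairing

section Vanishing

open Groth.Agent.Lib.H4Twist

variable {X : Scheme.{u}} [IsIntegral X] [IsLocallyNoetherian X] (hdim : topologicalKrullDim X ≤ 1)
  {N L : X.Modules} (hN : PicF.IsInvertible N) (hL : PicF.IsInvertible L)

include hdim hN hL in
/-- a nonzero map of invertible modules on an integral curve is surjective on `H^1` -/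
theorem map_one_surjective_of_ne_zero (s : N ⟶ L) (hs : s ≠ 0) :
    Function.Surjective (map s 1) := by
  have hLc : Coh.IsCoh L := isCoh_of_isInvertible hL
  have hNq : N.IsQuasicoherent := (isCoh_of_isInvertible hN).1
  have hsupp := isClosed_singleton_of_mem_support_cokernel hN hL s hdim hs
  have hQ : Coh.IsCoh (cokernel s) := Groth.Agent.Lib.H90OXModExact.isCoh_cokernel s hLc
  have hmono : Mono s := mono_of_ne_zero hN hL s hs
  have hS : (ShortComplex.mk s (cokernel.π s) (cokernel.condition s)).ShortExact :=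
    { exact := ShortComplex.exact_cokernel s }
  have hQ1 : Subsingleton (Coh.HH X (cokernel s) 1) :=
    Groth.Agent.S0047.result X _ hQ hsupp 1 Nat.one_pos
  intro z
  exact exact₂ hS 1 z (Subsingleton.elim _ _)

end Vanishing

section Main

open Groth.Agent.Lib.H4Twist

variable (H : Hyp.{u}) (k : Type u) [Field k] (X : Scheme.{u}) [X.Over (Spec (CommRingCat.of k))]
  [IsIntegral X] [IsProper (X ↘ (Spec (CommRingCat.of k)))] (hdim : topologicalKrullDim X ≤ 1)
  {L : X.Modules} (hL : PicF.IsInvertible L)

include H hdim hL in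
/-- **`H^1(L) ≠ 0` forces `h^0(L) ≤ g`** on an integral proper curve (no duality needed) -/
theorem finrank_H0_le_genus [Nontrivial (Coh.HH X L 1)] :
    Module.finrank k (Coh.HH X L 0) ≤ Curv2.genus k X := by
  have : IsLocallyNoetherian X :=
    LocallyOfFiniteType.isLocallyNoetherian (X ↘ (Spec (CommRingCat.of k)))
  have hOinv := isInvertible_structureModule X
  have hOc : Coh.IsCoh (Coh.structureModule X) := isCoh_of_isInvertible hOinv
  have hfin : Module.Finite k (Coh.HH X (Coh.structureModule X) 1) := H k X _ hOc 1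
  refine (finrank_le_of_pairing_surjective (pairing k X L 1) (pairing_add k X L 1)
    (pairing_smul k X L 1) fun a ha => ?_).2
  refine map_one_surjective_of_ne_zero hdim hOinv hL _ fun h0 => ha ?_
  have h1 : sec (ofSection (h0Equiv L a)) = 0 := by
    rw [h0]
    change (0 : Coh.structureModule X ⟶ L).app ⊤ _ = 0
    rw [Scheme.Modules.Hom.zero_app]
    rfl
  rw [sec_ofSection] at h1
  exact (h0Equiv L).map_eq_zero_iff.mp h1

end Main

section AlgClosed

open Groth.Agent.Lib.H4Twist

variable (H : Hyp.{u}) (k : Type u) [Field k] [IsAlgClosed k] (X : Scheme.{u})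
  [X.Over (Spec (CommRingCat.of k))] [IsIntegral X] [IsProper (X ↘ (Spec (CommRingCat.of k)))]

include H in
/-- global functions on an integral proper scheme over an algebraically closed field are constant -/
theorem finrank_H0_structure_eq_one :
    Module.finrank k (Coh.HH X (Coh.structureModule X) 0) = 1 := by
  have hOinv := isInvertible_structureModule X
  have hOc : Coh.IsCoh (Coh.structureModule X) := isCoh_of_isInvertible hOinv
  have hfin : Module.Finite k (Coh.HH X (Coh.structureModule X) 0) := H k X _ hOc 0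
  let _ : Algebra k Γ(X, ⊤) := (Coh.toGlobal (X ↘ Spec (CommRingCat.of k))).toAlgebra
  let e : Coh.HH X (Coh.structureModule X) 0 ≃+ Γ(X, ⊤) := h0Equiv (Coh.structureModule X)
  have he : ∀ (c : k) (x : Coh.HH X (Coh.structureModule X) 0), e (c • x) = c • e x := by
    intro c x
    rw [smul_over_def]
    exact h0Equiv_smul (Coh.structureModule X) _ x
  let eₗ : Coh.HH X (Coh.structureModule X) 0 ≃ₗ[k] Γ(X, ⊤) :=
    { e with map_smul' := he }
  have hfinR : Module.Finite k Γ(X, ⊤) := Module.Finite.equiv eₗ
  have hint : Algebra.IsIntegral k Γ(X, ⊤) := Algebra.IsIntegral.of_finite k _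
  have hbij : Function.Bijective (algebraMap k Γ(X, ⊤)) :=
    IsAlgClosed.algebraMap_bijective_of_isIntegral
  rw [eₗ.finrank_eq]
  refine finrank_eq_one (1 : Γ(X, ⊤)) one_ne_zero fun w => ?_
  obtain ⟨c, hc⟩ := hbij.2 w
  exact ⟨c, by rw [Algebra.smul_def, mul_one, hc]⟩

end AlgClosed

section Degree

lemma auxV (a b : ℕ) (chi : ℤ) (g : ℕ) (hchi : chi = (a : ℤ) - b) (hg : (g : ℤ) ≤ chi) (hb : 0 < b)
    (ha : a ≤ g) : False := by lia

lemma auxD (D e chi : ℤ) (c g : ℕ) (hD : D = chi - 1 * e) (he : e = (c : ℤ) - g) (hc : c = 1)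
    (hdeg : 2 * (g : ℤ) - 1 ≤ D) : (g : ℤ) ≤ chi := by lia

variable (H : Hyp.{u}) (k : Type u) [Field k] (X : Scheme.{u}) [X.Over (Spec (CommRingCat.of k))]
  [IsIntegral X] [IsProper (X ↘ (Spec (CommRingCat.of k)))] (hdim : topologicalKrullDim X ≤ 1)
  {L : X.Modules} (hL : PicF.IsInvertible L)

include H hdim hL in
/-- `g ≤ χ(L)` implies `H^1(L) = 0` -/
theorem subsingleton_H1_of_genus_le_euler (h : (Curv2.genus k X : ℤ) ≤ Curv2.euler k X L) :
    Subsingleton (Coh.HH X L 1) := by
  by_contra hns
  have hnt : Nontrivial (Coh.HH X L 1) := not_subsingleton_iff_nontrivial.mp hns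
  have hLc : Coh.IsCoh L := isCoh_of_isInvertible hL
  have hq : L.IsQuasicoherent := hLc.1
  have hfin : Module.Finite k (Coh.HH X L 1) := H k X _ hLc 1
  have hpos : 0 < Module.finrank k (Coh.HH X L 1) := Module.finrank_pos
  exact auxV _ _ _ _ (Groth.Agent.Lib.RiemannRoch54.euler_eq_sub k X hdim L) h hpos
    (finrank_H0_le_genus H k X hdim hL)

include H hdim hL in
/-- if `h^0(O) = 1`, then `2g - 1 ≤ deg L` implies `H^1(L) = 0` -/
theorem subsingleton_H1_of_deg_ge (h0 : Module.finrank k (Coh.HH X (Coh.structureModule X) 0) = 1)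
    (hdeg : 2 * (Curv2.genus k X : ℤ) - 1 ≤ Curv2.deg k X L 1) :
    Subsingleton (Coh.HH X L 1) := by
  have hO : (Coh.structureModule X).IsQuasicoherent :=
    (isCoh_of_isInvertible (isInvertible_structureModule X)).1
  refine subsingleton_H1_of_genus_le_euler H k X hdim hL ?_
  have hD : Curv2.deg k X L 1 = Curv2.euler k X L - ((1 : ℕ) : ℤ) * Curv2.euler k X (Coh.structureModule X) := rfl
  rw [Nat.cast_one] at hD
  exact auxD _ _ _ _ _ hD (Groth.Agent.Lib.RiemannRoch54.euler_eq_sub k X hdim _) h0 hdeg

end Degree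

end Groth.Agent.Lib.CurveH1Van54
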