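import Groth.Agent.Lib.CurveBasePt54
import Groth.Agent.Lib.InvMap54b

/-!
# Sums of linear systems on a curve (helper54)

Namespace `Groth.Agent.Lib.CurveLinSum54`.

* `finrank_H0_add_le`: `h^0(L) + h^0(L') ≤ h^0(L ⊗ L') + 1` for invertible modules with nonzero sections on an integral proper
  curve with principal local rings over an algebraically closed field (`dim |D| + dim |E| ≤ dim |D + E|`).
-/

set_option autoImplicit false
set_option linter.style.haveILetI false
universe u
open CategoryTheory CategoryTheory.Limits AlgebraicGeometry Opposite TopologicalSpace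

namespace Groth.Agent.Lib.CurveLinSum54

open Groth.Agent.Lib.ProperFinHyp Groth.Agent.Lib.H90Invertible Groth.Agent.Lib.CohLES
open Groth.Agent.Lib.H78SecCoord Groth.Agent.Lib.StructureModule
open Groth.Agent.Lib.OXModTensor Groth.Agent.Lib.CurveH1Van54 Groth.Agent.Lib.CurveSerreVan54 CohB1
open Groth.Agent.Lib.TwistEquiv Groth.Agent.Lib.IdealMod Groth.Agent.Lib.CurveLinSeries54
open Groth.Agent.Lib.IntNumAlg13 Groth.Agent.Lib.EulerLE48 Groth.Agent.Lib.H4Twist
open Groth.Agent.Lib.GlobGenDescent Groth.Agent.Lib.EulerChar54 Groth.Agent.Lib.ModStalkLin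
open Groth.Agent.Lib.InvMap54 Groth.Agent.Lib.CurveBasePt54

section General

variable {X : Scheme.{u}}

theorem not_mem_support_cokernel_comp {A B C : X.Modules} (φ : A ⟶ B) (ψ : B ⟶ C) (y : X)
    (h1 : y ∉ CohB1.support (cokernel φ)) (h2 : y ∉ CohB1.support (cokernel ψ)) :
    y ∉ CohB1.support (cokernel (φ ≫ ψ)) := by
  rw [not_mem_support_cokernel_iff] at h1 h2 ⊢
  rw [stalkLin_comp]
  exact h2.comp h1

theorem not_mem_support_cokernel_of_epi {A B : X.Modules} (φ : A ⟶ B) [Epi φ] (y : X) :
    y ∉ CohB1.support (cokernel φ) := by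
  rw [not_mem_support_cokernel_iff]
  exact stalkLin_surjective_of_epi φ y

/-- twisting does not enlarge the support of the cokernel -/
theorem not_mem_support_cokernel_tensorRight {A B M : X.Modules} [A.IsQuasicoherent] (hB : Coh.IsCoh B)
    (hM : Coh.IsCoh M) (s : A ⟶ B) (y : X) (h : y ∉ CohB1.support (cokernel s)) :
    y ∉ CohB1.support (cokernel ((tensorRightFunctor M).map s)) := by
  have hQ : Coh.IsCoh (cokernel s) := Groth.Agent.Lib.H90OXModExact.isCoh_cokernel s hB
  have i1 : (cokernel s).IsQuasicoherent := hQ.1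
  have i2 : (cokernel s).IsFiniteType := hQ.2
  have i3 : M.IsQuasicoherent := hM.1
  have i4 : M.IsFiniteType := hM.2
  rw [← support_eq_of_iso (PreservesCokernel.iso (tensorRightFunctor M) s)]
  change y ∉ CohB1.support (tensorMod (cokernel s) M)
  rw [Groth.Agent.Lib.SupportTensor.support_tensorMod]
  exact fun hy => h hy.1

end General

section Curve

lemma auxSum (hL hL'' h' a m d : ℕ) (h1 : hL = d + 2) (hA : hL'' + 1 ≤ hL) (hB : hL ≤ hL'' + 1)
    (hIH : hL'' = d + 1 → hL'' + h' ≤ a + 1) (hM : a + 1 ≤ m) : hL + h' ≤ m + 1 := by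
  have := hIH (by omega)
  omega

variable (H : Hyp.{u}) (HS : SnapperHyp.{u}) (V : VanHyp.{u})
  (k : Type u) [Field k] [IsAlgClosed k] (X : Scheme.{u}) [X.Over (Spec (CommRingCat.of k))]
  [IsIntegral X] [IsProper (X ↘ Spec (CommRingCat.of k))] (hdim : topologicalKrullDim X = 1)
  (hpid : ∀ x : X, IsPrincipalIdealRing (X.presheaf.stalk x))

omit [IsAlgClosed k] in
include k in
/-- a closed point where two given nonzero sections do not vanish -/
theorem exists_point_not_mem {L L' : X.Modules} (hL : PicF.IsInvertible L) (hL' : PicF.IsInvertible L')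
    (s : Coh.structureModule X ⟶ L) (hs : s ≠ 0) (s' : Coh.structureModule X ⟶ L') (hs' : s' ≠ 0) :
    ∃ (p : X) (_ : IsClosed ({p} : Set X)), p ∉ CohB1.support (cokernel s) ∧ p ∉ CohB1.support (cokernel s') := by
  have hO := isInvertible_structureModule X
  have hOq : (Coh.structureModule X).IsQuasicoherent := (isCoh_of_isInvertible hO).1
  have hQ : Coh.IsCoh (cokernel s) := Groth.Agent.Lib.H90OXModExact.isCoh_cokernel s (isCoh_of_isInvertible hL)
  have hQ' : Coh.IsCoh (cokernel s') := Groth.Agent.Lib.H90OXModExact.isCoh_cokernel s' (isCoh_of_isInvertible hL')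
  have i1 : (cokernel s).IsFiniteType := hQ.2
  have i2 : (cokernel s').IsFiniteType := hQ'.2
  have hc : IsClosed (CohB1.support (cokernel s)) := Groth.Agent.Lib.ModStalk.isClosed_support_of_isFiniteType _
  have hc' : IsClosed (CohB1.support (cokernel s')) := Groth.Agent.Lib.ModStalk.isClosed_support_of_isFiniteType _
  have hg := Groth.Agent.Lib.H90InvMono.genericPoint_notMem_support_cokernel hO hL s hs
  have hg' := Groth.Agent.Lib.H90InvMono.genericPoint_notMem_support_cokernel hO hL' s' hs'
  obtain ⟨p, hpU, hp⟩ := Groth.Agent.Lib.CurvePoint54.exists_isClosed_singleton_mem k X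
    ⟨(CohB1.support (cokernel s) ∪ CohB1.support (cokernel s'))ᶜ, (hc.union hc').isOpen_compl⟩
    ⟨genericPoint X, fun h => h.elim hg hg'⟩
  exact ⟨p, hp, fun h => hpU (Or.inl h), fun h => hpU (Or.inr h)⟩

omit [IsAlgClosed k] in
include H k in
/-- multiplication by a nonzero section is injective on global sections: `h^0(L') ≤ h^0(L ⊗ L')` -/
theorem finrank_H0_le_tensor {L L' : X.Modules} (hL : PicF.IsInvertible L) (hL' : PicF.IsInvertible L')
    (s : Coh.structureModule X ⟶ L) (hs : s ≠ 0) :
    Module.finrank k (Coh.HH X L' 0) ≤ Module.finrank k (Coh.HH X (tensorMod L L') 0) := by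
  have : IsLocallyNoetherian X :=
    LocallyOfFiniteType.isLocallyNoetherian (X ↘ Spec (CommRingCat.of k))
  have hO := isInvertible_structureModule X
  have hmono : Mono s := Groth.Agent.Lib.H90InvMono.mono_of_ne_zero hO hL s hs
  have hm2 : Mono ((tensorRightFunctor L').map s) := Groth.Agent.Lib.PointTwist.mono_tensorRight hL' s
  have hS : (ShortComplex.mk ((tensorRightFunctor L').map s) (cokernel.π ((tensorRightFunctor L').map s))
      (cokernel.condition _)).ShortExact := { exact := ShortComplex.exact_cokernel _ }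
  have hLL' : PicF.IsInvertible ((tensorRightFunctor L').obj L) :=
    Groth.Agent.Lib.H78TensorGen.isInvertible_tensorMod hL hL'
  have hfin : Module.Finite k (Coh.HH X ((tensorRightFunctor L').obj L) 0) :=
    H k X _ (isCoh_of_isInvertible hLL') 0
  have h2 := finrank_H0_le_of_shortExact' k X ((tensorRightFunctor L').map s)
    (cokernel.π ((tensorRightFunctor L').map s)) (cokernel.condition _) hS hfin
  have e2 : Coh.HH X ((tensorRightFunctor L').obj (Coh.structureModule X)) 0 ≃ₗ[k] Coh.HH X L' 0 :=
    mapEquivₗ k (leftUnitor L') 0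
  rw [← e2.finrank_eq]
  exact h2

include H HS V hdim hpid in
/-- **`dim |D| + dim |E| ≤ dim |D + E|`** -/
theorem finrank_H0_add_le {L L' : X.Modules} (hL : PicF.IsInvertible L) (hL' : PicF.IsInvertible L')
    (hs : Nontrivial (Coh.HH X L 0)) (hs' : Nontrivial (Coh.HH X L' 0)) :
    Module.finrank k (Coh.HH X L 0) + Module.finrank k (Coh.HH X L' 0) ≤
      Module.finrank k (Coh.HH X (tensorMod L L') 0) + 1 := by
  have : IsLocallyNoetherian X :=
    LocallyOfFiniteType.isLocallyNoetherian (X ↘ Spec (CommRingCat.of k))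
  have hO := isInvertible_structureModule X
  have hL'c : Coh.IsCoh L' := isCoh_of_isInvertible hL'
  have hfin' : Module.Finite k (Coh.HH X L' 0) := H k X _ hL'c 0
  obtain ⟨s', hs'ne⟩ := Groth.Agent.Lib.RiemannRoch54.exists_section_ne_zero k X L' Module.finrank_pos
  have hpos : 0 < Module.finrank k (Coh.HH X L 0) := by
    have hfin : Module.Finite k (Coh.HH X L 0) := H k X _ (isCoh_of_isInvertible hL) 0
    exact Module.finrank_pos
  obtain ⟨d, hd⟩ : ∃ d : ℕ, Module.finrank k (Coh.HH X L 0) = d + 1 := ⟨_, (Nat.succ_pred_eq_of_pos hpos).symm⟩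
  induction d generalizing L with
  | zero =>
    obtain ⟨s, hsne⟩ := Groth.Agent.Lib.RiemannRoch54.exists_section_ne_zero k X L hpos
    have := finrank_H0_le_tensor H k X hL hL' s hsne
    omega
  | succ d ih =>
    have hLc : Coh.IsCoh L := isCoh_of_isInvertible hL
    obtain ⟨s, hsne⟩ := Groth.Agent.Lib.RiemannRoch54.exists_section_ne_zero k X L hpos
    obtain ⟨p, hp, hps, hps'⟩ := exists_point_not_mem k X hL hL' s hsne s' hs'ne
    have hIp := Groth.Agent.Lib.CurvePoint54.isInvertible_idealMod_point k X hdim hpid p hp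
    have hA := Groth.Agent.Lib.CurvePoint54.finrank_H0_idealMod_tensor_succ_le H k X hL p hp s hps
    have hB := finrank_H0_le_idealMod_tensor_succ H HS V k X hdim.le hL p hp
    have hLL' : PicF.IsInvertible ((tensorRightFunctor L').obj L) :=
      Groth.Agent.Lib.H78TensorGen.isInvertible_tensorMod hL hL'
    -- the product section
    obtain ⟨uL', -⟩ : ∃ e : (tensorRightFunctor L').obj (Coh.structureModule X) ≅ L', e = leftUnitor L' := ⟨_, rfl⟩
    obtain ⟨t, ht⟩ : ∃ t : Coh.structureModule X ⟶ (tensorRightFunctor L').obj L,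
        t = s' ≫ (uL'.inv ≫ (tensorRightFunctor L').map s) := ⟨_, rfl⟩
    have hOq : (Coh.structureModule X).IsQuasicoherent := (isCoh_of_isInvertible hO).1
    have hpt : p ∉ CohB1.support (cokernel t) := by
      rw [ht]
      refine not_mem_support_cokernel_comp _ _ p hps' (not_mem_support_cokernel_comp _ _ p ?_ ?_)
      · exact not_mem_support_cokernel_of_epi _ p
      · exact not_mem_support_cokernel_tensorRight hLc hL'c s p hps
    have hM := Groth.Agent.Lib.CurvePoint54.finrank_H0_idealMod_tensor_succ_le H k X hLL' p hp t hpt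
    rw [tensorRightFunctor_obj] at hM
    obtain ⟨I, hI⟩ : ∃ I : X.IdealSheafData, I = Scheme.IdealSheafData.vanishingIdeal (⟨{p}, hp⟩ : Closeds X) :=
      ⟨_, rfl⟩
    rw [← hI] at hIp hA hB hM
    have hL'' : PicF.IsInvertible (tensorMod (ClSub.idealMod I) L) :=
      Groth.Agent.Lib.H78TensorGen.isInvertible_tensorMod hIp hL
    have hfin'' : Module.Finite k (Coh.HH X (tensorMod (ClSub.idealMod I) L) 0) :=
      H k X _ (isCoh_of_isInvertible hL'') 0
    have hIH : Module.finrank k (Coh.HH X (tensorMod (ClSub.idealMod I) L) 0) = d + 1 →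
        Module.finrank k (Coh.HH X (tensorMod (ClSub.idealMod I) L) 0) + Module.finrank k (Coh.HH X L' 0) ≤
          Module.finrank k (Coh.HH X (tensorMod (ClSub.idealMod I) (tensorMod L L')) 0) + 1 := by
      intro hd''
      have hpos'' : 0 < Module.finrank k (Coh.HH X (tensorMod (ClSub.idealMod I) L) 0) := by omega
      have hnt'' : Nontrivial (Coh.HH X (tensorMod (ClSub.idealMod I) L) 0) :=
        Module.nontrivial_of_finrank_pos hpos''
      have h3 := ih hL'' hnt'' hpos'' hd''
      have e3 : Coh.HH X (tensorMod (tensorMod (ClSub.idealMod I) L) L') 0 ≃ₗ[k]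
          Coh.HH X (tensorMod (ClSub.idealMod I) (tensorMod L L')) 0 :=
        mapEquivₗ k (associator (ClSub.idealMod I) L L') 0
      rw [← e3.finrank_eq]
      exact h3
    exact auxSum _ _ _ _ _ d hd hA hB hIH hM

end Curve

end Groth.Agent.Lib.CurveLinSum54
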