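import Groth.Agent.Lib.CurveVB67F
import Groth.Agent.Lib.CurveVB54
import Groth.Agent.Lib.H90InvMono

/-!
# Invertible submodules of maximal degree of a vector bundle on a curve (lead; campaign K8)

Namespace `Groth.Agent.Lib.CurveMaxSub`.  `H : ProperFinHyp.Hyp` is the statement of S0002.
Setting: `X` integral, proper over a field `k`, of dimension one, all local rings principal (`hpid`).

* `mono_of_ne_zero` : a nonzero map from an invertible module to a finite locally free module is a monomorphism.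
* `exists_saturated` : an invertible submodule `N ⊆ E` of a locally free module of rank `r` is contained in an
  invertible submodule `L ⊆ E` with `E / L` locally free of rank `r - 1` and `deg N ≤ deg L`.
* `exists_max` : if some invertible module maps nontrivially to `E`, there is a saturated invertible submodule `L ⊆ E`
  such that `deg N ≤ deg L` for every invertible `N` with a nonzero map `N ⟶ E`.
-/

set_option autoImplicit false
universe u
open CategoryTheory CategoryTheory.Limits AlgebraicGeometry Opposite TopologicalSpace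

namespace Groth.Agent.Lib.CurveMaxSub

open Groth.Agent.Lib.CurveVB67 Groth.Agent.Lib.ProperFinHyp Groth.Agent.Lib.H90Invertible

variable (H : Hyp.{u}) (k : Type u) [Field k] (X : Scheme.{u}) [X.Over (Spec (CommRingCat.of k))]
  [IsProper (X ↘ (Spec (CommRingCat.of k)))] [IsIntegral X]
  (hpid : ∀ x : X, IsPrincipalIdealRing (X.presheaf.stalk x))

include k hpid in
/-- a nonzero map from an invertible module to a finite locally free module is a monomorphism -/
theorem mono_of_ne_zero {N E : X.Modules} {r : ℕ} (hN : PicF.IsInvertible N)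
    (hE : FlatMod.IsFinLocFreeOfRank r E) (f : N ⟶ E) (hf : f ≠ 0) : Mono f := by
  have hN1 : FlatMod.IsFinLocFreeOfRank 1 N := (isInvertible_iff_isFinLocFreeOfRank_one N).mp hN
  obtain ⟨hIc, hIlf, hIpos⟩ := image_data k X hpid hN1 hE f hf
  have hle : rk (Abelian.image f) ≤ rk N := rk_le_of_epi (Abelian.factorThruImage f) (isCoh_of_rank hN1)
  rw [← eq_rk_of_isFinLocFreeOfRank hN1] at hle
  have h1 : rk (Abelian.image f) = 1 := le_antisymm hle hIpos
  rw [h1] at hIlf
  have hIinv : PicF.IsInvertible (Abelian.image f) := (isInvertible_iff_isFinLocFreeOfRank_one _).mpr hIlf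
  have hne : Abelian.factorThruImage f ≠ 0 := by
    intro h0
    apply hf
    rw [← Abelian.image.fac f, h0, zero_comp]
  have hm : Mono (Abelian.factorThruImage f) :=
    Groth.Agent.Lib.H90InvMono.mono_of_ne_zero hN hIinv _ hne
  rw [← Abelian.image.fac f]
  exact mono_comp _ _

include H k hpid in
/-- saturation of an invertible submodule of a locally free module -/
theorem exists_saturated (hdim : topologicalKrullDim X = 1) {N E : X.Modules} {r : ℕ}
    (hN : PicF.IsInvertible N) (hE : FlatMod.IsFinLocFreeOfRank r E) (f : N ⟶ E) [Mono f] :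
    ∃ (L : X.Modules) (g : L ⟶ E), Mono g ∧ PicF.IsInvertible L ∧
      FlatMod.IsFinLocFreeOfRank (r - 1) (cokernel g) ∧ Curv2.deg k X N 1 ≤ Curv2.deg k X L 1 := by
  have hN1 : FlatMod.IsFinLocFreeOfRank 1 N := (isInvertible_iff_isFinLocFreeOfRank_one N).mp hN
  have hNc : Coh.IsCoh N := isCoh_of_rank hN1
  have hEc : Coh.IsCoh E := isCoh_of_rank hE
  have := isLocallyNoetherian_of_proper k X
  have := isNoetherian_of_proper k X
  obtain ⟨G', g', i, hg', hfac, hG'c, hQc, hQtf, hrk⟩ :=
    exists_saturation (isAffineHom_ι_of_proper k X) hdim f hNc hEc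
  have hrkN : rk N = 1 := (eq_rk_of_isFinLocFreeOfRank hN1).symm
  have hG'lf : FlatMod.IsFinLocFreeOfRank (rk G') G' := locFree_of_mono k X hpid g' hG'c hE
  rw [hrk, hrkN] at hG'lf
  have hG'inv : PicF.IsInvertible G' := (isInvertible_iff_isFinLocFreeOfRank_one _).mpr hG'lf
  have hi : Mono i := by
    have : Mono (i ≫ g') := by rw [hfac]; infer_instance
    exact mono_of_mono i g'
  have hdeg : Curv2.deg k X N 1 ≤ Curv2.deg k X G' 1 :=
    deg_le_of_mono H k X hdim.le i hNc hG'c (by rw [hrk]) 1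
  have hS : (ShortComplex.mk g' (cokernel.π g') (cokernel.condition g')).ShortExact :=
    { exact := ShortComplex.exact_cokernel g' }
  have hadd := rk_add _ hS hG'c hQc
  change rk E = rk G' + rk (cokernel g') at hadd
  rw [hrk, hrkN, ← eq_rk_of_isFinLocFreeOfRank hE] at hadd
  have hQlf : FlatMod.IsFinLocFreeOfRank (rk (cokernel g')) (cokernel g') :=
    isFinLocFreeOfRank_of_tf hpid hQc hQtf
  have hrQ : rk (cokernel g') = r - 1 := by omega
  rw [hrQ] at hQlf
  exact ⟨G', g', hg', hG'inv, hQlf, hdeg⟩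

include H k hpid in
/-- **an invertible submodule of maximal degree**, saturated, of a finite locally free module on a curve -/
theorem exists_max (hdim : topologicalKrullDim X = 1) {E : X.Modules} {r : ℕ}
    (hE : FlatMod.IsFinLocFreeOfRank r E)
    (h0 : ∃ (N₀ : X.Modules) (f₀ : N₀ ⟶ E), PicF.IsInvertible N₀ ∧ f₀ ≠ 0) :
    ∃ (L : X.Modules) (g : L ⟶ E), Mono g ∧ PicF.IsInvertible L ∧
      FlatMod.IsFinLocFreeOfRank (r - 1) (cokernel g) ∧
      ∀ (N : X.Modules) (f : N ⟶ E), PicF.IsInvertible N → f ≠ 0 →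
        Curv2.deg k X N 1 ≤ Curv2.deg k X L 1 := by
  have hEc : Coh.IsCoh E := isCoh_of_rank hE
  let P : ℤ → Prop := fun d => ∃ (L : X.Modules) (g : L ⟶ E), Mono g ∧ PicF.IsInvertible L ∧
    FlatMod.IsFinLocFreeOfRank (r - 1) (cokernel g) ∧ Curv2.deg k X L 1 = d
  have hbdd : ∃ b : ℤ, ∀ z : ℤ, P z → z ≤ b := by
    refine ⟨(Module.finrank k (Coh.HH X E 0) : ℤ) - Curv2.euler k X (Coh.structureModule X), ?_⟩
    rintro z ⟨L, g, hg, hL, -, rfl⟩
    have : L.IsQuasicoherent := (isCoh_of_isInvertible hL).1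
    exact Groth.Agent.Lib.CurveVB54.deg_le_of_mono H k X hdim.le hEc g
  have hinh : ∃ z : ℤ, P z := by
    obtain ⟨N₀, f₀, hN₀, hf₀⟩ := h0
    have := mono_of_ne_zero k X hpid hN₀ hE f₀ hf₀
    obtain ⟨L, g, hg, hL, hQ, -⟩ := exists_saturated H k X hpid hdim hN₀ hE f₀
    exact ⟨_, L, g, hg, hL, hQ, rfl⟩
  obtain ⟨ub, ⟨L, g, hg, hL, hQ, hdL⟩, hmax⟩ := Int.exists_greatest_of_bdd hbdd hinh
  refine ⟨L, g, hg, hL, hQ, fun N f hN hf => ?_⟩
  have := mono_of_ne_zero k X hpid hN hE f hf
  obtain ⟨L', g', hg', hL', hQ', hdeg⟩ := exists_saturated H k X hpid hdim hN hE f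
  rw [hdL]
  exact hdeg.trans (hmax _ ⟨L', g', hg', hL', hQ', rfl⟩)

end Groth.Agent.Lib.CurveMaxSub
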