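import Groth.Agent.Lib.HilbPos48a
import Groth.Agent.Lib.H90DevFilt

/-!
# Maximal coherent submodules and saturation (helper48)

`X` a Noetherian scheme.

* `exists_maximal_sub` : Noetherian induction — among the coherent submodules of a coherent module `M` satisfying a
  predicate `P` (non-empty), one is maximal.
* `exists_saturation` : a coherent `Q` with `dim Supp Q ≤ d` has a coherent submodule `T` with `dim Supp T < d` and
  `Q/T` pure of dimension `d` (the torsion filtration `T_{d-1}(Q)`).
-/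

set_option autoImplicit false
set_option linter.style.haveILetI false
universe u
open CategoryTheory CategoryTheory.Limits AlgebraicGeometry TopologicalSpace

namespace Groth.Agent.Lib.MaxSub48

open Groth.Agent.Lib Groth.Agent.Lib.H90OXModSections Groth.Agent.Lib.H90DevHub2
  Groth.Agent.Lib.H90DevFilt

variable {X : Scheme.{u}}

set_option backward.isDefEq.respectTransparency false in
/-- **Noetherian induction on coherent submodules.** -/
theorem exists_maximal_sub [AlgebraicGeometry.IsNoetherian X] {M : X.Modules} (hM : Coh.IsCoh M)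
    (P : ∀ A : X.Modules, (A ⟶ M) → Prop)
    (h0 : ∃ (A : X.Modules) (a : A ⟶ M), Mono a ∧ Coh.IsCoh A ∧ P A a) :
    ∃ (A : X.Modules) (a : A ⟶ M), Mono a ∧ Coh.IsCoh A ∧ P A a ∧
      ∀ (A' : X.Modules) (a' : A' ⟶ M) (f : A ⟶ A'), Mono a' → Coh.IsCoh A' → P A' a' →
        f ≫ a' = a → IsIso f := by
  classical
  haveI : M.IsQuasicoherent := hM.1
  obtain ⟨t, ht⟩ : ∃ t : Finset X.affineOpens, (Set.univ : Set X) ⊆ ⋃ V ∈ t, ((V : X.affineOpens).1 : Set X) := by
    refine isCompact_univ.elim_finite_subcover (fun V : X.affineOpens => (V.1 : Set X))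
      (fun V => V.1.2) ?_
    intro x _
    have hx : x ∈ (⨆ V : X.affineOpens, V.1 : X.Opens) := by
      rw [AlgebraicGeometry.iSup_affineOpens_eq_top X]; trivial
    obtain ⟨V, hV⟩ := Opens.mem_iSup.mp hx
    exact Set.mem_iUnion.mpr ⟨V, hV⟩
  let U : ↥t → X.Opens := fun k => k.1.1
  have hU : ⨆ k, U k = ⊤ := by
    rw [eq_top_iff]
    intro x _
    obtain ⟨V, hV⟩ := Set.mem_iUnion.mp (ht (Set.mem_univ x))
    obtain ⟨hVt, hxV⟩ := Set.mem_iUnion.mp hV
    exact Opens.mem_iSup.mpr ⟨⟨V, hVt⟩, hxV⟩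
  have hA : ∀ k, IsAffineOpen (U k) := fun k => k.1.2
  haveI : ∀ k, IsNoetherianRing Γ(X, U k) := fun k => IsLocallyNoetherian.component_noetherian k.1
  haveI : ∀ k, Module.Finite Γ(X, U k) Γ(M, U k) := fun k =>
    Groth.Agent.Lib.CohFinite.finite_sections_of_isCoh M hM (hA k)
  haveI : ∀ k, _root_.IsNoetherian Γ(X, U k) Γ(M, U k) := fun k =>
    isNoetherian_of_isNoetherianRing_of_finite _ _
  let S : Set (∀ k : ↥t, (Submodule Γ(X, U k) Γ(M, U k))ᵒᵈ) :=
    {b | ∃ (A : X.Modules) (a : A ⟶ M), Mono a ∧ Coh.IsCoh A ∧ P A a ∧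
      ∀ k, b k = OrderDual.toDual (LinearMap.range (appLin a (U k)))}
  have hS : S.Nonempty := by
    obtain ⟨A, a, ha, hAc, hP⟩ := h0
    exact ⟨_, A, a, ha, hAc, hP, fun k => rfl⟩
  obtain ⟨b, ⟨A, a, ha, hAc, hP, hb⟩, hmin⟩ := WellFounded.has_min wellFounded_lt S hS
  refine ⟨A, a, ha, hAc, hP, ?_⟩
  intro A' a' f ha' hA'c hP' hfa
  haveI := ha
  haveI := ha'
  haveI : A.IsQuasicoherent := hAc.1
  haveI : A'.IsQuasicoherent := hA'c.1
  haveI : Mono f := mono_of_mono_fac hfa
  have hle : ∀ k, LinearMap.range (appLin a (U k)) ≤ LinearMap.range (appLin a' (U k)) := by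
    intro k
    rintro _ ⟨x, rfl⟩
    refine ⟨appLin f (U k) x, ?_⟩
    have h := congrArg (fun χ : A ⟶ M => (Scheme.Modules.Hom.app χ (U k)) x) hfa
    simp only [Scheme.Modules.Hom.comp_app] at h
    exact h
  have hnlt := hmin (fun k => OrderDual.toDual (LinearMap.range (appLin a' (U k))))
    ⟨_, a', inferInstance, hA'c, hP', fun k => rfl⟩
  have hle' : (fun k => OrderDual.toDual (LinearMap.range (appLin a' (U k)))) ≤ b := by
    intro k
    rw [hb k]
    exact OrderDual.toDual_le_toDual.mpr (hle k)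
  have heq : (fun k => OrderDual.toDual (LinearMap.range (appLin a' (U k)))) = b := by
    by_contra hne
    exact hnlt (lt_of_le_of_ne hle' hne)
  have hbij : ∀ k, Function.Bijective (f.app (U k)) := by
    intro k
    refine ⟨injective_appLin_of_mono f (U k), fun y => ?_⟩
    have h1 : LinearMap.range (appLin a' (U k)) = LinearMap.range (appLin a (U k)) := by
      have h2 := congrFun heq k
      rw [hb k] at h2
      exact OrderDual.toDual.injective h2
    have h3 : appLin a' (U k) y ∈ LinearMap.range (appLin a (U k)) := by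
      rw [← h1]; exact ⟨y, rfl⟩
    obtain ⟨x, hx⟩ := h3
    refine ⟨x, injective_appLin_of_mono a' (U k) ?_⟩
    have h := congrArg (fun χ : A ⟶ M => (Scheme.Modules.Hom.app χ (U k)) x) hfa
    simp only [Scheme.Modules.Hom.comp_app] at h
    exact h.trans hx
  exact Groth.Agent.Lib.H90OXModAffineIso.isIso_of_bijective_app_affine_cover f U hU hA hbij

theorem support_eq_empty_of_isZero {E : X.Modules} (hz : IsZero E) : CohB1.support E = ∅ := by
  ext x
  simp only [Set.mem_empty_iff_false, iff_false]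
  rw [notMem_support_iff]
  exact subsingleton_stalk_of_isZero hz x

theorem dim_support_of_isZero {F : X.Modules} (hz : IsZero F) :
    topologicalKrullDim (CohB1.support F) = ⊥ := by
  rw [support_eq_empty_of_isZero hz]
  unfold topologicalKrullDim
  rw [Order.krullDim_eq_bot_iff]
  exact ⟨fun c => c.isIrreducible.nonempty.some.2⟩

/-- **Saturation / torsion filtration.**  A coherent `Q` with `dim Supp Q ≤ d` has a coherent submodule `T` with
`dim Supp T < d` such that `Q/T` is pure of dimension `d`. -/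
theorem exists_saturation [AlgebraicGeometry.IsNoetherian X] {Q : X.Modules} (hQ : Coh.IsCoh Q) (d : ℕ)
    (hdim : topologicalKrullDim (CohB1.support Q) ≤ (d : WithBot ℕ∞)) :
    ∃ (T : X.Modules) (t : T ⟶ Q), Mono t ∧ Coh.IsCoh T ∧
      topologicalKrullDim (CohB1.support T) < (d : WithBot ℕ∞) ∧ ShStab.IsPure X (cokernel t) d := by
  haveI : Q.IsQuasicoherent := hQ.1
  obtain ⟨T, t, ht, hTc, hTd, hmax⟩ := exists_maximal_sub hQ
    (fun A _ => topologicalKrullDim (CohB1.support A) < (d : WithBot ℕ∞))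
    ⟨kernel (𝟙 Q), kernel.ι (𝟙 Q), inferInstance,
      Groth.Agent.Lib.H90OXModExact.isCoh_kernel (𝟙 Q) hQ, by
        rw [dim_support_of_isZero (isZero_kernel_of_mono (𝟙 Q))]
        exact WithBot.bot_lt_coe _⟩
  haveI := ht
  haveI : T.IsQuasicoherent := hTc.1
  refine ⟨T, t, ht, hTc, hTd, ?_⟩
  intro G g hg hGc hG0
  haveI := hg
  haveI : G.IsQuasicoherent := hGc.1
  have hRc : Coh.IsCoh (cokernel t) := Groth.Agent.Lib.H90OXModExact.isCoh_cokernel t hQ
  haveI : (cokernel t).IsQuasicoherent := hRc.1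
  have hle : topologicalKrullDim (CohB1.support G) ≤ (d : WithBot ℕ∞) :=
    (DimDrop.topologicalKrullDim_mono ((support_subset_of_mono g).trans
      (support_subset_of_epi (cokernel.π t)))).trans hdim
  by_contra hne
  have hlt := lt_of_le_of_ne hle hne
  let f : T ⟶ pullback g (cokernel.π t) := pullback.lift 0 t (by simp)
  let a' : pullback g (cokernel.π t) ⟶ Q := pullback.snd g (cokernel.π t)
  haveI : Mono a' := inferInstance
  have hfa : f ≫ a' = t := pullback.lift_snd _ _ _
  haveI : Mono f := mono_of_mono_fac hfa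
  haveI : (pullback g (cokernel.π t)).IsQuasicoherent :=
    Groth.Agent.Lib.H90QCohLimits.isQuasicoherent_pullback _ _
  have hA'c : Coh.IsCoh (pullback g (cokernel.π t)) := isCoh_of_mono a' hQ
  obtain ⟨e⟩ := nonempty_cokernel_lift_iso t g
  have hCc : Coh.IsCoh (cokernel f) := Groth.Agent.Lib.H90OXModExact.isCoh_cokernel f hA'c
  have hCd : topologicalKrullDim (CohB1.support (cokernel f)) < (d : WithBot ℕ∞) :=
    lt_of_le_of_lt (DimDrop.topologicalKrullDim_mono (support_subset_of_mono e.hom)) hlt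
  have hA'd : topologicalKrullDim (CohB1.support (pullback g (cokernel.π t))) < (d : WithBot ℕ∞) :=
    DimChain48.dim_lt_of_subset_union (ModStalk.isClosed_support_of_isFT _ hTc.2)
      (ModStalk.isClosed_support_of_isFT _ hCc.2) (HilbPoly48.support_subset_union X f) hTd hCd
  haveI : IsIso f := hmax _ a' f inferInstance hA'c hA'd hfa
  exact hG0 ((isZero_cokernel_of_epi f).of_iso e.symm)

end Groth.Agent.Lib.MaxSub48
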