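import Groth.Agent.Lib.CurveVB67C
import Groth.Agent.Lib.MaxSub48
import Groth.Agent.Lib.IdealMod
import Groth.Agent.Lib.H90OXModPush
import Groth.Agent.Lib.H43GVDim
import Groth.Agent.Lib.QCohStalk

/-!
# Vector bundles on curves, part D: saturation (helper67; campaign K6, layer V3)

Namespace `Groth.Agent.Lib.CurveVB67`.

* `gammaW W P` : the submodule of sections of `P` vanishing on the open `W` (kernel of `P ⟶ j_* j^* P`).
* `support_gammaW_subset`, `exists_section_gammaW`.
* `dim_le_zero_of_genericPoint_notMem` : on an integral scheme of dimension `≤ 1`, a set not containing the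
  generic point has dimension `≤ 0`.
* `tf_of_isPure` : on an integral Noetherian separated scheme of dimension `≤ 1`, a coherent module which is pure of
  dimension one has torsion-free stalks.
* `exists_saturation` (**V3**): for a coherent submodule `G ⊆ E` there is `G ⊆ G' ⊆ E` with `E/G'` torsion-free and
  `rk G' = rk G`.
-/

set_option autoImplicit false
universe u
open CategoryTheory CategoryTheory.Limits AlgebraicGeometry TopologicalSpace Opposite

namespace Groth.Agent.Lib.CurveVB67

open Groth.Agent.Lib.ModStalkLin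

variable {X : Scheme.{u}}

/-- the submodule of sections of `P` vanishing on `W` -/
noncomputable def gammaW (W : X.Opens) (P : X.Modules) : X.Modules :=
  kernel ((Scheme.Modules.restrictAdjunction W.ι).unit.app P)

noncomputable def gammaWι (W : X.Opens) (P : X.Modules) : gammaW W P ⟶ P :=
  kernel.ι ((Scheme.Modules.restrictAdjunction W.ι).unit.app P)

instance (W : X.Opens) (P : X.Modules) : Mono (gammaWι W P) :=
  inferInstanceAs (Mono (kernel.ι ((Scheme.Modules.restrictAdjunction W.ι).unit.app P)))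

theorem unit_app_apply (W : X.Opens) (P : X.Modules) (V : X.Opens) (s : Γ(P, V)) :
    ((Scheme.Modules.restrictAdjunction W.ι).unit.app P).app V s =
      P.presheaf.map (homOfLE (W.ι.image_preimage_le V)).op s := rfl

/-- a section over `V` killed by restriction to `V ⊓ W` comes from `gammaW` -/
theorem exists_section_gammaW (W : X.Opens) (P : X.Modules) (V : X.Opens) (s : Γ(P, V))
    (hs : P.presheaf.map (homOfLE (inf_le_left : V ⊓ W ≤ V)).op s = 0) :
    ∃ t : Γ(gammaW W P, V), (gammaWι W P).app V t = s := by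
  have key := (Groth.Agent.Lib.IdealMod.kernel_sections
    ((Scheme.Modules.restrictAdjunction W.ι).unit.app P) V).2 s
  have h0 : ((Scheme.Modules.restrictAdjunction W.ι).unit.app P).app V s = 0 := by
    rw [unit_app_apply]
    have hle : W.ι ''ᵁ (W.ι ⁻¹ᵁ V) ≤ V ⊓ W := by
      refine le_inf (W.ι.image_preimage_le V) ?_
      rintro _ ⟨y, -, rfl⟩
      exact y.2
    have hfac : (homOfLE (W.ι.image_preimage_le V)).op =
        (homOfLE (inf_le_left : V ⊓ W ≤ V)).op ≫ (homOfLE hle).op := rfl
    rw [hfac, Functor.map_comp]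
    change P.presheaf.map (homOfLE hle).op (P.presheaf.map (homOfLE inf_le_left).op s) = 0
    rw [hs, map_zero]
  obtain ⟨t, ht⟩ := key.mp h0
  exact ⟨t, ht⟩

/-- sections of `gammaW W P` over opens inside `W` vanish -/
theorem section_gammaW_eq_zero (W : X.Opens) (P : X.Modules) (V : X.Opens) (hV : V ≤ W)
    (t : Γ(gammaW W P, V)) : t = 0 := by
  have hinj := Groth.Agent.Lib.H90OXModSections.injective_app_of_mono (gammaWι W P) V
  apply hinj
  rw [map_zero]
  have h1 : ((Scheme.Modules.restrictAdjunction W.ι).unit.app P).app V ((gammaWι W P).app V t) = 0 := by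
    have h := congrArg (fun χ : gammaW W P ⟶ _ => (Scheme.Modules.Hom.app χ V) t)
      (kernel.condition ((Scheme.Modules.restrictAdjunction W.ι).unit.app P))
    exact h
  rw [unit_app_apply] at h1
  have hge : V ≤ W.ι ''ᵁ (W.ι ⁻¹ᵁ V) := by
    intro y hy
    exact ⟨⟨y, hV hy⟩, hy, rfl⟩
  have h2 := congrArg (P.presheaf.map (homOfLE hge).op) h1
  have h3 : P.presheaf.map (homOfLE hge).op
      (P.presheaf.map (homOfLE (W.ι.image_preimage_le V)).op ((gammaWι W P).app V t)) =
      (gammaWι W P).app V t := by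
    have : (homOfLE (W.ι.image_preimage_le V)).op ≫ (homOfLE hge).op = 𝟙 (op V) := rfl
    have h4 : P.presheaf.map ((homOfLE (W.ι.image_preimage_le V)).op ≫ (homOfLE hge).op) = 𝟙 _ := by
      rw [this, P.presheaf.map_id]
    rw [Functor.map_comp] at h4
    exact congrArg (fun f => f ((gammaWι W P).app V t)) h4
  rw [h3] at h2
  exact h2.trans (map_zero _)

theorem support_gammaW_subset (W : X.Opens) (P : X.Modules) :
    CohB1.support (gammaW W P) ⊆ (W : Set X)ᶜ := by
  intro y hy hyW
  apply hy
  refine ⟨fun a b => ?_⟩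
  have key : ∀ c : (gammaW W P).presheaf.stalk y, c = 0 := by
    intro c
    obtain ⟨V, hV, s, rfl⟩ := TopCat.Presheaf.exists_germ_eq (gammaW W P).presheaf c
    have hyVW : y ∈ V ⊓ W := ⟨hV, hyW⟩
    rw [← TopCat.Presheaf.germ_res_apply (gammaW W P).presheaf (homOfLE (inf_le_left : V ⊓ W ≤ V)) y hyVW s]
    have hz := section_gammaW_eq_zero W P (V ⊓ W) inf_le_right
      ((gammaW W P).presheaf.map (homOfLE (inf_le_left : V ⊓ W ≤ V)).op s)
    rw [hz, map_zero]
  rw [key a, key b]

section Pure

variable [IsIntegral X]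

/-- a nonzero section of `O_X` over an open containing `x` is invertible at the generic point -/
theorem genericPoint_mem_basicOpen {V : X.Opens} (f : Γ(X, V)) {x : X} (hx : x ∈ V)
    (hf : X.presheaf.germ V x hx f ≠ 0) : genericPoint X ∈ X.basicOpen f := by
  have hη : genericPoint X ∈ V := genericPoint_mem V hx
  rw [Scheme.mem_basicOpen _ _ _ hη]
  let _ : Field (X.presheaf.stalk (genericPoint X)) :=
    inferInstanceAs (Field X.functionField)
  rw [isUnit_iff_ne_zero]
  intro h0
  apply hf
  have hinj := germ_injective_of_isIntegral X (genericPoint X) hη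
  have : f = 0 := hinj (by rw [h0, map_zero])
  rw [this, map_zero]

variable [IsLocallyNoetherian X] (haff : ∀ W : X.Opens, IsAffineOpen W → IsAffineHom W.ι)

omit [IsIntegral X] in
include haff in
theorem isCoh_gammaW {P : X.Modules} (hP : Coh.IsCoh P) {W : X.Opens} (hW : IsAffineOpen W) :
    Coh.IsCoh (gammaW W P) := by
  have := haff W hW
  have : P.IsQuasicoherent := hP.1
  have : ((Scheme.Modules.restrictFunctor W.ι).obj P).IsQuasicoherent :=
    Scheme.Modules.isQuasicoherent_restrictFunctor _ _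
  have : ((Scheme.Modules.restrictFunctor W.ι ⋙ Scheme.Modules.pushforward W.ι).obj P).IsQuasicoherent :=
    Groth.Agent.Lib.H90OXModPush.isQuasicoherent_pushforward W.ι _
  exact Groth.Agent.Lib.H90OXModExact.isCoh_kernel
    ((Scheme.Modules.restrictAdjunction W.ι).unit.app P) hP

include haff in
/-- On an integral locally Noetherian scheme of dimension `≤ 1` (with affine opens having affine inclusions, e.g. `X`
separated over an affine base), a coherent module pure of dimension one has torsion-free stalks. -/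
theorem tf_of_isPure (hdim : topologicalKrullDim X ≤ 1) {P : X.Modules} (hP : Coh.IsCoh P)
    (hpure : ShStab.IsPure X P 1) : TF P := by
  intro x
  refine ⟨fun a ha t₁ t₂ h => ?_⟩
  have ha0 : a ≠ 0 := ha.ne_zero
  have hat : a • (t₁ - t₂) = 0 := by
    have h' : a • t₁ = a • t₂ := h
    rw [smul_sub, h', sub_self]
  rw [← sub_eq_zero]
  generalize t₁ - t₂ = t at hat
  by_contra ht
  -- representatives
  obtain ⟨V₁, hx₁, m₁, hm₁⟩ := TopCat.Presheaf.exists_germ_eq P.presheaf t
  obtain ⟨V₂, hx₂, f₂, hf₂⟩ := X.presheaf.exists_germ_eq (x := x) a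
  have hx₃ : x ∈ V₁ ⊓ V₂ := ⟨hx₁, hx₂⟩
  set m₃ : Γ(P, V₁ ⊓ V₂) := P.presheaf.map (homOfLE (inf_le_left : V₁ ⊓ V₂ ≤ V₁)).op m₁ with hm₃
  set f₃ : Γ(X, V₁ ⊓ V₂) := X.presheaf.map (homOfLE (inf_le_right : V₁ ⊓ V₂ ≤ V₂)).op f₂ with hf₃
  have gm₃ : P.presheaf.germ (V₁ ⊓ V₂) x hx₃ m₃ = t := by
    rw [hm₃, TopCat.Presheaf.germ_res_apply]; exact hm₁
  have gf₃ : X.presheaf.germ (V₁ ⊓ V₂) x hx₃ f₃ = a := by
    rw [hf₃, TopCat.Presheaf.germ_res_apply]; exact hf₂
  have g0 : P.presheaf.germ (V₁ ⊓ V₂) x hx₃ (f₃ • m₃) = P.presheaf.germ (V₁ ⊓ V₂) x hx₃ 0 := by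
    rw [Groth.Agent.Lib.QCohStalk.germ_smul, gm₃, gf₃, hat, map_zero]
  obtain ⟨V₄, hx₄, i₁, i₂, h4⟩ := TopCat.Presheaf.germ_eq P.presheaf x hx₃ hx₃ _ _ g0
  obtain ⟨_, ⟨V, hVaff, rfl⟩, hxV, hV4⟩ := (X.isBasis_affineOpens).exists_subset_of_mem_open hx₄ V₄.2
  have hVle : V ≤ V₁ ⊓ V₂ := fun y hy => leOfHom i₁ (hV4 hy)
  set m : Γ(P, V) := P.presheaf.map (homOfLE hVle).op m₃ with hm
  set f : Γ(X, V) := X.presheaf.map (homOfLE hVle).op f₃ with hf
  have gm : P.presheaf.germ V x hxV m = t := by
    rw [hm, TopCat.Presheaf.germ_res_apply]; exact gm₃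
  have gf : X.presheaf.germ V x hxV f = a := by
    rw [hf, TopCat.Presheaf.germ_res_apply]; exact gf₃
  have hfm : f • m = 0 := by
    rw [hm, hf, ← Scheme.Modules.map_smul]
    have hV4' : V ≤ V₄ := hV4
    have e1 : (homOfLE hVle).op = i₁.op ≫ (homOfLE hV4').op := rfl
    rw [e1, Functor.map_comp]
    change P.presheaf.map (homOfLE hV4').op (P.presheaf.map i₁.op (f₃ • m₃)) = 0
    rw [h4, map_zero, map_zero]
  -- the open W
  set W : X.Opens := X.basicOpen f with hW
  have hWaff : IsAffineOpen W := hVaff.basicOpen f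
  have hηW : genericPoint X ∈ W := genericPoint_mem_basicOpen f hxV (by rw [gf]; exact ha0)
  -- m vanishes on V ⊓ W
  have hmW : P.presheaf.map (homOfLE (inf_le_left : V ⊓ W ≤ V)).op m = 0 := by
    apply TopCat.Presheaf.section_ext ⟨P.presheaf, P.isSheaf⟩
    intro y hy
    rw [map_zero]
    change P.presheaf.germ (V ⊓ W) y hy (P.presheaf.map (homOfLE inf_le_left).op m) = 0
    rw [TopCat.Presheaf.germ_res_apply]
    have hyW : y ∈ X.basicOpen f := hy.2
    have hu : IsUnit (X.presheaf.germ V y hy.1 f) := (Scheme.mem_basicOpen _ _ _ hy.1).mp hyW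
    have h0 : X.presheaf.germ V y hy.1 f • P.presheaf.germ V y hy.1 m = 0 := by
      rw [← Groth.Agent.Lib.QCohStalk.germ_smul, hfm, map_zero]
    exact (hu.smul_eq_zero).mp h0
  obtain ⟨s, hs⟩ := exists_section_gammaW W P V m hmW
  -- the submodule is nonzero, coherent, with small support
  have hKne : ¬ IsZero (gammaW W P) := by
    intro hz
    have := Groth.Agent.Lib.H90DevFilt.subsingleton_sections_of_isZero hz V
    have hs0 : s = 0 := Subsingleton.elim _ _
    apply ht
    rw [← gm, ← hs, hs0, map_zero, map_zero]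
  have hKc : Coh.IsCoh (gammaW W P) := isCoh_gammaW haff hP hWaff
  have hdimK := hpure (gammaW W P) (gammaWι W P) inferInstance hKc hKne
  have hWc : IsClosed ((W : Set X)ᶜ) := W.2.isClosed_compl
  have hWne : ((W : Set X)ᶜ) ≠ Set.univ := by
    intro h
    have : genericPoint X ∈ ((W : Set X)ᶜ) := h ▸ Set.mem_univ _
    exact this hηW
  have h1 : topologicalKrullDim ↥((W : Set X)ᶜ) < ((1 : ℕ) : WithBot ℕ∞) :=
    Groth.Agent.Lib.H43GV.topologicalKrullDim_lt_of_isClosed_ne_univ _ hWc hWne 1
      (lt_of_le_of_lt hdim (by decide))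
  have h2 := Groth.Agent.Lib.DimDrop.topologicalKrullDim_mono (support_gammaW_subset W P)
  rw [hdimK] at h2
  exact absurd (lt_of_le_of_lt h2 h1) (lt_irrefl _)

end Pure

section Saturation

variable [IsIntegral X]

/-- a coherent module whose support has dimension `< dim X = 1` has generic rank `0` -/
theorem rk_eq_zero_of_dim_support_lt (hdim : topologicalKrullDim X = 1) {T : X.Modules} (hT : Coh.IsCoh T)
    (hlt : topologicalKrullDim (CohB1.support T) < ((1 : ℕ) : WithBot ℕ∞)) : rk T = 0 := by
  by_contra hne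
  have hη : genericPoint X ∈ CohB1.support T := by
    intro hsub
    apply hne
    have : Subsingleton (T.presheaf.stalk (genericPoint X)) := hsub
    exact Module.finrank_zero_of_subsingleton
  have hcl : IsClosed (CohB1.support T) := Groth.Agent.Lib.ModStalk.isClosed_support_of_isFT _ hT.2
  have huniv : CohB1.support T = Set.univ := by
    apply Set.eq_univ_of_univ_subset
    rw [← (genericPoint_spec X).def]
    exact hcl.closure_subset_iff.mpr (Set.singleton_subset_iff.mpr hη)
  rw [huniv, (Homeomorph.Set.univ X).isHomeomorph.topologicalKrullDim_eq, hdim] at hlt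
  exact absurd hlt (lt_irrefl _)

variable [AlgebraicGeometry.IsNoetherian X]
  (haff : ∀ W : X.Opens, IsAffineOpen W → IsAffineHom W.ι)

include haff in
/-- **V3 (saturation).**  For a coherent submodule `g : G ⟶ E` of a coherent module on an integral Noetherian scheme of
dimension one there is a coherent `G ⊆ G' ⊆ E` with `E/G'` torsion-free and `rk G' = rk G`. -/
theorem exists_saturation (hdim : topologicalKrullDim X = 1) {G E : X.Modules} (g : G ⟶ E) [Mono g]
    (hG : Coh.IsCoh G) (hE : Coh.IsCoh E) :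
    ∃ (G' : X.Modules) (g' : G' ⟶ E) (i : G ⟶ G'), Mono g' ∧ i ≫ g' = g ∧ Coh.IsCoh G' ∧
      Coh.IsCoh (cokernel g') ∧ TF (cokernel g') ∧ rk G' = rk G := by
  have : G.IsQuasicoherent := hG.1
  have : E.IsQuasicoherent := hE.1
  have hQ : Coh.IsCoh (cokernel g) := Groth.Agent.Lib.H90OXModExact.isCoh_cokernel g hE
  have hdQ : topologicalKrullDim (CohB1.support (cokernel g)) ≤ ((1 : ℕ) : WithBot ℕ∞) := by
    refine (topologicalKrullDim_subspace_le X _).trans ?_
    rw [hdim]; rfl
  obtain ⟨T, t, ht, hTc, hTd, hpure⟩ := Groth.Agent.Lib.MaxSub48.exists_saturation hQ 1 hdQ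
  have : T.IsQuasicoherent := hTc.1
  have hRc : Coh.IsCoh (cokernel t) := Groth.Agent.Lib.H90OXModExact.isCoh_cokernel t hQ
  have : (cokernel t).IsQuasicoherent := hRc.1
  have htf : TF (cokernel t) := tf_of_isPure haff (le_of_eq hdim) hRc hpure
  -- the saturation
  let p : E ⟶ cokernel t := cokernel.π g ≫ cokernel.π t
  have hp : Epi p := epi_comp _ _
  have hG'c : Coh.IsCoh (kernel p) := Groth.Agent.Lib.H90OXModExact.isCoh_kernel p hE
  have : (kernel p).IsQuasicoherent := hG'c.1
  have hgp : g ≫ p = 0 := by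
    change g ≫ cokernel.π g ≫ cokernel.π t = 0
    rw [← Category.assoc, cokernel.condition, zero_comp]
  -- cokernel of the kernel of an epi
  have hS : (ShortComplex.mk (kernel.ι p) p (kernel.condition p)).ShortExact :=
    { exact := ShortComplex.exact_kernel p }
  let e : cokernel (kernel.ι p) ≅ cokernel t :=
    IsColimit.coconePointUniqueUpToIso (cokernelIsCokernel (kernel.ι p)) hS.gIsCokernel
  have hcokc : Coh.IsCoh (cokernel (kernel.ι p)) :=
    Groth.Agent.Lib.H90OXModExact.isCoh_cokernel _ hE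
  refine ⟨kernel p, kernel.ι p, kernel.lift p g hgp, inferInstance, kernel.lift_ι _ _ _, hG'c,
    hcokc, tf_of_iso e htf, ?_⟩
  -- ranks
  have hS₁ : (ShortComplex.mk g (cokernel.π g) (cokernel.condition g)).ShortExact :=
    { exact := ShortComplex.exact_cokernel g }
  have hS₂ : (ShortComplex.mk t (cokernel.π t) (cokernel.condition t)).ShortExact :=
    { exact := ShortComplex.exact_cokernel t }
  have r₀ := rk_add _ hS hG'c hRc
  have r₁ := rk_add _ hS₁ hG hQ
  have r₂ := rk_add _ hS₂ hTc hRc
  have r₃ := rk_eq_zero_of_dim_support_lt hdim hTc hTd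
  simp only at r₀ r₁ r₂
  omega

end Saturation

end Groth.Agent.Lib.CurveVB67
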