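import Groth.Agent.Lib.IntNumCalc13
import Groth.Agent.Lib.EulerLE48
import Groth.Agent.S3230
import Groth.Agent.S0458

/-!
# K6.D2: bilinearity of the Euler characteristic / degree on schemes of dimension `≤ 1` (helper13)

Hypothesis-free (uses the landed S3230 Snapper + S0458 Grothendieck vanishing).

* `vanHyp`, `snapperHyp` : the landed instances of `EulerLE48.VanHyp`, `IntNumAlg13.SnapperHyp`.
* `eulerCharLE_tensor_tensor` / `euler_tensor_tensor` : for `F` coherent with `dim Supp F ≤ 1`, `L`, `M` invertible: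
  `χ((L ⊗ M) ⊗ F) + χ(F) = χ(L ⊗ F) + χ(M ⊗ F)`.
* `euler_tensor_of_dim_le_zero` : `χ(L ⊗ F) = χ(F)` if `dim Supp F ≤ 0`.
* `deg_tensorMod` : `deg (L ⊗ M) = deg L + deg M` (`dim X ≤ 1`), `deg_tensorPow`, `deg_eq_neg_of_iso`.
-/

set_option autoImplicit false
universe u
open CategoryTheory CategoryTheory.Limits AlgebraicGeometry

namespace Groth.Agent.Lib.DegTensor13

open Groth.Agent.Lib Groth.Agent.Lib.IsoCls13 Groth.Agent.Lib.IntNumAlg13 CohB1

/-- Grothendieck vanishing (landed S0458) in the `EulerLE48.VanHyp` form. -/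
theorem vanHyp : EulerLE48.VanHyp.{u} := fun X _ d hd F p hp =>
  haveI : TopologicalSpace.NoetherianSpace X.toTopCat :=
    inferInstanceAs (TopologicalSpace.NoetherianSpace X)
  Groth.Agent.S0458.result (X := X.toTopCat) d hd (Coh.toAb F) p hp

/-- Snapper (landed S3230) in the `IntNumAlg13.SnapperHyp` form. -/
theorem snapperHyp : IntNumAlg13.SnapperHyp.{u} := by
  intro k _ X _ _ d hd _ L hL F hF r hr
  exact Groth.Agent.S3230.result k X d hd L hL F hF r hr

theorem topologicalKrullDim_set_le {T : Type*} [TopologicalSpace T] (S : Set T) :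
    topologicalKrullDim S ≤ topologicalKrullDim T :=
  Topology.IsInducing.subtypeVal.topologicalKrullDim_le

variable (k : Type u) [Field k] {X : Scheme.{u}} [X.Over (Spec (CommRingCat.of k))]
  [IsProper (X ↘ Spec (CommRingCat.of k))]

/-- Second difference of `χ_{≤ d}` vanishes on modules with support of dimension `≤ 1`. -/
theorem eulerCharLE_tensor_tensor (d : ℕ) (hd : topologicalKrullDim X ≤ d) {L M : X.Modules}
    (hL : PicF.IsInvertible L) (hM : PicF.IsInvertible M) {F : X.Modules} (hF : Coh.IsCoh F)
    (hr : topologicalKrullDim (CohB1.support F) ≤ (1 : ℕ)) :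
    FGA.eulerCharLE k X (tensorMod (tensorMod L M) F) d + FGA.eulerCharLE k X F d =
      FGA.eulerCharLE k X (tensorMod L F) d + FGA.eulerCharLE k X (tensorMod M F) d := by
  have h := lin_prod_one_sub_mul_br_eq_zero snapperHyp k d hd ![L, M]
    (by intro i; fin_cases i <;> simpa) hF hr (by norm_num)
  rw [Fin.prod_univ_two] at h
  simp only [Matrix.cons_val_zero, Matrix.cons_val_one] at h
  have e : (1 - br L) * (1 - br M) * br F =
      br F - br L * br F - br M * br F + (br L * br M) * br F := by ring
  rw [e, map_add, map_sub, map_sub, ← br_tensorMod, ← br_tensorMod, ← br_tensorMod,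
    ← br_tensorMod, lin_br, lin_br, lin_br, lin_br] at h
  linarith

/-- First difference of `χ_{≤ d}` vanishes on modules with support of dimension `≤ 0`. -/
theorem eulerCharLE_tensor_of_dim_le_zero (d : ℕ) (hd : topologicalKrullDim X ≤ d) {L : X.Modules}
    (hL : PicF.IsInvertible L) {F : X.Modules} (hF : Coh.IsCoh F)
    (hr : topologicalKrullDim (CohB1.support F) ≤ (0 : ℕ)) :
    FGA.eulerCharLE k X (tensorMod L F) d = FGA.eulerCharLE k X F d := by
  have h := lin_prod_one_sub_mul_br_eq_zero snapperHyp k d hd ![L]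
    (by intro i; fin_cases i; simpa) hF hr (by norm_num)
  rw [Fin.prod_univ_one] at h
  simp only [Matrix.cons_val_zero] at h
  have e : (1 - br L) * br F = br F - br L * br F := by ring
  rw [e, map_sub, ← br_tensorMod, lin_br, lin_br] at h
  linarith

/-- `χ((L ⊗ M) ⊗ F) + χ(F) = χ(L ⊗ F) + χ(M ⊗ F)` when `dim Supp F ≤ 1`. -/
theorem euler_tensor_tensor (d : ℕ) (hd : topologicalKrullDim X ≤ d) {L M : X.Modules}
    (hL : PicF.IsInvertible L) (hM : PicF.IsInvertible M) {F : X.Modules} (hF : Coh.IsCoh F)
    (hr : topologicalKrullDim (CohB1.support F) ≤ (1 : ℕ)) :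
    Curv2.euler k X (tensorMod (tensorMod L M) F) + Curv2.euler k X F =
      Curv2.euler k X (tensorMod L F) + Curv2.euler k X (tensorMod M F) := by
  have h := eulerCharLE_tensor_tensor k d hd hL hM hF hr
  rwa [EulerLE48.eulerCharLE_eq_euler k X vanHyp d hd, EulerLE48.eulerCharLE_eq_euler k X vanHyp d hd,
    EulerLE48.eulerCharLE_eq_euler k X vanHyp d hd, EulerLE48.eulerCharLE_eq_euler k X vanHyp d hd] at h

/-- `χ(L ⊗ F) = χ(F)` when `dim Supp F ≤ 0`. -/
theorem euler_tensor_of_dim_le_zero (d : ℕ) (hd : topologicalKrullDim X ≤ d) {L : X.Modules}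
    (hL : PicF.IsInvertible L) {F : X.Modules} (hF : Coh.IsCoh F)
    (hr : topologicalKrullDim (CohB1.support F) ≤ (0 : ℕ)) :
    Curv2.euler k X (tensorMod L F) = Curv2.euler k X F := by
  have h := eulerCharLE_tensor_of_dim_le_zero k d hd hL hF hr
  rwa [EulerLE48.eulerCharLE_eq_euler k X vanHyp d hd, EulerLE48.eulerCharLE_eq_euler k X vanHyp d hd] at h

theorem euler_congr {F G : X.Modules} (e : F ≅ G) : Curv2.euler k X F = Curv2.euler k X G := by
  unfold Curv2.euler
  refine finsum_congr fun i => ?_
  rw [(Groth.Agent.Lib.CohLES.mapEquivₗ k e i).finrank_eq]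

theorem euler_tensor_structureModule (L : X.Modules) :
    Curv2.euler k X (tensorMod L (Coh.structureModule X)) = Curv2.euler k X L := by
  have h : cls (tensorMod L (Coh.structureModule X)) = cls L := by
    rw [cls_tensorMod, cls_one, mul_one]
  obtain ⟨e⟩ := cls_eq_iff.1 h
  exact euler_congr k e

section curve

variable (hdim : topologicalKrullDim X ≤ (1 : ℕ))
include hdim

/-- **Degree is additive under tensor product** of invertible modules on a proper scheme of dimension `≤ 1`. -/
theorem deg_tensorMod {L M : X.Modules} (hL : PicF.IsInvertible L) (hM : PicF.IsInvertible M) :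
    Curv2.deg k X (tensorMod L M) 1 = Curv2.deg k X L 1 + Curv2.deg k X M 1 := by
  have h := euler_tensor_tensor k 1 hdim hL hM (CohFinAmple.isCoh_structureModule X)
    ((topologicalKrullDim_set_le _).trans hdim)
  rw [euler_tensor_structureModule, euler_tensor_structureModule, euler_tensor_structureModule] at h
  unfold Curv2.deg
  push_cast
  linarith

theorem deg_structureModule : Curv2.deg k X (Coh.structureModule X) 1 = 0 := by
  unfold Curv2.deg
  push_cast
  ring

theorem deg_congr {F G : X.Modules} (e : F ≅ G) (n : ℕ) : Curv2.deg k X F n = Curv2.deg k X G n := by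
  unfold Curv2.deg
  rw [euler_congr k e]

/-- `deg (L^{⊗ n}) = n · deg L`. -/
theorem deg_tensorPow {L : X.Modules} (hL : PicF.IsInvertible L) (n : ℕ) :
    Curv2.deg k X (tensorPow L n) 1 = n * Curv2.deg k X L 1 := by
  induction n with
  | zero =>
    have h : cls (tensorPow L 0) = cls (Coh.structureModule X) := by
      rw [cls_tensorPow, pow_zero, cls_one]
    obtain ⟨e⟩ := cls_eq_iff.1 h
    rw [deg_congr k hdim e, deg_structureModule k hdim]
    simp
  | succ n ih =>
    have h : cls (tensorPow L (n + 1)) = cls (tensorMod (tensorPow L n) L) := by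
      rw [cls_tensorPow, cls_tensorMod, cls_tensorPow, pow_succ]
    obtain ⟨e⟩ := cls_eq_iff.1 h
    have hLn : PicF.IsInvertible (tensorPow L n) := H78TensorGen.isInvertible_tensorPow hL n
    rw [deg_congr k hdim e, deg_tensorMod k hdim hLn hL, ih]
    push_cast
    ring

/-- `deg L' = - deg L` when `L ⊗ L' ≅ O`. -/
theorem deg_eq_neg_of_iso {L L' : X.Modules} (hL : PicF.IsInvertible L)
    (e : Nonempty (tensorMod L L' ≅ Coh.structureModule X)) :
    Curv2.deg k X L' 1 = - Curv2.deg k X L 1 := by
  have hL' : PicF.IsInvertible L' := IntNumCalc13.isInvertible_of_tensor_iso hL e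
  obtain ⟨e⟩ := e
  have h := deg_tensorMod k hdim hL hL'
  rw [deg_congr k hdim e, deg_structureModule k hdim] at h
  linarith

end curve

end Groth.Agent.Lib.DegTensor13
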