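import Mathlib.Data.Set.Card
import Mathlib.Order.Interval.Finset.Nat
import Mathlib.Tactic

namespace Groth.Agent.Lib.GapCount

/-- telescoping count of the strict descents of a slowly decreasing sequence -/
theorem card_descents (c : ℕ → ℕ) (h1 : ∀ m, c (m + 1) ≤ c m) (h2 : ∀ m, c m ≤ c (m + 1) + 1) (m : ℕ) :
    ((Finset.Icc 1 m).filter (fun n => c n < c (n - 1))).card + c m = c 0 := by
  induction m with
  | zero => simp
  | succ m ih =>
    have hins : Finset.Icc 1 (m + 1) = insert (m + 1) (Finset.Icc 1 m) := by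
      ext x
      simp only [Finset.mem_Icc, Finset.mem_insert]
      omega
    have hnot : m + 1 ∉ (Finset.Icc 1 m).filter (fun n => c n < c (n - 1)) := by
      simp
    rw [hins, Finset.filter_insert]
    by_cases hlt : c (m + 1) < c (m + 1 - 1)
    · rw [if_pos hlt, Finset.card_insert_of_notMem hnot]
      have h2' := h2 m
      have : m + 1 - 1 = m := by omega
      rw [this] at hlt
      omega
    · rw [if_neg hlt]
      have h1' := h1 m
      have : m + 1 - 1 = m := by omega
      rw [this] at hlt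
      omega

/-- **gap count**: for sequences `b`, `c` with `b n - c n = n + 1 - g`, `b` nondecreasing, `c` nonincreasing, `c n = 0` for
`n ≥ 2g - 1` and `c 0 = g`, the set of `n ≥ 1` with `b n = b (n - 1)` is finite with `g` elements -/
theorem gaps (b c : ℕ → ℕ) (g : ℕ) (hrr : ∀ n, (b n : ℤ) - c n = n + 1 - g)
    (hb : ∀ m, b m ≤ b (m + 1)) (hc : ∀ m, c (m + 1) ≤ c m)
    (hvan : ∀ n : ℕ, 2 * (g : ℤ) - 1 ≤ n → c n = 0) (h0 : c 0 = g) :
    {n : ℕ | 1 ≤ n ∧ b n = b (n - 1)}.Finite ∧ {n : ℕ | 1 ≤ n ∧ b n = b (n - 1)}.ncard = g := by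
  have h2 : ∀ m, c m ≤ c (m + 1) + 1 := by
    intro m
    have := hrr m
    have := hrr (m + 1)
    have := hb m
    push_cast at *
    omega
  have hset : {n : ℕ | 1 ≤ n ∧ b n = b (n - 1)} =
      ↑((Finset.Icc 1 (2 * g)).filter (fun n => c n < c (n - 1))) := by
    ext n
    simp only [Set.mem_ofPred_eq, Finset.coe_filter, Finset.mem_Icc]
    constructor
    · rintro ⟨hn, hbn⟩
      obtain ⟨m, rfl⟩ : ∃ m, n = m + 1 := ⟨n - 1, by omega⟩
      have e : m + 1 - 1 = m := by omega
      rw [e] at hbn ⊢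
      have r1 := hrr m
      have r2 := hrr (m + 1)
      push_cast at r1 r2
      have hlt : c (m + 1) < c m := by omega
      refine ⟨⟨hn, ?_⟩, hlt⟩
      by_contra hgt
      have : c m = 0 := hvan m (by push_cast; omega)
      omega
    · rintro ⟨⟨hn, -⟩, hlt⟩
      obtain ⟨m, rfl⟩ : ∃ m, n = m + 1 := ⟨n - 1, by omega⟩
      have e : m + 1 - 1 = m := by omega
      rw [e] at hlt ⊢
      have r1 := hrr m
      have r2 := hrr (m + 1)
      have := hb m
      have := h2 m
      push_cast at r1 r2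
      refine ⟨hn, ?_⟩
      omega
  rw [hset]
  refine ⟨Finset.finite_toSet _, ?_⟩
  rw [Set.ncard_coe_finset]
  have := card_descents c hc h2 (2 * g)
  have hz : c (2 * g) = 0 := hvan (2 * g) (by push_cast; omega)
  omega

end Groth.Agent.Lib.GapCount
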