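import Groth.Agent.Lib.PointDeg
import Groth.Agent.Lib.GapCount
import Groth.Agent.Lib.CurveIdeal54
import Groth.Agent.Lib.CurveVB54
import Groth.Agent.Lib.DegTensor13
import Groth.Agent.S0002

/-!
# The invertible module `O(p)` of a closed point on an integral proper curve over an algebraically closed field (lead, K6)

Namespace `Groth.Agent.Lib.PointTwist`.  `L` is an invertible module with `L ⊗ I_p ≅ O_X` (`ClSub.IsInverseOf`).

* `ne_zero_of_mono` : a monomorphism out of an invertible module on a nonempty scheme is nonzero.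
* `deg_eq_one` : `deg L = 1`.
* `exists_mono_section` : there is a monomorphism `σ : O ⟶ L`.
* `exists_mono_tensorPow` : monomorphisms `j_m : L^m ⟶ L^(m+1)`.
* `gaps` : the Weierstrass gap theorem (`= S11836`) without smoothness / characteristic hypotheses.
-/

set_option autoImplicit false
universe u
open CategoryTheory CategoryTheory.Limits AlgebraicGeometry Opposite TopologicalSpace

namespace Groth.Agent.Lib.PointTwist

open Groth.Agent.Lib.OXModTensor Groth.Agent.Lib.TwistEquiv Groth.Agent.Lib.CohLES CohB1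
open Groth.Agent.Lib.H90Invertible

/-- the landed finiteness theorem S0002 in hypothesis form -/
theorem properFinHyp : Groth.Agent.Lib.ProperFinHyp.Hyp.{u} :=
  fun A _ _ X _ _ M hM n => Groth.Agent.S0002.result A X M hM n

section General

variable {X : Scheme.{u}}

/-- a monomorphism out of an invertible module on a nonempty scheme is nonzero -/
theorem ne_zero_of_mono [Nonempty X] {N P : X.Modules} (hN : PicF.IsInvertible N) (j : N ⟶ P) [Mono j] :
    j ≠ 0 := by
  intro h
  apply Groth.Agent.Lib.CurveVB54.not_isZero_of_isInvertible hN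
  rw [IsZero.iff_id_eq_zero]
  apply (cancel_mono j).mp
  rw [h]
  simp

/-- composing a monomorphism with isomorphisms on both sides (explicit, to avoid slow instance search) -/
theorem mono_iso_comp_iso {A B C D : X.Modules} (a : A ≅ B) (s : B ⟶ C) (hs : Mono s) (b : C ≅ D) :
    Mono (a.hom ≫ s ≫ b.hom) := by
  have h1 : Mono b.hom := @IsIso.mono_of_iso _ _ _ _ b.hom (Iso.isIso_hom b)
  have h2 : Mono a.hom := @IsIso.mono_of_iso _ _ _ _ a.hom (Iso.isIso_hom a)
  have h3 : Mono (s ≫ b.hom) := @mono_comp _ _ _ _ _ s hs b.hom h1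
  exact @mono_comp _ _ _ _ _ a.hom h2 (s ≫ b.hom) h3

/-- twisting a monomorphism by an invertible module gives a monomorphism -/
theorem mono_tensorRight {M : X.Modules} (hM : PicF.IsInvertible M) {A B : X.Modules} (s : A ⟶ B) [Mono s] :
    Mono ((tensorRightFunctor M).map s) := by
  obtain ⟨M', hM', ⟨e⟩⟩ := Groth.Agent.Lib.H78Dual.exists_tensor_inverse hM
  have e' : tensorMod M M' ≅ Coh.structureModule X := braiding M M' ≪≫ e
  have := isEquivalence_tensorRightFunctor e'
  infer_instance

end General

section Curve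

variable (k : Type u) [Field k] [IsAlgClosed k] (X : Scheme.{u}) [X.Over (Spec (CommRingCat.of k))]
  [IsIntegral X] [IsProper (X ↘ Spec (CommRingCat.of k))]
  (p : X) (hp : IsClosed ({p} : Set X)) {L : X.Modules} (hL : PicF.IsInvertible L)
  (hLp : ClSub.IsInverseOf L (ClSub.idealMod
    (Scheme.IdealSheafData.vanishingIdeal (⟨{p}, hp⟩ : Closeds X))))

include hL hLp in
omit [IsAlgClosed k] [IsProper (X ↘ Spec (CommRingCat.of k))] [X.Over (Spec (CommRingCat.of k))] [IsIntegral X] in
/-- the canonical section of `O(p)` -/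
theorem exists_mono_section : ∃ σ : Coh.structureModule X ⟶ L, Mono σ := by
  obtain ⟨e⟩ := hLp
  set I := Scheme.IdealSheafData.vanishingIdeal (⟨{p}, hp⟩ : Closeds X)
  have hm : Mono ((tensorRightFunctor L).map (ClSub.idealModι I)) :=
    Groth.Agent.Lib.CurveIdeal54.mono_idealMod_tensor X hL I
  exact ⟨_, mono_iso_comp_iso (e.symm ≪≫ braiding L (ClSub.idealMod I)) _ hm (leftUnitor L)⟩

include hL hLp in
omit [IsAlgClosed k] [IsProper (X ↘ Spec (CommRingCat.of k))] [X.Over (Spec (CommRingCat.of k))] [IsIntegral X] in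
/-- the inclusions `L^m ⟶ L^(m+1)` -/
theorem exists_mono_tensorPow (m : ℕ) : ∃ j : tensorPow L m ⟶ tensorPow L (m + 1), Mono j := by
  obtain ⟨σ, hσ⟩ := exists_mono_section X p hp hL hLp
  have hLm := Groth.Agent.Lib.H78TensorGen.isInvertible_tensorPow hL m
  have hm : Mono ((tensorRightFunctor (tensorPow L m)).map σ) := mono_tensorRight hLm σ
  exact ⟨_, mono_iso_comp_iso (leftUnitor (tensorPow L m)).symm _ hm (braiding L (tensorPow L m))⟩

lemma auxDeg (chiO chiL chiG D : ℤ) (q : ℕ) (h1 : chiG = chiL - q) (h2 : chiG = chiO) (hq : q = 1)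
    (hD : D = chiL - 1 * chiO) : D = 1 := by lia

include hL hLp in
omit [IsIntegral X] in
/-- `deg O(p) = 1` -/
theorem deg_eq_one (hdim : topologicalKrullDim X ≤ 1) : Curv2.deg k X L 1 = 1 := by
  obtain ⟨e⟩ := hLp
  set I := Scheme.IdealSheafData.vanishingIdeal (⟨{p}, hp⟩ : Closeds X) with hI
  have hZ : topologicalKrullDim (I.support : Set X) ≤ 0 := by
    rw [hI, Scheme.IdealSheafData.coe_support_vanishingIdeal]
    change topologicalKrullDim (({p} : Set X)) ≤ 0
    exact topologicalKrullDim_zero_of_discreteTopology _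
  have h1 := Groth.Agent.Lib.CurveIdeal54.euler_idealMod_tensor properFinHyp
    Groth.Agent.Lib.DegTensor13.snapperHyp Groth.Agent.Lib.DegTensor13.vanHyp k X hdim hL I hZ
  have h2 : Curv2.euler k X (tensorMod (ClSub.idealMod I) L) = Curv2.euler k X (Coh.structureModule X) :=
    Groth.Agent.Lib.DegTensor54.euler_congr k (braiding (ClSub.idealMod I) L ≪≫ e)
  have hq := Groth.Agent.Lib.PointDeg.finrank_H0_quotMod_point k X p hp
  have hD : Curv2.deg k X L 1 =
      Curv2.euler k X L - ((1 : ℕ) : ℤ) * Curv2.euler k X (Coh.structureModule X) := rfl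
  rw [Nat.cast_one] at hD
  exact auxDeg _ _ _ _ _ h1 h2 hq hD

lemma auxRR (a c : ℕ) (D : ℤ) (o g n : ℕ) (hrr : (a : ℤ) - c = D + o - g) (hD : D = n) (ho : o = 1) :
    (a : ℤ) - c = n + 1 - g := by lia

include hL hLp in
/-- **Weierstrass gap theorem** at a closed point `p` of an integral proper curve over an algebraically closed field:
the integers `n ≥ 1` with `h⁰(O(np)) = h⁰(O((n-1)p))` form a finite set with exactly `g = h¹(O)` elements. -/
theorem gaps (hdim : topologicalKrullDim X ≤ 1) :
    {n : ℕ | 1 ≤ n ∧ Module.finrank k (Coh.HH X (tensorPow L n) 0) =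
        Module.finrank k (Coh.HH X (tensorPow L (n - 1)) 0)}.Finite ∧
      {n : ℕ | 1 ≤ n ∧ Module.finrank k (Coh.HH X (tensorPow L n) 0) =
        Module.finrank k (Coh.HH X (tensorPow L (n - 1)) 0)}.ncard = Curv2.genus k X := by
  have H := properFinHyp.{u}
  have : IsLocallyNoetherian X :=
    LocallyOfFiniteType.isLocallyNoetherian (X ↘ Spec (CommRingCat.of k))
  have hinv : ∀ n, PicF.IsInvertible (tensorPow L n) := fun n =>
    Groth.Agent.Lib.H78TensorGen.isInvertible_tensorPow hL n
  have hcoh : ∀ n, Coh.IsCoh (tensorPow L n) := fun n => isCoh_of_isInvertible (hinv n)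
  have h0 := Groth.Agent.Lib.CurveH1Van54.finrank_H0_structure_eq_one H k X
  have hdeg1 := deg_eq_one k X p hp hL hLp hdim
  have hdeg : ∀ n : ℕ, Curv2.deg k X (tensorPow L n) 1 = n := by
    intro n
    rw [Groth.Agent.Lib.DegTensor54.deg_tensorPow Groth.Agent.Lib.DegTensor13.snapperHyp
      Groth.Agent.Lib.DegTensor13.vanHyp k hdim hL n, hdeg1, mul_one]
  refine Groth.Agent.Lib.GapCount.gaps (fun n => Module.finrank k (Coh.HH X (tensorPow L n) 0))
    (fun n => Module.finrank k (Coh.HH X (tensorPow L n) 1)) (Curv2.genus k X) ?_ ?_ ?_ ?_ ?_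
  · intro n
    have hq : (tensorPow L n).IsQuasicoherent := (hcoh n).1
    exact auxRR _ _ _ _ _ _ (Groth.Agent.Lib.RiemannRoch54.riemann_roch k X hdim (tensorPow L n)) (hdeg n) h0
  · intro m
    obtain ⟨j, hj⟩ := exists_mono_tensorPow X p hp hL hLp m
    have hS : (ShortComplex.mk j (cokernel.π j) (cokernel.condition j)).ShortExact :=
      { exact := ShortComplex.exact_cokernel j }
    have hinj : Function.Injective (mapₗ k j 0) := map_f_injective_zero hS
    have hfin : Module.Finite k (Coh.HH X (tensorPow L (m + 1)) 0) := H k X _ (hcoh (m + 1)) 0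
    exact LinearMap.finrank_le_finrank_of_injective hinj
  · intro m
    obtain ⟨j, hj⟩ := exists_mono_tensorPow X p hp hL hLp m
    have hne : j ≠ 0 := ne_zero_of_mono (hinv m) j
    have hsurj : Function.Surjective (mapₗ k j 1) :=
      Groth.Agent.Lib.CurveH1Van54.map_one_surjective_of_ne_zero hdim (hinv m) (hinv (m + 1)) j hne
    have hfin : Module.Finite k (Coh.HH X (tensorPow L m) 1) := H k X _ (hcoh m) 1
    exact LinearMap.finrank_le_finrank_of_surjective hsurj
  · intro n hn
    have hsub : Subsingleton (Coh.HH X (tensorPow L n) 1) :=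
      Groth.Agent.Lib.CurveH1Van54.subsingleton_H1_of_deg_ge H k X hdim (hinv n) h0 (by rw [hdeg n]; exact hn)
    exact Module.finrank_zero_of_subsingleton
  · rfl

end Curve

end Groth.Agent.Lib.PointTwist
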