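import Groth.Agent.Lib.SmoothCurve67
import Groth.Agent.Lib.CurveVB67D
import Groth.Agent.Lib.PointTwist
import Groth.Agent.Lib.CurveAmple54
import Groth.Agent.Lib.CurveIdeal54
import Groth.Agent.Lib.GlobGenDescent
import Groth.Agent.Lib.H90InvMono

/-!
# Twisting by closed points on integral proper curves over an algebraically closed field (helper54; campaign K6)

Namespace `Groth.Agent.Lib.CurvePoint54`.  `H : ProperFinHyp.Hyp` (= S0002), `HS : SnapperHyp` (= S3230), `V : VanHyp` (= S0458).

* `isInvertible_idealMod_point`: on an integral proper curve all of whose local rings are PIDs (e.g. smooth, via helper67's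
  `SmoothCurve67.isPrincipalIdealRing_stalk_of_smooth`), the ideal sheaf `I_p` of a closed point is invertible.
* `exists_isClosed_singleton_mem`: nonempty opens of schemes locally of finite type over a field contain closed points.
* `mem_support_of_isInvertible`, `mem_support_quotMod_point`, `finrank_H0_succ_le_of_map_g_ne_zero`.
* `finrank_H0_idealMod_tensor_succ_le`: if some section of `L` does not vanish at `p` then `h^0(I_p ⊗ L) + 1 ≤ h^0(L)`.
* `GoodPoints X`: closed points with invertible ideal sheaf exist in every nonempty open; `goodPoints_of_pid`.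
* `exists_twist_down`, `exists_invertible_H1_zero_finrank_H0_eq` (descent: all values of `h^0` below `h^0(L₀)` are realised
  with `H^1 = 0`), `exists_invertible_deg_one`, `exists_invertible_H1_zero`,
  **`exists_invertible_h0_one_h1_zero`** (= S1523 given good points), **`exists_invertible_deg_genus_sub_one`** (= S11828).
-/

set_option autoImplicit false
universe u
open CategoryTheory CategoryTheory.Limits AlgebraicGeometry Opposite TopologicalSpace

namespace Groth.Agent.Lib.CurvePoint54

open Groth.Agent.Lib.OXModTensor Groth.Agent.Lib.TwistEquiv Groth.Agent.Lib.CohLES CohB1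
open Groth.Agent.Lib.H90Invertible Groth.Agent.Lib.CurveVB67 Groth.Agent.Lib.IdealMod
open Groth.Agent.Lib.StructureModule Groth.Agent.Lib.H78SecCoord Groth.Agent.Lib.InvMap54

section Ideal

variable (k : Type u) [Field k] (X : Scheme.{u}) [X.Over (Spec (CommRingCat.of k))]
  [IsIntegral X] [IsProper (X ↘ Spec (CommRingCat.of k))] (hdim : topologicalKrullDim X = 1)
  (hpid : ∀ x : X, IsPrincipalIdealRing (X.presheaf.stalk x))
  (p : X) (hp : IsClosed ({p} : Set X))

include k hdim hpid in
/-- the ideal sheaf of a closed point of a regular integral proper curve is invertible -/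
theorem isInvertible_idealMod_point :
    PicF.IsInvertible (ClSub.idealMod (Scheme.IdealSheafData.vanishingIdeal (⟨{p}, hp⟩ : Closeds X))) := by
  set I := Scheme.IdealSheafData.vanishingIdeal (⟨{p}, hp⟩ : Closeds X) with hI
  have : IsLocallyNoetherian X :=
    LocallyOfFiniteType.isLocallyNoetherian (X ↘ Spec (CommRingCat.of k))
  have hIc : Coh.IsCoh (ClSub.idealMod I) := Groth.Agent.Lib.CurveIdeal54.isCoh_idealMod k X I
  have hQc : Coh.IsCoh (ClSub.quotMod I) := Groth.Agent.Lib.CurveIdeal54.isCoh_quotMod k X I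
  have hO1 : FlatMod.IsFinLocFreeOfRank 1 (Coh.structureModule X) :=
    (isInvertible_iff_isFinLocFreeOfRank_one _).mp (isInvertible_structureModule X)
  have hmono : Mono (ClSub.idealModι I) := (idealMod_shortExact I).mono_f
  have hfree := isFinLocFreeOfRank_of_mono hpid (ClSub.idealModι I) hIc (isFinLocFree_of_rank hO1)
  have hadd := rk_add _ (idealMod_shortExact I) hIc hQc
  have hZ : topologicalKrullDim (I.support : Set X) ≤ 0 := by
    rw [hI, Scheme.IdealSheafData.coe_support_vanishingIdeal]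
    change topologicalKrullDim (({p} : Set X)) ≤ 0
    exact topologicalKrullDim_zero_of_discreteTopology _
  have hsupp : topologicalKrullDim (CohB1.support (ClSub.quotMod I)) ≤ 0 :=
    (Groth.Agent.Lib.IntNumAlg13.topologicalKrullDim_mono
      (Groth.Agent.Lib.CurveIdeal54.support_quotMod_subset X I)).trans hZ
  have hq0 : rk (ClSub.quotMod I) = 0 :=
    rk_eq_zero_of_dim_support_lt hdim hQc (lt_of_le_of_lt hsupp (by norm_num))
  have h1 : 1 = rk (Coh.structureModule X) := eq_rk_of_isFinLocFreeOfRank hO1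
  have hrk : rk (ClSub.idealMod I) = 1 := by
    change rk (Coh.structureModule X) = rk (ClSub.idealMod I) + rk (ClSub.quotMod I) at hadd
    omega
  rw [hrk] at hfree
  exact (isInvertible_iff_isFinLocFreeOfRank_one _).mpr hfree

end Ideal

section Closed

/-- a nonempty open subset of a scheme locally of finite type over a field contains a closed point -/
theorem exists_isClosed_singleton_mem (k : Type u) [Field k] (X : Scheme.{u}) [X.Over (Spec (CommRingCat.of k))]
    [LocallyOfFiniteType (X ↘ Spec (CommRingCat.of k))] (U : X.Opens) (hU : (U : Set X).Nonempty) :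
    ∃ p ∈ U, IsClosed ({p} : Set X) := by
  have : JacobsonSpace X := LocallyOfFiniteType.jacobsonSpace (X ↘ Spec (CommRingCat.of k))
  obtain ⟨p, hpU, hp⟩ := nonempty_inter_closedPoints hU U.isOpen.isLocallyClosed
  exact ⟨p, hpU, hp⟩

end Closed

section Support

variable {X : Scheme.{u}}

/-- an invertible module is supported everywhere -/
theorem mem_support_of_isInvertible {L : X.Modules} (hL : PicF.IsInvertible L) (x : X) :
    x ∈ CohB1.support L := by
  obtain ⟨V, hxV, l, hl⟩ := (isInvertible_iff_exists_isGen L).1 hL x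
  intro hsub
  have hsub' : Subsingleton (L.presheaf.stalk x) := hsub
  have e := Groth.Agent.Lib.H78Dual.stalkEquiv hl x hxV
  have : Subsingleton (X.presheaf.stalk x) := e.toEquiv.subsingleton
  exact not_subsingleton (X.presheaf.stalk x) this

end Support

section Count

variable (k : Type u) [Field k] {X : Scheme.{u}} [X.Over (Spec (CommRingCat.of k))]

/-- in a short exact sequence, if `H^0(g) ≠ 0` then `h^0(X₁) + 1 ≤ h^0(X₂)` -/
theorem finrank_H0_succ_le_of_map_g_ne_zero {S : ShortComplex X.Modules} (hS : S.ShortExact)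
    [Module.Finite k (Coh.HH X S.X₂ 0)] (x : Coh.HH X S.X₂ 0) (hx : map S.g 0 x ≠ 0) :
    Module.finrank k (Coh.HH X S.X₁ 0) + 1 ≤ Module.finrank k (Coh.HH X S.X₂ 0) := by
  have hinj : Function.Injective (mapₗ k S.f 0) := map_f_injective_zero hS
  have h1 : Module.finrank k (LinearMap.range (mapₗ k S.f 0)) = Module.finrank k (Coh.HH X S.X₁ 0) :=
    LinearMap.finrank_range_of_inj hinj
  have h2 : LinearMap.range (mapₗ k S.f 0) = LinearMap.ker (mapₗ k S.g 0) := range_mapₗ_f_eq_ker k hS 0
  have h3 := LinearMap.finrank_range_add_finrank_ker (mapₗ k S.g 0)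
  have h4 : 0 < Module.finrank k (LinearMap.range (mapₗ k S.g 0)) := by
    rw [Module.finrank_pos_iff_exists_ne_zero]
    exact ⟨⟨mapₗ k S.g 0 x, x, rfl⟩, fun h => hx (congrArg Subtype.val h)⟩
  rw [h2] at h1
  omega

end Count

section TwistDown

open Groth.Agent.Lib.ProperFinHyp Groth.Agent.Lib.IntNumAlg13 Groth.Agent.Lib.EulerLE48 Groth.Agent.Lib.H4Twist
open Groth.Agent.Lib.GlobGenDescent Groth.Agent.Lib.CurveH1Van54

variable (H : Hyp.{u}) (HS : SnapperHyp.{u}) (V : VanHyp.{u})
  (k : Type u) [Field k] [IsAlgClosed k] (X : Scheme.{u}) [X.Over (Spec (CommRingCat.of k))]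
  [IsIntegral X] [IsProper (X ↘ Spec (CommRingCat.of k))] (hdim : topologicalKrullDim X ≤ 1)
  {L : X.Modules} (hL : PicF.IsInvertible L) (p : X) (hp : IsClosed ({p} : Set X))

omit [IsIntegral X] in
include k in
/-- the reduced point `p` lies in the support of its structure sheaf -/
theorem mem_support_quotMod_point :
    p ∈ CohB1.support (ClSub.quotMod (Scheme.IdealSheafData.vanishingIdeal (⟨{p}, hp⟩ : Closeds X))) := by
  set I := Scheme.IdealSheafData.vanishingIdeal (⟨{p}, hp⟩ : Closeds X) with hI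
  by_contra hnot
  have hsub : CohB1.support (ClSub.quotMod I) ⊆ ({p} : Set X) := by
    refine (Groth.Agent.Lib.CurveIdeal54.support_quotMod_subset X I).trans ?_
    rw [hI, Scheme.IdealSheafData.coe_support_vanishingIdeal]
    rfl
  have hz : IsZero (ClSub.quotMod I) := by
    apply Groth.Agent.Lib.H90QCohLocalization.isZero_of_stalks
    intro x
    by_contra hx
    have hx' : x ∈ CohB1.support (ClSub.quotMod I) := hx
    have hxp : x = p := hsub hx'
    rw [hxp] at hx'
    exact hnot hx'
  have h1 := Groth.Agent.Lib.PointDeg.finrank_H0_quotMod_point k X p hp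
  have hsub0 : Subsingleton (Coh.HH X (ClSub.quotMod I) 0) := by
    refine subsingleton_of_forall_eq 0 fun x => ?_
    rw [← map_id _ 0 x, hz.eq_of_src (𝟙 _) 0, map_zero']
  rw [Module.finrank_zero_of_subsingleton] at h1
  exact zero_ne_one h1

include H k hL in
omit [IsIntegral X] in
/-- **twisting down at a point where some section does not vanish** drops `h^0` -/
theorem finrank_H0_idealMod_tensor_succ_le (s : Coh.structureModule X ⟶ L)
    (hs : p ∉ CohB1.support (cokernel s)) :
    Module.finrank k (Coh.HH X (tensorMod (ClSub.idealMod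
      (Scheme.IdealSheafData.vanishingIdeal (⟨{p}, hp⟩ : Closeds X))) L) 0) + 1 ≤
      Module.finrank k (Coh.HH X L 0) := by
  set I := Scheme.IdealSheafData.vanishingIdeal (⟨{p}, hp⟩ : Closeds X) with hI
  have : IsLocallyNoetherian X :=
    LocallyOfFiniteType.isLocallyNoetherian (X ↘ Spec (CommRingCat.of k))
  obtain ⟨M, -, ⟨e₀⟩⟩ := Groth.Agent.Lib.H78Dual.exists_tensor_inverse hL
  obtain ⟨e', -⟩ : ∃ e : tensorMod L M ≅ Coh.structureModule X, True := ⟨braiding L M ≪≫ e₀, trivial⟩
  have hSL := shortExact_map_tensorRight e' (idealMod_shortExact I)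
  have hLc : Coh.IsCoh L := isCoh_of_isInvertible hL
  have hOc : Coh.IsCoh (Coh.structureModule X) := isCoh_of_isInvertible (isInvertible_structureModule X)
  have hQc : Coh.IsCoh (ClSub.quotMod I) := Groth.Agent.Lib.CurveIdeal54.isCoh_quotMod k X I
  obtain ⟨st, hst⟩ : ∃ st : Coh.structureModule X ⟶ (tensorRightFunctor L).obj (Coh.structureModule X),
      st = s ≫ (leftUnitor L).inv := ⟨_, rfl⟩
  have hne : st ≫ (tensorRightFunctor L).map (ClSub.toSubscheme I) ≠ 0 := by
    intro h0
    have hepi_g : Epi ((tensorRightFunctor L).map (ClSub.toSubscheme I)) := hSL.epi_g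
    have hfac : cokernel.π st ≫ cokernel.desc st ((tensorRightFunctor L).map (ClSub.toSubscheme I)) h0 =
        (tensorRightFunctor L).map (ClSub.toSubscheme I) := cokernel.π_desc _ _ _
    have hd : Epi (cokernel.desc st ((tensorRightFunctor L).map (ClSub.toSubscheme I)) h0) :=
      epi_of_epi_fac hfac
    have hsub := Groth.Agent.Lib.H90DevHub2.support_subset_of_epi
      (cokernel.desc st ((tensorRightFunctor L).map (ClSub.toSubscheme I)) h0)
    have hp3 : p ∈ CohB1.support ((tensorRightFunctor L).obj (ClSub.quotMod I)) := by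
      have i1 : (ClSub.quotMod I).IsQuasicoherent := hQc.1
      have i2 : (ClSub.quotMod I).IsFiniteType := hQc.2
      have i3 : L.IsQuasicoherent := hLc.1
      have i4 : L.IsFiniteType := hLc.2
      change p ∈ CohB1.support (tensorMod (ClSub.quotMod I) L)
      rw [Groth.Agent.Lib.SupportTensor.support_tensorMod]
      exact ⟨mem_support_quotMod_point k X p hp, mem_support_of_isInvertible hL p⟩
    have hp4 : p ∈ CohB1.support (cokernel st) := hsub hp3
    have hiso : IsIso (leftUnitor L).inv := inferInstance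
    have e : cokernel st ≅ cokernel s := by
      rw [hst]
      exact cokernelCompIsIso s (leftUnitor L).inv
    rw [Groth.Agent.Lib.CurveSerreVan54.support_eq_of_iso e] at hp4
    exact hs hp4
  have hfin : Module.Finite k (Coh.HH X ((tensorRightFunctor L).obj (Coh.structureModule X)) 0) :=
    H k X _ (Groth.Agent.Lib.CohFinAmple.isCoh_tensorMod hOc hLc) 0
  obtain ⟨x, hx⟩ : ∃ x : Coh.HH X ((tensorRightFunctor L).obj (Coh.structureModule X)) 0,
      h0Equiv _ x = sec st := ⟨(h0Equiv _).symm (sec st), AddEquiv.apply_symm_apply _ _⟩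
  have hx0 : map ((tensorRightFunctor L).map (ClSub.toSubscheme I)) 0 x ≠ 0 := by
    intro h0
    apply hne
    have h1 : st ≫ (tensorRightFunctor L).map (ClSub.toSubscheme I) =
        ofSection (((tensorRightFunctor L).map (ClSub.toSubscheme I)).app ⊤ (sec st)) := by
      rw [← ofSection_comp, ofSection_sec]
    have h2 : ((tensorRightFunctor L).map (ClSub.toSubscheme I)).app ⊤ (sec st) = 0 := by
      have h3 := h0Equiv_map ((tensorRightFunctor L).map (ClSub.toSubscheme I)) x
      rw [h0, map_zero, hx] at h3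
      exact h3.symm
    rw [h1, h2]
    apply hom_ext_sec
    rw [sec_ofSection]
    change _ = (0 : Coh.structureModule X ⟶ _).app ⊤ _
    rw [Scheme.Modules.Hom.zero_app]
    rfl
  have hcount := @finrank_H0_succ_le_of_map_g_ne_zero k _ X _ _ hSL hfin x hx0
  have e2 : Coh.HH X ((tensorRightFunctor L).obj (Coh.structureModule X)) 0 ≃ₗ[k] Coh.HH X L 0 :=
    mapEquivₗ k (leftUnitor L) 0
  rw [← e2.finrank_eq]
  exact hcount

end TwistDown

section Descent

open Groth.Agent.Lib.ProperFinHyp Groth.Agent.Lib.IntNumAlg13 Groth.Agent.Lib.EulerLE48 Groth.Agent.Lib.H4Twist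
open Groth.Agent.Lib.GlobGenDescent Groth.Agent.Lib.CurveH1Van54

/-- closed points with invertible ideal sheaf exist in every nonempty open subset -/
def GoodPoints (X : Scheme.{u}) : Prop :=
  ∀ U : X.Opens, (U : Set X).Nonempty → ∃ (p : X) (hp : IsClosed ({p} : Set X)), p ∈ U ∧
    PicF.IsInvertible (ClSub.idealMod (Scheme.IdealSheafData.vanishingIdeal (⟨{p}, hp⟩ : Closeds X)))

lemma auxT (a a' b b' : ℕ) (chi chi' : ℤ) (q : ℕ) (h1 : chi' = chi - q) (hq : q = 1)
    (hchi : chi = (a : ℤ) - b) (hb : b = 0) (hchi' : chi' = (a' : ℤ) - b') (hle : a' + 1 ≤ a) :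
    b' = 0 ∧ a' + 1 = a := by lia

variable (H : Hyp.{u}) (HS : SnapperHyp.{u}) (V : VanHyp.{u})
  (k : Type u) [Field k] [IsAlgClosed k] (X : Scheme.{u}) [X.Over (Spec (CommRingCat.of k))]
  [IsIntegral X] [IsProper (X ↘ Spec (CommRingCat.of k))] (hdim : topologicalKrullDim X ≤ 1)
  (hgood : GoodPoints X)

include H HS V hdim hgood in
/-- **one step down**: an invertible module with `H^1 = 0` and a nonzero section contains an invertible submodule
`L(-p)` with `H^1 = 0` and one section less -/
theorem exists_twist_down {L : X.Modules} (hL : PicF.IsInvertible L) (h1 : Subsingleton (Coh.HH X L 1))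
    (hnt : Nontrivial (Coh.HH X L 0)) :
    ∃ L' : X.Modules, PicF.IsInvertible L' ∧ Subsingleton (Coh.HH X L' 1) ∧
      Module.finrank k (Coh.HH X L' 0) + 1 = Module.finrank k (Coh.HH X L 0) := by
  have : IsLocallyNoetherian X :=
    LocallyOfFiniteType.isLocallyNoetherian (X ↘ Spec (CommRingCat.of k))
  have hO := isInvertible_structureModule X
  have hLc : Coh.IsCoh L := isCoh_of_isInvertible hL
  have hOq : (Coh.structureModule X).IsQuasicoherent := (isCoh_of_isInvertible hO).1
  obtain ⟨a, ha⟩ := exists_ne (0 : Coh.HH X L 0)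
  obtain ⟨s, hsdef⟩ : ∃ s : Coh.structureModule X ⟶ L, s = ofSection (h0Equiv L a) := ⟨_, rfl⟩
  have hsne : s ≠ 0 := by
    intro h0'
    apply ha
    have h1 : sec (ofSection (h0Equiv L a)) = 0 := by
      rw [← hsdef, h0']
      change (0 : Coh.structureModule X ⟶ L).app ⊤ _ = 0
      rw [Scheme.Modules.Hom.zero_app]
      rfl
    rw [sec_ofSection] at h1
    exact (h0Equiv L).map_eq_zero_iff.mp h1
  have hQ : Coh.IsCoh (cokernel s) := Groth.Agent.Lib.H90OXModExact.isCoh_cokernel s hLc
  have i2 : (cokernel s).IsFiniteType := hQ.2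
  have hclosed : IsClosed (CohB1.support (cokernel s)) :=
    Groth.Agent.Lib.ModStalk.isClosed_support_of_isFiniteType _
  have hgen : genericPoint X ∉ CohB1.support (cokernel s) :=
    Groth.Agent.Lib.H90InvMono.genericPoint_notMem_support_cokernel hO hL s hsne
  obtain ⟨p, hp, hpU, hIp⟩ := hgood ⟨(CohB1.support (cokernel s))ᶜ, hclosed.isOpen_compl⟩
    ⟨genericPoint X, hgen⟩
  obtain ⟨I, hI⟩ : ∃ I : X.IdealSheafData, I = Scheme.IdealSheafData.vanishingIdeal (⟨{p}, hp⟩ : Closeds X) :=
    ⟨_, rfl⟩
  rw [← hI] at hIp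
  have hL' : PicF.IsInvertible (tensorMod (ClSub.idealMod I) L) :=
    Groth.Agent.Lib.H78TensorGen.isInvertible_tensorMod hIp hL
  have hZ : topologicalKrullDim (I.support : Set X) ≤ 0 := by
    rw [hI, Scheme.IdealSheafData.coe_support_vanishingIdeal]
    change topologicalKrullDim (({p} : Set X)) ≤ 0
    exact topologicalKrullDim_zero_of_discreteTopology _
  have e1 := Groth.Agent.Lib.CurveIdeal54.euler_idealMod_tensor H HS V k X hdim hL I hZ
  have hq : Module.finrank k (Coh.HH X (ClSub.quotMod I) 0) = 1 := by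
    rw [hI]
    exact Groth.Agent.Lib.PointDeg.finrank_H0_quotMod_point k X p hp
  have hLq : L.IsQuasicoherent := hLc.1
  have hL'c : Coh.IsCoh (tensorMod (ClSub.idealMod I) L) := isCoh_of_isInvertible hL'
  have hL'q : (tensorMod (ClSub.idealMod I) L).IsQuasicoherent := hL'c.1
  have rr := Groth.Agent.Lib.RiemannRoch54.euler_eq_sub k X hdim L
  have rr' := Groth.Agent.Lib.RiemannRoch54.euler_eq_sub k X hdim (tensorMod (ClSub.idealMod I) L)
  have hb : Module.finrank k (Coh.HH X L 1) = 0 := Module.finrank_zero_of_subsingleton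
  have hle : Module.finrank k (Coh.HH X (tensorMod (ClSub.idealMod I) L) 0) + 1 ≤
      Module.finrank k (Coh.HH X L 0) := by
    rw [hI]
    exact finrank_H0_idealMod_tensor_succ_le H k X hL p hp s hpU
  obtain ⟨hb', ha'⟩ := auxT _ _ _ _ _ _ _ e1 hq rr hb rr' hle
  have hfin : Module.Finite k (Coh.HH X (tensorMod (ClSub.idealMod I) L) 1) := H k X _ hL'c 1
  exact ⟨_, hL', Module.finrank_zero_iff.mp hb', ha'⟩

include H HS V hdim hgood in
/-- **descent**: from an invertible module with `H^1 = 0`, all smaller values of `h^0` are realised with `H^1 = 0` -/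
theorem exists_invertible_H1_zero_finrank_H0_eq {L₀ : X.Modules} (hL₀ : PicF.IsInvertible L₀)
    (h1 : Subsingleton (Coh.HH X L₀ 1)) (n : ℕ) (hn : n ≤ Module.finrank k (Coh.HH X L₀ 0)) :
    ∃ L : X.Modules, PicF.IsInvertible L ∧ Subsingleton (Coh.HH X L 1) ∧
      Module.finrank k (Coh.HH X L 0) = n := by
  obtain ⟨d, hd⟩ : ∃ d : ℕ, Module.finrank k (Coh.HH X L₀ 0) = n + d := ⟨_, (Nat.add_sub_cancel' hn).symm⟩
  induction d generalizing L₀ with
  | zero => exact ⟨L₀, hL₀, h1, hd⟩
  | succ d ih =>
    have hpos : 0 < Module.finrank k (Coh.HH X L₀ 0) := by omega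
    have hnt : Nontrivial (Coh.HH X L₀ 0) := Module.nontrivial_of_finrank_pos hpos
    obtain ⟨L', hL', h1', hf⟩ := exists_twist_down H HS V k X hdim hgood hL₀ h1 hnt
    exact ih hL' h1' (by omega) (by omega)

end Descent

section Start

open Groth.Agent.Lib.ProperFinHyp Groth.Agent.Lib.IntNumAlg13 Groth.Agent.Lib.EulerLE48 Groth.Agent.Lib.H4Twist
open Groth.Agent.Lib.GlobGenDescent Groth.Agent.Lib.CurveH1Van54

lemma auxS (a b : ℕ) (chi e D : ℤ) (c g n : ℕ) (hD : D = chi - 1 * e) (hchi : chi = (a : ℤ) - b)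
    (he : e = (c : ℤ) - g) (hc : c = 1) (hb : b = 0) (hDn : D = n * 1) (hn : n = 2 * g + 1) : 1 ≤ a := by lia

lemma auxS' (g : ℕ) (D : ℤ) (n : ℕ) (hDn : D = n * 1) (hn : n = 2 * g + 1) : 2 * (g : ℤ) - 1 ≤ D := by lia

lemma auxU (a b : ℕ) (chi e D : ℤ) (c g : ℕ) (hD : D = chi - 1 * e) (hchi : chi = (a : ℤ) - b)
    (he : e = (c : ℤ) - g) (hc : c = 1) (hb : b = 0) (ha : a = 0) : D = (g : ℤ) - 1 := by lia

variable (H : Hyp.{u}) (HS : SnapperHyp.{u}) (V : VanHyp.{u})
  (k : Type u) [Field k] [IsAlgClosed k] (X : Scheme.{u}) [X.Over (Spec (CommRingCat.of k))]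
  [IsIntegral X] [IsProper (X ↘ Spec (CommRingCat.of k))] (hdim : topologicalKrullDim X ≤ 1)
  (hgood : GoodPoints X)

include hdim hgood in
/-- an invertible module of degree one -/
theorem exists_invertible_deg_one : ∃ L : X.Modules, PicF.IsInvertible L ∧ Curv2.deg k X L 1 = 1 := by
  obtain ⟨p, hp, -, hIp⟩ := hgood ⊤ ⟨genericPoint X, trivial⟩
  exact ⟨_, Groth.Agent.Lib.H78Dual.isInvertible_dual hIp,
    Groth.Agent.Lib.PointTwist.deg_eq_one k X p hp (Groth.Agent.Lib.H78Dual.isInvertible_dual hIp)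
      ⟨Groth.Agent.Lib.H78Dual.dualTensorIso hIp⟩ hdim⟩

include H HS V hdim hgood in
/-- an invertible module with `H^1 = 0` and a nonzero section -/
theorem exists_invertible_H1_zero :
    ∃ L₀ : X.Modules, PicF.IsInvertible L₀ ∧ Subsingleton (Coh.HH X L₀ 1) ∧
      1 ≤ Module.finrank k (Coh.HH X L₀ 0) := by
  obtain ⟨L₁, hL₁, hd₁⟩ := exists_invertible_deg_one k X hdim hgood
  obtain ⟨n, hn⟩ : ∃ n : ℕ, n = 2 * Curv2.genus k X + 1 := ⟨_, rfl⟩
  have hLn : PicF.IsInvertible (tensorPow L₁ n) := Groth.Agent.Lib.H78TensorGen.isInvertible_tensorPow hL₁ n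
  have hdn : Curv2.deg k X (tensorPow L₁ n) 1 = n * Curv2.deg k X L₁ 1 :=
    Groth.Agent.Lib.DegTensor54.deg_tensorPow HS V k hdim hL₁ n
  rw [hd₁] at hdn
  have h0 : Module.finrank k (Coh.HH X (Coh.structureModule X) 0) = 1 :=
    finrank_H0_structure_eq_one H k X
  have h1 : Subsingleton (Coh.HH X (tensorPow L₁ n) 1) :=
    subsingleton_H1_of_deg_ge H k X hdim hLn h0 (auxS' _ _ _ hdn hn)
  have hq : (tensorPow L₁ n).IsQuasicoherent := (isCoh_of_isInvertible hLn).1
  have hOq : (Coh.structureModule X).IsQuasicoherent :=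
    (isCoh_of_isInvertible (isInvertible_structureModule X)).1
  have hD : Curv2.deg k X (tensorPow L₁ n) 1 = Curv2.euler k X (tensorPow L₁ n) -
      ((1 : ℕ) : ℤ) * Curv2.euler k X (Coh.structureModule X) := rfl
  rw [Nat.cast_one] at hD
  have hb : Module.finrank k (Coh.HH X (tensorPow L₁ n) 1) = 0 := Module.finrank_zero_of_subsingleton
  exact ⟨_, hLn, h1, auxS _ _ _ _ _ _ _ _ hD (Groth.Agent.Lib.RiemannRoch54.euler_eq_sub k X hdim _)
    (Groth.Agent.Lib.RiemannRoch54.euler_eq_sub k X hdim _) h0 hb hdn hn⟩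

include H HS V hdim hgood in
/-- **an invertible module with `h^0 = 1`, `h^1 = 0`, and one with `h^0 = h^1 = 0`** (= S1523 when points are good) -/
theorem exists_invertible_h0_one_h1_zero :
    (∃ L : X.Modules, PicF.IsInvertible L ∧ Module.finrank k (Coh.HH X L 0) = 1 ∧
      Subsingleton (Coh.HH X L 1)) ∧
    (∃ N : X.Modules, PicF.IsInvertible N ∧ Subsingleton (Coh.HH X N 0) ∧ Subsingleton (Coh.HH X N 1)) := by
  have : IsLocallyNoetherian X :=
    LocallyOfFiniteType.isLocallyNoetherian (X ↘ Spec (CommRingCat.of k))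
  obtain ⟨L₀, hL₀, h1, hpos⟩ := exists_invertible_H1_zero H HS V k X hdim hgood
  obtain ⟨L, hL, hL1, hLn⟩ := exists_invertible_H1_zero_finrank_H0_eq H HS V k X hdim hgood hL₀ h1 1 hpos
  obtain ⟨N, hN, hN1, hNn⟩ :=
    exists_invertible_H1_zero_finrank_H0_eq H HS V k X hdim hgood hL₀ h1 0 (Nat.zero_le _)
  have hfin : Module.Finite k (Coh.HH X N 0) := H k X _ (isCoh_of_isInvertible hN) 0
  exact ⟨⟨L, hL, hLn, hL1⟩, ⟨N, hN, Module.finrank_zero_iff.mp hNn, hN1⟩⟩

include H HS V hdim hgood in
/-- **an invertible module of degree `g - 1` without cohomology** (= S11828 when points are good) -/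
theorem exists_invertible_deg_genus_sub_one :
    ∃ L : X.Modules, PicF.IsInvertible L ∧ Curv2.deg k X L 1 = (Curv2.genus k X : ℤ) - 1 ∧
      Subsingleton (Coh.HH X L 1) := by
  obtain ⟨L₀, hL₀, h1, hpos⟩ := exists_invertible_H1_zero H HS V k X hdim hgood
  obtain ⟨N, hN, hN1, hNn⟩ :=
    exists_invertible_H1_zero_finrank_H0_eq H HS V k X hdim hgood hL₀ h1 0 (Nat.zero_le _)
  have h0 : Module.finrank k (Coh.HH X (Coh.structureModule X) 0) = 1 :=
    finrank_H0_structure_eq_one H k X
  have hq : N.IsQuasicoherent := (isCoh_of_isInvertible hN).1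
  have hOq : (Coh.structureModule X).IsQuasicoherent :=
    (isCoh_of_isInvertible (isInvertible_structureModule X)).1
  have hD : Curv2.deg k X N 1 = Curv2.euler k X N -
      ((1 : ℕ) : ℤ) * Curv2.euler k X (Coh.structureModule X) := rfl
  rw [Nat.cast_one] at hD
  have hb : Module.finrank k (Coh.HH X N 1) = 0 := Module.finrank_zero_of_subsingleton
  exact ⟨N, hN, auxU _ _ _ _ _ _ _ hD (Groth.Agent.Lib.RiemannRoch54.euler_eq_sub k X hdim _)
    (Groth.Agent.Lib.RiemannRoch54.euler_eq_sub k X hdim _) h0 hb hNn, hN1⟩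

end Start

section Smooth

variable (k : Type u) [Field k] (X : Scheme.{u}) [X.Over (Spec (CommRingCat.of k))]
  [IsIntegral X] [IsProper (X ↘ Spec (CommRingCat.of k))] (hdim : topologicalKrullDim X = 1)
  (hpid : ∀ x : X, IsPrincipalIdealRing (X.presheaf.stalk x))

include k hdim hpid in
/-- on a regular integral proper curve all closed points are good -/
theorem goodPoints_of_pid : GoodPoints X := by
  intro U hU
  obtain ⟨p, hpU, hp⟩ := exists_isClosed_singleton_mem k X U hU
  exact ⟨p, hp, hpU, isInvertible_idealMod_point k X hdim hpid p hp⟩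

end Smooth

end Groth.Agent.Lib.CurvePoint54
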