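import Mathlib
import Groth.Agent.Lib.EtaleDescend45

/-!
# Generically unramified = generically étale = separable function field extension

For a dominant morphism `f : X ⟶ Y` of integral schemes, locally of finite presentation:
`f` is unramified on a nonempty open iff étale on a nonempty open iff the function field extension
is finite separable iff it is separable.
-/

namespace Groth.Agent.Lib.GenericEtale45

open AlgebraicGeometry CategoryTheory

universe u

/-- A field extension that is essentially of finite type and algebraic is finite. -/
theorem finite_of_essFiniteType_of_isAlgebraic (K L : Type*) [Field K] [Field L] [Algebra K L]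
    [Algebra.EssFiniteType K L] [Algebra.IsAlgebraic K L] : FiniteDimensional K L := by
  obtain ⟨s, hs⟩ := IntermediateField.fg_top K L
  have h1 : FiniteDimensional K (IntermediateField.adjoin K (s : Set L)) :=
    IntermediateField.finiteDimensional_adjoin
      fun x _ ↦ (Algebra.IsAlgebraic.isAlgebraic x).isIntegral
  rw [hs] at h1
  exact Module.Finite.equiv (IntermediateField.topEquiv (F := K) (E := L)).toLinearEquiv

theorem field_formallyUnramified_iff (K L : Type u) [Field K] [Field L] [Algebra K L]
    [Algebra.EssFiniteType K L] :
    Algebra.FormallyUnramified K L ↔ FiniteDimensional K L ∧ Algebra.IsSeparable K L := by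
  rw [Algebra.FormallyUnramified.iff_isSeparable]
  refine ⟨fun h ↦ ⟨?_, h⟩, fun h ↦ h.2⟩
  exact finite_of_essFiniteType_of_isAlgebraic K L

variable {X Y : Scheme.{u}}

/-- A nonempty open subset of an irreducible scheme contains the generic point. -/
theorem genericPoint_mem_of_nonempty [IrreducibleSpace X] (U : X.Opens)
    (hU : (U : Set X).Nonempty) : genericPoint X ∈ U := by
  exact ((genericPoint_spec X).mem_open_set_iff U.2).mpr (by simpa using hU)

section

variable [IsIntegral X] [IsIntegral Y] (f : X ⟶ Y) (e : f (genericPoint X) = genericPoint Y)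

/-- The function field extension map. -/
noncomputable def ffMap : Y.functionField ⟶ X.functionField :=
  Y.presheaf.stalkSpecializes (specializes_of_eq e) ≫ f.stalkMap (genericPoint X)

theorem isIso_stalkSpecializes : IsIso (Y.presheaf.stalkSpecializes (specializes_of_eq e)) := by
  have : Y.presheaf.stalkSpecializes (specializes_of_eq e) =
      (Y.presheaf.stalkCongr (Inseparable.of_eq e.symm)).hom := rfl
  rw [this]
  infer_instance

theorem ffMap_formallyUnramified_iff :
    (ffMap f e).hom.FormallyUnramified ↔ (f.stalkMap (genericPoint X)).hom.FormallyUnramified :=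
  have := isIso_stalkSpecializes f e
  RingHom.FormallyUnramified.respectsIso.cancel_left_isIso
    (Y.presheaf.stalkSpecializes (specializes_of_eq e)) (f.stalkMap (genericPoint X))

theorem ffMap_flat_iff :
    (ffMap f e).hom.Flat ↔ (f.stalkMap (genericPoint X)).hom.Flat :=
  have := isIso_stalkSpecializes f e
  RingHom.Flat.respectsIso.cancel_left_isIso
    (Y.presheaf.stalkSpecializes (specializes_of_eq e)) (f.stalkMap (genericPoint X))

theorem ffMap_flat : (ffMap f e).hom.Flat := by
  algebraize [(ffMap f e).hom]
  change Module.Flat Y.functionField X.functionField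
  infer_instance

theorem ffMap_essFiniteType [LocallyOfFiniteType f] : (ffMap f e).hom.EssFiniteType :=
  have := isIso_stalkSpecializes f e
  (RingHom.EssFiniteType.respectsIso.cancel_left_isIso
    (Y.presheaf.stalkSpecializes (specializes_of_eq e)) (f.stalkMap (genericPoint X))).mpr
    (LocallyOfFiniteType.stalkMap f (genericPoint X))

/-- Main theorem. -/
theorem main [LocallyOfFinitePresentation f] :
    letI := (ffMap f e).hom.toAlgebra
    ((∃ U : X.Opens, (U : Set X).Nonempty ∧ FormallyUnramified (U.ι ≫ f)) ↔
      (∃ U : X.Opens, (U : Set X).Nonempty ∧ Etale (U.ι ≫ f))) ∧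
    ((∃ U : X.Opens, (U : Set X).Nonempty ∧ Etale (U.ι ≫ f)) ↔
      (FiniteDimensional Y.functionField X.functionField ∧
        Algebra.IsSeparable Y.functionField X.functionField)) ∧
    ((∃ U : X.Opens, (U : Set X).Nonempty ∧ Etale (U.ι ≫ f)) ↔
        Algebra.IsSeparable Y.functionField X.functionField) := by
  let _ := (ffMap f e).hom.toAlgebra
  have hess : Algebra.EssFiniteType Y.functionField X.functionField := ffMap_essFiniteType f e
  -- unramified nbhd of the generic point iff function field map formally unramified
  have h1 : (∃ U : X.Opens, (U : Set X).Nonempty ∧ FormallyUnramified (U.ι ≫ f)) ↔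
      (ffMap f e).hom.FormallyUnramified := by
    rw [ffMap_formallyUnramified_iff]
    constructor
    · rintro ⟨U, hU, hUf⟩
      exact Groth.Agent.Lib.UnramDescend45.stalkMap_formallyUnramified_of_nhd f _ U
        (genericPoint_mem_of_nonempty U hU)
    · intro H
      obtain ⟨V, hxV, hV⟩ :=
        Groth.Agent.Lib.UnramDescend45.exists_nhd_formallyUnramified_of_stalk f _ H
      exact ⟨V, ⟨_, hxV⟩, hV⟩
  have h2 : (∃ U : X.Opens, (U : Set X).Nonempty ∧ Etale (U.ι ≫ f)) ↔
      (ffMap f e).hom.FormallyUnramified := by
    constructor
    · rintro ⟨U, hU, hUf⟩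
      exact h1.mp ⟨U, hU, inferInstance⟩
    · intro H
      obtain ⟨V, hxV, hV⟩ := Groth.Agent.Lib.EtaleDescend45.exists_nhd_etale_of_stalk f
        (genericPoint X) ((ffMap_flat_iff f e).mp (ffMap_flat f e))
        ((ffMap_formallyUnramified_iff f e).mp H)
      exact ⟨V, ⟨_, hxV⟩, hV⟩
  have h3 : (ffMap f e).hom.FormallyUnramified ↔
      Algebra.FormallyUnramified Y.functionField X.functionField := Iff.rfl
  refine ⟨h1.trans h2.symm, h2.trans (h3.trans (field_formallyUnramified_iff _ _)),
    h2.trans (h3.trans (Algebra.FormallyUnramified.iff_isSeparable _ _))⟩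

end

end Groth.Agent.Lib.GenericEtale45
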