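import Mathlib
import Groth.Agent.Lib.GenericEtale45

/-!
# Generic smoothness on the source over a perfect function field

For a dominant morphism `f : X ⟶ Y` of integral schemes, locally of finite presentation, such that
the function field of `Y` is perfect (e.g. of characteristic zero), `f` is smooth on a nonempty open
subset of `X`.
-/

namespace Groth.Agent.Lib.GenericSmooth45

open AlgebraicGeometry CategoryTheory Groth.Agent.Lib.GenericEtale45

universe u

variable {X Y : Scheme.{u}}

/-- A dominant morphism of irreducible schemes maps the generic point to the generic point. -/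
theorem map_genericPoint_of_denseRange [IrreducibleSpace X] [IrreducibleSpace Y] (f : X ⟶ Y)
    (hdom : DenseRange f.base) : f (genericPoint X) = genericPoint Y := by
  have h := (genericPoint_spec X).image f.continuous
  rw [Set.image_univ, hdom.closure_range] at h
  exact h.eq (genericPoint_spec Y)

variable [IsIntegral X] [IsIntegral Y] (f : X ⟶ Y) (e : f (genericPoint X) = genericPoint Y)

theorem ffMap_formallySmooth_iff :
    (ffMap f e).hom.FormallySmooth ↔ (f.stalkMap (genericPoint X)).hom.FormallySmooth :=
  have := isIso_stalkSpecializes f e
  RingHom.FormallySmooth.respectsIso.cancel_left_isIso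
    (Y.presheaf.stalkSpecializes (specializes_of_eq e)) (f.stalkMap (genericPoint X))

omit [IsIntegral X] [IsIntegral Y] in
/-- The open subscheme `f.smoothLocus` is smooth over the base. -/
theorem smooth_smoothLocus_ι_comp [LocallyOfFinitePresentation f] :
    Smooth (f.smoothLocus.ι ≫ f) := by
  rw [← Scheme.Hom.smoothLocus_eq_top_iff, ← Scheme.Hom.preimage_smoothLocus_eq]
  rw [← top_le_iff]
  rintro y -
  exact y.2

include e in
theorem genericPoint_mem_smoothLocus_of_perfectField [LocallyOfFinitePresentation f]
    [PerfectField Y.functionField] : genericPoint X ∈ f.smoothLocus := by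
  rw [Scheme.Hom.mem_smoothLocus, ← ffMap_formallySmooth_iff f e]
  have hess := ffMap_essFiniteType f e
  algebraize [(ffMap f e).hom]
  exact Algebra.FormallySmooth.of_perfectField

include e in
/-- Generic smoothness on the source. -/
theorem exists_open_smooth_of_perfectField [LocallyOfFinitePresentation f]
    [PerfectField Y.functionField] :
    ∃ U : X.Opens, (U : Set X).Nonempty ∧ Smooth (U.ι ≫ f) :=
  ⟨f.smoothLocus, ⟨_, genericPoint_mem_smoothLocus_of_perfectField f e⟩,
    smooth_smoothLocus_ι_comp f⟩

end Groth.Agent.Lib.GenericSmooth45
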