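import Groth.Agent.Lib.H71GeomRedAt2
import Mathlib.RingTheory.Ideal.MinimalPrime.Basic
import Mathlib.LinearAlgebra.TensorProduct.Basis

/-!
# Geometric reducedness from the minimal primes (helper71)

* `isGeometricallyReduced_of_minimalPrimes`: a reduced `k`-algebra `A` such that every minimal prime `p` admits a
  `k`-algebra map `ψ : A → B` to a geometrically reduced `k`-algebra with `ker ψ ≤ p` is geometrically reduced.
-/

set_option autoImplicit false
universe u v

open TensorProduct

namespace Groth.Agent.Lib.H71GeomRedAt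

section Algebra

variable (k : Type u) [Field k] (A : Type v) [CommRing A] [Algebra k A]

theorem isGeometricallyReduced_of_minimalPrimes [IsReduced A]
    (h : ∀ p ∈ minimalPrimes A, ∃ (B : Type v) (_ : CommRing B) (_ : Algebra k B)
      (_ : Algebra.IsGeometricallyReduced k B) (ψ : A →ₐ[k] B), RingHom.ker ψ ≤ p) :
    Algebra.IsGeometricallyReduced k A := by
  rw [Algebra.isGeometricallyReduced_field_iff]
  refine ⟨fun z hz => ?_⟩
  let ℬ := Module.Basis.ofVectorSpace k (AlgebraicClosure k)
  obtain ⟨c, rfl⟩ := TensorProduct.eq_repr_basis_left ℬ z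
  suffices hc : c = 0 by rw [hc]; simp
  ext i
  rw [Finsupp.zero_apply]
  have hmem : c i ∈ nilradical A := by
    rw [nilradical, ← Ideal.sInf_minimalPrimes, Ideal.mem_sInf]
    intro p hp
    obtain ⟨B, _, _, _, ψ, hψ⟩ := h p hp
    apply hψ
    rw [RingHom.mem_ker]
    have hred : IsReduced (AlgebraicClosure k ⊗[k] B) :=
      (Algebra.isGeometricallyReduced_field_iff k B).1 inferInstance
    have hz' : IsNilpotent (Algebra.TensorProduct.map (AlgHom.id k (AlgebraicClosure k)) ψ
        (c.sum fun i n => ℬ i ⊗ₜ[k] n)) := hz.map _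
    have hz0 := hred.eq_zero _ hz'
    rw [Finsupp.sum, map_sum] at hz0
    have hz1 : ((c.mapRange ψ (map_zero ψ)).sum fun i n => ℬ i ⊗ₜ[k] n) = 0 := by
      rw [Finsupp.sum_mapRange_index (fun i => by simp)]
      rw [Finsupp.sum]
      simpa using hz0
    have := TensorProduct.sum_tmul_basis_left_eq_zero ℬ _ hz1
    have h2 := DFunLike.congr_fun this i
    simpa using h2
  rw [nilradical_eq_zero] at hmem
  exact hmem

end Algebra

section Geometry

open CategoryTheory CategoryTheory.Limits AlgebraicGeometry

variable {X : Scheme.{u}}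

/-- The kernel of `𝒪_{X,x} → 𝒪_{X,η}` for `η = j(p)` (`j : Spec 𝒪_{X,x} ⟶ X`) is contained in `p`. -/
theorem ker_stalkSpecializes_le (x : X) (p : ↥(Spec (X.presheaf.stalk x)))
    (hsp : X.fromSpecStalk x p ⤳ x) :
    RingHom.ker (X.presheaf.stalkSpecializes hsp).hom ≤ p.asIdeal := by
  have h1 := Scheme.SpecMap_stalkSpecializes_fromSpecStalk hsp
  have h2 : X.fromSpecStalk x (Spec.map (X.presheaf.stalkSpecializes hsp)
      (IsLocalRing.closedPoint (X.presheaf.stalk (X.fromSpecStalk x p)))) = X.fromSpecStalk x p := by
    rw [← Scheme.Hom.comp_apply, h1, Scheme.fromSpecStalk_closedPoint]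
  have h3 := (X.fromSpecStalk x).isEmbedding.injective h2
  intro a ha
  rw [RingHom.mem_ker] at ha
  rw [← h3]
  change (X.presheaf.stalkSpecializes hsp).hom a ∈
    IsLocalRing.maximalIdeal (X.presheaf.stalk (X.fromSpecStalk x p))
  rw [ha]
  exact Ideal.zero_mem _

/-- The image in `X` of a minimal prime of `𝒪_{X,x}` is the generic point of an irreducible component. -/
theorem closure_mem_irreducibleComponents (x : X) (p : ↥(Spec (X.presheaf.stalk x)))
    (hp : p.asIdeal ∈ minimalPrimes (X.presheaf.stalk x)) :
    closure {X.fromSpecStalk x p} ∈ irreducibleComponents X := by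
  set η := X.fromSpecStalk x p with hη
  have hηx : η ⤳ x := by
    have : η ∈ Set.range (X.fromSpecStalk x) := ⟨p, rfl⟩
    rwa [Scheme.range_fromSpecStalk] at this
  refine ⟨isIrreducible_singleton.closure, fun Z' hZ' hle => ?_⟩
  obtain ⟨η', hη'⟩ := QuasiSober.sober hZ'.closure isClosed_closure
  have h1 : η' ⤳ η := by
    rw [specializes_iff_mem_closure, hη'.def]
    exact subset_closure (hle (subset_closure rfl))
  have h2 : η' ∈ Set.range (X.fromSpecStalk x) := by
    rw [Scheme.range_fromSpecStalk]
    exact h1.trans hηx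
  obtain ⟨p', hp'⟩ := h2
  have h3 : p' ⤳ p := by
    rw [← (X.fromSpecStalk x).isEmbedding.toIsInducing.specializes_iff, hp']
    exact h1
  have h4 : p'.asIdeal ≤ p.asIdeal :=
    (PrimeSpectrum.le_iff_specializes (R := ↑(X.presheaf.stalk x)) p' p).2 h3
  have h5 : p.asIdeal ≤ p'.asIdeal := hp.2 ⟨p'.isPrime, bot_le⟩ h4
  have h6 : p' = p := PrimeSpectrum.ext (le_antisymm h4 h5)
  have h7 : η' = η := by rw [← hp', h6]
  calc Z' ≤ closure Z' := subset_closure
    _ = closure {η'} := hη'.def.symm
    _ = closure {η} := by rw [h7]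

section Field

variable (k : Type u) [Field k] (X : Scheme.{u}) [X.Over (Spec (CommRingCat.of k))]

attribute [local instance] Curv2.stalkAlgebra

/-- A reduced `k`-scheme which is geometrically reduced at the generic points of its irreducible components is
geometrically reduced. -/
theorem geometricallyReduced_of_generic_points [IsReduced X]
    (h : ∀ Z ∈ irreducibleComponents (X : Type u), ∀ η : X, IsGenericPoint η Z →
      Curv2.IsGeomReducedAt k X η) :
    GeometricallyReduced (X ↘ Spec (CommRingCat.of k)) := by
  apply geometricallyReduced_of_forall_isGeomReducedAt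
  intro x
  haveI : Algebra.IsGeometricallyReduced k (X.presheaf.stalk x) := by
    apply isGeometricallyReduced_of_minimalPrimes
    intro p hp
    haveI : p.IsPrime := hp.1.1
    let P : ↥(Spec (X.presheaf.stalk x)) := ⟨p, inferInstance⟩
    have hsp : X.fromSpecStalk x P ⤳ x := by
      have : X.fromSpecStalk x P ∈ Set.range (X.fromSpecStalk x) := ⟨P, rfl⟩
      rwa [Scheme.range_fromSpecStalk] at this
    have hcomp := closure_mem_irreducibleComponents x P hp
    have hgr := h _ hcomp (X.fromSpecStalk x P) rfl
    refine ⟨X.presheaf.stalk (X.fromSpecStalk x P), inferInstance, inferInstance,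
      isGeometricallyReduced_of_isGeomReducedAt k X _ hgr, ?_, ?_⟩
    · exact
        { (X.presheaf.stalkSpecializes hsp).hom with
          commutes' := fun c => by
            change (X.presheaf.stalkSpecializes hsp).hom ((X.presheaf.germ ⊤ x trivial).hom
              (Coh.toGlobal (X ↘ Spec (CommRingCat.of k)) c)) =
              (X.presheaf.germ ⊤ (X.fromSpecStalk x P) trivial).hom
                (Coh.toGlobal (X ↘ Spec (CommRingCat.of k)) c)
            rw [← CommRingCat.comp_apply, TopCat.Presheaf.germ_stalkSpecializes] }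
    · exact ker_stalkSpecializes_le x P hsp
  exact isGeomReducedAt_of_isGeometricallyReduced k X x

end Field

end Geometry

end Groth.Agent.Lib.H71GeomRedAt
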