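import Mathlib
import Groth.Prelude
import Groth.Agent.Lib.H71GeomRedAt3
import Groth.Agent.Lib.MacLane4H44
import Groth.Agent.Lib.GenericSmooth45

/-! # Generic smoothness of geometrically reduced schemes of finite type over a field (helper71)

Main results (`k` a field, `X` a `k`-scheme via `X.Over (Spec (.of k))`, `Curv2.stalkAlgebra` instance):
* `mem_smoothLocus_iff` : `x ∈ smoothLocus ↔ Algebra.FormallySmooth k 𝒪_{X,x}`.
* `mem_smoothLocus_of_maximal_point`, `dense_smoothLocus_of_forall`, `dense_smoothLocus`.
* `mem_of_dense_of_maximal_point` : maximal points of a locally Noetherian scheme lie in every dense open.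
* `geometricallyReduced_iff_exists_dense_smooth` (Stacks 056V).
-/

set_option autoImplicit false
universe u
open CategoryTheory CategoryTheory.Limits AlgebraicGeometry TensorProduct

namespace Groth.Agent.Lib.H71GenericSmooth

variable (k : Type u) [Field k] (X : Scheme.{u}) [X.Over (Spec (CommRingCat.of k))]

attribute [local instance] Curv2.stalkAlgebra

/-- The map `k → 𝒪_{Spec k, y}`. -/
noncomputable def toStalkSpec (y : ↥(Spec (CommRingCat.of k))) :
    CommRingCat.of k ⟶ (Spec (CommRingCat.of k)).presheaf.stalk y :=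
  (Scheme.ΓSpecIso (CommRingCat.of k)).inv ≫ (Spec (CommRingCat.of k)).presheaf.germ ⊤ y trivial

theorem toStalkSpec_eq (y : ↥(Spec (CommRingCat.of k))) :
    toStalkSpec k y = StructureSheaf.toStalk k y := by
  rw [toStalkSpec, Scheme.ΓSpecIso_inv]
  exact StructureSheaf.algebraMap_germ (R := k) ⊤ y trivial

instance isIso_toStalkSpec (y : ↥(Spec (CommRingCat.of k))) : IsIso (toStalkSpec k y) := by
  rw [toStalkSpec_eq]
  letI : Algebra k ((Spec.structureSheaf k).presheaf.stalk y) := StructureSheaf.stalkAlgebra k y
  haveI : IsLocalization.AtPrime ((Spec.structureSheaf k).presheaf.stalk y) y.asIdeal :=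
    StructureSheaf.IsLocalization.to_stalk k y
  let e : k ≃ₐ[k] ((Spec.structureSheaf k).presheaf.stalk y) :=
    IsLocalization.atUnits _ y.asIdeal.primeCompl
      (fun x hx ↦ by
        have : x ≠ 0 := fun h => hx (by rw [h]; exact zero_mem _)
        exact IsUnit.mk0 x this)
  rw [ConcreteCategory.isIso_iff_bijective]
  exact e.bijective

theorem stalkMap_eq (x : X) :
    CommRingCat.ofHom (Curv2.stalkMap k X x) =
      toStalkSpec k ((X ↘ Spec (CommRingCat.of k)) x) ≫
        (X ↘ Spec (CommRingCat.of k)).stalkMap x := by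
  rw [toStalkSpec, Category.assoc, Scheme.Hom.germ_stalkMap]
  rfl

end Groth.Agent.Lib.H71GenericSmooth

namespace Groth.Agent.Lib.H71GenericSmooth

variable (k : Type u) [Field k] (X : Scheme.{u}) [X.Over (Spec (CommRingCat.of k))]

attribute [local instance] Curv2.stalkAlgebra

theorem mem_smoothLocus_iff [LocallyOfFinitePresentation (X ↘ Spec (CommRingCat.of k))] (x : X) :
    x ∈ (X ↘ Spec (CommRingCat.of k)).smoothLocus ↔
      Algebra.FormallySmooth k (X.presheaf.stalk x) := by
  rw [Scheme.Hom.mem_smoothLocus]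
  have := RingHom.FormallySmooth.respectsIso.cancel_left_isIso
    (toStalkSpec k ((X ↘ Spec (CommRingCat.of k)) x)) ((X ↘ Spec (CommRingCat.of k)).stalkMap x)
  rw [← this, ← CommRingCat.hom_comp, ← stalkMap_eq]
  rfl

theorem mem_smoothLocus_of_isField [LocallyOfFinitePresentation (X ↘ Spec (CommRingCat.of k))]
    (x : X) (hF : IsField (X.presheaf.stalk x)) (h : Curv2.IsGeomReducedAt k X x) :
    x ∈ (X ↘ Spec (CommRingCat.of k)).smoothLocus := by
  rw [mem_smoothLocus_iff]
  have h1 := (Groth.Agent.Lib.H71GeomRedAt.isGeomReducedAt_iff k X x).mp h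
  letI : Field (X.presheaf.stalk x) := hF.toField
  exact (Groth.Agent.Lib.MacLane4H44.formallySmooth_iff_isGeometricallyReduced k
    (X.presheaf.stalk x)).mpr h1

end Groth.Agent.Lib.H71GenericSmooth

namespace Groth.Agent.Lib.H71GenericSmooth

variable (k : Type u) [Field k] (X : Scheme.{u}) [X.Over (Spec (CommRingCat.of k))]

attribute [local instance] Curv2.stalkAlgebra

/-- The local ring at a maximal point (no proper generizations) has a unique prime. -/
theorem subsingleton_primeSpectrum_stalk {X : Scheme.{u}} (η : X) (hη : ∀ y : X, y ⤳ η → y = η) :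
    Subsingleton (PrimeSpectrum (X.presheaf.stalk η)) := by
  refine ⟨fun p q => ?_⟩
  have hinj : Function.Injective (X.fromSpecStalk η) :=
    (X.fromSpecStalk η).isEmbedding.injective
  apply hinj
  have hp : X.fromSpecStalk η p ∈ Set.range (X.fromSpecStalk η) := ⟨p, rfl⟩
  have hq : X.fromSpecStalk η q ∈ Set.range (X.fromSpecStalk η) := ⟨q, rfl⟩
  rw [Scheme.range_fromSpecStalk] at hp hq
  rw [hη _ hp, hη _ hq]

theorem isField_stalk_of_maximal_point {X : Scheme.{u}} (η : X) (hη : ∀ y : X, y ⤳ η → y = η)
    [_root_.IsReduced (X.presheaf.stalk η)] : IsField (X.presheaf.stalk η) := by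
  haveI := subsingleton_primeSpectrum_stalk η hη
  haveI : Ring.KrullDimLE 0 (X.presheaf.stalk η) := by
    rw [Ring.krullDimLE_zero_iff]
    intro I hI
    have : (⟨I, hI⟩ : PrimeSpectrum (X.presheaf.stalk η)) = IsLocalRing.closedPoint _ :=
      Subsingleton.elim _ _
    have h2 : I = IsLocalRing.maximalIdeal _ := congrArg PrimeSpectrum.asIdeal this
    rw [h2]
    infer_instance
  exact Ring.KrullDimLE.isField_of_isReduced

end Groth.Agent.Lib.H71GenericSmooth

namespace Groth.Agent.Lib.H71GenericSmooth

variable (k : Type u) [Field k] (X : Scheme.{u}) [X.Over (Spec (CommRingCat.of k))]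

attribute [local instance] Curv2.stalkAlgebra

theorem mem_smoothLocus_of_maximal_point
    [LocallyOfFinitePresentation (X ↘ Spec (CommRingCat.of k))]
    (η : X) (hη : ∀ y : X, y ⤳ η → y = η) (h : Curv2.IsGeomReducedAt k X η) :
    η ∈ (X ↘ Spec (CommRingCat.of k)).smoothLocus := by
  have h1 := (Groth.Agent.Lib.H71GeomRedAt.isGeomReducedAt_iff k X η).mp h
  haveI : _root_.IsReduced (X.presheaf.stalk η) := Algebra.isReduced_of_isGeometricallyReduced k
  exact mem_smoothLocus_of_isField k X η (isField_stalk_of_maximal_point η hη) h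

/-- Every point is a specialization of a maximal point. -/
theorem exists_maximal_point_specializes {X : Scheme.{u}} (x : X) :
    ∃ η : X, (∀ y : X, y ⤳ η → y = η) ∧ η ⤳ x := by
  obtain ⟨η, hη⟩ := QuasiSober.sober (isIrreducible_irreducibleComponent (x := x))
    isClosed_irreducibleComponent
  refine ⟨η, fun y hy => ?_, ?_⟩
  · have h1 : irreducibleComponent x ⊆ closure {y} := by
      rw [← hη.def]
      exact closure_minimal (Set.singleton_subset_iff.mpr hy.mem_closure) isClosed_closure
    have h3 : closure {y} = irreducibleComponent x := by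
      have hmax := irreducibleComponent_mem_irreducibleComponents x
      exact hmax.eq_of_ge (isIrreducible_singleton.closure) h1
    have hy' : IsGenericPoint y (irreducibleComponent x) := h3
    exact hy'.eq hη
  · rw [specializes_iff_mem_closure, hη.def]
    exact mem_irreducibleComponent

theorem dense_smoothLocus_of_forall
    [LocallyOfFinitePresentation (X ↘ Spec (CommRingCat.of k))]
    (h : ∀ η : X, (∀ y : X, y ⤳ η → y = η) → Curv2.IsGeomReducedAt k X η) :
    Dense ((X ↘ Spec (CommRingCat.of k)).smoothLocus : Set X) := by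
  rw [dense_iff_closure_eq, Set.eq_univ_iff_forall]
  intro x
  obtain ⟨η, hη, hsp⟩ := exists_maximal_point_specializes x
  exact hsp.mem_closed isClosed_closure
    (subset_closure (mem_smoothLocus_of_maximal_point k X η hη (h η hη)))

theorem dense_smoothLocus
    [LocallyOfFinitePresentation (X ↘ Spec (CommRingCat.of k))]
    [GeometricallyReduced (X ↘ Spec (CommRingCat.of k))] :
    Dense ((X ↘ Spec (CommRingCat.of k)).smoothLocus : Set X) :=
  dense_smoothLocus_of_forall k X fun η _ =>
    Groth.Agent.Lib.H71GeomRedAt.isGeomReducedAt_of_geometricallyReduced k X η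

end Groth.Agent.Lib.H71GenericSmooth

namespace Groth.Agent.Lib.H71GenericSmooth

variable (k : Type u) [Field k] (X : Scheme.{u}) [X.Over (Spec (CommRingCat.of k))]

attribute [local instance] Curv2.stalkAlgebra

/-- In a Noetherian scheme, maximal points lie in every dense open. -/
theorem mem_of_dense_of_maximal_point_of_isNoetherian {V : Scheme.{u}} [IsNoetherian V]
    (U : Set V) (hUo : IsOpen U) (hU : Dense U) (η : V) (hη : ∀ y : V, y ⤳ η → y = η) : η ∈ U := by
  have hcomp : closure {η} ∈ irreducibleComponents V := by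
    obtain ⟨ξ, hξ⟩ := QuasiSober.sober (isIrreducible_irreducibleComponent (x := η))
      isClosed_irreducibleComponent
    have h1 : ξ ⤳ η := by
      rw [specializes_iff_mem_closure, hξ.def]
      exact mem_irreducibleComponent
    rw [← hη ξ h1, hξ.def]
    exact irreducibleComponent_mem_irreducibleComponents η
  obtain ⟨o, ho, hne, hoZ⟩ :=
    TopologicalSpace.NoetherianSpace.exists_isOpen_nonempty_subset_irreducibleComponent _ hcomp
  obtain ⟨y, hyo, hyU⟩ := hU.inter_open_nonempty o ho hne
  have hsp : η ⤳ y := specializes_iff_mem_closure.mpr (hoZ hyo)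
  exact hsp.mem_open hUo hyU

/-- In a locally Noetherian scheme, maximal points lie in every dense open. -/
theorem mem_of_dense_of_maximal_point {X : Scheme.{u}} [IsLocallyNoetherian X]
    (U : Set X) (hUo : IsOpen U) (hU : Dense U) (η : X) (hη : ∀ y : X, y ⤳ η → y = η) : η ∈ U := by
  obtain ⟨_, ⟨V : X.Opens, hV, rfl⟩, hηV, -⟩ :=
    X.isBasis_affineOpens.exists_subset_of_mem_open (Set.mem_univ η) isOpen_univ
  haveI : IsAffine V := hV
  haveI : IsNoetherian V := {}
  let η' : V := ⟨η, hηV⟩
  have h1 : η' ∈ V.ι ⁻¹' U := by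
    apply mem_of_dense_of_maximal_point_of_isNoetherian (V.ι ⁻¹' U)
      (hUo.preimage V.ι.continuous) (hU.preimage V.ι.isOpenEmbedding.isOpenMap) η'
    intro y hy
    have := hη (V.ι y) (hy.map V.ι.continuous)
    exact V.ι.isOpenEmbedding.injective this
  exact h1

end Groth.Agent.Lib.H71GenericSmooth

namespace Groth.Agent.Lib.H71GenericSmooth

variable (k : Type u) [Field k] (X : Scheme.{u}) [X.Over (Spec (CommRingCat.of k))]

attribute [local instance] Curv2.stalkAlgebra

/-- A maximal point in the smooth locus of a `k`-scheme is a point where `X` is geometrically reduced. -/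
theorem isGeomReducedAt_of_mem_smoothLocus
    [LocallyOfFinitePresentation (X ↘ Spec (CommRingCat.of k))]
    (η : X) (hη : ∀ y : X, y ⤳ η → y = η) [_root_.IsReduced (X.presheaf.stalk η)]
    (h : η ∈ (X ↘ Spec (CommRingCat.of k)).smoothLocus) : Curv2.IsGeomReducedAt k X η := by
  rw [Groth.Agent.Lib.H71GeomRedAt.isGeomReducedAt_iff]
  rw [mem_smoothLocus_iff] at h
  letI : Field (X.presheaf.stalk η) := (isField_stalk_of_maximal_point η hη).toField
  exact (Groth.Agent.Lib.MacLane4H44.formallySmooth_iff_isGeometricallyReduced k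
    (X.presheaf.stalk η)).mp h

theorem le_smoothLocus_of_smooth {X Y : Scheme.{u}} (f : X ⟶ Y) [LocallyOfFinitePresentation f]
    (U : X.Opens) [Smooth (U.ι ≫ f)] : U ≤ f.smoothLocus := by
  intro x hx
  have h1 : (U.ι ≫ f).smoothLocus = ⊤ := Scheme.Hom.smoothLocus_eq_top _
  rw [← Scheme.Hom.preimage_smoothLocus_eq] at h1
  have h2 : (⟨x, hx⟩ : U) ∈ U.ι ⁻¹ᵁ f.smoothLocus := by rw [h1]; trivial
  exact h2

/-- **Generic smoothness** (Stacks 056V): a reduced scheme locally of finite type over a field is geometrically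
reduced iff it has a dense open subscheme smooth over the field. -/
theorem geometricallyReduced_iff_exists_dense_smooth [IsReduced X]
    [LocallyOfFiniteType (X ↘ Spec (CommRingCat.of k))] :
    GeometricallyReduced (X ↘ Spec (CommRingCat.of k)) ↔
      ∃ U : X.Opens, Dense (U : Set X) ∧ Smooth (U.ι ≫ (X ↘ Spec (CommRingCat.of k))) := by
  haveI : IsLocallyNoetherian X :=
    LocallyOfFiniteType.isLocallyNoetherian (X ↘ Spec (CommRingCat.of k))
  constructor
  · intro h
    exact ⟨(X ↘ Spec (CommRingCat.of k)).smoothLocus, dense_smoothLocus k X,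
      Groth.Agent.Lib.GenericSmooth45.smooth_smoothLocus_ι_comp _⟩
  · rintro ⟨U, hUd, hUs⟩
    apply Groth.Agent.Lib.H71GeomRedAt.geometricallyReduced_of_generic_points
    intro Z hZ η hηZ
    have hη : ∀ y : X, y ⤳ η → y = η := by
      intro y hy
      have h1 : Z ⊆ closure {y} := by
        rw [← hηZ.def]
        exact closure_minimal (Set.singleton_subset_iff.mpr hy.mem_closure) isClosed_closure
      have h3 : closure {y} = Z := hZ.eq_of_ge (isIrreducible_singleton.closure) h1
      have hy' : IsGenericPoint y Z := h3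
      exact hy'.eq hηZ
    have hηU : η ∈ (U : Set X) := mem_of_dense_of_maximal_point _ U.2 hUd η hη
    exact isGeomReducedAt_of_mem_smoothLocus k X η hη (le_smoothLocus_of_smooth _ U hηU)

end Groth.Agent.Lib.H71GenericSmooth
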