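import Groth.Agent.Lib.CurvePoint54
import Groth.Agent.Lib.H71GenericSmooth

/-!
# Regular closed points are dense on integral proper curves over an algebraically closed field (helper54; K6)

Namespace `Groth.Agent.Lib.CurvePoint54` (continued).

* `isInvertible_idealMod_point'`: the ideal sheaf of a closed point whose local ring is a PID is invertible.
* `isGeometricallyReduced_of_isAlgClosed`; **`goodPoints_of_isAlgClosed`**: `GoodPoints X` for an integral proper curve over an
  algebraically closed field (generic smoothness via helper71's `H71GenericSmooth`), so that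
  `exists_invertible_h0_one_h1_zero` gives S1523.
-/

set_option autoImplicit false
universe u
open CategoryTheory CategoryTheory.Limits AlgebraicGeometry Opposite TopologicalSpace

namespace Groth.Agent.Lib.CurvePoint54

open Groth.Agent.Lib.OXModTensor Groth.Agent.Lib.TwistEquiv Groth.Agent.Lib.CohLES CohB1
open Groth.Agent.Lib.H90Invertible Groth.Agent.Lib.CurveVB67 Groth.Agent.Lib.IdealMod
open Groth.Agent.Lib.StructureModule Groth.Agent.Lib.H78SecCoord Groth.Agent.Lib.InvMap54
open Groth.Agent.Lib.ModStalkLin

section Ideal2

variable (k : Type u) [Field k] (X : Scheme.{u}) [X.Over (Spec (CommRingCat.of k))]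
  [IsIntegral X] [IsProper (X ↘ Spec (CommRingCat.of k))] (hdim : topologicalKrullDim X = 1)
  (p : X) (hp : IsClosed ({p} : Set X)) (hpid : IsPrincipalIdealRing (X.presheaf.stalk p))

include k hdim hpid in
/-- the ideal sheaf of a closed point whose local ring is a PID is invertible (no hypothesis at the other points) -/
theorem isInvertible_idealMod_point' :
    PicF.IsInvertible (ClSub.idealMod (Scheme.IdealSheafData.vanishingIdeal (⟨{p}, hp⟩ : Closeds X))) := by
  set I := Scheme.IdealSheafData.vanishingIdeal (⟨{p}, hp⟩ : Closeds X) with hI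
  have : IsLocallyNoetherian X :=
    LocallyOfFiniteType.isLocallyNoetherian (X ↘ Spec (CommRingCat.of k))
  have hIc : Coh.IsCoh (ClSub.idealMod I) := Groth.Agent.Lib.CurveIdeal54.isCoh_idealMod k X I
  have hQc : Coh.IsCoh (ClSub.quotMod I) := Groth.Agent.Lib.CurveIdeal54.isCoh_quotMod k X I
  have hO1 : FlatMod.IsFinLocFreeOfRank 1 (Coh.structureModule X) :=
    (isInvertible_iff_isFinLocFreeOfRank_one _).mp (isInvertible_structureModule X)
  have hS := idealMod_shortExact I
  have hmono : Mono (ClSub.idealModι I) := hS.mono_f
  have hsub : CohB1.support (ClSub.quotMod I) ⊆ ({p} : Set X) := by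
    refine (Groth.Agent.Lib.CurveIdeal54.support_quotMod_subset X I).trans ?_
    rw [hI, Scheme.IdealSheafData.coe_support_vanishingIdeal]
    rfl
  have hfree : ∀ x : X, Module.Free (X.presheaf.stalk x) ((ClSub.idealMod I).presheaf.stalk x) := by
    intro x
    by_cases hx : x = p
    · subst hx
      have htf := tf_of_mono (ClSub.idealModι I) (tf_of_isFinLocFree (isFinLocFree_of_rank hO1)) x
      have hfin := Groth.Agent.Lib.CohFinite.finite_stalk_of_isCoh _ hIc x
      infer_instance
    · have hxs : x ∉ CohB1.support (ClSub.quotMod I) := fun h => hx (hsub h)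
      have hss : Subsingleton ((ClSub.quotMod I).presheaf.stalk x) := not_not.mp hxs
      obtain ⟨hinj, hex, -⟩ := stalkLin_exact hS x
      have hsurj : Function.Surjective (stalkLin (ClSub.idealModι I) x) := by
        intro y
        exact (hex y).mp (Subsingleton.elim _ _)
      have hOfree : Module.Free (X.presheaf.stalk x) ((Coh.structureModule X).presheaf.stalk x) :=
        Groth.Agent.Lib.LocFreeFP.free_stalk_of_isFinLocFree (isFinLocFree_of_rank hO1) x
      have e : (ClSub.idealMod I).presheaf.stalk x ≃ₗ[X.presheaf.stalk x]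
          (Coh.structureModule X).presheaf.stalk x :=
        LinearEquiv.ofBijective (stalkLin (ClSub.idealModι I) x) ⟨hinj, hsurj⟩
      exact Module.Free.of_equiv e.symm
  have hlf : FlatMod.IsFinLocFree (ClSub.idealMod I) :=
    Groth.Agent.Lib.LocFreeFP.isFinLocFree_of_isFP_of_free _ (isFP_of_isCoh hIc) hfree
  have hfree' := isFinLocFreeOfRank_rk hlf
  have hadd := rk_add _ hS hIc hQc
  have hZ : topologicalKrullDim (I.support : Set X) ≤ 0 := by
    rw [hI, Scheme.IdealSheafData.coe_support_vanishingIdeal]
    change topologicalKrullDim (({p} : Set X)) ≤ 0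
    exact topologicalKrullDim_zero_of_discreteTopology _
  have hsupp : topologicalKrullDim (CohB1.support (ClSub.quotMod I)) ≤ 0 :=
    (Groth.Agent.Lib.IntNumAlg13.topologicalKrullDim_mono
      (Groth.Agent.Lib.CurveIdeal54.support_quotMod_subset X I)).trans hZ
  have hq0 : rk (ClSub.quotMod I) = 0 :=
    rk_eq_zero_of_dim_support_lt hdim hQc (lt_of_le_of_lt hsupp (by norm_num))
  have h1 : 1 = rk (Coh.structureModule X) := eq_rk_of_isFinLocFreeOfRank hO1
  have hrk : rk (ClSub.idealMod I) = 1 := by
    change rk (Coh.structureModule X) = rk (ClSub.idealMod I) + rk (ClSub.quotMod I) at hadd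
    omega
  rw [hrk] at hfree'
  exact (isInvertible_iff_isFinLocFreeOfRank_one _).mpr hfree'

end Ideal2

section Good

/-- over an algebraically closed field, reduced algebras are geometrically reduced -/
theorem isGeometricallyReduced_of_isAlgClosed (k A : Type*) [Field k] [IsAlgClosed k] [CommRing A] [Algebra k A]
    [_root_.IsReduced A] : Algebra.IsGeometricallyReduced k A := by
  rw [Algebra.isGeometricallyReduced_field_iff]
  let e₀ : k ≃ₐ[k] AlgebraicClosure k :=
    AlgEquiv.ofBijective (Algebra.ofId k _) IsAlgClosed.algebraMap_bijective_of_isIntegral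
  let e : TensorProduct k (AlgebraicClosure k) A ≃ₐ[k] A :=
    (Algebra.TensorProduct.congr e₀.symm AlgEquiv.refl).trans (Algebra.TensorProduct.lid k A)
  exact isReduced_of_injective e.toRingEquiv.toRingHom e.injective

attribute [local instance] Curv2.stalkAlgebra

variable (k : Type u) [Field k] [IsAlgClosed k] (X : Scheme.{u}) [X.Over (Spec (CommRingCat.of k))]
  [IsIntegral X] [IsProper (X ↘ Spec (CommRingCat.of k))] (hdim : topologicalKrullDim X = 1)

include k hdim in
/-- **regular closed points are dense** on an integral proper curve over an algebraically closed field -/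
theorem goodPoints_of_isAlgClosed : GoodPoints X := by
  have : IsLocallyNoetherian X :=
    LocallyOfFiniteType.isLocallyNoetherian (X ↘ Spec (CommRingCat.of k))
  have hdense : Dense ((X ↘ Spec (CommRingCat.of k)).smoothLocus : Set X) := by
    refine Groth.Agent.Lib.H71GenericSmooth.dense_smoothLocus_of_forall k X fun η _ => ?_
    rw [Groth.Agent.Lib.H71GeomRedAt.isGeomReducedAt_iff]
    exact isGeometricallyReduced_of_isAlgClosed k _
  intro U hU
  obtain ⟨y, hyU, hyW⟩ := hdense.inter_open_nonempty U U.isOpen hU
  obtain ⟨p, hpUW, hp⟩ := exists_isClosed_singleton_mem k X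
    (U ⊓ (X ↘ Spec (CommRingCat.of k)).smoothLocus) ⟨y, hyU, hyW⟩
  have hpid : IsPrincipalIdealRing (X.presheaf.stalk p) := by
    have := Groth.Agent.Lib.H14SmoothReg.essFiniteType_stalk k X p
    have : Algebra.FormallySmooth k (X.presheaf.stalk p) :=
      (Groth.Agent.Lib.H14SmoothReg.mem_smoothLocus_iff k X p).mp hpUW.2
    have := Groth.Agent.Lib.H14SmoothReg.isRegularLocalRing_of_formallySmooth k (X.presheaf.stalk p)
    exact Groth.Agent.Lib.RegularDimOne.isPrincipalIdealRing_of_regular_of_dim_le_one _
      ((Groth.Agent.Lib.RegularDimOne.dim_stalk_le X p).trans hdim.le)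
  exact ⟨p, hp, hpUW.1, isInvertible_idealMod_point' k X hdim p hp hpid⟩

end Good

end Groth.Agent.Lib.CurvePoint54
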