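import Groth.Agent.Lib.CurveDegGroup54
import Groth.Agent.Lib.H71SmoothSepPts

/-!
# Rational regular points over a separably closed field (helper54)

* `exists_sep_point_mem_smoothLocus`: a geometrically reduced nonempty scheme locally of finite type over a field `k`
  has a closed point in the smooth locus with finite separable residue field;
* `finrank_eq_one_of_isSepClosed`: a separable algebraic field extension of a separably closed field has degree one;
* `exists_rational_pid_point`: on a geometrically reduced integral curve over a separably closed field there is a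
  closed point with residue field `k` whose local ring is a principal ideal ring;
* `exists_invertible_deg_one_of_isSepClosed`: hence an invertible module of degree one.
-/

set_option autoImplicit false
set_option linter.style.haveILetI false
universe u
open CategoryTheory CategoryTheory.Limits AlgebraicGeometry TopologicalSpace

attribute [local instance] Curv2.resAlgebra Curv2.stalkAlgebra

namespace Groth.Agent.Lib.CurveRatPoint54

theorem finrank_eq_one_of_isSepClosed (k K : Type*) [Field k] [Field K] [Algebra k K] [IsSepClosed k]
    [Algebra.IsSeparable k K] : Module.finrank k K = 1 := by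
  rw [finrank_eq_one_iff_of_nonzero' (1 : K) one_ne_zero]
  intro w
  obtain ⟨c, hc⟩ := IsSepClosed.algebraMap_surjective k K w
  exact ⟨c, by rw [Algebra.smul_def, mul_one, hc]⟩

section Sep

variable (k : Type u) [Field k] (X : Scheme.{u}) [X.Over (Spec (CommRingCat.of k))]
  [LocallyOfFinitePresentation (X ↘ Spec (CommRingCat.of k))]
  [GeometricallyReduced (X ↘ Spec (CommRingCat.of k))]

/-- a closed point of the smooth locus with finite separable residue field -/
theorem exists_sep_point_mem_smoothLocus [Nonempty X] :
    ∃ x : X, x ∈ (X ↘ Spec (CommRingCat.of k)).smoothLocus ∧ IsClosed ({x} : Set X) ∧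
      FiniteDimensional k (X.residueField x) ∧ Algebra.IsSeparable k (X.residueField x) := by
  set f := X ↘ Spec (CommRingCat.of k) with hf
  set U := f.smoothLocus with hU
  have hdense : Dense (U : Set X) := Groth.Agent.Lib.H71GenericSmooth.dense_smoothLocus k X
  letI : U.toScheme.Over (Spec (CommRingCat.of k)) := ⟨U.ι ≫ f⟩
  have hsm : Smooth (U.ι ≫ f) := by
    rw [← Scheme.Hom.smoothLocus_eq_top_iff, ← Scheme.Hom.preimage_smoothLocus_eq]
    exact Scheme.Opens.ι_preimage_self U
  haveI : Smooth (U.toScheme ↘ Spec (CommRingCat.of k)) := hsm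
  obtain ⟨x₀, hx₀⟩ := hdense.nonempty
  obtain ⟨y, -, hy⟩ := (Groth.Agent.Lib.H71SmoothSepPts.dense_sep_points k U.toScheme).inter_open_nonempty
    Set.univ isOpen_univ ⟨⟨x₀, hx₀⟩, trivial⟩
  obtain ⟨-, hyfin, hysep⟩ := hy
  let L := U.toScheme.residueField y
  let g : Spec (CommRingCat.of L) ⟶ X := U.toScheme.fromSpecResidueField y ≫ U.ι
  have hg : g ≫ f = Spec.map (CommRingCat.ofHom (algebraMap k L)) := by
    rw [Category.assoc]
    exact Groth.Agent.S7596.fromSpecResidueField_comp k U.toScheme y
  have hgy : g (IsLocalRing.closedPoint L) = y.1 := by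
    change (U.toScheme.fromSpecResidueField y ≫ U.ι) (IsLocalRing.closedPoint L) = y.1
    rw [Scheme.Hom.comp_apply, Scheme.fromSpecResidueField_apply]
    rfl
  have hpt := Groth.Agent.Lib.H71SmoothSepPts.point_of_SpecMap k X L g hg
  rw [hgy] at hpt
  exact ⟨y.1, y.2, hpt⟩

end Sep

section Curve

variable (k : Type u) [Field k] [IsSepClosed k] (X : Scheme.{u}) [X.Over (Spec (CommRingCat.of k))]
  [IsIntegral X] [IsProper (X ↘ Spec (CommRingCat.of k))]
  [GeometricallyReduced (X ↘ Spec (CommRingCat.of k))] (hdim : topologicalKrullDim X = 1)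

include hdim in
/-- a rational closed point whose local ring is a principal ideal ring -/
theorem exists_rational_pid_point :
    ∃ x : X, IsClosed ({x} : Set X) ∧ Module.finrank k (X.residueField x) = 1 ∧
      IsPrincipalIdealRing (X.presheaf.stalk x) := by
  obtain ⟨x, hxsm, hxcl, hxfin, hxsep⟩ := exists_sep_point_mem_smoothLocus k X
  refine ⟨x, hxcl, finrank_eq_one_of_isSepClosed k _, ?_⟩
  have := Groth.Agent.Lib.H14SmoothReg.essFiniteType_stalk k X x
  have : Algebra.FormallySmooth k (X.presheaf.stalk x) :=
    (Groth.Agent.Lib.H14SmoothReg.mem_smoothLocus_iff k X x).mp hxsm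
  have := Groth.Agent.Lib.H14SmoothReg.isRegularLocalRing_of_formallySmooth k (X.presheaf.stalk x)
  exact Groth.Agent.Lib.RegularDimOne.isPrincipalIdealRing_of_regular_of_dim_le_one _
    ((Groth.Agent.Lib.RegularDimOne.dim_stalk_le X x).trans hdim.le)

include hdim in
/-- an invertible module of degree one -/
theorem exists_invertible_deg_one_of_isSepClosed :
    ∃ L : X.Modules, PicF.IsInvertible L ∧ Curv2.deg k X L 1 = 1 := by
  classical
  obtain ⟨x, hxcl, hx1, hpid⟩ := exists_rational_pid_point k X hdim
  refine Groth.Agent.Lib.CurveDegGroup54.exists_invertible_deg_one_of_gcd k X hdim {x}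
    (fun y hy => by rw [Finset.mem_singleton] at hy; subst hy; exact hxcl)
    (fun y hy => by rw [Finset.mem_singleton] at hy; subst hy; exact hpid) ?_
  rw [Finset.gcd_singleton, hx1]
  rfl

end Curve

end Groth.Agent.Lib.CurveRatPoint54
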