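import Groth.Agent.Lib.CurveExt54
import Groth.Agent.Lib.CurveMaxSub
import Groth.Agent.Lib.CurveVB67L
import Groth.Agent.Lib.CurvePoint54

/-!
# Normalized indecomposable rank two bundles on a curve (helper54)

Namespace `Groth.Agent.Lib.CurveRuled54`.

* `deg_bounds_of_normalized_indecomposable`: `2 - 2g ≤ deg E ≤ 2g` for a normalized rank two locally free module `E`
  which is not a direct sum of two invertible modules (no Serre duality needed).
-/

set_option autoImplicit false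
universe u
open CategoryTheory CategoryTheory.Limits AlgebraicGeometry Opposite TopologicalSpace

namespace Groth.Agent.Lib.CurveRuled54

open Groth.Agent.Lib.ProperFinHyp Groth.Agent.Lib.H90Invertible Groth.Agent.Lib.CohLES
open Groth.Agent.Lib.StructureModule Groth.Agent.Lib.OXModTensor CohB1
open Groth.Agent.Lib.TwistEquiv Groth.Agent.Lib.IntNumAlg13 Groth.Agent.Lib.EulerLE48

section Aux

lemma auxLow (D dN dL dQ dE : ℤ) (g : ℕ) (hD : D = dN + dL) (hN : dQ = -dN) (hE : dE = dL + dQ)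
    (hL0 : dL = 0) (hle : D ≤ 2 * (g : ℤ) - 2) : 2 - 2 * (g : ℤ) ≤ dE := by lia

lemma auxUp (a1 b1 a3 b3 : ℕ) (D1 D3 dL dQ dM dA dE : ℤ) (c g : ℕ)
    (hrr1 : (a1 : ℤ) - b1 = D1 + c - g) (hrr3 : (a3 : ℤ) - b3 = D3 + c - g) (hc : c = 1)
    (hD1 : D1 = dL + dM) (hD3 : D3 = dQ + dM) (hM : dM = -dA) (hA : dA = 1) (hL0 : dL = 0) (hE : dE = dL + dQ)
    (ha1 : a1 = 0) (hle : a3 ≤ b1) : dE ≤ 2 * (g : ℤ) := by lia

lemma auxNeg (D dL dM dA : ℤ) (h : 0 ≤ D) (hD1 : D = dL + dM) (hM : dM = -dA) (hA : dA = 1) (hL0 : dL = 0) :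
    False := by lia

lemma auxC (D : ℤ) (g : ℕ) (h : ¬ D ≤ 2 * (g : ℤ) - 2) : 2 * (g : ℤ) - 1 ≤ D := by lia

lemma auxM (dM dA : ℤ) (hM : dM = -dA) (hA : dA = 1) : dM < 0 := by lia

end Aux

variable (H : Hyp.{u}) (HS : SnapperHyp.{u}) (V : VanHyp.{u}) (k : Type u) [Field k] [IsAlgClosed k]
  (X : Scheme.{u}) [X.Over (Spec (CommRingCat.of k))] [IsIntegral X]
  [IsProper (X ↘ (Spec (CommRingCat.of k)))] (hdim : topologicalKrullDim X = 1)
  (hpid : ∀ x : X, IsPrincipalIdealRing (X.presheaf.stalk x))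

omit [IsAlgClosed k] in
include H HS V hdim hpid in
/-- a normalized rank two module contains a saturated invertible submodule of degree zero -/
theorem exists_saturated_deg_zero {E : X.Modules} (hE : FlatMod.IsFinLocFreeOfRank 2 E)
    (hn0 : Nontrivial (Coh.HH X E 0))
    (hneg : ∀ M : X.Modules, PicF.IsInvertible M → Curv2.deg k X M 1 < 0 →
      Subsingleton (Coh.HH X (CohB1.tensorMod E M) 0)) :
    ∃ (L : X.Modules) (g : L ⟶ E), Mono g ∧ PicF.IsInvertible L ∧ PicF.IsInvertible (cokernel g) ∧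
      Curv2.deg k X L 1 = 0 := by
  have hO := isInvertible_structureModule X
  obtain ⟨s, hs⟩ := Groth.Agent.Lib.CurveVB67.exists_hom_ne_zero_of_nontrivial_H0 X E
    (not_subsingleton_iff_nontrivial.mpr hn0)
  have hmono : Mono s := Groth.Agent.Lib.CurveMaxSub.mono_of_ne_zero k X hpid hO hE s hs
  obtain ⟨L, g, hg, hL, hQ, hdeg⟩ := Groth.Agent.Lib.CurveMaxSub.exists_saturated H k X hpid hdim hO hE s
  have hle : Curv2.deg k X L 1 ≤ 0 :=
    Groth.Agent.Lib.CurveVB67.deg_le_zero_of_mono_of_normalized HS V k X hdim.le hneg hL g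
  rw [Groth.Agent.Lib.DegCurve54b.deg_structureModule k X] at hdeg
  exact ⟨L, g, hg, hL, (isInvertible_iff_isFinLocFreeOfRank_one _).mpr hQ, le_antisymm hle hdeg⟩

omit [IsAlgClosed k] [IsIntegral X] in
include H k in
/-- `δ : H^0(X₃) → H^1(X₁)` is injective when `H^0(X₂) = 0`, whence `h^0(X₃) ≤ h^1(X₁)` -/
theorem finrank_H0_le_finrank_H1_of_subsingleton {S : ShortComplex X.Modules} (hS : S.ShortExact)
    (h₁ : Coh.IsCoh S.X₁) [Subsingleton (Coh.HH X S.X₂ 0)] :
    Module.finrank k (Coh.HH X S.X₃ 0) ≤ Module.finrank k (Coh.HH X S.X₁ 1) := by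
  have : IsLocallyNoetherian X :=
    LocallyOfFiniteType.isLocallyNoetherian (X ↘ (Spec (CommRingCat.of k)))
  have f₁ : Module.Finite k (Coh.HH X S.X₁ 1) := H k X _ h₁ 1
  have hinj : Function.Injective (δₗ k hS 0) := by
    rw [← LinearMap.ker_eq_bot, LinearMap.ker_eq_bot']
    intro x hx
    obtain ⟨y, hy⟩ := exact₃ hS 0 x hx
    rw [← hy, Subsingleton.elim y 0, map_zero]
  exact LinearMap.finrank_le_finrank_of_injective hinj

omit [IsAlgClosed k] [IsIntegral X] in
include H k in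
/-- unbundled form of `finrank_H0_le_finrank_H1_of_subsingleton` -/
theorem finrank_H0_le_finrank_H1_of_subsingleton' {A B C : X.Modules} (f : A ⟶ B) (g : B ⟶ C) (w : f ≫ g = 0)
    (hS : (ShortComplex.mk f g w).ShortExact) (h₁ : Coh.IsCoh A) (hB : Subsingleton (Coh.HH X B 0)) :
    Module.finrank k (Coh.HH X C 0) ≤ Module.finrank k (Coh.HH X A 1) :=
  @finrank_H0_le_finrank_H1_of_subsingleton H k _ X _ _ (ShortComplex.mk f g w) hS h₁ hB

include H HS V hdim hpid in
/-- bounds on the degree of the middle term of a non-split extension `0 → L → E → Q → 0` of invertible modules with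
`deg L = 0` and `E` normalized -/
theorem deg_bounds_of_ses (S : ShortComplex X.Modules) (hS : S.ShortExact)
    (hL : PicF.IsInvertible S.X₁) (hq : PicF.IsInvertible S.X₃) (hL0 : Curv2.deg k X S.X₁ 1 = 0)
    (hEd : Curv2.deg k X S.X₂ 2 = Curv2.deg k X S.X₁ 1 + Curv2.deg k X S.X₃ 1)
    (hns : ¬ IsSplitEpi S.g)
    (hneg : ∀ M : X.Modules, PicF.IsInvertible M → Curv2.deg k X M 1 < 0 →
      Subsingleton (Coh.HH X (CohB1.tensorMod S.X₂ M) 0)) :
    2 - 2 * (Curv2.genus k X : ℤ) ≤ Curv2.deg k X S.X₂ 2 ∧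
      Curv2.deg k X S.X₂ 2 ≤ 2 * (Curv2.genus k X : ℤ) := by
  have : IsLocallyNoetherian X :=
    LocallyOfFiniteType.isLocallyNoetherian (X ↘ (Spec (CommRingCat.of k)))
  have h0 := Groth.Agent.Lib.CurveH1Van54.finrank_H0_structure_eq_one H k X
  constructor
  · obtain ⟨N, hN, ⟨e₀⟩⟩ := Groth.Agent.Lib.H78Dual.exists_tensor_inverse hq
    have hnt : Nontrivial (Coh.HH X ((tensorLeftFunctor N).obj S.X₁) 1) :=
      Groth.Agent.Lib.CurveExt54.nontrivial_H1_of_not_isSplitEpi _ hS hns e₀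
    have hNL : PicF.IsInvertible ((tensorLeftFunctor N).obj S.X₁) :=
      Groth.Agent.Lib.H78TensorGen.isInvertible_tensorMod hN hL
    have hD : Curv2.deg k X ((tensorLeftFunctor N).obj S.X₁) 1 = Curv2.deg k X N 1 + Curv2.deg k X S.X₁ 1 :=
      Groth.Agent.Lib.DegTensor54.deg_tensorMod HS V k hdim.le hN hL
    have hM := Groth.Agent.Lib.DegTensor54.deg_eq_neg_of_iso HS V k hdim.le hN hq e₀
    have hle : Curv2.deg k X ((tensorLeftFunctor N).obj S.X₁) 1 ≤ 2 * (Curv2.genus k X : ℤ) - 2 := by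
      by_contra hcon
      have hsub := Groth.Agent.Lib.CurveH1Van54.subsingleton_H1_of_deg_ge H k X hdim.le hNL h0 (auxC _ _ hcon)
      exact not_subsingleton _ hsub
    exact auxLow _ _ _ _ _ _ hD hM hEd hL0 hle
  · obtain ⟨A, hA, hA1⟩ := Groth.Agent.Lib.CurvePoint54.exists_invertible_deg_one k X hdim.le
      (Groth.Agent.Lib.CurvePoint54.goodPoints_of_pid k X hdim hpid)
    obtain ⟨M, hM, ⟨e⟩⟩ := Groth.Agent.Lib.H78Dual.exists_tensor_inverse hA
    have hdA := Groth.Agent.Lib.DegTensor54.deg_eq_neg_of_iso HS V k hdim.le hM hA e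
    have hdM : Curv2.deg k X M 1 = - Curv2.deg k X A 1 := by rw [hdA, neg_neg]
    have hSM := shortExact_map_tensorRight e hS
    have hsub : Subsingleton (Coh.HH X ((tensorRightFunctor M).obj S.X₂) 0) := hneg M hM (auxM _ _ hdM hA1)
    have hLM : PicF.IsInvertible ((tensorRightFunctor M).obj S.X₁) :=
      Groth.Agent.Lib.H78TensorGen.isInvertible_tensorMod hL hM
    have hQM : PicF.IsInvertible ((tensorRightFunctor M).obj S.X₃) :=
      Groth.Agent.Lib.H78TensorGen.isInvertible_tensorMod hq hM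
    have hLMc : Coh.IsCoh ((tensorRightFunctor M).obj S.X₁) := isCoh_of_isInvertible hLM
    have hQMc : Coh.IsCoh ((tensorRightFunctor M).obj S.X₃) := isCoh_of_isInvertible hQM
    have i1 : ((tensorRightFunctor M).obj S.X₁).IsQuasicoherent := hLMc.1
    have i3 : ((tensorRightFunctor M).obj S.X₃).IsQuasicoherent := hQMc.1
    have hle : Module.finrank k (Coh.HH X ((tensorRightFunctor M).obj S.X₃) 0) ≤
        Module.finrank k (Coh.HH X ((tensorRightFunctor M).obj S.X₁) 1) :=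
      finrank_H0_le_finrank_H1_of_subsingleton' H k X ((tensorRightFunctor M).map S.f)
        ((tensorRightFunctor M).map S.g) _ hSM hLMc hsub
    have hD1 : Curv2.deg k X ((tensorRightFunctor M).obj S.X₁) 1 = Curv2.deg k X S.X₁ 1 + Curv2.deg k X M 1 :=
      Groth.Agent.Lib.DegTensor54.deg_tensorMod HS V k hdim.le hL hM
    have hD3 : Curv2.deg k X ((tensorRightFunctor M).obj S.X₃) 1 =
        Curv2.deg k X S.X₃ 1 + Curv2.deg k X M 1 :=
      Groth.Agent.Lib.DegTensor54.deg_tensorMod HS V k hdim.le hq hM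
    have hrr1 := Groth.Agent.Lib.RiemannRoch54.riemann_roch k X hdim.le ((tensorRightFunctor M).obj S.X₁)
    have hrr3 := Groth.Agent.Lib.RiemannRoch54.riemann_roch k X hdim.le ((tensorRightFunctor M).obj S.X₃)
    have ha1 : Module.finrank k (Coh.HH X ((tensorRightFunctor M).obj S.X₁) 0) = 0 := by
      by_contra hne
      obtain ⟨s, hs⟩ := Groth.Agent.Lib.RiemannRoch54.exists_section_ne_zero k X _ (Nat.pos_of_ne_zero hne)
      have hnn := Groth.Agent.Lib.DegCurve54b.deg_nonneg H k X hdim hLM s hs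
      exact auxNeg _ _ _ _ hnn hD1 hdM hA1 hL0
    exact auxUp _ _ _ _ _ _ _ _ _ _ _ _ _ hrr1 hrr3 h0 hD1 hD3 hdM hA1 hL0 hEd ha1 hle

include H HS V hdim hpid in
/-- **bounds on the degree** of a normalized rank two module which is not a sum of two invertible modules -/
theorem deg_bounds_of_normalized_indecomposable {E : X.Modules} (hE : FlatMod.IsFinLocFreeOfRank 2 E)
    (hn0 : Nontrivial (Coh.HH X E 0))
    (hneg : ∀ M : X.Modules, PicF.IsInvertible M → Curv2.deg k X M 1 < 0 →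
      Subsingleton (Coh.HH X (CohB1.tensorMod E M) 0))
    (hind : ∀ L₁ L₂ : X.Modules, PicF.IsInvertible L₁ → PicF.IsInvertible L₂ → IsEmpty (E ≅ L₁ ⊞ L₂)) :
    2 - 2 * (Curv2.genus k X : ℤ) ≤ Curv2.deg k X E 2 ∧ Curv2.deg k X E 2 ≤ 2 * (Curv2.genus k X : ℤ) := by
  obtain ⟨L, g, hg, hL, hq, hL0⟩ := exists_saturated_deg_zero H HS V k X hdim hpid hE hn0 hneg
  have hS : (ShortComplex.mk g (cokernel.π g) (cokernel.condition g)).ShortExact :=
    { exact := ShortComplex.exact_cokernel g }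
  have hEd := Groth.Agent.Lib.CurveVB54.deg_eq_add_cokernel H k X hE hL g hq
  have hns : ¬ IsSplitEpi (cokernel.π g) := by
    rintro ⟨⟨σ, hσ⟩⟩
    have spl : (ShortComplex.mk g (cokernel.π g) (cokernel.condition g)).Splitting :=
      ShortComplex.Splitting.ofExactOfSection _ hS.exact σ hσ hg
    exact (hind L (cokernel g) hL hq).false spl.isoBinaryBiproduct
  have key := deg_bounds_of_ses H HS V k X hdim hpid
    (ShortComplex.mk g (cokernel.π g) (cokernel.condition g)) hS
  have key1 := key hL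
  have key2 := key1 hq
  have key3 := key2 hL0
  have key4 := key3 hEd
  have key5 := key4 hns
  exact key5 hneg

end Groth.Agent.Lib.CurveRuled54
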