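import Groth.Agent.Lib.H90OXModPush
import Groth.Agent.Lib.H90OXModSections
import Groth.Agent.Lib.IdealMod

/-!
# Kernels of morphisms of quasi-coherent modules are quasi-coherent (any scheme)

* `app_res` : naturality of `φ.app` with respect to restriction.
* `isLocalizingOn_kernel` : the kernel of a morphism between modules which are localizing on `U`
  is localizing on `U`.
* `isQuasicoherent_kernel` : the kernel (in `X.Modules`) of a morphism of quasi-coherent modules
  on an arbitrary scheme is quasi-coherent.
-/

set_option autoImplicit false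
universe u

open CategoryTheory CategoryTheory.Limits AlgebraicGeometry TopologicalSpace Opposite
open AlgebraicGeometry.Scheme AlgebraicGeometry.Scheme.Modules

namespace Groth.Agent.Lib.QCohKernel13

open Groth.Agent.Lib.QCohStalk Groth.Agent.Lib.AssPush Groth.Agent.Lib.H90OXModSections

variable {X : Scheme.{u}}

/-- Naturality of a morphism of modules with respect to restriction of sections. -/
theorem app_res {M N : X.Modules} (ψ : M ⟶ N) {V U : X.Opens} (h : V ≤ U) (s : Γ(M, U)) :
    ψ.app V (res M h s) = res N h (ψ.app U s) := by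
  have := congrArg (fun f => f.hom s) (ψ.mapPresheaf.naturality (homOfLE h).op)
  exact this

theorem kernel_ι_app_eq_zero {M N : X.Modules} (φ : M ⟶ N) (U : X.Opens) (t : Γ(kernel φ, U)) :
    φ.app U ((kernel.ι φ).app U t) = 0 := by
  have : (kernel.ι φ ≫ φ).app U t = 0 := by rw [kernel.condition]; rfl
  exact this

theorem exists_kernel_ι_app_eq {M N : X.Modules} (φ : M ⟶ N) (U : X.Opens) (s : Γ(M, U))
    (hs : φ.app U s = 0) : ∃ t : Γ(kernel φ, U), (kernel.ι φ).app U t = s :=
  ((Groth.Agent.Lib.IdealMod.kernel_sections φ U).2 s).mp hs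

/-- The kernel of a morphism between modules localizing on `U` is localizing on `U`. -/
theorem isLocalizingOn_kernel {M N : X.Modules} (φ : M ⟶ N) {U : X.Opens}
    (hM : IsLocalizingOn M U) (hN : IsLocalizingOn N U) : IsLocalizingOn (kernel φ) U := by
  have hinj : ∀ V : X.Opens, Function.Injective ((kernel.ι φ).app V) :=
    fun V => injective_app_of_mono (kernel.ι φ) V
  constructor
  · intro f t
    obtain ⟨n, s, hs⟩ := hM.surj f ((kernel.ι φ).app _ t)
    have h0 : res N (X.basicOpen_le f) (φ.app U s) = 0 := by
      rw [← app_res, ← hs, Hom.app_smul, kernel_ι_app_eq_zero, smul_zero]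
    obtain ⟨k, hk⟩ := hN.inj f (φ.app U s) h0
    have h1 : φ.app U (f ^ k • s) = 0 := by rw [Hom.app_smul, hk]
    obtain ⟨s', hs'⟩ := exists_kernel_ι_app_eq φ U _ h1
    refine ⟨k + n, s', ?_⟩
    apply hinj
    rw [Hom.app_smul, app_res, hs', res_smul, ← hs, pow_add, mul_smul, resO_pow]
  · intro f s hs
    have h0 : res M (X.basicOpen_le f) ((kernel.ι φ).app U s) = 0 := by
      rw [← app_res, hs, map_zero]
    obtain ⟨n, hn⟩ := hM.inj f _ h0
    refine ⟨n, ?_⟩
    apply hinj
    rw [Hom.app_smul, hn, map_zero]

/-- Kernels of morphisms of quasi-coherent modules are quasi-coherent. -/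
theorem isQuasicoherent_kernel {M N : X.Modules} [M.IsQuasicoherent] [N.IsQuasicoherent]
    (φ : M ⟶ N) : (kernel φ).IsQuasicoherent :=
  (Groth.Agent.Lib.H90OXModPush.isQuasicoherent_iff_forall_isLocalizingOn _).mpr fun U =>
    isLocalizingOn_kernel φ (isLocalizingOn_of_isQuasicoherent M U.2)
      (isLocalizingOn_of_isQuasicoherent N U.2)

end Groth.Agent.Lib.QCohKernel13
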