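import Groth.Agent.Lib.CurveH1Van54
import Groth.Agent.Lib.SupportTensor
import Groth.Agent.Lib.CohFinAmple
import Groth.Agent.Lib.OXModTensorColim
import Groth.Agent.Lib.QCohKernel13

/-!
# Serre vanishing engine on integral proper curves, without duality (helper54; campaign K2a)

Namespace `Groth.Agent.Lib.CurveSerreVan54`.  `H : ProperFinHyp.Hyp` is the statement of S0002.

* `map_surjective_of_kernel_cokernel`: a morphism `φ` with `H^{n+1}(ker φ) = 0 = H^n(coker φ)` is surjective on `H^n`.
* `(tensorLeftFunctor F).Additive`; `mulHom M ρ` (homothety by a global function, as in helper10's `RpushLinear`),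
  `ofSection_smul`, `hom_ext_tmul` (maps out of `tensorMod` are determined on pure tensors), `tensorModMap_tmul`,
  `tensorLeft_map_mulHom`.
* `support_eq_of_iso`, `map_one_surjective_of_support_cokernel`, `tensor_map_one_surjective_of_ne_zero`:
  for `F` coherent and `s : N ⟶ L` a nonzero map of invertible modules on an integral locally Noetherian scheme of
  dimension `≤ 1` (with `H^2` of quasi-coherent modules vanishing), `H^1(F ⊗ N) → H^1(F ⊗ L)` is surjective.
* `tpairing k X F M n a : H^n(F ⊗ O) →ₗ[k] H^n(F ⊗ M)`, `tpairing_add`, `tpairing_smul`.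
* **`finrank_H0_le_of_nontrivial_H1_tensor`**: on an integral proper curve, `H^1(F ⊗ M) ≠ 0` (`F` coherent, `M` invertible)
  implies `h^0(M) ≤ h^1(F ⊗ O)`.
-/

set_option autoImplicit false
universe u
open CategoryTheory CategoryTheory.Limits AlgebraicGeometry Opposite TopologicalSpace

namespace Groth.Agent.Lib.CurveSerreVan54

open Groth.Agent.Lib.EulerChar54 Groth.Agent.Lib.ProperFinHyp Groth.Agent.Lib.DegCurve54
open Groth.Agent.Lib.InvMap54 Groth.Agent.Lib.H90Invertible Groth.Agent.Lib.CohLES
open Groth.Agent.Lib.H78SecCoord Groth.Agent.Lib.EulerNat54 Groth.Agent.Lib.StructureModule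
open Groth.Agent.Lib.OXModTensor Groth.Agent.Lib.CurveH1Van54 CohB1

section PartA

variable {X : Scheme.{u}}

/-- a morphism whose kernel has no `H^{n+1}` and whose cokernel has no `H^n` is surjective on `H^n` -/
theorem map_surjective_of_kernel_cokernel {A B : X.Modules} (φ : A ⟶ B) (n : ℕ)
    [Subsingleton (Coh.HH X (kernel φ) (n + 1))] [Subsingleton (Coh.HH X (cokernel φ) n)] :
    Function.Surjective (map φ n) := by
  have hS1 : (ShortComplex.mk (kernel.ι φ) (Abelian.coimage.π φ) (by simp)).ShortExact := by
    have h1 : Mono (kernel.ι φ) := inferInstance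
    have h2 : Epi (Abelian.coimage.π φ) := inferInstanceAs (Epi (cokernel.π (kernel.ι φ)))
    exact ShortComplex.ShortExact.mk'
      (ShortComplex.exact_of_g_is_cokernel _ (cokernelIsCokernel _)) h1 h2
  have hS2 : (ShortComplex.mk (Abelian.image.ι φ) (cokernel.π φ) (by simp)).ShortExact := by
    have h1 : Mono (Abelian.image.ι φ) := inferInstanceAs (Mono (kernel.ι (cokernel.π φ)))
    have h2 : Epi (cokernel.π φ) := inferInstance
    exact ShortComplex.ShortExact.mk'
      (ShortComplex.exact_of_f_is_kernel _ (kernelIsKernel _)) h1 h2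
  intro z
  obtain ⟨y, hy⟩ := exact₂ hS2 n z (Subsingleton.elim _ _)
  let c := Abelian.coimageImageComparison φ
  have hc : IsIso c := inferInstance
  let y' := map (inv c) n y
  obtain ⟨x, hx⟩ := exact₃ hS1 n y' (Subsingleton.elim _ _)
  refine ⟨x, ?_⟩
  have hfac : φ = Abelian.coimage.π φ ≫ c ≫ Abelian.image.ι φ :=
    (Abelian.coimage_image_factorisation φ).symm
  have h1 : map φ n x = map (Abelian.image.ι φ) n (map c n (map (Abelian.coimage.π φ) n x)) := by
    conv_lhs => rw [hfac]
    rw [map_comp, map_comp]
  have h2 : map c n (map (inv c) n y) = y := by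
    rw [← map_comp, IsIso.inv_hom_id, map_id]
  rw [h1]
  exact (congrArg (fun w => map (Abelian.image.ι φ) n (map c n w)) hx).trans
    ((congrArg (map (Abelian.image.ι φ) n) h2).trans hy)

end PartA

section PartB

variable {X : Scheme.{u}}

instance (F : X.Modules) : (tensorLeftFunctor F).Additive := by
  have : PreservesBinaryBiproducts (tensorLeftFunctor F) :=
    preservesBinaryBiproducts_of_preservesBinaryCoproducts _
  exact Functor.additive_of_preservesBinaryBiproducts _

/-- multiplication by a global function, as an endomorphism of an `O_X`-module (as in helper10's `RpushLinear`) -/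
noncomputable def mulHom (M : X.Modules) (r : Coh.Γtop X) : M ⟶ M :=
  ⟨PresheafOfModules.homMk (Coh.smulAb M r).hom (by
    intro U a m
    change (Coh.resTop X U r) • (a • m) = a • ((Coh.resTop X U r) • m)
    rw [smul_smul, smul_smul]
    congr 1
    exact mul_comm (show X.presheaf.obj U from Coh.resTop X U r) (show X.presheaf.obj U from a))⟩

theorem toAb_map_mulHom (M : X.Modules) (r : Coh.Γtop X) :
    (toAbF X).map (mulHom M r) = Coh.smulAb M r := rfl

instance : (toAbF X).Faithful :=
  inferInstanceAs (SheafOfModules.toSheaf.{u} X.ringCatSheaf).Faithful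

theorem ofSection_smul {L : X.Modules} (ρ : Coh.Γtop X) (σ : Γ(L, ⊤)) :
    ofSection ((show Γ(X, ⊤) from ρ) • σ) = ofSection σ ≫ mulHom L ρ := by
  apply (toAbF X).map_injective
  rw [Functor.map_comp, toAb_map_mulHom]
  exact toAbF_map_ofSection_smul ρ σ

theorem mulHom_app (M : X.Modules) (r : Coh.Γtop X) (V : X.Opens) (m : Γ(M, V)) :
    (mulHom M r).app V m = (X.presheaf.map (homOfLE (le_top : V ≤ ⊤)).op).hom (show Γ(X, ⊤) from r) • m := rfl

open Groth.Agent.Lib.H78TensorGen in
/-- morphisms out of a tensor product are determined by their values on pure tensors -/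
theorem hom_ext_tmul {M N G : X.Modules} (f g : tensorMod M N ⟶ G)
    (h : ∀ (V : X.Opens) (a : Γ(M, V)) (b : Γ(N, V)), f.app V (tmul a b) = g.app V (tmul a b)) :
    f = g := by
  have key : ∀ (W : X.Opens) (p : (tpre M N).obj (op W)),
      f.app W (((unitT M N).app (op W)).hom p) = g.app W (((unitT M N).app (op W)).hom p) := by
    intro W p
    induction p using TensorProduct.induction_on with
    | zero =>
      have e0 : ((unitT M N).app (op W)).hom (0 : (tpre M N).obj (op W)) = 0 := map_zero _
      exact (congrArg (fun t => f.app W t) e0).trans (((f.app W).hom.map_zero).trans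
        (((g.app W).hom.map_zero).symm.trans (congrArg (fun t => g.app W t) e0).symm))
    | tmul a b => exact h W a b
    | add p p' hp1 hp2 =>
      have e1 := ((unitT M N).app (op W)).hom.map_add p p'
      exact (congrArg (fun t => f.app W t) e1).trans (((f.app W).hom.map_add _ _).trans
        ((congrArg₂ (· + ·) hp1 hp2).trans (((g.app W).hom.map_add _ _).symm.trans
          (congrArg (fun t => g.app W t) e1).symm)))
  ext V q
  refine sec_ext G _ _ fun x hx => ?_
  obtain ⟨W, hW, hxW, p, hp⟩ := exists_local_rep M N q x hx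
  refine ⟨W, hW, hxW, ?_⟩
  rw [← app_rs, ← app_rs, ← hp]
  exact key W p

open Groth.Agent.Lib.H78TensorGen in
/-- `tensorModMap` on pure tensors (as in helper4's `H4KoszulPn`) -/
theorem tensorModMap_tmul {M M' N N' : X.Modules} (f : M ⟶ M') (g : N ⟶ N') {V : X.Opens} (a : Γ(M, V))
    (b : Γ(N, V)) :
    (tensorModMap f g).app V (tmul a b) = tmul (f.app V a) (g.app V b) := by
  let φ' : CohB1.tensorPre M N ⟶ CohB1.tensorPre M' N' :=
    MonoidalCategory.tensorHom (C := CohB1.PMod X) ((fg X).map f) ((fg X).map g)
  let φ : tpre M N ⟶ tpre M' N' := φ'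
  have hnat : unitT M N ≫ (Scheme.Modules.toPresheafOfModules X).map ((CohB1.sheafifyMod X).map φ) =
      φ ≫ unitT M' N' := ((Groth.Agent.Lib.H78AmpleUnit.adj X).unit.naturality φ).symm
  have h1 := congrArg (fun ψ => (ψ.app (op V)).hom (ptmul a b)) hnat
  exact h1

open Groth.Agent.Lib.H78TensorGen in
/-- tensoring with a homothety is a homothety -/
theorem tensorLeft_map_mulHom (F N : X.Modules) (ρ : Coh.Γtop X) :
    (tensorLeftFunctor F).map (mulHom N ρ) = mulHom (tensorMod F N) ρ := by
  rw [tensorLeftFunctor_map]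
  refine hom_ext_tmul _ _ fun V a b => ?_
  rw [tensorModMap_tmul, mulHom_app, mulHom_app, tmul_smul]
  rfl

end PartB

section PartC

open Groth.Agent.Lib.ModStalk

variable {X : Scheme.{u}}

theorem support_eq_of_iso {M M' : X.Modules} (e : M ≅ M') : CohB1.support M = CohB1.support M' := by
  ext x
  have e' := ((stalkFunctor x).mapIso e).addCommGroupIsoToAddEquiv
  change ¬ Subsingleton ((stalkFunctor x).obj M) ↔ ¬ Subsingleton ((stalkFunctor x).obj M')
  rw [not_iff_not]
  exact e'.toEquiv.subsingleton_congr

/-- a morphism of coherent modules whose cokernel is supported at closed points is surjective on `H^1`, provided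
`H^2` of its kernel vanishes -/
theorem map_one_surjective_of_support_cokernel [IsLocallyNoetherian X]
    (hH2 : ∀ K : X.Modules, K.IsQuasicoherent → Subsingleton (Coh.HH X K 2))
    {A B C : X.Modules} (φ : A ⟶ B) (hA : Coh.IsCoh A) (hB : Coh.IsCoh B) (e : cokernel φ ≅ C)
    (hC : ∀ x ∈ CohB1.support C, IsClosed ({x} : Set X)) :
    Function.Surjective (map φ 1) := by
  have q1 : A.IsQuasicoherent := hA.1
  have q2 : B.IsQuasicoherent := hB.1
  have hK : (kernel φ).IsQuasicoherent := Groth.Agent.Lib.QCohKernel13.isQuasicoherent_kernel φ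
  have h2 : Subsingleton (Coh.HH X (kernel φ) (1 + 1)) := hH2 _ hK
  have hCc : Coh.IsCoh (cokernel φ) := Groth.Agent.Lib.H90OXModExact.isCoh_cokernel φ hB
  have hsupp : ∀ x ∈ CohB1.support (cokernel φ), IsClosed ({x} : Set X) := by
    intro x hx
    rw [support_eq_of_iso e] at hx
    exact hC x hx
  have h1 : Subsingleton (Coh.HH X (cokernel φ) 1) :=
    Groth.Agent.S0047.result X _ hCc hsupp 1 Nat.one_pos
  exact map_surjective_of_kernel_cokernel φ 1

variable [IsIntegral X] [IsLocallyNoetherian X] (hdim : topologicalKrullDim X ≤ 1)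
  (hH2 : ∀ K : X.Modules, K.IsQuasicoherent → Subsingleton (Coh.HH X K 2))
  {F : X.Modules} (hF : Coh.IsCoh F) {N L : X.Modules} (hN : PicF.IsInvertible N) (hL : PicF.IsInvertible L)

include hdim hH2 hF hN hL in
/-- tensoring a coherent module with a nonzero map of invertible modules gives a surjection on `H^1` -/
theorem tensor_map_one_surjective_of_ne_zero (s : N ⟶ L) (hs : s ≠ 0) :
    Function.Surjective (map ((tensorLeftFunctor F).map s) 1) := by
  have hNc : Coh.IsCoh N := isCoh_of_isInvertible hN
  have hLc : Coh.IsCoh L := isCoh_of_isInvertible hL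
  have hTN : Coh.IsCoh (tensorMod F N) := Groth.Agent.Lib.CohFinAmple.isCoh_tensorMod hF hNc
  have hTL : Coh.IsCoh (tensorMod F L) := Groth.Agent.Lib.CohFinAmple.isCoh_tensorMod hF hLc
  have q3 : N.IsQuasicoherent := hNc.1
  have hCs : Coh.IsCoh (cokernel s) := Groth.Agent.Lib.H90OXModExact.isCoh_cokernel s hLc
  have hsupp : ∀ x ∈ CohB1.support ((tensorLeftFunctor F).obj (cokernel s)), IsClosed ({x} : Set X) := by
    intro x hx
    have i1 := hF.1
    have i2 := hF.2
    have i3 := hCs.1
    have i4 := hCs.2
    rw [tensorLeftFunctor_obj, Groth.Agent.Lib.SupportTensor.support_tensorMod] at hx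
    exact isClosed_singleton_of_mem_support_cokernel hN hL s hdim hs x hx.2
  exact map_one_surjective_of_support_cokernel hH2 ((tensorLeftFunctor F).map s) hTN hTL
    (PreservesCokernel.iso (tensorLeftFunctor F) s).symm hsupp

end PartC

section PartD

open Groth.Agent.Lib.H4Twist

theorem map_mulHom {X : Scheme.{u}} (M : X.Modules) (ρ : Coh.Γtop X) (n : ℕ) (x : Coh.HH X M n) :
    map (mulHom M ρ) n x = ρ • x := rfl

variable (k : Type u) [Field k] (X : Scheme.{u}) [X.Over (Spec (CommRingCat.of k))] (F M : X.Modules)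

/-- the pairing `H^0(M) × H^n(F ⊗ O) → H^n(F ⊗ M)`, as a family of linear maps -/
noncomputable def tpairing (n : ℕ) (a : Coh.HH X M 0) :
    Coh.HH X ((tensorLeftFunctor F).obj (Coh.structureModule X)) n →ₗ[k]
      Coh.HH X ((tensorLeftFunctor F).obj M) n :=
  mapₗ k ((tensorLeftFunctor F).map (ofSection (h0Equiv M a))) n

theorem tpairing_add (n : ℕ) (a b : Coh.HH X M 0)
    (x : Coh.HH X ((tensorLeftFunctor F).obj (Coh.structureModule X)) n) :
    tpairing k X F M n (a + b) x = tpairing k X F M n a x + tpairing k X F M n b x := by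
  change map ((tensorLeftFunctor F).map (ofSection (h0Equiv M (a + b)))) n x = _
  rw [map_add (h0Equiv M), ofSection_add, Functor.map_add]
  exact map_add' _ _ n x

theorem tpairing_smul (n : ℕ) (c : k) (a : Coh.HH X M 0)
    (x : Coh.HH X ((tensorLeftFunctor F).obj (Coh.structureModule X)) n) :
    tpairing k X F M n (c • a) x = c • tpairing k X F M n a x := by
  change map ((tensorLeftFunctor F).map (ofSection (h0Equiv M (c • a)))) n x =
    c • map ((tensorLeftFunctor F).map (ofSection (h0Equiv M a))) n x
  rw [smul_over_def, smul_over_def, h0Equiv_smul, ofSection_smul, Functor.map_comp, map_comp,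
    tensorLeft_map_mulHom]
  exact map_mulHom _ _ n _

variable (H : Hyp.{u}) [IsIntegral X] [IsProper (X ↘ (Spec (CommRingCat.of k)))]
  (hdim : topologicalKrullDim X ≤ 1) {F M} (hF : Coh.IsCoh F) (hM : PicF.IsInvertible M)

include H hdim hF hM in
/-- **Serre vanishing engine on curves**: if `H^1(F ⊗ M) ≠ 0` for `F` coherent and `M` invertible on an integral proper
curve, then `h^0(M) ≤ h^1(F ⊗ O)` -/
theorem finrank_H0_le_of_nontrivial_H1_tensor
    [Nontrivial (Coh.HH X ((tensorLeftFunctor F).obj M) 1)] :
    Module.finrank k (Coh.HH X M 0) ≤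
      Module.finrank k (Coh.HH X ((tensorLeftFunctor F).obj (Coh.structureModule X)) 1) := by
  have : IsLocallyNoetherian X :=
    LocallyOfFiniteType.isLocallyNoetherian (X ↘ (Spec (CommRingCat.of k)))
  have hOinv := isInvertible_structureModule X
  have hOc : Coh.IsCoh (Coh.structureModule X) := isCoh_of_isInvertible hOinv
  have hTO : Coh.IsCoh (tensorMod F (Coh.structureModule X)) :=
    Groth.Agent.Lib.CohFinAmple.isCoh_tensorMod hF hOc
  have hfin : Module.Finite k (Coh.HH X ((tensorLeftFunctor F).obj (Coh.structureModule X)) 1) :=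
    H k X _ hTO 1
  have hH2 : ∀ K : X.Modules, K.IsQuasicoherent → Subsingleton (Coh.HH X K 2) := fun K hK =>
    Groth.Agent.Lib.RiemannRoch54.subsingleton_HH_add_two k X hdim K 0
  refine (finrank_le_of_pairing_surjective (tpairing k X F M 1) (tpairing_add k X F M 1)
    (tpairing_smul k X F M 1) fun a ha => ?_).2
  refine tensor_map_one_surjective_of_ne_zero hdim hH2 hF hOinv hM _ fun h0 => ha ?_
  have h1 : sec (ofSection (h0Equiv M a)) = 0 := by
    rw [h0]
    change (0 : Coh.structureModule X ⟶ M).app ⊤ _ = 0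
    rw [Scheme.Modules.Hom.zero_app]
    rfl
  rw [sec_ofSection] at h1
  exact (h0Equiv M).map_eq_zero_iff.mp h1

end PartD

end Groth.Agent.Lib.CurveSerreVan54
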