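import Groth.Agent.Lib.CurveVB54
import Groth.Agent.Lib.CurveH1Van54

/-!
# Rank and degree bounds for locally free submodules on integral proper curves (helper54; campaign K6)

Namespace `Groth.Agent.Lib.CurveVB54b`.  `H : ProperFinHyp.Hyp` is the statement of S0002.

* `rank_le_of_mono`: a finite locally free submodule of rank `r'` of a finite locally free module of rank `r` on a
  nonempty scheme has `r' ≤ r`.
* `euler_le_finrank_of_mono`: `χ(F) ≤ h^0(E)` for a quasi-coherent submodule of a coherent module on an integral proper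
  curve.
* `exists_deg_le` (S15331): degrees of locally free submodules are bounded above.
* `h0Semistable_iff` (S11822).
-/

set_option autoImplicit false
universe u

open CategoryTheory CategoryTheory.Limits AlgebraicGeometry TopologicalSpace Opposite

namespace Groth.Agent.Lib.CurveVB54b

open Groth.Agent.Lib.EulerChar54 Groth.Agent.Lib.ProperFinHyp Groth.Agent.Lib.DegCurve54
open Groth.Agent.Lib.InvMap54 Groth.Agent.Lib.H90Invertible Groth.Agent.Lib.CohLES
open Groth.Agent.Lib.ModStalkLin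

section Rank

variable {X : Scheme.{u}}

theorem isFinLocFree_of_rank {n : ℕ} {M : X.Modules} (h : FlatMod.IsFinLocFreeOfRank n M) :
    FlatMod.IsFinLocFree M := fun x => by
  obtain ⟨U, hxU, h'⟩ := h x
  exact ⟨U, _, hxU, h'⟩

/-- ranks of locally free submodules are bounded by the rank of the ambient module -/
theorem rank_le_of_mono [Nonempty X] {F E : X.Modules} {r' r : ℕ} (hF : FlatMod.IsFinLocFreeOfRank r' F)
    (hE : FlatMod.IsFinLocFreeOfRank r E) (i : F ⟶ E) [Mono i] : r' ≤ r := by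
  obtain ⟨x⟩ := ‹Nonempty X›
  obtain ⟨U₁, hx₁, ⟨e₁⟩⟩ := hF x
  obtain ⟨U₂, hx₂, ⟨e₂⟩⟩ := hE x
  have r₁ := Groth.Agent.Lib.SemilocalFree.finrank_stalk_eq_of_restrict_iso U₁ e₁ ⟨x, hx₁⟩
  have r₂ := Groth.Agent.Lib.SemilocalFree.finrank_stalk_eq_of_restrict_iso U₂ e₂ ⟨x, hx₂⟩
  have hEc := isCoh_of_isFinLocFree (isFinLocFree_of_rank hE)
  have g₂ := Groth.Agent.Lib.CohFinite.finite_stalk_of_isCoh _ hEc x
  have hinj := stalkLin_injective_of_mono i x
  have := LinearMap.finrank_le_finrank_of_injective hinj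
  rw [← r₁, ← r₂]
  exact this

end Rank

section Bound

lemma auxE1 (a b e : ℕ) (χ : ℤ) (h1 : χ = (a : ℤ) - b) (h2 : a ≤ e) : χ ≤ (e : ℤ) := by lia

lemma auxE2 (χF a c : ℤ) (r' r : ℕ) (h1 : χF ≤ a) (h2 : r' ≤ r) :
    χF - (r' : ℤ) * c ≤ a + (r : ℤ) * |c| := by
  have h3 : -((r' : ℤ) * c) ≤ (r : ℤ) * |c| := by
    have h4 : -c ≤ |c| := neg_le_abs c
    have h5 : (0 : ℤ) ≤ |c| := abs_nonneg c
    have h6 : (r' : ℤ) ≤ r := by exact_mod_cast h2
    nlinarith
  lia

variable (H : Hyp.{u}) (k : Type u) [Field k] (X : Scheme.{u}) [X.Over (Spec (CommRingCat.of k))]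
  [IsIntegral X] [IsProper (X ↘ (Spec (CommRingCat.of k)))] (hdim : topologicalKrullDim X ≤ 1)

include H hdim in
/-- `χ(F) ≤ h^0(E)` for a quasi-coherent submodule `F` of a coherent module `E` -/
theorem euler_le_finrank_of_mono {F E : X.Modules} [F.IsQuasicoherent] (hE : Coh.IsCoh E) (i : F ⟶ E) [Mono i] :
    Curv2.euler k X F ≤ (Module.finrank k (Coh.HH X E 0) : ℤ) := by
  have hS : (ShortComplex.mk i (cokernel.π i) (cokernel.condition i)).ShortExact :=
    { exact := ShortComplex.exact_cokernel i }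
  have hinj : Function.Injective (mapₗ k i 0) := map_f_injective_zero hS
  have hfin : Module.Finite k (Coh.HH X E 0) := H k X _ hE 0
  have hle := LinearMap.finrank_le_finrank_of_injective hinj
  exact auxE1 _ _ _ _ (Groth.Agent.Lib.RiemannRoch54.euler_eq_sub k X hdim F) hle

include H hdim in
/-- S15331: the degrees of the finite locally free submodules of a finite locally free module are bounded above -/
theorem exists_deg_le {E : X.Modules} {r : ℕ} (hE : FlatMod.IsFinLocFreeOfRank r E) :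
    ∃ N : ℤ, ∀ (F : X.Modules) (r' : ℕ) (i : F ⟶ E), Mono i → FlatMod.IsFinLocFreeOfRank r' F →
      Curv2.deg k X F r' ≤ N := by
  have hEc := isCoh_of_isFinLocFree (isFinLocFree_of_rank hE)
  refine ⟨(Module.finrank k (Coh.HH X E 0) : ℤ) + (r : ℤ) * |Curv2.euler k X (Coh.structureModule X)|, ?_⟩
  intro F r' i hi hF
  have hFq : F.IsQuasicoherent := (isCoh_of_isFinLocFree (isFinLocFree_of_rank hF)).1
  exact auxE2 _ _ _ _ _ (euler_le_finrank_of_mono H k X hdim hEc i) (rank_le_of_mono hF hE i)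

end Bound

section H0SS

/-- rank one case of `⇒` -/
lemma auxS1 (aF bF aE bE : ℕ) (χF χE χO : ℤ) (hF : χF = (aF : ℤ) - bF) (hE : χE = (aE : ℤ) - bE) (hbE : bE = 0)
    (h : 2 * aF ≤ aE) : (χF - ((1 : ℕ) : ℤ) * χO) * 2 ≤ (χE - ((2 : ℕ) : ℤ) * χO) * ((1 : ℕ) : ℤ) := by
  push_cast
  lia

/-- rank two case of `⇒` -/
lemma auxS2 (aE bE : ℕ) (χF χE χO : ℤ) (hE : χE = (aE : ℤ) - bE) (hbE : bE = 0) (h : χF ≤ (aE : ℤ)) :
    (χF - ((2 : ℕ) : ℤ) * χO) * 2 ≤ (χE - ((2 : ℕ) : ℤ) * χO) * ((2 : ℕ) : ℤ) := by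
  push_cast
  lia

/-- `⇐` when `H^1(M) = 0` -/
lemma auxS3 (aM bM aE bE : ℕ) (χM χE χO : ℤ) (hM : χM = (aM : ℤ) - bM) (hE : χE = (aE : ℤ) - bE) (hbE : bE = 0)
    (hbM : bM = 0) (h : (χM - ((1 : ℕ) : ℤ) * χO) * 2 ≤ (χE - ((2 : ℕ) : ℤ) * χO) * ((1 : ℕ) : ℤ)) :
    2 * aM ≤ aE := by
  push_cast at h
  lia

/-- `⇐` when `H^1(M) ≠ 0` -/
lemma auxS4 (aM aE bE c g : ℕ) (χE χO : ℤ) (hE : χE = (aE : ℤ) - bE) (hbE : bE = 0)
    (hO : χO = (c : ℤ) - g) (hc : c = 1) (hle : aM ≤ g)
    (hdeg : 4 * (g : ℤ) - 2 ≤ χE - ((2 : ℕ) : ℤ) * χO) : 2 * aM ≤ aE := by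
  push_cast at hdeg
  lia

variable (H : Hyp.{u}) (k : Type u) [Field k] (X : Scheme.{u}) [X.Over (Spec (CommRingCat.of k))]
  [IsIntegral X] [IsProper (X ↘ (Spec (CommRingCat.of k)))] (hdim : topologicalKrullDim X ≤ 1)

include H hdim in
/-- S11822: for a rank two module with `H^1(E) = 0` and `deg E ≥ 4g - 2`, `H^0`-semistability is slope semistability -/
theorem h0Semistable_iff (h0 : Module.finrank k (Coh.HH X (Coh.structureModule X) 0) = 1)
    {E : X.Modules} (hE : FlatMod.IsFinLocFreeOfRank 2 E) (h1 : Subsingleton (Coh.HH X E 1))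
    (hdeg : 4 * (Curv2.genus k X : ℤ) - 2 ≤ Curv2.deg k X E 2) :
    (∀ (M : X.Modules) (i : M ⟶ E), Mono i → PicF.IsInvertible M →
      2 * Module.finrank k (Coh.HH X M 0) ≤ Module.finrank k (Coh.HH X E 0)) ↔
    (∀ (F : X.Modules) (r' : ℕ) (i : F ⟶ E), Mono i → 0 < r' → FlatMod.IsFinLocFreeOfRank r' F →
      Curv2.deg k X F r' * (2 : ℤ) ≤ Curv2.deg k X E 2 * (r' : ℤ)) := by
  have hEc := isCoh_of_isFinLocFree (isFinLocFree_of_rank hE)
  have hEq : E.IsQuasicoherent := hEc.1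
  have hOq : (Coh.structureModule X).IsQuasicoherent :=
    (isCoh_of_isInvertible (isInvertible_structureModule X)).1
  have eE := Groth.Agent.Lib.RiemannRoch54.euler_eq_sub k X hdim E
  have eO := Groth.Agent.Lib.RiemannRoch54.euler_eq_sub k X hdim (Coh.structureModule X)
  have hbE : Module.finrank k (Coh.HH X E 1) = 0 := Module.finrank_zero_of_subsingleton
  constructor
  · intro hM F r' i hi hr' hF
    have hFc := isCoh_of_isFinLocFree (isFinLocFree_of_rank hF)
    have hFq : F.IsQuasicoherent := hFc.1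
    have hr2 : r' ≤ 2 := rank_le_of_mono hF hE i
    have eF := Groth.Agent.Lib.RiemannRoch54.euler_eq_sub k X hdim F
    obtain rfl | rfl : r' = 1 ∨ r' = 2 := by lia
    · have hinv : PicF.IsInvertible F := (isInvertible_iff_isFinLocFreeOfRank_one F).mpr hF
      exact auxS1 _ _ _ _ _ _ _ eF eE hbE (hM F i hi hinv)
    · exact auxS2 _ _ _ _ _ eE hbE (euler_le_finrank_of_mono H k X hdim hEc i)
  · intro hss M i hi hM
    have hMc := isCoh_of_isInvertible hM
    have hMq : M.IsQuasicoherent := hMc.1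
    have eM := Groth.Agent.Lib.RiemannRoch54.euler_eq_sub k X hdim M
    have h2 := hss M 1 i hi Nat.one_pos ((isInvertible_iff_isFinLocFreeOfRank_one M).mp hM)
    by_cases hsub : Subsingleton (Coh.HH X M 1)
    · exact auxS3 _ _ _ _ _ _ _ eM eE hbE Module.finrank_zero_of_subsingleton h2
    · have hnt : Nontrivial (Coh.HH X M 1) := not_subsingleton_iff_nontrivial.mp hsub
      have hle := Groth.Agent.Lib.CurveH1Van54.finrank_H0_le_genus H k X hdim hM
      exact auxS4 _ _ _ _ _ _ _ eE hbE eO h0 hle hdeg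

end H0SS

end Groth.Agent.Lib.CurveVB54b
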