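import Groth.Agent.Lib.CurveVB67A
import Groth.Agent.Lib.DegAdd54
import Groth.Agent.Lib.ModPullback
import Groth.Agent.Lib.H90DevHub2

/-!
# Vector bundles on Dedekind-like schemes, part B: generic ranks (helper67; campaign K6)

Namespace `Groth.Agent.Lib.CurveVB67`.  `X` integral.

* `rk_add` : generic ranks add in short exact sequences (finite stalks at the generic point).
* `rk_le_of_mono`, `rk_le_of_epi`.
* `isZero_of_tf_of_rk_eq_zero` : coherent torsion-free of generic rank `0` is zero.
* `rk_pos` : coherent torsion-free nonzero has positive rank.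
* `rk_freeMod`, `rk_structureModule`.
-/

set_option autoImplicit false
universe u
open CategoryTheory CategoryTheory.Limits AlgebraicGeometry

namespace Groth.Agent.Lib.CurveVB67

open Groth.Agent.Lib.ModStalkLin

variable {X : Scheme.{u}} [IsIntegral X]

theorem finite_generic_stalk {F : X.Modules} (hF : Coh.IsCoh F) :
    Module.Finite (X.presheaf.stalk (genericPoint X)) (F.presheaf.stalk (genericPoint X)) :=
  Groth.Agent.Lib.CohFinite.finite_stalk_of_isCoh F hF _

/-- generic ranks add in short exact sequences of coherent modules -/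
theorem rk_add (S : ShortComplex X.Modules) (hS : S.ShortExact)
    (h₁ : Coh.IsCoh S.X₁) (h₃ : Coh.IsCoh S.X₃) : rk S.X₂ = rk S.X₁ + rk S.X₃ := by
  let _ : Field (X.presheaf.stalk (genericPoint X)) :=
    inferInstanceAs (Field X.functionField)
  have f₁ := finite_generic_stalk h₁
  have f₃ := finite_generic_stalk h₃
  obtain ⟨hinj, hex, hsurj⟩ := stalkLin_exact hS (genericPoint X)
  exact Groth.Agent.Lib.DegAdd54.finrank_add_of_exact _ _ hinj hex hsurj

theorem rk_le_of_mono {G E : X.Modules} (i : G ⟶ E) [Mono i] (hE : Coh.IsCoh E) : rk G ≤ rk E := by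
  let _ : Field (X.presheaf.stalk (genericPoint X)) :=
    inferInstanceAs (Field X.functionField)
  have := finite_generic_stalk hE
  exact LinearMap.finrank_le_finrank_of_injective (stalkLin_injective_of_mono i (genericPoint X))

theorem rk_le_of_epi {E Q : X.Modules} (p : E ⟶ Q) [Epi p] (hE : Coh.IsCoh E) : rk Q ≤ rk E := by
  let _ : Field (X.presheaf.stalk (genericPoint X)) :=
    inferInstanceAs (Field X.functionField)
  have := finite_generic_stalk hE
  exact LinearMap.finrank_le_finrank_of_surjective (stalkLin_surjective_of_epi p (genericPoint X))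

theorem rk_of_isZero {F : X.Modules} (h : IsZero F) : rk F = 0 := by
  have : Subsingleton (F.presheaf.stalk (genericPoint X)) :=
    Groth.Agent.Lib.H90DevHub2.subsingleton_stalk_of_isZero h _
  exact Module.finrank_zero_of_subsingleton

section Dedekind

variable [IsLocallyNoetherian X] (hpid : ∀ x : X, IsPrincipalIdealRing (X.presheaf.stalk x))

include hpid in
/-- coherent torsion-free of generic rank `0` is zero -/
theorem isZero_of_tf_of_rk_eq_zero {F : X.Modules} (hF : Coh.IsCoh F) (htf : TF F) (h0 : rk F = 0) :
    IsZero F := by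
  have hlf := isFinLocFreeOfRank_of_tf hpid hF htf
  rw [h0] at hlf
  apply Groth.Agent.Lib.ModPullback.isZero_of_forall_subsingleton_stalk
  intro x
  obtain ⟨U, hxU, ⟨e⟩⟩ := hlf x
  have hfr := Groth.Agent.Lib.SemilocalFree.finrank_stalk_eq_of_restrict_iso U e ⟨x, hxU⟩
  have := Groth.Agent.Lib.LocFreeFP.free_stalk_of_isFinLocFree (isFinLocFree_of_rank hlf) x
  have := Groth.Agent.Lib.CohFinite.finite_stalk_of_isCoh F hF x
  have : Nontrivial (X.presheaf.stalk x) := inferInstance
  exact (Module.finrank_eq_zero_iff_of_free (X.presheaf.stalk x) _).mp hfr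

include hpid in
theorem rk_pos {F : X.Modules} (hF : Coh.IsCoh F) (htf : TF F) (hne : ¬ IsZero F) : 0 < rk F := by
  by_contra h
  exact hne (isZero_of_tf_of_rk_eq_zero hpid hF htf (by omega))

end Dedekind

end Groth.Agent.Lib.CurveVB67
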