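import Groth.Agent.Lib.CurveVB67B
import Groth.Agent.Lib.DegCurve54
import Groth.Agent.Lib.SpecDim

/-!
# Vector bundles on curves, part C: degrees (helper67; campaign K6, layers D1/V4)

Namespace `Groth.Agent.Lib.CurveVB67`.  `H : ProperFinHyp.Hyp` is the statement of S0002.
`X` integral and proper over a field `k`.

* `isClosed_singleton_of_ne_genericPoint` : on an integral scheme of dimension `≤ 1`, every point other than the
  generic point is closed.
* `deg_add` : `deg S.X₂ n₂ = deg S.X₁ n₁ + deg S.X₃ n₃` for a short exact sequence of COHERENT modules when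
  `n₂ = n₁ + n₃` (no local freeness needed);  `deg_rk_add` (with the generic ranks).
* `deg_congr`.
* **V4** for a mono `φ : G ⟶ E` of coherent modules with `rk G = rk E` (`dim X ≤ 1`):
  `isClosed_of_mem_support_cokernel`, `euler_le_of_mono`, `deg_le_of_mono`, `isIso_of_deg_le`,
  `deg_lt_of_not_isIso`.
-/

set_option autoImplicit false
universe u
open CategoryTheory CategoryTheory.Limits AlgebraicGeometry

namespace Groth.Agent.Lib.CurveVB67

open Groth.Agent.Lib.ModStalkLin Groth.Agent.Lib.ProperFinHyp Groth.Agent.Lib.EulerChar54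

section Top

variable {X : Scheme.{u}} [IsIntegral X]

attribute [local instance] specializationOrder in
/-- On an integral scheme of dimension `≤ 1` every point other than the generic point is closed. -/
theorem isClosed_singleton_of_ne_genericPoint (hdim : topologicalKrullDim X ≤ 1) {x : X}
    (hx : x ≠ genericPoint X) : IsClosed ({x} : Set X) := by
  rw [Groth.Agent.Lib.SpecDim.topologicalKrullDim_eq_krullDim (A := X)] at hdim
  have hgen : ∀ y : X, y ≤ genericPoint X := fun y =>
    (genericPoint_spec X).specializes (Set.mem_univ y)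
  rcases (Order.krullDim_le_one_iff.mp hdim) x with hmin | hmax
  · rw [← closure_eq_iff_isClosed]
    apply Set.Subset.antisymm _ subset_closure
    intro y hy
    have hxy : x ⤳ y := specializes_iff_mem_closure.mpr hy
    have h1 : y ≤ x := hxy
    have h2 : x ≤ y := hmin h1
    exact Set.mem_singleton_iff.mpr (le_antisymm h1 h2)
  · exact absurd (le_antisymm (hgen x) (hmax (hgen x))) hx

end Top

section Deg

variable (H : Hyp.{u}) (k : Type u) [Field k] (X : Scheme.{u}) [X.Over (Spec (CommRingCat.of k))]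
  [IsProper (X ↘ (Spec (CommRingCat.of k)))]

include H in
/-- additivity of the degree for coherent modules, given additivity of the rank parameters -/
theorem deg_add (S : ShortComplex X.Modules) (hS : S.ShortExact)
    (h₁ : Coh.IsCoh S.X₁) (h₂ : Coh.IsCoh S.X₂) (h₃ : Coh.IsCoh S.X₃) (n₁ n₂ n₃ : ℕ) (hn : n₂ = n₁ + n₃) :
    Curv2.deg k X S.X₂ n₂ = Curv2.deg k X S.X₁ n₁ + Curv2.deg k X S.X₃ n₃ := by
  unfold Curv2.deg
  rw [euler_add H k X S hS h₁ h₂ h₃, hn]
  push_cast
  ring

omit [IsProper (X ↘ (Spec (CommRingCat.of k)))] in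
theorem euler_congr {F G : X.Modules} (e : F ≅ G) : Curv2.euler k X F = Curv2.euler k X G := by
  unfold Curv2.euler
  refine finsum_congr fun i => ?_
  rw [(Groth.Agent.Lib.CohLES.mapEquivₗ k e i).finrank_eq]

omit [IsProper (X ↘ (Spec (CommRingCat.of k)))] in
theorem deg_congr {F G : X.Modules} (e : F ≅ G) (n : ℕ) : Curv2.deg k X F n = Curv2.deg k X G n := by
  unfold Curv2.deg
  rw [euler_congr k X e]

variable [IsIntegral X]

include H in
theorem deg_rk_add (S : ShortComplex X.Modules) (hS : S.ShortExact)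
    (h₁ : Coh.IsCoh S.X₁) (h₂ : Coh.IsCoh S.X₂) (h₃ : Coh.IsCoh S.X₃) :
    Curv2.deg k X S.X₂ (rk S.X₂) = Curv2.deg k X S.X₁ (rk S.X₁) + Curv2.deg k X S.X₃ (rk S.X₃) :=
  deg_add H k X S hS h₁ h₂ h₃ _ _ _ (rk_add S hS h₁ h₃)

section V4

variable (hdim : topologicalKrullDim X ≤ 1) {G E : X.Modules} (φ : G ⟶ E) [Mono φ]
  (hG : Coh.IsCoh G) (hE : Coh.IsCoh E) (hrk : rk G = rk E)

include hG hE hrk in
theorem rk_cokernel_eq_zero : rk (cokernel φ) = 0 := by
  have : G.IsQuasicoherent := hG.1
  have hQ : Coh.IsCoh (cokernel φ) := Groth.Agent.Lib.H90OXModExact.isCoh_cokernel φ hE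
  have hS : (ShortComplex.mk φ (cokernel.π φ) (cokernel.condition φ)).ShortExact :=
    { exact := ShortComplex.exact_cokernel φ }
  have := rk_add _ hS hG hQ
  simp only at this
  omega

include hdim hG hE hrk in
theorem isClosed_of_mem_support_cokernel :
    ∀ x ∈ CohB1.support (cokernel φ), IsClosed ({x} : Set X) := by
  intro x hx
  apply isClosed_singleton_of_ne_genericPoint hdim
  rintro rfl
  apply hx
  have : G.IsQuasicoherent := hG.1
  have hQ : Coh.IsCoh (cokernel φ) := Groth.Agent.Lib.H90OXModExact.isCoh_cokernel φ hE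
  let _ : Field (X.presheaf.stalk (genericPoint X)) :=
    inferInstanceAs (Field X.functionField)
  have := finite_generic_stalk hQ
  have h0 := rk_cokernel_eq_zero X φ hG hE hrk
  exact Module.finrank_zero_iff.mp h0

include H hdim hG hE hrk in
theorem euler_eq_add_finrank_cokernel :
    Curv2.euler k X E = Curv2.euler k X G + Module.finrank k (Coh.HH X (cokernel φ) 0) :=
  Groth.Agent.Lib.DegCurve54.euler_eq_add_finrank_cokernel H k X φ hG hE
    (isClosed_of_mem_support_cokernel X hdim φ hG hE hrk)

include H hdim hG hE hrk φ in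
theorem euler_le_of_mono : Curv2.euler k X G ≤ Curv2.euler k X E := by
  have h := euler_eq_add_finrank_cokernel H k X hdim φ hG hE hrk
  have : (0 : ℤ) ≤ Module.finrank k (Coh.HH X (cokernel φ) 0) := Int.natCast_nonneg _
  lia

include H hdim hG hE hrk φ in
/-- **V4**: a same-rank inclusion has `deg G ≤ deg E`. -/
theorem deg_le_of_mono (n : ℕ) : Curv2.deg k X G n ≤ Curv2.deg k X E n := by
  have := euler_le_of_mono H k X hdim φ hG hE hrk
  unfold Curv2.deg
  lia

include H hdim hG hE hrk in
/-- **V4**: a same-rank inclusion with `deg E ≤ deg G` is an isomorphism. -/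
theorem isIso_of_deg_le (n : ℕ) (h : Curv2.deg k X E n ≤ Curv2.deg k X G n) : IsIso φ := by
  apply Groth.Agent.Lib.DegCurve54.isIso_of_deg_le H k X φ hG hE
    (isClosed_of_mem_support_cokernel X hdim φ hG hE hrk)
  unfold Curv2.deg at h ⊢
  lia

include H hdim hG hE hrk in
theorem deg_lt_of_not_isIso (n : ℕ) (h : ¬ IsIso φ) : Curv2.deg k X G n < Curv2.deg k X E n := by
  by_contra hle
  exact h (isIso_of_deg_le H k X hdim φ hG hE hrk n (not_lt.mp hle))

end V4

end Deg

end Groth.Agent.Lib.CurveVB67
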