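import Groth.Agent.Lib.CurveVB67E

/-!
# Vector bundles on curves, part F: homomorphisms between (semi)stable bundles (helper67; campaign K6)

Namespace `Groth.Agent.Lib.CurveVB67`.  `H : ProperFinHyp.Hyp` is the statement of S0002.
Setting: `X` integral, proper over a field `k`, all local rings principal (`hpid`).

* `hom_eq_zero_of_sub_slope_lt` : `E` semistable and all positive-rank locally free submodules of `F` of slope `< μ(E)`
  ⇒ `Hom(E, F) = 0`.
* `hom_eq_zero_of_slope_gt` : `E`, `F` semistable, `μ(E) > μ(F)` ⇒ `Hom(E, F) = 0`.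
* `image_data` : for `f : E ⟶ F` nonzero between locally free modules, the image is locally free of positive rank
  `rk (image f)`.
-/

set_option autoImplicit false
universe u
open CategoryTheory CategoryTheory.Limits AlgebraicGeometry

namespace Groth.Agent.Lib.CurveVB67

open Groth.Agent.Lib.ModStalkLin Groth.Agent.Lib.ProperFinHyp

variable (H : Hyp.{u}) (k : Type u) [Field k] (X : Scheme.{u}) [X.Over (Spec (CommRingCat.of k))]
  [IsProper (X ↘ (Spec (CommRingCat.of k)))] [IsIntegral X]
  (hpid : ∀ x : X, IsPrincipalIdealRing (X.presheaf.stalk x))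

include k hpid in
/-- the image of a nonzero map between locally free modules is locally free of positive rank -/
theorem image_data {E F : X.Modules} {r s : ℕ} (hE : FlatMod.IsFinLocFreeOfRank r E)
    (hF : FlatMod.IsFinLocFreeOfRank s F) (f : E ⟶ F) (hf : f ≠ 0) :
    Coh.IsCoh (Abelian.image f) ∧ FlatMod.IsFinLocFreeOfRank (rk (Abelian.image f)) (Abelian.image f) ∧
      0 < rk (Abelian.image f) := by
  have := isLocallyNoetherian_of_proper k X
  have hIc : Coh.IsCoh (Abelian.image f) := isCoh_image f (isCoh_of_rank hE) (isCoh_of_rank hF)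
  refine ⟨hIc, locFree_of_mono k X hpid (Abelian.image.ι f) hIc hF, ?_⟩
  apply rk_pos hpid hIc (tf_image f (tf_of_isFinLocFree (isFinLocFree_of_rank hF)))
  intro hz
  exact hf ((isZero_image_iff f).mp hz)

include H hpid in
theorem hom_eq_zero_of_sub_slope_lt {E F : X.Modules} {r s : ℕ} (hE : FlatMod.IsFinLocFreeOfRank r E)
    (hF : FlatMod.IsFinLocFreeOfRank s F) (hEss : ModFun.IsSlopeSemistable k X E r)
    (hmax : ∀ (G : X.Modules) (r' : ℕ) (i : G ⟶ F), Mono i → 0 < r' → FlatMod.IsFinLocFreeOfRank r' G →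
      Curv2.deg k X G r' * (r : ℤ) < Curv2.deg k X E r * (r' : ℤ))
    (f : E ⟶ F) : f = 0 := by
  by_contra hf
  obtain ⟨hIc, hIlf, hIpos⟩ := image_data k X hpid hE hF f hf
  have h1 := slope_le_of_epi H k X hpid hE hEss (Abelian.factorThruImage f) hIc
  have h2 := hmax _ _ (Abelian.image.ι f) inferInstance hIpos hIlf
  linarith

include H hpid in
theorem hom_eq_zero_of_slope_gt {E F : X.Modules} {r s : ℕ} (hr : 0 < r) (hs : 0 < s)
    (hE : FlatMod.IsFinLocFreeOfRank r E)
    (hF : FlatMod.IsFinLocFreeOfRank s F) (hEss : ModFun.IsSlopeSemistable k X E r)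
    (hFss : ModFun.IsSlopeSemistable k X F s)
    (hslope : Curv2.deg k X F s * (r : ℤ) < Curv2.deg k X E r * (s : ℤ)) (f : E ⟶ F) : f = 0 := by
  apply hom_eq_zero_of_sub_slope_lt H k X hpid hE hF hEss _ f
  intro G r' i hi hr' hG
  have h1 := hFss G r' i hi hr' hG
  have hr0 : (0 : ℤ) < r := by exact_mod_cast hr
  have hs0 : (0 : ℤ) < s := by exact_mod_cast hs
  have hr'0 : (0 : ℤ) < r' := by exact_mod_cast hr'
  by_contra hcon
  rw [not_lt] at hcon
  have h3 : Curv2.deg k X G r' * (s : ℤ) * r ≤ Curv2.deg k X F s * (r' : ℤ) * r :=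
    mul_le_mul_of_nonneg_right h1 hr0.le
  have h4 : Curv2.deg k X F s * (r : ℤ) * r' < Curv2.deg k X E r * (s : ℤ) * r' :=
    mul_lt_mul_of_pos_right hslope hr'0
  have h5 : Curv2.deg k X E r * (r' : ℤ) * s ≤ Curv2.deg k X G r' * (r : ℤ) * s :=
    mul_le_mul_of_nonneg_right hcon hs0.le
  nlinarith

end Groth.Agent.Lib.CurveVB67
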