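import Groth.Agent.Lib.CurveVB67F

/-!
# Vector bundles on curves, part G: maps between stable bundles (helper67; campaign K6)

Namespace `Groth.Agent.Lib.CurveVB67`.  `H : ProperFinHyp.Hyp` is the statement of S0002.
Setting: `X` integral, proper over a field `k`, all local rings principal (`hpid`).

* `StrictStable k X E r` : every locally free submodule of positive rank whose inclusion is not an isomorphism has
  strictly smaller slope.
* `strictStable_of_slopeStable` : `ModFun.IsSlopeStable` (strict inequality for `0 < r' < r`) implies `StrictStable`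
  (`dim X ≤ 1`; same-rank proper submodules have smaller degree).
* `isIso_of_strictStable` : a nonzero map between strictly stable bundles of the same slope is an isomorphism.
-/

set_option autoImplicit false
universe u
open CategoryTheory CategoryTheory.Limits AlgebraicGeometry

namespace Groth.Agent.Lib.CurveVB67

open Groth.Agent.Lib.ModStalkLin Groth.Agent.Lib.ProperFinHyp

/-- stability tested on proper (non-isomorphic) locally free submodules of positive rank -/
def StrictStable (k : Type u) [Field k] (X : Scheme.{u}) [X.Over (Spec (CommRingCat.of k))]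
    (E : X.Modules) (r : ℕ) : Prop :=
  ∀ (G : X.Modules) (r' : ℕ) (i : G ⟶ E), Mono i → 0 < r' → FlatMod.IsFinLocFreeOfRank r' G → (¬ IsIso i) →
    Curv2.deg k X G r' * (r : ℤ) < Curv2.deg k X E r * (r' : ℤ)

variable (H : Hyp.{u}) (k : Type u) [Field k] (X : Scheme.{u}) [X.Over (Spec (CommRingCat.of k))]
  [IsProper (X ↘ (Spec (CommRingCat.of k)))] [IsIntegral X]
  (hpid : ∀ x : X, IsPrincipalIdealRing (X.presheaf.stalk x))

include H in
theorem strictStable_of_slopeStable (hdim : topologicalKrullDim X ≤ 1) {E : X.Modules} {r : ℕ} (hr : 0 < r)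
    (hE : FlatMod.IsFinLocFreeOfRank r E) (hst : ModFun.IsSlopeStable k X E r) : StrictStable k X E r := by
  intro G r' i hi hr' hG hni
  have hEc : Coh.IsCoh E := isCoh_of_rank hE
  have hGc : Coh.IsCoh G := isCoh_of_rank hG
  have h1 : r' = rk G := eq_rk_of_isFinLocFreeOfRank hG
  have h2 : r = rk E := eq_rk_of_isFinLocFreeOfRank hE
  have hle : rk G ≤ rk E := rk_le_of_mono i hEc
  rcases lt_or_eq_of_le hle with hlt | heq
  · exact hst G r' i hi hr' (by omega) hG
  · have h3 : r' = r := by omega
    subst h3
    have h4 := deg_lt_of_not_isIso H k X hdim i hGc hEc heq r' hni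
    have hr0 : (0 : ℤ) < r' := by exact_mod_cast hr'
    exact mul_lt_mul_of_pos_right h4 hr0

include H hpid in
/-- a nonzero map between strictly stable bundles of the same slope is an isomorphism -/
theorem isIso_of_strictStable {E F : X.Modules} {r s : ℕ} (hr : 0 < r) (hs : 0 < s)
    (hE : FlatMod.IsFinLocFreeOfRank r E) (hF : FlatMod.IsFinLocFreeOfRank s F)
    (hEst : StrictStable k X E r) (hFst : StrictStable k X F s)
    (hμ : Curv2.deg k X E r * (s : ℤ) = Curv2.deg k X F s * (r : ℤ)) (f : E ⟶ F) (hf : f ≠ 0) : IsIso f := by
  obtain ⟨hIc, hIlf, hIpos⟩ := image_data k X hpid hE hF f hf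
  have hI0 : ¬ IsZero (Abelian.image f) := not_isZero_of_rank_pos X hIlf hIpos
  have hr0 : (0 : ℤ) < r := by exact_mod_cast hr
  have hs0 : (0 : ℤ) < s := by exact_mod_cast hs
  have hI0' : (0 : ℤ) < rk (Abelian.image f) := by exact_mod_cast hIpos
  -- the factorisation through the image is an isomorphism
  have hπ : IsIso (Abelian.factorThruImage f) := by
    by_contra hπ
    have h1 := slope_lt_of_epi H k X hpid hE hEst (Abelian.factorThruImage f) hIc hI0 hπ
    by_cases hι : IsIso (Abelian.image.ι f)
    · have h2 : rk (Abelian.image f) = s := by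
        rw [rk_congr (asIso (Abelian.image.ι f))]
        exact (eq_rk_of_isFinLocFreeOfRank hF).symm
      have h3 := deg_congr k X (asIso (Abelian.image.ι f)) s
      rw [h2] at h1
      rw [h3] at h1
      linarith
    · have h2 := hFst _ _ (Abelian.image.ι f) inferInstance hIpos hIlf hι
      have h3 := mul_lt_mul_of_pos_right h1 hs0
      have h4 := mul_lt_mul_of_pos_right h2 hr0
      have h5 : Curv2.deg k X E r * (s : ℤ) * rk (Abelian.image f) =
          Curv2.deg k X F s * (r : ℤ) * rk (Abelian.image f) := by rw [hμ]
      nlinarith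
  -- hence the image has rank `r` and degree `deg E`
  have h2 : rk (Abelian.image f) = r := by
    rw [← rk_congr (asIso (Abelian.factorThruImage f))]
    exact (eq_rk_of_isFinLocFreeOfRank hE).symm
  have h3 := deg_congr k X (asIso (Abelian.factorThruImage f)) r
  have hι : IsIso (Abelian.image.ι f) := by
    by_contra hι
    have h4 := hFst _ _ (Abelian.image.ι f) inferInstance hIpos hIlf hι
    rw [h2, ← h3] at h4
    linarith
  rw [← Abelian.image.fac f]
  infer_instance

end Groth.Agent.Lib.CurveVB67
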