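import Groth.Agent.Lib.CurveVB67G
import Groth.Agent.Lib.H4Chase

/-!
# Vector bundles on curves, part H: submodules of extensions, saturated submodules (helper67; campaign K6)

Namespace `Groth.Agent.Lib.CurveVB67`.  `H : ProperFinHyp.Hyp` is the statement of S0002.
Setting: `X` integral, proper over a field `k`, all local rings principal (`hpid`).

* `euler_of_isZero`, `deg_of_isZero`.
* `ss_sub_le` : for `E` semistable of rank `n` and ANY coherent submodule `G` (possibly zero):
  `deg G (rk G) * n ≤ deg E n * rk G`.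
* `sub_ses_data` : a coherent submodule `G` of the middle term of a short exact sequence `T` of coherent modules gives
  coherent submodules `G₁ ⊆ T.X₁`, `G₂ ⊆ T.X₃` with `rk G = rk G₁ + rk G₂` and `deg G = deg G₁ + deg G₂`.
* `exists_sat` : for a coherent submodule `G ⊆ E` of a locally free module (`dim X = 1`) a saturation `G ⊆ G' ⊆ E`:
  `E/G'` locally free of rank `rk E - rk G`, `rk G' = rk G`, `deg G ≤ deg G'`.
-/

set_option autoImplicit false
universe u
open CategoryTheory CategoryTheory.Limits AlgebraicGeometry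

namespace Groth.Agent.Lib.CurveVB67

open Groth.Agent.Lib.ModStalkLin Groth.Agent.Lib.ProperFinHyp

theorem euler_of_isZero (k : Type u) [Field k] (X : Scheme.{u}) [X.Over (Spec (CommRingCat.of k))]
    {Z : X.Modules} (hZ : IsZero Z) : Curv2.euler k X Z = 0 := by
  unfold Curv2.euler
  apply finsum_eq_zero_of_forall_eq_zero
  intro i
  have := Groth.Agent.Lib.H4Chase.subsingleton_HH_of_isZero hZ i
  rw [Module.finrank_zero_of_subsingleton]
  simp

theorem deg_of_isZero (k : Type u) [Field k] (X : Scheme.{u}) [X.Over (Spec (CommRingCat.of k))]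
    {Z : X.Modules} (hZ : IsZero Z) : Curv2.deg k X Z 0 = 0 := by
  unfold Curv2.deg
  rw [euler_of_isZero k X hZ]
  simp

variable (H : Hyp.{u}) (k : Type u) [Field k] (X : Scheme.{u}) [X.Over (Spec (CommRingCat.of k))]
  [IsProper (X ↘ (Spec (CommRingCat.of k)))] [IsIntegral X]
  (hpid : ∀ x : X, IsPrincipalIdealRing (X.presheaf.stalk x))

include hpid in
/-- semistability applied to an arbitrary coherent submodule (possibly zero) -/
theorem ss_sub_le {E G : X.Modules} {n : ℕ} (hE : FlatMod.IsFinLocFreeOfRank n E)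
    (hss : ModFun.IsSlopeSemistable k X E n) (i : G ⟶ E) [Mono i] (hG : Coh.IsCoh G) :
    Curv2.deg k X G (rk G) * (n : ℤ) ≤ Curv2.deg k X E n * (rk G : ℤ) := by
  have := isLocallyNoetherian_of_proper k X
  rcases Nat.eq_zero_or_pos (rk G) with h0 | hpos
  · have hz : IsZero G := isZero_of_tf_of_rk_eq_zero hpid hG
      (tf_of_mono i (tf_of_isFinLocFree (isFinLocFree_of_rank hE))) h0
    rw [h0, deg_of_isZero k X hz]
    simp
  · exact hss G _ i inferInstance hpos (locFree_of_mono k X hpid i hG hE)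

include H in
/-- a coherent submodule of the middle term of a short exact sequence: intersect and project -/
theorem sub_ses_data (T : ShortComplex X.Modules) (hT : T.ShortExact)
    (h₃ : Coh.IsCoh T.X₃) {G : X.Modules} (i : G ⟶ T.X₂) [Mono i] (hG : Coh.IsCoh G) :
    ∃ (G₁ G₂ : X.Modules) (j₁ : G₁ ⟶ T.X₁) (j₂ : G₂ ⟶ T.X₃), Mono j₁ ∧ Mono j₂ ∧ Coh.IsCoh G₁ ∧ Coh.IsCoh G₂ ∧
      rk G = rk G₁ + rk G₂ ∧
      Curv2.deg k X G (rk G) = Curv2.deg k X G₁ (rk G₁) + Curv2.deg k X G₂ (rk G₂) := by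
  have := isLocallyNoetherian_of_proper k X
  have : T.X₃.IsQuasicoherent := h₃.1
  have hK : Coh.IsCoh (kernel (i ≫ T.g)) := Groth.Agent.Lib.H90OXModExact.isCoh_kernel _ hG
  have hI : Coh.IsCoh (Abelian.image (i ≫ T.g)) := isCoh_image _ hG h₃
  -- the kernel maps into `T.X₁`
  have hw : (kernel.ι (i ≫ T.g) ≫ i) ≫ T.g = 0 := by
    rw [Category.assoc, kernel.condition]
  obtain ⟨j₁, hj₁⟩ : ∃ j₁ : kernel (i ≫ T.g) ⟶ T.X₁, j₁ ≫ T.f = kernel.ι (i ≫ T.g) ≫ i :=
    ⟨hT.fIsKernel.lift (KernelFork.ofι (kernel.ι (i ≫ T.g) ≫ i) hw),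
      hT.fIsKernel.fac (KernelFork.ofι (kernel.ι (i ≫ T.g) ≫ i) hw) WalkingParallelPair.zero⟩
  have hj₁m : Mono j₁ := by
    have : Mono (j₁ ≫ T.f) := by rw [hj₁]; infer_instance
    exact mono_of_mono j₁ T.f
  -- the short exact sequence `0 → ker → G → image → 0`
  have hzero : kernel.ι (i ≫ T.g) ≫ Abelian.factorThruImage (i ≫ T.g) = 0 := by
    rw [← cancel_mono (Abelian.image.ι (i ≫ T.g)), Category.assoc, Abelian.image.fac,
      kernel.condition, zero_comp]
  have hS : (ShortComplex.mk (kernel.ι (i ≫ T.g)) (Abelian.factorThruImage (i ≫ T.g)) hzero).ShortExact := by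
    refine ShortComplex.ShortExact.mk' ?_ inferInstance inferInstance
    refine ShortComplex.exact_of_f_is_kernel _ ?_
    exact isKernelOfComp (Abelian.image.ι (i ≫ T.g)) (i ≫ T.g)
      (kernelIsKernel (i ≫ T.g)) _ (Abelian.image.fac _)
  have r1 := rk_add _ hS hK hI
  have d1 := deg_rk_add H k X _ hS hK hG hI
  simp only at r1 d1
  exact ⟨kernel (i ≫ T.g), Abelian.image (i ≫ T.g), j₁, Abelian.image.ι _, hj₁m, inferInstance, hK, hI, r1, d1⟩

include H hpid in
/-- saturation of a coherent submodule of a locally free module on a curve -/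
theorem exists_sat (hdim : topologicalKrullDim X = 1) {E G : X.Modules} {r : ℕ}
    (hE : FlatMod.IsFinLocFreeOfRank r E) (i : G ⟶ E) [Mono i] (hG : Coh.IsCoh G) :
    ∃ (G' : X.Modules) (g' : G' ⟶ E) (j : G ⟶ G'), Mono g' ∧ Mono j ∧ j ≫ g' = i ∧ Coh.IsCoh G' ∧
      FlatMod.IsFinLocFreeOfRank (rk G) G' ∧
      FlatMod.IsFinLocFreeOfRank (r - rk G) (cokernel g') ∧ rk G ≤ r ∧
      Curv2.deg k X G (rk G) ≤ Curv2.deg k X G' (rk G) ∧
      Curv2.deg k X E r = Curv2.deg k X G' (rk G) + Curv2.deg k X (cokernel g') (r - rk G) := by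
  have := isLocallyNoetherian_of_proper k X
  have := isNoetherian_of_proper k X
  have hEc : Coh.IsCoh E := isCoh_of_rank hE
  obtain ⟨G', g', j, hg', hjg, hG'c, hQc, hQtf, hrk⟩ :=
    exists_saturation (isAffineHom_ι_of_proper k X) hdim i hG hEc
  have hjm : Mono j := by
    have : Mono (j ≫ g') := by rw [hjg]; infer_instance
    exact mono_of_mono j g'
  have hS : (ShortComplex.mk g' (cokernel.π g') (cokernel.condition g')).ShortExact :=
    { exact := ShortComplex.exact_cokernel g' }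
  have hrk2 := rk_add _ hS hG'c hQc
  have hdeg := deg_rk_add H k X _ hS hG'c hEc hQc
  simp only at hrk2 hdeg
  have hrE : r = rk E := eq_rk_of_isFinLocFreeOfRank hE
  rw [← hrE] at hrk2 hdeg
  have hQr : rk (cokernel g') = r - rk G := by omega
  have hG'lf := locFree_of_mono k X hpid g' hG'c hE
  have hQlf := isFinLocFreeOfRank_of_tf hpid hQc hQtf
  rw [hrk] at hG'lf hdeg
  rw [hQr] at hQlf hdeg
  refine ⟨G', g', j, hg', hjm, hjg, hG'c, hG'lf, hQlf, by omega, ?_, hdeg⟩
  exact deg_le_of_mono H k X (le_of_eq hdim) j hG hG'c hrk.symm (rk G)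

end Groth.Agent.Lib.CurveVB67
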