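import Groth.Agent.Lib.CurveVB67H

/-!
# Vector bundles on curves, part I (helper67; campaign K6)

Namespace `Groth.Agent.Lib.CurveVB67`.  `H : ProperFinHyp.Hyp` is the statement of S0002.

* `isIso_of_semistable_of_stable` : `E`, `E'` semistable of the same rank and degree, one of them slope-stable
  (`ModFun.IsSlopeStable`); then every nonzero `E ⟶ E'` is an isomorphism.
* `isIso_endo_of_slopeStable` : nonzero endomorphisms of a slope-stable bundle are isomorphisms.
-/

set_option autoImplicit false
universe u
open CategoryTheory CategoryTheory.Limits AlgebraicGeometry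

namespace Groth.Agent.Lib.CurveVB67

open Groth.Agent.Lib.ModStalkLin Groth.Agent.Lib.ProperFinHyp

variable (H : Hyp.{u}) (k : Type u) [Field k] (X : Scheme.{u}) [X.Over (Spec (CommRingCat.of k))]
  [IsProper (X ↘ (Spec (CommRingCat.of k)))] [IsIntegral X]
  (hpid : ∀ x : X, IsPrincipalIdealRing (X.presheaf.stalk x))

include H hpid in
theorem isIso_of_semistable_of_stable (hdim : topologicalKrullDim X ≤ 1) {E E' : X.Modules} {r : ℕ}
    (hE : FlatMod.IsFinLocFreeOfRank r E) (hE' : FlatMod.IsFinLocFreeOfRank r E')
    (hdeg : Curv2.deg k X E r = Curv2.deg k X E' r)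
    (hss : ModFun.IsSlopeSemistable k X E r) (hss' : ModFun.IsSlopeSemistable k X E' r)
    (hst : ModFun.IsSlopeStable k X E r ∨ ModFun.IsSlopeStable k X E' r)
    (f : E ⟶ E') (hf : f ≠ 0) : IsIso f := by
  have := isLocallyNoetherian_of_proper k X
  have hEc : Coh.IsCoh E := isCoh_of_rank hE
  have hE'c : Coh.IsCoh E' := isCoh_of_rank hE'
  obtain ⟨hIc, hIlf, hIpos⟩ := image_data k X hpid hE hE' f hf
  have : (Abelian.image f).IsQuasicoherent := hIc.1
  set π := Abelian.factorThruImage f with hπ
  have h1 := slope_le_of_epi H k X hpid hE hss π hIc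
  have h2 := hss' _ _ (Abelian.image.ι f) inferInstance hIpos hIlf
  rw [← hdeg] at h2
  have heq : Curv2.deg k X (Abelian.image f) (rk (Abelian.image f)) * (r : ℤ) =
      Curv2.deg k X E r * (rk (Abelian.image f) : ℤ) := le_antisymm h2 h1
  -- the kernel of `π`
  have hKc : Coh.IsCoh (kernel π) := Groth.Agent.Lib.H90OXModExact.isCoh_kernel π hEc
  have hS : (ShortComplex.mk (kernel.ι π) π (kernel.condition π)).ShortExact :=
    { exact := ShortComplex.exact_kernel π }
  have hrk := rk_add _ hS hKc hIc
  have hdg := deg_rk_add H k X _ hS hKc hEc hIc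
  simp only at hrk hdg
  rw [← eq_rk_of_isFinLocFreeOfRank hE] at hrk hdg
  have hK0 : rk (kernel π) = 0 := by
    rcases hst with hst | hst
    · by_contra hne
      have hpos : 0 < rk (kernel π) := Nat.pos_of_ne_zero hne
      have hlf := locFree_of_mono k X hpid (kernel.ι π) hKc hE
      have h3 := hst _ _ (kernel.ι π) inferInstance hpos (by omega) hlf
      have h4 : (r : ℤ) = rk (kernel π) + rk (Abelian.image f) := by exact_mod_cast hrk
      have h5 : Curv2.deg k X E r * (r : ℤ) =
          Curv2.deg k X (kernel π) (rk (kernel π)) * (r : ℤ) +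
            Curv2.deg k X (Abelian.image f) (rk (Abelian.image f)) * (r : ℤ) := by
        rw [hdg]; ring
      have h6 : Curv2.deg k X E r * (r : ℤ) =
          Curv2.deg k X E r * (rk (kernel π) : ℤ) + Curv2.deg k X E r * (rk (Abelian.image f) : ℤ) := by
        rw [h4]; ring
      linarith
    · by_contra hne
      have hlt : rk (Abelian.image f) < r := by omega
      have h3 := hst _ _ (Abelian.image.ι f) inferInstance hIpos hlt hIlf
      rw [← hdeg] at h3
      linarith
  have hz : IsZero (kernel π) := isZero_of_tf_of_rk_eq_zero hpid hKc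
    (tf_kernel π (tf_of_isFinLocFree (isFinLocFree_of_rank hE))) hK0
  have hmono : Mono π := Preadditive.mono_of_isZero_kernel π hz
  have hπiso : IsIso π := isIso_of_mono_of_epi π
  -- the inclusion of the image
  have hrI : rk (Abelian.image f) = r := by omega
  have hdI := deg_congr k X (asIso π) r
  have hrkI : rk (Abelian.image f) = rk E' := by
    rw [hrI]; exact eq_rk_of_isFinLocFreeOfRank hE'
  have hι : IsIso (Abelian.image.ι f) :=
    isIso_of_deg_le H k X hdim (Abelian.image.ι f) hIc hE'c hrkI r (by
      rw [← hdeg, hdI])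
  rw [← Abelian.image.fac f]
  infer_instance

include H hpid in
theorem isIso_endo_of_slopeStable (hdim : topologicalKrullDim X ≤ 1) {E : X.Modules} {r : ℕ} (hr : 0 < r)
    (hE : FlatMod.IsFinLocFreeOfRank r E) (hst : ModFun.IsSlopeStable k X E r)
    (f : E ⟶ E) (hf : f ≠ 0) : IsIso f :=
  isIso_of_strictStable H k X hpid hr hr hE hE (strictStable_of_slopeStable H k X hdim hr hE hst)
    (strictStable_of_slopeStable H k X hdim hr hE hst) rfl f hf

end Groth.Agent.Lib.CurveVB67
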