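import Groth.Agent.Lib.CurveVB67I
import Groth.Agent.Lib.CurveVB54b

/-!
# Vector bundles on curves, part J (helper67; campaign K6): the maximal destabilising subbundle

Namespace `Groth.Agent.Lib.CurveVB67`.  `H : ProperFinHyp.Hyp` is the statement of S0002.
`X` is an integral proper curve over a field `k` all of whose local rings are principal ideal rings.

* `exists_maxSlope_maxRank` : a finite locally free `E` of rank `r ≥ 1` has a locally free submodule `E₁` of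
  maximal slope and, among those, of maximal rank (first step of the Harder–Narasimhan filtration).
* `isFinLocFreeOfRank_cokernel_of_maxSlope` : a submodule of maximal slope is saturated (the quotient is locally free).
* `quot_slope_lt` : the slopes of the submodules of `E/E₁` are `< μ(E₁)`.
* `maxDestab_unique` : two submodules with these two properties are the same subobject.
-/

set_option autoImplicit false
universe u
open CategoryTheory CategoryTheory.Limits AlgebraicGeometry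

namespace Groth.Agent.Lib.CurveVB67

open Groth.Agent.Lib.ModStalkLin Groth.Agent.Lib.ProperFinHyp

variable (H : Hyp.{u}) (k : Type u) [Field k] (X : Scheme.{u}) [X.Over (Spec (CommRingCat.of k))]
  [IsProper (X ↘ (Spec (CommRingCat.of k)))] [IsIntegral X]
  (hpid : ∀ x : X, IsPrincipalIdealRing (X.presheaf.stalk x))

include H in
theorem exists_maxSlope_maxRank (hdim : topologicalKrullDim X ≤ 1) {r : ℕ} (hr : 0 < r) {E : X.Modules}
    (hE : FlatMod.IsFinLocFreeOfRank r E) :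
    ∃ (E₁ : X.Modules) (r₁ : ℕ) (i₁ : E₁ ⟶ E), Mono i₁ ∧ 0 < r₁ ∧ FlatMod.IsFinLocFreeOfRank r₁ E₁ ∧
      (∀ (G : X.Modules) (r' : ℕ) (j : G ⟶ E), Mono j → 0 < r' → FlatMod.IsFinLocFreeOfRank r' G →
        Curv2.deg k X G r' * (r₁ : ℤ) ≤ Curv2.deg k X E₁ r₁ * (r' : ℤ)) ∧
      (∀ (G : X.Modules) (r' : ℕ) (j : G ⟶ E), Mono j → 0 < r' → FlatMod.IsFinLocFreeOfRank r' G →
        Curv2.deg k X G r' * (r₁ : ℤ) = Curv2.deg k X E₁ r₁ * (r' : ℤ) → r' ≤ r₁) := by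
  classical
  have hEc : Coh.IsCoh E := isCoh_of_rank hE
  obtain ⟨N, hN⟩ := Groth.Agent.Lib.CurveVB54b.exists_deg_le H k X hdim hE
  let P : ℕ → ℤ → Prop := fun r' d =>
    ∃ (G : X.Modules) (j : G ⟶ E), Mono j ∧ FlatMod.IsFinLocFreeOfRank r' G ∧ Curv2.deg k X G r' = d
  have hrank : ∀ (G : X.Modules) (r' : ℕ) (j : G ⟶ E), Mono j → FlatMod.IsFinLocFreeOfRank r' G → r' ≤ r := by
    intro G r' j hj hG
    rw [eq_rk_of_isFinLocFreeOfRank hG, eq_rk_of_isFinLocFreeOfRank hE]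
    exact rk_le_of_mono j hEc
  have hmax : ∀ r', (∃ d, P r' d) → ∃ d, P r' d ∧ ∀ d', P r' d' → d' ≤ d := by
    intro r' hne
    refine Int.exists_greatest_of_bdd ⟨N, ?_⟩ hne
    rintro d ⟨G, j, hj, hG, rfl⟩
    exact hN G r' j hj hG
  let R : Finset ℕ := (Finset.Icc 1 r).filter (fun r' => ∃ d, P r' d)
  have hrR : r ∈ R := by
    simp only [R, Finset.mem_filter, Finset.mem_Icc]
    exact ⟨⟨hr, le_refl _⟩, _, E, 𝟙 E, inferInstance, hE, rfl⟩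
  let dmax : ℕ → ℤ := fun r' => if h : ∃ d, P r' d then (hmax r' h).choose else 0
  have hdmax : ∀ r', (h : ∃ d, P r' d) → P r' (dmax r') ∧ ∀ d', P r' d' → d' ≤ dmax r' := by
    intro r' h
    simp only [dmax, dif_pos h]
    exact (hmax r' h).choose_spec
  let slope : ℕ → ℚ := fun r' => (dmax r' : ℚ) / r'
  obtain ⟨r₀, hr₀R, hr₀⟩ := Finset.exists_max_image R slope ⟨r, hrR⟩
  let R' : Finset ℕ := R.filter (fun r' => slope r' = slope r₀)
  have hR'ne : R'.Nonempty := ⟨r₀, by simp [R', hr₀R]⟩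
  let r₁ := R'.max' hR'ne
  have hr₁R' : r₁ ∈ R' := Finset.max'_mem R' hR'ne
  have hr₁R : r₁ ∈ R := (Finset.mem_filter.mp hr₁R').1
  have hr₁s : slope r₁ = slope r₀ := (Finset.mem_filter.mp hr₁R').2
  have hr₁P : ∃ d, P r₁ d := (Finset.mem_filter.mp hr₁R).2
  have hr₁pos : 0 < r₁ := (Finset.mem_Icc.mp (Finset.mem_filter.mp hr₁R).1).1
  obtain ⟨⟨E₁, i₁, hi₁, hE₁, hdE₁⟩, hE₁max⟩ := hdmax r₁ hr₁P
  have hr₁0 : (0 : ℚ) < r₁ := by exact_mod_cast hr₁pos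
  have key : ∀ (G : X.Modules) (r' : ℕ) (j : G ⟶ E), Mono j → 0 < r' → FlatMod.IsFinLocFreeOfRank r' G →
      r' ∈ R ∧ (Curv2.deg k X G r' : ℚ) / r' ≤ slope r' ∧ slope r' ≤ slope r₁ := by
    intro G r' j hj hr' hG
    have hP : ∃ d, P r' d := ⟨_, G, j, hj, hG, rfl⟩
    have hmem : r' ∈ R := by
      simp only [R, Finset.mem_filter, Finset.mem_Icc]
      exact ⟨⟨hr', hrank G r' j hj hG⟩, hP⟩
    have hr'0 : (0 : ℚ) < r' := by exact_mod_cast hr'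
    refine ⟨hmem, ?_, ?_⟩
    · have h1 := (hdmax r' hP).2 _ ⟨G, j, hj, hG, rfl⟩
      have h2 : (Curv2.deg k X G r' : ℚ) ≤ dmax r' := by exact_mod_cast h1
      exact div_le_div_of_nonneg_right h2 hr'0.le
    · rw [hr₁s]
      exact hr₀ r' hmem
  have toInt : ∀ (d : ℤ) (r' : ℕ), 0 < r' → (d : ℚ) / r' ≤ slope r₁ →
      d * (r₁ : ℤ) ≤ Curv2.deg k X E₁ r₁ * (r' : ℤ) := by
    intro d r' hr' h
    have hr'0 : (0 : ℚ) < r' := by exact_mod_cast hr'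
    have h1 : (d : ℚ) / r' ≤ (Curv2.deg k X E₁ r₁ : ℚ) / r₁ := by
      rw [hdE₁]; exact h
    rw [div_le_div_iff₀ hr'0 hr₁0] at h1
    exact_mod_cast h1
  have main : ∀ (G : X.Modules) (r' : ℕ) (j : G ⟶ E), Mono j → 0 < r' → FlatMod.IsFinLocFreeOfRank r' G →
      Curv2.deg k X G r' * (r₁ : ℤ) ≤ Curv2.deg k X E₁ r₁ * (r' : ℤ) := by
    intro G r' j hj hr' hG
    obtain ⟨-, h1, h2⟩ := key G r' j hj hr' hG
    exact toInt _ r' hr' (h1.trans h2)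
  refine ⟨E₁, r₁, i₁, hi₁, hr₁pos, hE₁, main, ?_⟩
  intro G r' j hj hr' hG heq
  obtain ⟨hmem, h1, h2⟩ := key G r' j hj hr' hG
  have hr'0 : (0 : ℚ) < r' := by exact_mod_cast hr'
  have h3 : (Curv2.deg k X G r' : ℚ) / r' = slope r₁ := by
    change _ = (dmax r₁ : ℚ) / r₁
    rw [← hdE₁, div_eq_div_iff hr'0.ne' hr₁0.ne']
    exact_mod_cast heq
  have h4 : slope r' = slope r₀ := by
    rw [← hr₁s]
    exact le_antisymm h2 (h3 ▸ h1)
  have h5 : r' ∈ R' := Finset.mem_filter.mpr ⟨hmem, h4⟩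
  exact Finset.le_max' R' r' h5

include H hpid in
/-- a submodule of maximal slope is saturated: the quotient is finite locally free. -/
theorem isFinLocFreeOfRank_cokernel_of_maxSlope (hdim : topologicalKrullDim X = 1) {r r₁ : ℕ} (hr₁ : 0 < r₁)
    {E E₁ : X.Modules} (hE : FlatMod.IsFinLocFreeOfRank r E) (hE₁ : FlatMod.IsFinLocFreeOfRank r₁ E₁)
    (i₁ : E₁ ⟶ E) [Mono i₁]
    (hmax : ∀ (G : X.Modules) (r' : ℕ) (j : G ⟶ E), Mono j → 0 < r' → FlatMod.IsFinLocFreeOfRank r' G →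
        Curv2.deg k X G r' * (r₁ : ℤ) ≤ Curv2.deg k X E₁ r₁ * (r' : ℤ)) :
    FlatMod.IsFinLocFreeOfRank (r - r₁) (cokernel i₁) ∧ r₁ ≤ r := by
  have := isLocallyNoetherian_of_proper k X
  have hE₁c : Coh.IsCoh E₁ := isCoh_of_rank hE₁
  have hrk₁ : r₁ = rk E₁ := eq_rk_of_isFinLocFreeOfRank hE₁
  obtain ⟨G', g', j, hg', hj, hjg, hG'c, hG'lf, hQlf, hle, hdle, -⟩ := exists_sat H k X hpid hdim hE i₁ hE₁c
  rw [← hrk₁] at hG'lf hQlf hle hdle
  have h1 := hmax G' r₁ g' hg' hr₁ hG'lf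
  have hr₁0 : (0 : ℤ) < r₁ := by exact_mod_cast hr₁
  have h2 : Curv2.deg k X G' r₁ ≤ Curv2.deg k X E₁ r₁ := le_of_mul_le_mul_right h1 hr₁0
  have hiso : IsIso j := isIso_of_deg_le H k X hdim.le j hE₁c hG'c
    (by rw [← hrk₁]; exact eq_rk_of_isFinLocFreeOfRank hG'lf) r₁ h2
  have e : cokernel i₁ ≅ cokernel g' := by
    subst hjg
    exact cokernelEpiComp j g'
  refine ⟨?_, hle⟩
  intro x
  obtain ⟨V, hV, ⟨t⟩⟩ := hQlf x
  exact ⟨V, hV, ⟨(Scheme.Modules.restrictFunctor V.ι).mapIso e ≪≫ t⟩⟩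

include H hpid in
/-- the slopes of the locally free submodules of `E/E₁` are smaller than `μ(E₁)` when `E₁` has maximal slope and
maximal rank among the submodules of maximal slope. -/
theorem quot_slope_lt {r r₁ : ℕ} (hr₁ : 0 < r₁)
    {E E₁ : X.Modules} (hE : FlatMod.IsFinLocFreeOfRank r E) (hE₁ : FlatMod.IsFinLocFreeOfRank r₁ E₁)
    (i₁ : E₁ ⟶ E) [Mono i₁]
    (hmax : ∀ (G : X.Modules) (r' : ℕ) (j : G ⟶ E), Mono j → 0 < r' → FlatMod.IsFinLocFreeOfRank r' G →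
        Curv2.deg k X G r' * (r₁ : ℤ) ≤ Curv2.deg k X E₁ r₁ * (r' : ℤ))
    (hmaxrk : ∀ (G : X.Modules) (r' : ℕ) (j : G ⟶ E), Mono j → 0 < r' → FlatMod.IsFinLocFreeOfRank r' G →
        Curv2.deg k X G r' * (r₁ : ℤ) = Curv2.deg k X E₁ r₁ * (r' : ℤ) → r' ≤ r₁)
    (Q : X.Modules) (s : ℕ) (j : Q ⟶ cokernel i₁) [Mono j] (hs : 0 < s) (hQ : FlatMod.IsFinLocFreeOfRank s Q) :
    Curv2.deg k X Q s * (r₁ : ℤ) < Curv2.deg k X E₁ r₁ * (s : ℤ) := by
  have := isLocallyNoetherian_of_proper k X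
  have hEc : Coh.IsCoh E := isCoh_of_rank hE
  have hE₁c : Coh.IsCoh E₁ := isCoh_of_rank hE₁
  have hQc : Coh.IsCoh Q := isCoh_of_rank hQ
  have : E₁.IsQuasicoherent := hE₁c.1
  have : Q.IsQuasicoherent := hQc.1
  have hCc : Coh.IsCoh (cokernel i₁) := Groth.Agent.Lib.H90OXModExact.isCoh_cokernel i₁ hEc
  have hDc : Coh.IsCoh (cokernel j) := Groth.Agent.Lib.H90OXModExact.isCoh_cokernel j hCc
  have : (cokernel j).IsQuasicoherent := hDc.1
  set p : E ⟶ cokernel j := cokernel.π i₁ ≫ cokernel.π j with hp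
  have hFc : Coh.IsCoh (kernel p) := Groth.Agent.Lib.H90OXModExact.isCoh_kernel p hEc
  have hS1 : (ShortComplex.mk i₁ (cokernel.π i₁) (cokernel.condition i₁)).ShortExact :=
    { exact := ShortComplex.exact_cokernel i₁ }
  have hS2 : (ShortComplex.mk j (cokernel.π j) (cokernel.condition j)).ShortExact :=
    { exact := ShortComplex.exact_cokernel j }
  have hS3 : (ShortComplex.mk (kernel.ι p) p (kernel.condition p)).ShortExact :=
    { exact := ShortComplex.exact_kernel p }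
  have a1 := rk_add _ hS1 hE₁c hCc
  have a2 := rk_add _ hS2 hQc hDc
  have a3 := rk_add _ hS3 hFc hDc
  have b1 := deg_rk_add H k X _ hS1 hE₁c hEc hCc
  have b2 := deg_rk_add H k X _ hS2 hQc hCc hDc
  have b3 := deg_rk_add H k X _ hS3 hFc hEc hDc
  dsimp only at a1 a2 a3 b1 b2 b3
  have hrk₁ : r₁ = rk E₁ := eq_rk_of_isFinLocFreeOfRank hE₁
  have hrkQ : s = rk Q := eq_rk_of_isFinLocFreeOfRank hQ
  rw [← hrk₁] at a1 b1
  rw [← hrkQ] at a2 b2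
  have hFlf := locFree_of_mono k X hpid (kernel.ι p) hFc hE
  have hrkF : rk (kernel p) = r₁ + s := by omega
  rw [hrkF] at hFlf b3
  have hdF : Curv2.deg k X (kernel p) (r₁ + s) = Curv2.deg k X E₁ r₁ + Curv2.deg k X Q s := by lia
  have h1 := hmax (kernel p) (r₁ + s) (kernel.ι p) inferInstance (by omega) hFlf
  have h2 := hmaxrk (kernel p) (r₁ + s) (kernel.ι p) inferInstance (by omega) hFlf
  rw [hdF] at h1 h2
  push_cast at h1 h2
  by_contra hcon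
  rw [add_mul, mul_add] at h1 h2
  have h3 : Curv2.deg k X E₁ r₁ * (r₁ : ℤ) + Curv2.deg k X Q s * (r₁ : ℤ) =
      Curv2.deg k X E₁ r₁ * (r₁ : ℤ) + Curv2.deg k X E₁ r₁ * (s : ℤ) := by
    have := not_lt.mp hcon
    linarith
  have := h2 h3
  omega

include H hpid in
/-- uniqueness of the maximal destabilising submodule, one inclusion -/
theorem maxDestab_le (hdim : topologicalKrullDim X = 1) {r r₁ r₁' : ℕ} (hr₁ : 0 < r₁) (hr₁' : 0 < r₁')
    {E E₁ E₁' : X.Modules} (hE : FlatMod.IsFinLocFreeOfRank r E) (hE₁ : FlatMod.IsFinLocFreeOfRank r₁ E₁)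
    (hE₁' : FlatMod.IsFinLocFreeOfRank r₁' E₁')
    (i₁ : E₁ ⟶ E) [Mono i₁] (i₁' : E₁' ⟶ E) [Mono i₁']
    (hmax : ∀ (G : X.Modules) (r' : ℕ) (j : G ⟶ E), Mono j → 0 < r' → FlatMod.IsFinLocFreeOfRank r' G →
        Curv2.deg k X G r' * (r₁ : ℤ) ≤ Curv2.deg k X E₁ r₁ * (r' : ℤ))
    (hquot : ∀ (Q : X.Modules) (s : ℕ) (j : Q ⟶ cokernel i₁), Mono j → 0 < s → FlatMod.IsFinLocFreeOfRank s Q →
        Curv2.deg k X Q s * (r₁ : ℤ) < Curv2.deg k X E₁ r₁ * (s : ℤ))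
    (hmax' : ∀ (G : X.Modules) (r' : ℕ) (j : G ⟶ E), Mono j → 0 < r' → FlatMod.IsFinLocFreeOfRank r' G →
        Curv2.deg k X G r' * (r₁' : ℤ) ≤ Curv2.deg k X E₁' r₁' * (r' : ℤ)) :
    ∃ u : E₁' ⟶ E₁, u ≫ i₁ = i₁' := by
  have := isLocallyNoetherian_of_proper k X
  obtain ⟨hClf, hle⟩ := isFinLocFreeOfRank_cokernel_of_maxSlope H k X hpid hdim hr₁ hE hE₁ i₁ hmax
  have hss' : ModFun.IsSlopeSemistable k X E₁' r₁' := by
    intro G r' i hi hr' hG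
    have := hi
    exact hmax' G r' (i ≫ i₁') (mono_comp i i₁') hr' hG
  have hzero : i₁' ≫ cokernel.π i₁ = 0 := by
    by_contra hf
    obtain ⟨hIc, hIlf, hIpos⟩ := image_data k X hpid hE₁' hClf (i₁' ≫ cokernel.π i₁) hf
    have : (Abelian.image (i₁' ≫ cokernel.π i₁)).IsQuasicoherent := hIc.1
    have h1 := slope_le_of_epi H k X hpid hE₁' hss' (Abelian.factorThruImage (i₁' ≫ cokernel.π i₁)) hIc
    have h2 := hquot _ _ (Abelian.image.ι (i₁' ≫ cokernel.π i₁)) inferInstance hIpos hIlf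
    have h3 := hmax E₁' r₁' i₁' inferInstance hr₁' hE₁'
    have h4 := hmax' E₁ r₁ i₁ inferInstance hr₁ hE₁
    have h5 : Curv2.deg k X E₁' r₁' * (r₁ : ℤ) = Curv2.deg k X E₁ r₁ * (r₁' : ℤ) := le_antisymm h3 h4
    have hr₁0 : (0 : ℤ) < r₁ := by exact_mod_cast hr₁
    have hr₁'0 : (0 : ℤ) < r₁' := by exact_mod_cast hr₁'
    set t : ℤ := (rk (Abelian.image (i₁' ≫ cokernel.π i₁)) : ℤ) with ht
    set dI : ℤ := Curv2.deg k X (Abelian.image (i₁' ≫ cokernel.π i₁)) (rk (Abelian.image (i₁' ≫ cokernel.π i₁)))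
      with hdI
    have g1 : Curv2.deg k X E₁' r₁' * t * (r₁ : ℤ) ≤ dI * (r₁' : ℤ) * (r₁ : ℤ) :=
      mul_le_mul_of_nonneg_right h1 hr₁0.le
    have g2 : dI * (r₁ : ℤ) * (r₁' : ℤ) < Curv2.deg k X E₁ r₁ * t * (r₁' : ℤ) :=
      mul_lt_mul_of_pos_right h2 hr₁'0
    have g3 : Curv2.deg k X E₁' r₁' * t * (r₁ : ℤ) = Curv2.deg k X E₁ r₁ * t * (r₁' : ℤ) := by
      calc Curv2.deg k X E₁' r₁' * t * (r₁ : ℤ) = (Curv2.deg k X E₁' r₁' * (r₁ : ℤ)) * t := by ring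
        _ = (Curv2.deg k X E₁ r₁ * (r₁' : ℤ)) * t := by rw [h5]
        _ = _ := by ring
    have g4 : dI * (r₁' : ℤ) * (r₁ : ℤ) = dI * (r₁ : ℤ) * (r₁' : ℤ) := by ring
    lia
  exact ⟨Abelian.monoLift i₁ i₁' hzero, Abelian.monoLift_comp i₁ i₁' hzero⟩

include H hpid in
/-- uniqueness of the maximal destabilising submodule -/
theorem maxDestab_unique (hdim : topologicalKrullDim X = 1) {r r₁ r₁' : ℕ} (hr₁ : 0 < r₁) (hr₁' : 0 < r₁')
    {E E₁ E₁' : X.Modules} (hE : FlatMod.IsFinLocFreeOfRank r E) (hE₁ : FlatMod.IsFinLocFreeOfRank r₁ E₁)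
    (hE₁' : FlatMod.IsFinLocFreeOfRank r₁' E₁')
    (i₁ : E₁ ⟶ E) [Mono i₁] (i₁' : E₁' ⟶ E) [Mono i₁']
    (hmax : ∀ (G : X.Modules) (r' : ℕ) (j : G ⟶ E), Mono j → 0 < r' → FlatMod.IsFinLocFreeOfRank r' G →
        Curv2.deg k X G r' * (r₁ : ℤ) ≤ Curv2.deg k X E₁ r₁ * (r' : ℤ))
    (hquot : ∀ (Q : X.Modules) (s : ℕ) (j : Q ⟶ cokernel i₁), Mono j → 0 < s → FlatMod.IsFinLocFreeOfRank s Q →
        Curv2.deg k X Q s * (r₁ : ℤ) < Curv2.deg k X E₁ r₁ * (s : ℤ))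
    (hmax' : ∀ (G : X.Modules) (r' : ℕ) (j : G ⟶ E), Mono j → 0 < r' → FlatMod.IsFinLocFreeOfRank r' G →
        Curv2.deg k X G r' * (r₁' : ℤ) ≤ Curv2.deg k X E₁' r₁' * (r' : ℤ))
    (hquot' : ∀ (Q : X.Modules) (s : ℕ) (j : Q ⟶ cokernel i₁'), Mono j → 0 < s → FlatMod.IsFinLocFreeOfRank s Q →
        Curv2.deg k X Q s * (r₁' : ℤ) < Curv2.deg k X E₁' r₁' * (s : ℤ)) :
    ∃ e : E₁ ≅ E₁', e.hom ≫ i₁' = i₁ := by
  obtain ⟨u, hu⟩ := maxDestab_le H k X hpid hdim hr₁ hr₁' hE hE₁ hE₁' i₁ i₁' hmax hquot hmax'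
  obtain ⟨v, hv⟩ := maxDestab_le H k X hpid hdim hr₁' hr₁ hE hE₁' hE₁ i₁' i₁ hmax' hquot' hmax
  refine ⟨⟨v, u, ?_, ?_⟩, hv⟩
  · rw [← cancel_mono i₁, Category.assoc, hu, hv, Category.id_comp]
  · rw [← cancel_mono i₁', Category.assoc, hv, hu, Category.id_comp]

end Groth.Agent.Lib.CurveVB67
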