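import Groth.Agent.Lib.CurveVB67J
import Groth.Agent.Lib.CurveH1Van54
import Groth.Agent.Lib.FreeModSch

/-!
# Vector bundles on curves, part K (helper67; campaign K6): sections of semistable bundles of degree zero

Namespace `Groth.Agent.Lib.CurveVB67`.  `H : ProperFinHyp.Hyp` is the statement of S0002.
`X` is an integral proper curve over a field `k` all of whose local rings are principal ideal rings.

* `finrank_H0_le_add` : `h⁰(X₂) ≤ h⁰(X₁) + h⁰(X₃)` for a short exact sequence of coherent modules.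
* `finrank_H0_structure_eq_one_of_section` : `h⁰(O_X) = 1` when `X` (integral, proper) has a `k`-rational point.
* `deg_structureModule`, `isFinLocFreeOfRank_one_structureModule`.
* `ofSection_ne_zero`, `exists_hom_ne_zero_of_nontrivial_H0` : a nonzero class of `H⁰(G)` gives a nonzero `O_X ⟶ G`.
* `mono_of_ne_zero_of_rank_one` : a nonzero map from a line bundle to a vector bundle is a monomorphism.
* `preimage_data` : the preimage in `E` of a submodule of `E/E₁` (rank and degree).
* `quot_semistable` : `E` semistable, `E₁ ⊂ E` of the same slope with `E/E₁` locally free ⇒ `E/E₁` semistable.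
* `h0_le_rank_of_semistable_deg_zero` : semistable of degree `0` and rank `r` ⇒ `h⁰ ≤ r` (if `h⁰(O_X) = 1`).
-/

set_option autoImplicit false
universe u
open CategoryTheory CategoryTheory.Limits AlgebraicGeometry

namespace Groth.Agent.Lib.CurveVB67

open Groth.Agent.Lib.ModStalkLin Groth.Agent.Lib.ProperFinHyp Groth.Agent.Lib.CohLES

section General

variable (H : Hyp.{u}) (k : Type u) [Field k] (X : Scheme.{u}) [X.Over (Spec (CommRingCat.of k))]
  [IsProper (X ↘ (Spec (CommRingCat.of k)))]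

include H in
theorem finrank_H0_le_add (S : ShortComplex X.Modules) (hS : S.ShortExact)
    (h₂ : Coh.IsCoh S.X₂) (h₃ : Coh.IsCoh S.X₃) :
    Module.finrank k (Coh.HH X S.X₂ 0) ≤
      Module.finrank k (Coh.HH X S.X₁ 0) + Module.finrank k (Coh.HH X S.X₃ 0) := by
  have f₂ : Module.Finite k (Coh.HH X S.X₂ 0) := H k X _ h₂ 0
  have f₃ : Module.Finite k (Coh.HH X S.X₃ 0) := H k X _ h₃ 0
  have f₁ : Module.Finite k (Coh.HH X S.X₁ 0) := finite_left_zero k hS
  have h1 := LinearMap.finrank_range_add_finrank_ker (mapₗ k S.g 0)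
  have h2 : Module.finrank k (LinearMap.ker (mapₗ k S.g 0)) ≤ Module.finrank k (Coh.HH X S.X₁ 0) := by
    rw [← range_mapₗ_f_eq_ker k hS 0]
    exact LinearMap.finrank_range_le _
  have h3 : Module.finrank k (LinearMap.range (mapₗ k S.g 0)) ≤ Module.finrank k (Coh.HH X S.X₃ 0) :=
    Submodule.finrank_le _
  omega

omit [IsProper (X ↘ (Spec (CommRingCat.of k)))] in
theorem deg_structureModule : Curv2.deg k X (Coh.structureModule X) 1 = 0 := by
  unfold Curv2.deg
  simp

omit [X.Over (Spec (CommRingCat.of k))] [IsProper (X ↘ (Spec (CommRingCat.of k)))] in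
theorem isFinLocFreeOfRank_one_structureModule : FlatMod.IsFinLocFreeOfRank 1 (Coh.structureModule X) :=
  (Groth.Agent.Lib.H90Invertible.isInvertible_iff_isFinLocFreeOfRank_one _).mp
    (Groth.Agent.Lib.H90Invertible.isInvertible_structureModule X)

omit [X.Over (Spec (CommRingCat.of k))] [IsProper (X ↘ (Spec (CommRingCat.of k)))] in
theorem toSection_zero (G : X.Modules) :
    Groth.Agent.Lib.FreeModSch.toSection (0 : Coh.structureModule X ⟶ G) = 0 := by
  have h : (0 : Coh.structureModule X ⟶ G) = 𝟙 _ ≫ 0 := by simp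
  rw [h, Groth.Agent.Lib.FreeModSch.toSection_comp, Scheme.Modules.Hom.zero_app]
  rfl

omit [X.Over (Spec (CommRingCat.of k))] [IsProper (X ↘ (Spec (CommRingCat.of k)))] in
theorem exists_hom_ne_zero_of_nontrivial_H0 (G : X.Modules) (h : ¬ Subsingleton (Coh.HH X G 0)) :
    ∃ s : Coh.structureModule X ⟶ G, s ≠ 0 := by
  have hnt : Nontrivial (Coh.HH X G 0) := not_subsingleton_iff_nontrivial.mp h
  obtain ⟨x, hx⟩ := exists_ne (0 : Coh.HH X G 0)
  refine ⟨Groth.Agent.Lib.FreeModSch.ofSection G (Groth.Agent.Lib.H4Twist.h0Equiv G x), fun h0 => hx ?_⟩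
  have h1 := Groth.Agent.Lib.FreeModSch.toSection_ofSection G (Groth.Agent.Lib.H4Twist.h0Equiv G x)
  rw [h0, toSection_zero] at h1
  exact (Groth.Agent.Lib.H4Twist.h0Equiv G).map_eq_zero_iff.mp h1.symm

include H in
/-- global functions on an integral proper scheme over a field with a rational point are constant -/
theorem finrank_H0_structure_eq_one_of_section [IsIntegral X]
    (O : Spec (CommRingCat.of k) ⟶ X) (hO : O ≫ (X ↘ Spec (CommRingCat.of k)) = 𝟙 _) :
    Module.finrank k (Coh.HH X (Coh.structureModule X) 0) = 1 := by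
  have hOinv := Groth.Agent.Lib.H90Invertible.isInvertible_structureModule X
  have hOc : Coh.IsCoh (Coh.structureModule X) := Groth.Agent.Lib.H90Invertible.isCoh_of_isInvertible hOinv
  have hfin : Module.Finite k (Coh.HH X (Coh.structureModule X) 0) := H k X _ hOc 0
  let _ : Algebra k Γ(X, ⊤) := (Coh.toGlobal (X ↘ Spec (CommRingCat.of k))).toAlgebra
  let e : Coh.HH X (Coh.structureModule X) 0 ≃+ Γ(X, ⊤) := Groth.Agent.Lib.H4Twist.h0Equiv (Coh.structureModule X)
  have he : ∀ (c : k) (x : Coh.HH X (Coh.structureModule X) 0), e (c • x) = c • e x := by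
    intro c x
    rw [smul_over_def]
    exact Groth.Agent.Lib.H4Twist.h0Equiv_smul (Coh.structureModule X) _ x
  let eₗ : Coh.HH X (Coh.structureModule X) 0 ≃ₗ[k] Γ(X, ⊤) :=
    { e with map_smul' := he }
  rw [eₗ.finrank_eq]
  have hfield : IsField Γ(X, ⊤) := isField_of_universallyClosed k (X ↘ Spec (CommRingCat.of k))
  have hnt : Nontrivial Γ(Spec (CommRingCat.of k), ⊤) :=
    (Scheme.ΓSpecIso (CommRingCat.of k)).commRingCatIsoToRingEquiv.symm.injective.nontrivial
  have hinj : Function.Injective O.appTop.hom := by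
    rw [injective_iff_map_eq_zero]
    intro w hw
    by_contra hw0
    obtain ⟨w', hw'⟩ := hfield.mul_inv_cancel hw0
    have := congrArg O.appTop.hom hw'
    rw [map_mul, hw, zero_mul, map_one] at this
    exact zero_ne_one this
  refine finrank_eq_one (1 : Γ(X, ⊤)) one_ne_zero fun w => ?_
  refine ⟨(Scheme.ΓSpecIso (CommRingCat.of k)).hom.hom (O.appTop.hom w), ?_⟩
  apply hinj
  rw [Algebra.smul_def, mul_one]
  change O.appTop.hom ((X ↘ Spec (CommRingCat.of k)).appTop.hom
    ((Scheme.ΓSpecIso (CommRingCat.of k)).inv.hom _)) = _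
  have h1 : (X ↘ Spec (CommRingCat.of k)).appTop ≫ O.appTop = 𝟙 _ := by
    rw [← Scheme.Hom.comp_appTop, hO]
    rfl
  have h2 := congrArg (fun φ => φ.hom ((Scheme.ΓSpecIso (CommRingCat.of k)).inv.hom
    ((Scheme.ΓSpecIso (CommRingCat.of k)).hom.hom (O.appTop.hom w)))) h1
  simp only [CommRingCat.hom_comp, RingHom.comp_apply, CommRingCat.hom_id, RingHom.id_apply] at h2
  rw [h2]
  exact congrArg (fun φ => φ.hom (O.appTop.hom w)) (Scheme.ΓSpecIso (CommRingCat.of k)).hom_inv_id

end General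

variable (H : Hyp.{u}) (k : Type u) [Field k] (X : Scheme.{u}) [X.Over (Spec (CommRingCat.of k))]
  [IsProper (X ↘ (Spec (CommRingCat.of k)))] [IsIntegral X]
  (hpid : ∀ x : X, IsPrincipalIdealRing (X.presheaf.stalk x))

include k hpid in
/-- a nonzero map from a line bundle to a vector bundle is a monomorphism -/
theorem mono_of_ne_zero_of_rank_one {L G : X.Modules} {r : ℕ} (hL : FlatMod.IsFinLocFreeOfRank 1 L)
    (hG : FlatMod.IsFinLocFreeOfRank r G) (s : L ⟶ G) (hs : s ≠ 0) : Mono s := by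
  have := isLocallyNoetherian_of_proper k X
  have hLc : Coh.IsCoh L := isCoh_of_rank hL
  obtain ⟨hIc, -, hIpos⟩ := image_data k X hpid hL hG s hs
  have : (Abelian.image s).IsQuasicoherent := hIc.1
  set p := Abelian.factorThruImage s with hp
  have hKc : Coh.IsCoh (kernel p) := Groth.Agent.Lib.H90OXModExact.isCoh_kernel p hLc
  have hS : (ShortComplex.mk (kernel.ι p) p (kernel.condition p)).ShortExact :=
    { exact := ShortComplex.exact_kernel p }
  have a := rk_add _ hS hKc hIc
  dsimp only at a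
  rw [← eq_rk_of_isFinLocFreeOfRank hL] at a
  have hz : IsZero (kernel p) := isZero_of_tf_of_rk_eq_zero hpid hKc
    (tf_kernel p (tf_of_isFinLocFree (isFinLocFree_of_rank hL))) (by omega)
  have : Mono p := Preadditive.mono_of_isZero_kernel p hz
  rw [← Abelian.image.fac s]
  exact mono_comp _ _

include H in
/-- the preimage in `E` of a coherent submodule `Q` of `E/E₁`: rank and degree -/
theorem preimage_data {E E₁ : X.Modules} (hE : Coh.IsCoh E) (hE₁ : Coh.IsCoh E₁) (i₁ : E₁ ⟶ E) [Mono i₁]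
    {Q : X.Modules} (hQ : Coh.IsCoh Q) (j : Q ⟶ cokernel i₁) [Mono j] :
    ∃ (F : X.Modules) (ι : F ⟶ E), Mono ι ∧ Coh.IsCoh F ∧ rk F = rk E₁ + rk Q ∧
      Curv2.deg k X F (rk F) = Curv2.deg k X E₁ (rk E₁) + Curv2.deg k X Q (rk Q) := by
  have := isLocallyNoetherian_of_proper k X
  have : E₁.IsQuasicoherent := hE₁.1
  have : Q.IsQuasicoherent := hQ.1
  have hCc : Coh.IsCoh (cokernel i₁) := Groth.Agent.Lib.H90OXModExact.isCoh_cokernel i₁ hE
  have hDc : Coh.IsCoh (cokernel j) := Groth.Agent.Lib.H90OXModExact.isCoh_cokernel j hCc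
  have : (cokernel j).IsQuasicoherent := hDc.1
  set p : E ⟶ cokernel j := cokernel.π i₁ ≫ cokernel.π j with hp
  have hFc : Coh.IsCoh (kernel p) := Groth.Agent.Lib.H90OXModExact.isCoh_kernel p hE
  have hS1 : (ShortComplex.mk i₁ (cokernel.π i₁) (cokernel.condition i₁)).ShortExact :=
    { exact := ShortComplex.exact_cokernel i₁ }
  have hS2 : (ShortComplex.mk j (cokernel.π j) (cokernel.condition j)).ShortExact :=
    { exact := ShortComplex.exact_cokernel j }
  have hS3 : (ShortComplex.mk (kernel.ι p) p (kernel.condition p)).ShortExact :=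
    { exact := ShortComplex.exact_kernel p }
  have a1 := rk_add _ hS1 hE₁ hCc
  have a2 := rk_add _ hS2 hQ hDc
  have a3 := rk_add _ hS3 hFc hDc
  have b1 := deg_rk_add H k X _ hS1 hE₁ hE hCc
  have b2 := deg_rk_add H k X _ hS2 hQ hCc hDc
  have b3 := deg_rk_add H k X _ hS3 hFc hE hDc
  dsimp only at a1 a2 a3 b1 b2 b3
  refine ⟨kernel p, kernel.ι p, inferInstance, hFc, by omega, by lia⟩

include H hpid in
/-- `E` semistable, `E₁ ⊂ E` of the same slope: the locally free submodules of `E/E₁` have slope `≤ μ(E/E₁)`. -/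
theorem quot_semistable {E E₁ : X.Modules} {r r₁ : ℕ} (hr : 0 < r) (hr₁ : r₁ ≤ r)
    (hE : FlatMod.IsFinLocFreeOfRank r E)
    (hE₁ : FlatMod.IsFinLocFreeOfRank r₁ E₁) (i₁ : E₁ ⟶ E) [Mono i₁]
    (hss : ModFun.IsSlopeSemistable k X E r)
    (hslope : Curv2.deg k X E₁ r₁ * (r : ℤ) = Curv2.deg k X E r * (r₁ : ℤ))
    (hdeg : Curv2.deg k X E r = Curv2.deg k X E₁ r₁ + Curv2.deg k X (cokernel i₁) (r - r₁)) :
    ModFun.IsSlopeSemistable k X (cokernel i₁) (r - r₁) := by
  intro F s j hj hs hF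
  have := hj
  have := isLocallyNoetherian_of_proper k X
  have hEc : Coh.IsCoh E := isCoh_of_rank hE
  have hE₁c : Coh.IsCoh E₁ := isCoh_of_rank hE₁
  have hFc : Coh.IsCoh F := isCoh_of_rank hF
  obtain ⟨F', ι, hι, hF'c, hrk, hd⟩ := preimage_data H k X hEc hE₁c i₁ hFc j
  rw [← eq_rk_of_isFinLocFreeOfRank hE₁, ← eq_rk_of_isFinLocFreeOfRank hF] at hrk hd
  have hF'lf := locFree_of_mono k X hpid ι hF'c hE
  rw [hrk] at hF'lf hd
  have h1 := hss F' (r₁ + s) ι hι (by omega) hF'lf
  rw [hd] at h1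
  push_cast at h1 ⊢
  have hr0 : (0 : ℤ) < r := by exact_mod_cast hr
  have hcast : ((r - r₁ : ℕ) : ℤ) = (r : ℤ) - (r₁ : ℤ) := by
    rw [Nat.cast_sub hr₁]
  rw [hcast]
  set d := Curv2.deg k X E r with hd_def
  set d₁ := Curv2.deg k X E₁ r₁ with hd₁_def
  set dQ := Curv2.deg k X (cokernel i₁) (r - r₁) with hdQ_def
  set f := Curv2.deg k X F s with hf_def
  -- f r ≤ d s
  have h2 : f * (r : ℤ) ≤ d * (s : ℤ) := by
    have : (d₁ + f) * (r : ℤ) = d₁ * (r : ℤ) + f * (r : ℤ) := by ring
    have : d * ((r₁ : ℤ) + (s : ℤ)) = d * (r₁ : ℤ) + d * (s : ℤ) := by ring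
    lia
  have hm : (0 : ℤ) ≤ (r : ℤ) - (r₁ : ℤ) := by
    have : (r₁ : ℤ) ≤ r := by exact_mod_cast hr₁
    lia
  have h3 : f * ((r : ℤ) - (r₁ : ℤ)) * (r : ℤ) ≤ dQ * (s : ℤ) * (r : ℤ) := by
    have e1 : f * ((r : ℤ) - (r₁ : ℤ)) * (r : ℤ) = (f * (r : ℤ)) * ((r : ℤ) - (r₁ : ℤ)) := by ring
    have e2 : dQ * (s : ℤ) * (r : ℤ) = (d * (s : ℤ)) * ((r : ℤ) - (r₁ : ℤ)) := by
      have : dQ = d - d₁ := by lia
      rw [this]
      have : (d - d₁) * (s : ℤ) * (r : ℤ) = d * (s : ℤ) * (r : ℤ) - (d₁ * (r : ℤ)) * (s : ℤ) := by ring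
      rw [this, hslope]
      ring
    rw [e1, e2]
    exact mul_le_mul_of_nonneg_right h2 hm
  exact le_of_mul_le_mul_right h3 hr0

include H hpid in
/-- a semistable bundle of degree `0` and rank `r` has `h⁰ ≤ r`, provided `h⁰(O_X) = 1`. -/
theorem h0_le_rank_of_semistable_deg_zero (hdim : topologicalKrullDim X = 1)
    (h0 : Module.finrank k (Coh.HH X (Coh.structureModule X) 0) = 1) :
    ∀ (r : ℕ) (G : X.Modules), FlatMod.IsFinLocFreeOfRank r G → Curv2.deg k X G r = 0 →
      ModFun.IsSlopeSemistable k X G r → Module.finrank k (Coh.HH X G 0) ≤ r := by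
  have := isLocallyNoetherian_of_proper k X
  intro r
  induction r with
  | zero =>
    intro G hG _ _
    have hz : IsZero G := isZero_of_tf_of_rk_eq_zero hpid (isCoh_of_rank hG)
      (tf_of_isFinLocFree (isFinLocFree_of_rank hG)) (eq_rk_of_isFinLocFreeOfRank hG).symm
    have := Groth.Agent.Lib.H4Chase.subsingleton_HH_of_isZero hz 0
    rw [Module.finrank_zero_of_subsingleton]
  | succ n ih =>
    intro G hG hdeg hss
    by_cases hsub : Subsingleton (Coh.HH X G 0)
    · rw [Module.finrank_zero_of_subsingleton]; omega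
    · obtain ⟨s, hs⟩ := exists_hom_ne_zero_of_nontrivial_H0 X G hsub
      have hO1 := isFinLocFreeOfRank_one_structureModule X
      have hOc : Coh.IsCoh (Coh.structureModule X) := isCoh_of_rank hO1
      have hGc : Coh.IsCoh G := isCoh_of_rank hG
      have hsm : Mono s := mono_of_ne_zero_of_rank_one k X hpid hO1 hG s hs
      have hrkO : 1 = rk (Coh.structureModule X) := eq_rk_of_isFinLocFreeOfRank hO1
      obtain ⟨G', g', j, hg', hj, hjg, hG'c, hG'lf, hQlf, -, hdle, hdadd⟩ :=
        exists_sat H k X hpid hdim hG s hOc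
      rw [← hrkO] at hG'lf hQlf hdle hdadd
      rw [deg_structureModule k X] at hdle
      have h1 := hss G' 1 g' hg' Nat.one_pos hG'lf
      rw [hdeg, zero_mul] at h1
      have hn0 : (0 : ℤ) < ((n + 1 : ℕ) : ℤ) := by exact_mod_cast Nat.succ_pos n
      have h2 : Curv2.deg k X G' 1 ≤ 0 := by
        by_contra hcon
        have : 0 < Curv2.deg k X G' 1 * ((n + 1 : ℕ) : ℤ) := mul_pos (not_le.mp hcon) hn0
        lia
      have hdG' : Curv2.deg k X G' 1 = 0 := le_antisymm h2 hdle
      have hiso : IsIso j := isIso_of_deg_le H k X hdim.le j hOc hG'c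
        (by rw [← hrkO]; exact eq_rk_of_isFinLocFreeOfRank hG'lf) 1
        (by rw [hdG', deg_structureModule k X])
      have e₁ : Module.finrank k (Coh.HH X G' 0) = 1 := by
        rw [← (mapEquivₗ k (asIso j) 0).finrank_eq, h0]
      have hn : n + 1 - 1 = n := by omega
      have hQss := quot_semistable H k X hpid (Nat.succ_pos n) (by omega) hG hG'lf g' hss
        (by rw [hdG', hdeg]; ring) hdadd
      rw [hn] at hQlf hdadd hQss
      have hdQ : Curv2.deg k X (cokernel g') n = 0 := by lia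
      have h3 := ih (cokernel g') hQlf hdQ hQss
      have hS : (ShortComplex.mk g' (cokernel.π g') (cokernel.condition g')).ShortExact :=
        { exact := ShortComplex.exact_cokernel g' }
      have h4 := finrank_H0_le_add H k X _ hS hGc (isCoh_of_rank hQlf)
      dsimp only at h4
      omega

end Groth.Agent.Lib.CurveVB67
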