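import Groth.Agent.Lib.CurveVB67J
import Groth.Agent.Lib.H59EulerClosed
import Groth.Agent.Lib.H90InvertiblePullback

/-!
# Vector bundles on curves, part M (helper67; campaign K6): involutions

Namespace `Groth.Agent.Lib.CurveVB67`.

For an involution `σ : X ⟶ X` (`σ ≫ σ = 𝟙 X`):
* `involIso`, `involEquiv` : `σ^* ⋙ σ^* ≅ 𝟭`, and `σ^*` as a self-inverse equivalence of `X.Modules`;
* `pushPullIso` : `σ_* ≅ σ^*`;
* `euler_pullback_invol`, `deg_pullback_invol` : `χ(σ^* F) = χ(F)`, `deg σ^*F = deg F` for `σ` over `k`;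
* `invariant_of_maxDestab` : the maximal destabilising submodule of a `σ`-linearized bundle is `σ`-invariant.
-/

set_option autoImplicit false
universe u
open CategoryTheory CategoryTheory.Limits AlgebraicGeometry

namespace Groth.Agent.Lib.CurveVB67

open Groth.Agent.Lib.ModStalkLin Groth.Agent.Lib.ProperFinHyp

section Invol

variable {X : Scheme.{u}} (σ : X ⟶ X) (hσ : σ ≫ σ = 𝟙 X)

noncomputable def involIso : Scheme.Modules.pullback σ ⋙ Scheme.Modules.pullback σ ≅ 𝟭 X.Modules :=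
  Scheme.Modules.pullbackComp σ σ ≪≫ Scheme.Modules.pullbackCongr hσ ≪≫ Scheme.Modules.pullbackId X

noncomputable def involEquiv : X.Modules ≌ X.Modules :=
  CategoryTheory.Equivalence.mk (Scheme.Modules.pullback σ) (Scheme.Modules.pullback σ) (involIso σ hσ).symm (involIso σ hσ)

include hσ in
theorem isEquivalence_pullback_invol : (Scheme.Modules.pullback σ).IsEquivalence :=
  (involEquiv σ hσ).isEquivalence_functor

noncomputable def pushPullIso : Scheme.Modules.pushforward σ ≅ Scheme.Modules.pullback σ :=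
  Adjunction.rightAdjointUniq (Scheme.Modules.pullbackPushforwardAdjunction σ) (involEquiv σ hσ).toAdjunction

include hσ in
theorem isIso_invol : IsIso σ := ⟨σ, hσ, hσ⟩

variable (k : Type u) [Field k] [X.Over (Spec (CommRingCat.of k))] [X.IsSeparated]

include hσ in
theorem euler_pullback_invol (hσS : σ ≫ (X ↘ Spec (CommRingCat.of k)) = X ↘ Spec (CommRingCat.of k))
    (F : X.Modules) [((Scheme.Modules.pullback σ).obj F).IsQuasicoherent] :
    Curv2.euler k X ((Scheme.Modules.pullback σ).obj F) = Curv2.euler k X F := by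
  have : σ.IsOver (Spec (CommRingCat.of k)) := ⟨hσS⟩
  have := isIso_invol σ hσ
  have h1 := Groth.Agent.Lib.H59EulerClosed.euler_pushforward k σ ((Scheme.Modules.pullback σ).obj F)
  rw [← h1]
  rw [Groth.Agent.Lib.H59EulerClosed.euler_congr k
    ((pushPullIso σ hσ).app ((Scheme.Modules.pullback σ).obj F))]
  exact Groth.Agent.Lib.H59EulerClosed.euler_congr k ((involIso σ hσ).app F)

end Invol

variable (H : Hyp.{u}) (k : Type u) [Field k] (X : Scheme.{u}) [X.Over (Spec (CommRingCat.of k))]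
  [IsProper (X ↘ (Spec (CommRingCat.of k)))] [IsIntegral X]
  (hpid : ∀ x : X, IsPrincipalIdealRing (X.presheaf.stalk x))

omit [IsIntegral X] in
theorem deg_pullback_invol (σ : X ⟶ X) (hσ : σ ≫ σ = 𝟙 X)
    (hσS : σ ≫ (X ↘ Spec (CommRingCat.of k)) = X ↘ Spec (CommRingCat.of k))
    {F : X.Modules} {n : ℕ} (hF : FlatMod.IsFinLocFreeOfRank n F) :
    Curv2.deg k X ((Scheme.Modules.pullback σ).obj F) n = Curv2.deg k X F n := by
  have : X.IsSeparated := Groth.Agent.Lib.H90ProperFin.isSeparated_of_over_affine (X ↘ Spec (CommRingCat.of k))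
  have hq : ((Scheme.Modules.pullback σ).obj F).IsQuasicoherent :=
    (isCoh_of_rank (Groth.Agent.Lib.H90Invertible.isFinLocFreeOfRank_pullback σ hF)).1
  unfold Curv2.deg
  rw [euler_pullback_invol σ hσ k hσS F]

include H hpid in
/-- the maximal destabilising submodule of a `σ`-linearized bundle is `σ`-invariant -/
theorem invariant_of_maxDestab (hdim : topologicalKrullDim X = 1) (σ : X ⟶ X) (hσ : σ ≫ σ = 𝟙 X)
    (hσS : σ ≫ (X ↘ Spec (CommRingCat.of k)) = X ↘ Spec (CommRingCat.of k))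
    {r r₁ : ℕ} (hr₁ : 0 < r₁) {E E₁ : X.Modules} (hE : FlatMod.IsFinLocFreeOfRank r E)
    (hE₁ : FlatMod.IsFinLocFreeOfRank r₁ E₁) (φ : (Scheme.Modules.pullback σ).obj E ≅ E)
    (i₁ : E₁ ⟶ E) [Mono i₁]
    (hmax : ∀ (G : X.Modules) (r' : ℕ) (j : G ⟶ E), Mono j → 0 < r' → FlatMod.IsFinLocFreeOfRank r' G →
        Curv2.deg k X G r' * (r₁ : ℤ) ≤ Curv2.deg k X E₁ r₁ * (r' : ℤ))
    (hquot : ∀ (Q : X.Modules) (s : ℕ) (j : Q ⟶ cokernel i₁), Mono j → 0 < s → FlatMod.IsFinLocFreeOfRank s Q →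
        Curv2.deg k X Q s * (r₁ : ℤ) < Curv2.deg k X E₁ r₁ * (s : ℤ)) :
    ∃ j : (Scheme.Modules.pullback σ).obj E₁ ⟶ E₁, j ≫ i₁ = (Scheme.Modules.pullback σ).map i₁ ≫ φ.hom := by
  have := isEquivalence_pullback_invol σ hσ
  have hm : Mono ((Scheme.Modules.pullback σ).map i₁) := inferInstance
  have hm' : Mono ((Scheme.Modules.pullback σ).map i₁ ≫ φ.hom) := mono_comp _ _
  have hE₁' := Groth.Agent.Lib.H90Invertible.isFinLocFreeOfRank_pullback σ hE₁
  have hd := deg_pullback_invol k X σ hσ hσS hE₁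
  refine maxDestab_le H k X hpid hdim hr₁ hr₁ hE hE₁ hE₁' i₁ ((Scheme.Modules.pullback σ).map i₁ ≫ φ.hom)
    hmax hquot ?_
  intro G r' j hj hr' hG
  rw [hd]
  exact hmax G r' j hj hr' hG

end Groth.Agent.Lib.CurveVB67
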