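import Groth.Agent.Lib.CurveVB67K

/-!
# Vector bundles on curves, part N (helper67; campaign K6): semistable bundles of a fixed slope form an abelian category

Namespace `Groth.Agent.Lib.CurveVB67`.  `H : ProperFinHyp.Hyp` is the statement of S0002.
`X` is an integral proper curve over a field `k` all of whose local rings are principal ideal rings; `E`, `F` are
semistable of ranks `r, s ≥ 1` and of the same slope, `f : E ⟶ F`.

* `image_slope_eq` : the image of `f` is locally free of rank `rk`, of the same slope.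
* `kernel_semistable_data` : `ker f` is locally free, of the same slope, semistable.
* `cokernel_semistable_data` : `coker f` is locally free, of the same slope, semistable.
-/

set_option autoImplicit false
universe u
open CategoryTheory CategoryTheory.Limits AlgebraicGeometry

namespace Groth.Agent.Lib.CurveVB67

open Groth.Agent.Lib.ModStalkLin Groth.Agent.Lib.ProperFinHyp Groth.Agent.Lib.CohLES

variable (H : Hyp.{u}) (k : Type u) [Field k] (X : Scheme.{u}) [X.Over (Spec (CommRingCat.of k))]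
  [IsProper (X ↘ (Spec (CommRingCat.of k)))] [IsIntegral X]
  (hpid : ∀ x : X, IsPrincipalIdealRing (X.presheaf.stalk x))

include H hpid in
theorem image_slope_eq {r s : ℕ} (hs : 0 < s) {E F : X.Modules}
    (hE : FlatMod.IsFinLocFreeOfRank r E) (hF : FlatMod.IsFinLocFreeOfRank s F)
    (hEss : ModFun.IsSlopeSemistable k X E r) (hFss : ModFun.IsSlopeSemistable k X F s)
    (hμ : Curv2.deg k X E r * (s : ℤ) = Curv2.deg k X F s * (r : ℤ)) (f : E ⟶ F) :
    Coh.IsCoh (Abelian.image f) ∧ FlatMod.IsFinLocFreeOfRank (rk (Abelian.image f)) (Abelian.image f) ∧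
      Curv2.deg k X (Abelian.image f) (rk (Abelian.image f)) * (r : ℤ) =
        Curv2.deg k X E r * (rk (Abelian.image f) : ℤ) := by
  have := isLocallyNoetherian_of_proper k X
  have hEc : Coh.IsCoh E := isCoh_of_rank hE
  have hFc : Coh.IsCoh F := isCoh_of_rank hF
  have hIc : Coh.IsCoh (Abelian.image f) := isCoh_image f hEc hFc
  have hIlf := locFree_of_mono k X hpid (Abelian.image.ι f) hIc hF
  refine ⟨hIc, hIlf, ?_⟩
  rcases Nat.eq_zero_or_pos (rk (Abelian.image f)) with h0 | hpos
  · have hz : IsZero (Abelian.image f) := isZero_of_tf_of_rk_eq_zero hpid hIc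
      (tf_image f (tf_of_isFinLocFree (isFinLocFree_of_rank hF))) h0
    rw [h0, deg_of_isZero k X hz]
    simp
  · have : (Abelian.image f).IsQuasicoherent := hIc.1
    have h1 := slope_le_of_epi H k X hpid hE hEss (Abelian.factorThruImage f) hIc
    have h2 := hFss _ _ (Abelian.image.ι f) inferInstance hpos hIlf
    have hs0 : (0 : ℤ) < s := by exact_mod_cast hs
    have hr0 : (0 : ℤ) ≤ r := Int.natCast_nonneg _
    set dI := Curv2.deg k X (Abelian.image f) (rk (Abelian.image f)) with hdI
    set t : ℤ := (rk (Abelian.image f) : ℤ) with ht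
    have h3 : dI * (r : ℤ) * (s : ℤ) ≤ Curv2.deg k X E r * t * (s : ℤ) := by
      have e1 : dI * (r : ℤ) * (s : ℤ) = dI * (s : ℤ) * (r : ℤ) := by ring
      have e2 : Curv2.deg k X E r * t * (s : ℤ) = (Curv2.deg k X E r * (s : ℤ)) * t := by ring
      rw [e1, e2, hμ]
      have e3 : Curv2.deg k X F s * (r : ℤ) * t = Curv2.deg k X F s * t * (r : ℤ) := by ring
      rw [e3]
      exact mul_le_mul_of_nonneg_right h2 hr0
    exact le_antisymm (le_of_mul_le_mul_right h3 hs0) h1

include H hpid in
theorem kernel_semistable_data {r s : ℕ} (hr : 0 < r) (hs : 0 < s) {E F : X.Modules}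
    (hE : FlatMod.IsFinLocFreeOfRank r E) (hF : FlatMod.IsFinLocFreeOfRank s F)
    (hEss : ModFun.IsSlopeSemistable k X E r) (hFss : ModFun.IsSlopeSemistable k X F s)
    (hμ : Curv2.deg k X E r * (s : ℤ) = Curv2.deg k X F s * (r : ℤ)) (f : E ⟶ F) :
    ∃ r₀ : ℕ, FlatMod.IsFinLocFreeOfRank r₀ (kernel f) ∧
        Curv2.deg k X (kernel f) r₀ * (r : ℤ) = Curv2.deg k X E r * (r₀ : ℤ) ∧
        ∀ (G : X.Modules) (n : ℕ) (j : G ⟶ kernel f), Mono j → 0 < n → FlatMod.IsFinLocFreeOfRank n G →
          Curv2.deg k X G n * (r₀ : ℤ) ≤ Curv2.deg k X (kernel f) r₀ * (n : ℤ) := by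
  have := isLocallyNoetherian_of_proper k X
  have hEc : Coh.IsCoh E := isCoh_of_rank hE
  have hFc : Coh.IsCoh F := isCoh_of_rank hF
  obtain ⟨hIc, hIlf, hslope⟩ := image_slope_eq H k X hpid hs hE hF hEss hFss hμ f
  have : (Abelian.image f).IsQuasicoherent := hIc.1
  have : F.IsQuasicoherent := hFc.1
  set p := Abelian.factorThruImage f with hp
  have hKc : Coh.IsCoh (kernel p) := Groth.Agent.Lib.H90OXModExact.isCoh_kernel p hEc
  have hKfc : Coh.IsCoh (kernel f) := Groth.Agent.Lib.H90OXModExact.isCoh_kernel f hEc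
  have hS : (ShortComplex.mk (kernel.ι p) p (kernel.condition p)).ShortExact :=
    { exact := ShortComplex.exact_kernel p }
  have a := rk_add _ hS hKc hIc
  have b := deg_rk_add H k X _ hS hKc hEc hIc
  dsimp only at a b
  have e : kernel f ≅ kernel p :=
    kernelIsoOfEq (Abelian.image.fac f).symm ≪≫ kernelCompMono p (Abelian.image.ι f)
  rw [← rk_congr e] at a b
  rw [← deg_congr k X e] at b
  rw [← eq_rk_of_isFinLocFreeOfRank hE] at a b
  have hKlf := locFree_of_mono k X hpid (kernel.ι f) hKfc hE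
  have hr0 : (0 : ℤ) < r := by exact_mod_cast hr
  have hdeg : Curv2.deg k X (kernel f) (rk (kernel f)) * (r : ℤ) =
      Curv2.deg k X E r * (rk (kernel f) : ℤ) := by
    have hcast : (r : ℤ) = (rk (kernel f) : ℤ) + (rk (Abelian.image f) : ℤ) := by exact_mod_cast a
    have e1 : Curv2.deg k X (kernel f) (rk (kernel f)) * (r : ℤ) =
        Curv2.deg k X E r * (r : ℤ) -
          Curv2.deg k X (Abelian.image f) (rk (Abelian.image f)) * (r : ℤ) := by
      rw [b]; ring
    rw [e1, hslope]
    have e2 : Curv2.deg k X E r * (r : ℤ) = Curv2.deg k X E r * ((rk (kernel f) : ℤ) + (rk (Abelian.image f) : ℤ)) := by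
      rw [← hcast]
    rw [e2]; ring
  refine ⟨rk (kernel f), hKlf, hdeg, ?_⟩
  intro G n j hj hn hG
  have := hj
  have h1 := hEss G n (j ≫ kernel.ι f) (mono_comp _ _) hn hG
  have h2 : Curv2.deg k X G n * (rk (kernel f) : ℤ) * (r : ℤ) ≤
      Curv2.deg k X (kernel f) (rk (kernel f)) * (n : ℤ) * (r : ℤ) := by
    have e1 : Curv2.deg k X G n * (rk (kernel f) : ℤ) * (r : ℤ) =
        Curv2.deg k X G n * (r : ℤ) * (rk (kernel f) : ℤ) := by ring
    have e2 : Curv2.deg k X (kernel f) (rk (kernel f)) * (n : ℤ) * (r : ℤ) =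
        Curv2.deg k X (kernel f) (rk (kernel f)) * (r : ℤ) * (n : ℤ) := by ring
    rw [e1, e2, hdeg]
    have e3 : Curv2.deg k X E r * (rk (kernel f) : ℤ) * (n : ℤ) =
        Curv2.deg k X E r * (n : ℤ) * (rk (kernel f) : ℤ) := by ring
    rw [e3]
    exact mul_le_mul_of_nonneg_right h1 (Int.natCast_nonneg _)
  exact le_of_mul_le_mul_right h2 hr0

include H hpid in
theorem cokernel_semistable_data (hdim : topologicalKrullDim X = 1) {r s : ℕ} (hr : 0 < r) (hs : 0 < s)
    {E F : X.Modules}
    (hE : FlatMod.IsFinLocFreeOfRank r E) (hF : FlatMod.IsFinLocFreeOfRank s F)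
    (hEss : ModFun.IsSlopeSemistable k X E r) (hFss : ModFun.IsSlopeSemistable k X F s)
    (hμ : Curv2.deg k X E r * (s : ℤ) = Curv2.deg k X F s * (r : ℤ)) (f : E ⟶ F) :
    ∃ s₀ : ℕ, FlatMod.IsFinLocFreeOfRank s₀ (cokernel f) ∧
        Curv2.deg k X (cokernel f) s₀ * (s : ℤ) = Curv2.deg k X F s * (s₀ : ℤ) ∧
        ∀ (G : X.Modules) (n : ℕ) (j : G ⟶ cokernel f), Mono j → 0 < n → FlatMod.IsFinLocFreeOfRank n G →
          Curv2.deg k X G n * (s₀ : ℤ) ≤ Curv2.deg k X (cokernel f) s₀ * (n : ℤ) := by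
  have := isLocallyNoetherian_of_proper k X
  have hEc : Coh.IsCoh E := isCoh_of_rank hE
  have hFc : Coh.IsCoh F := isCoh_of_rank hF
  obtain ⟨hIc, hIlf, hslope⟩ := image_slope_eq H k X hpid hs hE hF hEss hFss hμ f
  have hr0 : (0 : ℤ) < r := by exact_mod_cast hr
  have hs0 : (0 : ℤ) < s := by exact_mod_cast hs
  rcases Nat.eq_zero_or_pos (rk (Abelian.image f)) with h0 | hpos
  · have hz : IsZero (Abelian.image f) := isZero_of_tf_of_rk_eq_zero hpid hIc
      (tf_image f (tf_of_isFinLocFree (isFinLocFree_of_rank hF))) h0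
    have hf0 : f = 0 := (isZero_image_iff f).mp hz
    subst hf0
    let e : cokernel (0 : E ⟶ F) ≅ F := cokernelZeroIsoTarget
    refine ⟨s, ?_, ?_, ?_⟩
    · intro x
      obtain ⟨V, hV, ⟨t⟩⟩ := hF x
      exact ⟨V, hV, ⟨(Scheme.Modules.restrictFunctor V.ι).mapIso e ≪≫ t⟩⟩
    · rw [deg_congr k X e]
    · intro G n j hj hn hG
      have := hj
      rw [deg_congr k X e]
      exact hFss G n (j ≫ e.hom) (mono_comp _ _) hn hG
  · -- slope of the image inside `F`
    have hslopeF : Curv2.deg k X (Abelian.image f) (rk (Abelian.image f)) * (s : ℤ) =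
        Curv2.deg k X F s * (rk (Abelian.image f) : ℤ) := by
      have h3 : Curv2.deg k X (Abelian.image f) (rk (Abelian.image f)) * (s : ℤ) * (r : ℤ) =
          Curv2.deg k X F s * (rk (Abelian.image f) : ℤ) * (r : ℤ) := by
        have e1 : Curv2.deg k X (Abelian.image f) (rk (Abelian.image f)) * (s : ℤ) * (r : ℤ) =
            Curv2.deg k X (Abelian.image f) (rk (Abelian.image f)) * (r : ℤ) * (s : ℤ) := by ring
        rw [e1, hslope]
        have e2 : Curv2.deg k X E r * (rk (Abelian.image f) : ℤ) * (s : ℤ) =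
            Curv2.deg k X E r * (s : ℤ) * (rk (Abelian.image f) : ℤ) := by ring
        rw [e2, hμ]; ring
      exact mul_right_cancel₀ hr0.ne' h3
    have hmax : ∀ (G : X.Modules) (r' : ℕ) (j : G ⟶ F), Mono j → 0 < r' → FlatMod.IsFinLocFreeOfRank r' G →
        Curv2.deg k X G r' * (rk (Abelian.image f) : ℤ) ≤
          Curv2.deg k X (Abelian.image f) (rk (Abelian.image f)) * (r' : ℤ) := by
      intro G r' j hj hr' hG
      have h1 := hFss G r' j hj hr' hG
      have h2 : Curv2.deg k X G r' * (rk (Abelian.image f) : ℤ) * (s : ℤ) ≤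
          Curv2.deg k X (Abelian.image f) (rk (Abelian.image f)) * (r' : ℤ) * (s : ℤ) := by
        have e1 : Curv2.deg k X G r' * (rk (Abelian.image f) : ℤ) * (s : ℤ) =
            Curv2.deg k X G r' * (s : ℤ) * (rk (Abelian.image f) : ℤ) := by ring
        have e2 : Curv2.deg k X (Abelian.image f) (rk (Abelian.image f)) * (r' : ℤ) * (s : ℤ) =
            Curv2.deg k X (Abelian.image f) (rk (Abelian.image f)) * (s : ℤ) * (r' : ℤ) := by ring
        rw [e1, e2, hslopeF]
        have e3 : Curv2.deg k X F s * (rk (Abelian.image f) : ℤ) * (r' : ℤ) =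
            Curv2.deg k X F s * (r' : ℤ) * (rk (Abelian.image f) : ℤ) := by ring
        rw [e3]
        exact mul_le_mul_of_nonneg_right h1 (Int.natCast_nonneg _)
      exact le_of_mul_le_mul_right h2 hs0
    obtain ⟨hClf, hle⟩ := isFinLocFreeOfRank_cokernel_of_maxSlope H k X hpid hdim hpos hF hIlf
      (Abelian.image.ι f) hmax
    have : (Abelian.image f).IsQuasicoherent := hIc.1
    have hCc : Coh.IsCoh (cokernel (Abelian.image.ι f)) :=
      Groth.Agent.Lib.H90OXModExact.isCoh_cokernel (Abelian.image.ι f) hFc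
    have hS : (ShortComplex.mk (Abelian.image.ι f) (cokernel.π (Abelian.image.ι f))
        (cokernel.condition (Abelian.image.ι f))).ShortExact :=
      { exact := ShortComplex.exact_cokernel (Abelian.image.ι f) }
    have hdeg := deg_add H k X _ hS hIc hFc hCc (rk (Abelian.image f)) s (s - rk (Abelian.image f)) (by omega)
    dsimp only at hdeg
    have hQss := quot_semistable H k X hpid hs hle hF hIlf (Abelian.image.ι f) hFss hslopeF hdeg
    let e : cokernel f ≅ cokernel (Abelian.image.ι f) :=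
      cokernelIsoOfEq (Abelian.image.fac f).symm ≪≫
        cokernelEpiComp (Abelian.factorThruImage f) (Abelian.image.ι f)
    refine ⟨s - rk (Abelian.image f), ?_, ?_, ?_⟩
    · intro x
      obtain ⟨V, hV, ⟨t⟩⟩ := hClf x
      exact ⟨V, hV, ⟨(Scheme.Modules.restrictFunctor V.ι).mapIso e ≪≫ t⟩⟩
    · rw [deg_congr k X e, Nat.cast_sub hle]
      have e1 : Curv2.deg k X (cokernel (Abelian.image.ι f)) (s - rk (Abelian.image f)) =
          Curv2.deg k X F s - Curv2.deg k X (Abelian.image f) (rk (Abelian.image f)) := by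
        rw [hdeg]; ring
      rw [e1, sub_mul, hslopeF]; ring
    · intro G n j hj hn hG
      have := hj
      rw [deg_congr k X e]
      exact hQss G n (j ≫ e.hom) (mono_comp _ _) hn hG

end Groth.Agent.Lib.CurveVB67
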