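import Groth.Agent.Lib.CurveVB67L
import Groth.Agent.Lib.CurveDeg48g
import Groth.Agent.Lib.OXModRestrict
import Groth.Agent.Lib.H90InvertiblePullback
import Groth.Agent.Lib.DegTensor13

/-!
# Vector bundles on curves, part P (helper67; campaign K6): twisting by an invertible module

Namespace `Groth.Agent.Lib.CurveVB67`.

* `freeOfLE` : restriction of a trivialization to a smaller open.
* `isFinLocFreeOfRank_twist` : `G` locally free of rank `n`, `L` invertible ⇒ `G ⊗ L` locally free of rank `n`.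
* `deg_twist` : `deg (G ⊗ L) = deg G + n · deg L`.
* `whisker_eq` : `a(j ▷ L) = (- ⊗ L).map j`.
* `untwist_sub` : a locally free submodule `G ⊆ C ⊗ L` gives the locally free submodule `G ⊗ L' ⊆ C` (`L'` inverse to `L`)
  of degree `deg G - n · deg L`.
* `invariant_of_maxDestab_twist` : for `φ : E ⟶ E ⊗ L` with `deg L = 0`, the maximal destabilising submodule is
  `φ`-invariant.
-/

set_option autoImplicit false
universe u
open CategoryTheory CategoryTheory.Limits AlgebraicGeometry MonoidalCategory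

namespace Groth.Agent.Lib.CurveVB67

open Groth.Agent.Lib.ModStalkLin Groth.Agent.Lib.ProperFinHyp Groth.Agent.Lib.CohLES
open Groth.Agent.Lib.OXModTensor Groth.Agent.Lib.TwistEquiv Groth.Agent.Lib.OXModRestrict

section Local

variable {X : Scheme.{u}}

noncomputable def restrictFreeModIso {U V : Scheme.{u}} (j : V ⟶ U) [IsOpenImmersion j] (n : ℕ) :
    (Scheme.Modules.restrictFunctor j).obj (FlatMod.freeMod U n) ≅ FlatMod.freeMod V n :=
  (Scheme.Modules.restrictFunctorIsoPullback j).app _ ≪≫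
    Groth.Agent.Lib.H90Invertible.pullbackFreeModIso j n

noncomputable def freeOfLE {M : X.Modules} {U V : X.Opens} (h : V ≤ U) {n : ℕ}
    (e : M.restrict U.ι ≅ FlatMod.freeMod (↑U) n) : M.restrict V.ι ≅ FlatMod.freeMod (↑V) n :=
  (Scheme.Modules.restrictFunctorCongr (X.homOfLE_ι h).symm).app M ≪≫
    (Scheme.Modules.restrictFunctorComp (X.homOfLE h) U.ι).app M ≪≫
    (Scheme.Modules.restrictFunctor (X.homOfLE h)).mapIso e ≪≫ restrictFreeModIso (X.homOfLE h) n

theorem isFinLocFreeOfRank_twist {G L : X.Modules} {n : ℕ} (hG : FlatMod.IsFinLocFreeOfRank n G)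
    (hL : PicF.IsInvertible L) : FlatMod.IsFinLocFreeOfRank n (CohB1.tensorMod G L) := by
  intro y
  obtain ⟨U₁, hy₁, ⟨t₁⟩⟩ := hG y
  obtain ⟨U₂, hy₂, ⟨t₂⟩⟩ := hL y
  refine ⟨U₁ ⊓ U₂, ⟨hy₁, hy₂⟩, ⟨?_⟩⟩
  exact restrictTensorIso (U₁ ⊓ U₂).ι G L ≪≫
    tensorModIso (freeOfLE inf_le_left t₁) (trivOfLE inf_le_right t₂) ≪≫ rightUnitor _

theorem whisker_eq {G E : X.Modules} (j : G ⟶ E) (L : X.Modules) :
    (CohB1.sheafifyMod X).map (MonoidalCategoryStruct.whiskerRight (C := CohB1.PMod X) j.val (CohB1.toPMod L)) =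
      (tensorRightFunctor L).map j := by
  rw [tensorRightFunctor_map]
  change _ = (Groth.Agent.Lib.OXModTensorW.sh X).map ((fg X).map j ⊗ₘ (fg X).map (𝟙 L))
  rw [CategoryTheory.Functor.map_id, tensorHom_id]
  rfl

end Local

variable (H : Hyp.{u}) (k : Type u) [Field k] (X : Scheme.{u}) [X.Over (Spec (CommRingCat.of k))]
  [IsProper (X ↘ (Spec (CommRingCat.of k)))]

include H in
theorem deg_twist (hdim : topologicalKrullDim X ≤ 1) {G L : X.Modules} {n : ℕ}
    (hG : FlatMod.IsFinLocFreeOfRank n G) (hL : PicF.IsInvertible L) :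
    Curv2.deg k X (CohB1.tensorMod G L) n = Curv2.deg k X G n + (n : ℤ) * Curv2.deg k X L 1 := by
  have hL1 := (Groth.Agent.Lib.H90Invertible.isInvertible_iff_isFinLocFreeOfRank_one L).mp hL
  have h := Groth.Agent.Lib.CurveDeg48.deg_tensorMod_locFree H k X hdim n 1 G L hG hL1
  rw [mul_one] at h
  rw [h]
  push_cast
  ring

include H in
/-- untwisting a submodule: `G ⊆ C ⊗ L` gives `G ⊗ L' ⊆ C` where `L'` is the inverse of `L` -/
theorem untwist_sub (hdim : topologicalKrullDim X ≤ 1) {C G L : X.Modules} {n : ℕ}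
    (hL : PicF.IsInvertible L) (hG : FlatMod.IsFinLocFreeOfRank n G) (i : G ⟶ CohB1.tensorMod C L) [Mono i] :
    ∃ (G' : X.Modules) (i' : G' ⟶ C), Mono i' ∧ FlatMod.IsFinLocFreeOfRank n G' ∧
      Curv2.deg k X G' n = Curv2.deg k X G n - (n : ℤ) * Curv2.deg k X L 1 := by
  obtain ⟨L', hL', ⟨e⟩⟩ := Groth.Agent.Lib.H78Dual.exists_tensor_inverse hL
  let e' : CohB1.tensorMod L L' ≅ Coh.structureModule X := braiding L L' ≪≫ e
  have := isEquivalence_tensorRightFunctor e
  have hm : Mono ((tensorRightFunctor L').map i) := inferInstance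
  let ε : CohB1.tensorMod (CohB1.tensorMod C L) L' ≅ C :=
    associator C L L' ≪≫ tensorModIso (Iso.refl C) e' ≪≫ rightUnitor C
  refine ⟨CohB1.tensorMod G L', (tensorRightFunctor L').map i ≫ ε.hom,
    @mono_comp _ _ _ _ _ _ hm ε.hom (IsIso.mono_of_iso ε.hom), isFinLocFreeOfRank_twist hG hL', ?_⟩
  rw [deg_twist H k X hdim hG hL', Groth.Agent.Lib.DegTensor13.deg_eq_neg_of_iso k hdim hL ⟨e'⟩]
  ring

variable [IsIntegral X] (hpid : ∀ x : X, IsPrincipalIdealRing (X.presheaf.stalk x))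

include H hpid in
/-- for `φ : E ⟶ E ⊗ L` with `deg L = 0`, the maximal destabilising submodule of `E` is `φ`-invariant -/
theorem invariant_of_maxDestab_twist (hdim : topologicalKrullDim X = 1) {L : X.Modules}
    (hL : PicF.IsInvertible L) (hL0 : Curv2.deg k X L 1 = 0)
    {r r₁ : ℕ} (hr₁ : 0 < r₁) {E E₁ : X.Modules} (hE : FlatMod.IsFinLocFreeOfRank r E)
    (hE₁ : FlatMod.IsFinLocFreeOfRank r₁ E₁) (φ : E ⟶ CohB1.tensorMod E L)
    (i₁ : E₁ ⟶ E) [Mono i₁]
    (hmax : ∀ (G : X.Modules) (r' : ℕ) (j : G ⟶ E), Mono j → 0 < r' → FlatMod.IsFinLocFreeOfRank r' G →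
        Curv2.deg k X G r' * (r₁ : ℤ) ≤ Curv2.deg k X E₁ r₁ * (r' : ℤ))
    (hquot : ∀ (Q : X.Modules) (s : ℕ) (j : Q ⟶ cokernel i₁), Mono j → 0 < s → FlatMod.IsFinLocFreeOfRank s Q →
        Curv2.deg k X Q s * (r₁ : ℤ) < Curv2.deg k X E₁ r₁ * (s : ℤ)) :
    ∃ χ : E₁ ⟶ CohB1.tensorMod E₁ L, χ ≫ (tensorRightFunctor L).map i₁ = i₁ ≫ φ := by
  obtain ⟨hClf, hle⟩ := isFinLocFreeOfRank_cokernel_of_maxSlope H k X hpid hdim hr₁ hE hE₁ i₁ hmax
  obtain ⟨L', hL', ⟨e⟩⟩ := Groth.Agent.Lib.H78Dual.exists_tensor_inverse hL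
  let e' : CohB1.tensorMod L L' ≅ Coh.structureModule X := braiding L L' ≪≫ e
  have hS : (ShortComplex.mk i₁ (cokernel.π i₁) (cokernel.condition i₁)).ShortExact :=
    { exact := ShortComplex.exact_cokernel i₁ }
  have hS' := shortExact_map_tensorRight e' hS
  have hCL : FlatMod.IsFinLocFreeOfRank (r - r₁) (CohB1.tensorMod (cokernel i₁) L) :=
    isFinLocFreeOfRank_twist hClf hL
  have hE₁ss : ModFun.IsSlopeSemistable k X E₁ r₁ := by
    intro G r' i hi hr' hG
    have := hi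
    exact hmax G r' (i ≫ i₁) (mono_comp i i₁) hr' hG
  have hg : i₁ ≫ φ ≫ (tensorRightFunctor L).map (cokernel.π i₁) = 0 := by
    apply hom_eq_zero_of_sub_slope_lt H k X hpid hE₁ hCL hE₁ss
    intro G r' i hi hr' hG
    have := hi
    obtain ⟨G', i', hi', hG', hd⟩ := untwist_sub H k X hdim.le hL hG i
    rw [hL0, mul_zero, sub_zero] at hd
    have := hquot G' r' i' hi' hr' hG'
    rwa [hd] at this
  have hmono : Mono (ShortComplex.map (ShortComplex.mk i₁ (cokernel.π i₁) (cokernel.condition i₁))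
      (tensorRightFunctor L)).f := hS'.mono_f
  have hg' : (i₁ ≫ φ) ≫ (ShortComplex.map (ShortComplex.mk i₁ (cokernel.π i₁) (cokernel.condition i₁))
      (tensorRightFunctor L)).g = 0 := (Category.assoc _ _ _).trans hg
  refine ⟨hS'.exact.lift (i₁ ≫ φ) hg', ?_⟩
  exact hS'.exact.lift_f _ _

end Groth.Agent.Lib.CurveVB67
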