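import Groth.Agent.Lib.CurveVB67P

/-!
# Vector bundles on curves, part Q (helper67; campaign K6): twisted endomorphisms (Higgs-type pairs)

Namespace `Groth.Agent.Lib.CurveVB67`.

* `untwist_sub'` : a locally free submodule `ι : I ⟶ E ⊗ L` is `θ : I' ⊗ L ≅ I` for a locally free submodule
  `i' : I' ⟶ E` with `(i' ⊗ L) = θ ≫ ι` and `deg I' = deg I - n deg L`.
* `ker_im_invariant` : for `f : E ⟶ F` compatible with `φ : E ⟶ E ⊗ L`, `ψ : F ⟶ F ⊗ L`, the kernel of `E ⟶ im f` is
  `φ`-invariant and `im f` is `ψ`-invariant.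
-/

set_option autoImplicit false
universe u
open CategoryTheory CategoryTheory.Limits AlgebraicGeometry MonoidalCategory

namespace Groth.Agent.Lib.CurveVB67

open Groth.Agent.Lib.ModStalkLin Groth.Agent.Lib.ProperFinHyp Groth.Agent.Lib.CohLES
open Groth.Agent.Lib.OXModTensor Groth.Agent.Lib.TwistEquiv Groth.Agent.Lib.OXModRestrict

section Abstract

variable {C : Type*} [Category C] [Abelian C] (T : C ⥤ C) [T.PreservesZeroMorphisms] [PreservesFiniteLimits T]
  [PreservesFiniteColimits T]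

theorem ker_im_invariant_aux {E F : C} (f : E ⟶ F) (φ : E ⟶ T.obj E) (ψ : F ⟶ T.obj F)
    (hf : f ≫ ψ = φ ≫ T.map f) :
    (∃ χ : kernel (Abelian.factorThruImage f) ⟶ T.obj (kernel (Abelian.factorThruImage f)),
      χ ≫ T.map (kernel.ι (Abelian.factorThruImage f)) = kernel.ι (Abelian.factorThruImage f) ≫ φ) ∧
    (∃ χ : Abelian.image f ⟶ T.obj (Abelian.image f),
      χ ≫ T.map (Abelian.image.ι f) = Abelian.image.ι f ≫ ψ) := by
  set p := Abelian.factorThruImage f with hp
  set ι := Abelian.image.ι f with hι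
  have hfac : p ≫ ι = f := Abelian.image.fac f
  have hS : (ShortComplex.mk (kernel.ι p) p (kernel.condition p)).ShortExact :=
    { exact := ShortComplex.exact_kernel p }
  have hS' := hS.map_of_exact T
  have hmι : Mono (T.map ι) := inferInstance
  have hTf : T.map p ≫ T.map ι = T.map f := by
    rw [← Functor.map_comp, hfac]
  have hk : kernel.ι p ≫ f = 0 := by
    have h : kernel.ι p ≫ (p ≫ ι) = 0 := by rw [← Category.assoc, kernel.condition, zero_comp]
    rwa [hfac] at h
  have hzero : kernel.ι p ≫ φ ≫ T.map p = 0 := by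
    rw [← cancel_mono (T.map ι), zero_comp, Category.assoc, Category.assoc, hTf, ← hf,
      ← Category.assoc, hk, zero_comp]
  have hmono : Mono (ShortComplex.map (ShortComplex.mk (kernel.ι p) p (kernel.condition p)) T).f := hS'.mono_f
  have hepi : Epi (ShortComplex.mk (kernel.ι p) p (kernel.condition p)).g := hS.epi_g
  constructor
  · have hz' : (kernel.ι p ≫ φ) ≫ (ShortComplex.map (ShortComplex.mk (kernel.ι p) p (kernel.condition p)) T).g = 0 :=
      (Category.assoc _ _ _).trans hzero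
    exact ⟨hS'.exact.lift (kernel.ι p ≫ φ) hz', hS'.exact.lift_f _ _⟩
  · have hz'' : (ShortComplex.mk (kernel.ι p) p (kernel.condition p)).f ≫ (φ ≫ T.map p) = 0 := hzero
    refine ⟨hS.exact.desc (φ ≫ T.map p) hz'', ?_⟩
    have h1 : p ≫ hS.exact.desc (φ ≫ T.map p) hz'' = φ ≫ T.map p := hS.exact.g_desc _ _
    rw [← cancel_epi p, ← Category.assoc, h1, Category.assoc, hTf, ← hf, ← Category.assoc, hfac]

end Abstract

variable (H : Hyp.{u}) (k : Type u) [Field k] (X : Scheme.{u}) [X.Over (Spec (CommRingCat.of k))]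
  [IsProper (X ↘ (Spec (CommRingCat.of k)))]

include H in
theorem untwist_sub' (hdim : topologicalKrullDim X ≤ 1) {E I L : X.Modules} {n : ℕ}
    (hL : PicF.IsInvertible L) (hI : FlatMod.IsFinLocFreeOfRank n I) (ι : I ⟶ CohB1.tensorMod E L) [Mono ι] :
    ∃ (I' : X.Modules) (i' : I' ⟶ E) (θ : CohB1.tensorMod I' L ≅ I), Mono i' ∧
      (tensorRightFunctor L).map i' = θ.hom ≫ ι ∧ FlatMod.IsFinLocFreeOfRank n I' ∧
      Curv2.deg k X I' n = Curv2.deg k X I n - (n : ℤ) * Curv2.deg k X L 1 := by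
  have hι0 : Mono ι := inferInstance
  obtain ⟨L', hL', ⟨e⟩⟩ := Groth.Agent.Lib.H78Dual.exists_tensor_inverse hL
  let e' : CohB1.tensorMod L L' ≅ Coh.structureModule X := braiding L L' ≪≫ e
  have hT := isEquivalence_tensorRightFunctor e'
  let T := tensorRightFunctor (X := X) L
  let I' := T.objPreimage I
  let θ : T.obj I' ≅ I := T.objObjPreimageIso I
  let i' : I' ⟶ E := T.preimage (θ.hom ≫ ι)
  have hi' : T.map i' = θ.hom ≫ ι := T.map_preimage _
  have hm : Mono (T.map i') := by
    rw [hi']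
    exact @mono_comp _ _ _ _ _ θ.hom inferInstance ι hι0
  have hmono : Mono i' := T.mono_of_mono_map hm
  -- `I' ≅ I ⊗ L'`
  let ε : I' ≅ CohB1.tensorMod I L' :=
    (rightUnitor I').symm ≪≫ tensorModIso (Iso.refl I') e'.symm ≪≫ (associator I' L L').symm ≪≫
      tensorModIso θ (Iso.refl L')
  have hlf : FlatMod.IsFinLocFreeOfRank n (CohB1.tensorMod I L') := isFinLocFreeOfRank_twist hI hL'
  have hI'lf : FlatMod.IsFinLocFreeOfRank n I' := by
    intro x
    obtain ⟨V, hV, ⟨t⟩⟩ := hlf x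
    exact ⟨V, hV, ⟨(Scheme.Modules.restrictFunctor V.ι).mapIso ε ≪≫ t⟩⟩
  refine ⟨I', i', θ, hmono, hi', hI'lf, ?_⟩
  rw [Groth.Agent.Lib.DegTensor13.deg_congr k hdim ε, deg_twist H k X hdim hI hL',
    Groth.Agent.Lib.DegTensor13.deg_eq_neg_of_iso k hdim hL ⟨e'⟩]
  ring

set_option maxHeartbeats 1600000 in
omit [X.Over (Spec (CommRingCat.of k))] [IsProper (X ↘ (Spec (CommRingCat.of k)))] in
/-- kernel and image of a morphism of twisted pairs are invariant -/
theorem ker_im_invariant {L : X.Modules} (hL : PicF.IsInvertible L) {E F : X.Modules} (f : E ⟶ F)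
    (φ : E ⟶ CohB1.tensorMod E L) (ψ : F ⟶ CohB1.tensorMod F L)
    (hf : f ≫ ψ = φ ≫ (tensorRightFunctor L).map f) :
    (∃ χ : kernel (Abelian.factorThruImage f) ⟶ CohB1.tensorMod (kernel (Abelian.factorThruImage f)) L,
      χ ≫ (tensorRightFunctor L).map (kernel.ι (Abelian.factorThruImage f)) =
        kernel.ι (Abelian.factorThruImage f) ≫ φ) ∧
    (∃ χ : Abelian.image f ⟶ CohB1.tensorMod (Abelian.image f) L,
      χ ≫ (tensorRightFunctor L).map (Abelian.image.ι f) = Abelian.image.ι f ≫ ψ) := by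
  obtain ⟨L', hL', ⟨e⟩⟩ := Groth.Agent.Lib.H78Dual.exists_tensor_inverse hL
  let e' : CohB1.tensorMod L L' ≅ Coh.structureModule X := braiding L L' ≪≫ e
  have hT := isEquivalence_tensorRightFunctor e'
  have hlim : PreservesFiniteLimits (tensorRightFunctor (X := X) L) := inferInstance
  have hcolim : PreservesFiniteColimits (tensorRightFunctor (X := X) L) := inferInstance
  exact ker_im_invariant_aux (C := X.Modules) (tensorRightFunctor L) f φ ψ hf

end Groth.Agent.Lib.CurveVB67
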