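import Groth.Agent.Lib.CurveVB67Q
import Groth.Agent.Lib.CurveMaxSub

/-!
# Vector bundles on curves, part R (helper67; campaign K6): invariant submodules of twisted pairs

Namespace `Groth.Agent.Lib.CurveVB67`.

* `exists_invariant_of_comp_zero_aux`, `comp_zero_of_invariant_aux`, `exists_induced_cokernel_aux` : abstract
  (exact endofunctor `T`) criteria for invariance of a subobject under `φ : E ⟶ T E`.
* `exists_section_of_retraction` : a retraction of `g` gives a section of `cokernel.π g` (biproduct structure).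
* `exists_invariant_of_split_aux` : invariance of the complement.
* `exists_invariant_of_comp_zero`, `exists_invariant_of_split` : the same for `T = - ⊗ L`, `L` invertible, in the form
  used in the statements (`sheafifyMod.map (j.val ▷ L)`).
* `nonempty_tensor_self_iso` : `Q ≅ N ⊗ L`, `N ≅ Q ⊗ L` with `Q` invertible gives `L ⊗ L ≅ O_X`.
-/

set_option autoImplicit false
universe u
open CategoryTheory CategoryTheory.Limits AlgebraicGeometry MonoidalCategory

namespace Groth.Agent.Lib.CurveVB67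

open Groth.Agent.Lib.ModStalkLin Groth.Agent.Lib.ProperFinHyp Groth.Agent.Lib.CohLES
open Groth.Agent.Lib.OXModTensor Groth.Agent.Lib.TwistEquiv Groth.Agent.Lib.OXModRestrict

section Abstract

variable {C : Type*} [Category C] [Abelian C]

/-- a retraction of `g` gives a section of `cokernel.π g`, with the biproduct identities -/
theorem exists_section_of_retraction {N E : C} (g : N ⟶ E) (p : E ⟶ N) (hgp : g ≫ p = 𝟙 N) :
    ∃ σ : cokernel g ⟶ E, σ ≫ cokernel.π g = 𝟙 _ ∧ σ ≫ p = 0 ∧ p ≫ g + cokernel.π g ≫ σ = 𝟙 E := by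
  have h0 : g ≫ (𝟙 E - p ≫ g) = 0 := by
    rw [Preadditive.comp_sub, Category.comp_id, ← Category.assoc, hgp, Category.id_comp, sub_self]
  refine ⟨cokernel.desc g (𝟙 E - p ≫ g) h0, ?_, ?_, ?_⟩
  · rw [← cancel_epi (cokernel.π g), ← Category.assoc, cokernel.π_desc, Preadditive.sub_comp,
      Category.id_comp, Category.assoc, cokernel.condition, comp_zero, sub_zero, Category.comp_id]
  · rw [← cancel_epi (cokernel.π g), ← Category.assoc, cokernel.π_desc, comp_zero, Preadditive.sub_comp,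
      Category.id_comp, Category.assoc, hgp, Category.comp_id, sub_self]
  · rw [cokernel.π_desc]
    abel

variable (T : C ⥤ C) [T.PreservesZeroMorphisms] [PreservesFiniteLimits T] [PreservesFiniteColimits T]

/-- `g : N ⟶ E` is `φ`-invariant as soon as `N ⟶ E ⟶ T E ⟶ T (E / N)` vanishes -/
theorem exists_invariant_of_comp_zero_aux {N E : C} (g : N ⟶ E) [Mono g] (φ : E ⟶ T.obj E)
    (h : g ≫ φ ≫ T.map (cokernel.π g) = 0) : ∃ χ : N ⟶ T.obj N, χ ≫ T.map g = g ≫ φ := by
  have hS : (ShortComplex.mk g (cokernel.π g) (cokernel.condition g)).ShortExact :=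
    { exact := ShortComplex.exact_cokernel g }
  have hS' := hS.map_of_exact T
  have hmono : Mono (ShortComplex.map (ShortComplex.mk g (cokernel.π g) (cokernel.condition g)) T).f := hS'.mono_f
  have hg' : (g ≫ φ) ≫ (ShortComplex.map (ShortComplex.mk g (cokernel.π g) (cokernel.condition g)) T).g = 0 :=
    (Category.assoc _ _ _).trans h
  exact ⟨hS'.exact.lift (g ≫ φ) hg', hS'.exact.lift_f _ _⟩

omit [PreservesFiniteLimits T] [PreservesFiniteColimits T] in
theorem comp_zero_of_invariant_aux {N E : C} (g : N ⟶ E) (φ : E ⟶ T.obj E) (χ : N ⟶ T.obj N)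
    (h : χ ≫ T.map g = g ≫ φ) : g ≫ φ ≫ T.map (cokernel.π g) = 0 := by
  rw [← Category.assoc, ← h, Category.assoc, ← T.map_comp, cokernel.condition, T.map_zero, comp_zero]

omit [PreservesFiniteLimits T] [PreservesFiniteColimits T] in
/-- the induced map on the quotient by an invariant subobject -/
theorem exists_induced_cokernel_aux {N E : C} (g : N ⟶ E) (φ : E ⟶ T.obj E) (χ : N ⟶ T.obj N)
    (h : χ ≫ T.map g = g ≫ φ) :
    ∃ φ' : cokernel g ⟶ T.obj (cokernel g), cokernel.π g ≫ φ' = φ ≫ T.map (cokernel.π g) :=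
  ⟨cokernel.desc g (φ ≫ T.map (cokernel.π g)) (comp_zero_of_invariant_aux T g φ χ h), cokernel.π_desc _ _ _⟩

/-- invariance of a complement -/
theorem exists_invariant_of_split_aux {N Q E : C} (g : N ⟶ E) (σ : Q ⟶ E) (p : E ⟶ N) (π : E ⟶ Q)
    (hσπ : σ ≫ π = 𝟙 Q) (hid : p ≫ g + π ≫ σ = 𝟙 E) (φ : E ⟶ T.obj E) (h : σ ≫ φ ≫ T.map p = 0) :
    ∃ χ : Q ⟶ T.obj Q, χ ≫ T.map σ = σ ≫ φ := by
  have hm : Mono σ := mono_of_mono_fac hσπ
  apply exists_invariant_of_comp_zero_aux T σ φ
  have h1 : cokernel.π σ = p ≫ g ≫ cokernel.π σ := by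
    have h2 : (p ≫ g + π ≫ σ) ≫ cokernel.π σ = cokernel.π σ := by rw [hid, Category.id_comp]
    rw [Preadditive.add_comp, Category.assoc, Category.assoc, cokernel.condition, comp_zero, add_zero] at h2
    exact h2.symm
  rw [h1, T.map_comp, ← Category.assoc φ, ← Category.assoc σ, h, zero_comp]

end Abstract

variable {X : Scheme.{u}}

/-- `T = - ⊗ L` for invertible `L`, in the statement form -/
theorem exists_invariant_of_comp_zero {L : X.Modules} (hL : PicF.IsInvertible L) {N E : X.Modules} (g : N ⟶ E) [Mono g]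
    (φ : E ⟶ CohB1.tensorMod E L)
    (h : g ≫ φ ≫ (tensorRightFunctor L).map (cokernel.π g) = 0) :
    ∃ χ : N ⟶ CohB1.tensorMod N L,
      χ ≫ (CohB1.sheafifyMod X).map (MonoidalCategoryStruct.whiskerRight (C := CohB1.PMod X) g.val (CohB1.toPMod L)) =
        g ≫ φ := by
  obtain ⟨L', hL', ⟨e⟩⟩ := Groth.Agent.Lib.H78Dual.exists_tensor_inverse hL
  let e' : CohB1.tensorMod L L' ≅ Coh.structureModule X := braiding L L' ≪≫ e
  have hT := isEquivalence_tensorRightFunctor e'
  have hlim : PreservesFiniteLimits (tensorRightFunctor (X := X) L) := inferInstance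
  have hcolim : PreservesFiniteColimits (tensorRightFunctor (X := X) L) := inferInstance
  obtain ⟨χ, hχ⟩ := exists_invariant_of_comp_zero_aux (C := X.Modules) (tensorRightFunctor L) g φ h
  exact ⟨χ, (congrArg (fun t => χ ≫ t) (whisker_eq g L)).trans hχ⟩

theorem comp_zero_of_invariant {L : X.Modules} {N E : X.Modules} (g : N ⟶ E)
    (φ : E ⟶ CohB1.tensorMod E L) (χ : N ⟶ CohB1.tensorMod N L)
    (h : χ ≫ (CohB1.sheafifyMod X).map (MonoidalCategoryStruct.whiskerRight (C := CohB1.PMod X) g.val (CohB1.toPMod L)) =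
        g ≫ φ) :
    g ≫ φ ≫ (tensorRightFunctor L).map (cokernel.π g) = 0 :=
  comp_zero_of_invariant_aux (C := X.Modules) (tensorRightFunctor L) g φ χ
    ((congrArg (fun t => χ ≫ t) (whisker_eq g L)).symm.trans h)

theorem exists_invariant_of_split {L : X.Modules} (hL : PicF.IsInvertible L) {N Q E : X.Modules}
    (g : N ⟶ E) (σ : Q ⟶ E) (p : E ⟶ N) (π : E ⟶ Q)
    (hσπ : σ ≫ π = 𝟙 Q) (hid : p ≫ g + π ≫ σ = 𝟙 E) (φ : E ⟶ CohB1.tensorMod E L)
    (h : σ ≫ φ ≫ (tensorRightFunctor L).map p = 0) :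
    ∃ χ : Q ⟶ CohB1.tensorMod Q L,
      χ ≫ (CohB1.sheafifyMod X).map (MonoidalCategoryStruct.whiskerRight (C := CohB1.PMod X) σ.val (CohB1.toPMod L)) =
        σ ≫ φ := by
  obtain ⟨L', hL', ⟨e⟩⟩ := Groth.Agent.Lib.H78Dual.exists_tensor_inverse hL
  let e' : CohB1.tensorMod L L' ≅ Coh.structureModule X := braiding L L' ≪≫ e
  have hT := isEquivalence_tensorRightFunctor e'
  have hlim : PreservesFiniteLimits (tensorRightFunctor (X := X) L) := inferInstance
  have hcolim : PreservesFiniteColimits (tensorRightFunctor (X := X) L) := inferInstance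
  obtain ⟨χ, hχ⟩ := exists_invariant_of_split_aux (C := X.Modules) (tensorRightFunctor L) g σ p π hσπ hid φ h
  exact ⟨χ, (congrArg (fun t => χ ≫ t) (whisker_eq σ L)).trans hχ⟩

/-- `Q ≅ N ⊗ L` and `N ≅ Q ⊗ L` with `Q` invertible force `L ⊗ L ≅ O_X` -/
theorem nonempty_tensor_self_iso {L N Q : X.Modules} (hQ : PicF.IsInvertible Q)
    (a : Q ≅ CohB1.tensorMod N L) (b : N ≅ CohB1.tensorMod Q L) :
    Nonempty (CohB1.tensorMod L L ≅ Coh.structureModule X) := by
  obtain ⟨Q', hQ', ⟨e⟩⟩ := Groth.Agent.Lib.H78Dual.exists_tensor_inverse hQ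
  let θ : Q ≅ CohB1.tensorMod Q (CohB1.tensorMod L L) :=
    a ≪≫ tensorModIso b (Iso.refl L) ≪≫ associator Q L L
  exact ⟨(leftUnitor (CohB1.tensorMod L L)).symm ≪≫ tensorModIso e.symm (Iso.refl _) ≪≫
    associator Q' Q (CohB1.tensorMod L L) ≪≫ tensorModIso (Iso.refl Q') θ.symm ≪≫ e⟩

end Groth.Agent.Lib.CurveVB67
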