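import Groth.Agent.Lib.CurveVB67R
import Groth.Agent.Lib.CurveVB67K

/-!
# Vector bundles on curves, part S (helper67; campaign K6): twisted pairs `(E, φ : E ⟶ E ⊗ L)`, saturation and quotients

Namespace `Groth.Agent.Lib.CurveVB67`.

* `Inv L φ j` : the subobject `j : G ⟶ E` is `φ`-invariant (`∃ χ, χ ≫ (j ⊗ L) = j ≫ φ`); `inv_iff` compares with the
  form `sheafifyMod.map (j.val ▷ L)` of the statements.
* `hom_eq_zero_of_rk_zero_of_tf` : a map from a coherent module of generic rank `0` to a torsion-free one vanishes.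
* `inv_preimage` : the preimage in `E` of an invariant submodule of `E / E₁` (for an induced `φ'`) is invariant.
* `exists_sat_inv` : the saturation of an invariant submodule is invariant.
-/

set_option autoImplicit false
universe u
open CategoryTheory CategoryTheory.Limits AlgebraicGeometry MonoidalCategory

namespace Groth.Agent.Lib.CurveVB67

open Groth.Agent.Lib.ModStalkLin Groth.Agent.Lib.ProperFinHyp Groth.Agent.Lib.CohLES
open Groth.Agent.Lib.OXModTensor Groth.Agent.Lib.TwistEquiv Groth.Agent.Lib.OXModRestrict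

section Abstract

variable {C : Type*} [Category C] [Abelian C]
variable (T : C ⥤ C) [T.PreservesZeroMorphisms] [PreservesFiniteLimits T] [PreservesFiniteColimits T]

/-- the preimage of an invariant subobject of the quotient is invariant -/
theorem exists_invariant_preimage_aux {E₁ E Q : C} (i₁ : E₁ ⟶ E) (φ : E ⟶ T.obj E)
    (φ' : cokernel i₁ ⟶ T.obj (cokernel i₁)) (hφ' : cokernel.π i₁ ≫ φ' = φ ≫ T.map (cokernel.π i₁))
    (j : Q ⟶ cokernel i₁) [Mono j] (ψ : Q ⟶ T.obj Q) (hψ : ψ ≫ T.map j = j ≫ φ') :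
    ∃ χ : kernel (cokernel.π i₁ ≫ cokernel.π j) ⟶ T.obj (kernel (cokernel.π i₁ ≫ cokernel.π j)),
      χ ≫ T.map (kernel.ι (cokernel.π i₁ ≫ cokernel.π j)) = kernel.ι (cokernel.π i₁ ≫ cokernel.π j) ≫ φ := by
  set p := cokernel.π i₁ ≫ cokernel.π j with hp
  have hS : (ShortComplex.mk (kernel.ι p) p (kernel.condition p)).ShortExact :=
    { exact := ShortComplex.exact_kernel p }
  have hS' := hS.map_of_exact T
  have h1 : (kernel.ι p ≫ cokernel.π i₁) ≫ cokernel.π j = 0 := by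
    rw [Category.assoc]; exact kernel.condition p
  obtain ⟨l, hl⟩ : ∃ l : kernel p ⟶ Q, l ≫ j = kernel.ι p ≫ cokernel.π i₁ :=
    ⟨Abelian.monoLift j (kernel.ι p ≫ cokernel.π i₁) h1, Abelian.monoLift_comp _ _ _⟩
  have hzero : kernel.ι p ≫ φ ≫ T.map p = 0 := by
    calc kernel.ι p ≫ φ ≫ T.map p
        = kernel.ι p ≫ (φ ≫ T.map (cokernel.π i₁)) ≫ T.map (cokernel.π j) := by
          rw [hp, T.map_comp, Category.assoc]
      _ = (kernel.ι p ≫ cokernel.π i₁) ≫ φ' ≫ T.map (cokernel.π j) := by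
          rw [← hφ', Category.assoc, Category.assoc]
      _ = l ≫ (j ≫ φ') ≫ T.map (cokernel.π j) := by
          rw [← hl, Category.assoc, Category.assoc]
      _ = l ≫ ψ ≫ T.map (j ≫ cokernel.π j) := by
          rw [← hψ, Category.assoc, T.map_comp]
      _ = 0 := by rw [cokernel.condition, T.map_zero, comp_zero, comp_zero]
  have hmono : Mono (ShortComplex.map (ShortComplex.mk (kernel.ι p) p (kernel.condition p)) T).f := hS'.mono_f
  have hz' : (kernel.ι p ≫ φ) ≫ (ShortComplex.map (ShortComplex.mk (kernel.ι p) p (kernel.condition p)) T).g = 0 :=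
    (Category.assoc _ _ _).trans hzero
  exact ⟨hS'.exact.lift (kernel.ι p ≫ φ) hz', hS'.exact.lift_f _ _⟩

omit [PreservesFiniteLimits T] [PreservesFiniteColimits T] in
/-- the obstruction to invariance of a bigger subobject factors through the quotient -/
theorem exists_factor_cokernel_aux {G G' E : C} (i : G ⟶ E) (g' : G' ⟶ E) (j : G ⟶ G') (hjg : j ≫ g' = i)
    (φ : E ⟶ T.obj E) (χ : G ⟶ T.obj G) (hχ : χ ≫ T.map i = i ≫ φ) :
    ∃ d : cokernel j ⟶ T.obj (cokernel g'), cokernel.π j ≫ d = g' ≫ φ ≫ T.map (cokernel.π g') := by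
  have h0 : j ≫ g' ≫ φ ≫ T.map (cokernel.π g') = 0 := by
    rw [← Category.assoc, hjg, ← Category.assoc, ← hχ, Category.assoc, ← T.map_comp, ← hjg, Category.assoc,
      cokernel.condition, comp_zero, T.map_zero, comp_zero]
  exact ⟨cokernel.desc j _ h0, cokernel.π_desc _ _ _⟩

omit [Abelian C] [T.PreservesZeroMorphisms] [PreservesFiniteLimits T] [PreservesFiniteColimits T] in
/-- invariance is transitive -/
theorem invariant_comp_aux {K E₁ E : C} (κ : K ⟶ E₁) (i₁ : E₁ ⟶ E) (φ₁ : E₁ ⟶ T.obj E₁) (φ : E ⟶ T.obj E)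
    (h₁ : φ₁ ≫ T.map i₁ = i₁ ≫ φ) (χ : K ⟶ T.obj K) (hχ : χ ≫ T.map κ = κ ≫ φ₁) :
    χ ≫ T.map (κ ≫ i₁) = (κ ≫ i₁) ≫ φ := by
  rw [T.map_comp, ← Category.assoc, hχ, Category.assoc, h₁, Category.assoc]

end Abstract

section Pair

variable {X : Scheme.{u}}

/-- `j : G ⟶ E` is invariant under `φ : E ⟶ E ⊗ L` -/
def Inv (L : X.Modules) {G E : X.Modules} (φ : E ⟶ CohB1.tensorMod E L) (j : G ⟶ E) : Prop :=
  ∃ χ : G ⟶ CohB1.tensorMod G L, χ ≫ (tensorRightFunctor L).map j = j ≫ φ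

theorem inv_iff (L : X.Modules) {G E : X.Modules} (φ : E ⟶ CohB1.tensorMod E L) (j : G ⟶ E) :
    Inv L φ j ↔ ∃ χ : G ⟶ CohB1.tensorMod G L,
      χ ≫ (CohB1.sheafifyMod X).map (MonoidalCategoryStruct.whiskerRight (C := CohB1.PMod X) j.val (CohB1.toPMod L)) =
        j ≫ φ := by
  constructor
  · rintro ⟨χ, hχ⟩
    exact ⟨χ, (congrArg (fun t => χ ≫ t) (whisker_eq j L)).trans hχ⟩
  · rintro ⟨χ, hχ⟩
    exact ⟨χ, (congrArg (fun t => χ ≫ t) (whisker_eq j L)).symm.trans hχ⟩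

theorem inv_of_whisker {L : X.Modules} {G E : X.Modules} {φ : E ⟶ CohB1.tensorMod E L} {j : G ⟶ E}
    (χ : G ⟶ CohB1.tensorMod G L)
    (hχ : χ ≫ (CohB1.sheafifyMod X).map (MonoidalCategoryStruct.whiskerRight (C := CohB1.PMod X) j.val (CohB1.toPMod L)) =
        j ≫ φ) : Inv L φ j :=
  (inv_iff L φ j).mpr ⟨χ, hχ⟩

theorem inv_id (L : X.Modules) {E : X.Modules} (φ : E ⟶ CohB1.tensorMod E L) : Inv L φ (𝟙 E) :=
  ⟨φ, by rw [CategoryTheory.Functor.map_id]; exact (Category.comp_id φ).trans (Category.id_comp φ).symm⟩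

theorem inv_comp {L : X.Modules} {K E₁ E : X.Modules} {φ : E ⟶ CohB1.tensorMod E L}
    (κ : K ⟶ E₁) (i₁ : E₁ ⟶ E) (φ₁ : E₁ ⟶ CohB1.tensorMod E₁ L)
    (h₁ : φ₁ ≫ (tensorRightFunctor L).map i₁ = i₁ ≫ φ) (hκ : Inv L φ₁ κ) : Inv L φ (κ ≫ i₁) := by
  obtain ⟨χ, hχ⟩ := hκ
  exact ⟨χ, invariant_comp_aux (C := X.Modules) (tensorRightFunctor L) κ i₁ φ₁ φ h₁ χ hχ⟩

theorem inv_of_comp_zero {L : X.Modules} (hL : PicF.IsInvertible L) {N E : X.Modules} (g : N ⟶ E) [Mono g]
    (φ : E ⟶ CohB1.tensorMod E L)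
    (h : g ≫ φ ≫ (tensorRightFunctor L).map (cokernel.π g) = 0) : Inv L φ g :=
  (inv_iff L φ g).mpr (exists_invariant_of_comp_zero hL g φ h)

/-- the preimage of an invariant submodule of the quotient is invariant -/
theorem inv_preimage {L : X.Modules} (hL : PicF.IsInvertible L) {E₁ E Q : X.Modules} (i₁ : E₁ ⟶ E)
    (φ : E ⟶ CohB1.tensorMod E L)
    (φ' : cokernel i₁ ⟶ CohB1.tensorMod (cokernel i₁) L)
    (hφ' : cokernel.π i₁ ≫ φ' = φ ≫ (tensorRightFunctor L).map (cokernel.π i₁))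
    (j : Q ⟶ cokernel i₁) [Mono j] (hj : Inv L φ' j) :
    Inv L φ (kernel.ι (cokernel.π i₁ ≫ cokernel.π j)) := by
  obtain ⟨ψ, hψ⟩ := hj
  obtain ⟨L', hL', ⟨e⟩⟩ := Groth.Agent.Lib.H78Dual.exists_tensor_inverse hL
  let e' : CohB1.tensorMod L L' ≅ Coh.structureModule X := braiding L L' ≪≫ e
  have hT := isEquivalence_tensorRightFunctor e'
  have hlim : PreservesFiniteLimits (tensorRightFunctor (X := X) L) := inferInstance
  have hcolim : PreservesFiniteColimits (tensorRightFunctor (X := X) L) := inferInstance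
  exact exists_invariant_preimage_aux (C := X.Modules) (tensorRightFunctor L) i₁ φ φ' hφ' j ψ hψ

end Pair

section Curve

variable (H : Hyp.{u}) (k : Type u) [Field k] (X : Scheme.{u}) [X.Over (Spec (CommRingCat.of k))]
  [IsProper (X ↘ (Spec (CommRingCat.of k)))] [IsIntegral X]
  (hpid : ∀ x : X, IsPrincipalIdealRing (X.presheaf.stalk x))

include k hpid in
/-- a map from a coherent module of generic rank `0` to a torsion-free coherent module vanishes -/
theorem hom_eq_zero_of_rk_zero_of_tf {A M : X.Modules} (hA : Coh.IsCoh A) (hM : Coh.IsCoh M) (hrk : rk A = 0)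
    (htf : TF M) (f : A ⟶ M) : f = 0 := by
  have := isLocallyNoetherian_of_proper k X
  have hIc := isCoh_image f hA hM
  have hItf := tf_image f htf
  have hle : rk (Abelian.image f) ≤ rk A := rk_le_of_epi (Abelian.factorThruImage f) hA
  have hz := isZero_of_tf_of_rk_eq_zero hpid hIc hItf (by omega)
  exact (isZero_image_iff f).mp hz

include H hpid in
/-- saturation of an invariant coherent submodule of a locally free module on a curve -/
theorem exists_sat_inv (hdim : topologicalKrullDim X = 1) {L : X.Modules} (hL : PicF.IsInvertible L)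
    {E G : X.Modules} {r : ℕ}
    (hE : FlatMod.IsFinLocFreeOfRank r E) (φ : E ⟶ CohB1.tensorMod E L)
    (i : G ⟶ E) [Mono i] (hG : Coh.IsCoh G) (hinv : Inv L φ i) :
    ∃ (G' : X.Modules) (g' : G' ⟶ E) (j : G ⟶ G'), Mono g' ∧ Mono j ∧ j ≫ g' = i ∧ Coh.IsCoh G' ∧
      FlatMod.IsFinLocFreeOfRank (rk G) G' ∧
      FlatMod.IsFinLocFreeOfRank (r - rk G) (cokernel g') ∧ rk G ≤ r ∧
      Curv2.deg k X G (rk G) ≤ Curv2.deg k X G' (rk G) ∧
      Curv2.deg k X E r = Curv2.deg k X G' (rk G) + Curv2.deg k X (cokernel g') (r - rk G) ∧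
      Inv L φ g' := by
  have := isLocallyNoetherian_of_proper k X
  obtain ⟨G', g', j, hg', hj, hjg, hG'c, hG'lf, hQlf, hle, hdle, hdeg⟩ := exists_sat H k X hpid hdim hE i hG
  refine ⟨G', g', j, hg', hj, hjg, hG'c, hG'lf, hQlf, hle, hdle, hdeg, ?_⟩
  obtain ⟨χ, hχ⟩ := hinv
  obtain ⟨d, hd⟩ := exists_factor_cokernel_aux (C := X.Modules) (tensorRightFunctor L) i g' j hjg φ χ hχ
  have : G.IsQuasicoherent := hG.1
  have hCjc : Coh.IsCoh (cokernel j) := Groth.Agent.Lib.H90OXModExact.isCoh_cokernel j hG'c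
  have hrkj : rk (cokernel j) = 0 :=
    rk_cokernel_eq_zero X j hG hG'c (eq_rk_of_isFinLocFreeOfRank hG'lf)
  have hTlf : FlatMod.IsFinLocFreeOfRank (r - rk G) (CohB1.tensorMod (cokernel g') L) :=
    isFinLocFreeOfRank_twist hQlf hL
  have hd0 : d = 0 := hom_eq_zero_of_rk_zero_of_tf k X hpid hCjc (isCoh_of_rank hTlf) hrkj
    (tf_of_isFinLocFree (isFinLocFree_of_rank hTlf)) d
  apply inv_of_comp_zero hL g' φ
  exact hd.symm.trans (by rw [hd0, comp_zero])

include H hpid in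
/-- the preimage in `E` of a locally free submodule `Q` of `E / E₁`, as a kernel: rank and degree -/
theorem preimage_kernel_data {E E₁ : X.Modules} {r r₁ s : ℕ} (hE : FlatMod.IsFinLocFreeOfRank r E)
    (hE₁ : FlatMod.IsFinLocFreeOfRank r₁ E₁) (i₁ : E₁ ⟶ E) [Mono i₁]
    {Q : X.Modules} (hQ : FlatMod.IsFinLocFreeOfRank s Q) (j : Q ⟶ cokernel i₁) [Mono j] :
    FlatMod.IsFinLocFreeOfRank (r₁ + s) (kernel (cokernel.π i₁ ≫ cokernel.π j)) ∧
      Curv2.deg k X (kernel (cokernel.π i₁ ≫ cokernel.π j)) (r₁ + s) =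
        Curv2.deg k X E₁ r₁ + Curv2.deg k X Q s := by
  have := isLocallyNoetherian_of_proper k X
  have hEc : Coh.IsCoh E := isCoh_of_rank hE
  have hE₁c : Coh.IsCoh E₁ := isCoh_of_rank hE₁
  have hQc : Coh.IsCoh Q := isCoh_of_rank hQ
  have : E₁.IsQuasicoherent := hE₁c.1
  have : Q.IsQuasicoherent := hQc.1
  have hCc : Coh.IsCoh (cokernel i₁) := Groth.Agent.Lib.H90OXModExact.isCoh_cokernel i₁ hEc
  have hDc : Coh.IsCoh (cokernel j) := Groth.Agent.Lib.H90OXModExact.isCoh_cokernel j hCc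
  have : (cokernel j).IsQuasicoherent := hDc.1
  set p : E ⟶ cokernel j := cokernel.π i₁ ≫ cokernel.π j with hp
  have hFc : Coh.IsCoh (kernel p) := Groth.Agent.Lib.H90OXModExact.isCoh_kernel p hEc
  have hS1 : (ShortComplex.mk i₁ (cokernel.π i₁) (cokernel.condition i₁)).ShortExact :=
    { exact := ShortComplex.exact_cokernel i₁ }
  have hS2 : (ShortComplex.mk j (cokernel.π j) (cokernel.condition j)).ShortExact :=
    { exact := ShortComplex.exact_cokernel j }
  have hS3 : (ShortComplex.mk (kernel.ι p) p (kernel.condition p)).ShortExact :=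
    { exact := ShortComplex.exact_kernel p }
  have a1 := rk_add _ hS1 hE₁c hCc
  have a2 := rk_add _ hS2 hQc hDc
  have a3 := rk_add _ hS3 hFc hDc
  have b1 := deg_rk_add H k X _ hS1 hE₁c hEc hCc
  have b2 := deg_rk_add H k X _ hS2 hQc hCc hDc
  have b3 := deg_rk_add H k X _ hS3 hFc hEc hDc
  dsimp only at a1 a2 a3 b1 b2 b3
  have hrk₁ : r₁ = rk E₁ := eq_rk_of_isFinLocFreeOfRank hE₁
  have hrkQ : s = rk Q := eq_rk_of_isFinLocFreeOfRank hQ
  rw [← hrk₁] at a1 b1
  rw [← hrkQ] at a2 b2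
  have hFlf := locFree_of_mono k X hpid (kernel.ι p) hFc hE
  have hrkF : rk (kernel p) = r₁ + s := by omega
  rw [hrkF] at hFlf b3
  exact ⟨hFlf, by lia⟩

end Curve

end Groth.Agent.Lib.CurveVB67
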