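import Groth.Agent.Lib.CurveVB67S
import Groth.Agent.Lib.CurveVB67J

/-!
# Vector bundles on curves, part T (helper67; campaign K6): first Harder–Narasimhan step for a class of submodules

Namespace `Groth.Agent.Lib.CurveVB67`.

* `exists_maxSlope_maxRank_pred` : among the locally free submodules of `E` satisfying a predicate `Pr` (with `Pr E 𝟙`),
  there is one of maximal slope and, among those, of maximal rank.
* `pair_cokernel_locFree_of_maxSlope` : an invariant submodule of maximal slope among the invariant ones is saturated.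
* `pair_quot_slope_lt` : the invariant submodules of the quotient have smaller slope.
* `pair_hom_quot_eq_zero` : a morphism of pairs `E₁ ⟶ E / E₁` vanishes.
-/

set_option autoImplicit false
universe u
open CategoryTheory CategoryTheory.Limits AlgebraicGeometry MonoidalCategory

namespace Groth.Agent.Lib.CurveVB67

open Groth.Agent.Lib.ModStalkLin Groth.Agent.Lib.ProperFinHyp Groth.Agent.Lib.CohLES
open Groth.Agent.Lib.OXModTensor Groth.Agent.Lib.TwistEquiv Groth.Agent.Lib.OXModRestrict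

variable (H : Hyp.{u}) (k : Type u) [Field k] (X : Scheme.{u}) [X.Over (Spec (CommRingCat.of k))]
  [IsProper (X ↘ (Spec (CommRingCat.of k)))] [IsIntegral X]
  (hpid : ∀ x : X, IsPrincipalIdealRing (X.presheaf.stalk x))

include H in
theorem exists_maxSlope_maxRank_pred (hdim : topologicalKrullDim X ≤ 1) {r : ℕ} (hr : 0 < r) {E : X.Modules}
    (hE : FlatMod.IsFinLocFreeOfRank r E) (Pr : ∀ (G : X.Modules), (G ⟶ E) → Prop) (hPr : Pr E (𝟙 E)) :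
    ∃ (E₁ : X.Modules) (r₁ : ℕ) (i₁ : E₁ ⟶ E), Mono i₁ ∧ 0 < r₁ ∧ FlatMod.IsFinLocFreeOfRank r₁ E₁ ∧ Pr E₁ i₁ ∧
      (∀ (G : X.Modules) (r' : ℕ) (j : G ⟶ E), Mono j → 0 < r' → FlatMod.IsFinLocFreeOfRank r' G → Pr G j →
        Curv2.deg k X G r' * (r₁ : ℤ) ≤ Curv2.deg k X E₁ r₁ * (r' : ℤ)) ∧
      (∀ (G : X.Modules) (r' : ℕ) (j : G ⟶ E), Mono j → 0 < r' → FlatMod.IsFinLocFreeOfRank r' G → Pr G j →
        Curv2.deg k X G r' * (r₁ : ℤ) = Curv2.deg k X E₁ r₁ * (r' : ℤ) → r' ≤ r₁) := by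
  classical
  have hEc : Coh.IsCoh E := isCoh_of_rank hE
  obtain ⟨N, hN⟩ := Groth.Agent.Lib.CurveVB54b.exists_deg_le H k X hdim hE
  let P : ℕ → ℤ → Prop := fun r' d =>
    ∃ (G : X.Modules) (j : G ⟶ E), Mono j ∧ FlatMod.IsFinLocFreeOfRank r' G ∧ Pr G j ∧ Curv2.deg k X G r' = d
  have hrank : ∀ (G : X.Modules) (r' : ℕ) (j : G ⟶ E), Mono j → FlatMod.IsFinLocFreeOfRank r' G → r' ≤ r := by
    intro G r' j hj hG
    rw [eq_rk_of_isFinLocFreeOfRank hG, eq_rk_of_isFinLocFreeOfRank hE]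
    exact rk_le_of_mono j hEc
  have hmax : ∀ r', (∃ d, P r' d) → ∃ d, P r' d ∧ ∀ d', P r' d' → d' ≤ d := by
    intro r' hne
    refine Int.exists_greatest_of_bdd ⟨N, ?_⟩ hne
    rintro d ⟨G, j, hj, hG, -, rfl⟩
    exact hN G r' j hj hG
  let R : Finset ℕ := (Finset.Icc 1 r).filter (fun r' => ∃ d, P r' d)
  have hrR : r ∈ R := by
    simp only [R, Finset.mem_filter, Finset.mem_Icc]
    exact ⟨⟨hr, le_refl _⟩, _, E, 𝟙 E, inferInstance, hE, hPr, rfl⟩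
  let dmax : ℕ → ℤ := fun r' => if h : ∃ d, P r' d then (hmax r' h).choose else 0
  have hdmax : ∀ r', (h : ∃ d, P r' d) → P r' (dmax r') ∧ ∀ d', P r' d' → d' ≤ dmax r' := by
    intro r' h
    simp only [dmax, dif_pos h]
    exact (hmax r' h).choose_spec
  let slope : ℕ → ℚ := fun r' => (dmax r' : ℚ) / r'
  obtain ⟨r₀, hr₀R, hr₀⟩ := Finset.exists_max_image R slope ⟨r, hrR⟩
  let R' : Finset ℕ := R.filter (fun r' => slope r' = slope r₀)
  have hR'ne : R'.Nonempty := ⟨r₀, by simp [R', hr₀R]⟩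
  let r₁ := R'.max' hR'ne
  have hr₁R' : r₁ ∈ R' := Finset.max'_mem R' hR'ne
  have hr₁R : r₁ ∈ R := (Finset.mem_filter.mp hr₁R').1
  have hr₁s : slope r₁ = slope r₀ := (Finset.mem_filter.mp hr₁R').2
  have hr₁P : ∃ d, P r₁ d := (Finset.mem_filter.mp hr₁R).2
  have hr₁pos : 0 < r₁ := (Finset.mem_Icc.mp (Finset.mem_filter.mp hr₁R).1).1
  obtain ⟨⟨E₁, i₁, hi₁, hE₁, hE₁Pr, hdE₁⟩, hE₁max⟩ := hdmax r₁ hr₁P
  have hr₁0 : (0 : ℚ) < r₁ := by exact_mod_cast hr₁pos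
  have key : ∀ (G : X.Modules) (r' : ℕ) (j : G ⟶ E), Mono j → 0 < r' → FlatMod.IsFinLocFreeOfRank r' G → Pr G j →
      r' ∈ R ∧ (Curv2.deg k X G r' : ℚ) / r' ≤ slope r' ∧ slope r' ≤ slope r₁ := by
    intro G r' j hj hr' hG hGP
    have hP : ∃ d, P r' d := ⟨_, G, j, hj, hG, hGP, rfl⟩
    have hmem : r' ∈ R := by
      simp only [R, Finset.mem_filter, Finset.mem_Icc]
      exact ⟨⟨hr', hrank G r' j hj hG⟩, hP⟩
    have hr'0 : (0 : ℚ) < r' := by exact_mod_cast hr'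
    refine ⟨hmem, ?_, ?_⟩
    · have h1 := (hdmax r' hP).2 _ ⟨G, j, hj, hG, hGP, rfl⟩
      have h2 : (Curv2.deg k X G r' : ℚ) ≤ dmax r' := by exact_mod_cast h1
      exact div_le_div_of_nonneg_right h2 hr'0.le
    · rw [hr₁s]
      exact hr₀ r' hmem
  have toInt : ∀ (d : ℤ) (r' : ℕ), 0 < r' → (d : ℚ) / r' ≤ slope r₁ →
      d * (r₁ : ℤ) ≤ Curv2.deg k X E₁ r₁ * (r' : ℤ) := by
    intro d r' hr' h
    have hr'0 : (0 : ℚ) < r' := by exact_mod_cast hr'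
    have h1 : (d : ℚ) / r' ≤ (Curv2.deg k X E₁ r₁ : ℚ) / r₁ := by
      rw [hdE₁]; exact h
    rw [div_le_div_iff₀ hr'0 hr₁0] at h1
    exact_mod_cast h1
  have main : ∀ (G : X.Modules) (r' : ℕ) (j : G ⟶ E), Mono j → 0 < r' → FlatMod.IsFinLocFreeOfRank r' G → Pr G j →
      Curv2.deg k X G r' * (r₁ : ℤ) ≤ Curv2.deg k X E₁ r₁ * (r' : ℤ) := by
    intro G r' j hj hr' hG hGP
    obtain ⟨-, h1, h2⟩ := key G r' j hj hr' hG hGP
    exact toInt _ r' hr' (h1.trans h2)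
  refine ⟨E₁, r₁, i₁, hi₁, hr₁pos, hE₁, hE₁Pr, main, ?_⟩
  intro G r' j hj hr' hG hGP heq
  obtain ⟨hmem, h1, h2⟩ := key G r' j hj hr' hG hGP
  have hr'0 : (0 : ℚ) < r' := by exact_mod_cast hr'
  have h3 : (Curv2.deg k X G r' : ℚ) / r' = slope r₁ := by
    change _ = (dmax r₁ : ℚ) / r₁
    rw [← hdE₁, div_eq_div_iff hr'0.ne' hr₁0.ne']
    exact_mod_cast heq
  have h4 : slope r' = slope r₀ := by
    rw [← hr₁s]
    exact le_antisymm h2 (h3 ▸ h1)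
  have h5 : r' ∈ R' := Finset.mem_filter.mpr ⟨hmem, h4⟩
  exact Finset.le_max' R' r' h5

include H hpid in
/-- an invariant submodule of maximal slope among the invariant ones is saturated -/
theorem pair_cokernel_locFree_of_maxSlope (hdim : topologicalKrullDim X = 1) {L : X.Modules}
    (hL : PicF.IsInvertible L) {r r₁ : ℕ} (hr₁ : 0 < r₁)
    {E E₁ : X.Modules} (hE : FlatMod.IsFinLocFreeOfRank r E) (hE₁ : FlatMod.IsFinLocFreeOfRank r₁ E₁)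
    (φ : E ⟶ CohB1.tensorMod E L) (i₁ : E₁ ⟶ E) [Mono i₁] (hinv : Inv L φ i₁)
    (hmax : ∀ (G : X.Modules) (r' : ℕ) (j : G ⟶ E), Mono j → 0 < r' → FlatMod.IsFinLocFreeOfRank r' G →
        Inv L φ j → Curv2.deg k X G r' * (r₁ : ℤ) ≤ Curv2.deg k X E₁ r₁ * (r' : ℤ)) :
    FlatMod.IsFinLocFreeOfRank (r - r₁) (cokernel i₁) ∧ r₁ ≤ r := by
  have := isLocallyNoetherian_of_proper k X
  have hE₁c : Coh.IsCoh E₁ := isCoh_of_rank hE₁
  have hrk₁ : r₁ = rk E₁ := eq_rk_of_isFinLocFreeOfRank hE₁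
  obtain ⟨G', g', j, hg', hj, hjg, hG'c, hG'lf, hQlf, hle, hdle, -, hinv'⟩ :=
    exists_sat_inv H k X hpid hdim hL hE φ i₁ hE₁c hinv
  rw [← hrk₁] at hG'lf hQlf hle hdle
  have h1 := hmax G' r₁ g' hg' hr₁ hG'lf hinv'
  have hr₁0 : (0 : ℤ) < r₁ := by exact_mod_cast hr₁
  have h2 : Curv2.deg k X G' r₁ ≤ Curv2.deg k X E₁ r₁ := le_of_mul_le_mul_right h1 hr₁0
  have hiso : IsIso j := isIso_of_deg_le H k X hdim.le j hE₁c hG'c
    (by rw [← hrk₁]; exact eq_rk_of_isFinLocFreeOfRank hG'lf) r₁ h2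
  have e : cokernel i₁ ≅ cokernel g' := by
    subst hjg
    exact cokernelEpiComp j g'
  refine ⟨?_, hle⟩
  intro x
  obtain ⟨V, hV, ⟨t⟩⟩ := hQlf x
  exact ⟨V, hV, ⟨(Scheme.Modules.restrictFunctor V.ι).mapIso e ≪≫ t⟩⟩

include H hpid in
/-- the invariant submodules of `E / E₁` have slope `< μ(E₁)` -/
theorem pair_quot_slope_lt {L : X.Modules} (hL : PicF.IsInvertible L) {r r₁ : ℕ} (hr₁ : 0 < r₁)
    {E E₁ : X.Modules} (hE : FlatMod.IsFinLocFreeOfRank r E) (hE₁ : FlatMod.IsFinLocFreeOfRank r₁ E₁)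
    (φ : E ⟶ CohB1.tensorMod E L) (i₁ : E₁ ⟶ E) [Mono i₁]
    (φ' : cokernel i₁ ⟶ CohB1.tensorMod (cokernel i₁) L)
    (hφ' : cokernel.π i₁ ≫ φ' = φ ≫ (tensorRightFunctor L).map (cokernel.π i₁))
    (hmax : ∀ (G : X.Modules) (r' : ℕ) (j : G ⟶ E), Mono j → 0 < r' → FlatMod.IsFinLocFreeOfRank r' G →
        Inv L φ j → Curv2.deg k X G r' * (r₁ : ℤ) ≤ Curv2.deg k X E₁ r₁ * (r' : ℤ))
    (hmaxrk : ∀ (G : X.Modules) (r' : ℕ) (j : G ⟶ E), Mono j → 0 < r' → FlatMod.IsFinLocFreeOfRank r' G →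
        Inv L φ j → Curv2.deg k X G r' * (r₁ : ℤ) = Curv2.deg k X E₁ r₁ * (r' : ℤ) → r' ≤ r₁)
    (Q : X.Modules) (s : ℕ) (j : Q ⟶ cokernel i₁) [Mono j] (hs : 0 < s) (hQ : FlatMod.IsFinLocFreeOfRank s Q)
    (hj : Inv L φ' j) :
    Curv2.deg k X Q s * (r₁ : ℤ) < Curv2.deg k X E₁ r₁ * (s : ℤ) := by
  have hKinv := inv_preimage hL i₁ φ φ' hφ' j hj
  obtain ⟨hFlf, hdF⟩ := preimage_kernel_data H k X hpid hE hE₁ i₁ hQ j
  have h1 := hmax _ (r₁ + s) (kernel.ι (cokernel.π i₁ ≫ cokernel.π j)) inferInstance (by omega) hFlf hKinv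
  have h2 := hmaxrk _ (r₁ + s) (kernel.ι (cokernel.π i₁ ≫ cokernel.π j)) inferInstance (by omega) hFlf hKinv
  rw [hdF] at h1 h2
  push_cast at h1 h2
  by_contra hcon
  rw [add_mul, mul_add] at h1 h2
  have h3 : Curv2.deg k X E₁ r₁ * (r₁ : ℤ) + Curv2.deg k X Q s * (r₁ : ℤ) =
      Curv2.deg k X E₁ r₁ * (r₁ : ℤ) + Curv2.deg k X E₁ r₁ * (s : ℤ) := by
    have := not_lt.mp hcon
    linarith
  have := h2 h3
  omega

lemma arithT (d₁ dK dI : ℤ) (r₁ a b : ℤ) (hd : d₁ = dK + dI) (hr : r₁ = a + b)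
    (h1 : dK * r₁ ≤ d₁ * a) (h2 : dI * r₁ < d₁ * b) : False := by
  subst hd hr
  nlinarith

include H hpid in
/-- a morphism of pairs from the maximal destabilising invariant submodule to the quotient vanishes -/
theorem pair_hom_quot_eq_zero {L : X.Modules} (hL : PicF.IsInvertible L) {r r₁ : ℕ} (hr₁ : 0 < r₁)
    {E E₁ : X.Modules} (hE : FlatMod.IsFinLocFreeOfRank r E) (hE₁ : FlatMod.IsFinLocFreeOfRank r₁ E₁)
    (φ : E ⟶ CohB1.tensorMod E L) (i₁ : E₁ ⟶ E) [Mono i₁]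
    (hClf : FlatMod.IsFinLocFreeOfRank (r - r₁) (cokernel i₁))
    (φ₁ : E₁ ⟶ CohB1.tensorMod E₁ L) (hφ₁ : φ₁ ≫ (tensorRightFunctor L).map i₁ = i₁ ≫ φ)
    (φ' : cokernel i₁ ⟶ CohB1.tensorMod (cokernel i₁) L)
    (hφ' : cokernel.π i₁ ≫ φ' = φ ≫ (tensorRightFunctor L).map (cokernel.π i₁))
    (hmax : ∀ (G : X.Modules) (r' : ℕ) (j : G ⟶ E), Mono j → 0 < r' → FlatMod.IsFinLocFreeOfRank r' G →
        Inv L φ j → Curv2.deg k X G r' * (r₁ : ℤ) ≤ Curv2.deg k X E₁ r₁ * (r' : ℤ))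
    (hmaxrk : ∀ (G : X.Modules) (r' : ℕ) (j : G ⟶ E), Mono j → 0 < r' → FlatMod.IsFinLocFreeOfRank r' G →
        Inv L φ j → Curv2.deg k X G r' * (r₁ : ℤ) = Curv2.deg k X E₁ r₁ * (r' : ℤ) → r' ≤ r₁)
    (f : E₁ ⟶ cokernel i₁) (hf : f ≫ φ' = φ₁ ≫ (tensorRightFunctor L).map f) : f = 0 := by
  by_contra hf0
  have := isLocallyNoetherian_of_proper k X
  have hE₁c : Coh.IsCoh E₁ := isCoh_of_rank hE₁
  obtain ⟨hKinv, hIinv⟩ := ker_im_invariant X hL f φ₁ φ' hf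
  obtain ⟨hIc, hIlf, hIpos⟩ := image_data k X hpid hE₁ hClf f hf0
  have : (Abelian.image f).IsQuasicoherent := hIc.1
  have h2 := pair_quot_slope_lt H k X hpid hL hr₁ hE hE₁ φ i₁ φ' hφ' hmax hmaxrk _ _ (Abelian.image.ι f) hIpos hIlf
    hIinv
  set p := Abelian.factorThruImage f with hp
  have hKc : Coh.IsCoh (kernel p) := Groth.Agent.Lib.H90OXModExact.isCoh_kernel p hE₁c
  have hKlf := locFree_of_mono k X hpid (kernel.ι p) hKc hE₁
  have hS : (ShortComplex.mk (kernel.ι p) p (kernel.condition p)).ShortExact :=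
    { exact := ShortComplex.exact_kernel p }
  have a1 := rk_add _ hS hKc hIc
  have b1 := deg_rk_add H k X _ hS hKc hE₁c hIc
  dsimp only at a1 b1
  rw [← eq_rk_of_isFinLocFreeOfRank hE₁] at a1 b1
  have h1 : Curv2.deg k X (kernel p) (rk (kernel p)) * (r₁ : ℤ) ≤ Curv2.deg k X E₁ r₁ * (rk (kernel p) : ℤ) := by
    rcases Nat.eq_zero_or_pos (rk (kernel p)) with h0 | hpos
    · have hz : IsZero (kernel p) := isZero_of_tf_of_rk_eq_zero hpid hKc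
        (tf_of_isFinLocFree (isFinLocFree_of_rank hKlf)) h0
      rw [h0, deg_of_isZero k X hz]
      simp
    · have hm : Mono (kernel.ι p ≫ i₁) := mono_comp _ _
      exact hmax _ _ (kernel.ι p ≫ i₁) hm hpos hKlf (inv_comp (kernel.ι p) i₁ φ₁ hφ₁ hKinv)
  exact arithT _ _ _ _ _ _ b1 (by exact_mod_cast a1) h1 h2

end Groth.Agent.Lib.CurveVB67
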