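import Groth.Agent.Lib.H8Fin

/-!
# Dimension and depth of a module finite over a subring: reduction to the local case (helper8)

For `A → B` Noetherian, `M` a `B`-module finite over `A`, `p` a prime of `A`:
`depth_{A_p} M_p = inf depth_{B_q} M_q` and `dim_{A_p} M_p = sup dim_{B_q} M_q` over the primes `q`
of `B` with `q ∩ A = p` in the support of `M` (EGA IV 5.4.? / 0.16.4.8).
-/

set_option autoImplicit false
set_option linter.unusedSectionVars false
universe u

namespace Groth.Agent.Lib.H8Fin

open IsLocalRing Module LocCoh Groth.Agent.Lib.H8CM Groth.Agent.Lib.H8LocTrans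

variable (A B : Type u) [CommRing A] [CommRing B] [Algebra A B]
  (M : Type u) [AddCommGroup M] [Module B M] [Module A M] [IsScalarTower A B M]
  (p : Ideal A) [p.IsPrime]

/-- The primes of `B` over `p` in the support of `M`. -/
def over : Set (PrimeSpectrum B) :=
  {q | q.asIdeal.comap (algebraMap A B) = p ∧ q ∈ Module.support B M}

/-- `A_p`-module structure on `S_B⁻¹ M`, through `A_p → S_B⁻¹ B`. -/
@[instance_reducible]
noncomputable def modLoc : Module (Localization.AtPrime p)
    (LocalizedModule (Algebra.algebraMapSubmonoid B p.primeCompl) M) :=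
  Module.compHom _ (algebraMap (Localization.AtPrime p)
    (Localization (Algebra.algebraMapSubmonoid B p.primeCompl)))

attribute [local instance] modLoc

theorem modLoc_smul_def (x : Localization.AtPrime p)
    (n : LocalizedModule (Algebra.algebraMapSubmonoid B p.primeCompl) M) :
    x • n = algebraMap (Localization.AtPrime p)
      (Localization (Algebra.algebraMapSubmonoid B p.primeCompl)) x • n := rfl

instance isScalarTower_modLoc₁ : IsScalarTower (Localization.AtPrime p)
    (Localization (Algebra.algebraMapSubmonoid B p.primeCompl))
    (LocalizedModule (Algebra.algebraMapSubmonoid B p.primeCompl) M) :=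
  ⟨fun x y n ↦ by
    change (x • y) • n = algebraMap (Localization.AtPrime p)
      (Localization (Algebra.algebraMapSubmonoid B p.primeCompl)) x • (y • n)
    rw [Algebra.smul_def, mul_smul]⟩

instance isScalarTower_modLoc₂ : IsScalarTower A (Localization.AtPrime p)
    (LocalizedModule (Algebra.algebraMapSubmonoid B p.primeCompl) M) :=
  ⟨fun a x n ↦ by
    change algebraMap (Localization.AtPrime p)
      (Localization (Algebra.algebraMapSubmonoid B p.primeCompl)) (a • x) • n =
      a • (algebraMap (Localization.AtPrime p)
      (Localization (Algebra.algebraMapSubmonoid B p.primeCompl)) x • n)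
    rw [Algebra.smul_def, map_mul, ← IsScalarTower.algebraMap_apply, mul_smul, algebraMap_smul]⟩

/-- `M → S_B⁻¹ M` as an `A`-linear map. -/
noncomputable def locMap : M →ₗ[A] LocalizedModule (Algebra.algebraMapSubmonoid B p.primeCompl) M :=
  (LocalizedModule.mkLinearMap (Algebra.algebraMapSubmonoid B p.primeCompl) M).restrictScalars A

instance isLocalizedModule_locMap : IsLocalizedModule p.primeCompl (locMap A B M p) :=
  IsLocalizedModule.restrictScalars p.primeCompl
    (LocalizedModule.mkLinearMap (Algebra.algebraMapSubmonoid B p.primeCompl) M)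

section corr

variable [IsNoetherianRing A] [IsNoetherianRing B] [Module.Finite A M]

instance finite_modLoc : Module.Finite (Localization.AtPrime p)
    (LocalizedModule (Algebra.algebraMapSubmonoid B p.primeCompl) M) :=
  Module.Finite.of_isLocalizedModule p.primeCompl (locMap A B M p)

theorem depth_modLoc :
    depth (Localization.AtPrime p)
        (LocalizedModule (Algebra.algebraMapSubmonoid B p.primeCompl) M) =
      depth (Localization.AtPrime p) (LocalizedModule p.primeCompl M) :=
  depth_eq_of_isLocalizedModule p (Localization.AtPrime p) (locMap A B M p)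

theorem supportDim_modLoc :
    Module.supportDim (Localization.AtPrime p)
        (LocalizedModule (Algebra.algebraMapSubmonoid B p.primeCompl) M) =
      Module.supportDim (Localization.AtPrime p) (LocalizedModule p.primeCompl M) :=
  supportDim_eq_of_isLocalizedModule p (Localization.AtPrime p) (locMap A B M p)

/-- Contraction of primes from `S_B⁻¹B` to `B`. -/
noncomputable abbrev cB (Q : PrimeSpectrum (Localization (Algebra.algebraMapSubmonoid B p.primeCompl))) :
    PrimeSpectrum B :=
  PrimeSpectrum.comap (algebraMap B (Localization (Algebra.algebraMapSubmonoid B p.primeCompl))) Q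

theorem depth_cB (Q : PrimeSpectrum (Localization (Algebra.algebraMapSubmonoid B p.primeCompl))) :
    depth (Localization.AtPrime Q.asIdeal) (LocalizedModule Q.asIdeal.primeCompl
        (LocalizedModule (Algebra.algebraMapSubmonoid B p.primeCompl) M)) =
      depth (Localization.AtPrime (cB A B p Q).asIdeal)
        (LocalizedModule (cB A B p Q).asIdeal.primeCompl M) :=
  depth_double (Algebra.algebraMapSubmonoid B p.primeCompl)
    (Localization (Algebra.algebraMapSubmonoid B p.primeCompl))
    (LocalizedModule.mkLinearMap (Algebra.algebraMapSubmonoid B p.primeCompl) M) Q.asIdeal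

theorem supportDim_cB
    (Q : PrimeSpectrum (Localization (Algebra.algebraMapSubmonoid B p.primeCompl))) :
    Module.supportDim (Localization.AtPrime Q.asIdeal) (LocalizedModule Q.asIdeal.primeCompl
        (LocalizedModule (Algebra.algebraMapSubmonoid B p.primeCompl) M)) =
      Module.supportDim (Localization.AtPrime (cB A B p Q).asIdeal)
        (LocalizedModule (cB A B p Q).asIdeal.primeCompl M) :=
  supportDim_double (Algebra.algebraMapSubmonoid B p.primeCompl)
    (Localization (Algebra.algebraMapSubmonoid B p.primeCompl))
    (LocalizedModule.mkLinearMap (Algebra.algebraMapSubmonoid B p.primeCompl) M) Q.asIdeal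

theorem mem_support_cB_iff
    (Q : PrimeSpectrum (Localization (Algebra.algebraMapSubmonoid B p.primeCompl))) :
    cB A B p Q ∈ Module.support B M ↔
      Q ∈ Module.support (Localization (Algebra.algebraMapSubmonoid B p.primeCompl))
        (LocalizedModule (Algebra.algebraMapSubmonoid B p.primeCompl) M) := by
  rw [Module.mem_support_iff, Module.mem_support_iff, ← Module.supportDim_ne_bot_iff_nontrivial
    (R := Localization.AtPrime (cB A B p Q).asIdeal),
    ← Module.supportDim_ne_bot_iff_nontrivial (R := Localization.AtPrime Q.asIdeal),
    supportDim_cB]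

theorem comap_cB_eq_iff
    (Q : PrimeSpectrum (Localization (Algebra.algebraMapSubmonoid B p.primeCompl))) :
    (cB A B p Q).asIdeal.comap (algebraMap A B) = p ↔
      Q.asIdeal.comap (algebraMap (Localization.AtPrime p)
        (Localization (Algebra.algebraMapSubmonoid B p.primeCompl))) =
        maximalIdeal (Localization.AtPrime p) := by
  have h1 : (cB A B p Q).asIdeal.comap (algebraMap A B) =
      (Q.asIdeal.comap (algebraMap (Localization.AtPrime p)
        (Localization (Algebra.algebraMapSubmonoid B p.primeCompl)))).comap
        (algebraMap A (Localization.AtPrime p)) := by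
    change (Q.asIdeal.comap _).comap _ = _
    rw [Ideal.comap_comap, Ideal.comap_comap, ← IsScalarTower.algebraMap_eq,
      ← IsScalarTower.algebraMap_eq]
  have hmax : (maximalIdeal (Localization.AtPrime p)).comap
      (algebraMap A (Localization.AtPrime p)) = p :=
    IsLocalization.AtPrime.under_maximalIdeal (Localization.AtPrime p) p
  rw [h1]
  constructor
  · intro h
    have e1 := IsLocalization.map_under p.primeCompl (Localization.AtPrime p)
      (Q.asIdeal.comap (algebraMap (Localization.AtPrime p)
        (Localization (Algebra.algebraMapSubmonoid B p.primeCompl))))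
    have e2 := IsLocalization.map_under p.primeCompl (Localization.AtPrime p)
      (maximalIdeal (Localization.AtPrime p))
    rw [← e1, ← e2]
    exact congrArg _ (h.trans hmax.symm)
  · intro h
    rw [h, hmax]

/-- `Q ↦ Q ∩ B` maps the local family onto the family over `p`. -/
theorem cB_mem_over_iff
    (Q : PrimeSpectrum (Localization (Algebra.algebraMapSubmonoid B p.primeCompl))) :
    cB A B p Q ∈ over A B M p ↔
      Q ∈ overMax (Localization.AtPrime p)
        (Localization (Algebra.algebraMapSubmonoid B p.primeCompl))
        (LocalizedModule (Algebra.algebraMapSubmonoid B p.primeCompl) M) := by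
  unfold over overMax
  simp only [Set.mem_setOf_eq]
  rw [comap_cB_eq_iff, mem_support_cB_iff]

theorem exists_cB_eq (q : PrimeSpectrum B) (hq : q.asIdeal.comap (algebraMap A B) = p) :
    ∃ Q, cB A B p Q = q := by
  have hdisj : Disjoint (Algebra.algebraMapSubmonoid B p.primeCompl : Set B) (q.asIdeal : Set B) := by
    rw [Set.disjoint_left]
    rintro _ ⟨a, ha, rfl⟩ hmem
    apply ha
    rw [← hq]
    exact hmem
  have hprime : (q.asIdeal.map (algebraMap B
      (Localization (Algebra.algebraMapSubmonoid B p.primeCompl)))).IsPrime :=
    IsLocalization.isPrime_of_isPrime_disjoint _ _ _ q.2 hdisj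
  refine ⟨⟨_, hprime⟩, PrimeSpectrum.ext ?_⟩
  exact IsLocalization.under_map_of_isPrime_disjoint _ _ q.2 hdisj

end corr

section main

variable [IsNoetherianRing A] [IsNoetherianRing B] [Module.Finite A M]

/-- **EGA IV (0.16.4.8)/(5.4.?)**, depth: `depth_{A_p} M_p = inf depth M_q` over the primes `q`
of `B` over `p` in the support of `M`. -/
theorem depth_eq_iInf_over :
    depth (Localization.AtPrime p) (LocalizedModule p.primeCompl M) =
      ⨅ q ∈ over A B M p,
        depth (Localization.AtPrime q.asIdeal) (LocalizedModule q.asIdeal.primeCompl M) := by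
  rw [← depth_modLoc A B M p, depth_eq_iInf_of_isLocalRing (Localization.AtPrime p)
    (Localization (Algebra.algebraMapSubmonoid B p.primeCompl))
    (LocalizedModule (Algebra.algebraMapSubmonoid B p.primeCompl) M)]
  apply le_antisymm
  · refine le_iInf₂ fun q hq ↦ ?_
    obtain ⟨Q, rfl⟩ := exists_cB_eq A B p q hq.1
    rw [← depth_cB]
    exact iInf₂_le Q ((cB_mem_over_iff A B M p Q).mp hq)
  · refine le_iInf₂ fun Q hQ ↦ ?_
    rw [depth_cB]
    exact iInf₂_le (cB A B p Q) ((cB_mem_over_iff A B M p Q).mpr hQ)

/-- **EGA IV (0.16.4.8)/(5.4.?)**, dimension: `dim_{A_p} M_p = sup dim M_q` over the primes `q`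
of `B` over `p` in the support of `M`. -/
theorem supportDim_eq_iSup_over :
    Module.supportDim (Localization.AtPrime p) (LocalizedModule p.primeCompl M) =
      ⨆ q ∈ over A B M p,
        Module.supportDim (Localization.AtPrime q.asIdeal)
          (LocalizedModule q.asIdeal.primeCompl M) := by
  rw [← supportDim_modLoc A B M p, supportDim_eq_iSup_of_isLocalRing (Localization.AtPrime p)
    (Localization (Algebra.algebraMapSubmonoid B p.primeCompl))
    (LocalizedModule (Algebra.algebraMapSubmonoid B p.primeCompl) M)]
  apply le_antisymm
  · refine iSup₂_le fun Q hQ ↦ ?_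
    rw [supportDim_cB]
    exact le_iSup₂ (f := fun (q : PrimeSpectrum B) (_ : q ∈ over A B M p) ↦
      Module.supportDim (Localization.AtPrime q.asIdeal)
        (LocalizedModule q.asIdeal.primeCompl M)) (cB A B p Q)
      ((cB_mem_over_iff A B M p Q).mpr hQ)
  · refine iSup₂_le fun q hq ↦ ?_
    obtain ⟨Q, rfl⟩ := exists_cB_eq A B p q hq.1
    rw [← supportDim_cB]
    exact le_iSup₂ (f := fun (Q : PrimeSpectrum (Localization
        (Algebra.algebraMapSubmonoid B p.primeCompl)))
      (_ : Q ∈ overMax (Localization.AtPrime p)
        (Localization (Algebra.algebraMapSubmonoid B p.primeCompl))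
        (LocalizedModule (Algebra.algebraMapSubmonoid B p.primeCompl) M)) ↦
      Module.supportDim (Localization.AtPrime Q.asIdeal)
        (LocalizedModule Q.asIdeal.primeCompl
          (LocalizedModule (Algebra.algebraMapSubmonoid B p.primeCompl) M))) Q
      ((cB_mem_over_iff A B M p Q).mp hq)

end main

end Groth.Agent.Lib.H8Fin
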