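import Groth.Agent.S9684
import Groth.Agent.Lib.GFT53
import Groth.Agent.Lib.H8Fin2

/-!
# The cutoff `s_{A,I}(M)` is invariant under finite ring maps (universally catenary base) (helper53)
-/

set_option maxHeartbeats 400000
set_option linter.unusedSectionVars false
universe u

namespace Groth.Agent.Lib.CutoffFin53
open Groth.Agent.Lib.GFT53

section ht
variable {A B : Type u} [CommRing A] [CommRing B] [Algebra A B] [Module.Finite A B]

theorem trdeg_quotient_eq_zero (Q : Ideal B) [Q.IsPrime] :
    Algebra.trdeg (A ⧸ Q.under A) (B ⧸ Q) = 0 := by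
  haveI : Algebra.IsIntegral A B := inferInstance
  haveI : Algebra.IsIntegral (A ⧸ Q.under A) (B ⧸ Q) := inferInstance
  haveI : Algebra.IsAlgebraic (A ⧸ Q.under A) (B ⧸ Q) := inferInstance
  exact trdeg_eq_zero

theorem comap_le {P Q : PrimeSpectrum B} (h : P ≤ Q) :
    PrimeSpectrum.comap (algebraMap A B) P ≤ PrimeSpectrum.comap (algebraMap A B) Q := by
  rw [← PrimeSpectrum.asIdeal_le_asIdeal] at h ⊢
  exact Ideal.comap_mono h

theorem height_Ici_eq (hA : CAlg.IsUniversallyCatenary A) (P Q : PrimeSpectrum B) (h : P ≤ Q) :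
    Order.height (⟨Q, h⟩ : Set.Ici P) =
      Order.height (⟨PrimeSpectrum.comap (algebraMap A B) Q,
        comap_le h⟩ : Set.Ici (PrimeSpectrum.comap (algebraMap A B) P)) := by
  rw [orderHeight_Ici_eq, orderHeight_Ici_eq]
  change (Q.asIdeal.map (Ideal.Quotient.mk P.asIdeal)).height =
    ((Q.asIdeal.under A).map (Ideal.Quotient.mk (P.asIdeal.under A))).height
  haveI : Algebra.FiniteType A B := inferInstance
  have key := Groth.Agent.S9684.eq_of_prime_le hA Q.asIdeal P.asIdeal h
  rw [trdeg_quotient_eq_zero, trdeg_quotient_eq_zero, add_zero, add_zero] at key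
  exact_mod_cast key

end ht

end Groth.Agent.Lib.CutoffFin53

namespace Groth.Agent.Lib.CutoffFin53
open Groth.Agent.Lib.GFT53 Groth.Agent.Lib.H8Fin

theorem exists_mem_eq_biInf {ι : Type*} (S : Set ι) (f : ι → ℕ∞) (h : (⨅ q ∈ S, f q) ≠ ⊤) :
    ∃ q ∈ S, f q = ⨅ q ∈ S, f q := by
  rw [iInf_subtype'] at h ⊢
  haveI : Nonempty S := by
    by_contra hne
    rw [not_nonempty_iff] at hne
    exact h (iInf_of_empty _)
  obtain ⟨a, ha⟩ := ENat.exists_eq_iInf (fun q : S => f q)
  exact ⟨a.1, a.2, ha⟩

section main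
variable (A B : Type u) [CommRing A] [CommRing B] [Algebra A B] [IsNoetherianRing A]
  [IsNoetherianRing B] [Module.Finite A B] (hA : CAlg.IsUniversallyCatenary A) (I : Ideal A)
  (M : Type u) [AddCommGroup M] [Module B M] [Module A M] [IsScalarTower A B M]
  [Module.Finite B M]

include hA in
theorem cutoff_eq :
    Dual2.cutoff B (I.map (algebraMap A B)) M = Dual2.cutoff A I M := by
  haveI : Module.Finite A M := Module.Finite.trans B M
  unfold Dual2.cutoff
  apply le_antisymm
  · refine le_iInf fun p => le_iInf fun q => le_iInf fun hpq => le_iInf fun hIp =>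
      le_iInf fun hIq => ?_
    by_cases htop : LocCoh.depth (Localization.AtPrime p.asIdeal)
        (LocalizedModule p.asIdeal.primeCompl M) = ⊤
    · rw [htop, top_add]
      exact le_top
    · rw [depth_eq_iInf_over A B M p.asIdeal] at htop
      obtain ⟨P, hP, hPeq⟩ := exists_mem_eq_biInf _ _ htop
      rw [← depth_eq_iInf_over A B M p.asIdeal] at hPeq
      obtain ⟨Q', hQ'P, hQ'prime, hQ'q⟩ :=
        Ideal.exists_ideal_over_prime_of_isIntegral_of_isPrime q.asIdeal P.asIdeal
          (by rw [hP.1]; exact (PrimeSpectrum.asIdeal_le_asIdeal _ _).2 hpq)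
      let Q : PrimeSpectrum B := ⟨Q', hQ'prime⟩
      have hPQ : P ≤ Q := (PrimeSpectrum.asIdeal_le_asIdeal _ _).1 hQ'P
      have hp' : PrimeSpectrum.comap (algebraMap A B) P = p := PrimeSpectrum.ext hP.1
      have hq' : PrimeSpectrum.comap (algebraMap A B) Q = q := PrimeSpectrum.ext hQ'q
      subst hp' hq'
      have hIP : ¬ I.map (algebraMap A B) ≤ P.asIdeal := fun hle =>
        hIp (Ideal.map_le_iff_le_comap.1 hle)
      have hIQ : I.map (algebraMap A B) ≤ Q.asIdeal := Ideal.map_le_iff_le_comap.2 hIq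
      refine iInf_le_of_le P (iInf_le_of_le Q (iInf_le_of_le hPQ (iInf_le_of_le hIP
        (iInf_le_of_le hIQ ?_))))
      rw [hPeq, height_Ici_eq hA P Q hPQ]
  · refine le_iInf fun P => le_iInf fun Q => le_iInf fun hPQ => le_iInf fun hIP =>
      le_iInf fun hIQ => ?_
    have hIp : ¬ I ≤ (PrimeSpectrum.comap (algebraMap A B) P).asIdeal := fun hle =>
      hIP (Ideal.map_le_iff_le_comap.2 hle)
    have hIq : I ≤ (PrimeSpectrum.comap (algebraMap A B) Q).asIdeal :=
      Ideal.map_le_iff_le_comap.1 hIQ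
    refine iInf_le_of_le (PrimeSpectrum.comap (algebraMap A B) P)
      (iInf_le_of_le (PrimeSpectrum.comap (algebraMap A B) Q) (iInf_le_of_le (comap_le hPQ)
        (iInf_le_of_le hIp (iInf_le_of_le hIq ?_))))
    rw [← height_Ici_eq hA P Q hPQ]
    refine add_le_add_left ?_ _
    by_cases hsupp : P ∈ Module.support B M
    · change LocCoh.depth (Localization.AtPrime (P.asIdeal.comap (algebraMap A B)))
        (LocalizedModule (P.asIdeal.comap (algebraMap A B)).primeCompl M) ≤ _
      rw [depth_eq_iInf_over A B M (P.asIdeal.comap (algebraMap A B))]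
      exact iInf₂_le P ⟨rfl, hsupp⟩
    · rw [Module.notMem_support_iff] at hsupp
      have htop : LocCoh.depth (Localization.AtPrime P.asIdeal)
          (LocalizedModule P.asIdeal.primeCompl M) = ⊤ :=
        Groth.Agent.Lib.FinDimRel53.depth_eq_top_of_subsingleton _
      rw [htop]
      exact le_top

end main

end Groth.Agent.Lib.CutoffFin53
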