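import Groth.Agent.Lib.DPeelTop

/-!
# Dévissage for bounded complexes, at the level of complexes (helper54)

Namespace `Groth.Agent.Lib.CxDevissage54`.  Any abelian category `C`.

`cx_devissage`: let `Pt` be a property of objects of `C` (closed under isomorphisms, containing the zero objects)
and `V` a property of cochain complexes, closed under isomorphisms, containing the zero complexes and closed under
extensions `0 → X₁ → X₂ → X₃ → 0` of complexes with `X₃` termwise in `Pt`.  If `K` is a bounded complex with terms in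
`Pt` and `V` holds for all `X[-i]` with `X ≅ K^i`, then `V K`.
-/

set_option autoImplicit false
universe v u

open CategoryTheory CategoryTheory.Limits Category

namespace Groth.Agent.Lib.CxDevissage54

variable {C : Type u} [Category.{v} C] [Abelian C]

open HomologicalComplex Groth.Agent.Lib.DPeelTop

theorem cx_devissage (Pt : ObjectProperty C) [Pt.IsClosedUnderIsomorphisms]
    (hPt0 : ∀ Z : C, IsZero Z → Pt Z)
    (V : ObjectProperty (CochainComplex C ℤ)) [V.IsClosedUnderIsomorphisms]
    (hext : ∀ S : ShortComplex (CochainComplex C ℤ), S.ShortExact → (∀ n : ℤ, Pt (S.X₃.X n)) →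
      V S.X₁ → V S.X₃ → V S.X₂)
    (hzero : ∀ Z : CochainComplex C ℤ, IsZero Z → V Z)
    (K : CochainComplex C ℤ) (c d : ℤ) (hK : ∀ i : ℤ, i < c ∨ d < i → IsZero (K.X i))
    (hKt : ∀ i : ℤ, Pt (K.X i))
    (hterms : ∀ (i : ℤ) (X : C), Nonempty (X ≅ K.X i) →
      V ((single C (ComplexShape.up ℤ) i).obj X)) :
    V K := by
  suffices ∀ (k : ℕ) (K : CochainComplex C ℤ) (d : ℤ), (∀ i : ℤ, i < c ∨ d < i → IsZero (K.X i)) →
      d < c + k → (∀ i : ℤ, Pt (K.X i)) → (∀ (i : ℤ) (X : C), Nonempty (X ≅ K.X i) →
        V ((single C (ComplexShape.up ℤ) i).obj X)) → V K by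
    obtain ⟨k, hk⟩ : ∃ k : ℕ, d < c + k := ⟨(d - c + 1).toNat, by lia⟩
    exact this k K d hK hk hKt hterms
  intro k
  induction k with
  | zero =>
    intro K d hK hd _ _
    have hE : IsZero K := by
      rw [IsZero.iff_id_eq_zero]
      ext i : 1
      exact (hK i (by simp at hd; lia)).eq_of_src _ _
    exact hzero _ hE
  | succ k ih =>
    intro K d hK hd hKt hterms
    have hK1 : IsZero (K.X (d + 1)) := hK _ (Or.inr (by lia))
    have hS := ses_shortExact K d hK1
    have hiso : ∀ i : ℤ, i ≠ d → Nonempty ((ses K d hK1).X₃.X i ≅ K.X i) := fun i hi => by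
      have := isIso_ses_g_f K d hK1 i hi
      exact ⟨(asIso ((ses K d hK1).g.f i)).symm⟩
    have h0 : IsZero ((ses K d hK1).X₃.X d) := isZero_ses_X₃ K d hK1
    have hX3t : ∀ n : ℤ, Pt ((ses K d hK1).X₃.X n) := fun n => by
      by_cases hn : n = d
      · subst hn
        exact hPt0 _ h0
      · obtain ⟨e⟩ := hiso n hn
        exact Pt.prop_of_iso e.symm (hKt n)
    refine hext (ses K d hK1) hS hX3t (hterms d (K.X d) ⟨Iso.refl _⟩) ?_
    refine ih (ses K d hK1).X₃ (d - 1) (fun i hi => ?_) (by push_cast at hd; lia) hX3t ?_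
    · by_cases hid : i = d
      · subst hid
        exact h0
      · obtain ⟨e⟩ := hiso i hid
        exact (hK i (by lia)).of_iso e
    · intro i X ⟨e⟩
      by_cases hid : i = d
      · subst hid
        have hX : IsZero X := h0.of_iso e
        exact hzero _ ((single C (ComplexShape.up ℤ) i).map_isZero hX)
      · obtain ⟨e'⟩ := hiso i hid
        exact hterms i X ⟨e ≪≫ e'⟩

end Groth.Agent.Lib.CxDevissage54
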