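import Mathlib

/-!
# Length over a local algebra versus dimension over the base field (helper97)

`finrank_eq_length_mul`: for a local `K`-algebra `R` (`K` a field) and an `R`-module `M` that is
finite-dimensional over `K`, `dim_K M = length_R M * dim_K (R ⧸ 𝔪)`.
-/

set_option autoImplicit false
universe u v

namespace Groth.Agent.Lib.LengthFinrank97

open Module

theorem finrank_eq_length_mul_aux (K R : Type*) [Field K] [CommRing R] [IsLocalRing R]
    [Algebra K R] (n : ℕ) : ∀ (M : Type v) [AddCommGroup M] [Module R M] [Module K M]
    [IsScalarTower K R M] [Module.Finite K M], finrank K M = n →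
    (finrank K M : ℕ∞) = Module.length R M *
      (finrank K (R ⧸ IsLocalRing.maximalIdeal R) : ℕ∞) := by
  induction n using Nat.strong_induction_on with
  | _ n ih =>
    intro M _ _ _ _ _ hn
    by_cases hM : Subsingleton M
    · have h1 : finrank K M = 0 := finrank_zero_of_subsingleton
      have h2 : Module.length R M = 0 := Module.length_eq_zero
      rw [h1, h2]
      simp
    rw [not_subsingleton_iff_nontrivial] at hM
    have hart : IsArtinian R M := isArtinian_of_tower K (inferInstance : IsArtinian K M)
    obtain ⟨N, hN⟩ := IsAtomic.exists_atom (Submodule R M)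
    have hsimple : IsSimpleModule R N := isSimpleModule_iff_isAtom.mpr hN
    obtain ⟨I, hI, ⟨e⟩⟩ := isSimpleModule_iff_quot_maximal.mp hsimple
    have hIm : I = IsLocalRing.maximalIdeal R := IsLocalRing.eq_maximalIdeal hI
    subst hIm
    set d := finrank K (R ⧸ IsLocalRing.maximalIdeal R) with hd
    have hNd : finrank K N = d := (e.restrictScalars K).finrank_eq
    have hlen : Module.length R M = Module.length R N + Module.length R (M ⧸ N) :=
      Module.length_eq_add_of_exact N.subtype N.mkQ N.injective_subtype N.mkQ_surjective
        (LinearMap.exact_subtype_mkQ N)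
    have hlenN : Module.length R N = 1 := Module.length_eq_one R N
    have hfr : finrank K (M ⧸ N) + finrank K N = finrank K M := by
      have h1 := Submodule.finrank_quotient_add_finrank (N.restrictScalars K)
      have h2 : finrank K (M ⧸ N.restrictScalars K) = finrank K (M ⧸ N) :=
        (Submodule.Quotient.restrictScalarsEquiv K N).finrank_eq
      have h3 : finrank K (N.restrictScalars K) = finrank K N := rfl
      rw [h2, h3] at h1
      exact h1
    have hNpos : 0 < finrank K N := by
      have : Nontrivial N := IsSimpleModule.nontrivial R N
      have : Module.Finite K N :=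
        inferInstanceAs (Module.Finite K (N.restrictScalars K))
      exact finrank_pos
    have hlt : finrank K (M ⧸ N) < n := by omega
    have hIH := ih _ hlt (M ⧸ N) rfl
    rw [hlen, hlenN, ← hfr, Nat.cast_add, hIH, hNd, add_mul, one_mul, add_comm]

theorem finrank_eq_length_mul (K R : Type*) [Field K] [CommRing R] [IsLocalRing R]
    [Algebra K R] (M : Type v) [AddCommGroup M] [Module R M] [Module K M]
    [IsScalarTower K R M] [Module.Finite K M] :
    (finrank K M : ℕ∞) = Module.length R M *
      (finrank K (R ⧸ IsLocalRing.maximalIdeal R) : ℕ∞) :=
  finrank_eq_length_mul_aux K R _ M rfl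

end Groth.Agent.Lib.LengthFinrank97
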