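import Mathlib
import Groth.Agent.Lib.FibreStalk33
import Groth.Agent.Lib.LengthFinrank97
import Groth.Agent.Lib.PurInsepTensorLength

/-!
# Degree of a finite flat morphism as a sum over the fibre (helper63)

For `f : X ⟶ Y` finite and flat and `y : Y`,
`∑_{x ↦ y} length_{𝒪_{X,x}} (𝒪_{X,x} ⧸ 𝔪_y 𝒪_{X,x}) · [κ(x) : κ(y)] = f.finrank y`.
-/

set_option autoImplicit false
universe u

open AlgebraicGeometry CategoryTheory Limits IsLocalRing

namespace Groth.Agent.Lib.FiniteFlatDegree

section Algebra

/-- local algebra: for a local homomorphism `φ : A → B` of local rings with residue field `K` of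
`A`, and a finite local `K`-algebra `R` identified with `B ⧸ 𝔪_A B` compatibly, the `K`-dimension
of `R` is `length_B (B ⧸ 𝔪_A B) · [κ_B : K]`. -/
theorem finrank_eq_length_mul_finrank {A B : Type u} [CommRing A] [CommRing B] [IsLocalRing A]
    [IsLocalRing B] (φ : A →+* B) [IsLocalHom φ]
    (ρ : ResidueField A →+* ResidueField B)
    (hρ : ∀ a, ρ (residue A a) = residue B (φ a))
    (R : Type u) [CommRing R] [IsLocalRing R] [Algebra (ResidueField A) R]
    [Module.Finite (ResidueField A) R]
    (e : (B ⧸ Ideal.map φ (maximalIdeal A)) ≃+* R)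
    (he : ∀ a, e (Ideal.Quotient.mk _ (φ a)) = algebraMap (ResidueField A) R (residue A a)) :
    letI := ρ.toAlgebra
    Module.Finite (ResidueField A) (ResidueField B) ∧
    Module.finrank (ResidueField A) R =
      (Module.length B (B ⧸ Ideal.map φ (maximalIdeal A))).toNat *
        Module.finrank (ResidueField A) (ResidueField B) := by
  letI := ρ.toAlgebra
  -- the surjection B → R → R / m_R
  let π : B →+* ResidueField R :=
    (residue R).comp (e.toRingHom.comp (Ideal.Quotient.mk (Ideal.map φ (maximalIdeal A))))
  have hπsurj : Function.Surjective π := by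
    refine (residue_surjective (R := R)).comp ?_
    exact e.surjective.comp Ideal.Quotient.mk_surjective
  have hker : RingHom.ker π = maximalIdeal B := by
    have : (RingHom.ker π).IsMaximal := RingHom.ker_isMaximal_of_surjective π hπsurj
    exact IsLocalRing.eq_maximalIdeal this
  let E0 : ResidueField B ≃+* ResidueField R :=
    (Ideal.quotEquivOfEq hker.symm).trans (RingHom.quotientKerEquivOfSurjective hπsurj)
  have hE0 : ∀ b : B, E0 (residue B b) = π b := fun b => rfl
  let E : ResidueField B ≃ₗ[ResidueField A] ResidueField R :=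
    { E0 with
      map_smul' := fun k c => by
        obtain ⟨a, rfl⟩ := residue_surjective k
        obtain ⟨b, rfl⟩ := residue_surjective c
        simp only [RingHom.id_apply, Algebra.smul_def]
        change E0 (ρ (residue A a) * residue B b) = _
        rw [hρ, ← map_mul, hE0, map_mul]
        congr 1
        change residue R (e (Ideal.Quotient.mk _ (φ a))) = _
        rw [he]
        rfl }
  have hfinq : Module.Finite (ResidueField A) (ResidueField R) :=
    Module.Finite.of_surjective
      ((IsScalarTower.toAlgHom (ResidueField A) R (ResidueField R)).toLinearMap)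
      (residue_surjective (R := R))
  have hfin : Module.Finite (ResidueField A) (ResidueField B) := Module.Finite.equiv E.symm
  refine ⟨hfin, ?_⟩
  have h1 := Groth.Agent.Lib.LengthFinrank97.finrank_eq_length_mul (ResidueField A) R R
  have h2 : Module.length R R =
      Module.length B (B ⧸ Ideal.map φ (maximalIdeal A)) := by
    rw [← Groth.Agent.Lib.PurInsepTensorLength.length_self_eq_of_ringEquiv e]
    exact (Module.length_eq_of_surjective (S := B) (R := B ⧸ Ideal.map φ (maximalIdeal A))
      (M := B ⧸ Ideal.map φ (maximalIdeal A)) Ideal.Quotient.mk_surjective).symm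
  have h3 : Module.finrank (ResidueField A) (R ⧸ maximalIdeal R) =
      Module.finrank (ResidueField A) (ResidueField B) :=
    E.finrank_eq.symm
  rw [h2, h3] at h1
  have hpos : 0 < Module.finrank (ResidueField A) (ResidueField B) := Module.finrank_pos
  -- the length is finite
  have hlen : Module.length B (B ⧸ Ideal.map φ (maximalIdeal A)) ≠ ⊤ := by
    intro htop
    rw [htop, ENat.top_mul (by exact_mod_cast hpos.ne')] at h1
    exact ENat.coe_ne_top _ h1
  obtain ⟨n, hn⟩ := ENat.ne_top_iff_exists.mp hlen
  rw [← hn] at h1 ⊢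
  rw [ENat.toNat_coe]
  exact_mod_cast h1

end Algebra

section Point

open Groth.Agent.Lib.FibreStalk33

variable {X Y : Scheme.{u}} (f : X ⟶ Y)

/-- compatibility of the map to the local ring of the fibre with the structure map from the
residue field of the base point. -/
lemma stalkMap_toFibreStalk (x : X) :
    f.stalkMap x ≫ toFibreStalk f x =
      Y.residue (f x) ≫ resToStalk f (f x) (f.asFiber x) := by
  obtain ⟨h, e⟩ := exists_stalkMap_eq f (f x) (f.asFiber x)
  have hpt := Scheme.Hom.stalkMap_congr_point f (f.fiberι (f x) (f.asFiber x)) x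
    (f.fiberι_asFiber x)
  have hpt' : f.stalkMap x ≫ (X.presheaf.stalkCongr (.of_eq (f.fiberι_asFiber x))).inv =
      (Y.presheaf.stalkCongr (.of_eq h)).inv ≫
        f.stalkMap (f.fiberι (f x) (f.asFiber x)) := by
    rw [Iso.eq_inv_comp, ← Category.assoc, Iso.comp_inv_eq]
    exact hpt.symm
  rw [toFibreStalk, ← Category.assoc, hpt', Category.assoc, e, Iso.inv_hom_id_assoc]

/-- the per-point formula, for the point `f.asFiber x` of the fibre over `f x`. -/
theorem finrank_stalk_asFiber (x : X) :
    letI := (resToStalk f (f x) (f.asFiber x)).hom.toAlgebra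
    letI := (f.residueFieldMap x).hom.toAlgebra
    Module.Finite (Y.residueField (f x)) ((f.fiber (f x)).presheaf.stalk (f.asFiber x)) →
    Module.Finite (Y.residueField (f x)) (X.residueField x) ∧
    Module.finrank (Y.residueField (f x)) ((f.fiber (f x)).presheaf.stalk (f.asFiber x)) =
      (Module.length (X.presheaf.stalk x)
        (X.presheaf.stalk x ⧸ Ideal.map (f.stalkMap x).hom
          (maximalIdeal (Y.presheaf.stalk (f x))))).toNat * f.residueDegree x := by
  letI inst : Algebra (ResidueField (Y.presheaf.stalk (f x)))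
      ((f.fiber (f x)).presheaf.stalk (f.asFiber x)) :=
    (resToStalk f (f x) (f.asFiber x)).hom.toAlgebra
  intro hfin
  have hfin' : Module.Finite (ResidueField (Y.presheaf.stalk (f x)))
      ((f.fiber (f x)).presheaf.stalk (f.asFiber x)) := hfin
  have key := finrank_eq_length_mul_finrank (A := Y.presheaf.stalk (f x))
    (B := X.presheaf.stalk x) (f.stalkMap x).hom (f.residueFieldMap x).hom
    (fun a => rfl)
    ((f.fiber (f x)).presheaf.stalk (f.asFiber x)) (fibreStalkEquiv f x)
    (fun a => by
      rw [fibreStalkEquiv_mk]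
      exact congr($(stalkMap_toFibreStalk f x) a))
  exact key

/-- the multiplicity function of the flat pullback. -/
noncomputable def mult (x : X) : ℕ :=
  (Module.length (X.presheaf.stalk x)
    (X.presheaf.stalk x ⧸ Ideal.map (f.stalkMap x).hom
      (maximalIdeal (Y.presheaf.stalk (f x))))).toNat

/-- finiteness of the residue field extension at `x`. -/
def ResFinite (x : X) : Prop :=
  letI := (f.residueFieldMap x).hom.toAlgebra
  Module.Finite (Y.residueField (f x)) (X.residueField x)

theorem finrank_stalk_asFiber' (x : X) :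
    letI := (resToStalk f (f x) (f.asFiber x)).hom.toAlgebra
    Module.Finite (Y.residueField (f x)) ((f.fiber (f x)).presheaf.stalk (f.asFiber x)) →
    ResFinite f x ∧
    Module.finrank (Y.residueField (f x)) ((f.fiber (f x)).presheaf.stalk (f.asFiber x)) =
      mult f x * f.residueDegree x :=
  finrank_stalk_asFiber f x

theorem finrank_stalk_fibre_aux (x : X) (y : Y) (h : f x = y) (z : f.fiber y)
    (hz : f.fiberι y z = x) :
    letI := (resToStalk f y z).hom.toAlgebra
    Module.Finite (Y.residueField y) ((f.fiber y).presheaf.stalk z) →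
    ResFinite f x ∧
    Module.finrank (Y.residueField y) ((f.fiber y).presheaf.stalk z) =
      mult f x * f.residueDegree x := by
  subst h
  have hz' : z = f.asFiber x := by
    apply (f.fiberι (f x)).isEmbedding.injective
    rw [hz, Scheme.Hom.fiberι_asFiber]
  subst hz'
  exact finrank_stalk_asFiber' f x

/-- the per-point formula for an arbitrary point `z` of the fibre over `y`. -/
theorem finrank_stalk_fibre (y : Y) (z : f.fiber y) :
    letI := (resToStalk f y z).hom.toAlgebra
    Module.Finite (Y.residueField y) ((f.fiber y).presheaf.stalk z) →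
    ResFinite f (f.fiberι y z) ∧
    Module.finrank (Y.residueField y) ((f.fiber y).presheaf.stalk z) =
      mult f (f.fiberι y z) * f.residueDegree (f.fiberι y z) := by
  have h : f (f.fiberι y z) = y := by
    have := (f.fiberHomeo y z).2
    exact this
  exact finrank_stalk_fibre_aux f _ y h z rfl

end Point

section Global

open Groth.Agent.Lib.FibreStalk33

variable {X Y : Scheme.{u}} (f : X ⟶ Y) [IsFinite f] [Flat f] (y : Y)

instance : Flat (f.fiberToSpecResidueField y) :=
  MorphismProperty.pullback_snd _ _ inferInstance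

/-- the structure map `κ(y) ⟶ Γ(X_y, ⊤)` of the (affine) fibre. -/
noncomputable def ψ : Y.residueField y ⟶ Γ(f.fiber y, ⊤) :=
  Spec.preimage ((f.fiber y).isoSpec.inv ≫ f.fiberToSpecResidueField y)

lemma SpecMap_ψ :
    Spec.map (ψ f y) = (f.fiber y).isoSpec.inv ≫ f.fiberToSpecResidueField y :=
  Spec.map_preimage _

lemma resToStalk_eq (z : f.fiber y) :
    resToStalk f y z = ψ f y ≫ (f.fiber y).presheaf.germ ⊤ z trivial := by
  apply Spec.map_injective
  rw [SpecMap_resToStalk, Spec.map_comp, SpecMap_ψ, ← Category.assoc]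
  congr 1
  rw [← (isAffineOpen_top (f.fiber y)).fromSpecStalk_eq_fromSpecStalk (x := z) trivial,
    IsAffineOpen.fromSpecStalk, IsAffineOpen.fromSpec_top]

lemma finite_ψ : (ψ f y).hom.Finite := by
  rw [← IsFinite.SpecMap_iff, SpecMap_ψ]
  infer_instance

lemma flat_ψ : (ψ f y).hom.Flat := by
  rw [← Flat.SpecMap_iff, SpecMap_ψ]
  infer_instance

theorem finrank_eq_finrank_Γ :
    letI := (ψ f y).hom.toAlgebra
    f.finrank y = Module.finrank (Y.residueField y) Γ(f.fiber y, ⊤) := by
  letI := (ψ f y).hom.toAlgebra
  obtain ⟨pt⟩ : Nonempty (Spec (Y.residueField y)) := inferInstance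
  have h1 := Scheme.Hom.finrank_pullback_snd f (Y.fromSpecResidueField y) pt
  rw [Scheme.fromSpecResidueField_apply] at h1
  rw [← h1]
  change Scheme.Hom.finrank (f.fiberToSpecResidueField y) pt = _
  rw [← Scheme.Hom.finrank_comp_left_of_isIso (f.fiber y).isoSpec.inv, ← SpecMap_ψ,
    Scheme.Hom.finrank_SpecMap_eq_finrank (finite_ψ f y) (flat_ψ f y)]
  rw [RingHom.finrank]
  rw [Module.rankAtStalk_eq_finrank_of_free]
  rfl

/-- the `κ(y)`-dimension of the local ring of the fibre at `z`. -/
noncomputable def stalkRank (z : f.fiber y) : ℕ :=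
  letI := (resToStalk f y z).hom.toAlgebra
  Module.finrank (Y.residueField y) ((f.fiber y).presheaf.stalk z)

/-- the points of the affine fibre as primes of its ring of global sections. -/
noncomputable def pointEquiv : f.fiber y ≃ PrimeSpectrum Γ(f.fiber y, ⊤) :=
  Equiv.ofBijective (fun z => (isAffineOpen_top (f.fiber y)).primeIdealOf ⟨z, trivial⟩) (by
    constructor
    · intro z₁ z₂ h
      have h1 := (isAffineOpen_top (f.fiber y)).fromSpec_primeIdealOf ⟨z₁, trivial⟩
      have h2 := (isAffineOpen_top (f.fiber y)).fromSpec_primeIdealOf ⟨z₂, trivial⟩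
      simp only at h h1 h2
      rw [← h1, ← h2, h]
    · intro p
      refine ⟨(isAffineOpen_top (f.fiber y)).fromSpec p, ?_⟩
      apply (isAffineOpen_top (f.fiber y)).fromSpec.isOpenEmbedding.injective
      exact (isAffineOpen_top (f.fiber y)).fromSpec_primeIdealOf ⟨_, trivial⟩)

theorem stalkRank_eq_and_finite (z : f.fiber y) :
    letI := (ψ f y).hom.toAlgebra
    letI := (resToStalk f y z).hom.toAlgebra
    Module.Finite (Y.residueField y) ((f.fiber y).presheaf.stalk z) ∧
    stalkRank f y z =
      Module.finrank (Y.residueField y) (Localization.AtPrime (pointEquiv f y z).asIdeal) := by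
  letI algA : Algebra (Y.residueField y) Γ(f.fiber y, ⊤) := (ψ f y).hom.toAlgebra
  letI algS : Algebra (Y.residueField y) ((f.fiber y).presheaf.stalk z) :=
    (resToStalk f y z).hom.toAlgebra
  letI algAS : Algebra Γ(f.fiber y, ⊤) ((f.fiber y).presheaf.stalk z) :=
    TopCat.Presheaf.algebra_section_stalk (f.fiber y).presheaf (U := ⊤) ⟨z, trivial⟩
  have hloc : IsLocalization.AtPrime ((f.fiber y).presheaf.stalk z)
      (pointEquiv f y z).asIdeal :=
    (isAffineOpen_top (f.fiber y)).isLocalization_stalk ⟨z, trivial⟩
  have htower : IsScalarTower (Y.residueField y) Γ(f.fiber y, ⊤)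
      ((f.fiber y).presheaf.stalk z) := by
    refine IsScalarTower.of_algebraMap_eq' ?_
    change (resToStalk f y z).hom = _
    rw [resToStalk_eq]
    rfl
  have hfinA : Module.Finite (Y.residueField y) Γ(f.fiber y, ⊤) := finite_ψ f y
  have hart : IsArtinianRing Γ(f.fiber y, ⊤) := IsArtinianRing.of_finite (Y.residueField y) _
  let e1 : Localization.AtPrime (pointEquiv f y z).asIdeal ≃ₐ[Γ(f.fiber y, ⊤)]
      (f.fiber y).presheaf.stalk z :=
    IsLocalization.algEquiv (pointEquiv f y z).asIdeal.primeCompl _ _
  have hfinL : Module.Finite (Y.residueField y)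
      (Localization.AtPrime (pointEquiv f y z).asIdeal) :=
    Module.Finite.of_surjective (Algebra.algHom (Y.residueField y) Γ(f.fiber y, ⊤)
      (Localization.AtPrime (pointEquiv f y z).asIdeal)).toLinearMap
      (IsArtinianRing.localization_surjective (pointEquiv f y z).asIdeal.primeCompl _)
  refine ⟨Module.Finite.equiv (e1.restrictScalars (Y.residueField y)).toLinearEquiv, ?_⟩
  exact (e1.restrictScalars (Y.residueField y)).toLinearEquiv.finrank_eq.symm

theorem finrank_Γ_eq_sum [Fintype (f.fiber y)] :
    letI := (ψ f y).hom.toAlgebra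
    Module.finrank (Y.residueField y) Γ(f.fiber y, ⊤) = ∑ z : f.fiber y, stalkRank f y z := by
  letI algA : Algebra (Y.residueField y) Γ(f.fiber y, ⊤) := (ψ f y).hom.toAlgebra
  have hfinA : Module.Finite (Y.residueField y) Γ(f.fiber y, ⊤) := finite_ψ f y
  have hart : IsArtinianRing Γ(f.fiber y, ⊤) := IsArtinianRing.of_finite (Y.residueField y) _
  letI : Fintype (PrimeSpectrum Γ(f.fiber y, ⊤)) := Fintype.ofFinite _
  rw [IsArtinianRing.finrank_eq_sum_primeSpectrum Γ(f.fiber y, ⊤) (Y.residueField y)]
  symm
  refine Fintype.sum_equiv (pointEquiv f y) _ _ (fun z => ?_)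
  exact (stalkRank_eq_and_finite f y z).2

/-- **Degree formula**: the degree of a finite flat morphism at `y` is the sum over the points
`x` of the fibre of `length (𝒪_{X,x} ⧸ 𝔪_y 𝒪_{X,x}) · [κ(x) : κ(y)]`. -/
theorem finsum_mult_mul_residueDegree :
    ∑ᶠ x ∈ f ⁻¹' {y}, mult f x * f.residueDegree x = f.finrank y := by
  haveI : Finite (f.fiber y) := IsArtinianScheme.finite
  letI : Fintype (f.fiber y) := Fintype.ofFinite _
  rw [finrank_eq_finrank_Γ, finrank_Γ_eq_sum]
  rw [← f.range_fiberι y, finsum_mem_range (f.fiberι y).isEmbedding.injective,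
    finsum_eq_sum_of_fintype]
  refine Finset.sum_congr rfl fun z _ => ?_
  obtain ⟨hfin, -⟩ := stalkRank_eq_and_finite f y z
  exact ((finrank_stalk_fibre f y z hfin).2).symm

/-- residue field extensions of a finite (flat) morphism are finite. -/
theorem resFinite (x : X) : ResFinite f x := by
  obtain ⟨hfin, -⟩ := stalkRank_eq_and_finite f (f x) (f.asFiber x)
  exact (finrank_stalk_asFiber' f x hfin).1

end Global

end Groth.Agent.Lib.FiniteFlatDegree
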