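import Groth.Agent.Lib.CycPullRatEquiv
import Groth.Agent.Lib.FiniteFlatDegree

set_option autoImplicit false
universe u
open AlgebraicGeometry CategoryTheory CategoryTheory.Limits TopologicalSpace IsLocalRing

/-!
# Flat base change commutes with proper pushforward of cycles (Stacks 02RG), local computation
-/

namespace Groth.Agent.Lib.CycBCProper

open Groth.Agent.Lib.FibreStalk33

section General

variable {A B : Scheme.{u}} (φ : A ⟶ B)

theorem length_stalk_asFiber (a : A) :
    Module.length ((φ.fiber (φ a)).presheaf.stalk (φ.asFiber a))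
        ((φ.fiber (φ a)).presheaf.stalk (φ.asFiber a)) =
      Module.length (A.presheaf.stalk a) (A.presheaf.stalk a ⧸
        Ideal.map (φ.stalkMap a).hom (maximalIdeal (B.presheaf.stalk (φ a)))) := by
  rw [Module.length_eq_of_surjective (S := A.presheaf.stalk a)
    (R := A.presheaf.stalk a ⧸
        Ideal.map (φ.stalkMap a).hom (maximalIdeal (B.presheaf.stalk (φ a))))
    (M := A.presheaf.stalk a ⧸
        Ideal.map (φ.stalkMap a).hom (maximalIdeal (B.presheaf.stalk (φ a))))
    Ideal.Quotient.mk_surjective]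
  exact (Groth.Agent.Lib.PurInsepTensorLength.length_self_eq_of_ringEquiv
    (fibreStalkEquiv φ a)).symm

theorem length_stalk_fibre_aux (a : A) (b : B) (h : φ a = b) (z : φ.fiber b)
    (hz : φ.fiberι b z = a) :
    Module.length ((φ.fiber b).presheaf.stalk z) ((φ.fiber b).presheaf.stalk z) =
      Module.length (A.presheaf.stalk a) (A.presheaf.stalk a ⧸
        Ideal.map (φ.stalkMap a).hom (maximalIdeal (B.presheaf.stalk (φ a)))) := by
  subst h
  have hz' : z = φ.asFiber a := by
    apply (φ.fiberι (φ a)).isEmbedding.injective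
    rw [hz, Scheme.Hom.fiberι_asFiber]
  subst hz'
  exact length_stalk_asFiber φ a

theorem map_fiberι (b : B) (z : φ.fiber b) : φ (φ.fiberι b z) = b :=
  (φ.fiberHomeo b z).2

/-- the length of the local ring of the fibre at a point is the flat-pullback multiplicity -/
theorem length_stalk_fibre (b : B) (z : φ.fiber b) :
    Module.length ((φ.fiber b).presheaf.stalk z) ((φ.fiber b).presheaf.stalk z) =
      Module.length (A.presheaf.stalk (φ.fiberι b z)) (A.presheaf.stalk (φ.fiberι b z) ⧸
        Ideal.map (φ.stalkMap (φ.fiberι b z)).hom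
          (maximalIdeal (B.presheaf.stalk (φ (φ.fiberι b z))))) :=
  length_stalk_fibre_aux φ _ b (map_fiberι φ b z) z rfl

/-- the inclusion of a fibre induces isomorphisms of residue fields -/
theorem bijective_residueFieldMap_fiberι (b : B) (z : φ.fiber b) :
    Function.Bijective ((φ.fiberι b).residueFieldMap z).hom := by
  refine ⟨RingHom.injective _, ?_⟩
  intro r
  obtain ⟨s, rfl⟩ := IsLocalRing.residue_surjective r
  obtain ⟨t, rfl⟩ := (φ.fiberι b).stalkMap_surjective z s
  refine ⟨A.residue _ t, ?_⟩
  exact congr($(Scheme.residue_residueFieldMap (φ.fiberι b) z) t)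

end General

section Degree

variable {Q P Y' X' : Scheme.{u}}

theorem residueFieldCongr_cancel (a b : X') (e : a = b) (e' : b = a) (r : X'.residueField a) :
    (X'.residueFieldCongr e').hom ((X'.residueFieldCongr e).hom r) = r := by
  subst e
  simp

theorem residueDegree_eq_of_comm (h : Q ⟶ P) (ιQ : Q ⟶ Y') (ιP : P ⟶ X') (f' : Y' ⟶ X')
    (comm : h ≫ ιP = ιQ ≫ f') (z : Q)
    (hQ : Function.Bijective (ιQ.residueFieldMap z).hom)
    (hP : Function.Bijective (ιP.residueFieldMap (h z)).hom) :
    h.residueDegree z = f'.residueDegree (ιQ z) := by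
  unfold Scheme.Hom.residueDegree
  letI := (h.residueFieldMap z).hom.toAlgebra
  letI := (f'.residueFieldMap (ιQ z)).hom.toAlgebra
  have e1 := Scheme.Hom.residueFieldMap_congr comm z
  rw [Scheme.residueFieldMap_comp, Scheme.residueFieldMap_comp] at e1
  let j : Y'.residueField (ιQ z) ≃+* Q.residueField z := RingEquiv.ofBijective _ hQ
  let c : X'.residueField (f' (ιQ z)) ≃+* X'.residueField (ιP (h z)) :=
    (X'.residueFieldCongr (by
      change (ιQ ≫ f') z = (h ≫ ιP) z
      rw [comm])).commRingCatIsoToRingEquiv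
  let i : X'.residueField (f' (ιQ z)) ≃+* P.residueField (h z) :=
    c.trans (RingEquiv.ofBijective _ hP)
  symm
  refine Algebra.finrank_eq_of_equiv_equiv i j ?_
  ext r
  have e2 := congr($e1 (c r))
  simp only [CommRingCat.comp_apply] at e2
  change (h.residueFieldMap z).hom ((ιP.residueFieldMap (h z)).hom (c r)) =
    (ιQ.residueFieldMap z).hom ((f'.residueFieldMap (ιQ z)).hom r)
  rw [e2]
  have hc : ∀ (e' : (h ≫ ιP) z = (ιQ ≫ f') z),
      (X'.residueFieldCongr e').hom (c r) = r := fun e' =>
    residueFieldCongr_cancel _ _ _ e' r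
  change (ιQ.residueFieldMap z).hom ((f'.residueFieldMap (ιQ z)).hom
    ((X'.residueFieldCongr _).hom (c r))) = _
  exact congrArg _ (congrArg _ (hc _))

end Degree


variable {X X' Y : Scheme.{u}} (f : Y ⟶ X) (p : X' ⟶ X)

/-- the map between fibres `q⁻¹(y) → p⁻¹(f y)` induced by `f' : Y ×_X X' → X'` -/
noncomputable def fibMap (y : Y) : (pullback.fst f p).fiber y ⟶ p.fiber (f y) :=
  pullback.map _ _ _ _ (pullback.snd f p) (Spec.map (f.residueFieldMap y)) f
    (IsPullback.of_hasPullback f p).flip.w.symm (by simp)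

theorem isPullback_fibMap (y : Y) :
    IsPullback (fibMap f p y) ((pullback.fst f p).fiberToSpecResidueField y)
      (p.fiberToSpecResidueField (f y)) (Spec.map (f.residueFieldMap y)) :=
  isPullback_fiberToSpecResidueField_of_isPullback (IsPullback.of_hasPullback f p).flip y

theorem fibMap_fiberι (y : Y) :
    fibMap f p y ≫ p.fiberι (f y) = (pullback.fst f p).fiberι y ≫ pullback.snd f p := by
  unfold fibMap Scheme.Hom.fiberι
  exact pullback.lift_fst _ _ _


section Finite

variable (y : Y)

theorem flat_SpecMap_residueFieldMap : Flat (Spec.map (f.residueFieldMap y)) := by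
  rw [Flat.SpecMap_iff]
  letI := (f.residueFieldMap y).hom.toAlgebra
  exact (inferInstance : Module.Flat (X.residueField (f y)) (Y.residueField y))

theorem flat_fibMap : Flat (fibMap f p y) :=
  haveI := flat_SpecMap_residueFieldMap f y
  MorphismProperty.of_isPullback (isPullback_fibMap f p y).flip inferInstance

variable (hfin : (f.residueFieldMap y).hom.Finite)
include hfin

theorem isFinite_SpecMap_residueFieldMap : IsFinite (Spec.map (f.residueFieldMap y)) := by
  rw [IsFinite.SpecMap_iff]
  exact hfin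

theorem isFinite_fibMap : IsFinite (fibMap f p y) :=
  haveI := isFinite_SpecMap_residueFieldMap f y hfin
  MorphismProperty.of_isPullback (isPullback_fibMap f p y).flip inferInstance

theorem finrank_fibMap (w : p.fiber (f y)) :
    haveI := flat_fibMap f p y
    haveI := isFinite_fibMap f p y hfin
    (fibMap f p y).finrank w = f.residueDegree y := by
  haveI := flat_SpecMap_residueFieldMap f y
  haveI := isFinite_SpecMap_residueFieldMap f y hfin
  haveI := flat_fibMap f p y
  haveI := isFinite_fibMap f p y hfin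
  rw [Scheme.Hom.finrank_of_isPullback _ _ _ _ (isPullback_fibMap f p y).flip w]
  have hflat : (f.residueFieldMap y).hom.Flat := by
    letI := (f.residueFieldMap y).hom.toAlgebra
    exact (inferInstance : Module.Flat (X.residueField (f y)) (Y.residueField y))
  rw [Scheme.Hom.finrank_SpecMap_eq_finrank hfin hflat]
  unfold RingHom.finrank Scheme.Hom.residueDegree
  letI := (f.residueFieldMap y).hom.toAlgebra
  haveI : Module.Finite (X.residueField (f y)) (Y.residueField y) := hfin
  rw [Module.rankAtStalk_eq_finrank_of_free]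
  rfl

end Finite


section Key

open Groth.Agent.Lib.FiniteFlatDegree Groth.Agent.Lib.CycPullDivGen

variable {X X' Y : Scheme.{u}} (f : Y ⟶ X) (p : X' ⟶ X) [Flat p]

theorem length_self_eq_mul {A B : Type u} [CommRing A] [CommRing B] [IsLocalRing A]
    [IsLocalRing B] (φ : A →+* B) [IsLocalHom φ] (hflat : φ.Flat) :
    Module.length B B = Module.length A A * Module.length B (B ⧸ (maximalIdeal A).map φ) := by
  have h := length_quot_map φ hflat ⊥
  rw [Ideal.map_bot] at h
  rw [← (Submodule.quotEquivOfEqBot (⊥ : Ideal B) rfl).length_eq,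
    ← (Submodule.quotEquivOfEqBot (⊥ : Ideal A) rfl).length_eq]
  exact h

/-- **Key identity**: the multiplicities and degrees of the points of `Y ×_X X'` over `(y, x')`. -/
theorem key (y : Y) (x' : X') (hx : p x' = f y) (hfin : (f.residueFieldMap y).hom.Finite) :
    ∑ᶠ y' ∈ {y' : ↥(pullback f p) | (pullback.fst f p) y' = y ∧ (pullback.snd f p) y' = x'},
      mult (pullback.fst f p) y' * (pullback.snd f p).residueDegree y' =
    f.residueDegree y * mult p x' := by
  haveI := flat_fibMap f p y
  haveI := isFinite_fibMap f p y hfin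
  let w : p.fiber (f y) := (p.fiberHomeo (f y)).symm ⟨x', hx⟩
  have hw : p.fiberι (f y) w = x' := p.fiberι_fiberHomeo_symm (f y) ⟨x', hx⟩
  have hinjP : Function.Injective (p.fiberι (f y)) := (p.fiberι (f y)).isEmbedding.injective
  have hinjQ : Function.Injective ((pullback.fst f p).fiberι y) :=
    ((pullback.fst f p).fiberι y).isEmbedding.injective
  have hcomm := fibMap_fiberι f p y
  have hpt : ∀ z : (pullback.fst f p).fiber y,
      p.fiberι (f y) (fibMap f p y z) = (pullback.snd f p) ((pullback.fst f p).fiberι y z) :=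
    fun z => congr($hcomm z)
  have key := finsum_mult_mul_residueDegree (fibMap f p y) w
  rw [finrank_fibMap f p y hfin w] at key
  rw [← key, finsum_mem_mul]
  symm
  refine finsum_mem_eq_of_bijOn ((pullback.fst f p).fiberι y) ⟨?_, ?_, ?_⟩ ?_
  · intro z hz
    have hz' : fibMap f p y z = w := hz
    refine ⟨map_fiberι _ y z, ?_⟩
    rw [← hpt z, hz', hw]
  · exact hinjQ.injOn
  · rintro y' ⟨hy1, hy2⟩
    refine ⟨((pullback.fst f p).fiberHomeo y).symm ⟨y', hy1⟩, ?_,
      (pullback.fst f p).fiberι_fiberHomeo_symm y ⟨y', hy1⟩⟩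
    show fibMap f p y _ = w
    apply hinjP
    rw [hpt, (pullback.fst f p).fiberι_fiberHomeo_symm y ⟨y', hy1⟩, hw]
    exact hy2
  · intro z hz
    have hz' : fibMap f p y z = w := hz
    have hz'' : p.fiberι (f y) (fibMap f p y z) = x' := by rw [hz', hw]
    have hflat : ((fibMap f p y).stalkMap z).hom.Flat := Flat.stalkMap (fibMap f p y) z
    have h1 := length_self_eq_mul ((fibMap f p y).stalkMap z).hom hflat
    rw [length_stalk_fibre (pullback.fst f p) y z,
      length_stalk_fibre_aux p x' (f y) hx (fibMap f p y z) hz''] at h1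
    have h2 := residueDegree_eq_of_comm (fibMap f p y) ((pullback.fst f p).fiberι y)
      (p.fiberι (f y)) (pullback.snd f p) hcomm z
      (bijective_residueFieldMap_fiberι _ y z)
      (bijective_residueFieldMap_fiberι _ (f y) _)
    have h3 : mult (pullback.fst f p) ((pullback.fst f p).fiberι y z) =
        mult p x' * mult (fibMap f p y) z := by
      unfold mult
      rw [h1, ENat.toNat_mul]
    rw [h3, ← h2]
    ring

end Key

section More

open Groth.Agent.Lib.FiniteFlatDegree

theorem residueDegree_snd_pos {X X' Y : Scheme.{u}} (f : Y ⟶ X) (p : X' ⟶ X) [Flat p]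
    (y' : ↥(pullback f p))
    (hfin : (f.residueFieldMap ((pullback.fst f p) y')).hom.Finite) :
    0 < (pullback.snd f p).residueDegree y' := by
  haveI := flat_fibMap f p ((pullback.fst f p) y')
  haveI := isFinite_fibMap f p ((pullback.fst f p) y') hfin
  have h2 := residueDegree_eq_of_comm (fibMap f p ((pullback.fst f p) y'))
    ((pullback.fst f p).fiberι ((pullback.fst f p) y'))
    (p.fiberι (f ((pullback.fst f p) y'))) (pullback.snd f p)
    (fibMap_fiberι f p ((pullback.fst f p) y')) ((pullback.fst f p).asFiber y')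
    (bijective_residueFieldMap_fiberι _ _ _)
    (bijective_residueFieldMap_fiberι _ _ _)
  rw [(pullback.fst f p).fiberι_asFiber y'] at h2
  rw [← h2]
  have h3 := resFinite (fibMap f p ((pullback.fst f p) y')) ((pullback.fst f p).asFiber y')
  unfold ResFinite at h3
  unfold Scheme.Hom.residueDegree
  letI := ((fibMap f p ((pullback.fst f p) y')).residueFieldMap
    ((pullback.fst f p).asFiber y')).hom.toAlgebra
  exact Module.finrank_pos

theorem trdeg_snd_eq_zero {X X' Y : Scheme.{u}} (f : Y ⟶ X) (p : X' ⟶ X) [Flat p]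
    (y' : ↥(pullback f p))
    (hfin : (f.residueFieldMap ((pullback.fst f p) y')).hom.Finite) :
    letI := ((pullback.snd f p).residueFieldMap y').hom.toAlgebra
    Algebra.trdeg (X'.residueField ((pullback.snd f p) y')) ((pullback f p).residueField y') = 0 := by
  letI := ((pullback.snd f p).residueFieldMap y').hom.toAlgebra
  have hpos := residueDegree_snd_pos f p y' hfin
  unfold Scheme.Hom.residueDegree at hpos
  haveI : Module.Finite (X'.residueField ((pullback.snd f p) y'))
      ((pullback f p).residueField y') := Module.finite_of_finrank_pos hpos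
  haveI : Algebra.IsAlgebraic (X'.residueField ((pullback.snd f p) y'))
      ((pullback f p).residueField y') := Algebra.IsAlgebraic.of_finite _ _
  exact trdeg_eq_zero

open Classical in
theorem finsum_mem_fiberwise {α β M : Type*} [AddCommMonoid M] (s : Set α) (φ : α → β)
    (T : α → M) (hfin : (s ∩ Function.support T).Finite) :
    ∑ᶠ a ∈ s, T a = ∑ᶠ b, ∑ᶠ a ∈ s ∩ φ ⁻¹' {b}, T a := by
  have h1 : ∑ᶠ a ∈ s, T a = ∑ a ∈ hfin.toFinset, T a :=
    finsum_mem_eq_sum_of_inter_support_eq _ (by simp)
  have h2 : ∀ b, ∑ᶠ a ∈ s ∩ φ ⁻¹' {b}, T a = ∑ a ∈ hfin.toFinset.filter (fun a => φ a = b), T a := by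
    intro b
    apply finsum_mem_eq_sum_of_inter_support_eq
    ext a
    simp only [Set.mem_inter_iff, Set.mem_preimage, Set.mem_singleton_iff, Function.mem_support,
      Finset.coe_filter, Set.Finite.mem_toFinset, Set.mem_ofPred_eq]
    tauto
  have h3 : Function.support (fun b => ∑ᶠ a ∈ s ∩ φ ⁻¹' {b}, T a) ⊆
      ↑(hfin.toFinset.image φ) := by
    intro b hb
    rw [Function.mem_support, h2 b] at hb
    obtain ⟨a, ha, -⟩ := Finset.exists_ne_zero_of_sum_ne_zero hb
    rw [Finset.mem_filter] at ha
    exact Finset.mem_coe.mpr (Finset.mem_image.mpr ⟨a, ha.1, ha.2⟩)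
  rw [h1, finsum_eq_sum_of_support_subset _ h3]
  simp only [h2]
  exact (Finset.sum_fiberwise_of_maps_to (fun a ha => Finset.mem_image_of_mem φ ha) T).symm


end More

noncomputable section ResFin

theorem finite_residueFieldMap_of_trdeg_eq_zero {X Y : Scheme.{u}} (f : Y ⟶ X)
    [LocallyOfFiniteType f] (y : Y)
    (h0 : letI := (f.residueFieldMap y).hom.toAlgebra
      Algebra.trdeg (X.residueField (f y)) (Y.residueField y) = 0) :
    (f.residueFieldMap y).hom.Finite := by
  letI := (f.residueFieldMap y).hom.toAlgebra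
  letI : Algebra (X.presheaf.stalk (f y)) (Y.presheaf.stalk y) := (f.stalkMap y).hom.toAlgebra
  haveI : Algebra.EssFiniteType (X.presheaf.stalk (f y)) (Y.presheaf.stalk y) :=
    LocallyOfFiniteType.stalkMap f y
  haveI h1 : Algebra.EssFiniteType (X.presheaf.stalk (f y))
      (Y.presheaf.stalk y ⧸ maximalIdeal (Y.presheaf.stalk y)) := inferInstance
  let _ : Algebra (X.presheaf.stalk (f y)) (Y.residueField y) :=
    inferInstanceAs (Algebra (X.presheaf.stalk (f y))
      (Y.presheaf.stalk y ⧸ maximalIdeal (Y.presheaf.stalk y)))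
  haveI h2 : Algebra.EssFiniteType (X.presheaf.stalk (f y)) (Y.residueField y) := h1
  let _ : Algebra (X.presheaf.stalk (f y)) (X.residueField (f y)) :=
    inferInstanceAs (Algebra (X.presheaf.stalk (f y)) (ResidueField (X.presheaf.stalk (f y))))
  haveI : IsScalarTower (X.presheaf.stalk (f y)) (X.residueField (f y)) (Y.residueField y) := by
    refine IsScalarTower.of_algebraMap_eq' ?_
    ext a
    exact congr($(Scheme.residue_residueFieldMap f y) a).symm
  haveI : Algebra.EssFiniteType (X.residueField (f y)) (Y.residueField y) :=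
    Algebra.EssFiniteType.of_comp (X.presheaf.stalk (f y)) _ _
  haveI : Algebra.IsAlgebraic (X.residueField (f y)) (Y.residueField y) :=
    trdeg_eq_zero_iff.mp h0
  exact Algebra.finite_of_essFiniteType_of_isAlgebraic

end ResFin

noncomputable section Assembly

open Groth.Agent.Lib.FiniteFlatDegree Cyc

variable {X X' Y : Scheme.{u}} (f : Y ⟶ X) (p : X' ⟶ X) [IsProper f] [Flat p]
  (δ : X → ℤ) (δ' : X' → ℤ) (δY : Y → ℤ) (δY' : ↥(pullback f p) → ℤ)

theorem cast_finsum_mem {ι : Type*} (s : Set ι) (g : ι → ℕ) :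
    ((∑ᶠ i ∈ s, g i : ℕ) : ℤ) = ∑ᶠ i ∈ s, (g i : ℤ) := by
  have h := (Nat.castAddMonoidHom ℤ).map_finsum_of_injective Nat.cast_injective
    (fun i => ∑ᶠ (_ : i ∈ s), g i)
  simp only [Nat.coe_castAddMonoidHom] at h
  rw [h]
  refine finsum_congr fun i => ?_
  by_cases hi : i ∈ s <;> simp [hi]

/-- the sum over the points of `Y ×_X X'` lying over `(y, x')`. -/
theorem inner_sum (hδ' : Cyc.IsDimFun X' δ') (hf : Cyc.DeltaCompat f δY δ)
    (hf' : Cyc.DeltaCompat (pullback.snd f p) δY' δ') (c : ℤ)
    (hc : ∀ x' : X', (∀ y, p y = p x' → y ⤳ x' → y = x') → δ' x' = δ (p x') + c)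
    (α : Y → ℤ) (y : Y) (x' : X') (hx : p x' = f y) :
    ∑ᶠ y' ∈ ((pullback.snd f p) ⁻¹' {x'}) ∩ ((pullback.fst f p) ⁻¹' {y}),
      Cyc.pullFun (pullback.fst f p) δY' δY c α y' *
        (AlgebraicCycle.mapCoeff (pullback.snd f p) δY' δ' y' : ℤ) =
    if δ' x' = δ (p x') + c then
      α y * (AlgebraicCycle.mapCoeff f δY δ y : ℤ) * (mult p x' : ℤ) else 0 := by
  obtain ⟨n, hn, hδn⟩ := hf y
  by_cases h0 : n = 0
  · -- finite residue field extension at `y`
    subst h0
    have hδy : δY y = δ (f y) := by rw [hδn]; simp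
    have hfin : (f.residueFieldMap y).hom.Finite :=
      finite_residueFieldMap_of_trdeg_eq_zero f y (by rw [hn]; simp)
    have hY' : ∀ y' : ↥(pullback f p), (pullback.snd f p) y' = x' → (pullback.fst f p) y' = y →
        δY' y' = δ' x' := by
      intro y' h1 h2
      obtain ⟨m, hm, hδm⟩ := hf' y'
      have h3 := trdeg_snd_eq_zero f p y' (h2 ▸ hfin)
      rw [hm] at h3
      have hm0 : m = 0 := by exact_mod_cast h3
      rw [hδm, hm0, h1]; simp
    by_cases h1 : δ' x' = δ (p x') + c
    · rw [if_pos h1]
      have hkey := key f p y x' hx hfin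
      have hmc : (AlgebraicCycle.mapCoeff f δY δ y : ℤ) = (f.residueDegree y : ℤ) := by
        unfold AlgebraicCycle.mapCoeff
        rw [if_pos hδy]
      rw [hmc, mul_assoc, ← Nat.cast_mul, ← hkey, cast_finsum_mem, mul_finsum_mem]
      refine finsum_mem_congr ?_ ?_
      · ext y'
        simp only [Set.mem_inter_iff, Set.mem_preimage, Set.mem_singleton_iff, Set.mem_setOf_eq]
        tauto
      · rintro y' ⟨hy2, hy1⟩
        have hy1' : (pullback.snd f p) y' = x' := hy1
        have hy2' : (pullback.fst f p) y' = y := hy2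
        have e1 : δY' y' = δY ((pullback.fst f p) y') + c := by
          rw [hY' y' hy1' hy2', hy2', hδy, h1, hx]
        have e2 : δY' y' = δ' ((pullback.snd f p) y') := by
          rw [hY' y' hy1' hy2', hy1']
        unfold Cyc.pullFun AlgebraicCycle.mapCoeff
        rw [if_pos e1, if_pos e2, show α ((pullback.fst f p) y') = α y from congrArg α hy2']
        unfold mult
        push_cast
        ring
    · rw [if_neg h1]
      refine finsum_mem_eq_zero_of_forall_eq_zero ?_
      rintro y' ⟨hy1, hy2⟩
      have hy1' : (pullback.snd f p) y' = x' := hy1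
      have hy2' : (pullback.fst f p) y' = y := hy2
      have e1 : ¬ δY' y' = δY ((pullback.fst f p) y') + c := by
        rw [hY' y' hy1' hy2', hy2', hδy, ← hx]
        exact h1
      unfold Cyc.pullFun
      rw [if_neg e1, zero_mul]
  · have hmc : (AlgebraicCycle.mapCoeff f δY δ y : ℤ) = 0 := by
      unfold AlgebraicCycle.mapCoeff
      rw [if_neg]
      · rfl
      · intro h
        have : δY y = δ (f y) := h
        rw [hδn] at this
        have : (n : ℤ) = 0 := by omega
        exact h0 (by exact_mod_cast this)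
    rw [hmc]
    simp only [mul_zero, zero_mul, ite_self]
    refine finsum_mem_eq_zero_of_forall_eq_zero ?_
    rintro y' ⟨hy1, hy2⟩
    have hy1' : (pullback.snd f p) y' = x' := hy1
    have hy2' : (pullback.fst f p) y' = y := hy2
    have hle := Groth.Agent.Lib.CycFlatPull.delta_le (p := p) (δ := δ) (δ' := δ') (c := c) hδ' hc x'
    by_cases e1 : δY' y' = δY ((pullback.fst f p) y') + c
    · by_cases e2 : δY' y' = δ' ((pullback.snd f p) y')
      · exfalso
        rw [hy2', hδn] at e1
        rw [hy1'] at e2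
        rw [hx] at hle
        have hn1 : (1 : ℤ) ≤ n := by
          have : 0 < n := Nat.pos_of_ne_zero h0
          exact_mod_cast this
        omega
      · unfold AlgebraicCycle.mapCoeff
        rw [if_neg e2]
        simp
    · unfold Cyc.pullFun
      rw [if_neg e1, zero_mul]

/-- **Flat base change commutes with proper pushforward of cycles** (minimal hypotheses). -/
theorem pullFun_map_baseChange (hδ' : Cyc.IsDimFun X' δ') (hf : Cyc.DeltaCompat f δY δ)
    (hf' : Cyc.DeltaCompat (pullback.snd f p) δY' δ') (c : ℤ)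
    (hc : ∀ x' : X', (∀ y, p y = p x' → y ⤳ x' → y = x') → δ' x' = δ (p x') + c)
    (α : AlgebraicCycle Y ℤ) (α' : AlgebraicCycle (pullback f p) ℤ)
    (hα' : ⇑α' = Cyc.pullFun (pullback.fst f p) δY' δY c ⇑α) :
    Cyc.pullFun p δ' δ c ⇑(AlgebraicCycle.map f δY δ α) =
      ⇑(AlgebraicCycle.map (pullback.snd f p) δY' δ' α') := by
  classical
  funext x'
  have hL : Cyc.pullFun p δ' δ c ⇑(AlgebraicCycle.map f δY δ α) x' =
      if δ' x' = δ (p x') + c then
        (∑ᶠ y ∈ f ⁻¹' {p x'}, α y * (AlgebraicCycle.mapCoeff f δY δ y : ℤ)) * (mult p x' : ℤ)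
      else 0 := rfl
  have hR : (AlgebraicCycle.map (pullback.snd f p) δY' δ' α') x' =
      ∑ᶠ y' ∈ (pullback.snd f p) ⁻¹' {x'},
        Cyc.pullFun (pullback.fst f p) δY' δY c ⇑α y' *
          (AlgebraicCycle.mapCoeff (pullback.snd f p) δY' δ' y' : ℤ) := by
    rw [← hα']
    rfl
  rw [hL, hR]
  have hfinite : (((pullback.snd f p) ⁻¹' {x'}) ∩ Function.support (fun y' =>
      Cyc.pullFun (pullback.fst f p) δY' δY c ⇑α y' *
          (AlgebraicCycle.mapCoeff (pullback.snd f p) δY' δ' y' : ℤ))).Finite := by
    refine (α'.locallyFiniteSupport.finite_inter_support_of_isCompact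
      ((pullback.snd f p).isCompact_preimage_singleton x')).subset ?_
    rintro y' ⟨hy1, hy2⟩
    refine ⟨hy1, ?_⟩
    rw [Function.mem_support] at hy2 ⊢
    intro h0
    apply hy2
    have h0' : α' y' = 0 := h0
    rw [← hα', h0', zero_mul]
  rw [finsum_mem_fiberwise _ (pullback.fst f p) _ hfinite]
  have hcond : ∀ y' : ↥(pullback f p), f ((pullback.fst f p) y') = p ((pullback.snd f p) y') :=
    fun y' => congr($(pullback.condition (f := f) (g := p)) y')
  have hinner : ∀ y : Y, ∑ᶠ y' ∈ ((pullback.snd f p) ⁻¹' {x'}) ∩ ((pullback.fst f p) ⁻¹' {y}),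
      Cyc.pullFun (pullback.fst f p) δY' δY c ⇑α y' *
        (AlgebraicCycle.mapCoeff (pullback.snd f p) δY' δ' y' : ℤ) =
      ∑ᶠ (_ : y ∈ f ⁻¹' {p x'}), if δ' x' = δ (p x') + c then
        α y * (AlgebraicCycle.mapCoeff f δY δ y : ℤ) * (mult p x' : ℤ) else 0 := by
    intro y
    by_cases hy : f y = p x'
    · rw [inner_sum f p δ δ' δY δY' hδ' hf hf' c hc (⇑α) y x' hy.symm]
      rw [finsum_eq_if, if_pos (show y ∈ f ⁻¹' {p x'} from hy)]
    · rw [finsum_eq_if, if_neg (show ¬ y ∈ f ⁻¹' {p x'} from hy)]
      refine finsum_mem_eq_zero_of_forall_eq_zero ?_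
      rintro y' ⟨hy1, hy2⟩
      exfalso
      apply hy
      have hy1' : (pullback.snd f p) y' = x' := hy1
      have hy2' : (pullback.fst f p) y' = y := hy2
      rw [← hy2', hcond, hy1']
  rw [finsum_congr hinner]
  by_cases h1 : δ' x' = δ (p x') + c
  · simp only [if_pos h1]
    rw [finsum_mem_mul]
  · simp only [if_neg h1]
    simp

end Assembly

end Groth.Agent.Lib.CycBCProper
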