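import Groth.Agent.Lib.H30FibRes
import Groth.Agent.Lib.H30EquiDim
import Mathlib

/-!
helper30: the dimension function induced along a morphism locally of finite type
(`δ_X x = δ_S (g x) + trdeg κ(x)/κ(g x)`), additivity in towers, and dimensions of irreducible
schemes locally of finite type over a Jacobson base with a dimension function vanishing at closed
points.
-/

set_option autoImplicit false
universe u
open CategoryTheory AlgebraicGeometry

namespace Groth.Agent.Lib.H30DimRel

open Groth.Agent.Lib.H30DimField Groth.Agent.Lib.TrdegTransfer Groth.Agent.Lib.DimIneqScheme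

variable {X S : Scheme.{u}} (g : X ⟶ S) [LocallyOfFiniteType g]

theorem trdeg_lt_aleph0 (x : X) :
    (letI := (g.residueFieldMap x).hom.toAlgebra
     Algebra.trdeg (S.residueField (g x)) (X.residueField x)) < Cardinal.aleph0 := by
  letI := (g.residueFieldMap x).hom.toAlgebra
  obtain ⟨V, hV, hgxV⟩ : ∃ V : S.Opens, IsAffineOpen V ∧ g x ∈ V := by
    obtain ⟨_, ⟨V, hV, rfl⟩, hxV, -⟩ := S.isBasis_affineOpens.exists_subset_of_mem_open
      (Set.mem_univ (g x)) isOpen_univ
    exact ⟨V, hV, hxV⟩
  obtain ⟨U, hU, hxU, e⟩ : ∃ U : X.Opens, IsAffineOpen U ∧ x ∈ U ∧ U ≤ g ⁻¹ᵁ V := by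
    obtain ⟨_, ⟨U, hU, rfl⟩, hxU, hUV⟩ := X.isBasis_affineOpens.exists_subset_of_mem_open
      (show x ∈ ((g ⁻¹ᵁ V : X.Opens) : Set X) from hgxV) (g ⁻¹ᵁ V).isOpen
    exact ⟨U, hU, hxU, hUV⟩
  rw [trdeg_residueField_eq g hU hV e x hxU]
  letI := (g.appLE V U e).hom.toAlgebra
  haveI : Algebra.FiniteType Γ(S, V) Γ(X, U) := g.finiteType_appLE hV hU e
  haveI : Algebra.FiniteType Γ(S, V)
      (Γ(X, U) ⧸ (hU.primeIdealOf ⟨x, hxU⟩).asIdeal) := inferInstance
  haveI : Algebra.FiniteType (Γ(S, V) ⧸
      (hU.primeIdealOf ⟨x, hxU⟩).asIdeal.under Γ(S, V))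
      (Γ(X, U) ⧸ (hU.primeIdealOf ⟨x, hxU⟩).asIdeal) :=
    Algebra.FiniteType.of_restrictScalars_finiteType Γ(S, V) _ _
  exact _root_.trdeg_lt_aleph0_of_finiteType

/-- the relative transcendence degree `trdeg κ(x)/κ(g x)` as a natural number -/
noncomputable def rt (x : X) : ℕ :=
  letI := (g.residueFieldMap x).hom.toAlgebra
  Cardinal.toNat (Algebra.trdeg (S.residueField (g x)) (X.residueField x))

theorem trdeg_eq_rt (x : X) :
    (letI := (g.residueFieldMap x).hom.toAlgebra
     Algebra.trdeg (S.residueField (g x)) (X.residueField x)) = (rt g x : Cardinal) := by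
  unfold rt
  rw [Cardinal.cast_toNat_of_lt_aleph0 (trdeg_lt_aleph0 g x)]

omit [LocallyOfFiniteType g] in
theorem rt_eq_of_trdeg_eq (x : X) (n : ℕ)
    (h : (letI := (g.residueFieldMap x).hom.toAlgebra
     Algebra.trdeg (S.residueField (g x)) (X.residueField x)) = n) : rt g x = n := by
  unfold rt
  rw [h, Cardinal.toNat_natCast]

/-- the function induced from `δ` along `g` -/
noncomputable def ind (δ : S → ℤ) (x : X) : ℤ := δ (g x) + (rt g x : ℤ)

theorem deltaCompat_ind (δ : S → ℤ) : Cyc.DeltaCompat g (ind g δ) δ :=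
  fun x => ⟨rt g x, trdeg_eq_rt g x, rfl⟩

theorem isDimFun_ind (δ : S → ℤ) (hS : Cyc.IsSetup S δ) : Cyc.IsDimFun X (ind g δ) :=
  Groth.Agent.S9684.main g δ hS _ (deltaCompat_ind g δ)

theorem ind_closed [JacobsonSpace S] (δ : S → ℤ) (h0 : ∀ c : S, IsClosed ({c} : Set S) → δ c = 0)
    (x : X) (hx : IsClosed ({x} : Set X)) : ind g δ x = 0 := by
  have h1 : IsClosed ({g x} : Set S) :=
    mem_closedPoints_iff.mp (g.closePoints_subset_preimage_closedPoints (mem_closedPoints_iff.mpr hx))
  have h2 := Groth.Agent.Lib.ResTrdegJacobson.resTrdeg_eq_zero_of_isClosed g x hx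
  unfold Dual3.resTrdeg at h2
  unfold ind
  rw [h0 _ h1, rt_eq_of_trdeg_eq g x 0 (by exact_mod_cast h2)]
  rfl

/-- dimension of an irreducible scheme locally of finite type over a Jacobson base with a
dimension function vanishing at closed points -/
theorem krullDim_eq_ind [JacobsonSpace S] [IrreducibleSpace X] (δ : S → ℤ)
    (hS : Cyc.IsSetup S δ) (h0 : ∀ c : S, IsClosed ({c} : Set S) → δ c = 0) :
    topologicalKrullDim X = (((ind g δ (genericPoint X)).toNat : ℕ) : WithBot ℕ∞) := by
  haveI : JacobsonSpace X := LocallyOfFiniteType.jacobsonSpace g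
  have hδ := isDimFun_ind g δ hS
  have h0' := ind_closed g δ h0
  obtain ⟨c, hc⟩ : ∃ c : X, IsClosed ({c} : Set X) := by
    have h1 := JacobsonSpace.closure_inter_closedPoints (X := X) (Z := Set.univ) isClosed_univ
    by_contra hcon
    push Not at hcon
    have : (Set.univ : Set X) ∩ closedPoints X = ∅ := by
      ext c
      simp only [Set.mem_inter_iff, Set.mem_univ, true_and, mem_closedPoints_iff,
        Set.mem_empty_iff_false, iff_false]
      exact hcon c
    rw [this, closure_empty] at h1
    exact (Set.eq_empty_iff_forall_notMem.mp h1.symm) (genericPoint X) trivial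
  exact Groth.Agent.S6462.krullDim_eq _ (isDimensionFunction_of_isDimFun hδ)
    (Groth.Agent.S6462.delta_nonneg hδ h0') (genericPoint X)
    (fun y => genericPoint_specializes y) c (h0' c hc)

section Tower

variable {Y : Scheme.{u}} (f : X ⟶ Y) (q : Y ⟶ S) [LocallyOfFiniteType f] [LocallyOfFiniteType q]

theorem rt_comp (x : X) : rt (f ≫ q) x = rt q (f x) + rt f x := by
  letI a1 : Algebra (S.residueField (q (f x))) (Y.residueField (f x)) :=
    (q.residueFieldMap (f x)).hom.toAlgebra
  letI a2 : Algebra (Y.residueField (f x)) (X.residueField x) := (f.residueFieldMap x).hom.toAlgebra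
  letI a3 : Algebra (S.residueField (q (f x))) (X.residueField x) :=
    ((f ≫ q).residueFieldMap x).hom.toAlgebra
  haveI : IsScalarTower (S.residueField (q (f x))) (Y.residueField (f x)) (X.residueField x) := by
    apply IsScalarTower.of_algebraMap_eq
    intro a
    show ((f ≫ q).residueFieldMap x).hom a = _
    rw [Scheme.residueFieldMap_comp]
    rfl
  have h := _root_.trdeg_add_eq (R := S.residueField (q (f x))) (S := Y.residueField (f x))
    (A := X.residueField x)
  have h1 : Algebra.trdeg (S.residueField (q (f x))) (Y.residueField (f x)) = (rt q (f x) : Cardinal) :=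
    trdeg_eq_rt q (f x)
  have h2 : Algebra.trdeg (Y.residueField (f x)) (X.residueField x) = (rt f x : Cardinal) :=
    trdeg_eq_rt f x
  have h3 : Algebra.trdeg (S.residueField (q (f x))) (X.residueField x) =
      (rt (f ≫ q) x : Cardinal) := trdeg_eq_rt (f ≫ q) x
  rw [h1, h2, h3] at h
  exact_mod_cast h.symm

theorem ind_comp (δ : S → ℤ) (x : X) : ind (f ≫ q) δ x = ind q δ (f x) + rt f x := by
  unfold ind
  rw [rt_comp f q x]
  push_cast
  have : (f ≫ q) x = q (f x) := rfl
  rw [this]
  ring

end Tower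

end Groth.Agent.Lib.H30DimRel
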