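import Groth.Agent.Lib.H30FibBC
import Groth.Agent.Lib.H30IrrFib
import Groth.Agent.Lib.H30DimRel
import Groth.Prelude.Def_Cyc
import Mathlib

/-!
# Base change and the shift of induced dimension functions (helper63)

For a cartesian square `X' = X ×_S S'` (`p : X' ⟶ X`, `q : X' ⟶ S'`, `a : X ⟶ S` locally of finite
type, `g : S' ⟶ S`):

* `rt_eq_fibreDimAt_of_max`: at a point maximal in its fibre, the residue transcendence degree is the
  local fibre dimension.
* `rt_eq_of_isPullback_of_max`: `trdeg κ(x')/κ(q x') = trdeg κ(p x')/κ(a p x')` when `x'` is maximal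
  in its `q`-fibre and `p x'` is maximal in its `a`-fibre.
* `max_snd_of_max`: if `x'` is a maximal point of `X'` then `q x'` is maximal in its `g`-fibre.
-/

set_option autoImplicit false
universe u
open CategoryTheory CategoryTheory.Limits AlgebraicGeometry

namespace Groth.Agent.Lib.CycBCShift

open Groth.Agent.Lib.H30DimRel

theorem rt_eq_fibreDimAt_of_max {X Y : Scheme.{u}} (f : X ⟶ Y) [LocallyOfFiniteType f] (x : X)
    (hmax : ∀ w : X, f w = f x → w ⤳ x → w = x) :
    ((rt f x : ℕ) : WithBot ℕ∞) = FlatMor.fibreDimAt f x := by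
  obtain ⟨w, h1, h2, -, h4⟩ := Groth.Agent.Lib.H30IrrFib.exists_rt_eq_fibreDimAt f x
  have := hmax w h1 h2
  subst this
  exact h4

theorem rt_eq_of_isPullback_of_max {X S X' S' : Scheme.{u}} (a : X ⟶ S) [LocallyOfFiniteType a]
    (g : S' ⟶ S) (p : X' ⟶ X) (q : X' ⟶ S') (hsq : IsPullback p q a g) (x' : X')
    (hx' : ∀ w : X', q w = q x' → w ⤳ x' → w = x')
    (hx : ∀ w : X, a w = a (p x') → w ⤳ p x' → w = p x') :
    haveI : LocallyOfFiniteType q := MorphismProperty.of_isPullback hsq inferInstance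
    rt q x' = rt a (p x') := by
  haveI : LocallyOfFiniteType q := MorphismProperty.of_isPullback hsq inferInstance
  have h1 := rt_eq_fibreDimAt_of_max q x' hx'
  have h2 := rt_eq_fibreDimAt_of_max a (p x') hx
  have h3 := Groth.Agent.Lib.H30FibBC.fibreDimAt_eq_of_isPullback a g p q hsq x'
  rw [← h1, ← h2] at h3
  exact_mod_cast h3

theorem flat_snd_fibre {X S X' S' : Scheme.{u}} {a : X ⟶ S} {g : S' ⟶ S} {p : X' ⟶ X}
    {q : X' ⟶ S'} (hsq : IsPullback p q a g) (s : S) :
    Flat (pullback.snd q (g.fiberι s)) := by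
  have h1 : IsPullback (pullback.fst q (g.fiberι s)) (pullback.snd q (g.fiberι s)) q (g.fiberι s) :=
    IsPullback.of_hasPullback q (g.fiberι s)
  have h2 := h1.paste_horiz hsq
  have hcond : g.fiberι s ≫ g = g.fiberToSpecResidueField s ≫ S.fromSpecResidueField s :=
    pullback.condition
  rw [hcond] at h2
  have h3 : IsPullback (a.fiberι s) (a.fiberToSpecResidueField s) a (S.fromSpecResidueField s) :=
    IsPullback.of_hasPullback a (S.fromSpecResidueField s)
  have hw : (pullback.fst q (g.fiberι s) ≫ p) ≫ a =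
      (pullback.snd q (g.fiberι s) ≫ g.fiberToSpecResidueField s) ≫ S.fromSpecResidueField s := by
    rw [Category.assoc, Category.assoc]; exact h2.w
  have h4 : IsPullback (pullback.lift (pullback.fst q (g.fiberι s) ≫ p)
      (pullback.snd q (g.fiberι s) ≫ g.fiberToSpecResidueField s) hw)
      (pullback.snd q (g.fiberι s)) (a.fiberToSpecResidueField s) (g.fiberToSpecResidueField s) := by
    refine IsPullback.of_right ?_ ?_ h3
    · have : pullback.lift (pullback.fst q (g.fiberι s) ≫ p)
          (pullback.snd q (g.fiberι s) ≫ g.fiberToSpecResidueField s) hw ≫ a.fiberι s =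
          pullback.fst q (g.fiberι s) ≫ p := pullback.lift_fst _ _ _
      rw [this]; exact h2
    · exact pullback.lift_snd _ _ _
  exact MorphismProperty.of_isPullback (P := @Flat) h4 inferInstance

/-- if `x'` is a maximal point of `X' = X ×_S S'`, then its image in `S'` is maximal in its fibre
over `S` -/
theorem max_snd_of_max {X S X' S' : Scheme.{u}} {a : X ⟶ S} {g : S' ⟶ S} {p : X' ⟶ X}
    {q : X' ⟶ S'} (hsq : IsPullback p q a g) (x' : X') (hx' : ∀ y : X', y ⤳ x' → y = x')
    (t : S') (ht : g t = g (q x')) (hts : t ⤳ q x') : t = q x' := by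
  obtain ⟨s, hs⟩ : ∃ s : S, s = g (q x') := ⟨_, rfl⟩
  rw [← hs] at ht
  obtain ⟨tF, htF⟩ : t ∈ Set.range (g.fiberι s) := by rw [g.range_fiberι]; exact ht
  obtain ⟨sF, hsF⟩ : q x' ∈ Set.range (g.fiberι s) := by rw [g.range_fiberι]; exact hs.symm
  have hspec : tF ⤳ sF := by
    rw [← (g.fiberι s).isEmbedding.isInducing.specializes_iff, htF, hsF]; exact hts
  obtain ⟨w, hw1, hw2⟩ := Scheme.Pullback.exists_preimage_pullback (f := q) (g := g.fiberι s)
    x' sF hsF.symm
  haveI := flat_snd_fibre hsq s
  obtain ⟨w'', hw''1, hw''2⟩ := Flat.generalizingMap (pullback.snd q (g.fiberι s))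
    (show tF ⤳ (pullback.snd q (g.fiberι s)) w by rw [hw2]; exact hspec)
  have h1 : (pullback.fst q (g.fiberι s)) w'' ⤳ x' := by
    rw [← hw1]; exact hw''1.map (pullback.fst q (g.fiberι s)).continuous
  have h2 := hx' _ h1
  have h3 : q ((pullback.fst q (g.fiberι s)) w'') = g.fiberι s ((pullback.snd q (g.fiberι s)) w'') := by
    have := congrArg (fun φ : pullback q (g.fiberι s) ⟶ S' => φ w'')
      (pullback.condition (f := q) (g := g.fiberι s))
    exact this
  rw [h2, hw''2, htF] at h3
  exact h3.symm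

end Groth.Agent.Lib.CycBCShift
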