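import Groth.Agent.Lib.CycPullC1

set_option autoImplicit false
universe u
open AlgebraicGeometry CategoryTheory IsLocalRing

/-!
# Cycles and divisors of rational sections along a closed immersion
-/

namespace Groth.Agent.Lib.CycClosedImm

open Groth.Agent.Lib.PullbackStalkGen Groth.Agent.Lib.C1CapIndep Groth.Agent.Lib.C1CapTensor
open Groth.Agent.Lib.CycPullDivGen Groth.Agent.Lib.LocFact82 Groth.Agent.Lib.LenQuotFormula

section Alg

theorem ord_quotient_eq {A B : Type u} [CommRing A] [CommRing B] (φ : A →+* B)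
    (hφ : Function.Surjective φ) (qB : Ideal B) (qA : Ideal A) (hq : qA = qB.comap φ) (y : A) :
    Ring.ord (A ⧸ qA) (Ideal.Quotient.mk qA y) =
      Ring.ord (B ⧸ qB) (Ideal.Quotient.mk qB (φ y)) := by
  subst hq
  let ψ : (A ⧸ qB.comap φ) ≃+* (B ⧸ qB) :=
    RingEquiv.ofBijective (Ideal.quotientMap qB φ le_rfl)
      ⟨Ideal.quotientMap_injective' le_rfl, Ideal.quotientMap_surjective hφ⟩
  unfold Ring.ord
  rw [length_quot_eq_of_ringEquiv ψ (Ideal.span {Ideal.Quotient.mk (qB.comap φ) y}),
    Ideal.map_span, Set.image_singleton]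
  rfl

theorem ordFrac_zero {R : Type u} [CommRing R] {K : Type u} [Field K] [Algebra R K] :
    CycAlg.ordFrac R K (0 : K) = 0 := by
  unfold CycAlg.ordFrac
  split_ifs with h
  · haveI := h.1; haveI := h.2.1; haveI := h.2.2.1; haveI := h.2.2.2
    rw [map_zero]
    rfl
  · rfl

end Alg

section Top

variable {X D : Scheme.{u}} (i : D ⟶ X) [IsClosedImmersion i]

theorem specializes_iff {d d' : D} : i d ⤳ i d' ↔ d ⤳ d' :=
  i.isEmbedding.isInducing.specializes_iff

theorem mem_range_of_specializes {d : D} {x : X} (h : i d ⤳ x) : x ∈ Set.range i := by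
  have hcl : IsClosed (Set.range i) := i.isClosedEmbedding.isClosed_range
  exact hcl.closure_subset_iff.mpr (Set.singleton_subset_iff.mpr ⟨d, rfl⟩)
    (specializes_iff_mem_closure.mp h)

theorem isDimFun_closedImm {δ : X → ℤ} (hδ : Cyc.IsDimFun X δ) :
    Cyc.IsDimFun D (fun d => δ (i d)) := by
  intro x y hxy hne
  have hinj : Function.Injective i := i.isEmbedding.injective
  have h' : i x ⤳ i y := (specializes_iff i).mpr hxy
  obtain ⟨h1, h2⟩ := hδ (i x) (i y) h' (fun e => hne (hinj e))
  refine ⟨h1, fun himm => h2 ?_⟩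
  intro z' hz1 hz2
  obtain ⟨z, rfl⟩ := mem_range_of_specializes i hz1
  rcases himm z ((specializes_iff i).mp hz1) ((specializes_iff i).mp hz2) with h | h
  · exact Or.inl (congrArg _ h)
  · exact Or.inr (congrArg _ h)

omit [IsClosedImmersion i] in
theorem isLocallyNoetherian_closedImm' {X D : Scheme.{u}} (i : D ⟶ X) [IsClosedImmersion i]
    [IsLocallyNoetherian X] : IsLocallyNoetherian D :=
  LocallyOfFiniteType.isLocallyNoetherian i

end Top

section Ord

variable {X D : Scheme.{u}} (i : D ⟶ X) [IsClosedImmersion i]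

theorem genPrime_comap {d d' : D} (h : d ⤳ d') :
    genPrime X (i.base.hom.map_specializes h) = (genPrime D h).comap (i.stalkMap d').hom := by
  unfold genPrime
  rw [Ideal.comap_comap]
  have h1 : (D.presheaf.stalkSpecializes h).hom.comp (i.stalkMap d').hom =
      (i.stalkMap d).hom.comp (X.presheaf.stalkSpecializes (i.base.hom.map_specializes h)).hom := by
    ext a
    exact (Scheme.Hom.stalkSpecializes_stalkMap_apply i d d' h a).symm
  rw [h1, ← Ideal.comap_comap, IsLocalRing.maximalIdeal_comap (i.stalkMap d).hom]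

/-- the order of a rational function along `d ⤳ d'` computed on `D` or on `X`. -/
theorem ordAt_closedImm [IsLocallyNoetherian X] {δ : X → ℤ} (hδ : Cyc.IsDimFun X δ)
    {d d' : D} (h : d ⤳ d') (hdim : δ (i d') + 1 = δ (i d)) (g : X.residueField (i d)) :
    Cyc.ordAt d' d h (i.residueFieldMap d g) =
      Cyc.ordAt (i d') (i d) (i.base.hom.map_specializes h) g := by
  haveI := isLocallyNoetherian_closedImm' i
  have hδD := isDimFun_closedImm i hδ
  by_cases hg : g = 0
  · subst hg
    rw [map_zero]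
    unfold Cyc.ordAt
    rw [ordFrac_zero, ordFrac_zero]
  have h' : i d ⤳ i d' := i.base.hom.map_specializes h
  haveI := Groth.Agent.S1907.isFractionRing_locQuot (i d') (i d) h'
  obtain ⟨a, b, hb, hab⟩ := IsFractionRing.div_surjective (A := Cyc.LocQuot (i d') (i d) h') g
  obtain ⟨y, rfl⟩ := Ideal.Quotient.mk_surjective a
  obtain ⟨z, rfl⟩ := Ideal.Quotient.mk_surjective b
  have hy : algebraMap (Cyc.LocQuot (i d') (i d) h') (X.residueField (i d))
      (Ideal.Quotient.mk _ y) = Cyc.specMap (i d') (i d) h' y := rfl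
  have hz : algebraMap (Cyc.LocQuot (i d') (i d) h') (X.residueField (i d))
      (Ideal.Quotient.mk _ z) = Cyc.specMap (i d') (i d) h' z := rfl
  rw [hy, hz] at hab
  have hzne : Cyc.specMap (i d') (i d) h' z ≠ 0 := by
    intro h0
    rw [h0, div_zero] at hab
    exact hg hab.symm
  have hyne : Cyc.specMap (i d') (i d) h' y ≠ 0 := by
    intro h0
    rw [h0, zero_div] at hab
    exact hg hab.symm
  rw [← hab, map_div₀]
  have e1 := Groth.Agent.S1905.specMap_comm i d' d h y
  have e2 := Groth.Agent.S1905.specMap_comm i d' d h z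
  have hyne' : Cyc.specMap d' d h ((i.stalkMap d').hom y) ≠ 0 := by
    rw [← e1]
    exact (map_ne_zero _).mpr hyne
  have hzne' : Cyc.specMap d' d h ((i.stalkMap d').hom z) ≠ 0 := by
    rw [← e2]
    exact (map_ne_zero _).mpr hzne
  have k1 := Groth.Agent.S1907.ordAt_eq hδ (i d') (i d) h' hdim y z hyne hzne
  have k2 := Groth.Agent.S1907.ordAt_eq hδD d' d h hdim ((i.stalkMap d').hom y)
    ((i.stalkMap d').hom z) hyne' hzne'
  have e1' : (i.residueFieldMap d) (Cyc.specMap (i d') (i d) h' y) =
      Cyc.specMap d' d h ((i.stalkMap d').hom y) := e1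
  have e2' : (i.residueFieldMap d) (Cyc.specMap (i d') (i d) h' z) =
      Cyc.specMap d' d h ((i.stalkMap d').hom z) := e2
  rw [e1', e2', k1, k2]
  have hsurj : Function.Surjective (i.stalkMap d').hom := i.stalkMap_surjective d'
  have c1 : c y (⟨genPrime X h', inferInstance⟩ : PrimeSpectrum (X.presheaf.stalk (i d'))) =
      c ((i.stalkMap d').hom y)
        (⟨genPrime D h, inferInstance⟩ : PrimeSpectrum (D.presheaf.stalk d')) :=
    ord_quotient_eq (i.stalkMap d').hom hsurj _ _ (genPrime_comap i h) y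
  have c2 : c z (⟨genPrime X h', inferInstance⟩ : PrimeSpectrum (X.presheaf.stalk (i d'))) =
      c ((i.stalkMap d').hom z)
        (⟨genPrime D h, inferInstance⟩ : PrimeSpectrum (D.presheaf.stalk d')) :=
    ord_quotient_eq (i.stalkMap d').hom hsurj _ _ (genPrime_comap i h) z
  rw [c1, c2]

end Ord

section Sec

open Groth.Agent.Lib.H90Invertible Groth.Agent.Lib.H90PushStalkLocal Groth.Agent.Lib.CycPullC1

variable {X D : Scheme.{u}} (i : D ⟶ X) [IsClosedImmersion i]

/-- the divisor of a rational section of `L` on the closure of `i d`, computed on `D`. -/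
theorem secDivFun_closedImm [IsLocallyNoetherian X] {δ : X → ℤ} (hδ : Cyc.IsDimFun X δ)
    {L : X.Modules} (hL : PicF.IsInvertible L) (d d' : D) (l : L.presheaf.stalk (i d)) :
    Cyc.secDivFun (X := D) (fun d => δ (i d)) ((Scheme.Modules.pullback i).obj L) d
        (Submodule.Quotient.mk (tau i L d l)) d' =
      Cyc.secDivFun δ L (i d) (Submodule.Quotient.mk l) (i d') := by
  have hM := isInvertible_pullback i hL
  unfold Cyc.secDivFun
  by_cases h : d ⤳ d' ∧ δ (i d') + 1 = δ (i d)
  · have h' : i d ⤳ i d' ∧ δ (i d') + 1 = δ (i d) := ⟨i.base.hom.map_specializes h.1, h.2⟩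
    rw [dif_pos h, dif_pos h']
    obtain ⟨t, bij⟩ := exists_stalk_bijective_of_isInvertible hL (i d')
    have bij_sp := Groth.Agent.S1923.bijective_smul_stalkSpecializes hL h'.1 t
      (span_eq_top_of_bijective (i d') t bij)
    obtain ⟨a, ha⟩ := exists_smul_mk_eq (i d) _ bij_sp (Submodule.Quotient.mk l)
    rw [mk_tau_eq i h.1 t a l ha,
      secOrdAt_smul_mk_generator hM d d' h.1 _ (bijective_smul_tau i hL d' t bij),
      ha, secOrdAt_smul_mk_generator hL (i d) (i d') h'.1 t bij a]
    exact ordAt_closedImm i hδ h.1 h.2 (X.residue (i d) a)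
  · rw [dif_neg h, dif_neg]
    intro h'
    exact h ⟨(specializes_iff i).mp h'.1, h'.2⟩

theorem secDivFun_eq_zero_of_notMem_range {δ : X → ℤ} {L : X.Modules} (d : D)
    (σ : Cyc.secFibre L (i d)) (x : X) (hx : x ∉ Set.range i) :
    Cyc.secDivFun δ L (i d) σ x = 0 := by
  unfold Cyc.secDivFun
  rw [dif_neg]
  intro h
  exact hx (mem_range_of_specializes i h.1)

end Sec

section Push

variable {X D : Scheme.{u}} (i : D ⟶ X) [IsClosedImmersion i]

theorem residueDegree_closedImm (d : D) : i.residueDegree d = 1 := by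
  unfold Scheme.Hom.residueDegree
  letI := (i.residueFieldMap d).hom.toAlgebra
  have hsurj : Function.Surjective (i.residueFieldMap d).hom := by
    intro z
    obtain ⟨b, rfl⟩ := IsLocalRing.residue_surjective z
    obtain ⟨a, rfl⟩ := i.stalkMap_surjective d b
    exact ⟨X.residue (i d) a, congr($(Scheme.residue_residueFieldMap i d) a)⟩
  have hbij : Function.Bijective (Algebra.linearMap (X.residueField (i d)) (D.residueField d)) :=
    ⟨(i.residueFieldMap d).hom.injective, hsurj⟩
  rw [← (LinearEquiv.ofBijective _ hbij).finrank_eq]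
  exact Module.finrank_self _

theorem map_closedImm_apply (δ : X → ℤ) (α : AlgebraicCycle D ℤ) (d : D) :
    (AlgebraicCycle.map i (fun d => δ (i d)) δ α) (i d) = α d := by
  have hinj : Function.Injective i := i.isEmbedding.injective
  unfold AlgebraicCycle.map
  simp only [Function.locallyFinsupp.map_apply]
  have hset : (i : D → X) ⁻¹' {i d} = {d} := by
    ext z
    simp only [Set.mem_preimage, Set.mem_singleton_iff]
    exact ⟨fun h => hinj h, fun h => congrArg _ h⟩
  rw [hset, finsum_mem_singleton]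
  unfold AlgebraicCycle.mapCoeff
  rw [if_pos rfl, residueDegree_closedImm]
  simp

theorem map_closedImm_apply_of_notMem (δ : X → ℤ) (α : AlgebraicCycle D ℤ) (x : X)
    (hx : x ∉ Set.range i) :
    (AlgebraicCycle.map i (fun d => δ (i d)) δ α) x = 0 := by
  unfold AlgebraicCycle.map
  simp only [Function.locallyFinsupp.map_apply]
  refine finsum_mem_eq_zero_of_forall_eq_zero ?_
  intro z hz
  exact absurd ⟨z, hz⟩ hx

/-- sums over the points of `X` of functions supported on the image of `D`. -/
theorem finsum_eq_finsum_closedImm {M : Type*} [AddCommMonoid M] (F : X → M)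
    (hF : ∀ x, x ∉ Set.range i → F x = 0) : ∑ᶠ x, F x = ∑ᶠ d, F (i d) := by
  have hinj : Function.Injective i := i.isEmbedding.injective
  rw [← finsum_mem_range hinj, ← finsum_mem_univ]
  refine finsum_mem_inter_support_eq' F Set.univ (Set.range i) ?_
  intro x hx
  refine ⟨fun _ => ?_, fun _ => trivial⟩
  by_contra hnot
  exact hx (hF x hnot)

end Push

section NonFlat

open Groth.Agent.Lib.H90Invertible Groth.Agent.Lib.H90PushStalkLocal

variable {X X' : Scheme.{u}} (p : X' ⟶ X)

theorem mk_tau_eq_self' {L : X.Modules} (ζ : X') (t : L.presheaf.stalk (p ζ))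
    (a : X.presheaf.stalk (p ζ)) (l : L.presheaf.stalk (p ζ))
    (hl : (Submodule.Quotient.mk l : Cyc.secFibre L (p ζ)) =
      a • (Submodule.Quotient.mk t : Cyc.secFibre L (p ζ))) :
    (Submodule.Quotient.mk (tau p L ζ l) :
      Cyc.secFibre ((Scheme.Modules.pullback p).obj L) ζ) =
      (p.stalkMap ζ a) • (Submodule.Quotient.mk (tau p L ζ t) :
        Cyc.secFibre ((Scheme.Modules.pullback p).obj L) ζ) := by
  rw [← Submodule.Quotient.mk_smul, Submodule.Quotient.eq] at hl ⊢
  have h1 := tau_mem_smul_top p L ζ _ hl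
  rw [map_sub, tau_smul] at h1
  exact h1

/-- the pulled back rational section is nonzero (any morphism). -/
theorem mk_tau_ne_zero' {L : X.Modules} (hL : PicF.IsInvertible L) (ζ : X')
    (l : L.presheaf.stalk (p ζ))
    (hl : (Submodule.Quotient.mk l : Cyc.secFibre L (p ζ)) ≠ 0) :
    (Submodule.Quotient.mk (tau p L ζ l) :
      Cyc.secFibre ((Scheme.Modules.pullback p).obj L) ζ) ≠ 0 := by
  obtain ⟨t, bij⟩ := exists_stalk_bijective_of_isInvertible hL (p ζ)
  obtain ⟨a, ha⟩ := exists_smul_mk_eq (p ζ) t bij (Submodule.Quotient.mk l)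
  have hane : a ∉ maximalIdeal (X.presheaf.stalk (p ζ)) :=
    (smul_mk_ne_zero_iff (p ζ) t bij a).mp (ha ▸ hl)
  rw [mk_tau_eq_self' p ζ t a l ha]
  apply (smul_mk_ne_zero_iff ζ _ (bijective_smul_tau p hL ζ t bij) _).mpr
  intro hmem
  have hu : IsUnit a := by
    by_contra hnu
    exact hane ((IsLocalRing.mem_maximalIdeal _).mpr hnu)
  exact ((IsLocalRing.mem_maximalIdeal _).mp hmem) (hu.map (p.stalkMap ζ).hom)

end NonFlat

section Gysin

open Groth.Agent.Lib.H90Invertible

variable {X D : Scheme.{u}} (i : D ⟶ X) [IsClosedImmersion i]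

/-- `c_1(L) ∩ i_* α` restricted to `D` is `c_1(i^* L) ∩ α` computed with the pulled back
sections. -/
theorem c1CapFun_map_closedImm [IsLocallyNoetherian X] {δ : X → ℤ} (hδ : Cyc.IsDimFun X δ)
    {L : X.Modules} (hL : PicF.IsInvertible L) (α : AlgebraicCycle D ℤ)
    (v : (ξ : X) → Cyc.secFibre L ξ) (l' : (d : D) → L.presheaf.stalk (i d))
    (hl' : ∀ d, (Submodule.Quotient.mk (l' d) : Cyc.secFibre L (i d)) = v (i d)) (d' : D) :
    Cyc.c1CapFun δ L ⇑(AlgebraicCycle.map i (fun d => δ (i d)) δ α) v (i d') =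
      Cyc.c1CapFun (X := D) (fun d => δ (i d)) ((Scheme.Modules.pullback i).obj L) ⇑α
        (fun d => Submodule.Quotient.mk (tau i L d (l' d))) d' := by
  have e1 : Cyc.c1CapFun δ L ⇑(AlgebraicCycle.map i (fun d => δ (i d)) δ α) v (i d') =
      ∑ᶠ ξ : X, (AlgebraicCycle.map i (fun d => δ (i d)) δ α) ξ *
        Cyc.secDivFun δ L ξ (v ξ) (i d') := rfl
  have e2 : Cyc.c1CapFun (X := D) (fun d => δ (i d)) ((Scheme.Modules.pullback i).obj L) ⇑α
        (fun d => Submodule.Quotient.mk (tau i L d (l' d))) d' =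
      ∑ᶠ d : D, α d * Cyc.secDivFun (X := D) (fun d => δ (i d))
        ((Scheme.Modules.pullback i).obj L) d (Submodule.Quotient.mk (tau i L d (l' d))) d' := rfl
  rw [e1, e2, finsum_eq_finsum_closedImm i _
    (fun x hx => by rw [map_closedImm_apply_of_notMem i δ α x hx, zero_mul])]
  refine finsum_congr fun d => ?_
  rw [map_closedImm_apply, secDivFun_closedImm i hδ hL d d' (l' d), hl']

end Gysin

end Groth.Agent.Lib.CycClosedImm
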