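import Groth.Agent.Lib.CycClosedImm
import Groth.Agent.Lib.ZeroSectionC1

set_option autoImplicit false
universe u
open AlgebraicGeometry CategoryTheory IsLocalRing

/-!
# `c_1(L) ∩ [Y]` for a closed subscheme `Y` and the zero scheme of a section of `L|_Y`
-/

namespace Groth.Agent.Lib.CycClosedImm2

open Groth.Agent.Lib.PullbackStalkGen Groth.Agent.Lib.C1CapIndep Groth.Agent.Lib.C1CapTensor
open Groth.Agent.Lib.CycClosedImm Groth.Agent.Lib.H90Invertible Groth.Agent.Lib.H90PushStalkLocal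

variable {X Y : Scheme.{u}} (ι : Y ⟶ X) [IsClosedImmersion ι]

section Subscheme

theorem subschemeFun_closedImm (δ : X → ℤ) (n : ℤ) (y : Y) :
    Cyc.subschemeFun δ n ι (ι y) =
      Cyc.subschemeFun (X := Y) (fun y => δ (ι y)) n (𝟙 Y) y := by
  have hinj : Function.Injective ι := ι.isEmbedding.injective
  unfold Cyc.subschemeFun
  have h1 : {z : Y | ι z = ι y} = {y} := by
    ext z
    simp only [Set.mem_setOf_eq, Set.mem_singleton_iff]
    exact ⟨fun h => hinj h, fun h => congrArg _ h⟩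
  have h2 : {z : Y | (𝟙 Y : Y ⟶ Y) z = y} = {y} := by
    ext z
    simp
  rw [h1, h2]

theorem subschemeFun_eq_zero_of_notMem_range (δ : X → ℤ) (n : ℤ) (x : X)
    (hx : x ∉ Set.range ι) : Cyc.subschemeFun δ n ι x = 0 := by
  unfold Cyc.subschemeFun
  split_ifs
  · refine finsum_mem_eq_zero_of_forall_eq_zero ?_
    intro z hz
    exact absurd ⟨z, hz⟩ hx
  · rfl

/-- the fundamental cycle `[Y]_n` of a closed subscheme with `δ ≤ n`, as a cycle on `X`. -/
theorem exists_subschemeCycle [IsLocallyNoetherian X] {δ : X → ℤ} (hδ : Cyc.IsDimFun X δ) (n : ℤ)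
    (hY : ∀ y : Y, δ (ι y) ≤ n) :
    ∃ β : AlgebraicCycle X ℤ, ⇑β = Cyc.subschemeFun δ n ι ∧ β ∈ Cyc.Zk X δ n := by
  haveI := isLocallyNoetherian_closedImm' ι
  have hloc : ∀ x₀ : X, ∃ U : Set X, IsOpen U ∧ x₀ ∈ U ∧
      (U ∩ Function.support (Cyc.subschemeFun δ n ι)).Finite := by
    intro x₀
    obtain ⟨_, ⟨U, hU, rfl⟩, hxU, -⟩ :=
      X.isBasis_affineOpens.exists_subset_of_mem_open (Set.mem_univ x₀) isOpen_univ
    refine ⟨U, U.isOpen, hxU, ?_⟩
    have hUY : IsAffineOpen (ι ⁻¹ᵁ U) := hU.preimage ι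
    have hfin := Groth.Agent.Lib.CycPullRatEquiv.finite_maximal_points_affine (ι ⁻¹ᵁ U) hUY
      Set.univ isClosed_univ
    refine (hfin.image ι).subset ?_
    rintro x ⟨hxU', hx⟩
    rw [Function.mem_support] at hx
    have hxr : x ∈ Set.range ι := by
      by_contra hnot
      exact hx (subschemeFun_eq_zero_of_notMem_range ι δ n x hnot)
    obtain ⟨y, rfl⟩ := hxr
    have hδy : δ (ι y) = n := by
      by_contra hne
      apply hx
      unfold Cyc.subschemeFun
      rw [if_neg hne]
    refine ⟨y, ⟨hxU', trivial, ?_⟩, rfl⟩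
    intro z _ hzy
    by_contra hne
    have h1 := (hδ (ι z) (ι y) ((specializes_iff ι).mpr hzy)
      (fun e => hne (ι.isEmbedding.injective e))).1
    have h2 := hY z
    omega
  refine ⟨{ toFun := Cyc.subschemeFun δ n ι
            supportWithinDomain' := by simp
            supportLocallyFiniteWithinDomain' := fun z _ => ?_ }, rfl, ?_⟩
  · obtain ⟨U, hUo, hzU, hfin⟩ := hloc z
    exact ⟨U, hUo.mem_nhds hzU, hfin⟩
  · intro x hx
    show Cyc.subschemeFun δ n ι x = 0
    unfold Cyc.subschemeFun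
    rw [if_neg hx]

end Subscheme

section Lift

/-- a nonzero rational section of `ι^* L` at `y` is the image of a rational section of `L`. -/
theorem exists_lift_section {L : X.Modules} (hL : PicF.IsInvertible L) (y : Y)
    (σ : Cyc.secFibre ((Scheme.Modules.pullback ι).obj L) y) (hσ : σ ≠ 0) :
    ∃ l : L.presheaf.stalk (ι y),
      (Submodule.Quotient.mk (tau ι L y l) :
        Cyc.secFibre ((Scheme.Modules.pullback ι).obj L) y) = σ ∧
      (Submodule.Quotient.mk l : Cyc.secFibre L (ι y)) ≠ 0 := by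
  obtain ⟨t, bij⟩ := exists_stalk_bijective_of_isInvertible hL (ι y)
  have bij' := bijective_smul_tau ι hL y t bij
  obtain ⟨b, hb⟩ := exists_smul_mk_eq y _ bij' σ
  have hbne : b ∉ maximalIdeal (Y.presheaf.stalk y) :=
    (smul_mk_ne_zero_iff y _ bij' b).mp (hb ▸ hσ)
  obtain ⟨a, rfl⟩ := ι.stalkMap_surjective y b
  refine ⟨a • t, ?_, ?_⟩
  · rw [tau_smul, Submodule.Quotient.mk_smul, hb]
  · rw [Submodule.Quotient.mk_smul]
    apply (smul_mk_ne_zero_iff (ι y) t bij a).mpr
    intro ha
    apply hbne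
    have hu : ¬ IsUnit a := (IsLocalRing.mem_maximalIdeal _).mp ha
    apply (IsLocalRing.mem_maximalIdeal _).mpr
    intro hu'
    exact hu (isUnit_of_map_unit (ι.stalkMap y).hom a hu')

/-- extend a family of rational sections given on the points of `Y` to all of `X`. -/
theorem exists_extend_sections {L : X.Modules} (v : (ξ : X) → Cyc.secFibre L ξ)
    (lY : (y : Y) → L.presheaf.stalk (ι y)) :
    ∃ v' : (ξ : X) → Cyc.secFibre L ξ, (∀ y, v' (ι y) = Submodule.Quotient.mk (lY y)) ∧
      ∀ ξ, ξ ∉ Set.range ι → v' ξ = v ξ := by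
  classical
  have hinj : Function.Injective ι := ι.isEmbedding.injective
  refine ⟨fun ξ => if h : ξ ∈ Set.range ι then
    h.choose_spec ▸ (Submodule.Quotient.mk (lY h.choose) : Cyc.secFibre L (ι h.choose))
    else v ξ, ?_, ?_⟩
  · intro y
    have h : ι y ∈ Set.range ι := ⟨y, rfl⟩
    simp only [dif_pos h]
    have key : ∀ (y' : Y) (e : ι y' = ι y),
        e ▸ (Submodule.Quotient.mk (lY y') : Cyc.secFibre L (ι y')) =
          (Submodule.Quotient.mk (lY y) : Cyc.secFibre L (ι y)) := by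
      intro y' e
      obtain rfl := hinj e
      rfl
    exact key _ _
  · intro ξ hξ
    simp only [dif_neg hξ]

end Lift

end Groth.Agent.Lib.CycClosedImm2
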