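import Mathlib
import Groth.Prelude.Def_CycDet
import Groth.Agent.S1838

/-!
# `det_κ(M) ≃ ⋀^l M` for a finite-dimensional `κ`-vector space `M` (Stacks 02P9-type)
-/

namespace Groth.Agent.Lib.CycDetExt

open CycDet IsLocalRing

universe u v
variable (R : Type u) [CommRing R] [IsLocalRing R] (M : Type v) [AddCommGroup M] [Module R M]
  [Module (ResidueField R) M] [IsScalarTower R (ResidueField R) M]

local notation "κ" => IsLocalRing.ResidueField R

lemma smul_eq_residue_smul (r : R) (x : M) : r • x = (residue R r) • x := by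
  rw [← algebraMap_smul (ResidueField R) r x]
  rfl

lemma isAdmissible_all {l : ℕ} (e : Fin l → M) : IsAdmissible R M e := by
  intro i r hr
  have : residue R r = 0 := (residue_eq_zero_iff r).2 hr
  rw [smul_eq_residue_smul, this, zero_smul]
  exact Submodule.zero_mem _

lemma spanBefore_le {l : ℕ} (e : Fin l → M) (i : ℕ) (x : M) (hx : x ∈ spanBefore R M e i) :
    x ∈ Submodule.span κ (e '' {j : Fin l | (j : ℕ) < i}) := by
  unfold spanBefore at hx
  refine Submodule.span_induction (p := fun x _ => x ∈ Submodule.span κ (e '' {j : Fin l | (j : ℕ) < i}))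
    (fun y hy => Submodule.subset_span hy) (Submodule.zero_mem _)
    (fun _ _ _ _ h1 h2 => Submodule.add_mem _ h1 h2) (fun r y _ h => ?_) hx
  rw [smul_eq_residue_smul]
  exact Submodule.smul_mem _ _ h

variable {R M}

/-- an alternating map vanishes when an entry is in the span of the earlier entries -/
lemma alt_eq_zero_of_mem {N : Type*} [AddCommGroup N] [Module κ N] {l : ℕ}
    (f : M [⋀^Fin l]→ₗ[κ] N) (e : Fin l → M) (a : Fin l) (w : M)
    (hw : w ∈ Submodule.span κ (e '' {j : Fin l | (j : ℕ) < a})) :
    f (Function.update e a w) = 0 := by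
  classical
  refine Submodule.span_induction (p := fun w _ => f (Function.update e a w) = 0)
    ?_ ?_ ?_ ?_ hw
  · rintro y ⟨j, hj, rfl⟩
    have hja : j ≠ a := by
      intro h
      rw [h] at hj
      exact lt_irrefl _ (show (a : ℕ) < a from hj)
    exact f.map_eq_zero_of_eq _ (i := j) (j := a)
      (by rw [Function.update_of_ne hja, Function.update_self]) hja
  · rw [f.map_update_zero]
  · intro x y _ _ hx hy
    rw [f.map_update_add, hx, hy, add_zero]
  · intro c x _ hx
    rw [f.map_update_smul, hx, smul_zero]

variable (R M)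

/-- the map `Free → ⋀^l M` -/
noncomputable def phi0 (l : ℕ) : Free R M l →ₗ[κ] ⋀[κ]^l M :=
  Finsupp.lift _ κ (Adm R M l) (fun e => exteriorPower.ιMulti κ l e.1)

lemma phi0_sym {l : ℕ} (e : Adm R M l) : phi0 R M l (sym R M e) = exteriorPower.ιMulti κ l e.1 := by
  simp [phi0, sym]

lemma phi0_relSet (l : ℕ) : Submodule.span κ (relSet R M l) ≤ LinearMap.ker (phi0 R M l) := by
  classical
  rw [Submodule.span_le]
  rintro x ((⟨e, a, ha, rfl⟩ | ⟨e, e', a, c, hne, hmem, rfl⟩) | ⟨e, e', a, b, hab, -, hswap, rfl⟩)
  · rw [SetLike.mem_coe, LinearMap.mem_ker, phi0_sym]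
    have h := alt_eq_zero_of_mem (exteriorPower.ιMulti κ l (M := M)) e.1 a (e.1 a)
      (spanBefore_le R M e.1 a _ ha)
    rwa [Function.update_eq_self] at h
  · rw [SetLike.mem_coe, LinearMap.mem_ker, map_sub, map_smul, phi0_sym, phi0_sym, sub_eq_zero]
    set w := e.1 a - (c : R) • e'.1 a with hw
    have h1 : e.1 = Function.update e'.1 a ((residue R (c : R)) • e'.1 a + w) := by
      funext j
      by_cases hj : j = a
      · subst hj
        rw [Function.update_self, hw, ← smul_eq_residue_smul]
        abel
      · rw [Function.update_of_ne hj, hne j hj]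
    have hw' : w ∈ Submodule.span κ (e'.1 '' {j : Fin l | (j : ℕ) < a}) := by
      have h2 := spanBefore_le R M e.1 a _ hmem
      have h3 : e.1 '' {j : Fin l | (j : ℕ) < a} = e'.1 '' {j : Fin l | (j : ℕ) < a} := by
        apply Set.image_congr
        intro j hj
        apply hne
        intro h
        rw [h] at hj
        exact lt_irrefl _ (show (a : ℕ) < a from hj)
      rwa [h3] at h2
    rw [h1, (exteriorPower.ιMulti κ l (M := M)).map_update_add,
      (exteriorPower.ιMulti κ l (M := M)).map_update_smul, Function.update_eq_self,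
      alt_eq_zero_of_mem _ e'.1 a w hw', add_zero]
  · rw [SetLike.mem_coe, LinearMap.mem_ker, map_add, phi0_sym, phi0_sym, hswap]
    have hne : a ≠ b := by
      intro h
      rw [h] at hab
      omega
    rw [(exteriorPower.ιMulti κ l (M := M)).map_swap e.1 hne, add_neg_cancel]

/-- the induced map `DetOfLen → ⋀^l M` -/
noncomputable def phi (l : ℕ) : DetOfLen R M l →ₗ[κ] ⋀[κ]^l M :=
  (Submodule.span κ (relSet R M l)).liftQ (phi0 R M l) (phi0_relSet R M l)

lemma phi_mk {l : ℕ} (e : Adm R M l) :
    phi R M l (Submodule.Quotient.mk (sym R M e)) = exteriorPower.ιMulti κ l e.1 := by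
  simp [phi, phi0_sym]

lemma phi_surjective (l : ℕ) : Function.Surjective (phi R M l) := by
  rw [← LinearMap.range_eq_top, eq_top_iff, ← exteriorPower.ιMulti_span, Submodule.span_le]
  rintro _ ⟨e, rfl⟩
  exact ⟨Submodule.Quotient.mk (sym R M ⟨e, isAdmissible_all R M e⟩), phi_mk R M _⟩

variable [Module.Finite (IsLocalRing.ResidueField R) M]

lemma length_eq : Module.length R M = Module.finrank κ M := by
  rw [Module.length_eq_of_surjective (S := R) (R := κ) (M := M) residue_surjective,
    Module.length_eq_finrank]

lemma isFiniteLength : IsFiniteLength R M := by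
  rw [← Module.length_ne_top_iff, length_eq]
  exact ENat.natCast_ne_top _

theorem exists_equiv :
    ∃ Φ : Det R M ≃ₗ[κ] (⋀[κ]^((Module.length R M).toNat) M),
      ∀ e : Adm R M (Module.length R M).toNat,
        Φ (symbol R M e) = exteriorPower.ιMulti κ ((Module.length R M).toNat) e.1 := by
  set l := (Module.length R M).toNat with hl
  have hl' : l = Module.finrank κ M := by rw [hl, length_eq]; rfl
  have hrank : Module.rank κ (DetOfLen R M l) ≤ 1 :=
    Groth.Agent.S1838.result R M (isFiniteLength R M)
  have hfin : Module.Finite κ (DetOfLen R M l) := by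
    rw [← Module.rank_lt_aleph0_iff]
    exact lt_of_le_of_lt hrank Cardinal.one_lt_aleph0
  have hfr : Module.finrank κ (⋀[κ]^l M) = 1 := by
    rw [exteriorPower.finrank_eq, hl', Nat.choose_self]
  have hfd : Module.finrank κ (DetOfLen R M l) ≤ 1 := by
    have := Module.finrank_le_of_rank_le (n := 1) (by simpa using hrank)
    exact this
  have hsurj := phi_surjective R M l
  have hfd' : Module.finrank κ (DetOfLen R M l) = Module.finrank κ (⋀[κ]^l M) := by
    have h1 := LinearMap.finrank_le_finrank_of_surjective hsurj  -- hopefully exists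
    omega
  have hinj : Function.Injective (phi R M l) :=
    (LinearMap.injective_iff_surjective_of_finrank_eq_finrank hfd').2 hsurj
  exact ⟨LinearEquiv.ofBijective (phi R M l) ⟨hinj, hsurj⟩, fun e => phi_mk R M e⟩

end Groth.Agent.Lib.CycDetExt
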