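import Groth.Agent.S1838

/-!
# A nonzero functional on `CycDet.DetOfLen`

For a tuple `u : Fin n → M` we define by recursion on `n` a function
`D R n M u : (Fin n → M) → ResidueField R` ("determinant of `e` with respect to `u`"),
expanding along the element `x = u 0`: if `i` is the index with `x ∈ ⟨e_0..e_i⟩ ∖ ⟨e_0..e_{i-1}⟩`
and `e_i ≡ a x` modulo the earlier entries, then
`D u e = (-1)^i a D ū (ē without i)` computed in `M ⧸ R x`.
We check that `D` respects the three admissible relations, so descends to `DetOfLen`.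
-/

set_option autoImplicit false
set_option linter.unusedSectionVars false
universe u v

namespace Groth.Agent.Lib.CycDetFun9

open CycDet IsLocalRing
open Groth.Agent.S1838 (spanBefore_mono mem_spanBefore spanBefore_congr spanBefore_zero
  spanBefore_succ spanBefore_comp_swap isAdmissible_swap)

section basic

variable {R : Type u} [CommRing R] [IsLocalRing R] {M : Type v} [AddCommGroup M] [Module R M]

/-- `i` is the index at which `x` enters the flag of `e`. -/
def IsIdx {n : ℕ} (e : Fin n → M) (x : M) (i : Fin n) : Prop :=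
  x ∈ spanBefore R M e ((i : ℕ) + 1) ∧ x ∉ spanBefore R M e (i : ℕ)

lemma IsIdx.unique {n : ℕ} {e : Fin n → M} {x : M} {i j : Fin n}
    (hi : IsIdx (R := R) e x i) (hj : IsIdx (R := R) e x j) : i = j := by
  by_contra hne
  rcases lt_or_gt_of_ne hne with h | h
  · have h' : (i : ℕ) + 1 ≤ (j : ℕ) := h
    exact hj.2 (spanBefore_mono e h' hi.1)
  · have h' : (j : ℕ) + 1 ≤ (i : ℕ) := h
    exact hi.2 (spanBefore_mono e h' hj.1)

lemma isUnit_of_not_mem {s : R} (hs : s ∉ maximalIdeal R) : IsUnit s := by
  by_contra hnu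
  exact hs ((IsLocalRing.mem_maximalIdeal s).mpr hnu)

lemma exists_unit_of_isIdx {n : ℕ} {e : Fin n → M} (he : IsAdmissible R M e) {x : M} {i : Fin n}
    (hi : IsIdx (R := R) e x i) : ∃ r : Rˣ, e i - (r : R) • x ∈ spanBefore R M e i := by
  have h1 := hi.1
  rw [spanBefore_succ, Submodule.mem_sup] at h1
  obtain ⟨y, hy, z, hz, hyz⟩ := h1
  obtain ⟨s, rfl⟩ := Submodule.mem_span_singleton.mp hz
  have hs : IsUnit s := by
    apply isUnit_of_not_mem
    intro hsm
    exact hi.2 (hyz ▸ Submodule.add_mem _ hy (he i s hsm))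
  obtain ⟨r, rfl⟩ := hs
  refine ⟨r⁻¹, ?_⟩
  have : e i - ((r⁻¹ : Rˣ) : R) • x = -(((r⁻¹ : Rˣ) : R) • y) := by
    rw [← hyz, smul_add, smul_smul, Units.inv_mul, one_smul]; abel
  rw [this]; exact Submodule.neg_mem _ (Submodule.smul_mem _ _ hy)

open Classical in
/-- The coefficient `a` with `e i ≡ a x` modulo the earlier entries. -/
noncomputable def aCoef {n : ℕ} (e : Fin n → M) (i : Fin n) (x : M) : ResidueField R :=
  if h : ∃ r : R, e i - r • x ∈ spanBefore R M e i then residue R h.choose else 0

lemma aCoef_eq {n : ℕ} {e : Fin n → M} {i : Fin n} {x : M} (hx : x ∉ spanBefore R M e i) (r : R)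
    (hr : e i - r • x ∈ spanBefore R M e i) : aCoef (R := R) e i x = residue R r := by
  have h : ∃ r : R, e i - r • x ∈ spanBefore R M e i := ⟨r, hr⟩
  rw [aCoef, dif_pos h]
  have h3 : (h.choose - r) • x ∈ spanBefore R M e i := by
    have : (h.choose - r) • x = (e i - r • x) - (e i - h.choose • x) := by rw [sub_smul]; abel
    rw [this]; exact Submodule.sub_mem _ hr h.choose_spec
  have h4 : h.choose - r ∈ maximalIdeal R := by
    by_contra hn
    obtain ⟨w, hw⟩ := isUnit_of_not_mem hn
    apply hx
    have : x = ((w⁻¹ : Rˣ) : R) • ((h.choose - r) • x) := by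
      rw [← hw, smul_smul, Units.inv_mul, one_smul]
    rw [this]; exact Submodule.smul_mem _ _ h3
  have := (IsLocalRing.residue_eq_zero_iff _).mpr h4
  rw [map_sub, sub_eq_zero] at this; exact this

/-- The tuple `e` with the `i`-th entry removed, read in `M ⧸ R x`. -/
noncomputable def red {n : ℕ} (e : Fin (n + 1) → M) (x : M) (i : Fin (n + 1)) :
    Fin n → M ⧸ Submodule.span R {x} :=
  fun j => Submodule.Quotient.mk (e (i.succAbove j))

lemma spanBefore_red {n : ℕ} (e : Fin (n + 1) → M) (x : M) (i : Fin (n + 1))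
    (hi : ∃ r : R, e i - r • x ∈ spanBefore R M e i) (j : Fin n) :
    spanBefore R (M ⧸ Submodule.span R {x}) (red e x i) j =
      (spanBefore R M e (i.succAbove j)).map (Submodule.span R {x}).mkQ := by
  unfold spanBefore
  rw [Submodule.map_span]
  apply le_antisymm
  · apply Submodule.span_mono
    rintro _ ⟨j', hj', rfl⟩
    have hlt : i.succAbove j' < i.succAbove j := Fin.strictMono_succAbove i (Fin.lt_def.mpr hj')
    exact ⟨e (i.succAbove j'), ⟨i.succAbove j', Fin.lt_def.mp hlt, rfl⟩, rfl⟩
  · apply Submodule.span_le.mpr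
    rintro _ ⟨_, ⟨k, hk, rfl⟩, rfl⟩
    have hk' : k < i.succAbove j := Fin.lt_def.mpr hk
    by_cases hki : k = i
    · subst hki
      obtain ⟨r, hr⟩ := hi
      have h0 : (Submodule.span R {x}).mkQ (e k) = (Submodule.span R {x}).mkQ (e k - r • x) := by
        rw [map_sub]
        have : (Submodule.span R {x}).mkQ (r • x) = 0 := by
          rw [Submodule.mkQ_apply, Submodule.Quotient.mk_eq_zero]
          exact Submodule.smul_mem _ _ (Submodule.subset_span rfl)
        rw [this, sub_zero]
      rw [h0]
      have h2 : spanBefore R M e k ≤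
          (Submodule.span R (red e x k '' {j' : Fin n | (j' : ℕ) < (j : ℕ)})).comap
            (Submodule.span R {x}).mkQ := by
        apply Submodule.span_le.mpr
        rintro _ ⟨k', hk'', rfl⟩
        have hk3 : k' < k := Fin.lt_def.mpr hk''
        obtain ⟨j'', rfl⟩ := Fin.exists_succAbove_eq (ne_of_lt hk3)
        apply Submodule.subset_span
        refine ⟨j'', ?_, rfl⟩
        have : k.succAbove j'' < k.succAbove j := lt_trans hk3 hk'
        exact Fin.lt_def.mp ((Fin.strictMono_succAbove k).lt_iff_lt.mp this)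
      exact h2 hr
    · obtain ⟨j', rfl⟩ := Fin.exists_succAbove_eq hki
      apply Submodule.subset_span
      exact ⟨j', Fin.lt_def.mp ((Fin.strictMono_succAbove i).lt_iff_lt.mp hk'), rfl⟩

lemma isAdmissible_red {n : ℕ} {e : Fin (n + 1) → M} (he : IsAdmissible R M e) (x : M)
    (i : Fin (n + 1)) (hi : ∃ r : R, e i - r • x ∈ spanBefore R M e i) :
    IsAdmissible R (M ⧸ Submodule.span R {x}) (red e x i) := by
  intro j r hr
  rw [spanBefore_red e x i hi j]
  exact ⟨r • e (i.succAbove j), he _ r hr, by simp [red]⟩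

lemma val_succAbove {n : ℕ} (i : Fin (n + 1)) (j : Fin n) :
    ((i.succAbove j : Fin (n + 1)) : ℕ) = if (j : ℕ) < (i : ℕ) then (j : ℕ) else (j : ℕ) + 1 := by
  by_cases h : (j : ℕ) < (i : ℕ)
  · rw [if_pos h, Fin.succAbove_of_castSucc_lt i j (Fin.lt_def.mpr (by simpa using h))]
    simp
  · rw [if_neg h, Fin.succAbove_of_le_castSucc i j (Fin.le_def.mpr (by simpa using h))]
    simp

lemma exists_isIdx_iff {n : ℕ} (e : Fin n → M) (x : M) :
    (∃ i, IsIdx (R := R) e x i) ↔ x ≠ 0 ∧ x ∈ Submodule.span R (Set.range e) := by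
  have htop : spanBefore R M e n = Submodule.span R (Set.range e) := by
    unfold spanBefore
    congr 1
    ext y
    constructor
    · rintro ⟨j, _, rfl⟩; exact ⟨j, rfl⟩
    · rintro ⟨j, rfl⟩; exact ⟨j, j.2, rfl⟩
  constructor
  · rintro ⟨i, hi⟩
    refine ⟨?_, ?_⟩
    · rintro rfl
      exact hi.2 (Submodule.zero_mem _)
    · rw [← htop]
      exact spanBefore_mono e (by omega) hi.1
  · rintro ⟨hx0, hx⟩
    classical
    have hex : ∃ t : ℕ, x ∈ spanBefore R M e t := ⟨n, htop ▸ hx⟩
    have hle : Nat.find hex ≤ n := Nat.find_le (htop ▸ hx)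
    have hpos : Nat.find hex ≠ 0 := by
      intro h0
      have := Nat.find_spec hex
      rw [h0, spanBefore_zero] at this
      exact hx0 ((Submodule.mem_bot R).mp this)
    obtain ⟨t, ht⟩ := Nat.exists_eq_succ_of_ne_zero hpos
    refine ⟨⟨t, by omega⟩, ?_, ?_⟩
    · have := Nat.find_spec hex
      rw [ht] at this
      exact this
    · exact Nat.find_min hex (by omega : t < Nat.find hex)

end basic

section defD

variable (R : Type u) [CommRing R] [IsLocalRing R]

/-- The reference tuple `u` without its first entry, read in `M ⧸ R (u 0)`. -/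
noncomputable def ubar {n : ℕ} {M : Type v} [AddCommGroup M] [Module R M] (u : Fin (n + 1) → M) :
    Fin n → M ⧸ Submodule.span R {u 0} :=
  fun j => Submodule.Quotient.mk (u j.succ)

open Classical in
/-- The "determinant of `e` with respect to `u`". -/
noncomputable def D : (n : ℕ) → (M : Type v) → [AddCommGroup M] → [Module R M] →
    (Fin n → M) → (Fin n → M) → ResidueField R
  | 0 => fun _ _ _ _ _ => 1
  | n + 1 => fun M _ _ u e =>
      if h : ∃ i, IsIdx (R := R) e (u 0) i then
        (-1) ^ (h.choose : ℕ) * aCoef (R := R) e h.choose (u 0) *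
          D n (M ⧸ Submodule.span R {u 0}) (ubar R u) (red e (u 0) h.choose)
      else 0

variable {R}
variable {M : Type v} [AddCommGroup M] [Module R M]

lemma D_zero (u e : Fin 0 → M) : D R 0 M u e = 1 := by
  rw [D]

lemma D_succ_of_isIdx {n : ℕ} (u e : Fin (n + 1) → M) {i : Fin (n + 1)}
    (hi : IsIdx (R := R) e (u 0) i) :
    D R (n + 1) M u e = (-1) ^ (i : ℕ) * aCoef (R := R) e i (u 0) *
      D R n (M ⧸ Submodule.span R {u 0}) (ubar R u) (red e (u 0) i) := by
  have h : ∃ i, IsIdx (R := R) e (u 0) i := ⟨i, hi⟩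
  rw [D]
  beta_reduce
  rw [dif_pos h]
  have : h.choose = i := IsIdx.unique h.choose_spec hi
  rw [this]

lemma D_succ_of_not {n : ℕ} (u e : Fin (n + 1) → M)
    (h : ¬ ∃ i, IsIdx (R := R) e (u 0) i) : D R (n + 1) M u e = 0 := by
  rw [D]
  beta_reduce
  rw [dif_neg h]

end defD

section rels

variable {R : Type u} [CommRing R] [IsLocalRing R]

/-- `D · · · u` respects the three admissible relations. -/
structure Rels (n : ℕ) (M : Type v) [AddCommGroup M] [Module R M] (u : Fin n → M) : Prop where
  relA : ∀ e : Fin n → M, IsAdmissible R M e → ∀ a : Fin n, e a ∈ spanBefore R M e a →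
    D R n M u e = 0
  relB : ∀ e e' : Fin n → M, IsAdmissible R M e → IsAdmissible R M e' → ∀ (a : Fin n) (c : Rˣ),
    (∀ j, j ≠ a → e j = e' j) → e a - (c : R) • e' a ∈ spanBefore R M e a →
    D R n M u e = residue R (c : R) * D R n M u e'
  relC : ∀ e : Fin n → M, IsAdmissible R M e → ∀ a b : Fin n, (b : ℕ) + 1 = (a : ℕ) →
    (∀ r ∈ maximalIdeal R, r • e a ∈ spanBefore R M e b) →
    D R n M u e + D R n M u (e ∘ Equiv.swap a b) = 0

variable {M : Type v} [AddCommGroup M] [Module R M]

lemma relA_succ {n : ℕ}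
    (IH : ∀ (M : Type v) [AddCommGroup M] [Module R M] (u : Fin n → M), Rels (R := R) n M u)
    (u e : Fin (n + 1) → M) (he : IsAdmissible R M e) (a : Fin (n + 1))
    (ha : e a ∈ spanBefore R M e a) : D R (n + 1) M u e = 0 := by
  by_cases h : ∃ i, IsIdx (R := R) e (u 0) i
  · obtain ⟨i, hi⟩ := h
    rw [D_succ_of_isIdx u e hi]
    have hai : a ≠ i := by
      rintro rfl
      apply hi.2
      have := hi.1
      rw [spanBefore_succ] at this
      have h2 : spanBefore R M e a ⊔ Submodule.span R {e a} = spanBefore R M e a := by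
        rw [sup_eq_left, Submodule.span_singleton_le_iff_mem]; exact ha
      rwa [h2] at this
    obtain ⟨a', rfl⟩ := Fin.exists_succAbove_eq hai
    obtain ⟨r, hr⟩ := exists_unit_of_isIdx he hi
    have hex : ∃ r : R, e i - r • u 0 ∈ spanBefore R M e i := ⟨r, hr⟩
    have := (IH _ (ubar R u)).relA (red e (u 0) i) (isAdmissible_red he _ i hex) a' (by
      rw [spanBefore_red e _ i hex a']
      exact ⟨e (i.succAbove a'), ha, rfl⟩)
    rw [this, mul_zero]
  · exact D_succ_of_not u e h

lemma spanBefore_eq_of_relB {n : ℕ} (e e' : Fin n → M) (a : Fin n) (c : Rˣ)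
    (h1 : ∀ j, j ≠ a → e j = e' j) (h2 : e a - (c : R) • e' a ∈ spanBefore R M e a) (t : ℕ) :
    spanBefore R M e t = spanBefore R M e' t := by
  have hcongr : ∀ t : ℕ, t ≤ a → spanBefore R M e t = spanBefore R M e' t := by
    intro t ht
    apply spanBefore_congr
    intro j hj
    apply h1
    rintro rfl
    omega
  by_cases ht : t ≤ a
  · exact hcongr t ht
  · have hat : (a : ℕ) < t := not_le.mp ht
    have h2' : e a - (c : R) • e' a ∈ spanBefore R M e' a := hcongr a le_rfl ▸ h2
    apply le_antisymm
    · unfold spanBefore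
      apply Submodule.span_le.mpr
      rintro _ ⟨j, hj, rfl⟩
      by_cases hja : j = a
      · subst hja
        have : e j = (e j - (c : R) • e' j) + (c : R) • e' j := by abel
        rw [this]
        apply Submodule.add_mem
        · exact spanBefore_mono e' (le_of_lt hat) h2'
        · exact Submodule.smul_mem _ _ (mem_spanBefore e' j hj)
      · rw [h1 j hja]; exact mem_spanBefore e' j hj
    · unfold spanBefore
      apply Submodule.span_le.mpr
      rintro _ ⟨j, hj, rfl⟩
      by_cases hja : j = a
      · subst hja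
        have : e' j = ((c⁻¹ : Rˣ) : R) • (e j - (e j - (c : R) • e' j)) := by
          rw [sub_sub_cancel, smul_smul, Units.inv_mul, one_smul]
        rw [this]
        apply Submodule.smul_mem
        apply Submodule.sub_mem
        · exact mem_spanBefore e j hj
        · exact spanBefore_mono e (le_of_lt hat) h2
      · rw [← h1 j hja]; exact mem_spanBefore e j hj

lemma relB_succ {n : ℕ}
    (IH : ∀ (M : Type v) [AddCommGroup M] [Module R M] (u : Fin n → M), Rels (R := R) n M u)
    (u e e' : Fin (n + 1) → M) (he : IsAdmissible R M e) (he' : IsAdmissible R M e')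
    (a : Fin (n + 1)) (c : Rˣ) (h1 : ∀ j, j ≠ a → e j = e' j)
    (h2 : e a - (c : R) • e' a ∈ spanBefore R M e a) :
    D R (n + 1) M u e = residue R (c : R) * D R (n + 1) M u e' := by
  have hflag := spanBefore_eq_of_relB e e' a c h1 h2
  have hidx : ∀ i, IsIdx (R := R) e (u 0) i ↔ IsIdx (R := R) e' (u 0) i := fun i => by
    unfold IsIdx; rw [hflag, hflag]
  by_cases h : ∃ i, IsIdx (R := R) e (u 0) i
  · obtain ⟨i, hi⟩ := h
    have hi' := (hidx i).mp hi
    rw [D_succ_of_isIdx u e hi, D_succ_of_isIdx u e' hi']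
    obtain ⟨r', hr'⟩ := exists_unit_of_isIdx he' hi'
    have hex' : ∃ r : R, e' i - r • u 0 ∈ spanBefore R M e' i := ⟨r', hr'⟩
    by_cases hai : a = i
    · subst hai
      have hred : red (R := R) e (u 0) a = red (R := R) e' (u 0) a := by
        funext j; unfold red; rw [h1 _ (Fin.succAbove_ne a j)]
      have hc : aCoef (R := R) e a (u 0) = residue R (c : R) * aCoef (R := R) e' a (u 0) := by
        have hmem : e a - ((c : R) * r') • u 0 ∈ spanBefore R M e a := by
          have : e a - ((c : R) * r') • u 0 =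
              (e a - (c : R) • e' a) + (c : R) • (e' a - (r' : R) • u 0) := by
            rw [smul_sub, smul_smul]; abel
          rw [this]
          exact Submodule.add_mem _ h2 (Submodule.smul_mem _ _ (hflag a ▸ hr'))
        rw [aCoef_eq hi'.2 r' hr', aCoef_eq hi.2 ((c : R) * r') hmem, map_mul]
      rw [hred, hc]; ring
    · obtain ⟨a', rfl⟩ := Fin.exists_succAbove_eq hai
      obtain ⟨r, hr⟩ := exists_unit_of_isIdx he hi
      have hex : ∃ r : R, e i - r • u 0 ∈ spanBefore R M e i := ⟨r, hr⟩
      have hac : aCoef (R := R) e i (u 0) = aCoef (R := R) e' i (u 0) := by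
        have hmem : e' i - (r : R) • u 0 ∈ spanBefore R M e' i := by
          rw [← hflag, ← h1 i (Ne.symm hai)]; exact hr
        rw [aCoef_eq hi.2 r hr, aCoef_eq hi'.2 r hmem]
      have := (IH _ (ubar R u)).relB (red e (u 0) i) (red e' (u 0) i)
        (isAdmissible_red he _ i hex) (isAdmissible_red he' _ i hex') a' c (by
          intro j hj; unfold red; rw [h1]
          intro h; exact hj (Fin.succAbove_right_injective h)) (by
          rw [spanBefore_red e _ i hex a']
          exact ⟨e (i.succAbove a') - (c : R) • e' (i.succAbove a'), h2, by simp [red]⟩)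
      rw [this, hac]; ring
  · rw [D_succ_of_not u e h,
      D_succ_of_not u e' (by rintro ⟨i, hi⟩; exact h ⟨i, (hidx i).mpr hi⟩), mul_zero]

lemma spanBefore_swap_le {n : ℕ} (e : Fin n → M) (a b : Fin n) (hab : (b : ℕ) + 1 = (a : ℕ))
    (t : ℕ) (ht : t ≤ b) :
    spanBefore R M (e ∘ Equiv.swap a b) t = spanBefore R M e t := by
  apply spanBefore_congr
  intro j hj
  have h1 : j ≠ a := by rintro rfl; omega
  have h2 : j ≠ b := by rintro rfl; omega
  simp [Equiv.swap_apply_of_ne_of_ne h1 h2]

lemma spanBefore_swap_gt {n : ℕ} (e : Fin n → M) (a b : Fin n) (hab : (b : ℕ) + 1 = (a : ℕ))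
    (t : ℕ) (ht : (a : ℕ) < t) :
    spanBefore R M (e ∘ Equiv.swap a b) t = spanBefore R M e t :=
  spanBefore_comp_swap e a b t ht (by omega)

lemma mem_sup_of_two (N : Submodule R M) (x y z : M) (r r' : Rˣ)
    (hy : y - (r : R) • x ∈ N) (hz : z - (r' : R) • x ∈ N) : z ∈ N ⊔ Submodule.span R {y} := by
  have : z = ((z - (r' : R) • x) - ((r' : R) * ((r⁻¹ : Rˣ) : R)) • (y - (r : R) • x)) +
      ((r' : R) * ((r⁻¹ : Rˣ) : R)) • y := by
    rw [smul_sub, smul_smul, mul_assoc, Units.inv_mul, mul_one]; abel
  rw [this]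
  apply Submodule.add_mem
  · exact Submodule.mem_sup_left (Submodule.sub_mem _ hz (Submodule.smul_mem _ _ hy))
  · exact Submodule.mem_sup_right (Submodule.smul_mem _ _ (Submodule.mem_span_singleton_self y))

lemma swap_succAbove {n : ℕ} (a b : Fin (n + 1)) (hab : (b : ℕ) + 1 = (a : ℕ)) (j : Fin n) :
    Equiv.swap a b (a.succAbove j) = b.succAbove j := by
  have h1 := val_succAbove a j
  have h2 := val_succAbove b j
  rw [Equiv.swap_apply_def]
  have hne : a.succAbove j ≠ a := Fin.succAbove_ne a j
  rw [if_neg hne]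
  apply Fin.ext
  split_ifs with h3
  · rw [h3] at h1
    split_ifs at h1 h2 <;> omega
  · have h3' : ((a.succAbove j : Fin (n + 1)) : ℕ) ≠ (b : ℕ) := fun h => h3 (Fin.ext h)
    have hne' : ((a.succAbove j : Fin (n + 1)) : ℕ) ≠ (a : ℕ) := fun h => hne (Fin.ext h)
    split_ifs at h1 h2 <;> omega

lemma relC_aux {n : ℕ} (u e : Fin (n + 1) → M) (he : IsAdmissible R M e) (a b : Fin (n + 1))
    (hab : (b : ℕ) + 1 = (a : ℕ)) (hb : IsIdx (R := R) e (u 0) b)
    (ha' : IsIdx (R := R) (e ∘ Equiv.swap a b) (u 0) a) :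
    D R (n + 1) M u e + D R (n + 1) M u (e ∘ Equiv.swap a b) = 0 := by
  rw [D_succ_of_isIdx u e hb, D_succ_of_isIdx u _ ha']
  obtain ⟨r, hr⟩ := exists_unit_of_isIdx he hb
  have hred : red (R := R) (e ∘ Equiv.swap a b) (u 0) a = red (R := R) e (u 0) b := by
    funext j
    unfold red
    simp only [Function.comp_apply]
    rw [swap_succAbove a b hab j]
  have hc1 : aCoef (R := R) e b (u 0) = residue R (r : R) := aCoef_eq hb.2 r hr
  have hc2 : aCoef (R := R) (e ∘ Equiv.swap a b) a (u 0) = residue R (r : R) := by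
    apply aCoef_eq ha'.2
    simp only [Function.comp_apply, Equiv.swap_apply_left]
    have h1 : e b - (r : R) • u 0 ∈ spanBefore R M (e ∘ Equiv.swap a b) b := by
      rw [spanBefore_swap_le e a b hab b le_rfl]; exact hr
    exact spanBefore_mono _ (by omega : (b : ℕ) ≤ a) h1
  rw [hred, hc1, hc2, ← hab, pow_succ]; ring

lemma relC_generic {n : ℕ}
    (IH : ∀ (M : Type v) [AddCommGroup M] [Module R M] (u : Fin n → M), Rels (R := R) n M u)
    (u e : Fin (n + 1) → M) (he : IsAdmissible R M e) (a b : Fin (n + 1))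
    (hab : (b : ℕ) + 1 = (a : ℕ)) (H : ∀ r ∈ maximalIdeal R, r • e a ∈ spanBefore R M e b)
    (i : Fin (n + 1)) (hi : IsIdx (R := R) e (u 0) i) (hout : (i : ℕ) < b ∨ (a : ℕ) < i) :
    D R (n + 1) M u e + D R (n + 1) M u (e ∘ Equiv.swap a b) = 0 := by
  have he' : IsAdmissible R M (e ∘ Equiv.swap a b) := isAdmissible_swap e he a b hab H
  have hia : i ≠ a := by rintro rfl; omega
  have hib : i ≠ b := by rintro rfl; omega
  have hflag1 : spanBefore R M (e ∘ Equiv.swap a b) i = spanBefore R M e i := by
    rcases hout with h | h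
    · exact spanBefore_swap_le e a b hab _ (by omega)
    · exact spanBefore_swap_gt e a b hab _ (by omega)
  have hflag2 : spanBefore R M (e ∘ Equiv.swap a b) ((i : ℕ) + 1) =
      spanBefore R M e ((i : ℕ) + 1) := by
    rcases hout with h | h
    · exact spanBefore_swap_le e a b hab _ (by omega)
    · exact spanBefore_swap_gt e a b hab _ (by omega)
  have hi' : IsIdx (R := R) (e ∘ Equiv.swap a b) (u 0) i := by
    unfold IsIdx; rw [hflag1, hflag2]; exact hi
  rw [D_succ_of_isIdx u e hi, D_succ_of_isIdx u _ hi']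
  obtain ⟨r, hr⟩ := exists_unit_of_isIdx he hi
  have hex : ∃ r : R, e i - r • u 0 ∈ spanBefore R M e i := ⟨r, hr⟩
  have hei : (e ∘ Equiv.swap a b) i = e i := by
    simp [Equiv.swap_apply_of_ne_of_ne hia hib]
  have hc1 : aCoef (R := R) e i (u 0) = residue R (r : R) := aCoef_eq hi.2 r hr
  have hc2 : aCoef (R := R) (e ∘ Equiv.swap a b) i (u 0) = residue R (r : R) := by
    apply aCoef_eq hi'.2
    rw [hei, hflag1]; exact hr
  obtain ⟨a', ha'⟩ := Fin.exists_succAbove_eq (Ne.symm hia)
  obtain ⟨b', hb'⟩ := Fin.exists_succAbove_eq (Ne.symm hib)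
  have hab' : (b' : ℕ) + 1 = (a' : ℕ) := by
    have h1 := val_succAbove i a'
    have h2 := val_succAbove i b'
    rw [ha'] at h1
    rw [hb'] at h2
    split_ifs at h1 h2 <;> omega
  have hred : red (R := R) (e ∘ Equiv.swap a b) (u 0) i =
      red (R := R) e (u 0) i ∘ Equiv.swap a' b' := by
    funext j
    unfold red
    simp only [Function.comp_apply]
    rw [← Function.Injective.swap_apply Fin.succAbove_right_injective, ha', hb']
  have := (IH _ (ubar R u)).relC (red e (u 0) i) (isAdmissible_red he _ i hex) a' b' hab' (by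
    intro s hs
    rw [spanBefore_red e _ i hex b', hb']
    refine ⟨s • e a, H s hs, ?_⟩
    simp [red, ha'])
  rw [hc1, hc2, hred, ← mul_add, this, mul_zero]

lemma relC_succ {n : ℕ}
    (IH : ∀ (M : Type v) [AddCommGroup M] [Module R M] (u : Fin n → M), Rels (R := R) n M u)
    (u e : Fin (n + 1) → M) (he : IsAdmissible R M e) (a b : Fin (n + 1))
    (hab : (b : ℕ) + 1 = (a : ℕ)) (H : ∀ r ∈ maximalIdeal R, r • e a ∈ spanBefore R M e b) :
    D R (n + 1) M u e + D R (n + 1) M u (e ∘ Equiv.swap a b) = 0 := by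
  have he' : IsAdmissible R M (e ∘ Equiv.swap a b) := isAdmissible_swap e he a b hab H
  have hne : a ≠ b := by rintro rfl; omega
  have hswap_back : (e ∘ Equiv.swap a b) ∘ Equiv.swap a b = e := by
    funext j; simp
  have hfb : spanBefore R M (e ∘ Equiv.swap a b) b = spanBefore R M e b :=
    spanBefore_swap_le e a b hab b le_rfl
  have hfa1 : spanBefore R M (e ∘ Equiv.swap a b) ((a : ℕ) + 1) = spanBefore R M e ((a : ℕ) + 1) :=
    spanBefore_swap_gt e a b hab _ (by omega)
  have hea : (e ∘ Equiv.swap a b) a = e b := by simp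
  have heb : (e ∘ Equiv.swap a b) b = e a := by simp
  have hsa : spanBefore R M e a = spanBefore R M e b ⊔ Submodule.span R {e b} := by
    rw [← hab, spanBefore_succ]
  have hsa' : spanBefore R M (e ∘ Equiv.swap a b) a =
      spanBefore R M e b ⊔ Submodule.span R {e a} := by
    rw [← hab, spanBefore_succ, hfb, heb]
  have H' : ∀ r ∈ maximalIdeal R,
      r • (e ∘ Equiv.swap a b) a ∈ spanBefore R M (e ∘ Equiv.swap a b) b := by
    intro r hr
    rw [hea, hfb]
    exact he b r hr
  have hex_iff : (∃ i, IsIdx (R := R) e (u 0) i) ↔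
      ∃ i, IsIdx (R := R) (e ∘ Equiv.swap a b) (u 0) i := by
    rw [exists_isIdx_iff, exists_isIdx_iff]
    have : Set.range (e ∘ Equiv.swap a b) = Set.range e :=
      (Equiv.swap a b).surjective.range_comp e
    rw [this]
  by_cases h : ∃ i, IsIdx (R := R) e (u 0) i
  · obtain ⟨i, hi⟩ := h
    obtain ⟨i', hi'⟩ := hex_iff.mp ⟨i, hi⟩
    by_cases hout : (i : ℕ) < b ∨ (a : ℕ) < i
    · exact relC_generic IH u e he a b hab H i hi hout
    · have hi_ab : i = b ∨ i = a := by
        rcases Nat.lt_or_ge (i : ℕ) (b : ℕ) with h1 | h1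
        · exact absurd (Or.inl h1) hout
        · rcases Nat.lt_or_ge (a : ℕ) (i : ℕ) with h2 | h2
          · exact absurd (Or.inr h2) hout
          · rcases Nat.eq_or_lt_of_le h1 with h3 | h3
            · left; exact Fin.ext h3.symm
            · right; apply Fin.ext; omega
      have hi'_ab : i' = b ∨ i' = a := by
        by_contra hcon
        have hout' : (i' : ℕ) < b ∨ (a : ℕ) < i' := by
          by_contra hc
          apply hcon
          rcases Nat.lt_or_ge (i' : ℕ) (b : ℕ) with h1 | h1
          · exact absurd (Or.inl h1) hc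
          · rcases Nat.lt_or_ge (a : ℕ) (i' : ℕ) with h2 | h2
            · exact absurd (Or.inr h2) hc
            · rcases Nat.eq_or_lt_of_le h1 with h3 | h3
              · left; exact Fin.ext h3.symm
              · right; apply Fin.ext; omega
        have hidx : IsIdx (R := R) e (u 0) i' := by
          unfold IsIdx at hi' ⊢
          rcases hout' with h | h
          · rwa [spanBefore_swap_le e a b hab _ (by omega),
              spanBefore_swap_le e a b hab _ (by omega)] at hi'
          · rwa [spanBefore_swap_gt e a b hab _ (by omega),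
              spanBefore_swap_gt e a b hab _ (by omega)] at hi'
        have hii : i' = i := IsIdx.unique hidx hi
        rw [hii] at hout'
        exact hout hout'
      rcases hi_ab with hib | hia <;> rcases hi'_ab with hi'b | hi'a
      · -- (b, b): both vanish by relation (a)
        rw [hib] at hi
        rw [hi'b] at hi'
        obtain ⟨r, hr⟩ := exists_unit_of_isIdx he hi
        obtain ⟨r', hr'⟩ := exists_unit_of_isIdx he' hi'
        rw [heb, hfb] at hr'
        have h1 : e a ∈ spanBefore R M e a := by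
          rw [hsa]; exact mem_sup_of_two _ (u 0) (e b) (e a) r r' hr hr'
        have h2 : (e ∘ Equiv.swap a b) a ∈ spanBefore R M (e ∘ Equiv.swap a b) a := by
          rw [hsa', hea]; exact mem_sup_of_two _ (u 0) (e a) (e b) r' r hr' hr
        rw [relA_succ IH u e he a h1, relA_succ IH u _ he' a h2, add_zero]
      · -- (b, a)
        rw [hib] at hi
        rw [hi'a] at hi'
        exact relC_aux u e he a b hab hi hi'
      · -- (a, b)
        rw [hia] at hi
        rw [hi'b] at hi'
        have := relC_aux u (e ∘ Equiv.swap a b) he' a b hab hi' (by rw [hswap_back]; exact hi)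
        rw [hswap_back] at this
        rw [add_comm]; exact this
      · -- (a, a)
        rw [hia] at hi
        rw [hi'a] at hi'
        obtain ⟨ρ, hρ⟩ := exists_unit_of_isIdx he hi
        have hρ' := hρ
        rw [hsa, Submodule.mem_sup] at hρ'
        obtain ⟨y, hy, z, hz, hyz⟩ := hρ'
        obtain ⟨s, rfl⟩ := Submodule.mem_span_singleton.mp hz
        have hs : IsUnit s := by
          apply isUnit_of_not_mem
          intro hsm
          apply hi'.2
          rw [hsa']
          have hmem : e a - (ρ : R) • u 0 ∈ spanBefore R M e b :=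
            hyz ▸ Submodule.add_mem _ hy (he b s hsm)
          have : u 0 = ((ρ⁻¹ : Rˣ) : R) • (e a - (e a - (ρ : R) • u 0)) := by
            rw [sub_sub_cancel, smul_smul, Units.inv_mul, one_smul]
          rw [this]
          apply Submodule.smul_mem
          apply Submodule.sub_mem
          · exact Submodule.mem_sup_right (Submodule.mem_span_singleton_self _)
          · exact Submodule.mem_sup_left hmem
        obtain ⟨σ, rfl⟩ := hs
        have hex : ∃ r : R, e a - r • u 0 ∈ spanBefore R M e a := ⟨ρ, hρ⟩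
        have hc1 : aCoef (R := R) e a (u 0) = residue R (ρ : R) := aCoef_eq hi.2 ρ hρ
        have hmem2 : (e ∘ Equiv.swap a b) a - (-(((σ⁻¹ : Rˣ) : R) * (ρ : R))) • u 0 ∈
            spanBefore R M (e ∘ Equiv.swap a b) a := by
          rw [hea, hsa']
          have : e b - (-(((σ⁻¹ : Rˣ) : R) * (ρ : R))) • u 0 =
              ((σ⁻¹ : Rˣ) : R) • e a - ((σ⁻¹ : Rˣ) : R) • y := by
            have hyz' : e a = y + (σ : R) • e b + (ρ : R) • u 0 := by
              rw [hyz]; abel
            rw [hyz', smul_add, smul_add, smul_smul, smul_smul, Units.inv_mul, one_smul, neg_smul]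
            abel
          rw [this]
          apply Submodule.sub_mem
          · exact Submodule.mem_sup_right
              (Submodule.smul_mem _ _ (Submodule.mem_span_singleton_self _))
          · exact Submodule.mem_sup_left (Submodule.smul_mem _ _ hy)
        have hex' : ∃ r : R, (e ∘ Equiv.swap a b) a - r • u 0 ∈
            spanBefore R M (e ∘ Equiv.swap a b) a := ⟨_, hmem2⟩
        have hc2 : aCoef (R := R) (e ∘ Equiv.swap a b) a (u 0) =
            residue R (-(((σ⁻¹ : Rˣ) : R) * (ρ : R))) := aCoef_eq hi'.2 _ hmem2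
        obtain ⟨b', hb'⟩ := Fin.exists_succAbove_eq (Ne.symm hne)
        have hrel := (IH _ (ubar R u)).relB (red e (u 0) a) (red (e ∘ Equiv.swap a b) (u 0) a)
          (isAdmissible_red he _ a hex) (isAdmissible_red he' _ a hex') b' σ⁻¹ (by
            intro j hj
            unfold red
            simp only [Function.comp_apply]
            rw [Equiv.swap_apply_of_ne_of_ne (Fin.succAbove_ne a j)]
            intro h
            exact hj (Fin.succAbove_right_injective (h.trans hb'.symm))) (by
            rw [spanBefore_red e _ a hex b', hb']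
            refine ⟨-(((σ⁻¹ : Rˣ) : R) • y), Submodule.neg_mem _ (Submodule.smul_mem _ _ hy), ?_⟩
            unfold red
            simp only [Function.comp_apply, hb', Equiv.swap_apply_right]
            rw [Submodule.mkQ_apply, ← Submodule.Quotient.mk_smul, ← Submodule.Quotient.mk_sub,
              Submodule.Quotient.eq]
            have : -(((σ⁻¹ : Rˣ) : R) • y) - (e b - ((σ⁻¹ : Rˣ) : R) • e a) =
                (((σ⁻¹ : Rˣ) : R) * (ρ : R)) • u 0 := by
              have hyz' : e a = y + (σ : R) • e b + (ρ : R) • u 0 := by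
                rw [hyz]; abel
              rw [hyz', smul_add, smul_add, smul_smul, smul_smul, Units.inv_mul, one_smul]
              abel
            rw [this]
            exact Submodule.smul_mem _ _ (Submodule.subset_span rfl))
        rw [D_succ_of_isIdx u e hi, D_succ_of_isIdx u _ hi', hc1, hc2, hrel, map_neg, map_mul]
        ring
  · rw [D_succ_of_not u e h, D_succ_of_not u _ (fun h' => h (hex_iff.mpr h')), add_zero]

theorem rels : ∀ (n : ℕ) (M : Type v) [AddCommGroup M] [Module R M] (u : Fin n → M),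
    Rels (R := R) n M u := by
  intro n
  induction n with
  | zero =>
    intro M _ _ u
    exact ⟨fun e _ a => a.elim0, fun e e' _ _ a => a.elim0, fun e _ a => a.elim0⟩
  | succ n IH =>
    intro M _ _ u
    exact ⟨relA_succ IH u, relB_succ IH u, relC_succ IH u⟩

end rels

section nonvanishing

variable {R : Type u} [CommRing R] [IsLocalRing R]

open Groth.Agent.S1838 (IsND)

lemma red_zero_eq_ubar {n : ℕ} {M : Type v} [AddCommGroup M] [Module R M] (u : Fin (n + 1) → M) :
    red (R := R) u (u 0) 0 = ubar R u := by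
  funext j
  unfold red ubar
  rw [Fin.succAbove_zero]

lemma isND_ubar {n : ℕ} {M : Type v} [AddCommGroup M] [Module R M] (u : Fin (n + 1) → M)
    (hnd : ∀ j : Fin n, u j.succ ∉ spanBefore R M u j.succ) :
    IsND (R := R) (ubar R u) := by
  have hex : ∃ r : R, u 0 - r • u 0 ∈ spanBefore R M u (0 : Fin (n + 1)) := ⟨1, by simp⟩
  intro j hmem
  rw [← red_zero_eq_ubar, spanBefore_red u (u 0) 0 hex j] at hmem
  obtain ⟨w, hw, hwq⟩ := hmem
  apply hnd j
  have h1 : w - u j.succ ∈ Submodule.span R {u 0} := by
    rw [← Submodule.Quotient.eq]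
    exact hwq
  have h2 : u 0 ∈ spanBefore R M u j.succ := mem_spanBefore u 0 (by simp)
  have h3 : Submodule.span R {u 0} ≤ spanBefore R M u j.succ := by
    rw [Submodule.span_singleton_le_iff_mem]; exact h2
  have : u j.succ = w - (w - u j.succ) := by abel
  rw [this]
  rw [Fin.succAbove_zero] at hw
  exact Submodule.sub_mem _ hw (h3 h1)

lemma D_self {n : ℕ} : ∀ (M : Type v) [AddCommGroup M] [Module R M] (u : Fin n → M),
    IsAdmissible R M u → IsND (R := R) u → D R n M u u = 1 := by
  induction n with
  | zero => intro M _ _ u _ _; exact D_zero u u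
  | succ n IH =>
    intro M _ _ u hu hnd
    have hi : IsIdx (R := R) u (u 0) 0 := ⟨mem_spanBefore u 0 (by simp), hnd 0⟩
    have hex : ∃ r : R, u 0 - r • u 0 ∈ spanBefore R M u (0 : Fin (n + 1)) := ⟨1, by simp⟩
    rw [D_succ_of_isIdx u u hi, aCoef_eq hi.2 1 (by simp), red_zero_eq_ubar]
    have hadm : IsAdmissible R _ (ubar R u) := by
      rw [← red_zero_eq_ubar]; exact isAdmissible_red hu (u 0) 0 hex
    rw [IH _ (ubar R u) hadm (isND_ubar u (fun j => hnd j.succ))]
    simp

lemma length_span_singleton_le {M : Type v} [AddCommGroup M] [Module R M] (x : M)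
    (hx : ∀ r ∈ maximalIdeal R, r • x = 0) :
    Module.length R (Submodule.span R {x}) ≤ 1 := by
  have hsimple : IsSimpleModule R (R ⧸ maximalIdeal R) :=
    isSimpleModule_iff_quot_maximal.mpr
      ⟨_, maximalIdeal.isMaximal R, ⟨LinearEquiv.refl R _⟩⟩
  let x' : Submodule.span R {x} := ⟨x, Submodule.mem_span_singleton_self x⟩
  let g0 : R →ₗ[R] Submodule.span R {x} := LinearMap.toSpanSingleton R _ x'
  have hker : maximalIdeal R ≤ LinearMap.ker g0 := by
    intro r hr
    rw [LinearMap.mem_ker]
    apply Subtype.ext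
    simp [g0, x', hx r hr]
  let g : (R ⧸ maximalIdeal R) →ₗ[R] Submodule.span R {x} :=
    Submodule.liftQ (maximalIdeal R) g0 hker
  have hg : Function.Surjective g := by
    rintro ⟨y, hy⟩
    obtain ⟨r, rfl⟩ := Submodule.mem_span_singleton.mp hy
    refine ⟨Submodule.Quotient.mk r, ?_⟩
    apply Subtype.ext
    show ((Submodule.liftQ (maximalIdeal R) g0 hker) (Submodule.Quotient.mk r) : M) = r • x
    rw [Submodule.liftQ_apply]
    simp [g0, x']
  calc Module.length R (Submodule.span R {x}) ≤ Module.length R (R ⧸ maximalIdeal R) :=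
        Module.length_le_of_surjective g hg
    _ = 1 := Module.length_eq_one R _

lemma length_le_and_nd {n : ℕ} : ∀ (M : Type v) [AddCommGroup M] [Module R M] (e : Fin n → M),
    IsAdmissible R M e → Submodule.span R (Set.range e) = ⊤ →
    Module.length R M ≤ n ∧ (Module.length R M = n → IsND (R := R) e) := by
  induction n with
  | zero =>
    intro M _ _ e _ he
    have hsub : Subsingleton M := by
      have h1 : Set.range e = ∅ := Set.range_eq_empty e
      rw [h1, Submodule.span_empty] at he
      exact (Submodule.subsingleton_iff R).mp (subsingleton_of_bot_eq_top he)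
    refine ⟨?_, fun _ a => a.elim0⟩
    rw [Module.length_eq_zero_iff.mpr hsub]
    simp
  | succ n IH =>
    intro M _ _ e he hspan
    have hex : ∃ r : R, e 0 - r • e 0 ∈ spanBefore R M e (0 : Fin (n + 1)) := ⟨1, by simp⟩
    have hadm : IsAdmissible R _ (ubar R e) := by
      rw [← red_zero_eq_ubar]; exact isAdmissible_red he (e 0) 0 hex
    have hspan' : Submodule.span R (Set.range (ubar R e)) = ⊤ := by
      rw [eq_top_iff, ← Submodule.map_top (Submodule.span R {e 0}).mkQ
        |>.trans (Submodule.range_mkQ _), ← hspan, Submodule.map_span]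
      apply Submodule.span_le.mpr
      rintro _ ⟨_, ⟨j, rfl⟩, rfl⟩
      refine Fin.cases ?_ (fun j' => ?_) j
      · have : (Submodule.span R {e 0}).mkQ (e 0) = 0 := by
          rw [Submodule.mkQ_apply, Submodule.Quotient.mk_eq_zero]
          exact Submodule.mem_span_singleton_self _
        rw [this]; exact Submodule.zero_mem _
      · exact Submodule.subset_span ⟨j', rfl⟩
    obtain ⟨hle, hnd⟩ := IH _ (ubar R e) hadm hspan'
    have hx : ∀ r ∈ maximalIdeal R, r • e 0 = 0 := by
      intro r hr
      have := he 0 r hr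
      rw [Fin.val_zero, spanBefore_zero, Submodule.mem_bot] at this
      exact this
    have hN := length_span_singleton_le (e 0) hx
    have hadd := Module.length_eq_add_of_exact (Submodule.span R {e 0}).subtype
      (Submodule.span R {e 0}).mkQ (Submodule.subtype_injective _) (Submodule.mkQ_surjective _)
      (LinearMap.exact_subtype_mkQ _)
    obtain ⟨q, hq, hqn⟩ := ENat.le_natCast_iff.mp hle
    obtain ⟨p, hp, hp1⟩ := ENat.le_natCast_iff.mp (show Module.length R (Submodule.span R {e 0}) ≤
      ((1 : ℕ) : ℕ∞) from by simpa using hN)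
    rw [hq, hp, ← Nat.cast_add] at hadd
    refine ⟨?_, ?_⟩
    · rw [hadd]; exact_mod_cast (by omega : p + q ≤ n + 1)
    · intro hlen
      rw [hadd] at hlen
      have hpq : p + q = n + 1 := by exact_mod_cast hlen
      have hq' : q = n := by omega
      have hp' : p = 1 := by omega
      have hx0 : e 0 ≠ 0 := by
        intro h0
        have : Subsingleton (Submodule.span R {e 0}) := by
          rw [h0, Submodule.span_zero_singleton]; infer_instance
        rw [Module.length_eq_zero_iff.mpr this] at hp
        have : p = 0 := by exact_mod_cast hp.symm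
        omega
      have hnd' := hnd (by rw [hq, hq'])
      intro a
      refine Fin.cases ?_ (fun j => ?_) a
      · rw [Fin.val_zero, spanBefore_zero, Submodule.mem_bot]; exact hx0
      · intro hmem
        apply hnd' j
        rw [← red_zero_eq_ubar, spanBefore_red e (e 0) 0 hex j, Fin.succAbove_zero]
        exact ⟨e j.succ, hmem, rfl⟩

variable {M : Type v} [AddCommGroup M] [Module R M]

/-- The functional on the free vector space. -/
noncomputable def Dlin (n : ℕ) (u : Fin n → M) : Free R M n →ₗ[ResidueField R] ResidueField R :=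
  Finsupp.linearCombination (ResidueField R) (fun e : Adm R M n => D R n M u e.1)

lemma Dlin_sym {n : ℕ} (u : Fin n → M) (e : Adm R M n) :
    Dlin n u (sym R M e) = D R n M u e.1 := by
  simp [Dlin, sym, Finsupp.linearCombination_single]

lemma Dlin_relSet {n : ℕ} (u : Fin n → M) :
    Submodule.span (ResidueField R) (relSet R M n) ≤ LinearMap.ker (Dlin n u) := by
  rw [Submodule.span_le]
  rintro x ((⟨e, a, h, rfl⟩ | ⟨e, e', a, c, h1, h2, rfl⟩) | ⟨e, e', a, b, hab, h1, h2, rfl⟩)
  · rw [SetLike.mem_coe, LinearMap.mem_ker, Dlin_sym]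
    exact (rels n M u).relA e.1 e.2 a h
  · rw [SetLike.mem_coe, LinearMap.mem_ker, map_sub, map_smul, Dlin_sym, Dlin_sym,
      (rels n M u).relB e.1 e'.1 e.2 e'.2 a c h1 h2, smul_eq_mul, sub_self]
  · rw [SetLike.mem_coe, LinearMap.mem_ker, map_add, Dlin_sym, Dlin_sym, h2]
    exact (rels n M u).relC e.1 e.2 a b hab h1

/-- The functional on `DetOfLen`. -/
noncomputable def Ddet (n : ℕ) (u : Fin n → M) :
    DetOfLen R M n →ₗ[ResidueField R] ResidueField R :=
  Submodule.liftQ _ (Dlin n u) (Dlin_relSet u)

lemma Ddet_mk {n : ℕ} (u : Fin n → M) (e : Adm R M n) :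
    Ddet n u (Submodule.Quotient.mk (sym R M e)) = D R n M u e.1 := by
  rw [Ddet, Submodule.liftQ_apply, Dlin_sym]

theorem symbol_ne_zero (hM : IsFiniteLength R M) (e : Adm R M (Module.length R M).toNat)
    (he : Submodule.span R (Set.range e.1) = ⊤) : symbol R M e ≠ 0 := by
  intro h0
  have hlen : Module.length R M = ((Module.length R M).toNat : ℕ∞) :=
    (ENat.natCast_toNat (Module.length_ne_top_iff.mpr hM)).symm
  have hnd := (length_le_and_nd M e.1 e.2 he).2 hlen
  have h1 := D_self M e.1 e.2 hnd
  have h2 := Ddet_mk e.1 e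
  have h3 : (Submodule.Quotient.mk (sym R M e) : DetOfLen R M (Module.length R M).toNat) = 0 := h0
  rw [h3, map_zero, h1] at h2
  exact zero_ne_one h2

end nonvanishing

end Groth.Agent.Lib.CycDetFun9
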