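import Groth.Agent.Lib.CycDetFun9

/-!
# Multiplicativity of the functional `D` along short exact sequences
-/

set_option autoImplicit false
set_option linter.unusedSectionVars false
universe u v w

namespace Groth.Agent.Lib.CycDetMult9

open CycDet IsLocalRing
open Groth.Agent.S1838 (spanBefore_mono mem_spanBefore spanBefore_congr spanBefore_zero
  spanBefore_succ IsND)
open Groth.Agent.Lib.CycDetFun9

section basic

variable {R : Type u} [CommRing R] [IsLocalRing R] {M : Type v} [AddCommGroup M] [Module R M]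

lemma spanBefore_top {n : ℕ} (e : Fin n → M) :
    spanBefore R M e n = Submodule.span R (Set.range e) := by
  unfold spanBefore
  congr 1
  ext y
  constructor
  · rintro ⟨j, _, rfl⟩; exact ⟨j, rfl⟩
  · rintro ⟨j, rfl⟩; exact ⟨j, j.2, rfl⟩

lemma spanBefore_map {N : Type w} [AddCommGroup N] [Module R N] (g : M →ₗ[R] N) {n : ℕ}
    (e : Fin n → M) (t : ℕ) :
    spanBefore R N (g ∘ e) t = (spanBefore R M e t).map g := by
  unfold spanBefore
  rw [Submodule.map_span, Set.image_comp]

lemma span_range_red {n : ℕ} (e : Fin (n + 1) → M) (x : M) (i : Fin (n + 1))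
    (hi : ∃ r : R, e i - r • x ∈ spanBefore R M e i) :
    Submodule.span R (Set.range (red (R := R) e x i)) =
      (Submodule.span R (Set.range e)).map (Submodule.span R {x}).mkQ := by
  rw [Submodule.map_span]
  apply le_antisymm
  · apply Submodule.span_mono
    rintro _ ⟨j, rfl⟩
    exact ⟨e (i.succAbove j), ⟨_, rfl⟩, rfl⟩
  · apply Submodule.span_le.mpr
    rintro _ ⟨_, ⟨k, rfl⟩, rfl⟩
    by_cases hki : k = i
    · subst hki
      obtain ⟨r, hr⟩ := hi
      have h0 : (Submodule.span R {x}).mkQ (e k) = (Submodule.span R {x}).mkQ (e k - r • x) := by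
        rw [map_sub]
        have : (Submodule.span R {x}).mkQ (r • x) = 0 := by
          rw [Submodule.mkQ_apply, Submodule.Quotient.mk_eq_zero]
          exact Submodule.smul_mem _ _ (Submodule.subset_span rfl)
        rw [this, sub_zero]
      rw [h0]
      have h2 : spanBefore R M e k ≤
          (Submodule.span R (Set.range (red (R := R) e x k))).comap
            (Submodule.span R {x}).mkQ := by
        apply Submodule.span_le.mpr
        rintro _ ⟨k', hk'', rfl⟩
        have hk3 : k' < k := Fin.lt_def.mpr hk''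
        obtain ⟨j'', rfl⟩ := Fin.exists_succAbove_eq (ne_of_lt hk3)
        exact Submodule.subset_span ⟨j'', rfl⟩
      exact h2 hr
    · obtain ⟨j', rfl⟩ := Fin.exists_succAbove_eq hki
      exact Submodule.subset_span ⟨j', rfl⟩

/-- lifting membership from `M ⧸ R (u 0)` -/
lemma mem_spanBefore_of_mkQ_mem {n : ℕ} (u : Fin (n + 1) → M) (j : Fin n) (y : M)
    (hy : (Submodule.span R {u 0}).mkQ y ∈ spanBefore R _ (ubar R u) j) :
    y ∈ spanBefore R M u j.succ := by
  have hex : ∃ r : R, u 0 - r • u 0 ∈ spanBefore R M u (0 : Fin (n + 1)) := ⟨1, by simp⟩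
  rw [← red_zero_eq_ubar, spanBefore_red u (u 0) 0 hex j] at hy
  obtain ⟨w, hw, hwq⟩ := hy
  have h1 : w - y ∈ Submodule.span R {u 0} := by
    rw [← Submodule.Quotient.eq]
    exact hwq
  have h2 : u 0 ∈ spanBefore R M u j.succ := mem_spanBefore u 0 (by simp)
  have h3 : Submodule.span R {u 0} ≤ spanBefore R M u j.succ := by
    rw [Submodule.span_singleton_le_iff_mem]; exact h2
  have : y = w - (w - y) := by abel
  rw [this]
  rw [Fin.succAbove_zero] at hw
  exact Submodule.sub_mem _ hw (h3 h1)

lemma mem_span_range_of_mkQ_mem {n : ℕ} (u : Fin (n + 1) → M) (y : M)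
    (hy : (Submodule.span R {u 0}).mkQ y ∈ Submodule.span R (Set.range (ubar R u))) :
    y ∈ Submodule.span R (Set.range u) := by
  have hex : ∃ r : R, u 0 - r • u 0 ∈ spanBefore R M u (0 : Fin (n + 1)) := ⟨1, by simp⟩
  rw [← red_zero_eq_ubar, span_range_red u (u 0) 0 hex] at hy
  obtain ⟨w, hw, hwq⟩ := hy
  have h1 : w - y ∈ Submodule.span R {u 0} := by
    rw [← Submodule.Quotient.eq]
    exact hwq
  have h3 : Submodule.span R {u 0} ≤ Submodule.span R (Set.range u) := by
    rw [Submodule.span_singleton_le_iff_mem]; exact Submodule.subset_span ⟨0, rfl⟩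
  have : y = w - (w - y) := by abel
  rw [this]
  exact Submodule.sub_mem _ hw (h3 h1)

lemma aCoef_of_not {n : ℕ} {e : Fin n → M} {i : Fin n} {x : M}
    (h : ¬ ∃ r : R, e i - r • x ∈ spanBefore R M e i) : aCoef (R := R) e i x = 0 := by
  rw [aCoef, dif_neg h]

end basic

section inj

variable {R : Type u} [CommRing R] [IsLocalRing R]

/-- the map induced on quotients by the lines through `x` and `g x` -/
noncomputable def gbar {L M : Type v} [AddCommGroup L] [Module R L] [AddCommGroup M] [Module R M]
    (g : L →ₗ[R] M) (x : L) : (L ⧸ Submodule.span R {x}) →ₗ[R] (M ⧸ Submodule.span R {g x}) :=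
  Submodule.mapQ _ _ g (by
    rw [Submodule.span_singleton_le_iff_mem, Submodule.mem_comap]
    exact Submodule.mem_span_singleton_self _)

lemma gbar_mk {L M : Type v} [AddCommGroup L] [Module R L] [AddCommGroup M] [Module R M]
    (g : L →ₗ[R] M) (x y : L) :
    gbar g x (Submodule.Quotient.mk y) = Submodule.Quotient.mk (g y) := by
  rw [gbar, Submodule.mapQ_apply]

lemma gbar_injective {L M : Type v} [AddCommGroup L] [Module R L] [AddCommGroup M] [Module R M]
    (g : L →ₗ[R] M) (hg : Function.Injective g) (x : L) : Function.Injective (gbar g x) := by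
  rw [← LinearMap.ker_eq_bot, LinearMap.ker_eq_bot']
  intro z hz
  obtain ⟨y, rfl⟩ := Submodule.Quotient.mk_surjective _ z
  rw [gbar_mk, Submodule.Quotient.mk_eq_zero] at hz
  obtain ⟨r, hr⟩ := Submodule.mem_span_singleton.mp hz
  rw [← map_smul] at hr
  have := hg hr
  rw [Submodule.Quotient.mk_eq_zero, ← this]
  exact Submodule.smul_mem _ _ (Submodule.mem_span_singleton_self _)

lemma D_map_injective {n : ℕ} : ∀ (L M : Type v) [AddCommGroup L] [Module R L] [AddCommGroup M]
    [Module R M] (g : L →ₗ[R] M), Function.Injective g → ∀ (u e : Fin n → L),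
    D R n M (g ∘ u) (g ∘ e) = D R n L u e := by
  induction n with
  | zero => intro L M _ _ _ _ g _ u e; rw [D_zero, D_zero]
  | succ n IH =>
    intro L M _ _ _ _ g hg u e
    have hmem : ∀ (t : ℕ) (y : L), g y ∈ spanBefore R M (g ∘ e) t ↔ y ∈ spanBefore R L e t := by
      intro t y
      rw [spanBefore_map]
      constructor
      · rintro ⟨w, hw, hwy⟩
        rw [← hg hwy]; exact hw
      · intro h; exact ⟨y, h, rfl⟩
    have hidx : ∀ i, IsIdx (R := R) (g ∘ e) ((g ∘ u) 0) i ↔ IsIdx (R := R) e (u 0) i := by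
      intro i
      unfold IsIdx
      simp only [Function.comp_apply]
      rw [hmem, hmem]
    by_cases h : ∃ i, IsIdx (R := R) e (u 0) i
    · obtain ⟨i, hi⟩ := h
      have hi' := (hidx i).mpr hi
      rw [D_succ_of_isIdx u e hi, D_succ_of_isIdx _ _ hi']
      have hac : aCoef (R := R) (g ∘ e) i ((g ∘ u) 0) = aCoef (R := R) e i (u 0) := by
        by_cases hex : ∃ r : R, e i - r • u 0 ∈ spanBefore R L e i
        · obtain ⟨r, hr⟩ := hex
          rw [aCoef_eq hi.2 r hr, aCoef_eq hi'.2 r]
          simp only [Function.comp_apply]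
          rw [← map_smul, ← map_sub, hmem]
          exact hr
        · rw [aCoef_of_not hex, aCoef_of_not]
          rintro ⟨r, hr⟩
          apply hex
          refine ⟨r, ?_⟩
          simp only [Function.comp_apply] at hr
          rw [← map_smul, ← map_sub, hmem] at hr
          exact hr
      have hred : red (R := R) (g ∘ e) ((g ∘ u) 0) i = gbar g (u 0) ∘ red (R := R) e (u 0) i := by
        funext j
        simp only [Function.comp_apply, red]
        rw [gbar_mk]
      have hub : ubar R (g ∘ u) = gbar g (u 0) ∘ ubar R u := by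
        funext j
        simp only [Function.comp_apply, ubar]
        rw [gbar_mk]
      rw [hac, hred, hub]
      have := IH _ _ (gbar g (u 0)) (gbar_injective g hg (u 0)) (ubar R u) (red e (u 0) i)
      simp only [Function.comp_apply] at this ⊢
      rw [this]
    · rw [D_succ_of_not u e h, D_succ_of_not _ _ (by
        rintro ⟨i, hi⟩; exact h ⟨i, (hidx i).mp hi⟩)]

end inj

section mult

variable {R : Type u} [CommRing R] [IsLocalRing R]

/-- `eL` consists of the images of `eK` followed by lifts of `eM`. -/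
structure Compat {K L M : Type v} [AddCommGroup K] [Module R K] [AddCommGroup L] [Module R L]
    [AddCommGroup M] [Module R M] (f : K →ₗ[R] L) (g : L →ₗ[R] M) (k m N : ℕ)
    (eK : Fin k → K) (eM : Fin m → M) (eL : Fin N → L) : Prop where
  hN : N = k + m
  c1 : ∀ (i : Fin N) (h : (i : ℕ) < k), eL i = f (eK ⟨i, h⟩)
  c2 : ∀ (i : Fin N) (h : k ≤ (i : ℕ)), g (eL i) = eM ⟨(i : ℕ) - k, by have := i.2; omega⟩

variable {K L M : Type v} [AddCommGroup K] [Module R K] [AddCommGroup L] [Module R L]
    [AddCommGroup M] [Module R M]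

lemma Compat.flag_le {f : K →ₗ[R] L} {g : L →ₗ[R] M} {k m N : ℕ}
    {eK : Fin k → K} {eM : Fin m → M} {eL : Fin N → L} (hc : Compat f g k m N eK eM eL)
    (t : ℕ) (ht : t ≤ k) : spanBefore R L eL t = (spanBefore R K eK t).map f := by
  have hN := hc.hN
  unfold spanBefore
  rw [Submodule.map_span]
  congr 1
  ext y
  constructor
  · rintro ⟨i, hi, rfl⟩
    have hik : (i : ℕ) < k := lt_of_lt_of_le hi ht
    exact ⟨eK ⟨i, hik⟩, ⟨⟨i, hik⟩, hi, rfl⟩, (hc.c1 i hik).symm⟩
  · rintro ⟨_, ⟨j, hj, rfl⟩, rfl⟩
    refine ⟨⟨j, by have := j.2; omega⟩, hj, ?_⟩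
    exact hc.c1 _ j.2

/-- the map induced by `f` on the quotients by `x` and `y = f x` -/
noncomputable def fq (f : K →ₗ[R] L) (x : K) (y : L) (hy : y = f x) :
    (K ⧸ Submodule.span R {x}) →ₗ[R] (L ⧸ Submodule.span R {y}) :=
  Submodule.mapQ _ _ f (by
    rw [Submodule.span_singleton_le_iff_mem, Submodule.mem_comap, hy]
    exact Submodule.mem_span_singleton_self _)

lemma fq_mk (f : K →ₗ[R] L) (x : K) (y : L) (hy : y = f x) (z : K) :
    fq f x y hy (Submodule.Quotient.mk z) = Submodule.Quotient.mk (f z) := by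
  rw [fq, Submodule.mapQ_apply]

lemma fq_injective (f : K →ₗ[R] L) (hf : Function.Injective f) (x : K) (y : L) (hy : y = f x) :
    Function.Injective (fq f x y hy) := by
  subst hy
  exact gbar_injective f hf x

/-- the map induced by `g` on the quotient by `y ∈ ker g` -/
noncomputable def gq (g : L →ₗ[R] M) (y : L) (hy : g y = 0) :
    (L ⧸ Submodule.span R {y}) →ₗ[R] M :=
  Submodule.liftQ _ g (by
    rw [Submodule.span_singleton_le_iff_mem, LinearMap.mem_ker]; exact hy)

lemma gq_mk (g : L →ₗ[R] M) (y : L) (hy : g y = 0) (z : L) :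
    gq g y hy (Submodule.Quotient.mk z) = g z := by
  rw [gq, Submodule.liftQ_apply]

lemma range_fq_eq_ker_gq (f : K →ₗ[R] L) (g : L →ₗ[R] M) (hfg : LinearMap.range f = LinearMap.ker g)
    (x : K) (y : L) (hy : y = f x) (hy0 : g y = 0) :
    LinearMap.range (fq f x y hy) = LinearMap.ker (gq g y hy0) := by
  rw [fq, gq, Submodule.range_mapQ, Submodule.ker_liftQ, hfg]

theorem mult {k : ℕ} : ∀ (K L M : Type v) [AddCommGroup K] [Module R K] [AddCommGroup L]
    [Module R L] [AddCommGroup M] [Module R M] (f : K →ₗ[R] L) (g : L →ₗ[R] M),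
    Function.Injective f → LinearMap.range f = LinearMap.ker g →
    ∀ (m N : ℕ) (uK eK : Fin k → K) (uM eM : Fin m → M) (uL eL : Fin N → L),
    Compat f g k m N uK uM uL → Compat f g k m N eK eM eL →
    IsAdmissible R K eK → IsAdmissible R L eL → Submodule.span R (Set.range eK) = ⊤ →
    D R N L uL eL = D R k K uK eK * D R m M uM eM := by
  induction k with
  | zero =>
    intro K L M _ _ _ _ _ _ f g hf hfg m N uK eK uM eM uL eL hcU hcE _ _ hspan
    have hsub : Subsingleton K := by
      have h1 : Set.range eK = ∅ := Set.range_eq_empty eK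
      rw [h1, Submodule.span_empty] at hspan
      exact (Submodule.subsingleton_iff R).mp (subsingleton_of_bot_eq_top hspan)
    have hNm : N = m := by have := hcU.hN; omega
    subst hNm
    have hginj : Function.Injective g := by
      rw [← LinearMap.ker_eq_bot, ← hfg, LinearMap.range_eq_bot]
      exact Subsingleton.elim _ _
    have h1 : g ∘ uL = uM := by
      funext i
      rw [Function.comp_apply, hcU.c2 i (Nat.zero_le _)]
      congr 1
    have h2 : g ∘ eL = eM := by
      funext i
      rw [Function.comp_apply, hcE.c2 i (Nat.zero_le _)]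
      congr 1
    rw [D_zero, one_mul, ← D_map_injective L M g hginj uL eL, h1, h2]
  | succ k IH =>
    intro K L M _ _ _ _ _ _ f g hf hfg m N uK eK uM eM uL eL hcU hcE heK heL hspan
    obtain ⟨N', rfl⟩ : ∃ N', N = N' + 1 := ⟨k + m, by have := hcU.hN; omega⟩
    have hN' : N' = k + m := by have := hcU.hN; omega
    have huL0 : uL 0 = f (uK 0) := hcU.c1 0 (by simp)
    by_cases hx0 : uK 0 = 0
    · have h1 : ¬ ∃ i, IsIdx (R := R) eK (uK 0) i := by
        rw [exists_isIdx_iff]; exact fun h => h.1 hx0
      have h2 : ¬ ∃ i, IsIdx (R := R) eL (uL 0) i := by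
        rw [exists_isIdx_iff]; exact fun h => h.1 (by rw [huL0, hx0, map_zero])
      rw [D_succ_of_not uK eK h1, D_succ_of_not uL eL h2, zero_mul]
    · obtain ⟨i, hi⟩ : ∃ i, IsIdx (R := R) eK (uK 0) i :=
        (exists_isIdx_iff eK (uK 0)).mpr ⟨hx0, by rw [hspan]; trivial⟩
      have hik : (i : ℕ) < k + 1 := i.2
      let i' : Fin (N' + 1) := ⟨i, by omega⟩
      have hmemf : ∀ (t : ℕ) (ht : t ≤ k + 1) (y : K),
          f y ∈ spanBefore R L eL t ↔ y ∈ spanBefore R K eK t := by
        intro t ht y
        rw [hcE.flag_le t ht]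
        constructor
        · rintro ⟨w, hw, hwy⟩
          rw [← hf hwy]; exact hw
        · intro h; exact ⟨y, h, rfl⟩
      have hi' : IsIdx (R := R) eL (uL 0) i' := by
        unfold IsIdx
        rw [huL0]
        show f (uK 0) ∈ spanBefore R L eL ((i : ℕ) + 1) ∧ f (uK 0) ∉ spanBefore R L eL (i : ℕ)
        rw [hmemf _ (by omega), hmemf _ (by omega)]
        exact hi
      obtain ⟨r, hr⟩ := exists_unit_of_isIdx heK hi
      have heLi : eL i' = f (eK i) := hcE.c1 i' hik
      have hr' : eL i' - (r : R) • uL 0 ∈ spanBefore R L eL i' := by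
        rw [heLi, huL0, ← map_smul, ← map_sub]
        show f _ ∈ spanBefore R L eL (i : ℕ)
        rw [hmemf _ (by omega)]
        exact hr
      have hex : ∃ r : R, eK i - r • uK 0 ∈ spanBefore R K eK i := ⟨r, hr⟩
      have hex' : ∃ r : R, eL i' - r • uL 0 ∈ spanBefore R L eL i' := ⟨r, hr'⟩
      have hcK : aCoef (R := R) eK i (uK 0) = residue R (r : R) := aCoef_eq hi.2 r hr
      have hcL : aCoef (R := R) eL i' (uL 0) = residue R (r : R) := aCoef_eq hi'.2 r hr'
      rw [D_succ_of_isIdx uL eL hi', D_succ_of_isIdx uK eK hi, hcK, hcL]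
      have hg0 : g (uL 0) = 0 := by
        rw [huL0, ← LinearMap.mem_ker, ← hfg]; exact ⟨_, rfl⟩
      have hcU' : Compat (fq f (uK 0) (uL 0) huL0) (gq g (uL 0) hg0) k m N'
          (ubar R uK) uM (ubar R uL) := by
        refine ⟨hN', ?_, ?_⟩
        · intro j hj
          unfold ubar
          rw [fq_mk, hcU.c1 j.succ (by simp; omega)]
          rfl
        · intro j hj
          unfold ubar
          rw [gq_mk, hcU.c2 j.succ (by simp; omega)]
          congr 1
          apply Fin.ext
          simp
      have hcE' : Compat (fq f (uK 0) (uL 0) huL0) (gq g (uL 0) hg0) k m N'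
          (red eK (uK 0) i) eM (red eL (uL 0) i') := by
        refine ⟨hN', ?_, ?_⟩
        · intro j hj
          unfold red
          rw [fq_mk]
          have hv := val_succAbove i' j
          have hlt : ((i'.succAbove j : Fin (N' + 1)) : ℕ) < k + 1 := by
            rw [hv]; split_ifs <;> omega
          rw [hcE.c1 (i'.succAbove j) hlt]
          congr 3
          apply Fin.ext
          rw [val_succAbove i ⟨j, hj⟩, hv]
        · intro j hj
          unfold red
          rw [gq_mk]
          have hv := val_succAbove i' j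
          have hnlt : ¬ (j : ℕ) < (i' : ℕ) := by
            show ¬ (j : ℕ) < (i : ℕ)
            omega
          rw [if_neg hnlt] at hv
          rw [hcE.c2 (i'.succAbove j) (by rw [hv]; omega)]
          congr 1
          apply Fin.ext
          simp only [hv]
          omega
      have hspan' : Submodule.span R (Set.range (red (R := R) eK (uK 0) i)) = ⊤ := by
        rw [span_range_red eK (uK 0) i hex, hspan, Submodule.map_top, Submodule.range_mkQ]
      have := IH _ _ _ (fq f (uK 0) (uL 0) huL0) (gq g (uL 0) hg0)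
        (fq_injective f hf _ _ huL0) (range_fq_eq_ker_gq f g hfg _ _ huL0 hg0) m N'
        (ubar R uK) (red eK (uK 0) i) uM eM (ubar R uL) (red eL (uL 0) i') hcU' hcE'
        (isAdmissible_red heK _ i hex) (isAdmissible_red heL _ i' hex') hspan'
      rw [this]
      show (-1) ^ (i : ℕ) * _ * _ = _
      ring

end mult

section existence

variable {R : Type u} [CommRing R] [IsLocalRing R]

lemma exists_socle (M : Type v) [AddCommGroup M] [Module R M] [Nontrivial M] [IsArtinian R M] :
    ∃ x : M, x ≠ 0 ∧ ∀ r ∈ maximalIdeal R, r • x = 0 := by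
  haveI : IsAtomic (Submodule R M) := isAtomic_of_orderBot_wellFounded_lt wellFounded_lt
  obtain ⟨a, ha, -⟩ := (eq_bot_or_exists_atom_le (⊤ : Submodule R M)).resolve_left top_ne_bot
  obtain ⟨x, hxa, hx0⟩ := Submodule.exists_mem_ne_zero_of_ne_bot ha.1
  refine ⟨x, hx0, fun r hr => ?_⟩
  by_contra hrx
  have hle : Submodule.span R {r • x} ≤ a := by
    rw [Submodule.span_singleton_le_iff_mem]; exact a.smul_mem r hxa
  have hne : Submodule.span R {r • x} ≠ ⊥ := by
    rw [Ne, Submodule.span_singleton_eq_bot]; exact hrx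
  have heq : Submodule.span R {r • x} = a := (ha.le_iff.mp hle).resolve_left hne
  have hx : x ∈ Submodule.span R {r • x} := heq ▸ hxa
  obtain ⟨s, hs⟩ := Submodule.mem_span_singleton.mp hx
  have hu : IsUnit (1 - s * r) :=
    isUnit_one_sub_self_of_mem_nonunits _ (Ideal.mul_mem_left _ s hr)
  obtain ⟨w, hw⟩ := hu
  apply hx0
  have h0 : (1 - s * r) • x = 0 := by
    rw [sub_smul, one_smul, mul_smul, hs, sub_self]
  have : x = ((w⁻¹ : Rˣ) : R) • ((1 - s * r) • x) := by
    rw [← hw, smul_smul, Units.inv_mul, one_smul]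
  rw [this, h0, smul_zero]

lemma exists_adm_gen {n : ℕ} : ∀ (M : Type v) [AddCommGroup M] [Module R M],
    Module.length R M = n →
    ∃ e : Fin n → M, IsAdmissible R M e ∧ Submodule.span R (Set.range e) = ⊤ := by
  induction n with
  | zero =>
    intro M _ _ hlen
    have hsub : Subsingleton M := Module.length_eq_zero_iff.mp (by simpa using hlen)
    refine ⟨Fin.elim0, fun i => i.elim0, ?_⟩
    exact Subsingleton.elim _ _
  | succ n IH =>
    intro M _ _ hlen
    have hfl : IsFiniteLength R M := by
      rw [← Module.length_ne_top_iff, hlen]; exact ENat.natCast_ne_top _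
    obtain ⟨hnoeth, hart⟩ := isFiniteLength_iff_isNoetherian_isArtinian.mp hfl
    have hnt : Nontrivial M := by
      rw [← Module.length_pos_iff (R := R), hlen]
      exact_mod_cast Nat.succ_pos n
    obtain ⟨x, hx0, hx⟩ := exists_socle (R := R) M
    have hN := length_span_singleton_le x hx
    have hadd := Module.length_eq_add_of_exact (Submodule.span R {x}).subtype
      (Submodule.span R {x}).mkQ (Submodule.subtype_injective _) (Submodule.mkQ_surjective _)
      (LinearMap.exact_subtype_mkQ _)
    have hNpos : Module.length R (Submodule.span R {x}) ≠ 0 := by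
      rw [Ne, Module.length_eq_zero_iff]
      intro hsub
      apply hx0
      have := Subsingleton.elim (⟨x, Submodule.mem_span_singleton_self x⟩ :
        Submodule.span R {x}) 0
      exact congrArg Subtype.val this
    have hN1 : Module.length R (Submodule.span R {x}) = 1 :=
      le_antisymm hN (Order.one_le_iff_ne_zero.mpr hNpos)
    have hQ : Module.length R (M ⧸ Submodule.span R {x}) = n := by
      rw [hlen, hN1] at hadd
      have h2 : ((n + 1 : ℕ) : ℕ∞) = 1 + (n : ℕ∞) := by push_cast; ring
      rw [h2] at hadd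
      exact ((ENat.add_right_injective_of_ne_top ENat.one_ne_top) hadd).symm
    obtain ⟨ū, hadm, hgen⟩ := IH (M ⧸ Submodule.span R {x}) hQ
    choose v hv using fun j => Submodule.mkQ_surjective (Submodule.span R {x}) (ū j)
    let e : Fin (n + 1) → M := Fin.cons x v
    have he0 : e 0 = x := rfl
    have hub : ubar R e = ū := by
      funext j
      unfold ubar
      show Submodule.Quotient.mk (v j) = ū j
      exact hv j
    refine ⟨e, ?_, ?_⟩
    · intro i r hr
      refine Fin.cases ?_ (fun j => ?_) i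
      · rw [he0, hx r hr]; exact Submodule.zero_mem _
      · apply mem_spanBefore_of_mkQ_mem e j
        rw [hub, map_smul]
        have : (Submodule.span R {e 0}).mkQ (e j.succ) = ū j := hv j
        rw [this]
        exact hadm j r hr
    · rw [eq_top_iff]
      intro y _
      apply mem_span_range_of_mkQ_mem e y
      rw [hub]
      exact hgen.ge Submodule.mem_top

end existence

section concat

variable {R : Type u} [CommRing R] [IsLocalRing R]
variable {K L M : Type v} [AddCommGroup K] [Module R K] [AddCommGroup L] [Module R L]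
    [AddCommGroup M] [Module R M]

lemma Compat.ker_le {f : K →ₗ[R] L} {g : L →ₗ[R] M} {k m N : ℕ}
    {eK : Fin k → K} {eM : Fin m → M} {eL : Fin N → L} (hc : Compat f g k m N eK eM eL)
    (hfg : LinearMap.range f = LinearMap.ker g) (hgen : Submodule.span R (Set.range eK) = ⊤) :
    LinearMap.ker g ≤ spanBefore R L eL k := by
  rw [hc.flag_le k le_rfl, spanBefore_top, hgen, Submodule.map_top, hfg]

lemma Compat.mem_of_map_mem {f : K →ₗ[R] L} {g : L →ₗ[R] M} {k m N : ℕ}
    {eK : Fin k → K} {eM : Fin m → M} {eL : Fin N → L} (hc : Compat f g k m N eK eM eL)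
    (hfg : LinearMap.range f = LinearMap.ker g) (hgen : Submodule.span R (Set.range eK) = ⊤)
    (t : ℕ) (y : L) (hy : g y ∈ spanBefore R M eM t) :
    y ∈ spanBefore R L eL (k + t) := by
  have hN := hc.hN
  have hle : spanBefore R M eM t ≤ (spanBefore R L eL (k + t)).map g := by
    unfold spanBefore
    apply Submodule.span_le.mpr
    rintro _ ⟨j, hj, rfl⟩
    have hjm := j.2
    refine ⟨eL ⟨k + j, by omega⟩, Submodule.subset_span ⟨⟨k + j, by omega⟩, ?_, rfl⟩, ?_⟩
    · show k + (j : ℕ) < k + t
      have : (j : ℕ) < t := hj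
      omega
    · rw [hc.c2 ⟨k + j, by omega⟩ (by simp)]
      congr 1
      apply Fin.ext
      simp
  obtain ⟨w, hw, hwy⟩ := hle hy
  have h1 : y - w ∈ LinearMap.ker g := by
    rw [LinearMap.mem_ker, map_sub, hwy, sub_self]
  have h2 : y - w ∈ spanBefore R L eL (k + t) :=
    spanBefore_mono eL (Nat.le_add_right k t) (hc.ker_le hfg hgen h1)
  have : y = (y - w) + w := by abel
  rw [this]
  exact Submodule.add_mem _ h2 hw

lemma Compat.isAdmissible {f : K →ₗ[R] L} {g : L →ₗ[R] M} {k m N : ℕ}
    {eK : Fin k → K} {eM : Fin m → M} {eL : Fin N → L} (hc : Compat f g k m N eK eM eL)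
    (hfg : LinearMap.range f = LinearMap.ker g) (hgen : Submodule.span R (Set.range eK) = ⊤)
    (hK : IsAdmissible R K eK) (hM : IsAdmissible R M eM) : IsAdmissible R L eL := by
  intro i r hr
  by_cases hik : (i : ℕ) < k
  · rw [hc.flag_le i (le_of_lt hik), hc.c1 i hik, ← map_smul]
    exact ⟨_, hK ⟨i, hik⟩ r hr, rfl⟩
  · have hki : k ≤ (i : ℕ) := not_lt.mp hik
    have h1 : g (r • eL i) ∈ spanBefore R M eM ((i : ℕ) - k) := by
      rw [map_smul, hc.c2 i hki]
      exact hM ⟨(i : ℕ) - k, by have := i.2; have := hc.hN; omega⟩ r hr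
    have h2 := hc.mem_of_map_mem hfg hgen _ _ h1
    have h3 : k + ((i : ℕ) - k) = (i : ℕ) := by omega
    rw [h3] at h2
    exact h2

lemma Compat.span_eq_top {f : K →ₗ[R] L} {g : L →ₗ[R] M} {k m N : ℕ}
    {eK : Fin k → K} {eM : Fin m → M} {eL : Fin N → L} (hc : Compat f g k m N eK eM eL)
    (hfg : LinearMap.range f = LinearMap.ker g) (hgen : Submodule.span R (Set.range eK) = ⊤)
    (hgenM : Submodule.span R (Set.range eM) = ⊤) : Submodule.span R (Set.range eL) = ⊤ := by
  rw [eq_top_iff]
  intro y _
  have h1 : g y ∈ spanBefore R M eM m := by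
    rw [spanBefore_top, hgenM]; trivial
  have h2 := hc.mem_of_map_mem hfg hgen _ _ h1
  rw [← hc.hN, spanBefore_top] at h2
  exact h2

lemma exists_concat (f : K →ₗ[R] L) (g : L →ₗ[R] M) (hg : Function.Surjective g) (k m N : ℕ)
    (hN : N = k + m) (uK : Fin k → K) (uM : Fin m → M) :
    ∃ uL : Fin N → L, Compat f g k m N uK uM uL := by
  subst hN
  choose v hv using fun j => hg (uM j)
  refine ⟨fun i => if h : (i : ℕ) < k then f (uK ⟨i, h⟩) else
    v ⟨(i : ℕ) - k, by have := i.2; omega⟩, rfl, ?_, ?_⟩
  · intro i h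
    rw [dif_pos h]
  · intro i h
    rw [dif_neg (not_lt.mpr h), hv]

end concat

section final

variable {R : Type u} [CommRing R] [IsLocalRing R]

lemma eq_smul_of_rank_le_one {κ V : Type*} [Field κ] [AddCommGroup V] [Module κ V]
    (hV : Module.rank κ V ≤ 1) (φ : V →ₗ[κ] κ) (w : V) (hw : φ w = 1) (v : V) :
    v = φ v • w := by
  obtain ⟨v₀, hv₀⟩ := rank_le_one_iff.mp hV
  obtain ⟨c₀, hc₀⟩ := hv₀ w
  obtain ⟨c, hc⟩ := hv₀ v
  have h1 : c₀ * φ v₀ = 1 := by
    rw [← hw, ← hc₀, map_smul, smul_eq_mul]
  have hc₀ne : c₀ ≠ 0 := by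
    rintro rfl
    rw [zero_mul] at h1
    exact zero_ne_one h1
  rw [← hc, ← hc₀, map_smul, smul_eq_mul, smul_smul]
  congr 1
  calc c = c * (c₀ * φ v₀) := by rw [h1, mul_one]
    _ = c * φ v₀ * c₀ := by ring

/-- A one-dimensional space with a functional taking the value `1` is isomorphic to the field. -/
noncomputable def equivOfFunctional {κ V : Type*} [Field κ] [AddCommGroup V] [Module κ V]
    (hV : Module.rank κ V ≤ 1) (φ : V →ₗ[κ] κ) (w : V) (hw : φ w = 1) : V ≃ₗ[κ] κ :=
  LinearEquiv.ofLinearMap φ (LinearMap.toSpanSingleton κ V w)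
    (by ext; simp [hw])
    (by
      ext v
      simp only [LinearMap.comp_apply, LinearMap.toSpanSingleton_apply, LinearMap.id_apply]
      exact (eq_smul_of_rank_le_one hV φ w hw v).symm)

lemma equivOfFunctional_apply {κ V : Type*} [Field κ] [AddCommGroup V] [Module κ V]
    (hV : Module.rank κ V ≤ 1) (φ : V →ₗ[κ] κ) (w : V) (hw : φ w = 1) (v : V) :
    equivOfFunctional hV φ w hw v = φ v := rfl

lemma equivOfFunctional_symm_apply {κ V : Type*} [Field κ] [AddCommGroup V] [Module κ V]
    (hV : Module.rank κ V ≤ 1) (φ : V →ₗ[κ] κ) (w : V) (hw : φ w = 1) (c : κ) :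
    (equivOfFunctional hV φ w hw).symm c = c • w := rfl

open TensorProduct in
theorem exists_gamma (K L M : Type v) [AddCommGroup K] [Module R K] [AddCommGroup L] [Module R L]
    [AddCommGroup M] [Module R M] (hK : IsFiniteLength R K) (hM : IsFiniteLength R M)
    (f : K →ₗ[R] L) (g : L →ₗ[R] M) (hf : Function.Injective f) (hg : Function.Surjective g)
    (hfg : LinearMap.range f = LinearMap.ker g)
    (hlen : (Module.length R K).toNat + (Module.length R M).toNat = (Module.length R L).toNat) :
    ∃ γ : (CycDet.Det R K ⊗[IsLocalRing.ResidueField R] CycDet.Det R M) ≃ₗ[IsLocalRing.ResidueField R]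
        CycDet.Det R L,
      ∀ (eK : CycDet.Adm R K (Module.length R K).toNat) (eM : CycDet.Adm R M (Module.length R M).toNat)
        (eL : CycDet.Adm R L (Module.length R L).toNat), CycDet.symbol R K eK ≠ 0 →
        (∀ i : Fin (Module.length R K).toNat,
          eL.1 (Fin.cast hlen (Fin.castAdd (Module.length R M).toNat i)) = f (eK.1 i)) →
        (∀ j : Fin (Module.length R M).toNat,
          g (eL.1 (Fin.cast hlen (Fin.natAdd (Module.length R K).toNat j))) = eM.1 j) →
        γ (CycDet.symbol R K eK ⊗ₜ CycDet.symbol R M eM) = CycDet.symbol R L eL := by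
  have hexact : Function.Exact f g := LinearMap.exact_iff.mpr hfg.symm
  have haddL := Module.length_eq_add_of_exact f g hf hg hexact
  have hL : IsFiniteLength R L := by
    rw [← Module.length_ne_top_iff, haddL]
    rw [Ne, ENat.add_eq_top, not_or]
    exact ⟨Module.length_ne_top_iff.mpr hK, Module.length_ne_top_iff.mpr hM⟩
  have hlK : Module.length R K = ((Module.length R K).toNat : ℕ∞) :=
    (ENat.natCast_toNat (Module.length_ne_top_iff.mpr hK)).symm
  have hlM : Module.length R M = ((Module.length R M).toNat : ℕ∞) :=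
    (ENat.natCast_toNat (Module.length_ne_top_iff.mpr hM)).symm
  have hlL : Module.length R L = ((Module.length R L).toNat : ℕ∞) :=
    (ENat.natCast_toNat (Module.length_ne_top_iff.mpr hL)).symm
  obtain ⟨uK, hadmK, hgenK⟩ := exists_adm_gen K hlK
  obtain ⟨uM, hadmM, hgenM⟩ := exists_adm_gen M hlM
  obtain ⟨uL, hcU⟩ := exists_concat f g hg _ _ _ hlen.symm uK uM
  have hadmL := hcU.isAdmissible hfg hgenK hadmK hadmM
  have hgenL := hcU.span_eq_top hfg hgenK hgenM
  have hndK := (length_le_and_nd K uK hadmK hgenK).2 hlK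
  have hndM := (length_le_and_nd M uM hadmM hgenM).2 hlM
  have hndL := (length_le_and_nd L uL hadmL hgenL).2 hlL
  have h1K := D_self K uK hadmK hndK
  have h1M := D_self M uM hadmM hndM
  have h1L := D_self L uL hadmL hndL
  have hrK := Groth.Agent.S1838.result R K hK
  have hrM := Groth.Agent.S1838.result R M hM
  have hrL := Groth.Agent.S1838.result R L hL
  let eqK := equivOfFunctional hrK (Ddet _ uK) (symbol R K ⟨uK, hadmK⟩)
    ((Ddet_mk uK ⟨uK, hadmK⟩).trans h1K)
  let eqM := equivOfFunctional hrM (Ddet _ uM) (symbol R M ⟨uM, hadmM⟩)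
    ((Ddet_mk uM ⟨uM, hadmM⟩).trans h1M)
  let eqL := equivOfFunctional hrL (Ddet _ uL) (symbol R L ⟨uL, hadmL⟩)
    ((Ddet_mk uL ⟨uL, hadmL⟩).trans h1L)
  refine ⟨TensorProduct.congr eqK eqM ≪≫ₗ TensorProduct.lid _ _ ≪≫ₗ eqL.symm, ?_⟩
  intro eK eM eL hsym h1 h2
  have hndeK : IsND (R := R) eK.1 := by
    intro a ha
    apply hsym
    exact (Submodule.Quotient.mk_eq_zero _).mpr (Groth.Agent.S1838.relA eK a ha)
  have hgeneK : Submodule.span R (Set.range eK.1) = ⊤ := by
    rw [← spanBefore_top]
    exact Groth.Agent.S1838.spanBefore_top_of_isND hK hlK eK.1 hndeK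
  have hcE : Compat f g _ _ _ eK.1 eM.1 eL.1 := by
    refine ⟨hlen.symm, ?_, ?_⟩
    · intro i h
      rw [← h1 ⟨i, h⟩]
      congr 1
    · intro i h
      have hj : (i : ℕ) - (Module.length R K).toNat < (Module.length R M).toNat := by
        have := i.2; omega
      have hi : Fin.cast hlen (Fin.natAdd (Module.length R K).toNat
          ⟨(i : ℕ) - (Module.length R K).toNat, hj⟩) = i := by
        apply Fin.ext
        simp only [Fin.val_cast, Fin.val_natAdd]
        omega
      have := h2 ⟨(i : ℕ) - (Module.length R K).toNat, hj⟩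
      rw [hi] at this
      exact this
  have hmult := mult K L M f g hf hfg _ _ uK eK.1 uM eM.1 uL eL.1 hcU hcE eK.2 eL.2 hgeneK
  have hL1 := eq_smul_of_rank_le_one hrL (Ddet _ uL) (symbol R L ⟨uL, hadmL⟩)
    ((Ddet_mk uL ⟨uL, hadmL⟩).trans h1L) (symbol R L eL)
  have hDL : Ddet _ uL (symbol R L eL) = D R _ L uL eL.1 := Ddet_mk uL eL
  have hDK : Ddet _ uK (symbol R K eK) = D R _ K uK eK.1 := Ddet_mk uK eK
  have hDM : Ddet _ uM (symbol R M eM) = D R _ M uM eM.1 := Ddet_mk uM eM
  rw [hL1, hDL, hmult]
  simp only [LinearEquiv.trans_apply, TensorProduct.congr_tmul, TensorProduct.lid_tmul]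
  rw [equivOfFunctional_symm_apply, equivOfFunctional_apply, equivOfFunctional_apply, hDK, hDM,
    smul_eq_mul]

end final

end Groth.Agent.Lib.CycDetMult9
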