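import Groth.Agent.Lib.CycFlatPull
import Mathlib

/-!
# Length of the stalk of a flat pullback of a quasi-coherent module (helper63)

`stalk_length_pullback`: for `p : X' ⟶ X` flat and `F` quasi-coherent on `X`,
`ℓ_{O_{X',x'}}((p^*F)_{x'}) = ℓ_{O_{X,p x'}}(F_{p x'}) · ℓ_{O_{X',x'}}(O_{X',x'}/𝔪_{p x'} O_{X',x'})`.
-/

set_option autoImplicit false
universe u
open CategoryTheory AlgebraicGeometry TopologicalSpace Topology TensorProduct

namespace Groth.Agent.Lib.CycFlatPull

variable {X X' : Scheme.{u}}

theorem stalk_length_pullback (p : X' ⟶ X) [Flat p] (F : X.Modules) [F.IsQuasicoherent] (x' : X') :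
    Module.length (X'.presheaf.stalk x') (((Scheme.Modules.pullback p).obj F).presheaf.stalk x') =
      Module.length (X.presheaf.stalk (p x')) (F.presheaf.stalk (p x')) *
        Module.length (X'.presheaf.stalk x')
          (X'.presheaf.stalk x' ⧸ Ideal.map (p.stalkMap x').hom
            (IsLocalRing.maximalIdeal (X.presheaf.stalk (p x')))) := by
  letI : Algebra (X.presheaf.stalk (p x')) (X'.presheaf.stalk x') := (p.stalkMap x').hom.toAlgebra
  letI : Module (X.presheaf.stalk (p x'))
      (((Scheme.Modules.pullback p).obj F).presheaf.stalk x') :=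
    Module.compHom _ (p.stalkMap x').hom
  haveI : IsScalarTower (X.presheaf.stalk (p x')) (X'.presheaf.stalk x')
      (((Scheme.Modules.pullback p).obj F).presheaf.stalk x') :=
    .of_algebraMap_smul fun _ _ => rfl
  obtain ⟨τ, hτ⟩ := Groth.Agent.Lib.H72PullbackStalk.exists_isBaseChange_stalk_pullback p F x'
  haveI : Module.Flat (X.presheaf.stalk (p x')) (X'.presheaf.stalk x') := Flat.stalkMap p x'
  haveI : IsLocalHom (algebraMap (X.presheaf.stalk (p x')) (X'.presheaf.stalk x')) :=
    inferInstanceAs (IsLocalHom (p.stalkMap x').hom)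
  have h1 := IsLocalRing.length_baseChange (X.presheaf.stalk (p x')) (X'.presheaf.stalk x')
    (F.presheaf.stalk (p x'))
  rw [← hτ.equiv.length_eq]
  exact h1

end Groth.Agent.Lib.CycFlatPull
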