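/-
helper80: finiteness / closed-immersion of a morphism of proper S-schemes near a fibre (EGA III 4.6.7).
Main results: `exists_isFinite_near_fibre`, `exists_isClosedImmersion_near_fibre`,
`exists_nhd_isClosedImmersion_of_isPullback` (closed-immersion locus of a finite morphism is open and
detected after arbitrary base change), `morphismRestrict_of_le`, `morphismRestrict_iSup`,
`isFinite_morphismRestrict_iff`, `isClosedImmersion_morphismRestrict_iff`, `isPullback_fiberMapOver`.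
-/
import Mathlib
import Groth.Agent.S10860
import Groth.Prelude.Def_ega3
import Groth.Agent.Lib.SupportBaseChange

set_option autoImplicit false
universe u
open CategoryTheory CategoryTheory.Limits AlgebraicGeometry TensorProduct

namespace Groth.Agent.Lib.H80NearFibre

/-- Restricting a target-local property to a smaller open. -/
theorem morphismRestrict_of_le {P : MorphismProperty Scheme.{u}} [IsZariskiLocalAtTarget P]
    {X Y : Scheme.{u}} (f : X ⟶ Y) {V W : Y.Opens} (hWV : W ≤ V) (h : P (f ∣_ V)) :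
    P (f ∣_ W) := by
  have h1 : P (f ∣_ V ∣_ (V.ι ⁻¹ᵁ W)) := IsZariskiLocalAtTarget.restrict h _
  rw [P.arrow_mk_iso_iff (morphismRestrictRestrict f V (V.ι ⁻¹ᵁ W))] at h1
  have e : V.ι ''ᵁ (V.ι ⁻¹ᵁ W) = W := by
    rw [Scheme.Hom.image_preimage_eq_opensRange_inf, Scheme.Opens.opensRange_ι]
    exact inf_eq_right.mpr hWV
  rwa [P.arrow_mk_iso_iff (morphismRestrictEq f e)] at h1

theorem fiberMapOver_fiberι {X Y S : Scheme.{u}} (f : X ⟶ Y) (g : X ⟶ S) (h : Y ⟶ S)
    (w : f ≫ h = g) (s : S) :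
    CohIII.fiberMapOver f g h w s ≫ h.fiberι s = g.fiberι s ≫ f := by
  simp only [CohIII.fiberMapOver, Scheme.Hom.fiberι]
  exact pullback.lift_fst _ _ _

/-- The fibres of `f` over points of `h ⁻¹ {s}` are finite if `f_s` has finite fibres. -/
theorem finite_preimage_singleton_of_fiberMapOver {X Y S : Scheme.{u}} (f : X ⟶ Y) (g : X ⟶ S)
    (h : Y ⟶ S) (w : f ≫ h = g) (s : S)
    (hfin : ∀ y', ((CohIII.fiberMapOver f g h w s).base ⁻¹' {y'}).Finite)
    (y : Y) (hy : h.base y = s) : (f.base ⁻¹' {y}).Finite := by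
  obtain ⟨y', rfl⟩ : y ∈ Set.range (h.fiberι s) := by
    rw [Scheme.Hom.range_fiberι]; exact hy
  refine ((hfin y').image (g.fiberι s)).subset ?_
  intro x hx
  have hx' : f x = h.fiberι s y' := hx
  have hgx : x ∈ Set.range (g.fiberι s) := by
    rw [Scheme.Hom.range_fiberι]
    change g x = s
    rw [← w, Scheme.Hom.comp_apply, hx']
    exact hy
  obtain ⟨x', rfl⟩ := hgx
  refine ⟨x', ?_, rfl⟩
  change (CohIII.fiberMapOver f g h w s) x' = y'
  apply (h.fiberι s).isEmbedding.injective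
  rw [← Scheme.Hom.comp_apply, fiberMapOver_fiberι, Scheme.Hom.comp_apply, hx']


/-- If `h` is a closed map and `V ⊆ Y` is an open containing the fibre `h ⁻¹ {s}`, then
`h ⁻¹ U ⊆ V` for some open neighbourhood `U` of `s`. -/
theorem exists_preimage_le_of_fibre_subset {Y S : Scheme.{u}} (h : Y ⟶ S) (hcl : IsClosedMap h.base)
    (s : S) (V : Y.Opens) (hV : h.base ⁻¹' {s} ⊆ V) :
    ∃ U : S.Opens, s ∈ U ∧ h ⁻¹ᵁ U ≤ V := by
  refine ⟨⟨(h.base '' (V : Set Y)ᶜ)ᶜ, (hcl _ V.isOpen.isClosed_compl).isOpen_compl⟩, ?_, ?_⟩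
  · rintro ⟨y, hy, hys⟩
    exact hy (hV hys)
  · intro y hy
    by_contra hyV
    exact hy ⟨y, hyV, rfl⟩

set_option backward.isDefEq.respectTransparency.types false in
theorem exists_isFinite_near_fibre {X Y S : Scheme.{u}} (f : X ⟶ Y) (g : X ⟶ S) (h : Y ⟶ S)
    (w : f ≫ h = g) [IsProper g] [IsProper h] (s : S)
    (hfin : IsFinite (CohIII.fiberMapOver f g h w s)) :
    ∃ U : S.Opens, s ∈ U ∧ IsFinite (f ∣_ (h ⁻¹ᵁ U)) := by
  have : IsProper (f ≫ h) := by rw [w]; infer_instance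
  have : IsProper f := IsProper.of_comp f h
  obtain ⟨V, hV, hVfin⟩ := Groth.Agent.S10860.result f
  have hsub : h.base ⁻¹' {s} ⊆ V := by
    intro y hy
    rw [hV]
    exact finite_preimage_singleton_of_fiberMapOver f g h w s
      (fun y' => (CohIII.fiberMapOver f g h w s).finite_preimage_singleton y') y hy
  obtain ⟨U, hsU, hUV⟩ := exists_preimage_le_of_fibre_subset h h.isClosedMap s V hsub
  exact ⟨U, hsU, morphismRestrict_of_le (P := @IsFinite) f hUV hVfin⟩


set_option backward.isDefEq.respectTransparency false in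
theorem morphismRestrict_iff_of_affineAnd {P : MorphismProperty Scheme.{u}}
    {Q : ∀ {R S : Type u} [CommRing R] [CommRing S], (R →+* S) → Prop}
    (hP : HasAffineProperty P (affineAnd Q)) (hQi : RingHom.RespectsIso Q) {X Y : Scheme.{u}}
    (f : X ⟶ Y) {U : Y.Opens} (hU : IsAffineOpen U) :
    P (f ∣_ U) ↔ IsAffineOpen (f ⁻¹ᵁ U) ∧ Q (f.app U).hom := by
  have : IsAffine U := hU
  rw [HasAffineProperty.iff_of_isAffine (P := P), affineAnd_apply,
    morphismRestrict_appTop, CommRingCat.hom_comp, hQi.cancel_right_isIso]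
  change _ ∧ Q (Scheme.Hom.app f (U.ι ''ᵁ ⊤)).hom ↔ _
  rw [Scheme.Opens.ι_image_top]
  rfl

set_option backward.isDefEq.respectTransparency.types false in
theorem isFinite_morphismRestrict_iff {X Y : Scheme.{u}}
    (f : X ⟶ Y) {U : Y.Opens} (hU : IsAffineOpen U) :
    IsFinite (f ∣_ U) ↔ IsAffineOpen (f ⁻¹ᵁ U) ∧ (f.app U).hom.Finite :=
  morphismRestrict_iff_of_affineAnd (P := @IsFinite) (Q := RingHom.Finite) inferInstance
    RingHom.finite_respectsIso f hU

set_option backward.isDefEq.respectTransparency.types false in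
theorem isClosedImmersion_morphismRestrict_iff {X Y : Scheme.{u}}
    (f : X ⟶ Y) {U : Y.Opens} (hU : IsAffineOpen U) :
    IsClosedImmersion (f ∣_ U) ↔ IsAffineOpen (f ⁻¹ᵁ U) ∧ Function.Surjective (f.app U).hom :=
  morphismRestrict_iff_of_affineAnd (P := @IsClosedImmersion)
    (Q := fun f => Function.Surjective f) IsClosedImmersion.hasAffineProperty
    RingHom.surjective_respectsIso f hU


theorem away_map_surjective {A B : Type*} [CommRing A] [CommRing B] (g : A →+* B) (r : A)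
    (S Q : Type*) [CommRing S] [CommRing Q] [Algebra A S] [Algebra B Q]
    [IsLocalization.Away r S] [IsLocalization.Away (g r) Q]
    (h : ∀ b : B, ∃ n : ℕ, ∃ c : A, g c = g r ^ n * b) :
    Function.Surjective (IsLocalization.Away.map S Q g r) := by
  intro q
  obtain ⟨n, b, hb⟩ := IsLocalization.Away.surj (g r) q
  obtain ⟨m, c, hc⟩ := h b
  refine ⟨IsLocalization.mk' S c (⟨r ^ (n + m), n + m, rfl⟩ : Submonoid.powers r), ?_⟩
  rw [IsLocalization.Away.map, IsLocalization.map_mk', IsLocalization.mk'_eq_iff_eq_mul]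
  simp only [hc, map_mul, map_pow]
  rw [← hb]
  ring


theorem exists_pow_smul_mem_range_of_surjective_includeLeft {A B A' : Type u} [CommRing A]
    [CommRing B] [CommRing A'] [Algebra A B] [Module.Finite A B] [Algebra A A']
    (hsurj : Function.Surjective
      (Algebra.TensorProduct.includeLeftRingHom : A' →+* A' ⊗[A] B))
    (q' : PrimeSpectrum A') :
    ∃ a : A, algebraMap A A' a ∉ q'.asIdeal ∧
      ∀ b : B, ∃ n : ℕ, a ^ n • b ∈ (algebraMap A B).range := by
  let N : Submodule A B := LinearMap.range (Algebra.linearMap A B)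
  let C := B ⧸ N
  have hone : (N.mkQ (1 : B)) = 0 := by
    rw [Submodule.mkQ_apply, Submodule.Quotient.mk_eq_zero]
    exact ⟨1, by simp⟩
  have hsub : Subsingleton (A' ⊗[A] C) := by
    refine subsingleton_of_forall_eq 0 fun z => ?_
    induction z using TensorProduct.induction_on with
    | zero => rfl
    | tmul x c =>
      obtain ⟨b, rfl⟩ := N.mkQ_surjective c
      obtain ⟨a'', ha''⟩ := hsurj (x ⊗ₜ[A] b)
      have h1 : (LinearMap.lTensor A' N.mkQ) (x ⊗ₜ[A] b) = x ⊗ₜ[A] (N.mkQ b) := rfl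
      rw [← h1, ← ha'']
      simp [hone]
    | add x y hx hy => rw [hx, hy, add_zero]
  have h1 : q' ∉ Module.support A' (A' ⊗[A] C) := by
    rw [Module.support_eq_empty_iff.mpr hsub]
    exact Set.notMem_empty _
  rw [Groth.Agent.Lib.SupportBaseChange.mem_support_baseChange_iff, Module.notMem_support_iff] at h1
  obtain ⟨a, ha, hloc⟩ := LocalizedModule.exists_subsingleton_away
    (PrimeSpectrum.comap (algebraMap A A') q').asIdeal (M := C)
  refine ⟨a, ha, fun b => ?_⟩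
  have h2 : LocalizedModule.mkLinearMap (Submonoid.powers a) C (N.mkQ b) = 0 :=
    Subsingleton.elim _ _
  rw [IsLocalizedModule.eq_zero_iff (Submonoid.powers a)] at h2
  obtain ⟨⟨_, n, rfl⟩, hn⟩ := h2
  refine ⟨n, ?_⟩
  have h3 : N.mkQ (a ^ n • b) = 0 := by rw [map_smul]; exact hn
  rw [Submodule.mkQ_apply, Submodule.Quotient.mk_eq_zero] at h3
  obtain ⟨c, hc⟩ := h3
  exact ⟨c, hc⟩


theorem exists_pow_mul_mem_range_of_isPushout {A B A' B' : CommRingCat.{u}} {φ : A ⟶ B}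
    {ψ : A ⟶ A'} {ψ' : B ⟶ B'} {φ' : A' ⟶ B'} (hpo : IsPushout φ ψ ψ' φ') (hfin : φ.hom.Finite)
    (hsurj : Function.Surjective φ'.hom) (q' : PrimeSpectrum A') :
    ∃ a : A, ψ.hom a ∉ q'.asIdeal ∧
      ∀ b : B, ∃ n : ℕ, ∃ c : A, φ.hom c = φ.hom a ^ n * b := by
  algebraize [φ.hom, ψ.hom]
  have h1 := CommRingCat.isPushout_tensorProduct A A' B
  let e := h1.isoIsPushout _ _ hpo.flip
  have he : CommRingCat.ofHom Algebra.TensorProduct.includeLeftRingHom ≫ e.hom = φ' :=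
    h1.inl_isoIsPushout_hom _ _ hpo.flip
  have hs : Function.Surjective
      (Algebra.TensorProduct.includeLeftRingHom : A' →+* A' ⊗[A] B) := by
    intro z
    obtain ⟨x, hx⟩ := hsurj (e.hom.hom z)
    refine ⟨x, ?_⟩
    apply e.commRingCatIsoToRingEquiv.injective
    change e.hom.hom _ = e.hom.hom z
    rw [← hx, ← he]
    rfl
  obtain ⟨a, ha, hb⟩ := exists_pow_smul_mem_range_of_surjective_includeLeft hs q'
  refine ⟨a, ha, fun b => ?_⟩
  obtain ⟨n, c, hc⟩ := hb b
  refine ⟨n, c, ?_⟩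
  rw [Algebra.smul_def, map_pow] at hc
  exact hc


theorem mem_basicOpen_of_notMem_primeIdealOf {X : Scheme.{u}} {V : X.Opens} (hV : IsAffineOpen V)
    {x : X} (hx : x ∈ V) (r : Γ(X, V)) (hr : r ∉ (hV.primeIdealOf ⟨x, hx⟩).asIdeal) :
    x ∈ X.basicOpen r := by
  have hq : hV.fromSpec (hV.primeIdealOf ⟨x, hx⟩) = x := hV.fromSpec_primeIdealOf ⟨x, hx⟩
  rw [← hq]
  show hV.primeIdealOf ⟨x, hx⟩ ∈ hV.fromSpec ⁻¹ᵁ X.basicOpen r
  rw [hV.fromSpec_preimage_basicOpen]
  exact hr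

set_option backward.isDefEq.respectTransparency.types false in
theorem exists_nhd_isClosedImmersion_of_isPullback {X Y X' Y' : Scheme.{u}}
    {f : X ⟶ Y} {ι : Y' ⟶ Y} {f' : X' ⟶ Y'} {ι' : X' ⟶ X} (H : IsPullback ι' f' f ι)
    [IsClosedImmersion f'] (y' : Y') (V₁ : Y.Opens) (hy : ι y' ∈ V₁) (hfin : IsFinite (f ∣_ V₁)) :
    ∃ V : Y.Opens, ι y' ∈ V ∧ IsClosedImmersion (f ∣_ V) := by
  obtain ⟨V₀, hV₀, hyV₀, hV₀V₁⟩ := exists_isAffineOpen_mem_and_subset hy
  have hy'0 : y' ∈ ι ⁻¹ᵁ V₀ := hyV₀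
  obtain ⟨V₀', hV₀', hyV₀', hV₀'le⟩ := exists_isAffineOpen_mem_and_subset hy'0
  have hfin₀ : IsFinite (f ∣_ V₀) := morphismRestrict_of_le (P := @IsFinite) f hV₀V₁ hfin
  obtain ⟨hUX, hφfin⟩ := (isFinite_morphismRestrict_iff f hV₀).mp hfin₀
  have hUST : V₀' ≤ ι ⁻¹ᵁ V₀ := hV₀'le
  have hUSX : f ⁻¹ᵁ V₀ ≤ f ⁻¹ᵁ V₀ := le_rfl
  have hUY : f' ⁻¹ᵁ V₀' = ι' ⁻¹ᵁ (f ⁻¹ᵁ V₀) ⊓ f' ⁻¹ᵁ V₀' := by
    refine (inf_eq_right.mpr ?_).symm
    intro x hx
    show f (ι' x) ∈ V₀
    rw [← Scheme.Hom.comp_apply, H.w, Scheme.Hom.comp_apply]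
    exact hV₀'le hx
  have hpo := (isIso_pushoutSection_iff H hUST hUSX hUY).mp
    (isIso_pushoutSection_of_isAffineOpen H hUST hUSX hUY hV₀ hV₀' hUX)
  have hsurj : Function.Surjective (f'.appLE V₀' (f' ⁻¹ᵁ V₀') le_rfl).hom := by
    rw [Scheme.Hom.appLE_eq_app]
    exact f'.app_surjective V₀' hV₀'
  have hφfin' : (f.appLE V₀ (f ⁻¹ᵁ V₀) hUSX).hom.Finite := by
    rw [Scheme.Hom.appLE_eq_app]
    exact hφfin
  obtain ⟨a, ha, hb⟩ := exists_pow_mul_mem_range_of_isPushout hpo hφfin' hsurj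
    (hV₀'.primeIdealOf ⟨y', hyV₀'⟩)
  have hmem : y' ∈ Y'.basicOpen ((ι.appLE V₀ V₀' hUST).hom a) :=
    mem_basicOpen_of_notMem_primeIdealOf hV₀' hyV₀' _ ha
  rw [Scheme.basicOpen_appLE] at hmem
  refine ⟨Y.basicOpen a, hmem.2, ?_⟩
  rw [isClosedImmersion_morphismRestrict_iff f (hV₀.basicOpen a)]
  constructor
  · rw [Scheme.preimage_basicOpen]; exact hUX.basicOpen _
  · rw [hV₀.app_basicOpen_eq_away_map f hUX a, CommRingCat.hom_comp, RingHom.coe_comp]
    refine Function.Surjective.comp ?_ ?_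
    · exact (ConcreteCategory.bijective_of_isIso (X.presheaf.map (eqToHom _).op)).2
    · rw [CommRingCat.hom_ofHom]
      have := hV₀.isLocalization_basicOpen a
      have := hUX.isLocalization_basicOpen (f.app V₀ a)
      apply away_map_surjective
      simpa [Scheme.Hom.appLE_eq_app] using hb

theorem morphismRestrict_restrict_iff {P : MorphismProperty Scheme.{u}} [P.RespectsIso]
    {X Y : Scheme.{u}} (f : X ⟶ Y) {V W : Y.Opens} (hVW : V ≤ W) :
    P (f ∣_ W ∣_ (W.ι ⁻¹ᵁ V)) ↔ P (f ∣_ V) := by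
  rw [P.arrow_mk_iso_iff (morphismRestrictRestrict f W (W.ι ⁻¹ᵁ V))]
  have e : W.ι ''ᵁ (W.ι ⁻¹ᵁ V) = V := by
    rw [Scheme.Hom.image_preimage_eq_opensRange_inf, Scheme.Opens.opensRange_ι]
    exact inf_eq_right.mpr hVW
  rw [P.arrow_mk_iso_iff (morphismRestrictEq f e)]

theorem morphismRestrict_iSup {P : MorphismProperty Scheme.{u}} [IsZariskiLocalAtTarget P]
    {X Y : Scheme.{u}} (f : X ⟶ Y) {κ : Type*} (V : κ → Y.Opens) (h : ∀ i, P (f ∣_ V i)) :
    P (f ∣_ ⨆ i, V i) := by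
  refine IsZariskiLocalAtTarget.of_iSup_eq_top (fun i => (⨆ i, V i).ι ⁻¹ᵁ V i) ?_ fun i => ?_
  · rw [← Scheme.Hom.preimage_iSup]
    exact Scheme.Opens.ι_preimage_self _
  · exact (morphismRestrict_restrict_iff f (le_iSup V i)).mpr (h i)

theorem isPullback_fiberMapOver {X Y S : Scheme.{u}} (f : X ⟶ Y) (g : X ⟶ S) (h : Y ⟶ S)
    (w : f ≫ h = g) (s : S) :
    IsPullback (g.fiberι s) (CohIII.fiberMapOver f g h w s) f (h.fiberι s) := by
  have t : IsPullback (h.fiberι s) (pullback.snd h (S.fromSpecResidueField s)) h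
      (S.fromSpecResidueField s) := IsPullback.of_hasPullback _ _
  have hsnd : CohIII.fiberMapOver f g h w s ≫ pullback.snd h (S.fromSpecResidueField s) =
      pullback.snd g (S.fromSpecResidueField s) := by
    exact (pullback.lift_snd _ _ _).trans (Category.comp_id _)
  have o : IsPullback (g.fiberι s)
      (CohIII.fiberMapOver f g h w s ≫ pullback.snd h (S.fromSpecResidueField s)) (f ≫ h)
      (S.fromSpecResidueField s) := by
    rw [hsnd, w]
    exact IsPullback.of_hasPullback _ _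
  exact IsPullback.of_bot o (fiberMapOver_fiberι f g h w s).symm t

set_option backward.isDefEq.respectTransparency.types false in
theorem exists_isClosedImmersion_near_fibre {X Y S : Scheme.{u}} (f : X ⟶ Y) (g : X ⟶ S)
    (h : Y ⟶ S) (w : f ≫ h = g) [IsProper g] [IsProper h] (s : S)
    (hcl : IsClosedImmersion (CohIII.fiberMapOver f g h w s)) :
    ∃ U : S.Opens, s ∈ U ∧ IsClosedImmersion (f ∣_ (h ⁻¹ᵁ U)) := by
  obtain ⟨U₁, hsU₁, hfin⟩ := exists_isFinite_near_fibre f g h w s inferInstance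
  have key : ∀ y : h.base ⁻¹' {s}, ∃ V : Y.Opens, y.1 ∈ V ∧ IsClosedImmersion (f ∣_ V) := by
    rintro ⟨y, hy⟩
    obtain ⟨y', rfl⟩ : y ∈ Set.range (h.fiberι s) := by
      rw [Scheme.Hom.range_fiberι]; exact hy
    have hy₁ : h.fiberι s y' ∈ h ⁻¹ᵁ U₁ := by
      show h (h.fiberι s y') ∈ U₁
      have : h (h.fiberι s y') = s := hy
      rw [this]; exact hsU₁
    exact exists_nhd_isClosedImmersion_of_isPullback (isPullback_fiberMapOver f g h w s) y'
      (h ⁻¹ᵁ U₁) hy₁ hfin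
  choose V hyV hV using key
  have hsub : h.base ⁻¹' {s} ⊆ (⨆ y, V y : Y.Opens) := by
    intro y hy
    exact TopologicalSpace.Opens.mem_iSup.mpr ⟨⟨y, hy⟩, hyV ⟨y, hy⟩⟩
  obtain ⟨U, hsU, hUV⟩ := exists_preimage_le_of_fibre_subset h h.isClosedMap s _ hsub
  exact ⟨U, hsU, morphismRestrict_of_le (P := @IsClosedImmersion) f hUV
    (morphismRestrict_iSup (P := @IsClosedImmersion) f V hV)⟩

end Groth.Agent.Lib.H80NearFibre
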