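import Groth.Agent.Lib.DimIneqScheme

/-!
# Dimension inequality when only the local ring of the base is Noetherian (helper63)

`core_local` generalizes `DimIneqCore.core`: for a finite type algebra `R → B` and a prime `q` of
`B`, only the localization of `R` at `q ∩ R` is assumed to be Noetherian.
-/

set_option autoImplicit false
universe u

namespace Groth.Agent.Lib.DimIneqLocal

open Cardinal Groth.Agent.Lib.TrdegTransfer Groth.Agent.Lib.DimIneqCore Polynomial

section Alg

theorem isAlgebraic_of_frac' {A K : Type*} [CommRing A] [CommRing K] [Algebra A K] (k : K)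
    (a s : A) (hs : algebraMap A K s ≠ 0) (h : k * algebraMap A K s = algebraMap A K a) :
    IsAlgebraic A k := by
  refine ⟨C s * X - C a, fun h0 => hs ?_, ?_⟩
  · have := congrArg (fun p => p.coeff 1) h0
    simp only [coeff_sub, coeff_C_mul, coeff_X_one, mul_one, coeff_C_succ, sub_zero,
      coeff_zero] at this
    rw [this, map_zero]
  · simp only [map_sub, map_mul, aeval_C, aeval_X]
    rw [mul_comm, h, sub_self]

theorem isAlgebraic_quotient_of_isLocalization {R R' : Type*} [CommRing R] [CommRing R']
    [Algebra R R'] (M : Submonoid R) [IsLocalization M R'] (p' : Ideal R') [p'.IsPrime]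
    (p : Ideal R) [p'.LiesOver p] : Algebra.IsAlgebraic (R ⧸ p) (R' ⧸ p') := by
  refine ⟨fun x => ?_⟩
  obtain ⟨r', rfl⟩ := Ideal.Quotient.mk_surjective x
  obtain ⟨⟨a, m⟩, h⟩ := IsLocalization.surj M r'
  refine isAlgebraic_of_frac' _ (Ideal.Quotient.mk p a) (Ideal.Quotient.mk p (m : R)) ?_ ?_
  · rw [Ideal.Quotient.algebraMap_mk_of_liesOver]
    have hu : IsUnit (Ideal.Quotient.mk p' (algebraMap R R' (m : R))) :=
      (IsLocalization.map_units R' m).map _
    exact hu.ne_zero
  · rw [Ideal.Quotient.algebraMap_mk_of_liesOver, Ideal.Quotient.algebraMap_mk_of_liesOver,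
      ← map_mul]
    exact congrArg _ h

variable {R B R' B' : Type u} [CommRing R] [CommRing B] [CommRing R'] [CommRing B']
  [Algebra R B] [Algebra R R'] [Algebra B B'] [Algebra R' B'] [Algebra R B']
  [IsScalarTower R R' B'] [IsScalarTower R B B']

/-- Transcendence degrees of residue extensions are unchanged by localizing source and target. -/
theorem trdeg_quotient_localization (M : Submonoid R) [IsLocalization M R']
    [IsLocalization (Algebra.algebraMapSubmonoid B M) B'] (P' : Ideal B') [P'.IsPrime]
    (P : Ideal B) (hP : P'.under B = P) :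
    Algebra.trdeg (R' ⧸ P'.under R') (B' ⧸ P') = Algebra.trdeg (R ⧸ P.under R) (B ⧸ P) := by
  subst hP
  haveI h1 : (P'.under R').LiesOver ((P'.under B).under R) :=
    ⟨by rw [Ideal.under_under, Ideal.under_under]⟩
  haveI h2 : P'.LiesOver ((P'.under B).under R) := ⟨by rw [Ideal.under_under]⟩
  haveI : IsScalarTower (R ⧸ (P'.under B).under R) (R' ⧸ P'.under R') (B' ⧸ P') :=
    IsScalarTower.of_algebraMap_eq (fun a => by
      obtain ⟨r, rfl⟩ := Ideal.Quotient.mk_surjective a
      simp only [Ideal.Quotient.algebraMap_mk_of_liesOver]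
      rw [IsScalarTower.algebraMap_apply R R' B'])
  haveI : IsScalarTower (R ⧸ (P'.under B).under R) (B ⧸ P'.under B) (B' ⧸ P') :=
    IsScalarTower.of_algebraMap_eq (fun a => by
      obtain ⟨r, rfl⟩ := Ideal.Quotient.mk_surjective a
      simp only [Ideal.Quotient.algebraMap_mk_of_liesOver]
      rw [IsScalarTower.algebraMap_apply R B B'])
  haveI : Nontrivial (R ⧸ (P'.under B).under R) :=
    Ideal.Quotient.nontrivial_iff.mpr (Ideal.IsPrime.ne_top')
  haveI : Algebra.IsAlgebraic (R ⧸ (P'.under B).under R) (R' ⧸ P'.under R') :=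
    isAlgebraic_quotient_of_isLocalization M _ _
  haveI : Algebra.IsAlgebraic (B ⧸ P'.under B) (B' ⧸ P') :=
    isAlgebraic_quotient_of_isLocalization (Algebra.algebraMapSubmonoid B M) _ _
  exact trdeg_eq_of_isAlgebraic_square (A := R ⧸ (P'.under B).under R) (B := B ⧸ P'.under B)
    (K := R' ⧸ P'.under R') (L := B' ⧸ P')

end Alg

section Core

variable {R B : Type u} [CommRing R] [CommRing B] [Algebra R B]

theorem disjoint_algebraMapSubmonoid_under (q : Ideal B) [q.IsPrime] :
    Disjoint (Algebra.algebraMapSubmonoid B (q.under R).primeCompl : Set B) (q : Set B) := by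
  rw [Set.disjoint_left]
  rintro _ ⟨r, hr, rfl⟩ hq
  exact hr hq

/-- **Dimension inequality for a finite type algebra over a ring whose localization at `q ∩ R`
is Noetherian.** -/
theorem core_local (H : DimIneq.{u}) [Algebra.FiniteType R B]
    (q : Ideal B) [q.IsPrime] [IsNoetherianRing (Localization.AtPrime (q.under R))]
    (E : Cardinal.{u})
    (hE : ∀ Q₀ ∈ minimalPrimes B, Q₀ ≤ q → Algebra.trdeg (R ⧸ Q₀.under R) (B ⧸ Q₀) ≤ E) :
    (q.height : Cardinal.{u}) + Algebra.trdeg (R ⧸ q.under R) (B ⧸ q) ≤
      ((q.under R).height : Cardinal.{u}) + E := by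
  set p := q.under R with hp
  let M := p.primeCompl
  let R' := Localization.AtPrime p
  let B' := Localization (Algebra.algebraMapSubmonoid B M)
  haveI : Algebra.FiniteType R' B' := by
    have h0 : (algebraMap R B).FiniteType := RingHom.finiteType_algebraMap.mpr inferInstance
    haveI : IsLocalization (Submonoid.map (algebraMap R B) M) B' :=
      inferInstanceAs (IsLocalization (Algebra.algebraMapSubmonoid B M) B')
    have := RingHom.finiteType_localizationPreserves (algebraMap R B) M R' B' h0
    exact RingHom.finiteType_algebraMap.mp this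
  have hdisj : Disjoint (Algebra.algebraMapSubmonoid B M : Set B) (q : Set B) :=
    disjoint_algebraMapSubmonoid_under q
  let q' : Ideal B' := q.map (algebraMap B B')
  haveI hq' : q'.IsPrime :=
    IsLocalization.isPrime_of_isPrime_disjoint (Algebra.algebraMapSubmonoid B M) B' q
      inferInstance hdisj
  have hq'q : q'.under B = q :=
    IsLocalization.under_map_of_isPrime_disjoint (Algebra.algebraMapSubmonoid B M) B'
      inferInstance hdisj
  have hmain := core H (R := R') (B := B') q' E (by
    intro Q₀' hQ₀' hle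
    haveI : Q₀'.IsPrime := hQ₀'.1.1
    rw [trdeg_quotient_localization M Q₀' (Q₀'.under B) rfl]
    refine hE _ ?_ ?_
    · have := IsLocalization.minimalPrimes_comap (Algebra.algebraMapSubmonoid B M) B'
        (⊥ : Ideal B')
      have h1 : Q₀'.under B ∈ ((⊥ : Ideal B').comap (algebraMap B B')).minimalPrimes := by
        rw [this]
        exact ⟨Q₀', hQ₀', rfl⟩
      refine ⟨⟨h1.1.1, bot_le⟩, fun J hJ hle' => h1.2 ⟨hJ.1, ?_⟩ hle'⟩
      intro x hx
      -- x maps to zero in B', hence is killed by an element of the submonoid, so lies in J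
      rw [Ideal.mem_comap, Ideal.mem_bot] at hx
      obtain ⟨c, hc⟩ := (IsLocalization.map_eq_zero_iff (Algebra.algebraMapSubmonoid B M) B' x).mp hx
      have hcJ : (c : B) ∉ J := by
        intro hcJ
        have : (c : B) ∈ q := by
          have h2 : J ≤ Q₀'.under B := hle'
          have h3 : Q₀'.under B ≤ q'.under B := Ideal.comap_mono hle
          rw [hq'q] at h3
          exact h3 (h2 hcJ)
        exact Set.disjoint_left.mp hdisj c.2 this
      haveI := hJ.1
      exact (Ideal.IsPrime.mem_or_mem_of_mul_eq_zero hJ.1 hc).resolve_left hcJ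
    · have h3 : Q₀'.under B ≤ q'.under B := Ideal.comap_mono hle
      rwa [hq'q] at h3)
  rw [trdeg_quotient_localization M q' q hq'q] at hmain
  have hh1 : q'.height = q.height :=
    IsLocalization.height_map_of_disjoint (Algebra.algebraMapSubmonoid B M) q hdisj
  have hh2 : (q'.under R').height = p.height := by
    rw [← IsLocalization.height_under M (q'.under R'), Ideal.under_under,
      ← Ideal.under_under (B := B), hq'q]
  rw [hh1, hh2] at hmain
  exact hmain

/-- In the situation of `core_local` the heights are finite. -/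
theorem height_ne_top_local [Algebra.FiniteType R B]
    (q : Ideal B) [q.IsPrime] [IsNoetherianRing (Localization.AtPrime (q.under R))] :
    q.height ≠ ⊤ ∧ (q.under R).height ≠ ⊤ := by
  set p := q.under R with hp
  let M := p.primeCompl
  let R' := Localization.AtPrime p
  let B' := Localization (Algebra.algebraMapSubmonoid B M)
  haveI : Algebra.FiniteType R' B' := by
    have h0 : (algebraMap R B).FiniteType := RingHom.finiteType_algebraMap.mpr inferInstance
    haveI : IsLocalization (Submonoid.map (algebraMap R B) M) B' :=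
      inferInstanceAs (IsLocalization (Algebra.algebraMapSubmonoid B M) B')
    have := RingHom.finiteType_localizationPreserves (algebraMap R B) M R' B' h0
    exact RingHom.finiteType_algebraMap.mp this
  haveI : IsNoetherianRing B' := Algebra.FiniteType.isNoetherianRing R' B'
  have hdisj : Disjoint (Algebra.algebraMapSubmonoid B M : Set B) (q : Set B) :=
    disjoint_algebraMapSubmonoid_under q
  let q' : Ideal B' := q.map (algebraMap B B')
  haveI hq' : q'.IsPrime :=
    IsLocalization.isPrime_of_isPrime_disjoint (Algebra.algebraMapSubmonoid B M) B' q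
      inferInstance hdisj
  have hh1 : q'.height = q.height :=
    IsLocalization.height_map_of_disjoint (Algebra.algebraMapSubmonoid B M) q hdisj
  constructor
  · rw [← hh1]
    exact Ideal.height_ne_top_of_isPrime
  · have h2 : ringKrullDim R' = p.height := IsLocalization.AtPrime.ringKrullDim_eq_height p R'
    have h3 : ringKrullDim R' < ⊤ := ringKrullDim_lt_top
    intro h4
    rw [h2, h4] at h3
    exact lt_irrefl _ h3

end Core

section Sch

open AlgebraicGeometry CategoryTheory TopologicalSpace Groth.Agent.Lib.DimIneqScheme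

variable {X S : Scheme.{u}} (f : X ⟶ S)

theorem isNoetherianRing_localization_of_stalk {V : S.Opens} (hV : IsAffineOpen V) (s : S)
    (hs : s ∈ V) [IsNoetherianRing (S.presheaf.stalk s)] (p : Ideal Γ(S, V)) [p.IsPrime]
    (hp : p = (hV.primeIdealOf ⟨s, hs⟩).asIdeal) :
    IsNoetherianRing (Localization.AtPrime p) := by
  subst hp
  letI := S.presheaf.algebra_section_stalk ⟨s, hs⟩
  haveI := hV.isLocalization_stalk ⟨s, hs⟩
  exact isNoetherianRing_of_ringEquiv (S.presheaf.stalk s)
    (IsLocalization.algEquiv (hV.primeIdealOf ⟨s, hs⟩).asIdeal.primeCompl (S.presheaf.stalk s)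
      (Localization.AtPrime (hV.primeIdealOf ⟨s, hs⟩).asIdeal)).toRingEquiv

/-- **Local dimension inequality** assuming only that the local ring of the base at `f x` is
Noetherian. -/
theorem stalk_ineq_local (H : DimIneq.{u}) [LocallyOfFiniteType f] (x : X)
    [IsNoetherianRing (S.presheaf.stalk (f x))]
    (E : Cardinal.{u})
    (hE : ∀ ξ : X, closure {ξ} ∈ irreducibleComponents X → ξ ⤳ x →
      letI := (f.residueFieldMap ξ).hom.toAlgebra
      Algebra.trdeg (S.residueField (f ξ)) (X.residueField ξ) ≤ E) :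
    ∃ a b : ℕ, ringKrullDim (X.presheaf.stalk x) = a ∧
      ringKrullDim (S.presheaf.stalk (f x)) = b ∧
      letI := (f.residueFieldMap x).hom.toAlgebra
      (a : Cardinal.{u}) + Algebra.trdeg (S.residueField (f x)) (X.residueField x) ≤ b + E := by
  obtain ⟨V, hV, hfxV⟩ : ∃ V : S.Opens, IsAffineOpen V ∧ f x ∈ V := by
    obtain ⟨_, ⟨V, hV, rfl⟩, hxV, -⟩ := S.isBasis_affineOpens.exists_subset_of_mem_open
      (Set.mem_univ (f x)) isOpen_univ
    exact ⟨V, hV, hxV⟩
  obtain ⟨U, hU, hx, e⟩ : ∃ U : X.Opens, IsAffineOpen U ∧ x ∈ U ∧ U ≤ f ⁻¹ᵁ V := by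
    obtain ⟨_, ⟨U, hU, rfl⟩, hxU, hUV⟩ := X.isBasis_affineOpens.exists_subset_of_mem_open
      (show x ∈ ((f ⁻¹ᵁ V : X.Opens) : Set X) from hfxV) (f ⁻¹ᵁ V).isOpen
    exact ⟨U, hU, hxU, hUV⟩
  letI alg := (f.appLE V U e).hom.toAlgebra
  haveI : Algebra.FiniteType Γ(S, V) Γ(X, U) := f.finiteType_appLE hV hU e
  have hunder : (hU.primeIdealOf ⟨x, hx⟩).asIdeal.under Γ(S, V) =
      (hV.primeIdealOf ⟨f x, e hx⟩).asIdeal :=
    congrArg PrimeSpectrum.asIdeal (IsAffineOpen.comap_primeIdealOf_appLE V hV U hU e hx)
  haveI : IsNoetherianRing (Localization.AtPrime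
      ((hU.primeIdealOf ⟨x, hx⟩).asIdeal.under Γ(S, V))) :=
    isNoetherianRing_localization_of_stalk hV (f x) (e hx) _ hunder
  have hcore := core_local H (hU.primeIdealOf ⟨x, hx⟩).asIdeal E (by
    intro Q₀ hQ₀ hle
    obtain ⟨ξ, hξ, hirr, hspec, rfl⟩ := exists_generic_of_minimalPrime hU x hx Q₀ hQ₀ hle
    rw [← trdeg_residueField_eq f hU hV e ξ hξ]
    exact hE ξ hirr hspec)
  obtain ⟨hfin1, hfin2⟩ := height_ne_top_local (R := Γ(S, V)) (hU.primeIdealOf ⟨x, hx⟩).asIdeal
  rw [← trdeg_residueField_eq f hU hV e x hx] at hcore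
  rw [hunder] at hcore hfin2
  have hdimX : ringKrullDim (X.presheaf.stalk x) = (hU.primeIdealOf ⟨x, hx⟩).asIdeal.height := by
    letI := X.presheaf.algebra_section_stalk ⟨x, hx⟩
    haveI := hU.isLocalization_stalk ⟨x, hx⟩
    exact IsLocalization.AtPrime.ringKrullDim_eq_height _ _
  have hdimS : ringKrullDim (S.presheaf.stalk (f x)) =
      (hV.primeIdealOf ⟨f x, e hx⟩).asIdeal.height := by
    letI := S.presheaf.algebra_section_stalk ⟨f x, e hx⟩
    haveI := hV.isLocalization_stalk ⟨f x, e hx⟩
    exact IsLocalization.AtPrime.ringKrullDim_eq_height _ _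
  obtain ⟨a, ha⟩ := ENat.ne_top_iff_exists.mp hfin1
  obtain ⟨b, hb⟩ := ENat.ne_top_iff_exists.mp hfin2
  refine ⟨a, b, ?_, ?_, ?_⟩
  · rw [hdimX, ← ha]; rfl
  · rw [hdimS, ← hb]; rfl
  · rw [← ha, ← hb] at hcore
    simpa using hcore

end Sch

end Groth.Agent.Lib.DimIneqLocal
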