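import Groth.Agent.Lib.DimFormulaScheme2

/-!
# The dimension inequality with respect to a generic point (helper63)

`stalk_ineq_generic`: for `f : X ⟶ S` locally of finite type, `S` locally Noetherian, and `ξ`
specializing to every point of `X` with `trdeg κ(ξ)/κ(f ξ) = e₀`:
`dim O_{X,x} + trdeg κ(x)/κ(f x) ≤ dim O_{S,f x} + e₀`.
-/

set_option autoImplicit false
universe u

namespace Groth.Agent.Lib.DimFormulaScheme

open Cardinal AlgebraicGeometry Groth.Agent.Lib.DimIneqCore Groth.Agent.Lib.DimIneqScheme

variable {X S : Scheme.{u}}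

theorem stalk_ineq_generic (f : X ⟶ S) [IsLocallyNoetherian S] [LocallyOfFiniteType f]
    (ξ : X) (hξ : ∀ x : X, ξ ⤳ x) (e₀ : ℕ)
    (he : letI := (f.residueFieldMap ξ).hom.toAlgebra
      Algebra.trdeg (S.residueField (f ξ)) (X.residueField ξ) = e₀) (x : X) :
    ∃ a b : ℕ, ringKrullDim (X.presheaf.stalk x) = a ∧
      ringKrullDim (S.presheaf.stalk (f x)) = b ∧
      letI := (f.residueFieldMap x).hom.toAlgebra
      (a : Cardinal.{u}) + Algebra.trdeg (S.residueField (f x)) (X.residueField x) ≤ b + e₀ :=
  stalk_ineq f dimIneq x (e₀ : Cardinal.{u}) (fun ξ' h1 _ => by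
    have : ξ' = ξ := by
      have h2 : ξ ⤳ ξ' := hξ ξ'
      have h3 : ξ' ⤳ ξ := by
        have hmax : closure {ξ'} = closure {ξ} := by
          have hle : closure {ξ'} ⊆ closure {ξ} :=
            closure_minimal (Set.singleton_subset_iff.mpr (specializes_iff_mem_closure.mp h2))
              isClosed_closure
          exact le_antisymm hle (h1.2 isIrreducible_singleton.closure hle)
        rw [specializes_iff_mem_closure, hmax]
        exact subset_closure rfl
      exact (h3.antisymm h2).eq
    rw [this, he])

end Groth.Agent.Lib.DimFormulaScheme
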