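import Groth.Agent.Lib.H30DimField
import Mathlib.AlgebraicGeometry.Fiber

/-!
helper73: dimension of fibres via the dimension function `td k X x = trdeg_k κ(x)` of
`Groth.Agent.Lib.H30DimField` (schemes locally of finite type over a field `k`).

* `maximal_mem_range`: a maximal point (for generization) of the target lies in the range of a
  continuous map with dense range from a Noetherian quasi-sober space.
* `td_map_le`: `td` does not increase along `k`-morphisms.
* `td_eq_of_isClosed_fibre`: points closed in their fibre have the same `td` as their image.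
* `le_dim_of_convex` / `dim_le_of_convex`: dimension of a specialization-convex quasi-sober
  subspace through the dimension function.
* `td_sub_le_fibre_dim`: `td x - td (f x) ≤ dim f⁻¹(f x)`.
* `exists_td_ge_of_le_fibre_dim`: if `r ≤ dim f⁻¹(y)` there is `x` over `y` with
  `r + td y ≤ td x`.
* `exists_maximal_td_eq`: on a nonempty quasi-compact `Y` the dimension is `td` of some maximal
  point.
-/

set_option autoImplicit false
universe u
open CategoryTheory AlgebraicGeometry

namespace Groth.Agent.Lib.H73FibDim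

open Groth.Agent.Lib.H30DimField

/-- dense range from a Noetherian space hits every maximal point -/
theorem maximal_mem_range {X Z : Type u} [TopologicalSpace X] [TopologicalSpace Z]
    [TopologicalSpace.NoetherianSpace X] [QuasiSober X] [T0Space Z]
    (f : X → Z) (hf : Continuous f) (hd : DenseRange f) (ξ : Z) (hξ : ∀ z : Z, z ⤳ ξ → z = ξ) :
    ξ ∈ Set.range f := by
  have hfin : (irreducibleComponents X).Finite :=
    TopologicalSpace.NoetherianSpace.finite_irreducibleComponents
  have h1 : Set.range f = ⋃ T ∈ irreducibleComponents X, f '' T := by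
    rw [← Set.image_univ, ← sUnion_irreducibleComponents, Set.sUnion_eq_biUnion, Set.image_iUnion₂]
  have h2 : ξ ∈ closure (Set.range f) := by
    rw [hd.closure_range]; trivial
  rw [h1, hfin.closure_biUnion] at h2
  simp only [Set.mem_iUnion] at h2
  obtain ⟨T, hT, hmem⟩ := h2
  have hTi : IsIrreducible T := hT.1
  have hTc : IsClosed T := isClosed_of_mem_irreducibleComponents T hT
  set t := hTi.genericPoint with ht
  have htT : closure ({t} : Set X) = T := by
    have := hTi.genericPoint_closure_eq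
    rw [hTc.closure_eq] at this
    exact this
  have h3 : f '' T ⊆ closure ({f t} : Set Z) := by
    rw [← htT]
    refine (image_closure_subset_closure_image hf).trans ?_
    rw [Set.image_singleton]
  have h4 : ξ ∈ closure ({f t} : Set Z) :=
    closure_minimal h3 isClosed_closure hmem
  have h5 : f t ⤳ ξ := specializes_iff_mem_closure.mpr h4
  exact ⟨t, hξ _ h5⟩

theorem exists_maximal {Y : Scheme.{u}} [IsLocallyNoetherian Y] (y : Y) :
    ∃ ξ : Y, (∀ ξ' : Y, ξ' ⤳ ξ → ξ' = ξ) ∧ ξ ⤳ y := by
  obtain ⟨U, hU, hyU, h⟩ := Groth.Agent.S6460.exists_nhd Y y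
  obtain ⟨ξ, hξ, hξy, -⟩ := h y hyU
  exact ⟨ξ, hξ, hξy⟩

section conv

variable {X : Scheme.{u}} {δ : X → ℤ}

theorem le_dim_of_convex (hδ : Cyc.IsDimFun X δ) (Z : Set X) [QuasiSober Z]
    (hZ : ∀ v ∈ Z, ∀ w ∈ Z, ∀ z : X, v ⤳ z → z ⤳ w → z ∈ Z) (z c : X) (hz : z ∈ Z) (hc : c ∈ Z)
    (hzc : z ⤳ c) :
    (((δ z - δ c).toNat : ℕ) : WithBot ℕ∞) ≤ topologicalKrullDim ↥Z :=
  le_krullDim _ (isDimFun_convex hδ Z hZ) ⟨z, hz⟩ ⟨c, hc⟩ ((subtype_specializes_iff _ _).mpr hzc)

theorem dim_le_of_convex (hδ : Cyc.IsDimFun X δ) (Z : Set X) [QuasiSober Z]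
    (hZ : ∀ v ∈ Z, ∀ w ∈ Z, ∀ z : X, v ⤳ z → z ⤳ w → z ∈ Z) (a : ℤ) (N : ℕ)
    (h : ∀ z ∈ Z, a ≤ δ z ∧ δ z ≤ a + N) :
    topologicalKrullDim ↥Z ≤ (N : WithBot ℕ∞) := by
  have h1 := isDimFun_convex hδ Z hZ
  have h2 : PtTop.IsDimensionFunction (fun z : Z => δ z.1 - a) := by
    refine ⟨fun v w hvw hne => ?_, fun v w hvw => ?_⟩
    · have h3 : δ w.1 < δ v.1 := h1.1 v w hvw hne
      show δ w.1 - a < δ v.1 - a
      omega
    · have h3 : δ v.1 = δ w.1 + 1 := h1.2 v w hvw
      show δ v.1 - a = δ w.1 - a + 1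
      omega
  exact krullDim_le _ h2 (fun y => by have := (h y.1 y.2).1; show 0 ≤ δ y.1 - a; omega) N
    (fun y => by have := (h y.1 y.2).2; show δ y.1 - a ≤ N; omega)

end conv

section fib

variable {X Y : Scheme.{u}} (f : X ⟶ Y)

theorem fibre_convex (y : Y) :
    ∀ v ∈ f ⁻¹' {y}, ∀ w ∈ f ⁻¹' {y}, ∀ z : X, v ⤳ z → z ⤳ w → z ∈ f ⁻¹' {y} := by
  intro v hv w hw z hvz hzw
  have h1 : f v ⤳ f z := hvz.map f.continuous
  have h2 : f z ⤳ f w := hzw.map f.continuous
  rw [Set.mem_preimage, Set.mem_singleton_iff] at hv hw ⊢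
  rw [hv] at h1
  rw [hw] at h2
  exact (h2.antisymm h1).eq

theorem quasiSober_fibre (y : Y) : QuasiSober (f ⁻¹' {y}) :=
  (f.fiberHomeo y).symm.isClosedEmbedding.quasiSober

theorem exists_closed_in_fibre [QuasiCompact f] (x : X) :
    ∃ c : X, ∃ hc : f c = f x, x ⤳ c ∧
      IsClosed ({⟨c, hc⟩} : Set (f ⁻¹' {f x})) := by
  haveI : CompactSpace (f ⁻¹' {f x}) :=
    isCompact_iff_compactSpace.mp (f.isCompact_preimage_singleton (f x))
  obtain ⟨c, hc1, hc2⟩ := IsClosed.exists_closed_singleton
    (S := closure ({⟨x, rfl⟩} : Set (f ⁻¹' {f x}))) isClosed_closure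
    ⟨⟨x, rfl⟩, subset_closure rfl⟩
  refine ⟨c.1, c.2, ?_, hc2⟩
  have : (⟨x, rfl⟩ : f ⁻¹' {f x}) ⤳ c := specializes_iff_mem_closure.mpr hc1
  exact (subtype_specializes_iff _ _).mp this

theorem finite_residueFieldMap_of_isClosed_fibre [LocallyOfFiniteType f] (y : Y)
    (c : f ⁻¹' {y}) (hc : IsClosed ({c} : Set (f ⁻¹' {y}))) :
    (f.residueFieldMap c.1).hom.Finite := by
  obtain ⟨c, hcy⟩ := c
  have hcy' : f c = y := hcy
  subst hcy'
  have hw : IsClosed ({f.asFiber c} : Set (f.fiber (f c))) := by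
    have h1 : ({f.asFiber c} : Set (f.fiber (f c))) =
        (f.fiberHomeo (f c)).symm '' {⟨c, hcy⟩} := by
      rw [Set.image_singleton]
      rfl
    rw [h1]
    exact (f.fiberHomeo (f c)).symm.isClosedMap _ hc
  have h1 : IsClosedImmersion (f.asFiberHom c) :=
    .of_isPreimmersion _ (by rw [f.range_asFiberHom]; exact hw)
  have h2 : LocallyOfFiniteType (f.fiberToSpecResidueField (f c)) :=
    MorphismProperty.pullback_snd _ _ inferInstance
  have h3 : LocallyOfFiniteType (Spec.map (f.residueFieldMap c)) := by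
    rw [← f.asFiberHom_fiberToSpecResidueField]; infer_instance
  have h4 : IsFinite (Spec.map (f.residueFieldMap c)) :=
    isFinite_iff_locallyOfFiniteType_of_jacobsonSpace.mpr h3
  exact (IsFinite.SpecMap_iff _).mp h4

end fib

variable (k : Type u) [Field k]

theorem toGlobal_comp {Y Z : Scheme.{u}} [Y.Over (Spec (CommRingCat.of k))]
    [Z.Over (Spec (CommRingCat.of k))] (f : Y ⟶ Z) [f.IsOver (Spec (CommRingCat.of k))] (a : k) :
    f.appTop.hom (Coh.toGlobal (Z ↘ Spec (CommRingCat.of k)) a) =
      Coh.toGlobal (Y ↘ Spec (CommRingCat.of k)) a := by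
  unfold Coh.toGlobal
  have h : f ≫ (Z ↘ Spec (CommRingCat.of k)) = (Y ↘ Spec (CommRingCat.of k)) :=
    CategoryTheory.comp_over f _
  rw [← h]
  simp only [Scheme.Hom.comp_appTop, CommRingCat.hom_comp]
  rfl

theorem residueFieldMap_resMap {Y Z : Scheme.{u}} [Y.Over (Spec (CommRingCat.of k))]
    [Z.Over (Spec (CommRingCat.of k))] (f : Y ⟶ Z) [f.IsOver (Spec (CommRingCat.of k))] (y : Y)
    (a : k) :
    (f.residueFieldMap y).hom (Curv2.resMap k Z (f y) a) = Curv2.resMap k Y y a := by
  have h1 := Scheme.Γevaluation_naturality_apply f y (Coh.toGlobal (Z ↘ Spec (CommRingCat.of k)) a)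
  have h2 := toGlobal_comp k f a
  rw [h2] at h1
  exact h1

theorem td_map_le {Y Z : Scheme.{u}} [Y.Over (Spec (CommRingCat.of k))]
    [Z.Over (Spec (CommRingCat.of k))] [LocallyOfFiniteType (Y ↘ Spec (CommRingCat.of k))]
    (f : Y ⟶ Z) [f.IsOver (Spec (CommRingCat.of k))] (y : Y) :
    td k Z (f y) ≤ td k Y y := by
  letI := Curv2.resAlgebra k Y y
  letI := Curv2.resAlgebra k Z (f y)
  let φ : Z.residueField (f y) →ₐ[k] Y.residueField y :=
    { (f.residueFieldMap y).hom with
      commutes' := fun a => residueFieldMap_resMap k f y a }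
  have h1 : Algebra.trdeg k (Z.residueField (f y)) ≤ Algebra.trdeg k (Y.residueField y) :=
    _root_.trdeg_le_of_injective φ φ.injective
  have h2 := Cardinal.toNat_le_toNat h1 (trdeg_lt_aleph0 k Y y)
  unfold td
  exact_mod_cast h2

/-- if `κ(f y) → κ(y)` is finite then `td` agrees -/
theorem td_eq_of_finite {Y Z : Scheme.{u}} [Y.Over (Spec (CommRingCat.of k))]
    [Z.Over (Spec (CommRingCat.of k))]
    (f : Y ⟶ Z) [f.IsOver (Spec (CommRingCat.of k))] (y : Y)
    (hfin : (f.residueFieldMap y).hom.Finite) :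
    td k Y y = td k Z (f y) := by
  letI := Curv2.resAlgebra k Y y
  letI := Curv2.resAlgebra k Z (f y)
  letI := (f.residueFieldMap y).hom.toAlgebra
  haveI : IsScalarTower k (Z.residueField (f y)) (Y.residueField y) :=
    IsScalarTower.of_algebraMap_eq (fun a => (residueFieldMap_resMap k f y a).symm)
  haveI : Module.Finite (Z.residueField (f y)) (Y.residueField y) := hfin
  haveI : Algebra.IsAlgebraic (Z.residueField (f y)) (Y.residueField y) :=
    Algebra.IsAlgebraic.of_finite _ _
  have h1 := _root_.trdeg_add_eq k (Z.residueField (f y)) (A := Y.residueField y)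
  rw [_root_.trdeg_eq_zero (R := Z.residueField (f y)) (A := Y.residueField y), add_zero] at h1
  unfold td
  rw [h1]

theorem dim_eq_bot_of_isEmpty (T : Type u) [TopologicalSpace T] [IsEmpty T] :
    topologicalKrullDim T = ⊥ := by
  have : IsEmpty (TopologicalSpace.IrreducibleCloseds T) := ⟨fun S => by
    obtain ⟨x, -⟩ := S.isIrreducible.nonempty
    exact isEmptyElim x⟩
  unfold topologicalKrullDim
  exact Order.krullDim_eq_bot

section main

variable {X Y : Scheme.{u}} [X.Over (Spec (CommRingCat.of k))] [Y.Over (Spec (CommRingCat.of k))]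
  [LocallyOfFiniteType (X ↘ Spec (CommRingCat.of k))]
  [LocallyOfFiniteType (Y ↘ Spec (CommRingCat.of k))]
  (f : X ⟶ Y) [f.IsOver (Spec (CommRingCat.of k))]

/-- `trdeg_{κ(f x)} κ(x) ≤ dim f⁻¹(f x)` -/
theorem td_sub_le_fibre_dim [LocallyOfFiniteType f] [QuasiCompact f] (x : X) :
    (((td k X x - td k Y (f x)).toNat : ℕ) : WithBot ℕ∞) ≤
      topologicalKrullDim ↥(f ⁻¹' {f x}) := by
  have hδ := isDimFun k X
  haveI := quasiSober_fibre f (f x)
  obtain ⟨c, hc, hxc, hcl⟩ := exists_closed_in_fibre f x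
  have hfin := finite_residueFieldMap_of_isClosed_fibre f (f x) ⟨c, hc⟩ hcl
  have htd := td_eq_of_finite k f c hfin
  rw [hc] at htd
  have := le_dim_of_convex hδ (f ⁻¹' {f x}) (fibre_convex f (f x)) x c rfl hc hxc
  rw [htd] at this
  exact this

/-- a fibre of dimension `≥ r` contains a point `x` with `trdeg_{κ(y)} κ(x) ≥ r` -/
theorem exists_td_ge_of_le_fibre_dim (y : Y) (r : ℕ)
    (hr : (r : WithBot ℕ∞) ≤ topologicalKrullDim ↥(f ⁻¹' {y})) :
    ∃ x : X, f x = y ∧ (r : ℤ) + td k Y y ≤ td k X x := by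
  by_contra hcon
  push Not at hcon
  have hδ := isDimFun k X
  haveI := quasiSober_fibre f y
  rcases (f ⁻¹' {y}).eq_empty_or_nonempty with hemp | hne
  · haveI : IsEmpty ↥(f ⁻¹' {y}) := Set.isEmpty_coe_sort.mpr hemp
    rw [dim_eq_bot_of_isEmpty] at hr
    exact absurd hr (by simp)
  · obtain ⟨x0, hx0⟩ := hne
    have hx0' : f x0 = y := hx0
    have h0 := hcon x0 hx0'
    have h00 := td_map_le k f x0
    rw [hx0'] at h00
    have hr1 : 1 ≤ r := by omega
    have h1 := dim_le_of_convex hδ (f ⁻¹' {y}) (fibre_convex f y) (td k Y y) (r - 1)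
      (fun z hz => by
        have hz' : f z = y := hz
        have h2 := td_map_le k f z
        rw [hz'] at h2
        have h3 := hcon z hz'
        refine ⟨h2, ?_⟩
        push_cast [hr1]
        omega)
    have h2 : (r : WithBot ℕ∞) ≤ ((r - 1 : ℕ) : WithBot ℕ∞) := hr.trans h1
    have h3 : r ≤ r - 1 := by exact_mod_cast h2
    omega

/-- every point gives a lower bound for the dimension -/
theorem td_le_dim (x : X) : (((td k X x).toNat : ℕ) : WithBot ℕ∞) ≤ topologicalKrullDim X := by
  have hδ := isDimFun k X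
  obtain ⟨c, -, hxc, hc⟩ := exists_closed_point k X x Set.univ isOpen_univ trivial
  have h1 := le_krullDim _ (isDimensionFunction_of_isDimFun hδ) x c hxc
  rw [td_eq_zero_of_isClosed k X c hc, sub_zero] at h1
  exact h1

theorem dim_le_of_td_le (N : ℕ) (h : ∀ x : X, td k X x ≤ N) :
    topologicalKrullDim X ≤ (N : WithBot ℕ∞) :=
  krullDim_le _ (isDimensionFunction_of_isDimFun (isDimFun k X)) (td_nonneg k X) N h

/-- on a nonempty quasi-compact scheme locally of finite type over `k` the dimension is attained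
at a maximal point -/
theorem exists_maximal_td_eq [QuasiCompact (Y ↘ Spec (CommRingCat.of k))] [Nonempty Y] :
    ∃ η : Y, (∀ y : Y, y ⤳ η → y = η) ∧
      topologicalKrullDim Y = (((td k Y η).toNat : ℕ) : WithBot ℕ∞) := by
  haveI : IsLocallyNoetherian Y := isLocallyNoetherian k Y
  haveI : CompactSpace Y :=
    QuasiCompact.compactSpace_of_compactSpace (Y ↘ Spec (CommRingCat.of k))
  haveI : IsNoetherian Y := {}
  have hδ := isDimFun k Y
  have hfin : (irreducibleComponents Y).Finite :=
    TopologicalSpace.NoetherianSpace.finite_irreducibleComponents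
  obtain ⟨y₀⟩ := ‹Nonempty Y›
  have hne : (irreducibleComponents Y).Nonempty :=
    ⟨irreducibleComponent y₀, irreducibleComponent_mem_irreducibleComponents y₀⟩
  classical
  let g : Set Y → ℤ := fun T => if h : IsIrreducible T then td k Y h.genericPoint else 0
  obtain ⟨T₀, hT₀, hmax⟩ := Set.exists_max_image _ g hfin hne
  have hT₀i : IsIrreducible T₀ := hT₀.1
  have hT₀c : IsClosed T₀ := isClosed_of_mem_irreducibleComponents T₀ hT₀
  set η := hT₀i.genericPoint with hη
  have hηT : closure ({η} : Set Y) = T₀ := by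
    have := hT₀i.genericPoint_closure_eq
    rw [hT₀c.closure_eq] at this
    exact this
  have hgT₀ : g T₀ = td k Y η := by
    simp only [g, dif_pos hT₀i, hη]
  refine ⟨η, ?_, ?_⟩
  · rw [← closure_mem_irreducibleComponents_iff, hηT]
    exact hT₀
  · apply le_antisymm
    · apply dim_le_of_td_le k
      intro y
      have hT : irreducibleComponent y ∈ irreducibleComponents Y :=
        irreducibleComponent_mem_irreducibleComponents y
      have hTi : IsIrreducible (irreducibleComponent y) := hT.1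
      have hTc : IsClosed (irreducibleComponent y) := isClosed_of_mem_irreducibleComponents _ hT
      have h1 := hmax _ hT
      rw [hgT₀] at h1
      have h2 : g (irreducibleComponent y) = td k Y hTi.genericPoint := by
        simp only [g, dif_pos hTi]
      rw [h2] at h1
      have h3 : hTi.genericPoint ⤳ y := by
        rw [specializes_iff_mem_closure]
        have := hTi.genericPoint_closure_eq
        rw [hTc.closure_eq] at this
        rw [this]
        exact mem_irreducibleComponent
      have h4 := Groth.Agent.S6462.delta_le_of_specializes hδ h3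
      have h5 := td_nonneg k Y η
      omega
    · exact td_le_dim k η

end main

end Groth.Agent.Lib.H73FibDim
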