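import Groth.Agent.Lib.IsolatedTrdeg46
import Groth.Agent.Lib.DimFormulaScheme3
import Groth.Agent.Lib.H73FibDim
import Groth.Agent.Lib.AlgSpTrdeg91

/-!
# helper46: quasi-finiteness over points of codimension at most one

* `exists_maximal_in_fibre`: a maximal generization inside the fibre (morphism locally of finite type).
* `isolatedInFibre_of_codim_le_one`: `h : U ⟶ V` locally of finite type, `V` locally Noetherian, `dim O_{V,h u} ≤ 1`, and
  all codimension `0` points of `U` whose image specializes to `h u` have algebraic residue field extension; then `u` is isolated in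
  its fibre.
-/

set_option autoImplicit false
universe u
open CategoryTheory CategoryTheory.Limits AlgebraicGeometry Topology TopologicalSpace

namespace Groth.Agent.Lib.QFCodimOne46

open Groth.Agent.Lib.AlgSpQFAt Groth.Agent.Lib.IsolatedTrdeg46

/-- A maximal generization inside the fibre. -/
theorem exists_maximal_in_fibre {U V : Scheme.{u}} (h : U ⟶ V) [LocallyOfFiniteType h] (u : ↥U) :
    ∃ u' : ↥U, u' ⤳ u ∧ h u' = h u ∧ ∀ w : ↥U, w ⤳ u' → h w = h u → w = u' := by
  have hft : LocallyOfFiniteType (h.fiberToSpecResidueField (h u)) :=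
    show LocallyOfFiniteType (pullback.snd _ _) from inferInstance
  have hLN : IsLocallyNoetherian (h.fiber (h u)) :=
    LocallyOfFiniteType.isLocallyNoetherian (h.fiberToSpecResidueField (h u))
  obtain ⟨z', hmax, hz'⟩ := Groth.Agent.Lib.H73FibDim.exists_maximal (h.asFiber u)
  have hmem : ∀ z : ↥(h.fiber (h u)), h ((h.fiberι (h u)) z) = h u := by
    intro z
    have : (h.fiberι (h u)) z ∈ Set.range (h.fiberι (h u)) := ⟨z, rfl⟩
    rw [h.range_fiberι] at this
    exact this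
  refine ⟨(h.fiberι (h u)) z', ?_, hmem z', ?_⟩
  · have := hz'.map (h.fiberι (h u)).continuous
    rwa [h.fiberι_asFiber] at this
  · intro w hw hwv
    have hwr : w ∈ Set.range (h.fiberι (h u)) := by
      rw [h.range_fiberι]; exact hwv
    obtain ⟨z'', rfl⟩ := hwr
    have : z'' ⤳ z' := (h.fiberι (h u)).isEmbedding.isInducing.specializes_iff.1 hw
    rw [hmax z'' this]

/-- Quasi-finiteness at the points over a point of codimension at most one. -/
theorem isolatedInFibre_of_codim_le_one {U V : Scheme.{u}} (h : U ⟶ V) [LocallyOfFiniteType h]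
    [IsLocallyNoetherian V] (u : ↥U) (hv : ringKrullDim ↥(V.presheaf.stalk (h u)) ≤ 1)
    (H : ∀ ξ : ↥U, ringKrullDim ↥(U.presheaf.stalk ξ) = 0 → h ξ ⤳ h u → Dual3.resTrdeg h ξ = 0) :
    IsolatedInFibre h u := by
  obtain ⟨u', hu'u, hu'v, hmax⟩ := exists_maximal_in_fibre h u
  obtain ⟨a, b, ha, hb, hineq⟩ := Groth.Agent.Lib.DimIneqScheme.stalk_ineq h
    Groth.Agent.Lib.DimFormulaScheme.dimIneq u' 0 (fun ξ hξirr hξu' => by
      have hd0 : ringKrullDim ↥(U.presheaf.stalk ξ) = 0 :=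
        (Groth.Agent.Lib.AlgSpGenericPt.ringKrullDim_stalk_eq_zero_iff ξ).2
          ((Groth.Agent.Lib.AlgSpGenericPt.exists_component_generic_iff ξ).1
            ⟨closure {ξ}, hξirr, isGenericPoint_closure⟩)
      have h1 : h ξ ⤳ h u := hu'v ▸ hξu'.map h.continuous
      exact (H ξ hd0 h1).le)
  have hineq' : (a : Cardinal.{u}) + Dual3.resTrdeg h u' ≤ b + 0 := hineq
  have hb1 : b ≤ 1 := by
    rw [hu'v] at hb
    rw [hb] at hv
    exact_mod_cast hv
  by_cases htr : Dual3.resTrdeg h u' = 0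
  · have hiso' := isolatedInFibre_of_resTrdeg_eq_zero' h u'
      (fun w hw hwv => hmax w hw (hwv.trans hu'v)) htr
    have := eq_of_isolatedInFibre_of_specializes h u' u hiso' hu'v.symm hu'u
    rw [this]; exact hiso'
  · exfalso
    have h1 : 1 ≤ Dual3.resTrdeg h u' := Cardinal.one_le_iff_ne_zero.2 htr
    have h2 : (a : Cardinal.{u}) + 1 ≤ (1 : Cardinal.{u}) := by
      calc (a : Cardinal.{u}) + 1 ≤ a + Dual3.resTrdeg h u' := by gcongr
        _ ≤ b + 0 := hineq'
        _ = b := add_zero _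
        _ ≤ 1 := by exact_mod_cast hb1
    have ha0 : a = 0 := by
      have : ((a + 1 : ℕ) : Cardinal.{u}) ≤ ((1 : ℕ) : Cardinal.{u}) := by
        push_cast; exact h2
      have := Nat.cast_le.1 this
      omega
    have hd0 : ringKrullDim ↥(U.presheaf.stalk u') = 0 := by rw [ha, ha0]; rfl
    exact htr (H u' hd0 (hu'v ▸ specializes_rfl))

open AlgSp in
/-- Quasi-finiteness of a morphism of algebraic spaces at the points over a point of codimension at most one. -/
theorem hasAtMor_qf_of_codim_le_one {S : Scheme.{u}} {X Y : AlgSp.Space S} (f : X ⟶ Y)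
    (hf : AlgSp.LocP @LocallyOfFiniteType f.hom) (hY : AlgSp.IsLocNoethSp Y.obj)
    (y : AlgSp.Points Y.obj)
    (hy : AlgSp.HasAt (fun U u => ringKrullDim ↥(U.presheaf.stalk u) ≤ 1) Y.obj y)
    (H : ∀ x : AlgSp.Points X.obj,
      AlgSp.HasAt (fun U u => ringKrullDim ↥(U.presheaf.stalk u) = 0) X.obj x →
      AlgSp.Points.map f.hom x ⤳ y →
      AlgSp.HasAtMor (fun _ _ h u => Dual3.resTrdeg h u = 0) f.hom x)
    (x : AlgSp.Points X.obj) (hx : AlgSp.Points.map f.hom x = y) :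
    AlgSp.HasAtMor (fun U _ h u => ∃ W : U.Opens, u ∈ W ∧ LocallyQuasiFinite (W.ι ≫ h) ∧
      LocallyOfFiniteType (W.ι ≫ h)) f.hom x := by
  obtain ⟨V, b, hbe, hbs, hVN⟩ := hY
  have : IsLocallyNoetherian V.left := hVN
  obtain ⟨v, hv⟩ := Groth.Agent.Lib.AlgSpQC.surjective_ofPt_of_repWith_surjective hbs y
  obtain ⟨U, a, h, u, ha, comm, rfl, hu⟩ :=
    Groth.Agent.Lib.AlgSpQFAt.exists_diagram f x b hbe v (hv.trans hx.symm)
  have : LocallyOfFiniteType h.left := hf a b h ha hbe comm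
  rw [Groth.Agent.Lib.AlgSpQFAt.hasAtMor_qf_iff_of_diagram f.hom hf a b h ha hbe comm u]
  apply isolatedInFibre_of_codim_le_one h.left u
  · obtain ⟨V', b', v', hb', hv', hd⟩ := hy
    rw [hu, ← Groth.Agent.Lib.AlgSpQFAt.ringKrullDim_stalk_eq_of_charts b' hb' b hbe v' v
      (hv'.trans hv.symm)]
    exact hd
  · intro ξ hξ0 hξv
    have h1 : AlgSp.HasAt (fun U u => ringKrullDim ↥(U.presheaf.stalk u) = 0) X.obj
        (AlgSp.Points.ofPt a ξ) := ⟨U, a, ξ, ha, rfl, hξ0⟩
    have h2 : AlgSp.Points.map f.hom (AlgSp.Points.ofPt a ξ) ⤳ y := by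
      rw [AlgSp.Points.map_ofPt, comm, Groth.Agent.Lib.AlgSpPoints.ofPt_yon_map_comp, ← hv]
      exact (hu ▸ hξv).map (AlgSp.Points.continuous_ofPt b)
    obtain ⟨U', V', a', b', h', u', ha', hb', comm', hu', htr⟩ := H _ h1 h2
    rw [Groth.Agent.Lib.AlgSpTrdeg91.resTrdeg_chart_indep f.hom a b h a' b' h' ha hbe ha' hb' comm
      comm' ξ u' hu'.symm]
    exact htr

open AlgSp in
/-- Quasi-finiteness at a point implies that the residue field extension is algebraic. -/
theorem hasAtMor_resTrdeg_of_qf {S : Scheme.{u}} {X Y : AlgSp.Sp S} (f : X ⟶ Y)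
    (hf : AlgSp.LocP @LocallyOfFiniteType f) (x : AlgSp.Points X)
    (h : AlgSp.HasAtMor (fun U _ h u => ∃ W : U.Opens, u ∈ W ∧ LocallyQuasiFinite (W.ι ≫ h) ∧
      LocallyOfFiniteType (W.ι ≫ h)) f x) :
    AlgSp.HasAtMor (fun _ _ h u => Dual3.resTrdeg h u = 0) f x := by
  obtain ⟨U, V, a, b, h, u, ha, hb, comm, hu, hQ⟩ := h
  have : LocallyOfFiniteType h.left := hf a b h ha hb comm
  exact ⟨U, V, a, b, h, u, ha, hb, comm, hu,
    resTrdeg_eq_zero_of_isolatedInFibre h.left u ((qfPred_iff h.left u).1 hQ)⟩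

/-- In a Noetherian quasi-sober space a dense open subset contains every point without proper generizations. -/
theorem mem_of_dense_of_isOpen_of_forall_specializes {α : Type*} [TopologicalSpace α]
    [NoetherianSpace α] [QuasiSober α] (ξ : α) (hξ : ∀ w : α, w ⤳ ξ → w = ξ) (D : Set α)
    (hD : IsOpen D) (hd : Dense D) : ξ ∈ D := by
  have hfin : (irreducibleComponents α).Finite := NoetherianSpace.finite_irreducibleComponents
  set 𝒞 : Set (Set α) := {C ∈ irreducibleComponents α | ξ ∉ C} with h𝒞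
  have h𝒞fin : 𝒞.Finite := hfin.subset fun C hC => hC.1
  have hF : IsClosed (⋃₀ 𝒞) := by
    rw [Set.sUnion_eq_biUnion]
    exact h𝒞fin.isClosed_biUnion fun C hC => isClosed_of_mem_irreducibleComponents C hC.1
  have hξO : ξ ∈ (⋃₀ 𝒞)ᶜ := by
    rintro ⟨C, hC, hξC⟩
    exact hC.2 hξC
  obtain ⟨w, hwD, hwO⟩ := hd.inter_open_nonempty _ hF.isOpen_compl ⟨ξ, hξO⟩
  have : w ∈ ⋃₀ irreducibleComponents α := by rw [sUnion_irreducibleComponents]; trivial
  obtain ⟨C, hC, hwC⟩ := this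
  have hξC : ξ ∈ C := by
    by_contra hξC
    exact hwD ⟨C, ⟨hC, hξC⟩, hwC⟩
  obtain ⟨η, hη⟩ := QuasiSober.sober hC.1 (isClosed_of_mem_irreducibleComponents C hC)
  have hηξ : η ⤳ ξ := by
    rw [specializes_iff_mem_closure, hη.def]; exact hξC
  have hηe : η = ξ := hξ η hηξ
  rw [hηe] at hη
  have hξw : ξ ⤳ w := by
    rw [specializes_iff_mem_closure, hη.def]; exact hwC
  exact hξw.mem_open hD hwO

/-- In a locally Noetherian scheme a dense open subset contains every point without proper generizations. -/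
theorem mem_of_dense_of_isOpen_scheme (U : Scheme.{u}) [IsLocallyNoetherian U] (ξ : ↥U)
    (hξ : ∀ w : ↥U, w ⤳ ξ → w = ξ) (D : Set ↥U) (hD : IsOpen D) (hd : Dense D) : ξ ∈ D := by
  obtain ⟨N, hN, hξN⟩ : ∃ N : U.Opens, IsAffineOpen N ∧ ξ ∈ N := by
    obtain ⟨N, hN, hξN, -⟩ := (Opens.isBasis_iff_nbhd.1 U.isBasis_affineOpens)
      (show ξ ∈ (⊤ : U.Opens) from trivial)
    exact ⟨N, hN, hξN⟩
  have : IsAffine (N : Scheme.{u}) := hN
  have hLNO : IsLocallyNoetherian (N : Scheme.{u}) := inferInstance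
  have hNO : IsNoetherian (N : Scheme.{u}) := ⟨⟩
  have hNS : NoetherianSpace ↥(N : Scheme.{u}) := inferInstance
  let ξ' : ↥(N : Scheme.{u}) := (⟨ξ, hξN⟩ : ↥N)
  have hξ'ι : N.ι ξ' = ξ := rfl
  have h1 : ξ' ∈ (⇑N.ι) ⁻¹' D :=
    mem_of_dense_of_isOpen_of_forall_specializes ξ'
      (fun w hw => by
        apply N.ι.isOpenEmbedding.injective
        rw [hξ'ι]
        exact hξ _ (hξ'ι ▸ hw.map N.ι.continuous)) _
      (hD.preimage N.ι.continuous) (hd.preimage N.ι.isOpenEmbedding.isOpenMap)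
  exact h1

open AlgSp in
/-- If the quasi-finite locus is dense and `Y` is locally Noetherian, then `f` is quasi-finite at all codimension `0`
points. -/
theorem hasAtMor_qf_of_dense {S : Scheme.{u}} {X Y : AlgSp.Space S} (f : X ⟶ Y)
    (hf : AlgSp.LocP @LocallyOfFiniteType f.hom) (hY : AlgSp.IsLocNoethSp Y.obj)
    (h : Dense {x : AlgSp.Points X.obj | AlgSp.HasAtMor (fun U _ h u => ∃ W : U.Opens, u ∈ W ∧
      LocallyQuasiFinite (W.ι ≫ h) ∧ LocallyOfFiniteType (W.ι ≫ h)) f.hom x})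
    (x : AlgSp.Points X.obj)
    (hx : AlgSp.HasAt (fun U u => ringKrullDim ↥(U.presheaf.stalk u) = 0) X.obj x) :
    AlgSp.HasAtMor (fun U _ h u => ∃ W : U.Opens, u ∈ W ∧ LocallyQuasiFinite (W.ι ≫ h) ∧
      LocallyOfFiniteType (W.ι ≫ h)) f.hom x := by
  obtain ⟨V, b, hbe, hbs, hVN⟩ := hY
  have : IsLocallyNoetherian V.left := hVN
  obtain ⟨v, hv⟩ := Groth.Agent.Lib.AlgSpQC.surjective_ofPt_of_repWith_surjective hbs
    (AlgSp.Points.map f.hom x)
  obtain ⟨U, a, g, u, ha, comm, rfl, hu⟩ := Groth.Agent.Lib.AlgSpQFAt.exists_diagram f x b hbe v hv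
  have hft : LocallyOfFiniteType g.left := hf a b g ha hbe comm
  have hULN : IsLocallyNoetherian U.left := LocallyOfFiniteType.isLocallyNoetherian g.left
  have hu0 : ringKrullDim ↥(U.left.presheaf.stalk u) = 0 :=
    (Groth.Agent.Lib.AlgSpQFAt.hasAt_dim_iff_of_chart a ha u 0).1 hx
  have hmax := (Groth.Agent.Lib.AlgSpGenericPt.ringKrullDim_stalk_eq_zero_iff u).1 hu0
  have hpre : AlgSp.Points.ofPt a ⁻¹' {x : AlgSp.Points X.obj | AlgSp.HasAtMor (fun U _ h u =>
      ∃ W : U.Opens, u ∈ W ∧ LocallyQuasiFinite (W.ι ≫ h) ∧ LocallyOfFiniteType (W.ι ≫ h)) f.hom x} =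
      {w : ↥U.left | g.left.QuasiFiniteAt w} := by
    ext w
    rw [Set.mem_preimage, Set.mem_ofPred_eq, Set.mem_ofPred_eq,
      Groth.Agent.Lib.AlgSpQFAt.hasAtMor_qf_iff_of_diagram f.hom hf a b g ha hbe comm w,
      quasiFiniteAt_iff_isolatedInFibre]
  have hdense := h.preimage (Groth.Agent.Lib.AlgSpQC.isOpenMap_ofPt_of_repWith_etale ha)
  rw [hpre] at hdense
  have hmem := mem_of_dense_of_isOpen_scheme U.left u hmax _ g.left.isOpen_quasiFiniteAt hdense
  rw [Groth.Agent.Lib.AlgSpQFAt.hasAtMor_qf_iff_of_diagram f.hom hf a b g ha hbe comm u,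
    ← quasiFiniteAt_iff_isolatedInFibre]
  exact hmem

end Groth.Agent.Lib.QFCodimOne46
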