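import Mathlib
import Groth.Agent.Lib.QFCodimOne46
import Groth.Agent.Lib.DimIneqLocal
import Groth.Agent.Lib.DimFormulaScheme2
set_option autoImplicit false
universe u

open CategoryTheory CategoryTheory.Limits AlgebraicGeometry TopologicalSpace Set

namespace Groth.Agent.Lib.QFCodimOne85

open Groth.Agent.Lib.AlgSpQFAt Groth.Agent.Lib.IsolatedTrdeg46 Groth.Agent.Lib.QFCodimOne46

/-- Stacks 0CC?-type: quasi-finiteness over a point whose local ring is Noetherian of dimension `≤ 1`,
given quasi-finiteness at the generic points of the irreducible components. -/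
theorem quasiFiniteAt_of_codim_le_one {X Y : Scheme.{u}} (f : X ⟶ Y) [LocallyOfFiniteType f]
    (x : X) [IsNoetherianRing (Y.presheaf.stalk (f x))]
    (hy : ringKrullDim (Y.presheaf.stalk (f x)) ≤ 1)
    (hgen : ∀ Z ∈ irreducibleComponents (X : Type u), ∀ η : X, IsGenericPoint η Z →
      f.QuasiFiniteAt η) : f.QuasiFiniteAt x := by
  rw [quasiFiniteAt_iff_isolatedInFibre]
  obtain ⟨u', hu'u, hu'v, hmax⟩ := exists_maximal_in_fibre f x
  have hNoeth : IsNoetherianRing (Y.presheaf.stalk (f u')) := by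
    rw [hu'v]; infer_instance
  have hE : ∀ ξ : X, closure {ξ} ∈ irreducibleComponents X → ξ ⤳ u' →
      letI := (f.residueFieldMap ξ).hom.toAlgebra
      Algebra.trdeg (Y.residueField (f ξ)) (X.residueField ξ) ≤ 0 := by
    intro ξ hξ _
    have hqf : f.QuasiFiniteAt ξ := hgen _ hξ ξ isGenericPoint_closure
    have hiso : IsolatedInFibre f ξ := (quasiFiniteAt_iff_isolatedInFibre f ξ).1 hqf
    exact (resTrdeg_eq_zero_of_isolatedInFibre f ξ hiso).le
  obtain ⟨a, b, ha, hb, hineq⟩ := Groth.Agent.Lib.DimIneqLocal.stalk_ineq_local (f := f)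
    Groth.Agent.Lib.DimFormulaScheme.dimIneq u' 0 hE
  have hineq' : (a : Cardinal.{u}) + Dual3.resTrdeg f u' ≤ b + 0 := hineq
  have hb1 : b ≤ 1 := by
    rw [hu'v] at hb
    rw [hb] at hy
    exact_mod_cast hy
  by_cases htr : Dual3.resTrdeg f u' = 0
  · have hiso' := isolatedInFibre_of_resTrdeg_eq_zero' f u'
      (fun w hw hwv => hmax w hw (hwv.trans hu'v)) htr
    have := eq_of_isolatedInFibre_of_specializes f u' x hiso' hu'v.symm hu'u
    rw [this]; exact hiso'
  · exfalso
    have h1 : 1 ≤ Dual3.resTrdeg f u' := Cardinal.one_le_iff_ne_zero.2 htr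
    have h2 : (a : Cardinal.{u}) + 1 ≤ (1 : Cardinal.{u}) := by
      calc (a : Cardinal.{u}) + 1 ≤ a + Dual3.resTrdeg f u' := by gcongr
        _ ≤ b + 0 := hineq'
        _ = b := add_zero _
        _ ≤ 1 := by exact_mod_cast hb1
    have ha0 : a = 0 := by
      have : ((a + 1 : ℕ) : Cardinal.{u}) ≤ ((1 : ℕ) : Cardinal.{u}) := by
        push_cast; exact h2
      have := Nat.cast_le.1 this
      omega
    have hd0 : ringKrullDim ↥(X.presheaf.stalk u') = 0 := by rw [ha, ha0]; rfl
    -- `u'` is then the generic point of an irreducible component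
    have hcomp : closure {u'} ∈ irreducibleComponents X := by
      obtain ⟨Z, hZ, hgenZ⟩ := (Groth.Agent.Lib.AlgSpGenericPt.exists_component_generic_iff u').2
        ((Groth.Agent.Lib.AlgSpGenericPt.ringKrullDim_stalk_eq_zero_iff u').1 hd0)
      rw [hgenZ.def] ; exact hZ
    have hqf : f.QuasiFiniteAt u' := hgen _ hcomp u' isGenericPoint_closure
    exact htr (resTrdeg_eq_zero_of_isolatedInFibre f u'
      ((quasiFiniteAt_iff_isolatedInFibre f u').1 hqf))

end Groth.Agent.Lib.QFCodimOne85
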