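import Mathlib
import Groth.Agent.Lib.QFCodimOne85
set_option autoImplicit false
universe u

open CategoryTheory CategoryTheory.Limits AlgebraicGeometry TopologicalSpace Set

namespace Groth.Agent.Lib.QFCodimOne85

open Groth.Agent.Lib.AlgSpQFAt Groth.Agent.Lib.IsolatedTrdeg46 Groth.Agent.Lib.QFCodimOne46

/-- Variant of Mathlib's `exists_isFinite_morphismRestrict_of_finite_preimage_singleton`: a proper
morphism which is quasi-finite at all points over `y` is finite over a neighbourhood of `y`. -/
theorem exists_isFinite_morphismRestrict_of_forall_quasiFiniteAt {X Y : Scheme.{u}} (f : X ⟶ Y)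
    [IsProper f] (y : Y) (h : ∀ x, f x = y → f.QuasiFiniteAt x) :
    ∃ V : Y.Opens, y ∈ V ∧ IsFinite (f ∣_ V) := by
  let V : Y.Opens := ⟨_, (f.isClosedMap _ f.quasiFiniteLocus.isOpen.isClosed_compl).isOpen_compl⟩
  refine ⟨V, ?_, ?_⟩
  · suffices ∀ x, f x = y → f.QuasiFiniteAt x by simpa [V, not_imp_not]
    exact h
  · suffices LocallyQuasiFinite (f ∣_ V) from .of_isProper_of_locallyQuasiFinite _
    rw [← Scheme.Hom.quasiFiniteLocus_eq_top_iff]
    ext x
    have : f.QuasiFiniteAt ((f ⁻¹ᵁ V).ι x) := by by_contra H; exact x.2 ⟨_, H, by simp⟩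
    rw [← Scheme.Hom.quasiFiniteAt_comp_iff_of_isOpenImmersion, ← morphismRestrict_ι,
      Scheme.Hom.quasiFiniteAt_comp_iff] at this
    simpa

/-- A proper generically finite morphism of integral schemes is finite over a neighbourhood of any
point of codimension one of a locally Noetherian target. -/
theorem exists_isFinite_morphismRestrict_of_codim_one (X Y : Scheme.{u}) [IsIntegral X]
    [IsIntegral Y] [IsLocallyNoetherian Y] (f : X ⟶ Y) [IsProper f]
    (hfin : (f.residueFieldMap (genericPoint X)).hom.Finite) (ξ : Y)
    (hξ : ringKrullDim (Y.presheaf.stalk ξ) ≤ 1) : ∃ V : Y.Opens, ξ ∈ V ∧ IsFinite (f ∣_ V) := by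
  have hgenqf : f.QuasiFiniteAt (genericPoint X) := by
    rw [quasiFiniteAt_iff_isolatedInFibre]
    refine isolatedInFibre_of_resTrdeg_eq_zero f (genericPoint X) ?_ ?_
    · intro u' hu'
      exact (((genericPoint_spec X).specializes (Set.mem_univ u')).antisymm hu').eq.symm
    · change (letI := (f.residueFieldMap (genericPoint X)).hom.toAlgebra
        Algebra.trdeg (Y.residueField (f (genericPoint X))) (X.residueField (genericPoint X))) = 0
      let _ := (f.residueFieldMap (genericPoint X)).hom.toAlgebra
      have : Module.Finite (Y.residueField (f (genericPoint X)))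
          (X.residueField (genericPoint X)) := hfin
      have : Algebra.IsAlgebraic (Y.residueField (f (genericPoint X)))
          (X.residueField (genericPoint X)) := Algebra.IsAlgebraic.of_finite _ _
      exact trdeg_eq_zero
  refine exists_isFinite_morphismRestrict_of_forall_quasiFiniteAt f ξ ?_
  rintro x rfl
  refine quasiFiniteAt_of_codim_le_one f x hξ ?_
  intro Z hZ η hη
  have hZuniv : Z = Set.univ := by
    have : irreducibleComponents X = {Set.univ} := irreducibleComponents_eq_singleton
    rw [this] at hZ
    exact hZ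
  have : η = genericPoint X := by
    subst hZuniv
    exact (hη.eq (genericPoint_spec X))
  rw [this]
  exact hgenqf

end Groth.Agent.Lib.QFCodimOne85
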