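import Mathlib
import Groth.Agent.Lib.CycNorm85e
import Groth.Agent.Lib.H80NearFibre
import Groth.Agent.S1867
import Groth.Agent.S1923
set_option autoImplicit false
set_option linter.style.haveILetI false
set_option linter.unusedSectionVars false
set_option linter.unusedVariables false
universe u

open AlgebraicGeometry CategoryTheory Cyc IsLocalRing TopologicalSpace

namespace Groth.Agent.Lib.CycPush85

variable {X Y : Scheme.{u}}

/-- the order of `f ∈ κ(ξ)` computed on the stalk `O_{X,x}` (rather than on `O_{X,x}/𝔭_ξ`);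
agrees with `Cyc.ordAt` when `O_{X,x} → κ(ξ)` is injective -/
noncomputable def ordStalk (x ξ : X) (h : ξ ⤳ x) (f : X.residueField ξ) : ℤ :=
  letI := (specMap x ξ h).toAlgebra
  CycAlg.ordFrac (X.presheaf.stalk x) (X.residueField ξ) f

theorem ordAt_eq_ordStalk (x ξ : X) (h : ξ ⤳ x) (hinj : Function.Injective (specMap x ξ h))
    (f : X.residueField ξ) : ordAt x ξ h f = ordStalk x ξ h f := by
  have hker : RingHom.ker (specMap x ξ h) = ⊥ := (RingHom.injective_iff_ker_eq_bot _).mp hinj
  let e : X.presheaf.stalk x ≃+* LocQuot x ξ h :=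
    RingEquiv.ofBijective (Ideal.Quotient.mk (RingHom.ker (specMap x ξ h)))
      ⟨by
        rw [RingHom.injective_iff_ker_eq_bot, Ideal.mk_ker, hker],
       Ideal.Quotient.mk_surjective⟩
  unfold ordAt ordStalk
  letI := (specMap x ξ h).toAlgebra
  symm
  exact Groth.Agent.Lib.CycNorm85.ordFrac_congr' e (RingEquiv.refl _) (fun r => rfl) f

/-- the map `O_{Y,y} → O_{X,x}` for a point `x` of the fibre over `y` -/
noncomputable def fibreStalkMap (p : X ⟶ Y) (x : X) (y : Y) (hx : p x = y) :
    Y.presheaf.stalk y →+* X.presheaf.stalk x :=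
  (Y.presheaf.stalkSpecializes (specializes_of_eq hx) ≫ p.stalkMap x).hom

theorem isLocalHom_fibreStalkMap (p : X ⟶ Y) (x : X) (y : Y) (hx : p x = y) :
    IsLocalHom (fibreStalkMap p x y hx) := by
  subst hx
  unfold fibreStalkMap
  rw [TopCat.Presheaf.stalkSpecializes_refl, Category.id_comp]
  infer_instance

theorem finrank_eq_of_eq {R S : Type u} [CommRing R] [CommRing S] [IsLocalRing R] [IsLocalRing S]
    (φ ψ : R →+* S) (hφ : IsLocalHom φ) (hψ : IsLocalHom ψ) (h : φ = ψ) :
    (letI := φ.toAlgebra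
     haveI : IsLocalHom (algebraMap R S) := hφ
     Module.finrank (ResidueField R) (ResidueField S)) =
    (letI := ψ.toAlgebra
     haveI : IsLocalHom (algebraMap R S) := hψ
     Module.finrank (ResidueField R) (ResidueField S)) := by
  subst h
  rfl

theorem finrank_eq_of_algebraMap_eq {K L : Type u} [Field K] [Field L] (P Q : Algebra K L)
    (h : ∀ r, @algebraMap K L _ _ P r = @algebraMap K L _ _ Q r) :
    @Module.finrank K L _ _ P.toModule = @Module.finrank K L _ _ Q.toModule := by
  have : P = Q := Algebra.algebra_ext P Q h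
  subst this
  rfl

theorem finrank_fibreStalkMap (p : X ⟶ Y) (x : X) (y : Y) (hx : p x = y) :
    (letI := (fibreStalkMap p x y hx).toAlgebra
     haveI : IsLocalHom (algebraMap (Y.presheaf.stalk y) (X.presheaf.stalk x)) :=
       isLocalHom_fibreStalkMap p x y hx
     Module.finrank (ResidueField (Y.presheaf.stalk y)) (ResidueField (X.presheaf.stalk x))) =
    p.residueDegree x := by
  subst hx
  have h : fibreStalkMap p x (p x) rfl = (p.stalkMap x).hom := by
    unfold fibreStalkMap
    rw [TopCat.Presheaf.stalkSpecializes_refl, Category.id_comp]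
  rw [finrank_eq_of_eq _ _ (isLocalHom_fibreStalkMap p x (p x) rfl) inferInstance h]
  unfold Scheme.Hom.residueDegree
  refine finrank_eq_of_algebraMap_eq _ _ ?_
  intro r
  obtain ⟨a, rfl⟩ := IsLocalRing.residue_surjective r
  rfl

theorem isFractionRing_evaluation [IsIntegral X] (U : X.Opens) (hU : IsAffineOpen U) (ξ : X)
    (hξ : ξ = genericPoint X) (hξU : ξ ∈ U) :
    letI := (X.evaluation U ξ hξU).hom.toAlgebra
    IsFractionRing Γ(X, U) (X.residueField ξ) := by
  subst hξ
  haveI : Nonempty U := ⟨⟨_, hξU⟩⟩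
  haveI h := functionField_isFractionRing_of_isAffineOpen X U hU
  letI := (X.evaluation U (genericPoint X) hξU).hom.toAlgebra
  have hρinj : Function.Injective (X.residue (genericPoint X)).hom :=
    RingHom.injective (f := (X.residue (genericPoint X)).hom)
  have hcomp : ∀ a : Γ(X, U), algebraMap Γ(X, U) (X.residueField (genericPoint X)) a =
      (X.residue (genericPoint X)).hom (algebraMap Γ(X, U) X.functionField a) := fun a => rfl
  have hinj : Function.Injective (algebraMap Γ(X, U) (X.residueField (genericPoint X))) := by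
    intro a b hab
    rw [hcomp, hcomp] at hab
    exact IsFractionRing.injective Γ(X, U) X.functionField (hρinj hab)
  haveI : FaithfulSMul Γ(X, U) (X.residueField (genericPoint X)) :=
    (faithfulSMul_iff_algebraMap_injective _ _).mpr hinj
  apply IsFractionRing.of_field
  intro z
  obtain ⟨z', rfl⟩ := X.residue_surjective (genericPoint X) z
  obtain ⟨a, b, hb, rfl⟩ := IsFractionRing.div_surjective (A := Γ(X, U)) z'
  refine ⟨a, b, ?_⟩
  rw [hcomp, hcomp]
  exact map_div₀ (X.residue (genericPoint X)).hom _ _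

section fibre

variable (p : X ⟶ Y) (V : Y.Opens) (hV : IsAffineOpen V) (hU : IsAffineOpen (p ⁻¹ᵁ V))
  (y : Y) (hy : y ∈ V)

theorem primeIdealOf_injective {Z : Scheme.{u}} {U : Z.Opens} (hU : IsAffineOpen U) :
    Function.Injective hU.primeIdealOf := by
  intro a b hab
  have h1 := hU.fromSpec_primeIdealOf a
  have h2 := hU.fromSpec_primeIdealOf b
  rw [hab] at h1
  exact Subtype.ext (h1.symm.trans h2)

theorem primeIdealOf_fromSpec {Z : Scheme.{u}} {U : Z.Opens} (hU : IsAffineOpen U)
    (P : PrimeSpectrum Γ(Z, U)) (hP : hU.fromSpec P ∈ U) :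
    hU.primeIdealOf ⟨hU.fromSpec P, hP⟩ = P := by
  unfold IsAffineOpen.primeIdealOf
  have h1 : (⟨hU.fromSpec P, hP⟩ : U) = hU.isoSpec.inv P := by
    apply Subtype.ext
    rfl
  rw [h1, ← Scheme.Hom.comp_apply, Iso.inv_hom_id]
  rfl

theorem comap_primeIdealOf_app (x : X) (hx : p x ∈ V) :
    Ideal.comap (p.app V).hom (hU.primeIdealOf ⟨x, hx⟩).asIdeal =
      (hV.primeIdealOf ⟨p x, hx⟩).asIdeal := by
  have := IsAffineOpen.comap_primeIdealOf_appLE (f := p) V hV (p ⁻¹ᵁ V) hU le_rfl hx
  rw [Scheme.Hom.appLE_eq_app] at this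
  exact congrArg PrimeSpectrum.asIdeal this

/-- points of the fibre over `y` correspond to primes of `Γ(X, p⁻¹V)` over the prime of `y` -/
noncomputable def fibreToPrimes :
    letI := (p.app V).hom.toAlgebra
    {x : X // p x = y} → (hV.primeIdealOf ⟨y, hy⟩).asIdeal.primesOver Γ(X, p ⁻¹ᵁ V) :=
  letI := (p.app V).hom.toAlgebra
  fun x => ⟨(hU.primeIdealOf ⟨x.1, show p x.1 ∈ V from x.2.symm ▸ hy⟩).asIdeal,
    (hU.primeIdealOf _).isPrime,
    ⟨by
      have h1 := comap_primeIdealOf_app p V hV hU x.1 (x.2.symm ▸ hy)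
      have h2 : (⟨p x.1, x.2.symm ▸ hy⟩ : V) = ⟨y, hy⟩ := Subtype.ext x.2
      rw [h2] at h1
      exact h1.symm⟩⟩

theorem fibreToPrimes_bijective :
    Function.Bijective (fibreToPrimes p V hV hU y hy) := by
  letI := (p.app V).hom.toAlgebra
  constructor
  · intro a b hab
    have h1 : (hU.primeIdealOf ⟨a.1, show p a.1 ∈ V from a.2.symm ▸ hy⟩).asIdeal =
        (hU.primeIdealOf ⟨b.1, show p b.1 ∈ V from b.2.symm ▸ hy⟩).asIdeal :=
      congrArg Subtype.val hab
    have h2 := primeIdealOf_injective hU (PrimeSpectrum.ext h1)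
    exact Subtype.ext (congrArg (fun t : (p ⁻¹ᵁ V : X.Opens) => (t : X)) h2)
  · rintro ⟨P, hP, hPq⟩
    have hmem : hU.fromSpec ⟨P, hP⟩ ∈ p ⁻¹ᵁ V := by
      rw [← SetLike.mem_coe, ← hU.range_fromSpec]
      exact Set.mem_range_self _
    have hPO := primeIdealOf_fromSpec hU ⟨P, hP⟩ hmem
    have hpx : p (hU.fromSpec ⟨P, hP⟩) = y := by
      have h1 := comap_primeIdealOf_app p V hV hU (hU.fromSpec ⟨P, hP⟩) hmem
      rw [hPO] at h1
      have h2 : (hV.primeIdealOf ⟨p (hU.fromSpec ⟨P, hP⟩), hmem⟩) = hV.primeIdealOf ⟨y, hy⟩ := by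
        apply PrimeSpectrum.ext
        rw [← h1]
        exact hPq.over.symm
      exact congrArg Subtype.val (primeIdealOf_injective hV h2)
    refine ⟨⟨hU.fromSpec ⟨P, hP⟩, hpx⟩, ?_⟩
    apply Subtype.ext
    exact congrArg PrimeSpectrum.asIdeal hPO

end fibre

end Groth.Agent.Lib.CycPush85
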