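import Mathlib
import Groth.Agent.Lib.CycPush85a
set_option autoImplicit false
set_option linter.style.haveILetI false
set_option linter.unusedSectionVars false
set_option linter.unusedVariables false
universe u

open AlgebraicGeometry CategoryTheory Cyc IsLocalRing TopologicalSpace

namespace Groth.Agent.Lib.CycPush85

variable {X Y : Scheme.{u}}

theorem app_injective_of_dominant [IsIntegral X] [IsIntegral Y] (p : X ⟶ Y)
    (hdom : p (genericPoint X) = genericPoint Y) (V : Y.Opens) (hηV : p (genericPoint X) ∈ V) :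
    Function.Injective (p.app V).hom := by
  intro a b hab
  have h1 : X.evaluation (p ⁻¹ᵁ V) (genericPoint X) hηV (p.app V a) =
      X.evaluation (p ⁻¹ᵁ V) (genericPoint X) hηV (p.app V b) := by
    change X.evaluation (p ⁻¹ᵁ V) (genericPoint X) hηV ((p.app V).hom a) =
      X.evaluation (p ⁻¹ᵁ V) (genericPoint X) hηV ((p.app V).hom b)
    rw [hab]
  rw [← Scheme.evaluation_naturality_apply, ← Scheme.evaluation_naturality_apply] at h1
  have h2 := (p.residueFieldMap (genericPoint X)).hom.injective h1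
  -- evaluation at the generic point of `Y` is injective
  have h3 : ∀ (ξ : Y) (hξ : ξ = genericPoint Y) (hξV : ξ ∈ V),
      Function.Injective (Y.evaluation V ξ hξV) := by
    intro ξ hξ hξV
    subst hξ
    intro c d hcd
    have h4 : (Y.residue (genericPoint Y)).hom (Y.presheaf.germ V (genericPoint Y) hξV c) =
        (Y.residue (genericPoint Y)).hom (Y.presheaf.germ V (genericPoint Y) hξV d) := hcd
    have h5 := RingHom.injective (f := (Y.residue (genericPoint Y)).hom) h4
    exact germ_injective_of_isIntegral Y (genericPoint Y) hξV h5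
  exact h3 _ hdom hηV h2

theorem fibreStalkMap_germ (p : X ⟶ Y) (V : Y.Opens) (x : X) (y : Y) (hx : p x = y) (hy : y ∈ V)
    (a : Γ(Y, V)) :
    fibreStalkMap p x y hx (Y.presheaf.germ V y hy a) =
      X.presheaf.germ (p ⁻¹ᵁ V) x (show p x ∈ V from hx.symm ▸ hy) (p.app V a) := by
  subst hx
  unfold fibreStalkMap
  rw [TopCat.Presheaf.stalkSpecializes_refl, Category.id_comp]
  exact Scheme.Hom.germ_stalkMap_apply p V x hy a

theorem specMap_germ (x ξ : X) (h : ξ ⤳ x) (U : X.Opens) (hx : x ∈ U) (a : Γ(X, U)) :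
    specMap x ξ h (X.presheaf.germ U x hx a) = X.evaluation U ξ (h.mem_open U.2 hx) a := by
  unfold specMap
  change (X.residue ξ).hom ((X.presheaf.stalkSpecializes h).hom (X.presheaf.germ U x hx a)) = _
  have := TopCat.Presheaf.germ_stalkSpecializes_apply X.presheaf hx h a
  erw [this]
  rfl

theorem ordStalk_norm_eq_finsum_of_affine [IsIntegral X] [IsIntegral Y] [IsLocallyNoetherian Y]
    (p : X ⟶ Y) (hdom : p (genericPoint X) = genericPoint Y)
    (hfin : (p.residueFieldMap (genericPoint X)).hom.Finite)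
    (V : Y.Opens) (hV : IsAffineOpen V) (hU : IsAffineOpen (p ⁻¹ᵁ V))
    (hfinapp : (p.app V).hom.Finite)
    (y : Y) (hyV : y ∈ V) (hdim : ringKrullDim (Y.presheaf.stalk y) ≤ 1)
    (hspec : p (genericPoint X) ⤳ y) (f : X.residueField (genericPoint X)) (hf : f ≠ 0) :
    ordStalk y (p (genericPoint X)) hspec (normGen p (genericPoint X) f) =
      ∑ᶠ x : {x : X // p x = y}, (p.residueDegree x.1 : ℤ) *
        ordStalk x.1 (genericPoint X) (genericPoint_specializes x.1) f := by
  classical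
  have hηV : p (genericPoint X) ∈ V := hspec.mem_open V.2 hyV
  have hηU : genericPoint X ∈ p ⁻¹ᵁ V := hηV
  haveI : Nonempty V := ⟨⟨y, hyV⟩⟩
  haveI : Nonempty (p ⁻¹ᵁ V : X.Opens) := ⟨⟨_, hηU⟩⟩
  letI algAB : Algebra Γ(Y, V) Γ(X, p ⁻¹ᵁ V) := (p.app V).hom.toAlgebra
  haveI : Module.Finite Γ(Y, V) Γ(X, p ⁻¹ᵁ V) := hfinapp
  haveI : FaithfulSMul Γ(Y, V) Γ(X, p ⁻¹ᵁ V) :=
    (faithfulSMul_iff_algebraMap_injective _ _).mpr (app_injective_of_dominant p hdom V hηV)
  haveI : IsNoetherianRing Γ(Y, V) := IsLocallyNoetherian.component_noetherian ⟨V, hV⟩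
  let q := (hV.primeIdealOf ⟨y, hyV⟩).asIdeal
  haveI : q.IsPrime := (hV.primeIdealOf ⟨y, hyV⟩).isPrime
  letI algAR : Algebra Γ(Y, V) (Y.presheaf.stalk y) :=
    Y.presheaf.algebra_section_stalk ⟨y, hyV⟩
  haveI : IsLocalization.AtPrime (Y.presheaf.stalk y) q := hV.isLocalization_stalk ⟨y, hyV⟩
  haveI : Ring.KrullDimLE 1 (Y.presheaf.stalk y) := Ring.krullDimLE_iff.mpr hdim
  letI algAK : Algebra Γ(Y, V) (Y.residueField (p (genericPoint X))) :=
    (Y.evaluation V (p (genericPoint X)) hηV).hom.toAlgebra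
  haveI : IsFractionRing Γ(Y, V) (Y.residueField (p (genericPoint X))) :=
    isFractionRing_evaluation V hV (p (genericPoint X)) hdom hηV
  letI algRK : Algebra (Y.presheaf.stalk y) (Y.residueField (p (genericPoint X))) :=
    (specMap y (p (genericPoint X)) hspec).toAlgebra
  haveI : IsScalarTower Γ(Y, V) (Y.presheaf.stalk y) (Y.residueField (p (genericPoint X))) :=
    IsScalarTower.of_algebraMap_eq (fun a => (specMap_germ y _ hspec V hyV a).symm)
  letI algBL : Algebra Γ(X, p ⁻¹ᵁ V) (X.residueField (genericPoint X)) :=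
    (X.evaluation (p ⁻¹ᵁ V) (genericPoint X) hηU).hom.toAlgebra
  haveI : IsFractionRing Γ(X, p ⁻¹ᵁ V) (X.residueField (genericPoint X)) :=
    isFractionRing_evaluation (p ⁻¹ᵁ V) hU (genericPoint X) rfl hηU
  letI algKL : Algebra (Y.residueField (p (genericPoint X))) (X.residueField (genericPoint X)) :=
    (p.residueFieldMap (genericPoint X)).hom.toAlgebra
  letI algAL : Algebra Γ(Y, V) (X.residueField (genericPoint X)) :=
    ((algebraMap Γ(X, p ⁻¹ᵁ V) (X.residueField (genericPoint X))).comp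
      (algebraMap Γ(Y, V) Γ(X, p ⁻¹ᵁ V))).toAlgebra
  haveI : IsScalarTower Γ(Y, V) Γ(X, p ⁻¹ᵁ V) (X.residueField (genericPoint X)) :=
    IsScalarTower.of_algebraMap_eq (fun _ => rfl)
  haveI : IsScalarTower Γ(Y, V) (Y.residueField (p (genericPoint X)))
      (X.residueField (genericPoint X)) :=
    IsScalarTower.of_algebraMap_eq (fun a =>
      (Scheme.evaluation_naturality_apply p (genericPoint X) hηV a).symm)
  haveI : FiniteDimensional (Y.residueField (p (genericPoint X)))
      (X.residueField (genericPoint X)) := hfin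
  let e : {x : X // p x = y} ≃ q.primesOver Γ(X, p ⁻¹ᵁ V) :=
    Equiv.ofBijective _ (fibreToPrimes_bijective p V hV hU y hyV)
  have hxU : ∀ x : {x : X // p x = y}, x.1 ∈ p ⁻¹ᵁ V := fun x =>
    show p x.1 ∈ V from x.2.symm ▸ hyV
  letI algBC : ∀ x : {x : X // p x = y}, Algebra Γ(X, p ⁻¹ᵁ V) (X.presheaf.stalk x.1) :=
    fun x => X.presheaf.algebra_section_stalk ⟨x.1, hxU x⟩
  letI algCL : ∀ x : {x : X // p x = y},
      Algebra (X.presheaf.stalk x.1) (X.residueField (genericPoint X)) :=
    fun x => (specMap x.1 (genericPoint X) (genericPoint_specializes x.1)).toAlgebra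
  haveI : ∀ x : {x : X // p x = y}, IsScalarTower Γ(X, p ⁻¹ᵁ V) (X.presheaf.stalk x.1)
      (X.residueField (genericPoint X)) := fun x =>
    IsScalarTower.of_algebraMap_eq (fun b =>
      (specMap_germ x.1 _ (genericPoint_specializes x.1) (p ⁻¹ᵁ V) (hxU x) b).symm)
  letI algRC : ∀ x : {x : X // p x = y},
      Algebra (Y.presheaf.stalk y) (X.presheaf.stalk x.1) :=
    fun x => (fibreStalkMap p x.1 y x.2).toAlgebra
  letI algAC : ∀ x : {x : X // p x = y}, Algebra Γ(Y, V) (X.presheaf.stalk x.1) :=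
    fun x => ((algebraMap Γ(X, p ⁻¹ᵁ V) (X.presheaf.stalk x.1)).comp
      (algebraMap Γ(Y, V) Γ(X, p ⁻¹ᵁ V))).toAlgebra
  haveI : ∀ x : {x : X // p x = y},
      IsScalarTower Γ(Y, V) Γ(X, p ⁻¹ᵁ V) (X.presheaf.stalk x.1) := fun x =>
    IsScalarTower.of_algebraMap_eq (fun _ => rfl)
  haveI : ∀ x : {x : X // p x = y},
      IsScalarTower Γ(Y, V) (Y.presheaf.stalk y) (X.presheaf.stalk x.1) := fun x =>
    IsScalarTower.of_algebraMap_eq (fun a => (fibreStalkMap_germ p V x.1 y x.2 hyV a).symm)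
  haveI : ∀ x : {x : X // p x = y},
      IsLocalHom (algebraMap (Y.presheaf.stalk y) (X.presheaf.stalk x.1)) := fun x =>
    isLocalHom_fibreStalkMap p x.1 y x.2
  have hloc : ∀ x : {x : X // p x = y},
      @IsLocalization.AtPrime Γ(X, p ⁻¹ᵁ V) _ (X.presheaf.stalk x.1) _ _ (e x).1 (e x).2.1 :=
    fun x => hU.isLocalization_stalk ⟨x.1, hxU x⟩
  have key := Groth.Agent.Lib.CycNorm85.ordFrac_norm_eq_finsum_of_equiv q (Y.presheaf.stalk y)
    (Y.residueField (p (genericPoint X))) (X.residueField (genericPoint X)) e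
    (fun x : {x : X // p x = y} => X.presheaf.stalk x.1) hloc f hf
  change CycAlg.ordFrac (Y.presheaf.stalk y) (Y.residueField (p (genericPoint X)))
    (Algebra.norm (Y.residueField (p (genericPoint X))) f) = _
  rw [key]
  refine finsum_congr fun x => ?_
  congr 1
  exact congrArg (Nat.cast (R := ℤ)) (finrank_fibreStalkMap p x.1 y x.2)

/-- **Norm formula for a proper, generically finite, dominant morphism of integral schemes at a
point of codimension one** (no dimension functions involved). -/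
theorem ordStalk_norm_eq_finsum [IsIntegral X] [IsIntegral Y] [IsLocallyNoetherian Y]
    (p : X ⟶ Y) [IsProper p] (hdom : p (genericPoint X) = genericPoint Y)
    (hfin : (p.residueFieldMap (genericPoint X)).hom.Finite)
    (y : Y) (hdim : ringKrullDim (Y.presheaf.stalk y) = 1)
    (hspec : p (genericPoint X) ⤳ y) (f : X.residueField (genericPoint X)) (hf : f ≠ 0) :
    ordStalk y (p (genericPoint X)) hspec (normGen p (genericPoint X) f) =
      ∑ᶠ x : {x : X // p x = y}, (p.residueDegree x.1 : ℤ) *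
        ordStalk x.1 (genericPoint X) (genericPoint_specializes x.1) f := by
  obtain ⟨V₀, hyV₀, hfinV₀⟩ := Groth.Agent.S1867.result X Y p hdom hfin y hdim
  obtain ⟨_, ⟨V, hV, rfl⟩, hyV, hVV₀⟩ :=
    Y.isBasis_affineOpens.exists_subset_of_mem_open hyV₀ V₀.2
  have hfinV : IsFinite (p ∣_ V) :=
    Groth.Agent.Lib.H80NearFibre.morphismRestrict_of_le (P := @IsFinite) p hVV₀ hfinV₀
  obtain ⟨hU, hfinapp⟩ :=
    (Groth.Agent.Lib.H80NearFibre.isFinite_morphismRestrict_iff p hV).mp hfinV
  exact ordStalk_norm_eq_finsum_of_affine p hdom hfin V hV hU hfinapp y hyV hdim.le hspec f hf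

end Groth.Agent.Lib.CycPush85
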