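import Mathlib
import Groth.Agent.Lib.CycPush85b
import Groth.Agent.S6459
set_option autoImplicit false
set_option linter.style.haveILetI false
set_option linter.unusedSectionVars false
set_option linter.unusedVariables false
universe u

open AlgebraicGeometry CategoryTheory Cyc IsLocalRing TopologicalSpace

namespace Groth.Agent.Lib.CycPush85

variable {X Y : Scheme.{u}}

/-- dimension bookkeeping for the proper pushforward of a principal divisor: it suffices to
prove the norm formula at points `y` of codimension one in the closure of `p ξ`. -/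
theorem finsum_fibre_eq_divFun (δX : X → ℤ) (δY : Y → ℤ) (hXd : IsDimFun X δX)
    (p : X ⟶ Y) (hδ : DeltaCompat p δX δY) (ξ : X) (hn : δX ξ = δY (p ξ))
    (f : X.residueField ξ) (g : Y.residueField (p ξ)) (y : Y)
    (H : ∀ (h : p ξ ⤳ y), δY y + 1 = δY (p ξ) →
      ordAt y (p ξ) h g = ∑ᶠ x : {x : X // p x = y ∧ ξ ⤳ x},
        ordAt x.1 ξ x.2.2 f * (p.residueDegree x.1 : ℤ)) :
    ∑ᶠ x ∈ p ⁻¹' {y}, divFun δX ξ f x * ((AlgebraicCycle.mapCoeff p δX δY x : ℕ) : ℤ) =
      divFun δY (p ξ) g y := by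
  classical
  have hge : ∀ x : X, δY (p x) ≤ δX x := by
    intro x
    obtain ⟨n, -, hn⟩ := hδ x
    omega
  by_cases hc : p ξ ⤳ y ∧ δY y + 1 = δY (p ξ)
  · have hR : divFun δY (p ξ) g y = ordAt y (p ξ) hc.1 g := by
      unfold divFun
      rw [dif_pos hc]
    rw [hR, H hc.1 hc.2]
    have hterm : ∀ x : X, p x = y → ∀ hx : ξ ⤳ x,
        divFun δX ξ f x * ((AlgebraicCycle.mapCoeff p δX δY x : ℕ) : ℤ) =
          ordAt x ξ hx f * (p.residueDegree x : ℤ) := by
      intro x hpx hx
      have hne : ξ ≠ x := by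
        rintro rfl
        rw [hpx] at hc
        omega
      have h1 := (hXd ξ x hx hne).1
      have h2 := hge x
      rw [hpx] at h2
      have h3 : δX x + 1 = δX ξ := by omega
      have h4 : δX x = δY (p x) := by rw [hpx]; omega
      unfold divFun AlgebraicCycle.mapCoeff
      rw [dif_pos ⟨hx, h3⟩, if_pos h4]
    have hterm0 : ∀ x : X, ¬ ξ ⤳ x →
        divFun δX ξ f x * ((AlgebraicCycle.mapCoeff p δX δY x : ℕ) : ℤ) = 0 := by
      intro x hx
      unfold divFun
      rw [dif_neg (fun h => hx h.1), zero_mul]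
    have hsub : ∑ᶠ x : {x : X // p x = y ∧ ξ ⤳ x}, ordAt x.1 ξ x.2.2 f * (p.residueDegree x.1 : ℤ) =
        ∑ᶠ (x : X) (_ : p x = y ∧ ξ ⤳ x),
          (if hx : ξ ⤳ x then ordAt x ξ hx f * (p.residueDegree x : ℤ) else 0) := by
      rw [← finsum_subtype_eq_finsum_cond
        (f := fun x => if hx : ξ ⤳ x then ordAt x ξ hx f * (p.residueDegree x : ℤ) else 0)
        (fun x => p x = y ∧ ξ ⤳ x)]
      refine finsum_congr fun x => ?_
      rw [dif_pos x.2.2]
    rw [hsub]
    refine finsum_congr fun x => ?_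
    rw [finsum_eq_if, finsum_eq_if]
    by_cases hpx : p x = y
    · by_cases hx : ξ ⤳ x
      · rw [if_pos (show x ∈ p ⁻¹' {y} from hpx), if_pos ⟨hpx, hx⟩, dif_pos hx, hterm x hpx hx]
      · rw [if_pos (show x ∈ p ⁻¹' {y} from hpx), if_neg (fun h => hx h.2), hterm0 x hx]
    · rw [if_neg (show ¬ x ∈ p ⁻¹' {y} from hpx), if_neg (fun h => hpx h.1)]
  · have hR : divFun δY (p ξ) g y = 0 := by
      unfold divFun
      rw [dif_neg hc]
    rw [hR]
    refine finsum_mem_eq_zero_of_forall_eq_zero ?_
    intro x hpx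
    have hpx' : p x = y := hpx
    by_contra hne
    apply hc
    have h1 : divFun δX ξ f x ≠ 0 := fun h0 => hne (by rw [h0, zero_mul])
    have h2 : AlgebraicCycle.mapCoeff p δX δY x ≠ 0 := fun h0 => hne (by rw [h0]; simp)
    unfold divFun at h1
    unfold AlgebraicCycle.mapCoeff at h2
    have h3 : ξ ⤳ x ∧ δX x + 1 = δX ξ := by
      by_contra h
      exact h1 (dif_neg h)
    have h4 : δX x = δY (p x) := by
      by_contra h
      exact h2 (if_neg h)
    refine ⟨?_, ?_⟩
    · rw [← hpx']
      exact h3.1.map p.continuous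
    · rw [← hpx']
      omega

theorem specMap_injective_of_eq [IsIntegral Y] (ξ : Y) (hξ : ξ = genericPoint Y) (y : Y)
    (h : ξ ⤳ y) : Function.Injective (specMap y ξ h) := by
  subst hξ
  exact Groth.Agent.S1923.specMap_injective Y y h

theorem finite_residueFieldMap_of_trdeg_zero (p : X ⟶ Y) [LocallyOfFiniteType p] (x : X)
    (h : (letI := (p.residueFieldMap x).hom.toAlgebra
      Algebra.trdeg (Y.residueField (p x)) (X.residueField x)) = 0) :
    (p.residueFieldMap x).hom.Finite := by
  letI := (p.residueFieldMap x).hom.toAlgebra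
  haveI ess : Algebra.EssFiniteType (Y.residueField (p x)) (X.residueField x) :=
    (LocallyOfFiniteType.stalkMap p x).residueFieldMap
  haveI : Algebra.IsAlgebraic (Y.residueField (p x)) (X.residueField x) :=
    _root_.trdeg_eq_zero_iff.mp h
  exact Algebra.finite_of_essFiniteType_of_isAlgebraic

theorem finite_residueFieldMap_of_deltaCompat (δX : X → ℤ) (δY : Y → ℤ) (p : X ⟶ Y)
    [LocallyOfFiniteType p] (hδ : DeltaCompat p δX δY) (x : X) (hn : δX x = δY (p x)) :
    (p.residueFieldMap x).hom.Finite := by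
  obtain ⟨n, h1, h2⟩ := hδ x
  have hn0 : n = 0 := by omega
  subst hn0
  exact finite_residueFieldMap_of_trdeg_zero p x (by rw [h1]; simp)

/-- **Proper pushforward of a principal divisor, integral case** (Stacks 02RT-type statement). -/
theorem map_divFun_integral [IsIntegral X] [IsIntegral Y] (δX : X → ℤ) (δY : Y → ℤ)
    (hX : IsSetup X δX) (hY : IsSetup Y δY) (p : X ⟶ Y) [IsProper p]
    (hδ : DeltaCompat p δX δY) (hdom : p (genericPoint X) = genericPoint Y)
    (hn : δX (genericPoint X) = δY (genericPoint Y)) (f : X.residueField (genericPoint X))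
    (hf : f ≠ 0) (y : Y) :
    ∑ᶠ x ∈ p ⁻¹' {y}, divFun δX (genericPoint X) f x *
        ((AlgebraicCycle.mapCoeff p δX δY x : ℕ) : ℤ) =
      divFun δY (p (genericPoint X)) (normGen p (genericPoint X) f) y := by
  have hn' : δX (genericPoint X) = δY (p (genericPoint X)) := by rw [hn, hdom]
  refine finsum_fibre_eq_divFun δX δY hX.2.2 p hδ (genericPoint X) hn' f _ y ?_
  intro h hcodim
  have hfin : (p.residueFieldMap (genericPoint X)).hom.Finite :=
    finite_residueFieldMap_of_deltaCompat δX δY p hδ _ hn'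
  haveI : IsLocallyNoetherian Y := hY.1
  have hdim : ringKrullDim (Y.presheaf.stalk y) = 1 :=
    (Groth.Agent.S6459.result Y δY hY y).mpr (by rw [← hdom]; omega)
  rw [ordAt_eq_ordStalk y _ h (specMap_injective_of_eq _ hdom y h),
    ordStalk_norm_eq_finsum p hdom hfin y hdim h f hf]
  let e : {x : X // p x = y} ≃ {x : X // p x = y ∧ genericPoint X ⤳ x} :=
    Equiv.subtypeEquivRight (fun x => ⟨fun h => ⟨h, genericPoint_specializes x⟩, fun h => h.1⟩)
  rw [← finsum_comp_equiv e]
  refine finsum_congr fun x => ?_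
  rw [mul_comm]
  congr 1
  exact (ordAt_eq_ordStalk x.1 _ _ (Groth.Agent.S1923.specMap_injective X x.1 _) f).symm

end Groth.Agent.Lib.CycPush85
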