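import Mathlib
import Groth.Agent.Lib.CycPush85c
import Groth.Agent.S1905
set_option autoImplicit false
set_option linter.style.haveILetI false
set_option linter.unusedSectionVars false
set_option linter.unusedVariables false
universe u

open AlgebraicGeometry CategoryTheory Cyc IsLocalRing TopologicalSpace

namespace Groth.Agent.Lib.CycPush85

variable {X Y Z : Scheme.{u}}

section surj

variable (i : Z ⟶ X) [SurjectiveOnStalks i]

theorem residueFieldMap_bijective (z : Z) :
    Function.Bijective (i.residueFieldMap z).hom := by
  refine ⟨(i.residueFieldMap z).hom.injective, ?_⟩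
  intro t
  obtain ⟨s, rfl⟩ := Z.residue_surjective z t
  obtain ⟨s', rfl⟩ := i.stalkMap_surjective z s
  refine ⟨X.residue (i z) s', ?_⟩
  have := congr($(Scheme.residue_residueFieldMap i z) s')
  simpa using this

/-- the residue field isomorphism of a morphism that is surjective on stalks -/
noncomputable def residueFieldEquiv (z : Z) : X.residueField (i z) ≃+* Z.residueField z :=
  RingEquiv.ofBijective (i.residueFieldMap z).hom (residueFieldMap_bijective i z)

theorem ker_specMap_le_comap (z ζ : Z) (h : ζ ⤳ z) :
    RingHom.ker (specMap (i z) (i ζ) (i.base.hom.map_specializes h)) =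
      (RingHom.ker (specMap z ζ h)).comap (i.stalkMap z).hom := by
  ext a
  rw [Ideal.mem_comap, RingHom.mem_ker, RingHom.mem_ker,
    ← Groth.Agent.S1905.specMap_comm i z ζ h a]
  constructor
  · intro h0
    rw [h0, map_zero]
  · intro h0
    exact (i.residueFieldMap ζ).hom.injective (h0.trans (map_zero _).symm)

/-- `O_{X,i z}/𝔭_{i ζ} ≃ O_{Z,z}/𝔭_ζ` for a morphism that is surjective on stalks -/
noncomputable def locQuotEquiv (z ζ : Z) (h : ζ ⤳ z) :
    LocQuot (i z) (i ζ) (i.base.hom.map_specializes h) ≃+* LocQuot z ζ h :=
  RingEquiv.ofBijective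
    (Ideal.quotientMap (RingHom.ker (specMap z ζ h)) (i.stalkMap z).hom
      (ker_specMap_le_comap i z ζ h).le)
    ⟨Ideal.quotientMap_injective' (ker_specMap_le_comap i z ζ h).ge,
      Ideal.quotientMap_surjective (i.stalkMap_surjective z)⟩

theorem ordAt_of_surjectiveOnStalks (z ζ : Z) (h : ζ ⤳ z) (g : X.residueField (i ζ)) :
    ordAt (i z) (i ζ) (i.base.hom.map_specializes h) g =
      ordAt z ζ h (i.residueFieldMap ζ g) := by
  unfold ordAt
  refine Groth.Agent.Lib.CycNorm85.ordFrac_congr' (locQuotEquiv i z ζ h) (residueFieldEquiv i ζ)
    ?_ g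
  intro r
  obtain ⟨a, rfl⟩ := Ideal.Quotient.mk_surjective r
  exact Groth.Agent.S1905.specMap_comm i z ζ h a

end surj

section degree

theorem residueDegree_comp (f : X ⟶ Y) (g : Y ⟶ Z) (x : X) :
    (f ≫ g).residueDegree x = g.residueDegree (f x) * f.residueDegree x := by
  unfold Scheme.Hom.residueDegree
  letI a1 : Algebra (Z.residueField (g (f x))) (Y.residueField (f x)) :=
    (g.residueFieldMap (f x)).hom.toAlgebra
  letI a2 : Algebra (Y.residueField (f x)) (X.residueField x) :=
    (f.residueFieldMap x).hom.toAlgebra
  letI a3 : Algebra (Z.residueField (g (f x))) (X.residueField x) :=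
    ((f ≫ g).residueFieldMap x).hom.toAlgebra
  haveI : IsScalarTower (Z.residueField (g (f x))) (Y.residueField (f x)) (X.residueField x) :=
    IsScalarTower.of_algebraMap_eq (fun r => by
      change ((f ≫ g).residueFieldMap x).hom r =
        (f.residueFieldMap x).hom ((g.residueFieldMap (f x)).hom r)
      rw [Scheme.residueFieldMap_comp]
      rfl)
  exact (Module.finrank_mul_finrank (Z.residueField (g (f x))) (Y.residueField (f x))
    (X.residueField x)).symm

theorem residueDegree_eq_one (i : Z ⟶ X) [SurjectiveOnStalks i] (z : Z) :
    i.residueDegree z = 1 := by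
  unfold Scheme.Hom.residueDegree
  letI := (i.residueFieldMap z).hom.toAlgebra
  exact Module.finrank_of_bijective_algebraMap (residueFieldMap_bijective i z)

theorem residueDegree_comp_of_surjectiveOnStalks_left (i : Z ⟶ X) [SurjectiveOnStalks i]
    (p : X ⟶ Y) (z : Z) : (i ≫ p).residueDegree z = p.residueDegree (i z) := by
  rw [residueDegree_comp, residueDegree_eq_one i z, mul_one]

theorem residueDegree_comp_of_surjectiveOnStalks_right (p : X ⟶ Z) (i : Z ⟶ Y)
    [SurjectiveOnStalks i] (x : X) : (p ≫ i).residueDegree x = p.residueDegree x := by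
  rw [residueDegree_comp, residueDegree_eq_one i (p x), one_mul]

end degree

section norm

/-- norm compatibility: composing with a morphism that is surjective on stalks on the target
side -/
theorem residueFieldMap_normGen_comp (p : X ⟶ Z) (i : Z ⟶ Y) [SurjectiveOnStalks i] (x : X)
    (f : X.residueField x) :
    i.residueFieldMap (p x) (normGen (p ≫ i) x f) = normGen p x f := by
  unfold normGen
  letI a1 : Algebra (Y.residueField (i (p x))) (X.residueField x) :=
    ((p ≫ i).residueFieldMap x).hom.toAlgebra
  letI a2 : Algebra (Z.residueField (p x)) (X.residueField x) :=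
    (p.residueFieldMap x).hom.toAlgebra
  have he : RingHom.comp (algebraMap (Z.residueField (p x)) (X.residueField x))
      ((residueFieldEquiv i (p x) : Y.residueField (i (p x)) ≃+* Z.residueField (p x)) :
        Y.residueField (i (p x)) →+* Z.residueField (p x)) =
      RingHom.comp ((RingEquiv.refl (X.residueField x) : X.residueField x ≃+* X.residueField x) :
        X.residueField x →+* X.residueField x)
        (algebraMap (Y.residueField (i (p x))) (X.residueField x)) := by
    ext r
    change (p.residueFieldMap x).hom ((i.residueFieldMap (p x)).hom r) =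
      ((p ≫ i).residueFieldMap x).hom r
    rw [Scheme.residueFieldMap_comp]
    rfl
  have h := Algebra.norm_eq_of_equiv_equiv (residueFieldEquiv i (p x))
    (RingEquiv.refl (X.residueField x)) he f
  change (residueFieldEquiv i (p x)) (Algebra.norm (Y.residueField (i (p x))) f) = _
  rw [h, RingEquiv.apply_symm_apply]
  rfl

/-- norm compatibility: composing with a morphism that is surjective on stalks on the source
side -/
theorem normGen_comp_residueFieldMap (i : Z ⟶ X) [SurjectiveOnStalks i] (p : X ⟶ Y) (z : Z)
    (f : X.residueField (i z)) :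
    normGen (i ≫ p) z (i.residueFieldMap z f) = normGen p (i z) f := by
  unfold normGen
  letI a1 : Algebra (Y.residueField (p (i z))) (X.residueField (i z)) :=
    (p.residueFieldMap (i z)).hom.toAlgebra
  letI a2 : Algebra (Y.residueField (p (i z))) (Z.residueField z) :=
    ((i ≫ p).residueFieldMap z).hom.toAlgebra
  have he : RingHom.comp (algebraMap (Y.residueField (p (i z))) (Z.residueField z))
      ((RingEquiv.refl (Y.residueField (p (i z))) :
        Y.residueField (p (i z)) ≃+* Y.residueField (p (i z))) :
        Y.residueField (p (i z)) →+* Y.residueField (p (i z))) =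
      RingHom.comp ((residueFieldEquiv i z : X.residueField (i z) ≃+* Z.residueField z) :
        X.residueField (i z) →+* Z.residueField z)
        (algebraMap (Y.residueField (p (i z))) (X.residueField (i z))) := by
    ext r
    change ((i ≫ p).residueFieldMap z).hom r =
      (i.residueFieldMap z).hom ((p.residueFieldMap (i z)).hom r)
    rw [Scheme.residueFieldMap_comp]
    rfl
  have h := Algebra.norm_eq_of_equiv_equiv (RingEquiv.refl (Y.residueField (p (i z))))
    (residueFieldEquiv i z) he f
  rw [h]
  rfl

end norm

end Groth.Agent.Lib.CycPush85
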