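import Mathlib
import Groth.Agent.Lib.CycPush85d
import Groth.Agent.Lib.H69RedInduced
import Groth.Agent.S6462
set_option autoImplicit false
set_option linter.style.haveILetI false
set_option linter.unusedSectionVars false
set_option linter.unusedVariables false
universe u

open AlgebraicGeometry CategoryTheory Cyc IsLocalRing TopologicalSpace
open Groth.Agent.Lib.H69RedInduced

namespace Groth.Agent.Lib.CycPush85

variable {X Y Z : Scheme.{u}}

/-- the closure of a point as a closed subset -/
def clos (ζ : Y) : Closeds Y := ⟨closure {ζ}, isClosed_closure⟩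

theorem exists_redSub_pt (ζ t : Y) (h : ζ ⤳ t) :
    ∃ z : ↥(redSub (clos ζ)), redSubι (clos ζ) z = t := by
  have : t ∈ Set.range (redSubι (clos ζ)) := by
    rw [range_redSubι]
    exact specializes_iff_mem_closure.mp h
  exact this

theorem specializes_redSubι (ζ : Y) (z : ↥(redSub (clos ζ))) : ζ ⤳ redSubι (clos ζ) z := by
  have : redSubι (clos ζ) z ∈ Set.range (redSubι (clos ζ)) := ⟨z, rfl⟩
  rw [range_redSubι] at this
  exact specializes_iff_mem_closure.mpr this

theorem exists_redSub_generic (ζ : Y) : ∃ ξZ : ↥(redSub (clos ζ)),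
    redSubι (clos ζ) ξZ = ζ ∧ ∀ z : ↥(redSub (clos ζ)), ξZ ⤳ z := by
  obtain ⟨ξZ, hξZ⟩ := exists_redSub_pt ζ ζ specializes_rfl
  refine ⟨ξZ, hξZ, fun z => ?_⟩
  apply (redSubι (clos ζ)).isEmbedding.isInducing.specializes_iff.mp
  rw [hξZ]
  exact specializes_redSubι ζ z

theorem isIntegral_of_generic [IsReduced Z] (ξ : Z) (hξ : ∀ z : Z, ξ ⤳ z) : IsIntegral Z := by
  rw [isIntegral_iff_irreducibleSpace_and_isReduced]
  refine ⟨?_, inferInstance⟩
  rw [irreducibleSpace_def]
  have h1 : (⊤ : Set Z) = closure {ξ} :=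
    (Set.eq_univ_of_forall fun z => specializes_iff_mem_closure.mp (hξ z)).symm
  rw [h1]
  exact isIrreducible_singleton.closure

theorem genericPoint_eq_of_generic [IsIntegral Z] (ξ : Z) (hξ : ∀ z : Z, ξ ⤳ z) :
    ξ = genericPoint Z :=
  ((hξ (genericPoint Z)).antisymm (genericPoint_specializes ξ)).eq

/-- the reduced closed subscheme on the closure of a point, packaged abstractly -/
theorem exists_integral_closedImmersion (ζ : Y) :
    ∃ (W : Scheme.{u}) (_ : IsIntegral W) (j : W ⟶ Y), IsClosedImmersion j ∧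
      j (genericPoint W) = ζ ∧ Set.range j = closure {ζ} ∧
      ∀ {T : Scheme.{u}} [IsReduced T] (g : T ⟶ Y), Set.range g ⊆ closure {ζ} →
        ∃ l : T ⟶ W, l ≫ j = g := by
  obtain ⟨ξZ, hξZ, hξ⟩ := exists_redSub_generic ζ
  haveI hint : IsIntegral (redSub (clos ζ)) := isIntegral_of_generic ξZ hξ
  refine ⟨redSub (clos ζ), hint, redSubι (clos ζ), inferInstance, ?_, ?_, ?_⟩
  · rw [← genericPoint_eq_of_generic ξZ hξ, hξZ]
  · rw [range_redSubι]
    rfl
  · intro T _ g hg
    exact exists_lift_redSub g (clos ζ) hg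

theorem ringKrullDim_locQuot_of_injective (x ξ : X) (h : ξ ⤳ x)
    (hinj : Function.Injective (specMap x ξ h)) :
    ringKrullDim (LocQuot x ξ h) = ringKrullDim (X.presheaf.stalk x) := by
  have hker : RingHom.ker (specMap x ξ h) = ⊥ := (RingHom.injective_iff_ker_eq_bot _).mp hinj
  let e : X.presheaf.stalk x ≃+* LocQuot x ξ h :=
    RingEquiv.ofBijective (Ideal.Quotient.mk (RingHom.ker (specMap x ξ h)))
      ⟨by
        rw [RingHom.injective_iff_ker_eq_bot, Ideal.mk_ker, hker],
       Ideal.Quotient.mk_surjective⟩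
  exact (ringKrullDim_eq_of_ringEquiv e).symm

theorem finite_of_comp_bijective {A B C : Type u} [CommRing A] [CommRing B] [CommRing C]
    (f : A →+* B) (g : B →+* C) (h : (g.comp f).Finite) : g.Finite :=
  RingHom.Finite.of_comp_finite h

/-- **Norm formula, source integral, target arbitrary** (the image of the generic point need not
be a generic point of `Y`). -/
theorem ordAt_norm_eq_finsum [IsIntegral X] [IsLocallyNoetherian Y] (p : X ⟶ Y) [IsProper p]
    (hfin : (p.residueFieldMap (genericPoint X)).hom.Finite)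
    (y : Y) (hspec : p (genericPoint X) ⤳ y)
    (hdim : ringKrullDim (LocQuot y (p (genericPoint X)) hspec) = 1)
    (f : X.residueField (genericPoint X)) (hf : f ≠ 0) :
    ordAt y (p (genericPoint X)) hspec (normGen p (genericPoint X) f) =
      ∑ᶠ x : {x : X // p x = y}, (p.residueDegree x.1 : ℤ) *
        ordStalk x.1 (genericPoint X) (genericPoint_specializes x.1) f := by
  obtain ⟨W, hW, j, hj, hjgen, hjrange, hlift⟩ :=
    exists_integral_closedImmersion (p (genericPoint X))
  have hrange : Set.range p ⊆ closure {p (genericPoint X)} := by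
    rintro _ ⟨x, rfl⟩
    exact specializes_iff_mem_closure.mp ((genericPoint_specializes x).map p.continuous)
  obtain ⟨p', rfl⟩ := hlift p hrange
  have hp'gen : p' (genericPoint X) = genericPoint W := j.injective hjgen.symm
  obtain ⟨w', rfl⟩ : y ∈ Set.range j := by
    rw [hjrange]
    exact specializes_iff_mem_closure.mp hspec
  haveI : IsProper p' := IsProper.of_comp p' j
  haveI : IsLocallyNoetherian W := LocallyOfFiniteType.isLocallyNoetherian j
  have h' : p' (genericPoint X) ⤳ w' := j.isEmbedding.isInducing.specializes_iff.mp hspec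
  have hinj : Function.Injective (specMap w' (p' (genericPoint X)) h') :=
    specMap_injective_of_eq _ hp'gen w' h'
  have hfin' : (p'.residueFieldMap (genericPoint X)).hom.Finite := by
    rw [Scheme.residueFieldMap_comp] at hfin
    exact RingHom.Finite.of_comp_finite hfin
  have hdim' : ringKrullDim (W.presheaf.stalk w') = 1 := by
    rw [← ringKrullDim_locQuot_of_injective w' _ h' hinj,
      ← ringKrullDim_eq_of_ringEquiv (locQuotEquiv j w' (p' (genericPoint X)) h')]
    exact hdim
  refine (ordAt_of_surjectiveOnStalks j w' (p' (genericPoint X)) h' _).trans ?_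
  rw [residueFieldMap_normGen_comp p' j (genericPoint X) f, ordAt_eq_ordStalk w' _ h' hinj,
    ordStalk_norm_eq_finsum p' hp'gen hfin' w' hdim' h' f hf]
  let e : {x : X // p' x = w'} ≃ {x : X // (p' ≫ j) x = j w'} :=
    Equiv.subtypeEquivRight (fun x => ⟨fun h => congrArg j h, fun h => j.injective h⟩)
  rw [← finsum_comp_equiv e]
  refine finsum_congr fun x => ?_
  congr 2
  exact (residueDegree_comp_of_surjectiveOnStalks_right p' j x.1).symm

/-- **Proper pushforward of a principal divisor, general case**: `X`, `Y` arbitrary (with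
dimension functions), `ξ` any point with `δX ξ = δY (p ξ)`. -/
theorem map_divFun_general (δX : X → ℤ) (δY : Y → ℤ) (hX : IsSetup X δX) (hY : IsSetup Y δY)
    (p : X ⟶ Y) [IsProper p] (hδ : DeltaCompat p δX δY) (ξ : X) (hn : δX ξ = δY (p ξ))
    (f : X.residueField ξ) (hf : f ≠ 0) (y : Y) :
    ∑ᶠ x ∈ p ⁻¹' {y}, divFun δX ξ f x * ((AlgebraicCycle.mapCoeff p δX δY x : ℕ) : ℤ) =
      divFun δY (p ξ) (normGen p ξ f) y := by
  obtain ⟨W, hW, i, hi, rfl, hirange, -⟩ := exists_integral_closedImmersion ξ
  refine finsum_fibre_eq_divFun δX δY hX.2.2 p hδ (i (genericPoint W)) hn f _ y ?_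
  intro h hcodim
  haveI : IsLocallyNoetherian Y := hY.1
  have hfinp : (p.residueFieldMap (i (genericPoint W))).hom.Finite :=
    finite_residueFieldMap_of_deltaCompat δX δY p hδ _ hn
  have hfinq : ((i ≫ p).residueFieldMap (genericPoint W)).hom.Finite := by
    rw [Scheme.residueFieldMap_comp]
    refine RingHom.Finite.comp ?_ hfinp
    exact RingHom.Finite.of_surjective _ (residueFieldMap_bijective i (genericPoint W)).2
  have hdim : ringKrullDim (LocQuot y (p (i (genericPoint W))) h) = 1 := by
    rw [Groth.Agent.S6462.part2 hY.2.2 y _ h]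
    have : δY (p (i (genericPoint W))) - δY y = 1 := by
      omega
    rw [this]
    rfl
  have hf' : i.residueFieldMap (genericPoint W) f ≠ 0 := fun h0 =>
    hf ((i.residueFieldMap (genericPoint W)).hom.injective (h0.trans (map_zero _).symm))
  have key := ordAt_norm_eq_finsum (i ≫ p) hfinq y h hdim
    (i.residueFieldMap (genericPoint W) f) hf'
  rw [normGen_comp_residueFieldMap i p (genericPoint W) f] at key
  refine key.trans ?_
  let e : {w : W // (i ≫ p) w = y} ≃ {x : X // p x = y ∧ i (genericPoint W) ⤳ x} :=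
    Equiv.ofBijective
      (fun w => ⟨i w.1, w.2, (genericPoint_specializes w.1).map i.continuous⟩)
      ⟨fun a b hab => Subtype.ext (i.injective (congrArg Subtype.val hab)), by
        rintro ⟨x, hx1, hx2⟩
        obtain ⟨w, rfl⟩ : x ∈ Set.range i := by
          rw [hirange]
          exact specializes_iff_mem_closure.mp hx2
        exact ⟨⟨w, hx1⟩, rfl⟩⟩
  rw [← finsum_comp_equiv e]
  refine finsum_congr fun w => ?_
  rw [mul_comm]
  congr 1
  · change ordStalk w.1 (genericPoint W) _ _ = ordAt (i w.1) (i (genericPoint W)) _ f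
    rw [← ordAt_eq_ordStalk w.1 _ _ (Groth.Agent.S1923.specMap_injective W w.1 _)]
    exact (ordAt_of_surjectiveOnStalks i w.1 (genericPoint W) (genericPoint_specializes w.1) f).symm
  · exact congrArg (Nat.cast (R := ℤ)) (residueDegree_comp_of_surjectiveOnStalks_left i p w.1)

end Groth.Agent.Lib.CycPush85
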