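import Mathlib
import Groth.Agent.Lib.CycPush85e
import Groth.Agent.Lib.CycPullRatEquiv
set_option autoImplicit false
set_option linter.style.haveILetI false
set_option linter.unusedSectionVars false
set_option linter.unusedVariables false
universe u

open AlgebraicGeometry CategoryTheory Cyc IsLocalRing TopologicalSpace

namespace Groth.Agent.Lib.CycPush85

variable {X Y Z : Scheme.{u}}

/-- every element of the residue field at `ξ` is a quotient of values of sections over an affine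
open containing `ξ` -/
theorem exists_evaluation_div (V : X.Opens) (hV : IsAffineOpen V) (ξ : X) (hξ : ξ ∈ V)
    (g : X.residueField ξ) :
    ∃ a b : Γ(X, V), X.evaluation V ξ hξ b ≠ 0 ∧
      g = X.evaluation V ξ hξ a / X.evaluation V ξ hξ b := by
  obtain ⟨s, rfl⟩ := X.residue_surjective ξ g
  letI := X.presheaf.algebra_section_stalk ⟨ξ, hξ⟩
  haveI := hV.isLocalization_stalk ⟨ξ, hξ⟩
  obtain ⟨a, b, rfl⟩ := IsLocalization.exists_mk'_eq (hV.primeIdealOf ⟨ξ, hξ⟩).asIdeal.primeCompl s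
  have hb : IsUnit (X.presheaf.germ V ξ hξ b.1) :=
    IsLocalization.map_units (X.presheaf.stalk ξ) b
  have hb' : X.evaluation V ξ hξ b.1 ≠ 0 := by
    intro h0
    have h1 : (X.residue ξ).hom (X.presheaf.germ V ξ hξ b.1) = 0 := h0
    exact (hb.map (X.residue ξ).hom).ne_zero h1
  refine ⟨a, b.1, hb', ?_⟩
  rw [eq_div_iff hb']
  change (X.residue ξ).hom _ * (X.residue ξ).hom (X.presheaf.germ V ξ hξ b.1) =
    (X.residue ξ).hom (X.presheaf.germ V ξ hξ a)
  rw [← map_mul]
  congr 1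
  exact IsLocalization.mk'_spec _ a b

theorem ordFrac_algebraMap_of_isUnit {R : Type u} [CommRing R] {K : Type u} [Field K]
    [Algebra R K] (c : R) (hc : IsUnit c) : CycAlg.ordFrac R K (algebraMap R K c) = 0 := by
  by_cases hcond : IsNoetherianRing R ∧ Ring.KrullDimLE 1 R ∧ Nontrivial R ∧ IsFractionRing R K
  · obtain ⟨h1, h2, h3, h4⟩ := hcond
    haveI : IsDomain R := (IsFractionRing.injective R K).isDomain
    rw [Groth.Agent.S1907.ordFrac_algebraMap c hc.ne_zero, Ring.ord_of_isUnit hc]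
    rfl
  · unfold CycAlg.ordFrac
    rw [dif_neg hcond]

theorem divFun_ne_zero_iff_aux (δ : X → ℤ) (ξ : X) (g : X.residueField ξ) (x : X)
    (h : divFun δ ξ g x ≠ 0) : ∃ hx : ξ ⤳ x, δ x + 1 = δ ξ ∧ ordAt x ξ hx g ≠ 0 := by
  unfold divFun at h
  by_cases hc : ξ ⤳ x ∧ δ x + 1 = δ ξ
  · rw [dif_pos hc] at h
    exact ⟨hc.1, hc.2, h⟩
  · rw [dif_neg hc] at h
    exact (h rfl).elim

/-- a principal divisor has finite support on every affine open (locally Noetherian case) -/
theorem finite_support_divFun_affine [IsLocallyNoetherian X] (δ : X → ℤ) (hd : IsDimFun X δ)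
    (ξ : X) (g : X.residueField ξ) (hg : g ≠ 0) (V : X.Opens) (hV : IsAffineOpen V) :
    {x : X | x ∈ V ∧ divFun δ ξ g x ≠ 0}.Finite := by
  by_cases hξ : ξ ∈ V
  · obtain ⟨a, b, hb, hab⟩ := exists_evaluation_div V hV ξ hξ g
    have ha : X.evaluation V ξ hξ a ≠ 0 := by
      intro h0
      apply hg
      rw [hab, h0, zero_div]
    let T : Set X := closure {ξ} ∩ (((X.basicOpen a : X.Opens) : Set X)ᶜ ∪
      ((X.basicOpen b : X.Opens) : Set X)ᶜ)
    have hT : IsClosed T := isClosed_closure.inter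
      ((X.basicOpen a).isOpen.isClosed_compl.union (X.basicOpen b).isOpen.isClosed_compl)
    have hξa : ξ ∈ X.basicOpen a := (X.evaluation_ne_zero_iff_mem_basicOpen ξ hξ a).mp ha
    have hξb : ξ ∈ X.basicOpen b := (X.evaluation_ne_zero_iff_mem_basicOpen ξ hξ b).mp hb
    refine (Groth.Agent.Lib.CycPullRatEquiv.finite_maximal_points_affine V hV T hT).subset ?_
    rintro x ⟨hxV, hx⟩
    obtain ⟨hsp, hdim, hord⟩ := divFun_ne_zero_iff_aux δ ξ g x hx
    have hxT : x ∈ T := by
      refine ⟨specializes_iff_mem_closure.mp hsp, ?_⟩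
      by_contra hcon
      simp only [Set.mem_union, Set.mem_compl_iff, not_or, not_not] at hcon
      obtain ⟨hxa, hxb⟩ := hcon
      have hua : IsUnit (X.presheaf.germ V x hxV a) :=
        (RingedSpace.mem_basicOpen _ a x hxV).mp hxa
      have hub : IsUnit (X.presheaf.germ V x hxV b) :=
        (RingedSpace.mem_basicOpen _ b x hxV).mp hxb
      apply hord
      have hu : IsUnit (Ideal.Quotient.mk (RingHom.ker (specMap x ξ hsp))
          (X.presheaf.germ V x hxV a) *
          ((hub.map (Ideal.Quotient.mk (RingHom.ker (specMap x ξ hsp)))).unit⁻¹ :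
            (LocQuot x ξ hsp)ˣ)) :=
        (hua.map _).mul (Units.isUnit _)
      have hval : algebraMap (LocQuot x ξ hsp) (X.residueField ξ)
          (Ideal.Quotient.mk (RingHom.ker (specMap x ξ hsp)) (X.presheaf.germ V x hxV a) *
          ((hub.map (Ideal.Quotient.mk (RingHom.ker (specMap x ξ hsp)))).unit⁻¹ :
            (LocQuot x ξ hsp)ˣ)) = g := by
        rw [hab, eq_div_iff hb, ← specMap_germ x ξ hsp V hxV b, ← specMap_germ x ξ hsp V hxV a]
        change _ * algebraMap (LocQuot x ξ hsp) (X.residueField ξ)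
          (Ideal.Quotient.mk _ (X.presheaf.germ V x hxV b)) =
          algebraMap (LocQuot x ξ hsp) (X.residueField ξ)
          (Ideal.Quotient.mk _ (X.presheaf.germ V x hxV a))
        rw [← map_mul, mul_assoc]
        congr 1
        rw [mul_comm (((hub.map (Ideal.Quotient.mk (RingHom.ker (specMap x ξ hsp)))).unit⁻¹ :
            (LocQuot x ξ hsp)ˣ) : LocQuot x ξ hsp)]
        have := (hub.map (Ideal.Quotient.mk (RingHom.ker (specMap x ξ hsp)))).mul_val_inv
        rw [this, mul_one]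
      unfold ordAt
      rw [← hval]
      exact ordFrac_algebraMap_of_isUnit _ hu
    refine ⟨hxV, hxT, ?_⟩
    intro z hz hzx
    by_contra hne
    have hξz : ξ ⤳ z := specializes_iff_mem_closure.mpr hz.1
    have hzξ : z ≠ ξ := by
      rintro rfl
      rcases hz.2 with h | h
      · exact h hξa
      · exact h hξb
    have h1 := (hd ξ z hξz (Ne.symm hzξ)).1
    have h2 := (hd z x hzx hne).1
    omega
  · convert Set.finite_empty
    ext x
    simp only [Set.mem_ofPred_eq, Set.mem_empty_iff_false, iff_false, not_and, not_not]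
    intro hxV
    unfold divFun
    rw [dif_neg]
    intro h
    exact hξ (h.1.mem_open V.isOpen hxV)

/-- exchange of a finsum over a set with a finsum over an index type, under a finiteness
hypothesis on the joint support -/
theorem finsum_mem_finsum_comm {α β : Type*} (F : Set α) (a : β → α → ℤ) (w : α → ℤ)
    (I₀ : Set β) (hI₀ : I₀.Finite) (S : Set α) (hS : S.Finite)
    (h : ∀ i y, y ∈ F → a i y ≠ 0 → i ∈ I₀ ∧ y ∈ S) :
    ∑ᶠ y ∈ F, (∑ᶠ i, a i y) * w y = ∑ᶠ i, ∑ᶠ y ∈ F, a i y * w y := by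
  classical
  have hTfin : (F ∩ S).Finite := hS.subset Set.inter_subset_right
  have h1 : ∀ y ∈ F, ∑ᶠ i, a i y = ∑ i ∈ hI₀.toFinset, a i y := by
    intro y hy
    refine finsum_eq_sum_of_support_subset _ ?_
    intro i hi
    rw [Finset.mem_coe, Set.Finite.mem_toFinset]
    exact (h i y hy hi).1
  have h2 : ∀ i, ∑ᶠ y ∈ F, a i y * w y = ∑ y ∈ hTfin.toFinset, a i y * w y := by
    intro i
    refine finsum_mem_eq_sum_of_inter_support_eq _ ?_
    ext y
    simp only [Set.mem_inter_iff, Function.mem_support, Finset.mem_coe, Set.Finite.mem_toFinset]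
    constructor
    · rintro ⟨hy, hne⟩
      have hay : a i y ≠ 0 := fun h0 => hne (by rw [h0, zero_mul])
      exact ⟨⟨hy, (h i y hy hay).2⟩, hne⟩
    · rintro ⟨⟨hy, -⟩, hne⟩
      exact ⟨hy, hne⟩
  have h3 : ∑ᶠ y ∈ F, (∑ᶠ i, a i y) * w y =
      ∑ y ∈ hTfin.toFinset, (∑ i ∈ hI₀.toFinset, a i y) * w y := by
    rw [finsum_mem_congr rfl (fun y hy => by rw [h1 y hy])]
    refine finsum_mem_eq_sum_of_inter_support_eq _ ?_
    ext y
    simp only [Set.mem_inter_iff, Function.mem_support, Finset.mem_coe, Set.Finite.mem_toFinset]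
    constructor
    · rintro ⟨hy, hne⟩
      refine ⟨⟨hy, ?_⟩, hne⟩
      by_contra hyS
      apply hne
      rw [Finset.sum_eq_zero, zero_mul]
      intro i _
      by_contra hay
      exact hyS (h i y hy hay).2
    · rintro ⟨⟨hy, -⟩, hne⟩
      exact ⟨hy, hne⟩
  have h4 : ∑ᶠ i, ∑ᶠ y ∈ F, a i y * w y =
      ∑ i ∈ hI₀.toFinset, ∑ y ∈ hTfin.toFinset, a i y * w y := by
    rw [finsum_congr h2]
    refine finsum_eq_sum_of_support_subset _ ?_
    intro i hi
    rw [Finset.mem_coe, Set.Finite.mem_toFinset]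
    rw [Function.mem_support] at hi
    obtain ⟨y, hy, hne⟩ := Finset.exists_ne_zero_of_sum_ne_zero hi
    rw [Set.Finite.mem_toFinset] at hy
    have hay : a i y ≠ 0 := fun h0 => hne (by rw [h0, zero_mul])
    exact (h i y hy.1 hay).1
  rw [h3, h4, Finset.sum_comm]
  refine Finset.sum_congr rfl fun y _ => ?_
  rw [Finset.sum_mul]

section family

variable [IsLocallyNoetherian X] (δ : X → ℤ) (hd : IsDimFun X δ) {ι : Type u} (ξ : ι → X)
  (g : (i : ι) → X.residueField (ξ i)) (hg : ∀ i, g i ≠ 0)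
  (hlf : ∀ x : X, ∃ U : Set X, IsOpen U ∧ x ∈ U ∧ {i | (closure {ξ i} ∩ U).Nonempty}.Finite)

include hlf in
theorem finite_index_of_isCompact (K : Set X) (hK : IsCompact K) :
    {i | (closure {ξ i} ∩ K).Nonempty}.Finite := by
  have hLF : LocallyFinite (fun i => closure ({ξ i} : Set X)) := by
    intro x
    obtain ⟨N, hNo, hxN, hfin⟩ := hlf x
    exact ⟨N, hNo.mem_nhds hxN, hfin⟩
  exact hLF.finite_nonempty_inter_compact hK

include hd hg hlf in
theorem finite_joint_support_of_isCompact (K : Set X) (hK : IsCompact K) :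
    {x | x ∈ K ∧ ∃ i, divFun δ (ξ i) (g i) x ≠ 0}.Finite := by
  have hI₀ := finite_index_of_isCompact ξ hlf K hK
  have hcov : ∀ x : X, ∃ V : X.Opens, IsAffineOpen V ∧ x ∈ V := fun x => by
    obtain ⟨V, hV, hxV, -⟩ := exists_isAffineOpen_mem_and_subset (x := x) (U := ⊤) trivial
    exact ⟨V, hV, hxV⟩
  choose V hV hxV using hcov
  obtain ⟨t, -, ht⟩ := hK.elim_nhds_subcover (fun x => (V x : Set X))
    (fun x _ => (V x).isOpen.mem_nhds (hxV x))
  refine ((t.finite_toSet.biUnion fun x _ => hI₀.biUnion fun i _ =>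
    finite_support_divFun_affine δ hd (ξ i) (g i) (hg i) (V x) (hV x))).subset ?_
  rintro y ⟨hyK, i, hi⟩
  obtain ⟨x, hxt, hyx⟩ := Set.mem_iUnion₂.mp (ht hyK)
  obtain ⟨hsp, -, -⟩ := divFun_ne_zero_iff_aux δ (ξ i) (g i) y hi
  simp only [Set.mem_iUnion]
  exact ⟨x, hxt, i, ⟨y, specializes_iff_mem_closure.mp hsp, hyK⟩, hyx, hi⟩

/-- the sum of a locally finite family of principal divisors, as a cycle -/
noncomputable def sumDivCycle : AlgebraicCycle X ℤ :=
  ⟨fun x => ∑ᶠ i, divFun δ (ξ i) (g i) x, Set.subset_univ _, by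
    intro z _
    obtain ⟨V, hV, hzV, -⟩ := exists_isAffineOpen_mem_and_subset (x := z) (U := ⊤) trivial
    refine ⟨V, V.isOpen.mem_nhds hzV, ?_⟩
    refine (finite_joint_support_of_isCompact δ hd ξ g hg hlf V hV.isCompact).subset ?_
    rintro x ⟨hxV, hx⟩
    refine ⟨hxV, ?_⟩
    by_contra hall
    push Not at hall
    apply hx
    show ∑ᶠ i, divFun δ (ξ i) (g i) x = 0
    rw [finsum_congr hall, finsum_zero]⟩

theorem sumDivCycle_apply (x : X) :
    sumDivCycle δ hd ξ g hg hlf x = ∑ᶠ i, divFun δ (ξ i) (g i) x := rfl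

end family

section push

variable [IsLocallyNoetherian Y] (δY : Y → ℤ) (hd : IsDimFun Y δY) (f : Y ⟶ X) [QuasiCompact f]
  {ι : Type u} (ζ : ι → Y)
  (g : (i : ι) → Y.residueField (ζ i)) (hg : ∀ i, g i ≠ 0)
  (hlf : ∀ y : Y, ∃ U : Set Y, IsOpen U ∧ y ∈ U ∧ {i | (closure {ζ i} ∩ U).Nonempty}.Finite)

include hd hg hlf in
/-- pushing forward a locally finite sum of principal divisors termwise -/
theorem finsum_fibre_sumDiv (w : Y → ℤ) (x : X) :
    ∑ᶠ y ∈ f ⁻¹' {x}, (∑ᶠ i, divFun δY (ζ i) (g i) y) * w y =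
      ∑ᶠ i, ∑ᶠ y ∈ f ⁻¹' {x}, divFun δY (ζ i) (g i) y * w y := by
  obtain ⟨U, hU, hxU, -⟩ := exists_isAffineOpen_mem_and_subset (x := x) (U := ⊤) trivial
  have hK : IsCompact (f ⁻¹ᵁ U : Set Y) := f.isCompact_preimage hU.isCompact
  refine finsum_mem_finsum_comm _ _ w _ (finite_index_of_isCompact ζ hlf _ hK) _
    (finite_joint_support_of_isCompact δY hd ζ g hg hlf _ hK) ?_
  intro i y hy hne
  have hyK : y ∈ (f ⁻¹ᵁ U : Set Y) := by
    have : f y = x := hy
    show f y ∈ U
    rw [this]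
    exact hxU
  obtain ⟨hsp, -, -⟩ := divFun_ne_zero_iff_aux δY (ζ i) (g i) y hne
  exact ⟨⟨y, specializes_iff_mem_closure.mp hsp, hyK⟩, hyK, i, hne⟩

include hlf in
theorem locallyFinite_map_family (x : X) :
    ∃ U : Set X, IsOpen U ∧ x ∈ U ∧ {i | (closure {f (ζ i)} ∩ U).Nonempty}.Finite := by
  obtain ⟨U, hU, hxU, -⟩ := exists_isAffineOpen_mem_and_subset (x := x) (U := ⊤) trivial
  have hK : IsCompact (f ⁻¹ᵁ U : Set Y) := f.isCompact_preimage hU.isCompact
  refine ⟨U, U.isOpen, hxU, (finite_index_of_isCompact ζ hlf _ hK).subset ?_⟩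
  rintro i ⟨z, hz, hzU⟩
  have h1 : f (ζ i) ∈ U := (specializes_iff_mem_closure.mpr hz).mem_open U.isOpen hzU
  exact ⟨ζ i, subset_closure rfl, h1⟩

end push

end Groth.Agent.Lib.CycPush85
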