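import Mathlib
import Groth.Agent.Lib.CycPush85f
import Groth.Agent.S6482
set_option autoImplicit false
set_option linter.style.haveILetI false
set_option linter.unusedSectionVars false
set_option linter.unusedVariables false
universe u

open AlgebraicGeometry CategoryTheory CategoryTheory.Limits Cyc IsLocalRing TopologicalSpace

namespace Groth.Agent.Lib.CycPush85

variable {X Y Z : Scheme.{u}}

theorem delta_eq_of_surjective (δ : X → ℤ) (δY : Y → ℤ) (f : Y ⟶ X) (hδ : DeltaCompat f δY δ)
    (y : Y) (hsurj : Function.Surjective (f.residueFieldMap y).hom) : δY y = δ (f y) := by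
  obtain ⟨n, hn, hn'⟩ := hδ y
  have h0 := (Groth.Agent.S6482.trdeg_finrank_of_surjective (f.residueFieldMap y).hom hsurj).1
  rw [h0] at hn
  have : n = 0 := by exact_mod_cast hn.symm
  rw [hn', this]
  simp

theorem residueDegree_eq_one_of_surjective (f : Y ⟶ X) (y : Y)
    (hsurj : Function.Surjective (f.residueFieldMap y).hom) : f.residueDegree y = 1 :=
  (Groth.Agent.S6482.trdeg_finrank_of_surjective (f.residueFieldMap y).hom hsurj).2

/-- lifting a principal divisor to a point with trivial residue field extension -/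
theorem exists_lift_divFun (δ : X → ℤ) (δY : Y → ℤ) (hX : IsSetup X δ) (hY : IsSetup Y δY)
    (f : Y ⟶ X) [IsProper f] (hδ : DeltaCompat f δY δ) (ξ : X) (r : X.residueField ξ)
    (hr : r ≠ 0) (ξ' : Y) (hξ' : f ξ' = ξ)
    (hsurj : Function.Surjective (f.residueFieldMap ξ').hom) :
    ∃ r' : Y.residueField ξ', r' ≠ 0 ∧ δY ξ' = δ ξ ∧
      ∀ x : X, ∑ᶠ y ∈ f ⁻¹' {x}, divFun δY ξ' r' y *
        ((AlgebraicCycle.mapCoeff f δY δ y : ℕ) : ℤ) = divFun δ ξ r x := by
  subst hξ'
  have hdim : δY ξ' = δ (f ξ') := delta_eq_of_surjective δ δY f hδ ξ' hsurj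
  refine ⟨(f.residueFieldMap ξ').hom r, ?_, hdim, ?_⟩
  · intro h0
    exact hr ((f.residueFieldMap ξ').hom.injective (h0.trans (map_zero _).symm))
  · intro x
    rw [map_divFun_general δY δ hY hX f hδ ξ' hdim _ (fun h0 =>
      hr ((f.residueFieldMap ξ').hom.injective (h0.trans (map_zero _).symm))) x]
    congr 1
    unfold normGen
    letI := (f.residueFieldMap ξ').hom.toAlgebra
    change Algebra.norm (X.residueField (f ξ'))
      (algebraMap (X.residueField (f ξ')) (Y.residueField ξ') r) = r
    rw [Algebra.norm_algebraMap]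
    have h1 : Module.finrank (X.residueField (f ξ')) (Y.residueField ξ') = 1 :=
      residueDegree_eq_one_of_surjective f ξ' hsurj
    rw [h1, pow_one]

theorem finite_fibre_inter_support (f : Y ⟶ X) [QuasiCompact f] (c : AlgebraicCycle Y ℤ)
    (m : Y → ℤ) (x : X) : (f ⁻¹' {x} ∩ Function.support fun y => c y * m y).Finite := by
  obtain ⟨U, hU, hxU, -⟩ := exists_isAffineOpen_mem_and_subset (x := x) (U := ⊤) trivial
  have hK : IsCompact (f ⁻¹ᵁ U : Set Y) := f.isCompact_preimage hU.isCompact
  refine (c.locallyFiniteSupport.finite_inter_support_of_isCompact hK).subset ?_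
  rintro y ⟨hy, hne⟩
  refine ⟨?_, ?_⟩
  · have : f y = x := hy
    show f y ∈ U
    rw [this]
    exact hxU
  · intro h0
    apply hne
    show c y * m y = 0
    have : c y = 0 := h0
    rw [this, zero_mul]

theorem map_sub_apply (f : Y ⟶ X) [QuasiCompact f] (δY : Y → ℤ) (δ : X → ℤ)
    (c d : AlgebraicCycle Y ℤ) (x : X) :
    AlgebraicCycle.map f δY δ (c - d) x =
      AlgebraicCycle.map f δY δ c x - AlgebraicCycle.map f δY δ d x := by
  change ∑ᶠ y ∈ f ⁻¹' {x}, (c - d) y * ((AlgebraicCycle.mapCoeff f δY δ y : ℕ) : ℤ) =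
    (∑ᶠ y ∈ f ⁻¹' {x}, c y * ((AlgebraicCycle.mapCoeff f δY δ y : ℕ) : ℤ)) -
    ∑ᶠ y ∈ f ⁻¹' {x}, d y * ((AlgebraicCycle.mapCoeff f δY δ y : ℕ) : ℤ)
  rw [eq_sub_iff_add_eq, ← finsum_mem_add_distrib' (finite_fibre_inter_support f (c - d) _ x)
    (finite_fibre_inter_support f d _ x)]
  refine finsum_mem_congr rfl fun y _ => ?_
  rw [Function.locallyFinsuppWithin.coe_sub, Pi.sub_apply]
  ring

/-- a point of `Y ×_X Y` over `(y, y')` with trivial residue field extension over the first
factor, when `y'` has trivial residue field extension over `X` -/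
theorem exists_point_pullback (f : Y ⟶ X) (y y' : Y) (hy : f y' = f y)
    (hsurj : Function.Surjective (f.residueFieldMap y').hom) :
    ∃ z : ↥(pullback f f), pullback.fst f f z = y ∧ pullback.snd f f z = y' ∧
      Function.Surjective ((pullback.fst f f).residueFieldMap z).hom := by
  have hbij : Function.Bijective (f.residueFieldMap y').hom :=
    ⟨(f.residueFieldMap y').hom.injective, hsurj⟩
  have hiso : IsIso (f.residueFieldMap y') :=
    (ConcreteCategory.isIso_iff_bijective _).mpr hbij
  let σ : Y.residueField y' ⟶ Y.residueField y :=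
    inv (f.residueFieldMap y') ≫ (X.residueFieldCongr hy).hom ≫ f.residueFieldMap y
  have hσ : Y.fromSpecResidueField y ≫ f = (Spec.map σ ≫ Y.fromSpecResidueField y') ≫ f := by
    symm
    rw [Category.assoc, ← Scheme.Hom.SpecMap_residueFieldMap_fromSpecResidueField,
      ← Spec.map_comp_assoc]
    simp only [σ, IsIso.hom_inv_id_assoc, Spec.map_comp, Category.assoc,
      Scheme.residueFieldCongr_fromSpecResidueField,
      Scheme.Hom.SpecMap_residueFieldMap_fromSpecResidueField]
  let t : Spec (.of (Y.residueField y)) ⟶ pullback f f :=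
    pullback.lift (Y.fromSpecResidueField y) (Spec.map σ ≫ Y.fromSpecResidueField y') hσ
  have ht : t ≫ pullback.fst f f = Y.fromSpecResidueField y := pullback.lift_fst _ _ _
  have ht2 : t ≫ pullback.snd f f = Spec.map σ ≫ Y.fromSpecResidueField y' :=
    pullback.lift_snd _ _ _
  have h1 := Scheme.descResidueField_stalkClosedPointTo_comp (pullback.fst f f) t
  have h2 : (Scheme.SpecToEquivOfField (Y.residueField y) Y) (t ≫ pullback.fst f f) =
      ⟨y, 𝟙 _⟩ := by
    rw [← Equiv.eq_symm_apply, ht]
    simp only [Scheme.SpecToEquivOfField, Equiv.coe_fn_symm_mk, Spec.map_id]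
    exact (Category.id_comp _).symm
  rw [Scheme.SpecToEquivOfField_eq_iff] at h2
  obtain ⟨e, he⟩ := h2
  refine ⟨t (IsLocalRing.closedPoint (Y.residueField y)), ?_, ?_, ?_⟩
  · simpa [Scheme.SpecToEquivOfField] using e
  · rw [← Scheme.Hom.comp_apply, ht2, Scheme.Hom.comp_apply, Scheme.fromSpecResidueField_apply]
  · have h3 : (pullback.fst f f).residueFieldMap
        (t (IsLocalRing.closedPoint (Y.residueField y))) ≫
        Scheme.descResidueField (Scheme.stalkClosedPointTo t) = (Y.residueFieldCongr e).hom := by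
      rw [← h1]
      simpa [Scheme.SpecToEquivOfField] using he
    intro b
    refine ⟨(Y.residueFieldCongr e).inv
      ((Scheme.descResidueField (Scheme.stalkClosedPointTo t)).hom b), ?_⟩
    apply (Scheme.descResidueField (Scheme.stalkClosedPointTo t)).hom.injective
    have h4 : ∀ z, (Y.residueFieldCongr e).hom.hom ((Y.residueFieldCongr e).inv.hom z) = z :=
      fun z => by
        rw [← CommRingCat.comp_apply, Iso.inv_hom_id]
        rfl
    have h5 := congrArg (fun φ => φ.hom ((Y.residueFieldCongr e).inv.hom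
      ((Scheme.descResidueField (Scheme.stalkClosedPointTo t)).hom b))) h3
    exact h5.trans (h4 _)

theorem residueDegree_snd_of_point (f : Y ⟶ X) (z : ↥(pullback f f))
    (h1 : (pullback.fst f f).residueDegree z = 1)
    (h2 : f.residueDegree (pullback.snd f f z) = 1) :
    (pullback.snd f f).residueDegree z = f.residueDegree (pullback.fst f f z) := by
  have e1 := residueDegree_comp (pullback.fst f f) f z
  have e2 := residueDegree_comp (pullback.snd f f) f z
  have e3 : (pullback.fst f f ≫ f).residueDegree z = (pullback.snd f f ≫ f).residueDegree z :=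
    congrArg (fun g : pullback f f ⟶ X => g.residueDegree z) pullback.condition
  rw [e1, e2, h1, h2, mul_one, one_mul] at e3
  exact e3.symm

end Groth.Agent.Lib.CycPush85
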