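import Mathlib
import Groth.Agent.Lib.CycPush85g
import Groth.Prelude.Def_W4stkchowintpicEnv
set_option autoImplicit false
set_option linter.style.haveILetI false
set_option linter.unusedSectionVars false
set_option linter.unusedVariables false
universe u

open AlgebraicGeometry CategoryTheory CategoryTheory.Limits Cyc IsLocalRing TopologicalSpace

namespace Groth.Agent.Lib.CycPush85

theorem envelope_exact (X Y : Scheme.{u}) (δ : X → ℤ) (δY : Y → ℤ) (hX : Cyc.IsSetup X δ)
    (hY : Cyc.IsSetup Y δY) (f : Y ⟶ X) [IsProper f] (hcd : Cyc.IsCompletelyDecomposed f)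
    (hδ : Cyc.DeltaCompat f δY δ) (δ2 : ↥(pullback f f) → ℤ)
    (hδ2 : Cyc.DeltaCompat (pullback.fst f f) δ2 δY) (k : ℤ) (β : AlgebraicCycle Y ℤ)
    (hβ : β ∈ Cyc.Zk Y δY k) (h0 : Cyc.RatEquivZero δ k (AlgebraicCycle.map f δY δ β)) :
    ∃ γ : AlgebraicCycle (pullback f f) ℤ, γ ∈ Cyc.Zk (pullback f f) δ2 k ∧
      Cyc.RatEquiv δY k β (AlgebraicCycle.map (pullback.fst f f) δ2 δY γ -
        AlgebraicCycle.map (pullback.snd f f) δ2 δY γ) := by
  classical
  haveI : IsLocallyNoetherian Y := hY.1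
  obtain ⟨ι, ξ, r, hξ, hr, hlf, hsum⟩ := h0
  choose s hs hsurj using hcd
  -- lift the family
  have hlift := fun i => exists_lift_divFun δ δY hX hY f hδ (ξ i) (r i) (hr i) (s (ξ i))
    (hs (ξ i)) (hsurj (ξ i))
  choose r' hr' hdim' hpush using hlift
  have hlf' : ∀ y : Y, ∃ U : Set Y, IsOpen U ∧ y ∈ U ∧
      {i | (closure {s (ξ i)} ∩ U).Nonempty}.Finite := by
    intro y
    obtain ⟨U, hUo, hyU, hfin⟩ := hlf (f y)
    refine ⟨f ⁻¹' U, hUo.preimage f.continuous, hyU, hfin.subset ?_⟩
    rintro i ⟨w, hw, hwU⟩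
    refine ⟨f w, ?_, hwU⟩
    have h1 : s (ξ i) ⤳ w := specializes_iff_mem_closure.mpr hw
    have h2 := h1.map f.continuous
    rw [hs (ξ i)] at h2
    exact specializes_iff_mem_closure.mp h2
  let B : AlgebraicCycle Y ℤ := sumDivCycle δY hY.2.2 (fun i => s (ξ i)) r' hr' hlf'
  have hB : ∀ y, B y = ∑ᶠ i, divFun δY (s (ξ i)) (r' i) y := fun y => rfl
  have hBk : ∀ y, δY y ≠ k → B y = 0 := by
    intro y hy
    rw [hB]
    refine finsum_eq_zero_of_forall_eq_zero fun i => ?_
    by_contra hne
    obtain ⟨-, h2, -⟩ := divFun_ne_zero_iff_aux δY _ _ y hne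
    have := hdim' i
    have := hξ i
    omega
  -- the corrected cycle
  let β' : AlgebraicCycle Y ℤ := β - B
  have hβ'k : ∀ y, δY y ≠ k → β' y = 0 := by
    intro y hy
    show (β - B) y = 0
    rw [Function.locallyFinsuppWithin.coe_sub, Pi.sub_apply, hβ y hy, hBk y hy, sub_zero]
  have hpushB : ∀ x, AlgebraicCycle.map f δY δ B x = AlgebraicCycle.map f δY δ β x := by
    intro x
    change ∑ᶠ y ∈ f ⁻¹' {x}, B y * ((AlgebraicCycle.mapCoeff f δY δ y : ℕ) : ℤ) = _
    rw [hsum x]
    have := finsum_fibre_sumDiv δY hY.2.2 f (fun i => s (ξ i)) r' hr' hlf'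
      (fun y => ((AlgebraicCycle.mapCoeff f δY δ y : ℕ) : ℤ)) x
    rw [finsum_mem_congr rfl (fun y _ => by rw [hB y])]
    rw [this]
    exact finsum_congr fun i => hpush i x
  have hpushβ' : ∀ x, ∑ᶠ y ∈ f ⁻¹' {x}, β' y * ((AlgebraicCycle.mapCoeff f δY δ y : ℕ) : ℤ) = 0 := by
    intro x
    have := map_sub_apply f δY δ β B x
    rw [hpushB x, sub_self] at this
    exact this
  -- the points z(y)
  have hz := fun y : Y => exists_point_pullback f y (s (f y)) (hs (f y)) (hsurj (f y))
  choose z hz1 hz2 hz3 using hz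
  have hδz : ∀ y, δ2 (z y) = δY y := by
    intro y
    have := delta_eq_of_surjective δY δ2 (pullback.fst f f) hδ2 (z y) (hz3 y)
    rw [this, hz1]
  have hdegz : ∀ y, (pullback.fst f f).residueDegree (z y) = 1 := fun y =>
    residueDegree_eq_one_of_surjective _ _ (hz3 y)
  have hδs : ∀ x, δY (s x) = δ x := by
    intro x
    rw [delta_eq_of_surjective δ δY f hδ (s x) (hsurj x), hs x]
  let c : ↥(pullback f f) → ℤ := fun w =>
    if w = z (pullback.fst f f w) then β' (pullback.fst f f w) else 0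
  have hc_supp : ∀ w, c w ≠ 0 → w = z (pullback.fst f f w) ∧ β' (pullback.fst f f w) ≠ 0 := by
    intro w hw
    by_cases h : w = z (pullback.fst f f w)
    · exact ⟨h, by simpa [c, if_pos h] using hw⟩
    · exact (hw (by simp [c, if_neg h])).elim
  have hcz : ∀ y, c (z y) = β' y := by
    intro y
    simp only [c]
    rw [hz1 y, if_pos rfl]
  let γ : AlgebraicCycle (pullback f f) ℤ :=
    { toFun := c
      supportWithinDomain' := by simp
      supportLocallyFiniteWithinDomain' := by
        intro w₀ _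
        obtain ⟨t, ht, hfin⟩ := β'.supportLocallyFiniteWithinDomain' (pullback.fst f f w₀)
          (Set.mem_univ _)
        refine ⟨(pullback.fst f f) ⁻¹' t,
          (pullback.fst f f).continuous.continuousAt.preimage_mem_nhds ht, ?_⟩
        refine (hfin.image z).subset ?_
        rintro w ⟨hwt, hw⟩
        obtain ⟨h1, h2⟩ := hc_supp w hw
        exact ⟨pullback.fst f f w, ⟨hwt, h2⟩, h1.symm⟩ }
  have hγc : ∀ w, γ w = c w := fun _ => rfl
  have hγk : γ ∈ Cyc.Zk (pullback f f) δ2 k := by
    intro w hw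
    by_contra hne
    obtain ⟨h1, h2⟩ := hc_supp w hne
    have h3 : δY (pullback.fst f f w) = k := by
      by_contra h
      exact h2 (hβ'k _ h)
    rw [h1, hδz, h3] at hw
    exact hw rfl
  have hp : ∀ y, AlgebraicCycle.map (pullback.fst f f) δ2 δY γ y = β' y := by
    intro y
    change ∑ᶠ w ∈ (pullback.fst f f) ⁻¹' {y},
      c w * ((AlgebraicCycle.mapCoeff (pullback.fst f f) δ2 δY w : ℕ) : ℤ) = β' y
    rw [finsum_mem_def, finsum_eq_single _ (z y)]
    · have hmem : z y ∈ (pullback.fst f f) ⁻¹' {y} := hz1 y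
      have hcoef : AlgebraicCycle.mapCoeff (pullback.fst f f) δ2 δY (z y) = 1 := by
        unfold AlgebraicCycle.mapCoeff
        rw [if_pos (by rw [hδz y]; exact congrArg δY (hz1 y).symm), hdegz]
      rw [Set.indicator_of_mem hmem, hcz, hcoef]
      simp
    · intro w hw
      by_cases hmem : w ∈ (pullback.fst f f) ⁻¹' {y}
      · rw [Set.indicator_of_mem hmem]
        have hfw : pullback.fst f f w = y := hmem
        have : c w = 0 := by
          simp only [c]
          rw [if_neg]
          rw [hfw]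
          exact hw
        rw [this, zero_mul]
      · exact Set.indicator_of_notMem hmem _
  have hq : ∀ y₀, AlgebraicCycle.map (pullback.snd f f) δ2 δY γ y₀ = 0 := by
    intro y₀
    change ∑ᶠ w ∈ (pullback.snd f f) ⁻¹' {y₀},
      c w * ((AlgebraicCycle.mapCoeff (pullback.snd f f) δ2 δY w : ℕ) : ℤ) = 0
    by_cases hy₀ : y₀ = s (f y₀)
    · have hzinj : Set.InjOn z (f ⁻¹' {f y₀}) := by
        intro a _ b _ hab
        rw [← hz1 a, ← hz1 b, hab]
      have hstep : ∑ᶠ w ∈ (pullback.snd f f) ⁻¹' {y₀},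
          c w * ((AlgebraicCycle.mapCoeff (pullback.snd f f) δ2 δY w : ℕ) : ℤ) =
          ∑ᶠ w ∈ z '' (f ⁻¹' {f y₀}),
          c w * ((AlgebraicCycle.mapCoeff (pullback.snd f f) δ2 δY w : ℕ) : ℤ) := by
        refine finsum_mem_inter_support_eq' _ _ _ ?_
        intro w hw
        have hcw : c w ≠ 0 := fun h0 => hw (by simp only [h0, zero_mul])
        obtain ⟨h1, -⟩ := hc_supp w hcw
        constructor
        · intro hmem
          have hsnd : pullback.snd f f w = y₀ := hmem
          refine ⟨pullback.fst f f w, ?_, h1.symm⟩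
          show f (pullback.fst f f w) = f y₀
          have h2 := hz2 (pullback.fst f f w)
          rw [← h1, hsnd] at h2
          rw [h2, hs]
        · rintro ⟨y, hy, rfl⟩
          have hy' : f y = f y₀ := hy
          show pullback.snd f f (z y) = y₀
          rw [hz2, hy', ← hy₀]
      rw [hstep, finsum_mem_image hzinj, ← hpushβ' (f y₀)]
      refine finsum_mem_congr rfl fun y hy => ?_
      have hy' : f y = f y₀ := hy
      rw [hcz]
      congr 2
      unfold AlgebraicCycle.mapCoeff
      have hsnd : pullback.snd f f (z y) = y₀ := by rw [hz2, hy', ← hy₀]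
      have hδy₀ : δY y₀ = δ (f y) := by rw [hy₀, hδs, hy']
      have hdeg : (pullback.snd f f).residueDegree (z y) = f.residueDegree y := by
        rw [residueDegree_snd_of_point f (z y) (hdegz y)
          (by rw [hz2]; exact residueDegree_eq_one_of_surjective f _ (hsurj _)), hz1]
      rw [hδz, hsnd, hδy₀, hdeg]
    · refine finsum_mem_eq_zero_of_forall_eq_zero ?_
      intro w hw
      have hsnd : pullback.snd f f w = y₀ := hw
      by_contra hne
      have hcw : c w ≠ 0 := fun h0 => hne (by simp only [h0, zero_mul])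
      obtain ⟨h1, -⟩ := hc_supp w hcw
      have h2 := hz2 (pullback.fst f f w)
      rw [← h1, hsnd] at h2
      apply hy₀
      have h3 : f y₀ = f (pullback.fst f f w) := by rw [h2, hs]
      rw [h3, ← h2]
  refine ⟨γ, hγk, ?_⟩
  show Cyc.RatEquivZero δY k (β - (AlgebraicCycle.map (pullback.fst f f) δ2 δY γ -
        AlgebraicCycle.map (pullback.snd f f) δ2 δY γ))
  refine ⟨ι, fun i => s (ξ i), r', fun i => by rw [hdim' i, hξ i], hr', hlf', ?_⟩
  intro y
  rw [Function.locallyFinsuppWithin.coe_sub, Function.locallyFinsuppWithin.coe_sub]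
  simp only [Pi.sub_apply]
  rw [hp, hq, ← hB]
  show β y - ((β - B) y - 0) = B y
  rw [Function.locallyFinsuppWithin.coe_sub, Pi.sub_apply]
  ring

end Groth.Agent.Lib.CycPush85
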