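import Mathlib
import Groth.Agent.Lib.CycPush85h
import Groth.Agent.S9684
set_option autoImplicit false
set_option linter.style.haveILetI false
set_option linter.unusedSectionVars false
set_option linter.unusedVariables false
universe u

open AlgebraicGeometry CategoryTheory CategoryTheory.Limits Cyc IsLocalRing TopologicalSpace

namespace Groth.Agent.Lib.CycMV85

variable {X Z : Scheme.{u}}


theorem uc_of_ringEquiv {R R' : Type u} [CommRing R] [CommRing R'] (e : R ≃+* R')
    (hR : CAlg.IsUniversallyCatenary R) : CAlg.IsUniversallyCatenary R' := by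
  obtain ⟨hN, h⟩ := hR
  refine ⟨isNoetherianRing_of_ringEquiv R e, ?_⟩
  intro T _ _ hT
  letI : Algebra R T := ((algebraMap R' T).comp (e : R →+* R')).toAlgebra
  apply h T
  letI : Algebra R R' := (e : R →+* R').toAlgebra
  haveI : IsScalarTower R R' T := IsScalarTower.of_algebraMap_eq (fun _ => rfl)
  haveI : Algebra.FiniteType R R' :=
    Algebra.FiniteType.of_surjective (Algebra.ofId R R') e.surjective
  exact Algebra.FiniteType.trans (R := R) (S := R') (A := T) inferInstance hT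

theorem uc_of_surjective {R R' : Type u} [CommRing R] [CommRing R'] (φ : R →+* R')
    (hφ : Function.Surjective φ)
    (hR : CAlg.IsUniversallyCatenary R) : CAlg.IsUniversallyCatenary R' :=
  uc_of_ringEquiv (RingHom.quotientKerEquivOfSurjective hφ)
    (Groth.Agent.S9684.uc_quotient hR (RingHom.ker φ))

theorem deltaCompat_of_surjectiveOnStalks (δ : X → ℤ) (i : Z ⟶ X) [SurjectiveOnStalks i] :
    DeltaCompat i (fun z => δ (i z)) δ := by
  intro z
  refine ⟨0, ?_, by simp⟩
  have h0 := (Groth.Agent.S6482.trdeg_finrank_of_surjective (i.residueFieldMap z).hom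
    (Groth.Agent.Lib.CycPush85.residueFieldMap_bijective i z).2).1
  rw [h0]
  simp

theorem isSetup_of_closedImmersion (δ : X → ℤ) (hX : IsSetup X δ) (i : Z ⟶ X)
    [IsClosedImmersion i] : IsSetup Z (fun z => δ (i z)) := by
  haveI : IsLocallyNoetherian X := hX.1
  have hN : IsLocallyNoetherian Z := LocallyOfFiniteType.isLocallyNoetherian i
  refine ⟨hN, ?_, ?_⟩
  · intro z
    exact uc_of_surjective (i.stalkMap z).hom (i.stalkMap_surjective z) (hX.2.1 (i z))
  · exact Groth.Agent.S9684.main i δ hX _ (deltaCompat_of_surjectiveOnStalks δ i)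


theorem ordFrac_mul' {R : Type u} [CommRing R] {K : Type u} [Field K] [Algebra R K]
    (a b : K) (ha : a ≠ 0) (hb : b ≠ 0) :
    CycAlg.ordFrac R K (a * b) = CycAlg.ordFrac R K a + CycAlg.ordFrac R K b := by
  unfold CycAlg.ordFrac
  split_ifs with h
  · haveI := h.1; haveI := h.2.1; haveI := h.2.2.1; haveI := h.2.2.2
    rw [map_mul]
    have ha' : Ring.ordFrac R a ≠ 0 := by
      rw [map_ne_zero]; exact ha
    have hb' : Ring.ordFrac R b ≠ 0 := by
      rw [map_ne_zero]; exact hb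
    obtain ⟨a', ha''⟩ := WithZero.ne_zero_iff_exists.mp ha'
    obtain ⟨b', hb''⟩ := WithZero.ne_zero_iff_exists.mp hb'
    rw [← ha'', ← hb'', ← WithZero.coe_mul]
    simp only [WithZero.recZeroCoe_coe]
    rfl
  · simp

theorem ordFrac_inv' {R : Type u} [CommRing R] {K : Type u} [Field K] [Algebra R K]
    (a : K) (ha : a ≠ 0) :
    CycAlg.ordFrac R K a⁻¹ = - CycAlg.ordFrac R K a := by
  have h := ordFrac_mul' (R := R) a a⁻¹ ha (inv_ne_zero ha)
  have h1 := ordFrac_mul' (R := R) (1 : K) 1 one_ne_zero one_ne_zero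
  rw [mul_one] at h1
  rw [mul_inv_cancel₀ ha] at h
  omega

theorem divFun_inv (δ : X → ℤ) (ζ : X) (w : X.residueField ζ) (hw : w ≠ 0) (x : X) :
    Cyc.divFun δ ζ w⁻¹ x = - Cyc.divFun δ ζ w x := by
  unfold Cyc.divFun
  split_ifs with h
  · unfold Cyc.ordAt
    exact ordFrac_inv' w hw
  · simp

theorem finsum_split {ι : Type*} (p : ι → Prop) (F : ι → ℤ) (hF : (Function.support F).Finite) :
    ∑ᶠ j, F j = (∑ᶠ j : {j // p j}, F j.1) + ∑ᶠ j : {j // ¬ p j}, F j.1 := by
  rw [finsum_subtype_eq_finsum_cond (f := F) p, finsum_subtype_eq_finsum_cond (f := F) (fun j => ¬ p j)]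
  have hu : ({j | p j} ∪ {j | ¬ p j} : Set ι) = Set.univ := by
    ext j
    simp [em]
  have hd : Disjoint {j | p j} {j | ¬ p j} := by
    rw [Set.disjoint_left]
    intro j hj hj'
    exact hj' hj
  have := finsum_mem_union' (f := F) hd (hF.subset Set.inter_subset_right)
    (hF.subset Set.inter_subset_right)
  rw [hu, finsum_mem_univ] at this
  exact this

theorem locallyFinite_lift {Y : Scheme.{u}} (f : Y ⟶ X) {ι ι' : Type u} (ξ : ι → X) (e : ι' → ι)
    (he : Function.Injective e) (s : ι' → Y) (hs : ∀ j, f (s j) = ξ (e j))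
    (hlf : ∀ x : X, ∃ U : Set X, IsOpen U ∧ x ∈ U ∧ {i | (closure {ξ i} ∩ U).Nonempty}.Finite) :
    ∀ y : Y, ∃ U : Set Y, IsOpen U ∧ y ∈ U ∧ {j | (closure {s j} ∩ U).Nonempty}.Finite := by
  intro y
  obtain ⟨U, hUo, hyU, hfin⟩ := hlf (f y)
  refine ⟨f ⁻¹' U, hUo.preimage f.continuous, hyU, (hfin.preimage he.injOn).subset ?_⟩
  rintro j ⟨w, hw, hwU⟩
  refine ⟨f w, ?_, hwU⟩
  have h1 : s j ⤳ w := specializes_iff_mem_closure.mpr hw
  have h2 := h1.map f.continuous
  rw [hs j] at h2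
  exact specializes_iff_mem_closure.mp h2

theorem finite_support_family (δ : X → ℤ) {ι : Type u} (ξ : ι → X)
    (r : (j : ι) → X.residueField (ξ j))
    (hlf : ∀ x : X, ∃ U : Set X, IsOpen U ∧ x ∈ U ∧ {i | (closure {ξ i} ∩ U).Nonempty}.Finite)
    (x : X) : (Function.support fun j => divFun δ (ξ j) (r j) x).Finite := by
  obtain ⟨U, hUo, hxU, hfin⟩ := hlf x
  refine hfin.subset ?_
  intro j hj
  obtain ⟨hsp, -, -⟩ := Groth.Agent.Lib.CycPush85.divFun_ne_zero_iff_aux δ (ξ j) (r j) x hj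
  exact ⟨x, specializes_iff_mem_closure.mp hsp, hxU⟩

/-- pushforward along an injective map with all coefficients one -/
theorem map_apply_of_injective (i : Z ⟶ X) [QuasiCompact i] (hi : Function.Injective i)
    (δZ : Z → ℤ) (δ : X → ℤ)
    (hcoef : ∀ z, AlgebraicCycle.mapCoeff i δZ δ z = 1) (c : AlgebraicCycle Z ℤ) (z : Z) :
    AlgebraicCycle.map i δZ δ c (i z) = c z := by
  change ∑ᶠ w ∈ i ⁻¹' {i z}, c w * ((AlgebraicCycle.mapCoeff i δZ δ w : ℕ) : ℤ) = c z
  have : i ⁻¹' {i z} = {z} := by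
    ext w
    simp only [Set.mem_preimage, Set.mem_singleton_iff]
    exact ⟨fun h => hi h, fun h => by rw [h]⟩
  rw [this, finsum_mem_singleton, hcoef]
  simp

theorem map_apply_of_notMem_range (i : Z ⟶ X) [QuasiCompact i]
    (δZ : Z → ℤ) (δ : X → ℤ) (c : AlgebraicCycle Z ℤ) (x : X) (hx : x ∉ Set.range i) :
    AlgebraicCycle.map i δZ δ c x = 0 := by
  change ∑ᶠ w ∈ i ⁻¹' {x}, c w * ((AlgebraicCycle.mapCoeff i δZ δ w : ℕ) : ℤ) = 0
  have : i ⁻¹' {x} = ∅ := by
    ext w
    simp only [Set.mem_preimage, Set.mem_singleton_iff, Set.mem_empty_iff_false, iff_false]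
    intro h
    exact hx ⟨w, h⟩
  rw [this, finsum_mem_empty]

theorem mapCoeff_eq_one (i : Z ⟶ X) [SurjectiveOnStalks i] (δZ : Z → ℤ) (δ : X → ℤ)
    (h : ∀ z, δZ z = δ (i z)) (z : Z) : AlgebraicCycle.mapCoeff i δZ δ z = 1 := by
  unfold AlgebraicCycle.mapCoeff
  rw [if_pos (h z)]
  exact Groth.Agent.Lib.CycPush85.residueDegree_eq_one i z

end Groth.Agent.Lib.CycMV85
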