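import Mathlib
import Groth.Agent.Lib.CycMV85a
set_option autoImplicit false
set_option linter.style.haveILetI false
set_option linter.unusedSectionVars false
set_option linter.unusedVariables false
universe u

open AlgebraicGeometry CategoryTheory CategoryTheory.Limits Cyc IsLocalRing TopologicalSpace

namespace Groth.Agent.Lib.CycMV85

open Groth.Agent.Lib.CycPush85

theorem mayer_vietoris (X : Scheme.{u}) (δ : X → ℤ) (hX : Cyc.IsSetup X δ) (X₁ X₂ : Scheme.{u})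
    (i₁ : X₁ ⟶ X) (i₂ : X₂ ⟶ X) [IsClosedImmersion i₁] [IsClosedImmersion i₂]
    (hcov : Set.range ⇑i₁ ∪ Set.range ⇑i₂ = Set.univ) (k : ℤ) (α₁ : AlgebraicCycle X₁ ℤ)
    (α₂ : AlgebraicCycle X₂ ℤ) (h₁ : α₁ ∈ Cyc.Zk X₁ (fun x => δ (i₁ x)) k)
    (h₂ : α₂ ∈ Cyc.Zk X₂ (fun x => δ (i₂ x)) k)
    (h : Cyc.RatEquiv δ k (AlgebraicCycle.map i₁ (fun x => δ (i₁ x)) δ α₁)
      (AlgebraicCycle.map i₂ (fun x => δ (i₂ x)) δ α₂)) :
    ∃ β : AlgebraicCycle (pullback i₁ i₂) ℤ,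
      β ∈ Cyc.Zk (pullback i₁ i₂) (fun z => δ (i₁ (pullback.fst i₁ i₂ z))) k ∧
      Cyc.RatEquiv (fun x => δ (i₁ x)) k α₁
        (AlgebraicCycle.map (pullback.fst i₁ i₂) (fun z => δ (i₁ (pullback.fst i₁ i₂ z)))
          (fun x => δ (i₁ x)) β) ∧
      Cyc.RatEquiv (fun x => δ (i₂ x)) k α₂
        (AlgebraicCycle.map (pullback.snd i₁ i₂) (fun z => δ (i₁ (pullback.fst i₁ i₂ z)))
          (fun x => δ (i₂ x)) β) := by
  classical
  have hX₁ : IsSetup X₁ (fun x => δ (i₁ x)) := isSetup_of_closedImmersion δ hX i₁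
  have hX₂ : IsSetup X₂ (fun x => δ (i₂ x)) := isSetup_of_closedImmersion δ hX i₂
  have hc₁ : DeltaCompat i₁ (fun x => δ (i₁ x)) δ := deltaCompat_of_surjectiveOnStalks δ i₁
  have hc₂ : DeltaCompat i₂ (fun x => δ (i₂ x)) δ := deltaCompat_of_surjectiveOnStalks δ i₂
  haveI : IsLocallyNoetherian X₁ := hX₁.1
  haveI : IsLocallyNoetherian X₂ := hX₂.1
  obtain ⟨ι, ξ, r, hξ, hr, hlf, hsum⟩ := h
  have hι₂ : ∀ j : {j : ι // ξ j ∉ Set.range i₁}, ξ j.1 ∈ Set.range i₂ := by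
    intro j
    have : ξ j.1 ∈ Set.range i₁ ∪ Set.range i₂ := by rw [hcov]; trivial
    exact this.resolve_left j.2
  choose s₁ hs₁ using fun j : {j : ι // ξ j ∈ Set.range i₁} => j.2
  choose s₂ hs₂ using hι₂
  have hlift₁ := fun j : {j : ι // ξ j ∈ Set.range i₁} =>
    exists_lift_divFun δ (fun x => δ (i₁ x)) hX hX₁ i₁ hc₁ (ξ j.1) (r j.1) (hr j.1) (s₁ j)
      (hs₁ j) (residueFieldMap_bijective i₁ (s₁ j)).2
  have hlift₂ := fun j : {j : ι // ξ j ∉ Set.range i₁} =>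
    exists_lift_divFun δ (fun x => δ (i₂ x)) hX hX₂ i₂ hc₂ (ξ j.1) (r j.1)⁻¹
      (inv_ne_zero (hr j.1)) (s₂ j) (hs₂ j) (residueFieldMap_bijective i₂ (s₂ j)).2
  choose r₁ hr₁ hdim₁ hpush₁ using hlift₁
  choose r₂ hr₂ hdim₂ hpush₂ using hlift₂
  have hlf₁ := locallyFinite_lift i₁ ξ (fun j : {j : ι // ξ j ∈ Set.range i₁} => j.1)
    Subtype.val_injective s₁ hs₁ hlf
  have hlf₂ := locallyFinite_lift i₂ ξ (fun j : {j : ι // ξ j ∉ Set.range i₁} => j.1)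
    Subtype.val_injective s₂ hs₂ hlf
  let B₁ : AlgebraicCycle X₁ ℤ := sumDivCycle (fun x => δ (i₁ x)) hX₁.2.2 s₁ r₁ hr₁ hlf₁
  let B₂ : AlgebraicCycle X₂ ℤ := sumDivCycle (fun x => δ (i₂ x)) hX₂.2.2 s₂ r₂ hr₂ hlf₂
  have hB₁ : ∀ y, B₁ y = ∑ᶠ j, divFun (fun x => δ (i₁ x)) (s₁ j) (r₁ j) y := fun y => rfl
  have hB₂ : ∀ y, B₂ y = ∑ᶠ j, divFun (fun x => δ (i₂ x)) (s₂ j) (r₂ j) y := fun y => rfl
  have hB₁k : ∀ y, δ (i₁ y) ≠ k → B₁ y = 0 := by
    intro y hy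
    rw [hB₁]
    refine finsum_eq_zero_of_forall_eq_zero fun j => ?_
    by_contra hne
    obtain ⟨-, h2, -⟩ := divFun_ne_zero_iff_aux (fun x => δ (i₁ x)) _ _ y hne
    have h3 := hdim₁ j
    have h4 := hξ j.1
    simp only at h2 h3
    omega
  have hB₂k : ∀ y, δ (i₂ y) ≠ k → B₂ y = 0 := by
    intro y hy
    rw [hB₂]
    refine finsum_eq_zero_of_forall_eq_zero fun j => ?_
    by_contra hne
    obtain ⟨-, h2, -⟩ := divFun_ne_zero_iff_aux (fun x => δ (i₂ x)) _ _ y hne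
    have h3 := hdim₂ j
    have h4 := hξ j.1
    simp only at h2 h3
    omega
  have hpushB₁ : ∀ x, AlgebraicCycle.map i₁ (fun x => δ (i₁ x)) δ B₁ x =
      ∑ᶠ j : {j : ι // ξ j ∈ Set.range i₁}, divFun δ (ξ j.1) (r j.1) x := by
    intro x
    change ∑ᶠ y ∈ i₁ ⁻¹' {x}, B₁ y *
      ((AlgebraicCycle.mapCoeff i₁ (fun x => δ (i₁ x)) δ y : ℕ) : ℤ) = _
    have := finsum_fibre_sumDiv (fun x => δ (i₁ x)) hX₁.2.2 i₁ s₁ r₁ hr₁ hlf₁
      (fun y => ((AlgebraicCycle.mapCoeff i₁ (fun x => δ (i₁ x)) δ y : ℕ) : ℤ)) x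
    rw [finsum_mem_congr rfl (fun y _ => by rw [hB₁ y])]
    rw [this]
    exact finsum_congr fun j => hpush₁ j x
  have hpushB₂ : ∀ x, AlgebraicCycle.map i₂ (fun x => δ (i₂ x)) δ B₂ x =
      - ∑ᶠ j : {j : ι // ξ j ∉ Set.range i₁}, divFun δ (ξ j.1) (r j.1) x := by
    intro x
    change ∑ᶠ y ∈ i₂ ⁻¹' {x}, B₂ y *
      ((AlgebraicCycle.mapCoeff i₂ (fun x => δ (i₂ x)) δ y : ℕ) : ℤ) = _
    have := finsum_fibre_sumDiv (fun x => δ (i₂ x)) hX₂.2.2 i₂ s₂ r₂ hr₂ hlf₂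
      (fun y => ((AlgebraicCycle.mapCoeff i₂ (fun x => δ (i₂ x)) δ y : ℕ) : ℤ)) x
    rw [finsum_mem_congr rfl (fun y _ => by rw [hB₂ y])]
    rw [this, ← finsum_neg_distrib]
    refine finsum_congr fun j => ?_
    rw [hpush₂ j x, divFun_inv δ _ _ (hr j.1)]
  -- corrected cycles
  let α₁' : AlgebraicCycle X₁ ℤ := α₁ - B₁
  let α₂' : AlgebraicCycle X₂ ℤ := α₂ - B₂
  have hα₁'k : ∀ y, δ (i₁ y) ≠ k → α₁' y = 0 := by
    intro y hy
    show (α₁ - B₁) y = 0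
    rw [Function.locallyFinsuppWithin.coe_sub, Pi.sub_apply, h₁ y hy, hB₁k y hy, sub_zero]
  have hα₂'k : ∀ y, δ (i₂ y) ≠ k → α₂' y = 0 := by
    intro y hy
    show (α₂ - B₂) y = 0
    rw [Function.locallyFinsuppWithin.coe_sub, Pi.sub_apply, h₂ y hy, hB₂k y hy, sub_zero]
  have hco₁ : ∀ z, AlgebraicCycle.mapCoeff i₁ (fun x => δ (i₁ x)) δ z = 1 :=
    mapCoeff_eq_one i₁ _ δ (fun _ => rfl)
  have hco₂ : ∀ z, AlgebraicCycle.mapCoeff i₂ (fun x => δ (i₂ x)) δ z = 1 :=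
    mapCoeff_eq_one i₂ _ δ (fun _ => rfl)
  have hinj₁ : Function.Injective i₁ := i₁.isEmbedding.injective
  have hinj₂ : Function.Injective i₂ := i₂.isEmbedding.injective
  have hexact : ∀ x, AlgebraicCycle.map i₁ (fun x => δ (i₁ x)) δ α₁' x =
      AlgebraicCycle.map i₂ (fun x => δ (i₂ x)) δ α₂' x := by
    intro x
    have e1 : AlgebraicCycle.map i₁ (fun x => δ (i₁ x)) δ α₁' x =
        AlgebraicCycle.map i₁ (fun x => δ (i₁ x)) δ α₁ x -
        AlgebraicCycle.map i₁ (fun x => δ (i₁ x)) δ B₁ x :=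
      map_sub_apply i₁ _ δ α₁ B₁ x
    have e2 : AlgebraicCycle.map i₂ (fun x => δ (i₂ x)) δ α₂' x =
        AlgebraicCycle.map i₂ (fun x => δ (i₂ x)) δ α₂ x -
        AlgebraicCycle.map i₂ (fun x => δ (i₂ x)) δ B₂ x :=
      map_sub_apply i₂ _ δ α₂ B₂ x
    have e3 := hsum x
    rw [Function.locallyFinsuppWithin.coe_sub, Pi.sub_apply] at e3
    have e4 := finsum_split (fun j => ξ j ∈ Set.range i₁) (fun j => divFun δ (ξ j) (r j) x)
      (finite_support_family δ ξ r hlf x)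
    rw [e1, e2, hpushB₁, hpushB₂]
    linarith
  -- key pointwise consequences
  have hα₁'z : ∀ z₁ : X₁, AlgebraicCycle.map i₂ (fun x => δ (i₂ x)) δ α₂' (i₁ z₁) = α₁' z₁ := by
    intro z₁
    rw [← hexact, map_apply_of_injective i₁ hinj₁ _ δ hco₁]
  have hα₂'z : ∀ z₂ : X₂, AlgebraicCycle.map i₁ (fun x => δ (i₁ x)) δ α₁' (i₂ z₂) = α₂' z₂ := by
    intro z₂
    rw [hexact, map_apply_of_injective i₂ hinj₂ _ δ hco₂]
  have hagree : ∀ (z₁ : X₁) (z₂ : X₂), i₁ z₁ = i₂ z₂ → α₁' z₁ = α₂' z₂ := by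
    intro z₁ z₂ hz
    rw [← hα₁'z, hz, map_apply_of_injective i₂ hinj₂ _ δ hco₂]
  have hvan₁ : ∀ z₁ : X₁, i₁ z₁ ∉ Set.range i₂ → α₁' z₁ = 0 := by
    intro z₁ hz
    rw [← hα₁'z, map_apply_of_notMem_range i₂ _ δ _ _ hz]
  have hvan₂ : ∀ z₂ : X₂, i₂ z₂ ∉ Set.range i₁ → α₂' z₂ = 0 := by
    intro z₂ hz
    rw [← hα₂'z, map_apply_of_notMem_range i₁ _ δ _ _ hz]
  -- the pullback
  have hfinj : Function.Injective (pullback.fst i₁ i₂) := (pullback.fst i₁ i₂).isEmbedding.injective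
  have hsinj : Function.Injective (pullback.snd i₁ i₂) := (pullback.snd i₁ i₂).isEmbedding.injective
  have hcond : ∀ w : ↥(pullback i₁ i₂), i₁ (pullback.fst i₁ i₂ w) = i₂ (pullback.snd i₁ i₂ w) := by
    intro w
    have := congrArg (fun f => f w) (congrArg (fun f : pullback i₁ i₂ ⟶ X => (f : _ → _))
      (pullback.condition (f := i₁) (g := i₂)))
    simpa using this
  let β : AlgebraicCycle (pullback i₁ i₂) ℤ :=
    { toFun := fun w => α₁' (pullback.fst i₁ i₂ w)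
      supportWithinDomain' := by simp
      supportLocallyFiniteWithinDomain' := by
        intro w₀ _
        obtain ⟨t, ht, hfin⟩ := α₁'.supportLocallyFiniteWithinDomain' (pullback.fst i₁ i₂ w₀)
          (Set.mem_univ _)
        refine ⟨(pullback.fst i₁ i₂) ⁻¹' t,
          (pullback.fst i₁ i₂).continuous.continuousAt.preimage_mem_nhds ht, ?_⟩
        refine (hfin.preimage hfinj.injOn).subset ?_
        rintro w ⟨hwt, hw⟩
        exact ⟨hwt, hw⟩ }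
  have hβ : ∀ w, β w = α₁' (pullback.fst i₁ i₂ w) := fun _ => rfl
  have hβk : β ∈ Cyc.Zk (pullback i₁ i₂) (fun z => δ (i₁ (pullback.fst i₁ i₂ z))) k := by
    intro w hw
    rw [hβ]
    exact hα₁'k _ hw
  have hcof : ∀ w, AlgebraicCycle.mapCoeff (pullback.fst i₁ i₂)
      (fun z => δ (i₁ (pullback.fst i₁ i₂ z))) (fun x => δ (i₁ x)) w = 1 :=
    mapCoeff_eq_one (pullback.fst i₁ i₂) _ _ (fun _ => rfl)
  have hcos : ∀ w, AlgebraicCycle.mapCoeff (pullback.snd i₁ i₂)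
      (fun z => δ (i₁ (pullback.fst i₁ i₂ z))) (fun x => δ (i₂ x)) w = 1 :=
    mapCoeff_eq_one (pullback.snd i₁ i₂) _ _ (fun w => congrArg δ (hcond w))
  have hp : ∀ z₁, AlgebraicCycle.map (pullback.fst i₁ i₂)
      (fun z => δ (i₁ (pullback.fst i₁ i₂ z))) (fun x => δ (i₁ x)) β z₁ = α₁' z₁ := by
    intro z₁
    by_cases hz : z₁ ∈ Set.range (pullback.fst i₁ i₂)
    · obtain ⟨w, rfl⟩ := hz
      rw [map_apply_of_injective _ hfinj _ _ hcof, hβ]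
    · rw [map_apply_of_notMem_range _ _ _ _ _ hz]
      symm
      apply hvan₁
      intro hz'
      apply hz
      rw [Scheme.Pullback.range_fst]
      exact hz'
  have hq : ∀ z₂, AlgebraicCycle.map (pullback.snd i₁ i₂)
      (fun z => δ (i₁ (pullback.fst i₁ i₂ z))) (fun x => δ (i₂ x)) β z₂ = α₂' z₂ := by
    intro z₂
    by_cases hz : z₂ ∈ Set.range (pullback.snd i₁ i₂)
    · obtain ⟨w, rfl⟩ := hz
      rw [map_apply_of_injective _ hsinj _ _ hcos, hβ]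
      exact hagree _ _ (hcond w)
    · rw [map_apply_of_notMem_range _ _ _ _ _ hz]
      symm
      apply hvan₂
      intro hz'
      apply hz
      rw [Scheme.Pullback.range_snd]
      exact hz'
  refine ⟨β, hβk, ?_, ?_⟩
  · show Cyc.RatEquivZero _ k (α₁ - _)
    refine ⟨{j : ι // ξ j ∈ Set.range i₁}, s₁, r₁, fun j => ?_, hr₁, hlf₁, ?_⟩
    · show δ (i₁ (s₁ j)) = k + 1
      rw [hdim₁ j, hξ j.1]
    · intro y
      rw [Function.locallyFinsuppWithin.coe_sub, Pi.sub_apply, hp, ← hB₁]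
      show α₁ y - (α₁ - B₁) y = B₁ y
      rw [Function.locallyFinsuppWithin.coe_sub, Pi.sub_apply]
      ring
  · show Cyc.RatEquivZero _ k (α₂ - _)
    refine ⟨{j : ι // ξ j ∉ Set.range i₁}, s₂, r₂, fun j => ?_, hr₂, hlf₂, ?_⟩
    · show δ (i₂ (s₂ j)) = k + 1
      rw [hdim₂ j, hξ j.1]
    · intro y
      rw [Function.locallyFinsuppWithin.coe_sub, Pi.sub_apply, hq, ← hB₂]
      show α₂ y - (α₂ - B₂) y = B₂ y
      rw [Function.locallyFinsuppWithin.coe_sub, Pi.sub_apply]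
      ring

end Groth.Agent.Lib.CycMV85
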