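import Groth.Agent.Lib.CycPullRatEquiv

set_option autoImplicit false
universe u
open CategoryTheory AlgebraicGeometry TopologicalSpace

/-!
# Principal divisors and open subschemes
-/

namespace Groth.Agent.Lib.CycOpenRestrict


theorem isDimFun_opens {X : Scheme.{u}} {δ : X → ℤ} (hδ : Cyc.IsDimFun X δ) (U : X.Opens) :
    Cyc.IsDimFun (↑U : Scheme.{u}) (fun u : ↥U => δ (U.ι u)) := by
  have hind : Topology.IsInducing (U.ι : ↥U → X) := U.ι.isOpenEmbedding.isInducing
  have hinj : Function.Injective (U.ι : ↥U → X) := U.ι.isOpenEmbedding.injective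
  intro x y hxy hne
  have hX := hδ (U.ι x) (U.ι y) (hind.specializes_iff.mpr hxy) (fun e => hne (hinj e))
  refine ⟨hX.1, fun himm => hX.2 ?_⟩
  intro z hxz hzy
  have hzU : z ∈ Set.range (U.ι : ↥U → X) :=
    hzy.mem_open U.ι.isOpenEmbedding.isOpen_range ⟨y, rfl⟩
  obtain ⟨z', rfl⟩ := hzU
  rcases himm z' (hind.specializes_iff.mp hxz) (hind.specializes_iff.mp hzy) with h | h
  · exact Or.inl (congrArg _ h)
  · exact Or.inr (congrArg _ h)

theorem length_quot_map_maximalIdeal {X Y : Scheme.{u}} (f : X ⟶ Y) [IsOpenImmersion f] (x : X) :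
    Module.length (X.presheaf.stalk x) (X.presheaf.stalk x ⧸
      Ideal.map (f.stalkMap x).hom (IsLocalRing.maximalIdeal (Y.presheaf.stalk (f x)))) = 1 := by
  have hbij : Function.Bijective (f.stalkMap x).hom :=
    (ConcreteCategory.isIso_iff_bijective (f.stalkMap x)).mp inferInstance
  have hmax : (Ideal.map (f.stalkMap x).hom
      (IsLocalRing.maximalIdeal (Y.presheaf.stalk (f x)))).IsMaximal :=
    (Ideal.isMaximal_map_iff_of_bijective _ hbij).mpr (IsLocalRing.maximalIdeal.isMaximal _)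
  rw [Module.length_eq_one_iff, isSimpleModule_iff_isCoatom, ← Ideal.isMaximal_def]
  exact hmax

open Groth.Agent.Lib.CycPullDivGen in
theorem divFun_opens {X : Scheme.{u}} [IsLocallyNoetherian X] {δ : X → ℤ}
    (hδ : Cyc.IsDimFun X δ) (U : X.Opens) (ξ : ↥U) (g' : X.residueField (U.ι ξ)) (hg' : g' ≠ 0)
    (u : ↥U) :
    Cyc.divFun δ (U.ι ξ) g' (U.ι u) =
      Cyc.divFun (X := (↑U : Scheme.{u})) (fun u : ↥U => δ (U.ι u)) ξ
        (U.ι.residueFieldMap ξ g') u := by
  have hinj : Function.Injective (U.ι : ↥U → X) := U.ι.isOpenEmbedding.injective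
  have key := pullFun_divFun (X := (↑U : Scheme.{u})) (Y := X) U.ι (isDimFun_opens hδ U) hδ 0
    (fun x _ => (add_zero _).symm) (U.ι ξ) g' hg' u
  have hP : Cyc.pullFun U.ι (fun u : ↥U => δ (U.ι u)) δ 0 (Cyc.divFun δ (U.ι ξ) g') u =
      if δ (U.ι u) = δ (U.ι u) + 0 then
        Cyc.divFun δ (U.ι ξ) g' (U.ι u) *
          ((Module.length ((↑U : Scheme.{u}).presheaf.stalk u)
            ((↑U : Scheme.{u}).presheaf.stalk u ⧸ Ideal.map (U.ι.stalkMap u).hom
              (IsLocalRing.maximalIdeal (X.presheaf.stalk (U.ι u))))).toNat : ℤ)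
      else 0 := rfl
  rw [hP, if_pos (add_zero _).symm, length_quot_map_maximalIdeal U.ι u] at key
  have hall : ∀ ζ : {ζ : (↑U : Scheme.{u}) // U.ι ζ = U.ι ξ ∧
      ∀ z, U.ι z = U.ι ζ → z ⤳ ζ → z = ζ}, ζ = ⟨ξ, rfl, fun z hz _ => hinj hz⟩ :=
    fun ζ => Subtype.ext (hinj ζ.2.1)
  rw [finsum_eq_single _ ⟨ξ, rfl, fun z hz _ => hinj hz⟩ (fun ζ hζ => absurd (hall ζ) hζ)] at key
  simp only [ENat.toNat_one, Nat.cast_one, mul_one] at key
  rw [key]
  have h1 : fibMult U.ι ξ = 1 := by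
    unfold fibMult
    rw [length_quot_map_maximalIdeal U.ι ξ]
    rfl
  rw [h1]
  simp
  rfl

theorem finite_mem_affine {X : Scheme.{u}} [IsLocallyNoetherian X] (U : X.Opens) {ι : Type u}
    (ξ : ι → ↥U)
    (hlf : ∀ u : ↥U, ∃ N : Set ↥U, IsOpen N ∧ u ∈ N ∧
      {i | (closure {ξ i} ∩ N).Nonempty}.Finite)
    (V : X.Opens) (hV : IsAffineOpen V) : {i | (ξ i).1 ∈ V}.Finite := by
  have hLF : LocallyFinite (fun i => closure ({ξ i} : Set ↥U)) := by
    intro u
    obtain ⟨N, hNo, huN, hfin⟩ := hlf u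
    exact ⟨N, hNo.mem_nhds huN, hfin⟩
  haveI : IsNoetherianRing Γ(X, V) := IsLocallyNoetherian.component_noetherian ⟨V, hV⟩
  have hNS : NoetherianSpace ((V : Set X) : Type u) := noetherianSpace_of_isAffineOpen V hV
  have hcomp : IsCompact ((Subtype.val : ↥U → X) ⁻¹' (V : Set X)) := by
    rw [Topology.IsEmbedding.subtypeVal.isCompact_iff]
    have : (Subtype.val : ↥U → X) '' ((Subtype.val : ↥U → X) ⁻¹' (V : Set X)) =
        (Subtype.val : ↥V → X) '' {v : ↥V | v.1 ∈ U} := by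
      ext x
      constructor
      · rintro ⟨u, hu, rfl⟩
        exact ⟨⟨u.1, hu⟩, u.2, rfl⟩
      · rintro ⟨v, hv, rfl⟩
        exact ⟨⟨v.1, hv⟩, v.2, rfl⟩
    rw [this]
    exact (hNS.isCompact _).image continuous_subtype_val
  refine (hLF.finite_nonempty_inter_compact hcomp).subset ?_
  intro i hi
  exact ⟨ξ i, subset_closure rfl, hi⟩

end Groth.Agent.Lib.CycOpenRestrict
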