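import Groth.Agent.Lib.PullbackStalkGen
import Groth.Agent.Lib.C1CapTensor
import Groth.Agent.Lib.CycBCProper

set_option autoImplicit false
universe u
open AlgebraicGeometry CategoryTheory IsLocalRing

/-!
# Flat pullback commutes with `c_1(L) ∩ -` (Stacks 02SR / 0B7F), up to rational equivalence
-/

namespace Groth.Agent.Lib.CycPullC1

open Groth.Agent.Lib.PullbackStalkGen Groth.Agent.Lib.C1CapIndep Groth.Agent.Lib.C1CapTensor
open Groth.Agent.Lib.CycPullDivGen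

section Basic

variable {X X' : Scheme.{u}} (p : X' ⟶ X)

theorem pullFun_congr_at (δ' : X' → ℤ) (δ : X → ℤ) (c : ℤ) (φ ψ : X → ℤ) (x' : X')
    (h : φ (p x') = ψ (p x')) :
    Cyc.pullFun p δ' δ c φ x' = Cyc.pullFun p δ' δ c ψ x' := by
  unfold Cyc.pullFun
  beta_reduce
  rw [h]

/-- downstairs: the divisor of a rational section in terms of a local generator. -/
theorem secDivFun_eq_divFun_of_generator {L : X.Modules} (hL : PicF.IsInvertible L) (δ : X → ℤ)
    (y η : X) (hη : η ⤳ y) (t : L.presheaf.stalk y)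
    (bij : Function.Bijective (fun a : X.presheaf.stalk y => a • t))
    (a : X.presheaf.stalk η) :
    Cyc.secDivFun δ L η (a • (Submodule.Quotient.mk ((L.presheaf.stalkSpecializes hη) t) :
      Cyc.secFibre L η)) y = Cyc.divFun δ η (X.residue η a) y := by
  unfold Cyc.secDivFun Cyc.divFun
  by_cases h : η ⤳ y ∧ δ y + 1 = δ η
  · rw [dif_pos h, dif_pos h]
    exact secOrdAt_smul_mk_generator hL η y h.1 t bij a
  · rw [dif_neg h, dif_neg h]

/-- upstairs: the pulled back rational section in terms of the pulled back generator. -/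
theorem mk_tau_eq {L : X.Modules} {ζ x' : X'} (h : ζ ⤳ x') (t : L.presheaf.stalk (p x'))
    (a : X.presheaf.stalk (p ζ)) (l : L.presheaf.stalk (p ζ))
    (hl : (Submodule.Quotient.mk l : Cyc.secFibre L (p ζ)) =
      a • (Submodule.Quotient.mk ((L.presheaf.stalkSpecializes (h.map p.continuous)) t) :
        Cyc.secFibre L (p ζ))) :
    (Submodule.Quotient.mk (tau p L ζ l) :
      Cyc.secFibre ((Scheme.Modules.pullback p).obj L) ζ) =
      (p.stalkMap ζ a) • (Submodule.Quotient.mk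
        ((((Scheme.Modules.pullback p).obj L).presheaf.stalkSpecializes h) (tau p L x' t)) :
        Cyc.secFibre ((Scheme.Modules.pullback p).obj L) ζ) := by
  rw [← Submodule.Quotient.mk_smul, Submodule.Quotient.eq] at hl ⊢
  have h1 := tau_mem_smul_top p L ζ _ hl
  rw [map_sub, tau_smul, ← tau_specializes] at h1
  exact h1

end Basic

section PerPoint

open Groth.Agent.Lib.H90Invertible Groth.Agent.Lib.H90PushStalkLocal

variable {X X' : Scheme.{u}} (p : X' ⟶ X) [Flat p] (δ : X → ℤ) (δ' : X' → ℤ)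

theorem pullFun_eq_zero_of_apply_eq_zero (c : ℤ) (φ : X → ℤ) (x' : X') (h : φ (p x') = 0) :
    Cyc.pullFun p δ' δ c φ x' = 0 := by
  unfold Cyc.pullFun
  beta_reduce
  rw [h, zero_mul, ite_self]

/-- **flat pullback of the divisor of a rational section of `L`**: it is the sum over the generic
points `ζ` of the fibre over `η` of the divisors of the pulled back rational section of `p^* L`. -/
theorem pullFun_secDivFun (hX : Cyc.IsSetup X δ) (hX' : Cyc.IsSetup X' δ') (c : ℤ)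
    (hc : ∀ x' : X', (∀ y, p y = p x' → y ⤳ x' → y = x') → δ' x' = δ (p x') + c)
    {L : X.Modules} (hL : PicF.IsInvertible L) (v : (η : X) → Cyc.secFibre L η)
    (hv : ∀ η, v η ≠ 0) (l' : (ζ : X') → L.presheaf.stalk (p ζ))
    (hl' : ∀ ζ, (Submodule.Quotient.mk (l' ζ) : Cyc.secFibre L (p ζ)) = v (p ζ))
    (η : X) (x' : X') :
    Cyc.pullFun p δ' δ c (Cyc.secDivFun δ L η (v η)) x' =
      ∑ᶠ ζ : {ζ : X' // p ζ = η ∧ ∀ z, p z = p ζ → z ⤳ ζ → z = ζ},
        (fibMult p ζ.1 : ℤ) * Cyc.secDivFun δ' ((Scheme.Modules.pullback p).obj L) ζ.1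
          (Submodule.Quotient.mk (tau p L ζ.1 (l' ζ.1))) x' := by
  obtain ⟨hXn, -, hXd⟩ := hX
  obtain ⟨hXn', -, hXd'⟩ := hX'
  haveI := hXn
  haveI := hXn'
  have hM := isInvertible_pullback p hL
  by_cases hηy : η ⤳ p x'
  · obtain ⟨V, hyV, e, he⟩ := (isInvertible_iff_exists_isGen L).mp hL (p x')
    have bij_t := IsGen.stalk_bijective he (p x') hyV
    have bij_sp := Groth.Agent.S1923.bijective_smul_stalkSpecializes hL hηy _
      (span_eq_top_of_bijective (p x') _ bij_t)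
    obtain ⟨a, ha⟩ := exists_smul_mk_eq η _ bij_sp (v η)
    have hane : a ∉ maximalIdeal (X.presheaf.stalk η) :=
      (smul_mk_ne_zero_iff η _ bij_sp a).mp (ha ▸ hv η)
    have hg : X.residue η a ≠ 0 := fun h0 => hane ((IsLocalRing.residue_eq_zero_iff _).mp h0)
    rw [pullFun_congr_at p δ' δ c _ (Cyc.divFun δ η (X.residue η a)) x'
      (by rw [ha]; exact secDivFun_eq_divFun_of_generator hL δ (p x') η hηy _ bij_t a),
      pullFun_divFun p hXd' hXd c hc η _ hg x']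
    refine finsum_congr fun ζ => ?_
    obtain ⟨ζ, e', hmax⟩ := ζ
    subst e'
    congr 1
    simp only [Scheme.residueFieldCongr_refl, Iso.refl_hom]
    unfold Cyc.divFun Cyc.secDivFun
    by_cases h : ζ ⤳ x' ∧ δ' x' + 1 = δ' ζ
    · rw [dif_pos h, dif_pos h]
      have hl : (Submodule.Quotient.mk (l' ζ) : Cyc.secFibre L (p ζ)) =
          a • (Submodule.Quotient.mk ((L.presheaf.stalkSpecializes (h.1.map p.continuous))
            (L.presheaf.germ V (p x') hyV e)) : Cyc.secFibre L (p ζ)) := by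
        rw [hl' ζ, ha]
      rw [mk_tau_eq p h.1 _ a (l' ζ) hl,
        secOrdAt_smul_mk_generator hM ζ x' h.1 _ (bijective_smul_tau p hL x' _ bij_t)]
      congr 1
    · rw [dif_neg h, dif_neg h]
  · rw [pullFun_eq_zero_of_apply_eq_zero p δ δ' c _ x'
      (by unfold Cyc.secDivFun; rw [dif_neg (fun h => hηy h.1)])]
    symm
    refine finsum_eq_zero_of_forall_eq_zero fun ζ => ?_
    unfold Cyc.secDivFun
    rw [dif_neg, mul_zero]
    intro h
    exact hηy (ζ.2.1 ▸ h.1.map p.continuous)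

end PerPoint

section Cycle

open Groth.Agent.Lib.H90Invertible Groth.Agent.Lib.H90PushStalkLocal
open Groth.Agent.Lib.CycPullRatEquiv Groth.Agent.Lib.CycFlatPull

variable {X X' : Scheme.{u}} (p : X' ⟶ X) [Flat p] (δ : X → ℤ) (δ' : X' → ℤ)

theorem mk_tau_eq_self {L : X.Modules} (ζ : X') (t : L.presheaf.stalk (p ζ))
    (a : X.presheaf.stalk (p ζ)) (l : L.presheaf.stalk (p ζ))
    (hl : (Submodule.Quotient.mk l : Cyc.secFibre L (p ζ)) =
      a • (Submodule.Quotient.mk t : Cyc.secFibre L (p ζ))) :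
    (Submodule.Quotient.mk (tau p L ζ l) :
      Cyc.secFibre ((Scheme.Modules.pullback p).obj L) ζ) =
      (p.stalkMap ζ a) • (Submodule.Quotient.mk (tau p L ζ t) :
        Cyc.secFibre ((Scheme.Modules.pullback p).obj L) ζ) := by
  rw [← Submodule.Quotient.mk_smul, Submodule.Quotient.eq] at hl ⊢
  have h1 := tau_mem_smul_top p L ζ _ hl
  rw [map_sub, tau_smul] at h1
  exact h1

/-- the pulled back rational section is nonzero. -/
theorem mk_tau_ne_zero {L : X.Modules} (hL : PicF.IsInvertible L) (ζ : X')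
    (l : L.presheaf.stalk (p ζ))
    (hl : (Submodule.Quotient.mk l : Cyc.secFibre L (p ζ)) ≠ 0) :
    (Submodule.Quotient.mk (tau p L ζ l) :
      Cyc.secFibre ((Scheme.Modules.pullback p).obj L) ζ) ≠ 0 := by
  obtain ⟨t, bij⟩ := exists_stalk_bijective_of_isInvertible hL (p ζ)
  obtain ⟨a, ha⟩ := exists_smul_mk_eq (p ζ) t bij (Submodule.Quotient.mk l)
  have hane : a ∉ maximalIdeal (X.presheaf.stalk (p ζ)) :=
    (smul_mk_ne_zero_iff (p ζ) t bij a).mp (ha ▸ hl)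
  rw [mk_tau_eq_self p ζ t a l ha]
  apply (smul_mk_ne_zero_iff ζ _ (bijective_smul_tau p hL ζ t bij) _).mpr
  intro hmem
  have hu : IsUnit a := by
    by_contra hnu
    exact hane ((IsLocalRing.mem_maximalIdeal _).mpr hnu)
  exact ((IsLocalRing.mem_maximalIdeal _).mp hmem) (hu.map (p.stalkMap ζ).hom)

variable [IsLocallyNoetherian X']

/-- the flat pullback of a cycle has locally finite support. -/
theorem locallyFinite_pullFun (hδ' : Cyc.IsDimFun X' δ') (c : ℤ)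
    (hc : ∀ x' : X', (∀ y, p y = p x' → y ⤳ x' → y = x') → δ' x' = δ (p x') + c)
    (α : AlgebraicCycle X ℤ) (x' : X') :
    ∃ U : Set X', IsOpen U ∧ x' ∈ U ∧
      (U ∩ Function.support (Cyc.pullFun p δ' δ c ⇑α)).Finite := by
  have hlf : ∀ x : X, ∃ U : Set X, IsOpen U ∧ x ∈ U ∧
      {i : {η : X // α η ≠ 0} | (closure {i.1} ∩ U).Nonempty}.Finite := by
    intro x
    obtain ⟨U, hUo, hxU, hfin⟩ := exists_open_finite α x
    refine ⟨U, hUo, hxU, ?_⟩
    have hsub : {i : {η : X // α η ≠ 0} | (closure {i.1} ∩ U).Nonempty} ⊆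
        Subtype.val ⁻¹' (U ∩ Function.support ⇑α) := by
      rintro i ⟨y, hy1, hy2⟩
      have hsp : i.1 ⤳ y := specializes_iff_mem_closure.mpr hy1
      exact ⟨hsp.mem_open hUo hy2, i.2⟩
    exact (hfin.preimage Subtype.val_injective.injOn).subset hsub
  obtain ⟨U, hUo, hxU, hfin⟩ := locallyFinite_fibre_maximal p
    (fun i : {η : X // α η ≠ 0} => i.1) hlf x'
  refine ⟨U, hUo, hxU, ?_⟩
  refine (hfin.image (fun j => j.2.1)).subset ?_
  rintro ζ ⟨hζU, hζ⟩
  rw [Function.mem_support] at hζ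
  have hcond : δ' ζ = δ (p ζ) + c := by
    by_contra hne
    apply hζ
    unfold Cyc.pullFun
    rw [if_neg hne]
  have hα : α (p ζ) ≠ 0 := by
    intro h0
    apply hζ
    unfold Cyc.pullFun
    rw [if_pos hcond, h0, zero_mul]
  have hmax := (delta_eq_iff hδ' hc ζ).mp hcond
  exact ⟨⟨⟨p ζ, hα⟩, ⟨ζ, rfl, hmax⟩⟩, ⟨ζ, subset_closure rfl, hζU⟩, rfl⟩

theorem exists_pullCycle (hδ' : Cyc.IsDimFun X' δ') (c : ℤ)
    (hc : ∀ x' : X', (∀ y, p y = p x' → y ⤳ x' → y = x') → δ' x' = δ (p x') + c)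
    (α : AlgebraicCycle X ℤ) :
    ∃ β : AlgebraicCycle X' ℤ, ⇑β = Cyc.pullFun p δ' δ c ⇑α := by
  refine ⟨{ toFun := Cyc.pullFun p δ' δ c ⇑α
            supportWithinDomain' := by simp
            supportLocallyFiniteWithinDomain' := fun z _ => ?_ }, rfl⟩
  obtain ⟨U, hUo, hzU, hfin⟩ := locallyFinite_pullFun p δ δ' hδ' c hc α z
  exact ⟨U, hUo.mem_nhds hzU, hfin⟩

end Cycle

section Main

open Groth.Agent.Lib.H90Invertible Groth.Agent.Lib.H90PushStalkLocal
open Groth.Agent.Lib.CycPullRatEquiv Groth.Agent.Lib.CycFlatPull Groth.Agent.Lib.CycBCProper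

variable {X X' : Scheme.{u}} (p : X' ⟶ X) [Flat p] (δ : X → ℤ) (δ' : X' → ℤ)

theorem pullFun_finsum_mul (c : ℤ) (α : X → ℤ) (S : X → X → ℤ) (x' : X') :
    Cyc.pullFun p δ' δ c (fun y => ∑ᶠ η, α η * S η y) x' =
      ∑ᶠ η, α η * Cyc.pullFun p δ' δ c (S η) x' := by
  unfold Cyc.pullFun
  beta_reduce
  by_cases h : δ' x' = δ (p x') + c
  · simp only [if_pos h]
    rw [finsum_mul]
    refine finsum_congr fun η => ?_
    ring
  · simp only [if_neg h, mul_zero, finsum_zero]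

/-- **Flat pullback commutes with `c_1(L) ∩ -` up to rational equivalence** (base change
setting, Stacks 02SR). -/
theorem pullFun_c1Cap_ratEquiv (hX : Cyc.IsSetup X δ) (hX' : Cyc.IsSetup X' δ') (c : ℤ)
    (hc : ∀ x' : X', (∀ y, p y = p x' → y ⤳ x' → y = x') → δ' x' = δ (p x') + c)
    {L : X.Modules} (hL : PicF.IsInvertible L) (k : ℤ) (α : AlgebraicCycle X ℤ)
    (hα : α ∈ Cyc.Zk X δ k) (v : (ξ : X) → Cyc.secFibre L ξ) (hv : ∀ ξ, v ξ ≠ 0)
    (u : (ξ : X') → Cyc.secFibre ((Scheme.Modules.pullback p).obj L) ξ) (hu : ∀ ξ, u ξ ≠ 0)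
    (γ₁ γ₂ : AlgebraicCycle X' ℤ)
    (h₁ : ⇑γ₁ = Cyc.pullFun p δ' δ c (Cyc.c1CapFun δ L ⇑α v))
    (h₂ : ⇑γ₂ = Cyc.c1CapFun δ' ((Scheme.Modules.pullback p).obj L)
      (Cyc.pullFun p δ' δ c ⇑α) u) :
    Cyc.RatEquiv δ' (k + c - 1) γ₁ γ₂ := by
  classical
  have hXd' := hX'.2.2
  haveI := hX'.1
  have hM := isInvertible_pullback p hL
  obtain ⟨β, hβ⟩ := exists_pullCycle p δ δ' hXd' c hc α
  have hβZ : β ∈ Cyc.Zk X' δ' (k + c - 1 + 1) := by
    intro x' hx'
    rw [hβ]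
    unfold Cyc.pullFun
    by_cases h : δ' x' = δ (p x') + c
    · rw [if_pos h, hα (p x') (by omega), zero_mul]
    · rw [if_neg h]
  choose l' hl' using fun ζ : X' => Submodule.Quotient.mk_surjective _ (v (p ζ))
  let u' : (ζ : X') → Cyc.secFibre ((Scheme.Modules.pullback p).obj L) ζ := fun ζ =>
    Submodule.Quotient.mk (tau p L ζ (l' ζ))
  have hu' : ∀ ζ, u' ζ ≠ 0 := fun ζ =>
    mk_tau_ne_zero p hL ζ (l' ζ) (by rw [hl']; exact hv (p ζ))
  have h₂' : ⇑γ₂ = Cyc.c1CapFun δ' ((Scheme.Modules.pullback p).obj L) ⇑β u := by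
    rw [h₂, hβ]
  refine ratEquiv_c1CapFun δ' hM (k + c - 1) β hβZ u' u hu' hu γ₁ γ₂ ?_ h₂'
  -- the pointwise identity
  funext x'
  rw [h₁]
  have hc1 : Cyc.c1CapFun δ L ⇑α v =
      fun y => ∑ᶠ η, α η * Cyc.secDivFun δ L η (v η) y := rfl
  rw [hc1, pullFun_finsum_mul]
  have hK : ∀ η, Cyc.pullFun p δ' δ c (Cyc.secDivFun δ L η (v η)) x' =
      ∑ᶠ ζ : {ζ : X' // p ζ = η ∧ ∀ z, p z = p ζ → z ⤳ ζ → z = ζ},
        (fibMult p ζ.1 : ℤ) * Cyc.secDivFun δ' ((Scheme.Modules.pullback p).obj L) ζ.1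
          (u' ζ.1) x' := fun η =>
    pullFun_secDivFun p δ δ' hX hX' c hc hL v hv l' hl' η x'
  simp only [hK]
  -- the right hand side, grouped by the image point
  have hR : Cyc.c1CapFun δ' ((Scheme.Modules.pullback p).obj L) ⇑β u' x' =
      ∑ᶠ ζ ∈ (Set.univ : Set X'),
        β ζ * Cyc.secDivFun δ' ((Scheme.Modules.pullback p).obj L) ζ (u' ζ) x' := by
    rw [finsum_mem_univ]; rfl
  rw [hR, finsum_mem_fiberwise Set.univ p _
    ((support_c1Cap_term_finite δ' _ β u' x').subset Set.inter_subset_right)]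
  refine finsum_congr fun η => ?_
  -- per image point
  rw [mul_finsum]
  have hF : ∀ ζ : X', ¬ (p ζ = η ∧ ∀ z, p z = p ζ → z ⤳ ζ → z = ζ) →
      (∑ᶠ (_ : ζ ∈ Set.univ ∩ p ⁻¹' {η}),
        β ζ * Cyc.secDivFun δ' ((Scheme.Modules.pullback p).obj L) ζ (u' ζ) x') = 0 := by
    intro ζ hζ
    by_cases hmem : ζ ∈ Set.univ ∩ p ⁻¹' {η}
    · rw [finsum_eq_if, if_pos hmem]
      have hpζ : p ζ = η := hmem.2
      have hnmax : ¬ δ' ζ = δ (p ζ) + c := fun h =>
        hζ ⟨hpζ, (delta_eq_iff hXd' hc ζ).mp h⟩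
      rw [hβ]
      unfold Cyc.pullFun
      rw [if_neg hnmax, zero_mul]
    · rw [finsum_eq_if, if_neg hmem]
  rw [Groth.Agent.S1925.finsum_eq_finsum_subtype _
    (fun ζ => p ζ = η ∧ ∀ z, p z = p ζ → z ⤳ ζ → z = ζ) hF]
  refine finsum_congr fun ζ => ?_
  have hmem : ζ.1 ∈ Set.univ ∩ p ⁻¹' {η} := ⟨trivial, ζ.2.1⟩
  rw [finsum_eq_if, if_pos hmem]
  have hmax : δ' ζ.1 = δ (p ζ.1) + c := hc ζ.1 ζ.2.2
  have hβζ : β ζ.1 = α η * (fibMult p ζ.1 : ℤ) := by
    rw [hβ]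
    unfold Cyc.pullFun fibMult
    rw [if_pos hmax, show α (p ζ.1) = α η from congrArg α ζ.2.1]
  rw [hβζ]
  ring

end Main

end Groth.Agent.Lib.CycPullC1
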