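import Groth.Agent.S1907
import Groth.Agent.Lib.CycFlatPull

set_option autoImplicit false
universe u
open CategoryTheory AlgebraicGeometry
open Cyc

/-!
# Flat pullback of a principal divisor, general form

`f : X → Y` flat, `δX, δY` dimension functions with the shift condition, `ξ ∈ Y` any point and
`g ∈ κ(ξ)^*`.  Then `f^*(div_ξ g) = Σ_ζ n_ζ div_ζ(g|ζ)` where `ζ` runs over the maximal points of the
fibre over `ξ` and `n_ζ` is the length of the local ring of the fibre at `ζ`.
-/

namespace Groth.Agent.Lib.CycPullDivGen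

section Alg

open IsLocalRing Pointwise TensorProduct

/-- lengths of quotients along a flat local homomorphism -/
theorem length_quot_map {A B : Type u} [CommRing A] [CommRing B] [IsLocalRing A]
    [IsLocalRing B] (φ : A →+* B) [IsLocalHom φ] (hflat : φ.Flat) (J : Ideal A) :
    Module.length B (B ⧸ J.map φ) =
      Module.length A (A ⧸ J) * Module.length B (B ⧸ (maximalIdeal A).map φ) := by
  letI := φ.toAlgebra
  haveI : Module.Flat A B := hflat
  haveI : IsLocalHom (algebraMap A B) := inferInstanceAs (IsLocalHom φ)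
  have h1 := IsLocalRing.length_baseChange A B (A ⧸ J)
  have e := (Algebra.TensorProduct.quotIdealMapEquivTensorQuot B J).toLinearEquiv
  rw [← e.length_eq] at h1
  exact h1

/-- `length_A (A/(I + (a))) = ord_{A/I}(a)` -/
theorem length_quot_sup_span {A : Type u} [CommRing A] (I : Ideal A) (a : A) :
    Module.length A (A ⧸ (I ⊔ Ideal.span {a})) = Ring.ord (A ⧸ I) (Ideal.Quotient.mk I a) := by
  unfold Ring.ord
  rw [← Module.length_eq_of_surjective (S := A) (R := A ⧸ I)
    (M := (A ⧸ I) ⧸ Ideal.span {Ideal.Quotient.mk I a}) Ideal.Quotient.mk_surjective]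
  have h1 : Ideal.span {Ideal.Quotient.mk I a} =
      (Ideal.span {a}).map (Ideal.Quotient.mkₐ A I) := by
    rw [Ideal.map_span, Set.image_singleton]; rfl
  have e1 := (DoubleQuot.quotQuotEquivQuotSupₐ A I (Ideal.span {a})).toLinearEquiv
  rw [h1]
  exact e1.length_eq.symm

/-- `(B/I)/y(B/I) ≅ B/(I + (y))` on lengths -/
theorem length_quotQuot_smul_top {B : Type u} [CommRing B] (I : Ideal B) (y : B) :
    Module.length B ((B ⧸ I) ⧸ y • (⊤ : Submodule B (B ⧸ I))) =
      Module.length B (B ⧸ (I ⊔ Ideal.span {y})) := by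
  have h : ((Ideal.span {y}).map (Ideal.Quotient.mkₐ B I)).restrictScalars B =
      y • (⊤ : Submodule B (B ⧸ I)) := by
    rw [Ideal.map_span, Set.image_singleton]
    ext z
    rw [Submodule.restrictScalars_mem, Ideal.mem_span_singleton',
      Submodule.mem_smul_pointwise_iff_exists]
    constructor
    · rintro ⟨a, rfl⟩
      refine ⟨a, Submodule.mem_top, ?_⟩
      rw [Algebra.smul_def, mul_comm]; rfl
    · rintro ⟨a, -, rfl⟩
      refine ⟨a, ?_⟩
      rw [Algebra.smul_def, mul_comm]; rfl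
  have e1 := (DoubleQuot.quotQuotEquivQuotSupₐ B I (Ideal.span {y})).toLinearEquiv
  rw [← e1.length_eq]
  exact ((Submodule.quotEquivOfEq _ _ h).symm ≪≫ₗ
    Submodule.Quotient.restrictScalarsEquiv B _).length_eq

/-- a nonzerodivisor modulo `I` stays a nonzerodivisor on `B/IB` for `B` flat -/
theorem ker_lsmul_quot_eq_bot {A B : Type u} [CommRing A] [CommRing B]
    (φ : A →+* B) (hflat : φ.Flat) (I : Ideal A) (a : A)
    (ha : Ideal.Quotient.mk I a ∈ nonZeroDivisors (A ⧸ I)) :
    LinearMap.ker (LinearMap.lsmul B (B ⧸ I.map φ) (φ a)) = ⊥ := by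
  letI := φ.toAlgebra
  haveI : Module.Flat A B := hflat
  have e := (Algebra.TensorProduct.quotIdealMapEquivQuotTensor B I).toLinearEquiv
  haveI : Module.Flat (A ⧸ I) ((A ⧸ I) ⊗[A] B) := inferInstance
  haveI : Module.Flat (A ⧸ I) (B ⧸ I.map (algebraMap A B)) := Module.Flat.of_linearEquiv e
  have hreg : IsSMulRegular (B ⧸ I.map (algebraMap A B)) (Ideal.Quotient.mk I a) :=
    Module.Flat.isSMulRegular_of_nonZeroDivisors ha
  rw [LinearMap.ker_eq_bot]
  intro b b' hbb
  apply hreg
  simp only [LinearMap.lsmul_apply] at hbb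
  obtain ⟨b, rfl⟩ := Ideal.Quotient.mk_surjective b
  obtain ⟨b', rfl⟩ := Ideal.Quotient.mk_surjective b'
  exact hbb

end Alg

section Loc

theorem length_quot_eq_of_ringEquiv {A B : Type u} [CommRing A] [CommRing B] (e : A ≃+* B)
    (J : Ideal A) :
    Module.length A (A ⧸ J) = Module.length B (B ⧸ J.map (e : A →+* B)) := by
  letI : Algebra A B := e.toRingHom.toAlgebra
  have h1 : Module.length A (B ⧸ J.map (e : A →+* B)) =
      Module.length B (B ⧸ J.map (e : A →+* B)) :=
    Module.length_eq_of_surjective (S := A) (R := B) e.surjective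
  rw [← h1]
  let ψ : (A ⧸ J) ≃+* (B ⧸ J.map (e : A →+* B)) :=
    Ideal.quotientEquiv J (J.map (e : A →+* B)) e rfl
  let ψ' : (A ⧸ J) ≃ₗ[A] (B ⧸ J.map (e : A →+* B)) :=
    { ψ with
      map_smul' := fun r m => by
        obtain ⟨a, rfl⟩ := Ideal.Quotient.mk_surjective m
        change ψ (Ideal.Quotient.mk J (r * a)) = algebraMap A B r • ψ (Ideal.Quotient.mk J a)
        change Ideal.Quotient.mk _ (e (r * a)) = e r • Ideal.Quotient.mk _ (e a)
        rw [map_mul]
        rfl }
  exact ψ'.length_eq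

theorem ellq_quot {R : Type u} [CommRing R] (q : Ideal R) [q.IsPrime] (S : Type u) [CommRing S]
    [Algebra R S] [IsLocalization.AtPrime S q] (I : Ideal R) :
    Module.length (Localization.AtPrime q) (LocalizedModule q.primeCompl (R ⧸ I)) =
      Module.length S (S ⧸ I.map (algebraMap R S)) := by
  let Rq := Localization.AtPrime q
  let f₀ := Submodule.toLocalizedQuotient' Rq q.primeCompl (Algebra.linearMap R Rq) I
  have e₀ : LocalizedModule q.primeCompl (R ⧸ I) ≃ₗ[R]
      Rq ⧸ Submodule.localized' Rq q.primeCompl (Algebra.linearMap R Rq) I :=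
    IsLocalizedModule.iso q.primeCompl f₀
  have h1 := (e₀.extendScalarsOfIsLocalization q.primeCompl Rq).length_eq
  rw [h1]
  have h2 : Submodule.localized' Rq q.primeCompl (Algebra.linearMap R Rq) I =
      I.map (algebraMap R Rq) := Ideal.localized'_eq_map Rq q.primeCompl I
  have h3 : Module.length Rq (Rq ⧸ Submodule.localized' Rq q.primeCompl (Algebra.linearMap R Rq) I) =
      Module.length Rq (Rq ⧸ I.map (algebraMap R Rq)) := by rw [h2]
  rw [h3]
  let e := (IsLocalization.algEquiv q.primeCompl Rq S)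
  rw [length_quot_eq_of_ringEquiv e.toRingEquiv]
  have h4 : (I.map (algebraMap R Rq)).map (e.toRingEquiv : Rq →+* S) = I.map (algebraMap R S) := by
    rw [Ideal.map_map]
    congr 1
    ext r
    simp [e]
  rw [h4]

open Groth.Agent.Lib.LocFact82 Groth.Agent.Lib.LenQuotFormula

theorem map_genPrime_eq {X Y : Scheme.{u}} (f : X ⟶ Y) (x ζ : X) (h : ζ ⤳ x) :
    (((genPrime Y (f.base.hom.map_specializes h)).map (f.stalkMap x).hom).map
        (X.presheaf.stalkSpecializes h).hom) =
      (IsLocalRing.maximalIdeal (Y.presheaf.stalk (f ζ))).map (f.stalkMap ζ).hom := by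
  rw [Ideal.map_map]
  have hcomm : (X.presheaf.stalkSpecializes h).hom.comp (f.stalkMap x).hom =
      (f.stalkMap ζ).hom.comp
        (Y.presheaf.stalkSpecializes (f.base.hom.map_specializes h)).hom := by
    rw [← CommRingCat.hom_comp, ← CommRingCat.hom_comp,
      Scheme.Hom.stalkSpecializes_stalkMap f ζ x h]
  rw [hcomm, ← Ideal.map_map]
  congr 1
  let _ := (Y.presheaf.stalkSpecializes (f.base.hom.map_specializes h)).hom.toAlgebra
  have := isLocalization_genPrime Y (f.base.hom.map_specializes h)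
  exact IsLocalization.AtPrime.map_eq_maximalIdeal
    (genPrime Y (f.base.hom.map_specializes h)) (Y.presheaf.stalk (f ζ))

theorem ellq_fibre {X Y : Scheme.{u}} (f : X ⟶ Y) (x ζ : X) (h : ζ ⤳ x) :
    ellq (X.presheaf.stalk x ⧸
        (genPrime Y (f.base.hom.map_specializes h)).map (f.stalkMap x).hom)
      (⟨genPrime X h, inferInstance⟩ : PrimeSpectrum (X.presheaf.stalk x)) =
    Module.length (X.presheaf.stalk ζ) (X.presheaf.stalk ζ ⧸
      (IsLocalRing.maximalIdeal (Y.presheaf.stalk (f ζ))).map (f.stalkMap ζ).hom) := by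
  unfold ellq
  let _ := (X.presheaf.stalkSpecializes h).hom.toAlgebra
  have := isLocalization_genPrime X h
  rw [ellq_quot (genPrime X h) (X.presheaf.stalk ζ)]
  have := map_genPrime_eq f x ζ h
  change Module.length (X.presheaf.stalk ζ) (X.presheaf.stalk ζ ⧸
    (((genPrime Y (f.base.hom.map_specializes h)).map (f.stalkMap x).hom).map
        (X.presheaf.stalkSpecializes h).hom)) = _
  rw [this]

end Loc

section Points

open Groth.Agent.Lib.LocFact82 Groth.Agent.Lib.LenQuotFormula Groth.Agent.S1907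

variable {X Y : Scheme.{u}}

theorem genPrime_congr {ζ ζ' x : X} (e : ζ = ζ') (h : ζ ⤳ x) (h' : ζ' ⤳ x) :
    genPrime X h = genPrime X h' := by
  subst e; rfl

/-- the prime of `f ζ` in `O_{Y,f x}` is the contraction of the prime of `ζ` in `O_{X,x}` -/
theorem comap_genPrime (f : X ⟶ Y) (x ζ : X) (h : ζ ⤳ x) :
    (genPrime X h).comap (f.stalkMap x).hom = genPrime Y (f.base.hom.map_specializes h) := by
  ext a
  rw [Ideal.mem_comap, ← ker_specMap_eq_genPrime, ← ker_specMap_eq_genPrime, RingHom.mem_ker,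
    RingHom.mem_ker, ← Groth.Agent.S1905.specMap_comm f x ζ h a]
  exact map_eq_zero_iff _ (RingHom.injective _)

theorem support_quot_eq {B : Type u} [CommRing B] (I : Ideal B) :
    Module.support B (B ⧸ I) = PrimeSpectrum.zeroLocus I := by
  rw [Module.support_eq_zeroLocus, Ideal.annihilator_quotient]

variable (f : X ⟶ Y) {δX : X → ℤ} {δY : Y → ℤ}
  (hXd : Cyc.IsDimFun X δX) (hYd : Cyc.IsDimFun Y δY) {c : ℤ}
  (hle : ∀ z : X, δX z ≤ δY (f z) + c)

include hXd hYd hle in
theorem support_props (x : X) (ξ : Y) (hη : ξ ⤳ f x) (hx1 : δX x + 1 = δY ξ + c) (ζ : X)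
    (h : ζ ⤳ x) (hI : (genPrime Y hη).map (f.stalkMap x).hom ≤ genPrime X h) :
    δX ζ ≤ δY ξ + c ∧ (ζ ≠ x → δX ζ = δY ξ + c ∧ f ζ = ξ) := by
  have h1 : genPrime Y hη ≤ genPrime Y (f.base.hom.map_specializes h) := by
    rw [← comap_genPrime f x ζ h]
    exact Ideal.map_le_iff_le_comap.mp hI
  have h2 : ξ ⤳ f ζ := specializes_of_genPrime_le (f.base.hom.map_specializes h) hη h1
  have h3 := Groth.Agent.S6462.delta_le_of_specializes hYd h2
  have h4 := hle ζ
  refine ⟨by omega, fun hne => ?_⟩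
  have h5 := (hXd ζ x h hne).1
  refine ⟨by omega, ?_⟩
  by_contra hfζ
  have h6 := (hYd ξ (f ζ) h2 (fun e => hfζ e.symm)).1
  omega

include hXd hYd hle in
theorem good_quot (x : X) (ξ : Y) (hη : ξ ⤳ f x) (hx1 : δX x + 1 = δY ξ + c)
    (a : Y.presheaf.stalk (f x)) (ha : a ∉ genPrime Y hη) :
    Good ((f.stalkMap x).hom a)
      (X.presheaf.stalk x ⧸ (genPrime Y hη).map (f.stalkMap x).hom) := by
  constructor
  · intro q hqs q' hqs' hlt
    rw [support_quot_eq, PrimeSpectrum.mem_zeroLocus, SetLike.coe_subset_coe] at hqs hqs'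
    obtain ⟨ζ, h, hq⟩ := exists_genPrime_eq X x q.asIdeal
    obtain ⟨ζ', h', hq'⟩ := exists_genPrime_eq X x q'.asIdeal
    by_contra hqm
    have hne : ζ ≠ x := fun e => hqm (hq ▸ genPrime_eq_maximalIdeal h e)
    have hsp : ζ' ⤳ ζ := specializes_of_genPrime_le h h' (by rw [hq, hq']; exact hlt.le)
    have hne' : ζ' ≠ ζ := by
      rintro rfl
      exact hlt.ne (PrimeSpectrum.ext (hq'.symm.trans hq))
    have h1 := ((support_props f hXd hYd hle x ξ hη hx1 ζ h (hq ▸ hqs)).2 hne).1
    have h2 := (hXd ζ' ζ hsp hne').1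
    have h3 := (support_props f hXd hYd hle x ξ hη hx1 ζ' h' (hq' ▸ hqs')).1
    omega
  · intro q hqs hxq
    rw [support_quot_eq, PrimeSpectrum.mem_zeroLocus, SetLike.coe_subset_coe] at hqs
    obtain ⟨ζ, h, hq⟩ := exists_genPrime_eq X x q.asIdeal
    by_contra hqm
    have hne : ζ ≠ x := fun e => hqm (hq ▸ genPrime_eq_maximalIdeal h e)
    have hfζ := ((support_props f hXd hYd hle x ξ hη hx1 ζ h (hq ▸ hqs)).2 hne).2
    apply ha
    rw [genPrime_congr hfζ.symm hη (f.base.hom.map_specializes h), ← comap_genPrime f x ζ h,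
      Ideal.mem_comap, hq]
    exact hxq

end Points

section Formula

open Groth.Agent.Lib.LocFact82 Groth.Agent.Lib.LenQuotFormula Groth.Agent.S1907
open Pointwise

theorem toNat_length_formula_module {B : Type u} [CommRing B] [IsNoetherianRing B] [IsLocalRing B]
    (M : Type u) [AddCommGroup M] [Module B M] [Module.Finite B M] (y : B)
    (hG : Good y M) (hker : LinearMap.ker (LinearMap.lsmul B M y) = ⊥) :
    (Module.length B (M ⧸ y • (⊤ : Submodule B M))).toNat =
      ∑ᶠ q ∈ {q | q ∈ Module.support B M ∧ q.asIdeal ≠ IsLocalRing.maximalIdeal B},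
        (c y q).toNat * (ellq M q).toNat := by
  have hmain := main (x := y) M hG
  have hfin := hG.length_quot_lt_top
  have h0 : Module.length B (LinearMap.ker (LinearMap.lsmul B M y)) = 0 := by
    rw [hker]
    exact Module.length_eq_zero
  rw [h0, zero_add] at hmain
  have hTfin := hG.finite
  have hS : S y M = ∑ᶠ q ∈ {q | q ∈ Module.support B M ∧
      q.asIdeal ≠ IsLocalRing.maximalIdeal B}, c y q * ellq M q := by
    unfold S
    refine finsum_mem_inter_support_eq' _ (T B)
      {p | p ∈ Module.support B M ∧ p.asIdeal ≠ IsLocalRing.maximalIdeal B} ?_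
    intro q hq
    constructor
    · intro hqT
      exact support_term_subset y ⟨hqT, hq⟩
    · intro h
      exact h.2
  rw [hS, finsum_mem_eq_finite_toFinset_sum _ hTfin] at hmain
  rw [finsum_mem_eq_finite_toFinset_sum _ hTfin, hmain]
  rw [hmain] at hfin
  have hne : ∀ q ∈ hTfin.toFinset, c y q * ellq M q ≠ ⊤ := ENat.sum_ne_top.mp hfin.ne
  rw [ENat.toNat_sum hne]
  refine Finset.sum_congr rfl fun q _ => ?_
  rw [ENat.toNat_mul]

theorem reindex' {X : Scheme.{u}} (x : X) (P : X → Prop)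
    (Q : Set (PrimeSpectrum (X.presheaf.stalk x))) (F : {ξ : X // P ξ} → ℤ)
    (G : PrimeSpectrum (X.presheaf.stalk x) → ℤ)
    (hF : ∀ ξ : {ξ : X // P ξ}, ∀ h : ξ.1 ⤳ x, F ξ = G ⟨genPrime X h, inferInstance⟩)
    (hF0 : ∀ ξ : {ξ : X // P ξ}, ¬ ξ.1 ⤳ x → F ξ = 0)
    (hne : ∀ ξ : {ξ : X // P ξ}, ξ.1 ≠ x)
    (hQ : ∀ ξ : {ξ : X // P ξ}, ∀ h : ξ.1 ⤳ x,
      (⟨genPrime X h, inferInstance⟩ : PrimeSpectrum (X.presheaf.stalk x)) ∈ Q)
    (hP : ∀ ζ : X, ∀ h : ζ ⤳ x, ζ ≠ x →
      (⟨genPrime X h, inferInstance⟩ : PrimeSpectrum (X.presheaf.stalk x)) ∈ Q → P ζ) :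
    ∑ᶠ ξ, F ξ = ∑ᶠ q ∈ {q | q ∈ Q ∧ q.asIdeal ≠ IsLocalRing.maximalIdeal (X.presheaf.stalk x)},
      G q := by
  classical
  let e : {ξ : X // P ξ} → PrimeSpectrum (X.presheaf.stalk x) := fun ξ =>
    if h : ξ.1 ⤳ x then ⟨genPrime X h, inferInstance⟩ else IsLocalRing.closedPoint _
  let s : Set {ξ : X // P ξ} := {ξ | ξ.1 ⤳ x}
  have hsupp : Function.support F ⊆ s := by
    intro ξ hξ
    by_contra hns
    exact hξ (hF0 ξ hns)
  rw [← finsum_mem_univ, finsum_mem_inter_support_eq' F Set.univ s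
    (fun ξ hξ => ⟨fun _ => hsupp hξ, fun _ => trivial⟩)]
  refine finsum_mem_eq_of_bijOn e ⟨?_, ?_, ?_⟩ ?_
  · intro ξ (hξ : ξ.1 ⤳ x)
    show e ξ ∈ Q ∧ (e ξ).asIdeal ≠ IsLocalRing.maximalIdeal _
    simp only [e, dif_pos hξ]
    refine ⟨hQ ξ hξ, ?_⟩
    intro heq
    rw [← genPrime_refl X x] at heq
    exact hne ξ (eq_of_genPrime_eq X hξ specializes_rfl heq)
  · intro ξ (hξ : ξ.1 ⤳ x) ξ' (hξ' : ξ'.1 ⤳ x) hee
    simp only [e, dif_pos hξ, dif_pos hξ'] at hee
    exact Subtype.ext (eq_of_genPrime_eq X hξ hξ' (congrArg PrimeSpectrum.asIdeal hee))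
  · rintro q ⟨hqQ, hq⟩
    obtain ⟨ζ, h, hζ⟩ := exists_genPrime_eq X x q.asIdeal
    have hζx : ζ ≠ x := fun e' => hq (hζ ▸ genPrime_eq_maximalIdeal h e')
    have hqe : (⟨genPrime X h, inferInstance⟩ : PrimeSpectrum (X.presheaf.stalk x)) = q :=
      PrimeSpectrum.ext hζ
    refine ⟨⟨ζ, hP ζ h hζx (hqe ▸ hqQ)⟩, h, ?_⟩
    simp only [e, dif_pos h]
    exact hqe
  · intro ξ (hξ : ξ.1 ⤳ x)
    simp only [e, dif_pos hξ]
    exact hF ξ hξ

end Formula

section KeyLen

open IsLocalRing Pointwise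

/-- the algebraic heart: `length_B((B/𝔭B)/φ(a)) = ord_{A/𝔭}(a) · length_B(B/𝔪_A B)` for a flat local
homomorphism `φ : A → B` -/
theorem key_len {A B : Type u} [CommRing A] [CommRing B] [IsLocalRing A]
    [IsLocalRing B] (φ : A →+* B) [IsLocalHom φ] (hflat : φ.Flat) (𝔭 : Ideal A) (a : A) :
    Module.length B ((B ⧸ 𝔭.map φ) ⧸ φ a • (⊤ : Submodule B (B ⧸ 𝔭.map φ))) =
      Ring.ord (A ⧸ 𝔭) (Ideal.Quotient.mk 𝔭 a) *
        Module.length B (B ⧸ (maximalIdeal A).map φ) := by
  rw [length_quotQuot_smul_top, ← length_quot_sup_span, ← length_quot_map φ hflat,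
    Ideal.map_sup, Ideal.map_span, Set.image_singleton]

theorem ellq_congr {B : Type u} [CommRing B] (I J : Ideal B) (e : I = J)
    (q : PrimeSpectrum B) :
    Groth.Agent.Lib.LenQuotFormula.ellq (B ⧸ I) q =
      Groth.Agent.Lib.LenQuotFormula.ellq (B ⧸ J) q := by
  subst e; rfl

end KeyLen

section Main

open Groth.Agent.Lib.LocFact82 Groth.Agent.Lib.LenQuotFormula Groth.Agent.S1907 IsLocalRing
open Pointwise

variable {X Y : Scheme.{u}}

/-- the multiplicity of the fibre of `f` at `ζ`: the length of `O_{X,ζ}/𝔪_{f ζ} O_{X,ζ}` -/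
noncomputable def fibMult (f : X ⟶ Y) (ζ : X) : ℕ :=
  (Module.length (X.presheaf.stalk ζ) (X.presheaf.stalk ζ ⧸
    Ideal.map (f.stalkMap ζ).hom (maximalIdeal (Y.presheaf.stalk (f ζ))))).toNat

/-- **Flat pullback of a principal divisor** (general form). -/
theorem pullFun_divFun [IsLocallyNoetherian X] [IsLocallyNoetherian Y] (f : X ⟶ Y) [Flat f]
    {δX : X → ℤ} {δY : Y → ℤ} (hXd : Cyc.IsDimFun X δX) (hYd : Cyc.IsDimFun Y δY) (c : ℤ)
    (hc : ∀ x : X, (∀ y, f y = f x → y ⤳ x → y = x) → δX x = δY (f x) + c)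
    (ξ : Y) (g : Y.residueField ξ) (hg : g ≠ 0) (x : X) :
    Cyc.pullFun f δX δY c (Cyc.divFun δY ξ g) x =
      ∑ᶠ ζ : {ζ : X // f ζ = ξ ∧ ∀ z, f z = f ζ → z ⤳ ζ → z = ζ},
        (fibMult f ζ.1 : ℤ) * Cyc.divFun δX ζ.1
          (f.residueFieldMap ζ.1 ((Y.residueFieldCongr ζ.2.1.symm).hom g)) x := by
  classical
  have hle : ∀ z : X, δX z ≤ δY (f z) + c := fun z =>
    Groth.Agent.Lib.CycFlatPull.delta_le (p := f) (δ := δY) (δ' := δX) (c := c) hXd hc z
  have hidx : ∀ ζ : {ζ : X // f ζ = ξ ∧ ∀ z, f z = f ζ → z ⤳ ζ → z = ζ},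
      δX ζ.1 = δY ξ + c := by
    intro ζ
    rw [hc ζ.1 ζ.2.2, ζ.2.1]
  have hLdiv : Cyc.divFun δY ξ g (f x) =
      if h : ξ ⤳ f x ∧ δY (f x) + 1 = δY ξ then Cyc.ordAt (f x) ξ h.1 g else 0 := rfl
  have hLHS : Cyc.pullFun f δX δY c (Cyc.divFun δY ξ g) x =
      if δX x = δY (f x) + c then
        Cyc.divFun δY ξ g (f x) *
          ((Module.length (X.presheaf.stalk x)
            (X.presheaf.stalk x ⧸ Ideal.map (f.stalkMap x).hom
              (IsLocalRing.maximalIdeal (Y.presheaf.stalk (f x))))).toNat : ℤ)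
      else 0 := rfl
  have hdivX : ∀ (ζ : X) (u : X.residueField ζ), Cyc.divFun δX ζ u x =
      if h : ζ ⤳ x ∧ δX x + 1 = δX ζ then Cyc.ordAt x ζ h.1 u else 0 := fun _ _ => rfl
  rw [hLHS]
  by_cases hx1 : δX x + 1 = δY ξ + c
  · by_cases hη : ξ ⤳ f x
    · -- the main case
      haveI : IsNoetherianRing (X.presheaf.stalk x) := inferInstance
      haveI : IsNoetherianRing (Y.presheaf.stalk (f x)) := inferInstance
      have hflat : (f.stalkMap x).hom.Flat := Flat.stalkMap f x
      have hker : RingHom.ker (Cyc.specMap (f x) ξ hη) = genPrime Y hη :=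
        ker_specMap_eq_genPrime _ _ _
      haveI hfrY := isFractionRing_locQuot (f x) ξ hη
      haveI : (RingHom.ker (Cyc.specMap (f x) ξ hη)).IsPrime := RingHom.ker_isPrime _
      haveI hdomY : IsDomain (Cyc.LocQuot (f x) ξ hη) := Ideal.Quotient.isDomain _
      obtain ⟨a', b', hb', hab⟩ := IsFractionRing.div_surjective
        (A := Cyc.LocQuot (f x) ξ hη) g
      obtain ⟨a, rfl⟩ := Ideal.Quotient.mk_surjective a'
      obtain ⟨b, rfl⟩ := Ideal.Quotient.mk_surjective b'
      have hb0 : Ideal.Quotient.mk (RingHom.ker (Cyc.specMap (f x) ξ hη)) b ≠ 0 :=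
        nonZeroDivisors.ne_zero hb'
      have ha0 : Ideal.Quotient.mk (RingHom.ker (Cyc.specMap (f x) ξ hη)) a ≠ 0 := by
        intro h0
        apply hg
        rw [← hab, h0, map_zero, zero_div]
      have ha𝔭 : a ∉ genPrime Y hη := by
        rw [← hker]
        intro h
        exact ha0 (Ideal.Quotient.eq_zero_iff_mem.mpr h)
      have hb𝔭 : b ∉ genPrime Y hη := by
        rw [← hker]
        intro h
        exact hb0 (Ideal.Quotient.eq_zero_iff_mem.mpr h)
      have hsa : Cyc.specMap (f x) ξ hη a ≠ 0 := fun h => ha𝔭 (hker ▸ RingHom.mem_ker.mpr h)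
      have hsb : Cyc.specMap (f x) ξ hη b ≠ 0 := fun h => hb𝔭 (hker ▸ RingHom.mem_ker.mpr h)
      have hmk : ∀ c : Y.presheaf.stalk (f x),
          algebraMap (Cyc.LocQuot (f x) ξ hη) (Y.residueField ξ) (Ideal.Quotient.mk _ c) =
          Cyc.specMap (f x) ξ hη c := fun c => rfl
      have hGa := good_quot f hXd hYd hle x ξ hη hx1 a ha𝔭
      have hGb := good_quot f hXd hYd hle x ξ hη hx1 b hb𝔭
      haveI : IsDomain (Y.presheaf.stalk (f x) ⧸ genPrime Y hη) := Ideal.Quotient.isDomain _
      have hka := ker_lsmul_quot_eq_bot (f.stalkMap x).hom hflat (genPrime Y hη) a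
        (mem_nonZeroDivisors_iff_ne_zero.mpr
          (fun h => ha𝔭 (Ideal.Quotient.eq_zero_iff_mem.mp h)))
      have hkb := ker_lsmul_quot_eq_bot (f.stalkMap x).hom hflat (genPrime Y hη) b
        (mem_nonZeroDivisors_iff_ne_zero.mpr
          (fun h => hb𝔭 (Ideal.Quotient.eq_zero_iff_mem.mp h)))
      have hTfin := hGa.finite
      have hLa := congrArg (Nat.cast : ℕ → ℤ) (toNat_length_formula_module _ _ hGa hka)
      have hLb := congrArg (Nat.cast : ℕ → ℤ) (toNat_length_formula_module _ _ hGb hkb)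
      rw [finsum_mem_eq_finite_toFinset_sum _ hTfin] at hLa hLb
      push_cast at hLa hLb
      -- the right hand side
      have hRHS := reindex' x (fun ζ : X => f ζ = ξ ∧ ∀ z, f z = f ζ → z ⤳ ζ → z = ζ)
        (Module.support (X.presheaf.stalk x)
          (X.presheaf.stalk x ⧸ (genPrime Y hη).map (f.stalkMap x).hom))
        (fun ζ => (fibMult f ζ.1 : ℤ) * Cyc.divFun δX ζ.1
          (f.residueFieldMap ζ.1 ((Y.residueFieldCongr ζ.2.1.symm).hom g)) x)
        (fun q => (((Groth.Agent.Lib.LenQuotFormula.c ((f.stalkMap x).hom a) q).toNat : ℤ) -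
            ((Groth.Agent.Lib.LenQuotFormula.c ((f.stalkMap x).hom b) q).toNat : ℤ)) *
          ((Groth.Agent.Lib.LenQuotFormula.ellq
            (X.presheaf.stalk x ⧸ (genPrime Y hη).map (f.stalkMap x).hom) q).toNat : ℤ))
        (by
          intro ζ h
          have hδζ := hidx ζ
          have hgζ : (f.residueFieldMap ζ.1) ((Y.residueFieldCongr ζ.2.1.symm).hom g) =
              Cyc.specMap x ζ.1 h ((f.stalkMap x).hom a) /
                Cyc.specMap x ζ.1 h ((f.stalkMap x).hom b) := by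
            rw [← hab, hmk, hmk]
            change (f.residueFieldMap ζ.1).hom ((Y.residueFieldCongr ζ.2.1.symm).hom _) = _
            rw [map_div₀, map_div₀,
              residueFieldMap_congr_specMap f x ζ.1 h ξ ζ.2.1 hη a,
              residueFieldMap_congr_specMap f x ζ.1 h ξ ζ.2.1 hη b]
          have hna : Cyc.specMap x ζ.1 h ((f.stalkMap x).hom a) ≠ 0 := by
            rw [← residueFieldMap_congr_specMap f x ζ.1 h ξ ζ.2.1 hη a]
            intro h0
            exact hsa ((map_eq_zero_iff _ (RingHom.injective _)).mp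
              ((map_eq_zero_iff _ (RingHom.injective _)).mp h0))
          have hnb : Cyc.specMap x ζ.1 h ((f.stalkMap x).hom b) ≠ 0 := by
            rw [← residueFieldMap_congr_specMap f x ζ.1 h ξ ζ.2.1 hη b]
            intro h0
            exact hsb ((map_eq_zero_iff _ (RingHom.injective _)).mp
              ((map_eq_zero_iff _ (RingHom.injective _)).mp h0))
          have hell : Groth.Agent.Lib.LenQuotFormula.ellq
              (X.presheaf.stalk x ⧸ (genPrime Y hη).map (f.stalkMap x).hom)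
              (⟨genPrime X h, inferInstance⟩ : PrimeSpectrum (X.presheaf.stalk x)) =
              Module.length (X.presheaf.stalk ζ.1) (X.presheaf.stalk ζ.1 ⧸
                Ideal.map (f.stalkMap ζ.1).hom (maximalIdeal (Y.presheaf.stalk (f ζ.1)))) := by
            rw [← ellq_fibre f x ζ.1 h]
            exact ellq_congr _ _ (by
              rw [genPrime_congr ζ.2.1.symm hη (f.base.hom.map_specializes h)]) _
          simp only []
          rw [hdivX, dif_pos ⟨h, by omega⟩, hgζ,
            ordAt_eq hXd x ζ.1 h (by omega) _ _ hna hnb, hell, mul_comm]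
          rfl)
        (by
          intro ζ h
          simp only []
          rw [hdivX, dif_neg (fun h' => h h'.1), mul_zero])
        (by
          intro ζ e
          have hδζ := hidx ζ
          rw [e] at hδζ
          omega)
        (by
          intro ζ h
          rw [support_quot_eq, PrimeSpectrum.mem_zeroLocus, SetLike.coe_subset_coe]
          show (genPrime Y hη).map (f.stalkMap x).hom ≤ genPrime X h
          rw [Ideal.map_le_iff_le_comap, comap_genPrime f x ζ.1 h,
            genPrime_congr ζ.2.1.symm hη (f.base.hom.map_specializes h)])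
        (by
          intro ζ h hne hq
          rw [support_quot_eq, PrimeSpectrum.mem_zeroLocus, SetLike.coe_subset_coe] at hq
          obtain ⟨h2, h3⟩ := (support_props f hXd hYd hle x ξ hη hx1 ζ h hq).2 hne
          refine ⟨h3, ?_⟩
          intro z hz hzζ
          by_contra hne'
          have h4 := (hXd z ζ hzζ hne').1
          have h5 := hle z
          rw [hz, h3] at h5
          omega)
      rw [hRHS, finsum_mem_eq_finite_toFinset_sum _ hTfin]
      have hRHS2 : ∑ q ∈ hTfin.toFinset,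
          (((Groth.Agent.Lib.LenQuotFormula.c ((f.stalkMap x).hom a) q).toNat : ℤ) -
            ((Groth.Agent.Lib.LenQuotFormula.c ((f.stalkMap x).hom b) q).toNat : ℤ)) *
          ((Groth.Agent.Lib.LenQuotFormula.ellq
            (X.presheaf.stalk x ⧸ (genPrime Y hη).map (f.stalkMap x).hom) q).toNat : ℤ) =
          ((Module.length (X.presheaf.stalk x)
            ((X.presheaf.stalk x ⧸ (genPrime Y hη).map (f.stalkMap x).hom) ⧸
              (f.stalkMap x).hom a • (⊤ : Submodule (X.presheaf.stalk x)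
                (X.presheaf.stalk x ⧸ (genPrime Y hη).map (f.stalkMap x).hom)))).toNat : ℤ) -
          ((Module.length (X.presheaf.stalk x)
            ((X.presheaf.stalk x ⧸ (genPrime Y hη).map (f.stalkMap x).hom) ⧸
              (f.stalkMap x).hom b • (⊤ : Submodule (X.presheaf.stalk x)
                (X.presheaf.stalk x ⧸ (genPrime Y hη).map (f.stalkMap x).hom)))).toNat : ℤ) := by
        rw [hLa, hLb, ← Finset.sum_sub_distrib]
        refine Finset.sum_congr rfl fun q _ => ?_
        ring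
      rw [hRHS2, key_len (f.stalkMap x).hom hflat (genPrime Y hη) a,
        key_len (f.stalkMap x).hom hflat (genPrime Y hη) b, ENat.toNat_mul, ENat.toNat_mul]
      by_cases h1 : δX x = δY (f x) + c
      · rw [if_pos h1, hLdiv, dif_pos ⟨hη, by omega⟩]
        have hdimY : ringKrullDim (Cyc.LocQuot (f x) ξ hη) = (1 : ℕ) := by
          rw [Groth.Agent.S6462.part2 hYd (f x) _ hη]
          have : δY ξ - δY (f x) = 1 := by omega
          rw [this]
          rfl
        haveI : Ring.KrullDimLE 1 (Cyc.LocQuot (f x) ξ hη) :=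
          Ring.krullDimLE_iff.mpr hdimY.le
        unfold Cyc.ordAt
        rw [← hab, ordFrac_frac _ _ ha0 hb0, ord_quot_congr _ _ hker a, ord_quot_congr _ _ hker b]
        push_cast
        ring
      · rw [if_neg h1]
        have hfx : ξ = f x := by
          by_contra hne
          have h2 := (hYd ξ (f x) hη hne).1
          have h3 := lt_of_le_of_ne (hle x) h1
          omega
        have hm : genPrime Y hη = maximalIdeal (Y.presheaf.stalk (f x)) :=
          genPrime_eq_maximalIdeal hη hfx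
        have hua : IsUnit a := IsLocalRing.notMem_maximalIdeal.mp (hm ▸ ha𝔭)
        have hub : IsUnit b := IsLocalRing.notMem_maximalIdeal.mp (hm ▸ hb𝔭)
        rw [Ring.ord_of_isUnit (hua.map (Ideal.Quotient.mk (genPrime Y hη))),
          Ring.ord_of_isUnit (hub.map (Ideal.Quotient.mk (genPrime Y hη)))]
        simp
    · -- `ξ` does not specialize to `f x`
      have hR : ∀ ζ : {ζ : X // f ζ = ξ ∧ ∀ z, f z = f ζ → z ⤳ ζ → z = ζ},
          Cyc.divFun δX ζ.1 (f.residueFieldMap ζ.1 ((Y.residueFieldCongr ζ.2.1.symm).hom g)) x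
            = 0 := by
        intro ζ
        rw [hdivX, dif_neg]
        intro h
        apply hη
        rw [← ζ.2.1]
        exact f.base.hom.map_specializes h.1
      simp only [hR, mul_zero, finsum_zero]
      rw [hLdiv, dif_neg (fun h => hη h.1), zero_mul, ite_self]
  · have hR : ∀ ζ : {ζ : X // f ζ = ξ ∧ ∀ z, f z = f ζ → z ⤳ ζ → z = ζ},
        Cyc.divFun δX ζ.1 (f.residueFieldMap ζ.1 ((Y.residueFieldCongr ζ.2.1.symm).hom g)) x
          = 0 := by
      intro ζ
      rw [hdivX, dif_neg]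
      intro h
      apply hx1
      rw [h.2, hidx ζ]
    simp only [hR, mul_zero, finsum_zero]
    by_cases h1 : δX x = δY (f x) + c
    · rw [if_pos h1, hLdiv, dif_neg, zero_mul]
      intro h2
      apply hx1
      have := h2.2
      omega
    · rw [if_neg h1]

end Main

end Groth.Agent.Lib.CycPullDivGen
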