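import Mathlib
import Groth.Agent.Lib.CycPush85e
import Groth.Agent.Lib.CurveDeg85d
import Groth.Agent.Lib.H71GeomRedAt
import Groth.Agent.Lib.H30DimField
import Groth.Agent.Lib.ResTrdeg91

/-!
# Vanishing of the pushforward of a principal divisor when the dimension drops, part a (helper85)

Generic fibre `GF q` of a dominant morphism `q : W ⟶ Y` of integral schemes (pullback along
`Spec K(Y) ⟶ Y`): stalk maps of the projection are bijective, it is integral, proper over `K(Y)`, of
dimension one when `trdeg K(W)/K(Y) = 1`; `core`: the degree of `div f` on the generic fibre vanishes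
(via `CurveDeg85.deg_div_eq_zero`), stated on `W`.
-/
set_option autoImplicit false
set_option linter.style.haveILetI false
set_option linter.unusedSectionVars false
set_option linter.unusedVariables false
universe u

open AlgebraicGeometry CategoryTheory CategoryTheory.Limits Cyc IsLocalRing TopologicalSpace

namespace Groth.Agent.Lib.CycVan85

open Groth.Agent.Lib.CycPush85

section prelim
variable {X Y Z : Scheme.{u}}

theorem resTrdeg_eq_zero_of_surjectiveOnStalks (i : Z ⟶ X) [SurjectiveOnStalks i] (z : Z) :
    Dual3.resTrdeg i z = 0 := by
  unfold Dual3.resTrdeg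
  letI := (i.residueFieldMap z).hom.toAlgebra
  have hbij : Function.Bijective (algebraMap (X.residueField (i z)) (Z.residueField z)) :=
    residueFieldMap_bijective i z
  haveI : Algebra.IsAlgebraic (X.residueField (i z)) (Z.residueField z) :=
    ⟨fun x => by
      obtain ⟨r, rfl⟩ := hbij.2 x
      exact isAlgebraic_algebraMap r⟩
  exact trdeg_eq_zero

theorem range_fromSpecStalk_genericPoint [IsIntegral Y] :
    Set.range (Y.fromSpecStalk (genericPoint Y)) = {genericPoint Y} := by
  rw [Scheme.range_fromSpecStalk]
  ext y
  simp only [Set.mem_ofPred_eq, Set.mem_singleton_iff]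
  constructor
  · intro h
    exact (h.antisymm (genericPoint_specializes y)).eq
  · rintro rfl
    exact specializes_rfl

end prelim

section fibre
variable {W Y : Scheme.{u}} [IsIntegral W] [IsIntegral Y] (q : W ⟶ Y)

/-- the generic fibre of `q` -/
noncomputable abbrev GF : Scheme.{u} := pullback (Y.fromSpecStalk (genericPoint Y)) q

/-- the projection from the generic fibre -/
noncomputable abbrev πF : GF q ⟶ W := pullback.snd (Y.fromSpecStalk (genericPoint Y)) q

/-- the structure morphism of the generic fibre -/
noncomputable abbrev sF : GF q ⟶ Spec (CommRingCat.of Y.functionField) :=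
  pullback.fst (Y.fromSpecStalk (genericPoint Y)) q

theorem stalkMap_πF_bijective (g : GF q) : Function.Bijective ((πF q).stalkMap g).hom :=
  Groth.Agent.Lib.H71GeomRedAt.bijective_stalkMap_snd _ q g

theorem range_πF : Set.range (πF q) = {w : W | q w = genericPoint Y} := by
  rw [Scheme.Pullback.range_snd, range_fromSpecStalk_genericPoint]
  rfl

theorem πF_injective : Function.Injective (πF q) := (πF q).isEmbedding.injective

theorem q_πF (g : GF q) : q (πF q g) = genericPoint Y := by
  have : πF q g ∈ Set.range (πF q) := ⟨g, rfl⟩
  rw [range_πF] at this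
  exact this

variable (hdom : q (genericPoint W) = genericPoint Y)

include hdom in
theorem exists_generic : ∃ g₀ : GF q, πF q g₀ = genericPoint W := by
  have : genericPoint W ∈ Set.range (πF q) := by
    rw [range_πF]
    exact hdom
  exact this

theorem specializes_of_πF_eq (g₀ : GF q) (hg₀ : πF q g₀ = genericPoint W) (g : GF q) :
    g₀ ⤳ g := by
  rw [← (πF q).isEmbedding.isInducing.specializes_iff, hg₀]
  exact genericPoint_specializes _

theorem isReduced_GF : IsReduced (GF q) := by
  haveI : ∀ g : GF q, _root_.IsReduced ((GF q).presheaf.stalk g) := fun g => by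
    let e : W.presheaf.stalk (πF q g) ≃+* (GF q).presheaf.stalk g :=
      RingEquiv.ofBijective _ (stalkMap_πF_bijective q g)
    exact isReduced_of_injective e.symm.toRingHom e.symm.injective
  exact isReduced_of_isReduced_stalk (GF q)

include hdom in
theorem isIntegral_GF : IsIntegral (GF q) := by
  obtain ⟨g₀, hg₀⟩ := exists_generic q hdom
  haveI := isReduced_GF q
  exact isIntegral_of_generic g₀ (specializes_of_πF_eq q g₀ hg₀)

include hdom in
theorem πF_genericPoint [IsIntegral (GF q)] : πF q (genericPoint (GF q)) = genericPoint W := by
  obtain ⟨g₀, hg₀⟩ := exists_generic q hdom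
  rw [← genericPoint_eq_of_generic g₀ (specializes_of_πF_eq q g₀ hg₀), hg₀]

instance isProper_sF [IsProper q] : IsProper (sF q) :=
  inferInstanceAs (IsProper (pullback.fst (Y.fromSpecStalk (genericPoint Y)) q))

theorem resTrdeg_sF (g : GF q) : Dual3.resTrdeg (sF q) g = Dual3.resTrdeg q (πF q g) := by
  have h1 := Groth.Agent.Lib.ResTrdeg91.resTrdeg_comp (sF q) (Y.fromSpecStalk (genericPoint Y)) g
  have h2 := Groth.Agent.Lib.ResTrdeg91.resTrdeg_comp (πF q) q g
  rw [resTrdeg_eq_zero_of_surjectiveOnStalks (Y.fromSpecStalk (genericPoint Y)) (sF q g),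
    zero_add] at h1
  rw [resTrdeg_eq_zero_of_surjectiveOnStalks (πF q) g, add_zero] at h2
  rw [← h1, ← h2]
  exact Groth.Agent.Lib.ResTrdeg91.resTrdeg_congr pullback.condition g

theorem residueDegree_sF (g : GF q) : (sF q).residueDegree g = q.residueDegree (πF q g) := by
  rw [← residueDegree_comp_of_surjectiveOnStalks_right (sF q) (Y.fromSpecStalk (genericPoint Y)) g,
    ← residueDegree_comp_of_surjectiveOnStalks_left (πF q) q g]
  have : sF q ≫ Y.fromSpecStalk (genericPoint Y) = πF q ≫ q := pullback.condition
  rw [this]

include hdom in
theorem topologicalKrullDim_GF [IsProper q] [IsIntegral (GF q)]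
    (htr : Dual3.resTrdeg q (genericPoint W) = 1) : topologicalKrullDim (GF q) = 1 := by
  letI : (GF q).Over (Spec (CommRingCat.of Y.functionField)) := ⟨sF q⟩
  haveI : LocallyOfFiniteType ((GF q) ↘ Spec (CommRingCat.of Y.functionField)) :=
    (inferInstance : LocallyOfFiniteType (sF q))
  rw [Groth.Agent.Lib.H30DimField.krullDim_eq_td Y.functionField (GF q)]
  have h1 : Groth.Agent.Lib.H30DimField.td Y.functionField (GF q) (genericPoint (GF q)) =
      ((1 : ℕ) : ℤ) := by
    apply Groth.Agent.Lib.H30DimField.td_eq_of_trdeg_eq
    rw [Groth.Agent.Lib.H30DimField.trdeg_eq]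
    have h2 := resTrdeg_sF q (genericPoint (GF q))
    rw [πF_genericPoint q hdom, htr] at h2
    exact_mod_cast h2
  rw [h1]
  rfl

theorem fibreStalkMap_πF_bijective (g : GF q) (w : W) (hw : πF q g = w) :
    Function.Bijective (fibreStalkMap (πF q) g w hw) := by
  subst hw
  unfold fibreStalkMap
  rw [TopCat.Presheaf.stalkSpecializes_refl, Category.id_comp]
  exact stalkMap_πF_bijective q g

theorem residue_genericPoint_bijective :
    Function.Bijective (W.residue (genericPoint W)).hom := by
  have hF : IsField (W.presheaf.stalk (genericPoint W)) := Field.toIsField W.functionField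
  refine ⟨?_, IsLocalRing.residue_surjective⟩
  change Function.Injective (IsLocalRing.residue (W.presheaf.stalk (genericPoint W)))
  rw [RingHom.injective_iff_ker_eq_bot, IsLocalRing.ker_residue]
  exact IsLocalRing.isField_iff_maximalIdeal_eq.mp hF

/-- the identification of `κ(η_W)` with the function field of the generic fibre -/
noncomputable def theta [IsIntegral (GF q)]
    (hπg : πF q (genericPoint (GF q)) = genericPoint W) :
    W.residueField (genericPoint W) ≃+* (GF q).functionField :=
  (RingEquiv.ofBijective _ (residue_genericPoint_bijective (W := W))).symm.trans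
    (RingEquiv.ofBijective _
      (fibreStalkMap_πF_bijective q (genericPoint (GF q)) (genericPoint W) hπg))

theorem theta_residue [IsIntegral (GF q)]
    (hπg : πF q (genericPoint (GF q)) = genericPoint W)
    (a : W.presheaf.stalk (genericPoint W)) :
    theta q hπg ((W.residue (genericPoint W)).hom a) =
      fibreStalkMap (πF q) (genericPoint (GF q)) (genericPoint W) hπg a := by
  unfold theta
  rw [RingEquiv.trans_apply]
  have h1 : (RingEquiv.ofBijective _ (residue_genericPoint_bijective (W := W))).symm
      ((W.residue (genericPoint W)).hom a) = a :=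
    (RingEquiv.ofBijective _ (residue_genericPoint_bijective (W := W))).symm_apply_apply a
  rw [h1]
  rfl

theorem ordFrac_theta [IsIntegral (GF q)]
    (hπg : πF q (genericPoint (GF q)) = genericPoint W) (g : GF q)
    (f : W.residueField (genericPoint W)) :
    CycAlg.ordFrac ((GF q).presheaf.stalk g) (GF q).functionField (theta q hπg f) =
      ordStalk (πF q g) (genericPoint W) (genericPoint_specializes _) f := by
  unfold ordStalk
  letI := (specMap (πF q g) (genericPoint W) (genericPoint_specializes _)).toAlgebra
  symm
  refine Groth.Agent.Lib.CycNorm85.ordFrac_congr'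
    (RingEquiv.ofBijective _ (stalkMap_πF_bijective q g)) (theta q hπg) ?_ f
  intro r
  change theta q hπg ((W.residue (genericPoint W)).hom
    ((W.presheaf.stalkSpecializes (genericPoint_specializes (πF q g))).hom r)) =
    ((GF q).presheaf.stalkSpecializes (genericPoint_specializes g)).hom
      (((πF q).stalkMap g).hom r)
  rw [theta_residue]
  unfold fibreStalkMap
  have hnat := Scheme.Hom.stalkSpecializes_stalkMap (πF q) (genericPoint (GF q)) g
    (genericPoint_specializes g)
  have h1 : ((GF q).presheaf.stalkSpecializes (genericPoint_specializes g)).hom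
      (((πF q).stalkMap g).hom r) =
      ((πF q).stalkMap (genericPoint (GF q))).hom
        ((W.presheaf.stalkSpecializes
          ((genericPoint_specializes g).map (πF q).continuous)).hom r) := by
    have := congrArg (fun φ => φ.hom r) hnat
    exact this.symm
  rw [h1]
  change ((πF q).stalkMap (genericPoint (GF q))).hom
    ((W.presheaf.stalkSpecializes (specializes_of_eq hπg)).hom
      ((W.presheaf.stalkSpecializes (genericPoint_specializes (πF q g))).hom r)) = _
  congr 1
  rw [← CommRingCat.comp_apply, TopCat.Presheaf.stalkSpecializes_comp]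

theorem not_isClosed_genericPoint {T : Scheme.{u}} [IsIntegral T] (h : topologicalKrullDim T = 1) :
    ¬ IsClosed ({genericPoint T} : Set T) := by
  intro hx
  have huniv : (Set.univ : Set T) = {genericPoint T} := by
    rw [← (genericPoint_spec T).def, hx.closure_eq]
  have hsub : Subsingleton T := by
    refine ⟨fun a b ↦ ?_⟩
    have ha : a ∈ ({genericPoint T} : Set T) := huniv ▸ Set.mem_univ a
    have hb : b ∈ ({genericPoint T} : Set T) := huniv ▸ Set.mem_univ b
    rw [Set.mem_singleton_iff] at ha hb
    rw [ha, hb]
  have h0 := topologicalKrullDim_zero_of_discreteTopology T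
  rw [h] at h0
  exact (zero_lt_one (α := WithBot ℕ∞)).not_ge h0

include hdom in
/-- **Core vanishing**: for a proper dominant morphism of integral schemes whose function field
extension has transcendence degree one, the degree of `div f` on the generic fibre is zero. -/
theorem core [IsProper q] (htr : Dual3.resTrdeg q (genericPoint W) = 1)
    (f : W.residueField (genericPoint W)) (hf : f ≠ 0) :
    ∑ᶠ w ∈ {w : W | q w = genericPoint Y ∧ w ≠ genericPoint W},
      (q.residueDegree w : ℤ) *
        ordStalk w (genericPoint W) (genericPoint_specializes w) f = 0 := by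
  haveI := isIntegral_GF q hdom
  have hπg := πF_genericPoint q hdom
  have hdim := topologicalKrullDim_GF q hdom htr
  have hθf : theta q hπg f ≠ 0 := (map_ne_zero_iff _ (theta q hπg).injective).mpr hf
  have key := Groth.Agent.Lib.CurveDeg85.deg_div_eq_zero Y.functionField (GF q) (sF q) hdim
    (theta q hπg f) hθf
  have hclosed : ∀ g : GF q, IsClosed ({g} : Set (GF q)) ↔ g ≠ genericPoint (GF q) := by
    intro g
    constructor
    · rintro hg rfl
      exact not_isClosed_genericPoint hdim hg
    · intro hne
      exact Groth.Agent.Lib.DimOneTop42.isClosed_singleton_of_notMem_genericPoints hdim.le g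
        (fun h => hne (Groth.Agent.Lib.CurveDeg85.eq_genericPoint_of_mem_genericPoints g h))
  have hset : {w : W | q w = genericPoint Y ∧ w ≠ genericPoint W} =
      πF q '' {g | IsClosed ({g} : Set (GF q))} := by
    ext w
    constructor
    · rintro ⟨h1, h2⟩
      have : w ∈ Set.range (πF q) := by rw [range_πF]; exact h1
      obtain ⟨g, rfl⟩ := this
      refine ⟨g, ?_, rfl⟩
      rw [Set.mem_ofPred_eq, hclosed]
      rintro rfl
      exact h2 hπg
    · rintro ⟨g, hg, rfl⟩
      refine ⟨q_πF q g, ?_⟩
      intro h
      rw [Set.mem_ofPred_eq, hclosed] at hg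
      apply hg
      apply πF_injective q
      rw [h, hπg]
  rw [hset, finsum_mem_image (πF_injective q).injOn, ← key]
  refine finsum_mem_congr rfl (fun g _ => ?_)
  rw [residueDegree_sF, ordFrac_theta]

end fibre

end Groth.Agent.Lib.CycVan85
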