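import Mathlib
import Groth.Agent.Lib.CycVan85a

/-!
# Vanishing of the pushforward of a principal divisor when the dimension drops, part b (helper85)

`map_divFun_vanish`: `p : X ⟶ Y` proper, `DeltaCompat`, `δX ξ ≠ δY (p ξ)`: every coefficient of
`p_* div_ξ(f)` is zero. (`finsum_fibre_eq_zero_of`: δ bookkeeping; `fibre_sum_eq_zero`: reduction to the
integral dominant case by closed immersions and `core`.)
-/
set_option autoImplicit false
set_option linter.style.haveILetI false
set_option linter.unusedSectionVars false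
set_option linter.unusedVariables false
universe u

open AlgebraicGeometry CategoryTheory CategoryTheory.Limits Cyc IsLocalRing TopologicalSpace

namespace Groth.Agent.Lib.CycVan85

open Groth.Agent.Lib.CycPush85

variable {X Y : Scheme.{u}}

/-- dimension bookkeeping for the vanishing of the proper pushforward of a principal divisor when
`δX ξ ≠ δY (p ξ)`: only the fibre over `p ξ` matters, and only when the difference is one. -/
theorem finsum_fibre_eq_zero_of (δX : X → ℤ) (δY : Y → ℤ) (hXd : IsDimFun X δX)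
    (hYd : IsDimFun Y δY) (p : X ⟶ Y) (hδ : DeltaCompat p δX δY) (ξ : X)
    (hn : δX ξ ≠ δY (p ξ)) (f : X.residueField ξ) (y : Y)
    (H : δX ξ = δY (p ξ) + 1 →
      ∑ᶠ x : {x : X // p x = p ξ ∧ ξ ⤳ x ∧ x ≠ ξ},
        ordAt x.1 ξ x.2.2.1 f * (p.residueDegree x.1 : ℤ) = 0) :
    ∑ᶠ x ∈ p ⁻¹' {y}, divFun δX ξ f x * ((AlgebraicCycle.mapCoeff p δX δY x : ℕ) : ℤ) = 0 := by
  classical
  have hge : ∀ x : X, δY (p x) ≤ δX x := by
    intro x
    obtain ⟨n, -, hn⟩ := hδ x
    omega
  by_cases hc : y = p ξ ∧ δX ξ = δY (p ξ) + 1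
  · obtain ⟨rfl, h1⟩ := hc
    rw [← H h1]
    have hterm : ∀ x : X, p x = p ξ → ∀ hx : ξ ⤳ x, x ≠ ξ →
        divFun δX ξ f x * ((AlgebraicCycle.mapCoeff p δX δY x : ℕ) : ℤ) =
          ordAt x ξ hx f * (p.residueDegree x : ℤ) := by
      intro x hpx hx hne
      have h2 := (hXd ξ x hx (fun h => hne h.symm)).1
      have h3 := hge x
      rw [hpx] at h3
      have h4 : δX x + 1 = δX ξ := by omega
      have h5 : δX x = δY (p x) := by rw [hpx]; omega
      unfold divFun AlgebraicCycle.mapCoeff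
      rw [dif_pos ⟨hx, h4⟩, if_pos h5]
    have hterm0 : ∀ x : X, ¬ (ξ ⤳ x ∧ x ≠ ξ) →
        divFun δX ξ f x * ((AlgebraicCycle.mapCoeff p δX δY x : ℕ) : ℤ) = 0 := by
      intro x hx
      unfold divFun
      rw [dif_neg, zero_mul]
      rintro ⟨h6, h7⟩
      apply hx
      refine ⟨h6, ?_⟩
      rintro rfl
      omega
    have hsub : ∑ᶠ x : {x : X // p x = p ξ ∧ ξ ⤳ x ∧ x ≠ ξ},
        ordAt x.1 ξ x.2.2.1 f * (p.residueDegree x.1 : ℤ) =
        ∑ᶠ (x : X) (_ : p x = p ξ ∧ ξ ⤳ x ∧ x ≠ ξ),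
          (if hx : ξ ⤳ x then ordAt x ξ hx f * (p.residueDegree x : ℤ) else 0) := by
      rw [← finsum_subtype_eq_finsum_cond
        (f := fun x => if hx : ξ ⤳ x then ordAt x ξ hx f * (p.residueDegree x : ℤ) else 0)
        (fun x => p x = p ξ ∧ ξ ⤳ x ∧ x ≠ ξ)]
      refine finsum_congr fun x => ?_
      rw [dif_pos x.2.2.1]
    rw [hsub]
    refine finsum_congr fun x => ?_
    rw [finsum_eq_if, finsum_eq_if]
    by_cases hpx : p x = p ξ
    · by_cases hx : ξ ⤳ x ∧ x ≠ ξ
      · rw [if_pos (show x ∈ p ⁻¹' {p ξ} from hpx), if_pos ⟨hpx, hx⟩, dif_pos hx.1,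
          hterm x hpx hx.1 hx.2]
      · rw [if_pos (show x ∈ p ⁻¹' {p ξ} from hpx), if_neg (fun h => hx h.2), hterm0 x hx]
    · rw [if_neg (show ¬ x ∈ p ⁻¹' {p ξ} from hpx), if_neg (fun h => hpx h.1)]
  · refine finsum_mem_eq_zero_of_forall_eq_zero ?_
    intro x hpx
    have hpx' : p x = y := hpx
    by_contra hne
    apply hc
    have h1 : divFun δX ξ f x ≠ 0 := fun h0 => hne (by rw [h0, zero_mul])
    have h2 : AlgebraicCycle.mapCoeff p δX δY x ≠ 0 := fun h0 => hne (by rw [h0]; simp)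
    unfold divFun at h1
    unfold AlgebraicCycle.mapCoeff at h2
    have h3 : ξ ⤳ x ∧ δX x + 1 = δX ξ := by
      by_contra h
      exact h1 (dif_neg h)
    have h4 : δX x = δY (p x) := by
      by_contra h
      exact h2 (if_neg h)
    obtain ⟨n, -, hnn⟩ := hδ ξ
    have hsp : p ξ ⤳ y := by
      rw [← hpx']
      exact h3.1.map p.continuous
    have hy : y = p ξ := by
      by_contra hney
      have := (hYd (p ξ) y hsp (fun h => hney h.symm)).1
      rw [← hpx'] at this
      omega
    refine ⟨hy, ?_⟩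
    rw [hpx', hy] at h4
    omega

theorem residueDegree_congr {f g : X ⟶ Y} (h : f = g) (x : X) :
    f.residueDegree x = g.residueDegree x := by
  subst h; rfl

/-- the fibre sum over `p ξ` vanishes when `κ(ξ)/κ(p ξ)` has transcendence degree one -/
theorem fibre_sum_eq_zero (p : X ⟶ Y) [IsProper p] (ξ : X) (htr : Dual3.resTrdeg p ξ = 1)
    (f : X.residueField ξ) (hf : f ≠ 0) :
    ∑ᶠ x : {x : X // p x = p ξ ∧ ξ ⤳ x ∧ x ≠ ξ},
      ordAt x.1 ξ x.2.2.1 f * (p.residueDegree x.1 : ℤ) = 0 := by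
  obtain ⟨W, hW, i, hi, rfl, hirange, -⟩ := exists_integral_closedImmersion ξ
  obtain ⟨Y', hY', j, hj, hjgen, hjrange, hlift⟩ :=
    exists_integral_closedImmersion (p (i (genericPoint W)))
  have hrange : Set.range (i ≫ p) ⊆ closure {p (i (genericPoint W))} := by
    rintro _ ⟨w, rfl⟩
    exact specializes_iff_mem_closure.mp
      (((genericPoint_specializes w).map i.continuous).map p.continuous)
  obtain ⟨q', hq'⟩ := hlift (i ≫ p) hrange
  have hpi : ∀ w : W, p (i w) = j (q' w) := fun w => by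
    rw [← Scheme.Hom.comp_apply, ← hq', Scheme.Hom.comp_apply]
  have hq'gen : q' (genericPoint W) = genericPoint Y' := by
    apply j.injective
    rw [hjgen, ← hpi]
  haveI : IsProper (q' ≫ j) := by rw [hq']; infer_instance
  haveI : IsProper q' := IsProper.of_comp q' j
  have htr' : Dual3.resTrdeg q' (genericPoint W) = 1 := by
    have h1 := Groth.Agent.Lib.ResTrdeg91.resTrdeg_comp q' j (genericPoint W)
    have h2 := Groth.Agent.Lib.ResTrdeg91.resTrdeg_comp i p (genericPoint W)
    rw [resTrdeg_eq_zero_of_surjectiveOnStalks j (q' (genericPoint W)), zero_add] at h1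
    rw [resTrdeg_eq_zero_of_surjectiveOnStalks i (genericPoint W), add_zero] at h2
    rw [← h1, Groth.Agent.Lib.ResTrdeg91.resTrdeg_congr hq', h2]
    exact htr
  have hf' : i.residueFieldMap (genericPoint W) f ≠ 0 := fun h0 =>
    hf ((i.residueFieldMap (genericPoint W)).hom.injective (h0.trans (map_zero _).symm))
  have key := core q' hq'gen htr' (i.residueFieldMap (genericPoint W) f) hf'
  rw [← finsum_set_coe_eq_finsum_mem] at key
  rw [← key]
  let e : ↥{w : W | q' w = genericPoint Y' ∧ w ≠ genericPoint W} ≃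
      {x : X // p x = p (i (genericPoint W)) ∧ i (genericPoint W) ⤳ x ∧ x ≠ i (genericPoint W)} :=
    Equiv.ofBijective
      (fun w => ⟨i w.1, by rw [hpi, hpi, w.2.1, hq'gen],
        (genericPoint_specializes w.1).map i.continuous,
        fun h => w.2.2 (i.injective h)⟩)
      ⟨fun a b hab => Subtype.ext (i.injective (congrArg Subtype.val hab)), by
        rintro ⟨x, hx1, hx2, hx3⟩
        obtain ⟨w, rfl⟩ : x ∈ Set.range i := by
          rw [hirange]
          exact specializes_iff_mem_closure.mp hx2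
        refine ⟨⟨w, ?_, fun h => hx3 (by rw [h])⟩, rfl⟩
        apply j.injective
        rw [← hpi, hx1, hpi, hq'gen]⟩
  rw [← finsum_comp_equiv e]
  refine finsum_congr fun w => ?_
  rw [mul_comm]
  congr 1
  · change (p.residueDegree (i w.1) : ℤ) = _
    rw [← residueDegree_comp_of_surjectiveOnStalks_left i p w.1,
      ← residueDegree_congr hq' w.1, residueDegree_comp_of_surjectiveOnStalks_right q' j w.1]
  · change ordAt (i w.1) (i (genericPoint W)) _ f = ordStalk w.1 (genericPoint W) _ _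
    rw [← ordAt_eq_ordStalk w.1 _ _ (Groth.Agent.S1923.specMap_injective W w.1 _)]
    exact ordAt_of_surjectiveOnStalks i w.1 (genericPoint W) (genericPoint_specializes w.1) f

/-- **Vanishing of the proper pushforward of a principal divisor when the dimension drops**:
`X`, `Y` arbitrary (with dimension functions), `ξ` any point with `δX ξ ≠ δY (p ξ)`. -/
theorem map_divFun_vanish (δX : X → ℤ) (δY : Y → ℤ) (hX : IsSetup X δX) (hY : IsSetup Y δY)
    (p : X ⟶ Y) [IsProper p] (hδ : DeltaCompat p δX δY) (ξ : X) (hn : δX ξ ≠ δY (p ξ))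
    (f : X.residueField ξ) (hf : f ≠ 0) (y : Y) :
    ∑ᶠ x ∈ p ⁻¹' {y}, divFun δX ξ f x * ((AlgebraicCycle.mapCoeff p δX δY x : ℕ) : ℤ) = 0 := by
  refine finsum_fibre_eq_zero_of δX δY hX.2.2 hY.2.2 p hδ ξ hn f y (fun h1 => ?_)
  refine fibre_sum_eq_zero p ξ ?_ f hf
  obtain ⟨n, hn1, hn2⟩ := hδ ξ
  have hn' : n = 1 := by omega
  subst hn'
  unfold Dual3.resTrdeg
  exact_mod_cast hn1

end Groth.Agent.Lib.CycVan85
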