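import Groth.Agent.Lib.LocFreeCrit
import Mathlib.RingTheory.LocalRing.Module

/-!
# Retracts (direct summands) of free modules of finite rank are finite locally free
-/

set_option autoImplicit false
universe u

open CategoryTheory CategoryTheory.Limits AlgebraicGeometry TopologicalSpace Opposite

namespace Groth.Agent.Lib.LocFreeSummand

open Groth.Agent.Lib.ModStalk Groth.Agent.Lib.ModStalkLin Groth.Agent.Lib.FreeModSch
  Groth.Agent.Lib.FreeModStalk Groth.Agent.Lib.LocFreeCrit

variable {X : Scheme.{u}}

/-- A retract of `O_X^n` is free near every point. -/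
theorem exists_locFreeAt_of_retract {M : X.Modules} {n : ℕ} (i : M ⟶ FlatMod.freeMod X n)
    (r : FlatMod.freeMod X n ⟶ M) (hir : i ≫ r = 𝟙 M) (x : X) : ∃ k, LocFreeAt M x k := by
  let R := X.presheaf.stalk x
  let P := M.presheaf.stalk x
  have hri : (stalkLin r x).comp (stalkLin i x) = LinearMap.id := by
    rw [← stalkLin_comp, hir, stalkLin_id]
  have hsurj : Function.Surjective (stalkLin r x) := fun p =>
    ⟨stalkLin i x p, LinearMap.congr_fun hri p⟩
  have hfin : Module.Finite R P := Module.Finite.of_surjective (stalkLin r x) hsurj
  have hproj : Module.Projective R P := Module.Projective.of_split _ _ hri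
  have hfp : Module.FinitePresentation R P := Module.finitePresentation_of_projective R P
  let v : Fin n → P := fun j => stalkLin r x (basisGerm x j)
  have hv : Submodule.span R (Set.range v) = ⊤ := by
    have h1 : Set.range v = (stalkLin r x) '' (Set.range (stalkBasis (n := n) x)) := by
      rw [← Set.range_comp]
      congr 1
      funext j
      simp only [Function.comp_apply, stalkBasis_apply, v]
    rw [h1, Submodule.span_image, (stalkBasis x).span_eq, Submodule.map_top,
      LinearMap.range_eq_top.mpr hsurj]
  obtain ⟨κ, a, b, hb⟩ := Module.exists_basis_of_span_of_flat v hv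
  have : Finite κ := Module.Finite.finite_basis b
  have : Fintype κ := Fintype.ofFinite κ
  let e := Fintype.equivFin κ
  let t : Fin (Fintype.card κ) → Γ(M, ⊤) := fun j =>
    toSection (Sigma.ι (fun _ : Fin n => Coh.structureModule X) (a (e.symm j)) ≫ r)
  have ht : (fun j => M.presheaf.germ ⊤ x trivial (t j)) = b.reindex e := by
    funext j
    rw [Module.Basis.reindex_apply, hb]
    change _ = stalkLin r x (basisGerm x (a (e.symm j)))
    unfold basisGerm basisSec
    rw [stalkLin_germ, ← toSection_comp]
  refine ⟨Fintype.card κ, locFreeAt_of_retract i r hir t x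
    (bijective_stalkLin_ofSections t x ?_ ?_)⟩
  · rw [ht]
    exact (b.reindex e).linearIndependent
  · rw [ht]
    exact (b.reindex e).span_eq

/-- A retract of a free module of finite rank is finite locally free. -/
theorem isFinLocFree_of_retract {M : X.Modules} {n : ℕ} (i : M ⟶ FlatMod.freeMod X n)
    (r : FlatMod.freeMod X n ⟶ M) (hir : i ≫ r = 𝟙 M) : FlatMod.IsFinLocFree M :=
  isFinLocFree_of_forall_locFreeAt (fun x => exists_locFreeAt_of_retract i r hir x)

/-- A direct summand of a free module of finite rank is finite locally free. -/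
theorem isFinLocFree_of_summand_free (M N : X.Modules) [HasBinaryBiproduct M N] (n : ℕ)
    (e : M ⊞ N ≅ FlatMod.freeMod X n) : FlatMod.IsFinLocFree M :=
  isFinLocFree_of_retract (biprod.inl ≫ e.hom) (e.inv ≫ biprod.fst) (by
    rw [Category.assoc, e.hom_inv_id_assoc, biprod.inl_fst])

end Groth.Agent.Lib.LocFreeSummand
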