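import Groth.Agent.Lib.LocalHomotopy
import Groth.Agent.Lib.PCohStupid
import Groth.Agent.Lib.RestrictExact
import Groth.Agent.Lib.PerfectLocal
import Groth.Agent.Lib.LocalFlex
import Groth.Agent.Lib.LocFreeSummand

/-!
# Cycles of a strictly perfect complex which is acyclic above degree `n` are locally a retract
-/

set_option autoImplicit false
universe v u

open CategoryTheory CategoryTheory.Limits AlgebraicGeometry

namespace Groth.Agent.Lib.CyclesRetract

section Abstract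

variable {C : Type*} [Category C] [Abelian C]

/-- If `ι : E' ⟶ E` is null-homotopic, an isomorphism in degree `n + 1` and a monomorphism in degree
`n + 2`, then the cycles `Z^n(E)` are a retract of `E^n`. -/
theorem exists_retraction_cycles {E' E : CochainComplex C ℤ} (ι : E' ⟶ E) (n : ℤ)
    (h1 : IsIso (ι.f (n + 1))) (h2 : Mono (ι.f (n + 1 + 1))) (H : Homotopy ι 0) :
    ∃ k : E.X n ⟶ E.cycles n, E.iCycles n ≫ k = 𝟙 _ := by
  have hcomm := H.comm (n + 1)
  rw [dNext_eq _ (show (ComplexShape.up ℤ).Rel (n + 1) (n + 1 + 1) from rfl),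
    prevD_eq _ (show (ComplexShape.up ℤ).Rel n (n + 1) from rfl)] at hcomm
  simp only [HomologicalComplex.zero_f, add_zero] at hcomm
  let s : E.X (n + 1) ⟶ E.X n := inv (ι.f (n + 1)) ≫ H.hom (n + 1) n
  have hw : E.d n (n + 1) ≫ inv (ι.f (n + 1)) ≫ E'.d (n + 1) (n + 1 + 1) = 0 := by
    rw [← cancel_mono (ι.f (n + 1 + 1))]
    simp only [Category.assoc, zero_comp]
    rw [← ι.comm (n + 1) (n + 1 + 1), IsIso.inv_hom_id_assoc, HomologicalComplex.d_comp_d]
  have hs : E.d n (n + 1) ≫ s ≫ E.d n (n + 1) = E.d n (n + 1) := by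
    have e1 : s ≫ E.d n (n + 1) =
        𝟙 _ - inv (ι.f (n + 1)) ≫ E'.d (n + 1) (n + 1 + 1) ≫ H.hom (n + 1 + 1) (n + 1) := by
      have h3 : inv (ι.f (n + 1)) ≫ (E'.d (n + 1) (n + 1 + 1) ≫ H.hom (n + 1 + 1) (n + 1) +
          H.hom (n + 1) n ≫ E.d n (n + 1)) = 𝟙 _ := by
        rw [← hcomm, IsIso.inv_hom_id]
      rw [Preadditive.comp_add] at h3
      simp only [s, Category.assoc]
      rw [eq_sub_iff_add_eq]
      exact (add_comm _ _).trans h3
    rw [e1, Preadditive.comp_sub, Category.comp_id, reassoc_of% hw, zero_comp, sub_zero]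
  let p : E.X n ⟶ E.X n := 𝟙 _ - E.d n (n + 1) ≫ s
  have hp : p ≫ E.d n (n + 1) = 0 := by
    simp only [p, Preadditive.sub_comp, Category.id_comp, Category.assoc, hs, sub_self]
  refine ⟨E.liftCycles p (n + 1) (by simp) hp, ?_⟩
  rw [← cancel_mono (E.iCycles n), Category.assoc, HomologicalComplex.liftCycles_i,
    Category.id_comp]
  simp only [p, Preadditive.comp_sub, Category.comp_id, HomologicalComplex.iCycles_d_assoc,
    zero_comp, sub_zero]

end Abstract

section Scheme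

variable {X : Scheme.{u}}

open Groth.Agent.Lib.PCohStupid Groth.Agent.Lib.FinLocFree Groth.Agent.Lib.PerfectLocal

theorem isFinLocFree_of_isZero {M : X.Modules} (h : IsZero M) : FlatMod.IsFinLocFree M :=
  isFinLocFree_of_iso (h.iso (isZero_freeMod_zero X)).symm (isFinLocFree_freeMod X 0)

theorem isStrictlyPerfect_sigmaGE {E : CochainComplex X.Modules ℤ} (hE : DCoh.IsStrictlyPerfect E)
    (n : ℤ) : DCoh.IsStrictlyPerfect (sigmaGE E n) := by
  obtain ⟨⟨a, b, hab⟩, hfree⟩ := hE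
  refine ⟨⟨a, b, fun i hi => isZero_sigmaGE_X_of_isZero E n i (hab i hi)⟩, fun i => ?_⟩
  by_cases h : n ≤ i
  · have := isIso_sigmaGEι_f E n i h
    exact isFinLocFree_of_iso (asIso ((sigmaGEι E n).f i)).symm (hfree i)
  · exact isFinLocFree_of_isZero (isZero_sigmaGE_X E n i (by omega))

/-- If a strictly perfect complex is acyclic in degrees `> n`, then locally `Z^n` is a retract of
`E^n`. -/
theorem exists_cycles_retract {E : CochainComplex X.Modules ℤ} (hE : DCoh.IsStrictlyPerfect E)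
    (n : ℤ) (hacyc : ∀ i : ℤ, n < i → IsZero (E.homology i)) (x : X) :
    ∃ V : X.Opens, x ∈ V ∧
      ∃ k : ((DCoh.restrictCx V).obj E).X n ⟶ ((DCoh.restrictCx V).obj E).cycles n,
        ((DCoh.restrictCx V).obj E).iCycles n ≫ k = 𝟙 _ := by
  obtain ⟨V, hxV, ⟨H⟩⟩ := Groth.Agent.Lib.LocalHomotopy.exists_homotopy_zero (sigmaGEι E (n + 1))
    (isStrictlyPerfect_sigmaGE hE (n + 1)) (n + 1) (fun i hi => isZero_sigmaGE_X E (n + 1) i hi)
    (fun i hi => hacyc i (by omega)) x
  refine ⟨V, hxV, ?_⟩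
  have h1 : IsIso ((sigmaGEι E (n + 1)).f (n + 1)) := isIso_sigmaGEι_f E (n + 1) (n + 1) le_rfl
  have h2 : IsIso ((sigmaGEι E (n + 1)).f (n + 1 + 1)) :=
    isIso_sigmaGEι_f E (n + 1) (n + 1 + 1) (by omega)
  refine exists_retraction_cycles ((DCoh.restrictCx V).map (sigmaGEι E (n + 1))) n ?_ ?_ H
  · change IsIso ((Scheme.Modules.restrictFunctor V.ι).map ((sigmaGEι E (n + 1)).f (n + 1)))
    infer_instance
  · change Mono ((Scheme.Modules.restrictFunctor V.ι).map ((sigmaGEι E (n + 1)).f (n + 1 + 1)))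
    infer_instance

open Groth.Agent.Lib.LocalHomotopy in
lemma res_id {V' V : X.Opens} (h : V' ≤ V) (A : X.Modules) :
    res h (𝟙 (A.restrict V.ι)) = 𝟙 (A.restrict V'.ι) := by
  unfold res
  simp

/-- Variant of `exists_cycles_retract` in terms of the restriction of `E.cycles n`. -/
theorem exists_cycles_retract' {E : CochainComplex X.Modules ℤ} (hE : DCoh.IsStrictlyPerfect E)
    (n : ℤ) (hacyc : ∀ i : ℤ, n < i → IsZero (E.homology i)) (x : X) :
    ∃ V : X.Opens, x ∈ V ∧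
      ∃ k : (E.X n).restrict V.ι ⟶ (E.cycles n).restrict V.ι,
        (Scheme.Modules.restrictFunctor V.ι).map (E.iCycles n) ≫ k = 𝟙 _ := by
  obtain ⟨V, hxV, k, hk⟩ := exists_cycles_retract hE n hacyc x
  let R := Scheme.Modules.restrictFunctor V.ι
  let c : ((DCoh.restrictCx V).obj E).cycles n ≅ R.obj (E.cycles n) :=
    (E.sc n).mapCyclesIso R
  have hc : c.hom ≫ R.map (E.iCycles n) = ((DCoh.restrictCx V).obj E).iCycles n :=
    (E.sc n).mapCyclesIso_hom_iCycles R
  refine ⟨V, hxV, k ≫ c.hom, ?_⟩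
  have h1 : R.map (E.iCycles n) = c.inv ≫ ((DCoh.restrictCx V).obj E).iCycles n :=
    (Iso.eq_inv_comp c).2 hc
  calc R.map (E.iCycles n) ≫ (k ≫ c.hom)
      = (c.inv ≫ ((DCoh.restrictCx V).obj E).iCycles n) ≫ (k ≫ c.hom) :=
        congrArg (fun z => z ≫ (k ≫ c.hom)) h1
    _ = c.inv ≫ (((DCoh.restrictCx V).obj E).iCycles n ≫ k) ≫ c.hom := by
        simp only [Category.assoc]
    _ = 𝟙 _ := by rw [hk, Category.id_comp, c.inv_hom_id]

open Groth.Agent.Lib.LocalHomotopy Groth.Agent.Lib.LocalFlex in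
/-- The cycles `Z^n` of a strictly perfect complex which is acyclic in degrees `> n` are finite
locally free. -/
theorem isFinLocFree_cycles {E : CochainComplex X.Modules ℤ} (hE : DCoh.IsStrictlyPerfect E)
    (n : ℤ) (hacyc : ∀ i : ℤ, n < i → IsZero (E.homology i)) :
    FlatMod.IsFinLocFree (E.cycles n) := by
  apply isFinLocFree_of_forall_restrict
  intro x
  obtain ⟨V, hxV, k, hk⟩ := exists_cycles_retract' hE n hacyc x
  obtain ⟨V', hxV', a, hV'⟩ := exists_forall_restrict_iso_freeMod (hE.2 n) x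
  have hle : V ⊓ V' ≤ V := inf_le_left
  obtain ⟨e⟩ := hV' (V ⊓ V').ι (by rw [Scheme.Opens.opensRange_ι]; exact inf_le_right)
  refine ⟨(V ⊓ V' : X.Opens), (V ⊓ V').ι, inferInstance, ⟨⟨x, hxV, hxV'⟩, rfl⟩, ?_⟩
  refine Groth.Agent.Lib.LocFreeSummand.isFinLocFree_of_retract
    ((Scheme.Modules.restrictFunctor (V ⊓ V').ι).map (E.iCycles n) ≫ e.hom)
    (e.inv ≫ res hle k) ?_
  rw [Category.assoc, e.hom_inv_id_assoc, ← res_map hle, ← res_comp, hk, res_id]

end Scheme

end Groth.Agent.Lib.CyclesRetract
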