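import Mathlib
import Groth.Agent.Lib.CSACentralizer

/-!
# Division algebras of degree `p` in characteristic `p` with a Galois subfield of degree `p`

If a central division algebra `A` of dimension `p²` over a field `K` of characteristic `p` contains
a Galois extension `L / K` of degree `p`, then `A` has an element `v ∉ K` with `v ^ p ∈ K`; in
particular `v` is not separable over `K`.
-/

set_option autoImplicit false

namespace Groth.Agent.Lib.CyclicDivAlg

open Polynomial Groth.Agent.Lib.CSA

/-- An element `v ∉ K` with `v ^ p ∈ K` in characteristic `p` is not separable over `K`. -/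
theorem not_isSeparable_of_pow_char {K : Type*} [Field K] (p : ℕ) [Fact p.Prime] [CharP K p]
    {A : Type*} [Ring A] [Nontrivial A] [Algebra K A]
    (v : A) (a : K) (hv : v ^ p = algebraMap K A a) (hvK : v ∉ (algebraMap K A).range) :
    ¬ IsSeparable K v := by
  intro hsep
  have hp : p.Prime := Fact.out
  have hroot : aeval v (X ^ p - C a : K[X]) = 0 := by simp [hv]
  have hmonic : (X ^ p - C a : K[X]).Monic := monic_X_pow_sub_C a hp.ne_zero
  have hint : IsIntegral K v := ⟨_, hmonic, hroot⟩
  have hdvd : minpoly K v ∣ X ^ p - C a := minpoly.dvd K v hroot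
  let Ω := AlgebraicClosure K
  obtain ⟨β, hβ⟩ : ∃ β : Ω, β ^ p = algebraMap K Ω a := IsAlgClosed.exists_pow_nat_eq _ hp.pos
  haveI : CharP Ω p := charP_of_injective_algebraMap (algebraMap K Ω).injective p
  have hmap : (X ^ p - C a : K[X]).map (algebraMap K Ω) = (X - C β) ^ p := by
    rw [sub_pow_char, ← C_pow, hβ]
    simp
  have h1 : (minpoly K v).map (algebraMap K Ω) ∣ (X - C β) ^ p :=
    hmap ▸ Polynomial.map_dvd _ hdvd
  have hsq : Squarefree ((minpoly K v).map (algebraMap K Ω)) := (Separable.map hsep).squarefree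
  have h2 : (minpoly K v).map (algebraMap K Ω) ∣ X - C β :=
    (hsq.dvd_pow_iff_dvd hp.ne_zero).mp h1
  have h3 : (minpoly K v).natDegree ≤ 1 := by
    have := natDegree_le_of_dvd h2 (X_sub_C_ne_zero β)
    rwa [natDegree_map, natDegree_X_sub_C] at this
  have h4 : 0 < (minpoly K v).natDegree := minpoly.natDegree_pos hint
  have h5 : (minpoly K v).degree = 1 := by
    rw [degree_eq_natDegree (minpoly.ne_zero hint)]
    have : (minpoly K v).natDegree = 1 := by omega
    rw [this]; rfl
  exact hvK (minpoly.mem_range_of_degree_eq_one K v h5)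

universe u v w

variable {K : Type u} [Field K] {A : Type v} [DivisionRing A] [Algebra K A]
  [Algebra.IsCentral K A] [FiniteDimensional K A]

/-- The image of a degree-`p` field in a central division algebra of dimension `p²` is its own
centralizer. -/
theorem centralizer_range_eq (p : ℕ) (hp : 0 < p) (hA : Module.finrank K A = p ^ 2)
    {L : Type w} [Field L] [Algebra K L] (hL : Module.finrank K L = p) (ι : L →ₐ[K] A) :
    Subalgebra.centralizer K ((ι.range : Subalgebra K A) : Set A) = ι.range := by
  haveI : IsSimpleRing (ι.range : Subalgebra K A) := isSimpleRing_subalgebra _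
  have h := finrank_centralizer (ι.range : Subalgebra K A)
  have hιinj : Function.Injective ι := ι.toRingHom.injective
  have hrank : Module.finrank K (ι.range : Subalgebra K A) = p := by
    rw [← hL]
    exact (AlgEquiv.ofInjective ι hιinj).toLinearEquiv.finrank_eq.symm
  rw [hA, hrank, sq] at h
  have hc : Module.finrank K (Subalgebra.centralizer K ((ι.range : Subalgebra K A) : Set A)) = p :=
    (Nat.eq_of_mul_eq_mul_left hp h).symm
  have hle : (ι.range : Subalgebra K A) ≤
      Subalgebra.centralizer K ((ι.range : Subalgebra K A) : Set A) := by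
    rintro _ ⟨b, rfl⟩
    rw [Subalgebra.mem_centralizer_iff]
    rintro _ ⟨c, rfl⟩
    change ι c * ι b = ι b * ι c
    rw [← map_mul, ← map_mul, mul_comm]
  symm
  apply Subalgebra.toSubmodule_injective
  exact Submodule.eq_of_le_of_finrank_eq hle (by rw [Subalgebra.finrank_toSubmodule,
    Subalgebra.finrank_toSubmodule, hrank, hc])

/-- A central division algebra of dimension `p²` in characteristic `p` containing a Galois
extension of degree `p` has an element `v ∉ K` with `v ^ p ∈ K`. -/
theorem exists_pow_mem_of_galois (p : ℕ) [Fact p.Prime] (hA : Module.finrank K A = p ^ 2)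
    {L : Type w} [Field L] [Algebra K L] [IsGalois K L] (hL : Module.finrank K L = p)
    (ι : L →ₐ[K] A) :
    ∃ (v : A) (a : K), v ^ p = algebraMap K A a ∧ v ∉ (algebraMap K A).range := by
  have hp : p.Prime := Fact.out
  haveI : FiniteDimensional K L := Module.finite_of_finrank_pos (by rw [hL]; exact hp.pos)
  have hcard : Nat.card (L ≃ₐ[K] L) = p := by rw [IsGalois.card_aut_eq_finrank, hL]
  haveI : Finite (L ≃ₐ[K] L) := Nat.finite_of_card_ne_zero (by rw [hcard]; exact hp.ne_zero)
  obtain ⟨σ, hσ⟩ : ∃ σ : L ≃ₐ[K] L, σ ≠ 1 := by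
    haveI : Nontrivial (L ≃ₐ[K] L) := by
      rw [← Finite.one_lt_card_iff_nontrivial, hcard]
      exact hp.one_lt
    exact exists_ne 1
  have hσp : σ ^ p = 1 := by rw [← hcard]; exact pow_card_eq_one'
  have hιinj : Function.Injective ι := ι.toRingHom.injective
  obtain ⟨x, hx⟩ := skolem_noether (ι.comp (σ : L →ₐ[K] L)) ι
  set y : A := ((x⁻¹ : Aˣ) : A) with hy
  have hxy : (x : A) * y = 1 := by simp [hy]
  have hyx : y * (x : A) = 1 := by simp [hy]
  have hx' : ∀ b : L, ι (σ b) = (x : A) * ι b * y := fun b => hx b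
  have hxk : ∀ k : ℕ, ∀ b : L, ι ((σ ^ k) b) = (x : A) ^ k * ι b * y ^ k := by
    intro k
    induction k with
    | zero => intro b; simp
    | succ k ih =>
      intro b
      rw [pow_succ' σ, AlgEquiv.mul_apply, hx', ih, pow_succ' (x : A), pow_succ y]
      noncomm_ring
  have hyxk : ∀ k : ℕ, y ^ k * (x : A) ^ k = 1 := by
    intro k
    induction k with
    | zero => simp
    | succ k ih =>
      rw [pow_succ y, pow_succ' (x : A), mul_assoc, ← mul_assoc y, hyx, one_mul, ih]
  -- x^p commutes with the image of L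
  have hcomm : ∀ b : L, (x : A) ^ p * ι b = ι b * (x : A) ^ p := by
    intro b
    have h := hxk p b
    rw [hσp, AlgEquiv.one_apply] at h
    calc (x : A) ^ p * ι b = (x : A) ^ p * ι b * (y ^ p * (x : A) ^ p) := by
          rw [hyxk, mul_one]
      _ = ((x : A) ^ p * ι b * y ^ p) * (x : A) ^ p := by noncomm_ring
      _ = ι b * (x : A) ^ p := by rw [← h]
  have hmem : (x : A) ^ p ∈ Subalgebra.centralizer K ((ι.range : Subalgebra K A) : Set A) := by
    rw [Subalgebra.mem_centralizer_iff]
    rintro _ ⟨b, rfl⟩
    exact (hcomm b).symm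
  rw [centralizer_range_eq p hp.pos hA hL ι] at hmem
  obtain ⟨l₀, hl₀⟩ := hmem
  -- l₀ is fixed by σ
  have hfix : σ l₀ = l₀ := by
    apply hιinj
    have h1 : ι (σ l₀) = (x : A) * (x : A) ^ p * y := by
      rw [hx', ← hl₀]; rfl
    rw [h1, ← pow_succ', pow_succ, mul_assoc, hxy, mul_one]
    exact hl₀.symm
  -- hence by the whole Galois group
  have hall : ∀ τ : L ≃ₐ[K] L, τ l₀ = l₀ := by
    intro τ
    have htop := zpowers_eq_top_of_prime_card hcard hσ
    have hτ : τ ∈ Subgroup.zpowers σ := htop ▸ Subgroup.mem_top τ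
    obtain ⟨k, rfl⟩ := Subgroup.mem_zpowers_iff.mp hτ
    have hfixz : ∀ k : ℤ, (σ ^ k) l₀ = l₀ := by
      intro k
      have hnat : ∀ n : ℕ, (σ ^ n) l₀ = l₀ := by
        intro n
        induction n with
        | zero => simp
        | succ n ih => rw [pow_succ, AlgEquiv.mul_apply, hfix, ih]
      cases k with
      | ofNat n => simpa using hnat n
      | negSucc n =>
        rw [zpow_negSucc]
        have := hnat (n + 1)
        rw [AlgEquiv.aut_inv]
        exact (AlgEquiv.symm_apply_eq _).mpr this.symm
    exact hfixz k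
  obtain ⟨a, ha⟩ : ∃ a : K, algebraMap K L a = l₀ := by
    have := (IsGalois.mem_bot_iff_fixed l₀).mpr hall
    exact IntermediateField.mem_bot.mp this
  refine ⟨(x : A), a, ?_, ?_⟩
  · change (x : A) ^ p = algebraMap K A a
    have hl₀' : ι l₀ = (x : A) ^ p := hl₀
    rw [← hl₀', ← ha, AlgHom.commutes]
  · rintro ⟨c, hc⟩
    apply hσ
    ext b
    apply hιinj
    have hcy : algebraMap K A c * y = 1 := by rw [hc]; exact hxy
    rw [hx', ← hc, AlgEquiv.one_apply, Algebra.commutes, mul_assoc, hcy, mul_one]

/-- **(3) ⇒ (1)**: a central division algebra of dimension `p²` in characteristic `p` containing a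
Galois extension of degree `p` has an inseparable element. -/
theorem exists_not_isSeparable (p : ℕ) [Fact p.Prime] [CharP K p]
    (hA : Module.finrank K A = p ^ 2)
    {L : Type w} [Field L] [Algebra K L] [IsGalois K L] (hL : Module.finrank K L = p)
    (ι : L →ₐ[K] A) : ∃ v : A, ¬ IsSeparable K v := by
  obtain ⟨v, a, hv, hvK⟩ := exists_pow_mem_of_galois p hA hL ι
  exact ⟨v, not_isSeparable_of_pow_char p v a hv hvK⟩

end Groth.Agent.Lib.CyclicDivAlg
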