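import Groth.Agent.Lib.DAdjEquiv11

/-!
# Unit / counit of `G.mapDerivedCategory ⊣ R` on bounded below objects, cohomology-wise criterion
-/

set_option autoImplicit false
universe u
open CategoryTheory CategoryTheory.Limits Pretriangulated Triangulated

namespace Groth.Agent.Lib.DAdjEquiv11

set_option linter.unusedSectionVars false

attribute [local instance] HasDerivedCategory.standard

variable {C₁ C₂ : Type (u+1)} [Category.{u} C₁] [Category.{u} C₂] [Abelian C₁] [Abelian C₂]
  (G : C₁ ⥤ C₂) [G.Additive] [PreservesFiniteLimits G] [PreservesFiniteColimits G]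
  (R : DerivedCategory C₂ ⥤ DerivedCategory C₁) (adj : G.mapDerivedCategory ⊣ R)

open DerivedCategory DerivedCategory.TStructure

include adj in
/-- If the unit is an isomorphism on all `H^q(Y)[0]`, `Y` bounded below, it is one on `Y`. -/
theorem isIso_unit_of_isGE (Y : DerivedCategory C₁) (n₀ : ℤ) [Y.IsGE n₀]
    (h3 : ∀ q : ℤ, IsIso (adj.unit.app ((singleFunctor C₁ 0).obj ((homologyFunctor C₁ q).obj Y)))) :
    IsIso (adj.unit.app Y) := by
  let _ : R.CommShift ℤ := adj.rightAdjointCommShift ℤ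
  have : adj.CommShift ℤ := adj.commShift_of_leftAdjoint ℤ
  have : R.IsTriangulated := adj.isTriangulated_rightAdjoint
  let P : ObjectProperty C₁ := fun M => IsIso (adj.unit.app ((singleFunctor C₁ 0).obj M))
  have hP : P.IsClosedUnderIsomorphisms :=
    ⟨fun {X Y} e hX => Groth.Agent.Lib.DWayOut.isIso_app_of_iso (𝟭 _) (G.mapDerivedCategory ⋙ R)
      adj.unit ((singleFunctor C₁ 0).mapIso e) hX⟩
  refine Groth.Agent.Lib.DWayOut.isIso_app_of_isGE_of_wayOutRight P (𝟭 _)
    (G.mapDerivedCategory ⋙ R) adj.unit (fun n₁ => ⟨n₁, fun Z hZ => hZ⟩)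
    (fun n₁ => ⟨n₁, fun Z hZ => ?_⟩) (fun M hM => hM) Y n₀ (fun i _ => h3 i)
  have : (G.mapDerivedCategory.obj Z).IsGE n₁ := isGE_map G Z n₁
  exact isGE_rightAdjoint G R adj _ n₁

include adj in
/-- If the counit is an isomorphism on all `H^q(X)[0]`, `X` bounded below, it is one on `X`. -/
theorem isIso_counit_of_isGE (X : DerivedCategory C₂) (n₀ : ℤ) [X.IsGE n₀]
    (h3 : ∀ q : ℤ,
      IsIso (adj.counit.app ((singleFunctor C₂ 0).obj ((homologyFunctor C₂ q).obj X)))) :
    IsIso (adj.counit.app X) := by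
  let _ : R.CommShift ℤ := adj.rightAdjointCommShift ℤ
  have : adj.CommShift ℤ := adj.commShift_of_leftAdjoint ℤ
  have : R.IsTriangulated := adj.isTriangulated_rightAdjoint
  let P : ObjectProperty C₂ := fun M => IsIso (adj.counit.app ((singleFunctor C₂ 0).obj M))
  have hP : P.IsClosedUnderIsomorphisms :=
    ⟨fun {X Y} e hX => Groth.Agent.Lib.DWayOut.isIso_app_of_iso (R ⋙ G.mapDerivedCategory) (𝟭 _)
      adj.counit ((singleFunctor C₂ 0).mapIso e) hX⟩
  refine Groth.Agent.Lib.DWayOut.isIso_app_of_isGE_of_wayOutRight P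
    (R ⋙ G.mapDerivedCategory) (𝟭 _) adj.counit
    (fun n₁ => ⟨n₁, fun Z hZ => ?_⟩) (fun n₁ => ⟨n₁, fun Z hZ => hZ⟩) (fun M hM => hM) X n₀
    (fun i _ => h3 i)
  have : (R.obj Z).IsGE n₁ := isGE_rightAdjoint G R adj _ n₁
  exact isGE_map G _ n₁

end Groth.Agent.Lib.DAdjEquiv11
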