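import Mathlib.Algebra.Homology.DerivedCategory.KProjective
import Mathlib.Algebra.Homology.DerivedCategory.KInjective
import Mathlib.Algebra.Homology.DerivedCategory.HomologySequence
import Mathlib.Algebra.Homology.DerivedCategory.TStructure
import Mathlib.CategoryTheory.Preadditive.Injective.Basic

/-!
# Objects of `D(C)` represented by complexes in a class stable under shifts and cones

Namespace `Groth.Agent.Lib.DConeRep`.  Generalization of `Lib/H93ConeRep` (helper93) to an arbitrary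
abelian category and to classes of complexes between which morphisms of the derived category lift
to chain maps (e.g. K-projective or K-injective complexes).

* `Rep 𝒞 K`, `ConeClass 𝒞`, `rep_of_iso`, `rep_shift`, `rep_of_shift`, `rep_obj₁/₂/₃`, `rep_of_isZero`.
* `exists_map_eq_of_isKInjective`, `nonempty_homotopy_zero_of_isKInjective`.
* `BddInj`: bounded complexes of injectives; `coneClass_bddInj`.
-/

set_option autoImplicit false
universe w v u

open CategoryTheory CategoryTheory.Limits CategoryTheory.Pretriangulated ZeroObject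

namespace Groth.Agent.Lib.DConeRep

variable {C : Type u} [Category.{v} C] [Abelian C] [HasDerivedCategory.{w} C]

open DerivedCategory

/-- `K` is represented by a complex in the class `𝒞`. -/
def Rep (𝒞 : CochainComplex C ℤ → Prop) (K : DerivedCategory C) : Prop :=
  ∃ E, 𝒞 E ∧ Nonempty (Q.obj E ≅ K)

/-- A class of complexes stable under shifts and mapping cones, between which morphisms of the
derived category lift to morphisms of complexes. -/
structure ConeClass (𝒞 : CochainComplex C ℤ → Prop) : Prop where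
  lift : ∀ E₁ E₂ : CochainComplex C ℤ, 𝒞 E₁ → 𝒞 E₂ → ∀ g : Q.obj E₁ ⟶ Q.obj E₂,
    ∃ φ : E₁ ⟶ E₂, Q.map φ = g
  shift : ∀ (E : CochainComplex C ℤ) (n : ℤ), 𝒞 E → 𝒞 (E⟦n⟧)
  cone : ∀ {E₁ E₂ : CochainComplex C ℤ} (φ : E₁ ⟶ E₂), 𝒞 E₁ → 𝒞 E₂ →
    𝒞 (CochainComplex.mappingCone φ)

variable {𝒞 : CochainComplex C ℤ → Prop}

lemma rep_of_iso {K L : DerivedCategory C} (e : K ≅ L) (hK : Rep 𝒞 K) : Rep 𝒞 L := by
  obtain ⟨E, hE, ⟨i⟩⟩ := hK
  exact ⟨E, hE, ⟨i ≪≫ e⟩⟩

lemma rep_shift (h : ConeClass 𝒞) {K : DerivedCategory C} (n : ℤ) (hK : Rep 𝒞 K) :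
    Rep 𝒞 (K⟦n⟧) := by
  obtain ⟨E, hE, ⟨i⟩⟩ := hK
  refine ⟨E⟦n⟧, h.shift E n hE, ⟨?_⟩⟩
  exact (Q.commShiftIso n).app E ≪≫ (shiftFunctor _ n).mapIso i

lemma rep_of_shift (h : ConeClass 𝒞) {K : DerivedCategory C} (n : ℤ) (hK : Rep 𝒞 (K⟦n⟧)) :
    Rep 𝒞 K := by
  have := rep_shift h (-n) hK
  exact rep_of_iso ((shiftEquiv (DerivedCategory C) n).unitIso.symm.app K) this

theorem rep_obj₃ (h : ConeClass 𝒞) (T : Triangle (DerivedCategory C))
    (hT : T ∈ distTriang _) (h₁ : Rep 𝒞 T.obj₁) (h₂ : Rep 𝒞 T.obj₂) : Rep 𝒞 T.obj₃ := by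
  obtain ⟨E₁, hE₁, ⟨e₁⟩⟩ := h₁
  obtain ⟨E₂, hE₂, ⟨e₂⟩⟩ := h₂
  obtain ⟨φ, hφ⟩ := h.lift E₁ E₂ hE₁ hE₂ (e₁.hom ≫ T.mor₁ ≫ e₂.inv)
  refine ⟨CochainComplex.mappingCone φ, h.cone φ hE₁ hE₂, ⟨?_⟩⟩
  have hdist := DerivedCategory.mappingCone_triangle_distinguished φ
  have comm : Q.map φ ≫ e₂.hom = e₁.hom ≫ T.mor₁ := by
    rw [hφ]
    simp
  let e := isoTriangleOfIso₁₂ _ _ hdist hT e₁ e₂ comm
  exact Triangle.π₃.mapIso e

theorem rep_obj₁ (h : ConeClass 𝒞) (T : Triangle (DerivedCategory C))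
    (hT : T ∈ distTriang _) (h₂ : Rep 𝒞 T.obj₂) (h₃ : Rep 𝒞 T.obj₃) : Rep 𝒞 T.obj₁ := by
  have := rep_obj₃ h T.rotate (rot_of_distTriang _ hT) h₂ h₃
  exact rep_of_shift h 1 this

theorem rep_obj₂ (h : ConeClass 𝒞) (T : Triangle (DerivedCategory C))
    (hT : T ∈ distTriang _) (h₁ : Rep 𝒞 T.obj₁) (h₃ : Rep 𝒞 T.obj₃) : Rep 𝒞 T.obj₂ := by
  have := rep_obj₃ h T.rotate.rotate (rot_of_distTriang _ (rot_of_distTriang _ hT)) h₃
    (rep_shift h 1 h₁)
  exact rep_of_shift h 1 this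

/-- morphisms in the derived category into a K-injective complex come from chain maps -/
lemma exists_map_eq_of_isKInjective {E₁ E₂ : CochainComplex C ℤ} [E₂.IsKInjective]
    (g : Q.obj E₁ ⟶ Q.obj E₂) : ∃ φ : E₁ ⟶ E₂, Q.map φ = g := by
  obtain ⟨ψ, hψ⟩ := (CochainComplex.IsKInjective.Qh_map_bijective
    ((HomotopyCategory.quotient _ _).obj E₁) E₂).surjective
    ((quotientCompQhIso _).hom.app E₁ ≫ g ≫ (quotientCompQhIso _).inv.app E₂)
  obtain ⟨φ, rfl⟩ := (HomotopyCategory.quotient _ _).map_surjective ψ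
  refine ⟨φ, ?_⟩
  have := quotientCompQhIso_hom_naturality (C := C) φ
  rw [hψ] at this
  simp only [Category.assoc, Iso.inv_hom_id_app, Category.comp_id] at this
  exact ((cancel_epi _).mp this).symm

/-- a chain map into a K-injective complex which vanishes in the derived category is
null-homotopic -/
lemma nonempty_homotopy_zero_of_isKInjective {E₁ E₂ : CochainComplex C ℤ} [E₂.IsKInjective]
    (φ : E₁ ⟶ E₂) (h : Q.map φ = 0) : Nonempty (Homotopy φ 0) := by
  have h1 : Qh.map ((HomotopyCategory.quotient _ _).map φ) =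
      Qh.map ((HomotopyCategory.quotient _ _).map (0 : E₁ ⟶ E₂)) := by
    have e1 := quotientCompQhIso_hom_naturality (C := C) φ
    have e2 := quotientCompQhIso_hom_naturality (C := C) (0 : E₁ ⟶ E₂)
    dsimp at e1 e2
    rw [← cancel_mono ((quotientCompQhIso C).hom.app E₂), e1, e2, h, Functor.map_zero]
  have h2 := (CochainComplex.IsKInjective.Qh_map_bijective
    ((HomotopyCategory.quotient _ _).obj E₁) E₂).injective h1
  exact ⟨HomotopyCategory.homotopyOfEq _ _ h2⟩

section Injective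

/-- bounded complexes of injective objects -/
def BddInj (E : CochainComplex C ℤ) : Prop :=
  (∃ a b : ℤ, ∀ i : ℤ, i < a ∨ b < i → IsZero (E.X i)) ∧ ∀ i : ℤ, Injective (E.X i)

omit [HasDerivedCategory.{w} C] in
lemma isKInjective_of_bddInj (E : CochainComplex C ℤ) (hE : BddInj E) : E.IsKInjective := by
  obtain ⟨⟨a, b, hab⟩, hI⟩ := hE
  have : E.IsStrictlyGE a := by
    rw [CochainComplex.isStrictlyGE_iff]
    exact fun i hi => hab i (Or.inl hi)
  exact CochainComplex.isKInjective_of_injective E a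

theorem coneClass_bddInj : ConeClass (BddInj (C := C)) where
  lift := by
    intro E₁ E₂ _ hE₂ g
    have := isKInjective_of_bddInj E₂ hE₂
    exact exists_map_eq_of_isKInjective g
  shift := by
    rintro E n ⟨⟨a, b, hab⟩, hI⟩
    refine ⟨⟨a - n, b - n, fun i hi => ?_⟩, fun i => ?_⟩
    · exact hab (i + n) (by lia)
    · exact hI (i + n)
  cone := by
    rintro E₁ E₂ φ ⟨⟨a₁, b₁, hb₁⟩, hI₁⟩ ⟨⟨a₂, b₂, hb₂⟩, hI₂⟩
    refine ⟨⟨min (a₁ - 1) a₂, max b₁ b₂, fun i hi => ?_⟩, fun i => ?_⟩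
    · refine IsZero.of_iso ?_ (HomologicalComplex.homotopyCofiber.XIsoBiprod φ i (i + 1) rfl)
      rw [biprod_isZero_iff]
      refine ⟨hb₁ _ ?_, hb₂ _ ?_⟩
      · have := le_max_left b₁ b₂
        have := min_le_left (a₁ - 1) a₂
        lia
      · have := le_max_right b₁ b₂
        have := min_le_right (a₁ - 1) a₂
        lia
    · have := hI₁ (i + 1)
      have := hI₂ i
      exact Injective.of_iso (HomologicalComplex.homotopyCofiber.XIsoBiprod φ i (i + 1) rfl).symm
        inferInstance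

lemma rep_bddInj_of_isZero {Z : DerivedCategory C} (hZ : IsZero Z) : Rep (BddInj (C := C)) Z := by
  refine ⟨0, ⟨⟨0, 0, fun i _ => ?_⟩, fun i => ?_⟩, ⟨?_⟩⟩
  · exact (HomologicalComplex.eval _ _ i).map_isZero (isZero_zero _)
  · exact ((HomologicalComplex.eval _ _ i).map_isZero (isZero_zero _)).injective
  · exact (Q.map_isZero (isZero_zero _)).iso hZ

end Injective

end Groth.Agent.Lib.DConeRep
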