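import Groth.Agent.Lib.DerivedComplete
import Mathlib.Algebra.Homology.DerivedCategory.SingleTriangle
import Mathlib.Algebra.Homology.ShortComplex.ModuleCat
import Mathlib.CategoryTheory.Triangulated.Pretriangulated
import Mathlib.Tactic.LinearCombination

/-!
Second bridging lemma for derived completeness of a module `M` placed in degree zero:
from `Ext^1(A_f, M) = 0` we get that `x ↦ (x n - f • x (n + 1))` is surjective on sequences.
-/

set_option autoImplicit false
universe u
open CategoryTheory CategoryTheory.Limits Polynomial Pretriangulated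
attribute [local instance] HasDerivedCategory.standard

namespace Groth.Agent.Lib.DerivedComplete

variable {A : Type u} [CommRing A]

/-- `C f * X - 1` is a non-zero-divisor of `A[X]`. -/
theorem mul_left_injective_CfX_sub_one (f : A) :
    Function.Injective (fun p : A[X] => (C f * X - 1) * p) := by
  intro p q hpq
  have h : (C f * X - 1) * (p - q) = 0 := by
    rw [mul_sub]; exact sub_eq_zero.mpr hpq
  suffices hz : p - q = 0 from sub_eq_zero.mp hz
  set r := p - q with hr
  ext n
  rw [coeff_zero]
  induction n with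
  | zero =>
    have h0 := congrArg (fun s => coeff s 0) h
    simp only [sub_mul, one_mul, coeff_sub, mul_assoc, coeff_C_mul, coeff_X_mul_zero, mul_zero,
      zero_sub, coeff_zero, neg_eq_zero] at h0
    exact h0
  | succ n ih =>
    have h1 := congrArg (fun s => coeff s (n + 1)) h
    simp only [sub_mul, one_mul, coeff_sub, mul_assoc, coeff_C_mul, coeff_X_mul, coeff_zero] at h1
    rw [ih, mul_zero, zero_sub, neg_eq_zero] at h1
    exact h1

/-- The short complex `0 → A[X] → A[X] → A[X]/(fX - 1) → 0` of `A`-modules. -/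
noncomputable def awaySC (f : A) : ShortComplex (ModuleCat.{u} A) :=
  ShortComplex.mk
    (ModuleCat.ofHom (LinearMap.mulLeft A (C f * X - 1 : A[X])))
    (ModuleCat.ofHom (AdjoinRoot.mkₐ (C f * X - 1 : A[X])).toLinearMap)
    (by
      apply ModuleCat.hom_ext
      apply LinearMap.ext
      intro p
      show AdjoinRoot.mk (C f * X - 1 : A[X]) ((C f * X - 1) * p) = 0
      rw [map_mul, AdjoinRoot.mk_self, zero_mul])

theorem awaySC_shortExact (f : A) : (awaySC f).ShortExact := by
  apply ModuleCat.shortComplex_shortExact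
  · intro p
    show AdjoinRoot.mk (C f * X - 1 : A[X]) p = 0 ↔ p ∈ Set.range (fun q => (C f * X - 1) * q)
    rw [AdjoinRoot.mk_eq_zero]
    constructor
    · rintro ⟨q, rfl⟩; exact ⟨q, rfl⟩
    · rintro ⟨q, rfl⟩; exact ⟨q, rfl⟩
  · exact mul_left_injective_CfX_sub_one f
  · exact AdjoinRoot.mk_surjective

variable {M : Type u} [AddCommGroup M] [Module A M]

/-- If `M[0]` is derived complete with respect to `I` and `f ∈ I`, then every linear map
`A[X] → M` is of the form `p ↦ ψ ((C f * X - 1) * p)`. -/
theorem exists_factor (I : Ideal A) (hc : DRing.IsDerivedComplete I (Dual.inD A M)) (f : A)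
    (hf : f ∈ I) (φ : A[X] →ₗ[A] M) :
    ∃ ψ : A[X] →ₗ[A] M, ∀ p, φ p = ψ ((C f * X - 1) * p) := by
  let F := DerivedCategory.singleFunctor (ModuleCat.{u} A) 0
  have hS := awaySC_shortExact f
  have hT := hS.singleTriangle_distinguished
  have hT' := inv_rot_of_distTriang _ hT
  -- the relevant Hom group vanishes
  let e : ModuleCat.of A (AdjoinRoot (C f * X - 1 : A[X])) ≅ ModuleCat.of A (Localization.Away f) :=
    (Localization.awayEquivAdjoin f).symm.toLinearEquiv.toModuleIso
  have hsub1 : Subsingleton (Dual.inD A (Localization.Away f) ⟶ (Dual.inD A M)⟦(1 : ℤ)⟧) :=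
    hc f hf 1
  have hsub2 : Subsingleton (F.obj (awaySC f).X₃ ⟶ (Dual.inD A M)⟦(1 : ℤ)⟧) :=
    ((F.mapIso e).homFromEquiv (Z := (Dual.inD A M)⟦(1 : ℤ)⟧)).subsingleton
  have hsub3 : Subsingleton ((F.obj (awaySC f).X₃)⟦(-1 : ℤ)⟧ ⟶ Dual.inD A M) := by
    have e := (shiftEquiv (Dual.D A) (1 : ℤ)).symm.toAdjunction.homEquiv
      (F.obj (awaySC f).X₃) (Dual.inD A M)
    exact @Equiv.subsingleton _ _ e hsub2
  obtain ⟨g', hg'⟩ := Triangle.yoneda_exact₂ _ hT' (F.map (ModuleCat.ofHom φ)) (hsub3.elim _ _)
  obtain ⟨ψ, hψ⟩ := F.map_surjective g'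
  refine ⟨ψ.hom, fun p => ?_⟩
  have h1 : F.map (ModuleCat.ofHom φ) = F.map ((awaySC f).f ≫ ψ) := by
    rw [F.map_comp, hψ]; exact hg'
  have h2 := F.map_injective h1
  have h3 := congrArg (fun k => k.hom p) h2
  exact h3

/-- If `M[0]` is derived complete with respect to `I` and `f ∈ I`, then for every sequence `m`
there is a sequence `x` with `x n - f • x (n + 1) = m n`. -/
theorem exists_seq (I : Ideal A) (hc : DRing.IsDerivedComplete I (Dual.inD A M)) (f : A)
    (hf : f ∈ I) (m : ℕ → M) : ∃ x : ℕ → M, ∀ n, x n - f • x (n + 1) = m n := by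
  let φ : A[X] →ₗ[A] M := (Polynomial.basisMonomials A).constr A m
  have hφ : ∀ n, φ (Polynomial.monomial n 1) = m n := fun n => by
    have := (Polynomial.basisMonomials A).constr_basis A m n
    simpa [φ] using this
  obtain ⟨ψ, hψ⟩ := exists_factor I hc f hf φ
  refine ⟨fun n => - ψ (monomial n 1), fun n => ?_⟩
  have h1 : (C f * X - 1 : A[X]) * monomial n 1 = f • monomial (n + 1) 1 - monomial n 1 := by
    rw [sub_mul, one_mul, mul_assoc, X_mul_monomial, ← smul_eq_C_mul]
  rw [← hφ n, hψ, h1, map_sub, map_smul]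
  simp only [smul_neg]
  abel

end Groth.Agent.Lib.DerivedComplete
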