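import Groth.Agent.Lib.DProjRes1
import Groth.Agent.Lib.DerivedComplete2

/-!
# Derived completeness is detected on cohomology

Namespace `Groth.Agent.Lib.DDerComplete`.

* `isDerivedComplete_iff_V`: `K` is derived complete w.r.t. `I` iff for all `f ∈ I` and `n`,
  all maps `(A[X]/(fX-1))[0] ⟶ K[n]` vanish.
* `isDerivedComplete_iff_homology`: `K` is derived complete iff all `H^i(K)[0]` are.
-/

set_option autoImplicit false
universe u
open CategoryTheory CategoryTheory.Limits Polynomial
attribute [local instance] HasDerivedCategory.standard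

namespace Groth.Agent.Lib.DDerComplete

open Groth.Agent.Lib.DerivedComplete Groth.Agent.Lib.DProjRes1

variable {A : Type u} [CommRing A]

instance (f : A) : Projective (awaySC f).X₁ :=
  (IsProjective.iff_projective (R := A) (A[X])).mp inferInstance

instance (f : A) : Projective (awaySC f).X₂ :=
  (IsProjective.iff_projective (R := A) (A[X])).mp inferInstance

/-- `A[X]/(fX - 1) ≅ A_f` as modules. -/
noncomputable def awayIso (f : A) :
    (awaySC f).X₃ ≅ ModuleCat.of A (Localization.Away f) :=
  (Localization.awayEquivAdjoin f).symm.toLinearEquiv.toModuleIso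

lemma subsingleton_iff_V (f : A) (Y : Dual.D A) :
    Subsingleton (Dual.inD A (Localization.Away f) ⟶ Y) ↔ V (awaySC f) Y := by
  let F := DerivedCategory.singleFunctor (ModuleCat.{u} A) 0
  constructor
  · intro h φ
    have : (F.mapIso (awayIso f)).inv ≫ φ = 0 := Subsingleton.elim _ _
    rw [← cancel_epi (F.mapIso (awayIso f)).inv, this, Limits.comp_zero]
  · intro h
    refine ⟨fun φ₁ φ₂ => ?_⟩
    have h1 := h ((F.mapIso (awayIso f)).hom ≫ φ₁)
    have h2 := h ((F.mapIso (awayIso f)).hom ≫ φ₂)
    rw [← cancel_epi (F.mapIso (awayIso f)).hom, h1, h2]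

lemma isDerivedComplete_iff_V (I : Ideal A) (K : Dual.D A) :
    DRing.IsDerivedComplete I K ↔ ∀ f : A, f ∈ I → ∀ n : ℤ, V (awaySC f) (K⟦n⟧) := by
  constructor
  · intro h f hf n
    exact (subsingleton_iff_V f _).mp (h f hf n)
  · intro h f hf n
    exact (subsingleton_iff_V f _).mpr (h f hf n)

/-- `K` is derived complete iff all its cohomology modules (placed in degree `0`) are. -/
theorem isDerivedComplete_iff_homology (I : Ideal A) (K : Dual.D A) :
    DRing.IsDerivedComplete I K ↔
      ∀ i : ℤ, DRing.IsDerivedComplete I (Dual.inD A (Dual.HD A K i)) := by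
  rw [isDerivedComplete_iff_V]
  constructor
  · intro h i
    rw [isDerivedComplete_iff_V]
    intro f hf
    exact (hom_vanishing_iff_homology (awaySC_shortExact f) K).mp (h f hf) i
  · intro h f hf
    rw [hom_vanishing_iff_homology (awaySC_shortExact f) K]
    intro i
    exact (isDerivedComplete_iff_V I _).mp (h i) f hf

end Groth.Agent.Lib.DDerComplete
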