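import Mathlib.Algebra.Homology.DerivedCategory.HomologySequence
import Mathlib.Algebra.Homology.DerivedCategory.KProjective
import Mathlib.Algebra.Homology.SingleHomology
import Mathlib.CategoryTheory.Preadditive.Projective.Basic

/-!
# Detecting isomorphisms in the derived category by maps from projectives placed in one degree

* `isKProjective_single`: a projective object in a single degree is K-projective.
* `exists_single_epi`: for a complex `N₀` and `n : ℤ`, there are a projective `P` and a chain map
  `P[-n] ⟶ N₀` inducing an epimorphism on `H^n`.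
* `isIso_of_comp_eq`: an endomorphism `e` of `N : D(C)` such that `t ≫ e = t` for all
  `t : Q (P[-n]) ⟶ N` (`P` projective) is an isomorphism.
-/

set_option autoImplicit false
universe w v u

open CategoryTheory CategoryTheory.Limits Category

namespace Groth.Agent.Lib.DDetect

variable {C : Type u} [Category.{v} C] [Abelian C]

/-- The complex with `P` in degree `n`. -/
noncomputable abbrev sg (n : ℤ) (P : C) : CochainComplex C ℤ :=
  (HomologicalComplex.single C (ComplexShape.up ℤ) n).obj P

lemma projective_sg_X (n : ℤ) (P : C) [Projective P] (i : ℤ) : Projective ((sg n P).X i) := by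
  by_cases hn : i = n
  · subst hn
    exact Projective.of_iso (HomologicalComplex.singleObjXSelf (ComplexShape.up ℤ) i P).symm
      inferInstance
  · exact (HomologicalComplex.isZero_single_obj_X _ _ _ _ hn).projective

instance isKProjective_single (n : ℤ) (P : C) [Projective P] : (sg n P).IsKProjective := by
  have := projective_sg_X n P
  have : (sg n P).IsStrictlyLE n := by
    change ((CochainComplex.singleFunctor C n).obj P).IsStrictlyLE n
    infer_instance
  exact CochainComplex.isKProjective_of_projective (sg n P) n

lemma exists_single_epi [EnoughProjectives C] (N₀ : CochainComplex C ℤ) (n : ℤ) :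
    ∃ (P : C) (_ : Projective P) (t₀ : sg n P ⟶ N₀),
      Epi (HomologicalComplex.homologyMap t₀ n) := by
  let Z := N₀.cycles n
  let P := Projective.over Z
  let π : P ⟶ Z := Projective.π Z
  let φ : P ⟶ N₀.X n := π ≫ N₀.iCycles n
  have hφ : ∀ k, (ComplexShape.up ℤ).Rel n k → φ ≫ N₀.d n k = 0 := by
    intro k _
    simp [φ]
  let t₀ : sg n P ⟶ N₀ := HomologicalComplex.mkHomFromSingle φ hφ
  refine ⟨P, inferInstance, t₀, ?_⟩
  have h1 : HomologicalComplex.cyclesMap t₀ n =
      (HomologicalComplex.singleObjCyclesSelfIso (ComplexShape.up ℤ) n P).hom ≫ π := by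
    rw [← cancel_mono (N₀.iCycles n), HomologicalComplex.cyclesMap_i,
      HomologicalComplex.singleObjCyclesSelfIso_hom, assoc, assoc]
    dsimp only [t₀]
    rw [HomologicalComplex.mkHomFromSingle_f]
  have h2 : Epi (HomologicalComplex.cyclesMap t₀ n) := by
    rw [h1]
    infer_instance
  have h3 : (sg n P).homologyπ n ≫ HomologicalComplex.homologyMap t₀ n =
      HomologicalComplex.cyclesMap t₀ n ≫ N₀.homologyπ n :=
    HomologicalComplex.homologyπ_naturality t₀ n
  have h4 : Epi ((sg n P).homologyπ n ≫ HomologicalComplex.homologyMap t₀ n) := by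
    rw [h3]
    infer_instance
  exact epi_of_epi ((sg n P).homologyπ n) _

variable [HasDerivedCategory.{w} C]

open DerivedCategory

theorem isIso_of_comp_eq [EnoughProjectives C] (N : DerivedCategory C) (e : N ⟶ N)
    (h : ∀ (n : ℤ) (P : C) [Projective P] (t : Q.obj (sg n P) ⟶ N), t ≫ e = t) : IsIso e := by
  rw [DerivedCategory.isIso_iff]
  intro n
  let N₀ := Q.objPreimage N
  let i : Q.obj N₀ ≅ N := Q.objObjPreimageIso N
  obtain ⟨P, hP, t₀, ht₀⟩ := exists_single_epi N₀ n
  have h1 : Epi ((homologyFunctor C n).map (Q.map t₀)) := by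
    have := (homologyFunctorFactors C n).hom.naturality t₀
    simp only [Functor.comp_map] at this
    change Epi ((HomologicalComplex.homologyFunctor C (ComplexShape.up ℤ) n).map t₀) at ht₀
    have hepi : Epi ((homologyFunctor C n).map (Q.map t₀) ≫
        (homologyFunctorFactors C n).hom.app N₀) := by
      rw [this]
      exact epi_comp _ _
    have h2 : (homologyFunctor C n).map (Q.map t₀) =
        ((homologyFunctor C n).map (Q.map t₀) ≫ (homologyFunctorFactors C n).hom.app N₀) ≫
          (homologyFunctorFactors C n).inv.app N₀ := by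
      rw [assoc, Iso.hom_inv_id_app]
      exact (comp_id _).symm
    rw [h2]
    exact epi_comp _ _
  have h3 := h n P (Q.map t₀ ≫ i.hom)
  have h4 : (homologyFunctor C n).map (Q.map t₀ ≫ i.hom) ≫ (homologyFunctor C n).map e =
      (homologyFunctor C n).map (Q.map t₀ ≫ i.hom) ≫ 𝟙 _ := by
    rw [← Functor.map_comp, h3, comp_id]
  have h5 : Epi ((homologyFunctor C n).map (Q.map t₀ ≫ i.hom)) := by
    rw [Functor.map_comp]
    infer_instance
  rw [(cancel_epi _).mp h4]
  infer_instance

end Groth.Agent.Lib.DDetect
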