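import Groth.Agent.Lib.LocCohCdGen

/-!
# `cd(R, I) ≤ d` iff `H^i_I(R) = 0` for `i > d` (helper53)
-/

set_option maxHeartbeats 400000
universe u
open CategoryTheory CategoryTheory.Limits Opposite

namespace Groth.Agent.Lib.LocCohCdRing
open Groth.Agent.Lib.LocCohConcrete Groth.Agent.Lib.LocCohLES
open Groth.Agent.Lib.LocCohTorsion Groth.Agent.Lib.LocCohVanishing Groth.Agent.Lib.LocCohCdGen

variable {R : Type u} [CommRing R] (I : Ideal R)

section sum
variable {M M' : Type u} [AddCommGroup M] [Module R M] [AddCommGroup M'] [Module R M']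

theorem Hmap_sum {κ : Type*} (t : Finset κ) (φ : κ → (M →ₗ[R] M')) (i : ℕ)
    (y : LocCoh.H I i M) :
    Hmap I (∑ k ∈ t, φ k) i y = ∑ k ∈ t, Hmap I (φ k) i y := by
  classical
  induction t using Finset.induction_on with
  | empty => simp [Hmap_zero]
  | insert a s ha ih => rw [Finset.sum_insert ha, Finset.sum_insert ha, Hmap_add, ih]

end sum

section free
variable [IsNoetherianRing R]

/-- `H^i_I(R) = 0 ⇒ H^i_I(F) = 0` for free `F`. -/
theorem subsingleton_H_free (ι : Type u) (i : ℕ) (h : Subsingleton (LocCoh.H I i R)) :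
    Subsingleton (LocCoh.H I i (ι →₀ R)) := by
  classical
  refine subsingleton_of_forall_eq 0 fun y => ?_
  obtain ⟨M', hM', y', rfl⟩ := exists_fg_H (ι →₀ R) I i y
  obtain ⟨G, hG⟩ := hM'
  let t : Finset ι := G.biUnion fun g => g.support
  have hle : M' ≤ Finsupp.supported R R (t : Set ι) := by
    rw [← hG, Submodule.span_le]
    intro g hg
    rw [SetLike.mem_coe, Finsupp.mem_supported]
    intro k hk
    exact Finset.mem_biUnion.2 ⟨g, hg, hk⟩
  let e : (ι →₀ R) →ₗ[R] (ι →₀ R) := ∑ k ∈ t, Finsupp.lsingle k ∘ₗ Finsupp.lapply k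
  have he : e ∘ₗ M'.subtype = M'.subtype := by
    ext ⟨m, hm⟩ : 1
    have hm' := hle hm
    rw [Finsupp.mem_supported] at hm'
    change e m = m
    simp only [e, LinearMap.sum_apply, LinearMap.comp_apply, Finsupp.lapply_apply,
      Finsupp.lsingle_apply]
    conv_rhs => rw [← Finsupp.sum_single m]
    rw [Finsupp.sum]
    apply (Finset.sum_subset hm' ?_).symm
    intro k _ hk
    rw [Finsupp.notMem_support_iff.1 hk, Finsupp.single_zero]
  rw [← he, Hmap_comp, Hmap_sum]
  apply Finset.sum_eq_zero
  intro k _
  rw [Hmap_comp, Subsingleton.elim (Hmap I (Finsupp.lapply k) i _) 0, map_zero]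

/-- `cd(R, I) ≤ d` iff `H^i_I(R) = 0` for all `i > d`. -/
theorem cdLE_iff_ring (d : ℕ) :
    (∀ i : ℕ, d < i → Subsingleton (LocCoh.H I i R)) ↔ LocCoh.CdLE R I d := by
  constructor
  · intro h
    obtain ⟨s, hs⟩ := (isNoetherianRing_iff_ideal_fg R).1 inferInstance I
    have hc : LocCoh.CdLE R I s.card := by
      rw [← hs]
      exact cdLE_span_finset s
    have key : ∀ (k i : ℕ), d < i → s.card < i + k →
        ∀ (M : Type u) [AddCommGroup M] [Module R M], Subsingleton (LocCoh.H I i M) := by
      intro k
      induction k with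
      | zero => exact fun i _ hi M _ _ => hc M i (by omega)
      | succ k ih =>
        intro i hdi hi M _ _
        let π : (M →₀ R) →ₗ[R] M := Finsupp.linearCombination R id
        have hπ : Function.Surjective π := Finsupp.linearCombination_id_surjective R M
        have hF := subsingleton_H_free I M i (h i hdi)
        have hK := ih (i + 1) (by omega) (by omega) (LinearMap.ker π)
        refine subsingleton_of_forall_eq 0 fun y => ?_
        have hinj : Function.Injective (LinearMap.ker π).subtype := Submodule.injective_subtype _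
        have hex : Function.Exact (LinearMap.ker π).subtype π := LinearMap.exact_subtype_ker_map π
        obtain ⟨z, rfl⟩ := (exact₃ (M₁ := LinearMap.ker π) I (LinearMap.ker π).subtype π hinj hex hπ i y).1
          (Subsingleton.elim _ _)
        rw [Subsingleton.elim z 0, map_zero]
    intro M _ _ i hi
    exact key (s.card + 1) i hi (by omega) M
  · intro h i hi
    exact h R i hi

end free

end Groth.Agent.Lib.LocCohCdRing
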