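import Groth.Agent.Lib.H29LocCohReg
import Groth.Agent.Lib.LocCohCdRing
import Groth.Agent.S0318
import Mathlib.RingTheory.Localization.Integer
import Mathlib.LinearAlgebra.Basis.SMul

/-!
# Uniform annihilators of local cohomology (Brodmann–Sharp 9.4) (helper29)

* `exists_mem_forall_smul_mem`: common multiplier for a finitely generated submodule.
* `exists_free_approx`: if `M_p` is free there are a finite free `F`, `φ : F → M` and `sK, sC ∉ p`
  with `sK • ker φ = 0` and `sC • M ⊆ range φ`.
* `smul_H_eq_zero_of_approx`: then `sK * sC` kills `H^i_b(M)` whenever `H^i_b(F) = 0`.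
* `subsingleton_H_free_of_lt`: `H^i_b(F) = 0` for `F` free and `i < depth_b R`.
* `exists_smul_H_eq_zero_of_free`: BS 9.4.? : `M_p` free ⇒ `∃ s ∉ p` killing `H^i_b(M)` for all proper
  `b` and all `i < depth_b R`.
-/

set_option autoImplicit false
universe u

namespace Groth.Agent.Lib.H29LocCohAnn

open Groth.Agent.Lib.LocCohLES Groth.Agent.Lib.LocCohTorsion Groth.Agent.Lib.LocCohConcrete

variable {R : Type u} [CommRing R]

/-- common multiplier for a finitely generated submodule. -/
theorem exists_mem_forall_smul_mem {M : Type*} [AddCommGroup M] [Module R M] (S : Submonoid R)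
    (N P : Submodule R M) (hN : N.FG) (h : ∀ n ∈ N, ∃ t ∈ S, t • n ∈ P) :
    ∃ t ∈ S, ∀ n ∈ N, t • n ∈ P := by
  classical
  obtain ⟨G, hG⟩ := hN
  choose! t ht using h
  have hGN : ∀ g ∈ G, g ∈ N := fun g hg => hG ▸ Submodule.subset_span hg
  refine ⟨∏ g ∈ G, t g, Submonoid.prod_mem S fun g hg => (ht g (hGN g hg)).1, ?_⟩
  intro n hn
  rw [← hG] at hn
  induction hn using Submodule.span_induction with
  | mem g hg =>
    rw [← Finset.mul_prod_erase G t hg, mul_comm, mul_smul]
    exact P.smul_mem _ (ht g (hGN g hg)).2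
  | zero => rw [smul_zero]; exact P.zero_mem
  | add x y _ _ hx hy => rw [smul_add]; exact P.add_mem hx hy
  | smul a x _ hx => rw [smul_comm]; exact P.smul_mem a hx

section approx

variable [IsNoetherianRing R] (M : Type u) [AddCommGroup M] [Module R M] [Module.Finite R M]
  (p : Ideal R) [p.IsPrime]
  [Module.Free (Localization.AtPrime p) (LocalizedModule p.primeCompl M)]

/-- if `M_p` is free there is a finite free `F` and `φ : F → M` which is an isomorphism up to
multipliers outside `p`. -/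
theorem exists_free_approx :
    ∃ (ι : Type u) (_ : Fintype ι) (φ : (ι →₀ R) →ₗ[R] M) (sK sC : R), sK ∉ p ∧ sC ∉ p ∧
      (∀ k ∈ LinearMap.ker φ, sK • k = 0) ∧ (∀ m : M, sC • m ∈ LinearMap.range φ) := by
  classical
  let S := p.primeCompl
  let Rp := Localization.AtPrime p
  let Mp := LocalizedModule S M
  let f : M →ₗ[R] Mp := LocalizedModule.mkLinearMap S M
  haveI : Module.Finite Rp Mp := Module.Finite.of_isLocalizedModule S f
  let ι := Module.Free.ChooseBasisIndex Rp Mp
  let β : Module.Basis ι Rp Mp := Module.Free.chooseBasis Rp Mp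
  haveI : Fintype ι := Module.Free.ChooseBasisIndex.fintype Rp Mp
  -- clear denominators of the basis
  have hsurj : ∀ j : ι, ∃ x : M × S, x.2 • β j = f x.1 := fun j => IsLocalizedModule.surj S f (β j)
  choose x hx using hsurj
  let m : ι → M := fun j => (x j).1
  have hunit : ∀ j : ι, IsUnit (algebraMap R Rp ((x j).2 : R)) := fun j =>
    IsLocalization.map_units Rp (x j).2
  let β' : Module.Basis ι Rp Mp := β.isUnitSMul hunit
  have hβ' : ∀ j, β' j = f (m j) := by
    intro j
    rw [Module.Basis.isUnitSMul_apply, algebraMap_smul, ← hx j]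
    rfl
  let φ : (ι →₀ R) →ₗ[R] M := Finsupp.linearCombination R m
  have hfφ : ∀ k : ι →₀ R, f (φ k) = ∑ j, algebraMap R Rp (k j) • β' j := by
    intro k
    have hφk : φ k = ∑ j, k j • m j := by
      simp only [φ, Finsupp.linearCombination_apply]
      exact Finsupp.sum_fintype _ _ (fun _ => zero_smul _ _)
    rw [hφk, map_sum]
    apply Finset.sum_congr rfl
    intro j _
    rw [map_smul, hβ', algebraMap_smul]
  -- kernel
  have hK : ∀ k ∈ LinearMap.ker φ, ∃ t ∈ S, t • k ∈ (⊥ : Submodule R (ι →₀ R)) := by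
    intro k hk
    have h0 : ∑ j, algebraMap R Rp (k j) • β' j = 0 := by
      rw [← hfφ k, LinearMap.mem_ker.mp hk, map_zero]
    have hcoef : ∀ j, algebraMap R Rp (k j) = 0 := by
      have hli := β'.linearIndependent
      rw [Fintype.linearIndependent_iff] at hli
      exact hli _ h0
    have hex : ∀ j, ∃ u : S, (u : R) * k j = 0 := fun j =>
      (IsLocalization.map_eq_zero_iff S Rp (k j)).mp (hcoef j)
    choose u hu using hex
    refine ⟨∏ j, (u j : R), Submonoid.prod_mem S fun j _ => (u j).2, ?_⟩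
    rw [Submodule.mem_bot]
    ext j
    rw [Finsupp.smul_apply, smul_eq_mul, Finsupp.zero_apply,
      ← Finset.mul_prod_erase Finset.univ (fun j => (u j : R)) (Finset.mem_univ j), mul_comm,
      ← mul_assoc, mul_comm (k j), hu j, zero_mul]
  obtain ⟨sK, hsK, hsK'⟩ := exists_mem_forall_smul_mem S (LinearMap.ker φ) ⊥
    (IsNoetherian.noetherian _) hK
  -- cokernel
  have hC : ∀ g ∈ (⊤ : Submodule R M), ∃ t ∈ S, t • g ∈ LinearMap.range φ := by
    intro g _
    obtain ⟨t, ht⟩ := IsLocalization.exist_integer_multiples_of_finite S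
      (fun j => β'.repr (f g) j)
    choose r hr using ht
    let k : ι →₀ R := Finsupp.equivFunOnFinite.symm r
    have h1 : f ((t : R) • g) = f (φ k) := by
      rw [hfφ k, map_smul]
      conv_lhs => rw [← β'.sum_repr (f g), Finset.smul_sum]
      apply Finset.sum_congr rfl
      intro j _
      have : k j = r j := rfl
      rw [this, hr j, ← algebraMap_smul Rp (t : R), smul_smul, Algebra.smul_def]
    have h2 : f ((t : R) • g - φ k) = 0 := by rw [map_sub, h1, sub_self]
    obtain ⟨c, hc⟩ := (IsLocalizedModule.eq_zero_iff S f).mp h2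
    refine ⟨(c : R) * (t : R), S.mul_mem c.2 t.2, ?_⟩
    have hc' : (c : R) • ((t : R) • g - φ k) = 0 := hc
    rw [smul_sub, sub_eq_zero] at hc'
    rw [mul_smul, hc', ← map_smul]
    exact ⟨_, rfl⟩
  obtain ⟨sC, hsC, hsC'⟩ := exists_mem_forall_smul_mem S (⊤ : Submodule R M)
    (LinearMap.range φ) Module.Finite.fg_top hC
  exact ⟨ι, inferInstance, φ, sK, sC, hsK, hsC,
    fun k hk => (Submodule.mem_bot R).mp (hsK' k hk), fun m => hsC' m Submodule.mem_top⟩

end approx

section cohomology

variable (b : Ideal R) {F M : Type u} [AddCommGroup F] [Module R F] [AddCommGroup M] [Module R M]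

/-- if `φ : F → M` has kernel killed by `sK` and cokernel killed by `sC`, and `H^i_b(F) = 0`, then
`sK * sC` kills `H^i_b(M)`. -/
theorem smul_H_eq_zero_of_approx (i : ℕ) (φ : F →ₗ[R] M) (hF : Subsingleton (LocCoh.H b i F))
    (sK sC : R) (hK : ∀ k ∈ LinearMap.ker φ, sK • k = 0)
    (hC : ∀ m : M, sC • m ∈ LinearMap.range φ) (x : LocCoh.H b i M) : (sK * sC) • x = 0 := by
  let N := LinearMap.range φ
  -- sequence (1): `0 → ker φ → F → N → 0`
  let f₁ : LinearMap.ker φ →ₗ[R] F := (LinearMap.ker φ).subtype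
  let g₁ : F →ₗ[R] N := φ.rangeRestrict
  have hf₁ : Function.Injective f₁ := Submodule.injective_subtype _
  have hg₁ : Function.Surjective g₁ := LinearMap.surjective_rangeRestrict φ
  have hfg₁ : Function.Exact f₁ g₁ := by
    intro y
    constructor
    · intro hy
      exact ⟨⟨y, by
        rw [LinearMap.mem_ker]
        exact congrArg Subtype.val hy⟩, rfl⟩
    · rintro ⟨k, rfl⟩
      apply Subtype.ext
      exact LinearMap.mem_ker.mp k.2
  -- sequence (2): `0 → N → M → M/N → 0`
  let f₂ : N →ₗ[R] M := N.subtype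
  let g₂ : M →ₗ[R] M ⧸ N := N.mkQ
  have hf₂ : Function.Injective f₂ := Submodule.injective_subtype _
  have hg₂ : Function.Surjective g₂ := Submodule.mkQ_surjective _
  have hfg₂ : Function.Exact f₂ g₂ := LinearMap.exact_subtype_mkQ N
  -- `sC` kills `H^i(M/N)`
  have h2 : Hmap b g₂ i (sC • x) = 0 := by
    rw [map_smul]
    apply smul_eq_zero_of_forall_smul_eq_zero b sC
    intro q
    obtain ⟨m, rfl⟩ := hg₂ q
    rw [← map_smul]
    exact (Submodule.Quotient.mk_eq_zero N).mpr (hC m)
  obtain ⟨y, hy⟩ := (exact₂ b f₂ g₂ hfg₂ hf₂ hg₂ i (sC • x)).1 h2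
  -- `sK` kills `H^i(N)`
  have h1 : sK • y = 0 := by
    have hδ : Hδ b f₁ g₁ hf₁ hfg₁ hg₁ i (sK • y) = 0 := by
      rw [map_smul]
      apply smul_eq_zero_of_forall_smul_eq_zero b sK
      intro k
      apply Subtype.ext
      exact hK k.1 k.2
    obtain ⟨z, hz⟩ := (exact₃ b f₁ g₁ hf₁ hfg₁ hg₁ i (sK • y)).1 hδ
    rw [← hz, hF.elim z 0, map_zero]
  rw [mul_smul, ← hy, ← map_smul, h1, map_zero]

variable [IsNoetherianRing R]

/-- `H^i_b(R) = 0` for `i < depth_b R`, `b` proper. -/
theorem subsingleton_H_self_of_lt (hb : b ≠ ⊤) (i : ℕ)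
    (hi : (i : ℕ∞) < LocCoh.idealDepth b R) : Subsingleton (LocCoh.H b i R) := by
  have hbR : b • (⊤ : Submodule R R) ≠ ⊤ := by
    rw [smul_eq_mul, Ideal.mul_top]
    exact hb
  have hle : ((i + 1 : ℕ) : ℕ∞) ≤ LocCoh.idealDepth b R := by
    have := Order.add_one_le_of_lt hi
    exact_mod_cast this
  exact Groth.Agent.S0318.subsingleton_H_of_lt b R hbR (i + 1) hle i (Nat.lt_succ_self i)

/-- `H^i_b(F) = 0` for `F` free and `i < depth_b R`, `b` proper. -/
theorem subsingleton_H_free_of_lt (hb : b ≠ ⊤) (ι : Type u) (i : ℕ)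
    (hi : (i : ℕ∞) < LocCoh.idealDepth b R) : Subsingleton (LocCoh.H b i (ι →₀ R)) :=
  Groth.Agent.Lib.LocCohCdRing.subsingleton_H_free b ι i (subsingleton_H_self_of_lt b hb i hi)

end cohomology

/-- Brodmann–Sharp 9.4: if `M_p` is free there is `s ∉ p` killing `H^i_b(M)` for all proper ideals
`b` and all `i < depth_b R`. -/
theorem exists_smul_H_eq_zero_of_free [IsNoetherianRing R] (M : Type u) [AddCommGroup M]
    [Module R M] [Module.Finite R M] (p : Ideal R) [p.IsPrime]
    [Module.Free (Localization.AtPrime p) (LocalizedModule p.primeCompl M)] :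
    ∃ s : R, s ∉ p ∧ ∀ (b : Ideal R), b ≠ ⊤ → ∀ (i : ℕ), (i : ℕ∞) < LocCoh.idealDepth b R →
      ∀ x : LocCoh.H b i M, s • x = 0 := by
  obtain ⟨ι, _, φ, sK, sC, hsK, hsC, hK, hC⟩ := exists_free_approx M p
  refine ⟨sK * sC, fun h => (Ideal.IsPrime.mem_or_mem ‹p.IsPrime› h).elim hsK hsC, ?_⟩
  intro b hb i hi x
  exact smul_H_eq_zero_of_approx b i φ (subsingleton_H_free_of_lt b hb ι i hi) sK sC hK hC x

end Groth.Agent.Lib.H29LocCohAnn
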