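import Groth.Agent.Lib.H29TopLC
import Groth.Agent.Lib.H29LocCohAnn
import Groth.Agent.Lib.LocCohTorsion
import Mathlib.Algebra.Homology.DerivedCategory.Ext.Linear

/-!
# Local duality over a Cohen–Macaulay local ring with a canonical module (helper29)

`R` a Cohen–Macaulay local ring of dimension `n`, `E` an injective module, `K` a module with
`eK : Hom(K, E) ≃ H^n_m(R)`.  Then for every finite module `M` and `i + j = n`,
`H^j_m(M) ≃ Hom(Ext^i(M, K), E)` (`localDuality`), and `Hom(Ext^i(M, K), E) = 0` for `i > n`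
(`subsingleton_dual_ext_of_gt`).
-/

set_option autoImplicit false
set_option maxHeartbeats 400000
universe u

open CategoryTheory Abelian

namespace Groth.Agent.Lib.H29LocalDuality

open Groth.Agent.Lib.LocCohLES Groth.Agent.Lib.H29TopLC

section ExtDelta

variable {R : Type u} [CommRing R] {S : ShortComplex (ModuleCat.{u} R)} (hS : S.ShortExact)
  (Y : ModuleCat.{u} R)

/-- The connecting map `Ext^i(X₁, Y) → Ext^{i+1}(X₃, Y)`, as a linear map. -/
noncomputable def δE (i : ℕ) : Ext.{u} S.X₁ Y i →ₗ[R] Ext.{u} S.X₃ Y (i + 1) where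
  toFun x := hS.extClass.comp x (add_comm 1 i)
  map_add' _ _ := Ext.comp_add _ _ _ _
  map_smul' _ _ := Ext.comp_smul _ _ _ _

theorem δE_apply (i : ℕ) (x : Ext.{u} S.X₁ Y i) :
    δE hS Y i x = hS.extClass.comp x (add_comm 1 i) := rfl

theorem δE_surjective (i : ℕ) (h : Subsingleton (Ext.{u} S.X₂ Y (i + 1))) :
    Function.Surjective (δE hS Y i) := by
  intro x₃
  obtain ⟨x₁, hx₁⟩ := Ext.contravariant_sequence_exact₃ hS Y x₃ (Subsingleton.elim _ _)
    (add_comm 1 i)
  exact ⟨x₁, hx₁⟩

theorem δE_eq_zero_iff (i : ℕ) (x : Ext.{u} S.X₁ Y i) :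
    δE hS Y i x = 0 ↔ ∃ x₂ : Ext.{u} S.X₂ Y i, (Ext.mk₀ S.f).comp x₂ (zero_add i) = x := by
  constructor
  · intro hx
    exact Ext.contravariant_sequence_exact₁ hS Y x (add_comm 1 i) hx
  · rintro ⟨x₂, rfl⟩
    rw [δE_apply, ← Ext.comp_assoc _ _ _ (add_zero 1) (zero_add i) (by omega),
      hS.extClass_comp, Ext.zero_comp]

theorem δE_injective (i : ℕ) (h : Subsingleton (Ext.{u} S.X₂ Y i)) :
    Function.Injective (δE hS Y i) := by
  rw [injective_iff_map_eq_zero]
  intro x hx
  obtain ⟨x₂, rfl⟩ := (δE_eq_zero_iff hS Y i x).mp hx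
  rw [Subsingleton.elim x₂ 0, Ext.comp_zero]

end ExtDelta

section DualCoker

variable {R : Type u} [CommRing R] {X Y Z E : Type u} [AddCommGroup X] [Module R X]
  [AddCommGroup Y] [Module R Y] [AddCommGroup Z] [Module R Z] [AddCommGroup E] [Module R E]

/-- The dual of a cokernel is the kernel of the dual map. -/
noncomputable def dualCokerEquiv (a : X →ₗ[R] Y) (b : Y →ₗ[R] Z) (hb : Function.Surjective b)
    (hab : Function.Exact a b) :
    (Z →ₗ[R] E) ≃ₗ[R] LinearMap.ker (LinearMap.lcomp R E a) :=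
  LinearEquiv.ofBijective
    ((LinearMap.lcomp R E b).codRestrict (LinearMap.ker (LinearMap.lcomp R E a)) (by
      intro φ
      rw [LinearMap.mem_ker]
      ext x
      simp [hab.apply_apply_eq_zero x]))
    (by
      constructor
      · intro φ ψ h
        have h' : φ ∘ₗ b = ψ ∘ₗ b := congrArg Subtype.val h
        ext z
        obtain ⟨y, rfl⟩ := hb z
        exact LinearMap.congr_fun h' y
      · rintro ⟨ψ, hψ⟩
        rw [LinearMap.mem_ker] at hψ
        have hker : LinearMap.ker b ≤ LinearMap.ker ψ := by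
          intro y hy
          obtain ⟨x, rfl⟩ := (hab y).mp hy
          exact LinearMap.congr_fun hψ x
        let e := b.quotKerEquivOfSurjective hb
        refine ⟨(LinearMap.ker b).liftQ ψ hker ∘ₗ e.symm.toLinearMap, ?_⟩
        apply Subtype.ext
        ext y
        have : e.symm (b y) = Submodule.Quotient.mk y := by
          rw [LinearEquiv.symm_apply_eq]
          rfl
        simp [this])

theorem dualCokerEquiv_apply (a : X →ₗ[R] Y) (b : Y →ₗ[R] Z) (hb : Function.Surjective b)
    (hab : Function.Exact a b) (φ : Z →ₗ[R] E) :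
    ((dualCokerEquiv a b hb hab φ : LinearMap.ker (LinearMap.lcomp R E a)) : Y →ₗ[R] E)
      = φ ∘ₗ b := rfl

end DualCoker

section Basics

variable {R : Type u} [CommRing R]

/-- Restriction of a commuting pair of equivalences to kernels. -/
noncomputable def kerEquivOfComm {A A' B B' : Type u} [AddCommGroup A] [Module R A]
    [AddCommGroup A'] [Module R A'] [AddCommGroup B] [Module R B] [AddCommGroup B'] [Module R B']
    (e₁ : A ≃ₗ[R] A') (e₂ : B ≃ₗ[R] B') (v : A →ₗ[R] B) (v' : A' →ₗ[R] B')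
    (h : ∀ x, e₂ (v x) = v' (e₁ x)) : LinearMap.ker v ≃ₗ[R] LinearMap.ker v' :=
  LinearEquiv.ofBijective
    ((e₁.toLinearMap ∘ₗ (LinearMap.ker v).subtype).codRestrict (LinearMap.ker v') (by
      rintro ⟨x, hx⟩
      rw [LinearMap.mem_ker] at hx ⊢
      change v' (e₁ x) = 0
      rw [← h, hx, map_zero]))
    (by
      constructor
      · rintro ⟨x, hx⟩ ⟨y, hy⟩ hxy
        apply Subtype.ext
        exact e₁.injective (congrArg Subtype.val hxy)
      · rintro ⟨y, hy⟩
        rw [LinearMap.mem_ker] at hy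
        refine ⟨⟨e₁.symm y, ?_⟩, ?_⟩
        · rw [LinearMap.mem_ker]
          apply e₂.injective
          rw [h, LinearEquiv.apply_symm_apply, hy, map_zero]
        · apply Subtype.ext
          exact e₁.apply_symm_apply y)

/-- A finite module is a quotient of a finite free module `ι →₀ R` with `ι : Type u`. -/
theorem exists_presentation (M : Type u) [AddCommGroup M] [Module R M] [Module.Finite R M] :
    ∃ (ι : Type u) (_ : Finite ι) (π : (ι →₀ R) →ₗ[R] M), Function.Surjective π := by
  obtain ⟨b, s, hs⟩ := Module.Finite.exists_fin (R := R) (M := M)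
  refine ⟨ULift.{u} (Fin b), inferInstance,
    Finsupp.linearCombination R (fun i : ULift.{u} (Fin b) => s i.down), ?_⟩
  rw [← LinearMap.range_eq_top, Finsupp.range_linearCombination]
  have : Set.range (fun i : ULift.{u} (Fin b) => s i.down) = Set.range s := by
    ext x
    constructor
    · rintro ⟨i, rfl⟩
      exact ⟨i.down, rfl⟩
    · rintro ⟨i, rfl⟩
      exact ⟨⟨i⟩, rfl⟩
  rw [this, hs]

variable (K : Type u) [AddCommGroup K] [Module R K]

/-- `Ext^0(M, K) ≃ Hom(M, K)`. -/
noncomputable def hom0 (M : Type u) [AddCommGroup M] [Module R M] :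
    Ext.{u} (ModuleCat.of R M) (ModuleCat.of R K) 0 ≃ₗ[R] (M →ₗ[R] K) :=
  Ext.linearEquiv₀ ≪≫ₗ ModuleCat.homLinearEquiv

theorem hom0_symm_apply (M : Type u) [AddCommGroup M] [Module R M] (α : M →ₗ[R] K) :
    (hom0 K M).symm α = Ext.mk₀ (ModuleCat.ofHom α) := rfl

theorem hom0_mk₀ (M : Type u) [AddCommGroup M] [Module R M] (α : M →ₗ[R] K) :
    hom0 K M (Ext.mk₀ (ModuleCat.ofHom α)) = α := by
  rw [← hom0_symm_apply, LinearEquiv.apply_symm_apply]

theorem hom0_comp {N L : Type u} [AddCommGroup N] [Module R N] [AddCommGroup L] [Module R L]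
    (f : N →ₗ[R] L) (x : Ext.{u} (ModuleCat.of R L) (ModuleCat.of R K) 0) :
    hom0 K N ((Ext.mk₀ (ModuleCat.ofHom f)).comp x (zero_add 0)) = hom0 K L x ∘ₗ f := by
  obtain ⟨β, rfl⟩ := (hom0 K L).symm.surjective x
  rw [hom0_symm_apply, Ext.mk₀_comp_mk₀, hom0_mk₀]
  have : (ModuleCat.ofHom f ≫ ModuleCat.ofHom β : ModuleCat.of R N ⟶ ModuleCat.of R K) =
      ModuleCat.ofHom (β ∘ₗ f) := rfl
  rw [this, hom0_mk₀]

end Basics

section Steps

variable {R : Type u} [CommRing R] (K E : Type u) [AddCommGroup K] [Module R K]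
  [AddCommGroup E] [Module R E]
  {N L M : Type u} [AddCommGroup N] [Module R N] [AddCommGroup L] [Module R L]
  [AddCommGroup M] [Module R M] (f : N →ₗ[R] L) (g : L →ₗ[R] M)
  (hf : Function.Injective f) (hfg : Function.Exact f g) (hg : Function.Surjective g)

theorem subsingleton_ext_of_projective (Y : ModuleCat.{u} R) [Module.Projective R L] (i : ℕ)
    (hi : 1 ≤ i) : Subsingleton (Ext.{u} (ModuleCat.of R L) Y i) := by
  obtain ⟨k, rfl⟩ : ∃ k, i = k + 1 := ⟨i - 1, by omega⟩
  exact subsingleton_of_forall_eq 0 fun x => Ext.eq_zero_of_projective x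

/-- Dimension shifting for the dual of `Ext(-, K)` along a presentation, degrees `≥ 1`. -/
noncomputable def dualExtStep [Module.Projective R L] (i : ℕ) (hi : 1 ≤ i) :
    (Ext.{u} (ModuleCat.of R N) (ModuleCat.of R K) i →ₗ[R] E) ≃ₗ[R]
      (Ext.{u} (ModuleCat.of R M) (ModuleCat.of R K) (i + 1) →ₗ[R] E) :=
  LinearEquiv.congrLeft E R (LinearEquiv.ofBijective
    (δE (ses_shortExact f g hf hfg hg) (ModuleCat.of R K) i)
    ⟨δE_injective _ _ i (subsingleton_ext_of_projective (L := L) _ i hi),
      δE_surjective _ _ i (subsingleton_ext_of_projective (L := L) _ (i + 1) (by omega))⟩)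

/-- The dual of `Ext^1(M, K)` along a presentation. -/
noncomputable def dualExtOne [Module.Projective R L] :
    (Ext.{u} (ModuleCat.of R M) (ModuleCat.of R K) 1 →ₗ[R] E) ≃ₗ[R]
      LinearMap.ker (LinearMap.lcomp R E (LinearMap.lcomp R K f)) :=
  dualCokerEquiv (LinearMap.lcomp R K f)
    ((δE (ses_shortExact f g hf hfg hg) (ModuleCat.of R K) 0) ∘ₗ (hom0 K N).symm.toLinearMap)
    ((δE_surjective _ _ 0 (subsingleton_ext_of_projective (L := L) _ 1 le_rfl)).comp
      (hom0 K N).symm.surjective)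
    (by
      intro α
      change δE (ses_shortExact f g hf hfg hg) (ModuleCat.of R K) 0 ((hom0 K N).symm α) = 0 ↔ _
      rw [δE_eq_zero_iff]
      constructor
      · rintro ⟨x₂, hx₂⟩
        refine ⟨hom0 K L x₂, ?_⟩
        change hom0 K L x₂ ∘ₗ f = α
        rw [← hom0_comp]
        have : (Ext.mk₀ (ModuleCat.ofHom f)).comp x₂ (zero_add 0) = (hom0 K N).symm α := hx₂
        rw [this, LinearEquiv.apply_symm_apply]
      · rintro ⟨β, rfl⟩
        refine ⟨(hom0 K L).symm β, ?_⟩
        apply (hom0 K N).injective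
        change hom0 K N ((Ext.mk₀ (ModuleCat.ofHom f)).comp ((hom0 K L).symm β) (zero_add 0)) = _
        rw [hom0_comp, LinearEquiv.apply_symm_apply, LinearEquiv.apply_symm_apply]
        rfl)

end Steps

section Main

variable {R : Type u} [CommRing R] [IsNoetherianRing R] (I : Ideal R) (n : ℕ)
  (hcd : LocCoh.CdLE R I n)
  (hlow : ∀ (ι : Type u) [Finite ι] (j : ℕ), j < n → Subsingleton (LocCoh.H I j (ι →₀ R)))
  {K E : Type u} [AddCommGroup K] [Module R K] [AddCommGroup E] [Module R E]
  (hE : Module.Injective R E) (eK : (K →ₗ[R] E) ≃ₗ[R] LocCoh.H I n R)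

/-- The kernel of `H^n(N) → H^n(L)` is the kernel of the dual map. -/
noncomputable def kerTopEquiv {N L : Type u} [AddCommGroup N] [Module R N] [Module.Finite R N]
    [AddCommGroup L] [Module R L] [Module.Finite R L] (f : N →ₗ[R] L) :
    LinearMap.ker (Hmap I f n) ≃ₗ[R] LinearMap.ker (LinearMap.lcomp R E (LinearMap.lcomp R K f)) :=
  kerEquivOfComm (topEquivDualHom I n hcd hE eK (ModuleCat.of R N))
    (topEquivDualHom I n hcd hE eK (ModuleCat.of R L)) (Hmap I f n)
    (LinearMap.lcomp R E (LinearMap.lcomp R K f))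
    (fun y => topEquivDualHom_natural I n hcd hE eK (ModuleCat.ofHom f) y)

section step

variable {N L M : Type u} [AddCommGroup N] [Module R N] [Module.Finite R N]
  [AddCommGroup L] [Module R L] [Module.Finite R L] [Module.Projective R L]
  [AddCommGroup M] [Module R M] (f : N →ₗ[R] L) (g : L →ₗ[R] M)
  (hf : Function.Injective f) (hfg : Function.Exact f g) (hg : Function.Surjective g)

include hf hfg hg hcd hE eK in
theorem step_one (j : ℕ) (hn : n = j + 1) (hLj : Subsingleton (LocCoh.H I j L)) :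
    Nonempty (LocCoh.H I j M ≃ₗ[R]
      (Ext.{u} (ModuleCat.of R M) (ModuleCat.of R K) 1 →ₗ[R] E)) := by
  subst hn
  have hinj : Function.Injective (Hδ I f g hf hfg hg j) := by
    rw [injective_iff_map_eq_zero]
    intro y hy
    obtain ⟨z, rfl⟩ := (exact₃ I f g hf hfg hg j y).1 hy
    rw [Subsingleton.elim z 0, map_zero]
  have hrange : LinearMap.range (Hδ I f g hf hfg hg j) = LinearMap.ker (Hmap I f (j + 1)) :=
    (LinearMap.exact_iff.mp (exact₁ I f g hf hfg hg j)).symm
  exact ⟨LinearEquiv.ofInjective _ hinj ≪≫ₗ LinearEquiv.ofEq _ _ hrange ≪≫ₗ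
    kerTopEquiv I (j + 1) hcd hE eK f ≪≫ₗ (dualExtOne K E f g hf hfg hg).symm⟩

include hf hfg hg in
omit [IsNoetherianRing R] [Module.Finite R N] [Module.Finite R L] in
theorem step_succ (i j : ℕ) (hLj : Subsingleton (LocCoh.H I j L))
    (hLj1 : Subsingleton (LocCoh.H I (j + 1) L))
    (e : LocCoh.H I (j + 1) N ≃ₗ[R]
      (Ext.{u} (ModuleCat.of R N) (ModuleCat.of R K) (i + 1) →ₗ[R] E)) :
    Nonempty (LocCoh.H I j M ≃ₗ[R]
      (Ext.{u} (ModuleCat.of R M) (ModuleCat.of R K) (i + 1 + 1) →ₗ[R] E)) := by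
  have hbij := Groth.Agent.Lib.LocCohTorsion.Hδ_bijective_of_subsingleton_middle I f g hf hfg hg j
  exact ⟨LinearEquiv.ofBijective _ hbij ≪≫ₗ e ≪≫ₗ
    dualExtStep K E f g hf hfg hg (i + 1) (by omega)⟩

include hf hfg hg hcd hE eK in
theorem step_vanish_zero (hn : n = 0) :
    Subsingleton (Ext.{u} (ModuleCat.of R M) (ModuleCat.of R K) 1 →ₗ[R] E) := by
  subst hn
  have e := (dualExtOne K E f g hf hfg hg) ≪≫ₗ (kerTopEquiv I 0 hcd hE eK f).symm
  have hker : LinearMap.ker (Hmap I f 0) = ⊥ :=
    LinearMap.ker_eq_bot.mpr (Hmap_zero_injective I f hf)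
  have : Subsingleton (LinearMap.ker (Hmap I f 0)) := by
    rw [hker]
    infer_instance
  exact e.toEquiv.subsingleton

include hf in
omit [IsNoetherianRing R] [Module.Finite R N] [Module.Finite R L] [Module.Projective R L] in
theorem subsingleton_H_zero_of_injective (hL0 : Subsingleton (LocCoh.H I 0 L)) :
    Subsingleton (LocCoh.H I 0 N) :=
  (Hmap_zero_injective I f hf).subsingleton

end step

include hcd hlow hE eK in
/-- **Local duality**: `H^j_I(M) ≃ Hom(Ext^i(M, K), E)` for `i + j = n` and finite `M`. -/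
theorem localDuality : ∀ (i j : ℕ), i + j = n → ∀ (M : Type u) [AddCommGroup M] [Module R M]
    [Module.Finite R M],
    Nonempty (LocCoh.H I j M ≃ₗ[R]
      (Ext.{u} (ModuleCat.of R M) (ModuleCat.of R K) i →ₗ[R] E)) := by
  intro i
  induction i with
  | zero =>
    intro j hj M _ _ _
    obtain rfl : j = n := by omega
    exact ⟨topEquivDualHom I j hcd hE eK (ModuleCat.of R M) ≪≫ₗ
      LinearEquiv.congrLeft E R (hom0 K M).symm⟩
  | succ i ih =>
    intro j hj M _ _ _
    obtain ⟨ι, hι, π, hπ⟩ := exists_presentation (R := R) M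
    haveI : Module.Finite R (LinearMap.ker π) := inferInstance
    have hfinj := Submodule.injective_subtype (LinearMap.ker π)
    have hex := LinearMap.exact_subtype_ker_map π
    have hLj : Subsingleton (LocCoh.H I j (ι →₀ R)) := hlow ι j (by omega)
    cases i with
    | zero =>
      exact step_one I n hcd hE eK (N := LinearMap.ker π) (L := ι →₀ R) (M := M)
        (LinearMap.ker π).subtype π hfinj hex hπ j (by omega) hLj
    | succ i =>
      have hLj1 : Subsingleton (LocCoh.H I (j + 1) (ι →₀ R)) := hlow ι (j + 1) (by omega)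
      obtain ⟨e⟩ := ih (j + 1) (by omega) (LinearMap.ker π)
      exact step_succ I (N := LinearMap.ker π) (L := ι →₀ R) (M := M)
        (LinearMap.ker π).subtype π hfinj hex hπ i j hLj hLj1 e

include hcd hlow hE eK in
/-- Vanishing of the dual of `Ext^i(M, K)` for `i > n`. -/
theorem subsingleton_dual_ext_of_gt : ∀ (i : ℕ), n < i → ∀ (M : Type u) [AddCommGroup M]
    [Module R M] [Module.Finite R M],
    Subsingleton (Ext.{u} (ModuleCat.of R M) (ModuleCat.of R K) i →ₗ[R] E) := by
  intro i
  induction i with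
  | zero => intro h; omega
  | succ i ih =>
    intro hi M _ _ _
    obtain ⟨ι, hι, π, hπ⟩ := exists_presentation (R := R) M
    haveI : Module.Finite R (LinearMap.ker π) := inferInstance
    have hfinj := Submodule.injective_subtype (LinearMap.ker π)
    have hex := LinearMap.exact_subtype_ker_map π
    cases i with
    | zero =>
      exact step_vanish_zero I n hcd hE eK (N := LinearMap.ker π) (L := ι →₀ R) (M := M)
        (LinearMap.ker π).subtype π hfinj hex hπ (by omega)
    | succ i =>
      have e := dualExtStep K E (N := LinearMap.ker π) (L := ι →₀ R) (M := M)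
        (LinearMap.ker π).subtype π hfinj hex hπ (i + 1) (by omega)
      by_cases hlt : n < i + 1
      · have := ih hlt (LinearMap.ker π)
        exact e.symm.toEquiv.subsingleton
      · obtain rfl : n = i + 1 := by omega
        obtain ⟨e'⟩ := localDuality I (i + 1) hcd hlow hE eK (i + 1) 0 (by omega) (LinearMap.ker π)
        have hL0 : Subsingleton (LocCoh.H I 0 (ι →₀ R)) := hlow ι 0 (by omega)
        have : Subsingleton (LocCoh.H I 0 (LinearMap.ker π)) :=
          subsingleton_H_zero_of_injective I (N := LinearMap.ker π) (L := ι →₀ R)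
            (LinearMap.ker π).subtype hfinj hL0
        have := e'.symm.toEquiv.subsingleton
        exact e.symm.toEquiv.subsingleton

end Main

end Groth.Agent.Lib.H29LocalDuality
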