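import Mathlib.Tactic
import Groth.Agent.Lib.H29LocalDuality

/-!
# Finiteness of `Ext` over Noetherian rings; annihilation (helper26)

* `finite_ext`: `Ext^i(M, N)` is a finite module for `M`, `N` finite over a Noetherian ring.
* `smul_ext_eq_zero_of_left`: an element killing `M` kills `Ext^i(M, N)`.
-/

set_option autoImplicit false
universe u

open CategoryTheory Abelian

namespace Groth.Agent.Lib.H26FinExt

open Groth.Agent.Lib.H29LocalDuality Groth.Agent.Lib.LocCohLES

variable {R : Type u} [CommRing R]

/-- `Ext^i(M, N)` is finite for finite modules over a Noetherian ring. -/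
theorem finite_ext [IsNoetherianRing R] (N : Type u) [AddCommGroup N] [Module R N]
    [Module.Finite R N] : ∀ (i : ℕ) (M : Type u) [AddCommGroup M] [Module R M] [Module.Finite R M],
    Module.Finite R (Ext.{u} (ModuleCat.of R M) (ModuleCat.of R N) i) := by
  intro i
  induction i with
  | zero =>
    intro M _ _ _
    exact Module.Finite.equiv (hom0 N M).symm
  | succ i ih =>
    intro M _ _ _
    obtain ⟨ι, hι, π, hπ⟩ := exists_presentation (R := R) M
    haveI : Module.Finite R (LinearMap.ker π) := inferInstance
    have hfinj := Submodule.injective_subtype (LinearMap.ker π)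
    have hex := LinearMap.exact_subtype_ker_map π
    haveI := ih (LinearMap.ker π)
    have hS := ses_shortExact (M₁ := LinearMap.ker π) (M₂ := ι →₀ R) (M₃ := M)
      (LinearMap.ker π).subtype π hfinj hex hπ
    exact Module.Finite.of_surjective (δE hS (ModuleCat.of R N) i)
      (δE_surjective hS _ i (subsingleton_ext_of_projective (L := ι →₀ R) _ (i + 1) (by omega)))

/-- An element of `R` killing `M` kills `Ext^i(M, Y)`. -/
theorem smul_ext_eq_zero_of_left (M : Type u) [AddCommGroup M] [Module R M] (Y : ModuleCat.{u} R)
    (y : R) (hy : ∀ x : M, y • x = 0) (i : ℕ) (e : Ext.{u} (ModuleCat.of R M) Y i) :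
    y • e = 0 := by
  have h2 : y • 𝟙 (ModuleCat.of R M) = 0 := by
    ext x
    exact hy x
  rw [← Ext.mk₀_id_comp e, ← Ext.smul_comp, ← Ext.mk₀_smul, h2, Ext.mk₀_zero, Ext.zero_comp]

end Groth.Agent.Lib.H26FinExt
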