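import Groth.Agent.Lib.DDevissage
import Groth.Agent.Lib.DSingleHom
import Groth.Agent.Lib.DWayOut
import Groth.Agent.Lib.H26FinExt
import Groth.Prelude.Def_Wider

/-!
# Finiteness of `Hom_{D(A)}(M[0], K[n])` (helper25)

`A` Noetherian, `M` a finite `A`-module, `K ∈ D^+(A)` with finite cohomology modules. Then
`Hom_{D(A)}(M[0], K⟦n⟧)` is a finite `A`-module for all `n` (`finite_hom_single`).
-/

set_option autoImplicit false
universe u

open CategoryTheory CategoryTheory.Limits Category Pretriangulated DerivedCategory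
  DerivedCategory.TStructure

attribute [local instance] HasDerivedCategory.standard

namespace Groth.Agent.Lib.DFinHom25

variable {A : Type u} [CommRing A]

/-- middle term of an exact sequence of modules with finite ends over a Noetherian ring -/
lemma finite_of_exact' [IsNoetherianRing A] {M₁ M₂ M₃ : Type*} [AddCommGroup M₁] [AddCommGroup M₂]
    [AddCommGroup M₃] [Module A M₁] [Module A M₂] [Module A M₃] (f : M₁ →ₗ[A] M₂)
    (g : M₂ →ₗ[A] M₃) (hex : ∀ x, g x = 0 → ∃ y, f y = x) [Module.Finite A M₁]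
    [Module.Finite A M₃] : Module.Finite A M₂ := by
  have h1 : Module.Finite A (LinearMap.ker g) := by
    have hle : LinearMap.ker g ≤ LinearMap.range f := by
      intro x hx
      obtain ⟨y, hy⟩ := hex x hx
      exact ⟨y, hy⟩
    have : Module.Finite A (LinearMap.range f) := Module.Finite.range f
    have : IsNoetherian A (LinearMap.range f) := isNoetherian_of_isNoetherianRing_of_finite A _
    have : IsNoetherian A (LinearMap.ker g) :=
      isNoetherian_of_injective (Submodule.inclusion hle) (Submodule.inclusion_injective hle)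
    infer_instance
  have h2 : Module.Finite A (M₂ ⧸ LinearMap.ker g) := by
    have : IsNoetherian A M₃ := isNoetherian_of_isNoetherianRing_of_finite A _
    have : Module.Finite A (LinearMap.range g) := inferInstance
    exact Module.Finite.equiv (g.quotKerEquivRange).symm
  exact Module.Finite.of_submodule_quotient (LinearMap.ker g)

variable (M : ModuleCat.{u} A)

/-- the property: all `Hom(M[0], X⟦m⟧)` are finite -/
def FinHom : ObjectProperty (Dual.D A) := fun X =>
  ∀ m : ℤ, Module.Finite A ((singleFunctor (ModuleCat.{u} A) 0).obj M ⟶ X⟦m⟧)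

/-- postcomposition as a linear map -/
noncomputable def postcomp {X Y Z : Dual.D A} (g : Y ⟶ Z) : (X ⟶ Y) →ₗ[A] (X ⟶ Z) where
  toFun f := f ≫ g
  map_add' f f' := by simp
  map_smul' a f := by simp

lemma finite_of_iso {X Y Z : Dual.D A} (e : Y ≅ Z) [Module.Finite A (X ⟶ Y)] :
    Module.Finite A (X ⟶ Z) :=
  Module.Finite.of_surjective (postcomp (X := X) e.hom) (fun f => ⟨f ≫ e.inv, by simp [postcomp]⟩)

instance : (FinHom M).IsClosedUnderIsomorphisms where
  of_iso {X Y} e h m := by
    have := h m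
    exact finite_of_iso ((shiftFunctor (Dual.D A) m).mapIso e)

lemma finHom_of_isZero (Z : Dual.D A) (hZ : IsZero Z) : FinHom M Z := by
  intro m
  have hZm : IsZero (Z⟦m⟧) := (shiftFunctor (Dual.D A) m).map_isZero hZ
  have : Subsingleton ((singleFunctor (ModuleCat.{u} A) 0).obj M ⟶ Z⟦m⟧) :=
    ⟨fun f g => hZm.eq_of_tgt f g⟩
  exact Module.Finite.of_finite

/-- exactness of `Hom(W, -⟦m⟧)` on a distinguished triangle -/
lemma exists_lift_shift (T : Triangle (Dual.D A)) (hT : T ∈ distTriang (Dual.D A)) (m : ℤ)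
    {W : Dual.D A} (f : W ⟶ T.obj₂⟦m⟧) (hf : f ≫ T.mor₂⟦m⟧' = 0) :
    ∃ g : W ⟶ T.obj₁⟦m⟧, g ≫ T.mor₁⟦m⟧' = f := by
  have hT' := Triangle.shift_distinguished T hT m
  have hf' : f ≫ ((CategoryTheory.shiftFunctor (Triangle (Dual.D A)) m).obj T).mor₂ = 0 := by
    change f ≫ (m.negOnePow • T.mor₂⟦m⟧') = 0
    rw [Linear.comp_units_smul, hf, smul_zero]
  obtain ⟨g, hg⟩ := Triangle.coyoneda_exact₂ _ hT' f hf'
  let g' : W ⟶ T.obj₁⟦m⟧ := g
  refine ⟨m.negOnePow • g', ?_⟩
  have hg' : f = g' ≫ (m.negOnePow • T.mor₁⟦m⟧') := hg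
  rw [hg', Linear.comp_units_smul, Linear.units_smul_comp]

lemma finHom_ext [IsNoetherianRing A] (T : Triangle (Dual.D A)) (hT : T ∈ distTriang (Dual.D A))
    (h₁ : FinHom M T.obj₁) (h₃ : FinHom M T.obj₃) : FinHom M T.obj₂ := by
  intro m
  have := h₁ m
  have := h₃ m
  refine finite_of_exact' (A := A) (postcomp (T.mor₁⟦m⟧')) (postcomp (T.mor₂⟦m⟧')) ?_
  intro f hf
  exact exists_lift_shift T hT m f hf

/-- `Hom(M[0], (N[-j])⟦m⟧)` is finite for finite modules `M`, `N` over a Noetherian ring. -/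
lemma finHom_single [IsNoetherianRing A] [Module.Finite A M] (N : ModuleCat.{u} A)
    [Module.Finite A N] (j : ℤ) : FinHom M ((singleFunctor (ModuleCat.{u} A) j).obj N) := by
  intro m
  -- `(S_j N)⟦m⟧ ≅ (S_0 N)⟦m - j⟧`
  let e₁ : (singleFunctor (ModuleCat.{u} A) j).obj N ≅
      ((singleFunctor (ModuleCat.{u} A) 0).obj N)⟦-j⟧ :=
    ((Groth.Agent.Lib.DSplit.shiftSingleIso (C := ModuleCat.{u} A) (-j) j (by lia)).app N).symm
  let e₂ : ((singleFunctor (ModuleCat.{u} A) j).obj N)⟦m⟧ ≅
      ((singleFunctor (ModuleCat.{u} A) 0).obj N)⟦m - j⟧ :=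
    (shiftFunctor (Dual.D A) m).mapIso e₁ ≪≫
      ((shiftFunctorAdd' (Dual.D A) (-j) m (m - j) (by lia)).app _).symm
  suffices h : Module.Finite A ((singleFunctor (ModuleCat.{u} A) 0).obj M ⟶
      ((singleFunctor (ModuleCat.{u} A) 0).obj N)⟦m - j⟧) from finite_of_iso e₂.symm
  by_cases hk : 0 ≤ m - j
  · obtain ⟨k, hk'⟩ : ∃ k : ℕ, m - j = k := ⟨(m - j).toNat, by lia⟩
    rw [hk']
    have hfin : Module.Finite A (Abelian.Ext.{u} (ModuleCat.of A M) (ModuleCat.of A N) k) :=
      Groth.Agent.Lib.H26FinExt.finite_ext N k M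
    exact Module.Finite.equiv (Abelian.Ext.homLinearEquiv (R := A) (X := ModuleCat.of A M)
      (Y := ModuleCat.of A N) (n := k))
  · have : Subsingleton ((singleFunctor (ModuleCat.{u} A) 0).obj M ⟶
        ((singleFunctor (ModuleCat.{u} A) 0).obj N)⟦m - j⟧) := by
      refine ⟨fun f g => ?_⟩
      have hge : (((singleFunctor (ModuleCat.{u} A) 0).obj N)⟦m - j⟧).IsGE (j - m) :=
        t.isGE_shift _ 0 (m - j) (j - m) (by lia)
      rw [t.zero f 0 (j - m) (by lia), t.zero g 0 (j - m) (by lia)]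
    exact Module.Finite.of_finite

/-- **Finiteness of `Hom(M[0], K⟦n⟧)`**. -/
theorem finite_hom_single [IsNoetherianRing A] [Module.Finite A M] (K : Dual.D A) (a : ℤ)
    (hKa : ∀ i : ℤ, i < a → Subsingleton (Dual.HD A K i))
    (hK : ∀ i : ℤ, Module.Finite A (Dual.HD A K i)) (n : ℤ) :
    Module.Finite A ((singleFunctor (ModuleCat.{u} A) 0).obj M ⟶ K⟦n⟧) := by
  have hGE : K.IsGE a := by
    rw [DerivedCategory.isGE_iff]
    intro i hi
    have := hKa i hi
    exact ModuleCat.isZero_of_subsingleton _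
  let X := (t.truncLE n).obj K
  let Y := (t.truncGE (n + 1)).obj K
  have hT := t.triangleLEGE_distinguished n (n + 1) rfl K
  have iX : X.IsLE n := by dsimp [X]; infer_instance
  have iX' : X.IsGE a := by dsimp [X]; infer_instance
  have iY : Y.IsGE (n + 1) := by dsimp [Y]; infer_instance
  have hX : FinHom M X := by
    refine Groth.Agent.Lib.DDevissage.devissage (FinHom M) (fun T hT h1 h3 => finHom_ext M T hT h1 h3)
      (finHom_of_isZero M) X a n ?_
    intro j _ hj2
    have hiso := Groth.Agent.Lib.DWayOut.isIso_homologyMap_truncLEι K n j hj2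
    have : Module.Finite A ((homologyFunctor (ModuleCat.{u} A) j).obj X) := by
      have : Module.Finite A
        ((homologyFunctor (ModuleCat.{u} A) j).obj ((𝟭 (Dual.D A)).obj K)) := hK j
      exact Module.Finite.equiv
        (asIso ((homologyFunctor (ModuleCat.{u} A) j).map ((t.truncLEι n).app K))).toLinearEquiv.symm
    exact finHom_single M _ j
  have := hX n
  refine Module.Finite.of_surjective (postcomp (((t.truncLEι n).app K)⟦n⟧')) ?_
  intro f
  have hge : (Y⟦n⟧).IsGE 1 := t.isGE_shift Y (n + 1) n 1 (by lia)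
  have hf : f ≫ ((t.truncGEπ (n + 1)).app K)⟦n⟧' = 0 := t.zero _ 0 1 (by lia)
  exact exists_lift_shift _ hT n f hf

end Groth.Agent.Lib.DFinHom25
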