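/-
Lib/DGlDim (helper25): finite global dimension and the derived category.
* opcycles_shortExact : exact at i => 0 -> opcycles i -> X j -> opcycles j -> 0 short exact (i+1=j).
* projective_opcycles_of_exactAt : dimension shifting along a complex of projectives.
* hom_eq_zero_of_gldim : gl.dim <= d, K bounded above with cohomology in degrees > k,
  L with cohomology in degrees <= k-d  ==>  Hom_D(K, L) = 0.
-/
import Groth.Agent.Lib.DSplit
import Groth.Agent.Lib.ProjResolution
import Groth.Agent.Lib.H87GlDim2
import Groth.Agent.Lib.DLES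

set_option autoImplicit false
universe u v w
open CategoryTheory CategoryTheory.Limits Category

namespace Groth.Agent.Lib.DGlDim

variable {C : Type u} [Category.{v} C] [Abelian C]

open HomologicalComplex

/-- If `P` is exact at `i`, then `0 → coker d^{i-1} → P^{j} → coker d^{i} → 0` is short exact
(`i + 1 = j`). -/
lemma opcycles_shortExact (P : CochainComplex C ℤ) (i j : ℤ) (hij : i + 1 = j)
    (hex : P.ExactAt i) :
    (ShortComplex.mk (P.fromOpcycles i j) (P.pOpcycles j) (by
      rw [← cancel_epi (P.pOpcycles i), p_fromOpcycles_assoc, d_pOpcycles, comp_zero])).ShortExact := by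
  have hmono : Mono (P.fromOpcycles i j) :=
    Preadditive.mono_of_isZero_kernel' _ (P.homologyIsKernel i j (by simpa using hij))
      ((P.exactAt_iff_isZero_homology i).mp hex)
  refine ShortComplex.ShortExact.mk' ?_ hmono inferInstance
  apply ShortComplex.exact_of_g_is_cokernel
  exact isCokernelOfComp (P.pOpcycles i) (P.d i j)
    (P.opcyclesIsCokernel i j (by simp; omega)) _ (by simp)

/-- Dimension shifting along a complex of projectives. -/
lemma projective_opcycles_of_exactAt (P : CochainComplex C ℤ) [∀ i, Projective (P.X i)] :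
    ∀ (n : ℕ) (a b : ℤ), a + n = b → (∀ j, a ≤ j → j < b → P.ExactAt j) →
      HasProjectiveDimensionLT (P.opcycles b) (n + 1) → Projective (P.opcycles a) := by
  intro n
  induction n with
  | zero =>
    intro a b hab _ hpd
    obtain rfl : a = b := by simpa using hab
    exact projective_iff_hasProjectiveDimensionLT_one.mpr hpd
  | succ n ih =>
    intro a b hab hex hpd
    obtain ⟨b', rfl⟩ : ∃ b', b = b' + 1 := ⟨b - 1, by ring⟩
    have hS := opcycles_shortExact P b' (b' + 1) rfl (hex b' (by push_cast at hab; omega) (by omega))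
    have h2 : HasProjectiveDimensionLT (P.X (b' + 1)) (n + 1) :=
      hasProjectiveDimensionLT_of_ge _ 1 (n + 1) (by omega)
    have h1 := hS.hasProjectiveDimensionLT_X₁ (n + 1) h2 hpd
    exact ih a b' (by push_cast at hab; omega) (fun j hj hj' => hex j hj (by omega)) h1

variable [HasDerivedCategory.{w} C] [EnoughProjectives C]

open DerivedCategory

/-- In an abelian category of global dimension `≤ d`: `Hom(K, L) = 0` in the derived category if
`K` is bounded above with cohomology in degrees `> k` and `L` has cohomology in degrees `≤ k - d`. -/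
theorem hom_eq_zero_of_gldim (d : ℕ) (hgl : ∀ M : C, HasProjectiveDimensionLT M (d + 1))
    (K L : DerivedCategory C) (b k : ℤ) [K.IsLE b] [K.IsGE (k + 1)] [L.IsLE (k - d)]
    (f : K ⟶ L) : f = 0 := by
  obtain ⟨P, hPb, hP, ⟨e⟩⟩ := Groth.Agent.Lib.ProjResolution.exists_iso_Q_projective K b
  have hPge : P.IsGE (k + 1) := by
    rw [← DerivedCategory.isGE_Q_obj_iff]
    exact DerivedCategory.TStructure.t.isGE_of_iso e.symm (k + 1)
  have hproj : Projective (P.opcycles (k + 1 - d)) :=
    projective_opcycles_of_exactAt P d (k + 1 - d) (k + 1) (by ring)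
      (fun j _ hj => P.exactAt_of_isGE (k + 1) j hj) (hgl _)
  have hPge' : P.IsGE (k + 1 - d) := P.isGE_of_ge (k + 1 - d) (k + 1) (by omega)
  have := Groth.Agent.Lib.DSplit.projective_truncGE_X P (k + 1 - d)
  have := Groth.Agent.Lib.DSplit.isStrictlyLE_truncGE P (k + 1 - d) b
  have : (P.truncGE (k + 1 - d)).IsKProjective :=
    CochainComplex.isKProjective_of_projective _ b
  have hqi : QuasiIso (P.πTruncGE (k + 1 - d)) := by
    rw [CochainComplex.quasiIso_πTruncGE_iff]
    exact hPge'
  have hiso : IsIso (Q.map (P.πTruncGE (k + 1 - d))) := by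
    rw [isIso_Q_map_iff_quasiIso]
    exact hqi
  have h0 := Groth.Agent.Lib.DSplit.hom_eq_zero (P.truncGE (k + 1 - d)) (k + 1 - d) (k - d)
    (by omega) L (inv (Q.map (P.πTruncGE (k + 1 - d))) ≫ e.hom ≫ f)
  have h1 : e.hom ≫ f = 0 := by
    have := congrArg (fun g => Q.map (P.πTruncGE (k + 1 - d)) ≫ g) h0
    simpa using this
  rw [← cancel_epi e.hom, h1, comp_zero]

end Groth.Agent.Lib.DGlDim
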