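/-
Lib/DGap (helper25): splitting an object of D(C) across a cohomological gap.
* isLE_truncLT_of_gap : H^i(X)=0 for a<=i<b  =>  truncLT b X is <= a-1.
* split_of_gap : H^i(X)=0 for a<=i<b, a<=b, Hom(truncGE b X, (truncLT a X)[1]) = 0
    => X ≅ truncLT a X ⊞ truncGE b X compatibly with truncLTι and truncGEπ.
-/
import Groth.Agent.Lib.DGlDim

set_option autoImplicit false
universe u v w
open CategoryTheory CategoryTheory.Limits Category Pretriangulated Triangulated

namespace Groth.Agent.Lib.DGap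

variable {C : Type u} [Category.{v} C] [Abelian C] [HasDerivedCategory.{w} C]

open DerivedCategory Groth.Agent.Lib.DSplit

/-- If `H^i(X) = 0` for `a ≤ i < b`, then `τ<b X` is `≤ a - 1`. -/
lemma isLE_truncLT_of_gap (X : DerivedCategory C) (a b : ℤ)
    (hgap : ∀ i : ℤ, a ≤ i → i < b → IsZero ((homologyFunctor C i).obj X)) :
    t.IsLE ((t.truncLT b).obj X) (a - 1) := by
  change DerivedCategory.IsLE ((t.truncLT b).obj X) (a - 1)
  rw [DerivedCategory.isLE_iff]
  intro i hi
  by_cases hib : i < b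
  · have := Groth.Agent.Lib.DLES.isIso_homologyMap_truncLTι X b i hib
    exact IsZero.of_iso (hgap i (by omega) hib)
      (asIso ((homologyFunctor C i).map ((t.truncLTι b).app X)))
  · have : t.IsLE ((t.truncLT b).obj X) (b - 1) := inferInstance
    have : DerivedCategory.IsLE ((t.truncLT b).obj X) (b - 1) := this
    exact DerivedCategory.isZero_of_isLE _ (b - 1) i (by omega)

/-- Splitting across a cohomological gap `[a, b)` when the connecting morphism must vanish. -/
theorem split_of_gap (X : DerivedCategory C) (a b : ℤ)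
    (hgap : ∀ i : ℤ, a ≤ i → i < b → IsZero ((homologyFunctor C i).obj X))
    (hab : a ≤ b)
    (hz : ∀ f : (t.truncGE b).obj X ⟶ ((t.truncLT a).obj X)⟦(1 : ℤ)⟧, f = 0) :
    ∃ e : X ≅ (t.truncLT a).obj X ⊞ (t.truncGE b).obj X,
      (t.truncLTι a).app X ≫ e.hom = biprod.inl ∧
        e.hom ≫ biprod.snd = (t.truncGEπ b).app X := by
  let Tb := (t.triangleLTGE b).obj X
  have hTb : Tb ∈ distTriang _ := t.triangleLTGE_distinguished b X
  have h1 : t.IsLE Tb.obj₁ (a - 1) := isLE_truncLT_of_gap X a b hgap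
  have h3b : t.IsGE Tb.obj₃ b := by
    change t.IsGE ((t.truncGE b).obj X) b
    infer_instance
  have h3 : t.IsGE Tb.obj₃ a := t.isGE_of_ge _ a b
  obtain ⟨e₁, he₁⟩ := t.triangle_iso_exists hTb (t.triangleLTGE_distinguished a X) (Iso.refl X)
    (a - 1) a h1 h3 inferInstance inferInstance
  let α : Tb.obj₁ ≅ (t.truncLT a).obj X := Triangle.π₁.mapIso e₁
  let T'' : Triangle (DerivedCategory C) :=
    Triangle.mk ((t.truncLTι a).app X) ((t.truncGEπ b).app X) (Tb.mor₃ ≫ α.hom⟦(1 : ℤ)⟧')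
  have c1 : Tb.mor₁ ≫ (Iso.refl X).hom = α.hom ≫ T''.mor₁ := by
    have := e₁.hom.comm₁
    rw [he₁] at this
    exact this
  have c2 : Tb.mor₂ ≫ (Iso.refl _).hom = (Iso.refl X).hom ≫ T''.mor₂ := by
    simp [Tb, T'']
  have c3 : Tb.mor₃ ≫ α.hom⟦(1 : ℤ)⟧' = (Iso.refl _).hom ≫ T''.mor₃ := by
    exact (id_comp _).symm
  have hT'' : T'' ∈ distTriang _ :=
    isomorphic_distinguished _ hTb _
      (Triangle.isoMk Tb T'' α (Iso.refl X) (Iso.refl _) c1 c2 c3).symm
  have hz' : T''.mor₃ = 0 := hz _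
  obtain ⟨e', h1, h2⟩ := exists_iso_binaryBiproduct_of_distTriang _ hT'' hz'
  exact ⟨e', h1, h2.symm⟩

end Groth.Agent.Lib.DGap
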