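import Groth.Agent.Lib.DInjGE
import Mathlib.Algebra.Category.ModuleCat.Injective
import Mathlib.Algebra.Module.Injective
import Mathlib.Algebra.Homology.ShortComplex.ModuleCat

/-!
# Baer-type criterion for cycles of a complex of injective modules

Namespace `Groth.Agent.Lib.DInjBaer`.

* `injective_cycles_of_baer`: for a complex `I` of `R`-modules with `I^b` injective such that every
  cocycle `R/J ⟶ I^{b+1}` is a coboundary (all ideals `J`), the module `Z^b(I)` is injective.
* `exactAt_of_cyclic_factor`: if every cocycle `R/⊥ ⟶ I^i` is a coboundary then `I` is exact at `i`.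
-/

set_option autoImplicit false
universe w u

open CategoryTheory CategoryTheory.Limits Category

namespace Groth.Agent.Lib.DInjBaer

variable {R : Type u} [CommRing R]

open HomologicalComplex

/-- transport of a factorization to arbitrary indices -/
lemma exists_factor' [HasDerivedCategory.{w} (ModuleCat.{u} R)]
    (I : CochainComplex (ModuleCat.{u} R) ℤ) [I.IsKInjective] (j i k : ℤ)
    (hji : j + 1 = i) (hik : i + 1 = k) {M : ModuleCat.{u} R} (y : M ⟶ I.X i)
    (hy : y ≫ I.d i k = 0)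
    (h : ∀ ψ : (DerivedCategory.singleFunctor (ModuleCat.{u} R) i).obj M ⟶
      DerivedCategory.Q.obj I, ψ = 0) :
    ∃ s : M ⟶ I.X j, s ≫ I.d j i = y := by
  obtain rfl : j = i - 1 := by lia
  obtain rfl : k = i + 1 := by lia
  exact Groth.Agent.Lib.DInjTrunc.exists_factor_of_Q_map_eq_zero I i y hy (h _)

/-- If every cocycle `R/⊥ ⟶ I^i` is a coboundary then `I` is exact at `i`. -/
lemma exactAt_of_cyclic_factor (I : CochainComplex (ModuleCat.{u} R) ℤ) (j i k : ℤ)
    (hji : j + 1 = i) (hik : i + 1 = k)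
    (hfac : ∀ (y : ModuleCat.of R (R ⧸ (⊥ : Ideal R)) ⟶ I.X i), y ≫ I.d i k = 0 →
      ∃ s : ModuleCat.of R (R ⧸ (⊥ : Ideal R)) ⟶ I.X j, s ≫ I.d j i = y) :
    I.ExactAt i := by
  rw [I.exactAt_iff' j i k (by simp [← hji]) (by simp [← hik]),
    ShortComplex.moduleCat_exact_iff]
  intro x₀ hx₀
  let x : I.X i := x₀
  have hx : (I.d i k).hom x = 0 := hx₀
  -- the map `R/⊥ → I^i`, `r ↦ r • x`
  let e : (R ⧸ (⊥ : Ideal R)) ≃ₗ[R] R := Submodule.quotEquivOfEqBot ⊥ rfl
  let y : ModuleCat.of R (R ⧸ (⊥ : Ideal R)) ⟶ I.X i :=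
    ModuleCat.ofHom ((LinearMap.toSpanSingleton R (I.X i) x) ∘ₗ e.toLinearMap)
  have hy : y ≫ I.d i k = 0 := by
    refine ModuleCat.hom_ext (LinearMap.ext fun m => ?_)
    simp only [ModuleCat.hom_comp, LinearMap.comp_apply, ModuleCat.hom_zero, LinearMap.zero_apply]
    change (I.d i k).hom ((e m) • x) = 0
    rw [map_smul, hx, smul_zero]
  obtain ⟨s, hs⟩ := hfac y hy
  refine ⟨s.hom (e.symm 1), ?_⟩
  have := congr($(hs).hom (e.symm 1))
  simp only [ModuleCat.hom_comp, LinearMap.comp_apply] at this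
  change (I.d j i).hom (s.hom (e.symm 1)) = x
  rw [this]
  change (e (e.symm 1)) • x = x
  simp

/-- Baer-type criterion for `Z^b(I)`. -/
theorem injective_cycles_of_baer (I : CochainComplex (ModuleCat.{u} R) ℤ) (b b1 b2 : ℤ)
    (hb1 : b + 1 = b1) [Module.Injective R (I.X b)]
    (hfac : ∀ (J : Ideal R) (y : ModuleCat.of R (R ⧸ J) ⟶ I.X b1), y ≫ I.d b1 b2 = 0 →
      ∃ s : ModuleCat.of R (R ⧸ J) ⟶ I.X b, s ≫ I.d b b1 = y) :
    Module.Injective R (I.cycles b) := by
  apply Module.Baer.injective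
  intro J g
  have hbaer : Module.Baer R (I.X b) := Module.Baer.of_injective inferInstance
  obtain ⟨gt, hgt⟩ := hbaer J ((I.iCycles b).hom ∘ₗ g)
  let h : R →ₗ[R] I.X b1 := (I.d b b1).hom ∘ₗ gt
  have hJ : J ≤ LinearMap.ker h := by
    intro x hx
    rw [LinearMap.mem_ker]
    change (I.d b b1).hom (gt x) = 0
    rw [hgt x hx]
    have := congr($(I.iCycles_d b b1).hom (g ⟨x, hx⟩))
    simp only [ModuleCat.hom_comp, LinearMap.comp_apply, ModuleCat.hom_zero,
      LinearMap.zero_apply] at this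
    exact this
  let hbar : (R ⧸ J) →ₗ[R] I.X b1 := Submodule.liftQ J h hJ
  have hy : ModuleCat.ofHom hbar ≫ I.d b1 b2 = 0 := by
    refine ModuleCat.hom_ext (LinearMap.ext fun m => ?_)
    obtain ⟨r, rfl⟩ := Submodule.mkQ_surjective J m
    simp only [ModuleCat.hom_comp, LinearMap.comp_apply, ModuleCat.hom_zero, LinearMap.zero_apply]
    change (I.d b1 b2).hom ((I.d b b1).hom (gt r)) = 0
    have := congr($(I.d_comp_d b b1 b2).hom (gt r))
    simp only [ModuleCat.hom_comp, LinearMap.comp_apply, ModuleCat.hom_zero,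
      LinearMap.zero_apply] at this
    exact this
  obtain ⟨k, hk⟩ := hfac J (ModuleCat.ofHom hbar) hy
  let g' : R →ₗ[R] I.X b := gt - k.hom ∘ₗ J.mkQ
  have hg' : (ModuleCat.ofHom g' : ModuleCat.of R R ⟶ I.X b) ≫ I.d b b1 = 0 := by
    refine ModuleCat.hom_ext (LinearMap.ext fun r => ?_)
    simp only [ModuleCat.hom_comp, LinearMap.comp_apply, ModuleCat.hom_zero, LinearMap.zero_apply]
    change (I.d b b1).hom (gt r - k.hom (J.mkQ r)) = 0
    rw [map_sub]
    have h1 := congr($(hk).hom (J.mkQ r))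
    simp only [ModuleCat.hom_comp, LinearMap.comp_apply] at h1
    rw [h1]
    change h r - (Submodule.liftQ J h hJ) (Submodule.Quotient.mk r) = 0
    rw [Submodule.liftQ_apply, sub_self]
  let g'' : ModuleCat.of R R ⟶ I.cycles b :=
    I.liftCycles (ModuleCat.ofHom g') b1 (by simp [← hb1]) hg'
  have hg'' : g'' ≫ I.iCycles b = ModuleCat.ofHom g' := I.liftCycles_i _ _ _ _
  refine ⟨g''.hom, fun x mem => ?_⟩
  apply (ModuleCat.mono_iff_injective (I.iCycles b)).mp inferInstance
  have h2 := congr($(hg'').hom x)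
  simp only [ModuleCat.hom_comp, LinearMap.comp_apply] at h2
  rw [h2]
  change gt x - k.hom (J.mkQ x) = _
  have h3 : J.mkQ x = 0 := by
    rw [Submodule.mkQ_apply, Submodule.Quotient.mk_eq_zero]
    exact mem
  rw [h3, map_zero, sub_zero, hgt x mem]
  rfl

/-- If all cocycles `R/⊥ ⟶ L^i` give the zero map in the derived category, `H^i(L) = 0`. -/
lemma isZero_homology_of_cyclic [HasDerivedCategory.{w} (ModuleCat.{u} R)]
    (L : CochainComplex (ModuleCat.{u} R) ℤ) (i : ℤ)
    (h : ∀ (y : ModuleCat.of R (R ⧸ (⊥ : Ideal R)) ⟶ L.X i) (hy : y ≫ L.d i (i + 1) = 0),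
      DerivedCategory.Q.map (Groth.Agent.Lib.DInjTrunc.fromSingle L i y hy) = 0) :
    IsZero (L.homology i) := by
  apply IsZero.of_epi_eq_zero (L.homologyπ i)
  refine ModuleCat.hom_ext (LinearMap.ext fun z => ?_)
  let x : L.X i := (L.iCycles i).hom z
  have hx : (L.d i (i + 1)).hom x = 0 := by
    have := congr($(L.iCycles_d i (i + 1)).hom z)
    simp only [ModuleCat.hom_comp, LinearMap.comp_apply, ModuleCat.hom_zero,
      LinearMap.zero_apply] at this
    exact this
  let e : (R ⧸ (⊥ : Ideal R)) ≃ₗ[R] R := Submodule.quotEquivOfEqBot ⊥ rfl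
  let y : ModuleCat.of R (R ⧸ (⊥ : Ideal R)) ⟶ L.X i :=
    ModuleCat.ofHom ((LinearMap.toSpanSingleton R (L.X i) x) ∘ₗ e.toLinearMap)
  have hy : y ≫ L.d i (i + 1) = 0 := by
    refine ModuleCat.hom_ext (LinearMap.ext fun m => ?_)
    simp only [ModuleCat.hom_comp, LinearMap.comp_apply, ModuleCat.hom_zero, LinearMap.zero_apply]
    change (L.d i (i + 1)).hom ((e m) • x) = 0
    rw [map_smul, hx, smul_zero]
  have h1 := Groth.Agent.Lib.DInjGE.homologyMap_fromSingle L i y hy
  rw [Groth.Agent.Lib.DSplit.homologyMap_eq_zero_of_Q_map_eq_zero _ (h y hy), comp_zero] at h1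
  have hz : (L.liftCycles y (i + 1) (by simp) hy).hom (e.symm 1) = z := by
    apply (ModuleCat.mono_iff_injective (L.iCycles i)).mp inferInstance
    have h2 := congr($(L.liftCycles_i y (i + 1) (by simp) hy).hom (e.symm 1))
    simp only [ModuleCat.hom_comp, LinearMap.comp_apply] at h2
    refine h2.trans ?_
    change (e (e.symm 1)) • x = x
    simp
  have h3 := congr($(h1).hom (e.symm 1))
  simp only [ModuleCat.hom_comp, LinearMap.comp_apply, ModuleCat.hom_zero,
    LinearMap.zero_apply] at h3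
  rw [hz] at h3
  simp only [ModuleCat.hom_zero, LinearMap.zero_apply]
  exact h3.symm

end Groth.Agent.Lib.DInjBaer
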