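import Groth.Agent.Lib.DConeRep
import Groth.Agent.Lib.DDevissage
import Groth.Agent.Lib.DSingleHom
import Groth.Agent.Lib.DStupid
import Groth.Agent.Lib.ProjResolution
import Groth.Prelude.Def_DRing2
import Mathlib.Algebra.Category.ModuleCat.Injective

/-!
# Finite injective dimension of objects of `D(R)`: closure properties

Namespace `Groth.Agent.Lib.DInjDim`: `DRing.HasFiniteInjDim R` is closed under isomorphisms,
shifts, extensions (2-out-of-3) and contains the zero objects; dévissage statements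
`hasFiniteInjDim_of_homology`, `hasFiniteInjDim_of_termwise`.
-/

set_option autoImplicit false
universe u
open CategoryTheory CategoryTheory.Limits CategoryTheory.Pretriangulated

namespace Groth.Agent.Lib.DInjDim

attribute [local instance] HasDerivedCategory.standard

open Groth.Agent.Lib.DConeRep

variable (R : Type u) [CommRing R]

lemma hasFiniteInjDim_iff_rep (K : Dual.D R) :
    DRing.HasFiniteInjDim R K ↔ Rep (BddInj (C := ModuleCat.{u} R)) K := by
  constructor
  · rintro ⟨a, b, E, hab, hE, hiso⟩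
    refine ⟨E, ⟨⟨a, b, hab⟩, fun i => ?_⟩, hiso⟩
    have := hE i
    exact Module.injective_object_of_injective_module R (E.X i)
  · rintro ⟨E, ⟨⟨a, b, hab⟩, hE⟩, hiso⟩
    refine ⟨a, b, E, hab, fun i => ?_, hiso⟩
    have := hE i
    exact Module.injective_module_of_injective_object R (E.X i)

lemma hasFiniteInjDim_of_iso {K L : Dual.D R} (e : K ≅ L) (hK : DRing.HasFiniteInjDim R K) :
    DRing.HasFiniteInjDim R L := by
  rw [hasFiniteInjDim_iff_rep] at hK ⊢
  exact rep_of_iso e hK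

instance : ObjectProperty.IsClosedUnderIsomorphisms (DRing.HasFiniteInjDim R) where
  of_iso e h := hasFiniteInjDim_of_iso R e h

lemma hasFiniteInjDim_shift {K : Dual.D R} (n : ℤ) (hK : DRing.HasFiniteInjDim R K) :
    DRing.HasFiniteInjDim R (K⟦n⟧) := by
  rw [hasFiniteInjDim_iff_rep] at hK ⊢
  exact rep_shift coneClass_bddInj n hK

lemma hasFiniteInjDim_obj₂ (T : Triangle (Dual.D R)) (hT : T ∈ distTriang (Dual.D R))
    (h₁ : DRing.HasFiniteInjDim R T.obj₁) (h₃ : DRing.HasFiniteInjDim R T.obj₃) :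
    DRing.HasFiniteInjDim R T.obj₂ := by
  rw [hasFiniteInjDim_iff_rep] at h₁ h₃ ⊢
  exact rep_obj₂ coneClass_bddInj T hT h₁ h₃

lemma hasFiniteInjDim_obj₃ (T : Triangle (Dual.D R)) (hT : T ∈ distTriang (Dual.D R))
    (h₁ : DRing.HasFiniteInjDim R T.obj₁) (h₂ : DRing.HasFiniteInjDim R T.obj₂) :
    DRing.HasFiniteInjDim R T.obj₃ := by
  rw [hasFiniteInjDim_iff_rep] at h₁ h₂ ⊢
  exact rep_obj₃ coneClass_bddInj T hT h₁ h₂

lemma hasFiniteInjDim_obj₁ (T : Triangle (Dual.D R)) (hT : T ∈ distTriang (Dual.D R))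
    (h₂ : DRing.HasFiniteInjDim R T.obj₂) (h₃ : DRing.HasFiniteInjDim R T.obj₃) :
    DRing.HasFiniteInjDim R T.obj₁ := by
  rw [hasFiniteInjDim_iff_rep] at h₂ h₃ ⊢
  exact rep_obj₁ coneClass_bddInj T hT h₂ h₃

lemma hasFiniteInjDim_of_isZero {Z : Dual.D R} (hZ : IsZero Z) : DRing.HasFiniteInjDim R Z := by
  rw [hasFiniteInjDim_iff_rep]
  exact rep_bddInj_of_isZero hZ

/-- A module of finite injective dimension placed in any degree. -/
lemma hasFiniteInjDim_single (M : ModuleCat.{u} R)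
    (hM : DRing.HasFiniteInjDim R (Dual.inD R M)) (j : ℤ) :
    DRing.HasFiniteInjDim R ((DerivedCategory.singleFunctor (ModuleCat.{u} R) j).obj M) :=
  hasFiniteInjDim_of_iso R ((Groth.Agent.Lib.DSplit.shiftSingleIso (C := ModuleCat.{u} R)
    (-j) j (by lia)).app M) (hasFiniteInjDim_shift R (-j) hM)

theorem hasFiniteInjDim_of_homology (K : Dual.D R) (a b : ℤ) [DerivedCategory.IsGE K a]
    [DerivedCategory.IsLE K b]
    (hK : ∀ i : ℤ, a ≤ i → i ≤ b → DRing.HasFiniteInjDim R (Dual.inD R (Dual.HD R K i))) :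
    DRing.HasFiniteInjDim R K :=
  Groth.Agent.Lib.DDevissage.devissage (DRing.HasFiniteInjDim R)
    (fun T hT h₁ h₃ => hasFiniteInjDim_obj₂ R T hT h₁ h₃)
    (fun _ hZ => hasFiniteInjDim_of_isZero R hZ)
    K a b (fun j hj1 hj2 => hasFiniteInjDim_single R _ (hK j hj1 hj2) j)

theorem hasFiniteInjDim_of_termwise (K : DRing.Cx R) (a b : ℤ) (hab : DRing.VanishesOutside K a b)
    (hK : ∀ i : ℤ, DRing.HasFiniteInjDim R (Dual.inD R (K.X i))) :
    DRing.HasFiniteInjDim R (DRing.toD K) :=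
  Groth.Agent.Lib.DStupid.stupid_devissage (DRing.HasFiniteInjDim R)
    (fun T hT h₁ h₃ => hasFiniteInjDim_obj₂ R T hT h₁ h₃)
    (fun _ hZ => hasFiniteInjDim_of_isZero R hZ) K a b hab
    (fun i => hasFiniteInjDim_single R (K.X i) (hK i) i)

end Groth.Agent.Lib.DInjDim
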