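import Groth.Agent.Lib.DInjHom
import Groth.Agent.Lib.DSingleHom

/-!
# Lower bound from vanishing of `Hom(Y[0], X[i])`

Namespace `Groth.Agent.Lib.DInjGE`.

* `homologyMap_fromSingle`: the map induced on `H^a` by `fromSingle y`.
* `isZero_homology_of_Q_map_fromSingle_eq_zero`.
* `isGE_of_hom_vanishing`: if `Hom(Y[0], X[i]) = 0` for all `Y` and `i < a`, then `X ∈ D^{≥ a}`.
* `exists_injective_amplitude`: the injective amplitude criterion (enough injectives).
-/

set_option autoImplicit false
universe w v u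

open CategoryTheory CategoryTheory.Limits Category

namespace Groth.Agent.Lib.DInjGE

variable {C : Type u} [Category.{v} C] [Abelian C]

open HomologicalComplex Groth.Agent.Lib.DInjTrunc

lemma homologyMap_fromSingle (I : CochainComplex C ℤ) (a : ℤ) {M : C} (y : M ⟶ I.X a)
    (hy : y ≫ I.d a (a + 1) = 0) :
    (singleObjHomologySelfIso (ComplexShape.up ℤ) a M).inv ≫
        homologyMap (fromSingle I a y hy) a =
      I.liftCycles y (a + 1) (by simp) hy ≫ I.homologyπ a := by
  rw [← singleObjCyclesSelfIso_inv_homologyπ, assoc, homologyπ_naturality, ← assoc]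
  congr 1
  rw [← cancel_mono (I.iCycles a), assoc, cyclesMap_i, liftCycles_i,
    singleObjCyclesSelfIso_inv_iCycles_assoc]
  simp [fromSingle, mkHomFromSingle_f]

variable [HasDerivedCategory.{w} C]

open DerivedCategory

lemma isZero_homology_of_Q_map_fromSingle_eq_zero (I : CochainComplex C ℤ) (a : ℤ)
    (h : Q.map (fromSingle I a (I.iCycles a) (by simp)) = 0) : IsZero (I.homology a) := by
  have h1 := homologyMap_fromSingle I a (I.iCycles a) (by simp)
  rw [Groth.Agent.Lib.DSplit.homologyMap_eq_zero_of_Q_map_eq_zero _ h, comp_zero] at h1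
  have h2 : I.liftCycles (I.iCycles a) (a + 1) (by simp) (by simp) = 𝟙 _ := by
    rw [← cancel_mono (I.iCycles a), liftCycles_i, id_comp]
  rw [h2, id_comp] at h1
  exact IsZero.of_epi_eq_zero _ h1.symm

/-- If `Hom(Y[0], X[i]) = 0` for all `Y` and all `i < a`, then `X ∈ D^{≥ a}`. -/
theorem isGE_of_hom_vanishing (X : DerivedCategory C) (a : ℤ)
    (h : ∀ (Y : C) (i : ℤ), i < a → ∀ φ : (singleFunctor C 0).obj Y ⟶ X⟦i⟧, φ = 0) :
    X.IsGE a := by
  rw [isGE_iff]
  intro i hi
  let L := Q.objPreimage X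
  let e : Q.obj L ≅ X := Q.objObjPreimageIso X
  have hz : Q.map (fromSingle L i (L.iCycles i) (by simp)) = 0 := by
    have h1 := (Groth.Agent.Lib.DInjHom.hom_single_shift_iff i (L.cycles i) X).mp
      (h (L.cycles i) i hi) (Q.map (fromSingle L i (L.iCycles i) (by simp)) ≫ e.hom)
    rw [← cancel_mono e.hom, zero_comp]
    exact h1
  have hL := isZero_homology_of_Q_map_fromSingle_eq_zero L i hz
  exact hL.of_iso ((homologyFunctor C i).mapIso e.symm ≪≫ (homologyFunctorFactors C i).app L)

/-- Injective amplitude criterion. -/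
theorem exists_injective_amplitude [EnoughInjectives C] (X : DerivedCategory C) (a b : ℤ)
    (h : ∀ (Y : C) (i : ℤ), (i < a ∨ b < i) → ∀ φ : (singleFunctor C 0).obj Y ⟶ X⟦i⟧, φ = 0) :
    ∃ (J : CochainComplex C ℤ), J.IsStrictlyGE a ∧ J.IsStrictlyLE b ∧
      (∀ i, Injective (J.X i)) ∧ Nonempty (Q.obj J ≅ X) := by
  have := isGE_of_hom_vanishing X a (fun Y i hi φ => h Y i (Or.inl hi) φ)
  exact Groth.Agent.Lib.DInjHom.exists_bounded_injective_iso X a b
    (fun Y i hi φ => h Y i (Or.inr hi) φ)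

/-- Converse: complexes of injectives in `[a, b]` have injective amplitude in `[a, b]`. -/
theorem hom_vanishing_of_injective_amplitude (J : CochainComplex C ℤ) (a b : ℤ)
    [J.IsStrictlyGE a] (hJ : ∀ i, Injective (J.X i))
    (hz : ∀ i : ℤ, (i < a ∨ b < i) → IsZero (J.X i)) (X : DerivedCategory C) (e : Q.obj J ≅ X)
    (Y : C) (i : ℤ) (hi : i < a ∨ b < i) (φ : (singleFunctor C 0).obj Y ⟶ X⟦i⟧) : φ = 0 := by
  have : J.IsKInjective := CochainComplex.isKInjective_of_injective J a
  revert φ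
  rw [Groth.Agent.Lib.DInjHom.hom_single_shift_iff]
  intro ψ
  have h1 := Groth.Agent.Lib.DInjHom.hom_single_eq_zero_of_isZero J i (hz i hi) Y (ψ ≫ e.inv)
  rw [← cancel_mono e.inv, zero_comp]
  exact h1

end Groth.Agent.Lib.DInjGE
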