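import Groth.Agent.Lib.DInjTrunc
import Mathlib.Algebra.Homology.Factorizations.CM5a

/-!
# Hom from shifted single objects: bookkeeping, and the bounded injective criterion

Namespace `Groth.Agent.Lib.DInjHom`.

* `hom_single_shift_iff`: `Hom(Y[0], X[i]) = 0 ↔ Hom(Y[-i], X) = 0`.
* `hom_single_eq_zero_of_isZero`: `Hom(Y[-i], Q I) = 0` when `I` is K-injective with `I^i = 0`.
* `exists_bounded_injective_iso`: if `X ∈ D^{≥ a}` and `Hom(Y[0], X[i]) = 0` for all `Y` and
  `i > n` then `X ≅ Q J` with `J` a complex of injectives concentrated in `[a, n]`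
  (enough injectives).
-/

set_option autoImplicit false
universe w v u

open CategoryTheory CategoryTheory.Limits Category

namespace Groth.Agent.Lib.DInjHom

variable {C : Type u} [Category.{v} C] [Abelian C] [HasDerivedCategory.{w} C]

open DerivedCategory HomologicalComplex

/-- `(Y[-i])[i] ≅ Y[0]`. -/
noncomputable def singleShiftIso (i : ℤ) (Y : C) :
    ((singleFunctor C i).obj Y)⟦i⟧ ≅ (singleFunctor C 0).obj Y :=
  ((singleFunctors C).shiftIso i 0 i (by simp)).app Y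

lemma hom_single_shift_iff (i : ℤ) (Y : C) (X : DerivedCategory C) :
    (∀ φ : (singleFunctor C 0).obj Y ⟶ X⟦i⟧, φ = 0) ↔
      ∀ ψ : (singleFunctor C i).obj Y ⟶ X, ψ = 0 := by
  constructor
  · intro h ψ
    have h1 : (singleShiftIso i Y).inv ≫ ψ⟦i⟧' = 0 := h _
    have h2 : ψ⟦i⟧' = 0 := by
      rw [← cancel_epi (singleShiftIso i Y).inv, h1, comp_zero]
    apply (shiftFunctor (DerivedCategory C) i).map_injective
    rw [h2, Functor.map_zero]
  · intro h φ
    obtain ⟨ψ, hψ⟩ := (shiftFunctor (DerivedCategory C) i).map_surjective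
      ((singleShiftIso i Y).hom ≫ φ)
    have : (singleShiftIso i Y).hom ≫ φ = 0 := by
      rw [← hψ, h ψ, Functor.map_zero]
    rw [← cancel_epi (singleShiftIso i Y).hom, this, comp_zero]

/-- `Hom(Y[-i], Q I) = 0` when `I` is K-injective with `I^i = 0`. -/
lemma hom_single_eq_zero_of_isZero (I : CochainComplex C ℤ) [I.IsKInjective] (i : ℤ)
    (hi : IsZero (I.X i)) (Y : C) (ψ : (singleFunctor C i).obj Y ⟶ Q.obj I) : ψ = 0 := by
  obtain ⟨φ, hφ⟩ := Groth.Agent.Lib.DConeRep.exists_map_eq_of_isKInjective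
    (E₁ := (HomologicalComplex.single C (ComplexShape.up ℤ) i).obj Y) ψ
  have : φ = 0 := by
    apply from_single_hom_ext
    exact hi.eq_of_tgt _ _
  rw [← hφ, this]
  exact Functor.map_zero _ _ _

/-- The bounded injective criterion, for a complex. -/
theorem exists_quasiIso_bounded_injective [EnoughInjectives C] (K : CochainComplex C ℤ) (a n : ℤ)
    [K.IsStrictlyGE a]
    (h : ∀ (Y : C) (i : ℤ), n < i → ∀ φ : (singleFunctor C 0).obj Y ⟶ (Q.obj K)⟦i⟧, φ = 0) :
    ∃ (J : CochainComplex C ℤ) (f : K ⟶ J), J.IsStrictlyGE a ∧ J.IsStrictlyLE n ∧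
      (∀ i, Injective (J.X i)) ∧ QuasiIso f := by
  obtain ⟨L, j, hj, hL, hLa⟩ :=
    CochainComplex.Plus.modelCategoryQuillen.exists_quasiIso_injective K a
  have hjiso : IsIso (Q.map j) := by
    rw [isIso_Q_map_iff_quasiIso]
    exact hj
  have hL' : ∀ (i : ℤ), n < i → ∀ (Y : C) (ψ : (singleFunctor C i).obj Y ⟶ Q.obj L), ψ = 0 := by
    intro i hi Y ψ
    have h1 := (hom_single_shift_iff i Y (Q.obj K)).mp (h Y i hi) (ψ ≫ inv (Q.map j))
    rw [← cancel_mono (inv (Q.map j)), h1, zero_comp]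
  obtain ⟨h1, h2, h3, h4⟩ :=
    Groth.Agent.Lib.DInjTrunc.truncLE_props_of_hom_vanishing L a n hL'
  have hιiso : IsIso (Q.map (L.ιTruncLE n)) := by
    rw [isIso_Q_map_iff_quasiIso]
    exact h4
  have : (L.truncLE n).IsKInjective := CochainComplex.isKInjective_of_injective _ a
  obtain ⟨f, hf⟩ := Groth.Agent.Lib.DConeRep.exists_map_eq_of_isKInjective
    (Q.map j ≫ inv (Q.map (L.ιTruncLE n)))
  refine ⟨L.truncLE n, f, h1, h2, h3, ?_⟩
  rw [← isIso_Q_map_iff_quasiIso, hf]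
  infer_instance

/-- The bounded injective criterion, for an object of `D(C)`. -/
theorem exists_bounded_injective_iso [EnoughInjectives C] (X : DerivedCategory C) (a n : ℤ)
    [X.IsGE a]
    (h : ∀ (Y : C) (i : ℤ), n < i → ∀ φ : (singleFunctor C 0).obj Y ⟶ X⟦i⟧, φ = 0) :
    ∃ (J : CochainComplex C ℤ), J.IsStrictlyGE a ∧ J.IsStrictlyLE n ∧
      (∀ i, Injective (J.X i)) ∧ Nonempty (Q.obj J ≅ X) := by
  obtain ⟨K, hK, ⟨e⟩⟩ := exists_iso_Q_obj_of_isGE X a
  have hK' : ∀ (Y : C) (i : ℤ), n < i →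
      ∀ φ : (singleFunctor C 0).obj Y ⟶ (Q.obj K)⟦i⟧, φ = 0 := by
    intro Y i hi φ
    have h1 := h Y i hi (φ ≫ (e.inv)⟦i⟧')
    have h2 : φ = (φ ≫ (e.inv)⟦i⟧') ≫ (e.hom)⟦i⟧' := by
      rw [assoc, ← Functor.map_comp, e.inv_hom_id, CategoryTheory.Functor.map_id, comp_id]
    rw [h2, h1, zero_comp]
  obtain ⟨J, f, h1, h2, h3, h4⟩ := exists_quasiIso_bounded_injective K a n hK'
  have : IsIso (Q.map f) := by
    rw [isIso_Q_map_iff_quasiIso]
    exact h4
  exact ⟨J, h1, h2, h3, ⟨(asIso (Q.map f)).symm ≪≫ e.symm⟩⟩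

end Groth.Agent.Lib.DInjHom
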