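import Groth.Agent.Lib.DConeRep
import Mathlib.Algebra.Homology.Embedding.CochainComplex

/-!
# Truncating bounded below complexes of injectives

Namespace `Groth.Agent.Lib.DInjTrunc` (dual of parts of `Lib/DSplit`).

* `fromSingle I a y hy : M[-a] ⟶ I` for `y : M ⟶ I^a` with `y ≫ d = 0`;
  `exists_factor_of_homotopy`, `exists_factor_of_Q_map_eq_zero` (for `I` K-injective).
* `exactAt_of_factor`, `injective_cycles_of_factor`: consequences of a factorization of
  `Z^i ⟶ I^i` through `d^{i-1}`; `injective_cycles_of_factor_succ`.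
* `truncLE_props`: for `I` strictly `≥ a`, termwise injective, exact in degrees `> n` and with
  `Z^n` injective, the truncation `τ_{≤n} I` is a bounded complex of injectives quasi-isomorphic
  to `I`.
* `exists_bounded_injective_of_hom_vanishing`: the general criterion.
-/

set_option autoImplicit false
universe w v u

open CategoryTheory CategoryTheory.Limits Category

namespace Groth.Agent.Lib.DInjTrunc

variable {C : Type u} [Category.{v} C] [Abelian C]

open HomologicalComplex

section NoD

/-- The chain map `M[-a] ⟶ I` induced by `y : M ⟶ I^a` with `y ≫ d^a = 0`. -/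
noncomputable def fromSingle (I : CochainComplex C ℤ) (a : ℤ) {M : C} (y : M ⟶ I.X a)
    (hy : y ≫ I.d a (a + 1) = 0) : (single C (ComplexShape.up ℤ) a).obj M ⟶ I :=
  mkHomFromSingle y (by
    intro k hk
    obtain rfl : k = a + 1 := by simp at hk; lia
    exact hy)

/-- A null-homotopy of `fromSingle y` gives a factorization of `y` through `d^{a-1}`. -/
lemma exists_factor_of_homotopy (I : CochainComplex C ℤ) (a : ℤ) {M : C} (y : M ⟶ I.X a)
    (hy : y ≫ I.d a (a + 1) = 0) (H : Homotopy (fromSingle I a y hy) 0) :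
    ∃ s : M ⟶ I.X (a - 1), s ≫ I.d (a - 1) a = y := by
  refine ⟨(singleObjXSelf (ComplexShape.up ℤ) a M).inv ≫ H.hom a (a - 1), ?_⟩
  have h := H.comm a
  rw [dNext_eq H.hom (show (ComplexShape.up ℤ).Rel a (a + 1) by simp),
    prevD_eq H.hom (show (ComplexShape.up ℤ).Rel (a - 1) a by simp)] at h
  simp only [single_obj_d, zero_comp, zero_add, zero_f, add_zero] at h
  rw [assoc, ← h]
  simp [fromSingle, mkHomFromSingle_f]

/-- If `Z^a ⟶ I^a` factors through `d^{a-1}` then `H^a(I) = 0`. -/
lemma exactAt_of_factor (I : CochainComplex C ℤ) (a : ℤ) (s : I.cycles a ⟶ I.X (a - 1))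
    (hs : s ≫ I.d (a - 1) a = I.iCycles a) : I.ExactAt a := by
  have hs' : s ≫ I.toCycles (a - 1) a = 𝟙 _ := by
    rw [← cancel_mono (I.iCycles a), assoc, toCycles_i, hs, id_comp]
  rw [exactAt_iff_isZero_homology]
  apply IsZero.of_epi_eq_zero (I.homologyπ a)
  have : I.homologyπ a = (s ≫ I.toCycles (a - 1) a) ≫ I.homologyπ a := by
    rw [hs', id_comp]
  rw [this, assoc, toCycles_comp_homologyπ, comp_zero]

/-- If `Z^a ⟶ I^a` factors through `d^{a-1}` then `Z^a` is a retract of `I^{a-1}`. -/
lemma injective_cycles_of_factor (I : CochainComplex C ℤ) (a : ℤ) (s : I.cycles a ⟶ I.X (a - 1))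
    (hs : s ≫ I.d (a - 1) a = I.iCycles a) [Injective (I.X (a - 1))] :
    Injective (I.cycles a) := by
  have hs' : s ≫ I.toCycles (a - 1) a = 𝟙 _ := by
    rw [← cancel_mono (I.iCycles a), assoc, toCycles_i, hs, id_comp]
  exact Retract.injective ⟨s, I.toCycles (a - 1) a, hs'⟩

/-- If `Z^{n+1} ⟶ I^{n+1}` factors through `d^n` then `Z^n` is a retract of `I^n`. -/
lemma injective_cycles_of_factor_succ (I : CochainComplex C ℤ) (n : ℤ)
    (s : I.cycles (n + 1) ⟶ I.X n) (hs : s ≫ I.d n (n + 1) = I.iCycles (n + 1))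
    [Injective (I.X n)] : Injective (I.cycles n) := by
  have hs' : s ≫ I.toCycles n (n + 1) = 𝟙 _ := by
    rw [← cancel_mono (I.iCycles (n + 1)), assoc, toCycles_i, hs, id_comp]
  have hd : (𝟙 (I.X n) - I.toCycles n (n + 1) ≫ s) ≫ I.d n (n + 1) = 0 := by
    rw [Preadditive.sub_comp, id_comp, assoc, hs, toCycles_i, sub_self]
  let r : I.X n ⟶ I.cycles n := I.liftCycles _ (n + 1) (by simp) hd
  have hr : r ≫ I.iCycles n = 𝟙 (I.X n) - I.toCycles n (n + 1) ≫ s := I.liftCycles_i _ _ _ _
  have h0 : I.iCycles n ≫ I.toCycles n (n + 1) = 0 := by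
    rw [← cancel_mono (I.iCycles (n + 1)), assoc, toCycles_i, iCycles_d, zero_comp]
  have hir : I.iCycles n ≫ r = 𝟙 _ := by
    rw [← cancel_mono (I.iCycles n), assoc, hr, Preadditive.comp_sub, comp_id, reassoc_of% h0,
      zero_comp, sub_zero, id_comp]
  exact Retract.injective ⟨I.iCycles n, r, hir⟩

/-- The truncation `τ_{≤n} I` of a bounded below complex of injectives which is exact above `n`
and has `Z^n` injective. -/
theorem truncLE_props (I : CochainComplex C ℤ) (a n : ℤ) [I.IsStrictlyGE a]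
    [∀ i, Injective (I.X i)] (hex : ∀ i : ℤ, n < i → I.ExactAt i) [Injective (I.cycles n)] :
    (I.truncLE n).IsStrictlyGE a ∧ (I.truncLE n).IsStrictlyLE n ∧
      (∀ i, Injective ((I.truncLE n).X i)) ∧ QuasiIso (I.ιTruncLE n) := by
  refine ⟨?_, inferInstance, fun i => ?_, ?_⟩
  · rw [CochainComplex.isStrictlyGE_iff]
    intro i hi
    obtain h | rfl | h := lt_trichotomy i n
    · exact IsZero.of_iso (I.isZero_of_isStrictlyGE a i hi) (I.truncLEXIso n i h)
    · refine IsZero.of_iso ?_ (I.truncLEXIsoCycles i)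
      exact IsZero.of_mono (I.iCycles i) (I.isZero_of_isStrictlyGE a i hi)
    · exact (I.truncLE n).isZero_of_isStrictlyLE n i h
  · obtain h | rfl | h := lt_trichotomy i n
    · exact Injective.of_iso (I.truncLEXIso n i h).symm inferInstance
    · exact Injective.of_iso (I.truncLEXIsoCycles i).symm inferInstance
    · exact ((I.truncLE n).isZero_of_isStrictlyLE n i h).injective
  · rw [CochainComplex.quasiIso_ιTruncLE_iff, CochainComplex.isLE_iff]
    exact hex

end NoD

variable [HasDerivedCategory.{w} C]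

open DerivedCategory

lemma exists_factor_of_Q_map_eq_zero (I : CochainComplex C ℤ) [I.IsKInjective] (a : ℤ) {M : C}
    (y : M ⟶ I.X a) (hy : y ≫ I.d a (a + 1) = 0) (h : Q.map (fromSingle I a y hy) = 0) :
    ∃ s : M ⟶ I.X (a - 1), s ≫ I.d (a - 1) a = y := by
  obtain ⟨H⟩ := Groth.Agent.Lib.DConeRep.nonempty_homotopy_zero_of_isKInjective _ h
  exact exists_factor_of_homotopy I a y hy H

/-- If all morphisms `Y[-i] ⟶ I` vanish in the derived category, `Z^i ⟶ I^i` factors through
`d^{i-1}`. -/
lemma exists_factor_cycles (I : CochainComplex C ℤ) [I.IsKInjective] (i : ℤ)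
    (h : ∀ ψ : (singleFunctor C i).obj (I.cycles i) ⟶ Q.obj I, ψ = 0) :
    ∃ s : I.cycles i ⟶ I.X (i - 1), s ≫ I.d (i - 1) i = I.iCycles i :=
  exists_factor_of_Q_map_eq_zero I i (I.iCycles i) (by simp) (h _)

/-- A bounded below complex of injectives `I` such that `Hom(Y[-i], I) = 0` in `D(C)` for all
objects `Y` and all `i > n` is quasi-isomorphic to its truncation `τ_{≤ n} I`, which is a bounded
complex of injectives. -/
theorem truncLE_props_of_hom_vanishing (I : CochainComplex C ℤ) (a n : ℤ) [I.IsStrictlyGE a]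
    [∀ i, Injective (I.X i)]
    (h : ∀ (i : ℤ), n < i → ∀ (Y : C) (ψ : (singleFunctor C i).obj Y ⟶ Q.obj I), ψ = 0) :
    (I.truncLE n).IsStrictlyGE a ∧ (I.truncLE n).IsStrictlyLE n ∧
      (∀ i, Injective ((I.truncLE n).X i)) ∧ QuasiIso (I.ιTruncLE n) := by
  have : I.IsKInjective := CochainComplex.isKInjective_of_injective I a
  have hs : ∀ i : ℤ, n < i → ∃ s : I.cycles i ⟶ I.X (i - 1),
      s ≫ I.d (i - 1) i = I.iCycles i :=
    fun i hi => exists_factor_cycles I i (h i hi _)
  have hex : ∀ i : ℤ, n < i → I.ExactAt i := by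
    intro i hi
    obtain ⟨s, hs⟩ := hs i hi
    exact exactAt_of_factor I i s hs
  have : Injective (I.cycles n) := by
    obtain ⟨s, hs⟩ := hs (n + 1) (by lia)
    have e : n + 1 - 1 = n := by lia
    -- transport along `n + 1 - 1 = n`
    have key : ∀ (m : ℤ) (_ : m = n) (s : I.cycles (n + 1) ⟶ I.X m)
        (_ : s ≫ I.d m (n + 1) = I.iCycles (n + 1)), Injective (I.cycles n) := by
      rintro m rfl s hs
      exact injective_cycles_of_factor_succ I m s hs
    exact key _ e s hs
  exact truncLE_props I a n hex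

end Groth.Agent.Lib.DInjTrunc
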