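import Groth.Agent.Lib.DTruncHom

/-!
# Long exact sequence helpers in `D(A)` and a unique factorization lemma

Namespace `Groth.Agent.Lib.DLES`.

* `isZero_homology_obj₁`, `isZero_homology_obj₃`: vanishing of a cohomology object of the first /
  third vertex of a distinguished triangle from epi/mono conditions on the other map.
* `isIso_homologyMap_truncLTι`: `H^j(τ_{<n} X) ≅ H^j(X)` for `j < n`.
* `existsUnique_factor`: for `π : X ⟶ B`, `ι' : A' ⟶ X'` with `X, X' ∈ D^{[q-1,q]}`,
  `B ∈ D^{[q,q]}`, `A' ∈ D^{[q-1,q-1]}`, `H^q(π)` and `H^{q-1}(ι')` isomorphisms, every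
  `φ : X ⟶ X'` which is zero on `H^{q-1}` and `H^q` factors uniquely as `π ≫ L ≫ ι'`.
-/

open CategoryTheory Limits Category Pretriangulated Triangulated

universe w v u

namespace Groth.Agent.Lib.DLES

variable {A : Type u} [Category.{v} A] [Abelian A] [HasDerivedCategory.{w} A]

open DerivedCategory DerivedCategory.TStructure

lemma isZero_homology_obj₁ (T : Triangle (DerivedCategory A)) (hT : T ∈ distTriang _)
    (n₀ n₁ : ℤ) (h : n₀ + 1 = n₁) (h₁ : Epi ((homologyFunctor A n₀).map T.mor₂))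
    (h₂ : Mono ((homologyFunctor A n₁).map T.mor₂)) :
    IsZero ((homologyFunctor A n₁).obj T.obj₁) := by
  have hδ : HomologySequence.δ T n₀ n₁ h = 0 :=
    (HomologySequence.epi_homologyMap_mor₂_iff T hT n₀ n₁ h).mp h₁
  have h1 : (homologyFunctor A n₁).map T.mor₁ = 0 :=
    (HomologySequence.mono_homologyMap_mor₂_iff T hT n₁).mp h₂
  exact (HomologySequence.exact₁ T hT n₀ n₁ h).isZero_of_both_zeros hδ h1

lemma isZero_homology_obj₃ (T : Triangle (DerivedCategory A)) (hT : T ∈ distTriang _)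
    (n₀ n₁ : ℤ) (h : n₀ + 1 = n₁) (h₁ : Epi ((homologyFunctor A n₀).map T.mor₁))
    (h₂ : Mono ((homologyFunctor A n₁).map T.mor₁)) :
    IsZero ((homologyFunctor A n₀).obj T.obj₃) := by
  have h2 : (homologyFunctor A n₀).map T.mor₂ = 0 :=
    (HomologySequence.epi_homologyMap_mor₁_iff T hT n₀).mp h₁
  have hδ : HomologySequence.δ T n₀ n₁ h = 0 :=
    (HomologySequence.mono_homologyMap_mor₁_iff T hT n₀ n₁ h).mp h₂
  exact (HomologySequence.exact₃ T hT n₀ n₁ h).isZero_of_both_zeros h2 hδ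

lemma isIso_homologyMap_truncLTι (X : DerivedCategory A) (n j : ℤ) (hj : j < n) :
    IsIso ((homologyFunctor A j).map ((t.truncLTι n).app X)) := by
  have hT := t.triangleLTGE_distinguished n X
  have hmono : Mono ((homologyFunctor A j).map ((t.truncLTι n).app X)) := by
    refine (HomologySequence.mono_homologyMap_mor₁_iff _ hT (j - 1) j (by lia)).mpr ?_
    exact (isZero_of_isGE ((t.truncGE n).obj X) n (j - 1) (by lia)).eq_of_src _ _
  have hepi : Epi ((homologyFunctor A j).map ((t.truncLTι n).app X)) := by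
    refine (HomologySequence.epi_homologyMap_mor₁_iff _ hT j).mpr ?_
    exact (isZero_of_isGE ((t.truncGE n).obj X) n j (by lia)).eq_of_tgt _ _
  exact isIso_of_mono_of_epi _

omit [Abelian A] [HasDerivedCategory A] in
lemma epi_of_isZero_tgt {X Y : A} (f : X ⟶ Y) (hY : IsZero Y) : Epi f :=
  ⟨fun _ _ _ => hY.eq_of_src _ _⟩

omit [Abelian A] [HasDerivedCategory A] in
lemma mono_of_isZero_src {X Y : A} (f : X ⟶ Y) (hX : IsZero X) : Mono f :=
  ⟨fun _ _ _ => hX.eq_of_tgt _ _⟩

/-- Unique factorization through the "top" of the source and the "bottom" of the target. -/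
theorem existsUnique_factor (q : ℤ) {X B A' X' : DerivedCategory A}
    [X.IsGE (q - 1)] [X.IsLE q] [B.IsGE q] [B.IsLE q] [A'.IsGE (q - 1)] [A'.IsLE (q - 1)]
    [X'.IsGE (q - 1)] [X'.IsLE q]
    (π : X ⟶ B) (ι' : A' ⟶ X') (φ : X ⟶ X')
    (hπ : IsIso ((homologyFunctor A q).map π))
    (hι' : IsIso ((homologyFunctor A (q - 1)).map ι'))
    (h₁ : (homologyFunctor A (q - 1)).map φ = 0) (h₂ : (homologyFunctor A q).map φ = 0) :
    ∃! L : B ⟶ A', φ = π ≫ L ≫ ι' := by
  -- the fibre of `π`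
  obtain ⟨F, ι, δ, hT⟩ := distinguished_cocone_triangle₁ π
  have hF : ∀ j : ℤ, j ≠ q - 1 → IsZero ((homologyFunctor A j).obj F) := by
    intro j hj
    refine isZero_homology_obj₁ _ hT (j - 1) j (by lia) ?_ ?_
    · by_cases hjq : j - 1 = q
      · rw [hjq]
        exact (inferInstance : Epi ((homologyFunctor A q).map π))
      · refine epi_of_isZero_tgt _ ?_
        rcases lt_or_gt_of_ne hjq with h | h
        · exact isZero_of_isGE B q (j - 1) h
        · exact isZero_of_isLE B q (j - 1) h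
    · by_cases hjq : j = q
      · rw [hjq]
        exact (inferInstance : Mono ((homologyFunctor A q).map π))
      · refine mono_of_isZero_src _ ?_
        by_cases h : j < q - 1
        · exact isZero_of_isGE X (q - 1) j h
        · exact isZero_of_isLE X q j (by lia)
  have hFle : F.IsLE (q - 1) := by
    rw [isLE_iff]
    intro i hi
    exact hF i (by lia)
  have hFge : F.IsGE (q - 1) := by
    rw [isGE_iff]
    intro i hi
    exact hF i (by lia)
  -- the cone of `ι'`
  obtain ⟨G, π', δ', hT'⟩ := distinguished_cocone_triangle ι'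
  have hG : ∀ j : ℤ, j ≠ q → IsZero ((homologyFunctor A j).obj G) := by
    intro j hj
    refine isZero_homology_obj₃ _ hT' j (j + 1) rfl ?_ ?_
    · by_cases hjq : j = q - 1
      · rw [hjq]
        exact (inferInstance : Epi ((homologyFunctor A (q - 1)).map ι'))
      · refine epi_of_isZero_tgt _ ?_
        by_cases h : j < q - 1
        · exact isZero_of_isGE X' (q - 1) j h
        · exact isZero_of_isLE X' q j (by lia)
    · by_cases hjq : j + 1 = q - 1
      · rw [hjq]
        exact (inferInstance : Mono ((homologyFunctor A (q - 1)).map ι'))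
      · refine mono_of_isZero_src _ ?_
        rcases lt_or_gt_of_ne hjq with h | h
        · exact isZero_of_isGE A' (q - 1) (j + 1) h
        · exact isZero_of_isLE A' (q - 1) (j + 1) h
  have hGle : G.IsLE q := by
    rw [isLE_iff]
    intro i hi
    exact hG i (by lia)
  have hGge : G.IsGE q := by
    rw [isGE_iff]
    intro i hi
    exact hG i (by lia)
  -- existence
  have e1 : φ ≫ π' = 0 := by
    apply Groth.Agent.Lib.DTruncHom.eq_zero_of_homologyMap_eq_zero_of_isLE_of_isGE X G q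
    rw [Functor.map_comp, h₂, zero_comp]
  obtain ⟨ψ, hψ⟩ : ∃ ψ : X ⟶ A', φ = ψ ≫ ι' := Triangle.coyoneda_exact₂ _ hT' φ e1
  have e2 : ι ≫ ψ = 0 := by
    apply Groth.Agent.Lib.DNilp.eq_zero_of_homologyMap_eq_zero F A' (q - 1)
    rw [← cancel_mono ((homologyFunctor A (q - 1)).map ι'), zero_comp, ← Functor.map_comp, assoc,
      ← hψ, Functor.map_comp, h₁, comp_zero]
  obtain ⟨L, hL⟩ : ∃ L : B ⟶ A', ψ = π ≫ L := Triangle.yoneda_exact₂ _ hT ψ e2
  refine ⟨L, by rw [hψ, hL, assoc], ?_⟩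
  -- uniqueness
  intro L' hL'
  have hD : π ≫ (L' - L) ≫ ι' = 0 := by
    rw [Preadditive.sub_comp, Preadditive.comp_sub, ← hL', hψ, hL, assoc, sub_self]
  -- `π ≫ (L' - L)` factors through `G⟦-1⟧`
  have hT'' := inv_rot_of_distTriang _ hT'
  have e3 : π ≫ (L' - L) = 0 := by
    let μ : X ⟶ A' := π ≫ (L' - L)
    obtain ⟨θ, hθ⟩ : ∃ θ : X ⟶ G⟦(-1 : ℤ)⟧,
        μ = θ ≫ (Triangle.mk ι' π' δ').invRotate.mor₁ :=
      Triangle.coyoneda_exact₂ _ hT'' μ (by
        change (π ≫ (L' - L)) ≫ ι' = 0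
        rw [assoc]
        exact hD)
    have hGshift : (G⟦(-1 : ℤ)⟧).IsGE (q + 1) := t.isGE_shift G q (-1) (q + 1) (by lia)
    have hθ0 : θ = 0 := t.zero_of_isLE_of_isGE θ q (q + 1) (by lia) inferInstance hGshift
    change μ = 0
    rw [hθ, hθ0]
    exact zero_comp
  obtain ⟨w, hw⟩ : ∃ w : F⟦(1 : ℤ)⟧ ⟶ A', L' - L = δ ≫ w :=
    Triangle.yoneda_exact₃ _ hT (L' - L) e3
  have hFshift : (F⟦(1 : ℤ)⟧).IsLE (q - 2) := t.isLE_shift F (q - 1) 1 (q - 2) (by lia)
  have hw0 : w = 0 := t.zero_of_isLE_of_isGE w (q - 2) (q - 1) (by lia) hFshift inferInstance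
  rw [hw0, comp_zero] at hw
  exact sub_eq_zero.mp hw

end Groth.Agent.Lib.DLES
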