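import Mathlib.RingTheory.DividedPowers.Padic
import Mathlib.RingTheory.DividedPowers.DPMorphism
import Mathlib.RingTheory.MvPolynomial.Basic
import Mathlib.Tactic

/-!
# The divided power polynomial algebra over a torsion-free base, inside `K[X]`

`S → K` an injective ring map into a `ℚ`-algebra `K`, `σ` a finite index type.
`D S K σ` is the `S`-subalgebra of `K[X_i : i ∈ σ]` spanned by the divided monomials
`xi e = ∏ X_i^{e_i} / e_i!`.  It is free on the `xi e`, carries a divided power structure `eps`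
on the ideal `Iplus` generated by the `dp i n = X_i^n / n!` (`n ≥ 1`), and has the expected
universal property `phi` for families `a i n` with `a i 0 = 1`,
`a i m * a i n = C(m+n,m) a i (m+n)`.
-/

set_option autoImplicit false

namespace Groth.Agent.Lib.DPPoly58

open MvPolynomial Nat

section Model

variable (S K σ : Type*) [CommRing S] [CommRing K] [Algebra S K] [Algebra ℚ K] [Fintype σ]

/-- The rational coefficient `1 / ∏ e_i!`. -/
noncomputable def cf (e : σ →₀ ℕ) : ℚ := (∏ i, ((e i)! : ℚ))⁻¹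

/-- The structure constants `∏ C(e_i + f_i, e_i)`. -/
def mulCoeff (e f : σ →₀ ℕ) : ℕ := ∏ i, (e i + f i).choose (e i)

variable {σ} in
theorem cf_mul (e f : σ →₀ ℕ) : cf σ e * cf σ f = (mulCoeff σ e f : ℚ) * cf σ (e + f) := by
  unfold cf mulCoeff
  have h1 : (∏ i, ((e i)! : ℚ)) ≠ 0 := Finset.prod_ne_zero_iff.mpr fun i _ => by positivity
  have h2 : (∏ i, ((f i)! : ℚ)) ≠ 0 := Finset.prod_ne_zero_iff.mpr fun i _ => by positivity
  have h3 : (∏ i, (((e + f) i)! : ℚ)) ≠ 0 := Finset.prod_ne_zero_iff.mpr fun i _ => by positivity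
  rw [← mul_inv, eq_mul_inv_iff_mul_eq₀ h3, mul_comm, mul_inv_eq_iff_eq_mul₀
    (mul_ne_zero h1 h2)]
  push_cast
  rw [← Finset.prod_mul_distrib, ← Finset.prod_mul_distrib]
  refine Finset.prod_congr rfl fun i _ => ?_
  rw [Pi.add_apply]
  have := Nat.add_choose_mul_factorial_mul_factorial (e i) (f i)
  rw [← Nat.choose_symm_add] at this
  rw [← this]; push_cast; ring

/-- The divided monomial `∏ X_i^{e_i}/e_i!`. -/
noncomputable def xi (e : σ →₀ ℕ) : MvPolynomial σ K := monomial e (algebraMap ℚ K (cf σ e))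

variable {σ} in
theorem xi_mul (e f : σ →₀ ℕ) :
    xi K σ e * xi K σ f = (mulCoeff σ e f : MvPolynomial σ K) * xi K σ (e + f) := by
  unfold xi
  rw [monomial_mul, ← map_mul, cf_mul, map_mul, map_natCast, ← C_eq_coe_nat, C_mul_monomial]

theorem xi_zero : xi K σ 0 = 1 := by
  unfold xi cf
  simp

/-- The `S`-span of the divided monomials. -/
noncomputable def Dmod : Submodule S (MvPolynomial σ K) := Submodule.span S (Set.range (xi K σ))

theorem one_mem_Dmod : (1 : MvPolynomial σ K) ∈ Dmod S K σ :=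
  Submodule.subset_span ⟨0, xi_zero K σ⟩

theorem mul_mem_Dmod {x y : MvPolynomial σ K} (hx : x ∈ Dmod S K σ) (hy : y ∈ Dmod S K σ) :
    x * y ∈ Dmod S K σ := by
  have h : Dmod S K σ * Dmod S K σ ≤ Dmod S K σ := by
    unfold Dmod
    rw [Submodule.span_mul_span, Submodule.span_le]
    rintro _ ⟨_, ⟨e, rfl⟩, _, ⟨f, rfl⟩, rfl⟩
    show xi K σ e * xi K σ f ∈ _
    rw [xi_mul, ← nsmul_eq_mul]
    exact Submodule.smul_of_tower_mem _ _ (Submodule.subset_span ⟨e + f, rfl⟩)
  exact h (Submodule.mul_mem_mul hx hy)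

/-- The divided power polynomial algebra, as a subalgebra of `K[X]`. -/
noncomputable def D : Subalgebra S (MvPolynomial σ K) :=
  (Dmod S K σ).toSubalgebra (one_mem_Dmod S K σ) (fun _ _ hx hy => mul_mem_Dmod S K σ hx hy)

theorem mem_D {x : MvPolynomial σ K} : x ∈ D S K σ ↔ x ∈ Dmod S K σ := Iff.rfl

/-- The divided monomials as elements of `D`. -/
noncomputable def xiD (e : σ →₀ ℕ) : D S K σ := ⟨xi K σ e, Submodule.subset_span ⟨e, rfl⟩⟩

@[simp] theorem coe_xiD (e : σ →₀ ℕ) : ((xiD S K σ e : D S K σ) : MvPolynomial σ K) = xi K σ e := rfl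

theorem xiD_zero : xiD S K σ 0 = 1 := Subtype.ext (xi_zero K σ)

variable {σ} in
theorem xiD_mul (e f : σ →₀ ℕ) :
    xiD S K σ e * xiD S K σ f = mulCoeff σ e f • xiD S K σ (e + f) := by
  apply Subtype.ext
  rw [MulMemClass.coe_mul, coe_xiD, coe_xiD, xi_mul, nsmul_eq_mul]
  simp

theorem span_xiD : Submodule.span S (Set.range (xiD S K σ)) = ⊤ := by
  rw [eq_top_iff]
  rintro ⟨x, hx⟩ -
  have h : x ∈ Submodule.map (D S K σ).val.toLinearMap (Submodule.span S (Set.range (xiD S K σ))) := by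
    rw [Submodule.map_span, ← Set.range_comp]
    exact hx
  obtain ⟨y, hy, hyx⟩ := h
  have : y = ⟨x, hx⟩ := Subtype.ext hyx
  exact this ▸ hy

variable [FaithfulSMul S K]

theorem linearIndependent_xi : LinearIndependent S (xi K σ) := by
  have h1 : LinearIndependent K (xi K σ) := by
    have hu : ∀ e : σ →₀ ℕ, IsUnit (algebraMap ℚ K (cf σ e)) := by
      intro e
      have h0 : cf σ e ≠ 0 := by
        unfold cf
        exact inv_ne_zero (Finset.prod_ne_zero_iff.mpr fun i _ => by positivity)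
      exact (IsUnit.mk0 _ h0).map _
    have := (basisMonomials σ K).linearIndependent.units_smul (fun e => (hu e).unit)
    convert this using 1
    funext e
    simp [xi, smul_monomial]
  exact h1.restrict_scalars' S

theorem linearIndependent_xiD : LinearIndependent S (xiD S K σ) :=
  LinearIndependent.of_comp (D S K σ).val.toLinearMap (linearIndependent_xi S K σ)

/-- The basis of divided monomials. -/
noncomputable def bD : Module.Basis (σ →₀ ℕ) S (D S K σ) :=
  Module.Basis.mk (linearIndependent_xiD S K σ) (span_xiD S K σ).ge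

@[simp] theorem bD_apply (e : σ →₀ ℕ) : bD S K σ e = xiD S K σ e := by
  simp [bD]

section Hom

variable {A : Type*} [CommRing A] [Algebra S A] (a : σ → ℕ → A)

/-- The linear map `D → A` with `xi e ↦ ∏ a i (e i)`. -/
noncomputable def phiLin : D S K σ →ₗ[S] A := (bD S K σ).constr S (fun e => ∏ i, a i (e i))

theorem phiLin_xiD (e : σ →₀ ℕ) : phiLin S K σ a (xiD S K σ e) = ∏ i, a i (e i) := by
  rw [← bD_apply, phiLin, Module.Basis.constr_basis]

variable {a}

theorem phiLin_one (h0 : ∀ i, a i 0 = 1) : phiLin S K σ a 1 = 1 := by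
  rw [← xiD_zero, phiLin_xiD]
  simp [h0]

theorem phiLin_mul
    (hmul : ∀ i m n, a i m * a i n = ((m + n).choose m : A) * a i (m + n))
    (x y : D S K σ) : phiLin S K σ a (x * y) = phiLin S K σ a x * phiLin S K σ a y := by
  have key : (LinearMap.mul S (D S K σ)).compr₂ (phiLin S K σ a) =
      (LinearMap.mul S A).compl₁₂ (phiLin S K σ a) (phiLin S K σ a) := by
    refine (bD S K σ).ext fun e => (bD S K σ).ext fun f => ?_
    simp only [bD_apply, LinearMap.compr₂_apply, LinearMap.mul_apply', LinearMap.compl₁₂_apply]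
    rw [xiD_mul, map_nsmul, phiLin_xiD, phiLin_xiD, phiLin_xiD, ← Finset.prod_mul_distrib]
    rw [nsmul_eq_mul, mulCoeff, Nat.cast_prod, ← Finset.prod_mul_distrib]
    refine Finset.prod_congr rfl fun i _ => ?_
    rw [hmul, Finsupp.add_apply]
  exact LinearMap.congr_fun₂ key x y

/-- The algebra map `D → A` attached to a family of "divided power sequences". -/
noncomputable def phi (h0 : ∀ i, a i 0 = 1)
    (hmul : ∀ i m n, a i m * a i n = ((m + n).choose m : A) * a i (m + n)) :
    D S K σ →ₐ[S] A :=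
  AlgHom.ofLinearMap (phiLin S K σ a) (phiLin_one S K σ h0) (phiLin_mul S K σ hmul)

theorem phi_xiD (h0 : ∀ i, a i 0 = 1)
    (hmul : ∀ i m n, a i m * a i n = ((m + n).choose m : A) * a i (m + n)) (e : σ →₀ ℕ) :
    phi S K σ h0 hmul (xiD S K σ e) = ∏ i, a i (e i) :=
  phiLin_xiD S K σ a e

end Hom

section DP

/-- `X_i^[n] = X_i^n / n!` as an element of `D`. -/
noncomputable def dp (i : σ) (n : ℕ) : D S K σ := xiD S K σ (Finsupp.single i n)

omit [FaithfulSMul S K] in
theorem dp_zero (i : σ) : dp S K σ i 0 = 1 := by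
  rw [dp, Finsupp.single_zero, xiD_zero]

omit [FaithfulSMul S K] in
theorem cf_single (i : σ) (n : ℕ) : cf σ (Finsupp.single i n) = ((n ! : ℕ) : ℚ)⁻¹ := by
  classical
  unfold cf
  rw [Finset.prod_eq_single i]
  · simp
  · intro j _ hj
    rw [Finsupp.single_eq_of_ne hj]; simp
  · intro h; exact absurd (Finset.mem_univ i) h

omit [FaithfulSMul S K] in
theorem factorial_mul_coe_dp (i : σ) (n : ℕ) :
    ((n ! : ℕ) : MvPolynomial σ K) * ((dp S K σ i n : D S K σ) : MvPolynomial σ K) = X i ^ n := by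
  rw [dp, coe_xiD, xi, cf_single, X_pow_eq_monomial, ← C_eq_coe_nat, C_mul_monomial]
  congr 1
  rw [← map_natCast (algebraMap ℚ K), ← map_mul, mul_inv_cancel₀, map_one]
  exact_mod_cast (Nat.factorial_ne_zero n)

omit [FaithfulSMul S K] in
theorem coe_dp_one (i : σ) : ((dp S K σ i 1 : D S K σ) : MvPolynomial σ K) = X i := by
  have := factorial_mul_coe_dp S K σ i 1
  simpa using this

omit [FaithfulSMul S K] in
theorem dp_mul (i : σ) (m n : ℕ) :
    dp S K σ i m * dp S K σ i n = (m + n).choose m • dp S K σ i (m + n) := by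
  classical
  rw [dp, dp, xiD_mul, ← Finsupp.single_add, dp]
  congr 1
  unfold mulCoeff
  rw [Finset.prod_eq_single i]
  · simp
  · intro j _ hj
    rw [Finsupp.single_eq_of_ne hj, Finsupp.single_eq_of_ne hj]; simp
  · intro h; exact absurd (Finset.mem_univ i) h

/-- The augmentation ideal of `D`. -/
noncomputable def Iplus : Ideal (D S K σ) := Ideal.span {y | ∃ (i : σ) (n : ℕ), 1 ≤ n ∧ y = dp S K σ i n}

omit [FaithfulSMul S K] in
theorem dp_mem_Iplus (i : σ) {n : ℕ} (hn : 1 ≤ n) : dp S K σ i n ∈ Iplus S K σ :=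
  Ideal.subset_span ⟨i, n, hn, rfl⟩

/-- The extension of `Iplus` to `K[X]`. -/
noncomputable def J : Ideal (MvPolynomial σ K) := (Iplus S K σ).map (D S K σ).val

open Classical in
/-- The (unique) divided powers on the `ℚ`-algebra ideal `J`. -/
noncomputable def gam : DividedPowers (J S K σ) := DividedPowers.RatAlgebra.dividedPowers (J S K σ)

omit [FaithfulSMul S K] in
theorem coe_mem_J {x : D S K σ} (hx : x ∈ Iplus S K σ) : (x : MvPolynomial σ K) ∈ J S K σ :=
  Ideal.mem_map_of_mem (D S K σ).val hx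

omit [FaithfulSMul S K] in
theorem X_mem_J (i : σ) : (X i : MvPolynomial σ K) ∈ J S K σ := by
  rw [← coe_dp_one S K σ i]
  exact coe_mem_J S K σ (dp_mem_Iplus S K σ i le_rfl)

omit [FaithfulSMul S K] in
theorem gam_X (i : σ) (n : ℕ) :
    (gam S K σ).dpow n (X i) = ((dp S K σ i n : D S K σ) : MvPolynomial σ K) := by
  have h1 := (gam S K σ).factorial_mul_dpow_eq_pow (n := n) (X_mem_J S K σ i)
  have hu : IsUnit ((n ! : ℕ) : MvPolynomial σ K) := IsUnit.natCast_factorial_of_algebra ℚ n
  apply hu.mul_left_cancel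
  rw [h1, factorial_mul_coe_dp]

omit [FaithfulSMul S K] in
theorem gam_dp (i : σ) {m : ℕ} (hm : m ≠ 0) (n : ℕ) :
    (gam S K σ).dpow n ((dp S K σ i m : D S K σ) : MvPolynomial σ K) =
      ((Nat.uniformBell n m • dp S K σ i (n * m) : D S K σ) : MvPolynomial σ K) := by
  rw [← gam_X, (gam S K σ).dpow_comp hm (X_mem_J S K σ i), gam_X, nsmul_eq_mul]
  simp

omit [FaithfulSMul S K] in
theorem hmem_aux {x : D S K σ} (hx : x ∈ Iplus S K σ) :
    ∀ n : ℕ, ∃ y : D S K σ, (n ≠ 0 → y ∈ Iplus S K σ) ∧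
      (y : MvPolynomial σ K) = (gam S K σ).dpow n (x : MvPolynomial σ K) := by
  unfold Iplus at hx
  induction hx using Submodule.span_induction with
  | mem x h =>
    obtain ⟨i, m, hm, rfl⟩ := h
    intro n
    refine ⟨Nat.uniformBell n m • dp S K σ i (n * m), fun hn => ?_, (gam_dp S K σ i (by omega) n).symm⟩
    exact Submodule.smul_of_tower_mem _ _ (dp_mem_Iplus S K σ i
      (Nat.one_le_iff_ne_zero.mpr (Nat.mul_ne_zero hn (by omega))))
  | zero =>
    intro n
    rcases Nat.eq_zero_or_pos n with rfl | hn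
    · exact ⟨1, fun h => absurd rfl h, by
        rw [(gam S K σ).dpow_zero (by simp)]; rfl⟩
    · exact ⟨0, fun _ => Ideal.zero_mem _, by
        rw [ZeroMemClass.coe_zero, (gam S K σ).dpow_eval_zero hn.ne']⟩
  | add x y hx hy ihx ihy =>
    intro n
    choose u hu1 hu2 using ihx
    choose v hv1 hv2 using ihy
    refine ⟨∑ k ∈ Finset.antidiagonal n, u k.1 * v k.2, fun hn => ?_, ?_⟩
    · refine Ideal.sum_mem _ fun k hk => ?_
      by_cases hk1 : k.1 = 0
      · have hk2 : k.2 ≠ 0 := by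
          rw [Finset.mem_antidiagonal] at hk; omega
        exact Ideal.mul_mem_left _ _ (hv1 _ hk2)
      · exact Ideal.mul_mem_right _ _ (hu1 _ hk1)
    · rw [AddMemClass.coe_add, (gam S K σ).dpow_add (coe_mem_J S K σ hx) (coe_mem_J S K σ hy)]
      rw [AddSubmonoidClass.coe_finsetSum]
      refine Finset.sum_congr rfl fun k _ => ?_
      rw [MulMemClass.coe_mul, hu2, hv2]
  | smul a x hx ih =>
    intro n
    obtain ⟨u, hu1, hu2⟩ := ih n
    refine ⟨a ^ n * u, fun hn => Ideal.mul_mem_left _ _ (hu1 hn), ?_⟩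
    rw [smul_eq_mul, MulMemClass.coe_mul, MulMemClass.coe_mul, SubmonoidClass.coe_pow, hu2,
      (gam S K σ).dpow_mul (coe_mem_J S K σ hx)]

/-- The divided power structure on the augmentation ideal of `D`. -/
noncomputable def eps : DividedPowers (Iplus S K σ) :=
  DividedPowers.ofInjective (Iplus S K σ) (J S K σ) ((D S K σ).val : D S K σ →+* MvPolynomial σ K)
    Subtype.val_injective (gam S K σ) rfl
    (fun n _ hx => by
      obtain ⟨y, h1, h2⟩ := hmem_aux S K σ hx n
      exact ⟨y, h1, h2⟩)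

omit [FaithfulSMul S K] in
theorem coe_eps (n : ℕ) {x : D S K σ} (hx : x ∈ Iplus S K σ) :
    (((eps S K σ).dpow n x : D S K σ) : MvPolynomial σ K) =
      (gam S K σ).dpow n (x : MvPolynomial σ K) := by
  unfold eps DividedPowers.ofInjective
  simp only [dif_pos hx]
  generalize_proofs _ h
  exact h.choose_spec.2

omit [FaithfulSMul S K] in
theorem eps_dp (i : σ) {m : ℕ} (hm : m ≠ 0) (n : ℕ) :
    (eps S K σ).dpow n (dp S K σ i m) = Nat.uniformBell n m • dp S K σ i (n * m) := by
  apply Subtype.ext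
  rw [coe_eps S K σ n (dp_mem_Iplus S K σ i (Nat.one_le_iff_ne_zero.mpr hm)), gam_dp S K σ i hm]

omit [FaithfulSMul S K] in
theorem eps_dp_one (i : σ) (n : ℕ) :
    (eps S K σ).dpow n (dp S K σ i 1) = dp S K σ i n := by
  rw [eps_dp S K σ i one_ne_zero, Nat.uniformBell_one_right, one_smul, mul_one]

omit [FaithfulSMul S K] in
/-- The engine: a ring map out of `D` that is compatible with divided powers on the generators
`dp i m` is compatible on all of `Iplus`, provided the target maps `dA n` satisfy the "easy"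
axioms (zero, additivity, homogeneity) on an ideal `IA`. -/
theorem hom_dpow {A : Type*} [CommRing A] (ph : D S K σ →+* A) (IA : Ideal A) (dA : ℕ → A → A)
    (h_zero : ∀ x ∈ IA, dA 0 x = 1)
    (h_add : ∀ (n : ℕ) (x y : A), x ∈ IA → y ∈ IA →
      dA n (x + y) = (Finset.antidiagonal n).sum fun k => dA k.1 x * dA k.2 y)
    (h_mul : ∀ (n : ℕ) (a x : A), x ∈ IA → dA n (a * x) = a ^ n * dA n x)
    (hgen : ∀ (i : σ) (m : ℕ), 1 ≤ m → ph (dp S K σ i m) ∈ IA ∧
      ∀ n, dA n (ph (dp S K σ i m)) = (Nat.uniformBell n m : A) * ph (dp S K σ i (n * m)))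
    {x : D S K σ} (hx : x ∈ Iplus S K σ) :
    ph x ∈ IA ∧ ∀ n, ph ((eps S K σ).dpow n x) = dA n (ph x) := by
  have hx' := hx
  unfold Iplus at hx'
  induction hx' using Submodule.span_induction with
  | mem x h =>
    obtain ⟨i, m, hm, rfl⟩ := h
    refine ⟨(hgen i m hm).1, fun n => ?_⟩
    rw [eps_dp S K σ i (by omega), (hgen i m hm).2, map_nsmul, nsmul_eq_mul]
  | zero =>
    refine ⟨by rw [map_zero]; exact IA.zero_mem, fun n => ?_⟩
    rcases Nat.eq_zero_or_pos n with rfl | hn
    · rw [(eps S K σ).dpow_zero hx, map_one, map_zero, h_zero 0 IA.zero_mem]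
    · rw [(eps S K σ).dpow_eval_zero hn.ne', map_zero]
      have := h_mul n 0 0 IA.zero_mem
      rw [mul_zero, zero_pow hn.ne', zero_mul] at this
      exact this.symm
  | add x y hx1 hy1 ihx ihy =>
    have hxI : x ∈ Iplus S K σ := hx1
    have hyI : y ∈ Iplus S K σ := hy1
    obtain ⟨hx2, hx3⟩ := ihx hxI
    obtain ⟨hy2, hy3⟩ := ihy hyI
    refine ⟨by rw [map_add]; exact IA.add_mem hx2 hy2, fun n => ?_⟩
    rw [(eps S K σ).dpow_add hxI hyI, map_sum, map_add, h_add n _ _ hx2 hy2]
    refine Finset.sum_congr rfl fun k _ => ?_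
    rw [map_mul, hx3, hy3]
  | smul a x hx1 ih =>
    have hxI : x ∈ Iplus S K σ := hx1
    obtain ⟨hx2, hx3⟩ := ih hxI
    refine ⟨by rw [smul_eq_mul, map_mul]; exact IA.mul_mem_left _ hx2, fun n => ?_⟩
    rw [smul_eq_mul, (eps S K σ).dpow_mul hxI, map_mul, map_mul, map_pow, hx3, h_mul n _ _ hx2]

theorem phi_dp {A : Type*} [CommRing A] [Algebra S A] {a : σ → ℕ → A} (h0 : ∀ i, a i 0 = 1)
    (hmul : ∀ i m n, a i m * a i n = ((m + n).choose m : A) * a i (m + n)) (i : σ) (n : ℕ) :
    phi S K σ h0 hmul (dp S K σ i n) = a i n := by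
  classical
  rw [dp, phi_xiD, Finset.prod_eq_single i]
  · simp
  · intro j _ hj
    rw [Finsupp.single_eq_of_ne hj, h0]
  · intro h; exact absurd (Finset.mem_univ i) h

end DP

end Model

end Groth.Agent.Lib.DPPoly58
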