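import Mathlib

/-!
# Divided power polynomial algebras: a torsion-free model with its divided power structure

For a `ℚ`-algebra `T` and a subring `S₀ ⊆ T`, the model `model S₀ σ` is the `S₀`-subalgebra of
`T[X_i : i ∈ σ]` of the polynomials `q` with `e! · coeff_e q ∈ S₀` for all exponents `e`. It is free
over `S₀` on the divided monomials `X^e / e!`, and the ideal generated by the `X_i^n / n!` (`n ≥ 1`)
carries the divided power structure `x ↦ x^n / n!` inherited from `T[X]`.
-/

set_option autoImplicit false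
set_option linter.unusedSectionVars false

namespace Groth.Agent.Lib.DPPoly75

open MvPolynomial

noncomputable section

variable {σ : Type*} {T : Type*} [CommRing T] [Algebra ℚ T] (S₀ : Subring T)

/-- product of the factorials of the exponents -/
def fac (e : σ →₀ ℕ) : ℕ := e.prod fun _ k => k.factorial

lemma fac_pos (e : σ →₀ ℕ) : 0 < fac e := Finset.prod_pos (fun _ _ => Nat.factorial_pos _)

lemma fac_zero : fac (0 : σ →₀ ℕ) = 1 := by simp [fac]

lemma fac_single (i : σ) (n : ℕ) : fac (Finsupp.single i n) = n.factorial := by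
  rw [fac, Finsupp.prod_single_index rfl]

lemma fac_eq_prod (e : σ →₀ ℕ) (s : Finset σ) (hs : e.support ⊆ s) :
    fac e = ∏ i ∈ s, (e i).factorial :=
  Finsupp.prod_of_support_subset _ hs _ (fun _ _ => rfl)

lemma fac_mul_dvd (a b : σ →₀ ℕ) : fac a * fac b ∣ fac (a + b) := by
  classical
  set s := a.support ∪ b.support
  rw [fac_eq_prod a s Finset.subset_union_left, fac_eq_prod b s Finset.subset_union_right,
    fac_eq_prod (a + b) s Finsupp.support_add, ← Finset.prod_mul_distrib]
  exact Finset.prod_dvd_prod_of_dvd _ _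
    (fun i _ => Nat.factorial_mul_factorial_dvd_factorial_add _ _)

/-- the inverse of `fac e` in `T` -/
def ifac (e : σ →₀ ℕ) : T := algebraMap ℚ T ((fac e : ℚ)⁻¹)

lemma fac_mul_ifac (e : σ →₀ ℕ) : (fac e : T) * ifac e = 1 := by
  have h : ((fac e : ℕ) : T) = algebraMap ℚ T (fac e : ℚ) := by simp
  rw [ifac, h, ← map_mul, mul_inv_cancel₀, map_one]
  exact_mod_cast (fac_pos e).ne'

variable (σ) in
/-- the model of the divided power polynomial algebra over `S₀` -/
def model : Subalgebra S₀ (MvPolynomial σ T) where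
  carrier := {q | ∀ e, (fac e : T) * coeff e q ∈ S₀}
  mul_mem' := by
    classical
    intro p q hp hq e
    change ∀ e, _ ∈ S₀ at hp hq
    show _ ∈ S₀
    rw [coeff_mul, Finset.mul_sum]
    refine S₀.sum_mem (fun x hx => ?_)
    rw [Finset.HasAntidiagonal.mem_antidiagonal] at hx
    obtain ⟨d, hd⟩ := fac_mul_dvd x.1 x.2
    rw [hx] at hd
    have : (fac e : T) * (coeff x.1 p * coeff x.2 q) =
        (d : T) * ((fac x.1 : T) * coeff x.1 p) * ((fac x.2 : T) * coeff x.2 q) := by
      rw [hd]; push_cast; ring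
    rw [this]
    exact S₀.mul_mem (S₀.mul_mem (natCast_mem S₀ d) (hp _)) (hq _)
  add_mem' := by
    intro p q hp hq e
    change ∀ e, _ ∈ S₀ at hp hq
    show _ ∈ S₀
    rw [coeff_add, mul_add]
    exact S₀.add_mem (hp e) (hq e)
  algebraMap_mem' := by
    classical
    intro s e
    show _ ∈ S₀
    rw [show algebraMap S₀ (MvPolynomial σ T) s = C (s : T) from rfl, coeff_C]
    split_ifs with h
    · subst h; simp [fac_zero]
    · simp

lemma mem_model {q : MvPolynomial σ T} : q ∈ model σ S₀ ↔ ∀ e, (fac e : T) * coeff e q ∈ S₀ :=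
  Iff.rfl

/-- divided monomial `X^e / e!` as a polynomial -/
def mon (e : σ →₀ ℕ) : MvPolynomial σ T := monomial e (ifac e)

lemma mon_mem (e : σ →₀ ℕ) : (mon e : MvPolynomial σ T) ∈ model σ S₀ := by
  classical
  intro e'
  rw [mon, coeff_monomial]
  split_ifs with h
  · subst h; rw [fac_mul_ifac]; exact S₀.one_mem
  · rw [mul_zero]; exact S₀.zero_mem

/-- the divided monomials as elements of the model -/
def bS (e : σ →₀ ℕ) : model σ S₀ := ⟨mon e, mon_mem S₀ e⟩

/-- the divided powers `X_i^n / n!` of the variables -/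
def xS (i : σ) (n : ℕ) : model σ S₀ := bS S₀ (Finsupp.single i n)

lemma ifac_add_mul (a b : σ →₀ ℕ) (d : ℕ) (hd : fac (a + b) = fac a * fac b * d) :
    (ifac a : T) * ifac b = (d : T) * ifac (a + b) := by
  have h1 := fac_mul_ifac (T := T) a
  have h2 := fac_mul_ifac (T := T) b
  have h3 := fac_mul_ifac (T := T) (a + b)
  rw [hd] at h3
  push_cast at h3
  calc (ifac a : T) * ifac b
      = (ifac a * ifac b) * ((fac a : T) * (fac b : T) * (d : T) * ifac (a + b)) := by
        rw [h3, mul_one]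
    _ = ((fac a : T) * ifac a) * ((fac b : T) * ifac b) * ((d : T) * ifac (a + b)) := by ring
    _ = _ := by rw [h1, h2, one_mul, one_mul]

lemma mon_mul (a b : σ →₀ ℕ) (d : ℕ) (hd : fac (a + b) = fac a * fac b * d) :
    (mon a : MvPolynomial σ T) * mon b = (d : MvPolynomial σ T) * mon (a + b) := by
  rw [mon, mon, mon, monomial_mul, ifac_add_mul a b d hd, ← C_mul_monomial, map_natCast]

lemma xS_zero (i : σ) : xS S₀ i 0 = 1 := by
  apply Subtype.ext
  show mon (Finsupp.single i 0) = (1 : MvPolynomial σ T)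
  rw [Finsupp.single_zero, mon]
  have : (ifac (0 : σ →₀ ℕ) : T) = 1 := by
    have := fac_mul_ifac (T := T) (0 : σ →₀ ℕ)
    rwa [fac_zero, Nat.cast_one, one_mul] at this
  rw [this]; rfl

lemma xS_mul (i : σ) (n m : ℕ) :
    xS S₀ i n * xS S₀ i m = ((n + m).choose n : model σ S₀) * xS S₀ i (n + m) := by
  apply Subtype.ext
  show mon (Finsupp.single i n) * mon (Finsupp.single i m)
    = (((n + m).choose n : model σ S₀) : MvPolynomial σ T) * mon (Finsupp.single i (n + m))
  rw [Finsupp.single_add, mon_mul _ _ ((n + m).choose n)]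
  · simp
  · rw [← Finsupp.single_add, fac_single, fac_single, fac_single]
    have := Nat.add_choose_mul_factorial_mul_factorial n m
    rw [← Nat.choose_symm_add] at this
    rw [← this]; ring

lemma ifac_eq_prod (e : σ →₀ ℕ) :
    (ifac e : T) = e.prod (fun i k => ifac (Finsupp.single i k)) := by
  simp only [ifac, fac_single]
  rw [Finsupp.prod, ← map_prod, Finset.prod_inv_distrib, fac, Finsupp.prod, Nat.cast_prod]

lemma mon_eq_prod (e : σ →₀ ℕ) :
    (mon e : MvPolynomial σ T) = e.prod (fun i k => mon (Finsupp.single i k)) := by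
  have h1 : ∀ (i : σ) (k : ℕ), (mon (Finsupp.single i k) : MvPolynomial σ T)
      = C (ifac (Finsupp.single i k)) * X i ^ k := by
    intro i k; rw [mon, C_mul_X_pow_eq_monomial]
  simp only [h1]
  rw [Finsupp.prod_mul, mon, monomial_eq, ifac_eq_prod e, map_finsuppProd]

lemma bS_eq_prod (e : σ →₀ ℕ) : bS S₀ e = e.prod (fun i k => xS S₀ i k) := by
  apply Subtype.ext
  show mon e = (((e.prod (fun i k => xS S₀ i k)) : model σ S₀) : MvPolynomial σ T)
  rw [mon_eq_prod, Finsupp.prod, Finsupp.prod, SubmonoidClass.coe_finsetProd]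
  rfl

/-- the coordinate functionals `q ↦ e! · coeff_e q` with values in `S₀` -/
def coord (e : σ →₀ ℕ) (q : model σ S₀) : S₀ := ⟨(fac e : T) * coeff e q.1, q.2 e⟩

lemma coe_smul_bS (s : S₀) (e : σ →₀ ℕ) :
    ((s • bS S₀ e : model σ S₀) : MvPolynomial σ T) = monomial e ((s : T) * ifac e) := by
  show (s : T) • mon e = _
  rw [mon, smul_monomial, smul_eq_mul]

lemma coe_lc (l : (σ →₀ ℕ) →₀ S₀) :
    ((Finsupp.linearCombination S₀ (bS S₀) l : model σ S₀) : MvPolynomial σ T)
      = ∑ e ∈ l.support, monomial e ((l e : T) * ifac e) := by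
  rw [Finsupp.linearCombination_apply, Finsupp.sum, AddSubmonoidClass.coe_finsetSum]
  exact Finset.sum_congr rfl (fun e _ => coe_smul_bS S₀ _ e)

lemma coeff_lc (l : (σ →₀ ℕ) →₀ S₀) (e : σ →₀ ℕ) :
    coeff e ((Finsupp.linearCombination S₀ (bS S₀) l : model σ S₀) : MvPolynomial σ T)
      = (l e : T) * ifac e := by
  classical
  rw [coe_lc, coeff_sum]
  simp only [coeff_monomial]
  rw [Finset.sum_ite_eq']
  split_ifs with h
  · rfl
  · rw [Finsupp.notMem_support_iff.mp h]; simp

lemma bS_linearIndependent : LinearIndependent S₀ (bS (σ := σ) S₀) := by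
  rw [linearIndependent_iff]
  intro l hl
  ext e
  have h := coeff_lc S₀ l e
  rw [hl] at h
  have h2 : (l e : T) = (l e : T) * ((fac e : T) * ifac e) := by rw [fac_mul_ifac, mul_one]
  rw [h2, mul_comm (fac e : T), ← mul_assoc, ← h]
  simp

lemma bS_span : ⊤ ≤ Submodule.span S₀ (Set.range (bS (σ := σ) S₀)) := by
  rintro q -
  have hq : q = ∑ e ∈ q.1.support, coord S₀ e q • bS S₀ e := by
    apply Subtype.ext
    rw [AddSubmonoidClass.coe_finsetSum]
    conv_lhs => rw [← MvPolynomial.support_sum_monomial_coeff q.1]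
    refine Finset.sum_congr rfl (fun e _ => ?_)
    rw [coe_smul_bS]
    show _ = monomial e ((fac e : T) * coeff e q.1 * ifac e)
    rw [mul_comm (fac e : T), mul_assoc, fac_mul_ifac, mul_one]
  rw [hq]
  exact Submodule.sum_mem _ (fun e _ => Submodule.smul_mem _ _ (Submodule.subset_span ⟨e, rfl⟩))

/-- the basis of divided monomials -/
def basisS : Module.Basis (σ →₀ ℕ) S₀ (model σ S₀) :=
  Module.Basis.mk (bS_linearIndependent S₀) (bS_span S₀)

lemma basisS_apply (e : σ →₀ ℕ) : basisS S₀ e = bS S₀ e := by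
  rw [basisS, Module.Basis.mk_apply]

lemma basisS_eq_prod (e : σ →₀ ℕ) : basisS S₀ e = e.prod (fun i k => xS S₀ i k) := by
  rw [basisS_apply, bS_eq_prod]

/-- the augmentation ideal of the model -/
def augS : Ideal (model σ S₀) := Ideal.span {y | ∃ (i : σ) (n : ℕ), 1 ≤ n ∧ y = xS S₀ i n}

/-- the inclusion of the model in the polynomial ring -/
def incl : model σ S₀ →+* MvPolynomial σ T := (model σ S₀).val.toRingHom

lemma incl_apply (y : model σ S₀) : incl S₀ y = (y : MvPolynomial σ T) := rfl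

lemma incl_injective : Function.Injective (incl (σ := σ) S₀) := Subtype.val_injective

/-- the ideal generated by the augmentation ideal in the ambient polynomial ring -/
def augT : Ideal (MvPolynomial σ T) := (augS (σ := σ) S₀).map (incl S₀)

open Classical in
/-- the divided powers `x ↦ x^n / n!` of the ambient ideal -/
def gammaT : DividedPowers (augT (σ := σ) S₀) := DividedPowers.RatAlgebra.dividedPowers _

lemma gammaT_apply {n : ℕ} {q : MvPolynomial σ T} (hq : q ∈ augT S₀) :
    (gammaT S₀).dpow n q = ((n.factorial : ℚ)⁻¹) • q ^ n := by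
  rw [DividedPowers.RatAlgebra.dpow_eq_inv_fact_smul _ _ hq, Ring.inverse_eq_inv']

lemma incl_mem_augT {x : model σ S₀} (hx : x ∈ augS S₀) : incl S₀ x ∈ augT S₀ :=
  Ideal.mem_map_of_mem _ hx

lemma xS_mem_augS (i : σ) {n : ℕ} (hn : 1 ≤ n) : xS S₀ i n ∈ augS S₀ :=
  Ideal.subset_span ⟨i, n, hn, rfl⟩

lemma gammaT_xS (i : σ) (n : ℕ) {m : ℕ} (hm : 1 ≤ m) :
    (gammaT S₀).dpow n (incl S₀ (xS S₀ i m))
      = incl S₀ ((Nat.uniformBell n m : model σ S₀) * xS S₀ i (n * m)) := by
  rw [gammaT_apply S₀ (incl_mem_augT S₀ (xS_mem_augS S₀ i hm)), map_mul, map_natCast]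
  show ((n.factorial : ℚ)⁻¹) • (mon (Finsupp.single i m)) ^ n
    = (Nat.uniformBell n m : MvPolynomial σ T) * mon (Finsupp.single i (n * m))
  rw [mon, mon, monomial_pow, smul_monomial, ← map_natCast (C (σ := σ) (R := T)), C_mul_monomial,
    Finsupp.smul_single, smul_eq_mul]
  congr 1
  rw [ifac, ifac, fac_single, fac_single, ← map_pow, Algebra.smul_def, ← map_mul,
    ← map_natCast (algebraMap ℚ T), ← map_mul]
  congr 1
  have h := Nat.uniformBell_mul_eq n (n := m) (by omega)
  have h' : ((Nat.uniformBell n m : ℕ) : ℚ) * (m.factorial : ℚ) ^ n * (n.factorial : ℚ)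
      = ((n * m).factorial : ℚ) := by exact_mod_cast h
  have hm0 : (m.factorial : ℚ) ≠ 0 := by exact_mod_cast Nat.factorial_ne_zero m
  have hn0 : (n.factorial : ℚ) ≠ 0 := by exact_mod_cast Nat.factorial_ne_zero n
  have hu0 : ((Nat.uniformBell n m : ℕ) : ℚ) ≠ 0 := by
    intro h0
    rw [h0, zero_mul, zero_mul] at h'
    exact (by exact_mod_cast Nat.factorial_ne_zero (n * m) : ((n * m).factorial : ℚ) ≠ 0) h'.symm
  rw [← h']
  field_simp
  rw [← mul_pow, one_div, inv_mul_cancel₀ hm0, one_pow]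

/-- the divided powers of the ambient ring preserve the model -/
lemma gammaT_mem {x : model σ S₀} (hx : x ∈ augS S₀) :
    ∀ n : ℕ, ∃ y : model σ S₀, (n ≠ 0 → y ∈ augS S₀) ∧
      incl S₀ y = (gammaT S₀).dpow n (incl S₀ x) := by
  classical
  induction hx using Submodule.span_induction with
  | mem x hx =>
    obtain ⟨i, m, hm, rfl⟩ := hx
    intro n
    refine ⟨(Nat.uniformBell n m : model σ S₀) * xS S₀ i (n * m), fun hn => ?_,
      (gammaT_xS S₀ i n hm).symm⟩
    refine Ideal.mul_mem_left _ _ (xS_mem_augS S₀ i ?_)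
    exact Nat.mul_pos (Nat.pos_of_ne_zero hn) hm
  | zero =>
    intro n
    by_cases hn : n = 0
    · subst hn
      exact ⟨1, fun h => absurd rfl h, by
        rw [map_zero, (gammaT S₀).dpow_zero (Ideal.zero_mem _), map_one]⟩
    · exact ⟨0, fun _ => Ideal.zero_mem _, by
        rw [map_zero, (gammaT S₀).dpow_eval_zero hn]⟩
  | add x x' hx hx' ihx ihx' =>
    intro n
    choose y hy hy2 using ihx
    choose y' hy' hy2' using ihx'
    refine ⟨∑ k ∈ Finset.HasAntidiagonal.antidiagonal n, y k.1 * y' k.2, fun hn => ?_, ?_⟩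
    · refine Ideal.sum_mem _ (fun k hk => ?_)
      rw [Finset.HasAntidiagonal.mem_antidiagonal] at hk
      by_cases h1 : k.1 = 0
      · have h2 : k.2 ≠ 0 := by omega
        exact Ideal.mul_mem_left _ _ (hy' _ h2)
      · exact Ideal.mul_mem_right _ _ (hy _ h1)
    · rw [map_add, (gammaT S₀).dpow_add (incl_mem_augT S₀ hx) (incl_mem_augT S₀ hx'), map_sum]
      refine Finset.sum_congr rfl (fun k _ => ?_)
      rw [map_mul, hy2, hy2']
  | smul a x hx ihx =>
    intro n
    obtain ⟨y, hy, hy2⟩ := ihx n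
    refine ⟨a ^ n * y, fun hn => Ideal.mul_mem_left _ _ (hy hn), ?_⟩
    rw [smul_eq_mul, map_mul, map_mul, map_pow, hy2,
      (gammaT S₀).dpow_mul (incl_mem_augT S₀ hx)]

/-- the divided power structure on the augmentation ideal of the model -/
def gammaS : DividedPowers (augS (σ := σ) S₀) :=
  DividedPowers.ofInjective (augS S₀) (augT S₀) (incl S₀) (incl_injective S₀) (gammaT S₀) rfl
    (fun n _ hx => by
      obtain ⟨y, hy, hy2⟩ := gammaT_mem S₀ hx n
      exact ⟨y, hy, hy2⟩)

lemma incl_gammaS {n : ℕ} {x : model σ S₀} (hx : x ∈ augS S₀) :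
    incl S₀ ((gammaS S₀).dpow n x) = (gammaT S₀).dpow n (incl S₀ x) := by
  simp only [gammaS, DividedPowers.ofInjective, dif_pos hx]
  exact (Exists.choose_spec (_ : ∃ a, ∃ _, incl S₀ a = _)).2

lemma gammaS_xS (i : σ) (n : ℕ) : (gammaS S₀).dpow n (xS S₀ i 1) = xS S₀ i n := by
  apply incl_injective S₀
  rw [incl_gammaS S₀ (xS_mem_augS S₀ i le_rfl), gammaT_xS S₀ i n le_rfl, mul_one,
    Nat.uniformBell_one_right, Nat.cast_one, one_mul]

end

/-! ## Abstract presentations -/

section Pres

variable {σ : Type*} {R : Type*} [CommRing R] {P : Type*} [CommRing P] [Algebra R P]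
  (x : σ → ℕ → P) (hx0 : ∀ i, x i 0 = 1)
  (hxmul : ∀ i n m, x i n * x i m = ((n + m).choose n : P) * x i (n + m))
  (b : Module.Basis (σ →₀ ℕ) R P) (hb : ∀ e : σ →₀ ℕ, b e = e.prod (fun i k => x i k))

open Classical in
/-- structure constants of a divided power polynomial algebra -/
noncomputable def cc (e e' : σ →₀ ℕ) : ℕ := ∏ i ∈ e.support ∪ e'.support, (e i + e' i).choose (e i)

lemma cc_zero : cc (0 : σ →₀ ℕ) 0 = 1 := by simp [cc]

include hx0 hb in
lemma b_eq_prod (e : σ →₀ ℕ) (s : Finset σ) (hs : e.support ⊆ s) : b e = ∏ i ∈ s, x i (e i) := by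
  rw [hb]
  exact Finsupp.prod_of_support_subset _ hs _ (fun i _ => hx0 i)

include hx0 hb in
lemma b_zero : b 0 = 1 := by rw [hb, Finsupp.prod_zero_index]

include hx0 hb in
lemma b_single (i : σ) (n : ℕ) : b (Finsupp.single i n) = x i n := by
  rw [hb, Finsupp.prod_single_index (hx0 i)]

include hx0 hxmul hb in
lemma b_mul (e e' : σ →₀ ℕ) : b e * b e' = (cc e e') • b (e + e') := by
  classical
  rw [b_eq_prod x hx0 b hb e _ Finset.subset_union_left,
    b_eq_prod x hx0 b hb e' _ Finset.subset_union_right,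
    b_eq_prod x hx0 b hb (e + e') _ Finsupp.support_add, ← Finset.prod_mul_distrib, cc,
    nsmul_eq_mul, Nat.cast_prod, ← Finset.prod_mul_distrib]
  exact Finset.prod_congr rfl (fun i _ => hxmul i _ _)

/-- the augmentation -/
noncomputable def eps : P →ₗ[R] R := b.coord 0

lemma eps_b (e : σ →₀ ℕ) [Decidable (e = 0)] : eps b (b e) = if e = 0 then 1 else 0 := by
  rw [eps, Module.Basis.coord_apply, Module.Basis.repr_self, Finsupp.single_apply]

include hx0 hxmul hb in
lemma eps_mul (p q : P) : eps b (p * q) = eps b p * eps b q := by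
  classical
  have key : (LinearMap.mul R P).compr₂ (eps b) = (LinearMap.mul R R).compl₁₂ (eps b) (eps b) := by
    refine b.ext (fun e => b.ext (fun e' => ?_))
    simp only [LinearMap.compr₂_apply, LinearMap.mul_apply', LinearMap.compl₁₂_apply]
    rw [b_mul x hx0 hxmul b hb, map_nsmul, eps_b, eps_b, eps_b]
    by_cases h : e = 0
    · by_cases h' : e' = 0
      · subst h h'; simp [cc_zero]
      · subst h; simp [h']
    · have : e + e' ≠ 0 := by
        intro h0
        apply h
        ext i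
        have := DFunLike.congr_fun h0 i
        simp only [Finsupp.coe_add, Pi.add_apply, Finsupp.coe_zero, Pi.zero_apply] at this ⊢
        omega
      simp [h, this]
  have := LinearMap.congr_fun (LinearMap.congr_fun key p) q
  simpa using this

/-- the augmentation ideal -/
def aug : Ideal P := Ideal.span {y : P | ∃ (i : σ) (n : ℕ), 1 ≤ n ∧ y = x i n}

include hx0 hxmul hb in
lemma eps_eq_zero_of_mem_aug {q : P} (hq : q ∈ aug x) : eps b q = 0 := by
  classical
  induction hq using Submodule.span_induction with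
  | mem y hy =>
    obtain ⟨i, n, hn, rfl⟩ := hy
    rw [← b_single x hx0 b hb, eps_b, if_neg]
    intro h
    have := DFunLike.congr_fun h i
    simp at this
    omega
  | zero => exact map_zero _
  | add y z _ _ hy hz => rw [map_add, hy, hz, add_zero]
  | smul a y _ hy => rw [smul_eq_mul, eps_mul x hx0 hxmul b hb, hy, mul_zero]

include hx0 hb in
lemma b_mem_aug {e : σ →₀ ℕ} (he : e ≠ 0) : b e ∈ aug x := by
  obtain ⟨i, hi⟩ : ∃ i, e i ≠ 0 := by
    by_contra h
    push Not at h
    exact he (Finsupp.ext h)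
  rw [hb, Finsupp.prod]
  exact Ideal.prod_mem _ (Finsupp.mem_support_iff.mpr hi)
    (Ideal.subset_span ⟨i, e i, Nat.one_le_iff_ne_zero.mpr hi, rfl⟩)

end Pres

/-! ## Descent of the divided power structure along a surjection of base rings -/

section Descent

variable {σ : Type*} {S : Type*} [CommRing S] {PS : Type*} [CommRing PS] [Algebra S PS]
  (xS : σ → ℕ → PS) (hx0S : ∀ i, xS i 0 = 1)
  (hxmulS : ∀ i n m, xS i n * xS i m = ((n + m).choose n : PS) * xS i (n + m))
  (bS : Module.Basis (σ →₀ ℕ) S PS) (hbS : ∀ e : σ →₀ ℕ, bS e = e.prod (fun i k => xS i k))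
  {R : Type*} [CommRing R] {P : Type*} [CommRing P] [Algebra R P]
  (x : σ → ℕ → P) (hx0 : ∀ i, x i 0 = 1)
  (hxmul : ∀ i n m, x i n * x i m = ((n + m).choose n : P) * x i (n + m))
  (b : Module.Basis (σ →₀ ℕ) R P) (hb : ∀ e : σ →₀ ℕ, b e = e.prod (fun i k => x i k))
  [Algebra S R] [Algebra S P] [IsScalarTower S R P]

/-- the comparison map, as a linear map -/
noncomputable def compL : PS →ₗ[S] P := bS.constr S (fun e => b e)

lemma compL_b (e : σ →₀ ℕ) : compL bS b (bS e) = b e := by
  rw [compL, Module.Basis.constr_basis]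

include hx0S hbS hx0 hb in
lemma compL_one : compL bS b 1 = 1 := by
  rw [← b_zero xS hx0S bS hbS, compL_b, b_zero x hx0 b hb]

include hx0S hxmulS hbS hx0 hxmul hb in
lemma compL_mul (p q : PS) : compL bS b (p * q) = compL bS b p * compL bS b q := by
  have key : (LinearMap.mul S PS).compr₂ (compL bS b) =
      (LinearMap.mul S P).compl₁₂ (compL bS b) (compL bS b) := by
    refine bS.ext (fun e => bS.ext (fun e' => ?_))
    simp only [LinearMap.compr₂_apply, LinearMap.mul_apply', LinearMap.compl₁₂_apply]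
    rw [b_mul xS hx0S hxmulS bS hbS, map_nsmul, compL_b, compL_b, compL_b,
      b_mul x hx0 hxmul b hb]
  have := LinearMap.congr_fun (LinearMap.congr_fun key p) q
  simpa using this

/-- the comparison map, as an algebra map -/
noncomputable def comp : PS →ₐ[S] P :=
  AlgHom.ofLinearMap (compL bS b) (compL_one xS hx0S bS hbS x hx0 b hb)
    (compL_mul xS hx0S hxmulS bS hbS x hx0 hxmul b hb)

lemma comp_b (e : σ →₀ ℕ) :
    comp xS hx0S hxmulS bS hbS x hx0 hxmul b hb (bS e) = b e := compL_b bS b e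

lemma comp_x (i : σ) (n : ℕ) :
    comp xS hx0S hxmulS bS hbS x hx0 hxmul b hb (xS i n) = x i n := by
  rw [← b_single xS hx0S bS hbS, comp_b, b_single x hx0 b hb]

lemma comp_surjective (hπ : Function.Surjective (algebraMap S R)) :
    Function.Surjective (comp xS hx0S hxmulS bS hbS x hx0 hxmul b hb) := by
  intro p
  rw [← b.linearCombination_repr p, Finsupp.linearCombination_apply, Finsupp.sum]
  choose r hr using hπ
  refine ⟨∑ e ∈ (b.repr p).support, r (b.repr p e) • bS e, ?_⟩
  rw [map_sum]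
  refine Finset.sum_congr rfl (fun e _ => ?_)
  rw [map_smul, comp_b, ← hr (b.repr p e), algebraMap_smul, hr]

lemma map_aug : (aug xS).map (comp xS hx0S hxmulS bS hbS x hx0 hxmul b hb).toRingHom = aug x := by
  rw [aug, aug, Ideal.map_span]
  congr 1
  ext y
  constructor
  · rintro ⟨_, ⟨i, n, hn, rfl⟩, rfl⟩
    exact ⟨i, n, hn, comp_x xS hx0S hxmulS bS hbS x hx0 hxmul b hb i n⟩
  · rintro ⟨i, n, hn, rfl⟩
    exact ⟨xS i n, ⟨i, n, hn, rfl⟩, comp_x xS hx0S hxmulS bS hbS x hx0 hxmul b hb i n⟩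

lemma repr_comp (q : PS) (e : σ →₀ ℕ) :
    b.repr (comp xS hx0S hxmulS bS hbS x hx0 hxmul b hb q) e = algebraMap S R (bS.repr q e) := by
  have key : (b.repr.toLinearMap.restrictScalars S).comp (compL bS b)
      = (Finsupp.mapRange.linearMap (Algebra.linearMap S R)).comp bS.repr.toLinearMap := by
    refine bS.ext (fun e' => ?_)
    simp [compL_b]
  have := DFunLike.congr_fun (LinearMap.congr_fun key q) e
  show b.repr (compL bS b q) e = _
  simpa using this

/-- the kernel of the comparison map, intersected with the augmentation ideal -/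
lemma ker_comp_inf_aug :
    RingHom.ker (comp xS hx0S hxmulS bS hbS x hx0 hxmul b hb).toRingHom ⊓ aug xS
      = Ideal.span {y | ∃ k ∈ RingHom.ker (algebraMap S R), ∃ z ∈ aug xS,
          y = algebraMap S PS k * z} := by
  classical
  apply le_antisymm
  · rintro q ⟨hq1, hq2⟩
    rw [← bS.linearCombination_repr q, Finsupp.linearCombination_apply, Finsupp.sum]
    refine Ideal.sum_mem _ (fun e _ => ?_)
    by_cases he : e = 0
    · subst he
      have := eps_eq_zero_of_mem_aug xS hx0S hxmulS bS hbS hq2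
      rw [eps, Module.Basis.coord_apply] at this
      rw [this, zero_smul]
      exact Ideal.zero_mem _
    · refine Ideal.subset_span ⟨bS.repr q e, ?_, bS e, b_mem_aug xS hx0S bS hbS he, ?_⟩
      · rw [RingHom.mem_ker, ← repr_comp xS hx0S hxmulS bS hbS x hx0 hxmul b hb]
        have : (comp xS hx0S hxmulS bS hbS x hx0 hxmul b hb) q = 0 := hq1
        rw [this]; simp
      · rw [Algebra.smul_def]
  · rw [Ideal.span_le]
    rintro _ ⟨k, hk, z, hz, rfl⟩
    refine ⟨?_, Ideal.mul_mem_left _ _ hz⟩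
    show (comp xS hx0S hxmulS bS hbS x hx0 hxmul b hb) (algebraMap S PS k * z) = 0
    rw [map_mul, AlgHom.commutes, IsScalarTower.algebraMap_apply S R P,
      (RingHom.mem_ker).mp hk, map_zero, zero_mul]

variable (γS : DividedPowers (aug xS))

lemma isSubDPIdeal_ker_comp :
    γS.IsSubDPIdeal
      (RingHom.ker (comp xS hx0S hxmulS bS hbS x hx0 hxmul b hb).toRingHom ⊓ aug xS) := by
  rw [ker_comp_inf_aug]
  rw [DividedPowers.span_isSubDPIdeal_iff]
  · rintro n hn _ ⟨k, hk, z, hz, rfl⟩
    rw [γS.dpow_mul hz, ← map_pow]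
    exact Ideal.subset_span ⟨k ^ n, Ideal.pow_mem_of_mem _ hk n (Nat.pos_of_ne_zero hn),
      γS.dpow n z, γS.dpow_mem hn hz, rfl⟩
  · rintro _ ⟨k, hk, z, hz, rfl⟩
    exact Ideal.mul_mem_left _ _ hz

/-- the descended divided power structure -/
noncomputable def descend (hπ : Function.Surjective (algebraMap S R)) : DividedPowers (aug x) :=
  DividedPowers.Quotient.OfSurjective.dividedPowers γS
    (comp_surjective xS hx0S hxmulS bS hbS x hx0 hxmul b hb hπ)
    (map_aug xS hx0S hxmulS bS hbS x hx0 hxmul b hb).symm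
    (isSubDPIdeal_ker_comp xS hx0S hxmulS bS hbS x hx0 hxmul b hb γS)

lemma descend_x (hπ : Function.Surjective (algebraMap S R))
    (hγS : ∀ i n, γS.dpow n (xS i 1) = xS i n) (i : σ) (n : ℕ) :
    (descend xS hx0S hxmulS bS hbS x hx0 hxmul b hb γS hπ).dpow n (x i 1) = x i n := by
  have h1 : x i 1 = (comp xS hx0S hxmulS bS hbS x hx0 hxmul b hb).toRingHom (xS i 1) :=
    (comp_x xS hx0S hxmulS bS hbS x hx0 hxmul b hb i 1).symm
  have h2 := DividedPowers.Quotient.OfSurjective.dpow_apply γS
    (comp_surjective xS hx0S hxmulS bS hbS x hx0 hxmul b hb hπ)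
    (map_aug xS hx0S hxmulS bS hbS x hx0 hxmul b hb).symm
    (isSubDPIdeal_ker_comp xS hx0S hxmulS bS hbS x hx0 hxmul b hb γS) (n := n) (a := xS i 1)
    (Ideal.subset_span ⟨i, 1, le_rfl, rfl⟩)
  rw [h1, descend, h2, hγS]
  exact comp_x xS hx0S hxmulS bS hbS x hx0 hxmul b hb i n

end Descent

/-! ## Existence and uniqueness -/

section Main

variable {σ : Type*} {R : Type*} [CommRing R] {P : Type*} [CommRing P] [Algebra R P]
  (x : σ → ℕ → P) (hx0 : ∀ i, x i 0 = 1)
  (hxmul : ∀ i n m, x i n * x i m = ((n + m).choose n : P) * x i (n + m))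
  (b : Module.Basis (σ →₀ ℕ) R P) (hb : ∀ e : σ →₀ ℕ, b e = e.prod (fun i k => x i k))

/-- the divided power structure of the model, on `aug` -/
noncomputable def gammaS' {T : Type*} [CommRing T] [Algebra ℚ T] (S₀ : Subring T) :
    DividedPowers (aug (xS (σ := σ) S₀)) := gammaS S₀

lemma gammaS'_xS {T : Type*} [CommRing T] [Algebra ℚ T] (S₀ : Subring T) (i : σ) (n : ℕ) :
    (gammaS' S₀).dpow n (xS S₀ i 1) = xS S₀ i n := gammaS_xS S₀ i n

include hx0 hxmul hb in
/-- existence, given a subring of a `ℚ`-algebra surjecting onto `R` -/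
theorem exists_dp_of_subring {T : Type*} [CommRing T] [Algebra ℚ T] (S₀ : Subring T)
    (π₀ : S₀ →+* R) (hπ₀ : Function.Surjective π₀) :
    ∃ γ : DividedPowers (aug x), ∀ (i : σ) (n : ℕ), γ.dpow n (x i 1) = x i n := by
  letI : Algebra S₀ R := π₀.toAlgebra
  letI : Algebra S₀ P := ((algebraMap R P).comp π₀).toAlgebra
  haveI : IsScalarTower S₀ R P := IsScalarTower.of_algebraMap_eq (fun _ => rfl)
  exact ⟨descend (xS S₀) (xS_zero S₀) (xS_mul S₀) (basisS S₀) (basisS_eq_prod S₀)
      x hx0 hxmul b hb (gammaS' S₀) hπ₀,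
    descend_x (xS S₀) (xS_zero S₀) (xS_mul S₀) (basisS S₀) (basisS_eq_prod S₀)
      x hx0 hxmul b hb (gammaS' S₀) hπ₀ (gammaS'_xS S₀)⟩

include hx0 hxmul hb in
/-- existence, given a subring of a `ℚ`-algebra surjecting onto `R` -/
theorem exists_dp_of_injective {S T : Type*} [CommRing S] [CommRing T] [Algebra ℚ T]
    (ι : S →+* T) (hι : Function.Injective ι) (π : S →+* R) (hπ : Function.Surjective π) :
    ∃ γ : DividedPowers (aug x), ∀ (i : σ) (n : ℕ), γ.dpow n (x i 1) = x i n := by
  obtain ⟨S₀, π₀, hπ₀⟩ : ∃ (S₀ : Subring T) (π₀ : S₀ →+* R), Function.Surjective π₀ := by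
    let eqv : S ≃+* ι.range :=
      RingEquiv.ofBijective ι.rangeRestrict
        ⟨fun a b h => hι (congrArg Subtype.val h), ι.rangeRestrict_surjective⟩
    refine ⟨ι.range, π.comp (eqv.symm : ι.range →+* S), ?_⟩
    intro r
    obtain ⟨s, rfl⟩ := hπ r
    exact ⟨eqv s, by simp⟩
  exact exists_dp_of_subring x hx0 hxmul b hb S₀ π₀ hπ₀

include hx0 hxmul hb in
/-- existence of the divided power structure on the augmentation ideal -/
theorem exists_dp : ∃ γ : DividedPowers (aug x), ∀ (i : σ) (n : ℕ), γ.dpow n (x i 1) = x i n := by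
  refine exists_dp_of_injective x hx0 hxmul b hb
    (MvPolynomial.map (Int.castRingHom ℚ) : MvPolynomial R ℤ →+* MvPolynomial R ℚ)
    (MvPolynomial.map_injective _ Int.cast_injective)
    (MvPolynomial.eval₂Hom (Int.castRingHom R) id) ?_
  intro r
  exact ⟨MvPolynomial.X r, by simp⟩

/-- uniqueness of the divided power structure -/
theorem dp_unique (γ γ' : DividedPowers (aug x))
    (hγ : ∀ (i : σ) (n : ℕ), γ.dpow n (x i 1) = x i n)
    (hγ' : ∀ (i : σ) (n : ℕ), γ'.dpow n (x i 1) = x i n) : γ' = γ := by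
  refine DividedPowers.dpow_eq_from_gens γ γ' rfl ?_
  rintro n _ ⟨i, m, hm, rfl⟩
  have h1 : x i 1 ∈ aug x := Ideal.subset_span ⟨i, 1, le_rfl, rfl⟩
  rw [← hγ i m, γ.dpow_comp (by omega) h1, hγ, hγ, ← hγ' i m, γ'.dpow_comp (by omega) h1, hγ']

end Main

end Groth.Agent.Lib.DPPoly75
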