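import Groth.Agent.Lib.DPPoly75

/-!
# Divided power polynomial algebras, continued

* `lift`: algebra maps out of a divided power polynomial algebra (given by an abstract presentation)
* `lift_isDPMorphism`: the universal property
* `deltaOne`: the divided power structure on `I₁ P + P_+` for the model over a torsion-free
  divided power ring `(S₁, I₁, γ₁)`
* `descend₂`: descent of such structures along surjective divided power morphisms of the base
-/

set_option autoImplicit false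
set_option linter.unusedSectionVars false

namespace Groth.Agent.Lib.DPPoly75

open MvPolynomial

/-! ## Maps out of a divided power polynomial algebra -/

section Lift

variable {σ : Type*} {S : Type*} [CommRing S] {PS : Type*} [CommRing PS] [Algebra S PS]
  (xS : σ → ℕ → PS) (hx0S : ∀ i, xS i 0 = 1)
  (hxmulS : ∀ i n m, xS i n * xS i m = ((n + m).choose n : PS) * xS i (n + m))
  (bS : Module.Basis (σ →₀ ℕ) S PS) (hbS : ∀ e : σ →₀ ℕ, bS e = e.prod (fun i k => xS i k))
  {P' : Type*} [CommRing P'] [Algebra S P'] (t : σ → ℕ → P') (ht0 : ∀ i, t i 0 = 1)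
  (htmul : ∀ i n m, t i n * t i m = ((n + m).choose n : P') * t i (n + m))

include ht0 htmul in
lemma fam_mul (e e' : σ →₀ ℕ) :
    e.prod (fun i k => t i k) * e'.prod (fun i k => t i k)
      = (cc e e') • (e + e').prod (fun i k => t i k) := by
  classical
  have h : ∀ (e : σ →₀ ℕ) (s : Finset σ), e.support ⊆ s →
      e.prod (fun i k => t i k) = ∏ i ∈ s, t i (e i) :=
    fun e s hs => Finsupp.prod_of_support_subset _ hs _ (fun i _ => ht0 i)
  rw [h e _ Finset.subset_union_left, h e' _ Finset.subset_union_right,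
    h (e + e') _ Finsupp.support_add, ← Finset.prod_mul_distrib, cc,
    nsmul_eq_mul, Nat.cast_prod, ← Finset.prod_mul_distrib]
  exact Finset.prod_congr rfl (fun i _ => htmul i _ _)

/-- the lift, as a linear map -/
noncomputable def liftL : PS →ₗ[S] P' := bS.constr S (fun e => e.prod (fun i k => t i k))

lemma liftL_b (e : σ →₀ ℕ) : liftL bS t (bS e) = e.prod (fun i k => t i k) := by
  rw [liftL, Module.Basis.constr_basis]

include hx0S hbS in
lemma liftL_one : liftL bS t 1 = 1 := by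
  rw [← b_zero xS hx0S bS hbS, liftL_b, Finsupp.prod_zero_index]

include hx0S hxmulS hbS ht0 htmul in
lemma liftL_mul (p q : PS) : liftL bS t (p * q) = liftL bS t p * liftL bS t q := by
  have key : (LinearMap.mul S PS).compr₂ (liftL bS t) =
      (LinearMap.mul S P').compl₁₂ (liftL bS t) (liftL bS t) := by
    refine bS.ext (fun e => bS.ext (fun e' => ?_))
    simp only [LinearMap.compr₂_apply, LinearMap.mul_apply', LinearMap.compl₁₂_apply]
    rw [b_mul xS hx0S hxmulS bS hbS, map_nsmul, liftL_b, liftL_b, liftL_b, fam_mul t ht0 htmul]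
  have := LinearMap.congr_fun (LinearMap.congr_fun key p) q
  simpa using this

/-- the algebra map out of a divided power polynomial algebra given by a family `t i n`
satisfying the relations of the divided powers of the variables -/
noncomputable def lift : PS →ₐ[S] P' :=
  AlgHom.ofLinearMap (liftL bS t) (liftL_one xS hx0S bS hbS t)
    (liftL_mul xS hx0S hxmulS bS hbS t ht0 htmul)

lemma lift_b (e : σ →₀ ℕ) :
    lift xS hx0S hxmulS bS hbS t ht0 htmul (bS e) = e.prod (fun i k => t i k) := liftL_b bS t e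

lemma lift_x (i : σ) (n : ℕ) : lift xS hx0S hxmulS bS hbS t ht0 htmul (xS i n) = t i n := by
  rw [← b_single xS hx0S bS hbS, lift_b, Finsupp.prod_single_index (ht0 i)]

end Lift

section LiftDP

variable {σ : Type*} {S : Type*} [CommRing S] {PS : Type*} [CommRing PS] [Algebra S PS]
  (xS : σ → ℕ → PS) (hx0S : ∀ i, xS i 0 = 1)
  (hxmulS : ∀ i n m, xS i n * xS i m = ((n + m).choose n : PS) * xS i (n + m))
  (bS : Module.Basis (σ →₀ ℕ) S PS) (hbS : ∀ e : σ →₀ ℕ, bS e = e.prod (fun i k => xS i k))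
  {P' : Type*} [CommRing P'] [Algebra S P'] {K : Ideal P'} (ε : DividedPowers K)
  (k : σ → P') (hk : ∀ i, k i ∈ K)

include hk in
lemma dpfam_zero (i : σ) : ε.dpow 0 (k i) = 1 := ε.dpow_zero (hk i)

include hk in
lemma dpfam_mul (i : σ) (n m : ℕ) :
    ε.dpow n (k i) * ε.dpow m (k i) = ((n + m).choose n : P') * ε.dpow (n + m) (k i) :=
  ε.mul_dpow (hk i)

/-- the divided power morphism out of a divided power polynomial algebra -/
noncomputable def liftDP : PS →ₐ[S] P' :=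
  lift xS hx0S hxmulS bS hbS (fun i n => ε.dpow n (k i)) (dpfam_zero ε k hk) (dpfam_mul ε k hk)

lemma liftDP_x (i : σ) (n : ℕ) :
    liftDP xS hx0S hxmulS bS hbS ε k hk (xS i n) = ε.dpow n (k i) :=
  lift_x xS hx0S hxmulS bS hbS _ _ _ i n

lemma liftDP_x_one (i : σ) : liftDP xS hx0S hxmulS bS hbS ε k hk (xS i 1) = k i := by
  rw [liftDP_x, ε.dpow_one (hk i)]

lemma liftDP_isDPMorphism (γS : DividedPowers (aug xS))
    (hγS : ∀ i n, γS.dpow n (xS i 1) = xS i n) :
    γS.IsDPMorphism ε (liftDP xS hx0S hxmulS bS hbS ε k hk).toRingHom := by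
  have hx1mem : ∀ i, xS i 1 ∈ aug xS := fun i => Ideal.subset_span ⟨i, 1, le_rfl, rfl⟩
  refine DividedPowers.IsDPMorphism.on_span γS ε rfl ?_ ?_
  · rintro _ ⟨i, n, hn, rfl⟩
    show liftDP xS hx0S hxmulS bS hbS ε k hk (xS i n) ∈ K
    rw [liftDP_x]
    exact ε.dpow_mem (by omega) (hk i)
  · rintro m _ ⟨i, n, hn, rfl⟩
    show liftDP xS hx0S hxmulS bS hbS ε k hk (γS.dpow m (xS i n)) =
      ε.dpow m (liftDP xS hx0S hxmulS bS hbS ε k hk (xS i n))
    rw [liftDP_x, ← hγS i n, γS.dpow_comp (by omega) (hx1mem i), ε.dpow_comp (by omega) (hk i),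
      hγS, map_mul, map_natCast, liftDP_x]

/-- uniqueness of divided power morphisms out of a divided power polynomial algebra -/
lemma liftDP_unique (γS : DividedPowers (aug xS))
    (hγS : ∀ i n, γS.dpow n (xS i 1) = xS i n) (φ' : PS →ₐ[S] P')
    (hdp : ∀ i n, φ' (γS.dpow n (xS i 1)) = ε.dpow n (φ' (xS i 1)))
    (hφ' : ∀ i, φ' (xS i 1) = k i) : φ' = liftDP xS hx0S hxmulS bS hbS ε k hk := by
  have hx' : ∀ i n, φ' (xS i n) = ε.dpow n (k i) := by
    intro i n
    rw [← hγS i n, hdp, hφ']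
  apply AlgHom.toLinearMap_injective
  refine bS.ext (fun e => ?_)
  show φ' (bS e) = liftDP xS hx0S hxmulS bS hbS ε k hk (bS e)
  rw [liftDP, lift_b, hbS, Finsupp.prod, map_prod, Finsupp.prod]
  exact Finset.prod_congr rfl (fun i _ => hx' i (e i))

end LiftDP

/-! ## Divided powers induced along an injection, checked on generators -/

section Gens

variable {A B : Type*} [CommRing A] [CommRing B] (f : A →+* B) (G : Set A)
  (hJ : DividedPowers ((Ideal.span G).map f))

lemma exists_preimage_dpow_of_gens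
    (hG : ∀ g ∈ G, ∀ n : ℕ, ∃ y : A, (n ≠ 0 → y ∈ Ideal.span G) ∧ f y = hJ.dpow n (f g))
    {x : A} (hx : x ∈ Ideal.span G) :
    ∀ n : ℕ, ∃ y : A, (n ≠ 0 → y ∈ Ideal.span G) ∧ f y = hJ.dpow n (f x) := by
  classical
  have hmem : ∀ {z : A}, z ∈ Ideal.span G → f z ∈ (Ideal.span G).map f :=
    fun hz => Ideal.mem_map_of_mem _ hz
  induction hx using Submodule.span_induction with
  | mem x hx => exact hG x hx
  | zero =>
    intro n
    by_cases hn : n = 0
    · subst hn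
      exact ⟨1, fun h => absurd rfl h, by
        rw [map_zero, hJ.dpow_zero (Ideal.zero_mem _), map_one]⟩
    · exact ⟨0, fun _ => Ideal.zero_mem _, by
        rw [map_zero, hJ.dpow_eval_zero hn]⟩
  | add x x' hx hx' ihx ihx' =>
    intro n
    choose y hy hy2 using ihx
    choose y' hy' hy2' using ihx'
    refine ⟨∑ k ∈ Finset.HasAntidiagonal.antidiagonal n, y k.1 * y' k.2, fun hn => ?_, ?_⟩
    · refine Ideal.sum_mem _ (fun k hk => ?_)
      rw [Finset.HasAntidiagonal.mem_antidiagonal] at hk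
      by_cases h1 : k.1 = 0
      · have h2 : k.2 ≠ 0 := by omega
        exact Ideal.mul_mem_left _ _ (hy' _ h2)
      · exact Ideal.mul_mem_right _ _ (hy _ h1)
    · rw [map_add, hJ.dpow_add (hmem hx) (hmem hx'), map_sum]
      refine Finset.sum_congr rfl (fun k _ => ?_)
      rw [map_mul, hy2, hy2']
  | smul a x hx ihx =>
    intro n
    obtain ⟨y, hy, hy2⟩ := ihx n
    refine ⟨a ^ n * y, fun hn => Ideal.mul_mem_left _ _ (hy hn), ?_⟩
    rw [smul_eq_mul, map_mul, map_mul, map_pow, hy2, hJ.dpow_mul (hmem hx)]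

/-- divided powers induced along an injection, when the generators have divided powers -/
noncomputable def ofInjectiveGens (hf : Function.Injective f)
    (hG : ∀ g ∈ G, ∀ n : ℕ, ∃ y : A, (n ≠ 0 → y ∈ Ideal.span G) ∧ f y = hJ.dpow n (f g)) :
    DividedPowers (Ideal.span G) :=
  DividedPowers.ofInjective (Ideal.span G) ((Ideal.span G).map f) f hf hJ rfl
    (fun n _ hx => by
      obtain ⟨y, hy, hy2⟩ := exists_preimage_dpow_of_gens f G hJ hG hx n
      exact ⟨y, hy, hy2⟩)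

lemma ofInjectiveGens_apply (hf : Function.Injective f)
    (hG : ∀ g ∈ G, ∀ n : ℕ, ∃ y : A, (n ≠ 0 → y ∈ Ideal.span G) ∧ f y = hJ.dpow n (f g))
    {n : ℕ} {x : A} (hx : x ∈ Ideal.span G) :
    f ((ofInjectiveGens f G hJ hf hG).dpow n x) = hJ.dpow n (f x) := by
  simp only [ofInjectiveGens, DividedPowers.ofInjective, dif_pos hx]
  exact (Exists.choose_spec (_ : ∃ a, ∃ _, f a = _)).2

end Gens

/-! ## The model over a torsion-free divided power ring -/

section TwoLevel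

variable {Λ : Type*} {T₁ : Type*} [CommRing T₁] [Algebra ℚ T₁] (S₁ : Subring T₁)
  (I₁ : Ideal S₁) (γ₁ : DividedPowers I₁)

/-- divided powers in a `ℚ`-algebra, of the divided monomials -/
lemma dpow_incl_xS {𝔞 : Ideal (MvPolynomial Λ T₁)} (h : DividedPowers 𝔞) (i : Λ) (n : ℕ) {m : ℕ}
    (hm : 1 ≤ m) (hmem : incl S₁ (xS S₁ i m) ∈ 𝔞) :
    h.dpow n (incl S₁ (xS S₁ i m))
      = incl S₁ ((Nat.uniformBell n m : model Λ S₁) * xS S₁ i (n * m)) := by
  rw [DividedPowers.RatAlgebra.dpow_eq_inv_fact_smul _ _ hmem, Ring.inverse_eq_inv', map_mul,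
    map_natCast]
  show ((n.factorial : ℚ)⁻¹) • (mon (Finsupp.single i m)) ^ n
    = (Nat.uniformBell n m : MvPolynomial Λ T₁) * mon (Finsupp.single i (n * m))
  rw [mon, mon, monomial_pow, smul_monomial, ← map_natCast (C (σ := Λ) (R := T₁)), C_mul_monomial,
    Finsupp.smul_single, smul_eq_mul]
  congr 1
  rw [ifac, ifac, fac_single, fac_single, ← map_pow, Algebra.smul_def, ← map_mul,
    ← map_natCast (algebraMap ℚ T₁), ← map_mul]
  congr 1
  have h := Nat.uniformBell_mul_eq n (n := m) (by omega)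
  have h' : ((Nat.uniformBell n m : ℕ) : ℚ) * (m.factorial : ℚ) ^ n * (n.factorial : ℚ)
      = ((n * m).factorial : ℚ) := by exact_mod_cast h
  have hm0 : (m.factorial : ℚ) ≠ 0 := by exact_mod_cast Nat.factorial_ne_zero m
  have hn0 : (n.factorial : ℚ) ≠ 0 := by exact_mod_cast Nat.factorial_ne_zero n
  have hu0 : ((Nat.uniformBell n m : ℕ) : ℚ) ≠ 0 := by
    intro h0
    rw [h0, zero_mul, zero_mul] at h'
    exact (by exact_mod_cast Nat.factorial_ne_zero (n * m) : ((n * m).factorial : ℚ) ≠ 0) h'.symm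
  rw [← h']
  field_simp
  rw [← mul_pow, one_div, inv_mul_cancel₀ hm0, one_pow]

/-- generators of the ideal `I₁ P + P_+` -/
noncomputable def gensJ : Set (model Λ S₁) :=
  (algebraMap S₁ (model Λ S₁)) '' I₁ ∪ {y | ∃ (i : Λ) (n : ℕ), 1 ≤ n ∧ y = xS S₁ i n}

variable (Λ) in
/-- the ideal `I₁ P + P_+` -/
noncomputable def bigJ : Ideal (model Λ S₁) := Ideal.span (gensJ (Λ := Λ) S₁ I₁)

lemma bigJ_eq : bigJ Λ S₁ I₁ = I₁.map (algebraMap S₁ (model Λ S₁)) ⊔ aug (xS S₁) := by
  rw [bigJ, gensJ, Ideal.span_union]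
  rfl

lemma smul_C' (q : ℚ) (t : T₁) : q • (C t : MvPolynomial Λ T₁) = C (q • t) := by
  show q • monomial 0 t = monomial 0 (q • t)
  exact smul_monomial q

lemma incl_algebraMap (y : S₁) : incl (σ := Λ) S₁ (algebraMap S₁ (model Λ S₁) y) = C (y : T₁) := rfl

include γ₁ in
lemma coe_dpow_eq {y : S₁} (hy : y ∈ I₁) (n : ℕ) :
    ((γ₁.dpow n y : S₁) : T₁) = ((n.factorial : ℚ)⁻¹) • (y : T₁) ^ n := by
  have h := γ₁.factorial_mul_dpow_eq_pow (n := n) hy
  have h2 : ((n.factorial : ℕ) : T₁) * ((γ₁.dpow n y : S₁) : T₁) = (y : T₁) ^ n := by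
    have := congrArg (Subtype.val) h
    simpa using this
  rw [← h2, Algebra.smul_def, ← mul_assoc]
  have h3 : ((n.factorial : ℕ) : T₁) = algebraMap ℚ T₁ (n.factorial : ℚ) := by simp
  rw [h3, ← map_mul, inv_mul_cancel₀ (by exact_mod_cast Nat.factorial_ne_zero n), map_one, one_mul]

open Classical in
/-- the divided powers of the ambient polynomial ring -/
noncomputable def bigT : DividedPowers ((bigJ Λ S₁ I₁).map (incl S₁)) :=
  DividedPowers.RatAlgebra.dividedPowers _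

include γ₁ in
lemma gensJ_dpow (g : model Λ S₁) (hg : g ∈ gensJ S₁ I₁) (n : ℕ) :
    ∃ y : model Λ S₁, (n ≠ 0 → y ∈ bigJ Λ S₁ I₁) ∧
      incl S₁ y = (bigT (Λ := Λ) S₁ I₁).dpow n (incl S₁ g) := by
  have hgJ : incl S₁ g ∈ (bigJ Λ S₁ I₁).map (incl S₁) :=
    Ideal.mem_map_of_mem _ (Ideal.subset_span hg)
  rcases hg with ⟨y, hy, rfl⟩ | ⟨i, m, hm, rfl⟩
  · refine ⟨algebraMap S₁ (model Λ S₁) (γ₁.dpow n y), fun hn => ?_, ?_⟩
    · exact Ideal.subset_span (Or.inl ⟨_, γ₁.dpow_mem hn hy, rfl⟩)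
    · rw [DividedPowers.RatAlgebra.dpow_eq_inv_fact_smul _ _ hgJ, Ring.inverse_eq_inv',
        incl_algebraMap, incl_algebraMap, coe_dpow_eq S₁ I₁ γ₁ hy, ← map_pow, smul_C']
  · refine ⟨(Nat.uniformBell n m : model Λ S₁) * xS S₁ i (n * m), fun hn => ?_,
      (dpow_incl_xS S₁ _ i n hm hgJ).symm⟩
    refine Ideal.mul_mem_left _ _ (Ideal.subset_span (Or.inr ⟨i, n * m, ?_, rfl⟩))
    exact Nat.mul_pos (Nat.pos_of_ne_zero hn) hm

/-- the divided power structure on `I₁ P + P_+`, for the model `P` over `(S₁, I₁, γ₁)` -/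
noncomputable def deltaOne : DividedPowers (bigJ Λ S₁ I₁) :=
  ofInjectiveGens (incl S₁) (gensJ S₁ I₁) (bigT S₁ I₁) (incl_injective S₁)
    (gensJ_dpow S₁ I₁ γ₁)

lemma incl_deltaOne {n : ℕ} {q : model Λ S₁} (hq : q ∈ bigJ Λ S₁ I₁) :
    incl S₁ ((deltaOne (Λ := Λ) S₁ I₁ γ₁).dpow n q) = (bigT S₁ I₁).dpow n (incl S₁ q) :=
  ofInjectiveGens_apply _ _ _ _ _ hq

lemma deltaOne_algebraMap {y : S₁} (hy : y ∈ I₁) (n : ℕ) :
    (deltaOne (Λ := Λ) S₁ I₁ γ₁).dpow n (algebraMap S₁ (model Λ S₁) y)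
      = algebraMap S₁ (model Λ S₁) (γ₁.dpow n y) := by
  have hg : algebraMap S₁ (model Λ S₁) y ∈ gensJ (Λ := Λ) S₁ I₁ := Or.inl ⟨y, hy, rfl⟩
  have hgJ : incl S₁ (algebraMap S₁ (model Λ S₁) y) ∈ (bigJ Λ S₁ I₁).map (incl S₁) :=
    Ideal.mem_map_of_mem _ (Ideal.subset_span hg)
  apply incl_injective S₁
  rw [incl_deltaOne S₁ I₁ γ₁ (Ideal.subset_span hg),
    DividedPowers.RatAlgebra.dpow_eq_inv_fact_smul _ _ hgJ, Ring.inverse_eq_inv',
    incl_algebraMap, incl_algebraMap, coe_dpow_eq S₁ I₁ γ₁ hy, ← map_pow, smul_C']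

lemma deltaOne_xS (i : Λ) (n : ℕ) {m : ℕ} (hm : 1 ≤ m) :
    (deltaOne (Λ := Λ) S₁ I₁ γ₁).dpow n (xS S₁ i m)
      = (Nat.uniformBell n m : model Λ S₁) * xS S₁ i (n * m) := by
  have hg : xS S₁ i m ∈ gensJ (Λ := Λ) S₁ I₁ := Or.inr ⟨i, m, hm, rfl⟩
  apply incl_injective S₁
  rw [incl_deltaOne S₁ I₁ γ₁ (Ideal.subset_span hg)]
  exact dpow_incl_xS S₁ _ i n hm (Ideal.mem_map_of_mem _ (Ideal.subset_span hg))

end TwoLevel

/-! ## Descent along a surjective divided power morphism of base rings -/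

section Descent₂

variable {σ : Type*} {S : Type*} [CommRing S] {PS : Type*} [CommRing PS] [Algebra S PS]
  (xS : σ → ℕ → PS) (hx0S : ∀ i, xS i 0 = 1)
  (hxmulS : ∀ i n m, xS i n * xS i m = ((n + m).choose n : PS) * xS i (n + m))
  (bS : Module.Basis (σ →₀ ℕ) S PS) (hbS : ∀ e : σ →₀ ℕ, bS e = e.prod (fun i k => xS i k))
  {R : Type*} [CommRing R] {P : Type*} [CommRing P] [Algebra R P]
  (x : σ → ℕ → P) (hx0 : ∀ i, x i 0 = 1)
  (hxmul : ∀ i n m, x i n * x i m = ((n + m).choose n : P) * x i (n + m))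
  (b : Module.Basis (σ →₀ ℕ) R P) (hb : ∀ e : σ →₀ ℕ, b e = e.prod (fun i k => x i k))
  [Algebra S R] [Algebra S P] [IsScalarTower S R P]
  {IS : Ideal S} (γS : DividedPowers IS) {I : Ideal R} (γ : DividedPowers I)

include hx0S hbS in
lemma eps_algebraMap (y : S) : eps bS (algebraMap S PS y) = y := by
  classical
  rw [Algebra.algebraMap_eq_smul_one, map_smul, ← b_zero xS hx0S bS hbS, eps_b, if_pos rfl,
    smul_eq_mul, mul_one]

include hx0S hxmulS hbS in
lemma eps_mem_of_mem_bigJ {q : PS} (hq : q ∈ IS.map (algebraMap S PS) ⊔ aug xS) :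
    eps bS q ∈ IS := by
  obtain ⟨u, hu, v, hv, rfl⟩ := Submodule.mem_sup.mp hq
  rw [map_add, eps_eq_zero_of_mem_aug xS hx0S hxmulS bS hbS hv, add_zero]
  clear hq
  change u ∈ Ideal.span _ at hu
  induction hu using Submodule.span_induction with
  | mem y hy =>
    obtain ⟨z, hz, rfl⟩ := hy
    rw [eps_algebraMap xS hx0S bS hbS]
    exact hz
  | zero => rw [map_zero]; exact IS.zero_mem
  | add y z _ _ hy hz => rw [map_add]; exact IS.add_mem hy hz
  | smul a y _ hy =>
    rw [smul_eq_mul, eps_mul xS hx0S hxmulS bS hbS]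
    exact IS.mul_mem_left _ hy

lemma map_bigJ (hIS : IS.map (algebraMap S R) = I) :
    (IS.map (algebraMap S PS) ⊔ aug xS).map
      (comp xS hx0S hxmulS bS hbS x hx0 hxmul b hb).toRingHom
      = I.map (algebraMap R P) ⊔ aug x := by
  rw [Ideal.map_sup, map_aug, Ideal.map_map, ← hIS, Ideal.map_map]
  congr 2
  ext y
  simp [IsScalarTower.algebraMap_apply S R P]

/-- the kernel of the comparison map, intersected with `I_S P_S + P_{S,+}` -/
lemma ker_comp_inf_bigJ :
    RingHom.ker (comp xS hx0S hxmulS bS hbS x hx0 hxmul b hb).toRingHom ⊓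
        (IS.map (algebraMap S PS) ⊔ aug xS)
      = Ideal.span ({y | ∃ k ∈ RingHom.ker (algebraMap S R) ⊓ IS, y = algebraMap S PS k} ∪
          {y | ∃ k ∈ RingHom.ker (algebraMap S R), ∃ z ∈ IS.map (algebraMap S PS) ⊔ aug xS,
            y = algebraMap S PS k * z}) := by
  classical
  apply le_antisymm
  · rintro q ⟨hq1, hq2⟩
    have hcoef : ∀ e, bS.repr q e ∈ RingHom.ker (algebraMap S R) := by
      intro e
      rw [RingHom.mem_ker, ← repr_comp xS hx0S hxmulS bS hbS x hx0 hxmul b hb]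
      have : (comp xS hx0S hxmulS bS hbS x hx0 hxmul b hb) q = 0 := hq1
      rw [this]; simp
    rw [← bS.linearCombination_repr q, Finsupp.linearCombination_apply, Finsupp.sum]
    refine Ideal.sum_mem _ (fun e _ => ?_)
    by_cases he : e = 0
    · subst he
      refine Ideal.subset_span (Or.inl ⟨bS.repr q 0, ⟨hcoef 0, ?_⟩, ?_⟩)
      · have := eps_mem_of_mem_bigJ xS hx0S hxmulS bS hbS hq2
        rwa [eps, Module.Basis.coord_apply] at this
      · rw [b_zero xS hx0S bS hbS, Algebra.algebraMap_eq_smul_one]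
    · refine Ideal.subset_span (Or.inr ⟨bS.repr q e, hcoef e, bS e, ?_, ?_⟩)
      · exact Ideal.mem_sup_right (b_mem_aug xS hx0S bS hbS he)
      · rw [Algebra.smul_def]
  · rw [Ideal.span_le]
    rintro _ (⟨k, ⟨hk1, hk2⟩, rfl⟩ | ⟨k, hk, z, hz, rfl⟩)
    · refine ⟨?_, Ideal.mem_sup_left (Ideal.mem_map_of_mem _ hk2)⟩
      show (comp xS hx0S hxmulS bS hbS x hx0 hxmul b hb) (algebraMap S PS k) = 0
      rw [AlgHom.commutes, IsScalarTower.algebraMap_apply S R P,
        (RingHom.mem_ker).mp hk1, map_zero]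
    · refine ⟨?_, Ideal.mul_mem_left _ _ hz⟩
      show (comp xS hx0S hxmulS bS hbS x hx0 hxmul b hb) (algebraMap S PS k * z) = 0
      rw [map_mul, AlgHom.commutes, IsScalarTower.algebraMap_apply S R P,
        (RingHom.mem_ker).mp hk, map_zero, zero_mul]

variable (δS : DividedPowers (IS.map (algebraMap S PS) ⊔ aug xS))

lemma isSubDPIdeal_ker_comp₂ (hφ : γS.IsDPMorphism γ (algebraMap S R))
    (hδS : ∀ y ∈ IS, ∀ n, δS.dpow n (algebraMap S PS y) = algebraMap S PS (γS.dpow n y)) :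
    δS.IsSubDPIdeal
      (RingHom.ker (comp xS hx0S hxmulS bS hbS x hx0 hxmul b hb).toRingHom ⊓
        (IS.map (algebraMap S PS) ⊔ aug xS)) := by
  rw [ker_comp_inf_bigJ]
  rw [DividedPowers.span_isSubDPIdeal_iff]
  · rintro n hn _ (⟨k, ⟨hk1, hk2⟩, rfl⟩ | ⟨k, hk, z, hz, rfl⟩)
    · rw [hδS k hk2]
      refine Ideal.subset_span (Or.inl ⟨γS.dpow n k, ⟨?_, γS.dpow_mem hn hk2⟩, rfl⟩)
      show γS.dpow n k ∈ RingHom.ker (algebraMap S R)
      have hk1' : k ∈ RingHom.ker (algebraMap S R) := hk1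
      rw [RingHom.mem_ker, hφ.map_dpow hk2, (RingHom.mem_ker).mp hk1', γ.dpow_eval_zero hn]
    · rw [δS.dpow_mul hz, ← map_pow]
      exact Ideal.subset_span (Or.inr ⟨k ^ n, Ideal.pow_mem_of_mem _ hk n (Nat.pos_of_ne_zero hn),
        δS.dpow n z, δS.dpow_mem hn hz, rfl⟩)
  · rintro _ (⟨k, ⟨hk1, hk2⟩, rfl⟩ | ⟨k, hk, z, hz, rfl⟩)
    · exact Ideal.mem_sup_left (Ideal.mem_map_of_mem _ hk2)
    · exact Ideal.mul_mem_left _ _ hz

/-- the descended divided power structure on `I P + P_+` -/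
noncomputable def descend₂ (hπ : Function.Surjective (algebraMap S R))
    (hφ : γS.IsDPMorphism γ (algebraMap S R)) (hIS : IS.map (algebraMap S R) = I)
    (hδS : ∀ y ∈ IS, ∀ n, δS.dpow n (algebraMap S PS y) = algebraMap S PS (γS.dpow n y)) :
    DividedPowers (I.map (algebraMap R P) ⊔ aug x) :=
  DividedPowers.Quotient.OfSurjective.dividedPowers δS
    (comp_surjective xS hx0S hxmulS bS hbS x hx0 hxmul b hb hπ)
    (map_bigJ xS hx0S hxmulS bS hbS x hx0 hxmul b hb hIS).symm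
    (isSubDPIdeal_ker_comp₂ xS hx0S hxmulS bS hbS x hx0 hxmul b hb γS γ δS hφ hδS)

lemma descend₂_apply (hπ : Function.Surjective (algebraMap S R))
    (hφ : γS.IsDPMorphism γ (algebraMap S R)) (hIS : IS.map (algebraMap S R) = I)
    (hδS : ∀ y ∈ IS, ∀ n, δS.dpow n (algebraMap S PS y) = algebraMap S PS (γS.dpow n y))
    {q : PS} (hq : q ∈ IS.map (algebraMap S PS) ⊔ aug xS) (n : ℕ) :
    (descend₂ xS hx0S hxmulS bS hbS x hx0 hxmul b hb γS γ δS hπ hφ hIS hδS).dpow n
        (comp xS hx0S hxmulS bS hbS x hx0 hxmul b hb q)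
      = comp xS hx0S hxmulS bS hbS x hx0 hxmul b hb (δS.dpow n q) :=
  DividedPowers.Quotient.OfSurjective.dpow_apply δS
    (comp_surjective xS hx0S hxmulS bS hbS x hx0 hxmul b hb hπ)
    (map_bigJ xS hx0S hxmulS bS hbS x hx0 hxmul b hb hIS).symm
    (isSubDPIdeal_ker_comp₂ xS hx0S hxmulS bS hbS x hx0 hxmul b hb γS γ δS hφ hδS) hq

lemma descend₂_algebraMap (hπ : Function.Surjective (algebraMap S R))
    (hφ : γS.IsDPMorphism γ (algebraMap S R)) (hIS : IS.map (algebraMap S R) = I)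
    (hδS : ∀ y ∈ IS, ∀ n, δS.dpow n (algebraMap S PS y) = algebraMap S PS (γS.dpow n y))
    {a : R} (ha : a ∈ I) (n : ℕ) :
    (descend₂ xS hx0S hxmulS bS hbS x hx0 hxmul b hb γS γ δS hπ hφ hIS hδS).dpow n
        (algebraMap R P a) = algebraMap R P (γ.dpow n a) := by
  rw [← hIS] at ha
  obtain ⟨y, hy, rfl⟩ := (Ideal.mem_map_iff_of_surjective _ hπ).mp ha
  have h1 : algebraMap R P (algebraMap S R y)
      = comp xS hx0S hxmulS bS hbS x hx0 hxmul b hb (algebraMap S PS y) := by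
    rw [AlgHom.commutes, IsScalarTower.algebraMap_apply S R P]
  rw [h1, descend₂_apply _ _ _ _ _ _ _ _ _ _ _ _ _ _ _ _ _
      (Ideal.mem_sup_left (Ideal.mem_map_of_mem _ hy)), hδS y hy, AlgHom.commutes,
    IsScalarTower.algebraMap_apply S R P, hφ.map_dpow hy]

lemma descend₂_x (hπ : Function.Surjective (algebraMap S R))
    (hφ : γS.IsDPMorphism γ (algebraMap S R)) (hIS : IS.map (algebraMap S R) = I)
    (hδS : ∀ y ∈ IS, ∀ n, δS.dpow n (algebraMap S PS y) = algebraMap S PS (γS.dpow n y))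
    (hδx : ∀ i n m, 1 ≤ m → δS.dpow n (xS i m) = (Nat.uniformBell n m : PS) * xS i (n * m))
    (i : σ) (n : ℕ) {m : ℕ} (hm : 1 ≤ m) :
    (descend₂ xS hx0S hxmulS bS hbS x hx0 hxmul b hb γS γ δS hπ hφ hIS hδS).dpow n (x i m)
      = (Nat.uniformBell n m : P) * x i (n * m) := by
  rw [← comp_x xS hx0S hxmulS bS hbS x hx0 hxmul b hb i m,
    descend₂_apply _ _ _ _ _ _ _ _ _ _ _ _ _ _ _ _ _
      (Ideal.mem_sup_right (Ideal.subset_span ⟨i, m, hm, rfl⟩)), hδx i n m hm, map_mul,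
    map_natCast, comp_x]

end Descent₂

/-! ## Every divided power ring is a quotient of a torsion-free one -/

section Cover

variable {R : Type*} [CommRing R] {I : Ideal R} (γ : DividedPowers I)
  {T₀ : Type*} [CommRing T₀] [Algebra ℚ T₀] (S₀ : Subring T₀) [Algebra S₀ R]

/-- the canonical divided power morphism from the model on the variables `a ∈ I` -/
noncomputable def coverHom : model ↥I S₀ →ₐ[S₀] R :=
  liftDP (xS S₀) (xS_zero S₀) (xS_mul S₀) (basisS S₀) (basisS_eq_prod S₀) γ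
    (fun a : ↥I => (a : R)) (fun a => a.2)

lemma coverHom_isDPMorphism : (gammaS' S₀).IsDPMorphism γ (coverHom γ S₀).toRingHom :=
  liftDP_isDPMorphism _ _ _ _ _ γ _ _ (gammaS' S₀) (gammaS'_xS S₀)

lemma coverHom_surjective (hπ : Function.Surjective (algebraMap S₀ R)) :
    Function.Surjective (coverHom γ S₀) := by
  intro r
  obtain ⟨s, rfl⟩ := hπ r
  exact ⟨algebraMap S₀ _ s, AlgHom.commutes _ s⟩

lemma map_coverHom : (aug (xS (σ := ↥I) S₀)).map (coverHom γ S₀).toRingHom = I := by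
  apply le_antisymm
  · exact (coverHom_isDPMorphism γ S₀).ideal_comp
  · intro a ha
    have h : a = (coverHom γ S₀).toRingHom (xS S₀ ⟨a, ha⟩ 1) :=
      (liftDP_x_one (xS S₀) (xS_zero S₀) (xS_mul S₀) (basisS S₀) (basisS_eq_prod S₀) γ
        (fun a : ↥I => (a : R)) (fun a => a.2) ⟨a, ha⟩).symm
    rw [h]
    exact Ideal.mem_map_of_mem _ (Ideal.subset_span ⟨_, 1, le_rfl, rfl⟩)

end Cover

/-- a subalgebra, as a ring, is its underlying subring -/
def toSubringEquiv {R₀ A : Type*} [CommRing R₀] [CommRing A] [Algebra R₀ A]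
    (M : Subalgebra R₀ A) : M ≃+* M.toSubring where
  toFun y := ⟨y.1, y.2⟩
  invFun y := ⟨y.1, y.2⟩
  left_inv _ := rfl
  right_inv _ := rfl
  map_mul' _ _ := rfl
  map_add' _ _ := rfl

section Transport

variable {A B R : Type*} [CommRing A] [CommRing B] [CommRing R] (e : A ≃+* B) {I : Ideal A}
  (hI : DividedPowers I) {J : Ideal R} (γ : DividedPowers J) (f : A →+* R)

lemma map_map_equiv_symm :
    (I.map e).map (f.comp (e.symm : B →+* A)) = I.map f := by
  apply le_antisymm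
  · rw [Ideal.map_le_iff_le_comap]
    intro b hb
    rw [Ideal.mem_comap]
    have hb' : e.symm b ∈ I := Ideal.symm_apply_mem_of_equiv_iff.mpr hb
    exact Ideal.mem_map_of_mem f hb'
  · rw [Ideal.map_le_iff_le_comap]
    intro a ha
    rw [Ideal.mem_comap]
    have : f a = (f.comp (e.symm : B →+* A)) (e a) := by simp
    rw [this]
    exact Ideal.mem_map_of_mem _ (Ideal.mem_map_of_mem _ ha)

lemma isDPMorphism_ofRingEquiv (hf : hI.IsDPMorphism γ f) :
    (DividedPowers.ofRingEquiv (e := e) (rfl : I.map e = I.map e) hI).IsDPMorphism γ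
      (f.comp (e.symm : B →+* A)) := by
  refine ⟨?_, ?_⟩
  · rw [map_map_equiv_symm]
    exact hf.ideal_comp
  · intro n b hb
    have hb' : e.symm b ∈ I := Ideal.symm_apply_mem_of_equiv_iff.mpr hb
    rw [DividedPowers.ofRingEquiv_dpow]
    simp only [RingHom.comp_apply, RingHom.coe_coe, RingEquiv.symm_apply_apply]
    exact hf.dpow_comp _ hb'

end Transport

/-- every divided power ring is the quotient, by a divided power morphism, of a divided power
ring contained in a `ℚ`-algebra -/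
theorem exists_cover {R : Type*} [CommRing R] {I : Ideal R} (γ : DividedPowers I)
    {T₀ : Type*} [CommRing T₀] [Algebra ℚ T₀] (S₀ : Subring T₀) (π₀ : S₀ →+* R)
    (hπ₀ : Function.Surjective π₀) :
    ∃ (S₁ : Subring (MvPolynomial ↥I T₀)) (I₁ : Ideal S₁) (γ₁ : DividedPowers I₁)
      (φ : S₁ →+* R), Function.Surjective φ ∧ γ₁.IsDPMorphism γ φ ∧ I₁.map φ = I := by
  letI : Algebra S₀ R := π₀.toAlgebra
  have hφM := coverHom_isDPMorphism γ S₀
  have hmap := map_coverHom γ S₀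
  have hsurj := coverHom_surjective γ S₀ hπ₀
  generalize coverHom γ S₀ = φM at hφM hmap hsurj
  generalize gammaS' (σ := ↥I) S₀ = γM at hφM
  generalize aug (xS (σ := ↥I) S₀) = IM at γM hφM hmap
  let e := toSubringEquiv (model ↥I S₀)
  refine ⟨(model ↥I S₀).toSubring, IM.map e,
    DividedPowers.ofRingEquiv rfl γM,
    φM.toRingHom.comp (e.symm : (model ↥I S₀).toSubring →+* model ↥I S₀), ?_,
    isDPMorphism_ofRingEquiv e γM γ _ hφM, ?_⟩
  · intro r
    obtain ⟨y, rfl⟩ := hsurj r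
    exact ⟨e y, by simp⟩
  · rw [map_map_equiv_symm, hmap]

/-! ## Existence of the divided power structure on `I P + P_+` -/

theorem exists_subring_surjective (R : Type*) [CommRing R] :
    ∃ (S₀ : Subring (MvPolynomial R ℚ)) (π₀ : S₀ →+* R), Function.Surjective π₀ := by
  let ι : MvPolynomial R ℤ →+* MvPolynomial R ℚ := MvPolynomial.map (Int.castRingHom ℚ)
  have hι : Function.Injective ι := MvPolynomial.map_injective _ Int.cast_injective
  let π : MvPolynomial R ℤ →+* R := MvPolynomial.eval₂Hom (Int.castRingHom R) id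
  have hπ : Function.Surjective π := fun r => ⟨MvPolynomial.X r, by simp [π]⟩
  let eqv : MvPolynomial R ℤ ≃+* ι.range :=
    RingEquiv.ofBijective ι.rangeRestrict
      ⟨fun a b h => hι (congrArg Subtype.val h), ι.rangeRestrict_surjective⟩
  refine ⟨ι.range, π.comp (eqv.symm : ι.range →+* MvPolynomial R ℤ), ?_⟩
  intro r
  obtain ⟨s, rfl⟩ := hπ r
  exact ⟨eqv s, by simp⟩

lemma dpow_cast {A : Type*} [CommRing A] {J J' : Ideal A} (h : J = J') (hJ : DividedPowers J) :
    (h ▸ hJ : DividedPowers J').dpow = hJ.dpow := by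
  subst h; rfl

/-- the model over a torsion-free divided power ring, packaged -/
theorem exists_model₂.{uΛ, uT} {Λ : Type uΛ} {T₁ : Type uT} [CommRing T₁] [Algebra ℚ T₁]
    (S₁ : Subring T₁) (I₁ : Ideal S₁) (γ₁ : DividedPowers I₁) :
    ∃ (PS : Type (max uΛ uT)) (_ : CommRing PS) (_ : Algebra S₁ PS) (xS' : Λ → ℕ → PS)
      (_ : ∀ i, xS' i 0 = 1)
      (_ : ∀ i n m, xS' i n * xS' i m = ((n + m).choose n : PS) * xS' i (n + m))
      (bS' : Module.Basis (Λ →₀ ℕ) S₁ PS) (_ : ∀ e : Λ →₀ ℕ, bS' e = e.prod (fun i k => xS' i k))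
      (δS : DividedPowers (I₁.map (algebraMap S₁ PS) ⊔ aug xS')),
      (∀ y ∈ I₁, ∀ n, δS.dpow n (algebraMap S₁ PS y) = algebraMap S₁ PS (γ₁.dpow n y)) ∧
      (∀ i n m, 1 ≤ m → δS.dpow n (xS' i m) = (Nat.uniformBell n m : PS) * xS' i (n * m)) := by
  have hδS : ((bigJ_eq S₁ I₁) ▸ deltaOne (Λ := Λ) S₁ I₁ γ₁ :
      DividedPowers (I₁.map (algebraMap S₁ (model Λ S₁)) ⊔ aug (xS (σ := Λ) S₁))).dpow
      = (deltaOne (Λ := Λ) S₁ I₁ γ₁).dpow := dpow_cast _ _
  refine ⟨model Λ S₁, inferInstance, inferInstance, xS S₁, xS_zero S₁, xS_mul S₁, basisS S₁,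
    basisS_eq_prod S₁, (bigJ_eq S₁ I₁) ▸ deltaOne (Λ := Λ) S₁ I₁ γ₁, ?_, ?_⟩
  · intro y hy n
    rw [hδS]
    exact deltaOne_algebraMap S₁ I₁ γ₁ hy n
  · intro i n m hm
    rw [hδS]
    exact deltaOne_xS S₁ I₁ γ₁ i n hm

section Main₂

variable {Λ : Type*} {R : Type*} [CommRing R] {I : Ideal R} (γ : DividedPowers I)
  {P : Type*} [CommRing P] [Algebra R P]
  (x : Λ → ℕ → P) (hx0 : ∀ i, x i 0 = 1)
  (hxmul : ∀ i n m, x i n * x i m = ((n + m).choose n : P) * x i (n + m))
  (b : Module.Basis (Λ →₀ ℕ) R P) (hb : ∀ e : Λ →₀ ℕ, b e = e.prod (fun i k => x i k))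

include hx0 hxmul hb in
/-- existence, given a cover of the base divided power ring -/
theorem exists_dp₂_of_cover {T₁ : Type*} [CommRing T₁] [Algebra ℚ T₁] (S₁ : Subring T₁)
    (I₁ : Ideal S₁) (γ₁ : DividedPowers I₁) [Algebra S₁ R] [Algebra S₁ P] [IsScalarTower S₁ R P]
    (hφsurj : Function.Surjective (algebraMap S₁ R))
    (hφdp : γ₁.IsDPMorphism γ (algebraMap S₁ R)) (hφmap : I₁.map (algebraMap S₁ R) = I) :
    ∃ δ : DividedPowers (I.map (algebraMap R P) ⊔ aug x),
    (∀ a ∈ I, ∀ n, δ.dpow n (algebraMap R P a) = algebraMap R P (γ.dpow n a)) ∧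
    (∀ i n m, 1 ≤ m → δ.dpow n (x i m) = (Nat.uniformBell n m : P) * x i (n * m)) := by
  obtain ⟨PS, _, _, xS', hx0', hxmul', bS', hbS', δS, h1, h2⟩ := exists_model₂ (Λ := Λ) S₁ I₁ γ₁
  have key1 := fun {a : R} (ha : a ∈ I) (n : ℕ) =>
    descend₂_algebraMap xS' hx0' hxmul' bS' hbS' x hx0 hxmul b hb γ₁ γ δS hφsurj hφdp hφmap h1 ha n
  have key2 := fun (i : Λ) (n : ℕ) {m : ℕ} (hm : 1 ≤ m) =>
    descend₂_x xS' hx0' hxmul' bS' hbS' x hx0 hxmul b hb γ₁ γ δS hφsurj hφdp hφmap h1 h2 i n hm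
  exact ⟨_, fun a ha n => key1 ha n, fun i n m hm => key2 i n hm⟩

include hx0 hxmul hb in
/-- existence of the divided power structure on `I P + P_+` extending `γ` and the canonical
divided powers of the variables -/
theorem exists_dp₂ : ∃ δ : DividedPowers (I.map (algebraMap R P) ⊔ aug x),
    (∀ a ∈ I, ∀ n, δ.dpow n (algebraMap R P a) = algebraMap R P (γ.dpow n a)) ∧
    (∀ i n m, 1 ≤ m → δ.dpow n (x i m) = (Nat.uniformBell n m : P) * x i (n * m)) := by
  obtain ⟨S₀, π₀, hπ₀⟩ := exists_subring_surjective R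
  obtain ⟨S₁, I₁, γ₁, φ, hφsurj, hφdp, hφmap⟩ := exists_cover γ S₀ π₀ hπ₀
  letI : Algebra S₁ R := φ.toAlgebra
  letI : Algebra S₁ P := ((algebraMap R P).comp φ).toAlgebra
  haveI : IsScalarTower S₁ R P := IsScalarTower.of_algebraMap_eq (fun _ => rfl)
  exact exists_dp₂_of_cover γ x hx0 hxmul b hb S₁ I₁ γ₁ hφsurj hφdp hφmap

end Main₂

/-! ## Extensionality, and the base change of a presentation -/

section Ext

variable {σ : Type*} {S : Type*} [CommRing S] {PS : Type*} [CommRing PS] [Algebra S PS]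
  (xS : σ → ℕ → PS)
  (bS : Module.Basis (σ →₀ ℕ) S PS) (hbS : ∀ e : σ →₀ ℕ, bS e = e.prod (fun i k => xS i k))
  {P' : Type*} [CommRing P'] [Algebra S P']

include hbS in
lemma algHom_ext_x {φ φ' : PS →ₐ[S] P'} (h : ∀ i n, φ (xS i n) = φ' (xS i n)) : φ = φ' := by
  apply AlgHom.toLinearMap_injective
  refine bS.ext (fun e => ?_)
  show φ (bS e) = φ' (bS e)
  rw [hbS, Finsupp.prod, map_prod, map_prod]
  exact Finset.prod_congr rfl (fun i _ => h i (e i))

end Ext

section BaseChange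

open TensorProduct

variable {σ : Type*} {S : Type*} [CommRing S] {PS : Type*} [CommRing PS] [Algebra S PS]
  (xS : σ → ℕ → PS) (hx0S : ∀ i, xS i 0 = 1)
  (hxmulS : ∀ i n m, xS i n * xS i m = ((n + m).choose n : PS) * xS i (n + m))
  (bS : Module.Basis (σ →₀ ℕ) S PS) (hbS : ∀ e : σ →₀ ℕ, bS e = e.prod (fun i k => xS i k))
  (A : Type*) [CommRing A] [Algebra S A]

variable (S) in
/-- the variables of the base change -/
noncomputable def xBC (i : σ) (n : ℕ) : A ⊗[S] PS := 1 ⊗ₜ xS i n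

include hx0S in
lemma xBC_zero (i : σ) : xBC S xS A i 0 = 1 := by
  rw [xBC, hx0S]; rfl

include hxmulS in
lemma xBC_mul (i : σ) (n m : ℕ) :
    xBC S xS A i n * xBC S xS A i m = ((n + m).choose n : A ⊗[S] PS) * xBC S xS A i (n + m) := by
  rw [xBC, xBC, xBC, Algebra.TensorProduct.tmul_mul_tmul, one_mul, hxmulS]
  have : ((n + m).choose n : A ⊗[S] PS) = (1 : A) ⊗ₜ[S] ((n + m).choose n : PS) := by
    rw [← map_natCast (Algebra.TensorProduct.includeRight : PS →ₐ[S] A ⊗[S] PS)]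
    rfl
  rw [this, Algebra.TensorProduct.tmul_mul_tmul, one_mul]

/-- the basis of the base change -/
noncomputable def bBC : Module.Basis (σ →₀ ℕ) A (A ⊗[S] PS) := Algebra.TensorProduct.basis A bS

include hbS in
lemma bBC_eq_prod (e : σ →₀ ℕ) : bBC bS A e = e.prod (fun i k => xBC S xS A i k) := by
  rw [bBC, Algebra.TensorProduct.basis_apply, hbS]
  show (Algebra.TensorProduct.includeRight : PS →ₐ[S] A ⊗[S] PS) _ = _
  rw [map_finsuppProd]
  rfl

end BaseChange

end Groth.Agent.Lib.DPPoly75
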