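import Mathlib.RingTheory.DividedPowers.Basic
import Mathlib.Data.Nat.Choose.Lucas
import Mathlib.Combinatorics.Enumerative.Bell
import Mathlib.Data.Nat.Factorial.BigOperators
import Mathlib.Data.Nat.Prime.Factorial
import Mathlib.Tactic

/-!
# Divided powers from a `p`-th divided power map (model-independent computations)

`A` a commutative ring in which all integers prime to `p` are invertible, `I` an ideal and
`d : A → A` a candidate `γ_p`.  We define `g p d n x` by the recursion
`g 0 = 1`, `g n x = n⁻¹ x g (n-1) x` (`p ∤ n`), `g (p m) x = (uniformBell m p)⁻¹ g m (d x)`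
and establish the "one variable" identities.
-/

set_option autoImplicit false

namespace Groth.Agent.Lib.DPPrime58

open Nat

theorem not_dvd_choose_aux (p : ℕ) (hp : p.Prime) (j : ℕ) :
    ¬ p ∣ Nat.choose (j * p + p - 1) (p - 1) := by
  have : Fact p.Prime := ⟨hp⟩
  have hpos := hp.pos
  have h := Choose.choose_modEq_choose_mod_mul_choose_div_nat (p := p)
    (n := j * p + p - 1) (k := p - 1)
  have e1 : (j * p + p - 1) % p = p - 1 := by
    have : j * p + p - 1 = (p - 1) + p * j := by
      have : 1 ≤ p := hpos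
      rw [mul_comm]; omega
    rw [this, Nat.add_mul_mod_self_left, Nat.mod_eq_of_lt (by omega)]
  have e2 : (p - 1) % p = p - 1 := Nat.mod_eq_of_lt (by omega)
  have e3 : (p - 1) / p = 0 := Nat.div_eq_of_lt (by omega)
  rw [e1, e2, e3, Nat.choose_self, Nat.choose_zero_right, mul_one] at h
  intro hdvd
  have h0 : Nat.choose (j * p + p - 1) (p - 1) ≡ 0 [MOD p] := (Nat.modEq_zero_iff_dvd).mpr hdvd
  have h10 : 1 ≡ 0 [MOD p] := h.symm.trans h0
  have : p ∣ 1 := (Nat.modEq_zero_iff_dvd).mp h10
  exact hp.one_lt.ne' (Nat.dvd_one.mp this)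

theorem not_dvd_uniformBell (p : ℕ) (hp : p.Prime) (q : ℕ) : ¬ p ∣ Nat.uniformBell q p := by
  induction q with
  | zero => rw [Nat.uniformBell_zero_left]; exact fun h => hp.one_lt.ne' (Nat.dvd_one.mp h)
  | succ q ih =>
    rw [Nat.uniformBell_succ_left]
    intro h
    rcases (hp.dvd_mul).mp h with h | h
    · exact not_dvd_choose_aux p hp q h
    · exact ih h


theorem idA (p a b : ℕ) (hp : p ≠ 0) :
    (a + b).choose a * Nat.uniformBell (a + b) p =
      Nat.uniformBell a p * Nat.uniformBell b p * (p * a + p * b).choose (p * a) := by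
  have h1 := Nat.uniformBell_mul_eq (a + b) hp
  have h2 := Nat.uniformBell_mul_eq a hp
  have h3 := Nat.uniformBell_mul_eq b hp
  have h4 : (a + b).choose a * a ! * b ! = (a + b)! := by
    rw [Nat.choose_symm_add]; exact Nat.add_choose_mul_factorial_mul_factorial a b
  have h5 : (p * a + p * b).choose (p * a) * (p * a)! * (p * b)! = (p * a + p * b)! := by
    rw [Nat.choose_symm_add]; exact Nat.add_choose_mul_factorial_mul_factorial (p * a) (p * b)
  have hK : 0 < p ! ^ (a + b) * (a ! * b !) := by positivity
  apply Nat.eq_of_mul_eq_mul_right hK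
  calc (a + b).choose a * Nat.uniformBell (a + b) p * (p ! ^ (a + b) * (a ! * b !))
      = Nat.uniformBell (a + b) p * p ! ^ (a + b) * (a + b)! := by rw [← h4]; ring
    _ = ((a + b) * p)! := h1
    _ = (p * a + p * b)! := by congr 1; ring
    _ = (p * a + p * b).choose (p * a) * (p * a)! * (p * b)! := h5.symm
    _ = (p * a + p * b).choose (p * a) * (Nat.uniformBell a p * p ! ^ a * a !) *
          (Nat.uniformBell b p * p ! ^ b * b !) := by rw [h2, h3, mul_comm a p, mul_comm b p]
    _ = Nat.uniformBell a p * Nat.uniformBell b p * (p * a + p * b).choose (p * a) *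
          (p ! ^ (a + b) * (a ! * b !)) := by rw [pow_add]; ring

theorem idB (p k : ℕ) (hk : k ≠ 0) :
    Nat.uniformBell p k * (p * k + 1).ascFactorial p = (k + 1) ^ p * Nat.uniformBell p (k + 1) := by
  have h1 := Nat.uniformBell_mul_eq p hk
  have h2 := Nat.uniformBell_mul_eq p (Nat.succ_ne_zero k)
  have h3 := Nat.factorial_mul_ascFactorial (p * k) p
  have hK : 0 < k ! ^ p * p ! := by positivity
  apply Nat.eq_of_mul_eq_mul_right hK
  calc Nat.uniformBell p k * (p * k + 1).ascFactorial p * (k ! ^ p * p !)
      = (Nat.uniformBell p k * k ! ^ p * p !) * (p * k + 1).ascFactorial p := by ring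
    _ = (p * k)! * (p * k + 1).ascFactorial p := by rw [h1]
    _ = (p * k + p)! := h3
    _ = (p * (k + 1))! := by congr 1
    _ = Nat.uniformBell p (k + 1) * (k + 1)! ^ p * p ! := h2.symm
    _ = (k + 1) ^ p * Nat.uniformBell p (k + 1) * (k ! ^ p * p !) := by
        rw [Nat.factorial_succ, mul_pow]; ring

theorem idC (p m : ℕ) (hp : p ≠ 0) (hm : m ≠ 0) :
    Nat.uniformBell p m * Nat.uniformBell (p * m) p =
      Nat.uniformBell m p ^ p * Nat.uniformBell p (p * m) := by
  have h1 := Nat.uniformBell_mul_eq p hm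
  have h2 := Nat.uniformBell_mul_eq (p * m) hp
  have h3 := Nat.uniformBell_mul_eq m hp
  have h4 := Nat.uniformBell_mul_eq p (n := p * m) (Nat.mul_ne_zero hp hm)
  have hK : 0 < m ! ^ p * p ! * p ! ^ (p * m) := by positivity
  apply Nat.eq_of_mul_eq_mul_right hK
  calc Nat.uniformBell p m * Nat.uniformBell (p * m) p * (m ! ^ p * p ! * p ! ^ (p * m))
      = (Nat.uniformBell p m * m ! ^ p * p !) * (Nat.uniformBell (p * m) p * p ! ^ (p * m)) := by
        ring
    _ = Nat.uniformBell (p * m) p * p ! ^ (p * m) * (p * m)! := by rw [h1]; ring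
    _ = (p * m * p)! := h2
    _ = (p * (p * m))! := by congr 1; ring
    _ = Nat.uniformBell p (p * m) * (p * m)! ^ p * p ! := h4.symm
    _ = Nat.uniformBell p (p * m) * (Nat.uniformBell m p * p ! ^ m * m !) ^ p * p ! := by
        rw [h3, mul_comm m p]
    _ = Nat.uniformBell m p ^ p * Nat.uniformBell p (p * m) * (m ! ^ p * p ! * p ! ^ (p * m)) := by
        rw [mul_pow, mul_pow, ← pow_mul, mul_comm m p]; ring

variable {A : Type*} [CommRing A]

/-- The candidate divided powers built from `d = γ_p`. -/
noncomputable def g (p : ℕ) (d : A → A) : ℕ → A → A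
  | 0, _ => 1
  | n + 1, x =>
      if h : 1 < p ∧ p ∣ n + 1 then
        Ring.inverse ((Nat.uniformBell ((n + 1) / p) p : ℕ) : A) * g p d ((n + 1) / p) (d x)
      else Ring.inverse ((n + 1 : ℕ) : A) * x * g p d n x
termination_by n _ => n
decreasing_by
  · exact Nat.div_lt_self (Nat.succ_pos n) h.1
  · exact Nat.lt_succ_self n

theorem g_zero (p : ℕ) (d : A → A) (x : A) : g p d 0 x = 1 := by
  rw [g]

theorem g_of_not_dvd {p : ℕ} (d : A → A) {n : ℕ} (hn : ¬ p ∣ n) (x : A) :
    g p d n x = Ring.inverse ((n : ℕ) : A) * x * g p d (n - 1) x := by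
  obtain _ | n := n
  · exact absurd (dvd_zero p) hn
  · rw [g, dif_neg (fun h => hn h.2)]
    rfl

theorem g_of_dvd {p : ℕ} (hp : 1 < p) (d : A → A) (m : ℕ) (x : A) :
    g p d (p * m) x = Ring.inverse ((Nat.uniformBell m p : ℕ) : A) * g p d m (d x) := by
  obtain _ | m := m
  · simp [g_zero, Nat.uniformBell_zero_left]
  · have h0 : p * (m + 1) = (p * (m + 1) - 1) + 1 := by
      have : 0 < p * (m + 1) := Nat.mul_pos (by omega) (Nat.succ_pos m)
      omega
    have hd : (p * (m + 1) - 1 + 1) / p = m + 1 := by
      rw [← h0]; exact Nat.mul_div_cancel_left _ (by omega)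
    rw [h0, g, dif_pos ⟨hp, by rw [← h0]; exact dvd_mul_right _ _⟩, hd]


/-- The standing hypotheses (without additivity). -/
structure Hyp (p : ℕ) (I : Ideal A) (d : A → A) : Prop where
  hp : p.Prime
  hA : ∀ n : ℕ, ¬ p ∣ n → IsUnit (n : A)
  hdI : ∀ x ∈ I, d x ∈ I
  h1 : ∀ x ∈ I, (p.factorial : A) * d x = x ^ p
  h2 : ∀ (a x : A), x ∈ I → d (a * x) = a ^ p * d x

variable {p : ℕ} {I : Ideal A} {d : A → A}

theorem Hyp.isUnit_uB (H : Hyp p I d) (m : ℕ) : IsUnit ((Nat.uniformBell m p : ℕ) : A) :=
  H.hA _ (not_dvd_uniformBell p H.hp m)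

theorem Hyp.nmul_g (H : Hyp p I d) {n : ℕ} (hn : ¬ p ∣ n) (x : A) :
    (n : A) * g p d n x = x * g p d (n - 1) x := by
  rw [g_of_not_dvd d hn, ← mul_assoc, ← mul_assoc, Ring.mul_inverse_cancel _ (H.hA n hn), one_mul]

theorem Hyp.uB_g (H : Hyp p I d) (m : ℕ) (x : A) :
    ((Nat.uniformBell m p : ℕ) : A) * g p d (p * m) x = g p d m (d x) := by
  rw [g_of_dvd H.hp.one_lt, ← mul_assoc, Ring.mul_inverse_cancel _ (H.isUnit_uB m), one_mul]

theorem Hyp.g_one (H : Hyp p I d) (x : A) : g p d 1 x = x := by
  have h := H.nmul_g (n := 1) (fun h => H.hp.one_lt.ne' (Nat.dvd_one.mp h)) x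
  simpa [g_zero] using h

theorem Hyp.g_mem (H : Hyp p I d) {n : ℕ} (hn : n ≠ 0) {x : A} (hx : x ∈ I) :
    g p d n x ∈ I := by
  induction n using Nat.strong_induction_on generalizing x with
  | _ n ih =>
    by_cases hpn : p ∣ n
    · obtain ⟨m, rfl⟩ := hpn
      have hm : m ≠ 0 := by rintro rfl; exact hn (mul_zero p)
      have hlt : m < p * m := by
        have := H.hp.two_le
        have : 0 < m := Nat.pos_of_ne_zero hm
        nlinarith
      rw [g_of_dvd H.hp.one_lt]
      exact I.mul_mem_left _ (ih m hlt hm (H.hdI x hx))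
    · rw [g_of_not_dvd d hpn]
      exact I.mul_mem_right _ (I.mul_mem_left _ hx)

theorem Hyp.g_smul (H : Hyp p I d) (n : ℕ) (a : A) {x : A} (hx : x ∈ I) :
    g p d n (a * x) = a ^ n * g p d n x := by
  induction n using Nat.strong_induction_on generalizing x a with
  | _ n ih =>
    rcases Nat.eq_zero_or_pos n with rfl | hn
    · simp [g_zero]
    by_cases hpn : p ∣ n
    · obtain ⟨m, rfl⟩ := hpn
      have hm : 0 < m := Nat.pos_of_mul_pos_left hn
      have hlt : m < p * m := by
        have := H.hp.two_le
        nlinarith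
      rw [g_of_dvd H.hp.one_lt, g_of_dvd H.hp.one_lt, H.h2 a x hx, ih m hlt _ (H.hdI x hx)]
      ring
    · rw [g_of_not_dvd d hpn, g_of_not_dvd d hpn, ih (n - 1) (by omega) _ hx]
      have : a ^ n = a * a ^ (n - 1) := by
        rw [← _root_.pow_succ']; congr 1; omega
      rw [this]; ring

theorem Hyp.pw (H : Hyp p I d) (m : ℕ) (x : A) {j : ℕ} (hj : j ≤ p - 1) :
    x ^ j * g p d (p * m) x = (((p * m + 1).ascFactorial j : ℕ) : A) * g p d (p * m + j) x := by
  induction j with
  | zero => simp
  | succ j ih =>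
    have hnd : ¬ p ∣ p * m + (j + 1) := by
      intro h
      have h2 : p ∣ j + 1 := (Nat.dvd_add_right (dvd_mul_right p m)).mp h
      have := Nat.le_of_dvd (Nat.succ_pos j) h2
      have := H.hp.two_le
      omega
    have h := H.nmul_g hnd x
    rw [pow_succ, mul_assoc, mul_comm x, ← mul_assoc, ih (by omega), Nat.ascFactorial_succ,
      mul_assoc]
    have e : p * m + (j + 1) - 1 = p * m + j := by omega
    rw [e] at h
    rw [mul_comm _ x, ← h]
    push_cast
    ring

/-- `x γ_n(x) = (n+1) γ_{n+1}(x)`. -/
theorem Hyp.K (H : Hyp p I d) (n : ℕ) {x : A} (hx : x ∈ I) :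
    x * g p d n x = ((n + 1 : ℕ) : A) * g p d (n + 1) x := by
  induction n using Nat.strong_induction_on generalizing x with
  | _ n ih =>
    by_cases hpn : p ∣ n + 1
    · obtain ⟨m, hm⟩ := hpn
      obtain _ | m' := m
      · simp at hm
      have hp2 := H.hp.two_le
      have hn : n = p * m' + (p - 1) := by
        have : p * (m' + 1) = p * m' + p := by ring
        omega
      -- the unit to cancel
      have hu : IsUnit ((((p - 1)! * Nat.uniformBell (m' + 1) p : ℕ)) : A) := by
        rw [Nat.cast_mul]
        refine IsUnit.mul (H.hA _ ?_) (H.isUnit_uB _)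
        rw [Nat.Prime.dvd_factorial H.hp]; omega
      apply hu.mul_left_cancel
      have hc : (p * m' + 1).ascFactorial (p - 1) * Nat.uniformBell m' p =
          (p - 1)! * Nat.uniformBell (m' + 1) p := by
        rw [Nat.uniformBell_succ_left, Nat.ascFactorial_eq_factorial_mul_choose]
        have : p * m' + (p - 1) = m' * p + p - 1 := by
          rw [mul_comm]; omega
        rw [this]; ring
      have hm'lt : m' < n ∨ m' = 0 := by
        rcases Nat.eq_zero_or_pos m' with h | h
        · exact Or.inr h
        · left; rw [hn]; nlinarith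
      have hK' : d x * g p d m' (d x) = ((m' + 1 : ℕ) : A) * g p d (m' + 1) (d x) := by
        rcases hm'lt with h | h
        · exact ih m' h (H.hdI x hx)
        · subst h
          rw [g_zero, H.g_one]; simp
      calc (((p - 1)! * Nat.uniformBell (m' + 1) p : ℕ) : A) * (x * g p d n x)
          = ((Nat.uniformBell m' p : ℕ) : A) * (x * ((((p * m' + 1).ascFactorial (p - 1) : ℕ) : A)
              * g p d (p * m' + (p - 1)) x)) := by
            rw [← hc, hn]; push_cast; ring
        _ = ((Nat.uniformBell m' p : ℕ) : A) * (x * (x ^ (p - 1) * g p d (p * m') x)) := by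
            rw [H.pw m' x le_rfl]
        _ = x ^ p * (((Nat.uniformBell m' p : ℕ) : A) * g p d (p * m') x) := by
            have : x ^ p = x * x ^ (p - 1) := by
              rw [← _root_.pow_succ']; congr 1; omega
            rw [this]; ring
        _ = (p ! : A) * (d x * g p d m' (d x)) := by
            rw [H.uB_g, ← H.h1 x hx]; ring
        _ = (p ! : A) * (((m' + 1 : ℕ) : A) * (((Nat.uniformBell (m' + 1) p : ℕ) : A)
              * g p d (p * (m' + 1)) x)) := by
            rw [hK', H.uB_g]
        _ = (((p - 1)! * Nat.uniformBell (m' + 1) p : ℕ) : A) *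
              (((n + 1 : ℕ) : A) * g p d (n + 1) x) := by
            rw [hm]
            have : p ! = p * (p - 1)! := by
              conv_lhs => rw [show p = (p - 1) + 1 by omega]
              rw [Nat.factorial_succ]
              congr 1
              omega
            rw [this]; push_cast; ring
    · have h := H.nmul_g hpn x
      rw [Nat.add_sub_cancel] at h
      exact h.symm

theorem Hyp.Kpow (H : Hyp p I d) (n j : ℕ) {x : A} (hx : x ∈ I) :
    x ^ j * g p d n x = (((n + 1).ascFactorial j : ℕ) : A) * g p d (n + j) x := by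
  induction j with
  | zero => simp
  | succ j ih =>
    rw [pow_succ, mul_assoc, mul_comm x, ← mul_assoc, ih, mul_assoc, mul_comm _ x, H.K _ hx,
      Nat.ascFactorial_succ]
    push_cast
    rw [← add_assoc]
    ring


/-- `γ_m(x) γ_n(x) = C(m+n,m) γ_{m+n}(x)`. -/
theorem Hyp.g_mul_g (H : Hyp p I d) (m n : ℕ) {x : A} (hx : x ∈ I) :
    g p d m x * g p d n x = (((m + n).choose m : ℕ) : A) * g p d (m + n) x := by
  -- induction on `m + n`
  obtain ⟨s, hs⟩ : ∃ s, m + n = s := ⟨_, rfl⟩
  induction s using Nat.strong_induction_on generalizing m n x with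
  | _ s ih =>
    -- auxiliary: the case `p ∤ m`
    have aux : ∀ (m n : ℕ), m + n = s → ¬ p ∣ m → ∀ {x : A}, x ∈ I →
        g p d m x * g p d n x = (((m + n).choose m : ℕ) : A) * g p d (m + n) x := by
      intro m n hs hpm x hx
      have hm : 0 < m := Nat.pos_of_ne_zero (by rintro rfl; exact hpm (dvd_zero p))
      apply (H.hA m hpm).mul_left_cancel
      have e1 : m - 1 + n + 1 = m + n := by omega
      have hid : m * (m + n).choose m = (m + n) * (m - 1 + n).choose (m - 1) := by
        have := Nat.add_one_mul_choose_eq (m - 1 + n) (m - 1)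
        rw [show m - 1 + 1 = m by omega, e1] at this
        rw [mul_comm m, ← this]
      calc (m : A) * (g p d m x * g p d n x)
          = x * (g p d (m - 1) x * g p d n x) := by
            rw [← mul_assoc, H.nmul_g hpm, mul_assoc]
        _ = x * ((((m - 1 + n).choose (m - 1) : ℕ) : A) * g p d (m - 1 + n) x) := by
            rw [ih (m - 1 + n) (by omega) (m - 1) n hx rfl]
        _ = (((m - 1 + n).choose (m - 1) : ℕ) : A) * (x * g p d (m - 1 + n) x) := by ring
        _ = (m : A) * ((((m + n).choose m : ℕ) : A) * g p d (m + n) x) := by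
            rw [H.K _ hx, e1, ← mul_assoc (m : A), ← Nat.cast_mul m, hid]
            push_cast; ring
    by_cases hpm : p ∣ m
    · by_cases hpn : p ∣ n
      · obtain ⟨a, rfl⟩ := hpm
        obtain ⟨b, rfl⟩ := hpn
        rcases Nat.eq_zero_or_pos a with rfl | ha
        · simp [g_zero]
        rcases Nat.eq_zero_or_pos b with rfl | hb
        · simp [g_zero]
        have hp2 := H.hp.two_le
        have hlt : a + b < s := by rw [← hs]; nlinarith
        have hu : IsUnit (((Nat.uniformBell a p * Nat.uniformBell b p : ℕ)) : A) := by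
          rw [Nat.cast_mul]; exact (H.isUnit_uB a).mul (H.isUnit_uB b)
        apply hu.mul_left_cancel
        calc ((Nat.uniformBell a p * Nat.uniformBell b p : ℕ) : A) *
              (g p d (p * a) x * g p d (p * b) x)
            = (((Nat.uniformBell a p : ℕ) : A) * g p d (p * a) x) *
                (((Nat.uniformBell b p : ℕ) : A) * g p d (p * b) x) := by push_cast; ring
          _ = (((a + b).choose a : ℕ) : A) * g p d (a + b) (d x) := by
              rw [H.uB_g, H.uB_g, ih (a + b) hlt a b (H.hdI x hx) rfl]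
          _ = (((a + b).choose a * Nat.uniformBell (a + b) p : ℕ) : A) *
                g p d (p * (a + b)) x := by
              rw [← H.uB_g]; push_cast; ring
          _ = ((Nat.uniformBell a p * Nat.uniformBell b p : ℕ) : A) *
                ((((p * a + p * b).choose (p * a) : ℕ) : A) * g p d (p * a + p * b) x) := by
              rw [idA p a b H.hp.ne_zero, mul_add]; push_cast; ring
      · have h := aux n m (by omega) hpn hx
        rw [mul_comm, h, add_comm n m, Nat.choose_symm_add]
    · exact aux m n hs hpm hx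

/-- `γ_p(γ_n(x)) = uniformBell p n · γ_{pn}(x)`. -/
theorem Hyp.d_g (H : Hyp p I d) {n : ℕ} (hn : n ≠ 0) {x : A} (hx : x ∈ I) :
    d (g p d n x) = ((Nat.uniformBell p n : ℕ) : A) * g p d (p * n) x := by
  induction n using Nat.strong_induction_on generalizing x with
  | _ n ih =>
    have hp2 := H.hp.two_le
    by_cases hpn : p ∣ n
    · obtain ⟨m, rfl⟩ := hpn
      have hm : m ≠ 0 := by rintro rfl; exact hn (mul_zero p)
      have hlt : m < p * m := by
        have : 0 < m := Nat.pos_of_ne_zero hm
        nlinarith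
      have hu : IsUnit ((((Nat.uniformBell m p) ^ p : ℕ)) : A) := by
        rw [Nat.cast_pow]; exact (H.isUnit_uB m).pow p
      apply hu.mul_left_cancel
      have hmem : g p d (p * m) x ∈ I := H.g_mem hn hx
      calc (((Nat.uniformBell m p) ^ p : ℕ) : A) * d (g p d (p * m) x)
          = d (((Nat.uniformBell m p : ℕ) : A) * g p d (p * m) x) := by
            rw [H.h2 _ _ hmem]; push_cast; ring
        _ = ((Nat.uniformBell p m : ℕ) : A) * g p d (p * m) (d x) := by
            rw [H.uB_g, ih m hlt hm (H.hdI x hx)]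
        _ = ((Nat.uniformBell p m * Nat.uniformBell (p * m) p : ℕ) : A) *
              g p d (p * (p * m)) x := by
            rw [← H.uB_g (p * m) x]; push_cast; ring
        _ = (((Nat.uniformBell m p) ^ p : ℕ) : A) *
              (((Nat.uniformBell p (p * m) : ℕ) : A) * g p d (p * (p * m)) x) := by
            rw [idC p m H.hp.ne_zero hm]; push_cast; ring
    · obtain _ | _ | k := n
      · exact absurd rfl hn
      · -- n = 1
        rw [zero_add, H.g_one, Nat.uniformBell_one_right, Nat.cast_one, one_mul]
        have := H.uB_g 1 x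
        rw [Nat.uniformBell_one_left, Nat.cast_one, one_mul, H.g_one] at this
        exact this.symm
      · -- n = k + 2, p ∤ n
        have hu : IsUnit ((((k + 2) ^ p : ℕ)) : A) := by
          rw [Nat.cast_pow]; exact (H.hA _ hpn).pow p
        apply hu.mul_left_cancel
        have hmem : g p d (k + 2) x ∈ I := H.g_mem hn hx
        have hmem' : g p d (k + 1) x ∈ I := H.g_mem (Nat.succ_ne_zero k) hx
        have hN := H.nmul_g hpn x
        rw [show k + 1 + 1 - 1 = k + 1 by omega] at hN
        calc (((k + 2) ^ p : ℕ) : A) * d (g p d (k + 2) x)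
            = d (((k + 2 : ℕ) : A) * g p d (k + 2) x) := by
              rw [H.h2 _ _ hmem]; push_cast; ring
          _ = x ^ p * d (g p d (k + 1) x) := by
              rw [hN, H.h2 _ _ hmem']
          _ = ((Nat.uniformBell p (k + 1) : ℕ) : A) * (x ^ p * g p d (p * (k + 1)) x) := by
              rw [ih (k + 1) (by omega) (Nat.succ_ne_zero k) hx]; ring
          _ = ((Nat.uniformBell p (k + 1) * (p * (k + 1) + 1).ascFactorial p : ℕ) : A) *
                g p d (p * (k + 1) + p) x := by
              rw [H.Kpow _ _ hx]; push_cast; ring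
          _ = (((k + 2) ^ p : ℕ) : A) *
                (((Nat.uniformBell p (k + 2) : ℕ) : A) * g p d (p * (k + 2)) x) := by
              rw [idB p (k + 1) (Nat.succ_ne_zero k)]
              rw [show p * (k + 1) + p = p * (k + 2) by ring]
              push_cast; ring

end Groth.Agent.Lib.DPPrime58
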