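import Mathlib.Algebra.Homology.DerivedCategory.KInjective
import Mathlib.Algebra.Homology.DerivedCategory.ExactFunctor
import Mathlib.Algebra.Homology.DerivedCategory.DerivabilityStructureInjectives
import Mathlib.Algebra.Homology.DerivedCategory.TStructure

/-!
# Full faithfulness of `D⁺(A') ⥤ D(A)` for an exact fully faithful `ι : A' ⥤ A` with enough
`A`-injectives in `A'` (helper31)
-/

set_option autoImplicit false
set_option linter.unusedSectionVars false

open CategoryTheory Limits

namespace Groth.Agent.DPlusFF31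

variable {A' A : Type*} [Category* A'] [Category* A] [Abelian A'] [Abelian A]
  (ι : A' ⥤ A) [ι.Additive] [ι.Full] [ι.Faithful]

section

variable [PreservesFiniteLimits ι]

omit [ι.Additive] in
/-- An object of `A'` whose image is injective is injective. -/
lemma injective_of_injective_obj (Y' : A') [Injective (ι.obj Y')] : Injective Y' where
  factors {X Z} g f _ := by
    have : Mono (ι.map f) := inferInstance
    refine ⟨ι.preimage (Injective.factorThru (ι.map g) (ι.map f)), ?_⟩
    apply ι.map_injective
    rw [ι.map_comp, ι.map_preimage, Injective.comp_factorThru]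

variable (hinj : ∀ X' : A', ∃ (Y' : A') (i : X' ⟶ Y'), Mono i ∧ Injective (ι.obj Y'))

include hinj

omit [ι.Additive] in
lemma enoughInjectives : EnoughInjectives A' where
  presentation X' := by
    obtain ⟨Y', i, hi, hY⟩ := hinj X'
    have := injective_of_injective_obj ι Y'
    exact ⟨⟨Y', inferInstance, i, hi⟩⟩

omit [ι.Additive] [PreservesFiniteLimits ι] [ι.Full] [ι.Faithful] in
/-- `ι` preserves injective objects. -/
lemma injective_obj (I : A') [Injective I] : Injective (ι.obj I) := by
  obtain ⟨Y', i, hi, hY⟩ := hinj I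
  let r : Y' ⟶ I := Injective.factorThru (𝟙 I) i
  have hr : i ≫ r = 𝟙 I := Injective.comp_factorThru (𝟙 I) i
  refine ⟨fun {X Z} g f _ => ⟨Injective.factorThru (g ≫ ι.map i) f ≫ ι.map r, ?_⟩⟩
  rw [← Category.assoc, Injective.comp_factorThru, Category.assoc, ← ι.map_comp, hr, ι.map_id,
    Category.comp_id]

end

section

variable [HasDerivedCategory A'] [HasDerivedCategory A]
  [PreservesFiniteLimits ι] [PreservesFiniteColimits ι]

/-- `D(A') ⥤ D(A)` is bijective on morphisms into a K-injective complex whose image is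
K-injective. -/
lemma bijective_map_of_isKInjective (k : HomotopyCategory A' (ComplexShape.up ℤ))
    (J : CochainComplex A' ℤ) [CochainComplex.IsKInjective J]
    [CochainComplex.IsKInjective ((ι.mapHomologicalComplex (ComplexShape.up ℤ)).obj J)] :
    Function.Bijective (fun f : DerivedCategory.Qh.obj k ⟶
      DerivedCategory.Qh.obj ((HomotopyCategory.quotient A' (ComplexShape.up ℤ)).obj J) =>
        ι.mapDerivedCategory.map f) := by
  let e := ι.mapDerivedCategoryFactorsh
  let j : HomotopyCategory A' (ComplexShape.up ℤ) :=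
    (HomotopyCategory.quotient A' (ComplexShape.up ℤ)).obj J
  have b₁ : Function.Bijective (fun φ : k ⟶ j => DerivedCategory.Qh.map φ) :=
    CochainComplex.IsKInjective.Qh_map_bijective k J
  have b₂ : Function.Bijective (fun ψ : (ι.mapHomotopyCategory (ComplexShape.up ℤ)).obj k ⟶
      (ι.mapHomotopyCategory (ComplexShape.up ℤ)).obj j => DerivedCategory.Qh.map ψ) :=
    CochainComplex.IsKInjective.Qh_map_bijective
      ((ι.mapHomotopyCategory (ComplexShape.up ℤ)).obj k)
      ((ι.mapHomologicalComplex (ComplexShape.up ℤ)).obj J)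
  have nat : ∀ φ : k ⟶ j,
      ι.mapDerivedCategory.map (DerivedCategory.Qh.map φ) =
        e.hom.app k ≫ DerivedCategory.Qh.map ((ι.mapHomotopyCategory (ComplexShape.up ℤ)).map φ) ≫
          e.inv.app j := by
    intro φ
    have := e.hom.naturality φ
    dsimp only [Functor.comp_map] at this
    rw [← Category.assoc, ← this, Category.assoc, Iso.hom_inv_id_app, Category.comp_id]
  change Function.Bijective (fun f : DerivedCategory.Qh.obj k ⟶ DerivedCategory.Qh.obj j =>
        ι.mapDerivedCategory.map f)
  clear_value j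
  constructor
  · intro f f' h
    dsimp only at h
    obtain ⟨φ, rfl⟩ := b₁.surjective f
    obtain ⟨φ', rfl⟩ := b₁.surjective f'
    dsimp only at h ⊢
    rw [nat, nat] at h
    have h' : DerivedCategory.Qh.map ((ι.mapHomotopyCategory (ComplexShape.up ℤ)).map φ) =
        DerivedCategory.Qh.map ((ι.mapHomotopyCategory (ComplexShape.up ℤ)).map φ') := by
      rw [← cancel_epi (e.hom.app k), ← cancel_mono (e.inv.app _), Category.assoc, Category.assoc]
      exact h
    have h'' := b₂.injective h'
    rw [(ι.mapHomotopyCategory (ComplexShape.up ℤ)).map_injective h'']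
  · intro g
    obtain ⟨ψ, hψ⟩ := b₂.surjective (e.inv.app k ≫ g ≫ e.hom.app _)
    obtain ⟨φ, rfl⟩ := (ι.mapHomotopyCategory (ComplexShape.up ℤ)).map_surjective ψ
    refine ⟨DerivedCategory.Qh.map φ, ?_⟩
    dsimp only at hψ ⊢
    rw [nat φ, hψ, Category.assoc, Category.assoc, Iso.hom_inv_id_app]
    erw [Category.comp_id]
    rw [Iso.hom_inv_id_app_assoc]

omit [ι.Additive] [ι.Full] [ι.Faithful] [PreservesFiniteLimits ι] [PreservesFiniteColimits ι]
  [HasDerivedCategory A'] [HasDerivedCategory A] [Abelian A'] [Abelian A] in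
/-- Bijectivity of `f ↦ F.map f` is invariant under isomorphisms of source and target. -/
lemma bijective_map_of_iso {C D : Type*} [Category* C] [Category* D] (F : C ⥤ D)
    {X X' Y Y' : C} (eX : X ≅ X') (eY : Y ≅ Y')
    (h : Function.Bijective (fun f : X' ⟶ Y' => F.map f)) :
    Function.Bijective (fun f : X ⟶ Y => F.map f) := by
  constructor
  · intro f g hfg
    dsimp only at hfg
    have h1 : F.map (eX.inv ≫ f ≫ eY.hom) = F.map (eX.inv ≫ g ≫ eY.hom) := by
      simp only [F.map_comp, hfg]
    have h2 := h.injective h1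
    rwa [Iso.cancel_iso_inv_left, Iso.cancel_iso_hom_right] at h2
  · intro g
    obtain ⟨f', hf'⟩ := h.surjective (F.map eX.inv ≫ g ≫ F.map eY.hom)
    refine ⟨eX.hom ≫ f' ≫ eY.inv, ?_⟩
    dsimp only at hf' ⊢
    simp only [F.map_comp, hf', Category.assoc, ← F.map_comp_assoc, Iso.hom_inv_id, F.map_id,
      Category.id_comp]
    rw [← F.map_comp, Iso.hom_inv_id, F.map_id, Category.comp_id]

/-- The main theorem: if `A'` has enough `A`-injectives, then `D(A') ⥤ D(A)` is bijective on
morphisms into bounded below objects. -/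
theorem bijective_map_of_isGE
    (hinj : ∀ X' : A', ∃ (Y' : A') (i : X' ⟶ Y'), Mono i ∧ Injective (ι.obj Y'))
    (X Y : DerivedCategory A') (b : ℤ) [Y.IsGE b] :
    Function.Bijective (fun f : X ⟶ Y => ι.mapDerivedCategory.map f) := by
  have := enoughInjectives ι hinj
  obtain ⟨K, hK, ⟨eK⟩⟩ := DerivedCategory.exists_iso_Q_obj_of_isGE Y b
  obtain ⟨J, i, hi, hJ, hJb⟩ :=
    CochainComplex.Plus.modelCategoryQuillen.exists_quasiIso_injective K b
  have : CochainComplex.IsKInjective J := CochainComplex.isKInjective_of_injective J b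
  have : CochainComplex.IsStrictlyGE ((ι.mapHomologicalComplex (ComplexShape.up ℤ)).obj J) b :=
    (CochainComplex.isStrictlyGE_mapHomologicalComplex_obj_iff J ι b).2 hJb
  have : ∀ n : ℤ, Injective (((ι.mapHomologicalComplex (ComplexShape.up ℤ)).obj J).X n) :=
    fun n => injective_obj ι hinj (J.X n)
  have : CochainComplex.IsKInjective ((ι.mapHomologicalComplex (ComplexShape.up ℤ)).obj J) :=
    CochainComplex.isKInjective_of_injective _ b
  have : (DerivedCategory.Qh (C := A')).EssSurj :=
    Localization.essSurj _ (HomotopyCategory.quasiIso A' (ComplexShape.up ℤ))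
  let k := DerivedCategory.Qh.objPreimage X
  let eX : X ≅ DerivedCategory.Qh.obj k := (DerivedCategory.Qh.objObjPreimageIso X).symm
  let eY : Y ≅ DerivedCategory.Qh.obj
      ((HomotopyCategory.quotient A' (ComplexShape.up ℤ)).obj J) :=
    eK ≪≫ asIso (DerivedCategory.Q.map i) ≪≫ ((DerivedCategory.quotientCompQhIso A').app J).symm
  exact bijective_map_of_iso _ eX eY (bijective_map_of_isKInjective ι k J)

end

end Groth.Agent.DPlusFF31
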