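import Groth.Agent.Lib.DProjHom
import Mathlib.Algebra.Homology.DerivedCategory.SingleTriangle

/-!
# `Hom(G[0], K[n])` for an object `G` with a projective resolution of length one

Namespace `Groth.Agent.Lib.DProjRes1`.

Let `0 → P₁ → P₀ → G → 0` be a short exact sequence `S` in an abelian category with `P₁`, `P₀`
projective.  Then for `K ∈ D(A)`:
`Hom(G[0], K[n]) = 0` for all `n` iff `Hom(P₀, H^n K) → Hom(P₁, H^n K)` is bijective for all `n`
(`hom_vanishing_iff`).  Consequently the vanishing only depends on the cohomology objects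
(`hom_vanishing_iff_homology`).
-/

set_option autoImplicit false
universe w v u

open CategoryTheory CategoryTheory.Limits Category Pretriangulated

namespace Groth.Agent.Lib.DProjRes1

variable {A : Type u} [Category.{v} A] [Abelian A] [HasDerivedCategory.{w} A]

open DerivedCategory

variable (S : ShortComplex A)

/-- all morphisms `G[0] ⟶ Y` vanish -/
def V (Y : DerivedCategory A) : Prop := ∀ φ : (singleFunctor A 0).obj S.X₃ ⟶ Y, φ = 0

/-- precomposition with `P₁[0] ⟶ P₀[0]` is bijective on `Hom(-, Y)` -/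
def B (Y : DerivedCategory A) : Prop :=
  Function.Bijective (fun φ : (singleFunctor A 0).obj S.X₂ ⟶ Y => (singleFunctor A 0).map S.f ≫ φ)

/-- precomposition with `P₁ ⟶ P₀` is bijective on `Hom(-, M)` -/
def B' (M : A) : Prop := Function.Bijective (fun g : S.X₂ ⟶ M => S.f ≫ g)

variable {S}

lemma V_of_iso {Y Y' : DerivedCategory A} (e : Y ≅ Y') (h : V S Y) : V S Y' := by
  intro φ
  have := h (φ ≫ e.inv)
  rw [← cancel_mono e.inv, this, zero_comp]

lemma B_of_iso {Y Y' : DerivedCategory A} (e : Y ≅ Y') (h : B S Y) : B S Y' := by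
  constructor
  · intro φ₁ φ₂ h12
    have := h.injective (a₁ := φ₁ ≫ e.inv) (a₂ := φ₂ ≫ e.inv) (by
      simp only [← assoc]
      exact congrArg (· ≫ e.inv) h12)
    exact (cancel_mono e.inv).mp this
  · intro ψ
    obtain ⟨φ, hφ⟩ := h.surjective (ψ ≫ e.inv)
    refine ⟨φ ≫ e.hom, ?_⟩
    simp only at hφ ⊢
    rw [← assoc, hφ, assoc, e.inv_hom_id, comp_id]

omit [HasDerivedCategory.{w} A] in
lemma B'_of_iso {M M' : A} (e : M ≅ M') (h : B' S M) : B' S M' := by
  constructor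
  · intro φ₁ φ₂ h12
    have := h.injective (a₁ := φ₁ ≫ e.inv) (a₂ := φ₂ ≫ e.inv) (by
      simp only [← assoc]
      exact congrArg (· ≫ e.inv) h12)
    exact (cancel_mono e.inv).mp this
  · intro ψ
    obtain ⟨φ, hφ⟩ := h.surjective (ψ ≫ e.inv)
    refine ⟨φ ≫ e.hom, ?_⟩
    simp only at hφ ⊢
    rw [← assoc, hφ, assoc, e.inv_hom_id, comp_id]

omit [HasDerivedCategory.{w} A] in
lemma B'_of_isZero {M : A} (hM : IsZero M) : B' S M :=
  ⟨fun _ _ _ => hM.eq_of_tgt _ _, fun _ => ⟨0, hM.eq_of_tgt _ _⟩⟩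

section

variable (hS : S.ShortExact)

include hS

lemma B_of_V {Y : DerivedCategory A} (h0 : V S Y) (h1 : V S (Y⟦(1 : ℤ)⟧)) : B S Y := by
  have hT : Triangle.mk ((singleFunctor A 0).map S.f) ((singleFunctor A 0).map S.g) hS.singleδ ∈
      distTriang (DerivedCategory A) := hS.singleTriangle_distinguished
  constructor
  · intro φ₁ φ₂ h12
    have h' : (singleFunctor A 0).map S.f ≫ (φ₁ - φ₂) = 0 := by
      rw [Preadditive.comp_sub]
      exact sub_eq_zero.mpr h12
    obtain ⟨g, hg⟩ : ∃ g : (singleFunctor A 0).obj S.X₃ ⟶ Y,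
        φ₁ - φ₂ = (singleFunctor A 0).map S.g ≫ g := Triangle.yoneda_exact₂ _ hT (φ₁ - φ₂) h'
    have : g = 0 := h0 g
    rw [this, comp_zero] at hg
    exact sub_eq_zero.mp hg
  · intro ψ
    have hT' : Triangle.mk ((singleFunctor A 0).map S.g) hS.singleδ
        (-((singleFunctor A 0).map S.f)⟦(1 : ℤ)⟧') ∈ distTriang (DerivedCategory A) :=
      rot_of_distTriang _ hT
    have hz : hS.singleδ ≫ ψ⟦(1 : ℤ)⟧' = 0 := h1 _
    obtain ⟨g, hg⟩ : ∃ g : ((singleFunctor A 0).obj S.X₂)⟦(1 : ℤ)⟧ ⟶ Y⟦(1 : ℤ)⟧,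
        ψ⟦(1 : ℤ)⟧' = (-((singleFunctor A 0).map S.f)⟦(1 : ℤ)⟧') ≫ g :=
      Triangle.yoneda_exact₃ _ hT' (ψ⟦(1 : ℤ)⟧') hz
    obtain ⟨g', rfl⟩ := (shiftFunctor (DerivedCategory A) (1 : ℤ)).map_surjective g
    refine ⟨-g', ?_⟩
    apply (shiftFunctor (DerivedCategory A) (1 : ℤ)).map_injective
    change ((singleFunctor A 0).map S.f ≫ (-g'))⟦(1 : ℤ)⟧' = ψ⟦(1 : ℤ)⟧'
    rw [hg, Preadditive.comp_neg, Functor.map_neg, Functor.map_comp, Preadditive.neg_comp]

lemma V_of_B {Y Y' : DerivedCategory A} (e : Y'⟦(1 : ℤ)⟧ ≅ Y) (h0 : B S Y) (h1 : B S Y') :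
    V S Y := by
  have hT : Triangle.mk ((singleFunctor A 0).map S.f) ((singleFunctor A 0).map S.g) hS.singleδ ∈
      distTriang (DerivedCategory A) := hS.singleTriangle_distinguished
  intro φ
  have h2 : (singleFunctor A 0).map S.g ≫ φ = 0 := by
    apply h0.injective
    change (singleFunctor A 0).map S.f ≫ (singleFunctor A 0).map S.g ≫ φ =
      (singleFunctor A 0).map S.f ≫ 0
    rw [comp_zero, ← assoc, ← Functor.map_comp, S.zero, Functor.map_zero, zero_comp]
  obtain ⟨g, hg⟩ : ∃ g : ((singleFunctor A 0).obj S.X₁)⟦(1 : ℤ)⟧ ⟶ Y, φ = hS.singleδ ≫ g :=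
    Triangle.yoneda_exact₃ _ hT φ h2
  obtain ⟨g', hg'⟩ := (shiftFunctor (DerivedCategory A) (1 : ℤ)).map_surjective (g ≫ e.inv)
  obtain ⟨g'', hg''⟩ := h1.surjective g'
  change (singleFunctor A 0).map S.f ≫ g'' = g' at hg''
  have h3 : g = ((singleFunctor A 0).map S.f)⟦(1 : ℤ)⟧' ≫ g''⟦(1 : ℤ)⟧' ≫ e.hom := by
    rw [← assoc, ← Functor.map_comp, hg'', hg', assoc, e.inv_hom_id, comp_id]
  have h4 : hS.singleδ ≫ ((singleFunctor A 0).map S.f)⟦(1 : ℤ)⟧' = 0 :=
    comp_distTriang_mor_zero₃₁ _ hT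
  rw [hg, h3, ← assoc, h4, zero_comp]

end

lemma B_iff_B' [Projective S.X₁] [Projective S.X₂] (Y : DerivedCategory A) :
    B S Y ↔ B' S ((homologyFunctor A 0).obj Y) := by
  have h2 := Groth.Agent.Lib.DProjHom.homToH0_bijective S.X₂ Y
  have h1 := Groth.Agent.Lib.DProjHom.homToH0_bijective S.X₁ Y
  have hcomm : Groth.Agent.Lib.DProjHom.homToH0 S.X₁ Y ∘
      (fun φ : (singleFunctor A 0).obj S.X₂ ⟶ Y => (singleFunctor A 0).map S.f ≫ φ) =
      (fun g : S.X₂ ⟶ (homologyFunctor A 0).obj Y => S.f ≫ g) ∘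
        Groth.Agent.Lib.DProjHom.homToH0 S.X₂ Y := by
    funext φ
    exact Groth.Agent.Lib.DProjHom.homToH0_naturality S.f Y φ
  unfold B B'
  rw [← Function.Bijective.of_comp_iff' h1, hcomm, Function.Bijective.of_comp_iff _ h2]

/-- `Hom(G[0], K[n]) = 0` for all `n` iff `Hom(P₀, H^n K) → Hom(P₁, H^n K)` is bijective for all
`n`. -/
theorem hom_vanishing_iff (hS : S.ShortExact) [Projective S.X₁] [Projective S.X₂]
    (K : DerivedCategory A) :
    (∀ n : ℤ, V S (K⟦n⟧)) ↔ ∀ n : ℤ, B' S ((homologyFunctor A n).obj K) := by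
  have hiso : ∀ n : ℤ, (homologyFunctor A 0).obj (K⟦n⟧) ≅ (homologyFunctor A n).obj K :=
    fun n => ((homologyFunctor A 0).shiftIso n 0 n (by simp)).app K
  constructor
  · intro h n
    refine B'_of_iso (hiso n) ((B_iff_B' _).mp (B_of_V hS (h n) ?_))
    exact V_of_iso ((shiftFunctorAdd' (DerivedCategory A) n 1 (n + 1) rfl).app K) (h (n + 1))
  · intro h n
    have hB : ∀ m : ℤ, B S (K⟦m⟧) := fun m => (B_iff_B' _).mpr (B'_of_iso (hiso m).symm (h m))
    exact V_of_B hS ((shiftFunctorAdd' (DerivedCategory A) (n - 1) 1 n (by lia)).app K).symm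
      (hB n) (hB (n - 1))

/-- The vanishing of all `Hom(G[0], K[n])` can be checked on the cohomology objects of `K`. -/
theorem hom_vanishing_iff_homology (hS : S.ShortExact) [Projective S.X₁] [Projective S.X₂]
    (K : DerivedCategory A) :
    (∀ n : ℤ, V S (K⟦n⟧)) ↔
      ∀ i : ℤ, ∀ n : ℤ, V S (((singleFunctor A 0).obj ((homologyFunctor A i).obj K))⟦n⟧) := by
  rw [hom_vanishing_iff hS]
  constructor
  · intro h i
    rw [hom_vanishing_iff hS]
    intro n
    by_cases hn : n = 0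
    · subst hn
      exact B'_of_iso ((singleFunctorCompHomologyFunctorIso A 0).app _).symm (h i)
    · apply B'_of_isZero
      by_cases hn' : 0 < n
      · exact isZero_of_isLE _ 0 n hn'
      · exact isZero_of_isGE _ 0 n (by lia)
  · intro h i
    have := (hom_vanishing_iff hS _).mp (h i) 0
    exact B'_of_iso ((singleFunctorCompHomologyFunctorIso A 0).app _) this

end Groth.Agent.Lib.DProjRes1
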