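import Groth.Agent.Lib.TFunUnit
import Groth.Agent.Lib.TFunCompare
import Groth.Agent.Lib.TFunBCLocus
import Mathlib.Data.Int.Interval

set_option autoImplicit false
universe u

/-! Generic exactness of `T_q` over a domain: if the homology modules `H_n(P)` are finitely presented
then after inverting a single nonzero `f` the functors `T_q` (`q ≤ N`) become exact. Also: flat base
change for homology `H_q(B ⊗ P) ≅ H_q(P) ⊗ B` (`homologyBCIso`), and descent of flatness along
restriction of scalars for localizations. -/

namespace Groth.Agent.Lib.TFunGeneric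

open CategoryTheory CategoryTheory.Limits MonoidalCategory CohIII TensorProduct Groth.Agent.Lib.TFun
  Groth.Agent.Lib.TFunCompare Groth.Agent.Lib.TFunUnit

variable {A : Type u} [CommRing A] (B : Type u) [CommRing B] [Algebra A B]

/-- A `B`-module whose restriction of scalars to `A` is `A`-flat is `B`-flat, when `B` is a
localization of `A`. -/
theorem flat_of_flat_restrictScalars (S : Submonoid A) [IsLocalization S B] (X : ModuleCat.{u} B)
    (h : Module.Flat A ((RB (A := A) B).obj X)) : Module.Flat B X := by
  let i1 : Module A X := Module.compHom X (algebraMap A B)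
  have i2 : @IsScalarTower A B X _ _ i1.toSMul :=
    @IsScalarTower.mk A B X _ _ i1.toSMul (fun a b x => by
      show (a • b) • x = (algebraMap A B a) • (b • x)
      rw [Algebra.smul_def, mul_smul])
  exact (@Module.flat_iff_of_isLocalization A B _ _ _ S _ X _ i1 _ i2).mpr h

section
variable {ι : Type} {c : ComplexShape ι} (P : HomologicalComplex (ModuleCat.{u} A) c)

/-- For flat `B`, the underlying `A`-module of `H_q(B ⊗ P)` is `H_q(P) ⊗ B`. -/
noncomputable def homologyBCIso [Module.Flat A B] (q : ι) :
    (RB (A := A) B).obj ((bcCx (algebraMap A B) P).homology q) ≅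
      P.homology q ⊗ ModuleCat.of A B :=
  homologyCompare B P q ≪≫ alpha P q (ModuleCat.of A B)

/-- If `B` is a localization of `A` and `H_q(P) ⊗ B` is `A`-flat then `H_q(B ⊗ P)` is `B`-flat. -/
theorem flat_homology_bcCx (S : Submonoid A) [IsLocalization S B] (q : ι)
    (h : Module.Flat A (P.homology q ⊗[A] B)) :
    Module.Flat B ((bcCx (algebraMap A B) P).homology q) := by
  have hB : Module.Flat A B := IsLocalization.flat B S
  apply flat_of_flat_restrictScalars B S
  exact (Module.Flat.equiv_iff (homologyBCIso B P q).toLinearEquiv).mpr h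

end

end Groth.Agent.Lib.TFunGeneric

namespace Groth.Agent.Lib.TFunGeneric

open TensorProduct

theorem flat_tensor_away_of_basicOpen_subset_freeLocus {A : Type u} [CommRing A]
    (H : Type u) [AddCommGroup H] [Module A H]
    [Module.FinitePresentation A H] (f : A)
    (h : (PrimeSpectrum.basicOpen f : Set (PrimeSpectrum A)) ⊆ Module.freeLocus A H) :
    Module.Flat A (H ⊗[A] Localization.Away f) := by
  have hproj : Module.Projective (Localization.Away f) (LocalizedModule.Away f H) :=
    Module.basicOpen_subset_freeLocus_iff.mp h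
  have hflB : Module.Flat (Localization.Away f) (LocalizedModule.Away f H) := inferInstance
  have hB : Module.Flat A (Localization.Away f) := IsLocalization.flat _ (Submonoid.powers f)
  have hflA : Module.Flat A (LocalizedModule.Away f H) :=
    Module.Flat.trans A (Localization.Away f) _
  let e : H ⊗[A] Localization.Away f ≃ₗ[A] LocalizedModule.Away f H :=
    (TensorProduct.comm A H (Localization.Away f)) ≪≫ₗ
      ((IsLocalizedModule.isBaseChange (Submonoid.powers f) (Localization.Away f)
        (LocalizedModule.mkLinearMap (Submonoid.powers f) H)).equiv.restrictScalars A)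
  exact (Module.Flat.equiv_iff e).mpr hflA

end Groth.Agent.Lib.TFunGeneric

namespace Groth.Agent.Lib.TFunGeneric

open CategoryTheory CategoryTheory.Limits MonoidalCategory CohIII TensorProduct Groth.Agent.Lib.TFun
  Groth.Agent.Lib.TFunCompare Groth.Agent.Lib.TFunUnit

theorem exists_exact_upTo_away {A : Type u} [CommRing A] [IsDomain A]
    (P : ChainComplex (ModuleCat.{u} A) ℤ)
    (hP : ∀ i, Module.Flat A (P.X i)) (i₀ : ℤ) (hb : ∀ i < i₀, IsZero (P.X i))
    (hfp : ∀ n : ℤ, Module.FinitePresentation A (P.homology n)) (N : ℤ) :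
    ∃ f : A, f ≠ 0 ∧ ∀ p ≤ N,
      (TFun (bcCx (algebraMap A (Localization.Away f)) P) p).PreservesMonomorphisms ∧
        (TFun (bcCx (algebraMap A (Localization.Away f)) P) p).PreservesEpimorphisms := by
  let U : Set (PrimeSpectrum A) := ⋂ q ∈ Finset.Icc i₀ N, Module.freeLocus A (P.homology q)
  have hU : IsOpen U := isOpen_biInter_finset (fun q _ => Module.isOpen_freeLocus)
  have hbot : (⟨⊥, Ideal.isPrime_bot⟩ : PrimeSpectrum A) ∈ U :=
    Set.mem_iInter₂.mpr (fun q _ => Groth.Agent.Lib.TFunBC.bot_mem_freeLocus _)
  obtain ⟨v, ⟨f, rfl⟩, hfv, hvU⟩ :=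
    PrimeSpectrum.isTopologicalBasis_basic_opens.exists_subset_of_mem_open hbot hU
  refine ⟨f, ?_, ?_⟩
  · rintro rfl
    simp at hfv
  · have hb' : ∀ i < i₀, IsZero ((bcCx (algebraMap A (Localization.Away f)) P).X i) :=
      fun i hi => Functor.map_isZero (ModuleCat.extendScalars _) (hb i hi)
    apply exact_upTo_of_flat_homology (bcCx (algebraMap A (Localization.Away f)) P)
      (Groth.Agent.Lib.TFunBC.flat_bcCx_X _ P hP) i₀ hb' N
    intro q hq1 hq2
    apply flat_homology_bcCx (Localization.Away f) P (Submonoid.powers f) q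
    apply flat_tensor_away_of_basicOpen_subset_freeLocus
    exact hvU.trans (Set.biInter_subset_of_mem (Finset.mem_coe.mpr (Finset.mem_Icc.mpr ⟨hq1, hq2⟩)))

end Groth.Agent.Lib.TFunGeneric
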