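import Groth.Agent.Lib.TFunFiniteBelow
import Groth.Agent.Lib.DRankBC
import Groth.Agent.Lib.TFunGeneric
import Groth.Agent.Lib.TFunBaseChange
import Groth.Agent.Lib.TFunCompareRank
import Mathlib.RingTheory.Spectrum.Prime.Noetherian

set_option autoImplicit false
universe u

/-! Over a Noetherian ring, for a bounded-below complex of flat modules with finite `T_n(A)`, the
functions `d_q` (`q ≤ N`) are locally constant on a dense open subset of `Spec A`. -/

namespace Groth.Agent.Lib.DRankDense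

open CategoryTheory CategoryTheory.Limits MonoidalCategory CohIII TensorProduct Groth.Agent.Lib.TFun
  Groth.Agent.Lib.TFunCompare Groth.Agent.Lib.TFunUnit Groth.Agent.Lib.TFunBaseChange

/-- If `T_p` is exact and `T_p(A)` is finitely presented then `d_p` is locally constant. -/
theorem isLocallyConstant_dRank_of_exact_of_fp {A : Type u} [CommRing A] {ι : Type}
    {c : ComplexShape ι} (P : HomologicalComplex (ModuleCat.{u} A) c)
    (hP : ∀ i, Module.Flat A (P.X i)) (p : ι)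
    (hex : (TFun P p).PreservesMonomorphisms ∧ (TFun P p).PreservesEpimorphisms)
    (hfp : Module.FinitePresentation A ((TFun P p).obj (ModuleCat.of A A))) :
    IsLocallyConstant (dRank P p) := by
  obtain ⟨hm, he⟩ := hex
  have heq : dRank P p =
      Groth.Agent.Lib.TFunRank.fibRank ((TFun P p).obj (ModuleCat.of A A)) := by
    funext x
    exact Groth.Agent.Lib.TFunCompare.dRank_eq_fibRank_of_preservesEpi P p hP he x
  have e := isoTensorLeftOfPreservesEpi P p hP he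
  have hm' : (MonoidalCategory.tensorLeft
      ((TFun P p).obj (ModuleCat.of A A))).PreservesMonomorphisms :=
    Functor.PreservesMonomorphisms.of_iso e.symm
  have hfl : Module.Flat A ((TFun P p).obj (ModuleCat.of A A)) :=
    flat_of_preservesMono_tensorLeft _ hm'
  rw [heq]
  exact Groth.Agent.Lib.TFunRank.isLocallyConstant_fibRank _

/-- Transport local constancy along an embedding. -/
theorem isLocallyConstant_on_range {X Y Z : Type*} [TopologicalSpace X] [TopologicalSpace Y]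
    (ψ : Y → X) (hψ : Topology.IsEmbedding ψ) (f : X → Z) (h : IsLocallyConstant (f ∘ ψ))
    (W : Set X) (hW : W = Set.range ψ) : IsLocallyConstant (fun x : W => f x) := by
  subst hW
  have : (fun x : Set.range ψ => f x) = (f ∘ ψ) ∘ hψ.toHomeomorph.symm := by
    funext x
    obtain ⟨y, hy⟩ := x.2
    have hx : x = ⟨ψ y, by simp⟩ := Subtype.ext hy.symm
    rw [hx, Function.comp_apply, Topology.IsEmbedding.toHomeomorph_symm_apply]
    rfl
  rw [this]
  exact h.comp_continuous hψ.toHomeomorph.symm.continuous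

/-- Local constancy on a union of opens, each contained in a set on which `f` is locally constant. -/
theorem isLocallyConstant_iUnion {X Z ι : Type*} [TopologicalSpace X] (f : X → Z)
    (U W : ι → Set X) (hopen : ∀ i, IsOpen (U i)) (hsub : ∀ i, U i ⊆ W i)
    (hLC : ∀ i, IsLocallyConstant (fun x : W i => f x)) :
    IsLocallyConstant (fun x : (⋃ i, U i : Set X) => f x) := by
  rw [IsLocallyConstant.iff_exists_open]
  rintro ⟨x, hx⟩
  obtain ⟨i, hxi⟩ := Set.mem_iUnion.mp hx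
  obtain ⟨O, hO, hxO, hconst⟩ := (IsLocallyConstant.iff_exists_open _).mp (hLC i) ⟨x, hsub i hxi⟩
  obtain ⟨O', hO', rfl⟩ := isOpen_induced_iff.mp hO
  refine ⟨Subtype.val ⁻¹' (O' ∩ U i), (hO'.inter (hopen i)).preimage continuous_subtype_val,
    ⟨hxO, hxi⟩, ?_⟩
  rintro ⟨y, hy⟩ ⟨hyO, hyU⟩
  exact hconst ⟨y, hsub i hyU⟩ hyO

variable {A : Type u} [CommRing A] [IsNoetherianRing A]

/-- On each irreducible closed subset `V(𝔭)` there is a nonempty basic open piece `V(𝔭) ∩ D(g)` on which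
all `d_q`, `q ≤ N`, are locally constant. -/
theorem exists_locallyConstant_on_component (P : ChainComplex (ModuleCat.{u} A) ℤ)
    (hP : ∀ i, Module.Flat A (P.X i)) (i₀ : ℤ) (hb : ∀ i < i₀, IsZero (P.X i))
    (hfg : ∀ n : ℤ, Module.Finite A ((TFun P n).obj (ModuleCat.of A A))) (N : ℤ)
    (𝔭 : Ideal A) [𝔭.IsPrime] :
    ∃ g : A, g ∉ 𝔭 ∧ ∀ q ≤ N, IsLocallyConstant
      (fun x : ↥(PrimeSpectrum.zeroLocus (𝔭 : Set A) ∩
        (PrimeSpectrum.basicOpen g : Set (PrimeSpectrum A))) => dRank P q x) := by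
  -- the domain D = A/𝔭
  let PD := bcCx (algebraMap A (A ⧸ 𝔭)) P
  have hPD : ∀ i, Module.Flat (A ⧸ 𝔭) (PD.X i) := Groth.Agent.Lib.TFunBC.flat_bcCx_X _ P hP
  have hbD : ∀ i < i₀, IsZero (PD.X i) :=
    fun i hi => Functor.map_isZero (ModuleCat.extendScalars _) (hb i hi)
  have hfpD : ∀ n : ℤ, Module.FinitePresentation (A ⧸ 𝔭) (PD.homology n) := by
    intro n
    have h1 : Module.Finite A ((TFun P n).obj (ModuleCat.of A (A ⧸ 𝔭))) :=
      Groth.Agent.Lib.TFunFiniteBelow.finite_TFun_obj_of_bddBelow P hP i₀ hb hfg n _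
    have h2 : Module.Finite A ((RB (A := A) (A ⧸ 𝔭)).obj (PD.homology n)) :=
      Module.Finite.equiv (homologyCompare (A ⧸ 𝔭) P n).toLinearEquiv.symm
    have h3 : Module.Finite (A ⧸ 𝔭) (PD.homology n) :=
      @Module.Finite.of_restrictScalars_finite A (A ⧸ 𝔭) (PD.homology n) _ _ _
        (modA (A ⧸ 𝔭) _) _ _ (towerA (A ⧸ 𝔭) _) h2
    exact Module.finitePresentation_of_finite (A ⧸ 𝔭) _
  obtain ⟨f, hf0, hex⟩ := Groth.Agent.Lib.TFunGeneric.exists_exact_upTo_away PD hPD i₀ hbD hfpD N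
  obtain ⟨g, rfl⟩ := Ideal.Quotient.mk_surjective f
  refine ⟨g, fun hg => hf0 (Ideal.Quotient.eq_zero_iff_mem.mpr hg), fun q hq => ?_⟩
  -- the localization B = D_f
  let B := Localization.Away (Ideal.Quotient.mk 𝔭 g)
  let PB := bcCx (algebraMap (A ⧸ 𝔭) B) PD
  have hPB : ∀ i, Module.Flat B (PB.X i) := Groth.Agent.Lib.TFunBC.flat_bcCx_X _ PD hPD
  have hfpB : Module.FinitePresentation B ((TFun PB q).obj (ModuleCat.of B B)) := by
    have h0 : Module.Finite (A ⧸ 𝔭) (PD.homology q) := inferInstance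
    have h1 : Module.Finite B (B ⊗[A ⧸ 𝔭] (PD.homology q)) := inferInstance
    have h2 : Module.Finite B (PB.homology q) :=
      Module.Finite.equiv (Groth.Agent.Lib.TFunFlatBC.homologyFBEquiv B PD q).symm
    have h3 : Module.Finite B ((TFun PB q).obj (ModuleCat.of B B)) :=
      Module.Finite.equiv (TUnitIso PB q).toLinearEquiv.symm
    have : IsNoetherianRing B := inferInstance
    exact Module.finitePresentation_of_finite B _
  have hLC : IsLocallyConstant (dRank PB q) :=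
    isLocallyConstant_dRank_of_exact_of_fp PB hPB q (hex q hq) hfpB
  -- the embedding Spec B → Spec A
  let ψ₁ : PrimeSpectrum B → PrimeSpectrum (A ⧸ 𝔭) := PrimeSpectrum.comap (algebraMap (A ⧸ 𝔭) B)
  let ψ₂ : PrimeSpectrum (A ⧸ 𝔭) → PrimeSpectrum A := PrimeSpectrum.comap (algebraMap A (A ⧸ 𝔭))
  have hψ₁ : Topology.IsEmbedding ψ₁ :=
    (PrimeSpectrum.localization_away_isOpenEmbedding B (Ideal.Quotient.mk 𝔭 g)).toIsEmbedding
  have hψ₂ : Topology.IsEmbedding ψ₂ :=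
    PrimeSpectrum.isEmbedding_comap_of_surjective _ _ Ideal.Quotient.mk_surjective
  have hcomp : (dRank P q) ∘ (ψ₂ ∘ ψ₁) = dRank PB q := by
    funext y
    show dRank P q (ψ₂ (ψ₁ y)) = dRank PB q y
    rw [Groth.Agent.Lib.DRankBC.dRank_bcCx PD q y, Groth.Agent.Lib.DRankBC.dRank_bcCx P q (ψ₁ y)]
  refine isLocallyConstant_on_range (ψ₂ ∘ ψ₁) (hψ₂.comp hψ₁) (dRank P q) (hcomp ▸ hLC) _ ?_
  -- the range
  rw [Set.range_comp]
  have hr1 : Set.range ψ₁ = (PrimeSpectrum.basicOpen (Ideal.Quotient.mk 𝔭 g) : Set _) :=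
    PrimeSpectrum.localization_away_comap_range B (Ideal.Quotient.mk 𝔭 g)
  have hr2 : Set.range ψ₂ = PrimeSpectrum.zeroLocus (𝔭 : Set A) := by
    have := _root_.range_comap_of_surjective (A ⧸ 𝔭) (algebraMap A (A ⧸ 𝔭))
      Ideal.Quotient.mk_surjective
    rw [this]
    congr 1
    ext a
    simp
  have hpre : (PrimeSpectrum.basicOpen (Ideal.Quotient.mk 𝔭 g) : Set (PrimeSpectrum (A ⧸ 𝔭))) =
      ψ₂ ⁻¹' (PrimeSpectrum.basicOpen g : Set (PrimeSpectrum A)) := rfl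
  rw [hr1, hpre, Set.image_preimage_eq_inter_range, hr2, Set.inter_comm]

/-- Over a Noetherian ring there is a dense open subset of `Spec A` on which all `d_q`, `q ≤ N`, are
locally constant. -/
theorem exists_dense_open_locallyConstant (P : ChainComplex (ModuleCat.{u} A) ℤ)
    (hP : ∀ i, Module.Flat A (P.X i)) (i₀ : ℤ) (hb : ∀ i < i₀, IsZero (P.X i))
    (hfg : ∀ n : ℤ, Module.Finite A ((TFun P n).obj (ModuleCat.of A A))) (N : ℤ) :
    ∃ U : Set (PrimeSpectrum A), IsOpen U ∧ Dense U ∧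
      ∀ q ≤ N, IsLocallyConstant (fun x : U => dRank P q x) := by
  have hprime : ∀ 𝔭 : minimalPrimes A, (𝔭 : Ideal A).IsPrime := fun 𝔭 => 𝔭.2.1.1
  have hex : ∀ 𝔭 : minimalPrimes A, ∃ g : A, g ∉ (𝔭 : Ideal A) ∧ ∀ q ≤ N, IsLocallyConstant
      (fun x : ↥(PrimeSpectrum.zeroLocus ((𝔭 : Ideal A) : Set A) ∩
        (PrimeSpectrum.basicOpen g : Set (PrimeSpectrum A))) => dRank P q x) := fun 𝔭 =>
    have := hprime 𝔭
    exists_locallyConstant_on_component P hP i₀ hb hfg N 𝔭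
  choose g hg hgLC using hex
  have hfinite : (Set.univ : Set (minimalPrimes A)).Finite :=
    Set.finite_univ_iff.mpr (minimalPrimes.finite_of_isNoetherianRing A).to_subtype
  let Z : minimalPrimes A → Set (PrimeSpectrum A) := fun 𝔭 =>
    ⋃ 𝔭' ∈ {𝔭' : minimalPrimes A | 𝔭' ≠ 𝔭}, PrimeSpectrum.zeroLocus ((𝔭' : Ideal A) : Set A)
  have hZ : ∀ 𝔭, IsClosed (Z 𝔭) := fun 𝔭 =>
    (hfinite.subset (Set.subset_univ _)).isClosed_biUnion
      (fun 𝔭' _ => PrimeSpectrum.isClosed_zeroLocus _)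
  let U : minimalPrimes A → Set (PrimeSpectrum A) := fun 𝔭 =>
    (PrimeSpectrum.basicOpen (g 𝔭) : Set (PrimeSpectrum A)) ∩ (Z 𝔭)ᶜ
  have hU : ∀ 𝔭, IsOpen (U 𝔭) := fun 𝔭 =>
    (PrimeSpectrum.basicOpen (g 𝔭)).2.inter (hZ 𝔭).isOpen_compl
  have hsub : ∀ 𝔭, U 𝔭 ⊆ PrimeSpectrum.zeroLocus ((𝔭 : Ideal A) : Set A) ∩
      (PrimeSpectrum.basicOpen (g 𝔭) : Set (PrimeSpectrum A)) := by
    rintro 𝔭 x ⟨hx1, hx2⟩
    refine ⟨?_, hx1⟩
    obtain ⟨𝔮, h𝔮, hle⟩ := Ideal.exists_minimalPrimes_le (I := ⊥) (J := x.asIdeal) bot_le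
    by_cases h : (⟨𝔮, h𝔮⟩ : minimalPrimes A) = 𝔭
    · subst h
      exact hle
    · exfalso
      apply hx2
      exact Set.mem_biUnion (x := (⟨𝔮, h𝔮⟩ : minimalPrimes A)) h hle
  refine ⟨⋃ 𝔭, U 𝔭, isOpen_iUnion hU, ?_, fun q hq =>
    isLocallyConstant_iUnion (dRank P q) U _ hU hsub (fun 𝔭 => hgLC 𝔭 q hq)⟩
  -- density
  rw [dense_iff_inter_open]
  rintro O hO ⟨x, hxO⟩
  obtain ⟨𝔮, h𝔮, hle⟩ := Ideal.exists_minimalPrimes_le (I := ⊥) (J := x.asIdeal) bot_le
  have hq : 𝔮.IsPrime := h𝔮.1.1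
  let η : PrimeSpectrum A := ⟨𝔮, hq⟩
  have hspec : η ⤳ x := (PrimeSpectrum.le_iff_specializes η x).mp hle
  refine ⟨η, hspec.mem_open hO hxO, Set.mem_iUnion.mpr ⟨⟨𝔮, h𝔮⟩, hg ⟨𝔮, h𝔮⟩, ?_⟩⟩
  intro hη
  obtain ⟨𝔭', h𝔭', hmem⟩ := Set.mem_iUnion₂.mp hη
  apply h𝔭'
  have hle' : (𝔭' : Ideal A) ≤ 𝔮 := hmem
  have : 𝔮 ≤ (𝔭' : Ideal A) := h𝔮.2 ⟨hprime 𝔭', bot_le⟩ hle'
  exact Subtype.ext (le_antisymm hle' this)

end Groth.Agent.Lib.DRankDense
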