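import Groth.Agent.Lib.DRingZariski21
import Mathlib.RingTheory.Finiteness.Descent
import Mathlib.RingTheory.Flat.FaithfullyFlat.Basic

/-!
# Faithfully flat descent of `m`-pseudo-coherence in `D(R)` (Stacks 066B) (helper21)

* `isPseudoCoherent_of_faithfullyFlat`: for `R → R'` faithfully flat, `X ∈ D(R)` is `m`-pseudo-coherent if
  `X ⊗_R R'` is.
-/

set_option autoImplicit false
universe u

open CategoryTheory CategoryTheory.Limits TensorProduct

namespace Groth.Agent.Lib.DRingFFlat21

attribute [local instance] HasDerivedCategory.standard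

open Groth.Agent.Lib.DRingPCoh21 Groth.Agent.Lib.FlatBaseChangeD Groth.Agent.Lib.DRingZariski21

variable (R R' : Type u) [CommRing R] [CommRing R'] [Algebra R R'] [Module.FaithfullyFlat R R']

theorem isPseudoCoherent_of_faithfullyFlat (m : ℤ) (X : Dual.D R)
    (h : DRing.IsPseudoCoherent R' m ((FD R R').obj X)) : DRing.IsPseudoCoherent R m X := by
  obtain ⟨n, hn⟩ := Groth.Agent.Lib.PCohD.exists_bound ((isPseudoCoherent_iff _ m _).1 h)
  have hX : ∀ j : ℤ, n < j →
      IsZero ((DerivedCategory.homologyFunctor (ModuleCat.{u} R) j).obj X) := by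
    intro j hj
    have h1 : IsZero ((F R R').obj
        ((DerivedCategory.homologyFunctor (ModuleCat.{u} R) j).obj X)) :=
      IsZero.of_iso (hn j hj) (homologyFDIso R' X j).symm
    have := ModuleCat.subsingleton_of_isZero h1
    have h2 : Subsingleton (R' ⊗[R] ((DerivedCategory.homologyFunctor (ModuleCat.{u} R) j).obj X)) :=
      (objEquiv (A := R) (B := R') _).symm.subsingleton
    have : Subsingleton ((DerivedCategory.homologyFunctor (ModuleCat.{u} R) j).obj X) :=
      Module.FaithfullyFlat.lTensor_reflects_triviality R R' _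
    exact ModuleCat.isZero_of_subsingleton _
  rw [isPseudoCoherent_iff]
  refine Groth.Agent.Lib.PCohDescentFam21.descent (FF R)
    (C' := fun _ : Unit => ModuleCat.{u} R')
    (fun _ => FF R') (fun _ => FD R R')
    (ff_prod R) (fp_quasiStable R) (ff_quasiLiftable R)
    (fun _ => ff_prod _) (fun _ => fp_quasiStable _) (fun _ => ff_quasiLiftable _)
    ?_ ?_ ?_ m (n - m + 1).toNat n X ?_ hX (fun _ => (isPseudoCoherent_iff _ m _).1 h)
  · intro _ Y j hY
    exact IsZero.of_iso ((F R R').map_isZero hY) (homologyFDIso _ Y j)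
  · intro _ E hE a
    obtain ⟨h1, h2⟩ := hE
    have e : (FD R R').obj ((DerivedCategory.singleFunctor (ModuleCat.{u} R) 0).obj E) ≅
        (DerivedCategory.singleFunctor (ModuleCat.{u} R') 0).obj ((F R R').obj E) :=
      ((F R R').mapDerivedCategorySingleFunctor 0).app E
    have h3 : FF R' ((F R R').obj E) := ⟨finite_obj E, free_obj E⟩
    exact (PCohFPn21.npc_single_of_prop (FF R') _ h3 a).imp
      (fun E' hE' => ⟨hE'.1, ⟨hE'.2.some ≪≫ e.symm⟩⟩)
  · intro Y k hY
    rw [isOfFiniteType_iff]
    have h1 : Module.Finite R'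
        ((DerivedCategory.homologyFunctor (ModuleCat.{u} R') k).obj ((FD R R').obj Y)) :=
      (isOfFiniteType_iff _ _).1 (hY ())
    have h2 : Module.Finite R' ((F R R').obj
        ((DerivedCategory.homologyFunctor (ModuleCat.{u} R) k).obj Y)) :=
      Module.Finite.equiv (homologyFDIso _ Y k).toLinearEquiv
    have h3 : Module.Finite R'
        (R' ⊗[R] ((DerivedCategory.homologyFunctor (ModuleCat.{u} R) k).obj Y)) :=
      Module.Finite.equiv (objEquiv (A := R) (B := R') _)
    exact Module.Finite.of_finite_tensorProduct_of_faithfullyFlat R'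
  · have : n - m + 1 ≤ ((n - m + 1).toNat : ℤ) := Int.self_le_toNat _
    lia

end Groth.Agent.Lib.DRingFFlat21
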