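import Groth.Agent.Lib.PCohFPn21
import Mathlib.Algebra.Module.FinitePresentation
import Mathlib.Algebra.Category.ModuleCat.Kernels

/-!
# Bridge PCoh ↔ DRing, part C (helper21): finitely generated / finitely presented modules

* `isPseudoCoherent_single_zero_iff`: `M[0]` is `0`-pseudo-coherent iff `M` is finite.
* `isPseudoCoherent_single_neg_one_iff`: `M[0]` is `(-1)`-pseudo-coherent iff `M` is finitely presented.
* `isPseudoCoherent_of_isZero`.
-/

set_option autoImplicit false
universe u

open CategoryTheory CategoryTheory.Limits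

namespace Groth.Agent.Lib.DRingPCoh21

variable (A : Type u) [CommRing A]

lemma finite_kernel_iff {E M : ModuleCat.{u} A} (π : E ⟶ M) :
    Module.Finite A (kernel π : ModuleCat.{u} A) ↔ (LinearMap.ker π.hom).FG := by
  rw [← Module.Finite.iff_fg]
  exact Module.Finite.equiv_iff (ModuleCat.kernelIsoKer π).toLinearEquiv

lemma fpn_one_iff (M : ModuleCat.{u} A) :
    PCohFPn21.FPn (FF A) 1 M ↔ Module.FinitePresentation A M := by
  constructor
  · rintro ⟨E, π, ⟨h1, h2⟩, hπ, hK⟩
    have hK' : PCoh.IsOfFiniteType (FF A) (kernel π) := hK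
    rw [isOfFiniteType_iff, finite_kernel_iff] at hK'
    exact Module.finitePresentation_of_free_of_surjective π.hom
      ((ModuleCat.epi_iff_surjective π).1 hπ) hK'
  · intro h
    obtain ⟨n, f, hf⟩ := Module.Finite.exists_fin' A M
    have hfin : Module.Finite A (Fin n → A) := inferInstance
    have hker : (LinearMap.ker f).FG := Module.FinitePresentation.fg_ker f hf
    refine ⟨ModuleCat.of A (Fin n → A), ModuleCat.ofHom f,
      ⟨hfin, inferInstanceAs (Module.Free A (Fin n → A))⟩,
      (ModuleCat.epi_iff_surjective _).2 hf, ?_⟩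
    change PCoh.IsOfFiniteType (FF A) (kernel (ModuleCat.ofHom f))
    rw [isOfFiniteType_iff, finite_kernel_iff]
    exact hker

attribute [local instance] HasDerivedCategory.standard

theorem isPseudoCoherent_single_zero_iff (M : ModuleCat.{u} A) :
    DRing.IsPseudoCoherent A 0 ((DerivedCategory.singleFunctor (ModuleCat.{u} A) 0).obj M) ↔
      Module.Finite A M := by
  rw [isPseudoCoherent_iff, ← isOfFiniteType_iff]
  exact PCohFPn21.isNPC_single_zero_iff (FF A) (ff_prod A) (fp_quasiStable A) (ff_quasiLiftable A) M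

theorem isPseudoCoherent_single_neg_one_iff (M : ModuleCat.{u} A) :
    DRing.IsPseudoCoherent A (-1) ((DerivedCategory.singleFunctor (ModuleCat.{u} A) 0).obj M) ↔
      Module.FinitePresentation A M := by
  rw [isPseudoCoherent_iff, ← fpn_one_iff]
  exact PCohFPn21.isNPC_single_iff_FPn (FF A) (ff_prod A) (fp_quasiStable A) (ff_quasiLiftable A) 1 M

theorem isPseudoCoherent_single_of_ff (M : ModuleCat.{u} A) (hM : FF A M) (n : ℤ) :
    DRing.IsPseudoCoherent A n ((DerivedCategory.singleFunctor (ModuleCat.{u} A) 0).obj M) := by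
  rw [isPseudoCoherent_iff]
  exact PCohFPn21.npc_single_of_prop (FF A) M hM n

theorem isPseudoCoherent_single_of_subsingleton (M : ModuleCat.{u} A) [Subsingleton M] (n : ℤ) :
    DRing.IsPseudoCoherent A n ((DerivedCategory.singleFunctor (ModuleCat.{u} A) 0).obj M) :=
  isPseudoCoherent_single_of_ff A M (ff_of_subsingleton A M) n

end Groth.Agent.Lib.DRingPCoh21
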