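import Groth.Prelude.Def_PCoh
import Groth.Agent.Lib.H43ConeMod
import Groth.Agent.S5602
import Groth.Agent.S5597
import Groth.Agent.S5600
import Mathlib.Algebra.Homology.DerivedCategory.Fractions
import Mathlib.Algebra.Homology.DerivedCategory.HomologySequence
import Mathlib.Algebra.Homology.Single

/-!
Pseudo-coherence over an abelian category (SGA6 I, punctual case): derived-category level tools.

* `NQis n u`: `u` is an `n`-quasi-isomorphism.
* `exists_single_epi`: an object of `P` in degree `n` mapping onto `H^n` of finite type.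
* `modification_step`: the modification lemma keeping track of the terms.
* `exists_quasiIso_of_iso`: a complex isomorphic in `D(C)` to a strictly `n`-pc complex receives a
  quasi-isomorphism from a strictly `n`-pc complex.
* `finiteType_cone`: finite type of `H^{k-1}` of the cone of a `k`-quasi-isomorphism.
* `descend`: descending induction improving an `(n+d)`-quasi-isomorphism to an `n`-quasi-isomorphism.
* `exists_factor_qis`: final factorisation through a quasi-isomorphism.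
-/

set_option autoImplicit false
universe w v u

open CategoryTheory CategoryTheory.Limits HomologicalComplex

namespace Groth.Agent.Lib.H43PCohD

variable {C : Type u} [Category.{v} C] [Abelian C]

/-- `u` is an isomorphism on `H^i` for `i > n` and an epimorphism on `H^n`. -/
def NQis (n : ℤ) {E F : CochainComplex C ℤ} (u : E ⟶ F) : Prop :=
  (∀ i : ℤ, n < i → IsIso (homologyMap u i)) ∧ Epi (homologyMap u n)

lemma NQis.mono {n : ℤ} {E F : CochainComplex C ℤ} {u : E ⟶ F} (h : NQis n u) (i : ℤ)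
    (hi : n < i) : Mono (homologyMap u i) := by
  have := h.1 i hi
  infer_instance

lemma NQis.epi {n : ℤ} {E F : CochainComplex C ℤ} {u : E ⟶ F} (h : NQis n u) (i : ℤ)
    (hi : n ≤ i) : Epi (homologyMap u i) := by
  rcases hi.lt_or_eq with h' | h'
  · have := h.1 i h'
    infer_instance
  · rw [← h']; exact h.2

lemma NQis.isZero_homology_cone {n : ℤ} {E F : CochainComplex C ℤ} {u : E ⟶ F} (h : NQis n u)
    (i : ℤ) (hi : n ≤ i) : IsZero ((CochainComplex.mappingCone u).homology i) :=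
  Groth.Agent.Lib.H43ConeMod.isZero_homology_mappingCone u i (h.mono (i + 1) (by lia))
    (h.epi i hi)

lemma nqis_of_quasiIso {E F : CochainComplex C ℤ} (u : E ⟶ F) (hu : QuasiIso u) (n : ℤ) :
    NQis n u := by
  have h : ∀ i : ℤ, IsIso (homologyMap u i) := fun i => by
    rw [← quasiIsoAt_iff_isIso_homologyMap]; infer_instance
  exact ⟨fun i _ => h i, by have := h n; infer_instance⟩

variable (P : ObjectProperty C)

lemma isStrictPC_mono {n n' : ℤ} (h : n ≤ n') {E : CochainComplex C ℤ}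
    (hE : PCoh.IsStrictPC P n E) : PCoh.IsStrictPC P n' E :=
  ⟨hE.1, fun i hi => hE.2 i (h.trans hi)⟩

/-- an object of `P` placed in degree `n` mapping onto `H^n(X)` -/
theorem exists_single_epi (hql : PCoh.IsQuasiLiftable P) (X : CochainComplex C ℤ) (n : ℤ)
    (hft : PCoh.IsOfFiniteType P (X.homology n)) :
    ∃ (P' : C) (j : (HomologicalComplex.single C (ComplexShape.up ℤ) n).obj P' ⟶ X),
      P P' ∧ Epi (homologyMap j n) := by
  obtain ⟨P₀, π₀, hP₀, hπ₀⟩ := hft
  let p := X.homologyπ n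
  have hfst : Epi (pullback.fst π₀ p) := inferInstance
  obtain ⟨P', g, hP', hg⟩ := hql _ _ (pullback.fst π₀ p) hfst hP₀
  let z₀ : P' ⟶ X.cycles n := g ≫ pullback.snd π₀ p
  have hz₀ : Epi (z₀ ≫ p) := by
    have : z₀ ≫ p = (g ≫ pullback.fst π₀ p) ≫ π₀ := by
      dsimp only [z₀]
      rw [Category.assoc, Category.assoc, pullback.condition]
    rw [this]
    infer_instance
  let T : CochainComplex C ℤ := (HomologicalComplex.single C (ComplexShape.up ℤ) n).obj P'
  let j : T ⟶ X := HomologicalComplex.mkHomFromSingle (z₀ ≫ X.iCycles n) (fun k _ => by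
    rw [Category.assoc, HomologicalComplex.iCycles_d, comp_zero])
  have hjn : j.f n = (HomologicalComplex.singleObjXSelf (ComplexShape.up ℤ) n P').hom ≫
      z₀ ≫ X.iCycles n := HomologicalComplex.mkHomFromSingle_f _ _
  refine ⟨P', j, hP', ?_⟩
  rw [HomologicalComplex.epi_homologyMap_iff_up_to_refinements _ (n - 1) n (n + 1)
    (by simp) (by simp)]
  intro A y₂ hy₂
  obtain ⟨A₁, π₁, hπ₁, s, hs⟩ := surjective_up_to_refinements_of_epi (z₀ ≫ p)
    (X.liftCycles y₂ (n + 1) (by simp) hy₂ ≫ p)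
  have hs' : (π₁ ≫ X.liftCycles y₂ (n + 1) (by simp) hy₂) ≫ X.homologyπ n =
      (s ≫ z₀) ≫ X.homologyπ n := by
    rw [Category.assoc, Category.assoc]; exact hs
  rw [X.comp_homologyπ_eq_iff_up_to_refinements (n - 1) n (by simp)] at hs'
  obtain ⟨A₂, π₂, hπ₂, x₁, hx₁⟩ := hs'
  have hx₁' := hx₁ =≫ X.iCycles n
  simp only [Category.assoc, HomologicalComplex.liftCycles_i, Preadditive.add_comp,
    HomologicalComplex.toCycles_i] at hx₁'
  refine ⟨A₂, π₂ ≫ π₁, inferInstance,
    π₂ ≫ s ≫ (HomologicalComplex.singleObjXSelf (ComplexShape.up ℤ) n P').inv, ?_, x₁, ?_⟩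
  · simp
  · rw [Category.assoc, hx₁', hjn]
    simp

variable [P.IsClosedUnderIsomorphisms]

/-- the modification lemma, keeping track of the terms -/
theorem modification_step (hsum : ∀ X Y : C, P X → P Y → P (X ⨯ Y))
    (hql : PCoh.IsQuasiLiftable P) (n : ℤ) (E F : CochainComplex C ℤ) (u : E ⟶ F)
    (hu : NQis (n + 1) u)
    (hcone : PCoh.IsOfFiniteType P ((CochainComplex.mappingCone u).homology n)) :
    ∃ (E' : CochainComplex C ℤ) (v : E ⟶ E') (u' : E' ⟶ F), v ≫ u' = u ∧
      (∀ i : ℤ, Mono (v.f i)) ∧ (∀ i : ℤ, i ≠ n → IsIso (v.f i)) ∧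
      (P (E.X n) → P (E'.X n)) ∧ NQis n u' := by
  obtain ⟨P', j, hP', hjn⟩ := exists_single_epi P hql (CochainComplex.mappingCone u) n hcone
  have hTz : ∀ i : ℤ, i ≠ n →
      IsZero (((HomologicalComplex.single C (ComplexShape.up ℤ) n).obj P').X i) := fun i hi =>
    HomologicalComplex.isZero_single_obj_X (ComplexShape.up ℤ) n P' i hi
  have hEj : ∀ i : ℤ, n ≤ i → Epi (homologyMap j i) := by
    intro i hi
    rcases hi.lt_or_eq with h | h
    · exact ⟨fun a b _ => (hu.isZero_homology_cone i (by lia)).eq_of_src a b⟩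
    · subst h; exact hjn
  have hMj : ∀ i : ℤ, n < i → Mono (homologyMap j i) := by
    intro i hi
    rw [HomologicalComplex.mono_homologyMap_iff_up_to_refinements _ (i - 1) i (i + 1)
      (by simp) (by simp)]
    intro A x₂ _ _ _
    exact ⟨A, 𝟙 A, inferInstance, 0, (hTz i (by lia)).eq_of_tgt _ _⟩
  refine ⟨Groth.Agent.Lib.H43ConeMod.Emod u j, Groth.Agent.Lib.H43ConeMod.vmap u j,
    Groth.Agent.Lib.H43ConeMod.umap u j, Groth.Agent.Lib.H43ConeMod.vmap_umap u j,
    fun i => inferInstance,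
    fun i hi => Groth.Agent.Lib.H43ConeMod.isIso_vmap_f u j i (hTz i hi), fun hE => ?_,
    ⟨fun i hi => ?_, Groth.Agent.Lib.H43ConeMod.epi_homologyMap_umap u j n (hEj n le_rfl)⟩⟩
  · have e : ((HomologicalComplex.single C (ComplexShape.up ℤ) n).obj P').X n ⊞ E.X n ≅
        P' ⨯ E.X n :=
      biprod.mapIso (HomologicalComplex.singleObjXSelf (ComplexShape.up ℤ) n P') (Iso.refl _) ≪≫
        biprod.isoProd _ _
    exact P.prop_of_iso e.symm (hsum _ _ hP' hE)
  · have h1 := Groth.Agent.Lib.H43ConeMod.epi_homologyMap_umap u j i (hEj i hi.le)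
    have h2 := Groth.Agent.Lib.H43ConeMod.mono_homologyMap_umap u j i (hEj (i - 1) (by lia))
      (hMj i hi)
    exact isIso_of_mono_of_epi _

/-- final factorisation of an `n`-quasi-isomorphism from a strictly `n`-pc complex -/
theorem exists_factor_qis (n : ℤ) (G X : CochainComplex C ℤ) (hG : PCoh.IsStrictPC P n G)
    (w : G ⟶ X) (hw : NQis n w) :
    ∃ (E' : CochainComplex C ℤ) (v : G ⟶ E') (u' : E' ⟶ X), v ≫ u' = w ∧
      PCoh.IsStrictPC P n E' ∧ QuasiIso u' ∧ (∀ j : ℤ, Mono (v.f j)) ∧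
      (∀ j : ℤ, n ≤ j → IsIso (v.f j)) := by
  obtain ⟨E', v, u', hvu, hq, hm, hi⟩ := Groth.Agent.S5600.result n G X w hw.1 hw.2
  obtain ⟨⟨b, hb⟩, hGP⟩ := hG
  refine ⟨E', v, u', hvu, ⟨⟨max b (n - 1), fun i hi' => ?_⟩, fun i hi' => ?_⟩, hq, hm, hi⟩
  · have := hi i (by have := le_max_right b (n - 1); lia)
    exact IsZero.of_iso (hb i (lt_of_le_of_lt (le_max_left _ _) hi')) (asIso (v.f i)).symm
  · have := hi i hi'
    exact P.prop_of_iso (asIso (v.f i)) (hGP i hi')

variable [P.ContainsZero] [HasDerivedCategory.{w} C]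

/-- a complex isomorphic in `D(C)` to a strictly `n`-pc complex receives a quasi-isomorphism from
a strictly `n`-pc complex -/
theorem exists_quasiIso_of_iso (hsum : ∀ X Y : C, P X → P Y → P (X ⨯ Y))
    (hqs : PCoh.IsQuasiStableUnderKernels P) (hql : PCoh.IsQuasiLiftable P) (n : ℤ)
    (F₀ X : CochainComplex C ℤ) (hF₀ : PCoh.IsStrictPC P n F₀)
    (e : DerivedCategory.Q.obj F₀ ≅ DerivedCategory.Q.obj X) :
    ∃ (F' : CochainComplex C ℤ) (v : F' ⟶ X), PCoh.IsStrictPC P n F' ∧ QuasiIso v := by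
  obtain ⟨X', s, hs, g, hfac⟩ := DerivedCategory.right_fac e.hom
  have hg : IsIso (DerivedCategory.Q.map g) := by
    have : DerivedCategory.Q.map g = DerivedCategory.Q.map s ≫ e.hom := by
      rw [hfac, IsIso.hom_inv_id_assoc]
    rw [this]; infer_instance
  rw [DerivedCategory.isIso_Q_map_iff_quasiIso] at hs hg
  obtain ⟨F', v', hF', hv'⟩ := Groth.Agent.S5597.result P hsum hqs hql n X' F₀ hF₀ s hs
  exact ⟨F', v' ≫ g, hF', inferInstance⟩

/-- homology of the image in the derived category -/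
noncomputable def homologyIso (X : CochainComplex C ℤ) (i : ℤ) :
    (DerivedCategory.homologyFunctor C i).obj (DerivedCategory.Q.obj X) ≅ X.homology i :=
  (DerivedCategory.homologyFunctorFactors C i).app X

/-- finite type of `H^{k-1}` of the cone of a `k`-quasi-isomorphism -/
theorem finiteType_cone (hsum : ∀ X Y : C, P X → P Y → P (X ⨯ Y))
    (hqs : PCoh.IsQuasiStableUnderKernels P) (hql : PCoh.IsQuasiLiftable P) (k : ℤ)
    (X G : CochainComplex C ℤ)
    (hX : ∃ F₀ : CochainComplex C ℤ, PCoh.IsStrictPC P (k - 1) F₀ ∧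
      Nonempty (DerivedCategory.Q.obj F₀ ≅ DerivedCategory.Q.obj X))
    (hG : PCoh.IsStrictPC P k G) (w : G ⟶ X) (hw : NQis k w) :
    PCoh.IsOfFiniteType P ((CochainComplex.mappingCone w).homology (k - 1)) := by
  obtain ⟨F₀, hF₀, ⟨e⟩⟩ := hX
  obtain ⟨F', s, hF', hs⟩ := exists_quasiIso_of_iso P hsum hqs hql (k - 1) F₀ X hF₀ e
  have hsI : IsIso (DerivedCategory.Q.map s) :=
    (DerivedCategory.isIso_Q_map_iff_quasiIso C s).2 hs
  obtain ⟨G', t, ht, h, hfac⟩ :=
    DerivedCategory.right_fac (DerivedCategory.Q.map w ≫ inv (DerivedCategory.Q.map s))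
  have htq : QuasiIso t := (DerivedCategory.isIso_Q_map_iff_quasiIso C t).1 ht
  obtain ⟨G'', t', hG'', ht'⟩ := Groth.Agent.S5597.result P hsum hqs hql k G' G hG t htq
  let t₂ := t' ≫ t
  let h₂ := t' ≫ h
  have ht₂ : QuasiIso t₂ := inferInstance
  have ht₂I : IsIso (DerivedCategory.Q.map t₂) :=
    (DerivedCategory.isIso_Q_map_iff_quasiIso C t₂).2 ht₂
  have hcomm : DerivedCategory.Q.map h₂ ≫ DerivedCategory.Q.map s =
      DerivedCategory.Q.map t₂ ≫ DerivedCategory.Q.map w := by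
    have h1 : DerivedCategory.Q.map h = DerivedCategory.Q.map t ≫
        DerivedCategory.Q.map w ≫ inv (DerivedCategory.Q.map s) := by
      rw [hfac, IsIso.hom_inv_id_assoc]
    dsimp only [h₂, t₂]
    rw [Functor.map_comp, Functor.map_comp, h1]
    simp only [Category.assoc, IsIso.inv_hom_id, Category.comp_id]
  -- the cone of h₂ is strictly (k-1)-pc
  let K := CochainComplex.mappingCone h₂
  have hK : PCoh.IsStrictPC P (k - 1) K := by
    obtain ⟨⟨b₁, hb₁⟩, hP₁⟩ := hG''
    obtain ⟨⟨b₂, hb₂⟩, hP₂⟩ := hF'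
    refine ⟨⟨max b₁ b₂, fun i hi => ?_⟩, fun i hi => ?_⟩
    · rw [CochainComplex.mappingCone.isZero_X_iff]
      exact ⟨hb₁ _ (by have := le_max_left b₁ b₂; lia),
        hb₂ _ (lt_of_le_of_lt (le_max_right _ _) hi)⟩
    · exact P.prop_of_iso ((HomologicalComplex.homotopyCofiber.XIsoBiprod h₂ i (i + 1) rfl) ≪≫
        biprod.isoProd _ _).symm (hsum _ _ (hP₁ (i + 1) (by lia)) (hP₂ i hi))
  -- comparison of the two cones in the derived category
  let T₁ := DerivedCategory.Q.mapTriangle.obj (CochainComplex.mappingCone.triangle h₂)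
  let T₂ := DerivedCategory.Q.mapTriangle.obj (CochainComplex.mappingCone.triangle w)
  have hT₁ : T₁ ∈ distTriang _ := DerivedCategory.mappingCone_triangle_distinguished h₂
  have hT₂ : T₂ ∈ distTriang _ := DerivedCategory.mappingCone_triangle_distinguished w
  let e₃ : T₁ ≅ T₂ := Pretriangulated.isoTriangleOfIso₁₂ T₁ T₂ hT₁ hT₂
    (@asIso _ _ _ _ (DerivedCategory.Q.map t₂) ht₂I) (@asIso _ _ _ _ (DerivedCategory.Q.map s) hsI)
    hcomm
  have eH : ∀ i : ℤ, K.homology i ≅ (CochainComplex.mappingCone w).homology i := fun i =>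
    (homologyIso K i).symm ≪≫
      (DerivedCategory.homologyFunctor C i).mapIso (Pretriangulated.Triangle.π₃.mapIso e₃) ≪≫
      homologyIso (CochainComplex.mappingCone w) i
  have hKac : ∀ i : ℤ, k - 1 < i → IsZero (K.homology i) := fun i hi =>
    IsZero.of_iso (hw.isZero_homology_cone i (by lia)) (eH i)
  obtain ⟨P₀, π₀, hP₀, hπ₀⟩ := Groth.Agent.S5602.result P hqs (k - 1) K hK hKac
  exact ⟨P₀, π₀ ≫ (eH (k - 1)).hom, hP₀, inferInstance⟩

/-- descending induction: an `(n+d)`-quasi-isomorphism from a strictly `n`-pc complex to an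
`n`-pc complex can be improved to an `n`-quasi-isomorphism -/
theorem descend (hsum : ∀ X Y : C, P X → P Y → P (X ⨯ Y))
    (hqs : PCoh.IsQuasiStableUnderKernels P) (hql : PCoh.IsQuasiLiftable P) (n : ℤ)
    (X : CochainComplex C ℤ)
    (hX : ∃ F₀ : CochainComplex C ℤ, PCoh.IsStrictPC P n F₀ ∧
      Nonempty (DerivedCategory.Q.obj F₀ ≅ DerivedCategory.Q.obj X)) (d : ℕ) :
    ∀ (G₀ : CochainComplex C ℤ) (w₀ : G₀ ⟶ X), PCoh.IsStrictPC P n G₀ → NQis (n + d) w₀ →
      ∃ (G : CochainComplex C ℤ) (v : G₀ ⟶ G) (w : G ⟶ X), v ≫ w = w₀ ∧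
        PCoh.IsStrictPC P n G ∧ (∀ j : ℤ, Mono (v.f j)) ∧
        (∀ j : ℤ, j < n ∨ n + d ≤ j → IsIso (v.f j)) ∧ NQis n w := by
  induction d with
  | zero =>
    intro G₀ w₀ hG₀ hw₀
    refine ⟨G₀, 𝟙 _, w₀, Category.id_comp _, hG₀, fun j => ?_, fun j _ => ?_, ?_⟩
    · rw [HomologicalComplex.id_f]; infer_instance
    · rw [HomologicalComplex.id_f]; infer_instance
    · simpa using hw₀
  | succ d ih =>
    intro G₀ w₀ hG₀ hw₀
    obtain ⟨k, hk⟩ : ∃ k : ℤ, k = n + (d : ℤ) + 1 := ⟨_, rfl⟩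
    have hk' : n + ((d + 1 : ℕ) : ℤ) = k := by push_cast; lia
    rw [hk'] at hw₀
    obtain ⟨F₀, hF₀, he⟩ := hX
    have hft := finiteType_cone P hsum hqs hql k X G₀
      ⟨F₀, isStrictPC_mono P (by lia) hF₀, he⟩ (isStrictPC_mono P (by lia) hG₀) w₀ hw₀
    have hk1 : k - 1 + 1 = k := by lia
    obtain ⟨G₁, v₁, w₁, hv₁w₁, hm₁, hi₁, hP₁, hw₁⟩ := modification_step P hsum hql (k - 1) G₀ X w₀
      (by rw [hk1]; exact hw₀) hft
    have hG₁ : PCoh.IsStrictPC P n G₁ := by
      obtain ⟨⟨b, hb⟩, hGP⟩ := hG₀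
      refine ⟨⟨max b (k - 1), fun i hi => ?_⟩, fun i hi => ?_⟩
      · have := hi₁ i (by have := le_max_right b (k - 1); lia)
        exact IsZero.of_iso (hb i (lt_of_le_of_lt (le_max_left _ _) hi)) (asIso (v₁.f i)).symm
      · by_cases hik : i = k - 1
        · subst hik
          exact hP₁ (hGP _ hi)
        · have := hi₁ i hik
          exact P.prop_of_iso (asIso (v₁.f i)) (hGP i hi)
    have hkd : k - 1 = n + (d : ℤ) := by lia
    rw [hkd] at hw₁
    obtain ⟨G, v₂, w, hv₂w, hG, hm₂, hi₂, hw⟩ := ih G₁ w₁ hG₁ hw₁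
    refine ⟨G, v₁ ≫ v₂, w, by rw [Category.assoc, hv₂w, hv₁w₁], hG, fun j => ?_, fun j hj => ?_,
      hw⟩
    · have := hm₁ j
      have := hm₂ j
      rw [HomologicalComplex.comp_f]; infer_instance
    · have h1 : IsIso (v₁.f j) := hi₁ j (by lia)
      have h2 : IsIso (v₂.f j) := hi₂ j (by
        rcases hj with hj | hj
        · exact Or.inl hj
        · exact Or.inr (by push_cast at hj; lia))
      rw [HomologicalComplex.comp_f]; infer_instance

end Groth.Agent.Lib.H43PCohD
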