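import Groth.Agent.Lib.DRingPCoh21C
import Groth.Agent.Lib.CoherentRing21
import Groth.Agent.S5608

/-!
# Bridge PCoh ↔ DRing, part D (helper21): coherent rings (Stacks 15.64.18)

* `isPseudoCoherent_iff_of_coherent`: over a coherent ring, `K` with bounded above cohomology is
  `m`-pseudo-coherent iff `H^m(K)` is finite and `H^i(K)` is finitely presented for `i > m`.
* `isPseudoCoherent'_iff_of_coherent`.
-/

set_option autoImplicit false
universe u

open CategoryTheory CategoryTheory.Limits

namespace Groth.Agent.Lib.DRingPCoh21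

variable (R : Type u) [CommRing R]
  (hR : ∀ I : Ideal R, I.FG → Module.FinitePresentation R I)

include hR in
lemma ff_coherent (X E : ModuleCat.{u} R) (u : E ⟶ X) (hX : FF R X) (hE : FF R E) :
    PCoh.IsOfFiniteType (FF R) (kernel u) := by
  obtain ⟨h1, h2⟩ := hX
  obtain ⟨h3, h4⟩ := hE
  rw [isOfFiniteType_iff, finite_kernel_iff]
  exact CoherentRing21.fg_ker_of_finite_free hR u.hom

include hR in
lemma precoherent_iff (M : ModuleCat.{u} R) :
    (PCoh.IsOfFiniteType (FF R) M ∧
      ∀ (E : ModuleCat.{u} R) (u : E ⟶ M), FF R E → PCoh.IsOfFiniteType (FF R) (kernel u)) ↔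
      Module.FinitePresentation R M := by
  constructor
  · rintro ⟨h1, h2⟩
    rw [isOfFiniteType_iff] at h1
    obtain ⟨n, π, hπ⟩ := Module.Finite.exists_fin' R M
    have h3 := h2 (ModuleCat.of R (Fin n → R)) (ModuleCat.ofHom π)
      ⟨inferInstanceAs (Module.Finite R (Fin n → R)), inferInstanceAs (Module.Free R (Fin n → R))⟩
    rw [isOfFiniteType_iff, finite_kernel_iff] at h3
    exact Module.finitePresentation_of_free_of_surjective π hπ h3
  · intro h
    refine ⟨(isOfFiniteType_iff R M).2 inferInstance, fun E u hE => ?_⟩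
    obtain ⟨h3, h4⟩ := hE
    rw [isOfFiniteType_iff, finite_kernel_iff]
    exact CoherentRing21.fg_ker_of_finitePresentation hR u.hom

attribute [local instance] HasDerivedCategory.standard

include hR in
theorem isPseudoCoherent_iff_of_coherent (K : Dual.D R)
    (hb : ∃ b : ℤ, ∀ i : ℤ, b < i → Subsingleton (Dual.HD R K i)) (m : ℤ) :
    DRing.IsPseudoCoherent R m K ↔
      Module.Finite R (Dual.HD R K m) ∧
        ∀ i : ℤ, m < i → Module.FinitePresentation R (Dual.HD R K i) := by
  obtain ⟨b, hb⟩ := hb
  have hb' : ∀ i : ℤ, b < i →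
      IsZero ((DerivedCategory.homologyFunctor (ModuleCat.{u} R) i).obj K) := fun i hi => by
    have := hb i hi
    exact ModuleCat.isZero_of_subsingleton _
  rw [isPseudoCoherent_iff]
  refine (Groth.Agent.S5608.result (FF R) (ff_prod R) (ff_quasiLiftable R) (ff_coherent R hR)
    m K b hb').trans ?_
  refine and_congr (isOfFiniteType_iff R _) (forall_congr' fun i => forall_congr' fun _ => ?_)
  exact precoherent_iff R hR _

include hR in
theorem isPseudoCoherent'_iff_of_coherent (K : Dual.D R)
    (hb : ∃ b : ℤ, ∀ i : ℤ, b < i → Subsingleton (Dual.HD R K i)) :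
    DRing.IsPseudoCoherent' R K ↔ ∀ i : ℤ, Module.FinitePresentation R (Dual.HD R K i) := by
  rw [isPseudoCoherent'_iff_forall]
  constructor
  · intro h i
    exact ((isPseudoCoherent_iff_of_coherent R hR K hb (i - 1)).1 (h (i - 1))).2 i (by lia)
  · intro h m
    exact (isPseudoCoherent_iff_of_coherent R hR K hb m).2
      ⟨have := h m; inferInstance, fun i _ => h i⟩

end Groth.Agent.Lib.DRingPCoh21
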