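import Mathlib

/-!
# Steinitz exchange for generators of ideals in a local ring, and prime avoidance with two
arbitrary ideals (helper33)
-/

set_option autoImplicit false
universe u

namespace Groth.Agent.Lib.DSeq33

open IsLocalRing

open scoped Classical in
/-- **Exchange**: if `I ⊔ span s = P` in a local ring and `t ∈ P` is not in `I ⊔ 𝔪 P`, then `t` can
replace one of the elements of `s`. -/
theorem exchange {R : Type u} [CommRing R] [IsLocalRing R] {I P : Ideal R} {s : Finset R}
    (hs : (s : Set R) ⊆ P) (hI : I ≤ P) (hspan : I ⊔ Ideal.span (s : Set R) = P) {t : R}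
    (htP : t ∈ P) (ht : t ∉ I ⊔ maximalIdeal R * P) :
    ∃ n ∈ s, (I ⊔ Ideal.span {t}) ⊔ Ideal.span ((s.erase n : Finset R) : Set R) = P := by
  have h1 : t ∈ I ⊔ Ideal.span (s : Set R) := hspan ▸ htP
  obtain ⟨x, hx, y, hy, hxy⟩ := Submodule.mem_sup.mp h1
  obtain ⟨a, -, ha⟩ := Submodule.mem_span_finset.mp hy
  by_contra hcon
  push Not at hcon
  have hall : ∀ n ∈ s, a n ∈ maximalIdeal R := by
    intro n hn
    by_contra hnm
    have hu : IsUnit (a n) := by
      by_contra hnu
      exact hnm ((mem_maximalIdeal _).mpr hnu)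
    apply hcon n hn
    apply le_antisymm
    · refine sup_le (sup_le hI ?_) ?_
      · rw [Ideal.span_le]; exact Set.singleton_subset_iff.mpr htP
      · rw [Ideal.span_le]
        exact (Finset.coe_subset.mpr (Finset.erase_subset n s)).trans hs
    · rw [← hspan]
      refine sup_le (le_sup_of_le_left le_sup_left) ?_
      rw [Ideal.span_le]
      intro n' hn'
      by_cases hnn : n' = n
      · subst hnn
        -- `a n' * n' = t - x - ∑ erase`
        have hsum : ∑ j ∈ s, a j • j = a n' • n' + ∑ j ∈ s.erase n', a j • j := by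
          rw [Finset.add_sum_erase s (fun j => a j • j) hn]
        have hmem : a n' * n' ∈
            (I ⊔ Ideal.span {t}) ⊔ Ideal.span ((s.erase n' : Finset R) : Set R) := by
          have : a n' * n' = t - x - ∑ j ∈ s.erase n', a j • j := by
            rw [← hxy, ← ha, hsum]
            simp only [smul_eq_mul]
            ring
          rw [this]
          refine Ideal.sub_mem _ (Ideal.sub_mem _ ?_ ?_) ?_
          · exact Ideal.mem_sup_left (Ideal.mem_sup_right (Ideal.subset_span rfl))
          · exact Ideal.mem_sup_left (Ideal.mem_sup_left hx)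
          · refine Ideal.mem_sup_right (Ideal.sum_mem _ fun j hj => ?_)
            exact Ideal.mul_mem_left _ _ (Ideal.subset_span (Finset.mem_coe.mpr hj))
        obtain ⟨u, hu'⟩ := hu
        have heq : (↑u⁻¹ : R) * (a n' * n') = n' := by
          rw [← mul_assoc, ← hu', Units.inv_mul, one_mul]
        have hmem2 := Ideal.mul_mem_left _ (↑u⁻¹ : R) hmem
        rw [heq] at hmem2
        exact hmem2
      · exact Ideal.mem_sup_right (Ideal.subset_span
          (Finset.mem_coe.mpr (Finset.mem_erase.mpr ⟨hnn, hn'⟩)))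
  apply ht
  rw [← hxy]
  refine Ideal.add_mem _ (Ideal.mem_sup_left hx) (Ideal.mem_sup_right ?_)
  rw [← ha]
  refine Ideal.sum_mem _ fun j hj => ?_
  rw [smul_eq_mul]
  exact Ideal.mul_mem_mul (hall j hj) (hs (Finset.mem_coe.mpr hj))

/-- Prime avoidance with two arbitrary ideals and finitely many primes. -/
theorem exists_mem_avoid {R : Type u} [CommRing R] (P L₁ L₂ : Ideal R) (A : Finset (Ideal R))
    (hA : ∀ Q ∈ A, Q.IsPrime) (h1 : ¬ P ≤ L₁) (h2 : ¬ P ≤ L₂) (h3 : ∀ Q ∈ A, ¬ P ≤ Q) :
    ∃ t ∈ P, t ∉ L₁ ∧ t ∉ L₂ ∧ ∀ Q ∈ A, t ∉ Q := by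
  classical
  by_contra hcon
  push Not at hcon
  have hsub : (P : Set R) ⊆ ⋃ i ∈ ((insert L₁ (insert L₂ A) : Finset (Ideal R)) : Set (Ideal R)),
      (id i : Ideal R) := by
    intro t ht
    simp only [Finset.coe_insert, Set.mem_iUnion, exists_prop, id]
    by_cases ht1 : t ∈ L₁
    · exact ⟨L₁, Set.mem_insert _ _, ht1⟩
    by_cases ht2 : t ∈ L₂
    · exact ⟨L₂, Set.mem_insert_of_mem _ (Set.mem_insert _ _), ht2⟩
    obtain ⟨Q, hQ, htQ⟩ := hcon t ht ht1 ht2
    exact ⟨Q, Set.mem_insert_of_mem _ (Set.mem_insert_of_mem _ (Finset.mem_coe.mpr hQ)), htQ⟩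
  obtain ⟨i, hi, hle⟩ := (Ideal.subset_union_prime (f := id) L₁ L₂ (fun i hi h1' h2' => by
    rcases Finset.mem_insert.mp hi with rfl | hi
    · exact absurd rfl h1'
    rcases Finset.mem_insert.mp hi with rfl | hi
    · exact absurd rfl h2'
    exact hA i hi)).mp hsub
  rcases Finset.mem_insert.mp hi with rfl | hi
  · exact h1 hle
  rcases Finset.mem_insert.mp hi with rfl | hi
  · exact h2 hle
  exact h3 i hi hle

end Groth.Agent.Lib.DSeq33
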