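import Groth.Agent.Lib.H8CM2
import Mathlib.RingTheory.Ideal.AssociatedPrime.Localization

/-!
# Cohen–Macaulay modules, part 3: primes of the support (helper8)
-/

set_option autoImplicit false
set_option linter.unusedSectionVars false
universe u v

namespace Groth.Agent.Lib.H8CM

open RingTheory.Sequence IsLocalRing Pointwise Module Groth.Agent.Lib.DepthBasic
  Groth.Agent.Lib.DepthRees LocCoh

section general

variable {R : Type u} [CommRing R]

/-- Primes `q ≤ p` with `dim R/q = dim R/p` finite are equal. -/
theorem eq_of_le_of_ringKrullDim_quotient_eq {q p : Ideal R} [q.IsPrime] (hqp : q ≤ p) (n : ℕ)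
    (hp : ringKrullDim (R ⧸ p) = (n : WithBot ℕ∞))
    (h : ringKrullDim (R ⧸ q) = ringKrullDim (R ⧸ p)) : q = p := by
  by_contra hne
  obtain ⟨x, hxp, hxq⟩ := SetLike.exists_of_lt (lt_of_le_of_ne hqp hne)
  have := ringKrullDim_quotient_succ_le_of_lt hqp hxp hxq
  rw [h, hp] at this
  have : n + 1 ≤ n := by exact_mod_cast this
  omega

variable {M : Type v} [AddCommGroup M] [Module R M] [Module.Finite R M]

/-- For `p` in the support of `M`, `dim M/pM = dim R/p`. -/
theorem supportDim_quotient_prime_eq {p : PrimeSpectrum R} (hp : p ∈ Module.support R M) :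
    supportDim R (M ⧸ p.asIdeal • (⊤ : Submodule R M)) = ringKrullDim (R ⧸ p.asIdeal) := by
  have hset : Module.support R (M ⧸ p.asIdeal • (⊤ : Submodule R M)) =
      PrimeSpectrum.zeroLocus (p.asIdeal : Set R) := by
    rw [Module.support_quotient]
    apply Set.inter_eq_right.mpr
    intro q hq
    rw [PrimeSpectrum.mem_zeroLocus] at hq
    exact Module.mem_support_mono (show p ≤ q from hq) hp
  rw [ringKrullDim_quotient]
  unfold supportDim
  rw [hset]

end general

variable {R : Type u} [CommRing R] [IsLocalRing R] [IsNoetherianRing R]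
  {M : Type v} [AddCommGroup M] [Module R M] [Module.Finite R M]

/-- In a CM module a prime of the support with `dim R/p = dim M` is an associated prime. -/
theorem mem_associatedPrimes_of_isCM_of_dim_eq (h : IsCohenMacaulayModule R M)
    {p : PrimeSpectrum R} (hp : p ∈ Module.support R M)
    (hdim : ringKrullDim (R ⧸ p.asIdeal) = supportDim R M) : p.asIdeal ∈ associatedPrimes R M := by
  have hnt := nontrivial_of_isCM h
  obtain ⟨d, hd⟩ := exists_nat_supportDim (R := R) (M := M)
  obtain ⟨q, hq, hqp⟩ := Ideal.exists_minimalPrimes_le (Module.mem_support_iff_of_finite.mp hp)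
  have hqass := Module.associatedPrimes.minimalPrimes_annihilator_subset_associatedPrimes R M hq
  have hqdim := ringKrullDim_quotient_eq_of_isCM h hqass
  have := hqass.isPrime
  have heq := eq_of_le_of_ringKrullDim_quotient_eq hqp d (hdim.trans hd) (hqdim.trans hdim.symm)
  rwa [← heq]

/-- In a CM module, associated primes are minimal among associated primes (no embedded primes). -/
theorem eq_of_le_of_mem_associatedPrimes_of_isCM (h : IsCohenMacaulayModule R M)
    {q p : Ideal R} (hq : q ∈ associatedPrimes R M) (hp : p ∈ associatedPrimes R M)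
    (hqp : q ≤ p) : q = p := by
  have hnt := nontrivial_of_isCM h
  obtain ⟨d, hd⟩ := exists_nat_supportDim (R := R) (M := M)
  have := hq.isPrime
  exact eq_of_le_of_ringKrullDim_quotient_eq hqp d
    ((ringKrullDim_quotient_eq_of_isCM h hp).trans hd)
    ((ringKrullDim_quotient_eq_of_isCM h hq).trans (ringKrullDim_quotient_eq_of_isCM h hp).symm)

/-- **Regular sequences in a prime of the support** (EGA 0_IV 16.5.x): for a CM module `M` and
`p ∈ Supp M`, there is an `M`-regular sequence in `p` of length `r = dim M - dim M/pM`, and for any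
such sequence `xs`, `dim M/(xs)M = dim M/pM = dim R/p`, `p` is an associated prime of `M/(xs)M`
and it is minimal among them. -/
theorem exists_isWeaklyRegular_in_prime [Small.{v} R] (h : IsCohenMacaulayModule R M)
    (p : PrimeSpectrum R) (hp : p ∈ Module.support R M) (r : ℕ)
    (hr : supportDim R (M ⧸ p.asIdeal • (⊤ : Submodule R M)) + r = supportDim R M) :
    (∃ xs : List R, xs.length = r ∧ (∀ x ∈ xs, x ∈ p.asIdeal) ∧ IsWeaklyRegular M xs) ∧
      ∀ xs : List R, xs.length = r → (∀ x ∈ xs, x ∈ p.asIdeal) → IsWeaklyRegular M xs →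
        supportDim R (M ⧸ Ideal.ofList xs • (⊤ : Submodule R M)) =
            supportDim R (M ⧸ p.asIdeal • (⊤ : Submodule R M)) ∧
          supportDim R (M ⧸ p.asIdeal • (⊤ : Submodule R M)) = ringKrullDim (R ⧸ p.asIdeal) ∧
          p.asIdeal ∈ associatedPrimes R (M ⧸ Ideal.ofList xs • (⊤ : Submodule R M)) ∧
          ∀ q ∈ associatedPrimes R (M ⧸ Ideal.ofList xs • (⊤ : Submodule R M)),
            q ≤ p.asIdeal → q = p.asIdeal := by
  have hnt := nontrivial_of_isCM h
  have hpm : p.asIdeal ≤ maximalIdeal R := le_maximalIdeal p.2.ne_top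
  have hIM := smul_top_ne_top_of_le_maximalIdeal (M := M) hpm
  have hnt' : Nontrivial (M ⧸ p.asIdeal • (⊤ : Submodule R M)) :=
    Submodule.Quotient.nontrivial_iff.mpr hIM
  obtain ⟨d, hd⟩ := exists_nat_supportDim (R := R) (M := M)
  obtain ⟨a, ha⟩ := exists_nat_supportDim (R := R) (M := M ⧸ p.asIdeal • (⊤ : Submodule R M))
  have hard : a + r = d := by
    rw [ha, hd] at hr
    exact_mod_cast hr
  have hform := supportDim_eq_add_idealDepth h p.2.ne_top
  constructor
  · -- existence
    have hdep : (r : ℕ∞) ≤ idealDepth p.asIdeal M := by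
      rw [hd, ha] at hform
      by_cases htop : idealDepth p.asIdeal M = ⊤
      · rw [htop]; exact le_top
      · obtain ⟨e, he⟩ := ENat.ne_top_iff_exists.mp htop
        rw [← he] at hform ⊢
        have : d = a + e := by exact_mod_cast hform
        have : r = e := by omega
        rw [this]
    exact (natCast_le_idealDepth_iff p.asIdeal M hIM r).mp hdep
  · intro xs hlen hmem hreg
    have hmem' : ∀ x ∈ xs, x ∈ maximalIdeal R := fun x hx ↦ hpm (hmem x hx)
    obtain ⟨hiff, hCMN⟩ := isWeaklyRegular_iff_of_isCM xs h hmem'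
    have hdimN := hiff.mp hreg
    have hntN := nontrivial_quotient_ofList (M := M) hmem'
    obtain ⟨b, hb⟩ := exists_nat_supportDim (R := R)
      (M := M ⧸ Ideal.ofList xs • (⊤ : Submodule R M))
    have hba : b = a := by
      rw [hb, hd, hlen] at hdimN
      have : b + r = d := by exact_mod_cast hdimN
      omega
    have hdimp := supportDim_quotient_prime_eq (M := M) hp
    have hpN : p ∈ Module.support R (M ⧸ Ideal.ofList xs • (⊤ : Submodule R M)) := by
      apply mem_support_quotient_of_le _ hp
      rw [Ideal.ofList, Ideal.span_le]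
      exact fun x hx ↦ hmem x hx
    have hCMN' := hCMN hreg
    have hdimpN : ringKrullDim (R ⧸ p.asIdeal) =
        supportDim R (M ⧸ Ideal.ofList xs • (⊤ : Submodule R M)) := by
      rw [← hdimp, ha, hb, hba]
    refine ⟨by rw [hb, ha, hba], hdimp, mem_associatedPrimes_of_isCM_of_dim_eq hCMN' hpN hdimpN,
      fun q hq hqp ↦ ?_⟩
    exact eq_of_le_of_mem_associatedPrimes_of_isCM hCMN' hq
      (mem_associatedPrimes_of_isCM_of_dim_eq hCMN' hpN hdimpN) hqp

end Groth.Agent.Lib.H8CM
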