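import Mathlib
import Groth.Agent.Lib.H8CM3
import Groth.Agent.Lib.EquidimCat33
import Groth.Agent.Lib.DSeq33a

/-!
# Regular sequences in a prime of a Cohen–Macaulay local ring generating it at the prime (helper33)

For a prime `p` of height `h` in a Cohen–Macaulay local ring `T` with `T_p` regular, we construct a
regular sequence `t_1, …, t_h ∈ p` which generates `p T_p` and is part of a minimal generating set
of `p`.
-/

set_option autoImplicit false
universe u

namespace Groth.Agent.Lib.DSeq33

open IsLocalRing RingTheory.Sequence LocCoh Module Groth.Agent.Lib.H8CM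

section basic

variable {R : Type u} [CommRing R]

theorem spanFinrank_ofList_le (ts : List R) : (Ideal.ofList ts).spanFinrank ≤ ts.length := by
  classical
  have h1 : Ideal.ofList ts = Ideal.span ((ts.toFinset : Finset R) : Set R) := by
    unfold Ideal.ofList
    congr 1
    ext x
    simp
  rw [h1]
  refine (Submodule.spanFinrank_span_le_ncard_of_finite (Finset.finite_toSet _)).trans ?_
  rw [Set.ncard_coe_finset]
  exact List.toFinset_card_le ts

theorem ofList_le_of_forall_mem {ts : List R} {I : Ideal R} (h : ∀ t ∈ ts, t ∈ I) :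
    Ideal.ofList ts ≤ I := by
  unfold Ideal.ofList
  rw [Ideal.span_le]
  exact fun t ht => h t ht

end basic

variable {T : Type u} [CommRing T] [IsCohenMacaulayLocalRing T]

theorem isCM_self : IsCohenMacaulayModule T T :=
  IsCohenMacaulayLocalRing.supportDim_eq_depth

/-- Associated primes of `T/(ts)` for a regular sequence `ts` have height at most the length. -/
theorem height_le_of_mem_associatedPrimes {ts : List T} (hmem : ∀ t ∈ ts, t ∈ maximalIdeal T)
    (hreg : IsWeaklyRegular T ts) {P : Ideal T}
    (hP : P ∈ associatedPrimes T (T ⧸ Ideal.ofList ts • (⊤ : Submodule T T))) :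
    P.height ≤ ts.length := by
  have hCM := isCM_self (T := T)
  obtain ⟨hiff, hCMq⟩ := isWeaklyRegular_iff_of_isCM ts hCM hmem
  have hdim := hiff.mp hreg
  have hCM' := hCMq hreg
  have hPprime : P.IsPrime := hP.isPrime
  have h1 := ringKrullDim_quotient_eq_of_isCM hCM' hP
  have h2 := Groth.Agent.Lib.EquidimCat33.height_add_ringKrullDim_quotient_le' P
  rw [h1, ← Module.supportDim_self_eq_ringKrullDim, ← hdim] at h2
  have hnt := nontrivial_quotient_ofList (M := T) hmem
  obtain ⟨a, ha⟩ := exists_nat_supportDim (R := T)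
    (M := T ⧸ Ideal.ofList ts • (⊤ : Submodule T T))
  rw [ha] at h2
  obtain ⟨n, hn⟩ := ENat.ne_top_iff_exists.mp (Ideal.height_ne_top (I := P) hPprime.ne_top)
  rw [← hn] at h2 ⊢
  have : n + a ≤ a + ts.length := by exact_mod_cast h2
  have : n ≤ ts.length := by omega
  exact_mod_cast this

/-- The invariant of the inductive construction. -/
def Inv (p : Ideal T) [p.IsPrime] (r h : ℕ) (ts : List T) : Prop :=
  (∀ t ∈ ts, t ∈ p) ∧ IsWeaklyRegular T ts ∧
  (∃ s₁ : Finset T, s₁.card + ts.length = r ∧ (s₁ : Set T) ⊆ p ∧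
    Ideal.ofList ts ⊔ Ideal.span (s₁ : Set T) = p) ∧
  (∃ s₂ : Finset (Localization.AtPrime p), s₂.card + ts.length = h ∧
    (s₂ : Set (Localization.AtPrime p)) ⊆ maximalIdeal (Localization.AtPrime p) ∧
    (Ideal.ofList ts).map (algebraMap T (Localization.AtPrime p)) ⊔
      Ideal.span (s₂ : Set (Localization.AtPrime p)) = maximalIdeal (Localization.AtPrime p))

omit [IsCohenMacaulayLocalRing T] in
theorem height_maximalIdeal_localization (p : Ideal T) [p.IsPrime] :
    (maximalIdeal (Localization.AtPrime p)).height = p.height := by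
  have h1 := IsLocalRing.maximalIdeal_height_eq_ringKrullDim (R := Localization.AtPrime p)
  have h2 := IsLocalization.AtPrime.ringKrullDim_eq_height p (Localization.AtPrime p)
  rw [h2] at h1
  exact_mod_cast h1

open scoped Classical in
theorem Inv.step {p : Ideal T} [p.IsPrime] {r h : ℕ} (hh : p.height = h) {ts : List T}
    (hI : Inv p r h ts) (hlt : ts.length < h) : ∃ t, Inv p r h (ts ++ [t]) := by
  obtain ⟨hmemp, hreg, ⟨s₁, hc₁, hs₁, hsp₁⟩, ⟨s₂, hc₂, hs₂, hsp₂⟩⟩ := hI
  have hJp : Ideal.ofList ts ≤ p := ofList_le_of_forall_mem hmemp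
  have hpne : p ≠ ⊤ := Ideal.IsPrime.ne_top'
  have hpm : p ≤ maximalIdeal T := le_maximalIdeal hpne
  have hmem : ∀ t ∈ ts, t ∈ maximalIdeal T := fun t ht => hpm (hmemp t ht)
  -- first ideal to avoid
  have h1 : ¬ p ≤ Ideal.ofList ts ⊔ maximalIdeal T * p := by
    intro hle
    have hle' : p ≤ Ideal.ofList ts :=
      Submodule.le_of_le_smul_of_le_jacobson_bot (IsNoetherian.noetherian p)
        (maximalIdeal_le_jacobson ⊥) (by rwa [Ideal.smul_eq_mul])
    have hpJ : Ideal.ofList ts = p := le_antisymm hJp hle'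
    have h2 : (Ideal.ofList ts).height ≤ (Ideal.ofList ts).spanFinrank :=
      Ideal.height_le_spanFinrank _ (hpJ ▸ hpne)
    have h3 := spanFinrank_ofList_le ts
    rw [hpJ, hh] at h2
    have : (h : ℕ∞) ≤ (ts.length : ℕ∞) := h2.trans (by exact_mod_cast (hpJ ▸ h3))
    have : h ≤ ts.length := by exact_mod_cast this
    omega
  -- second ideal to avoid
  have hmapmax : p.map (algebraMap T (Localization.AtPrime p)) =
      maximalIdeal (Localization.AtPrime p) :=
    IsLocalization.AtPrime.map_eq_maximalIdeal p (Localization.AtPrime p)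
  have hJmap : (Ideal.ofList ts).map (algebraMap T (Localization.AtPrime p)) ≤
      maximalIdeal (Localization.AtPrime p) := by
    rw [← hmapmax]; exact Ideal.map_mono hJp
  have h2 : ¬ p ≤ ((Ideal.ofList ts).map (algebraMap T (Localization.AtPrime p)) ⊔
      maximalIdeal (Localization.AtPrime p) * maximalIdeal (Localization.AtPrime p)).comap
        (algebraMap T (Localization.AtPrime p)) := by
    intro hle
    have hle1 := Ideal.map_le_iff_le_comap.mpr hle
    rw [hmapmax] at hle1
    have hle' : maximalIdeal (Localization.AtPrime p) ≤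
        (Ideal.ofList ts).map (algebraMap T (Localization.AtPrime p)) :=
      Submodule.le_of_le_smul_of_le_jacobson_bot (IsNoetherian.noetherian _)
        (maximalIdeal_le_jacobson ⊥) (by rwa [Ideal.smul_eq_mul])
    have heq : (Ideal.ofList ts).map (algebraMap T (Localization.AtPrime p)) =
        maximalIdeal (Localization.AtPrime p) := le_antisymm hJmap hle'
    have hne : (Ideal.ofList ts).map (algebraMap T (Localization.AtPrime p)) ≠ ⊤ := by
      rw [heq]; exact Ideal.IsPrime.ne_top'
    have h2 := Ideal.height_le_spanFinrank _ hne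
    rw [Ideal.map_ofList] at h2
    have h3 := spanFinrank_ofList_le (ts.map (algebraMap T (Localization.AtPrime p)))
    rw [List.length_map] at h3
    rw [← Ideal.map_ofList, heq, height_maximalIdeal_localization, hh] at h2
    rw [← Ideal.map_ofList, heq] at h3
    have : (h : ℕ∞) ≤ (ts.length : ℕ∞) := h2.trans (by exact_mod_cast h3)
    have : h ≤ ts.length := by exact_mod_cast this
    omega
  -- the associated primes
  have hfin := associatedPrimes.finite T (T ⧸ Ideal.ofList ts • (⊤ : Submodule T T))
  have h3 : ∀ Q ∈ hfin.toFinset, ¬ p ≤ Q := by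
    intro Q hQ hle
    have hQ' := hfin.mem_toFinset.mp hQ
    have k1 := height_le_of_mem_associatedPrimes hmem hreg hQ'
    have k2 := Ideal.height_mono hle
    rw [hh] at k2
    have : (h : ℕ∞) ≤ (ts.length : ℕ∞) := k2.trans k1
    have : h ≤ ts.length := by exact_mod_cast this
    omega
  obtain ⟨t, htp, ht1, ht2, ht3⟩ := exists_mem_avoid p _ _ hfin.toFinset
    (fun Q hQ => (hfin.mem_toFinset.mp hQ).isPrime) h1 h2 h3
  refine ⟨t, ?_, ?_, ?_, ?_⟩
  · intro x hx
    rcases List.mem_append.mp hx with hx | hx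
    · exact hmemp x hx
    · rw [List.mem_singleton] at hx; exact hx ▸ htp
  · rw [isWeaklyRegular_append_iff]
    refine ⟨hreg, ?_⟩
    rw [isWeaklyRegular_singleton_iff]
    by_contra hnr
    have hmemU : t ∈ ⋃ P ∈ associatedPrimes T (T ⧸ Ideal.ofList ts • (⊤ : Submodule T T)),
        (P : Set T) := by
      rw [biUnion_associatedPrimes_eq_compl_regular]
      exact hnr
    obtain ⟨Q, hQ, htQ⟩ := Set.mem_iUnion₂.mp hmemU
    exact ht3 Q (hfin.mem_toFinset.mpr hQ) htQ
  · obtain ⟨n, hn, hspan⟩ := exchange hs₁ hJp hsp₁ htp ht1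
    refine ⟨s₁.erase n, ?_, ?_, ?_⟩
    · rw [Finset.card_erase_of_mem hn, List.length_append, List.length_singleton]
      have : 0 < s₁.card := Finset.card_pos.mpr ⟨n, hn⟩
      omega
    · exact (Finset.coe_subset.mpr (Finset.erase_subset n s₁)).trans hs₁
    · rw [Ideal.ofList_append, Ideal.ofList_singleton]
      exact hspan
  · have ht' : algebraMap T (Localization.AtPrime p) t ∉
        (Ideal.ofList ts).map (algebraMap T (Localization.AtPrime p)) ⊔
          maximalIdeal (Localization.AtPrime p) * maximalIdeal (Localization.AtPrime p) :=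
      fun hc => ht2 (Ideal.mem_comap.mpr hc)
    have htm : algebraMap T (Localization.AtPrime p) t ∈ maximalIdeal (Localization.AtPrime p) := by
      rw [← hmapmax]; exact Ideal.mem_map_of_mem _ htp
    obtain ⟨n, hn, hspan⟩ := exchange hs₂ hJmap hsp₂ htm ht'
    refine ⟨s₂.erase n, ?_, ?_, ?_⟩
    · rw [Finset.card_erase_of_mem hn, List.length_append, List.length_singleton]
      have : 0 < s₂.card := Finset.card_pos.mpr ⟨n, hn⟩
      omega
    · exact (Finset.coe_subset.mpr (Finset.erase_subset n s₂)).trans hs₂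
    · have e1 : (Ideal.span {t}).map (algebraMap T (Localization.AtPrime p)) =
          Ideal.span {algebraMap T (Localization.AtPrime p) t} := by
        rw [Ideal.map_span, Set.image_singleton]
      rw [Ideal.ofList_append, Ideal.map_sup, Ideal.ofList_singleton, e1]
      exact hspan

theorem Inv.nil (p : Ideal T) [p.IsPrime] [IsRegularLocalRing (Localization.AtPrime p)]
    (h : ℕ) (hh : p.height = h) : Inv p p.spanFinrank h [] := by
  refine ⟨by simp, IsWeaklyRegular.nil T T, ?_, ?_⟩
  · obtain ⟨s, hs, hspan⟩ := Submodule.FG.exists_span_finset_card_eq_spanFinrank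
      (IsNoetherian.noetherian p)
    refine ⟨s, by simpa using hs, ?_, ?_⟩
    · rw [← hspan]; exact Submodule.subset_span
    · rw [Ideal.ofList_nil, bot_sup_eq]; exact hspan
  · obtain ⟨s, hs, hspan⟩ := Submodule.FG.exists_span_finset_card_eq_spanFinrank
      (IsNoetherian.noetherian (maximalIdeal (Localization.AtPrime p)))
    have hreg := IsRegularLocalRing.spanFinrank_maximalIdeal (R := Localization.AtPrime p)
    rw [IsLocalization.AtPrime.ringKrullDim_eq_height p (Localization.AtPrime p), hh] at hreg
    have hreg' : (maximalIdeal (Localization.AtPrime p)).spanFinrank = h := by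
      exact_mod_cast hreg
    refine ⟨s, by simpa [hreg'] using hs, ?_, ?_⟩
    · rw [← hspan]; exact Submodule.subset_span
    · rw [Ideal.ofList_nil, Ideal.map_bot, bot_sup_eq]; exact hspan

theorem exists_inv (p : Ideal T) [p.IsPrime] [IsRegularLocalRing (Localization.AtPrime p)]
    (h : ℕ) (hh : p.height = h) :
    ∀ i ≤ h, ∃ ts : List T, ts.length = i ∧ Inv p p.spanFinrank h ts := by
  intro i
  induction i with
  | zero => exact fun _ => ⟨[], rfl, Inv.nil p h hh⟩
  | succ i ih =>
    intro hi
    obtain ⟨ts, hlen, hinv⟩ := ih (by omega)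
    obtain ⟨t, ht⟩ := hinv.step hh (by omega)
    exact ⟨ts ++ [t], by simp [hlen], ht⟩

/-- **Main construction.** -/
theorem exists_good_sequence (p : Ideal T) [p.IsPrime]
    [IsRegularLocalRing (Localization.AtPrime p)] (h : ℕ) (hh : p.height = h) :
    ∃ ts : List T, ts.length = h ∧ (∀ t ∈ ts, t ∈ p) ∧ IsWeaklyRegular T ts ∧
      (Ideal.ofList ts).map (algebraMap T (Localization.AtPrime p)) =
        maximalIdeal (Localization.AtPrime p) ∧
      ∃ s₁ : Finset T, s₁.card + h = p.spanFinrank ∧ (s₁ : Set T) ⊆ p ∧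
        Ideal.ofList ts ⊔ Ideal.span (s₁ : Set T) = p := by
  obtain ⟨ts, hlen, hmemp, hreg, ⟨s₁, hc₁, hs₁, hsp₁⟩, ⟨s₂, hc₂, hs₂, hsp₂⟩⟩ :=
    exists_inv p h hh h le_rfl
  refine ⟨ts, hlen, hmemp, hreg, ?_, s₁, by rw [← hlen]; exact hc₁, hs₁, hsp₁⟩
  have : s₂.card = 0 := by omega
  rw [Finset.card_eq_zero] at this
  rw [this] at hsp₂
  simpa using hsp₂

end Groth.Agent.Lib.DSeq33
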