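import Mathlib
import Groth.Prelude.Def_W4c5grrsingularflatDSeq
import Groth.Agent.Lib.DSeq33b

/-!
# d-sequences generating almost complete intersection primes (helper33)

Huneke: in a Cohen–Macaulay local ring `T`, a prime `p` with `μ(p) ≤ ht p + 1` and `T_p` regular
is generated by a d-sequence.
-/

set_option autoImplicit false
universe u

namespace Groth.Agent.Lib.DSeq33

open IsLocalRing RingTheory.Sequence LocCoh Module Groth.Agent.Lib.H8CM

section general

variable {R : Type u} [CommRing R]

/-- `a x ∈ I → a ∈ I` from regularity of `x` on `R ⧸ I • ⊤`. -/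
theorem mem_of_mul_mem_of_isSMulRegular {I : Ideal R} {x : R}
    (hx : IsSMulRegular (R ⧸ (I • ⊤ : Submodule R R)) x) {a : R} (ha : a * x ∈ I) : a ∈ I := by
  have hI : (I • ⊤ : Submodule R R) = I := by
    simp [Ideal.mul_top]
  have h0 : x • (Submodule.Quotient.mk a : R ⧸ (I • ⊤ : Submodule R R)) = 0 := by
    rw [← Submodule.Quotient.mk_smul, Submodule.Quotient.mk_eq_zero, hI, smul_eq_mul, mul_comm]
    exact ha
  have h1 : (Submodule.Quotient.mk a : R ⧸ (I • ⊤ : Submodule R R)) = 0 := by
    apply hx
    simpa using h0
  rw [Submodule.Quotient.mk_eq_zero, hI] at h1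
  exact h1

theorem colon_mul_eq_of_isSMulRegular {I : Ideal R} {x : R}
    (hx : IsSMulRegular (R ⧸ (I • ⊤ : Submodule R R)) x) (y : R) :
    I.colon {y * x} = I.colon {y} := by
  ext a
  rw [Submodule.mem_colon_singleton, Submodule.mem_colon_singleton, smul_eq_mul, smul_eq_mul]
  constructor
  · intro h
    apply mem_of_mul_mem_of_isSMulRegular hx
    rw [mul_assoc]
    exact h
  · intro h
    rw [← mul_assoc]
    exact Ideal.mul_mem_right _ _ h

open scoped Classical in
/-- If a member of a list lies in the span of the others, the ideal of the list needs fewer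
generators. -/
theorem spanFinrank_ofList_add_one_le (rs : List R) (i : Fin rs.length)
    (h : rs[i] ∈ Ideal.span (Set.range fun j : {j : Fin rs.length // j ≠ i} =>
      rs[(j : Fin rs.length)])) :
    (Ideal.ofList rs).spanFinrank + 1 ≤ rs.length := by
  set f : {j : Fin rs.length // j ≠ i} → R := fun j => rs[(j : Fin rs.length)] with hf
  have heq : Ideal.ofList rs = Ideal.span (Set.range f) := by
    apply le_antisymm
    · unfold Ideal.ofList
      rw [Ideal.span_le]
      intro x hx
      obtain ⟨j, hj, rfl⟩ := List.mem_iff_getElem.mp hx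
      by_cases hji : (⟨j, hj⟩ : Fin rs.length) = i
      · have : rs[j] = rs[i] := by
          subst hji; rfl
        rw [this]; exact h
      · exact Ideal.subset_span ⟨⟨⟨j, hj⟩, hji⟩, rfl⟩
    · rw [Ideal.span_le]
      rintro _ ⟨j, rfl⟩
      exact Ideal.subset_span (List.getElem_mem _)
  rw [heq]
  have h1 : (Ideal.span (Set.range f)).spanFinrank ≤ (Set.range f).ncard :=
    Submodule.spanFinrank_span_le_ncard_of_finite (Set.finite_range f)
  have h2 : (Set.range f).ncard ≤ Fintype.card {j : Fin rs.length // j ≠ i} := by
    rw [← Set.image_univ, ← Finset.coe_univ, ← Finset.coe_image, Set.ncard_coe_finset]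
    exact Finset.card_image_le.trans (by simp)
  have h3 : Fintype.card {j : Fin rs.length // j ≠ i} = rs.length - 1 := by
    rw [Fintype.card_subtype_compl, Fintype.card_subtype_eq, Fintype.card_fin]
  have : 0 < rs.length := i.pos
  omega

end general

variable {T : Type u} [CommRing T] [IsCohenMacaulayLocalRing T]

/-- The key colon computation at the last element. -/
theorem mul_mem_of_mul_sq_mem (p : Ideal T) [p.IsPrime] {h : ℕ} (hh : p.height = h)
    {ts : List T} (hlen : ts.length = h) (hmemp : ∀ t ∈ ts, t ∈ p) (hreg : IsWeaklyRegular T ts)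
    (hmap : (Ideal.ofList ts).map (algebraMap T (Localization.AtPrime p)) =
      maximalIdeal (Localization.AtPrime p))
    {n : T} (hn : Ideal.ofList ts ⊔ Ideal.span {n} = p) {a : T}
    (ha : a * (n * n) ∈ Ideal.ofList ts) : a * n ∈ Ideal.ofList ts := by
  have hpne : p ≠ ⊤ := Ideal.IsPrime.ne_top'
  have hpm : p ≤ maximalIdeal T := le_maximalIdeal hpne
  have hmem : ∀ t ∈ ts, t ∈ maximalIdeal T := fun t ht => hpm (hmemp t ht)
  have hI : (Ideal.ofList ts • ⊤ : Submodule T T) = Ideal.ofList ts := by
    simp [Ideal.mul_top]
  have hnp : n ∈ p := by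
    rw [← hn]; exact Ideal.mem_sup_right (Ideal.subset_span rfl)
  by_contra hcon
  have hz : (Submodule.Quotient.mk (a * n) : T ⧸ (Ideal.ofList ts • ⊤ : Submodule T T)) ≠ 0 := by
    rw [Ne, Submodule.Quotient.mk_eq_zero, hI]
    exact hcon
  obtain ⟨P, hP, hle⟩ := exists_le_isAssociatedPrime_of_isNoetherianRing T _ hz
  have hPprime : P.IsPrime := hP.isPrime
  -- `n ∈ P`
  have hnP : n ∈ P := by
    apply hle
    rw [Submodule.mem_colon_singleton, Submodule.mem_bot, ← Submodule.Quotient.mk_smul,
      Submodule.Quotient.mk_eq_zero, hI, smul_eq_mul]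
    have : n * (a * n) = a * (n * n) := by ring
    rw [this]; exact ha
  -- `J ≤ P`
  have hJP : Ideal.ofList ts ≤ P := by
    intro j hj
    apply hle
    rw [Submodule.mem_colon_singleton, Submodule.mem_bot, ← Submodule.Quotient.mk_smul,
      Submodule.Quotient.mk_eq_zero, hI, smul_eq_mul]
    exact Ideal.mul_mem_right _ _ hj
  have hpP : p ≤ P := by
    rw [← hn]
    refine sup_le hJP ?_
    rw [Ideal.span_le]; exact Set.singleton_subset_iff.mpr hnP
  -- `P = p`
  have hPp : p = P := by
    by_contra hne
    have hlt : p < P := lt_of_le_of_ne hpP hne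
    have k1 := Ideal.height_strict_mono_of_isPrime hlt
    have k2 := height_le_of_mem_associatedPrimes hmem hreg hP
    rw [hh] at k1
    rw [hlen] at k2
    exact absurd (k1.trans_le k2) (lt_irrefl _)
  -- localize
  have hanp : a * n ∈ p := Ideal.mul_mem_left _ _ hnp
  have hmapmax : p.map (algebraMap T (Localization.AtPrime p)) =
      maximalIdeal (Localization.AtPrime p) :=
    IsLocalization.AtPrime.map_eq_maximalIdeal p (Localization.AtPrime p)
  have h1 : algebraMap T (Localization.AtPrime p) (a * n) ∈
      (Ideal.ofList ts).map (algebraMap T (Localization.AtPrime p)) := by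
    rw [hmap, ← hmapmax]
    exact Ideal.mem_map_of_mem _ hanp
  rw [IsLocalization.mem_map_algebraMap_iff p.primeCompl] at h1
  obtain ⟨⟨⟨j, hj⟩, ⟨s, hs⟩⟩, hjs⟩ := h1
  simp only at hjs
  rw [← map_mul, IsLocalization.eq_iff_exists p.primeCompl] at hjs
  obtain ⟨⟨s', hs'⟩, hs's⟩ := hjs
  simp only at hs's
  -- `s' * s ∈ colon ≤ P = p`
  have hmemP : s' * s ∈ P := by
    apply hle
    rw [Submodule.mem_colon_singleton, Submodule.mem_bot, ← Submodule.Quotient.mk_smul,
      Submodule.Quotient.mk_eq_zero, hI, smul_eq_mul]
    have : s' * s * (a * n) = s' * (a * n * s) := by ring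
    rw [this, hs's]
    exact Ideal.mul_mem_left _ _ hj
  rw [← hPp] at hmemP
  rcases Ideal.IsPrime.mem_or_mem inferInstance hmemP with h | h
  · exact hs' h
  · exact hs h

/-- **Huneke**: the d-sequence. -/
theorem exists_isDSeq (p : Ideal T) [p.IsPrime]
    (hgen : (Submodule.spanFinrank p : ℕ∞) ≤ p.height + 1)
    [IsRegularLocalRing (Localization.AtPrime p)] :
    ∃ ts : List T, Ideal.ofList ts = p ∧ W4c5grrsingularflat.IsDSeq ts := by
  classical
  have hpne : p ≠ ⊤ := Ideal.IsPrime.ne_top'
  obtain ⟨h, hh⟩ := ENat.ne_top_iff_exists.mp (Ideal.height_ne_top (I := p) hpne)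
  have hh : p.height = h := hh.symm
  obtain ⟨ts, hlen, hmemp, hreg, hmap, s₁, hc₁, hs₁, hsp₁⟩ := exists_good_sequence p h hh
  rw [hh] at hgen
  have hgen' : p.spanFinrank ≤ h + 1 := by exact_mod_cast hgen
  have hkrull : h ≤ p.spanFinrank := by
    have := Ideal.height_le_spanFinrank p hpne
    rw [hh] at this
    exact_mod_cast this
  by_cases hJ : Ideal.ofList ts = p
  · -- the regular sequence generates `p`
    refine ⟨ts, hJ, ?_, ?_⟩
    · intro i hi
      have := spanFinrank_ofList_add_one_le ts i hi
      rw [hJ, hlen] at this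
      omega
    · intro i k hk hik
      have hi : i < ts.length := lt_of_le_of_lt hik hk
      exact colon_mul_eq_of_isSMulRegular (hreg.regular_mod_prev i hi) _
  · -- one more generator is needed
    have hcard : s₁.card = 1 := by
      have hne : s₁.card ≠ 0 := by
        intro h0
        rw [Finset.card_eq_zero] at h0
        apply hJ
        rw [← hsp₁, h0]
        simp
      omega
    obtain ⟨n, hn⟩ := Finset.card_eq_one.mp hcard
    have hspan : Ideal.ofList ts ⊔ Ideal.span {n} = p := by
      rw [← hsp₁, hn]; simp
    have hr : p.spanFinrank = h + 1 := by omega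
    have hlen' : (ts ++ [n]).length = h + 1 := by simp [hlen]
    have hof : Ideal.ofList (ts ++ [n]) = p := by
      rw [Ideal.ofList_append, Ideal.ofList_singleton]; exact hspan
    refine ⟨ts ++ [n], hof, ?_, ?_⟩
    · intro i hi
      have := spanFinrank_ofList_add_one_le (ts ++ [n]) i hi
      rw [hof, hlen', hr] at this
      omega
    · intro i k hk hik
      rw [hlen'] at hk
      by_cases hi : i < h
      · -- regular part
        have hi' : i < ts.length := by omega
        have e1 : (ts ++ [n]).take i = ts.take i :=
          List.take_append_of_le_length (by omega)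
        have e2 : (ts ++ [n])[i]'(by rw [hlen']; omega) = ts[i] :=
          List.getElem_append_left hi'
        have hregi : IsSMulRegular
            (T ⧸ (Ideal.ofList ((ts ++ [n]).take i) • ⊤ : Submodule T T))
            ((ts ++ [n])[i]'(by rw [hlen']; omega)) := by
          rw [e1, e2]
          exact hreg.regular_mod_prev i hi'
        exact colon_mul_eq_of_isSMulRegular hregi _
      · -- the last element
        have hi' : i = h := by omega
        have hk' : k = h := by omega
        have e1 : (ts ++ [n]).take i = ts := List.take_left' (by omega)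
        have e2 : (ts ++ [n])[i]'(by rw [hlen']; omega) = n := by
          rw [List.getElem_append_right (by omega)]
          simp [hlen, hi']
        have e3 : (ts ++ [n])[k]'(by rw [hlen']; omega) = n := by
          rw [List.getElem_append_right (by omega)]
          simp [hlen, hk']
        rw [e1]
        simp only [e2, e3]
        ext a
        rw [Submodule.mem_colon_singleton, Submodule.mem_colon_singleton, smul_eq_mul,
          smul_eq_mul]
        constructor
        · intro ha
          exact mul_mem_of_mul_sq_mem p hh hlen hmemp hreg hmap hspan ha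
        · intro ha
          rw [← mul_assoc]
          exact Ideal.mul_mem_right _ _ ha

end Groth.Agent.Lib.DSeq33
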