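import Groth.Agent.Lib.DSplit
import Groth.Agent.Lib.ProjResolution
import Mathlib.Algebra.Homology.HomotopyCategory.HomComplexSingle

/-!
# Complements to `Lib/DSplit`: maps to single complexes

* `Q_map_eq_zero_of_homotopy`: `Q.map φ = 0` when `φ` is null-homotopic.
* `toSingle_comp_map`: functoriality of `toSingle` in the target object.
* `homotopyToSingleD`, `Q_map_toSingle_d`: the map `P ⟶ P^{a+1}[-a]` induced by `d^a` is
  null-homotopic, hence zero in the derived category.
* `singleShiftIso`: `Q((single a).obj M) ≅ (M[0])⟦-a⟧`, natural in `M`.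
-/

set_option autoImplicit false
universe u v w
open CategoryTheory CategoryTheory.Limits Category Pretriangulated Triangulated

namespace Groth.Agent.Lib.DSplit

variable {C : Type u} [Category.{v} C] [Abelian C]

open HomologicalComplex CochainComplex.HomComplex

lemma toSingle_comp_map (P : CochainComplex C ℤ) (a : ℤ) {M M' : C} (q : P.X a ⟶ M)
    (hq : P.d (a - 1) a ≫ q = 0) (g : M ⟶ M') :
    toSingle P a q hq ≫ (single C (ComplexShape.up ℤ) a).map g =
      toSingle P a (q ≫ g) (by rw [reassoc_of% hq, zero_comp]) := by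
  apply to_single_hom_ext
  simp [toSingle, mkHomToSingle_f, single_map_f_self]

/-- `toSingle` with target written with `CochainComplex.singleFunctor`. -/
noncomputable abbrev toSingle' (P : CochainComplex C ℤ) (a : ℤ) {M : C} (q : P.X a ⟶ M)
    (hq : P.d (a - 1) a ≫ q = 0) : P ⟶ (CochainComplex.singleFunctor C a).obj M :=
  toSingle P a q hq

lemma toSingle'_f (P : CochainComplex C ℤ) (a : ℤ) {M : C} (q : P.X a ⟶ M)
    (hq : P.d (a - 1) a ≫ q = 0) :
    (toSingle' P a q hq).f a = q ≫ (singleObjXSelf (ComplexShape.up ℤ) a M).inv :=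
  mkHomToSingle_f _ _

lemma ofHom_toSingle' (P : CochainComplex C ℤ) (a : ℤ) {M : C} (q : P.X a ⟶ M)
    (hq : P.d (a - 1) a ≫ q = 0) :
    Cochain.ofHom (toSingle' P a q hq) = Cochain.toSingleMk q (show a + 0 = a by simp) := by
  apply (Cochain.toSingleEquiv (show a + 0 = a by simp)).injective
  rw [Cochain.toSingleEquiv_toSingleMk]
  change (Cochain.ofHom (toSingle' P a q hq)).v a a _ ≫ _ = q
  rw [Cochain.ofHom_v, toSingle'_f]
  exact (assoc _ _ _).trans (by rw [Iso.inv_hom_id, comp_id])

/-- The map `P ⟶ P^{a+1}[-a]` induced by `d^a` is null-homotopic. -/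
noncomputable def homotopyToSingleD (P : CochainComplex C ℤ) (a : ℤ) :
    Homotopy (toSingle' P a (P.d a (a + 1)) (by simp)) 0 :=
  (Cochain.equivHomotopy _ _).symm
    ⟨Cochain.toSingleMk (𝟙 (P.X (a + 1))) (show (a + 1) + (-1) = a by lia), by
      rw [Cochain.δ_toSingleMk _ _ 0 a (by simp), ofHom_toSingle']
      simp⟩

variable [HasDerivedCategory.{w} C]

open DerivedCategory

lemma Q_map_eq_zero_of_homotopy {K L : CochainComplex C ℤ} (φ : K ⟶ L) (H : Homotopy φ 0) :
    Q.map φ = 0 := by
  have h1 : (HomotopyCategory.quotient _ _).map φ = (HomotopyCategory.quotient _ _).map 0 :=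
    HomotopyCategory.eq_of_homotopy _ _ H
  have e1 := quotientCompQhIso_hom_naturality (C := C) φ
  rw [h1, Functor.map_zero, Functor.map_zero, zero_comp] at e1
  exact (cancel_epi ((quotientCompQhIso C).hom.app K)).1 (e1.symm.trans comp_zero.symm)

lemma Q_map_toSingle_d (P : CochainComplex C ℤ) (a : ℤ) :
    Q.map (toSingle P a (P.d a (a + 1)) (by simp)) = 0 :=
  Q_map_eq_zero_of_homotopy (toSingle' P a (P.d a (a + 1)) (by simp)) (homotopyToSingleD P a)

/-- `Q((single a).obj M) ≅ (M[0])⟦-a⟧`, naturally in `M`. -/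
noncomputable def singleShiftIso (a : ℤ) :
    DerivedCategory.singleFunctor C a ≅
      DerivedCategory.singleFunctor C 0 ⋙ shiftFunctor (DerivedCategory C) (-a) :=
  ((DerivedCategory.singleFunctors C).shiftIso (-a) a 0 (by simp)).symm

/-- The composite `P ⟶ M[-a] ⟶ P^{a+1}[-a]` vanishes in the derived category when `q ≫ ι = d^a`
(written with the shifted single functors). -/
lemma Q_map_toSingle_comp_shift_eq_zero (P : CochainComplex C ℤ) (a : ℤ) {M : C}
    (q : P.X a ⟶ M) (hq : P.d (a - 1) a ≫ q = 0) (ι : M ⟶ P.X (a + 1))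
    (hqι : q ≫ ι = P.d a (a + 1)) :
    Q.map (toSingle P a q hq) ≫ (singleShiftIso a).hom.app M ≫
      (shiftFunctor (DerivedCategory C) (-a)).map
        ((DerivedCategory.singleFunctor C 0).map ι) = 0 := by
  have hnat := (singleShiftIso (C := C) a).hom.naturality ι
  dsimp only [Functor.comp_map] at hnat
  let g : Q.obj P ⟶ (DerivedCategory.singleFunctor C a).obj M := Q.map (toSingle P a q hq)
  have h1 : g ≫ (DerivedCategory.singleFunctor C a).map ι = 0 := by
    change Q.map (toSingle P a q hq) ≫
      Q.map ((HomologicalComplex.single _ (ComplexShape.up ℤ) a).map ι) = 0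
    rw [← Functor.map_comp, toSingle_comp_map]
    have := Q_map_toSingle_d P a
    convert this using 3
  change g ≫ (singleShiftIso a).hom.app M ≫
      (shiftFunctor (DerivedCategory C) (-a)).map
        ((DerivedCategory.singleFunctor C 0).map ι) = 0
  rw [← hnat, reassoc_of% h1, zero_comp]

end Groth.Agent.Lib.DSplit
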