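import Groth.Agent.Lib.DDevissage

/-!
# Splitting of bounded objects of `D(A)` with vanishing higher Ext between cohomology objects
-/

open CategoryTheory Limits Category Pretriangulated Triangulated

universe w v u

namespace Groth.Agent.Lib.DSplitSum

variable {A : Type u} [Category.{v} A] [Abelian A] [HasDerivedCategory.{w} A]

open DerivedCategory DerivedCategory.TStructure

/-- shift bookkeeping: `Hom(M[-i], N[-j][1]) = 0` follows from `Hom(M[0], N[0][p]) = 0`,
`p = i - j + 1`. -/
lemma hom_single_shift_one_eq_zero (i j : ℤ) (p : ℕ) (hp : (p : ℤ) = i - j + 1) (M N : A)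
    (h : ∀ f : (singleFunctor A 0).obj M ⟶ ((singleFunctor A 0).obj N)⟦(p : ℤ)⟧, f = 0)
    (g : (singleFunctor A i).obj M ⟶ ((singleFunctor A j).obj N)⟦(1 : ℤ)⟧) : g = 0 := by
  let SF := DerivedCategory.singleFunctors A
  let c : ℤ := -(p : ℤ)
  let e₁ : ((singleFunctor A i).obj M)⟦i⟧ ≅ (singleFunctor A 0).obj M :=
    (SF.shiftIso i 0 i (by simp)).app M
  let e₂ : (((singleFunctor A j).obj N)⟦(1 : ℤ)⟧)⟦i⟧ ≅ ((singleFunctor A 0).obj N)⟦(p : ℤ)⟧ :=
    ((shiftFunctorAdd' (DerivedCategory A) (1 : ℤ) i (1 + i) rfl).symm.app _) ≪≫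
      (SF.shiftIso (1 + i) c j (by simp only [c]; lia)).app N ≪≫
      ((SF.shiftIso (p : ℤ) c 0 (by simp only [c]; lia)).app N).symm
  have hf : e₁.inv ≫ g⟦i⟧' ≫ e₂.hom = 0 := h _
  have hg : g⟦i⟧' = 0 := by
    have : g⟦i⟧' = e₁.hom ≫ (e₁.inv ≫ g⟦i⟧' ≫ e₂.hom) ≫ e₂.inv := by simp
    rw [this, hf, zero_comp, comp_zero]
  exact (shiftFunctor (DerivedCategory A) i).map_injective (by rw [hg, Functor.map_zero])

section

variable (K : DerivedCategory A) (a b : ℤ) [K.IsGE a] [K.IsLE b]
  (hExt : ∀ (i j : ℤ) (p : ℕ), j < i → 2 ≤ p →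
    ∀ f : (singleFunctor A 0).obj ((homologyFunctor A i).obj K) ⟶
      ((singleFunctor A 0).obj ((homologyFunctor A j).obj K))⟦(p : ℤ)⟧, f = 0)

include hExt in
/-- the cohomology object `H^i(K)[-i]` maps to `K` inducing an isomorphism on `H^i`. -/
lemma exists_hom_single_isIso (i : ℤ) (_hi : a ≤ i) :
    ∃ φ : (singleFunctor A i).obj ((homologyFunctor A i).obj K) ⟶ K,
      IsIso ((homologyFunctor A i).map φ) := by
  let Li := (t.truncLE i).obj K
  let ιi : Li ⟶ K := (t.truncLEι i).app K
  let M := (t.truncLE (i - 1)).obj Li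
  let R := (t.truncGE i).obj Li
  have hT := t.triangleLEGE_distinguished (i - 1) i (by lia) Li
  have iLa : Li.IsGE a := by dsimp [Li]; infer_instance
  have iLi : Li.IsLE i := by dsimp [Li]; infer_instance
  have iMa : M.IsGE a := by dsimp [M]; infer_instance
  have iMi : M.IsLE (i - 1) := by dsimp [M]; infer_instance
  have iRi : R.IsGE i := by dsimp [R]; infer_instance
  have iRi' : R.IsLE i := by dsimp [R]; infer_instance
  -- cohomology of Li, M, R
  have hιi : ∀ j, j ≤ i → IsIso ((homologyFunctor A j).map ιi) := fun j hj =>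
    Groth.Agent.Lib.DWayOut.isIso_homologyMap_truncLEι K i j hj
  have hιM : ∀ j, j ≤ i - 1 → IsIso ((homologyFunctor A j).map ((t.truncLEι (i - 1)).app Li)) :=
    fun j hj => Groth.Agent.Lib.DWayOut.isIso_homologyMap_truncLEι Li (i - 1) j hj
  have hπR : IsIso ((homologyFunctor A i).map ((t.truncGEπ i).app Li)) :=
    Groth.Agent.Lib.DWayOut.isIso_homologyMap_truncGEπ Li i i le_rfl
  -- the iso S i ≅ R
  obtain ⟨eR⟩ := Groth.Agent.Lib.DDevissage.nonempty_iso_single_homology R i
  have := hιi i le_rfl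
  let eH : (homologyFunctor A i).obj K ≅ (homologyFunctor A i).obj R :=
    (asIso ((homologyFunctor A i).map ιi)).symm ≪≫
      asIso ((homologyFunctor A i).map ((t.truncGEπ i).app Li))
  let e : (singleFunctor A i).obj ((homologyFunctor A i).obj K) ≅ R :=
    (singleFunctor A i).mapIso eH ≪≫ eR.symm
  -- the connecting map vanishes on S i
  have hδ : e.hom ≫ (t.truncGEδLE (i - 1) i (by lia)).app Li = 0 := by
    apply Groth.Agent.Lib.DDevissage.hom_shift_one_eq_zero_of_devissage _ M a (i - 1)
    intro j hj1 hj2 g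
    have := hιM j hj2
    have := hιi j (by lia)
    let eHj : (homologyFunctor A j).obj M ≅ (homologyFunctor A j).obj K :=
      asIso ((homologyFunctor A j).map ((t.truncLEι (i - 1)).app Li)) ≪≫
        asIso ((homologyFunctor A j).map ιi)
    let eS := (singleFunctor A j).mapIso eHj
    have hz : g ≫ (eS.hom)⟦(1 : ℤ)⟧' = 0 := by
      apply hom_single_shift_one_eq_zero i j (i - j + 1).toNat (by lia)
      exact hExt i j (i - j + 1).toNat (by lia) (by lia)
    have : g = (g ≫ (eS.hom)⟦(1 : ℤ)⟧') ≫ (eS.inv)⟦(1 : ℤ)⟧' := by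
      rw [assoc, ← Functor.map_comp, eS.hom_inv_id, CategoryTheory.Functor.map_id, comp_id]
    rw [this, hz, zero_comp]
  obtain ⟨s₀, hs⟩ := Triangle.coyoneda_exact₃ _ hT e.hom hδ
  let s : (singleFunctor A i).obj ((homologyFunctor A i).obj K) ⟶ Li := s₀
  have hs' : e.hom = s ≫ (t.truncGEπ i).app Li := hs
  refine ⟨s ≫ ιi, ?_⟩
  rw [Functor.map_comp]
  have h1 : IsIso ((homologyFunctor A i).map s) := by
    have h2 : IsIso ((homologyFunctor A i).map s ≫
        (homologyFunctor A i).map ((t.truncGEπ i).app Li)) := by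
      rw [← Functor.map_comp, ← hs']
      infer_instance
    exact IsIso.of_isIso_comp_right _ ((homologyFunctor A i).map ((t.truncGEπ i).app Li))
  have := hιi i le_rfl
  infer_instance

include hExt in
/-- `K ≅ ⨁ H^i(K)[-i]` when the higher Ext groups between the cohomology objects vanish. -/
theorem nonempty_iso_biproduct
    [HasBiproduct (fun i : Finset.Icc a b =>
      (singleFunctor A (i : ℤ)).obj ((homologyFunctor A (i : ℤ)).obj K))] :
    Nonempty (K ≅ ⨁ (fun i : Finset.Icc a b =>
      (singleFunctor A (i : ℤ)).obj ((homologyFunctor A (i : ℤ)).obj K))) := by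
  classical
  let S : Finset.Icc a b → DerivedCategory A := fun i =>
    (singleFunctor A (i : ℤ)).obj ((homologyFunctor A (i : ℤ)).obj K)
  choose φ hφ using fun i : Finset.Icc a b => exists_hom_single_isIso K a hExt (i : ℤ)
    (Finset.mem_Icc.mp i.2).1
  let f : ⨁ S ⟶ K := biproduct.desc φ
  suffices IsIso f from ⟨(asIso f).symm⟩
  rw [DerivedCategory.isIso_iff]
  intro n
  have hS : ∀ i : Finset.Icc a b, (i : ℤ) ≠ n → IsZero ((homologyFunctor A n).obj (S i)) := by
    intro i hi
    rcases lt_or_gt_of_ne hi with h | h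
    · exact isZero_of_isLE (S i) (i : ℤ) n h
    · exact isZero_of_isGE (S i) (i : ℤ) n h
  have htotal : ∑ i : Finset.Icc a b, (homologyFunctor A n).map (biproduct.π S i) ≫
      (homologyFunctor A n).map (biproduct.ι S i) = 𝟙 _ := by
    rw [← (homologyFunctor A n).map_id, ← biproduct.total, Functor.map_sum]
    simp [Functor.map_comp]
  by_cases hn : a ≤ n ∧ n ≤ b
  · let i₀ : Finset.Icc a b := ⟨n, Finset.mem_Icc.mpr hn⟩
    have hsum : (homologyFunctor A n).map (biproduct.π S i₀) ≫
        (homologyFunctor A n).map (biproduct.ι S i₀) = 𝟙 _ := by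
      rw [← htotal]
      symm
      apply Finset.sum_eq_single i₀
      · intro i _ hi
        have : (i : ℤ) ≠ n := fun h => hi (Subtype.ext h)
        rw [(hS i this).eq_of_tgt ((homologyFunctor A n).map (biproduct.π S i)) 0, zero_comp]
      · intro h
        exact absurd (Finset.mem_univ _) h
    have hι : IsIso ((homologyFunctor A n).map (biproduct.ι S i₀)) := by
      refine ⟨⟨(homologyFunctor A n).map (biproduct.π S i₀), ?_, hsum⟩⟩
      rw [← Functor.map_comp, biproduct.ι_π_self, CategoryTheory.Functor.map_id]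
    have hcomp : (homologyFunctor A n).map (biproduct.ι S i₀) ≫ (homologyFunctor A n).map f =
        (homologyFunctor A n).map (φ i₀) := by
      rw [← Functor.map_comp, biproduct.ι_desc]
    have h3 : IsIso ((homologyFunctor A n).map (biproduct.ι S i₀) ≫
        (homologyFunctor A n).map f) := by
      rw [hcomp]
      exact hφ i₀
    exact IsIso.of_isIso_comp_left ((homologyFunctor A n).map (biproduct.ι S i₀)) _
  · have h1 : IsZero ((homologyFunctor A n).obj (⨁ S)) := by
      rw [IsZero.iff_id_eq_zero, ← htotal]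
      apply Finset.sum_eq_zero
      intro i _
      have : (i : ℤ) ≠ n := by
        intro h
        apply hn
        have := Finset.mem_Icc.mp i.2
        rw [← h]
        exact this
      rw [(hS i this).eq_of_tgt ((homologyFunctor A n).map (biproduct.π S i)) 0, zero_comp]
    have h2 : IsZero ((homologyFunctor A n).obj K) := by
      rcases not_and_or.mp hn with h | h
      · exact isZero_of_isGE K a n (by lia)
      · exact isZero_of_isLE K b n (by lia)
    exact ⟨⟨0, h1.eq_of_src _ _, h2.eq_of_src _ _⟩⟩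

end

end Groth.Agent.Lib.DSplitSum
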