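import Groth.Prelude.Def_DTen3

/-!
# Naturality of the associator of the derived tensor product on `D(A)` (helper21)

`DTen.associator a b c` is built objectwise from the two natural legs `assocL`, `assocR`; here we record
its naturality in all three variables, and the description of `rhomHomEquiv` through `ev`/`coev`.
-/

set_option autoImplicit false
universe u
open CategoryTheory CategoryTheory.Limits MonoidalCategory
attribute [local instance] HasDerivedCategory.standard
open DTen

namespace Groth.Agent.Lib.DTenAssoc

variable {A : Type u} [CommRing A] [DTen.HasLTen A] [DTen.HasLTen₃ A] [DTen.IsSymMonoidal A]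

/-- Naturality of the associator in all three variables. -/
lemma associator_naturality {a a' b b' c c' : Dual.D A} (f : a ⟶ a') (g : b ⟶ b') (h : c ⟶ c') :
    (LTen₂ A).map (Prod.mkHom ((LTen₂ A).map (Prod.mkHom f g)) h) ≫ (associator a' b' c').hom =
      (associator a b c).hom ≫ (LTen₂ A).map (Prod.mkHom f ((LTen₂ A).map (Prod.mkHom g h))) := by
  let F : ((a, (b, c)) : Dual.D A × (Dual.D A × Dual.D A)) ⟶ (a', (b', c')) :=
    Prod.mkHom f (Prod.mkHom g h)
  have hL : (LTenL A).map F ≫ (assocL A).app (a', (b', c')) =
      (assocL A).app (a, (b, c)) ≫ (LTen₃ A).map F := (assocL A).naturality F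
  have hR : (LTenR A).map F ≫ (assocR A).app (a', (b', c')) =
      (assocR A).app (a, (b, c)) ≫ (LTen₃ A).map F := (assocR A).naturality F
  have hA : (DTen.associator a b c).hom ≫ (assocR A).app (a, (b, c)) = (assocL A).app (a, (b, c)) :=
    associator_hom_assocR a b c
  have hA' : (DTen.associator a' b' c').hom ≫ (assocR A).app (a', (b', c')) =
      (assocL A).app (a', (b', c')) := associator_hom_assocR a' b' c'
  have key : ((LTenL A).map F ≫ (DTen.associator a' b' c').hom) ≫ (assocR A).app (a', (b', c')) =
      ((DTen.associator a b c).hom ≫ (LTenR A).map F) ≫ (assocR A).app (a', (b', c')) :=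
    calc ((LTenL A).map F ≫ (DTen.associator a' b' c').hom) ≫ (assocR A).app (a', (b', c'))
        = (LTenL A).map F ≫ ((DTen.associator a' b' c').hom ≫ (assocR A).app (a', (b', c'))) :=
          Category.assoc _ _ _
      _ = (LTenL A).map F ≫ (assocL A).app (a', (b', c')) := congrArg (fun t => (LTenL A).map F ≫ t) hA'
      _ = (assocL A).app (a, (b, c)) ≫ (LTen₃ A).map F := hL
      _ = ((DTen.associator a b c).hom ≫ (assocR A).app (a, (b, c))) ≫ (LTen₃ A).map F :=
          congrArg (fun t => t ≫ (LTen₃ A).map F) hA.symm
      _ = (DTen.associator a b c).hom ≫ ((assocR A).app (a, (b, c)) ≫ (LTen₃ A).map F) :=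
          Category.assoc _ _ _
      _ = (DTen.associator a b c).hom ≫ ((LTenR A).map F ≫ (assocR A).app (a', (b', c'))) :=
          congrArg (fun t => (DTen.associator a b c).hom ≫ t) hR.symm
      _ = ((DTen.associator a b c).hom ≫ (LTenR A).map F) ≫ (assocR A).app (a', (b', c')) :=
          (Category.assoc _ _ _).symm
  exact (cancel_mono ((assocR A).app (a', (b', c')))).mp key

end Groth.Agent.Lib.DTenAssoc
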