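import Groth.Agent.Lib.DTenValues35
import Groth.Prelude.Def_DTen4
import Groth.Agent.Lib.KInjAdj

/-!
# Derived base change `DTen.LBase` on K-projective complexes and the mixed derived tensor product
(helper35)

* `counitCx`, triangle identities for the termwise adjunction `extCx φ ⊣ resCx φ`.
* `isKProjective_extCx`: termwise extension of scalars preserves K-projective complexes.
* `isIso_baseCmp_of_kproj`: `DTen.baseCmp φ` is an isomorphism at K-projective complexes.
* `isIso_εMix_of_kproj`, `isIso_split_app` (S13893).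
-/

set_option autoImplicit false
universe u

open CategoryTheory CategoryTheory.Limits Category MonoidalCategory

attribute [local instance] HasDerivedCategory.standard

namespace Groth.Agent.Lib.DTenBase35

open DerivedCategory Groth.Agent.Lib.KFlat35 DTen

/-- Every object of `D(B)` is the class of a K-projective and K-flat complex. -/
lemma exists_good' {B : Type u} [CommRing B] (a : Dual.D B) :
    ∃ (K : DRing.Cx B), K.IsKProjective ∧ IsKFlat K ∧ Nonempty (Q.obj K ≅ a) := by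
  obtain ⟨R, r, hR, hRf, -, hr, -⟩ :=
    Groth.Agent.Lib.SemiFreeKProj35.exists_kprojective_resolution (Q.objPreimage a)
  haveI := hr
  exact ⟨R, hR, hRf, ⟨asIso (Q.map r) ≪≫ Q.objObjPreimageIso a⟩⟩

variable {R A : Type u} [CommRing R] [CommRing A] (φ : R →+* A)

/-- The termwise counit `(Y|_R) ⊗_R A ⟶ Y`. -/
noncomputable def counitCx : resCx φ ⋙ extCx φ ⟶ 𝟭 (DRing.Cx A) where
  app Y :=
    { f := fun i => (ModuleCat.extendRestrictScalarsAdj.{u, u, u} φ).counit.app (Y.X i)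
      comm' := fun i j _ => by
        have h := (ModuleCat.extendRestrictScalarsAdj.{u, u, u} φ).counit.naturality (Y.d i j)
        dsimp at h ⊢
        exact h.symm }
  naturality Y Y' f := HomologicalComplex.hom_ext _ _ (fun i => by
    have h := (ModuleCat.extendRestrictScalarsAdj.{u, u, u} φ).counit.naturality (f.f i)
    dsimp at h ⊢
    exact h)

lemma left_triangle (K : DRing.Cx R) :
    (extCx φ).map ((unitCx φ).app K) ≫ (counitCx φ).app ((extCx φ).obj K) = 𝟙 _ := by
  ext i : 1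
  exact (ModuleCat.extendRestrictScalarsAdj.{u, u, u} φ).left_triangle_components (K.X i)

lemma right_triangle (Y : DRing.Cx A) :
    (unitCx φ).app ((resCx φ).obj Y) ≫ (resCx φ).map ((counitCx φ).app Y) = 𝟙 _ := by
  ext i : 1
  exact (ModuleCat.extendRestrictScalarsAdj.{u, u, u} φ).right_triangle_components (Y.X i)

/-- adjunct identity 1 -/
lemma adj_id₁ {K : DRing.Cx R} {Y : DRing.Cx A} (g : (extCx φ).obj K ⟶ Y) :
    (extCx φ).map ((unitCx φ).app K ≫ (resCx φ).map g) ≫ (counitCx φ).app Y = g := by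
  have h := (counitCx φ).naturality g
  dsimp at h
  rw [Functor.map_comp, Category.assoc, h, ← Category.assoc, left_triangle, Category.id_comp]

/-- adjunct identity 2 -/
lemma adj_id₂ {K : DRing.Cx R} {Y : DRing.Cx A} (m : K ⟶ (resCx φ).obj Y) :
    (unitCx φ).app K ≫ (resCx φ).map ((extCx φ).map m ≫ (counitCx φ).app Y) = m := by
  have h := (unitCx φ).naturality m
  dsimp at h
  rw [Functor.map_comp, ← Category.assoc, ← h, Category.assoc, right_triangle]
  exact Category.comp_id m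

/-- Termwise extension of scalars preserves K-projective complexes. -/
instance isKProjective_extCx (K : DRing.Cx R) [K.IsKProjective] :
    ((extCx φ).obj K).IsKProjective := by
  constructor
  intro L f hL
  have hL' : ((resCx φ).obj L).Acyclic :=
    Groth.Agent.Lib.KInjAdj.acyclic_map (ModuleCat.restrictScalars.{u} φ) L hL
  let f' : K ⟶ (resCx φ).obj L := (unitCx φ).app K ≫ (resCx φ).map f
  have H : Homotopy f' 0 := CochainComplex.IsKProjective.homotopyZero f' hL'
  have H2 := ((ModuleCat.extendScalars.{u, u, u} φ).mapHomotopy H).compRight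
    ((counitCx φ).app L)
  refine ⟨(Homotopy.ofEq (adj_id₁ φ f).symm).trans (H2.trans (Homotopy.ofEq ?_))⟩
  rw [Functor.map_zero, zero_comp]

section BaseCmp

variable [HasLBase φ]

/-- The map `g ↦ baseγ ≫ ρ(g)`. -/
noncomputable def Ψ (K : DRing.Cx R) (Y : Dual.D A) (g : Q.obj ((extCx φ).obj K) ⟶ Y) :
    Q.obj K ⟶ (DRing.restrictD φ).obj Y :=
  (baseγ φ).app K ≫ (DRing.restrictD φ).map g

lemma Ψ_Q_map (K : DRing.Cx R) (Y₀ : DRing.Cx A) (g₀ : (extCx φ).obj K ⟶ Y₀) :
    Ψ φ K (Q.obj Y₀) (Q.map g₀) =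
      Q.map ((unitCx φ).app K ≫ (resCx φ).map g₀) ≫ (resFactors φ).inv.app Y₀ := by
  have h := (resFactors φ).inv.naturality g₀
  dsimp at h
  dsimp only [Ψ, baseγ]
  rw [Category.assoc, ← h, ← Category.assoc, ← Functor.map_comp]

lemma Ψ_bijective_Q (K : DRing.Cx R) [K.IsKProjective] (Y₀ : DRing.Cx A) :
    Function.Bijective (Ψ φ K (Q.obj Y₀)) := by
  constructor
  · intro x x' hxx'
    obtain ⟨g₀, rfl⟩ := Groth.Agent.Lib.DCopower.exists_Q_map_eq ((extCx φ).obj K) Y₀ x
    obtain ⟨g₀', rfl⟩ := Groth.Agent.Lib.DCopower.exists_Q_map_eq ((extCx φ).obj K) Y₀ x'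
    rw [Ψ_Q_map, Ψ_Q_map, cancel_mono] at hxx'
    obtain ⟨H⟩ := Groth.Agent.Lib.DCopower.homotopy_of_Q_map_eq K _ _ _ hxx'
    have H2 := ((ModuleCat.extendScalars.{u, u, u} φ).mapHomotopy H).compRight
      ((counitCx φ).app Y₀)
    exact DerivedCategory.Q_map_eq_of_homotopy _
      ((Homotopy.ofEq (adj_id₁ φ g₀).symm).trans (H2.trans (Homotopy.ofEq (adj_id₁ φ g₀'))))
  · intro m
    obtain ⟨m₀, hm₀⟩ := Groth.Agent.Lib.DCopower.exists_Q_map_eq K ((resCx φ).obj Y₀)
      (m ≫ (resFactors φ).hom.app Y₀)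
    refine ⟨Q.map ((extCx φ).map m₀ ≫ (counitCx φ).app Y₀), ?_⟩
    rw [Ψ_Q_map, adj_id₂, hm₀, Category.assoc, Iso.hom_inv_id_app]
    exact Category.comp_id m

lemma Ψ_bijective (K : DRing.Cx R) [K.IsKProjective] (Y : Dual.D A) :
    Function.Bijective (Ψ φ K Y) := by
  let e : Q.obj (Q.objPreimage Y) ≅ Y := Q.objObjPreimageIso Y
  have h : Ψ φ K Y = (fun m => m ≫ (DRing.restrictD φ).map e.hom) ∘
      Ψ φ K (Q.obj (Q.objPreimage Y)) ∘ (fun x => x ≫ e.inv) := by
    funext x
    dsimp only [Function.comp, Ψ]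
    rw [Category.assoc, ← Functor.map_comp, Category.assoc, Iso.inv_hom_id, Category.comp_id]
  rw [h]
  refine Function.Bijective.comp ?_ (Function.Bijective.comp (Ψ_bijective_Q φ K _) ?_)
  · exact ((Iso.homToEquiv ((DRing.restrictD φ).mapIso e)) ).bijective
  · exact ((Iso.homToEquiv e.symm)).bijective

/-- `DTen.baseCmp φ` is an isomorphism at K-projective complexes. -/
theorem isIso_baseCmp_of_kproj (K : DRing.Cx R) [K.IsKProjective] :
    IsIso ((baseCmp φ).app K) := by
  rw [isIso_iff_coyoneda_map_bijective]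
  intro T
  have h : (baseAdj φ).homEquiv (Q.obj K) T ∘ (fun x => (baseCmp φ).app K ≫ x) = Ψ φ K T := by
    funext x
    dsimp only [Function.comp, Ψ]
    rw [Adjunction.homEquiv_unit, Functor.map_comp, ← Category.assoc, baseCmp_fac]
  have hb := Ψ_bijective φ K T
  rw [← h] at hb
  exact (Function.Bijective.of_comp_iff' ((baseAdj φ).homEquiv (Q.obj K) T).bijective _).1 hb

end BaseCmp

section Mix

variable [HasLTenMix φ]

instance : (LTenMix φ).IsRightKanExtension (εMix φ) :=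
  Functor.IsLeftDerivedFunctor.isRightKanExtension _ _ (qisMix R A)

/-- The counit of the mixed derived tensor product is an isomorphism at pairs of K-projective
complexes. -/
theorem isIso_εMix_of_kproj (K : DRing.Cx R) (N : DRing.Cx A) [K.IsKProjective]
    [N.IsKProjective] : IsIso ((εMix φ).app (K, N)) := by
  refine Groth.Agent.Lib.DTenValues35.isIso_app_of_lifts (QMix R A) (mix₂ φ) (LTenMix φ)
    (εMix φ) (K, N) ?_ ?_ ?_
  · rintro ⟨X₁, X₂⟩ ⟨g₁, g₂⟩
    obtain ⟨f₁, hf₁⟩ := Groth.Agent.Lib.DCopower.exists_Q_map_eq K X₁ g₁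
    obtain ⟨f₂, hf₂⟩ := Groth.Agent.Lib.DCopower.exists_Q_map_eq N X₂ g₂
    exact ⟨(f₁, f₂), Prod.ext hf₁ hf₂⟩
  · rintro ⟨X₁, X₂⟩ ⟨f₁, f₂⟩ ⟨f₁', f₂'⟩ h
    have h1 : Q.map f₁ = Q.map f₁' := congrArg Prod.fst h
    have h2 : Q.map f₂ = Q.map f₂' := congrArg Prod.snd h
    obtain ⟨ho₁⟩ := Groth.Agent.Lib.DCopower.homotopy_of_Q_map_eq K X₁ f₁ f₁' h1
    obtain ⟨ho₂⟩ := Groth.Agent.Lib.DCopower.homotopy_of_Q_map_eq N X₂ f₂ f₂' h2
    have ho₁' := (ModuleCat.extendScalars.{u, u, u} φ).mapHomotopy ho₁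
    exact DerivedCategory.Q_map_eq_of_homotopy _
      (Groth.Agent.Lib.DTenValues35.tensorTHomotopy A
        (X := ((extCx φ).obj K, N)) (Y := ((extCx φ).obj X₁, X₂))
        ((extCx φ).map f₁, f₂) ((extCx φ).map f₁', f₂') ho₁' ho₂)
  · rintro ⟨Y₁, Y₂⟩
    haveI := Groth.Agent.Lib.LDerivedGen.small_hom K Y₁
    haveI := Groth.Agent.Lib.LDerivedGen.small_hom N Y₂
    exact inferInstanceAs (Small.{u} ((Q.obj K ⟶ Y₁) × (Q.obj N ⟶ Y₂)))

variable [HasLTen A] [HasLBase φ]

theorem isIso_split_app_of_good (K : DRing.Cx R) (N : DRing.Cx A) [K.IsKProjective]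
    [N.IsKProjective] (hN : IsKFlat N) :
    IsIso ((split φ).app ((QMix R A).obj (K, N))) := by
  have fac := split_fac φ (K, N)
  haveI := isIso_εMix_of_kproj φ K N
  haveI := isIso_baseCmp_of_kproj φ K
  haveI := Groth.Agent.Lib.DTenValues35.isIso_ε_right ((extCx φ).obj K) N hN
  haveI : IsIso ((splitβ φ).app (K, N)) := by
    haveI : IsIso (Prod.mkHom ((baseCmp φ).app K) (𝟙 (Q.obj N))) := by
      rw [isIso_prod_iff]
      exact ⟨inferInstanceAs (IsIso ((baseCmp φ).app K)), inferInstanceAs (IsIso (𝟙 (Q.obj N)))⟩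
    change IsIso ((LTen₂ A).map (Prod.mkHom ((baseCmp φ).app K) (𝟙 (Q.obj N))) ≫
      (ε A).app ((extCx φ).obj K, N))
    infer_instance
  exact IsIso.of_isIso_fac_right fac

/-- The comparison `(E ⊗^L_R A) ⊗^L_A N ⟶ E ⊗^L_R N` is an isomorphism. -/
theorem isIso_split_app (E : Dual.D R) (N : Dual.D A) : IsIso ((split φ).app (E, N)) := by
  obtain ⟨K, hK, -, ⟨eK⟩⟩ := exists_good' E
  obtain ⟨N₀, hN, hNf, ⟨eN⟩⟩ := exists_good' N
  haveI := hK; haveI := hN
  rw [← NatTrans.isIso_app_iff_of_iso (split φ) (eK.prod eN)]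
  exact isIso_split_app_of_good φ K N₀ hNf

end Mix

end Groth.Agent.Lib.DTenBase35
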