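import Groth.Agent.Lib.TensorCxZ35
import Mathlib.Algebra.Homology.Embedding.CochainComplex

/-!
# Tensoring with a pure acyclic complex (helper35)

For `K L : CochainComplex (ModuleCat R) ℤ`, if `X ⊗ L` is exact for every module `X`
(`L` is pure acyclic), then `K ⊗ L` is exact for every complex `K` (no boundedness).

Infrastructure: the increasing filtration `coFil K L c n` (first index `≤ c`), functoriality of
`(K ⊗ L)ⁿ` in `K` elementwise, and the canonical truncation `τ≤B K`.
-/

set_option autoImplicit false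

universe v u

namespace Groth.Agent.Lib.TensorCxPure35

open CategoryTheory Category Limits MonoidalCategory HomologicalComplex
open Groth.Agent.Lib.TensorCxZ35

variable {R : Type v} [CommRing R] (K L : CochainComplex (ModuleCat.{v} R) ℤ)

/-- Elements of `(K ⊗ L)ⁿ` with components only in first index `≤ c`. -/
noncomputable def coFil (c n : ℤ) : Submodule R ((tensorObj K L).X n) :=
  ⨆ (i : ℤ) (j : ℤ) (h : i + j = n) (_ : i ≤ c), LinearMap.range (ι K L i j n h).hom

variable {K L}

lemma ι_mem_coFil {c i j n : ℤ} (h : i + j = n) (hc : i ≤ c)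
    (x : (K.X i ⊗ L.X j : ModuleCat.{v} R)) : (ι K L i j n h).hom x ∈ coFil K L c n :=
  Submodule.mem_iSup_of_mem i (Submodule.mem_iSup_of_mem j
    (Submodule.mem_iSup_of_mem h (Submodule.mem_iSup_of_mem hc ⟨x, rfl⟩)))

lemma coFil_le {c n : ℤ} (F : Submodule R ((tensorObj K L).X n))
    (H : ∀ (i j : ℤ) (h : i + j = n), i ≤ c → ∀ x : (K.X i ⊗ L.X j : ModuleCat.{v} R),
      (ι K L i j n h).hom x ∈ F) : coFil K L c n ≤ F := by
  refine iSup_le fun i => iSup_le fun j => iSup_le fun h => iSup_le fun hm => ?_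
  rintro _ ⟨x, rfl⟩
  exact H i j h hm x

lemma coFil_mono {c c' : ℤ} (n : ℤ) (h : c ≤ c') : coFil K L c n ≤ coFil K L c' n :=
  coFil_le _ fun _ _ hh hm x => ι_mem_coFil hh (hm.trans h) x

lemma top_le_of_ι {n : ℤ} (F : Submodule R ((tensorObj K L).X n))
    (H : ∀ (i j : ℤ) (h : i + j = n) (x : (K.X i ⊗ L.X j : ModuleCat.{v} R)),
      (ι K L i j n h).hom x ∈ F) : ⊤ ≤ F := by
  rw [← iSup_range_ι K L n]
  refine iSup_le fun i => iSup_le fun j => iSup_le fun h => ?_
  rintro _ ⟨x, rfl⟩
  exact H i j h x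

lemma exists_mem_coFil {n : ℤ} (z : (tensorObj K L).X n) : ∃ c : ℤ, z ∈ coFil K L c n := by
  have hz : z ∈ (⨆ (i : ℤ) (j : ℤ) (h : i + j = n), LinearMap.range (ι K L i j n h).hom) := by
    rw [iSup_range_ι]; trivial
  induction hz using Submodule.iSup_induction' with
  | mem i x hx =>
    induction hx using Submodule.iSup_induction' with
    | mem j x hx =>
      induction hx using Submodule.iSup_induction' with
      | mem h x hx =>
        obtain ⟨y, rfl⟩ := hx
        exact ⟨i, ι_mem_coFil h le_rfl y⟩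
      | zero => exact ⟨0, zero_mem _⟩
      | add x y _ _ hx hy =>
        obtain ⟨m, hm⟩ := hx
        obtain ⟨m', hm'⟩ := hy
        exact ⟨max m m', add_mem (coFil_mono n (le_max_left _ _) hm)
          (coFil_mono n (le_max_right _ _) hm')⟩
    | zero => exact ⟨0, zero_mem _⟩
    | add x y _ _ hx hy =>
      obtain ⟨m, hm⟩ := hx
      obtain ⟨m', hm'⟩ := hy
      exact ⟨max m m', add_mem (coFil_mono n (le_max_left _ _) hm)
        (coFil_mono n (le_max_right _ _) hm')⟩
  | zero => exact ⟨0, zero_mem _⟩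
  | add x y _ _ hx hy =>
    obtain ⟨m, hm⟩ := hx
    obtain ⟨m', hm'⟩ := hy
    exact ⟨max m m', add_mem (coFil_mono n (le_max_left _ _) hm)
      (coFil_mono n (le_max_right _ _) hm')⟩

lemma d_mem_coFil {c n : ℤ} {z : (tensorObj K L).X n} (hz : z ∈ coFil K L c n) :
    ((tensorObj K L).d n (n + 1)).hom z ∈ coFil K L (c + 1) (n + 1) := by
  have : coFil K L c n ≤ (coFil K L (c + 1) (n + 1)).comap ((tensorObj K L).d n (n + 1)).hom := by
    apply coFil_le
    intro i j h hm x
    rw [Submodule.mem_comap, d_ι_apply]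
    refine add_mem (ι_mem_coFil _ (by omega) _) ?_
    rw [Units.smul_def]
    exact Submodule.smul_of_tower_mem _ _ (ι_mem_coFil _ (by omega) _)
  exact this hz

lemma pr_eq_zero_of_mem_coFil {c n i j : ℤ} (h : i + j = n) (hi : c < i)
    {z : (tensorObj K L).X n} (hz : z ∈ coFil K L c n) : (pr K L i j n h).hom z = 0 := by
  have : coFil K L c n ≤ LinearMap.ker (pr K L i j n h).hom := by
    apply coFil_le
    intro i' j' h' hm x
    rw [LinearMap.mem_ker]
    exact pr_ι_apply_ne K L i j i' j' n h h' (by omega) x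
  exact this hz

lemma ι_pr_mem_coFil {c n i j : ℤ} (h : i + j = n)
    {z : (tensorObj K L).X n} (hz : z ∈ coFil K L c n) :
    (ι K L i j n h).hom ((pr K L i j n h).hom z) ∈ coFil K L c n := by
  by_cases hi : i ≤ c
  · exact ι_mem_coFil h hi _
  · rw [pr_eq_zero_of_mem_coFil h (by omega) hz, map_zero]
    exact zero_mem _

variable (K L) in
/-- The endomorphism of `(K ⊗ L)ⁿ` keeping the components with first index `≤ c`. -/
noncomputable def trunc (c n : ℤ) : (tensorObj K L).X n ⟶ (tensorObj K L).X n :=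
  mapBifunctorDesc (K₁ := K) (K₂ := L) (F := curriedTensor (ModuleCat.{v} R))
    (c := ComplexShape.up ℤ) (j := n)
    (fun i' j' h' => if i' ≤ c then ι K L i' j' n h' else 0)

lemma trunc_ι_apply_le {c n i j : ℤ} (h : i + j = n) (hi : i ≤ c)
    (x : (K.X i ⊗ L.X j : ModuleCat.{v} R)) :
    (trunc K L c n).hom ((ι K L i j n h).hom x) = (ι K L i j n h).hom x := by
  have : ι K L i j n h ≫ trunc K L c n = ι K L i j n h := by
    dsimp [ι, trunc, ιTensorObj]
    rw [ι_mapBifunctorDesc, if_pos hi]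
  exact congrArg (fun f => f.hom x) this

lemma trunc_ι_apply_gt {c n i j : ℤ} (h : i + j = n) (hi : c < i)
    (x : (K.X i ⊗ L.X j : ModuleCat.{v} R)) :
    (trunc K L c n).hom ((ι K L i j n h).hom x) = 0 := by
  have : ι K L i j n h ≫ trunc K L c n = 0 := by
    dsimp [ι, trunc, ιTensorObj]
    rw [ι_mapBifunctorDesc, if_neg (by omega)]
  exact congrArg (fun f => f.hom x) this

lemma Fil_inf_coFil {c m n : ℤ} (hm : c < m) {z : (tensorObj K L).X n}
    (h1 : z ∈ Fil K L m n) (h2 : z ∈ coFil K L c n) : z = 0 := by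
  have e1 : (trunc K L c n).hom z = z := by
    have : coFil K L c n ≤ LinearMap.eqLocus (trunc K L c n).hom LinearMap.id := by
      apply coFil_le
      intro i j h hi x
      rw [LinearMap.mem_eqLocus, LinearMap.id_apply]
      exact trunc_ι_apply_le h hi x
    exact this h2
  have e2 : (trunc K L c n).hom z = 0 := by
    have : Fil K L m n ≤ LinearMap.ker (trunc K L c n).hom := by
      apply Fil_le
      intro i j h hi x
      rw [LinearMap.mem_ker]
      exact trunc_ι_apply_gt h (by omega) x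
    exact this h1
  rw [← e1, e2]

/-- An element all of whose components vanish is zero. -/
lemma eq_zero_of_pr_eq_zero {n : ℤ} (z : (tensorObj K L).X n)
    (hz : ∀ (i j : ℤ) (h : i + j = n), (pr K L i j n h).hom z = 0) : z = 0 := by
  obtain ⟨m, hm⟩ := exists_mem_Fil z
  obtain ⟨c, hc⟩ := exists_mem_coFil z
  have key : ∀ (t : ℕ) (m : ℤ), c + 1 - m ≤ t → z ∈ Fil K L m n → z = 0 := by
    intro t
    induction t with
    | zero =>
      intro m hm hz'
      exact Fil_inf_coFil (by omega) hz' hc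
    | succ t ih =>
      intro m hm hz'
      have := sub_ι_pr_mem_Fil (j := n - m) (by omega) hz'
      rw [hz, map_zero, sub_zero] at this
      exact ih (m + 1) (by omega) this
  exact key (c + 1 - m).toNat m (by omega) hm

section Functoriality

variable {K' : CochainComplex (ModuleCat.{v} R) ℤ} (f : K' ⟶ K) (L)

/-- The map `(K' ⊗ L)ⁿ → (K ⊗ L)ⁿ` induced by `f : K' ⟶ K`. -/
noncomputable abbrev T (n : ℤ) : (tensorObj K' L).X n ⟶ (tensorObj K L).X n :=
  (HomologicalComplex.tensorHom f (𝟙 L)).f n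

@[reassoc]
lemma ι_T (i j n : ℤ) (h : i + j = n) :
    ι K' L i j n h ≫ T L f n = (f.f i ▷ L.X j) ≫ ι K L i j n h := by
  dsimp [ι, T, ιTensorObj, HomologicalComplex.tensorHom]
  rw [ι_mapBifunctorMap]
  simp

lemma T_ι_apply (i j n : ℤ) (h : i + j = n) (x : (K'.X i ⊗ L.X j : ModuleCat.{v} R)) :
    (T L f n).hom ((ι K' L i j n h).hom x) = (ι K L i j n h).hom ((f.f i ▷ L.X j).hom x) :=
  congrArg (fun g => g.hom x) (ι_T L f i j n h)

lemma T_pr (i j n : ℤ) (h : i + j = n) :
    T L f n ≫ pr K L i j n h = pr K' L i j n h ≫ (f.f i ▷ L.X j) := by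
  apply mapBifunctor.hom_ext
  intro i' j' h'
  change ι K' L i' j' n h' ≫ _ = ι K' L i' j' n h' ≫ _
  rw [ι_T_assoc]
  by_cases hh : i' = i ∧ j' = j
  · obtain ⟨rfl, rfl⟩ := hh
    rw [ι_pr_self, ι_pr_self_assoc, comp_id]
  · rw [ι_pr_ne K L i j i' j' n h h' hh, ι_pr_ne_assoc K' L i j i' j' n h h' hh, comp_zero,
      zero_comp]

lemma pr_T_apply (i j n : ℤ) (h : i + j = n) (z : (tensorObj K' L).X n) :
    (pr K L i j n h).hom ((T L f n).hom z) = (f.f i ▷ L.X j).hom ((pr K' L i j n h).hom z) :=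
  congrArg (fun g => g.hom z) (T_pr L f i j n h)

lemma d_T_apply (n : ℤ) (z : (tensorObj K' L).X n) :
    ((tensorObj K L).d n (n + 1)).hom ((T L f n).hom z) =
      (T L f (n + 1)).hom (((tensorObj K' L).d n (n + 1)).hom z) :=
  congrArg (fun g => g.hom z) ((HomologicalComplex.tensorHom f (𝟙 L)).comm n (n + 1))

/-- Lifting cycles along a map `f : K' ⟶ K` which is an isomorphism in degrees `≤ b + 1`. -/
lemma exists_of_lift (b n : ℤ) (hf : ∀ i : ℤ, i ≤ b + 1 → IsIso (f.f i))
    (H : ∀ z' : (tensorObj K' L).X (n + 1),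
      ((tensorObj K' L).d (n + 1) (n + 1 + 1)).hom z' = 0 →
      ∃ w' : (tensorObj K' L).X n, ((tensorObj K' L).d n (n + 1)).hom w' = z')
    (z : (tensorObj K L).X (n + 1)) (hz : z ∈ coFil K L b (n + 1))
    (hdz : ((tensorObj K L).d (n + 1) (n + 1 + 1)).hom z = 0) :
    ∃ w : (tensorObj K L).X n, ((tensorObj K L).d n (n + 1)).hom w = z := by
  -- lift `z`
  have hlift : coFil K L b (n + 1) ≤ (coFil K' L b (n + 1)).map (T L f (n + 1)).hom := by
    apply coFil_le
    intro i j h hi x
    haveI := hf i (by omega)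
    refine ⟨(ι K' L i j (n + 1) h).hom ((inv (f.f i) ▷ L.X j).hom x), ι_mem_coFil h hi _, ?_⟩
    rw [T_ι_apply]
    congr 1
    have : inv (f.f i) ▷ L.X j ≫ f.f i ▷ L.X j = 𝟙 _ := by
      rw [← comp_whiskerRight, IsIso.inv_hom_id, id_whiskerRight]
    exact congrArg (fun g => g.hom x) this
  obtain ⟨z', hz', rfl⟩ := hlift hz
  -- `z'` is a cycle
  have hdz' : ((tensorObj K' L).d (n + 1) (n + 1 + 1)).hom z' = 0 := by
    apply eq_zero_of_pr_eq_zero
    intro i j h
    by_cases hi : i ≤ b + 1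
    · haveI := hf i hi
      have e1 := pr_T_apply L f i j (n + 1 + 1) h
        (((tensorObj K' L).d (n + 1) (n + 1 + 1)).hom z')
      rw [← d_T_apply, hdz, map_zero] at e1
      have : f.f i ▷ L.X j ≫ inv (f.f i) ▷ L.X j = 𝟙 _ := by
        rw [← comp_whiskerRight, IsIso.hom_inv_id, id_whiskerRight]
      have e2 := congrArg (fun g => g.hom
        ((pr K' L i j (n + 1 + 1) h).hom (((tensorObj K' L).d (n + 1) (n + 1 + 1)).hom z'))) this
      simp only [ModuleCat.hom_comp, LinearMap.comp_apply, ModuleCat.hom_id,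
        LinearMap.id_apply] at e2
      rw [← e2, ← e1, map_zero]
    · exact pr_eq_zero_of_mem_coFil h (by omega) (d_mem_coFil hz')
  obtain ⟨w', hw'⟩ := H z' hdz'
  exact ⟨(T L f n).hom w', by rw [d_T_apply, hw']⟩

end Functoriality

section Trunc

variable {C : Type*} [Category C] [Abelian C]

set_option backward.isDefEq.respectTransparency false in
lemma isIso_πTruncGE_f {ι ι' : Type*} {c : ComplexShape ι} {c' : ComplexShape ι'}
    (K : HomologicalComplex C c') (e : c.Embedding c') [e.IsTruncGE]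
    (i : ι) (hi : ¬ e.BoundaryGE i) : IsIso ((K.πTruncGE e).f (e.f i)) := by
  dsimp [HomologicalComplex.πTruncGE]
  rw [e.isIso_liftExtend_f_iff _ _ rfl]
  exact K.isIso_restrictionToTruncGE' e i hi

set_option backward.isDefEq.respectTransparency false in
lemma isIso_ιTruncLE_f {ι ι' : Type*} {c : ComplexShape ι} {c' : ComplexShape ι'}
    (K : HomologicalComplex C c') (e : c.Embedding c') [e.IsTruncLE]
    (i : ι) (hi : ¬ e.BoundaryLE i) : IsIso ((K.ιTruncLE e).f (e.f i)) := by
  have : IsIso ((K.op.πTruncGE e.op).f (e.op.f i)) :=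
    isIso_πTruncGE_f K.op e.op i (by simpa using hi)
  have : IsIso ((K.op.πTruncGE e.op).f (e.f i)) := this
  exact inferInstanceAs (IsIso ((K.op.πTruncGE e.op).f (e.f i)).unop)

/-- The canonical truncation `τ≤n K ⟶ K` is an isomorphism in degrees `< n`. -/
lemma isIso_ιTruncLE_f_int (K : CochainComplex C ℤ) (n i : ℤ) (hi : i < n) :
    IsIso ((K.ιTruncLE n).f i) := by
  obtain ⟨k, hk⟩ : ∃ k : ℕ, n - k = i := ⟨(n - i).toNat, by omega⟩
  have := isIso_ιTruncLE_f K (ComplexShape.embeddingUpIntLE n) k (by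
    rw [ComplexShape.boundaryLE_embeddingUpIntLE_iff]; omega)
  subst hk
  exact this

end Trunc

variable (K L) in
/-- If `L` is pure acyclic (`X ⊗ L` is exact for every module `X`), then `K ⊗ L` is exact for every
complex `K`. -/
theorem exact_tensorObj_of_pure
    (hpure : ∀ (X : ModuleCat.{v} R) (j : ℤ), Function.Exact ((L.d j (j + 1)).hom.lTensor X)
      ((L.d (j + 1) (j + 1 + 1)).hom.lTensor X)) (n : ℤ) :
    Function.Exact ((tensorObj K L).d n (n + 1)).hom
      ((tensorObj K L).d (n + 1) (n + 1 + 1)).hom := by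
  intro z
  constructor
  · intro hz
    obtain ⟨b, hb⟩ := exists_mem_coFil z
    have hK' : ∀ i : ℤ, b + 2 < i → IsZero ((K.truncLE (b + 2)).X i) :=
      fun i hi => (K.truncLE (b + 2)).isZero_of_isStrictlyLE (b + 2) i hi
    have H := exact_tensorObj_of_cols (K.truncLE (b + 2)) L (b + 2) hK'
      (fun m j => hpure ((K.truncLE (b + 2)).X m) j) n
    exact exists_of_lift L (K.ιTruncLE (b + 2)) b n
      (fun i hi => isIso_ιTruncLE_f_int K (b + 2) i (by omega))
      (fun z' hz' => (H z').1 hz') z hb hz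
  · rintro ⟨w, rfl⟩
    exact congrArg (fun f => f.hom w) ((tensorObj K L).d_comp_d n (n + 1) (n + 1 + 1))

variable (K L) in
/-- If `L` is pure acyclic, then `K ⊗ L` is acyclic for every complex `K`. -/
theorem acyclic_tensorObj_of_pure
    (hpure : ∀ (X : ModuleCat.{v} R) (j : ℤ), Function.Exact ((L.d j (j + 1)).hom.lTensor X)
      ((L.d (j + 1) (j + 1 + 1)).hom.lTensor X)) : (tensorObj K L).Acyclic := by
  rw [acyclic_iff_function_exact]
  exact exact_tensorObj_of_pure K L hpure

end Groth.Agent.Lib.TensorCxPure35
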