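import Groth.Agent.Lib.DTenBase35
import Groth.Agent.Lib.TensorCxPure35

/-!
# Derived base change is computed termwise on K-flat complexes (helper35)

* `exact_whiskerLeft_of_acyclic_single`: if `M[0] ⊗ C` is acyclic then `M ⊗ Cⁿ` is exact.
* `acyclic_extCx_of_isKFlat_of_acyclic`: termwise base change of a K-flat acyclic complex is acyclic.
* `quasiIso_extCx_map`: termwise base change preserves quasi-isomorphisms between K-flat complexes.
* `isIso_baseCmp_of_isKFlat` (S13894).
-/

set_option autoImplicit false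
universe u

open CategoryTheory CategoryTheory.Limits Category MonoidalCategory

attribute [local instance] HasDerivedCategory.standard

namespace Groth.Agent.Lib.DTenBaseFlat35

open DerivedCategory Groth.Agent.Lib.KFlat35 DTen Groth.Agent.Lib.TensorCxZ35
  Groth.Agent.Lib.TensorCxPure35 HomologicalComplex

section Single

variable {R : Type u} [CommRing R]

lemma eq_zero_of_isZero_left (Z X : ModuleCat.{u} R) (hZ : IsZero Z)
    (x : (Z ⊗ X : ModuleCat.{u} R)) : x = 0 := by
  haveI : Subsingleton Z := ModuleCat.subsingleton_of_isZero hZ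
  have key : ∀ y : TensorProduct R Z X, y = 0 := by
    intro y
    induction y using TensorProduct.induction_on with
    | zero => rfl
    | tmul m n => rw [Subsingleton.elim m 0, TensorProduct.zero_tmul]
    | add a b ha hb => rw [ha, hb, add_zero]
  exact key x

lemma whisker_exchange_apply' {W X Y Z : ModuleCat.{u} R} (f : W ⟶ X) (g : Y ⟶ Z)
    (x : (W ⊗ Y : ModuleCat.{u} R)) :
    (f ▷ Z).hom ((W ◁ g).hom x) = (X ◁ g).hom ((f ▷ Y).hom x) :=
  congrArg (fun h => h.hom x) (whisker_exchange f g)

/-- If `M[0] ⊗ C` is acyclic, then `M ⊗ C^•` is exact. -/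
theorem exact_whiskerLeft_of_acyclic_single (M : ModuleCat.{u} R)
    (C : CochainComplex (ModuleCat.{u} R) ℤ)
    (h : (HomologicalComplex.tensorObj ((single (ModuleCat.{u} R) (ComplexShape.up ℤ) 0).obj M) C).Acyclic) (n : ℤ) :
    Function.Exact (M ◁ C.d n (n + 1)).hom (M ◁ C.d (n + 1) (n + 1 + 1)).hom := by
  set S := (single (ModuleCat.{u} R) (ComplexShape.up ℤ) 0).obj M with hS
  let e : S.X 0 ≅ M := singleObjXSelf (ComplexShape.up ℤ) 0 M
  have hS0 : ∀ i : ℤ, i ≠ 0 → IsZero (S.X i) := fun i hi =>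
    isZero_single_obj_X (ComplexShape.up ℤ) 0 M i hi
  have H := (acyclic_iff_function_exact _).1 h n
  -- every element of `(S ⊗ C)ᵐ` comes from the summand `(0, m)`
  have dec : ∀ (m : ℤ) (v : (HomologicalComplex.tensorObj S C).X m),
      v = (ι S C 0 m m (zero_add m)).hom ((pr S C 0 m m (zero_add m)).hom v) := by
    intro m v
    rw [← sub_eq_zero]
    refine eq_zero_of_pr_eq_zero _ (fun i j hij => ?_)
    by_cases hi : i = 0
    · subst hi
      obtain rfl : j = m := by omega
      rw [map_sub, pr_ι_apply, sub_self]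
    · exact eq_zero_of_isZero_left _ _ (hS0 i hi) _
  intro z
  constructor
  · intro hz
    set z' : (S.X 0 ⊗ C.X (n + 1) : ModuleCat.{u} R) := (e.inv ▷ C.X (n + 1)).hom z with hz'
    have hz'0 : (S.X 0 ◁ C.d (n + 1) (n + 1 + 1)).hom z' = 0 := by
      have := whisker_exchange_apply' e.inv (C.d (n + 1) (n + 1 + 1)) z
      rw [hz'] 
      rw [← this, hz, map_zero]
    have hw : ((HomologicalComplex.tensorObj S C).d (n + 1) (n + 1 + 1)).hom
        ((ι S C 0 (n + 1) (n + 1) (zero_add _)).hom z') = 0 := by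
      rw [d_ι_apply, hz'0, map_zero, smul_zero, add_zero]
      rw [eq_zero_of_isZero_left _ _ (hS0 (0 + 1) (by omega))
        ((S.d 0 (0 + 1) ▷ C.X (n + 1)).hom z'), map_zero]
    obtain ⟨v, hv⟩ := (H _).1 hw
    set v₀ := (pr S C 0 n n (zero_add n)).hom v with hv₀
    rw [dec n v, d_ι_apply] at hv
    have hv' := congrArg (pr S C 0 (n + 1) (n + 1) (zero_add _)).hom hv
    rw [map_add, pr_ι_apply_ne S C 0 (n + 1) (0 + 1) n (n + 1) (zero_add _) (by omega) (by omega),
      zero_add, pr_ι_apply] at hv'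
    simp only [Int.negOnePow_zero, one_smul] at hv'
    have hv'' : (S.X 0 ◁ C.d n (n + 1)).hom v₀ = z' := by
      rw [← hv']
      exact (pr_ι_apply S C 0 (n + 1) (n + 1) (zero_add _) _).symm
    refine ⟨(e.hom ▷ C.X n).hom v₀, ?_⟩
    have h1 := whisker_exchange_apply' e.hom (C.d n (n + 1)) v₀
    rw [← h1, hv'', hz']
    have h2 : (e.inv ▷ C.X (n + 1)) ≫ (e.hom ▷ C.X (n + 1)) = 𝟙 _ := by
      rw [← comp_whiskerRight, e.inv_hom_id, id_whiskerRight]
    exact congrArg (fun f => f.hom z) h2
  · rintro ⟨w, rfl⟩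
    have h2 : (M ◁ C.d n (n + 1)) ≫ (M ◁ C.d (n + 1) (n + 1 + 1)) = 0 := by
      rw [← MonoidalCategory.whiskerLeft_comp, C.d_comp_d, MonoidalPreadditive.whiskerLeft_zero]
    exact congrArg (fun f => f.hom w) h2

end Single

section Base

variable {R A : Type u} [CommRing R] [CommRing A] (φ : R →+* A)

/-- Termwise base change of a K-flat acyclic complex is acyclic. -/
theorem acyclic_extCx_of_isKFlat_of_acyclic (C : DRing.Cx R) (hC : IsKFlat C) (hC0 : C.Acyclic) :
    ((extCx φ).obj C).Acyclic := by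
  have h1 := acyclic_tensorObj_of_isKFlat_of_acyclic hC hC0
    ((single (ModuleCat.{u} R) (ComplexShape.up ℤ) 0).obj
      ((ModuleCat.restrictScalars φ).obj (ModuleCat.of A A)))
  rw [acyclic_iff_function_exact]
  intro n z
  exact exact_whiskerLeft_of_acyclic_single _ C h1 n z

/-- Termwise base change preserves quasi-isomorphisms between K-flat complexes. -/
theorem quasiIso_extCx_map {P K : DRing.Cx R} (r : P ⟶ K) [QuasiIso r] (hP : IsKFlat P)
    (hK : IsKFlat K) : QuasiIso ((extCx φ).map r) := by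
  rw [Groth.Agent.Lib.ConeQuasiIso.quasiIso_iff_acyclic_mappingCone]
  have h1 : (CochainComplex.mappingCone r).Acyclic :=
    (Groth.Agent.Lib.ConeQuasiIso.quasiIso_iff_acyclic_mappingCone r).1 inferInstance
  have h2 := acyclic_extCx_of_isKFlat_of_acyclic φ _ (isKFlat_mappingCone r hP hK) h1
  intro i
  exact (h2 i).of_iso
    (CochainComplex.mappingCone.mapHomologicalComplexIso r (ModuleCat.extendScalars.{u, u, u} φ))

/-- `DTen.baseCmp φ` is an isomorphism at K-flat complexes: derived base change is computed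
termwise on K-flat complexes. -/
theorem isIso_baseCmp_of_isKFlat [HasLBase φ] (K : DRing.Cx R) (hK : IsKFlat K) :
    IsIso ((baseCmp φ).app K) := by
  obtain ⟨P, r, hP, hPf, -, hr, -⟩ :=
    Groth.Agent.Lib.SemiFreeKProj35.exists_kprojective_resolution K
  haveI := hP
  haveI := hr
  haveI := quasiIso_extCx_map φ r hPf hK
  have nat := (baseCmp φ).naturality r
  haveI := Groth.Agent.Lib.DTenBase35.isIso_baseCmp_of_kproj φ P
  haveI : IsIso ((Q ⋙ LBase φ).map r) := by
    dsimp only [Functor.comp_map]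
    infer_instance
  haveI : IsIso ((extCx φ ⋙ Q).map r) := by
    dsimp only [Functor.comp_map]
    infer_instance
  have h : (baseCmp φ).app K =
      inv ((Q ⋙ LBase φ).map r) ≫ (baseCmp φ).app P ≫ (extCx φ ⋙ Q).map r := by
    rw [IsIso.eq_inv_comp]
    exact nat
  rw [h]
  infer_instance

end Base

end Groth.Agent.Lib.DTenBaseFlat35
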