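import Groth.Agent.Lib.TensorCxPure35
import Groth.Agent.Lib.BifunctorCone66
import Groth.Agent.Lib.ConeQuasiIso
import Groth.Agent.Lib.ConeAcyclic66
import Groth.Agent.Lib.ProjResolution
import Mathlib.Algebra.Homology.BifunctorFlip
import Mathlib.Algebra.Homology.BifunctorHomotopy
import Groth.Prelude.Def_DRing4

/-!
# K-flat complexes of modules (helper35)

`IsKFlat K`: `L ⊗ K` is acyclic for every acyclic `L` (cochain complexes of `R`-modules, `ℤ`-indexed).

* `acyclic_tensorObj_cone_iff_left/right`: `cone(f) ⊗ K` (resp. `L ⊗ cone(η)`) is acyclic iff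
  `f ⊗ K` (resp. `L ⊗ η`) is a quasi-isomorphism.
* `quasiIso_tensorHom_right`: `- ⊗ K` preserves quasi-isomorphisms for `K` K-flat.
* `acyclic_tensorObj_of_isKFlat_of_acyclic`: if `C` is K-flat and acyclic, `L ⊗ C` is acyclic for all
  `L`.
* `quasiIso_tensorHom_left`: a quasi-isomorphism `α` between K-flat complexes stays a
  quasi-isomorphism after `L ⊗ -`, for every `L`.
-/

set_option autoImplicit false

universe u

namespace Groth.Agent.Lib.KFlat35

open CategoryTheory CategoryTheory.Limits MonoidalCategory HomologicalComplex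
open Groth.Agent.Lib.TensorCxZ35 Groth.Agent.Lib.TensorCxPure35

variable {R : Type u} [CommRing R]

/-- Acyclicity transfers across isomorphisms of complexes. -/
lemma acyclic_of_iso {K K' : CochainComplex (ModuleCat.{u} R) ℤ} (e : K ≅ K') (h : K.Acyclic) :
    K'.Acyclic := fun n => (h n).of_iso e

lemma acyclic_iff_isZero_homology (K : CochainComplex (ModuleCat.{u} R) ℤ) :
    K.Acyclic ↔ ∀ i : ℤ, IsZero (K.homology i) :=
  ⟨fun h i => (HomologicalComplex.exactAt_iff_isZero_homology K i).1 (h i),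
    fun h i => (HomologicalComplex.exactAt_iff_isZero_homology K i).2 (h i)⟩

instance : ((curriedTensor (ModuleCat.{u} R)).flip).Additive := by
  constructor
  intro X Y f g
  ext Z
  simp

instance (X : ModuleCat.{u} R) : (((curriedTensor (ModuleCat.{u} R)).flip).obj X).Additive := by
  constructor
  intro Y Z f g
  simp

/-- `cone(f) ⊗ K` is acyclic iff `f ⊗ K` is a quasi-isomorphism. -/
theorem acyclic_tensorObj_cone_iff_left {L₁ L₂ : CochainComplex (ModuleCat.{u} R) ℤ} (f : L₁ ⟶ L₂)
    (K : CochainComplex (ModuleCat.{u} R) ℤ) :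
    (HomologicalComplex.tensorObj (CochainComplex.mappingCone f) K).Acyclic ↔
      QuasiIso (HomologicalComplex.tensorHom f (𝟙 K)) := by
  rw [Groth.Agent.Lib.ConeQuasiIso.quasiIso_iff_acyclic_mappingCone]
  exact ⟨acyclic_of_iso
      (Groth.Agent.Lib.BifunctorCone66.coneIso₁ (curriedTensor (ModuleCat.{u} R)) f K),
    acyclic_of_iso
      (Groth.Agent.Lib.BifunctorCone66.coneIso₁ (curriedTensor (ModuleCat.{u} R)) f K).symm⟩

/-- `L ⊗ cone(η)` is acyclic iff `L ⊗ η` is a quasi-isomorphism. -/
theorem acyclic_tensorObj_cone_iff_right (L : CochainComplex (ModuleCat.{u} R) ℤ)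
    {M Q : CochainComplex (ModuleCat.{u} R) ℤ} (η : M ⟶ Q) :
    (HomologicalComplex.tensorObj L (CochainComplex.mappingCone η)).Acyclic ↔
      QuasiIso (HomologicalComplex.tensorHom (𝟙 L) η) := by
  let F := curriedTensor (ModuleCat.{u} R)
  let c := ComplexShape.up ℤ
  have nat := HomologicalComplex.mapBifunctorFlipIso_hom_naturality (𝟙 L) η F c
  have e1 : HomologicalComplex.tensorHom (𝟙 L) η =
      (mapBifunctorFlipIso L M F c).inv ≫ mapBifunctorMap η (𝟙 L) F.flip c ≫
        (mapBifunctorFlipIso L Q F c).hom := by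
    rw [nat, Iso.inv_hom_id_assoc]
  have e2 : mapBifunctorMap η (𝟙 L) F.flip c =
      (mapBifunctorFlipIso L M F c).hom ≫ HomologicalComplex.tensorHom (𝟙 L) η ≫
        (mapBifunctorFlipIso L Q F c).inv := by
    rw [← Category.assoc, ← nat, Category.assoc, Iso.hom_inv_id, Category.comp_id]
  have h1 : (HomologicalComplex.tensorObj L (CochainComplex.mappingCone η)).Acyclic ↔
      (mapBifunctor (CochainComplex.mappingCone η) L F.flip c).Acyclic :=
    ⟨acyclic_of_iso (mapBifunctorFlipIso L (CochainComplex.mappingCone η) F c).symm,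
      acyclic_of_iso (mapBifunctorFlipIso L (CochainComplex.mappingCone η) F c)⟩
  have h2 : (mapBifunctor (CochainComplex.mappingCone η) L F.flip c).Acyclic ↔
      (CochainComplex.mappingCone (mapBifunctorMap η (𝟙 L) F.flip c)).Acyclic :=
    ⟨acyclic_of_iso (Groth.Agent.Lib.BifunctorCone66.coneIso₁ F.flip η L),
      acyclic_of_iso (Groth.Agent.Lib.BifunctorCone66.coneIso₁ F.flip η L).symm⟩
  rw [h1, h2, ← Groth.Agent.Lib.ConeQuasiIso.quasiIso_iff_acyclic_mappingCone]
  constructor
  · intro h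
    rw [e1]
    infer_instance
  · intro h
    rw [e2]
    infer_instance

/-- K-flat complexes. -/
def IsKFlat (K : CochainComplex (ModuleCat.{u} R) ℤ) : Prop :=
  ∀ L : CochainComplex (ModuleCat.{u} R) ℤ, L.Acyclic → (HomologicalComplex.tensorObj L K).Acyclic

lemma isKFlat_iff (K : CochainComplex (ModuleCat.{u} R) ℤ) :
    IsKFlat K ↔ ∀ L : CochainComplex (ModuleCat.{u} R) ℤ, (∀ i : ℤ, IsZero (L.homology i)) →
      ∀ i : ℤ, IsZero ((L ⊗ K).homology i) := by
  constructor
  · intro h L hL
    exact (acyclic_iff_isZero_homology _).1 (h L ((acyclic_iff_isZero_homology L).2 hL))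
  · intro h L hL
    exact (acyclic_iff_isZero_homology _).2 (h L ((acyclic_iff_isZero_homology L).1 hL))

/-- `- ⊗ K` preserves quasi-isomorphisms when `K` is K-flat. -/
theorem quasiIso_tensorHom_right {K : CochainComplex (ModuleCat.{u} R) ℤ} (hK : IsKFlat K)
    {L₁ L₂ : CochainComplex (ModuleCat.{u} R) ℤ} (f : L₁ ⟶ L₂) [QuasiIso f] :
    QuasiIso (HomologicalComplex.tensorHom f (𝟙 K)) := by
  rw [← acyclic_tensorObj_cone_iff_left]
  exact hK _ ((Groth.Agent.Lib.ConeQuasiIso.quasiIso_iff_acyclic_mappingCone f).1 inferInstance)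

/-- Acyclicity transfers along quasi-isomorphisms. -/
lemma acyclic_of_quasiIso {K K' : CochainComplex (ModuleCat.{u} R) ℤ} (f : K ⟶ K') [QuasiIso f]
    (h : K.Acyclic) : K'.Acyclic := fun n =>
  (exactAt_iff_of_quasiIsoAt f n).1 (h n)

/-- A bounded above complex with projective terms is K-flat on the left: `P ⊗ C` is acyclic for
acyclic `C`. -/
lemma acyclic_tensorObj_of_projective (P C : CochainComplex (ModuleCat.{u} R) ℤ) (b : ℤ)
    [P.IsStrictlyLE b] (hP : ∀ n : ℤ, Projective (P.X n)) (hC : C.Acyclic) :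
    (HomologicalComplex.tensorObj P C).Acyclic := by
  refine acyclic_tensorObj_of_flat P C (fun i => ?_) b
    (fun i hi => P.isZero_of_isStrictlyLE b i hi) hC
  haveI : Module.Projective R (P.X i) := (IsProjective.iff_projective (P.X i)).2 (hP i)
  infer_instance

/-- If `C` is K-flat and acyclic, then `L ⊗ C` is acyclic for every complex `L`. -/
theorem acyclic_tensorObj_of_isKFlat_of_acyclic {C : CochainComplex (ModuleCat.{u} R) ℤ}
    (hC : IsKFlat C) (hC0 : C.Acyclic) (L : CochainComplex (ModuleCat.{u} R) ℤ) :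
    (HomologicalComplex.tensorObj L C).Acyclic := by
  -- bounded above case
  have bdd : ∀ (B : ℤ), (HomologicalComplex.tensorObj (L.truncLE B) C).Acyclic := by
    intro B
    obtain ⟨P, p, hp, hP, hPb⟩ :=
      Groth.Agent.Lib.ProjResolution.exists_quasiIso_projective (L.truncLE B) B
    have h1 : (HomologicalComplex.tensorObj P C).Acyclic :=
      acyclic_tensorObj_of_projective P C B hP hC0
    haveI := quasiIso_tensorHom_right hC p
    exact acyclic_of_quasiIso (HomologicalComplex.tensorHom p (𝟙 C)) h1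
  rw [acyclic_iff_function_exact]
  intro n z
  constructor
  · intro hz
    obtain ⟨b, hb⟩ := exists_mem_coFil z
    have H := (acyclic_iff_function_exact _).1 (bdd (b + 2)) n
    exact exists_of_lift C (L.ιTruncLE (b + 2)) b n
      (fun i hi => isIso_ιTruncLE_f_int L (b + 2) i (by omega))
      (fun z' hz' => (H z').1 hz') z hb hz
  · rintro ⟨w, rfl⟩
    exact congrArg (fun f => f.hom w)
      ((HomologicalComplex.tensorObj L C).d_comp_d n (n + 1) (n + 1 + 1))

/-- The cone of a morphism between K-flat complexes is K-flat. -/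
theorem isKFlat_mappingCone {P Q : CochainComplex (ModuleCat.{u} R) ℤ} (α : P ⟶ Q)
    (hP : IsKFlat P) (hQ : IsKFlat Q) : IsKFlat (CochainComplex.mappingCone α) := by
  intro A hA
  rw [acyclic_tensorObj_cone_iff_right]
  exact Groth.Agent.Lib.ConeAcyclic66.quasiIso_of_acyclic _
    ((acyclic_iff_isZero_homology _).1 (hP A hA)) ((acyclic_iff_isZero_homology _).1 (hQ A hA))

/-- A quasi-isomorphism between K-flat complexes stays a quasi-isomorphism after `L ⊗ -`. -/
theorem quasiIso_tensorHom_left {P Q : CochainComplex (ModuleCat.{u} R) ℤ} (α : P ⟶ Q)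
    [QuasiIso α] (hP : IsKFlat P) (hQ : IsKFlat Q) (L : CochainComplex (ModuleCat.{u} R) ℤ) :
    QuasiIso (HomologicalComplex.tensorHom (𝟙 L) α) := by
  rw [← acyclic_tensorObj_cone_iff_right]
  exact acyclic_tensorObj_of_isKFlat_of_acyclic (isKFlat_mappingCone α hP hQ)
    ((Groth.Agent.Lib.ConeQuasiIso.quasiIso_iff_acyclic_mappingCone α).1 inferInstance) L

/-- K-flatness passes to homotopy retracts. -/
theorem IsKFlat.of_retract {E E' : CochainComplex (ModuleCat.{u} R) ℤ} (f : E' ⟶ E) (g : E ⟶ E')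
    (h : Homotopy (f ≫ g) (𝟙 E')) (hE : IsKFlat E) : IsKFlat E' := by
  intro A hA
  rw [acyclic_iff_isZero_homology]
  intro i
  rw [IsZero.iff_id_eq_zero]
  have h1 : Homotopy (HomologicalComplex.tensorHom (𝟙 A) (f ≫ g))
      (HomologicalComplex.tensorHom (𝟙 A) (𝟙 E')) :=
    HomologicalComplex.mapBifunctorMapHomotopy₂ (𝟙 A) h (curriedTensor _) (ComplexShape.up ℤ)
  have h2 := h1.homologyMap_eq i
  have e1 : HomologicalComplex.tensorHom (𝟙 A) (f ≫ g) =
      HomologicalComplex.tensorHom (𝟙 A) f ≫ HomologicalComplex.tensorHom (𝟙 A) g :=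
    MonoidalCategory.whiskerLeft_comp A f g
  have e2 : HomologicalComplex.tensorHom (𝟙 A) (𝟙 E') = 𝟙 _ := MonoidalCategory.whiskerLeft_id A E'
  rw [e1, e2, HomologicalComplex.homologyMap_comp, HomologicalComplex.homologyMap_id] at h2
  rw [← h2, ((acyclic_iff_isZero_homology _).1 (hE A hA) i).eq_of_tgt
    (HomologicalComplex.homologyMap (HomologicalComplex.tensorHom (𝟙 A) f) i) 0, zero_comp]

/-- K-flatness is invariant under homotopy equivalence. -/
theorem isKFlat_iff_of_homotopyEquiv {E E' : CochainComplex (ModuleCat.{u} R) ℤ}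
    (e : HomotopyEquiv E E') : IsKFlat E ↔ IsKFlat E' :=
  ⟨IsKFlat.of_retract e.inv e.hom e.homotopyInvHomId,
    IsKFlat.of_retract e.hom e.inv e.homotopyHomInvId⟩

/-- If the source and the cone of `φ` are K-flat, so is the target. -/
theorem isKFlat_tgt_of_cone {P Q : CochainComplex (ModuleCat.{u} R) ℤ} (α : P ⟶ Q)
    (hP : IsKFlat P) (hC : IsKFlat (CochainComplex.mappingCone α)) : IsKFlat Q := by
  intro A hA
  haveI := (acyclic_tensorObj_cone_iff_right A α).1 (hC A hA)
  exact acyclic_of_quasiIso (HomologicalComplex.tensorHom (𝟙 A) α) (hP A hA)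

/-- If the target and the cone of `φ` are K-flat, so is the source. -/
theorem isKFlat_src_of_cone {P Q : CochainComplex (ModuleCat.{u} R) ℤ} (α : P ⟶ Q)
    (hQ : IsKFlat Q) (hC : IsKFlat (CochainComplex.mappingCone α)) : IsKFlat P := by
  intro A hA
  haveI := (acyclic_tensorObj_cone_iff_right A α).1 (hC A hA)
  exact fun n => (exactAt_iff_of_quasiIsoAt (HomologicalComplex.tensorHom (𝟙 A) α) n).2 (hQ A hA n)

end Groth.Agent.Lib.KFlat35
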