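import Groth.Prelude.Def_DTen5
import Groth.Agent.Lib.KFlat35
import Groth.Agent.Lib.TensorCxPure35
import Groth.Agent.Lib.KInjAdj

/-!
# The projection formula for complexes `L|_R ⊗_R K ≅ (L ⊗_A (K ⊗_R A))|_R` (helper35)
-/

set_option autoImplicit false
universe u

open CategoryTheory CategoryTheory.Limits Category MonoidalCategory TensorProduct

namespace Groth.Agent.Lib.ProjFormula35

open DTen

section ModuleLevel

variable {R A : Type u} [CommRing R] [CommRing A] (φ : R →+* A)
variable (M : ModuleCat.{u} A) (N : ModuleCat.{u} R)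

/-- The map `M|_R ⊗_R N ⟶ (M ⊗_A (A ⊗_R N))|_R`, `m ⊗ n ↦ m ⊗ (1 ⊗ n)`. -/
noncomputable def pfM :
    (resM φ).obj M ⊗ N ⟶ (resM φ).obj (M ⊗ (ModuleCat.extendScalars.{u, u, u} φ).obj N) :=
  ((resM φ).obj M ◁ (ModuleCat.extendRestrictScalarsAdj.{u, u, u} φ).unit.app N) ≫
    resTen₀app φ M ((ModuleCat.extendScalars.{u, u, u} φ).obj N)

/-- the carrier of `A ⊗_R N` -/
abbrev ExtT : Type u := TensorProduct R ((resM φ).obj (ModuleCat.of A A)) N

/-- the carrier of `M ⊗_A (A ⊗_R N)` -/
abbrev Tgt : Type u := (M ⊗ (ModuleCat.extendScalars.{u, u, u} φ).obj N : ModuleCat.{u} A)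

/-- the carrier of `M|_R ⊗_R N` -/
abbrev Src : Type u := ((resM φ).obj M ⊗ N : ModuleCat.{u} R)

lemma pfM_tmul (m : M) (n : N) :
    (pfM φ M N).hom ((show (resM φ).obj M from m) ⊗ₜ[R] n) =
      (show (resM φ).obj (M ⊗ (ModuleCat.extendScalars.{u, u, u} φ).obj N) from
        (m ⊗ₜ[A] (show (ModuleCat.extendScalars.{u, u, u} φ).obj N from
          ((1 : A) ⊗ₜ[R] n : ExtT φ N)) : Tgt φ M N)) := rfl

/-- `a ⊗ n ↦ (a • m) ⊗ n`. -/
noncomputable def inner (m : M) : ExtT φ N →+ Src φ M N :=
  TensorProduct.liftAddHom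
    { toFun := fun (a : (resM φ).obj (ModuleCat.of A A)) =>
        { toFun := fun n => ((show (resM φ).obj M from ((show A from a) • m)) ⊗ₜ[R] n : Src φ M N)
          map_zero' := TensorProduct.tmul_zero _ _
          map_add' := fun _ _ => TensorProduct.tmul_add _ _ _ }
      map_zero' := by
        ext n
        change (show (resM φ).obj M from ((0 : A) • m)) ⊗ₜ[R] n = 0
        rw [zero_smul]
        exact TensorProduct.zero_tmul _ _
      map_add' := fun a a' => by
        ext n
        change (show (resM φ).obj M from (((show A from a) + (show A from a')) • m)) ⊗ₜ[R] n =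
          (show (resM φ).obj M from ((show A from a) • m)) ⊗ₜ[R] n +
            (show (resM φ).obj M from ((show A from a') • m)) ⊗ₜ[R] n
        rw [add_smul]
        exact TensorProduct.add_tmul _ _ _ }
    (fun r a n => by
      change (show (resM φ).obj M from ((φ r * (show A from a)) • m)) ⊗ₜ[R] n =
        (show (resM φ).obj M from ((show A from a) • m)) ⊗ₜ[R] (r • n)
      rw [← TensorProduct.smul_tmul, mul_smul]
      rfl)

lemma inner_tmul (m : M) (a : A) (n : N) :
    inner φ M N m ((show (resM φ).obj (ModuleCat.of A A) from a) ⊗ₜ[R] n) =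
      (show (resM φ).obj M from (a • m)) ⊗ₜ[R] n := rfl

lemma inner_zero (x : ExtT φ N) : inner φ M N 0 x = 0 := by
  induction x using TensorProduct.induction_on with
  | zero => exact map_zero _
  | tmul a n =>
    change (show (resM φ).obj M from ((show A from a) • (0 : M))) ⊗ₜ[R] n = 0
    rw [smul_zero]
    exact TensorProduct.zero_tmul _ _
  | add x y hx hy => rw [map_add, hx, hy, add_zero]

lemma inner_add (m m' : M) (x : ExtT φ N) :
    inner φ M N (m + m') x = inner φ M N m x + inner φ M N m' x := by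
  induction x using TensorProduct.induction_on with
  | zero => simp only [map_zero, add_zero]
  | tmul a n =>
    change (show (resM φ).obj M from ((show A from a) • (m + m'))) ⊗ₜ[R] n =
      (show (resM φ).obj M from ((show A from a) • m)) ⊗ₜ[R] n +
        (show (resM φ).obj M from ((show A from a) • m')) ⊗ₜ[R] n
    rw [smul_add]
    exact TensorProduct.add_tmul _ _ _
  | add x y hx hy =>
    rw [map_add, map_add, map_add, hx, hy]
    abel

lemma inner_smul (a' : A) (m : M) (x : ExtT φ N) :
    inner φ M N (a' • m) x =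
      inner φ M N m (a' • (show (ModuleCat.extendScalars.{u, u, u} φ).obj N from x)) := by
  induction x using TensorProduct.induction_on with
  | zero =>
    have h : a' • (0 : (ModuleCat.extendScalars.{u, u, u} φ).obj N) = 0 := smul_zero a'
    exact (map_zero (inner φ M N (a' • m))).trans
      ((congrArg (inner φ M N m) h).trans (map_zero (inner φ M N m))).symm
  | tmul a n =>
    change (show (resM φ).obj M from ((show A from a) • a' • m)) ⊗ₜ[R] n =
      (show (resM φ).obj M from ((a' * (show A from a)) • m)) ⊗ₜ[R] n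
    rw [smul_smul, mul_comm]
  | add x y hx hy =>
    have h : a' • (show (ModuleCat.extendScalars.{u, u, u} φ).obj N from x + y) =
        a' • (show (ModuleCat.extendScalars.{u, u, u} φ).obj N from x) +
          a' • (show (ModuleCat.extendScalars.{u, u, u} φ).obj N from y) := smul_add a' _ _
    exact (map_add (inner φ M N (a' • m)) x y).trans ((congrArg₂ (· + ·) hx hy).trans
      ((map_add (inner φ M N m) _ _).symm.trans (congrArg (inner φ M N m) h.symm)))

/-- The inverse of `pfM` as an additive map: `m ⊗ (a ⊗ n) ↦ (a • m) ⊗ n`. -/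
noncomputable def pfInv : Tgt φ M N →+ Src φ M N :=
  TensorProduct.liftAddHom
    { toFun := fun (m : M) =>
        (inner φ M N m : ((ModuleCat.extendScalars.{u, u, u} φ).obj N) →+ Src φ M N)
      map_zero' := by
        ext x
        exact inner_zero φ M N x
      map_add' := fun m m' => by
        ext x
        exact inner_add φ M N m m' x }
    (fun a' m x => inner_smul φ M N a' m x)

lemma pfInv_tmul (m : M) (x : (ModuleCat.extendScalars.{u, u, u} φ).obj N) :
    pfInv φ M N (m ⊗ₜ[A] x) = inner φ M N m x := rfl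

lemma pfInv_pfM (z : Src φ M N) : pfInv φ M N ((pfM φ M N).hom z) = z := by
  induction z using TensorProduct.induction_on with
  | zero =>
    exact (congrArg (pfInv φ M N) (map_zero (pfM φ M N).hom)).trans (map_zero (pfInv φ M N))
  | tmul m n =>
    change (show (resM φ).obj M from ((1 : A) • (show M from m))) ⊗ₜ[R] n = m ⊗ₜ[R] n
    rw [one_smul]
  | add x y hx hy =>
    exact (congrArg (pfInv φ M N) (map_add (pfM φ M N).hom x y)).trans
      ((map_add (pfInv φ M N) _ _).trans (congrArg₂ (· + ·) hx hy))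

lemma pfM_inner (m : M) (x : ExtT φ N) :
    (pfM φ M N).hom (inner φ M N m x) =
      (show (resM φ).obj (M ⊗ (ModuleCat.extendScalars.{u, u, u} φ).obj N) from
        (m ⊗ₜ[A] (show (ModuleCat.extendScalars.{u, u, u} φ).obj N from x) : Tgt φ M N)) := by
  induction x using TensorProduct.induction_on with
  | zero =>
    have h : (m ⊗ₜ[A] (0 : (ModuleCat.extendScalars.{u, u, u} φ).obj N) : Tgt φ M N) = 0 :=
      TensorProduct.tmul_zero _ _
    exact (congrArg (pfM φ M N).hom (map_zero (inner φ M N m))).trans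
      ((map_zero (pfM φ M N).hom).trans h.symm)
  | tmul a n =>
    change (show (resM φ).obj (M ⊗ (ModuleCat.extendScalars.{u, u, u} φ).obj N) from
      (((show A from a) • m) ⊗ₜ[A] (show (ModuleCat.extendScalars.{u, u, u} φ).obj N from
        ((1 : A) ⊗ₜ[R] n : ExtT φ N)) : Tgt φ M N)) = _
    have h1 : (((show A from a) • m) ⊗ₜ[A] (show (ModuleCat.extendScalars.{u, u, u} φ).obj N from
        ((1 : A) ⊗ₜ[R] n : ExtT φ N)) : Tgt φ M N) =
        (m ⊗ₜ[A] ((show A from a) • (show (ModuleCat.extendScalars.{u, u, u} φ).obj N from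
          ((1 : A) ⊗ₜ[R] n : ExtT φ N))) : Tgt φ M N) := TensorProduct.smul_tmul _ _ _
    have h2 : (show A from a) • (show (ModuleCat.extendScalars.{u, u, u} φ).obj N from
        ((1 : A) ⊗ₜ[R] n : ExtT φ N)) =
        (show (ModuleCat.extendScalars.{u, u, u} φ).obj N from (a ⊗ₜ[R] n : ExtT φ N)) := by
      have h3 : (show A from a) * 1 = (show A from a) := mul_one _
      exact congrArg (fun t : A => ((show (resM φ).obj (ModuleCat.of A A) from t) ⊗ₜ[R] n :
        ExtT φ N)) h3
    rw [h2] at h1
    exact h1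
  | add x y hx hy =>
    have h : (m ⊗ₜ[A] (show (ModuleCat.extendScalars.{u, u, u} φ).obj N from x + y) : Tgt φ M N) =
        (m ⊗ₜ[A] (show (ModuleCat.extendScalars.{u, u, u} φ).obj N from x) : Tgt φ M N) +
          (m ⊗ₜ[A] (show (ModuleCat.extendScalars.{u, u, u} φ).obj N from y) : Tgt φ M N) :=
      TensorProduct.tmul_add _ _ _
    exact (congrArg (pfM φ M N).hom (map_add (inner φ M N m) x y)).trans
      ((map_add (pfM φ M N).hom _ _).trans ((congrArg₂ (· + ·) hx hy).trans h.symm))

lemma pfM_pfInv (w : Tgt φ M N) : (pfM φ M N).hom (pfInv φ M N w) = w := by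
  induction w using TensorProduct.induction_on with
  | zero =>
    exact (congrArg (pfM φ M N).hom (map_zero (pfInv φ M N))).trans (map_zero (pfM φ M N).hom)
  | tmul m x => exact pfM_inner φ M N m x
  | add x y hx hy =>
    exact (congrArg (pfM φ M N).hom (map_add (pfInv φ M N) x y)).trans
      ((map_add (pfM φ M N).hom _ _).trans (congrArg₂ (· + ·) hx hy))

lemma pfM_bijective : Function.Bijective (pfM φ M N).hom :=
  ⟨Function.LeftInverse.injective (pfInv_pfM φ M N),
    Function.RightInverse.surjective (pfM_pfInv φ M N)⟩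

instance isIso_pfM : IsIso (pfM φ M N) :=
  (ConcreteCategory.isIso_iff_bijective _).2 (pfM_bijective φ M N)

end ModuleLevel

section ComplexLevel

set_option backward.isDefEq.respectTransparency false

open HomologicalComplex

variable {R A : Type u} [CommRing R] [CommRing A] (φ : R →+* A)
variable (L : DRing.Cx A) (K : DRing.Cx R)

/-- The projection formula map of complexes `L|_R ⊗_R K ⟶ (L ⊗_A (K ⊗_R A))|_R`. -/
noncomputable def pfCx :
    (resCx φ).obj L ⊗ K ⟶ (resCx φ).obj (L ⊗ (extCx φ).obj K) :=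
  ((resCx φ).obj L ◁ (unitCx φ).app K) ≫ resTenCx φ L ((extCx φ).obj K)

lemma ι_whiskerLeft' (X : DRing.Cx R) {Y Y' : DRing.Cx R} (f : Y ⟶ Y') (i j n : ℤ)
    (h : i + j = n) :
    ιTensorObj X Y i j n h ≫ (X ◁ f).f n = (X.X i ◁ f.f j) ≫ ιTensorObj X Y' i j n h := by
  change ιMapBifunctor X Y _ _ i j n h ≫ (mapBifunctorMap (𝟙 X) f _ _).f n = _
  rw [ι_mapBifunctorMap]
  dsimp
  simp

/-- `pfM` with target spelled through the complex `extCx φ K`. -/
noncomputable def pfM' (p q : ℤ) :
    ((resCx φ).obj L).X p ⊗ K.X q ⟶ (resM φ).obj (L.X p ⊗ ((extCx φ).obj K).X q) :=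
  pfM φ (L.X p) (K.X q)

lemma pfM'_bijective (p q : ℤ) : Function.Bijective (pfM' φ L K p q).hom :=
  pfM_bijective φ (L.X p) (K.X q)

lemma ι_pfCx (p q n : ℤ) (h : p + q = n) :
    ιTensorObj ((resCx φ).obj L) K p q n h ≫ (pfCx φ L K).f n =
      pfM' φ L K p q ≫ (resM φ).map (ιTensorObj L ((extCx φ).obj K) p q n h) := by
  dsimp only [pfCx]
  rw [HomologicalComplex.comp_f, ← Category.assoc, ι_whiskerLeft', Category.assoc]
  erw [ι_resTenCx φ L ((extCx φ).obj K) p q n h]
  rfl

open Groth.Agent.Lib.TensorCxZ35 Groth.Agent.Lib.TensorCxPure35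

lemma pfCx_pr (p q n : ℤ) (h : p + q = n) :
    (pfCx φ L K).f n ≫ (resM φ).map (pr L ((extCx φ).obj K) p q n h) =
      pr ((resCx φ).obj L) K p q n h ≫ pfM' φ L K p q := by
  apply mapBifunctor.hom_ext
  intro p' q' h'
  change ιTensorObj ((resCx φ).obj L) K p' q' n h' ≫ _ = ιTensorObj ((resCx φ).obj L) K p' q' n h' ≫ _
  rw [← Category.assoc, ι_pfCx, Category.assoc, ← Functor.map_comp]
  by_cases hh : p' = p ∧ q' = q
  · obtain ⟨rfl, rfl⟩ := hh
    have e1 := ι_pr_self L ((extCx φ).obj K) p' q' n h
    have e2 := ι_pr_self ((resCx φ).obj L) K p' q' n h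
    dsimp only [ι] at e1 e2
    rw [e1, ← Category.assoc, e2, CategoryTheory.Functor.map_id, Category.comp_id, Category.id_comp]
  · have e1 := ι_pr_ne L ((extCx φ).obj K) p q p' q' n h h' hh
    have e2 := ι_pr_ne ((resCx φ).obj L) K p q p' q' n h h' hh
    dsimp only [ι] at e1 e2
    rw [e1, ← Category.assoc, e2, CategoryTheory.Functor.map_zero, comp_zero, zero_comp]

lemma pfCx_f_injective (n : ℤ) : Function.Injective ((pfCx φ L K).f n).hom := by
  rw [injective_iff_map_eq_zero]
  intro z hz
  refine eq_zero_of_pr_eq_zero z (fun p q h => ?_)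
  have h1 := congrArg (fun g => g.hom z) (pfCx_pr φ L K p q n h)
  simp only [ModuleCat.hom_comp, LinearMap.comp_apply] at h1
  rw [hz, map_zero] at h1
  exact (pfM'_bijective φ L K p q).1 (h1.symm.trans (map_zero _).symm)

lemma pfCx_f_surjective (n : ℤ) : Function.Surjective ((pfCx φ L K).f n).hom := by
  intro w
  have hw : (show (HomologicalComplex.tensorObj L ((extCx φ).obj K)).X n from w) ∈
      (⊤ : Submodule A ((HomologicalComplex.tensorObj L ((extCx φ).obj K)).X n)) := Submodule.mem_top
  rw [← iSup_range_ι L ((extCx φ).obj K) n] at hw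
  let P : (HomologicalComplex.tensorObj L ((extCx φ).obj K)).X n → Prop := fun x =>
    ∃ z, (show (HomologicalComplex.tensorObj L ((extCx φ).obj K)).X n from
      ((pfCx φ L K).f n).hom z) = x
  have zero : P 0 := ⟨0, map_zero ((pfCx φ L K).f n).hom⟩
  have add : ∀ x y, P x → P y → P (x + y) := by
    rintro x y ⟨a, rfl⟩ ⟨b, rfl⟩
    exact ⟨a + b, map_add ((pfCx φ L K).f n).hom _ _⟩
  have key : P w := by
    refine Submodule.iSup_induction _ (motive := P) hw (fun p x hx => ?_) zero add
    refine Submodule.iSup_induction _ (motive := P) hx (fun q x hx => ?_) zero add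
    refine Submodule.iSup_induction _ (motive := P) hx (fun h x hx => ?_) zero add
    obtain ⟨y, rfl⟩ := hx
    obtain ⟨y', hy'⟩ := (pfM'_bijective φ L K p q).2 y
    refine ⟨(ιTensorObj ((resCx φ).obj L) K p q n h).hom y', ?_⟩
    have e := congrArg (fun g => g.hom y') (ι_pfCx φ L K p q n h)
    simp only [ModuleCat.hom_comp, LinearMap.comp_apply] at e
    rw [hy'] at e
    exact e
  exact key

instance isIso_pfCx : IsIso (pfCx φ L K) := by
  have : ∀ n, IsIso ((pfCx φ L K).f n) := fun n =>
    (ConcreteCategory.isIso_iff_bijective _).2 ⟨pfCx_f_injective φ L K n, pfCx_f_surjective φ L K n⟩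
  exact HomologicalComplex.Hom.isIso_of_components _

/-- The projection formula isomorphism of complexes. -/
noncomputable def pfIso : (resCx φ).obj L ⊗ K ≅ (resCx φ).obj (L ⊗ (extCx φ).obj K) :=
  asIso (pfCx φ L K)

open Groth.Agent.Lib.KFlat35

/-- Acyclicity is reflected by restriction of scalars. -/
lemma acyclic_of_resCx (X : DRing.Cx A) (h : ((resCx φ).obj X).Acyclic) : X.Acyclic := by
  rw [acyclic_iff_function_exact] at h ⊢
  intro n z
  exact h n z

/-- Termwise base change of a K-flat complex is K-flat. -/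
theorem isKFlat_extCx (hK : IsKFlat K) : IsKFlat ((extCx φ).obj K) := by
  intro L hL
  have h1 : ((resCx φ).obj L).Acyclic :=
    Groth.Agent.Lib.KInjAdj.acyclic_map (ModuleCat.restrictScalars.{u} φ) L hL
  have h2 := hK _ h1
  exact acyclic_of_resCx φ _ (acyclic_of_iso (pfIso φ L K) h2)

end ComplexLevel

end Groth.Agent.Lib.ProjFormula35
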