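import Groth.Agent.Lib.DTenBaseFlat35
import Groth.Agent.Lib.ProjFormula35
import Groth.Prelude.Def_DTen6

/-!
# The mixed derived tensor products `LTenMix`, `LTenMix₃` on good representatives (helper35)

* `isKFlat_tensorObj`: the tensor product of K-flat complexes is K-flat.
* `isIso_εMix_left`, `isIso_εMix_right`: the counit of the mixed derived tensor product at a pair with one
  K-projective + K-flat entry (and the other K-flat resp. arbitrary).
* `isIso_εMix₃_of_kproj`.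
* `isIso_leg₃L_app`, `isIso_leg₃R_app` (S14268).
-/

set_option autoImplicit false
universe u

open CategoryTheory CategoryTheory.Limits Category MonoidalCategory

attribute [local instance] HasDerivedCategory.standard

namespace Groth.Agent.Lib.DTenMix35

open DerivedCategory Groth.Agent.Lib.KFlat35 DTen Groth.Agent.Lib.DTenBase35
  Groth.Agent.Lib.DTenBaseFlat35 Groth.Agent.Lib.ProjFormula35

section Flat

variable {A : Type u} [CommRing A]

/-- The tensor product of K-flat complexes is K-flat. -/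
theorem isKFlat_tensorObj {Y₁ Y₂ : DRing.Cx A} (h₁ : IsKFlat Y₁) (h₂ : IsKFlat Y₂) :
    IsKFlat (Y₁ ⊗ Y₂) := by
  intro L hL
  have h := h₂ _ (h₁ L hL)
  exact acyclic_of_iso (α_ L Y₁ Y₂) h

/-- Tensoring on the left with a K-flat complex preserves quasi-isomorphisms. -/
lemma quasiIso_whiskerLeft_of_isKFlat' {K : DRing.Cx A} (hK : IsKFlat K) {R N : DRing.Cx A}
    (r : R ⟶ N) [QuasiIso r] : QuasiIso (K ◁ r) := by
  haveI : QuasiIso (r ▷ K) := by
    have := quasiIso_tensorHom_right hK r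
    exact this
  have e : K ◁ r = (DTen.braidCx K R).hom ≫ (r ▷ K) ≫ (DTen.braidCx K N).inv := by
    have := DTen.braidCx_naturality (𝟙 K) r
    rw [MonoidalCategory.id_tensorHom, MonoidalCategory.tensorHom_id] at this
    rw [← Category.assoc, ← this, Category.assoc, Iso.hom_inv_id, Category.comp_id]
  rw [e]
  infer_instance

end Flat

section Mix

variable {A B : Type u} [CommRing A] [CommRing B] (φ : A →+* B) [HasLTenMix φ]

lemma isIso_QMix_map {X Y : DRing.Cx A × DRing.Cx B} (f : X ⟶ Y) [QuasiIso f.1] [QuasiIso f.2] :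
    IsIso ((QMix A B).map f) := by
  rw [isIso_prod_iff]
  exact ⟨inferInstanceAs (IsIso (Q.map f.1)), inferInstanceAs (IsIso (Q.map f.2))⟩

/-- The counit at `(M, Z)` is an isomorphism when `M` is K-projective and K-flat. -/
theorem isIso_εMix_left (M : DRing.Cx A) (Z : DRing.Cx B) [M.IsKProjective] (hM : IsKFlat M) :
    IsIso ((εMix φ).app (M, Z)) := by
  obtain ⟨P, r, hP, -, -, hr, -⟩ :=
    Groth.Agent.Lib.SemiFreeKProj35.exists_kprojective_resolution Z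
  haveI := hP
  haveI := hr
  have nat := (εMix φ).naturality (X := (M, P)) (Y := (M, Z)) (𝟙 M, r)
  haveI : IsIso ((QMix A B ⋙ LTenMix φ).map (X := (M, P)) (Y := (M, Z)) (𝟙 M, r)) := by
    haveI : QuasiIso (Prod.fst ((𝟙 M, r) : ((M, P) : DRing.Cx A × DRing.Cx B) ⟶ (M, Z))) :=
      inferInstanceAs (QuasiIso (𝟙 M))
    haveI : QuasiIso (Prod.snd ((𝟙 M, r) : ((M, P) : DRing.Cx A × DRing.Cx B) ⟶ (M, Z))) := hr
    haveI := isIso_QMix_map (X := (M, P)) (Y := (M, Z)) (𝟙 M, r)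
    exact inferInstanceAs (IsIso ((LTenMix φ).map ((QMix A B).map _)))
  haveI := isIso_εMix_of_kproj φ M P
  haveI : IsIso ((mix₂ φ).map (X := (M, P)) (Y := (M, Z)) (𝟙 M, r)) := by
    have e : (mixT φ).map (X := (M, P)) (Y := (M, Z)) (𝟙 M, r) = (extCx φ).obj M ◁ r := by
      simp
    haveI := quasiIso_whiskerLeft_of_isKFlat' (isKFlat_extCx φ M hM) r
    change IsIso (Q.map ((mixT φ).map (X := (M, P)) (Y := (M, Z)) (𝟙 M, r)))
    rw [e]
    infer_instance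
  haveI : IsIso ((εMix φ).app (M, P) ≫
      (mix₂ φ).map (X := (M, P)) (Y := (M, Z)) (𝟙 M, r)) := inferInstance
  exact IsIso.of_isIso_fac_left nat

/-- The counit at `(Y, K)` is an isomorphism when `K` is K-projective and K-flat and `Y` is K-flat. -/
theorem isIso_εMix_right (Y : DRing.Cx A) (K : DRing.Cx B) [K.IsKProjective] (hY : IsKFlat Y)
    (hK : IsKFlat K) : IsIso ((εMix φ).app (Y, K)) := by
  obtain ⟨P, r, hP, hPf, -, hr, -⟩ :=
    Groth.Agent.Lib.SemiFreeKProj35.exists_kprojective_resolution Y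
  haveI := hP
  haveI := hr
  have nat := (εMix φ).naturality (X := (P, K)) (Y := (Y, K)) (r, 𝟙 K)
  haveI : IsIso ((QMix A B ⋙ LTenMix φ).map (X := (P, K)) (Y := (Y, K)) (r, 𝟙 K)) := by
    haveI : QuasiIso (Prod.fst ((r, 𝟙 K) : ((P, K) : DRing.Cx A × DRing.Cx B) ⟶ (Y, K))) := hr
    haveI : QuasiIso (Prod.snd ((r, 𝟙 K) : ((P, K) : DRing.Cx A × DRing.Cx B) ⟶ (Y, K))) :=
      inferInstanceAs (QuasiIso (𝟙 K))
    haveI := isIso_QMix_map (X := (P, K)) (Y := (Y, K)) (r, 𝟙 K)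
    exact inferInstanceAs (IsIso ((LTenMix φ).map ((QMix A B).map _)))
  haveI := isIso_εMix_of_kproj φ P K
  haveI : IsIso ((mix₂ φ).map (X := (P, K)) (Y := (Y, K)) (r, 𝟙 K)) := by
    have e : (mixT φ).map (X := (P, K)) (Y := (Y, K)) (r, 𝟙 K) = (extCx φ).map r ▷ K := by
      simp
    haveI := quasiIso_extCx_map φ r hPf hY
    haveI : QuasiIso ((extCx φ).map r ▷ K) := by
      have := quasiIso_tensorHom_right hK ((extCx φ).map r)
      exact this
    change IsIso (Q.map ((mixT φ).map (X := (P, K)) (Y := (Y, K)) (r, 𝟙 K)))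
    rw [e]
    infer_instance
  haveI : IsIso ((εMix φ).app (P, K) ≫
      (mix₂ φ).map (X := (P, K)) (Y := (Y, K)) (r, 𝟙 K)) := inferInstance
  exact IsIso.of_isIso_fac_left nat

end Mix

section Triple

variable {A B C : Type u} [CommRing A] [CommRing B] [CommRing C] (φ : A →+* B) (ψ : B →+* C)

instance [HasLTenMix₃ φ ψ] : (LTenMix₃ φ ψ).IsRightKanExtension (εMix₃ φ ψ) :=
  Functor.IsLeftDerivedFunctor.isRightKanExtension _ _ (qisMix₃ A B C)

/-- The counit of the triple mixed derived tensor product is an isomorphism at triples of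
K-projective complexes. -/
theorem isIso_εMix₃_of_kproj [HasLTenMix₃ φ ψ] (M : DRing.Cx A) (N : DRing.Cx B) (K : DRing.Cx C)
    [M.IsKProjective] [N.IsKProjective] [K.IsKProjective] :
    IsIso ((εMix₃ φ ψ).app (M, (N, K))) := by
  refine Groth.Agent.Lib.DTenValues35.isIso_app_of_lifts (QMix₃ A B C) (mix₃ φ ψ) (LTenMix₃ φ ψ)
    (εMix₃ φ ψ) (M, (N, K)) ?_ ?_ ?_
  · rintro ⟨X₁, X₂, X₃⟩ ⟨g₁, g₂, g₃⟩
    obtain ⟨f₁, hf₁⟩ := Groth.Agent.Lib.DCopower.exists_Q_map_eq M X₁ g₁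
    obtain ⟨f₂, hf₂⟩ := Groth.Agent.Lib.DCopower.exists_Q_map_eq N X₂ g₂
    obtain ⟨f₃, hf₃⟩ := Groth.Agent.Lib.DCopower.exists_Q_map_eq K X₃ g₃
    exact ⟨(f₁, (f₂, f₃)), Prod.ext hf₁ (Prod.ext hf₂ hf₃)⟩
  · rintro ⟨X₁, X₂, X₃⟩ ⟨f₁, f₂, f₃⟩ ⟨f₁', f₂', f₃'⟩ h
    have h1 : Q.map f₁ = Q.map f₁' := congrArg Prod.fst h
    have h2 : Q.map f₂ = Q.map f₂' := congrArg (fun x => x.2.1) h
    have h3 : Q.map f₃ = Q.map f₃' := congrArg (fun x => x.2.2) h
    obtain ⟨ho₁⟩ := Groth.Agent.Lib.DCopower.homotopy_of_Q_map_eq M X₁ f₁ f₁' h1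
    obtain ⟨ho₂⟩ := Groth.Agent.Lib.DCopower.homotopy_of_Q_map_eq N X₂ f₂ f₂' h2
    obtain ⟨ho₃⟩ := Groth.Agent.Lib.DCopower.homotopy_of_Q_map_eq K X₃ f₃ f₃' h3
    have H1 := (ModuleCat.extendScalars.{u, u, u} φ).mapHomotopy ho₁
    have H12 := Groth.Agent.Lib.DTenValues35.tensorTHomotopy B
      (X := ((extCx φ).obj M, N)) (Y := ((extCx φ).obj X₁, X₂))
      ((extCx φ).map f₁, f₂) ((extCx φ).map f₁', f₂') H1 ho₂
    have H12' := (ModuleCat.extendScalars.{u, u, u} ψ).mapHomotopy H12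
    exact DerivedCategory.Q_map_eq_of_homotopy _
      (Groth.Agent.Lib.DTenValues35.tensorTHomotopy C
        (X := ((extCx ψ).obj ((mixT φ).obj (M, N)), K))
        (Y := ((extCx ψ).obj ((mixT φ).obj (X₁, X₂)), X₃))
        ((extCx ψ).map ((mixT φ).map (X := (M, N)) (Y := (X₁, X₂)) (f₁, f₂)), f₃)
        ((extCx ψ).map ((mixT φ).map (X := (M, N)) (Y := (X₁, X₂)) (f₁', f₂')), f₃') H12' ho₃)
  · rintro ⟨Y₁, Y₂, Y₃⟩
    haveI := Groth.Agent.Lib.LDerivedGen.small_hom M Y₁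
    haveI := Groth.Agent.Lib.LDerivedGen.small_hom N Y₂
    haveI := Groth.Agent.Lib.LDerivedGen.small_hom K Y₃
    exact inferInstanceAs
      (Small.{u} ((Q.obj M ⟶ Y₁) × ((Q.obj N ⟶ Y₂) × (Q.obj K ⟶ Y₃))))

theorem isIso_leg₃L_app_of_good [HasLTenMix φ] [HasLTenMix ψ] [HasLTenMix₃ φ ψ]
    (M : DRing.Cx A) (N : DRing.Cx B) (K : DRing.Cx C)
    [M.IsKProjective] [N.IsKProjective] [K.IsKProjective]
    (hM : IsKFlat M) (hN : IsKFlat N) (hK : IsKFlat K) :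
    IsIso ((leg₃L φ ψ).app ((QMix₃ A B C).obj (M, (N, K)))) := by
  have fac := leg₃L_fac φ ψ (M, (N, K))
  haveI := isIso_εMix₃_of_kproj φ ψ M N K
  haveI := isIso_εMix_of_kproj φ M N
  haveI := isIso_εMix_right ψ ((mixT φ).obj (M, N)) K
    (isKFlat_tensorObj (isKFlat_extCx φ M hM) hN) hK
  haveI : IsIso ((β₃L φ ψ).app (M, (N, K))) := by
    haveI : IsIso (Prod.mkHom ((εMix φ).app (M, N)) (𝟙 (Q.obj K))) := by
      rw [isIso_prod_iff]
      exact ⟨inferInstanceAs (IsIso ((εMix φ).app (M, N))),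
        inferInstanceAs (IsIso (𝟙 (Q.obj K)))⟩
    change IsIso ((LTenMix ψ).map (Prod.mkHom ((εMix φ).app (M, N)) (𝟙 (Q.obj K))) ≫
      (εMix ψ).app ((mixT φ).obj (M, N), K))
    infer_instance
  exact IsIso.of_isIso_fac_right fac

theorem isIso_leg₃R_app_of_good [HasLTenMix ψ] [HasLTenMix (ψ.comp φ)] [HasLTenMix₃ φ ψ]
    (M : DRing.Cx A) (N : DRing.Cx B) (K : DRing.Cx C)
    [M.IsKProjective] [N.IsKProjective] [K.IsKProjective] (hM : IsKFlat M) :
    IsIso ((leg₃R φ ψ).app ((QMix₃ A B C).obj (M, (N, K)))) := by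
  have fac := leg₃R_fac φ ψ (M, (N, K))
  haveI := isIso_εMix₃_of_kproj φ ψ M N K
  haveI := isIso_εMix_of_kproj ψ N K
  haveI := isIso_εMix_left (ψ.comp φ) M ((mixT ψ).obj (N, K)) hM
  haveI : IsIso ((β₃R φ ψ).app (M, (N, K))) := by
    haveI : IsIso (Prod.mkHom (𝟙 (Q.obj M)) ((εMix ψ).app (N, K))) := by
      rw [isIso_prod_iff]
      exact ⟨inferInstanceAs (IsIso (𝟙 (Q.obj M))),
        inferInstanceAs (IsIso ((εMix ψ).app (N, K)))⟩
    change IsIso ((LTenMix (ψ.comp φ)).map (Prod.mkHom (𝟙 (Q.obj M)) ((εMix ψ).app (N, K))) ≫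
      (εMix (ψ.comp φ)).app (M, (mixT ψ).obj (N, K)) ≫
      Q.map ((θ₃ φ ψ).inv.app (M, (N, K))))
    infer_instance
  exact IsIso.of_isIso_fac_right fac

theorem isIso_leg₃L_app [HasLTenMix φ] [HasLTenMix ψ] [HasLTenMix₃ φ ψ]
    (E : Dual.D A) (F : Dual.D B) (G : Dual.D C) : IsIso ((leg₃L φ ψ).app (E, (F, G))) := by
  obtain ⟨M, hM, hMf, ⟨eM⟩⟩ := exists_good' E
  obtain ⟨N, hN, hNf, ⟨eN⟩⟩ := exists_good' F
  obtain ⟨K, hK, hKf, ⟨eK⟩⟩ := exists_good' G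
  haveI := hM; haveI := hN; haveI := hK
  rw [← NatTrans.isIso_app_iff_of_iso (leg₃L φ ψ) (eM.prod (eN.prod eK))]
  exact isIso_leg₃L_app_of_good φ ψ M N K hMf hNf hKf

theorem isIso_leg₃R_app [HasLTenMix ψ] [HasLTenMix (ψ.comp φ)] [HasLTenMix₃ φ ψ]
    (E : Dual.D A) (F : Dual.D B) (G : Dual.D C) : IsIso ((leg₃R φ ψ).app (E, (F, G))) := by
  obtain ⟨M, hM, hMf, ⟨eM⟩⟩ := exists_good' E
  obtain ⟨N, hN, -, ⟨eN⟩⟩ := exists_good' F
  obtain ⟨K, hK, -, ⟨eK⟩⟩ := exists_good' G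
  haveI := hM; haveI := hN; haveI := hK
  rw [← NatTrans.isIso_app_iff_of_iso (leg₃R φ ψ) (eM.prod (eN.prod eK))]
  exact isIso_leg₃R_app_of_good φ ψ M N K hMf

end Triple

end Groth.Agent.Lib.DTenMix35
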