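import Groth.Agent.Lib.KanCounit
import Groth.Agent.Lib.DCopower
import Groth.Agent.Lib.DerivedCoprod
import Mathlib.Algebra.Category.ModuleCat.AB

/-!
# Left derived functors along `Q` with values in `D(B)` are computed on K-projective complexes

Let `F : Cx(A) ⥤ D(B)` be ANY functor on cochain complexes of `A`-modules which identifies homotopic maps, and let
`(LF, α)` be a right Kan extension of `F` along `Q : Cx(A) ⥤ D(A)` (e.g. a total left derived functor given by an
existence hypothesis).  Then for every K-projective complex `P₀` the counit `α.app P₀ : LF.obj (Q.obj P₀) ⟶ F.obj P₀`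
is an isomorphism (`isIso_counit_app`), with NO hypothesis on `F.obj P₀` (in contrast with `Lib/LDerivedKProj`):
the argument is `Groth.Agent.Lib.KanCounit.main` plus the existence of all small coproducts in `D(B)`
(`Groth.Agent.Lib.DerivedCoprod`).  `lfIso` is the resulting isomorphism, natural for chain maps.
-/

set_option autoImplicit false
universe u

open CategoryTheory CategoryTheory.Limits Category

attribute [local instance] HasDerivedCategory.standard

namespace Groth.Agent.Lib.LDerivedGen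

open DerivedCategory

variable {A B : Type u} [CommRing A] [CommRing B]

/-- `D(B)` has coproducts indexed by `u`-small types. -/
lemma hasCoproduct_of_small {J : Type*} [Small.{u} J]
    (X : J → DerivedCategory (ModuleCat.{u} B)) : HasCoproduct X := by
  have : HasCoproductsOfShape (Shrink.{u} J) (DerivedCategory (ModuleCat.{u} B)) := inferInstance
  have : HasCoproduct (fun j : Shrink.{u} J => X ((equivShrink J).symm j)) := inferInstance
  exact hasCoproduct_of_equiv_of_iso (fun j : Shrink.{u} J => X ((equivShrink J).symm j)) X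
    (equivShrink J) (fun j => eqToIso (by simp))

/-- Hom-sets out of a K-projective complex in `D(A)` are `u`-small. -/
lemma small_hom (P₀ : CochainComplex (ModuleCat.{u} A) ℤ) [P₀.IsKProjective]
    (Y : DerivedCategory (ModuleCat.{u} A)) : Small.{u} (Q.obj P₀ ⟶ Y) := by
  let Y₀ := Q.objPreimage Y
  let e : Q.obj Y₀ ≅ Y := Q.objObjPreimageIso Y
  let Φ : (P₀ ⟶ Y₀) → (Q.obj P₀ ⟶ Y) := fun g => Q.map g ≫ e.hom
  have hΦ : Function.Surjective Φ := by
    intro f
    obtain ⟨g, hg⟩ := Groth.Agent.Lib.DCopower.exists_Q_map_eq P₀ Y₀ (f ≫ e.inv)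
    refine ⟨g, ?_⟩
    simp [Φ, hg]
  exact small_of_surjective hΦ

variable (F : CochainComplex (ModuleCat.{u} A) ℤ ⥤ DerivedCategory (ModuleCat.{u} B))
  (hF : ∀ {X Y : CochainComplex (ModuleCat.{u} A) ℤ} (f g : X ⟶ Y), Homotopy f g → F.map f = F.map g)
  (LF : DerivedCategory (ModuleCat.{u} A) ⥤ DerivedCategory (ModuleCat.{u} B))
  (α : Q ⋙ LF ⟶ F) [LF.IsRightKanExtension α]

include hF in
theorem isIso_counit_app (P₀ : CochainComplex (ModuleCat.{u} A) ℤ) [P₀.IsKProjective] :
    IsIso (α.app P₀) := by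
  have hsurj : ∀ (X : CochainComplex (ModuleCat.{u} A) ℤ) (g : Q.obj P₀ ⟶ Q.obj X),
      ∃ f : P₀ ⟶ X, Q.map f = g := fun X g => Groth.Agent.Lib.DCopower.exists_Q_map_eq P₀ X g
  have hF' : ∀ (X : CochainComplex (ModuleCat.{u} A) ℤ) (f f' : P₀ ⟶ X),
      Q.map f = Q.map f' → F.map f = F.map f' := fun X f f' h => by
    obtain ⟨ho⟩ := Groth.Agent.Lib.DCopower.homotopy_of_Q_map_eq P₀ X f f' h
    exact hF f f' ho
  have hsmall : ∀ Y : DerivedCategory (ModuleCat.{u} A), Small.{u} (Q.obj P₀ ⟶ Y) :=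
    fun Y => small_hom P₀ Y
  have hcop : ∀ (T : DerivedCategory (ModuleCat.{u} B)) (Y : DerivedCategory (ModuleCat.{u} A)),
      HasCoproduct (fun _ : (Q.obj P₀ ⟶ Y) => T) := fun T Y => hasCoproduct_of_small _
  have hcopF : ∀ Y : DerivedCategory (ModuleCat.{u} A),
      HasCoproduct (fun _ : (Q.obj P₀ ⟶ Y) => F.obj P₀) := fun Y => hcop _ Y
  obtain ⟨σ, hσ, hσ'⟩ := Groth.Agent.Lib.KanCounit.main Q F LF α P₀ hsurj hF'
  have := hcop (LF.obj (Q.obj P₀))
  have hid : α.app P₀ ≫ σ = 𝟙 _ := by
    have := hσ' (LF.obj (Q.obj P₀)) (𝟙 _)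
    rwa [id_comp] at this
  exact ⟨σ, hid, hσ⟩

end Groth.Agent.Lib.LDerivedGen
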