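import Groth.Agent.Lib.SemiFreeKProj35
import Groth.Agent.Lib.LDerivedGen
import Groth.Prelude.Def_DTen2
import Mathlib.Algebra.Homology.BifunctorHomotopy

/-!
# Values of the derived tensor product `DTen.LTen₂`, `DTen.LTen₃` (helper35)

* `isIso_app_of_lifts`: generic form of `LDerivedGen.isIso_counit_app` (any source category).
* `isIso_ε_of_kproj`: the counit `LTen₂(QP₁, QP₂) ⟶ Q(P₁ ⊗ P₂)` is an isomorphism for K-projective
  `P₁`, `P₂`; `isIso_ε₃_of_kproj` for triples.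
* `isIso_ε_left`, `isIso_ε_right`: the counit at `(K, N)` (resp. `(N, K)`) is an isomorphism when
  `K` is K-projective and K-flat, `N` arbitrary.
* `isIso_assocR`, `isIso_assocL`.
-/

set_option autoImplicit false
universe u

open CategoryTheory CategoryTheory.Limits Category MonoidalCategory

attribute [local instance] HasDerivedCategory.standard

namespace Groth.Agent.Lib.DTenValues35

open DerivedCategory Groth.Agent.Lib.KFlat35

section Generic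

variable {C D' : Type*} [Category C] [Category D'] {B : Type u} [CommRing B]
  (L : C ⥤ D') (F : C ⥤ DerivedCategory (ModuleCat.{u} B))
  (LF : D' ⥤ DerivedCategory (ModuleCat.{u} B)) (α : L ⋙ LF ⟶ F) [LF.IsRightKanExtension α]

theorem isIso_app_of_lifts (P : C)
    (hsurj : ∀ (X : C) (g : L.obj P ⟶ L.obj X), ∃ f : P ⟶ X, L.map f = g)
    (hF : ∀ (X : C) (f f' : P ⟶ X), L.map f = L.map f' → F.map f = F.map f')
    (hsmall : ∀ Y : D', Small.{u} (L.obj P ⟶ Y)) : IsIso (α.app P) := by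
  have hcop : ∀ (T : DerivedCategory (ModuleCat.{u} B)) (Y : D'),
      HasCoproduct (fun _ : (L.obj P ⟶ Y) => T) := fun T Y => by
    haveI := hsmall Y
    exact Groth.Agent.Lib.LDerivedGen.hasCoproduct_of_small _
  have hcopF : ∀ Y : D', HasCoproduct (fun _ : (L.obj P ⟶ Y) => F.obj P) := fun Y => hcop _ Y
  obtain ⟨σ, hσ, hσ'⟩ := Groth.Agent.Lib.KanCounit.main L F LF α P hsurj hF
  have := hcop (LF.obj (L.obj P))
  have hid : α.app P ≫ σ = 𝟙 _ := by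
    have := hσ' (LF.obj (L.obj P)) (𝟙 _)
    rwa [id_comp] at this
  exact ⟨σ, hid, hσ⟩

end Generic

variable (A : Type u) [CommRing A]

/-- The tensor product of pairs of complexes sends pairs of homotopic maps to homotopic maps. -/
noncomputable def tensorTHomotopy {X Y : DRing.Cx A × DRing.Cx A} (f f' : X ⟶ Y)
    (h₁ : Homotopy f.1 f'.1) (h₂ : Homotopy f.2 f'.2) :
    Homotopy ((DTen.tensorT A).map f) ((DTen.tensorT A).map f') := by
  have H1 : Homotopy (f.1 ▷ X.2) (f'.1 ▷ X.2) :=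
    HomologicalComplex.mapBifunctorMapHomotopy₁ h₁ (𝟙 X.2) (curriedTensor (ModuleCat.{u} A))
      (ComplexShape.up ℤ)
  have H2 : Homotopy (Y.1 ◁ f.2) (Y.1 ◁ f'.2) :=
    HomologicalComplex.mapBifunctorMapHomotopy₂ (𝟙 Y.1) h₂ (curriedTensor (ModuleCat.{u} A))
      (ComplexShape.up ℤ)
  exact H1.comp H2

section Pair

variable [DTen.HasLTen A]

instance : (DTen.LTen₂ A).IsRightKanExtension (DTen.ε A) :=
  Functor.IsLeftDerivedFunctor.isRightKanExtension _ _ (DTen.qis₂ A)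

/-- The counit `LTen₂(QP₁, QP₂) ⟶ Q(P₁ ⊗ P₂)` is an isomorphism for K-projective `P₁`, `P₂`. -/
theorem isIso_ε_of_kproj (P₁ P₂ : DRing.Cx A) [P₁.IsKProjective] [P₂.IsKProjective] :
    IsIso ((DTen.ε A).app (P₁, P₂)) := by
  refine isIso_app_of_lifts (DTen.QQ A) (DTen.tensor₂ A) (DTen.LTen₂ A) (DTen.ε A) (P₁, P₂)
    ?_ ?_ ?_
  · rintro ⟨X₁, X₂⟩ ⟨g₁, g₂⟩
    obtain ⟨f₁, hf₁⟩ := Groth.Agent.Lib.DCopower.exists_Q_map_eq P₁ X₁ g₁
    obtain ⟨f₂, hf₂⟩ := Groth.Agent.Lib.DCopower.exists_Q_map_eq P₂ X₂ g₂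
    exact ⟨(f₁, f₂), Prod.ext hf₁ hf₂⟩
  · rintro ⟨X₁, X₂⟩ ⟨f₁, f₂⟩ ⟨f₁', f₂'⟩ h
    have h1 : Q.map f₁ = Q.map f₁' := congrArg Prod.fst h
    have h2 : Q.map f₂ = Q.map f₂' := congrArg Prod.snd h
    obtain ⟨ho₁⟩ := Groth.Agent.Lib.DCopower.homotopy_of_Q_map_eq P₁ X₁ f₁ f₁' h1
    obtain ⟨ho₂⟩ := Groth.Agent.Lib.DCopower.homotopy_of_Q_map_eq P₂ X₂ f₂ f₂' h2
    exact DerivedCategory.Q_map_eq_of_homotopy _
      (tensorTHomotopy A (X := (P₁, P₂)) (Y := (X₁, X₂)) (f₁, f₂) (f₁', f₂') ho₁ ho₂)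
  · rintro ⟨Y₁, Y₂⟩
    haveI := Groth.Agent.Lib.LDerivedGen.small_hom P₁ Y₁
    haveI := Groth.Agent.Lib.LDerivedGen.small_hom P₂ Y₂
    exact inferInstanceAs (Small.{u} ((Q.obj P₁ ⟶ Y₁) × (Q.obj P₂ ⟶ Y₂)))

variable {A}

/-- Tensoring on the left with a K-flat complex preserves quasi-isomorphisms. -/
lemma quasiIso_whiskerLeft_of_isKFlat {K : DRing.Cx A} (hK : IsKFlat K) {R N : DRing.Cx A}
    (r : R ⟶ N) [QuasiIso r] : QuasiIso (K ◁ r) := by
  haveI : QuasiIso (r ▷ K) := by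
    have := quasiIso_tensorHom_right hK r
    exact this
  have e : K ◁ r = (DTen.braidCx K R).hom ≫ (r ▷ K) ≫ (DTen.braidCx K N).inv := by
    have := DTen.braidCx_naturality (𝟙 K) r
    rw [MonoidalCategory.id_tensorHom, MonoidalCategory.tensorHom_id] at this
    rw [← Category.assoc, ← this, Category.assoc, Iso.hom_inv_id, Category.comp_id]
  rw [e]
  infer_instance

lemma isIso_QQ_map {X Y : DRing.Cx A × DRing.Cx A} (f : X ⟶ Y) [QuasiIso f.1] [QuasiIso f.2] :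
    IsIso ((DTen.QQ A).map f) := by
  rw [isIso_prod_iff]
  exact ⟨inferInstanceAs (IsIso (Q.map f.1)), inferInstanceAs (IsIso (Q.map f.2))⟩

/-- The counit at `(K, N)` is an isomorphism when `K` is K-projective and K-flat. -/
theorem isIso_ε_left (K N : DRing.Cx A) [K.IsKProjective] (hK : IsKFlat K) :
    IsIso ((DTen.ε A).app (K, N)) := by
  obtain ⟨R, r, hR, -, -, hr, -⟩ :=
    Groth.Agent.Lib.SemiFreeKProj35.exists_kprojective_resolution N
  haveI := hR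
  haveI := hr
  have nat := (DTen.ε A).naturality (X := (K, R)) (Y := (K, N)) (𝟙 K, r)
  haveI : IsIso ((DTen.QQ A ⋙ DTen.LTen₂ A).map (X := (K, R)) (Y := (K, N)) (𝟙 K, r)) := by
    haveI : QuasiIso (Prod.fst ((𝟙 K, r) : ((K, R) : DRing.Cx A × DRing.Cx A) ⟶ (K, N))) :=
      inferInstanceAs (QuasiIso (𝟙 K))
    haveI : QuasiIso (Prod.snd ((𝟙 K, r) : ((K, R) : DRing.Cx A × DRing.Cx A) ⟶ (K, N))) := hr
    haveI := isIso_QQ_map (X := (K, R)) (Y := (K, N)) (𝟙 K, r)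
    exact inferInstanceAs (IsIso ((DTen.LTen₂ A).map ((DTen.QQ A).map _)))
  haveI := isIso_ε_of_kproj A K R
  haveI : IsIso ((DTen.tensor₂ A).map (X := (K, R)) (Y := (K, N)) (𝟙 K, r)) := by
    have e : (DTen.tensorT A).map (X := (K, R)) (Y := (K, N)) (𝟙 K, r) = K ◁ r := by
      simp
    haveI := quasiIso_whiskerLeft_of_isKFlat hK r
    change IsIso (Q.map ((DTen.tensorT A).map (X := (K, R)) (Y := (K, N)) (𝟙 K, r)))
    rw [e]
    infer_instance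
  haveI : IsIso ((DTen.ε A).app (K, R) ≫
      (DTen.tensor₂ A).map (X := (K, R)) (Y := (K, N)) (𝟙 K, r)) := inferInstance
  exact IsIso.of_isIso_fac_left nat

/-- The counit at `(N, K)` is an isomorphism when `K` is K-projective and K-flat. -/
theorem isIso_ε_right (N K : DRing.Cx A) [K.IsKProjective] (hK : IsKFlat K) :
    IsIso ((DTen.ε A).app (N, K)) := by
  obtain ⟨R, r, hR, -, -, hr, -⟩ :=
    Groth.Agent.Lib.SemiFreeKProj35.exists_kprojective_resolution N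
  haveI := hR
  haveI := hr
  have nat := (DTen.ε A).naturality (X := (R, K)) (Y := (N, K)) (r, 𝟙 K)
  haveI : IsIso ((DTen.QQ A ⋙ DTen.LTen₂ A).map (X := (R, K)) (Y := (N, K)) (r, 𝟙 K)) := by
    haveI : QuasiIso (Prod.fst ((r, 𝟙 K) : ((R, K) : DRing.Cx A × DRing.Cx A) ⟶ (N, K))) := hr
    haveI : QuasiIso (Prod.snd ((r, 𝟙 K) : ((R, K) : DRing.Cx A × DRing.Cx A) ⟶ (N, K))) :=
      inferInstanceAs (QuasiIso (𝟙 K))
    haveI := isIso_QQ_map (X := (R, K)) (Y := (N, K)) (r, 𝟙 K)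
    exact inferInstanceAs (IsIso ((DTen.LTen₂ A).map ((DTen.QQ A).map _)))
  haveI := isIso_ε_of_kproj A R K
  haveI : IsIso ((DTen.tensor₂ A).map (X := (R, K)) (Y := (N, K)) (r, 𝟙 K)) := by
    have e : (DTen.tensorT A).map (X := (R, K)) (Y := (N, K)) (r, 𝟙 K) = r ▷ K := by
      simp
    haveI : QuasiIso (r ▷ K) := by
      have := quasiIso_tensorHom_right hK r
      exact this
    change IsIso (Q.map ((DTen.tensorT A).map (X := (R, K)) (Y := (N, K)) (r, 𝟙 K)))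
    rw [e]
    infer_instance
  haveI : IsIso ((DTen.ε A).app (R, K) ≫
      (DTen.tensor₂ A).map (X := (R, K)) (Y := (N, K)) (r, 𝟙 K)) := inferInstance
  exact IsIso.of_isIso_fac_left nat

end Pair

section Triple

variable [DTen.HasLTen₃ A]

instance : (DTen.LTen₃ A).IsRightKanExtension (DTen.ε₃ A) :=
  Functor.IsLeftDerivedFunctor.isRightKanExtension _ _ (DTen.qis₃ A)

/-- The counit `LTen₃(QP₁, QP₂, QP₃) ⟶ Q(P₁ ⊗ (P₂ ⊗ P₃))` is an isomorphism for K-projective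
`P₁`, `P₂`, `P₃`. -/
theorem isIso_ε₃_of_kproj (P₁ P₂ P₃ : DRing.Cx A) [P₁.IsKProjective] [P₂.IsKProjective]
    [P₃.IsKProjective] : IsIso ((DTen.ε₃ A).app (P₁, (P₂, P₃))) := by
  refine isIso_app_of_lifts (DTen.QQQ A) (DTen.tensor₃ A) (DTen.LTen₃ A) (DTen.ε₃ A)
    (P₁, (P₂, P₃)) ?_ ?_ ?_
  · rintro ⟨X₁, X₂, X₃⟩ ⟨g₁, g₂, g₃⟩
    obtain ⟨f₁, hf₁⟩ := Groth.Agent.Lib.DCopower.exists_Q_map_eq P₁ X₁ g₁
    obtain ⟨f₂, hf₂⟩ := Groth.Agent.Lib.DCopower.exists_Q_map_eq P₂ X₂ g₂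
    obtain ⟨f₃, hf₃⟩ := Groth.Agent.Lib.DCopower.exists_Q_map_eq P₃ X₃ g₃
    exact ⟨(f₁, (f₂, f₃)), Prod.ext hf₁ (Prod.ext hf₂ hf₃)⟩
  · rintro ⟨X₁, X₂, X₃⟩ ⟨f₁, f₂, f₃⟩ ⟨f₁', f₂', f₃'⟩ h
    have h1 : Q.map f₁ = Q.map f₁' := congrArg Prod.fst h
    have h2 : Q.map f₂ = Q.map f₂' := congrArg (fun x => x.2.1) h
    have h3 : Q.map f₃ = Q.map f₃' := congrArg (fun x => x.2.2) h
    obtain ⟨ho₁⟩ := Groth.Agent.Lib.DCopower.homotopy_of_Q_map_eq P₁ X₁ f₁ f₁' h1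
    obtain ⟨ho₂⟩ := Groth.Agent.Lib.DCopower.homotopy_of_Q_map_eq P₂ X₂ f₂ f₂' h2
    obtain ⟨ho₃⟩ := Groth.Agent.Lib.DCopower.homotopy_of_Q_map_eq P₃ X₃ f₃ f₃' h3
    have H23 := tensorTHomotopy A (X := (P₂, P₃)) (Y := (X₂, X₃)) (f₂, f₃) (f₂', f₃') ho₂ ho₃
    exact DerivedCategory.Q_map_eq_of_homotopy _
      (tensorTHomotopy A (X := (P₁, P₂ ⊗ P₃)) (Y := (X₁, X₂ ⊗ X₃))
        (f₁, (DTen.tensorT A).map (X := (P₂, P₃)) (Y := (X₂, X₃)) (f₂, f₃))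
        (f₁', (DTen.tensorT A).map (X := (P₂, P₃)) (Y := (X₂, X₃)) (f₂', f₃')) ho₁ H23)
  · rintro ⟨Y₁, Y₂, Y₃⟩
    haveI := Groth.Agent.Lib.LDerivedGen.small_hom P₁ Y₁
    haveI := Groth.Agent.Lib.LDerivedGen.small_hom P₂ Y₂
    haveI := Groth.Agent.Lib.LDerivedGen.small_hom P₃ Y₃
    exact inferInstanceAs
      (Small.{u} ((Q.obj P₁ ⟶ Y₁) × ((Q.obj P₂ ⟶ Y₂) × (Q.obj P₃ ⟶ Y₃))))

variable [DTen.HasLTen A]

theorem isIso_assocR_app_of_good (K L M : DRing.Cx A) [K.IsKProjective] [L.IsKProjective]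
    [M.IsKProjective] (hK : IsKFlat K) :
    IsIso ((DTen.assocR A).app ((DTen.QQQ A).obj (K, (L, M)))) := by
  have fac := DTen.assocR_fac A (K, (L, M))
  haveI := isIso_ε₃_of_kproj A K L M
  haveI := isIso_ε_of_kproj A L M
  haveI := isIso_ε_left K (L ⊗ M) hK
  haveI : IsIso ((DTen.βR A).app (K, (L, M))) := by
    haveI : IsIso (Prod.mkHom (𝟙 (Q.obj K)) ((DTen.ε A).app (L, M))) := by
      rw [isIso_prod_iff]
      exact ⟨inferInstanceAs (IsIso (𝟙 (Q.obj K))),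
        inferInstanceAs (IsIso ((DTen.ε A).app (L, M)))⟩
    change IsIso ((DTen.LTen₂ A).map (Prod.mkHom (𝟙 (Q.obj K)) ((DTen.ε A).app (L, M))) ≫
      (DTen.ε A).app (K, L ⊗ M))
    infer_instance
  exact IsIso.of_isIso_fac_right fac

theorem isIso_assocL_app_of_good (K L M : DRing.Cx A) [K.IsKProjective] [L.IsKProjective]
    [M.IsKProjective] (hM : IsKFlat M) :
    IsIso ((DTen.assocL A).app ((DTen.QQQ A).obj (K, (L, M)))) := by
  have fac := DTen.assocL_fac A (K, (L, M))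
  haveI := isIso_ε₃_of_kproj A K L M
  haveI := isIso_ε_of_kproj A K L
  haveI := isIso_ε_right (K ⊗ L) M hM
  haveI : IsIso ((DTen.βL A).app (K, (L, M))) := by
    haveI : IsIso (Prod.mkHom ((DTen.ε A).app (K, L)) (𝟙 (Q.obj M))) := by
      rw [isIso_prod_iff]
      exact ⟨inferInstanceAs (IsIso ((DTen.ε A).app (K, L))),
        inferInstanceAs (IsIso (𝟙 (Q.obj M)))⟩
    change IsIso ((DTen.LTen₂ A).map (Prod.mkHom ((DTen.ε A).app (K, L)) (𝟙 (Q.obj M))) ≫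
      (DTen.ε A).app (K ⊗ L, M) ≫ Q.map (α_ K L M).hom)
    infer_instance
  exact IsIso.of_isIso_fac_right fac

/-- Every object of `D(A)` is the class of a K-projective and K-flat complex. -/
lemma exists_good (a : Dual.D A) : ∃ (K : DRing.Cx A), K.IsKProjective ∧ IsKFlat K ∧
    Nonempty (Q.obj K ≅ a) := by
  obtain ⟨R, r, hR, hRf, -, hr, -⟩ :=
    Groth.Agent.Lib.SemiFreeKProj35.exists_kprojective_resolution (Q.objPreimage a)
  haveI := hr
  exact ⟨R, hR, hRf, ⟨asIso (Q.map r) ≪≫ Q.objObjPreimageIso a⟩⟩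

theorem isIso_assocR_app (a b c : Dual.D A) : IsIso ((DTen.assocR A).app (a, (b, c))) := by
  obtain ⟨K, hK, hKf, ⟨eK⟩⟩ := exists_good A a
  obtain ⟨L, hL, -, ⟨eL⟩⟩ := exists_good A b
  obtain ⟨M, hM, -, ⟨eM⟩⟩ := exists_good A c
  haveI := hK; haveI := hL; haveI := hM
  rw [← NatTrans.isIso_app_iff_of_iso (DTen.assocR A) (eK.prod (eL.prod eM))]
  exact isIso_assocR_app_of_good A K L M hKf

theorem isIso_assocL_app (a b c : Dual.D A) : IsIso ((DTen.assocL A).app (a, (b, c))) := by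
  obtain ⟨K, hK, -, ⟨eK⟩⟩ := exists_good A a
  obtain ⟨L, hL, -, ⟨eL⟩⟩ := exists_good A b
  obtain ⟨M, hM, hMf, ⟨eM⟩⟩ := exists_good A c
  haveI := hK; haveI := hL; haveI := hM
  rw [← NatTrans.isIso_app_iff_of_iso (DTen.assocL A) (eK.prod (eL.prod eM))]
  exact isIso_assocL_app_of_good A K L M hMf

end Triple

end Groth.Agent.Lib.DTenValues35
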