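import Groth.Agent.Lib.DNilp
import Groth.Agent.Lib.DSplit
import Groth.Agent.Lib.DWayOut

/-!
# Morphisms in `D(A)` between truncated objects

* `eq_zero_of_homologyMap_eq_zero_of_isLE_of_isGE`: `X ≤ m`, `Y ≥ m`, `f : X ⟶ Y` with
  `H^m(f) = 0` is zero.
* `exists_factor_truncLE`: for a cochain complex `K`, `X ≤ m` and `u : X ⟶ Q K` with `H^m(u) = 0`,
  `u` factors through `Q(τ≤(m-1) K) ⟶ Q K`.
* `homologyFunctor_map_Q_map_eq_zero`: `homologyMap f i = 0 → H^i(Q f) = 0`.
-/

open CategoryTheory Limits Category Pretriangulated Triangulated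

universe w v u

namespace Groth.Agent.Lib.DTruncHom

variable {A : Type u} [Category.{v} A] [Abelian A] [HasDerivedCategory.{w} A]

open DerivedCategory DerivedCategory.TStructure

lemma eq_zero_of_homologyMap_eq_zero_of_isLE_of_isGE (X Y : DerivedCategory A) (m : ℤ)
    [X.IsLE m] [Y.IsGE m] (f : X ⟶ Y) (hf : (homologyFunctor A m).map f = 0) : f = 0 := by
  let g : (t.truncGE m).obj X ⟶ Y := t.descTruncGE f m
  have hg : (t.truncGEπ m).app X ≫ g = f := t.π_descTruncGE f m
  let g' : (t.truncGE m).obj X ⟶ (t.truncLE m).obj Y := t.liftTruncLE g m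
  have hg' : g' ≫ (t.truncLEι m).app Y = g := t.liftTruncLE_ι g m
  have h1 := Groth.Agent.Lib.DWayOut.isIso_homologyMap_truncGEπ X m m le_rfl
  have h2 := Groth.Agent.Lib.DWayOut.isIso_homologyMap_truncLEι Y m m le_rfl
  have hzero : (homologyFunctor A m).map g' = 0 := by
    have e : (homologyFunctor A m).map ((t.truncGEπ m).app X) ≫ (homologyFunctor A m).map g' ≫
        (homologyFunctor A m).map ((t.truncLEι m).app Y) = 0 := by
      rw [← Functor.map_comp, ← Functor.map_comp, hg', hg, hf]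
    rw [← cancel_epi ((homologyFunctor A m).map ((t.truncGEπ m).app X)),
      ← cancel_mono ((homologyFunctor A m).map ((t.truncLEι m).app Y)), assoc, e, comp_zero,
      zero_comp]
  have : g' = 0 := Groth.Agent.Lib.DNilp.eq_zero_of_homologyMap_eq_zero _ _ m g' hzero
  rw [← hg, ← hg', this, zero_comp, comp_zero]

lemma homologyFunctor_map_Q_map_eq_zero {K L : CochainComplex A ℤ} (f : K ⟶ L) (i : ℤ)
    (hf : HomologicalComplex.homologyMap f i = 0) :
    (homologyFunctor A i).map (Q.map f) = 0 := by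
  have h := (homologyFunctorFactors A i).hom.naturality f
  have h' : (HomologicalComplex.homologyFunctor A (ComplexShape.up ℤ) i).map f = 0 := hf
  rw [h', comp_zero] at h
  rw [← cancel_mono ((homologyFunctorFactors A i).hom.app L), zero_comp]
  exact h

lemma exists_factor_truncLE (K : CochainComplex A ℤ) (X : DerivedCategory A) (m₀ m : ℤ)
    (h : m₀ + 1 = m) [X.IsLE m]
    (u : X ⟶ Q.obj K) (hu : (homologyFunctor A m).map u = 0) :
    ∃ u' : X ⟶ Q.obj (K.truncLE m₀), u' ≫ Q.map (K.ιTruncLE m₀) = u := by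
  have hT := Groth.Agent.Lib.DSplit.truncTriangle_distinguished K m₀ m h
  have hz : u ≫ Q.map (K.πTruncGE m) = 0 := by
    apply eq_zero_of_homologyMap_eq_zero_of_isLE_of_isGE _ _ m
    rw [Functor.map_comp, hu, zero_comp]
  obtain ⟨u', hu'⟩ := Triangle.coyoneda_exact₂ _ hT u hz
  exact ⟨u', hu'.symm⟩

end Groth.Agent.Lib.DTruncHom
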