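import Groth.Agent.Lib.DTwoTerm

/-!
# Two-term complexes: `Ext¹` into a module via chain maps

Namespace `Groth.Agent.Lib.DTwoTerm`.

* `exists_Q_map_eq`, `nonempty_homotopy_zero_of_Q_map_eq_zero`: `Q`-versions of `Qh_map_bijective`.
* `homotopy_zero_to_single`, `exists_factor_of_homotopy_to_single`: null-homotopies of maps into a
  complex concentrated in a single degree.
* `shiftSingleIso`: `Q (N[1]) ≅ (N[0])⟦1⟧`.
* `comp_eq_zero_of_factor`, `exists_factor_of_comp_eq_zero`: for a chain map `a : M ⟶ K` between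
  complexes in degrees `≤ 0` with projective top terms, `K` in degrees `[-1, 0]`:
  precomposition with `a` kills `Hom_D(K, N[1])` for all `N` iff `a^{-1}` factors through
  `d : M^{-1} → M^0`.
-/

set_option autoImplicit false
universe w v u

open CategoryTheory CategoryTheory.Limits Category

namespace Groth.Agent.Lib.DTwoTerm

variable {C : Type u} [Category.{v} C] [Abelian C]

open CochainComplex HomComplex DerivedCategory

section ToSingle

/-- A chain map into a complex concentrated in degree `j` whose component factors through the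
differential `M^j → M^{j+1}` is null-homotopic. -/
lemma homotopy_zero_to_single (M : CochainComplex C ℤ) (A : C) (j j' : ℤ) (hj : j + 1 = j')
    (φ : M ⟶ (HomologicalComplex.single C (ComplexShape.up ℤ) j).obj A) (h : M.X j' ⟶ A)
    (hφ : φ.f j = M.d j j' ≫ h ≫ (HomologicalComplex.singleObjXSelf _ j A).inv) :
    Nonempty (Homotopy φ 0) := by
  refine ⟨(Cochain.equivHomotopy φ 0).symm
    ⟨Cochain.single (h ≫ (HomologicalComplex.singleObjXSelf (ComplexShape.up ℤ) j A).inv) (-1), ?_⟩⟩
  have e0 := Cochain.δ_single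
    (h ≫ (HomologicalComplex.singleObjXSelf (ComplexShape.up ℤ) j A).inv) (-1) 0 (by simp) j j'
    (by lia) (by lia)
  rw [Cochain.ofHom_zero, add_zero, e0]
  ext p
  by_cases hp : p = j
  · subst hp
    simp [hφ]
  · apply IsZero.eq_of_tgt
    exact HomologicalComplex.isZero_single_obj_X _ _ _ _ hp

/-- A null-homotopic chain map into a complex concentrated in degree `j` has its component
factoring through the differential `M^j → M^{j+1}`. -/
lemma exists_factor_of_homotopy_to_single (M : CochainComplex C ℤ) (A : C) (j j' : ℤ)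
    (hj : j + 1 = j')
    (φ : M ⟶ (HomologicalComplex.single C (ComplexShape.up ℤ) j).obj A) (H : Homotopy φ 0) :
    ∃ h : M.X j' ⟶ A,
      φ.f j ≫ (HomologicalComplex.singleObjXSelf (ComplexShape.up ℤ) j A).hom = M.d j j' ≫ h := by
  refine ⟨H.hom j' j ≫ (HomologicalComplex.singleObjXSelf (ComplexShape.up ℤ) j A).hom, ?_⟩
  have h1 := H.comm j
  rw [dNext_eq H.hom (show (ComplexShape.up ℤ).Rel j j' by simpa using hj),
    prevD_eq H.hom (show (ComplexShape.up ℤ).Rel (j - 1) j by simp)] at h1
  have h2 : H.hom j (j - 1) = 0 :=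
    (HomologicalComplex.isZero_single_obj_X _ _ _ _ (by lia)).eq_of_tgt _ _
  rw [h2, zero_comp, add_zero, HomologicalComplex.zero_f, add_zero] at h1
  rw [h1, assoc]

end ToSingle

section Derived

variable [HasDerivedCategory.{w} C]

/-- `Q (N[1]) ≅ (N[0])⟦1⟧` where `N[1]` is the complex with `N` in degree `-1`. -/
noncomputable def shiftSingleIso (N : C) :
    Q.obj ((HomologicalComplex.single C (ComplexShape.up ℤ) (-1)).obj N) ≅
      ((DerivedCategory.singleFunctor C 0).obj N)⟦(1 : ℤ)⟧ :=
  ((singleFunctorIsoCompQ C (-1)).app N).symm ≪≫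
    (((DerivedCategory.singleFunctors C).shiftIso 1 (-1) 0 (by simp)).app N).symm

variable [EnoughInjectives C]

/-- Morphisms in the derived category come from chain maps. -/
lemma exists_Q_map_eq (M K : CochainComplex C ℤ) (n : ℤ)
    [M.IsStrictlyLE n] [Projective (M.X n)] [K.IsStrictlyGE (n - 1)]
    (g : Q.obj M ⟶ Q.obj K) : ∃ φ : M ⟶ K, Q.map φ = g := by
  obtain ⟨ψ, hψ⟩ := (Qh_map_bijective M K n).surjective
    ((quotientCompQhIso _).hom.app M ≫ g ≫ (quotientCompQhIso _).inv.app K)
  obtain ⟨φ, rfl⟩ := (HomotopyCategory.quotient _ _).map_surjective ψ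
  refine ⟨φ, ?_⟩
  have := quotientCompQhIso_hom_naturality (C := C) φ
  dsimp only at hψ
  rw [hψ] at this
  simp only [Category.assoc, Iso.inv_hom_id_app, Category.comp_id] at this
  exact ((cancel_epi _).mp this).symm

/-- A chain map vanishing in the derived category is null-homotopic. -/
lemma nonempty_homotopy_zero_of_Q_map_eq_zero (M K : CochainComplex C ℤ) (n : ℤ)
    [M.IsStrictlyLE n] [Projective (M.X n)] [K.IsStrictlyGE (n - 1)]
    (φ : M ⟶ K) (h : Q.map φ = 0) : Nonempty (Homotopy φ 0) := by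
  have h1 : Qh.map ((HomotopyCategory.quotient _ _).map φ) =
      Qh.map ((HomotopyCategory.quotient _ _).map (0 : M ⟶ K)) := by
    have e1 := quotientCompQhIso_hom_naturality (C := C) φ
    have e2 := quotientCompQhIso_hom_naturality (C := C) (0 : M ⟶ K)
    dsimp at e1 e2
    rw [← cancel_mono ((quotientCompQhIso C).hom.app K), e1, e2, h, Functor.map_zero]
  have h2 := (Qh_map_bijective M K n).injective h1
  exact ⟨HomotopyCategory.homotopyOfEq _ _ h2⟩

/-- If `a^{-1}` factors through `d : M^{-1} → M^0` (up to sign), then precomposition with `a`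
kills `Hom_D(K, N[1])`, for `K` in degrees `≤ 0` with projective top term. -/
theorem comp_eq_zero_of_factor (M K : CochainComplex C ℤ) [K.IsStrictlyLE 0] [Projective (K.X 0)]
    (a : M ⟶ K) (h : M.X 0 ⟶ K.X (-1)) (hh : a.f (-1) + M.d (-1) 0 ≫ h = 0) (N : C)
    (ξ : Q.obj K ⟶ ((DerivedCategory.singleFunctor C 0).obj N)⟦(1 : ℤ)⟧) : Q.map a ≫ ξ = 0 := by
  have : CochainComplex.IsStrictlyGE
      ((HomologicalComplex.single C (ComplexShape.up ℤ) (-1)).obj N) (0 - 1) :=
    (inferInstance : CochainComplex.IsStrictlyGE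
      ((HomologicalComplex.single C (ComplexShape.up ℤ) (-1)).obj N) (-1))
  obtain ⟨x, hx⟩ := exists_Q_map_eq K ((HomologicalComplex.single C (ComplexShape.up ℤ) (-1)).obj N) 0
    (ξ ≫ (shiftSingleIso N).inv)
  have hξ : ξ = Q.map x ≫ (shiftSingleIso N).hom := by
    rw [hx, assoc, Iso.inv_hom_id, comp_id]
  obtain ⟨H⟩ := homotopy_zero_to_single M N (-1) 0 (by simp) (a ≫ x)
    (-(h ≫ x.f (-1) ≫ (HomologicalComplex.singleObjXSelf (ComplexShape.up ℤ) (-1) N).hom)) (by
      have h1 : a.f (-1) = -(M.d (-1) 0 ≫ h) := eq_neg_of_add_eq_zero_left hh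
      rw [HomologicalComplex.comp_f, h1]
      simp)
  have h0 : Q.map (a ≫ x) = 0 := by
    have := HomotopyCategory.eq_of_homotopy _ _ H
    have e1 := quotientCompQhIso_hom_naturality (C := C) (a ≫ x)
    dsimp at e1
    rw [this, Functor.map_zero, Functor.map_zero, zero_comp] at e1
    exact (cancel_epi ((quotientCompQhIso C).hom.app M)).mp (e1.symm.trans comp_zero.symm)
  rw [hξ, ← assoc, ← Functor.map_comp, h0, zero_comp]

/-- If precomposition with `a` kills `Hom_D(K, K^{-1}[1])` then `a^{-1}` factors through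
`d : M^{-1} → M^0` (up to sign), for `M` in degrees `≤ 0` with projective top term and `K` in
degrees `≥ -1`. -/
theorem exists_factor_of_comp_eq_zero (M K : CochainComplex C ℤ) [M.IsStrictlyLE 0]
    [Projective (M.X 0)] [K.IsStrictlyGE (-1)] (a : M ⟶ K)
    (hyp : ∀ ξ : Q.obj K ⟶ ((DerivedCategory.singleFunctor C 0).obj (K.X (-1)))⟦(1 : ℤ)⟧,
      Q.map a ≫ ξ = 0) :
    ∃ h : M.X 0 ⟶ K.X (-1), a.f (-1) + M.d (-1) 0 ≫ h = 0 := by
  have : CochainComplex.IsStrictlyGE
      ((HomologicalComplex.single C (ComplexShape.up ℤ) (-1)).obj (K.X (-1))) (0 - 1) :=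
    (inferInstance : CochainComplex.IsStrictlyGE
      ((HomologicalComplex.single C (ComplexShape.up ℤ) (-1)).obj (K.X (-1))) (-1))
  let x : K ⟶ (HomologicalComplex.single C (ComplexShape.up ℤ) (-1)).obj (K.X (-1)) :=
    HomologicalComplex.mkHomToSingle (𝟙 (K.X (-1))) (fun i hi => by
      simp only [ComplexShape.up_Rel] at hi
      exact (K.isZero_of_isStrictlyGE (-1) i (by lia)).eq_of_src _ _)
  have h0 : Q.map (a ≫ x) = 0 := by
    have := hyp (Q.map x ≫ (shiftSingleIso (K.X (-1))).hom)
    rw [← assoc, ← Functor.map_comp] at this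
    rw [← cancel_mono (shiftSingleIso (K.X (-1))).hom, this, zero_comp]
  obtain ⟨H⟩ := nonempty_homotopy_zero_of_Q_map_eq_zero M _ 0 (a ≫ x) h0
  obtain ⟨h', hh'⟩ := exists_factor_of_homotopy_to_single M (K.X (-1)) (-1) 0 (by simp) (a ≫ x) H
  refine ⟨-h', ?_⟩
  have hx : x.f (-1) = 𝟙 _ ≫ (HomologicalComplex.singleObjXSelf (ComplexShape.up ℤ) (-1)
      (K.X (-1))).inv := HomologicalComplex.mkHomToSingle_f _ _
  rw [HomologicalComplex.comp_f, hx, id_comp, assoc, Iso.inv_hom_id, comp_id] at hh'
  rw [hh', Preadditive.comp_neg, add_neg_cancel]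

end Derived

end Groth.Agent.Lib.DTwoTerm
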