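import Groth.Agent.Lib.DTwoTerm2
import Groth.Agent.Lib.ProjResolution
import Groth.Agent.Lib.DSplit

/-!
# Two-term representatives

Namespace `Groth.Agent.Lib.DTwoTerm`.

* `exists_twoTerm_rep`: an object of `D(C)` with cohomology only in degrees `-1, 0` is represented
  by a complex `E` concentrated in degrees `[-1, 0]` with `E^0` projective (enough projectives).
-/

set_option autoImplicit false
universe w v u

open CategoryTheory CategoryTheory.Limits Category

namespace Groth.Agent.Lib.DTwoTerm

variable {C : Type u} [Category.{v} C] [Abelian C] [HasDerivedCategory.{w} C]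

open CochainComplex DerivedCategory

/-- An object of `D(C)` with cohomology only in degrees `[n - 1, n]` is represented by a complex
in degrees `[n - 1, n]` with projective top term. -/
theorem exists_twoTerm_rep [EnoughProjectives C] (X : DerivedCategory C) (n : ℤ) [X.IsLE n]
    [X.IsGE (n - 1)] :
    ∃ (E : CochainComplex C ℤ), E.IsStrictlyLE n ∧ E.IsStrictlyGE (n - 1) ∧ Projective (E.X n) ∧
      Nonempty (Q.obj E ≅ X) := by
  obtain ⟨P, hPb, hP, ⟨e⟩⟩ := Groth.Agent.Lib.ProjResolution.exists_iso_Q_projective X n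
  have h1 : (Q.obj P).IsGE (n - 1) := TStructure.t.isGE_of_iso e.symm (n - 1)
  have h2 : P.IsGE (n - 1) := (isGE_Q_obj_iff P (n - 1)).mp h1
  have h3 : IsIso (Q.map (P.πTruncGE (n - 1))) := by
    rw [isIso_Q_map_iff_quasiIso]
    infer_instance
  refine ⟨P.truncGE (n - 1), Groth.Agent.Lib.DSplit.isStrictlyLE_truncGE P (n - 1) n, inferInstance,
    Projective.of_iso (P.truncGEXIso (n - 1) n (by lia)).symm inferInstance,
    ⟨(asIso (Q.map (P.πTruncGE (n - 1)))).symm ≪≫ e⟩⟩

end Groth.Agent.Lib.DTwoTerm
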