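import Groth.Agent.Lib.DDevissage

/-!
# The cohomology triangle of an object with two cohomology objects

Namespace `Groth.Agent.Lib.DTwoTerm`.

* `exists_triangle`: for `M ∈ D^{[a, a+1]}` there is a distinguished triangle
  `(H^a M)[-a] ⟶ M ⟶ (H^{a+1} M)[-a-1] ⟶`.
* `hom_single_shift_eq_zero`: `Hom((X[-a])⟦1⟧, (Y[-b])⟦1⟧) = 0` for `a < b`.
-/

set_option autoImplicit false
universe w v u

open CategoryTheory CategoryTheory.Limits Category Pretriangulated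

namespace Groth.Agent.Lib.DTwoTerm

variable {A : Type u} [Category.{v} A] [Abelian A] [HasDerivedCategory.{w} A]

open DerivedCategory DerivedCategory.TStructure

/-- The cohomology triangle of an object of `D^{[a, b]}`, `b = a + 1`. -/
theorem exists_triangle (M : DerivedCategory A) (a b : ℤ) (hab : a + 1 = b) [M.IsGE a]
    [M.IsLE b] :
    ∃ (ι : (singleFunctor A a).obj ((homologyFunctor A a).obj M) ⟶ M)
      (π : M ⟶ (singleFunctor A b).obj ((homologyFunctor A b).obj M))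
      (δ : (singleFunctor A b).obj ((homologyFunctor A b).obj M) ⟶
        ((singleFunctor A a).obj ((homologyFunctor A a).obj M))⟦(1 : ℤ)⟧),
      Triangle.mk ι π δ ∈ distTriang (DerivedCategory A) := by
  let L := (t.truncLE a).obj M
  let R := (t.truncGE b).obj M
  have hT := t.triangleLEGE_distinguished a b hab M
  have i1 : L.IsLE a := by dsimp [L]; infer_instance
  have i1' : L.IsGE a := by dsimp [L]; infer_instance
  have i3 : R.IsGE b := by dsimp [R]; infer_instance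
  have i3' : R.IsLE b := by dsimp [R]; infer_instance
  obtain ⟨e₁⟩ := Groth.Agent.Lib.DDevissage.nonempty_iso_single_homology L a
  obtain ⟨e₃⟩ := Groth.Agent.Lib.DDevissage.nonempty_iso_single_homology R b
  have h1 := Groth.Agent.Lib.DWayOut.isIso_homologyMap_truncLEι M a a le_rfl
  have h3 := Groth.Agent.Lib.DWayOut.isIso_homologyMap_truncGEπ M b b le_rfl
  obtain ⟨f₁⟩ : Nonempty (L ≅ (singleFunctor A a).obj ((homologyFunctor A a).obj M)) :=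
    ⟨e₁ ≪≫ (singleFunctor A a).mapIso (asIso ((homologyFunctor A a).map ((t.truncLEι a).app M)))⟩
  obtain ⟨f₃⟩ : Nonempty (R ≅ (singleFunctor A b).obj ((homologyFunctor A b).obj M)) :=
    ⟨e₃ ≪≫ (singleFunctor A b).mapIso
      (asIso ((homologyFunctor A b).map ((t.truncGEπ b).app M))).symm⟩
  let ι₀ : L ⟶ M := (t.truncLEι a).app M
  let π₀ : M ⟶ R := (t.truncGEπ b).app M
  let δ₀ : R ⟶ L⟦(1 : ℤ)⟧ := (t.truncGEδLE a b hab).app M
  have hT' : Triangle.mk ι₀ π₀ δ₀ ∈ distTriang (DerivedCategory A) := hT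
  have c1 : (f₁.inv ≫ ι₀) ≫ (Iso.refl M).hom = f₁.symm.hom ≫ ι₀ := by simp
  have c2 : (π₀ ≫ f₃.hom) ≫ f₃.symm.hom = (Iso.refl M).hom ≫ π₀ := by simp
  have c3 : (f₃.inv ≫ δ₀ ≫ f₁.hom⟦(1 : ℤ)⟧') ≫ f₁.symm.hom⟦(1 : ℤ)⟧' = f₃.symm.hom ≫ δ₀ := by
    simp [← Functor.map_comp]
  exact ⟨f₁.inv ≫ ι₀, π₀ ≫ f₃.hom, f₃.inv ≫ δ₀ ≫ f₁.hom⟦(1 : ℤ)⟧',
    isomorphic_distinguished _ hT' _
      (Triangle.isoMk (Triangle.mk (f₁.inv ≫ ι₀) (π₀ ≫ f₃.hom) (f₃.inv ≫ δ₀ ≫ f₁.hom⟦(1 : ℤ)⟧'))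
        (Triangle.mk ι₀ π₀ δ₀) f₁.symm (Iso.refl _) f₃.symm c1 c2 c3)⟩

/-- `Hom((X[-a])⟦1⟧, (Y[-b])⟦1⟧) = 0` for `a < b`. -/
lemma hom_single_shift_eq_zero (X Y : A) (a b : ℤ) (hab : a < b)
    (g : ((singleFunctor A a).obj X)⟦(1 : ℤ)⟧ ⟶ ((singleFunctor A b).obj Y)⟦(1 : ℤ)⟧) : g = 0 := by
  have h1 : (((singleFunctor A a).obj X)⟦(1 : ℤ)⟧).IsLE (a - 1) :=
    t.isLE_shift _ a 1 (a - 1) (by lia)
  have h2 : (((singleFunctor A b).obj Y)⟦(1 : ℤ)⟧).IsGE (b - 1) :=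
    t.isGE_shift _ b 1 (b - 1) (by lia)
  exact t.zero_of_isLE_of_isGE g (a - 1) (b - 1) (by lia) h1 h2

end Groth.Agent.Lib.DTwoTerm
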