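import Mathlib.RingTheory.DiscreteValuationRing.Basic
import Mathlib.RingTheory.LocalRing.RingHom.Basic
import Mathlib.NumberTheory.RamificationInertia.Ramification

/-!
Extensions of discrete valuation rings: the ramification index through uniformizers.
-/

set_option autoImplicit false
universe u

namespace Groth.Agent.Lib.DVRExt

open IsDiscreteValuationRing

variable {A B : Type*} [CommRing A] [IsDomain A] [IsDiscreteValuationRing A]
  [CommRing B] [IsDomain B] [IsDiscreteValuationRing B] [Algebra A B]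

/-- The image of a uniformizer is a unit times a positive power of a uniformizer. -/
theorem exists_map_uniformizer (hinj : Function.Injective (algebraMap A B))
    [IsLocalHom (algebraMap A B)] {ϖ : A} (hϖ : Irreducible ϖ) {ϱ : B} (hϱ : Irreducible ϱ) :
    ∃ (e : ℕ) (u : Bˣ), 0 < e ∧ algebraMap A B ϖ = u * ϱ ^ e := by
  have h0 : algebraMap A B ϖ ≠ 0 := by
    intro h
    exact hϖ.ne_zero (hinj (by rw [h, map_zero]))
  obtain ⟨e, u, hu⟩ := eq_unit_mul_pow_irreducible h0 hϱ
  refine ⟨e, u, ?_, hu⟩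
  rcases Nat.eq_zero_or_pos e with he | he
  · exfalso
    rw [he, pow_zero, mul_one] at hu
    have : IsUnit (algebraMap A B ϖ) := hu ▸ u.isUnit
    exact hϖ.not_isUnit (isUnit_of_map_unit (algebraMap A B) ϖ this)
  · exact he

/-- Images of nonzero elements: exponents are multiplied by `e`. -/
theorem map_eq_unit_mul_pow {ϖ : A} {ϱ : B} {e : ℕ} {u : Bˣ}
    (he : algebraMap A B ϖ = u * ϱ ^ e) (v : Aˣ) (i : ℕ) :
    ∃ w : Bˣ, algebraMap A B (v * ϖ ^ i) = w * ϱ ^ (e * i) := by
  refine ⟨Units.map (algebraMap A B).toMonoidHom v * u ^ i, ?_⟩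
  rw [map_mul, map_pow, he, mul_pow, ← pow_mul]
  simp only [Units.val_mul, Units.val_pow_eq_pow_val, Units.coe_map, RingHom.toMonoidHom_eq_coe,
    MonoidHom.coe_coe]
  ring

theorem ramificationIdx'_eq {ϖ : A} (hϖ : Irreducible ϖ) {ϱ : B} (hϱ : Irreducible ϱ)
    {e : ℕ} {u : Bˣ} (he : algebraMap A B ϖ = u * ϱ ^ e) :
    Ideal.ramificationIdx' (IsLocalRing.maximalIdeal A) (IsLocalRing.maximalIdeal B) = e := by
  have hmap : Ideal.map (algebraMap A B) (IsLocalRing.maximalIdeal A)
      = IsLocalRing.maximalIdeal B ^ e := by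
    rw [hϖ.maximalIdeal_eq, hϱ.maximalIdeal_eq, Ideal.map_span, Set.image_singleton, he,
      Ideal.span_singleton_pow]
    exact Ideal.span_singleton_eq_span_singleton.mpr (associated_unit_mul_left _ _ u.isUnit)
  apply Ideal.ramificationIdx'_spec
  · rw [hmap]
  · rw [hmap, hϱ.maximalIdeal_eq, Ideal.span_singleton_pow, Ideal.span_singleton_pow,
      Ideal.span_singleton_le_span_singleton]
    intro hdvd
    have := (pow_dvd_pow_iff hϱ.ne_zero hϱ.not_isUnit).mp hdvd
    omega

end Groth.Agent.Lib.DVRExt
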