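import Mathlib

/-!
# Spreading out the DVR structure at a height one prime of a normal Noetherian domain
(helper18)

* `mem_map_away_of_mul_mem` : `s * x ∈ I`, `s ∣ w` ⟹ `x/1 ∈ I·A[1/w]`.
* `exists_mul_mem_of_mem_map` : `x/1 ∈ I·A_p` ⟹ `∃ s ∉ p, s * x ∈ I`.
* `exists_mul_forall_mem_of_fg` : `p` f.g., `p·A_p ≤ I·A_p` ⟹ `∃ s ∉ p, ∀ x ∈ p, s * x ∈ I`.
* `exists_uniformizer` : normal Noetherian domain, `p ≠ ⊥` prime with only `⊥` strictly below:
  `∃ t ∈ p`, `m_p = (t/1)` and every nonzero ideal of `A_p` is a power of `m_p`.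
-/

set_option maxHeartbeats 400000

namespace Groth.Agent.Lib.DVRSpread18

open IsLocalRing

variable {A : Type*} [CommRing A]

lemma mem_map_away_of_mul_mem {I : Ideal A} {s x w : A} (h : s * x ∈ I) (hs : s ∣ w) :
    algebraMap A (Localization.Away w) x ∈ I.map (algebraMap A (Localization.Away w)) := by
  obtain ⟨c, rfl⟩ := hs
  rw [IsLocalization.mem_map_algebraMap_iff (Submonoid.powers (s * c))]
  refine ⟨⟨⟨(s * c) * x, ?_⟩, ⟨s * c, Submonoid.mem_powers _⟩⟩, ?_⟩
  · have : s * c * x = c * (s * x) := by ring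
    rw [this]; exact I.mul_mem_left _ h
  · simp [mul_comm]

lemma exists_mul_mem_of_mem_map (p : Ideal A) [p.IsPrime] {I : Ideal A} {x : A}
    (h : algebraMap A (Localization.AtPrime p) x ∈
      I.map (algebraMap A (Localization.AtPrime p))) : ∃ s, s ∉ p ∧ s * x ∈ I := by
  rw [IsLocalization.mem_map_algebraMap_iff p.primeCompl] at h
  obtain ⟨⟨⟨a, ha⟩, ⟨s, hs⟩⟩, h⟩ := h
  simp only at h
  rw [← map_mul, IsLocalization.eq_iff_exists p.primeCompl] at h
  obtain ⟨⟨c, hc⟩, h⟩ := h
  simp only at h
  refine ⟨c * s, ?_, ?_⟩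
  · exact (p.primeCompl.mul_mem hc hs)
  · have : c * s * x = c * (x * s) := by ring
    rw [this, h]; exact I.mul_mem_left _ ha

lemma exists_mul_forall_mem_of_fg (p : Ideal A) [p.IsPrime] (hfg : p.FG) {I : Ideal A}
    (h : p.map (algebraMap A (Localization.AtPrime p)) ≤
      I.map (algebraMap A (Localization.AtPrime p))) :
    ∃ s, s ∉ p ∧ ∀ x ∈ p, s * x ∈ I := by
  classical
  obtain ⟨S, hS⟩ := hfg
  have key : ∀ x ∈ S, ∃ s, s ∉ p ∧ s * x ∈ I := fun x hx =>
    exists_mul_mem_of_mem_map p (h (Ideal.mem_map_of_mem _ (hS ▸ Ideal.subset_span hx)))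
  choose! s hs hsx using key
  refine ⟨∏ x ∈ S, s x, ?_, ?_⟩
  · intro hmem
    obtain ⟨x, hx, hxp⟩ := (Ideal.IsPrime.prod_mem_iff).mp hmem
    exact hs x hx hxp
  · intro x hx
    rw [← hS] at hx
    refine Submodule.span_induction (p := fun x _ => (∏ x ∈ S, s x) * x ∈ I) ?_ ?_ ?_ ?_ hx
    · intro y hy
      rw [← Finset.mul_prod_erase S s hy, mul_right_comm]
      exact I.mul_mem_right _ (hsx y hy)
    · simp
    · intro a b _ _ ha hb
      rw [mul_add]; exact I.add_mem ha hb
    · intro a b _ hb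
      rw [smul_eq_mul, mul_left_comm]; exact I.mul_mem_left _ hb

lemma exists_uniformizer [IsDomain A] [IsNoetherianRing A] [IsIntegrallyClosed A]
    (p : Ideal A) [p.IsPrime] (hht : ∀ q : Ideal A, q.IsPrime → q < p → q = ⊥) :
    ∃ t ∈ p, maximalIdeal (Localization.AtPrime p) =
        Ideal.span {algebraMap A (Localization.AtPrime p) t} ∧
      ∀ I : Ideal (Localization.AtPrime p), I ≠ ⊥ →
        ∃ n : ℕ, I = maximalIdeal (Localization.AtPrime p) ^ n := by
  have hIC : IsIntegrallyClosed (Localization.AtPrime p) :=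
    isIntegrallyClosed_of_isLocalization _ p.primeCompl p.primeCompl_le_nonZeroDivisors
  have h3 : IsIntegrallyClosed (Localization.AtPrime p) ∧
      ∀ P : Ideal (Localization.AtPrime p), P ≠ ⊥ → P.IsPrime →
        P = maximalIdeal (Localization.AtPrime p) := by
    refine ⟨hIC, fun P hP0 hP => ?_⟩
    have hq : (P.comap (algebraMap A (Localization.AtPrime p))).IsPrime := Ideal.comap_isPrime _ P
    have hle : P.comap (algebraMap A (Localization.AtPrime p)) ≤ p := by
      have h1 : P ≤ maximalIdeal (Localization.AtPrime p) := le_maximalIdeal hP.ne_top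
      have h2 := Ideal.comap_mono (f := algebraMap A (Localization.AtPrime p)) h1
      rwa [← Ideal.under_def, ← Ideal.under_def, Localization.AtPrime.under_maximalIdeal] at h2
    have hmc : (P.comap (algebraMap A (Localization.AtPrime p))).map
        (algebraMap A (Localization.AtPrime p)) = P :=
      IsLocalization.map_under p.primeCompl _ P
    have hne : P.comap (algebraMap A (Localization.AtPrime p)) ≠ ⊥ := by
      intro h0
      rw [h0, Ideal.map_bot] at hmc
      exact hP0 hmc.symm
    have heq : P.comap (algebraMap A (Localization.AtPrime p)) = p := by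
      by_contra hne'
      exact hne (hht _ hq (lt_of_le_of_ne hle hne'))
    rw [← hmc, heq, Localization.AtPrime.map_eq_maximalIdeal]
  have tfae := tfae_of_isNoetherianRing_of_isLocalRing_of_isDomain (Localization.AtPrime p)
  have h4 : (maximalIdeal (Localization.AtPrime p)).IsPrincipal := (tfae.out 3 4).mp h3
  have h6 := (tfae.out 3 6).mp h3
  obtain ⟨τ, hτ⟩ := h4
  obtain ⟨a, s, rfl⟩ := IsLocalization.exists_mk'_eq p.primeCompl τ
  have hspan : Ideal.span {algebraMap A (Localization.AtPrime p) a} =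
      Ideal.span {IsLocalization.mk' (Localization.AtPrime p) a s} := by
    rw [← IsLocalization.mk'_spec (Localization.AtPrime p) a s]
    exact Ideal.span_singleton_mul_right_unit (IsLocalization.map_units _ s) _
  have hmax : maximalIdeal (Localization.AtPrime p) =
      Ideal.span {algebraMap A (Localization.AtPrime p) a} := by
    rw [hspan, hτ]
  refine ⟨a, ?_, hmax, h6⟩
  rw [← IsLocalization.AtPrime.to_map_mem_maximal_iff (Localization.AtPrime p) p a, hmax]
  exact Ideal.mem_span_singleton_self _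

end Groth.Agent.Lib.DVRSpread18
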