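import Groth.Agent.Lib.DVRModule
import Groth.Agent.Lib.LengthFree
import Mathlib.Algebra.Module.Torsion.Basic

/-!
# Finite torsion modules over a DVR

`length_ne_top_of_pow_smul_eq_zero`, `exists_pow_smul_eq_zero`, `length_ker_eq_length_coker`,
`finrank_torsionBy`, `kerTorsionEquiv`.
-/

set_option autoImplicit false
universe u
open scoped TensorProduct

namespace Groth.Agent.Lib.DVRTorsion

open Groth.Agent.Lib.DVRModule Groth.Agent.Lib.LengthFree

section helpers

variable {R : Type u} [CommRing R] [IsDomain R] [IsDiscreteValuationRing R]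

/-- A finite module killed by a power of the uniformizer has finite length. -/
theorem length_ne_top_of_pow_smul_eq_zero (ϖ : R) (hϖ : Irreducible ϖ) (n : ℕ) :
    ∀ (T : Type u) [AddCommGroup T] [Module R T] [Module.Finite R T],
      (∀ x : T, ϖ ^ n • x = 0) → Module.length R T ≠ ⊤ := by
  induction n with
  | zero =>
    intro T _ _ _ h
    have : Subsingleton T := ⟨fun x y => by
      have hx := h x
      have hy := h y
      rw [pow_zero, one_smul] at hx hy
      rw [hx, hy]⟩
    rw [Module.length_eq_zero]
    exact ENat.zero_ne_top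
  | succ n ih =>
    intro T _ _ _ h
    have h1 : Module.length R (LinearMap.range (ϖ • LinearMap.id : T →ₗ[R] T)) ≠ ⊤ := by
      apply ih
      rintro ⟨_, y, rfl⟩
      apply Subtype.ext
      simp only [Submodule.coe_smul, LinearMap.smul_apply, LinearMap.id_apply,
        Submodule.coe_zero]
      rw [← mul_smul, ← pow_succ]
      exact h y
    have h2 : Module.length R (T ⧸ LinearMap.range (ϖ • LinearMap.id : T →ₗ[R] T)) ≠ ⊤ := by
      rw [length_quot_range_smul T ϖ hϖ]
      exact ENat.natCast_ne_top _
    rw [Module.length_eq_add_of_exact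
      (LinearMap.range (ϖ • LinearMap.id : T →ₗ[R] T)).subtype
      (LinearMap.range (ϖ • LinearMap.id : T →ₗ[R] T)).mkQ (Submodule.injective_subtype _)
      (Submodule.mkQ_surjective _) (LinearMap.exact_subtype_mkQ _)]
    exact WithTop.add_ne_top.mpr ⟨h1, h2⟩

/-- A finite torsion module over a DVR is killed by a power of the uniformizer. -/
theorem exists_pow_smul_eq_zero (ϖ : R) (hϖ : Irreducible ϖ) (T : Type u) [AddCommGroup T]
    [Module R T] [Module.Finite R T] (hT : Module.IsTorsion R T) :
    ∃ n : ℕ, ∀ x : T, ϖ ^ n • x = 0 := by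
  have hpt : ∀ x : T, ∃ m : ℕ, ϖ ^ m • x = 0 := by
    intro x
    obtain ⟨a, ha⟩ := @hT x
    have ha0 : (a : R) ≠ 0 := nonZeroDivisors.ne_zero a.2
    obtain ⟨m, w, hw⟩ := IsDiscreteValuationRing.eq_unit_mul_pow_irreducible ha0 hϖ
    refine ⟨m, ?_⟩
    have h1 : (a : R) • x = 0 := ha
    rw [hw, mul_smul] at h1
    have h2 := congrArg (fun z => ((w⁻¹ : Rˣ) : R) • z) h1
    simpa [smul_smul] using h2
  obtain ⟨s, hs⟩ := (Module.finite_def.mp (inferInstance : Module.Finite R T))
  choose m hm using hpt
  refine ⟨s.sup m, ?_⟩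
  intro x
  have hx : x ∈ Submodule.span R (s : Set T) := by
    rw [hs]
    trivial
  induction hx using Submodule.span_induction with
  | mem y hy =>
    have hle : m y ≤ s.sup m := Finset.le_sup hy
    obtain ⟨d, hd⟩ := Nat.exists_eq_add_of_le hle
    rw [hd, pow_add, mul_comm, mul_smul, hm y, smul_zero]
  | zero => exact smul_zero _
  | add y z _ _ hy hz => rw [smul_add, hy, hz, add_zero]
  | smul r y _ hy => rw [smul_comm, hy, smul_zero]

omit [IsDomain R] [IsDiscreteValuationRing R] in
/-- An endomorphism of a finite length module has kernel and cokernel of the same length. -/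
theorem length_ker_eq_length_coker (T : Type*) [AddCommGroup T] [Module R T] (g : T →ₗ[R] T)
    (hfin : Module.length R T ≠ ⊤) :
    Module.length R (LinearMap.ker g) = Module.length R (T ⧸ LinearMap.range g) := by
  have h1 := Module.length_eq_add_of_exact (LinearMap.ker g).subtype g.rangeRestrict
    (Submodule.injective_subtype _) g.surjective_rangeRestrict
    (by rw [LinearMap.exact_iff, LinearMap.ker_rangeRestrict, Submodule.range_subtype])
  have h2 := Module.length_eq_add_of_exact (LinearMap.range g).subtype (LinearMap.range g).mkQ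
    (Submodule.injective_subtype _) (Submodule.mkQ_surjective _) (LinearMap.exact_subtype_mkQ _)
  have h3 : Module.length R (LinearMap.range g) ≠ ⊤ := by
    intro h
    rw [h, top_add] at h2
    exact hfin h2
  rw [h1, add_comm] at h2
  exact ENat.add_right_injective_of_ne_top h3 h2

/-- `dim_k (k ⊗ M[ϖ]) = ℓ(M[ϖ])`. -/
theorem finrank_torsionBy (ϖ : R) (hϖ : Irreducible ϖ) (M : Type u) [AddCommGroup M]
    [Module R M] [Module.Finite R M] :
    (Module.finrank (IsLocalRing.ResidueField R)
      (IsLocalRing.ResidueField R ⊗[R] ↥(Submodule.torsionBy R M ϖ)) : ℕ∞) =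
      Module.length R (Submodule.torsionBy R M ϖ) := by
  have hb : LinearMap.range (ϖ • LinearMap.id :
      ↥(Submodule.torsionBy R M ϖ) →ₗ[R] ↥(Submodule.torsionBy R M ϖ)) = ⊥ := by
    rw [LinearMap.range_eq_bot]
    ext x
    simp
  rw [← length_quot_range_smul (Submodule.torsionBy R M ϖ) ϖ hϖ]
  exact (Submodule.quotEquivOfEqBot _ hb).length_eq

/-- The `ϖ`-torsion of the torsion submodule is the `ϖ`-torsion. -/
noncomputable def kerTorsionEquiv (ϖ : R) (hϖ : Irreducible ϖ) (M : Type u) [AddCommGroup M]
    [Module R M] :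
    ↥(LinearMap.ker (ϖ • LinearMap.id :
      ↥(Submodule.torsion R M) →ₗ[R] ↥(Submodule.torsion R M))) ≃ₗ[R]
      ↥(Submodule.torsionBy R M ϖ) :=
  LinearEquiv.ofBijective
    (LinearMap.codRestrict (Submodule.torsionBy R M ϖ)
      ((Submodule.torsion R M).subtype ∘ₗ (LinearMap.ker (ϖ • LinearMap.id :
        ↥(Submodule.torsion R M) →ₗ[R] ↥(Submodule.torsion R M))).subtype)
      (fun x => by
        rw [Submodule.mem_torsionBy_iff]
        have := x.2
        rw [LinearMap.mem_ker] at this
        exact congrArg Subtype.val this))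
    ⟨fun x y hxy => by
        apply Subtype.ext
        apply Subtype.ext
        have h := congrArg Subtype.val hxy
        exact h,
      fun y => by
        have hy : (y : M) ∈ Submodule.torsion R M := by
          rw [Submodule.mem_torsion_iff]
          exact ⟨⟨ϖ, mem_nonZeroDivisors_of_ne_zero hϖ.ne_zero⟩, Submodule.smul_coe_torsionBy ϖ y⟩
        refine ⟨⟨⟨y, hy⟩, ?_⟩, ?_⟩
        · rw [LinearMap.mem_ker]
          apply Subtype.ext
          exact Submodule.smul_coe_torsionBy ϖ y
        · apply Subtype.ext
          rfl⟩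

end helpers

end Groth.Agent.Lib.DVRTorsion
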