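import Mathlib.RingTheory.DiscreteValuationRing.Basic
import Mathlib.RingTheory.Valuation.ValuationSubring
import Mathlib.RingTheory.Valuation.ValuationRing

set_option autoImplicit false
universe u

namespace Groth.Agent.Lib.DVRValSubring

open IsLocalRing

variable {B : Type u} [CommRing B] [IsDomain B] [IsDiscreteValuationRing B] {K₁ : Type u}
  [Field K₁] [Algebra B K₁] [IsFractionRing B K₁]

variable (B K₁) in
/-- The valuation subring of the fraction field given by a DVR. -/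
noncomputable def O : ValuationSubring K₁ := (ValuationRing.valuation B K₁).valuationSubring

theorem mem_O {y : K₁} : y ∈ O B K₁ ↔ ∃ b : B, algebraMap B K₁ b = y := by
  rw [O, Valuation.mem_valuationSubring_iff, ← Valuation.mem_integer_iff,
    ValuationRing.mem_integer_iff]

/-- A valuation subring containing the DVR `B` in which a uniformizer is a non-unit is the
canonical one. -/
theorem exists_eq_of_mem (V : ValuationSubring K₁) (x : B) (hx : Irreducible x)
    (hB : ∀ b, algebraMap B K₁ b ∈ V) (hxV : V.valuation (algebraMap B K₁ x) < 1)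
    (v : K₁) (hv : v ∈ V) : ∃ b : B, algebraMap B K₁ b = v := by
  obtain ⟨b₁, b₂, hb₂, rfl⟩ := IsFractionRing.div_surjective (A := B) v
  have hb₂0 : b₂ ≠ 0 := nonZeroDivisors.ne_zero hb₂
  by_cases hb₁0 : b₁ = 0
  · exact ⟨0, by simp [hb₁0]⟩
  obtain ⟨k₁, u₁, h₁⟩ := IsDiscreteValuationRing.eq_unit_mul_pow_irreducible hb₁0 hx
  obtain ⟨k₂, u₂, h₂⟩ := IsDiscreteValuationRing.eq_unit_mul_pow_irreducible hb₂0 hx
  have hinj : Function.Injective (algebraMap B K₁) := IsFractionRing.injective B K₁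
  have hx0 : algebraMap B K₁ x ≠ 0 := by
    rw [Ne, map_eq_zero_iff _ hinj]; exact hx.ne_zero
  have hu₂ : algebraMap B K₁ (u₂ : B) ≠ 0 := by
    rw [Ne, map_eq_zero_iff _ hinj]; exact u₂.ne_zero
  rcases le_or_gt k₂ k₁ with hk | hk
  · refine ⟨u₁ * (u₂⁻¹ : Bˣ) * x ^ (k₁ - k₂), ?_⟩
    rw [h₁, h₂, map_mul, map_mul, map_mul, map_mul, map_pow, map_pow, map_pow,
      eq_div_iff (mul_ne_zero hu₂ (pow_ne_zero _ hx0))]
    have h3 : algebraMap B K₁ ((u₂⁻¹ : Bˣ) : B) * algebraMap B K₁ (u₂ : B) = 1 := by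
      rw [← map_mul, Units.inv_mul, map_one]
    have h4 : algebraMap B K₁ x ^ (k₁ - k₂) * algebraMap B K₁ x ^ k₂ = algebraMap B K₁ x ^ k₁ := by
      rw [← pow_add, Nat.sub_add_cancel hk]
    calc algebraMap B K₁ u₁ * algebraMap B K₁ ((u₂⁻¹ : Bˣ) : B) * algebraMap B K₁ x ^ (k₁ - k₂) *
          (algebraMap B K₁ u₂ * algebraMap B K₁ x ^ k₂)
        = algebraMap B K₁ u₁ * (algebraMap B K₁ ((u₂⁻¹ : Bˣ) : B) * algebraMap B K₁ (u₂ : B)) *
          (algebraMap B K₁ x ^ (k₁ - k₂) * algebraMap B K₁ x ^ k₂) := by ring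
      _ = algebraMap B K₁ u₁ * algebraMap B K₁ x ^ k₁ := by rw [h3, h4, mul_one]
  · exfalso
    -- x^(k₂-k₁) * w = 1 with w ∈ V
    set j := k₂ - k₁ with hj
    have hjpos : 0 < j := by omega
    set w : K₁ := algebraMap B K₁ b₁ / algebraMap B K₁ b₂ * algebraMap B K₁ ((u₁⁻¹ : Bˣ) : B) *
      algebraMap B K₁ (u₂ : B) with hw
    have hwV : w ∈ V := V.mul_mem _ _ (V.mul_mem _ _ hv (hB _)) (hB _)
    have h5 : algebraMap B K₁ x ^ j * w = 1 := by
      have h3 : algebraMap B K₁ (u₁ : B) * algebraMap B K₁ ((u₁⁻¹ : Bˣ) : B) = 1 := by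
        rw [← map_mul, Units.mul_inv, map_one]
      have h4 : algebraMap B K₁ x ^ j * algebraMap B K₁ x ^ k₁ = algebraMap B K₁ x ^ k₂ := by
        rw [← pow_add, hj, Nat.sub_add_cancel hk.le]
      rw [hw, h₁, h₂, map_mul, map_mul, map_pow, map_pow]
      have hD : algebraMap B K₁ (u₂ : B) * algebraMap B K₁ x ^ k₂ ≠ 0 :=
        mul_ne_zero hu₂ (pow_ne_zero _ hx0)
      have h10 : algebraMap B K₁ x ^ j * (algebraMap B K₁ (u₁ : B) * algebraMap B K₁ x ^ k₁ /
          (algebraMap B K₁ (u₂ : B) * algebraMap B K₁ x ^ k₂) *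
          algebraMap B K₁ ((u₁⁻¹ : Bˣ) : B) * algebraMap B K₁ (u₂ : B)) =
          ((algebraMap B K₁ (u₁ : B) * algebraMap B K₁ ((u₁⁻¹ : Bˣ) : B)) *
            (algebraMap B K₁ x ^ j * algebraMap B K₁ x ^ k₁) * algebraMap B K₁ (u₂ : B)) /
          (algebraMap B K₁ (u₂ : B) * algebraMap B K₁ x ^ k₂) := by ring
      rw [h10, h3, h4, one_mul, mul_comm, div_self hD]
    have h6 := congr(V.valuation $h5)
    rw [map_mul, map_pow, map_one] at h6
    have h7 : V.valuation w ≤ 1 := (V.valuation_le_one_iff w).mpr hwV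
    have h8 : V.valuation (algebraMap B K₁ x) ^ j < 1 := pow_lt_one₀ zero_le hxV hjpos.ne'
    have h9 : V.valuation (algebraMap B K₁ x) ^ j * V.valuation w < 1 := by
      calc V.valuation (algebraMap B K₁ x) ^ j * V.valuation w
          ≤ V.valuation (algebraMap B K₁ x) ^ j * 1 := by gcongr
        _ < 1 := by rw [mul_one]; exact h8
    rw [h6] at h9
    exact lt_irrefl _ h9

end Groth.Agent.Lib.DVRValSubring
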