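import Mathlib

/-!
# The canonical involution of a free algebra of rank two (helper37)

For a commutative `A`-algebra `B` with a basis indexed by `Fin 2`:

* `trace_identity`: the polarised Cayley–Hamilton identity for the trace form;
* `invol`: the `A`-algebra endomorphism `b ↦ tr(b) - b`, with `invol_invol`,
  `invol_eq_self_iff` (fixed points `= A` when `2` is invertible);
* `invol_localization`: compatibility with localization;
* ring-hom versions `IsFreeRankTwo`, `involHom`, `isFreeRankTwo_away`, `involHom_away`;
* `exists_isFree_away`: a finite flat finitely presented algebra is free, of rank the rank at `p`,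
  over a basic open neighbourhood of `p` (in terms of arbitrary models of the localizations).
-/

set_option autoImplicit false
universe u

open Module

namespace Groth.Agent.Lib.DblCovRing37

section Mat

variable {A : Type*} [CommRing A]

theorem polarised_cayley_hamilton (X Y : Matrix (Fin 2) (Fin 2) A) :
    X * Y + Y * X - X.trace • Y - Y.trace • X
      + (X.trace * Y.trace - (X * Y).trace) • (1 : Matrix (Fin 2) (Fin 2) A) = 0 := by
  ext i j
  fin_cases i <;> fin_cases j <;>
    simp [Matrix.mul_apply, Fin.sum_univ_two, Matrix.trace_fin_two] <;> ring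

end Mat

section Alg

variable {A B : Type*} [CommRing A] [CommRing B] [Algebra A B] (bB : Basis (Fin 2) A B)

include bB in
theorem trace_algebraMap_two (a : A) : Algebra.trace A B (algebraMap A B a) = 2 * a := by
  rw [Algebra.trace_eq_matrix_trace bB, AlgHom.commutes, Algebra.algebraMap_eq_smul_one,
    Matrix.trace_smul, Matrix.trace_one, Fintype.card_fin, smul_eq_mul, mul_comm]
  simp

include bB in
theorem trace_identity (x y : B) :
    2 * (x * y) - algebraMap A B (Algebra.trace A B x) * y
        - algebraMap A B (Algebra.trace A B y) * x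
      + algebraMap A B (Algebra.trace A B x * Algebra.trace A B y - Algebra.trace A B (x * y))
      = 0 := by
  apply Algebra.leftMulMatrix_injective bB
  set L := Algebra.leftMulMatrix bB with hL
  have hι : ∀ a : A, L (algebraMap A B a) = a • (1 : Matrix (Fin 2) (Fin 2) A) := by
    intro a
    rw [AlgHom.commutes, Algebra.algebraMap_eq_smul_one]
  have htr : ∀ z : B, Algebra.trace A B z = (L z).trace :=
    fun z => Algebra.trace_eq_matrix_trace bB z
  have h := polarised_cayley_hamilton (L x) (L y)
  have hc : L y * L x = L x * L y := by rw [← map_mul, ← map_mul, mul_comm]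
  have e1 : L (2 * (x * y)) = L x * L y + L y * L x := by
    rw [two_mul, map_add, map_mul, hc]
  have e2 : L (algebraMap A B (Algebra.trace A B x) * y) = (L x).trace • L y := by
    rw [map_mul, hι, smul_mul_assoc, one_mul, htr]
  have e3 : L (algebraMap A B (Algebra.trace A B y) * x) = (L y).trace • L x := by
    rw [map_mul, hι, smul_mul_assoc, one_mul, htr]
  have e4 : L (algebraMap A B
      (Algebra.trace A B x * Algebra.trace A B y - Algebra.trace A B (x * y)))
      = ((L x).trace * (L y).trace - (L x * L y).trace) • (1 : Matrix (Fin 2) (Fin 2) A) := by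
    rw [hι, htr x, htr y, htr (x * y), map_mul]
  rw [map_add, map_sub, map_sub, e1, e2, e3, e4, map_zero]
  exact h

/-- the linear map `b ↦ tr(b) - b` -/
noncomputable def σl (A B : Type*) [CommRing A] [CommRing B] [Algebra A B] : B →ₗ[A] B :=
  (Algebra.linearMap A B).comp (Algebra.trace A B) - LinearMap.id

theorem σl_apply (b : B) : σl A B b = algebraMap A B (Algebra.trace A B b) - b := rfl

include bB in
theorem trace_one_two : Algebra.trace A B 1 = 2 := by
  have := trace_algebraMap_two bB 1
  rwa [map_one, mul_one] at this

/-- the canonical involution `b ↦ tr(b) - b` of a free algebra of rank two -/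
noncomputable def invol : B →ₐ[A] B :=
  AlgHom.ofLinearMap (σl A B)
    (by
      rw [σl_apply, trace_one_two bB, map_ofNat]
      ring)
    (by
      intro x y
      have h := trace_identity bB x y
      simp only [σl_apply]
      simp only [map_sub, map_mul] at h
      linear_combination (-1 : B) * h)

theorem invol_apply (b : B) : invol bB b = algebraMap A B (Algebra.trace A B b) - b := rfl

theorem invol_invol (b : B) : invol bB (invol bB b) = b := by
  rw [invol_apply, invol_apply, map_sub, trace_algebraMap_two bB, map_sub, map_mul, map_ofNat]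
  ring

theorem invol_eq_self_iff (h2 : IsUnit (2 : A)) (b : B) :
    invol bB b = b ↔ b ∈ Set.range (algebraMap A B) := by
  constructor
  · intro hb
    obtain ⟨u, hu⟩ := h2.exists_right_inv
    rw [invol_apply] at hb
    refine ⟨u * Algebra.trace A B b, ?_⟩
    have h2b : algebraMap A B (Algebra.trace A B b) = 2 * b := by linear_combination hb
    have hu' : algebraMap A B u * 2 = 1 := by
      rw [← map_ofNat (algebraMap A B) 2, ← map_mul, mul_comm, hu, map_one]
    rw [map_mul, h2b, ← mul_assoc, hu', one_mul]
  · rintro ⟨a, rfl⟩
    exact (invol bB).commutes a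

include bB in
theorem algebraMap_injective_of_isUnit_two (h2 : IsUnit (2 : A)) :
    Function.Injective (algebraMap A B) := by
  rw [injective_iff_map_eq_zero]
  intro a ha
  have h := trace_algebraMap_two bB a
  rw [ha, map_zero] at h
  exact (h2.mul_right_eq_zero).mp h.symm

end Alg

section Loc

variable {A B A' B' : Type*} [CommRing A] [CommRing B] [CommRing A'] [CommRing B']
  [Algebra A B] [Algebra A A'] [Algebra B B'] [Algebra A' B'] [Algebra A B']
  [IsScalarTower A A' B'] [IsScalarTower A B B'] (M : Submonoid A) [IsLocalization M A']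
  [IsLocalization (Algebra.algebraMapSubmonoid B M) B']
  (bB : Basis (Fin 2) A B) (bB' : Basis (Fin 2) A' B')

include M in
theorem invol_localization (b : B) :
    invol bB' (algebraMap B B' b) = algebraMap B B' (invol bB b) := by
  haveI : Module.Free A B := Module.Free.of_basis bB
  haveI : Module.Finite A B := Module.Finite.of_basis bB
  rw [invol_apply, invol_apply, Algebra.trace_localization A M b, map_sub,
    ← IsScalarTower.algebraMap_apply A A' B', ← IsScalarTower.algebraMap_apply A B B']

end Loc

section Hom

variable {A B : Type u} [CommRing A] [CommRing B]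

/-- `φ` makes `B` a free `A`-module with a basis of two elements -/
def IsFreeRankTwo (φ : A →+* B) : Prop :=
  letI := φ.toAlgebra
  Nonempty (Basis (Fin 2) A B)

/-- the canonical involution, for a ring homomorphism -/
noncomputable def involHom (φ : A →+* B) (h : IsFreeRankTwo φ) : B →+* B :=
  letI := φ.toAlgebra
  (invol h.some).toRingHom

variable (φ : A →+* B) (h : IsFreeRankTwo φ)

theorem involHom_comp (a : A) : involHom φ h (φ a) = φ a :=
  letI := φ.toAlgebra
  (invol h.some).commutes a

theorem involHom_involHom (b : B) : involHom φ h (involHom φ h b) = b :=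
  letI := φ.toAlgebra
  invol_invol h.some b

theorem involHom_eq_self_iff (h2 : IsUnit (2 : A)) (b : B) :
    involHom φ h b = b ↔ b ∈ Set.range φ :=
  letI := φ.toAlgebra
  invol_eq_self_iff h.some h2 b

include h in
theorem injective_of_isFreeRankTwo (h2 : IsUnit (2 : A)) : Function.Injective φ :=
  letI := φ.toAlgebra
  algebraMap_injective_of_isUnit_two h.some h2

end Hom

section Square

variable {A B A' B' : Type u} [CommRing A] [CommRing B] [CommRing A'] [CommRing B']
  [Algebra A A'] [Algebra B B'] (φ : A →+* B) (φ' : A' →+* B')
  (hφ : ∀ a, φ' (algebraMap A A' a) = algebraMap B B' (φ a)) (g : A)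
  [IsLocalization.Away g A'] [IsLocalization.Away (φ g) B']

include hφ g in
theorem isFreeRankTwo_away (h : IsFreeRankTwo φ) : IsFreeRankTwo φ' := by
  letI := φ.toAlgebra
  letI := φ'.toAlgebra
  letI : Algebra A B' := ((algebraMap B B').comp φ).toAlgebra
  haveI : IsScalarTower A B B' := .of_algebraMap_eq fun _ => rfl
  haveI : IsScalarTower A A' B' := .of_algebraMap_eq fun a => (hφ a).symm
  haveI : IsLocalization (Algebra.algebraMapSubmonoid B (Submonoid.powers g)) B' := by
    rw [Algebra.algebraMapSubmonoid_powers]
    exact ‹IsLocalization.Away (φ g) B'›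
  exact ⟨h.some.localizationLocalization A' (Submonoid.powers g) B'⟩

include hφ g in
theorem involHom_away (h : IsFreeRankTwo φ) (h' : IsFreeRankTwo φ') (b : B) :
    involHom φ' h' (algebraMap B B' b) = algebraMap B B' (involHom φ h b) := by
  letI := φ.toAlgebra
  letI := φ'.toAlgebra
  letI : Algebra A B' := ((algebraMap B B').comp φ).toAlgebra
  haveI : IsScalarTower A B B' := .of_algebraMap_eq fun _ => rfl
  haveI : IsScalarTower A A' B' := .of_algebraMap_eq fun a => (hφ a).symm
  haveI : IsLocalization (Algebra.algebraMapSubmonoid B (Submonoid.powers g)) B' := by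
    rw [Algebra.algebraMapSubmonoid_powers]
    exact ‹IsLocalization.Away (φ g) B'›
  exact invol_localization (Submonoid.powers g) h.some h'.some b

end Square

section Spread

variable {A B : Type u} [CommRing A] [CommRing B]

theorem exists_isFree_away (φ : A →+* B) (hfin : φ.Finite) (hflat : φ.Flat)
    (hfp : φ.FinitePresentation) (p : PrimeSpectrum A) (n : ℕ) (hn : φ.finrank p = n) :
    ∃ r : A, r ∉ p.asIdeal ∧ ∀ (A' B' : Type u) [CommRing A'] [CommRing B'] [Algebra A A']
      [Algebra B B'] (φ' : A' →+* B') (_ : ∀ a, φ' (algebraMap A A' a) = algebraMap B B' (φ a))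
      [IsLocalization.Away r A'] [IsLocalization.Away (φ r) B'],
      letI := φ'.toAlgebra
      Nonempty (Basis (Fin n) A' B') := by
  letI := φ.toAlgebra
  haveI : Module.Finite A B := hfin
  haveI : Module.Flat A B := hflat
  haveI : Algebra.FinitePresentation A B := hfp
  haveI : Module.FinitePresentation A B :=
    Module.FinitePresentation.of_finite_of_finitePresentation A B
  let S := p.asIdeal.primeCompl
  haveI : Module.Free (Localization.AtPrime p.asIdeal) (LocalizedModule S B) :=
    Module.free_of_flat_of_isLocalRing
  let I := Module.Free.ChooseBasisIndex (Localization.AtPrime p.asIdeal) (LocalizedModule S B)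
  let b : Basis I (Localization.AtPrime p.asIdeal) (LocalizedModule S B) :=
    Module.Free.chooseBasis _ _
  obtain ⟨r, hr, b', -⟩ := Module.FinitePresentation.exists_basis_localizedModule_powers S
    (LocalizedModule.mkLinearMap S B) (Localization.AtPrime p.asIdeal) b
  have hcard : Nat.card I = n := (Module.finrank_eq_nat_card_basis b).symm.trans hn
  refine ⟨r, hr, ?_⟩
  intro A' B' _ _ _ _ φ' hφ _ _
  letI := φ'.toAlgebra
  letI : Algebra A B' := ((algebraMap B B').comp φ).toAlgebra
  haveI : IsScalarTower A B B' := .of_algebraMap_eq fun _ => rfl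
  haveI : IsScalarTower A A' B' := .of_algebraMap_eq fun a => (hφ a).symm
  haveI : IsLocalization (Algebra.algebraMapSubmonoid B (Submonoid.powers r)) B' := by
    rw [Algebra.algebraMapSubmonoid_powers]
    exact ‹IsLocalization.Away (φ r) B'›
  let ℓ : B →ₗ[A] B' := (IsScalarTower.toAlgHom A B B').toLinearMap
  haveI : IsLocalizedModule (Submonoid.powers r) ℓ :=
    isLocalizedModule_iff_isLocalization.mpr inferInstance
  let e : LocalizedModule (Submonoid.powers r) B ≃ₗ[A] B' :=
    IsLocalizedModule.iso (Submonoid.powers r) ℓ
  let ρ : Localization (Submonoid.powers r) ≃ₐ[A] A' :=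
    IsLocalization.algEquiv (Submonoid.powers r) _ _
  let E : B' ≃ₗ[A] (I →₀ A') :=
    e.symm ≪≫ₗ (b'.repr.restrictScalars A) ≪≫ₗ Finsupp.mapRange.linearEquiv ρ.toLinearEquiv
  let E' : B' ≃ₗ[A'] (I →₀ A') := E.extendScalarsOfIsLocalization (Submonoid.powers r) A'
  exact ⟨(Basis.ofRepr E').reindex (Finite.equivFinOfCardEq hcard)⟩

end Spread

end Groth.Agent.Lib.DblCovRing37
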