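import Groth.Prelude.Def_SGA1
import Mathlib.AlgebraicGeometry.Morphisms.Affine
import Mathlib.Topology.Sheaves.SheafCondition.UniqueGluing

/-!
# `SGA1.IsQuot` can be checked on a basis of opens of the target (helper8)

`isQuot_of_basis`: if `p : X ⟶ Y` is affine and `G`-invariant, and for all members `B` of a
basis of opens of `Y` the map `O_Y(B) → O_X(p⁻¹B)` is injective with image containing the
invariant sections, then `p` is a quotient of `X` by `G` in the sense of `SGA1.IsQuot`.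
-/

set_option autoImplicit false
universe u
open CategoryTheory AlgebraicGeometry Opposite TopologicalSpace

namespace Groth.Agent.Lib.H8IsQuotBasis

variable {X Y : Scheme.{u}} {G : Type u} [Group G] (ρ : G →* Aut X) (p : X ⟶ Y)
  (hinv : ∀ g : G, (ρ g).hom ≫ p = p)

/-- invariant sections over the preimage of an open of `Y` -/
def IsInvSec (V : Y.Opens) (s : Γ(X, p ⁻¹ᵁ V)) : Prop :=
  ∀ g : G, ((ρ g).hom.appLE (p ⁻¹ᵁ V) (p ⁻¹ᵁ V) (SGA1.preimage_le_of_inv ρ p hinv g V)).hom s = s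

lemma appLE_congr_hom {X Y : Scheme.{u}} {f f' : X ⟶ Y} (h : f = f') (U : Y.Opens) (V : X.Opens)
    (e : V ≤ f ⁻¹ᵁ U) : f.appLE U V e = f'.appLE U V (h ▸ e) := by
  subst h; rfl

variable {ρ p}

/-- pulled back sections are invariant -/
lemma isInvSec_app (V : Y.Opens) (a : Γ(Y, V)) : IsInvSec ρ p hinv V ((p.app V).hom a) := by
  intro g
  have h1 : p.app V ≫ (ρ g).hom.appLE (p ⁻¹ᵁ V) (p ⁻¹ᵁ V)
      (SGA1.preimage_le_of_inv ρ p hinv g V) = p.app V := by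
    rw [Scheme.Hom.app_eq_appLE, Scheme.Hom.appLE_comp_appLE,
      appLE_congr_hom (hinv g)]
  exact congrArg (fun φ : Γ(Y, V) ⟶ Γ(X, p ⁻¹ᵁ V) => φ.hom a) h1

/-- restriction of sections of `O_X` over preimages -/
noncomputable abbrev resX {V' V : Y.Opens} (h : V' ≤ V) : Γ(X, p ⁻¹ᵁ V) ⟶ Γ(X, p ⁻¹ᵁ V') :=
  X.presheaf.map (homOfLE (show p ⁻¹ᵁ V' ≤ p ⁻¹ᵁ V from fun _ hx => h hx)).op

lemma app_resX {V' V : Y.Opens} (h : V' ≤ V) (a : Γ(Y, V)) :
    (p.app V').hom ((Y.presheaf.map (homOfLE h).op).hom a) = (resX (p := p) h).hom ((p.app V).hom a) := by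
  have := p.naturality (homOfLE h).op
  exact congrArg (fun φ : Γ(Y, V) ⟶ Γ(X, p ⁻¹ᵁ V') => φ.hom a) this

lemma isInvSec_resX {V' V : Y.Opens} (h : V' ≤ V) (s : Γ(X, p ⁻¹ᵁ V))
    (hs : IsInvSec ρ p hinv V s) : IsInvSec ρ p hinv V' ((resX (p := p) h).hom s) := by
  intro g
  have e1 : resX (p := p) h ≫ (ρ g).hom.appLE (p ⁻¹ᵁ V') (p ⁻¹ᵁ V')
      (SGA1.preimage_le_of_inv ρ p hinv g V') =
      (ρ g).hom.appLE (p ⁻¹ᵁ V) (p ⁻¹ᵁ V) (SGA1.preimage_le_of_inv ρ p hinv g V) ≫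
        resX (p := p) h := by
    rw [Scheme.Hom.map_appLE, Scheme.Hom.appLE_map]
  have := congrArg (fun φ : Γ(X, p ⁻¹ᵁ V) ⟶ Γ(X, p ⁻¹ᵁ V') => φ.hom s) e1
  simp only [CommRingCat.hom_comp, RingHom.comp_apply] at this
  rw [this, hs g]

variable (ρ p)

theorem isQuot_of_basis (haff : IsAffineHom p) (𝓑 : Set Y.Opens)
    (hbasis : ∀ (V : Y.Opens) (y : Y), y ∈ V → ∃ B ∈ 𝓑, y ∈ B ∧ B ≤ V)
    (hinj : ∀ B ∈ 𝓑, Function.Injective (p.app B).hom)
    (hsurj : ∀ B ∈ 𝓑, ∀ s : Γ(X, p ⁻¹ᵁ B), IsInvSec ρ p hinv B s →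
      s ∈ Set.range (p.app B).hom) :
    SGA1.IsQuot ρ p := by
  -- injectivity on all opens
  have inj_all : ∀ V : Y.Opens, Function.Injective (p.app V).hom := by
    intro V a a' haa'
    let ι := {B : Y.Opens // B ∈ 𝓑 ∧ B ≤ V}
    refine Y.sheaf.eq_of_locally_eq' (fun i : ι => i.1) V (fun i => homOfLE i.2.2) ?_ a a' ?_
    · intro y hy
      obtain ⟨B, hB, hyB, hBV⟩ := hbasis V y hy
      exact Opens.mem_iSup.mpr ⟨⟨B, hB, hBV⟩, hyB⟩
    · intro i
      apply hinj i.1 i.2.1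
      have h1 := app_resX (p := p) i.2.2 a
      have h2 := app_resX (p := p) i.2.2 a'
      exact h1.trans ((congrArg _ haa').trans h2.symm)
  refine ⟨haff, hinv, inj_all, fun V s => ⟨?_, ?_⟩⟩
  · rintro ⟨a, rfl⟩
    exact isInvSec_app hinv V a
  · intro hs
    let ι := {B : Y.Opens // B ∈ 𝓑 ∧ B ≤ V}
    have hcov : V ≤ ⨆ i : ι, i.1 := by
      intro y hy
      obtain ⟨B, hB, hyB, hBV⟩ := hbasis V y hy
      exact Opens.mem_iSup.mpr ⟨⟨B, hB, hBV⟩, hyB⟩
    have hex : ∀ i : ι, ∃ a : Γ(Y, i.1), (p.app i.1).hom a = (resX (p := p) i.2.2).hom s :=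
      fun i => hsurj i.1 i.2.1 _ (isInvSec_resX hinv i.2.2 s hs)
    choose af haf using hex
    have hcompat : TopCat.Presheaf.IsCompatible Y.presheaf (fun i : ι => i.1) af := by
      intro i j
      apply inj_all (i.1 ⊓ j.1)
      have hi : (i.1 ⊓ j.1 : Y.Opens) ≤ i.1 := inf_le_left
      have hj : (i.1 ⊓ j.1 : Y.Opens) ≤ j.1 := inf_le_right
      have h1 := app_resX (p := p) hi (af i)
      have h2 := app_resX (p := p) hj (af j)
      refine h1.trans (Eq.trans ?_ h2.symm)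
      rw [haf i, haf j]
      change (resX (p := p) i.2.2 ≫ resX (p := p) hi).hom s =
        (resX (p := p) j.2.2 ≫ resX (p := p) hj).hom s
      unfold resX
      rw [← Functor.map_comp, ← Functor.map_comp]
      rfl
    obtain ⟨a, ha, -⟩ := Y.sheaf.existsUnique_gluing' (fun i : ι => i.1) V
      (fun i => homOfLE i.2.2) hcov af hcompat
    refine ⟨a, ?_⟩
    refine X.sheaf.eq_of_locally_eq' (fun i : ι => p ⁻¹ᵁ i.1) (p ⁻¹ᵁ V)
      (fun i => homOfLE (fun _ hx => i.2.2 hx)) ?_ _ _ ?_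
    · intro x hx
      obtain ⟨i, hi⟩ := Opens.mem_iSup.mp (hcov hx)
      exact Opens.mem_iSup.mpr ⟨i, hi⟩
    · intro i
      have h1 := app_resX (p := p) i.2.2 a
      have h3 : (Y.presheaf.map (homOfLE i.2.2).op).hom a = af i := ha i
      rw [h3, haf i] at h1
      exact h1.symm

end Groth.Agent.Lib.H8IsQuotBasis
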