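import Mathlib
import Groth.Prelude.Def_SGA1
import Groth.Agent.Lib.H8IsQuotBasis

/-!
# `SGA1.IsQuot` can be checked on an affine open cover of the target (helper37)

* `loc_injective`, `loc_invariants`: invariants of a finite family of endomorphisms commute with
  localization away from an invariant element;
* `local_basic`: if `Γ(Y, V) → Γ(X, p⁻¹V)` is injective with image the invariants for an affine
  open `V`, the same holds on every basic open `D(f) ⊆ V`;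
* `isQuot_of_affine_cover`: `SGA1.IsQuot` from an affine open cover of the target
  (uses helper8's `isQuot_of_basis`).
-/

set_option autoImplicit false
universe u

open CategoryTheory AlgebraicGeometry Opposite TopologicalSpace

namespace Groth.Agent.Lib.IsQuotLocal37

open Groth.Agent.Lib.H8IsQuotBasis

section ring

variable {B₀ A₀ Bf Af : Type*} [CommRing B₀] [CommRing A₀] [CommRing Bf] [CommRing Af]
  [Algebra B₀ Bf] [Algebra A₀ Af] (ψ : B₀ →+* A₀) (f : B₀) [IsLocalization.Away f Bf]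
  [IsLocalization.Away (ψ f) Af] (φ : Bf →+* Af)
  (hφ : ∀ b, φ (algebraMap B₀ Bf b) = algebraMap A₀ Af (ψ b))

include hφ f in
theorem loc_injective (hψ : Function.Injective ψ) : Function.Injective φ := by
  rw [injective_iff_map_eq_zero]
  intro x hx
  obtain ⟨⟨b, ⟨_, n, rfl⟩⟩, hb⟩ := IsLocalization.surj (Submonoid.powers f) x
  have h1 : algebraMap A₀ Af (ψ b) = 0 := by
    rw [← hφ, ← hb, map_mul, hx, zero_mul]
  rw [IsLocalization.map_eq_zero_iff (Submonoid.powers (ψ f))] at h1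
  obtain ⟨⟨_, m, rfl⟩, hm⟩ := h1
  have h2 : f ^ m * b = 0 := hψ (by rw [map_mul, map_pow, map_zero]; exact hm)
  have h3 : algebraMap B₀ Bf b = 0 := by
    rw [IsLocalization.map_eq_zero_iff (Submonoid.powers f)]
    exact ⟨⟨_, m, rfl⟩, h2⟩
  have hu : IsUnit (algebraMap B₀ Bf (f ^ n)) :=
    IsLocalization.map_units Bf (⟨f ^ n, n, rfl⟩ : Submonoid.powers f)
  rw [h3] at hb
  exact hu.mul_left_eq_zero.mp hb

include hφ f in
theorem loc_invariants {ι : Type*} [Finite ι] (θ : ι → A₀ →+* A₀) (hθ : ∀ i, θ i (ψ f) = ψ f)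
    (τ : ι → Af →+* Af) (hτ : ∀ i a, τ i (algebraMap A₀ Af a) = algebraMap A₀ Af (θ i a))
    (hinv : ∀ a : A₀, (∀ i, θ i a = a) → a ∈ Set.range ψ)
    (s : Af) (hs : ∀ i, τ i s = s) : s ∈ Set.range φ := by
  obtain ⟨⟨a, ⟨_, n, rfl⟩⟩, ha⟩ := IsLocalization.surj (Submonoid.powers (ψ f)) s
  simp only at ha
  have h1 : ∀ i, algebraMap A₀ Af (θ i a) = algebraMap A₀ Af a := by
    intro i
    have h := congrArg (τ i) ha
    rw [map_mul, hs, hτ, hτ, map_pow, hθ, ha] at h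
    exact h.symm
  have h2 : ∀ i, ∃ m : ℕ, (ψ f) ^ m * θ i a = (ψ f) ^ m * a := by
    intro i
    obtain ⟨⟨_, m, rfl⟩, hm⟩ :=
      (IsLocalization.eq_iff_exists (Submonoid.powers (ψ f)) Af).mp (h1 i)
    exact ⟨m, hm⟩
  choose m hm using h2
  cases nonempty_fintype ι
  let M := Finset.univ.sup m
  have h3 : ∀ i, θ i ((ψ f) ^ M * a) = (ψ f) ^ M * a := by
    intro i
    have hle : m i ≤ M := Finset.le_sup (Finset.mem_univ i)
    obtain ⟨k, hk⟩ := Nat.exists_eq_add_of_le hle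
    rw [map_mul, map_pow, hθ, hk, pow_add, mul_comm ((ψ f) ^ m i), mul_assoc, mul_assoc, hm i]
  obtain ⟨b, hb⟩ := hinv _ h3
  have huB : IsUnit (algebraMap B₀ Bf (f ^ (n + M))) :=
    IsLocalization.map_units Bf (⟨f ^ (n + M), n + M, rfl⟩ : Submonoid.powers f)
  obtain ⟨u, hu⟩ := huB
  refine ⟨algebraMap B₀ Bf b * ↑u⁻¹, ?_⟩
  have huA : IsUnit (algebraMap A₀ Af ((ψ f) ^ (n + M))) :=
    IsLocalization.map_units Af (⟨(ψ f) ^ (n + M), n + M, rfl⟩ : Submonoid.powers (ψ f))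
  apply huA.mul_left_injective
  show φ (algebraMap B₀ Bf b * ↑u⁻¹) * algebraMap A₀ Af ((ψ f) ^ (n + M)) =
    s * algebraMap A₀ Af ((ψ f) ^ (n + M))
  have e1 : algebraMap A₀ Af ((ψ f) ^ (n + M)) = φ (algebraMap B₀ Bf (f ^ (n + M))) := by
    rw [hφ, map_pow ψ]
  have e2 : φ (algebraMap B₀ Bf b * ↑u⁻¹) * algebraMap A₀ Af ((ψ f) ^ (n + M)) =
      algebraMap A₀ Af ((ψ f) ^ M * a) := by
    rw [e1, ← map_mul, mul_assoc, ← hu, Units.inv_mul, mul_one, hφ, hb]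
  rw [e2, pow_add, map_mul, map_mul, ← mul_assoc, ha]
  ring

end ring

section scheme

variable {X Y : Scheme.{u}} {G : Type u} [Group G] (ρ : G →* Aut X) (p : X ⟶ Y)
  (hinv : ∀ g : G, (ρ g).hom ≫ p = p)

lemma isLocalization_of_eq_basicOpen {X : Scheme.{u}} {U : X.Opens} (hU : IsAffineOpen U)
    (g : Γ(X, U)) (W : X.Opens) (hW : W = X.basicOpen g) (hle : W ≤ U) :
    @IsLocalization.Away _ _ g Γ(X, W) _ (X.presheaf.map (homOfLE hle).op).hom.toAlgebra := by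
  subst hW
  exact hU.isLocalization_basicOpen g

theorem local_basic [Finite G] [IsAffineHom p] (V : Y.Opens) (hV : IsAffineOpen V)
    (H1 : Function.Injective (p.app V).hom)
    (H2 : ∀ a : Γ(X, p ⁻¹ᵁ V), IsInvSec ρ p hinv V a → a ∈ Set.range (p.app V).hom)
    (f : Γ(Y, V)) :
    Function.Injective (p.app (Y.basicOpen f)).hom ∧
      ∀ s : Γ(X, p ⁻¹ᵁ Y.basicOpen f), IsInvSec ρ p hinv (Y.basicOpen f) s →
        s ∈ Set.range (p.app (Y.basicOpen f)).hom := by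
  have hW : IsAffineOpen (p ⁻¹ᵁ V) := hV.preimage p
  have hle : Y.basicOpen f ≤ V := Y.basicOpen_le f
  have hle' : p ⁻¹ᵁ Y.basicOpen f ≤ p ⁻¹ᵁ V := fun _ hx => hle hx
  letI algA : Algebra Γ(X, p ⁻¹ᵁ V) Γ(X, p ⁻¹ᵁ Y.basicOpen f) :=
    (X.presheaf.map (homOfLE hle').op).hom.toAlgebra
  haveI locB : IsLocalization.Away f Γ(Y, Y.basicOpen f) := hV.isLocalization_basicOpen f
  haveI locA : IsLocalization.Away ((p.app V).hom f) Γ(X, p ⁻¹ᵁ Y.basicOpen f) :=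
    isLocalization_of_eq_basicOpen hW _ _ (Scheme.preimage_basicOpen p f) hle'
  have hφ : ∀ b : Γ(Y, V), (p.app (Y.basicOpen f)).hom (algebraMap Γ(Y, V) Γ(Y, Y.basicOpen f) b) =
      algebraMap Γ(X, p ⁻¹ᵁ V) Γ(X, p ⁻¹ᵁ Y.basicOpen f) ((p.app V).hom b) :=
    fun b => app_resX (p := p) hle b
  refine ⟨loc_injective (p.app V).hom f (p.app (Y.basicOpen f)).hom hφ H1, ?_⟩
  intro s hs
  refine loc_invariants (p.app V).hom f (p.app (Y.basicOpen f)).hom hφ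
    (fun g : G => ((ρ g).hom.appLE (p ⁻¹ᵁ V) (p ⁻¹ᵁ V)
      (SGA1.preimage_le_of_inv ρ p hinv g V)).hom)
    (fun g => isInvSec_app hinv V f g)
    (fun g : G => ((ρ g).hom.appLE (p ⁻¹ᵁ Y.basicOpen f) (p ⁻¹ᵁ Y.basicOpen f)
      (SGA1.preimage_le_of_inv ρ p hinv g (Y.basicOpen f))).hom)
    ?_ H2 s hs
  intro g a
  have e1 : resX (p := p) hle ≫ (ρ g).hom.appLE (p ⁻¹ᵁ Y.basicOpen f) (p ⁻¹ᵁ Y.basicOpen f)
      (SGA1.preimage_le_of_inv ρ p hinv g (Y.basicOpen f)) =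
      (ρ g).hom.appLE (p ⁻¹ᵁ V) (p ⁻¹ᵁ V) (SGA1.preimage_le_of_inv ρ p hinv g V) ≫
        resX (p := p) hle := by
    rw [Scheme.Hom.map_appLE, Scheme.Hom.appLE_map]
  exact congrArg (fun φ : Γ(X, p ⁻¹ᵁ V) ⟶ Γ(X, p ⁻¹ᵁ Y.basicOpen f) => φ.hom a) e1

theorem isQuot_of_affine_cover [Finite G] [IsAffineHom p] (𝓥 : Set Y.Opens)
    (haff : ∀ V ∈ 𝓥, IsAffineOpen V) (hcov : ∀ y : Y, ∃ V ∈ 𝓥, y ∈ V)
    (H1 : ∀ V ∈ 𝓥, Function.Injective (p.app V).hom)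
    (H2 : ∀ V ∈ 𝓥, ∀ a : Γ(X, p ⁻¹ᵁ V), IsInvSec ρ p hinv V a →
      a ∈ Set.range (p.app V).hom) :
    SGA1.IsQuot ρ p := by
  refine isQuot_of_basis ρ p hinv inferInstance
    {B | ∃ V ∈ 𝓥, ∃ f : Γ(Y, V), B = Y.basicOpen f} ?_ ?_ ?_
  · intro U y hy
    obtain ⟨V, hV, hyV⟩ := hcov y
    obtain ⟨f, hfU, hfy⟩ := (haff V hV).exists_basicOpen_le ⟨y, hy⟩ hyV
    exact ⟨_, ⟨V, hV, f, rfl⟩, hfy, hfU⟩
  · rintro _ ⟨V, hV, f, rfl⟩
    exact (local_basic ρ p hinv V (haff V hV) (H1 V hV) (H2 V hV) f).1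
  · rintro _ ⟨V, hV, f, rfl⟩
    exact (local_basic ρ p hinv V (haff V hV) (H1 V hV) (H2 V hV) f).2

end scheme

end Groth.Agent.Lib.IsQuotLocal37
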