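import Mathlib
import Groth.Prelude.Def_SGA1
import Groth.Agent.Lib.IsQuotLocal37
import Groth.Agent.Lib.DblCovRing37

/-!
# The involution of a double cover (helper37)

For a finite flat finitely presented morphism `f : X ⟶ Y` of rank two:

* `Good f V`: `V` is an affine open of `Y` over which `Γ(X, f⁻¹V)` has a basis of two elements;
* `exists_good`: good opens cover `Y`; `good_basicOpen`: basic opens of good opens are good;
* `sHom`: the canonical involution `b ↦ tr(b) - b` of `Γ(X, f⁻¹V)` for good `V`, compatible with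
  restriction to basic opens (`sHom_res`);
* `sigma`: the glued involution `X ⟶ X`, with `sigma_f`, `sigma_sigma`, `sigma_appLE`.
-/

set_option autoImplicit false
universe u

open CategoryTheory CategoryTheory.Limits AlgebraicGeometry Opposite TopologicalSpace

namespace Groth.Agent.Lib.DblCovGeom37

open Groth.Agent.Lib.DblCovRing37 Groth.Agent.Lib.H8IsQuotBasis Groth.Agent.Lib.IsQuotLocal37

lemma hom_ext_of_openImm_family {P Z : Scheme.{u}} (a b : P ⟶ Z)
    (H : ∀ z : P, ∃ (T : Scheme.{u}) (j : T ⟶ P), IsOpenImmersion j ∧ z ∈ Set.range j ∧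
      j ≫ a = j ≫ b) : a = b := by
  refine Scheme.hom_ext_of_forall a b fun z => ?_
  obtain ⟨T, j, hj, hz, hab⟩ := H z
  refine ⟨j.opensRange, hz, ?_⟩
  rw [← Scheme.Hom.isoOpensRange_inv_comp j, Category.assoc, Category.assoc, hab]

variable {X Y : Scheme.{u}} (f : X ⟶ Y)

/-- `V` is an affine open of `Y` over which `f_* O_X` has a basis of two sections. -/
def Good (V : Y.Opens) : Prop := IsAffineOpen V ∧ IsFreeRankTwo (f.app V).hom

theorem isPullback_fromSpec [IsAffineHom f] {V : Y.Opens} (hV : IsAffineOpen V) :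
    IsPullback (hV.preimage f).fromSpec (Spec.map (f.app V)) f hV.fromSpec := by
  refine (IsOpenImmersion.isPullback (Spec.map (f.app V)) (hV.preimage f).fromSpec hV.fromSpec f
    ?_ ?_).flip
  · have := IsAffineOpen.SpecMap_appLE_fromSpec f hV (hV.preimage f) le_rfl
    rw [Scheme.Hom.appLE_eq_app] at this
    exact this.symm
  · rw [hV.opensRange_fromSpec, (hV.preimage f).opensRange_fromSpec]

theorem flat_app [IsAffineHom f] [Flat f] {V : Y.Opens} (hV : IsAffineOpen V) :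
    (f.app V).hom.Flat := by
  have := f.flat_appLE hV (hV.preimage f) le_rfl
  rwa [Scheme.Hom.appLE_eq_app] at this

theorem finitePresentation_app [IsAffineHom f] [LocallyOfFinitePresentation f] {V : Y.Opens}
    (hV : IsAffineOpen V) : (f.app V).hom.FinitePresentation := by
  have := f.finitePresentation_appLE hV (hV.preimage f) le_rfl
  rwa [Scheme.Hom.appLE_eq_app] at this

theorem finrank_app [IsFinite f] [Flat f] (hrk : ∀ y : Y, f.finrank y = 2) {V : Y.Opens}
    (hV : IsAffineOpen V) (p : PrimeSpectrum Γ(Y, V)) : (f.app V).hom.finrank p = 2 := by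
  have hfin : (f.app V).hom.Finite := f.finite_app V hV
  have hflat : (f.app V).hom.Flat := flat_app f hV
  haveI : IsFinite (Spec.map (f.app V)) := (IsFinite.SpecMap_iff _).mpr hfin
  haveI : Flat (Spec.map (f.app V)) := Flat.SpecMap_iff.mpr hflat
  have h1 := Scheme.Hom.finrank_of_isPullback _ _ _ _ (isPullback_fromSpec f hV) p
  rw [hrk, Scheme.Hom.finrank_SpecMap_eq_finrank hfin hflat] at h1
  exact h1

theorem preimage_basicOpen_le {V : Y.Opens} (g : Γ(Y, V)) : f ⁻¹ᵁ Y.basicOpen g ≤ f ⁻¹ᵁ V :=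
  fun _ hx => Y.basicOpen_le g hx

section basic

variable [IsAffineHom f] {V : Y.Opens} (hV : IsAffineOpen V) (g : Γ(Y, V))

include hV in
theorem good_basicOpen (h : IsFreeRankTwo (f.app V).hom) : Good f (Y.basicOpen g) := by
  refine ⟨hV.basicOpen g, ?_⟩
  have hle : Y.basicOpen g ≤ V := Y.basicOpen_le g
  have hle' : f ⁻¹ᵁ Y.basicOpen g ≤ f ⁻¹ᵁ V := preimage_basicOpen_le f g
  letI algA : Algebra Γ(X, f ⁻¹ᵁ V) Γ(X, f ⁻¹ᵁ Y.basicOpen g) :=
    (X.presheaf.map (homOfLE hle').op).hom.toAlgebra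
  haveI locB : IsLocalization.Away g Γ(Y, Y.basicOpen g) := hV.isLocalization_basicOpen g
  haveI locA : IsLocalization.Away ((f.app V).hom g) Γ(X, f ⁻¹ᵁ Y.basicOpen g) :=
    isLocalization_of_eq_basicOpen (hV.preimage f) _ _ (Scheme.preimage_basicOpen f g) hle'
  exact isFreeRankTwo_away (f.app V).hom (f.app (Y.basicOpen g)).hom
    (fun b => app_resX (p := f) hle b) g h

end basic

theorem exists_good [IsFinite f] [Flat f] [LocallyOfFinitePresentation f]
    (hrk : ∀ y : Y, f.finrank y = 2) (y : Y) : ∃ V : Y.Opens, Good f V ∧ y ∈ V := by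
  obtain ⟨V₀, hV₀, hy⟩ : ∃ V₀ : Y.Opens, IsAffineOpen V₀ ∧ y ∈ V₀ := by
    obtain ⟨_, ⟨V₀, hV₀, rfl⟩, hy, -⟩ :=
      Y.isBasis_affineOpens.exists_subset_of_mem_open (Set.mem_univ y) isOpen_univ
    exact ⟨V₀, hV₀, hy⟩
  have hU₀ : IsAffineOpen (f ⁻¹ᵁ V₀) := hV₀.preimage f
  obtain ⟨r, hr, H⟩ := exists_isFree_away (f.app V₀).hom (f.finite_app V₀ hV₀) (flat_app f hV₀)
    (finitePresentation_app f hV₀) (hV₀.primeIdealOf ⟨y, hy⟩) 2
    (finrank_app f hrk hV₀ (hV₀.primeIdealOf ⟨y, hy⟩))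
  refine ⟨Y.basicOpen r, ⟨hV₀.basicOpen r, ?_⟩, ?_⟩
  · have hle : Y.basicOpen r ≤ V₀ := Y.basicOpen_le r
    have hle' : f ⁻¹ᵁ Y.basicOpen r ≤ f ⁻¹ᵁ V₀ := preimage_basicOpen_le f r
    letI algA : Algebra Γ(X, f ⁻¹ᵁ V₀) Γ(X, f ⁻¹ᵁ Y.basicOpen r) :=
      (X.presheaf.map (homOfLE hle').op).hom.toAlgebra
    haveI locB : IsLocalization.Away r Γ(Y, Y.basicOpen r) := hV₀.isLocalization_basicOpen r
    haveI locA : IsLocalization.Away ((f.app V₀).hom r) Γ(X, f ⁻¹ᵁ Y.basicOpen r) :=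
      isLocalization_of_eq_basicOpen hU₀ _ _ (Scheme.preimage_basicOpen f r) hle'
    exact H Γ(Y, Y.basicOpen r) Γ(X, f ⁻¹ᵁ Y.basicOpen r) (f.app (Y.basicOpen r)).hom
      (fun b => app_resX (p := f) hle b)
  · have h1 : hV₀.fromSpec (hV₀.primeIdealOf ⟨y, hy⟩) = y := hV₀.fromSpec_primeIdealOf ⟨y, hy⟩
    have h2 : hV₀.primeIdealOf ⟨y, hy⟩ ∈ hV₀.fromSpec ⁻¹ᵁ Y.basicOpen r := by
      rw [hV₀.fromSpec_preimage_basicOpen]
      exact hr
    rw [← h1]
    exact h2

section local_inv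

variable {f}

/-- the canonical involution on the sections over the preimage of a good open -/
noncomputable def sHom {V : Y.Opens} (h : Good f V) : Γ(X, f ⁻¹ᵁ V) ⟶ Γ(X, f ⁻¹ᵁ V) :=
  CommRingCat.ofHom (involHom (f.app V).hom h.2)

theorem app_sHom {V : Y.Opens} (h : Good f V) : f.app V ≫ sHom h = f.app V :=
  CommRingCat.hom_ext (RingHom.ext fun a => involHom_comp _ h.2 a)

theorem sHom_sHom {V : Y.Opens} (h : Good f V) : sHom h ≫ sHom h = 𝟙 _ :=
  CommRingCat.hom_ext (RingHom.ext fun a => involHom_involHom _ h.2 a)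

theorem sHom_eq_self_iff {V : Y.Opens} (h : Good f V) (h2 : IsUnit (2 : Γ(Y, V)))
    (a : Γ(X, f ⁻¹ᵁ V)) : (sHom h).hom a = a ↔ a ∈ Set.range (f.app V).hom :=
  involHom_eq_self_iff _ h.2 h2 a

theorem app_injective {V : Y.Opens} (h : Good f V) (h2 : IsUnit (2 : Γ(Y, V))) :
    Function.Injective (f.app V).hom :=
  injective_of_isFreeRankTwo _ h.2 h2

theorem sHom_res [IsAffineHom f] {V : Y.Opens} (h : Good f V) (g : Γ(Y, V)) (W : Y.Opens)
    (hW : W = Y.basicOpen g) (h' : Good f W) (hle' : f ⁻¹ᵁ W ≤ f ⁻¹ᵁ V) :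
    sHom h ≫ X.presheaf.map (homOfLE hle').op = X.presheaf.map (homOfLE hle').op ≫ sHom h' := by
  subst hW
  have hle : Y.basicOpen g ≤ V := Y.basicOpen_le g
  letI algA : Algebra Γ(X, f ⁻¹ᵁ V) Γ(X, f ⁻¹ᵁ Y.basicOpen g) :=
    (X.presheaf.map (homOfLE hle').op).hom.toAlgebra
  haveI locB : IsLocalization.Away g Γ(Y, Y.basicOpen g) := h.1.isLocalization_basicOpen g
  haveI locA : IsLocalization.Away ((f.app V).hom g) Γ(X, f ⁻¹ᵁ Y.basicOpen g) :=
    isLocalization_of_eq_basicOpen (h.1.preimage f) _ _ (Scheme.preimage_basicOpen f g) hle'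
  refine CommRingCat.hom_ext (RingHom.ext fun b => ?_)
  exact (involHom_away (f.app V).hom (f.app (Y.basicOpen g)).hom
    (fun b => app_resX (p := f) hle b) g h.2 h'.2 b).symm

end local_inv

section glue

variable [IsAffineHom f]

/-- the open immersion `Spec Γ(X, f⁻¹V) ⟶ X` -/
noncomputable abbrev fs {V : Y.Opens} (h : Good f V) : Spec Γ(X, f ⁻¹ᵁ V) ⟶ X :=
  (h.1.preimage f).fromSpec

theorem res_gV {V : Y.Opens} (h : Good f V) (g : Γ(Y, V)) (W : Y.Opens)
    (hW : W = Y.basicOpen g) (h' : Good f W) (hle' : f ⁻¹ᵁ W ≤ f ⁻¹ᵁ V) :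
    Spec.map (X.presheaf.map (homOfLE hle').op) ≫ Spec.map (sHom h) ≫ fs f h =
      Spec.map (sHom h') ≫ fs f h' := by
  rw [← Spec.map_comp_assoc, sHom_res h g W hW h' hle', Spec.map_comp_assoc,
    IsAffineOpen.map_fromSpec]

theorem compat {V V' : Y.Opens} (h : Good f V) (h' : Good f V') :
    pullback.fst (fs f h) (fs f h') ≫ Spec.map (sHom h) ≫ fs f h =
      pullback.snd (fs f h) (fs f h') ≫ Spec.map (sHom h') ≫ fs f h' := by
  refine hom_ext_of_openImm_family _ _ fun z => ?_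
  have hxV : (pullback.fst (fs f h) (fs f h') ≫ fs f h) z ∈ f ⁻¹ᵁ V := by
    have : (pullback.fst (fs f h) (fs f h') ≫ fs f h) z ∈ Set.range (fs f h) :=
      ⟨pullback.fst (fs f h) (fs f h') z, rfl⟩
    rwa [IsAffineOpen.range_fromSpec] at this
  have hxV' : (pullback.fst (fs f h) (fs f h') ≫ fs f h) z ∈ f ⁻¹ᵁ V' := by
    have : (pullback.fst (fs f h) (fs f h') ≫ fs f h) z ∈ Set.range (fs f h') :=
      ⟨pullback.snd (fs f h) (fs f h') z, by rw [pullback.condition]; rfl⟩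
    rwa [IsAffineOpen.range_fromSpec] at this
  obtain ⟨g, g', hgg', hxg⟩ := exists_basicOpen_le_affine_inter h.1 h'.1
    (f ((pullback.fst (fs f h) (fs f h') ≫ fs f h) z)) ⟨hxV, hxV'⟩
  have hW : Good f (Y.basicOpen g) := good_basicOpen f h.1 g h.2
  have hleV : f ⁻¹ᵁ Y.basicOpen g ≤ f ⁻¹ᵁ V := preimage_basicOpen_le f g
  have hleV' : f ⁻¹ᵁ Y.basicOpen g ≤ f ⁻¹ᵁ V' := by
    rw [hgg']
    exact preimage_basicOpen_le f g'
  have e1 : Spec.map (X.presheaf.map (homOfLE hleV).op) ≫ fs f h = fs f hW :=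
    (h.1.preimage f).map_fromSpec (hW.1.preimage f) (homOfLE hleV).op
  have e2 : Spec.map (X.presheaf.map (homOfLE hleV').op) ≫ fs f h' = fs f hW :=
    (h'.1.preimage f).map_fromSpec (hW.1.preimage f) (homOfLE hleV').op
  let j : Spec Γ(X, f ⁻¹ᵁ Y.basicOpen g) ⟶ pullback (fs f h) (fs f h') :=
    pullback.lift (Spec.map (X.presheaf.map (homOfLE hleV).op))
      (Spec.map (X.presheaf.map (homOfLE hleV').op)) (e1.trans e2.symm)
  have hj1 : j ≫ pullback.fst (fs f h) (fs f h') =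
      Spec.map (X.presheaf.map (homOfLE hleV).op) := pullback.lift_fst _ _ _
  have hj2 : j ≫ pullback.snd (fs f h) (fs f h') =
      Spec.map (X.presheaf.map (homOfLE hleV').op) := pullback.lift_snd _ _ _
  have hj3 : j ≫ (pullback.fst (fs f h) (fs f h') ≫ fs f h) = fs f hW := by
    rw [← Category.assoc, hj1, e1]
  haveI : IsOpenImmersion (j ≫ (pullback.fst (fs f h) (fs f h') ≫ fs f h)) := by
    rw [hj3]
    infer_instance
  haveI : IsOpenImmersion j := IsOpenImmersion.of_comp j (pullback.fst (fs f h) (fs f h') ≫ fs f h)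
  refine ⟨_, j, inferInstance, ?_, ?_⟩
  · have hxW : (pullback.fst (fs f h) (fs f h') ≫ fs f h) z ∈ Set.range (fs f hW) := by
      rw [IsAffineOpen.range_fromSpec]
      exact hxg
    obtain ⟨t, ht⟩ := hxW
    refine ⟨t, ?_⟩
    apply (pullback.fst (fs f h) (fs f h') ≫ fs f h).isOpenEmbedding.injective
    rw [← Scheme.Hom.comp_apply, hj3, ht]
  · rw [← Category.assoc, hj1, ← Category.assoc j, hj2,
      res_gV f h g _ rfl hW hleV, res_gV f h' g' _ hgg' hW hleV']

variable (hcov : ∀ x : X, ∃ V : Y.Opens, Good f V ∧ f x ∈ V)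

/-- the open cover of `X` by the preimages of the good opens -/
noncomputable def cover : X.OpenCover :=
  Scheme.Cover.mkOfCovers {V : Y.Opens // Good f V} (fun V => Spec Γ(X, f ⁻¹ᵁ V.1))
    (fun V => fs f V.2)
    (fun x => by
      obtain ⟨V, hV, hx⟩ := hcov x
      have : x ∈ Set.range (fs f hV) := by
        rw [IsAffineOpen.range_fromSpec]
        exact hx
      obtain ⟨t, ht⟩ := this
      exact ⟨⟨V, hV⟩, t, ht⟩)
    (fun V => inferInstance)

/-- the involution of a double cover -/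
noncomputable def sigma : X ⟶ X :=
  (cover f hcov).glueMorphisms (fun V => Spec.map (sHom V.2) ≫ fs f V.2)
    (fun V V' => compat f V.2 V'.2)

theorem fs_sigma {V : Y.Opens} (h : Good f V) :
    fs f h ≫ sigma f hcov = Spec.map (sHom h) ≫ fs f h :=
  (cover f hcov).ι_glueMorphisms _ _ ⟨V, h⟩

theorem sigma_f : sigma f hcov ≫ f = f := by
  refine (cover f hcov).hom_ext _ _ fun V => ?_
  change fs f V.2 ≫ sigma f hcov ≫ f = fs f V.2 ≫ f
  have h1 : fs f V.2 ≫ f = Spec.map (f.app V.1) ≫ V.2.1.fromSpec := by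
    have := IsAffineOpen.SpecMap_appLE_fromSpec f V.2.1 (V.2.1.preimage f) le_rfl
    rw [Scheme.Hom.appLE_eq_app] at this
    exact this.symm
  rw [← Category.assoc, fs_sigma, Category.assoc, h1, ← Spec.map_comp_assoc, app_sHom]

theorem sigma_sigma : sigma f hcov ≫ sigma f hcov = 𝟙 X := by
  refine (cover f hcov).hom_ext _ _ fun V => ?_
  change fs f V.2 ≫ sigma f hcov ≫ sigma f hcov = fs f V.2 ≫ 𝟙 X
  rw [← Category.assoc, fs_sigma, Category.assoc, fs_sigma, ← Category.assoc, ← Spec.map_comp,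
    sHom_sHom, Spec.map_id, Category.id_comp, Category.comp_id]

theorem sigma_appLE {V : Y.Opens} (h : Good f V)
    (e : f ⁻¹ᵁ V ≤ sigma f hcov ⁻¹ᵁ (f ⁻¹ᵁ V)) :
    (sigma f hcov).appLE (f ⁻¹ᵁ V) (f ⁻¹ᵁ V) e = sHom h := by
  apply Spec.map_injective
  rw [← cancel_mono (fs f h),
    IsAffineOpen.SpecMap_appLE_fromSpec (sigma f hcov) (h.1.preimage f) (h.1.preimage f) e,
    fs_sigma]

end glue

end Groth.Agent.Lib.DblCovGeom37
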