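import Mathlib
import Groth.Agent.Lib.ArSing97d

/-!
# The pair model of `k[[x,y]]/(xy)` (helper97)

Projections `px, py : k[[x,y]] → k[[t]]` (`y ↦ 0`, resp. `x ↦ 0`), sections `ix, iy`, and
`ker px ∩ ker py = (xy)`. Valid over any field.
-/

set_option autoImplicit false
set_option maxHeartbeats 400000
universe u

namespace Groth.Agent.Lib.Node97

open PowerSeries Groth.Agent.Lib.ArSing97

variable (k : Type u) [Field k]

/-- outer constant coefficient as a `k`-algebra map -/
noncomputable def ccA : PowerSeries (PowerSeries k) →ₐ[k] PowerSeries k :=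
  { PowerSeries.constantCoeff (R := PowerSeries k) with
    commutes' := fun c => by
      show PowerSeries.constantCoeff (algebraMap k (PowerSeries (PowerSeries k)) c) = _
      rw [PowerSeries.algebraMap_apply, PowerSeries.constantCoeff_C] }

/-- `y ↦ 0` -/
noncomputable def px : MvPowerSeries (Fin 2) k →ₐ[k] PowerSeries k :=
  (ccA k).comp (e₁ k : MvPowerSeries (Fin 2) k →ₐ[k] PowerSeries (PowerSeries k))

/-- `x ↦ 0` -/
noncomputable def py : MvPowerSeries (Fin 2) k →ₐ[k] PowerSeries k :=
  (PowerSeries.mapAlgHom (cc₁ k)).comp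
    (e₁ k : MvPowerSeries (Fin 2) k →ₐ[k] PowerSeries (PowerSeries k))

variable {k}

theorem px_apply (f : MvPowerSeries (Fin 2) k) :
    px k f = PowerSeries.constantCoeff (e₁ k f) := rfl

theorem py_apply (f : MvPowerSeries (Fin 2) k) :
    py k f = PowerSeries.map (PowerSeries.constantCoeff (R := k)) (e₁ k f) := rfl

theorem px_X0 : px k (MvPowerSeries.X 0) = PowerSeries.X := by
  rw [px_apply, e₁_X0, PowerSeries.constantCoeff_C]

theorem px_X1 : px k (MvPowerSeries.X 1) = 0 := by
  rw [px_apply, e₁_X1, PowerSeries.constantCoeff_X]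

theorem py_X0 : py k (MvPowerSeries.X 0) = 0 := by
  rw [py_apply, e₁_X0, PowerSeries.map_C, PowerSeries.constantCoeff_X, map_zero]

theorem py_X1 : py k (MvPowerSeries.X 1) = PowerSeries.X := by
  rw [py_apply, e₁_X1, PowerSeries.map_X]

theorem coeff_px (f : MvPowerSeries (Fin 2) k) (m : ℕ) :
    PowerSeries.coeff m (px k f) = MvPowerSeries.coeff (Finsupp.single (0 : Fin 2) m) f := by
  rw [px_apply, ← PowerSeries.coeff_zero_eq_constantCoeff_apply, coeff_e₁]
  simp

theorem coeff_py (f : MvPowerSeries (Fin 2) k) (m : ℕ) :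
    PowerSeries.coeff m (py k f) = MvPowerSeries.coeff (Finsupp.single (1 : Fin 2) m) f := by
  rw [py_apply, PowerSeries.coeff_map, ← PowerSeries.coeff_zero_eq_constantCoeff_apply, coeff_e₁]
  simp

theorem constantCoeff_px (f : MvPowerSeries (Fin 2) k) :
    PowerSeries.constantCoeff (px k f) = MvPowerSeries.constantCoeff f := by
  rw [← PowerSeries.coeff_zero_eq_constantCoeff_apply, coeff_px]
  simp

theorem constantCoeff_py (f : MvPowerSeries (Fin 2) k) :
    PowerSeries.constantCoeff (py k f) = MvPowerSeries.constantCoeff f := by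
  rw [← PowerSeries.coeff_zero_eq_constantCoeff_apply, coeff_py]
  simp

/-- `ker px = (y)` -/
theorem X1_dvd_of_px (f : MvPowerSeries (Fin 2) k) (h : px k f = 0) :
    (MvPowerSeries.X 1 : MvPowerSeries (Fin 2) k) ∣ f := by
  rw [px_apply] at h
  obtain ⟨g, hg⟩ := PowerSeries.X_dvd_iff.mpr h
  refine ⟨(e₁ k).symm g, ?_⟩
  apply (e₁ k).injective
  rw [map_mul, e₁_X1, AlgEquiv.apply_symm_apply, hg]

/-- `ker py = (x)` -/
theorem X0_dvd_of_py (f : MvPowerSeries (Fin 2) k) (h : py k f = 0) :
    (MvPowerSeries.X 0 : MvPowerSeries (Fin 2) k) ∣ f := by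
  rw [py_apply] at h
  have hc : ∀ n, (PowerSeries.X : PowerSeries k) ∣ PowerSeries.coeff n (e₁ k f) := by
    intro n
    rw [PowerSeries.X_dvd_iff]
    have := congrArg (PowerSeries.coeff n) h
    rw [PowerSeries.coeff_map, map_zero] at this
    exact this
  choose q hq using hc
  refine ⟨(e₁ k).symm (PowerSeries.mk q), ?_⟩
  apply (e₁ k).injective
  rw [map_mul, e₁_X0, AlgEquiv.apply_symm_apply]
  ext1 n
  rw [PowerSeries.coeff_C_mul, PowerSeries.coeff_mk, hq n]

/-- `ker px ∩ ker py = (xy)` -/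
theorem mem_span_of_px_py (f : MvPowerSeries (Fin 2) k) (hx : px k f = 0) (hy : py k f = 0) :
    f ∈ Ideal.span {(MvPowerSeries.X 0 * MvPowerSeries.X 1 : MvPowerSeries (Fin 2) k)} := by
  obtain ⟨g, rfl⟩ := X1_dvd_of_px f hx
  rw [map_mul, py_X1] at hy
  have hg : py k g = 0 := by
    rcases mul_eq_zero.mp hy with h | h
    · exact absurd h PowerSeries.X_ne_zero
    · exact h
  obtain ⟨g', rfl⟩ := X0_dvd_of_py g hg
  rw [Ideal.mem_span_singleton']
  exact ⟨g', by ring⟩

variable (k)

/-- `t ↦ x` -/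
noncomputable def ix : PowerSeries k →ₐ[k] MvPowerSeries (Fin 2) k :=
  ((e₁ k).symm : PowerSeries (PowerSeries k) →ₐ[k] MvPowerSeries (Fin 2) k).comp
    { PowerSeries.C (R := PowerSeries k) with
      commutes' := fun c => by
        show PowerSeries.C (algebraMap k (PowerSeries k) c) = _
        rw [PowerSeries.algebraMap_apply (R := k) (A := PowerSeries k)] }

/-- `t ↦ y` -/
noncomputable def iy : PowerSeries k →ₐ[k] MvPowerSeries (Fin 2) k :=
  ((e₁ k).symm : PowerSeries (PowerSeries k) →ₐ[k] MvPowerSeries (Fin 2) k).comp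
    (PowerSeries.mapAlgHom (Algebra.ofId k (PowerSeries k)))

variable {k}

theorem ix_apply (a : PowerSeries k) : ix k a = (e₁ k).symm (PowerSeries.C a) := rfl

theorem iy_apply (a : PowerSeries k) :
    iy k a = (e₁ k).symm (PowerSeries.mapAlgHom (Algebra.ofId k (PowerSeries k)) a) := rfl

theorem e₁_ix (a : PowerSeries k) : e₁ k (ix k a) = PowerSeries.C a := by
  rw [ix_apply, AlgEquiv.apply_symm_apply]

theorem e₁_iy (a : PowerSeries k) :
    e₁ k (iy k a) = PowerSeries.map (PowerSeries.C (R := k)) a := by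
  rw [iy_apply, AlgEquiv.apply_symm_apply, PowerSeries.mapAlgHom_apply]
  ext1 n
  rw [PowerSeries.coeff_map, PowerSeries.coeff_map]
  rfl

theorem px_ix (a : PowerSeries k) : px k (ix k a) = a := by
  rw [px_apply, e₁_ix, PowerSeries.constantCoeff_C]

theorem py_ix (a : PowerSeries k) : py k (ix k a) = PowerSeries.C (PowerSeries.constantCoeff a) := by
  rw [py_apply, e₁_ix, PowerSeries.map_C]

theorem px_iy (a : PowerSeries k) : px k (iy k a) = PowerSeries.C (PowerSeries.constantCoeff a) := by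
  rw [px_apply, e₁_iy]
  ext n
  rw [← PowerSeries.coeff_zero_eq_constantCoeff_apply, PowerSeries.coeff_map,
    PowerSeries.coeff_zero_eq_constantCoeff_apply]

theorem py_iy (a : PowerSeries k) : py k (iy k a) = a := by
  rw [py_apply, e₁_iy]
  ext n
  rw [PowerSeries.coeff_map, PowerSeries.coeff_map, PowerSeries.constantCoeff_C]

theorem ix_X : ix k PowerSeries.X = MvPowerSeries.X 0 := by
  apply (e₁ k).injective
  rw [e₁_ix, e₁_X0]

theorem iy_X : iy k PowerSeries.X = MvPowerSeries.X 1 := by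
  apply (e₁ k).injective
  rw [e₁_iy, e₁_X1, PowerSeries.map_X]

end Groth.Agent.Lib.Node97
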