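import Mathlib
import Groth.Agent.Lib.Node97
import Groth.Agent.Lib.FormalInverse50
import Groth.Agent.Lib.H59PowerSeries

/-!
# Double points of plane curves, part a (helper97)

Automorphisms of `k[[x,y]]` from substitutions with invertible Jacobian, transport of quotients,
powers of the maximal ideal, and the invariant `dim R/m^3`.
-/

set_option autoImplicit false
set_option maxHeartbeats 400000
universe u

namespace Groth.Agent.Lib.DblPt97

open Groth.Agent.Lib.Node97 Groth.Agent.Lib.ArSing97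

variable {k : Type u} [Field k]

section maxIdeal

theorem mem_maximalIdeal_iff (f : MvPowerSeries (Fin 2) k) :
    f ∈ IsLocalRing.maximalIdeal (MvPowerSeries (Fin 2) k) ↔ MvPowerSeries.constantCoeff f = 0 := by
  rw [IsLocalRing.mem_maximalIdeal, mem_nonunits_iff, MvPowerSeries.isUnit_iff_constantCoeff,
    isUnit_iff_ne_zero, not_not]

theorem mem_maximalIdeal_pow_iff (N : ℕ) (f : MvPowerSeries (Fin 2) k) :
    f ∈ IsLocalRing.maximalIdeal (MvPowerSeries (Fin 2) k) ^ N ↔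
      ∀ e : Fin 2 →₀ ℕ, e.degree < N → MvPowerSeries.coeff e f = 0 := by
  rw [H59PowerSeries.maximalIdeal_eq_bigIdeal, H59PowerSeries.bigIdeal_pow_eq,
    H59PowerSeries.mem_coeffIdeal, IsLocalRing.maximalIdeal_eq_bot]
  constructor
  · intro h e he
    have := h e
    rw [← Ideal.zero_eq_bot, zero_pow (by omega), Ideal.zero_eq_bot, Ideal.mem_bot] at this
    exact this
  · intro h e
    by_cases he : e.degree < N
    · rw [h e he]; exact Ideal.zero_mem _
    · rw [Nat.sub_eq_zero_of_le (not_lt.mp he), pow_zero, Ideal.one_eq_top]; trivial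

theorem X_mem_maximalIdeal (i : Fin 2) :
    (MvPowerSeries.X i : MvPowerSeries (Fin 2) k) ∈
      IsLocalRing.maximalIdeal (MvPowerSeries (Fin 2) k) := by
  rw [mem_maximalIdeal_iff, MvPowerSeries.constantCoeff_X]

theorem mul3_mem {x y z : MvPowerSeries (Fin 2) k}
    (hx : x ∈ IsLocalRing.maximalIdeal (MvPowerSeries (Fin 2) k))
    (hy : y ∈ IsLocalRing.maximalIdeal (MvPowerSeries (Fin 2) k))
    (hz : z ∈ IsLocalRing.maximalIdeal (MvPowerSeries (Fin 2) k)) :
    x * y * z ∈ IsLocalRing.maximalIdeal (MvPowerSeries (Fin 2) k) ^ 3 := by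
  rw [pow_succ, pow_two]
  exact Ideal.mul_mem_mul (Ideal.mul_mem_mul hx hy) hz

/-- `py` maps `m^N` into `(t^N)` -/
theorem dvd_py_of_mem_pow (N : ℕ) (g : MvPowerSeries (Fin 2) k)
    (hg : g ∈ IsLocalRing.maximalIdeal (MvPowerSeries (Fin 2) k) ^ N) :
    (PowerSeries.X : PowerSeries k) ^ N ∣ py k g := by
  rw [PowerSeries.X_pow_dvd_iff]
  intro j hj
  rw [coeff_py]
  exact (mem_maximalIdeal_pow_iff N g).mp hg _ (by rw [Finsupp.degree_single]; exact hj)

/-- algebra automorphisms preserve powers of the maximal ideal -/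
theorem aut_mem_pow (ψ : MvPowerSeries (Fin 2) k ≃ₐ[k] MvPowerSeries (Fin 2) k) (N : ℕ)
    (g : MvPowerSeries (Fin 2) k)
    (hg : g ∈ IsLocalRing.maximalIdeal (MvPowerSeries (Fin 2) k) ^ N) :
    ψ g ∈ IsLocalRing.maximalIdeal (MvPowerSeries (Fin 2) k) ^ N := by
  have h1 : Ideal.map (ψ : MvPowerSeries (Fin 2) k →+* MvPowerSeries (Fin 2) k)
      (IsLocalRing.maximalIdeal (MvPowerSeries (Fin 2) k) ^ N) =
      IsLocalRing.maximalIdeal (MvPowerSeries (Fin 2) k) ^ N := by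
    rw [Ideal.map_pow, IsLocalRing.map_maximalIdeal_of_surjective _ ψ.surjective]
  rw [← h1]
  exact Ideal.mem_map_of_mem _ hg

end maxIdeal

section decomp

theorem exists_decomp1 (f : MvPowerSeries (Fin 2) k) (hf : MvPowerSeries.constantCoeff f = 0) :
    ∃ q₀ q₁ : MvPowerSeries (Fin 2) k, f = MvPowerSeries.X 0 * q₀ + MvPowerSeries.X 1 * q₁ := by
  obtain ⟨q, hq, -⟩ := FormalInverse50.exists_decomp f hf
  exact ⟨q 0, q 1, by rw [hq, Fin.sum_univ_two]⟩

theorem exists_split (q : MvPowerSeries (Fin 2) k) :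
    ∃ r : MvPowerSeries (Fin 2) k, MvPowerSeries.constantCoeff r = 0 ∧
      q = MvPowerSeries.C (MvPowerSeries.constantCoeff q) + r :=
  ⟨q - MvPowerSeries.C (MvPowerSeries.constantCoeff q), by
    rw [map_sub, MvPowerSeries.constantCoeff_C, sub_self], by ring⟩

/-- a series without constant term is a quadratic polynomial plus an element of `m^3` -/
theorem exists_decomp2 (F : MvPowerSeries (Fin 2) k) (hF : MvPowerSeries.constantCoeff F = 0) :
    ∃ (a₀ a₁ b₀ b₁ b₂ : k) (R : MvPowerSeries (Fin 2) k),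
      R ∈ IsLocalRing.maximalIdeal (MvPowerSeries (Fin 2) k) ^ 3 ∧
      F = MvPowerSeries.C a₀ * MvPowerSeries.X 0 + MvPowerSeries.C a₁ * MvPowerSeries.X 1
        + MvPowerSeries.C b₀ * MvPowerSeries.X 0 ^ 2
        + MvPowerSeries.C b₁ * (MvPowerSeries.X 0 * MvPowerSeries.X 1)
        + MvPowerSeries.C b₂ * MvPowerSeries.X 1 ^ 2 + R := by
  obtain ⟨q₀, q₁, hq⟩ := exists_decomp1 F hF
  obtain ⟨r₀, hr₀, hq₀⟩ := exists_split q₀
  obtain ⟨r₁, hr₁, hq₁⟩ := exists_split q₁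
  obtain ⟨s₀₀, s₀₁, hs₀⟩ := exists_decomp1 r₀ hr₀
  obtain ⟨s₁₀, s₁₁, hs₁⟩ := exists_decomp1 r₁ hr₁
  obtain ⟨t₀₀, ht₀₀, hs₀₀⟩ := exists_split s₀₀
  obtain ⟨t₀₁, ht₀₁, hs₀₁⟩ := exists_split s₀₁
  obtain ⟨t₁₀, ht₁₀, hs₁₀⟩ := exists_split s₁₀
  obtain ⟨t₁₁, ht₁₁, hs₁₁⟩ := exists_split s₁₁
  refine ⟨MvPowerSeries.constantCoeff q₀, MvPowerSeries.constantCoeff q₁,
    MvPowerSeries.constantCoeff s₀₀,
    MvPowerSeries.constantCoeff s₀₁ + MvPowerSeries.constantCoeff s₁₀,
    MvPowerSeries.constantCoeff s₁₁,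
    MvPowerSeries.X 0 * MvPowerSeries.X 0 * t₀₀ + MvPowerSeries.X 0 * MvPowerSeries.X 1 * t₀₁
      + MvPowerSeries.X 1 * MvPowerSeries.X 0 * t₁₀ + MvPowerSeries.X 1 * MvPowerSeries.X 1 * t₁₁,
    ?_, ?_⟩
  · have hm : ∀ t : MvPowerSeries (Fin 2) k, MvPowerSeries.constantCoeff t = 0 →
        t ∈ IsLocalRing.maximalIdeal (MvPowerSeries (Fin 2) k) := fun t ht =>
      (mem_maximalIdeal_iff t).mpr ht
    exact Ideal.add_mem _ (Ideal.add_mem _ (Ideal.add_mem _
      (mul3_mem (X_mem_maximalIdeal 0) (X_mem_maximalIdeal 0) (hm _ ht₀₀))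
      (mul3_mem (X_mem_maximalIdeal 0) (X_mem_maximalIdeal 1) (hm _ ht₀₁)))
      (mul3_mem (X_mem_maximalIdeal 1) (X_mem_maximalIdeal 0) (hm _ ht₁₀)))
      (mul3_mem (X_mem_maximalIdeal 1) (X_mem_maximalIdeal 1) (hm _ ht₁₁))
  · rw [map_add]
    conv_lhs => rw [hq, hq₀, hq₁, hs₀, hs₁, hs₀₀, hs₀₁, hs₁₀, hs₁₁]
    ring

end decomp

section aut

/-- the Jacobian determinant at the origin, computed through the axis projections -/
noncomputable def jac (y : Fin 2 → MvPowerSeries (Fin 2) k) : k :=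
  PowerSeries.coeff 1 (px k (y 0)) * PowerSeries.coeff 1 (py k (y 1))
    - PowerSeries.coeff 1 (py k (y 0)) * PowerSeries.coeff 1 (px k (y 1))

theorem jac_eq (y : Fin 2 → MvPowerSeries (Fin 2) k) :
    jac y = Matrix.det (Matrix.of fun i j : Fin 2 =>
      MvPowerSeries.coeff (Finsupp.single j 1) (y i)) := by
  rw [Matrix.det_fin_two]
  simp only [Matrix.of_apply]
  unfold jac
  rw [coeff_px, coeff_py, coeff_px, coeff_py]

/-- the automorphism `X i ↦ y i` -/
noncomputable def autOf (y : Fin 2 → MvPowerSeries (Fin 2) k)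
    (h0 : ∀ i, MvPowerSeries.constantCoeff (y i) = 0) (hJ : jac y ≠ 0) :
    MvPowerSeries (Fin 2) k ≃ₐ[k] MvPowerSeries (Fin 2) k :=
  AlgEquiv.ofBijective
    (MvPowerSeries.substAlgHom (MvPowerSeries.hasSubst_of_constantCoeff_zero h0)) (by
      rw [MvPowerSeries.coe_substAlgHom]
      exact FormalInverse50.subst_bijective_of_isUnit_det y h0 (by
        rw [← jac_eq]; exact isUnit_iff_ne_zero.mpr hJ))

theorem autOf_X (y : Fin 2 → MvPowerSeries (Fin 2) k)
    (h0 : ∀ i, MvPowerSeries.constantCoeff (y i) = 0) (hJ : jac y ≠ 0) (i : Fin 2) :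
    autOf y h0 hJ (MvPowerSeries.X i) = y i := by
  exact MvPowerSeries.substAlgHom_X (MvPowerSeries.hasSubst_of_constantCoeff_zero h0) i

/-- transport of principal quotients along an automorphism -/
theorem nonempty_equiv_of_aut (ψ : MvPowerSeries (Fin 2) k ≃ₐ[k] MvPowerSeries (Fin 2) k)
    (F G u : MvPowerSeries (Fin 2) k) (hu : IsUnit u) (h : ψ F = u * G) :
    Nonempty ((MvPowerSeries (Fin 2) k ⧸ Ideal.span {F}) ≃ₐ[k]
      (MvPowerSeries (Fin 2) k ⧸ Ideal.span {G})) := by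
  refine ⟨Ideal.quotientEquivAlg _ _ ψ ?_⟩
  rw [Ideal.map_span, Set.image_singleton]
  show Ideal.span {G} = Ideal.span {ψ F}
  rw [h, Ideal.span_singleton_mul_left_unit hu]

theorem nonempty_equiv_of_eq_mul (F G u : MvPowerSeries (Fin 2) k) (hu : IsUnit u)
    (h : F = u * G) :
    Nonempty ((MvPowerSeries (Fin 2) k ⧸ Ideal.span {F}) ≃ₐ[k]
      (MvPowerSeries (Fin 2) k ⧸ Ideal.span {G})) :=
  nonempty_equiv_of_aut AlgEquiv.refl F G u hu h

end aut

section invariant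

/-- the invariant `dim_k R/m^3` of a local `k`-algebra -/
noncomputable def inv3 (k : Type u) [Field k] (R : Type*) [CommRing R] [IsLocalRing R] [Algebra k R] : ℕ :=
  Module.finrank k (R ⧸ IsLocalRing.maximalIdeal R ^ 3)

theorem inv3_eq_of_algEquiv {R S : Type*} [CommRing R] [CommRing S] [IsLocalRing R] [IsLocalRing S]
    [Algebra k R] [Algebra k S] (φ : R ≃ₐ[k] S) : inv3 k R = inv3 k S := by
  have h : IsLocalRing.maximalIdeal S ^ 3 =
      Ideal.map (φ : R →+* S) (IsLocalRing.maximalIdeal R ^ 3) := by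
    rw [Ideal.map_pow, IsLocalRing.map_maximalIdeal_of_surjective _ φ.surjective]
  exact (Ideal.quotientEquivAlg _ _ φ h).toLinearEquiv.finrank_eq

theorem inv3_quot (A : Type*) [CommRing A] [IsLocalRing A] [Algebra k A] (I : Ideal A)
    [IsLocalRing (A ⧸ I)] :
    inv3 k (A ⧸ I) = Module.finrank k (A ⧸ (I ⊔ IsLocalRing.maximalIdeal A ^ 3)) := by
  have h : IsLocalRing.maximalIdeal (A ⧸ I) ^ 3 =
      (IsLocalRing.maximalIdeal A ^ 3).map (Ideal.Quotient.mkₐ k I) := by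
    rw [Ideal.map_pow]
    congr 1
    exact (IsLocalRing.map_maximalIdeal_of_surjective (Ideal.Quotient.mk I)
      Ideal.Quotient.mk_surjective).symm
  unfold inv3
  rw [h]
  exact (DoubleQuot.quotQuotEquivQuotSupₐ k I (IsLocalRing.maximalIdeal A ^ 3)).toLinearEquiv.finrank_eq

/-- strict monotonicity of colength -/
theorem finrank_quot_lt {A : Type*} [CommRing A] [Algebra k A] (I J : Ideal A) (hIJ : I ≤ J)
    [Module.Finite k (A ⧸ I)] (g : A) (hgJ : g ∈ J) (hgI : g ∉ I) :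
    Module.finrank k (A ⧸ J) < Module.finrank k (A ⧸ I) := by
  set π : (A ⧸ I) →ₗ[k] (A ⧸ J) := (Ideal.Quotient.factorₐ k hIJ).toLinearMap with hπ
  have hsurj : Function.Surjective π := by
    intro z
    obtain ⟨a, rfl⟩ := Ideal.Quotient.mk_surjective z
    exact ⟨Ideal.Quotient.mk I a, rfl⟩
  have h1 := LinearMap.finrank_range_add_finrank_ker π
  rw [LinearMap.range_eq_top.mpr hsurj, finrank_top] at h1
  have h2 : 0 < Module.finrank k (LinearMap.ker π) := by
    rw [Module.finrank_pos_iff_exists_ne_zero]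
    refine ⟨⟨Ideal.Quotient.mk I g, ?_⟩, ?_⟩
    · rw [LinearMap.mem_ker]
      show Ideal.Quotient.mk J g = 0
      exact Ideal.Quotient.eq_zero_iff_mem.mpr hgJ
    · intro h0
      have := congrArg Subtype.val h0
      exact hgI (Ideal.Quotient.eq_zero_iff_mem.mp this)
  omega

end invariant

end Groth.Agent.Lib.DblPt97
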