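import Mathlib
import Groth.Agent.Lib.DblPt97a

/-!
# Double points of plane curves, part b (helper97)

`k[[x,y]]/m^3` is finite-dimensional; the invariant `dim R/m^3` separates `F ∈ m^3` from
`G ∉ m^3`.
-/

set_option autoImplicit false
set_option maxHeartbeats 400000
universe u

namespace Groth.Agent.Lib.DblPt97

open Groth.Agent.Lib.Node97 Groth.Agent.Lib.ArSing97

variable {k : Type u} [Field k]

section finite

theorem mk_C_mul (I : Ideal (MvPowerSeries (Fin 2) k)) (c : k) (g : MvPowerSeries (Fin 2) k) :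
    Ideal.Quotient.mkₐ k I (MvPowerSeries.C c * g) = c • Ideal.Quotient.mkₐ k I g := by
  rw [← MvPowerSeries.smul_eq_C_mul, map_smul]

theorem finite_quot_m3 :
    Module.Finite k (MvPowerSeries (Fin 2) k ⧸
      IsLocalRing.maximalIdeal (MvPowerSeries (Fin 2) k) ^ 3) := by
  classical
  set I := IsLocalRing.maximalIdeal (MvPowerSeries (Fin 2) k) ^ 3 with hI
  refine ⟨⟨{Ideal.Quotient.mkₐ k I 1, Ideal.Quotient.mkₐ k I (MvPowerSeries.X 0),
    Ideal.Quotient.mkₐ k I (MvPowerSeries.X 1), Ideal.Quotient.mkₐ k I (MvPowerSeries.X 0 ^ 2),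
    Ideal.Quotient.mkₐ k I (MvPowerSeries.X 0 * MvPowerSeries.X 1),
    Ideal.Quotient.mkₐ k I (MvPowerSeries.X 1 ^ 2)}, ?_⟩⟩
  rw [eq_top_iff]
  rintro z -
  obtain ⟨f, rfl⟩ := Ideal.Quotient.mkₐ_surjective k I z
  obtain ⟨r, hr, hf⟩ := exists_split f
  obtain ⟨a₀, a₁, b₀, b₁, b₂, R, hR, hr2⟩ := exists_decomp2 r hr
  have hR0 : Ideal.Quotient.mkₐ k I R = 0 := Ideal.Quotient.eq_zero_iff_mem.mpr hR
  have h1 : Ideal.Quotient.mkₐ k I f =
      MvPowerSeries.constantCoeff f • Ideal.Quotient.mkₐ k I 1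
      + a₀ • Ideal.Quotient.mkₐ k I (MvPowerSeries.X 0)
      + a₁ • Ideal.Quotient.mkₐ k I (MvPowerSeries.X 1)
      + b₀ • Ideal.Quotient.mkₐ k I (MvPowerSeries.X 0 ^ 2)
      + b₁ • Ideal.Quotient.mkₐ k I (MvPowerSeries.X 0 * MvPowerSeries.X 1)
      + b₂ • Ideal.Quotient.mkₐ k I (MvPowerSeries.X 1 ^ 2) := by
    conv_lhs => rw [hf, hr2]
    rw [map_add, map_add, map_add, map_add, map_add, map_add, hR0, add_zero, mk_C_mul, mk_C_mul,
      mk_C_mul, mk_C_mul, mk_C_mul, ← mul_one (MvPowerSeries.C (MvPowerSeries.constantCoeff f)),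
      mk_C_mul]
    abel
  rw [h1]
  refine Submodule.add_mem _ (Submodule.add_mem _ (Submodule.add_mem _ (Submodule.add_mem _
    (Submodule.add_mem _ ?_ ?_) ?_) ?_) ?_) ?_
  all_goals exact Submodule.smul_mem _ _ (Submodule.subset_span (by simp))

end finite

section separate

theorem isLocalRing_quot (F : MvPowerSeries (Fin 2) k) (hF : MvPowerSeries.constantCoeff F = 0) :
    IsLocalRing (MvPowerSeries (Fin 2) k ⧸ Ideal.span {F}) := by
  haveI : Nontrivial (MvPowerSeries (Fin 2) k ⧸ Ideal.span {F}) := by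
    apply Ideal.Quotient.nontrivial_iff.mpr
    rw [Ne, Ideal.span_singleton_eq_top]
    intro hu
    rw [MvPowerSeries.isUnit_iff_constantCoeff, hF] at hu
    exact not_isUnit_zero hu
  exact IsLocalRing.of_surjective' (Ideal.Quotient.mk _) Ideal.Quotient.mk_surjective

theorem inv3_of_mem (F : MvPowerSeries (Fin 2) k)
    (hF : F ∈ IsLocalRing.maximalIdeal (MvPowerSeries (Fin 2) k) ^ 3)
    [IsLocalRing (MvPowerSeries (Fin 2) k ⧸ Ideal.span {F})] :
    inv3 k (MvPowerSeries (Fin 2) k ⧸ Ideal.span {F}) =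
      Module.finrank k (MvPowerSeries (Fin 2) k ⧸
        IsLocalRing.maximalIdeal (MvPowerSeries (Fin 2) k) ^ 3) := by
  rw [inv3_quot]
  have h : Ideal.span {F} ⊔ IsLocalRing.maximalIdeal (MvPowerSeries (Fin 2) k) ^ 3 =
      IsLocalRing.maximalIdeal (MvPowerSeries (Fin 2) k) ^ 3 :=
    sup_eq_right.mpr ((Ideal.span_singleton_le_iff_mem _).mpr hF)
  exact (Ideal.quotientEquivAlgOfEq k h).toLinearEquiv.finrank_eq

theorem inv3_lt_of_not_mem (G : MvPowerSeries (Fin 2) k)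
    (hG : G ∉ IsLocalRing.maximalIdeal (MvPowerSeries (Fin 2) k) ^ 3)
    [IsLocalRing (MvPowerSeries (Fin 2) k ⧸ Ideal.span {G})] :
    inv3 k (MvPowerSeries (Fin 2) k ⧸ Ideal.span {G}) <
      Module.finrank k (MvPowerSeries (Fin 2) k ⧸
        IsLocalRing.maximalIdeal (MvPowerSeries (Fin 2) k) ^ 3) := by
  rw [inv3_quot]
  haveI := finite_quot_m3 (k := k)
  exact finrank_quot_lt _ _ le_sup_right G
    (Ideal.mem_sup_left (Ideal.mem_span_singleton_self G)) hG

/-- a quotient by an element of `m^3` is not isomorphic to a quotient by an element of `m ∖ m^3` -/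
theorem isEmpty_equiv (F G : MvPowerSeries (Fin 2) k)
    (hF : F ∈ IsLocalRing.maximalIdeal (MvPowerSeries (Fin 2) k) ^ 3)
    (hG0 : MvPowerSeries.constantCoeff G = 0)
    (hG : G ∉ IsLocalRing.maximalIdeal (MvPowerSeries (Fin 2) k) ^ 3) :
    IsEmpty ((MvPowerSeries (Fin 2) k ⧸ Ideal.span {F}) ≃ₐ[k]
      (MvPowerSeries (Fin 2) k ⧸ Ideal.span {G})) := by
  constructor
  intro φ
  have hF0 : MvPowerSeries.constantCoeff F = 0 :=
    (mem_maximalIdeal_iff F).mp (Ideal.pow_le_self (by norm_num) hF)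
  haveI := isLocalRing_quot F hF0
  haveI := isLocalRing_quot G hG0
  have h1 := inv3_eq_of_algEquiv φ
  rw [inv3_of_mem F hF] at h1
  have h2 := inv3_lt_of_not_mem G hG
  omega

end separate

end Groth.Agent.Lib.DblPt97
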