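import Mathlib
import Groth.Agent.Lib.DblPt97b

/-!
# Double points of plane curves, part c (helper97)

Square roots of units of `k[[t]]` (Hensel), Weierstrass preparation for `k[[x,y]]` in degree `≤ 2`.
-/

set_option autoImplicit false
set_option maxHeartbeats 400000
universe u

namespace Groth.Agent.Lib.DblPt97

open Groth.Agent.Lib.Node97 Groth.Agent.Lib.ArSing97

variable {k : Type u} [Field k]

section sqrt

theorem exists_sqrt [IsAlgClosed k] (h2 : (2 : k) ≠ 0) (e : PowerSeries k) (he : IsUnit e) :
    ∃ s : PowerSeries k, s ^ 2 = e := by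
  have hc : PowerSeries.constantCoeff e ≠ 0 := by
    rw [PowerSeries.isUnit_iff_constantCoeff] at he; exact he.ne_zero
  obtain ⟨c₀, hc₀⟩ := IsAlgClosed.exists_pow_nat_eq (PowerSeries.constantCoeff e) (by norm_num : 0 < 2)
  have hc₀0 : c₀ ≠ 0 := by
    rintro rfl
    rw [zero_pow (by norm_num)] at hc₀
    exact hc hc₀.symm
  haveI := IsAdicComplete.henselianRing (PowerSeries k) (Ideal.span {(PowerSeries.X : PowerSeries k)})
  set f : Polynomial (PowerSeries k) := Polynomial.X ^ 2 - Polynomial.C e with hf
  have hmonic : f.Monic := Polynomial.monic_X_pow_sub_C e (by norm_num)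
  have h₁ : Polynomial.eval (PowerSeries.C c₀) f ∈
      Ideal.span {(PowerSeries.X : PowerSeries k)} := by
    rw [hf, Polynomial.eval_sub, Polynomial.eval_pow, Polynomial.eval_X, Polynomial.eval_C,
      Ideal.mem_span_singleton, PowerSeries.X_dvd_iff, map_sub, map_pow,
      PowerSeries.constantCoeff_C, hc₀, sub_self]
  have h₂ : IsUnit (Ideal.Quotient.mk (Ideal.span {(PowerSeries.X : PowerSeries k)})
      (Polynomial.eval (PowerSeries.C c₀) (Polynomial.derivative f))) := by
    apply IsUnit.map
    rw [hf, Polynomial.derivative_sub, Polynomial.derivative_C, sub_zero,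
      Polynomial.derivative_X_pow, Polynomial.eval_mul, Polynomial.eval_C, Polynomial.eval_pow,
      Polynomial.eval_X, PowerSeries.isUnit_iff_constantCoeff, map_mul, map_pow,
      PowerSeries.constantCoeff_C]
    simp only [Nat.cast_ofNat, Nat.add_one_sub_one, pow_one]
    rw [isUnit_iff_ne_zero]
    have : PowerSeries.constantCoeff (2 : PowerSeries k) = 2 := by
      rw [← map_ofNat (PowerSeries.C (R := k)) 2, PowerSeries.constantCoeff_C]
    rw [this]
    exact mul_ne_zero h2 hc₀0
  obtain ⟨a, ha, -⟩ := HenselianRing.is_henselian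
    (I := Ideal.span {(PowerSeries.X : PowerSeries k)}) f hmonic (PowerSeries.C c₀) h₁ h₂
  refine ⟨a, ?_⟩
  rw [Polynomial.IsRoot.def, hf, Polynomial.eval_sub, Polynomial.eval_pow, Polynomial.eval_X,
    Polynomial.eval_C, sub_eq_zero] at ha
  exact ha

end sqrt

section weierstrass

theorem ps_mem_maximalIdeal_iff (a : PowerSeries k) :
    a ∈ IsLocalRing.maximalIdeal (PowerSeries k) ↔ PowerSeries.constantCoeff a = 0 := by
  rw [IsLocalRing.mem_maximalIdeal, mem_nonunits_iff, PowerSeries.isUnit_iff_constantCoeff,
    isUnit_iff_ne_zero, not_not]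

theorem constantCoeff_ix (a : PowerSeries k) :
    MvPowerSeries.constantCoeff (ix k a) = PowerSeries.constantCoeff a := by
  rw [← constantCoeff_px, px_ix]

/-- Weierstrass preparation in degree `≤ 2`. -/
theorem exists_weierstrass (F : MvPowerSeries (Fin 2) k)
    (hF0 : MvPowerSeries.constantCoeff F = 0) (j : ℕ) (hj : j ≤ 2)
    (hc : PowerSeries.coeff j (py k F) ≠ 0) :
    ∃ u : MvPowerSeries (Fin 2) k, IsUnit u ∧
      ((∃ a₀ : PowerSeries k, PowerSeries.constantCoeff a₀ = 0 ∧
          F = u * (MvPowerSeries.X 1 + ix k a₀)) ∨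
       (∃ a₁ a₀ : PowerSeries k, PowerSeries.constantCoeff a₁ = 0 ∧
          PowerSeries.constantCoeff a₀ = 0 ∧
          F = u * (MvPowerSeries.X 1 ^ 2 + ix k a₁ * MvPowerSeries.X 1 + ix k a₀))) := by
  haveI : IsAdicComplete (IsLocalRing.maximalIdeal (PowerSeries k)) (PowerSeries k) := by
    rw [PowerSeries.maximalIdeal_eq_span_X]; infer_instance
  set g : PowerSeries (PowerSeries k) := e₁ k F with hg
  have hcg : PowerSeries.constantCoeff (PowerSeries.coeff j g) ≠ 0 := by
    rw [py_apply, PowerSeries.coeff_map] at hc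
    exact hc
  have hgres : g.map (IsLocalRing.residue (PowerSeries k)) ≠ 0 := by
    intro h
    have := congrArg (PowerSeries.coeff j) h
    rw [PowerSeries.coeff_map, map_zero, IsLocalRing.residue_eq_zero_iff,
      ps_mem_maximalIdeal_iff] at this
    exact hcg this
  obtain ⟨W, U, H⟩ := PowerSeries.exists_isWeierstrassFactorization hgres
  have hmonic : W.Monic := H.isDistinguishedAt.monic
  have hdeg : W.natDegree ≤ 2 := by
    rw [H.natDegree_eq_toNat_order_map]
    refine le_trans (ENat.toNat_le_of_le_natCast (PowerSeries.order_le j ?_)) hj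
    rw [PowerSeries.coeff_map, Ne, IsLocalRing.residue_eq_zero_iff, ps_mem_maximalIdeal_iff]
    exact hcg
  have hmem : ∀ n, n < W.natDegree → PowerSeries.constantCoeff (W.coeff n) = 0 := by
    intro n hn
    rw [← ps_mem_maximalIdeal_iff]
    exact H.isDistinguishedAt.mem hn
  have hFu : ∀ w : MvPowerSeries (Fin 2) k, e₁ k w = (W : PowerSeries (PowerSeries k)) →
      F = (e₁ k).symm U * w := by
    intro w hw
    apply (e₁ k).injective
    rw [map_mul, AlgEquiv.apply_symm_apply, hw, mul_comm]
    exact H.eq_mul
  have hUu : IsUnit ((e₁ k).symm U) := H.isUnit.map (e₁ k).symm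
  refine ⟨(e₁ k).symm U, hUu, ?_⟩
  have hd : W.natDegree = 0 ∨ W.natDegree = 1 ∨ W.natDegree = 2 := by omega
  rcases hd with hd | hd | hd
  · exfalso
    have hW1 : W = 1 := Polynomial.eq_one_of_monic_natDegree_zero hmonic hd
    have := hFu 1 (by rw [map_one, hW1, Polynomial.coe_one])
    rw [mul_one] at this
    rw [this] at hF0
    have h := (MvPowerSeries.isUnit_iff_constantCoeff).mp hUu
    rw [hF0] at h
    exact not_isUnit_zero h
  · left
    refine ⟨W.coeff 0, hmem 0 (by omega), ?_⟩
    apply hFu
    have hW : W = Polynomial.X + Polynomial.C (W.coeff 0) := by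
      ext n
      rcases n with _ | _ | n
      · simp
      · have := hmonic.coeff_natDegree
        rw [hd] at this
        simp [this]
      · rw [Polynomial.coeff_eq_zero_of_natDegree_lt (by omega)]
        simp only [Polynomial.coeff_add, Polynomial.coeff_X, Polynomial.coeff_C]
        rw [if_neg (by omega), if_neg (by omega), add_zero]
    rw [map_add, e₁_X1, e₁_ix]
    conv_rhs => rw [hW]
    rw [Polynomial.coe_add, Polynomial.coe_X, Polynomial.coe_C]
  · right
    refine ⟨W.coeff 1, W.coeff 0, hmem 1 (by omega), hmem 0 (by omega), ?_⟩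
    apply hFu
    have hW : W = Polynomial.X ^ 2 + Polynomial.C (W.coeff 1) * Polynomial.X
        + Polynomial.C (W.coeff 0) := by
      ext n
      rcases n with _ | _ | _ | n
      · simp
      · simp
      · have := hmonic.coeff_natDegree
        rw [hd] at this
        simp [this]
      · rw [Polynomial.coeff_eq_zero_of_natDegree_lt (by omega)]
        simp only [Polynomial.coeff_add, Polynomial.coeff_X_pow, Polynomial.coeff_C_mul,
          Polynomial.coeff_X, Polynomial.coeff_C]
        rw [if_neg (by omega), if_neg (by omega), if_neg (by omega)]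
        simp
    rw [map_add, map_add, map_mul, map_pow, e₁_X1, e₁_ix, e₁_ix]
    conv_rhs => rw [hW]
    rw [Polynomial.coe_add, Polynomial.coe_add, Polynomial.coe_mul, Polynomial.coe_pow,
      Polynomial.coe_X, Polynomial.coe_C, Polynomial.coe_C]

end weierstrass

end Groth.Agent.Lib.DblPt97
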