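import Mathlib
import Groth.Agent.Lib.DblPt97c

/-!
# Double points of plane curves, part d (helper97)

Classification: for `F ∈ m ∖ m^3` in `k[[x,y]]` (`k` algebraically closed, `2 ≠ 0`) the quotient
`k[[x,y]]/(F)` is isomorphic to an `A_n`-ring `k[[x,y]]/(y^2 - x^(n+1))` or to `k[[x,y]]/(y^2)`.
-/

set_option autoImplicit false
set_option maxHeartbeats 400000
universe u

namespace Groth.Agent.Lib.DblPt97

open Groth.Agent.Lib.Node97 Groth.Agent.Lib.ArSing97

variable {k : Type u} [Field k]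

section auts

/-- `x ↦ x`, `y ↦ g` -/
noncomputable def autY (g : MvPowerSeries (Fin 2) k) (h0 : MvPowerSeries.constantCoeff g = 0)
    (h1 : PowerSeries.coeff 1 (py k g) ≠ 0) :
    MvPowerSeries (Fin 2) k ≃ₐ[k] MvPowerSeries (Fin 2) k :=
  autOf ![MvPowerSeries.X 0, g] (by
      intro i
      fin_cases i
      · exact MvPowerSeries.constantCoeff_X _
      · exact h0) (by
      unfold jac
      simp only [Matrix.cons_val_zero, Matrix.cons_val_one, px_X0, py_X0, map_zero, zero_mul,
        sub_zero, PowerSeries.coeff_one_X, one_mul]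
      exact h1)

theorem autY_X0 (g : MvPowerSeries (Fin 2) k) (h0 : MvPowerSeries.constantCoeff g = 0)
    (h1 : PowerSeries.coeff 1 (py k g) ≠ 0) : autY g h0 h1 (MvPowerSeries.X 0) = MvPowerSeries.X 0 := by
  unfold autY; rw [autOf_X]; rfl

theorem autY_X1 (g : MvPowerSeries (Fin 2) k) (h0 : MvPowerSeries.constantCoeff g = 0)
    (h1 : PowerSeries.coeff 1 (py k g) ≠ 0) : autY g h0 h1 (MvPowerSeries.X 1) = g := by
  unfold autY; rw [autOf_X]; rfl

/-- `x ↦ y`, `y ↦ y^2 - x` -/
noncomputable def autB : MvPowerSeries (Fin 2) k ≃ₐ[k] MvPowerSeries (Fin 2) k :=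
  autOf ![MvPowerSeries.X 1, MvPowerSeries.X 1 ^ 2 - MvPowerSeries.X 0] (by
      intro i
      fin_cases i
      · exact MvPowerSeries.constantCoeff_X _
      · simp) (by
      unfold jac
      simp only [Matrix.cons_val_zero, Matrix.cons_val_one, px_X1, py_X1, map_zero, zero_mul,
        map_sub, map_pow, px_X0, PowerSeries.coeff_one_X, zero_sub, one_mul]
      rw [zero_pow (by norm_num), map_zero, zero_sub, neg_neg]
      exact one_ne_zero)

theorem autB_X1 : autB (k := k) (MvPowerSeries.X 1) = MvPowerSeries.X 1 ^ 2 - MvPowerSeries.X 0 := by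
  unfold autB; rw [autOf_X]; rfl

/-- the swap `x ↔ y` -/
noncomputable def autSwap : MvPowerSeries (Fin 2) k ≃ₐ[k] MvPowerSeries (Fin 2) k :=
  autOf ![MvPowerSeries.X 1, MvPowerSeries.X 0] (by
      intro i
      fin_cases i
      · exact MvPowerSeries.constantCoeff_X _
      · exact MvPowerSeries.constantCoeff_X _) (by
      unfold jac
      simp only [Matrix.cons_val_zero, Matrix.cons_val_one, px_X1, py_X1, px_X0, py_X0, map_zero,
        zero_mul, PowerSeries.coeff_one_X, zero_sub, one_mul]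
      exact neg_ne_zero.mpr one_ne_zero)

theorem autSwap_X0 : autSwap (k := k) (MvPowerSeries.X 0) = MvPowerSeries.X 1 := by
  unfold autSwap; rw [autOf_X]; rfl

theorem autSwap_X1 : autSwap (k := k) (MvPowerSeries.X 1) = MvPowerSeries.X 0 := by
  unfold autSwap; rw [autOf_X]; rfl

/-- the shear `x ↦ x + y`, `y ↦ y` -/
noncomputable def autShear : MvPowerSeries (Fin 2) k ≃ₐ[k] MvPowerSeries (Fin 2) k :=
  autOf ![MvPowerSeries.X 0 + MvPowerSeries.X 1, MvPowerSeries.X 1] (by
      intro i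
      fin_cases i
      · simp
      · exact MvPowerSeries.constantCoeff_X _) (by
      unfold jac
      simp only [Matrix.cons_val_zero, Matrix.cons_val_one, px_X1, py_X1, px_X0, py_X0, map_zero,
        map_add, add_zero, zero_add, mul_zero, sub_zero, PowerSeries.coeff_one_X, one_mul]
      exact one_ne_zero)

theorem autShear_X0 :
    autShear (k := k) (MvPowerSeries.X 0) = MvPowerSeries.X 0 + MvPowerSeries.X 1 := by
  unfold autShear; rw [autOf_X]; rfl

theorem autShear_X1 : autShear (k := k) (MvPowerSeries.X 1) = MvPowerSeries.X 1 := by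
  unfold autShear; rw [autOf_X]; rfl

end auts

section classify

theorem aut_C (ψ : MvPowerSeries (Fin 2) k ≃ₐ[k] MvPowerSeries (Fin 2) k) (c : k) :
    ψ (MvPowerSeries.C c) = MvPowerSeries.C c := by
  have := ψ.commutes c
  rwa [MvPowerSeries.algebraMap_apply, Algebra.algebraMap_self, RingHom.id_apply] at this

theorem py_C' (c : k) : py k (MvPowerSeries.C c) = PowerSeries.C c := by
  have := (py k).commutes c
  rwa [MvPowerSeries.algebraMap_apply, PowerSeries.algebraMap_apply, Algebra.algebraMap_self,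
    RingHom.id_apply] at this

theorem coeff_one_aux (α β : k) (g : PowerSeries k) :
    PowerSeries.coeff 1 (PowerSeries.C α * PowerSeries.X + PowerSeries.C β * PowerSeries.X ^ 2
      + PowerSeries.X ^ 3 * g) = α := by
  rw [map_add, map_add, PowerSeries.coeff_C_mul, PowerSeries.coeff_C_mul, PowerSeries.coeff_one_X,
    PowerSeries.coeff_X_pow, PowerSeries.coeff_X_pow_mul', if_neg (by norm_num), if_neg (by norm_num)]
  ring

theorem coeff_two_aux (α β : k) (g : PowerSeries k) :
    PowerSeries.coeff 2 (PowerSeries.C α * PowerSeries.X + PowerSeries.C β * PowerSeries.X ^ 2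
      + PowerSeries.X ^ 3 * g) = β := by
  rw [map_add, map_add, PowerSeries.coeff_C_mul, PowerSeries.coeff_C_mul, PowerSeries.coeff_X,
    PowerSeries.coeff_X_pow, PowerSeries.coeff_X_pow_mul', if_neg (by norm_num), if_pos rfl,
    if_neg (by norm_num)]
  ring

/-- the restriction to the `y`-axis of the image under an automorphism, modulo `t^3` -/
theorem exists_form (ψ : MvPowerSeries (Fin 2) k ≃ₐ[k] MvPowerSeries (Fin 2) k)
    (p₀ p₁ : PowerSeries k) (hp₀ : py k (ψ (MvPowerSeries.X 0)) = p₀)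
    (hp₁ : py k (ψ (MvPowerSeries.X 1)) = p₁)
    (a₀ a₁ b₀ b₁ b₂ : k) (R F : MvPowerSeries (Fin 2) k)
    (hR : R ∈ IsLocalRing.maximalIdeal (MvPowerSeries (Fin 2) k) ^ 3)
    (hF : F = MvPowerSeries.C a₀ * MvPowerSeries.X 0 + MvPowerSeries.C a₁ * MvPowerSeries.X 1
        + MvPowerSeries.C b₀ * MvPowerSeries.X 0 ^ 2
        + MvPowerSeries.C b₁ * (MvPowerSeries.X 0 * MvPowerSeries.X 1)
        + MvPowerSeries.C b₂ * MvPowerSeries.X 1 ^ 2 + R) :
    ∃ g : PowerSeries k, py k (ψ F) = PowerSeries.C a₀ * p₀ + PowerSeries.C a₁ * p₁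
      + PowerSeries.C b₀ * p₀ ^ 2 + PowerSeries.C b₁ * (p₀ * p₁) + PowerSeries.C b₂ * p₁ ^ 2
      + PowerSeries.X ^ 3 * g := by
  obtain ⟨g, hg⟩ := dvd_py_of_mem_pow 3 (ψ R) (aut_mem_pow ψ 3 R hR)
  refine ⟨g, ?_⟩
  rw [hF]
  simp only [map_add, map_mul, map_pow, aut_C, py_C', hp₀, hp₁, hg]

variable [IsAlgClosed k]

/-- classification once the restriction to the `y`-axis has order `≤ 2` -/
theorem classify_of_py (h2 : (2 : k) ≠ 0) (F : MvPowerSeries (Fin 2) k)
    (hF0 : MvPowerSeries.constantCoeff F = 0) (j : ℕ) (hj : j ≤ 2)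
    (hc : PowerSeries.coeff j (py k F) ≠ 0) :
    (∃ n : ℕ, Nonempty ((MvPowerSeries (Fin 2) k ⧸ Ideal.span {F}) ≃ₐ[k] ArSing.ring k n)) ∨
      Nonempty ((MvPowerSeries (Fin 2) k ⧸ Ideal.span {F}) ≃ₐ[k]
        (MvPowerSeries (Fin 2) k ⧸ Ideal.span {(MvPowerSeries.X 1 : MvPowerSeries (Fin 2) k) ^ 2})) := by
  obtain ⟨u, hu, h | h⟩ := exists_weierstrass F hF0 j hj hc
  · obtain ⟨a₀, ha₀, hF⟩ := h
    left
    refine ⟨0, ?_⟩
    set w : MvPowerSeries (Fin 2) k := MvPowerSeries.X 1 + ix k a₀ with hw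
    have hw0 : MvPowerSeries.constantCoeff w = 0 := by
      rw [hw, map_add, MvPowerSeries.constantCoeff_X, constantCoeff_ix, ha₀, add_zero]
    have hw1 : PowerSeries.coeff 1 (py k w) ≠ 0 := by
      rw [hw, map_add, py_X1, py_ix, ha₀, map_zero, add_zero, PowerSeries.coeff_one_X]
      exact one_ne_zero
    obtain ⟨e1⟩ := nonempty_equiv_of_eq_mul F w u hu hF
    obtain ⟨e2⟩ := nonempty_equiv_of_aut (autY w hw0 hw1) (MvPowerSeries.X 1) w 1 isUnit_one
      (by rw [autY_X1, one_mul])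
    obtain ⟨e3⟩ := nonempty_equiv_of_aut (autB (k := k)) (MvPowerSeries.X 1) (ArSing.eqn k 0) 1
      isUnit_one (by rw [autB_X1, one_mul]; unfold ArSing.eqn; rw [zero_add, pow_one])
    exact ⟨e1.trans (e2.symm.trans e3)⟩
  · obtain ⟨a₁, a₀, ha₁, ha₀, hF⟩ := h
    set w : MvPowerSeries (Fin 2) k :=
      MvPowerSeries.X 1 ^ 2 + ix k a₁ * MvPowerSeries.X 1 + ix k a₀ with hw
    obtain ⟨e1⟩ := nonempty_equiv_of_eq_mul F w u hu hF
    set b : PowerSeries k := PowerSeries.C (2 : k)⁻¹ * a₁ with hb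
    have hbb : b + b = a₁ := by
      rw [hb, ← two_mul, ← mul_assoc]
      have : (2 : PowerSeries k) * PowerSeries.C (2 : k)⁻¹ = 1 := by
        rw [← map_ofNat (PowerSeries.C (R := k)) 2, ← map_mul, mul_inv_cancel₀ h2, map_one]
      rw [this, one_mul]
    have hb0 : PowerSeries.constantCoeff b = 0 := by rw [hb, map_mul, ha₁, mul_zero]
    set D : PowerSeries k := b ^ 2 - a₀ with hD
    have hD0 : PowerSeries.constantCoeff D = 0 := by
      rw [hD, map_sub, map_pow, hb0, ha₀, zero_pow (by norm_num), sub_zero]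
    have hwD : w = (MvPowerSeries.X 1 + ix k b) ^ 2 - ix k D := by
      rw [hw, hD, map_sub, map_pow, ← hbb, map_add]; ring
    set g : MvPowerSeries (Fin 2) k := MvPowerSeries.X 1 + ix k b with hg
    have hg0 : MvPowerSeries.constantCoeff g = 0 := by
      rw [hg, map_add, MvPowerSeries.constantCoeff_X, constantCoeff_ix, hb0, add_zero]
    have hpyg : py k g = PowerSeries.X := by
      rw [hg, map_add, py_X1, py_ix, hb0, map_zero, add_zero]
    by_cases hDz : D = 0
    · right
      have hg1 : PowerSeries.coeff 1 (py k g) ≠ 0 := by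
        rw [hpyg, PowerSeries.coeff_one_X]; exact one_ne_zero
      obtain ⟨e2⟩ := nonempty_equiv_of_aut (autY g hg0 hg1) (MvPowerSeries.X 1 ^ 2) w 1 isUnit_one
        (by rw [map_pow, autY_X1, one_mul, hwD, hDz, map_zero, sub_zero])
      exact ⟨e1.trans e2.symm⟩
    · left
      obtain ⟨m, v, hDv⟩ := IsDiscreteValuationRing.eq_unit_mul_pow_irreducible hDz
        (PowerSeries.X_prime (R := k)).irreducible
      have hm : 1 ≤ m := by
        by_contra hm0
        have hm00 : m = 0 := by omega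
        rw [hm00, pow_zero, mul_one] at hDv
        have := (PowerSeries.isUnit_iff_constantCoeff).mp (hDv ▸ v.isUnit)
        rw [hD0] at this
        exact not_isUnit_zero this
      obtain ⟨s, hs⟩ := exists_sqrt h2 (v : PowerSeries k) v.isUnit
      have hsu : IsUnit s := by
        have : IsUnit (s ^ 2) := hs ▸ v.isUnit
        exact (isUnit_pow_iff (by norm_num)).mp this
      obtain ⟨t, hst⟩ := hsu.exists_right_inv
      have htu : IsUnit t := IsUnit.of_mul_eq_one s (by rw [mul_comm]; exact hst)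
      have htc : PowerSeries.constantCoeff t ≠ 0 :=
        ((PowerSeries.isUnit_iff_constantCoeff).mp htu).ne_zero
      set g' : MvPowerSeries (Fin 2) k := g * ix k t with hg'
      have hg'0 : MvPowerSeries.constantCoeff g' = 0 := by rw [hg', map_mul, hg0, zero_mul]
      have hg'1 : PowerSeries.coeff 1 (py k g') ≠ 0 := by
        rw [hg', map_mul, hpyg, py_ix, show (1 : ℕ) = 0 + 1 from rfl, PowerSeries.coeff_succ_X_mul,
          PowerSeries.coeff_zero_eq_constantCoeff_apply, PowerSeries.constantCoeff_C]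
        exact htc
      have hts : ix k s * ix k t = 1 := by rw [← map_mul, hst, map_one]
      obtain ⟨e2⟩ := nonempty_equiv_of_aut (autY g' hg'0 hg'1) (ArSing.eqn k (m - 1)) w
        (ix k t ^ 2) ((htu.map (ix k)).pow 2) (by
          unfold ArSing.eqn
          rw [map_sub, map_pow, map_pow, autY_X1, autY_X0, Nat.sub_add_cancel hm, hwD, hDv, hg',
            ← hs, map_mul, map_pow, map_pow, ix_X]
          linear_combination (MvPowerSeries.X 0 ^ m * (ix k s * ix k t + 1)) * hts)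
      exact ⟨m - 1, ⟨e1.trans e2.symm⟩⟩

/-- **Classification of double points**: `F ∈ m ∖ m^3`. -/
theorem classify (h2 : (2 : k) ≠ 0) (F : MvPowerSeries (Fin 2) k)
    (hF0 : MvPowerSeries.constantCoeff F = 0)
    (hF3 : F ∉ IsLocalRing.maximalIdeal (MvPowerSeries (Fin 2) k) ^ 3) :
    (∃ n : ℕ, Nonempty ((MvPowerSeries (Fin 2) k ⧸ Ideal.span {F}) ≃ₐ[k] ArSing.ring k n)) ∨
      Nonempty ((MvPowerSeries (Fin 2) k ⧸ Ideal.span {F}) ≃ₐ[k]
        (MvPowerSeries (Fin 2) k ⧸ Ideal.span {(MvPowerSeries.X 1 : MvPowerSeries (Fin 2) k) ^ 2})) := by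
  obtain ⟨a₀, a₁, b₀, b₁, b₂, R, hR, hF⟩ := exists_decomp2 F hF0
  have key : ∀ (ψ : MvPowerSeries (Fin 2) k ≃ₐ[k] MvPowerSeries (Fin 2) k) (j : ℕ), j ≤ 2 →
      PowerSeries.coeff j (py k (ψ F)) ≠ 0 →
      ((∃ n : ℕ, Nonempty ((MvPowerSeries (Fin 2) k ⧸ Ideal.span {F}) ≃ₐ[k] ArSing.ring k n)) ∨
      Nonempty ((MvPowerSeries (Fin 2) k ⧸ Ideal.span {F}) ≃ₐ[k]
        (MvPowerSeries (Fin 2) k ⧸
          Ideal.span {(MvPowerSeries.X 1 : MvPowerSeries (Fin 2) k) ^ 2}))) := by
    intro ψ j hj hc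
    have hψF0 : MvPowerSeries.constantCoeff (ψ F) = 0 := by
      have := aut_mem_pow ψ 1 F (by rw [pow_one]; exact (mem_maximalIdeal_iff F).mpr hF0)
      rw [pow_one] at this
      exact (mem_maximalIdeal_iff _).mp this
    obtain ⟨e0⟩ := nonempty_equiv_of_aut ψ F (ψ F) 1 isUnit_one (one_mul _).symm
    rcases classify_of_py h2 (ψ F) hψF0 j hj hc with h | h
    · obtain ⟨n, hn⟩ := h
      obtain ⟨e⟩ := hn
      exact Or.inl ⟨n, ⟨e0.trans e⟩⟩
    · obtain ⟨e⟩ := h
      exact Or.inr ⟨e0.trans e⟩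
  by_cases h1 : a₁ ≠ 0 ∨ b₂ ≠ 0
  · obtain ⟨g, hg⟩ := exists_form (AlgEquiv.refl) 0 PowerSeries.X
      (by rw [AlgEquiv.coe_refl, id, py_X0]) (by rw [AlgEquiv.coe_refl, id, py_X1])
      a₀ a₁ b₀ b₁ b₂ R F hR hF
    have hform : py k ((AlgEquiv.refl : MvPowerSeries (Fin 2) k ≃ₐ[k] MvPowerSeries (Fin 2) k) F) =
        PowerSeries.C a₁ * PowerSeries.X + PowerSeries.C b₂ * PowerSeries.X ^ 2
          + PowerSeries.X ^ 3 * g := by
      rw [hg]; ring
    rcases h1 with h | h
    · exact key AlgEquiv.refl 1 (by norm_num) (by rw [hform, coeff_one_aux]; exact h)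
    · exact key AlgEquiv.refl 2 (by norm_num) (by rw [hform, coeff_two_aux]; exact h)
  · push Not at h1
    obtain ⟨ha₁, hb₂⟩ := h1
    by_cases h1' : a₀ ≠ 0 ∨ b₀ ≠ 0
    · obtain ⟨g, hg⟩ := exists_form (autSwap (k := k)) PowerSeries.X 0
        (by rw [autSwap_X0, py_X1]) (by rw [autSwap_X1, py_X0])
        a₀ a₁ b₀ b₁ b₂ R F hR hF
      have hform : py k (autSwap F) =
          PowerSeries.C a₀ * PowerSeries.X + PowerSeries.C b₀ * PowerSeries.X ^ 2
            + PowerSeries.X ^ 3 * g := by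
        rw [hg]; ring
      rcases h1' with h | h
      · exact key autSwap 1 (by norm_num) (by rw [hform, coeff_one_aux]; exact h)
      · exact key autSwap 2 (by norm_num) (by rw [hform, coeff_two_aux]; exact h)
    · push Not at h1'
      obtain ⟨ha₀, hb₀⟩ := h1'
      have hb₁ : b₁ ≠ 0 := by
        intro hb₁
        apply hF3
        rw [hF, ha₀, ha₁, hb₀, hb₁, hb₂]
        simp only [map_zero, zero_mul, zero_add]
        exact hR
      obtain ⟨g, hg⟩ := exists_form (autShear (k := k)) PowerSeries.X PowerSeries.X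
        (by rw [autShear_X0, map_add, py_X0, py_X1, zero_add]) (by rw [autShear_X1, py_X1])
        a₀ a₁ b₀ b₁ b₂ R F hR hF
      have hform : py k (autShear F) =
          PowerSeries.C 0 * PowerSeries.X + PowerSeries.C b₁ * PowerSeries.X ^ 2
            + PowerSeries.X ^ 3 * g := by
        rw [hg, ha₀, ha₁, hb₀, hb₂]
        simp only [map_zero]
        ring
      exact key autShear 2 (by norm_num) (by rw [hform, coeff_two_aux]; exact hb₁)

end classify

end Groth.Agent.Lib.DblPt97
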