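import Groth.Agent.Lib.FlatCrit
import Groth.Agent.Lib.RelCartier
import Mathlib.LinearAlgebra.TensorProduct.Quotient
import Mathlib.RingTheory.Flat.Stability
import Mathlib.Algebra.Homology.HomologicalComplex
import Mathlib.Algebra.Category.ModuleCat.Basic

/-!
# Flatness and exactness over a nilpotent ideal (helper19)

`J` a nilpotent ideal of `A`.
* `injective_and_flat_coker`: `u : M → N`, `N` flat, `u ⊗ A/J` injective with `A/J`-flat cokernel
  ⟹ `u` injective with `A`-flat cokernel.
* `exact_and_flat_of_reduction`: a cochain complex `L` of flat `A`-modules whose reduction mod `J`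
  is exact in negative degrees with `A/J`-flat cokernel in degree `0` is exact in negative degrees
  with `A`-flat cokernel in degree `0` (critère de platitude for complexes).
-/

set_option autoImplicit false

universe u

open TensorProduct Function CategoryTheory

namespace Groth.Agent.Lib.FlatNilp

open Groth.Agent.Lib.FlatCrit Groth.Agent.Lib.RelCartier

section basic

variable {A : Type u} [CommRing A] (J : Ideal A)

theorem exists_one_tmul {M : Type*} [AddCommGroup M] [Module A M] (ξ : (A ⧸ J) ⊗[A] M) :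
    ∃ x : M, ξ = (1 : A ⧸ J) ⊗ₜ[A] x := by
  obtain ⟨x, hx⟩ := Submodule.Quotient.mk_surjective _ (quotTensorEquivQuotSMul M J ξ)
  refine ⟨x, ?_⟩
  apply (quotTensorEquivQuotSMul M J).injective
  rw [quotTensorEquivQuotSMul_mk_one_tmul, hx]

theorem one_tmul_eq_zero_iff {M : Type*} [AddCommGroup M] [Module A M] (x : M) :
    (1 : A ⧸ J) ⊗ₜ[A] x = 0 ↔ x ∈ J • (⊤ : Submodule A M) := by
  rw [← (quotTensorEquivQuotSMul M J).map_eq_zero_iff, quotTensorEquivQuotSMul_mk_one_tmul,
    Submodule.Quotient.mk_eq_zero]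

theorem eq_bot_of_smul_top_eq_top (hJ : IsNilpotent J) {M : Type*} [AddCommGroup M] [Module A M]
    (h : J • (⊤ : Submodule A M) = ⊤) : (⊤ : Submodule A M) = ⊥ := by
  obtain ⟨n, hn⟩ := hJ
  have key : ∀ k : ℕ, J ^ k • (⊤ : Submodule A M) = ⊤ := by
    intro k
    induction k with
    | zero => rw [pow_zero, Ideal.one_eq_top, Submodule.top_smul]
    | succ k ih => rw [pow_succ, Submodule.mul_smul, h, ih]
  rw [← key n, hn, Ideal.zero_eq_bot, Submodule.bot_smul]

end basic

section coker

variable {A : Type u} [CommRing A] (J : Ideal A)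
  {M N : Type u} [AddCommGroup M] [Module A M] [AddCommGroup N] [Module A N]
  (u : M →ₗ[A] N)

theorem injective_lTensor_rangeRestrict (h1 : Injective (u.lTensor (A ⧸ J))) :
    Injective (u.rangeRestrict.lTensor (A ⧸ J)) := by
  intro x y hxy
  apply h1
  have hc : u.lTensor (A ⧸ J) =
      (LinearMap.range u).subtype.lTensor (A ⧸ J) ∘ₗ u.rangeRestrict.lTensor (A ⧸ J) := by
    rw [← LinearMap.lTensor_comp]
    rfl
  rw [hc, LinearMap.comp_apply, LinearMap.comp_apply, hxy]

theorem injective_lTensor_subtype_range (h1 : Injective (u.lTensor (A ⧸ J))) :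
    Injective ((LinearMap.range u).subtype.lTensor (A ⧸ J)) := by
  have hs : Surjective (u.rangeRestrict.lTensor (A ⧸ J)) :=
    LinearMap.lTensor_surjective _ (LinearMap.surjective_rangeRestrict u)
  have hc : u.lTensor (A ⧸ J) =
      (LinearMap.range u).subtype.lTensor (A ⧸ J) ∘ₗ u.rangeRestrict.lTensor (A ⧸ J) := by
    rw [← LinearMap.lTensor_comp]
    rfl
  intro x y hxy
  obtain ⟨x', rfl⟩ := hs x
  obtain ⟨y', rfl⟩ := hs y
  have h2 : u.lTensor (A ⧸ J) x' = u.lTensor (A ⧸ J) y' := by
    rw [hc, LinearMap.comp_apply, LinearMap.comp_apply, hxy]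
  rw [h1 h2]

theorem tor1Zero_coker [Module.Flat A N] (h1 : Injective (u.lTensor (A ⧸ J))) :
    Tor1Zero A (A ⧸ J) (N ⧸ LinearMap.range u) := by
  rw [tor1Zero_iff_lTensor_injective (i := (LinearMap.range u).subtype)
    (p := (LinearMap.range u).mkQ) (Submodule.subtype_injective _)
    (LinearMap.exact_subtype_mkQ _) (Submodule.mkQ_surjective _)]
  exact injective_lTensor_subtype_range J u h1

/-- the cokernel is flat -/
theorem flat_coker [Module.Flat A N] (hJ : IsNilpotent J)
    (h1 : Injective (u.lTensor (A ⧸ J)))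
    [Module.Flat (A ⧸ J) ((A ⧸ J) ⊗[A] (N ⧸ LinearMap.range u))] :
    Module.Flat A (N ⧸ LinearMap.range u) :=
  flat_of_isNilpotent J hJ ((tor1Zero_quotient_iff J).mp (tor1Zero_coker J u h1))

/-- the map is injective -/
theorem injective_of_flat_coker [Module.Flat A N] (hJ : IsNilpotent J)
    (h1 : Injective (u.lTensor (A ⧸ J)))
    [Module.Flat (A ⧸ J) ((A ⧸ J) ⊗[A] (N ⧸ LinearMap.range u))] : Injective u := by
  have hQ : Module.Flat A (N ⧸ LinearMap.range u) := flat_coker J u hJ h1
  have hI : Module.Flat A (LinearMap.range u) :=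
    flat_of_exact_mid_right (LinearMap.range u).subtype (LinearMap.range u).mkQ
      (Submodule.subtype_injective _) (Submodule.mkQ_surjective _)
      (LinearMap.exact_subtype_mkQ _)
  -- the kernel of `u`
  have hex : Exact (LinearMap.ker u).subtype u.rangeRestrict := by
    intro m
    constructor
    · intro hm
      refine ⟨⟨m, ?_⟩, rfl⟩
      rw [LinearMap.mem_ker]
      exact congrArg Subtype.val hm
    · rintro ⟨z, rfl⟩
      apply Subtype.ext
      exact z.2
  have hinj : Injective ((LinearMap.ker u).subtype.rTensor (A ⧸ J)) :=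
    rTensor_injective_of_tor1Zero (Submodule.subtype_injective _) hex
      (LinearMap.surjective_rangeRestrict u) tor1Zero_of_flat_left
  have hinj' : Injective ((LinearMap.ker u).subtype.lTensor (A ⧸ J)) :=
    (LinearMap.lTensor_inj_iff_rTensor_inj _ _).mpr hinj
  have hzero : ∀ ξ : (A ⧸ J) ⊗[A] (LinearMap.ker u), ξ = 0 := by
    intro ξ
    apply hinj'
    rw [map_zero]
    apply injective_lTensor_rangeRestrict J u h1
    rw [map_zero, ← LinearMap.comp_apply, ← LinearMap.lTensor_comp]
    have : u.rangeRestrict ∘ₗ (LinearMap.ker u).subtype = 0 := by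
      apply LinearMap.ext
      intro z
      apply Subtype.ext
      exact z.2
    rw [this, LinearMap.lTensor_zero, LinearMap.zero_apply]
  have htop : J • (⊤ : Submodule A (LinearMap.ker u)) = ⊤ := by
    rw [eq_top_iff]
    intro z _
    rw [← one_tmul_eq_zero_iff]
    exact hzero _
  have hbot := eq_bot_of_smul_top_eq_top J hJ htop
  rw [← LinearMap.ker_eq_bot]
  rw [eq_bot_iff]
  intro z hz
  have h3 : (⟨z, hz⟩ : LinearMap.ker u) ∈ (⊤ : Submodule A (LinearMap.ker u)) := trivial
  rw [hbot, Submodule.mem_bot] at h3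
  rw [Submodule.mem_bot]
  exact congrArg Subtype.val h3

end coker

section complex

variable {A : Type u} [CommRing A] (J : Ideal A) (L : CochainComplex (ModuleCat.{u} A) ℤ)

theorem d_d_apply (i j k : ℤ) (x : L.X i) : L.d j k (L.d i j x) = 0 := by
  have h2 := ConcreteCategory.congr_hom (L.d_comp_d i j k) x
  rw [ConcreteCategory.comp_apply] at h2
  exact h2

/-- the map `L^j / im(d^{i,j}) → L^k` induced by the differential -/
noncomputable def uMap (i j k : ℤ) : (L.X j ⧸ LinearMap.range (L.d i j).hom) →ₗ[A] L.X k :=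
  (LinearMap.range (L.d i j).hom).liftQ (L.d j k).hom (by
    rintro _ ⟨x, rfl⟩
    rw [LinearMap.mem_ker]
    exact d_d_apply L i j k x)

theorem uMap_comp_mkQ (i j k : ℤ) :
    uMap L i j k ∘ₗ (LinearMap.range (L.d i j).hom).mkQ = (L.d j k).hom :=
  Submodule.liftQ_mkQ _ _ _

theorem range_uMap (i j k : ℤ) :
    LinearMap.range (uMap L i j k) = LinearMap.range (L.d j k).hom :=
  Submodule.range_liftQ _ _ _

theorem injective_lTensor_uMap (i j k : ℤ)
    (hex : Function.Exact ((L.d i j).hom.lTensor (A ⧸ J)) ((L.d j k).hom.lTensor (A ⧸ J))) :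
    Injective ((uMap L i j k).lTensor (A ⧸ J)) := by
  rw [injective_iff_map_eq_zero]
  intro ξ hξ
  obtain ⟨x, rfl⟩ := LinearMap.lTensor_surjective (A ⧸ J)
    (Submodule.mkQ_surjective (LinearMap.range (L.d i j).hom)) ξ
  have h2 : (L.d j k).hom.lTensor (A ⧸ J) x = 0 := by
    rw [← uMap_comp_mkQ L i j k, LinearMap.lTensor_comp, LinearMap.comp_apply]
    exact hξ
  obtain ⟨y, rfl⟩ := (hex x).mp h2
  rw [← LinearMap.comp_apply, ← LinearMap.lTensor_comp]
  have h3 : (LinearMap.range (L.d i j).hom).mkQ ∘ₗ (L.d i j).hom = 0 := by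
    apply LinearMap.ext
    intro z
    rw [LinearMap.comp_apply, Submodule.mkQ_apply, LinearMap.zero_apply,
      Submodule.Quotient.mk_eq_zero]
    exact ⟨z, rfl⟩
  rw [h3, LinearMap.lTensor_zero, LinearMap.zero_apply]

theorem exact_uMap_mkQ (i j k : ℤ) :
    Function.Exact (uMap L i j k) (LinearMap.range (L.d j k).hom).mkQ := by
  rw [LinearMap.exact_iff, Submodule.ker_mkQ, range_uMap]

variable (hflat : ∀ i, Module.Flat A (L.X i))
  (hex : ∀ i j k : ℤ, i + 1 = j → j + 1 = k → j < 0 →
    Function.Exact ((L.d i j).hom.lTensor (A ⧸ J)) ((L.d j k).hom.lTensor (A ⧸ J)))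
  (hcoker : Module.Flat (A ⧸ J) ((A ⧸ J) ⊗[A] (L.X 0 ⧸ LinearMap.range (L.d (-1) 0).hom)))

include hflat hex hcoker in
theorem flat_reduction_coker : ∀ (n : ℕ) (i j : ℤ), i + 1 = j → j = -(n : ℤ) →
    Module.Flat (A ⧸ J) ((A ⧸ J) ⊗[A] (L.X j ⧸ LinearMap.range (L.d i j).hom))
  | 0, i, j, hij, hj => by
    have hj0 : j = 0 := by simpa using hj
    subst hj0
    have hi : i = -1 := by omega
    subst hi
    exact hcoker
  | n + 1, i, j, hij, hj => by
    have ih := flat_reduction_coker n j (j + 1) rfl (by push_cast at hj ⊢; omega)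
    have hjneg : j < 0 := by push_cast at hj; omega
    have hinj := injective_lTensor_uMap J L i j (j + 1) (hex i j (j + 1) hij rfl hjneg)
    have hF : Module.Flat A (L.X (j + 1)) := hflat (j + 1)
    have hexact : Function.Exact ((uMap L i j (j + 1)).lTensor (A ⧸ J))
        ((LinearMap.range (L.d j (j + 1)).hom).mkQ.lTensor (A ⧸ J)) :=
      lTensor_exact (A ⧸ J) (exact_uMap_mkQ L i j (j + 1)) (Submodule.mkQ_surjective _)
    have hsurj : Surjective ((LinearMap.range (L.d j (j + 1)).hom).mkQ.lTensor (A ⧸ J)) :=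
      LinearMap.lTensor_surjective _ (Submodule.mkQ_surjective _)
    exact flat_of_exact_mid_right ((uMap L i j (j + 1)).baseChange (A ⧸ J))
      ((LinearMap.range (L.d j (j + 1)).hom).mkQ.baseChange (A ⧸ J)) hinj hsurj hexact

include hflat hex hcoker in
/-- **Critère de platitude for complexes**, nilpotent case. -/
theorem exact_and_flat_of_reduction (hJ : IsNilpotent J) :
    (∀ i j k : ℤ, i + 1 = j → j + 1 = k → j < 0 →
      Function.Exact (L.d i j).hom (L.d j k).hom) ∧
      Module.Flat A (L.X 0 ⧸ LinearMap.range (L.d (-1) 0).hom) := by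
  have key : ∀ i j k : ℤ, i + 1 = j → j + 1 = k → j < 0 →
      Injective (uMap L i j k) ∧ Module.Flat A (L.X k ⧸ LinearMap.range (L.d j k).hom) := by
    intro i j k hij hjk hj
    obtain ⟨n, hn⟩ : ∃ n : ℕ, k = -(n : ℤ) := ⟨(-k).toNat, by omega⟩
    have hA := flat_reduction_coker J L hflat hex hcoker n j k hjk hn
    have hN : Module.Flat A (L.X k) := hflat k
    have h1 := injective_lTensor_uMap J L i j k (hex i j k hij hjk hj)
    have hA' : Module.Flat (A ⧸ J) ((A ⧸ J) ⊗[A] (L.X k ⧸ LinearMap.range (uMap L i j k))) := by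
      rw [range_uMap]
      exact hA
    refine ⟨injective_of_flat_coker J (uMap L i j k) hJ h1, ?_⟩
    have h2 := flat_coker J (uMap L i j k) hJ h1
    rwa [range_uMap] at h2
  refine ⟨?_, ?_⟩
  · intro i j k hij hjk hj
    obtain ⟨hinj, -⟩ := key i j k hij hjk hj
    intro x
    constructor
    · intro hx
      have h3 : uMap L i j k (Submodule.Quotient.mk x) = 0 := hx
      have h0 := hinj (h3.trans (map_zero _).symm)
      rw [Submodule.Quotient.mk_eq_zero] at h0
      exact h0
    · rintro ⟨y, rfl⟩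
      exact d_d_apply L i j k y
  · exact (key (-2) (-1) 0 (by norm_num) (by norm_num) (by norm_num)).2

end complex

end Groth.Agent.Lib.FlatNilp
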