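import Groth.Agent.Lib.KoszulReduce
import Groth.Prelude.Def_LCI2

/-!
# Lifting Koszul-regular sequences along nilpotent thickenings, II (helper19)

* `isKoszulRegularSeq_lift_of_nilpotent`: `LCI.IsKoszulRegularSeq` version of
  `KoszulReduce.koszul_lift_of_nilpotent`;
* `le_of_le_sup_smul`: Nakayama for a nilpotent ideal (no finiteness);
* `mem_mul_of_flat_quotient`: `R/J'` flat over `A` ⟹ `J' ∩ IR ⊆ (IR) J'`;
* `eq_of_flat_quotient_of_nilpotent`: `R/J'` flat over `A`, `I ⊆ A` nilpotent, `𝔞 ⊆ J'` with the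
  same image modulo `IR` ⟹ `𝔞 = J'`.
-/

set_option autoImplicit false

universe u

open TensorProduct Function CategoryTheory CategoryTheory.Limits

namespace Groth.Agent.Lib.KoszulReduce

open Groth.Agent.Lib.FlatNilp Groth.Agent.Lib.FlatCrit Groth.Agent.Lib.KoszulCone
  Groth.Agent.Lib.KoszulMinLen

section lci

variable (A B : Type u) [CommRing A] [CommRing B] [Algebra A B] (J : Ideal A) (rs : List B)

/-- `LCI.IsKoszulRegularSeq` version of `koszul_lift_of_nilpotent`. -/
theorem isKoszulRegularSeq_lift_of_nilpotent [Module.Flat A B] (hJ : IsNilpotent J)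
    (hreg : LCI.IsKoszulRegularSeq (B ⧸ Ideal.map (algebraMap A B) J)
      (rs.map (Ideal.Quotient.mk (Ideal.map (algebraMap A B) J))))
    (hflat : Module.Flat (A ⧸ J) ((B ⧸ Ideal.map (algebraMap A B) J) ⧸
      Ideal.ofList (rs.map (Ideal.Quotient.mk (Ideal.map (algebraMap A B) J))))) :
    LCI.IsKoszulRegularSeq B rs ∧ Module.Flat A (B ⧸ Ideal.ofList rs) := by
  obtain ⟨h1, h2⟩ := koszul_lift_of_nilpotent A B J rs hJ
    (fun j hj => (hreg j (ne_of_lt hj)).of_iso
      ((HomologicalComplex.homologyFunctor _ _ j).mapIso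
        (CategoryTheory.eqToIso (kcx_eq_koszul _)))) hflat
  refine ⟨fun i hi => ?_, h2⟩
  rcases lt_or_gt_of_ne hi with hneg | hpos
  · exact (h1 i hneg).of_iso ((HomologicalComplex.homologyFunctor _ _ i).mapIso
      (CategoryTheory.eqToIso (kcx_eq_koszul rs).symm))
  · have hs := subsingleton_homology_pos (ModuleCat.of B B) rs i hpos
    have hz : IsZero ((kcx (ModuleCat.of B B) rs).homology i) :=
      ModuleCat.isZero_of_subsingleton _
    exact hz.of_iso ((HomologicalComplex.homologyFunctor _ _ i).mapIso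
      (CategoryTheory.eqToIso (kcx_eq_koszul rs).symm))

end lci

section nak

/-- Nakayama for a nilpotent ideal -/
theorem le_of_le_sup_smul {R M : Type*} [CommRing R] [AddCommGroup M] [Module R M] (I : Ideal R)
    (hI : IsNilpotent I) {N N' : Submodule R M} (h : N ≤ N' ⊔ I • N) : N ≤ N' := by
  have key : ∀ k : ℕ, N ≤ N' ⊔ I ^ k • N := by
    intro k
    induction k with
    | zero => rw [pow_zero, Ideal.one_eq_top, Submodule.top_smul]; exact le_sup_right
    | succ k ih =>
      refine h.trans (sup_le le_sup_left ?_)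
      refine (Submodule.smul_mono le_rfl ih).trans ?_
      rw [Submodule.smul_sup]
      refine sup_le (Submodule.smul_le_right.trans le_sup_left) ?_
      rw [← Submodule.mul_smul, ← pow_succ']
      exact le_sup_right
  obtain ⟨n, hn⟩ := hI
  have := key n
  rwa [hn, Ideal.zero_eq_bot, Submodule.bot_smul, sup_bot_eq] at this

variable (A R : Type u) [CommRing A] [CommRing R] [Algebra A R] (I : Ideal A)

/-- if `R/J'` is flat over `A` then `J' ∩ IR ⊆ (IR) J'` -/
theorem mem_mul_of_flat_quotient (J' : Ideal R) [Module.Flat A (R ⧸ J')] (y : R) (hy : y ∈ J')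
    (hyI : y ∈ I.map (algebraMap A R)) : y ∈ I.map (algebraMap A R) * J' := by
  have hex : Function.Exact (J'.restrictScalars A).subtype (Ideal.Quotient.mkₐ A J').toLinearMap := by
    intro x
    constructor
    · intro hx
      exact ⟨⟨x, Ideal.Quotient.eq_zero_iff_mem.mp hx⟩, rfl⟩
    · rintro ⟨z, rfl⟩
      exact Ideal.Quotient.eq_zero_iff_mem.mpr z.2
  have hinj : Injective ((J'.restrictScalars A).subtype.rTensor (A ⧸ I)) :=
    rTensor_injective_of_tor1Zero (Submodule.subtype_injective _) hex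
      Ideal.Quotient.mk_surjective tor1Zero_of_flat_left
  have hinj' : Injective ((J'.restrictScalars A).subtype.lTensor (A ⧸ I)) :=
    (LinearMap.lTensor_inj_iff_rTensor_inj _ _).mpr hinj
  have h0 : (1 : A ⧸ I) ⊗ₜ[A] (⟨y, hy⟩ : J'.restrictScalars A) = 0 := by
    apply hinj'
    rw [map_zero, LinearMap.lTensor_tmul, one_tmul_eq_zero_iff, Ideal.smul_top_eq_map]
    exact hyI
  rw [one_tmul_eq_zero_iff] at h0
  have key : ∀ z : J'.restrictScalars A, z ∈ I • (⊤ : Submodule A (J'.restrictScalars A)) →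
      (z : R) ∈ I.map (algebraMap A R) * J' := by
    intro z hz
    refine Submodule.smul_induction_on hz ?_ ?_
    · intro a ha m _
      show a • (m : R) ∈ _
      rw [Algebra.smul_def]
      exact Ideal.mul_mem_mul (Ideal.mem_map_of_mem _ ha) m.2
    · intro z1 z2 h1 h2
      exact Ideal.add_mem _ h1 h2
  exact key _ h0

/-- a flat quotient is determined by its reduction modulo a nilpotent ideal -/
theorem eq_of_flat_quotient_of_nilpotent (hI : IsNilpotent I) (J' 𝔞 : Ideal R)
    [Module.Flat A (R ⧸ J')] (h𝔞 : 𝔞 ≤ J')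
    (himg : J'.map (Ideal.Quotient.mk (I.map (algebraMap A R))) ≤
      𝔞.map (Ideal.Quotient.mk (I.map (algebraMap A R)))) : J' = 𝔞 := by
  refine le_antisymm ?_ h𝔞
  have hnil : IsNilpotent (I.map (algebraMap A R)) := by
    obtain ⟨n, hn⟩ := hI
    exact ⟨n, by rw [← Ideal.map_pow, hn, Ideal.zero_eq_bot, Ideal.map_bot]; rfl⟩
  refine le_of_le_sup_smul (I.map (algebraMap A R)) hnil ?_
  intro x hx
  have h1 : Ideal.Quotient.mk (I.map (algebraMap A R)) x ∈
      𝔞.map (Ideal.Quotient.mk (I.map (algebraMap A R))) := himg (Ideal.mem_map_of_mem _ hx)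
  rw [Ideal.mem_map_iff_of_surjective _ Ideal.Quotient.mk_surjective] at h1
  obtain ⟨a, ha, hax⟩ := h1
  have h2 : x - a ∈ I.map (algebraMap A R) := by
    rw [← Ideal.Quotient.eq, hax]
  have h3 : x - a ∈ J' := Ideal.sub_mem _ hx (h𝔞 ha)
  have h4 := mem_mul_of_flat_quotient A R I J' (x - a) h3 h2
  rw [Submodule.mem_sup]
  exact ⟨a, ha, x - a, h4, by ring⟩

end nak

end Groth.Agent.Lib.KoszulReduce
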