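import Mathlib
import Groth.Agent.Lib.ArtinianFlat
import Groth.Agent.Lib.FlatNilp
import Groth.Agent.Lib.KoszulReduce2

/-!
# Flat algebras over local rings with nilpotent maximal ideal are free; gluing over fibre products

* `comb φ e c = ∑ φ (c i) * e i` and `comb_bijective`: for ring data `(R, φ : A → R flat, π : R → B₀)` of a deformation of `B₀`
  over a local ring `A` with nilpotent maximal ideal and residue field `k`, every lift `e` of a `k`-basis of `B₀` is an
  `A`-basis of `R`;
* `flat_of_comb_bijective`: conversely a ring with such a basis is flat.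
-/

set_option autoImplicit false
set_option linter.unusedVariables false
set_option linter.unusedSectionVars false

universe u

open TensorProduct Function IsLocalRing

namespace Groth.Agent.Lib.DefGlue

section Comb

variable {A R : Type*} [CommRing A] [CommRing R] (φ : A →+* R) {ι : Type*} (e : ι → R)

/-- the linear combination `∑ φ (c i) * e i`. -/
noncomputable def comb (c : ι →₀ A) : R := c.sum fun i a => φ a * e i

theorem comb_eq_linearCombination (c : ι →₀ A) :
    comb φ e c = @Finsupp.linearCombination ι R A _ _ φ.toAlgebra.toModule e c := by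
  let _ : Algebra A R := φ.toAlgebra
  rw [Finsupp.linearCombination_apply]
  rfl

theorem comb_add (c d : ι →₀ A) : comb φ e (c + d) = comb φ e c + comb φ e d := by
  rw [comb_eq_linearCombination, comb_eq_linearCombination, comb_eq_linearCombination, map_add]

theorem comb_zero : comb φ e (0 : ι →₀ A) = 0 := by
  rw [comb_eq_linearCombination, map_zero]

theorem comb_sub (c d : ι →₀ A) : comb φ e (c - d) = comb φ e c - comb φ e d := by
  rw [comb_eq_linearCombination, comb_eq_linearCombination, comb_eq_linearCombination, map_sub]

theorem comb_single (i : ι) (a : A) : comb φ e (Finsupp.single i a) = φ a * e i := by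
  unfold comb
  rw [Finsupp.sum_single_index]
  rw [map_zero, zero_mul]

/-- applying a ring map to a combination. -/
theorem map_comb {S : Type*} [CommRing S] (ψ : R →+* S) (c : ι →₀ A) :
    ψ (comb φ e c) = comb (ψ.comp φ) (fun i => ψ (e i)) c := by
  unfold comb
  rw [Finsupp.sum, map_sum]
  exact Finset.sum_congr rfl fun i _ => map_mul ψ _ _

/-- reindexing the coefficients along a ring map. -/
theorem comb_mapRange {A' : Type*} [CommRing A'] (f : A' →+* A) (c : ι →₀ A') :
    comb φ e (Finsupp.mapRange f (map_zero f) c) = comb (φ.comp f) e c := by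
  unfold comb
  rw [Finsupp.sum_mapRange_index]
  · rfl
  · intro i
    rw [map_zero, zero_mul]

end Comb

section Basis

variable {k : Type u} [Field k] {B₀ : Type u} [CommRing B₀] [Algebra k B₀]
variable {A : Type u} [CommRing A] [IsLocalRing A] (res : A →+* k) (hrs : Surjective res)
  (hres : RingHom.ker res = maximalIdeal A) (hnil : IsNilpotent (maximalIdeal A))
variable {R : Type u} [CommRing R] (φ : A →+* R) (hflat : φ.Flat) (π : R →+* B₀)
  (hcomm : ∀ a, π (φ a) = algebraMap k B₀ (res a)) (hπ : Surjective π)
  (hker : RingHom.ker π = (maximalIdeal A).map φ)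
variable {ι : Type u} (β : Module.Basis ι k B₀) (e : ι → R) (he : ∀ i, π (e i) = β i)

include hcomm he in
theorem π_comb (c : ι →₀ A) :
    π (comb φ e c) = β.repr.symm (Finsupp.mapRange res (map_zero res) c) := by
  rw [Module.Basis.repr_symm_apply, Finsupp.linearCombination_apply,
    Finsupp.sum_mapRange_index (h := fun i a => a • β i) (fun i => zero_smul k (β i))]
  unfold comb
  rw [Finsupp.sum, map_sum]
  refine Finset.sum_congr rfl fun i _ => ?_
  rw [map_mul, hcomm, he]
  exact (Algebra.smul_def _ _).symm

include hrs hres hnil hcomm hπ hker he in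
theorem comb_surjective : Surjective (comb φ e) := by
  classical
  let _ : Algebra A R := φ.toAlgebra
  let N : Submodule A R := LinearMap.range (Finsupp.linearCombination A e)
  have hN : ∀ c, comb φ e c ∈ N := fun c => by
    rw [comb_eq_linearCombination]
    exact LinearMap.mem_range_self _ c
  -- a set-theoretic section of `res` preserving zero
  let s : k → A := fun x => if x = 0 then 0 else Function.surjInv hrs x
  have hs0 : s 0 = 0 := if_pos rfl
  have hs : ∀ x, res (s x) = x := by
    intro x
    by_cases hx : x = 0
    · rw [hx, hs0, map_zero]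
    · change res (if x = 0 then 0 else Function.surjInv hrs x) = x
      rw [if_neg hx, Function.surjInv_eq hrs]
  have h1 : (⊤ : Submodule A R) ≤ N ⊔ maximalIdeal A • (⊤ : Submodule A R) := by
    intro r _
    let c : ι →₀ A := Finsupp.mapRange s hs0 (β.repr (π r))
    have hc : π (comb φ e c) = π r := by
      rw [π_comb res φ π hcomm β e he]
      have : Finsupp.mapRange res (map_zero res) c = β.repr (π r) := by
        ext i
        rw [Finsupp.mapRange_apply, Finsupp.mapRange_apply, hs]
      rw [this, LinearEquiv.symm_apply_apply]
    have h2 : r - comb φ e c ∈ RingHom.ker π := by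
      rw [RingHom.mem_ker, map_sub, hc, sub_self]
    rw [hker] at h2
    have h3 : r - comb φ e c ∈ maximalIdeal A • (⊤ : Submodule A R) := by
      rw [Ideal.smul_top_eq_map]
      exact h2
    have h4 : r = comb φ e c + (r - comb φ e c) := by ring
    rw [h4]
    exact Submodule.add_mem_sup (hN c) h3
  have h5 := Groth.Agent.Lib.KoszulReduce.le_of_le_sup_smul (maximalIdeal A) hnil h1
  intro r
  obtain ⟨c, hc⟩ := h5 (Submodule.mem_top (x := r))
  exact ⟨c, (comb_eq_linearCombination φ e c).trans hc⟩

include hres hnil hflat hcomm hker he in
theorem comb_injective : Injective (comb φ e) := by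
  classical
  let _ : Algebra A R := φ.toAlgebra
  have hfl : Module.Flat A R := hflat
  have hi : Injective ((Finsupp.linearCombination A e).lTensor (A ⧸ maximalIdeal A)) := by
    rw [injective_iff_map_eq_zero]
    intro ξ hξ
    obtain ⟨c, rfl⟩ := Groth.Agent.Lib.FlatNilp.exists_one_tmul (maximalIdeal A) ξ
    rw [LinearMap.lTensor_tmul, Groth.Agent.Lib.FlatNilp.one_tmul_eq_zero_iff,
      Ideal.smul_top_eq_map] at hξ
    rw [Groth.Agent.Lib.FlatNilp.one_tmul_eq_zero_iff]
    have h1 : Finsupp.linearCombination A e c ∈ RingHom.ker π := by
      rw [hker]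
      exact hξ
    rw [RingHom.mem_ker, ← comb_eq_linearCombination, π_comb res φ π hcomm β e he,
      LinearEquiv.map_eq_zero_iff] at h1
    have h2 : ∀ i, c i ∈ maximalIdeal A := by
      intro i
      rw [← hres, RingHom.mem_ker]
      have := DFunLike.congr_fun h1 i
      rwa [Finsupp.mapRange_apply] at this
    have h3 : c = c.sum fun i a => a • Finsupp.single i (1 : A) := by
      conv_lhs => rw [← Finsupp.sum_single c]
      refine Finsupp.sum_congr fun i _ => ?_
      rw [Finsupp.smul_single, smul_eq_mul, mul_one]
    rw [h3]
    refine Submodule.sum_mem _ fun i _ => ?_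
    exact Submodule.smul_mem_smul (h2 i) Submodule.mem_top
  have hinj : Injective (Finsupp.linearCombination A e) :=
    Groth.Agent.Lib.ArtinianFlat.injective_of_lTensor_injective hnil _ hi
  intro c d h
  apply hinj
  rw [← comb_eq_linearCombination, ← comb_eq_linearCombination]
  exact h

include hrs hres hnil hflat hcomm hπ hker he in
/-- a lift of a `k`-basis of the closed fibre is an `A`-basis. -/
theorem comb_bijective : Bijective (comb φ e) :=
  ⟨comb_injective res hres hnil φ hflat π hcomm hker β e he,
    comb_surjective res hrs hres hnil φ π hcomm hπ hker β e he⟩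

end Basis

section Free

variable {A R : Type u} [CommRing A] [CommRing R] (φ : A →+* R) {ι : Type u} (e : ι → R)

/-- a ring with a basis over `A` is flat over `A`. -/
theorem flat_of_comb_bijective (h : Bijective (comb φ e)) : φ.Flat := by
  let _ : Algebra A R := φ.toAlgebra
  change Module.Flat A R
  have h' : Bijective (Finsupp.linearCombination A e) := by
    have : (Finsupp.linearCombination A e : (ι →₀ A) → R) = comb φ e :=
      funext fun c => (comb_eq_linearCombination φ e c).symm
    rw [this]
    exact h
  exact Module.Flat.of_linearEquiv (LinearEquiv.ofBijective _ h').symm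

end Free

end Groth.Agent.Lib.DefGlue
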