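import Mathlib
import Groth.Agent.Lib.DefGlue1

/-!
# Gluing ring data of deformations over a fibre product of local rings with nilpotent maximal ideals

`Aug k A`: an augmentation of a local ring `A` with nilpotent maximal ideal onto the field `k`.
`DefRing B₀ a`: ring data of a deformation of the `k`-algebra `B₀` over `(A, a)`.
`DefRing.Hom`: morphisms over a ring map.
`glue`: for a fibre square `B = A₁ ×_A A₂` with `A₂ → A` surjective and ring data `d₁, d₂, d₀` with morphisms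
`d₁ → d₀ ← d₂`, the fibre product ring `R₁ ×_{R₀} R₂` is ring data over `B` mapping to `d₁`, `d₂`.
-/

set_option autoImplicit false
set_option linter.unusedVariables false
set_option linter.unusedSectionVars false

universe u

open Function IsLocalRing

namespace Groth.Agent.Lib.DefGlue

/-- an augmentation of a local ring with nilpotent maximal ideal onto `k`. -/
structure Aug (k : Type u) [Field k] (A : Type u) [CommRing A] [IsLocalRing A] where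
  /-- the augmentation -/
  res : A →+* k
  surj : Surjective res
  ker : RingHom.ker res = maximalIdeal A
  nil : IsNilpotent (maximalIdeal A)

/-- ring data of a deformation of `B₀` over the augmented ring `(A, a)`. -/
structure DefRing {k : Type u} [Field k] (B₀ : Type u) [CommRing B₀] [Algebra k B₀]
    {A : Type u} [CommRing A] [IsLocalRing A] (a : Aug k A) where
  /-- the total ring -/
  R : Type u
  [commRing : CommRing R]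
  /-- the structure map -/
  φ : A →+* R
  /-- the restriction to the closed fibre -/
  π : R →+* B₀
  flat : φ.Flat
  comm : ∀ x, π (φ x) = algebraMap k B₀ (a.res x)
  surj : Surjective π
  ker : RingHom.ker π = (maximalIdeal A).map φ

attribute [instance] DefRing.commRing

variable {k : Type u} [Field k] {B₀ : Type u} [CommRing B₀] [Algebra k B₀]

namespace DefRing

variable {A A' : Type u} [CommRing A] [IsLocalRing A] [CommRing A'] [IsLocalRing A']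
  {a : Aug k A} {a' : Aug k A'}

/-- a morphism of ring data over a ring map `f`. -/
structure Hom (d : DefRing B₀ a) (d' : DefRing B₀ a') (f : A →+* A') where
  /-- the ring map -/
  ψ : d.R →+* d'.R
  comp_φ : ∀ x, ψ (d.φ x) = d'.φ (f x)
  π_comp : ∀ r, d'.π (ψ r) = d.π r

/-- the chosen `k`-basis of `B₀`. -/
noncomputable abbrev bas (k B₀ : Type u) [Field k] [CommRing B₀] [Algebra k B₀] :
    Module.Basis (Module.Basis.ofVectorSpaceIndex k B₀) k B₀ := Module.Basis.ofVectorSpace k B₀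

/-- lifts of the basis vectors. -/
noncomputable def lifts (d : DefRing B₀ a) : Module.Basis.ofVectorSpaceIndex k B₀ → d.R :=
  fun i => Function.surjInv d.surj (bas k B₀ i)

theorem π_lifts (d : DefRing B₀ a) (i) : d.π (d.lifts i) = bas k B₀ i :=
  Function.surjInv_eq d.surj _

theorem comb_bij (d : DefRing B₀ a) (e : Module.Basis.ofVectorSpaceIndex k B₀ → d.R)
    (he : ∀ i, d.π (e i) = bas k B₀ i) : Bijective (comb d.φ e) :=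
  comb_bijective a.res a.surj a.ker a.nil d.φ d.flat d.π d.comm d.surj d.ker (bas k B₀) e he

/-- a morphism over a surjective ring map is surjective. -/
theorem Hom.surjective {d : DefRing B₀ a} {d' : DefRing B₀ a'} {f : A →+* A'} (h : Hom d d' f)
    (hf : Surjective f) : Surjective h.ψ := by
  classical
  intro r'
  have he : ∀ i, d'.π (h.ψ (d.lifts i)) = bas k B₀ i := fun i => by rw [h.π_comp, π_lifts]
  obtain ⟨c', rfl⟩ := (comb_bij d' _ he).2 r'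
  -- lift the coefficients
  let s : A' → A := fun x => if x = 0 then 0 else Function.surjInv hf x
  have hs0 : s 0 = 0 := if_pos rfl
  have hs : ∀ x, f (s x) = x := by
    intro x
    by_cases hx : x = 0
    · rw [hx, hs0, map_zero]
    · change f (if x = 0 then 0 else Function.surjInv hf x) = x
      rw [if_neg hx, Function.surjInv_eq hf]
  refine ⟨comb d.φ d.lifts (Finsupp.mapRange s hs0 c'), ?_⟩
  rw [map_comb]
  have h1 : h.ψ.comp d.φ = d'.φ.comp f := RingHom.ext h.comp_φ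
  rw [h1, ← comb_mapRange]
  congr 1
  ext i
  rw [Finsupp.mapRange_apply, Finsupp.mapRange_apply, hs]

end DefRing

section Glue

open DefRing

variable {B A₁ A₂ A : Type u} [CommRing B] [IsLocalRing B] [CommRing A₁] [IsLocalRing A₁]
  [CommRing A₂] [IsLocalRing A₂] [CommRing A] [IsLocalRing A]
  {aB : Aug k B} {a₁ : Aug k A₁} {a₂ : Aug k A₂} {a₀ : Aug k A}
  (p₁ : B →+* A₁) (p₂ : B →+* A₂) (f₁ : A₁ →+* A) (f₂ : A₂ →+* A)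
  (hw : ∀ b, f₁ (p₁ b) = f₂ (p₂ b))
  (hinj : ∀ b b', p₁ b = p₁ b' → p₂ b = p₂ b' → b = b')
  (hsurj : ∀ x₁ x₂, f₁ x₁ = f₂ x₂ → ∃ b, p₁ b = x₁ ∧ p₂ b = x₂)
  (hr₁ : ∀ b, a₁.res (p₁ b) = aB.res b) (hf₂ : Surjective f₂)
  (d₁ : DefRing B₀ a₁) (d₂ : DefRing B₀ a₂) (d₀ : DefRing B₀ a₀)
  (q₁ : Hom d₁ d₀ f₁) (q₂ : Hom d₂ d₀ f₂)

/-- the fibre product ring `R₁ ×_{R₀} R₂`. -/
abbrev glueRing : Subring (d₁.R × d₂.R) :=
  (q₁.ψ.comp (RingHom.fst d₁.R d₂.R)).eqLocus (q₂.ψ.comp (RingHom.snd d₁.R d₂.R))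

theorem mem_glueRing (r : d₁.R × d₂.R) : r ∈ glueRing f₁ f₂ d₁ d₂ d₀ q₁ q₂ ↔ q₁.ψ r.1 = q₂.ψ r.2 :=
  Iff.rfl

include hw in
/-- the structure map of the glued ring. -/
noncomputable def glueφ : B →+* glueRing f₁ f₂ d₁ d₂ d₀ q₁ q₂ :=
  RingHom.codRestrict ((d₁.φ.comp p₁).prod (d₂.φ.comp p₂)) _ (fun b => by
    rw [mem_glueRing]
    change q₁.ψ (d₁.φ (p₁ b)) = q₂.ψ (d₂.φ (p₂ b))
    rw [q₁.comp_φ, q₂.comp_φ, hw])

/-- first projection. -/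
def gluePr₁ : glueRing f₁ f₂ d₁ d₂ d₀ q₁ q₂ →+* d₁.R :=
  (RingHom.fst d₁.R d₂.R).comp (Subring.subtype _)

/-- second projection. -/
def gluePr₂ : glueRing f₁ f₂ d₁ d₂ d₀ q₁ q₂ →+* d₂.R :=
  (RingHom.snd d₁.R d₂.R).comp (Subring.subtype _)

theorem q_gluePr (r : glueRing f₁ f₂ d₁ d₂ d₀ q₁ q₂) :
    q₁.ψ (gluePr₁ f₁ f₂ d₁ d₂ d₀ q₁ q₂ r) = q₂.ψ (gluePr₂ f₁ f₂ d₁ d₂ d₀ q₁ q₂ r) := r.2

theorem glue_ext (r r' : glueRing f₁ f₂ d₁ d₂ d₀ q₁ q₂)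
    (h₁ : gluePr₁ f₁ f₂ d₁ d₂ d₀ q₁ q₂ r = gluePr₁ f₁ f₂ d₁ d₂ d₀ q₁ q₂ r')
    (h₂ : gluePr₂ f₁ f₂ d₁ d₂ d₀ q₁ q₂ r = gluePr₂ f₁ f₂ d₁ d₂ d₀ q₁ q₂ r') : r = r' :=
  Subtype.ext (Prod.ext h₁ h₂)

theorem gluePr₁_φ (b : B) : gluePr₁ f₁ f₂ d₁ d₂ d₀ q₁ q₂ (glueφ p₁ p₂ f₁ f₂ hw d₁ d₂ d₀ q₁ q₂ b) =
    d₁.φ (p₁ b) := rfl

theorem gluePr₂_φ (b : B) : gluePr₂ f₁ f₂ d₁ d₂ d₀ q₁ q₂ (glueφ p₁ p₂ f₁ f₂ hw d₁ d₂ d₀ q₁ q₂ b) =
    d₂.φ (p₂ b) := rfl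

/-- the restriction of the glued ring to the closed fibre. -/
def glueπ : glueRing f₁ f₂ d₁ d₂ d₀ q₁ q₂ →+* B₀ := d₁.π.comp (gluePr₁ f₁ f₂ d₁ d₂ d₀ q₁ q₂)

theorem glueπ_eq₂ (r : glueRing f₁ f₂ d₁ d₂ d₀ q₁ q₂) :
    glueπ f₁ f₂ d₁ d₂ d₀ q₁ q₂ r = d₂.π (gluePr₂ f₁ f₂ d₁ d₂ d₀ q₁ q₂ r) := by
  change d₁.π (gluePr₁ f₁ f₂ d₁ d₂ d₀ q₁ q₂ r) = _
  rw [← q₁.π_comp, q_gluePr, q₂.π_comp]

include hf₂ in
theorem gluePr₁_surjective : Surjective (gluePr₁ f₁ f₂ d₁ d₂ d₀ q₁ q₂) := by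
  intro r₁
  obtain ⟨r₂, hr₂⟩ := q₂.surjective hf₂ (q₁.ψ r₁)
  exact ⟨⟨(r₁, r₂), hr₂.symm⟩, rfl⟩

/-- lifts of the basis to `R₂` compatible with the chosen lifts to `R₁`. -/
noncomputable def liftY : Module.Basis.ofVectorSpaceIndex k B₀ → d₂.R :=
  fun i => Function.surjInv (q₂.surjective hf₂) (q₁.ψ (d₁.lifts i))

theorem q₂_liftY (i) : q₂.ψ (liftY f₁ f₂ hf₂ d₁ d₂ d₀ q₁ q₂ i) = q₁.ψ (d₁.lifts i) :=
  Function.surjInv_eq (q₂.surjective hf₂) _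

theorem π_liftY (i) : d₂.π (liftY f₁ f₂ hf₂ d₁ d₂ d₀ q₁ q₂ i) = bas k B₀ i := by
  rw [← q₂.π_comp, q₂_liftY, q₁.π_comp, π_lifts]

/-- the basis of the glued ring. -/
noncomputable def liftZ : Module.Basis.ofVectorSpaceIndex k B₀ → glueRing f₁ f₂ d₁ d₂ d₀ q₁ q₂ :=
  fun i => ⟨(d₁.lifts i, liftY f₁ f₂ hf₂ d₁ d₂ d₀ q₁ q₂ i), (q₂_liftY f₁ f₂ hf₂ d₁ d₂ d₀ q₁ q₂ i).symm⟩

theorem π_liftZ (i) : glueπ f₁ f₂ d₁ d₂ d₀ q₁ q₂ (liftZ f₁ f₂ hf₂ d₁ d₂ d₀ q₁ q₂ i) = bas k B₀ i :=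
  π_lifts d₁ i

theorem gluePr₁_comb (c : Module.Basis.ofVectorSpaceIndex k B₀ →₀ B) :
    gluePr₁ f₁ f₂ d₁ d₂ d₀ q₁ q₂ (comb (glueφ p₁ p₂ f₁ f₂ hw d₁ d₂ d₀ q₁ q₂)
      (liftZ f₁ f₂ hf₂ d₁ d₂ d₀ q₁ q₂) c) =
    comb d₁.φ d₁.lifts (Finsupp.mapRange p₁ (map_zero p₁) c) := by
  rw [map_comb, comb_mapRange]
  rfl

theorem gluePr₂_comb (c : Module.Basis.ofVectorSpaceIndex k B₀ →₀ B) :
    gluePr₂ f₁ f₂ d₁ d₂ d₀ q₁ q₂ (comb (glueφ p₁ p₂ f₁ f₂ hw d₁ d₂ d₀ q₁ q₂)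
      (liftZ f₁ f₂ hf₂ d₁ d₂ d₀ q₁ q₂) c) =
    comb d₂.φ (liftY f₁ f₂ hf₂ d₁ d₂ d₀ q₁ q₂) (Finsupp.mapRange p₂ (map_zero p₂) c) := by
  rw [map_comb, comb_mapRange]
  rfl

include hinj in
theorem glue_comb_injective : Injective (comb (glueφ p₁ p₂ f₁ f₂ hw d₁ d₂ d₀ q₁ q₂)
    (liftZ f₁ f₂ hf₂ d₁ d₂ d₀ q₁ q₂)) := by
  intro c c' h
  have h1 := congrArg (gluePr₁ f₁ f₂ d₁ d₂ d₀ q₁ q₂) h
  have h2 := congrArg (gluePr₂ f₁ f₂ d₁ d₂ d₀ q₁ q₂) h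
  rw [gluePr₁_comb, gluePr₁_comb] at h1
  rw [gluePr₂_comb, gluePr₂_comb] at h2
  have h1' := (comb_bij d₁ d₁.lifts (π_lifts d₁)).1 h1
  have h2' := (comb_bij d₂ _ (π_liftY f₁ f₂ hf₂ d₁ d₂ d₀ q₁ q₂)).1 h2
  ext i
  apply hinj
  · have := DFunLike.congr_fun h1' i
    rwa [Finsupp.mapRange_apply, Finsupp.mapRange_apply] at this
  · have := DFunLike.congr_fun h2' i
    rwa [Finsupp.mapRange_apply, Finsupp.mapRange_apply] at this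

include hinj hsurj in
theorem glue_comb_surjective : Surjective (comb (glueφ p₁ p₂ f₁ f₂ hw d₁ d₂ d₀ q₁ q₂)
    (liftZ f₁ f₂ hf₂ d₁ d₂ d₀ q₁ q₂)) := by
  classical
  intro r
  obtain ⟨c₁, hc₁⟩ := (comb_bij d₁ d₁.lifts (π_lifts d₁)).2 (gluePr₁ f₁ f₂ d₁ d₂ d₀ q₁ q₂ r)
  obtain ⟨c₂, hc₂⟩ := (comb_bij d₂ _ (π_liftY f₁ f₂ hf₂ d₁ d₂ d₀ q₁ q₂)).2
    (gluePr₂ f₁ f₂ d₁ d₂ d₀ q₁ q₂ r)
  -- compare in `R₀`
  let w : Module.Basis.ofVectorSpaceIndex k B₀ → d₀.R := fun i => q₁.ψ (d₁.lifts i)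
  have hw0 : ∀ i, d₀.π (w i) = bas k B₀ i := fun i => by
    change d₀.π (q₁.ψ (d₁.lifts i)) = _
    rw [q₁.π_comp, π_lifts]
  have e1 : q₁.ψ (gluePr₁ f₁ f₂ d₁ d₂ d₀ q₁ q₂ r) =
      comb d₀.φ w (Finsupp.mapRange f₁ (map_zero f₁) c₁) := by
    rw [← hc₁, map_comb, comb_mapRange]
    have : q₁.ψ.comp d₁.φ = d₀.φ.comp f₁ := RingHom.ext q₁.comp_φ
    rw [this]
  have e2 : q₂.ψ (gluePr₂ f₁ f₂ d₁ d₂ d₀ q₁ q₂ r) =
      comb d₀.φ w (Finsupp.mapRange f₂ (map_zero f₂) c₂) := by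
    rw [← hc₂, map_comb, comb_mapRange]
    have h1 : q₂.ψ.comp d₂.φ = d₀.φ.comp f₂ := RingHom.ext q₂.comp_φ
    have h2 : (fun i => q₂.ψ (liftY f₁ f₂ hf₂ d₁ d₂ d₀ q₁ q₂ i)) = w :=
      funext fun i => q₂_liftY f₁ f₂ hf₂ d₁ d₂ d₀ q₁ q₂ i
    rw [h1, h2]
  have e3 : Finsupp.mapRange f₁ (map_zero f₁) c₁ = Finsupp.mapRange f₂ (map_zero f₂) c₂ := by
    apply (comb_bij d₀ w hw0).1
    rw [← e1, ← e2]
    exact q_gluePr f₁ f₂ d₁ d₂ d₀ q₁ q₂ r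
  have e4 : ∀ i, f₁ (c₁ i) = f₂ (c₂ i) := fun i => by
    have := DFunLike.congr_fun e3 i
    rwa [Finsupp.mapRange_apply, Finsupp.mapRange_apply] at this
  choose bf hb1 hb2 using fun i => hsurj (c₁ i) (c₂ i) (e4 i)
  have hb0 : ∀ i, bf i ≠ 0 → i ∈ c₁.support ∪ c₂.support := by
    intro i hi
    by_contra hcon
    rw [Finset.mem_union, not_or, Finsupp.notMem_support_iff, Finsupp.notMem_support_iff] at hcon
    apply hi
    apply hinj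
    · rw [hb1, hcon.1, map_zero]
    · rw [hb2, hcon.2, map_zero]
  let c : Module.Basis.ofVectorSpaceIndex k B₀ →₀ B := Finsupp.onFinset _ bf hb0
  refine ⟨c, ?_⟩
  apply glue_ext
  · rw [gluePr₁_comb, ← hc₁]
    congr 1
    ext i
    rw [Finsupp.mapRange_apply]
    exact hb1 i
  · rw [gluePr₂_comb, ← hc₂]
    congr 1
    ext i
    rw [Finsupp.mapRange_apply]
    exact hb2 i

include hinj hsurj hr₁ in
/-- **gluing ring data over a fibre product.** -/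
noncomputable def glue : DefRing B₀ aB where
  R := glueRing f₁ f₂ d₁ d₂ d₀ q₁ q₂
  φ := glueφ p₁ p₂ f₁ f₂ hw d₁ d₂ d₀ q₁ q₂
  π := glueπ f₁ f₂ d₁ d₂ d₀ q₁ q₂
  flat := flat_of_comb_bijective _ (liftZ f₁ f₂ hf₂ d₁ d₂ d₀ q₁ q₂)
    ⟨glue_comb_injective p₁ p₂ f₁ f₂ hw hinj hf₂ d₁ d₂ d₀ q₁ q₂,
      glue_comb_surjective p₁ p₂ f₁ f₂ hw hinj hsurj hf₂ d₁ d₂ d₀ q₁ q₂⟩
  comm := fun b => by
    change d₁.π (d₁.φ (p₁ b)) = _
    rw [d₁.comm, hr₁]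
  surj := d₁.surj.comp (gluePr₁_surjective f₁ f₂ hf₂ d₁ d₂ d₀ q₁ q₂)
  ker := by
    apply le_antisymm
    · intro r hr
      obtain ⟨c, rfl⟩ := glue_comb_surjective p₁ p₂ f₁ f₂ hw hinj hsurj hf₂ d₁ d₂ d₀ q₁ q₂ r
      rw [RingHom.mem_ker, π_comb aB.res (glueφ p₁ p₂ f₁ f₂ hw d₁ d₂ d₀ q₁ q₂)
        (glueπ f₁ f₂ d₁ d₂ d₀ q₁ q₂) (fun b => by
          change d₁.π (d₁.φ (p₁ b)) = _
          rw [d₁.comm, hr₁]) (bas k B₀) _ (π_liftZ f₁ f₂ hf₂ d₁ d₂ d₀ q₁ q₂),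
        LinearEquiv.map_eq_zero_iff] at hr
      unfold comb
      refine Ideal.sum_mem _ fun i _ => ?_
      refine Ideal.mul_mem_right _ _ (Ideal.mem_map_of_mem _ ?_)
      rw [← aB.ker, RingHom.mem_ker]
      have := DFunLike.congr_fun hr i
      rwa [Finsupp.mapRange_apply] at this
    · rw [Ideal.map_le_iff_le_comap]
      intro b hb
      rw [Ideal.mem_comap, RingHom.mem_ker]
      change d₁.π (d₁.φ (p₁ b)) = 0
      rw [d₁.comm, hr₁]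
      rw [← aB.ker, RingHom.mem_ker] at hb
      rw [hb, map_zero]

/-- the projection of the glued data to `d₁`. -/
noncomputable def glueHom₁ :
    Hom (glue p₁ p₂ f₁ f₂ hw hinj hsurj hr₁ hf₂ d₁ d₂ d₀ q₁ q₂) d₁ p₁ where
  ψ := gluePr₁ f₁ f₂ d₁ d₂ d₀ q₁ q₂
  comp_φ := fun b => rfl
  π_comp := fun r => rfl

/-- the projection of the glued data to `d₂`. -/
noncomputable def glueHom₂ :
    Hom (glue p₁ p₂ f₁ f₂ hw hinj hsurj hr₁ hf₂ d₁ d₂ d₀ q₁ q₂) d₂ p₂ where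
  ψ := gluePr₂ f₁ f₂ d₁ d₂ d₀ q₁ q₂
  comp_φ := fun b => rfl
  π_comp := fun r => (glueπ_eq₂ f₁ f₂ d₁ d₂ d₀ q₁ q₂ r).symm

/-- the map into the glued data from ring data over `B` mapping compatibly to `d₁` and `d₂`. -/
noncomputable def glueLift (d : DefRing B₀ aB) (u₁ : Hom d d₁ p₁) (u₂ : Hom d d₂ p₂)
    (hu : ∀ r, q₁.ψ (u₁.ψ r) = q₂.ψ (u₂.ψ r)) :
    Hom d (glue p₁ p₂ f₁ f₂ hw hinj hsurj hr₁ hf₂ d₁ d₂ d₀ q₁ q₂) (RingHom.id B) where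
  ψ := RingHom.codRestrict (u₁.ψ.prod u₂.ψ) _ (fun r => hu r)
  comp_φ := fun b => by
    apply glue_ext
    · exact u₁.comp_φ b
    · exact u₂.comp_φ b
  π_comp := fun r => u₁.π_comp r

end Glue

end Groth.Agent.Lib.DefGlue
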