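import Mathlib
import Groth.Prelude.Def_ArtFun4
import Groth.Agent.Lib.ThickAffine
import Groth.Agent.Lib.ArtinianFlat

/-!
# Deformations of an affine scheme over an Artin ring are affine; ring-level description

`ξ : ArtFun.DefSch X x A` with `X` affine: the total space is affine.
-/

set_option autoImplicit false
set_option linter.unusedVariables false
set_option linter.unusedSectionVars false

universe u

open CategoryTheory CategoryTheory.Limits AlgebraicGeometry ArtFun ArtFun.Art

namespace Groth.Agent.Lib.DefSchAff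

variable {Λ : Type u} {k : Type u} [CommRing Λ] [Field k] [Algebra Λ k]

/-- the augmentation point `Spec k ⟶ Spec A` is a closed immersion -/
instance isClosedImmersion_specRes (A : Art Λ k) : IsClosedImmersion (specRes A) :=
  IsClosedImmersion.spec_of_surjective _ A.res_surjective

/-- the augmentation point `Spec k ⟶ Spec A` is surjective -/
instance surjective_specRes (A : Art Λ k) : Surjective (specRes A) := by
  constructor
  intro y
  have : Subsingleton (PrimeSpectrum A) := by
    have : Ring.KrullDimLE 0 A := inferInstance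
    infer_instance
  have hne : Nonempty (Spec (CommRingCat.of k)) := by
    change Nonempty (PrimeSpectrum k)
    infer_instance
  obtain ⟨z⟩ := hne
  refine ⟨z, ?_⟩
  exact Subsingleton.elim (α := PrimeSpectrum A) _ _

variable {X : Scheme.{u}} {x : X ⟶ specPt k} {A : Art Λ k}

instance isClosedImmersion_i (ξ : DefSch X x A) : IsClosedImmersion ξ.i :=
  MorphismProperty.of_isPullback ξ.isPullback.flip inferInstance

instance surjective_i (ξ : DefSch X x A) : Surjective ξ.i :=
  MorphismProperty.of_isPullback (P := @Surjective) ξ.isPullback.flip inferInstance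

theorem isAffine_total [IsAffine X] (ξ : DefSch X x A) : IsAffine ξ.total :=
  Groth.Agent.Lib.ThickAffine.isAffine_of_isClosedImmersion_of_surjective ξ.i
    (surjective_i ξ).surj

section RingPushout

variable {A R K B : Type u} [CommRing A] [CommRing R] [CommRing K] [CommRing B]

/-- A commutative square of rings with `ρ`, `π` surjective and `ker π = (ker ρ) R` is a pushout. -/
theorem isPushout_of_surjective (φ : A →+* R) (ρ : A →+* K) (π : R →+* B) (ι : K →+* B)
    (hcomm : π.comp φ = ι.comp ρ) (hρ : Function.Surjective ρ) (hπ : Function.Surjective π)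
    (hker : RingHom.ker π = (RingHom.ker ρ).map φ) :
    IsPushout (CommRingCat.ofHom φ) (CommRingCat.ofHom ρ) (CommRingCat.ofHom π)
      (CommRingCat.ofHom ι) := by
  have w : CommRingCat.ofHom φ ≫ CommRingCat.ofHom π = CommRingCat.ofHom ρ ≫ CommRingCat.ofHom ι := by
    rw [← CommRingCat.ofHom_comp, ← CommRingCat.ofHom_comp, hcomm]
  have hle : ∀ s : PushoutCocone (CommRingCat.ofHom φ) (CommRingCat.ofHom ρ),
      RingHom.ker π ≤ RingHom.ker s.inl.hom := by
    intro s
    rw [hker, Ideal.map_le_iff_le_comap]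
    intro a ha
    rw [Ideal.mem_comap, RingHom.mem_ker]
    have h1 : s.inl.hom (φ a) = s.inr.hom (ρ a) :=
      congrArg (fun f : CommRingCat.of A ⟶ s.pt => f.hom a) s.condition
    rw [h1, (RingHom.mem_ker).mp ha, map_zero]
  refine ⟨⟨w⟩, ⟨PushoutCocone.IsColimit.mk w
    (fun s => CommRingCat.ofHom (π.liftOfSurjective hπ ⟨s.inl.hom, hle s⟩)) ?_ ?_ ?_⟩⟩
  · intro s
    ext r
    exact RingHom.liftOfSurjective_comp_apply π hπ ⟨s.inl.hom, hle s⟩ r
  · intro s
    ext c
    obtain ⟨a, rfl⟩ := hρ c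
    have h1 : s.inl.hom (φ a) = s.inr.hom (ρ a) :=
      congrArg (fun f : CommRingCat.of A ⟶ s.pt => f.hom a) s.condition
    have h2 : ι (ρ a) = π (φ a) := (congrArg (fun f : A →+* B => f a) hcomm).symm
    change (π.liftOfSurjective hπ ⟨s.inl.hom, hle s⟩) (ι (ρ a)) = s.inr.hom (ρ a)
    rw [h2, ← h1]
    exact RingHom.liftOfSurjective_comp_apply π hπ ⟨s.inl.hom, hle s⟩ (φ a)
  · intro s m hm _
    ext b
    obtain ⟨r, rfl⟩ := hπ b
    have h1 : m.hom (π r) = s.inl.hom r :=
      congrArg (fun f : CommRingCat.of R ⟶ s.pt => f.hom r) hm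
    change m.hom (π r) = (π.liftOfSurjective hπ ⟨s.inl.hom, hle s⟩) (π r)
    rw [h1]
    exact (RingHom.liftOfSurjective_comp_apply π hπ ⟨s.inl.hom, hle s⟩ r).symm

/-- In a pushout square of rings with `ρ` surjective, `π` is surjective with kernel `(ker ρ) R`. -/
theorem surjective_and_ker_of_isPushout (φ : A →+* R) (ρ : A →+* K) (π : R →+* B) (ι : K →+* B)
    (H : IsPushout (CommRingCat.ofHom φ) (CommRingCat.ofHom ρ) (CommRingCat.ofHom π)
      (CommRingCat.ofHom ι)) (hρ : Function.Surjective ρ) :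
    Function.Surjective π ∧ RingHom.ker π = (RingHom.ker ρ).map φ := by
  let I : Ideal R := (RingHom.ker ρ).map φ
  let π₁ : R →+* R ⧸ I := Ideal.Quotient.mk I
  have hle : RingHom.ker ρ ≤ RingHom.ker (π₁.comp φ) := by
    intro a ha
    rw [RingHom.mem_ker, RingHom.comp_apply, Ideal.Quotient.eq_zero_iff_mem]
    exact Ideal.mem_map_of_mem φ ha
  let ι₁ : K →+* R ⧸ I := ρ.liftOfSurjective hρ ⟨π₁.comp φ, hle⟩
  have hcomm : π₁.comp φ = ι₁.comp ρ := (RingHom.liftOfSurjective_comp ρ hρ ⟨π₁.comp φ, hle⟩).symm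
  have H₁ := isPushout_of_surjective φ ρ π₁ ι₁ hcomm hρ Ideal.Quotient.mk_surjective
    (Ideal.mk_ker)
  let e := H.isoIsPushout _ _ H₁
  have he : ∀ r, e.hom.hom (π r) = π₁ r := fun r =>
    congrArg (fun f : CommRingCat.of R ⟶ CommRingCat.of (R ⧸ I) => f.hom r)
      (H.inl_isoIsPushout_hom _ _ H₁)
  have hinj : Function.Injective e.hom.hom := by
    have : Function.Bijective e.hom.hom := by
      rw [← ConcreteCategory.isIso_iff_bijective]
      infer_instance
    exact this.1
  constructor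
  · intro b
    obtain ⟨r, hr⟩ := Ideal.Quotient.mk_surjective (e.hom.hom b)
    refine ⟨r, hinj ?_⟩
    rw [he]
    exact hr
  · ext r
    rw [RingHom.mem_ker, ← Ideal.Quotient.eq_zero_iff_mem (I := I)]
    constructor
    · intro h
      have := he r
      rw [h, map_zero] at this
      exact this.symm
    · intro h
      apply hinj
      rw [he, map_zero]
      exact h

end RingPushout

section Bijective

open TensorProduct IsLocalRing

/-- A map of "deformations" (rings over a local ring `A` with nilpotent maximal ideal, with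
compatible surjections onto `B` whose kernels are generated by the maximal ideal of `A`) with flat
target is bijective. -/
theorem bijective_of_deformation {A R R' B : Type u} [CommRing A] [IsLocalRing A]
    (hnil : IsNilpotent (maximalIdeal A)) [CommRing R] [CommRing R'] [CommRing B]
    (φ : A →+* R) (φ' : A →+* R') (hflat : φ.Flat) (π : R →+* B) (π' : R' →+* B)
    (hπ' : Function.Surjective π')
    (hker : RingHom.ker π = (maximalIdeal A).map φ)
    (hker' : RingHom.ker π' = (maximalIdeal A).map φ')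
    (ψ : R' →+* R) (h1 : ψ.comp φ' = φ) (h2 : π.comp ψ = π') : Function.Bijective ψ := by
  let _ : Algebra A R := φ.toAlgebra
  let _ : Algebra A R' := φ'.toAlgebra
  have hF : Module.Flat A R := hflat
  let ψl : R' →ₗ[A] R :=
    { toFun := ψ
      map_add' := map_add ψ
      map_smul' := fun a r => by
        change ψ (φ' a * r) = φ a * ψ r
        rw [map_mul, ← h1]
        rfl }
  have key : ∀ r : R, ((1 : ResidueField A) ⊗ₜ[A] r = 0) ↔ π r = 0 := by
    intro r
    rw [← RingHom.mem_ker, hker]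
    have h : (TensorProduct.mk A (A ⧸ maximalIdeal A) R 1) r = 0 ↔
        r ∈ (maximalIdeal A • ⊤ : Submodule A R) := by
      rw [← LinearMap.mem_ker, LinearMap.ker_tensorProductMk]
    rw [Ideal.smul_top_eq_map] at h
    exact h
  have key' : ∀ r : R', ((1 : ResidueField A) ⊗ₜ[A] r = 0) ↔ π' r = 0 := by
    intro r
    rw [← RingHom.mem_ker, hker']
    have h : (TensorProduct.mk A (A ⧸ maximalIdeal A) R' 1) r = 0 ↔
        r ∈ (maximalIdeal A • ⊤ : Submodule A R') := by
      rw [← LinearMap.mem_ker, LinearMap.ker_tensorProductMk]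
    rw [Ideal.smul_top_eq_map] at h
    exact h
  have hπψ : ∀ r', π (ψ r') = π' r' := fun r' => congrArg (fun f : R' →+* B => f r') h2
  have hinj : Function.Injective (ψl.lTensor (ResidueField A)) := by
    rw [injective_iff_map_eq_zero]
    intro z hz
    obtain ⟨r', rfl⟩ := TensorProduct.mk_surjective A R' (ResidueField A)
      Ideal.Quotient.mk_surjective z
    rw [TensorProduct.mk_apply] at hz ⊢
    rw [LinearMap.lTensor_tmul] at hz
    rw [key']
    have := (key (ψ r')).mp hz
    rw [hπψ] at this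
    exact this
  have hsurj : Function.Surjective (ψl.lTensor (ResidueField A)) := by
    intro z
    obtain ⟨r, rfl⟩ := TensorProduct.mk_surjective A R (ResidueField A)
      Ideal.Quotient.mk_surjective z
    obtain ⟨r', hr'⟩ := hπ' (π r)
    refine ⟨(1 : ResidueField A) ⊗ₜ[A] r', ?_⟩
    rw [LinearMap.lTensor_tmul, TensorProduct.mk_apply, ← sub_eq_zero, ← TensorProduct.tmul_sub]
    change (1 : ResidueField A) ⊗ₜ[A] (ψ r' - r) = 0
    rw [key, map_sub, hπψ, hr', sub_self]
  exact ⟨Groth.Agent.Lib.ArtinianFlat.injective_of_lTensor_injective hnil ψl hinj,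
    Groth.Agent.Lib.ArtinianFlat.surjective_of_lTensor_surjective hnil ψl hsurj⟩

end Bijective

set_option backward.isDefEq.respectTransparency false in
theorem isIso_of_isIso_appTop {X Y : Scheme.{u}} (f : X ⟶ Y) [IsAffine Y] (h : IsAffine X)
    (h2 : IsIso f.appTop) : IsIso f :=
  (HasAffineProperty.iff_of_isAffine (P := MorphismProperty.isomorphisms Scheme.{u})
    (f := f)).mpr ⟨h, h2⟩

section Bridge

variable {B₀ : Type u} [CommRing B₀] [Algebra k B₀] {A : Art Λ k}

variable (ξ ξ' : DefSch (Spec (CommRingCat.of B₀)) (Spec.map (CommRingCat.ofHom (algebraMap k B₀))) A)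

/-- the structure map `A → Γ(total)` -/
noncomputable def algA : A →+* Γ(ξ.total, ⊤) :=
  ξ.f.appTop.hom.comp (Scheme.ΓSpecIso (CommRingCat.of A)).inv.hom

/-- the restriction to the closed fibre `Γ(total) → B₀` -/
noncomputable def proj : Γ(ξ.total, ⊤) →+* B₀ :=
  (Scheme.ΓSpecIso (CommRingCat.of B₀)).hom.hom.comp ξ.i.appTop.hom

theorem isPushout_ring :
    IsPushout (CommRingCat.ofHom (algA ξ)) (CommRingCat.ofHom A.res.toRingHom)
      (CommRingCat.ofHom (proj ξ)) (CommRingCat.ofHom (algebraMap k B₀)) := by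
  have := isAffine_total ξ
  have H := isPushout_appTop_of_isPullback ξ.isPullback
  refine H.of_iso (Scheme.ΓSpecIso (CommRingCat.of A)) (Iso.refl _)
    (Scheme.ΓSpecIso (CommRingCat.of k)) (Scheme.ΓSpecIso (CommRingCat.of B₀)) ?_ ?_ ?_ ?_
  · rw [Iso.refl_hom, Category.comp_id]
    change _ = _ ≫ ((Scheme.ΓSpecIso (CommRingCat.of A)).inv ≫ ξ.f.appTop)
    rw [Iso.hom_inv_id_assoc]
  · exact Scheme.ΓSpecIso_naturality _
  · rw [Iso.refl_hom, Category.id_comp]
    rfl
  · exact Scheme.ΓSpecIso_naturality _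

theorem proj_surjective : Function.Surjective (proj ξ) :=
  (surjective_and_ker_of_isPushout _ _ _ _ (isPushout_ring ξ) A.res_surjective).1

theorem ker_res (A : Art Λ k) : RingHom.ker A.res.toRingHom = IsLocalRing.maximalIdeal A := by
  ext a
  rw [RingHom.mem_ker, mem_maximalIdeal_iff]
  rfl

theorem ker_proj : RingHom.ker (proj ξ) = (IsLocalRing.maximalIdeal A).map (algA ξ) := by
  rw [(surjective_and_ker_of_isPushout _ _ _ _ (isPushout_ring ξ) A.res_surjective).2, ker_res]

theorem proj_algA (a : A) : proj ξ (algA ξ a) = algebraMap k B₀ (A.res a) :=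
  congrArg (fun f : CommRingCat.of A ⟶ CommRingCat.of B₀ => f.hom a) (isPushout_ring ξ).w

theorem flat_algA : (algA ξ).Flat := by
  have := isAffine_total ξ
  have h : ξ.f.appTop.hom.Flat := (HasRingHomProperty.iff_of_isAffine (P := @Flat)).mp ξ.flat
  exact RingHom.Flat.comp (RingHom.Flat.of_bijective
    ((ConcreteCategory.isIso_iff_bijective _).mp inferInstance)) h

variable {ξ ξ'}

theorem appTop_comp_algA (φ : ξ.total ⟶ ξ'.total) (hf : φ ≫ ξ'.f = ξ.f) :
    φ.appTop.hom.comp (algA ξ') = algA ξ := by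
  unfold algA
  rw [← RingHom.comp_assoc, ← CommRingCat.hom_comp, ← Scheme.Hom.comp_appTop, hf]

theorem proj_comp_appTop (φ : ξ.total ⟶ ξ'.total) (hi : ξ.i ≫ φ = ξ'.i) :
    (proj ξ).comp φ.appTop.hom = proj ξ' := by
  unfold proj
  rw [RingHom.comp_assoc, ← CommRingCat.hom_comp, ← Scheme.Hom.comp_appTop, hi]

/-- Every morphism of deformations of an affine scheme over an Artin ring is an isomorphism. -/
theorem isIso_of_hom (φ : ξ.total ⟶ ξ'.total) (hf : φ ≫ ξ'.f = ξ.f) (hi : ξ.i ≫ φ = ξ'.i) :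
    IsIso φ := by
  have := isAffine_total ξ
  have := isAffine_total ξ'
  have hnil : IsNilpotent (IsLocalRing.maximalIdeal A) := by
    have h := IsArtinianRing.isNilpotent_jacobson_bot (R := A)
    rwa [IsLocalRing.jacobson_eq_maximalIdeal ⊥ bot_ne_top] at h
  have hb : Function.Bijective φ.appTop.hom :=
    bijective_of_deformation hnil (algA ξ) (algA ξ') (flat_algA ξ) (proj ξ) (proj ξ')
      (proj_surjective ξ') (ker_proj ξ) (ker_proj ξ') φ.appTop.hom (appTop_comp_algA φ hf)
      (proj_comp_appTop φ hi)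
  have h2 : IsIso φ.appTop := (ConcreteCategory.isIso_iff_bijective _).mpr hb
  exact isIso_of_isIso_appTop φ inferInstance h2

/-- a morphism of deformations as an isomorphism of deformations -/
noncomputable def isoOfHom (φ : ξ.total ⟶ ξ'.total) (hf : φ ≫ ξ'.f = ξ.f) (hi : ξ.i ≫ φ = ξ'.i) :
    ξ.Iso ξ' :=
  have := isIso_of_hom φ hf hi
  ⟨asIso φ, hf, hi⟩

/-- a scheme morphism from a ring map on global sections (target affine) -/
theorem exists_hom_of_ringHom (ψ : Γ(ξ'.total, ⊤) →+* Γ(ξ.total, ⊤))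
    (h1 : ψ.comp (algA ξ') = algA ξ) (h2 : (proj ξ).comp ψ = proj ξ') :
    ∃ φ : ξ.total ⟶ ξ'.total, φ ≫ ξ'.f = ξ.f ∧ ξ.i ≫ φ = ξ'.i ∧ φ.appTop.hom = ψ := by
  have := isAffine_total ξ
  have := isAffine_total ξ'
  let φ : ξ.total ⟶ ξ'.total :=
    ξ.total.isoSpec.hom ≫ Spec.map (CommRingCat.ofHom ψ) ≫ ξ'.total.isoSpec.inv
  have hφ : φ.appTop = CommRingCat.ofHom ψ := by
    have h := Scheme.isoSpec_hom_naturality φ
    have h3 : Spec.map φ.appTop = Spec.map (CommRingCat.ofHom ψ) := by
      rw [← cancel_epi ξ.total.isoSpec.hom, h]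
      simp only [φ, Category.assoc, Iso.inv_hom_id, Category.comp_id]
    exact Spec.map_injective h3
  refine ⟨φ, ?_, ?_, ?_⟩
  · apply ext_of_isAffine
    rw [Scheme.Hom.comp_appTop, hφ]
    ext a
    have e1 : algA ξ ((Scheme.ΓSpecIso (CommRingCat.of A)).hom.hom a) = ξ.f.appTop.hom a := by
      unfold algA
      rw [RingHom.comp_apply]
      congr 1
      exact congrArg (fun f : Γ(Spec (CommRingCat.of A), ⊤) ⟶ Γ(Spec (CommRingCat.of A), ⊤) =>
        f.hom a) (Scheme.ΓSpecIso (CommRingCat.of A)).hom_inv_id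
    have e2 : algA ξ' ((Scheme.ΓSpecIso (CommRingCat.of A)).hom.hom a) = ξ'.f.appTop.hom a := by
      unfold algA
      rw [RingHom.comp_apply]
      congr 1
      exact congrArg (fun f : Γ(Spec (CommRingCat.of A), ⊤) ⟶ Γ(Spec (CommRingCat.of A), ⊤) =>
        f.hom a) (Scheme.ΓSpecIso (CommRingCat.of A)).hom_inv_id
    change ψ (ξ'.f.appTop.hom a) = ξ.f.appTop.hom a
    rw [← e1, ← e2, ← h1]
    rfl
  · apply ext_of_isAffine
    rw [Scheme.Hom.comp_appTop, hφ]
    rw [← cancel_mono (Scheme.ΓSpecIso (CommRingCat.of B₀)).hom]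
    ext r
    change proj ξ (ψ r) = proj ξ' r
    rw [← h2]
    rfl
  · rw [hφ]
    rfl

end Bridge

theorem comp_lift_eq_lift {C : Type*} [Category C] {X Y Z W W' : C} (f : X ⟶ Z) (g : Y ⟶ Z)
    [HasPullback f g] (i : W' ⟶ W) (a : W ⟶ X) (b : W ⟶ Y) (w : a ≫ f = b ≫ g)
    (a' : W' ⟶ X) (b' : W' ⟶ Y) (w' : a' ≫ f = b' ≫ g) (ha : i ≫ a = a') (hb : i ≫ b = b') :
    i ≫ pullback.lift a b w = pullback.lift a' b' w' := by
  apply pullback.hom_ext
  · rw [Category.assoc, pullback.lift_fst, pullback.lift_fst, ha]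
  · rw [Category.assoc, pullback.lift_snd, pullback.lift_snd, hb]

section Trivial

variable {k : Type u} [Field k] {B₀ : Type u} [CommRing B₀] [Algebra k B₀] {A : Art k k}

variable (ξ : DefSch (Spec (CommRingCat.of B₀)) (Spec.map (CommRingCat.ofHom (algebraMap k B₀))) A)

theorem ofHom_algA : CommRingCat.ofHom (algA ξ) =
    (Scheme.ΓSpecIso (CommRingCat.of A)).inv ≫ ξ.f.appTop := rfl

theorem ofHom_proj : CommRingCat.ofHom (proj ξ) =
    ξ.i.appTop ≫ (Scheme.ΓSpecIso (CommRingCat.of B₀)).hom := rfl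

theorem f_eq : ξ.f = ξ.total.toSpecΓ ≫ Spec.map (CommRingCat.ofHom (algA ξ)) := by
  have h := Scheme.toSpecΓ_naturality ξ.f
  have h2 : (Spec (CommRingCat.of A)).toSpecΓ =
      Spec.map (Scheme.ΓSpecIso (CommRingCat.of A)).hom := Scheme.isoSpec_Spec_hom _
  rw [h2] at h
  rw [ofHom_algA, Spec.map_comp, ← reassoc_of% h, ← Spec.map_comp, Iso.inv_hom_id, Spec.map_id,
    Category.comp_id]

theorem i_toSpecΓ : ξ.i ≫ ξ.total.toSpecΓ =
    Spec.map (Scheme.ΓSpecIso (CommRingCat.of B₀)).hom ≫ Spec.map ξ.i.appTop := by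
  have h := Scheme.toSpecΓ_naturality ξ.i
  have h2 : (Spec (CommRingCat.of B₀)).toSpecΓ =
      Spec.map (Scheme.ΓSpecIso (CommRingCat.of B₀)).hom := Scheme.isoSpec_Spec_hom _
  rw [h2] at h
  exact h

/-- A `k`-algebra section of `Γ(total) → B₀` trivialises the deformation. -/
theorem nonempty_iso_trivial_of_section
    (hx : Flat (Spec.map (CommRingCat.ofHom (algebraMap k B₀))))
    (s : B₀ →+* Γ(ξ.total, ⊤)) (hs1 : ∀ b, proj ξ (s b) = b)
    (hs2 : ∀ c : k, s (algebraMap k B₀ c) = algA ξ (algebraMap k A c)) :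
    Nonempty (ξ.Iso (DefSch.trivial (Spec (CommRingCat.of B₀))
      (Spec.map (CommRingCat.ofHom (algebraMap k B₀))) hx A)) := by
  let g : ξ.total ⟶ Spec (CommRingCat.of B₀) := ξ.total.toSpecΓ ≫ Spec.map (CommRingCat.ofHom s)
  have hcond : g ≫ Spec.map (CommRingCat.ofHom (algebraMap k B₀)) = ξ.f ≫ specMap (ofBase A) := by
    rw [f_eq ξ]
    simp only [g, Category.assoc, specMap, ← Spec.map_comp]
    congr 2
    ext c
    exact hs2 c
  let φ : ξ.total ⟶ (DefSch.trivial (Spec (CommRingCat.of B₀))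
      (Spec.map (CommRingCat.ofHom (algebraMap k B₀))) hx A).total :=
    pullback.lift g ξ.f hcond
  have hf : φ ≫ (DefSch.trivial (Spec (CommRingCat.of B₀))
      (Spec.map (CommRingCat.ofHom (algebraMap k B₀))) hx A).f = ξ.f := pullback.lift_snd _ _ _
  have hig : ξ.i ≫ g = 𝟙 _ := by
    simp only [g]
    rw [← Category.assoc, i_toSpecΓ ξ, Category.assoc, ← Spec.map_comp, ← Spec.map_comp]
    have : CommRingCat.ofHom s ≫ ξ.i.appTop ≫ (Scheme.ΓSpecIso (CommRingCat.of B₀)).hom = 𝟙 _ := by
      ext b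
      exact hs1 b
    rw [Category.assoc, this, Spec.map_id]
  have hi : ξ.i ≫ φ = (DefSch.trivial (Spec (CommRingCat.of B₀))
      (Spec.map (CommRingCat.ofHom (algebraMap k B₀))) hx A).i := by
    exact comp_lift_eq_lift _ _ ξ.i g ξ.f hcond (𝟙 _)
      (Spec.map (CommRingCat.ofHom (algebraMap k B₀)) ≫ specRes A) _ hig (DefSch.i_f ξ)
  exact ⟨isoOfHom φ hf hi⟩

end Trivial

end Groth.Agent.Lib.DefSchAff
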