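import Mathlib
import Groth.Agent.Lib.FlatCrit

/-!
# Flatness over the dual numbers `A[ε]` (helper69)

* `flat_of_bijective_algebraMap`: flatness transfers along a bijective algebra map.
* `flat_of_nilpotent_of_section`: local criterion of flatness over `B` with a nilpotent ideal `𝔫` and `A ≃ B/𝔫`
  (built on `Groth.Agent.Lib.FlatCrit.flat_of_isNilpotent`).
* `exists_eq_eps_smul_of_flat`: in a flat `A[ε]`-module, `ε m = 0` implies `m ∈ ε M` (equational criterion).
* `flat_dualNumber_of`: conversely `M` is flat over `A[ε]` if `ε m = 0 → m ∈ ε M` and `M/εM` is flat over `A`.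
-/

set_option autoImplicit false
universe u v

open TensorProduct Function DualNumber TrivSqZeroExt

namespace Groth.Agent.Lib.H69DualFlat

/-- Flatness transfers along a bijective algebra map. -/
theorem flat_of_bijective_algebraMap {A : Type*} {C : Type*} {X : Type*} [CommRing A] [CommRing C] [Algebra A C]
    [AddCommGroup X] [Module A X] [Module C X] [IsScalarTower A C X]
    (h : Bijective (algebraMap A C)) [Module.Flat A X] : Module.Flat C X := by
  let f : C ⊗[A] X →ₗ[C] X := LinearMap.liftBaseChange C (LinearMap.id : X →ₗ[A] X)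
  have hf : ∀ (c : C) (x : X), f (c ⊗ₜ x) = c • x := by
    intro c x
    simp [f]
  have hform : ∀ z : C ⊗[A] X, ∃ x : X, z = (1 : C) ⊗ₜ[A] x := by
    intro z
    induction z with
    | zero => exact ⟨0, by simp⟩
    | tmul c x =>
      obtain ⟨a, rfl⟩ := h.2 c
      refine ⟨a • x, ?_⟩
      rw [TensorProduct.tmul_smul, TensorProduct.smul_tmul', Algebra.smul_def, mul_one]
    | add z w hz hw =>
      obtain ⟨x, rfl⟩ := hz
      obtain ⟨y, rfl⟩ := hw
      exact ⟨x + y, by rw [TensorProduct.tmul_add]⟩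
  have hbij : Bijective f := by
    constructor
    · rw [← LinearMap.ker_eq_bot, LinearMap.ker_eq_bot']
      intro z hz
      obtain ⟨x, rfl⟩ := hform z
      rw [hf, one_smul] at hz
      rw [hz, TensorProduct.tmul_zero]
    · intro x
      exact ⟨1 ⊗ₜ x, by rw [hf, one_smul]⟩
  exact Module.Flat.of_linearEquiv (LinearEquiv.ofBijective f hbij).symm

/-- Local criterion of flatness over a ring `B` with a nilpotent ideal `𝔫` such that `A → B → B/𝔫` is bijective:
`M` is flat over `B` as soon as `𝔫 ⊗ M → M` is injective and `M/𝔫M` is flat over `A`. -/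
theorem flat_of_nilpotent_of_section {B : Type u} [CommRing B] (A : Type u) [CommRing A] [Algebra A B]
    (𝔫 : Ideal B) (hnil : IsNilpotent 𝔫)
    (hbij : Bijective ((Ideal.Quotient.mk 𝔫).comp (algebraMap A B)))
    (M : Type v) [AddCommGroup M] [Module B M] [Module A M] [IsScalarTower A B M]
    (h1 : Injective (𝔫.subtype.rTensor M))
    [Module.Flat A (M ⧸ (𝔫 • ⊤ : Submodule B M))] : Module.Flat B M := by
  have hbij' : Bijective (algebraMap A (B ⧸ 𝔫)) := hbij
  let e : ((B ⧸ 𝔫) ⊗[B] M) ≃ₗ[B] M ⧸ (𝔫 • ⊤ : Submodule B M) :=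
    TensorProduct.quotTensorEquivQuotSMul M 𝔫
  have : Module.Flat A ((B ⧸ 𝔫) ⊗[B] M) := Module.Flat.of_linearEquiv (e.restrictScalars A)
  have : Module.Flat (B ⧸ 𝔫) ((B ⧸ 𝔫) ⊗[B] M) := flat_of_bijective_algebraMap (A := A) hbij'
  exact Groth.Agent.Lib.FlatCrit.flat_of_isNilpotent 𝔫 hnil h1

variable {A : Type u} [CommRing A]

/-- The ideal `(ε)` of `A[ε]`. -/
noncomputable abbrev epsIdeal (A : Type u) [CommRing A] : Ideal (DualNumber A) := Ideal.span {ε}

theorem mem_epsIdeal_iff (b : DualNumber A) : b ∈ epsIdeal A ↔ b.fst = 0 := by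
  rw [Ideal.mem_span_singleton']
  constructor
  · rintro ⟨c, rfl⟩
    simp
  · intro h
    refine ⟨inl b.snd, ?_⟩
    ext
    · simp [h]
    · simp

theorem epsIdeal_sq : epsIdeal A ^ 2 = ⊥ := by
  rw [epsIdeal, Ideal.span_singleton_pow, pow_two, eps_mul_eps, Ideal.span_singleton_eq_bot]

theorem eq_inl_add_eps_mul (b : DualNumber A) : b = inl b.fst + ε * inl b.snd := by
  ext <;> simp

theorem bijective_mk_comp_algebraMap :
    Bijective ((Ideal.Quotient.mk (epsIdeal A)).comp (algebraMap A (DualNumber A))) := by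
  constructor
  · rw [injective_iff_map_eq_zero]
    intro a ha
    rw [RingHom.comp_apply, Ideal.Quotient.eq_zero_iff_mem, mem_epsIdeal_iff,
      TrivSqZeroExt.algebraMap_eq_inl] at ha
    simpa using ha
  · intro c
    obtain ⟨b, rfl⟩ := Ideal.Quotient.mk_surjective c
    refine ⟨b.fst, ?_⟩
    rw [RingHom.comp_apply, Ideal.Quotient.eq, mem_epsIdeal_iff, TrivSqZeroExt.algebraMap_eq_inl]
    simp

variable (M : Type v) [AddCommGroup M] [Module (DualNumber A) M]

/-- If `M` is flat over `A[ε]`, every element killed by `ε` is a multiple of `ε`. -/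
theorem exists_eq_eps_smul_of_flat [Module.Flat (DualNumber A) M] (m : M)
    (h : (ε : DualNumber A) • m = 0) : ∃ m' : M, m = (ε : DualNumber A) • m' := by
  have hrel : ∑ i : Fin 1, (fun _ : Fin 1 => (ε : DualNumber A)) i • (fun _ : Fin 1 => m) i = 0 := by
    simpa using h
  obtain ⟨k, a, y, hy, ha⟩ := Module.Flat.isTrivialRelation_of_sum_smul_eq_zero hrel
  have ha' : ∀ j, (a 0 j).fst = 0 := by
    intro j
    have := ha j
    simp only [Fin.sum_univ_one] at this
    have h2 := congrArg TrivSqZeroExt.snd this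
    simpa using h2
  refine ⟨∑ j, (inl (a 0 j).snd : DualNumber A) • y j, ?_⟩
  have hy0 : m = ∑ j, a 0 j • y j := hy 0
  conv_lhs => rw [hy0]
  rw [Finset.smul_sum]
  refine Finset.sum_congr rfl fun j _ => ?_
  rw [smul_smul]
  congr 1
  conv_lhs => rw [eq_inl_add_eps_mul (a 0 j), ha' j]
  simp

/-- `(ε) ⊗ M → M` is injective as soon as every element killed by `ε` is a multiple of `ε`. -/
theorem rTensor_injective_of_ann (hann : ∀ m : M, (ε : DualNumber A) • m = 0 →
    ∃ m' : M, m = (ε : DualNumber A) • m') :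
    Injective ((epsIdeal A).subtype.rTensor M) := by
  let e0 : epsIdeal A := ⟨ε, Ideal.subset_span rfl⟩
  have hform : ∀ z : (epsIdeal A) ⊗[DualNumber A] M, ∃ m : M, z = e0 ⊗ₜ m := by
    intro z
    induction z with
    | zero => exact ⟨0, by simp⟩
    | tmul x m =>
      obtain ⟨c, hc⟩ := Ideal.mem_span_singleton'.1 x.2
      refine ⟨c • m, ?_⟩
      rw [TensorProduct.tmul_smul, TensorProduct.smul_tmul']
      congr 1
      ext1
      simp [e0, hc]
    | add z w hz hw =>
      obtain ⟨x, rfl⟩ := hz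
      obtain ⟨y, rfl⟩ := hw
      exact ⟨x + y, by rw [TensorProduct.tmul_add]⟩
  rw [injective_iff_map_eq_zero]
  intro z hz
  obtain ⟨m, rfl⟩ := hform z
  have h2 : (TensorProduct.lid (DualNumber A) M) (((epsIdeal A).subtype.rTensor M) (e0 ⊗ₜ m)) = 0 := by
    rw [hz, map_zero]
  rw [LinearMap.rTensor_tmul, TensorProduct.lid_tmul] at h2
  obtain ⟨m', rfl⟩ := hann m h2
  rw [TensorProduct.tmul_smul, TensorProduct.smul_tmul']
  have : (ε : DualNumber A) • e0 = 0 := by
    ext1
    simp [e0]
  rw [this, TensorProduct.zero_tmul]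

/-- Flatness over the dual numbers `A[ε]`: `M` is flat as soon as every element killed by `ε` is a multiple of `ε`
and `M/εM` is flat over `A`. -/
theorem flat_dualNumber_of [Module A M] [IsScalarTower A (DualNumber A) M]
    (hann : ∀ m : M, (ε : DualNumber A) • m = 0 → ∃ m' : M, m = (ε : DualNumber A) • m')
    [Module.Flat A (M ⧸ (epsIdeal A • ⊤ : Submodule (DualNumber A) M))] :
    Module.Flat (DualNumber A) M :=
  flat_of_nilpotent_of_section A (epsIdeal A) ⟨2, epsIdeal_sq⟩ bijective_mk_comp_algebraMap M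
    (rTensor_injective_of_ann M hann)

end Groth.Agent.Lib.H69DualFlat
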