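import Mathlib
import Groth.Prelude.Def_Exal
import Groth.Agent.Lib.H69DualFlat

/-!
# First order deformations and extensions, algebraic core

Ring data over the dual numbers `k[ε]` (`Data`) and the extension of `B` by `B` attached to it.
-/

set_option autoImplicit false
set_option linter.unusedVariables false
set_option linter.unusedSectionVars false

universe u

open DualNumber

namespace Groth.Agent.Lib.DefSchDual

/-- ring data of a first order deformation of `B`: a ring `R` over `k[ε]` with a surjection onto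
`B` whose kernel is `ε R`, such that the annihilator of `ε` is the kernel (flatness). -/
structure Data (k : Type u) [Field k] (B : Type u) [CommRing B] [Algebra k B] where
  R : Type u
  [commRing : CommRing R]
  φ : DualNumber k →+* R
  π : R →+* B
  comm : ∀ c : k, π (φ (algebraMap k (DualNumber k) c)) = algebraMap k B c
  surj : Function.Surjective π
  ker : ∀ r, π r = 0 ↔ ∃ r', r = φ ε * r'
  ann : ∀ r, φ ε * r = 0 → π r = 0

attribute [instance] Data.commRing

variable {k : Type u} [Field k] {B : Type u} [CommRing B] [Algebra k B]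

namespace Data

variable (d : Data k B)

instance : Algebra k d.R := (d.φ.comp (algebraMap k (DualNumber k))).toAlgebra

theorem algebraMap_eq (c : k) : algebraMap k d.R c = d.φ (algebraMap k (DualNumber k) c) := rfl

theorem eps_sq : d.φ ε * d.φ ε = 0 := by
  rw [← map_mul, eps_mul_eps, map_zero]

theorem eps_mul_of_ker (r : d.R) (hr : d.π r = 0) : d.φ ε * r = 0 := by
  obtain ⟨r', rfl⟩ := (d.ker r).1 hr
  rw [← mul_assoc, eps_sq, zero_mul]

theorem eps_mul_eq (r r' : d.R) (h : d.π r = d.π r') : d.φ ε * r = d.φ ε * r' := by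
  rw [← sub_eq_zero, ← mul_sub]
  apply eps_mul_of_ker
  rw [map_sub, h, sub_self]

theorem comm' (a : DualNumber k) : d.π (d.φ a) = algebraMap k B a.fst := by
  conv_lhs => rw [Groth.Agent.Lib.H69DualFlat.eq_inl_add_eps_mul a]
  rw [map_add, map_add, map_mul, (d.ker _).2 ⟨_, rfl⟩, add_zero,
    ← TrivSqZeroExt.algebraMap_eq_inl, d.comm]

/-- a set-theoretic section of `π` -/
noncomputable def σ : B → d.R := Function.surjInv d.surj

theorem π_σ (b : B) : d.π (d.σ b) = b := Function.surjInv_eq d.surj b

/-- the projection as an algebra map -/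
def projₐ : d.R →ₐ[k] B :=
  { d.π with commutes' := d.comm }

/-- the inclusion `b ↦ ε b̃` -/
noncomputable def incl : B →+ d.R where
  toFun b := d.φ ε * d.σ b
  map_zero' := d.eps_mul_of_ker _ (d.π_σ 0)
  map_add' b b' := by
    rw [← mul_add]
    apply d.eps_mul_eq
    rw [map_add, π_σ, π_σ, π_σ]

theorem incl_π (r : d.R) : d.incl (d.π r) = d.φ ε * r := d.eps_mul_eq _ _ (d.π_σ _)

/-- the extension of `B` by `B` attached to ring data over `k[ε]` -/
@[reducible] noncomputable def ext : Exal.Ext k B B where
  E := d.R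
  proj := d.projₐ
  incl := d.incl
  isExtension :=
    { proj_surjective := d.surj
      incl_injective := by
        rw [injective_iff_map_eq_zero]
        intro b hb
        have := d.ann _ hb
        rwa [π_σ] at this
      exact := fun y => by
        constructor
        · intro hy
          obtain ⟨r', rfl⟩ := (d.ker y).1 hy
          exact ⟨d.π r', d.incl_π r'⟩
        · rintro ⟨b, rfl⟩
          exact (d.ker _).2 ⟨_, rfl⟩
      mul_incl := fun y z => by
        change y * (d.φ ε * d.σ z) = d.incl (d.π y • z)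
        rw [smul_eq_mul, ← d.π_σ z, ← map_mul, incl_π, d.π_σ z]
        ring }

/-- flatness of the structure map -/
theorem flat : d.φ.Flat := by
  let _ : Algebra (DualNumber k) d.R := d.φ.toAlgebra
  have : IsScalarTower k (DualNumber k) d.R := ⟨fun c a r => by
    change d.φ (c • a) * r = d.φ (algebraMap k (DualNumber k) c) * (d.φ a * r)
    rw [Algebra.smul_def, map_mul, mul_assoc]⟩
  change Module.Flat (DualNumber k) d.R
  apply Groth.Agent.Lib.H69DualFlat.flat_dualNumber_of
  intro m hm
  have hm' : d.φ ε * m = 0 := hm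
  obtain ⟨r', hr'⟩ := (d.ker m).1 (d.ann m hm')
  exact ⟨r', hr'⟩

end Data

/-- an isomorphism of ring data gives an equivalence of extensions -/
theorem nonempty_equiv_of_hom (d d' : Data k B) (ψ : d'.R →+* d.R) (hb : Function.Bijective ψ)
    (h1 : ∀ a, ψ (d'.φ a) = d.φ a) (h2 : ∀ r, d.π (ψ r) = d'.π r) :
    Nonempty (Exal.Ext.Equiv d'.ext d.ext) := by
  let ψa : d'.R →ₐ[k] d.R := { ψ with commutes' := fun c => h1 _ }
  refine ⟨⟨AlgEquiv.ofBijective ψa hb, h2, fun z => ?_⟩⟩
  change ψ (d'.φ ε * d'.σ z) = d.φ ε * d.σ z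
  rw [map_mul, h1]
  apply d.eps_mul_eq
  rw [h2, Data.π_σ, Data.π_σ]

/-- an equivalence of extensions gives a morphism of ring data -/
theorem exists_hom_of_equiv (d d' : Data k B) (e : Exal.Ext.Equiv d.ext d'.ext) :
    ∃ ψ : d.R →+* d'.R, (∀ a, ψ (d.φ a) = d'.φ a) ∧ (∀ r, d'.π (ψ r) = d.π r) := by
  let ψ : d.R →+* d'.R := (e.toAlgEquiv : d.R →ₐ[k] d'.R).toRingHom
  refine ⟨ψ, ?_, fun r => e.proj_apply r⟩
  have hincl1 : ∀ d₀ : Data k B, d₀.incl 1 = d₀.φ ε := fun d₀ => by
    have h := d₀.incl_π 1
    rwa [map_one, mul_one] at h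
  have key : ψ.comp d.φ = d'.φ := by
    apply DualNumber.ringHom_ext
    · ext c
      change e.toAlgEquiv (algebraMap k d.R c) = algebraMap k d'.R c
      exact e.toAlgEquiv.commutes c
    · change e.toAlgEquiv (d.φ ε) = d'.φ ε
      rw [← hincl1 d, ← hincl1 d']
      exact e.apply_incl 1
  exact fun a => congrArg (fun f : DualNumber k →+* d'.R => f a) key

/-- ring data from an extension -/
@[reducible] noncomputable def dataOfExt (X : Exal.Ext k B B) : Data k B where
  R := X.E
  φ := (DualNumber.lift ⟨(Algebra.ofId k X.E, X.incl 1), by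
      constructor
      · change X.incl 1 * X.incl 1 = 0
        rw [X.isExtension.mul_incl, (X.isExtension.exact (X.incl 1)).2 ⟨1, rfl⟩, zero_smul, map_zero]
      · exact fun a => Commute.all _ _⟩ : DualNumber k →ₐ[k] X.E).toRingHom
  π := X.proj
  comm := fun c => by
    change X.proj ((DualNumber.lift _ : DualNumber k →ₐ[k] X.E) (algebraMap k (DualNumber k) c)) = _
    rw [AlgHom.commutes, AlgHom.commutes]
  surj := X.isExtension.proj_surjective
  ker := fun r => by
    change X.proj r = 0 ↔ ∃ r', r = (DualNumber.lift _ : DualNumber k →ₐ[k] X.E) ε * r'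
    simp only [DualNumber.lift_apply_eps]
    constructor
    · intro hr
      obtain ⟨z, rfl⟩ := (X.isExtension.exact r).1 hr
      obtain ⟨r', rfl⟩ := X.isExtension.proj_surjective z
      refine ⟨r', ?_⟩
      rw [mul_comm, X.isExtension.mul_incl, smul_eq_mul, mul_one]
    · rintro ⟨r', rfl⟩
      rw [map_mul, (X.isExtension.exact (X.incl 1)).2 ⟨1, rfl⟩, zero_mul]
  ann := fun r hr => by
    change (DualNumber.lift _ : DualNumber k →ₐ[k] X.E) ε * r = 0 at hr
    simp only [DualNumber.lift_apply_eps] at hr
    rw [mul_comm, X.isExtension.mul_incl, smul_eq_mul, mul_one] at hr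
    have := X.isExtension.incl_injective (hr.trans (map_zero X.incl).symm)
    exact this

theorem dataOfExt_eps (X : Exal.Ext k B B) : (dataOfExt X).φ ε = X.incl 1 := by
  change (DualNumber.lift _ : DualNumber k →ₐ[k] X.E) ε = _
  simp only [DualNumber.lift_apply_eps]

/-- the extension attached to the ring data of an extension is equivalent to it -/
theorem nonempty_equiv_dataOfExt (X : Exal.Ext k B B) :
    Nonempty (Exal.Ext.Equiv (dataOfExt X).ext X) := by
  refine ⟨⟨AlgEquiv.ofRingEquiv (f := RingEquiv.refl X.E) (fun c => ?_), fun x => rfl, fun z => ?_⟩⟩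
  · change (DualNumber.lift _ : DualNumber k →ₐ[k] X.E) (algebraMap k (DualNumber k) c) = _
    rw [AlgHom.commutes]
  · change (dataOfExt X).φ ε * (dataOfExt X).σ z = X.incl z
    rw [dataOfExt_eps, mul_comm, X.isExtension.mul_incl]
    have : X.proj ((dataOfExt X).σ z) = z := (dataOfExt X).π_σ z
    rw [this, smul_eq_mul, mul_one]

end Groth.Agent.Lib.DefSchDual
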