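import Mathlib
import Groth.Prelude.Def_ArtFun4
import Groth.Prelude.Def_Exal
import Groth.Agent.Lib.ArtFunFactor

/-!
# Rigidity, algebraic core

If every `k`-algebra extension of `B₀` by `B₀` is trivial, then every flat deformation `R` of `B₀`
over a local Artinian `k`-algebra `A` with residue field `k` admits a `k`-algebra section
`B₀ → R` of the projection `R → B₀`.
-/

set_option autoImplicit false
set_option linter.unusedVariables false
set_option linter.unusedSectionVars false

universe u

open ArtFun ArtFun.Art IsLocalRing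

namespace Groth.Agent.Lib.DefSchRigid

theorem aux_rel {A M : Type*} [CommRing A] [AddCommGroup M] [Module A M] [Module.Flat A M]
    (x : A) (r : M) (s : Finset M) (a : M → A) (h : x • r = ∑ m ∈ s, a m • m) :
    ∃ (n : ℕ) (c : Fin n → A) (y : Fin n → M), r = ∑ j, c j • y j ∧
      ∀ j, ∃ d : s → A, x * c j = ∑ m : s, a m.1 * d m := by
  classical
  have hrel : ∑ o : Option s, (o.elim x (fun m => -(a m.1)) : A) • (o.elim r (fun m => m.1) : M)
      = 0 := by
    rw [Fintype.sum_option]
    simp only [Option.elim_none, Option.elim_some]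
    rw [Finset.sum_coe_sort s (fun m => (-(a m)) • (m : M)), h]
    simp only [neg_smul, Finset.sum_neg_distrib, add_neg_cancel]
  have H := Module.Flat.isTrivialRelation_of_sum_smul_eq_zero hrel
  unfold Module.IsTrivialRelation at H
  refine H.elim fun n H => H.elim fun b H => H.elim fun y H => ?_
  refine ⟨n, b none, y, H.1 none, fun j => ⟨fun m => b (some m) j, ?_⟩⟩
  have h3 := H.2 j
  rw [Fintype.sum_option] at h3
  simp only [Option.elim_none, Option.elim_some] at h3
  rw [← sub_eq_zero, ← h3]
  simp only [neg_mul, Finset.sum_neg_distrib, sub_eq_add_neg]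

/-- Flatness and colon ideals: if `x ∉ K` and `x r ∈ K R` then `r ∈ m R`. -/
theorem mem_map_maximalIdeal_of_mul_mem {A R : Type*} [CommRing A] [IsLocalRing A] [CommRing R]
    (φ : A →+* R) (hflat : φ.Flat) (K : Ideal A) (x : A) (hx : x ∉ K) (r : R)
    (h : φ x * r ∈ K.map φ) : r ∈ (maximalIdeal A).map φ := by
  classical
  let _ : Algebra A R := φ.toAlgebra
  have hF : Module.Flat A R := hflat
  have h1 : x • r ∈ (K • ⊤ : Submodule A R) := by
    rw [Ideal.smul_top_eq_map]
    exact h
  have h2 : (⊤ : Submodule A R) = Submodule.span A (Set.range (id : R → R)) := by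
    rw [Set.range_id, Submodule.span_univ]
  rw [h2, Submodule.mem_ideal_smul_span_iff_exists_sum] at h1
  have H : ∃ (s : Finset R) (a : R → A), (∀ m, a m ∈ K) ∧ x • r = ∑ m ∈ s, a m • m :=
    h1.elim fun a h1 => h1.elim fun ha hsum => ⟨a.support, a, ha, by
      rw [← hsum, Finsupp.sum]
      rfl⟩
  refine H.elim fun s H => H.elim fun a H => ?_
  have H2 := aux_rel x r s a H.2
  refine H2.elim fun n H2 => H2.elim fun c H2 => H2.elim fun y H2 => ?_
  have hbm : ∀ j, c j ∈ maximalIdeal A := by
    intro j
    have h5 : x * c j ∈ K := by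
      refine (H2.2 j).elim fun d hd => ?_
      rw [hd]
      exact K.sum_mem fun m _ => K.mul_mem_right _ (H.1 m.1)
    by_contra hnm
    have hu : IsUnit (c j) := by
      by_contra hnu
      exact hnm ((mem_maximalIdeal _).2 hnu)
    apply hx
    have : x = x * c j * ↑hu.unit⁻¹ := by
      rw [mul_assoc, IsUnit.mul_val_inv, mul_one]
    rw [this]
    exact K.mul_mem_right _ h5
  have h6 : r ∈ (maximalIdeal A • ⊤ : Submodule A R) := by
    rw [H2.1]
    exact Submodule.sum_mem _ fun j _ => Submodule.smul_mem_smul (hbm j) Submodule.mem_top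
  rw [Ideal.smul_top_eq_map] at h6
  exact h6


section Step

variable {k : Type u} [Field k] {B₀ : Type u} [CommRing B₀] [Algebra k B₀]
  {A : Art k k} {R : Type u} [CommRing R] [Algebra k R]
  (φ : A →+* R) (π : R →ₐ[k] B₀)

/-- the inductive predicate: a `k`-subalgebra of `R` containing `K R`, mapping onto `B₀`,
whose intersection with the kernel of `π` is `K R`. -/
def Q (K : Ideal A) : Prop :=
  ∃ E : Subalgebra k R, (∀ r ∈ K.map φ, r ∈ E) ∧ (∀ b, ∃ e ∈ E, π e = b) ∧
    (∀ e ∈ E, π e = 0 → e ∈ K.map φ)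

variable (hflat : φ.Flat) (hπ : Function.Surjective π)
  (hker : ∀ r : R, π r = 0 ↔ r ∈ (maximalIdeal A).map φ)

include hflat hπ hker in
theorem step (hT : ∀ E : Exal.Ext k B₀ B₀, E.IsTrivial) (K : Ideal A) (x : A)
    (hxm : x ∈ maximalIdeal A) (hxK : x ∉ K) (hmx : ∀ a ∈ maximalIdeal A, a * x ∈ K)
    (hQ : Q φ π (K ⊔ Ideal.span {x})) : Q φ π K := by
  obtain ⟨E, hE0, hE1, hE2⟩ := hQ
  have hKtop : K ≠ ⊤ := fun h => hxK (h ▸ Submodule.mem_top)
  have hKm : K ≤ maximalIdeal A := IsLocalRing.le_maximalIdeal hKtop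
  have hKπ : ∀ r ∈ K.map φ, π r = 0 := fun r hr => (hker r).2 (Ideal.map_mono hKm hr)
  have K1 : ∀ r, π r = 0 → φ x * r ∈ K.map φ := by
    intro r hr
    have h1 : φ x * r ∈ (Ideal.span {x} * maximalIdeal A).map φ := by
      rw [Ideal.map_mul]
      exact Ideal.mul_mem_mul (Ideal.mem_map_of_mem φ (Ideal.mem_span_singleton_self x))
        ((hker r).1 hr)
    refine Ideal.map_mono ?_ h1
    rw [Ideal.span_singleton_mul_le_iff]
    intro z hz
    rw [mul_comm]
    exact hmx z hz
  have hxE : ∀ r, φ x * r ∈ E := fun r =>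
    hE0 _ (Ideal.mul_mem_right _ _ (Ideal.mem_map_of_mem φ
      (Ideal.mem_sup_right (Ideal.mem_span_singleton_self x))))
  have hKE : ∀ r ∈ K.map φ, r ∈ E := fun r hr => hE0 r (Ideal.map_mono le_sup_left hr)
  let IK : Ideal E := (K.map φ).comap E.val
  let mk : E →ₐ[k] (E ⧸ IK) := Ideal.Quotient.mkₐ k IK
  have hmk0 : ∀ e : E, mk e = 0 ↔ e.1 ∈ K.map φ := fun e => by
    change Ideal.Quotient.mk IK e = 0 ↔ _
    rw [Ideal.Quotient.eq_zero_iff_mem, Ideal.mem_comap]
    rfl
  have hmk_surj : Function.Surjective mk := Ideal.Quotient.mk_surjective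
  let proj : (E ⧸ IK) →ₐ[k] B₀ := Ideal.Quotient.liftₐ IK (π.comp E.val)
    (fun e he => hKπ _ (Ideal.mem_comap.mp he))
  have hproj : ∀ e : E, proj (mk e) = π e.1 := fun e => rfl
  let τ : R →+ (E ⧸ IK) :=
    { toFun := fun r => mk ⟨φ x * r, hxE r⟩
      map_zero' := by
        have : (⟨φ x * 0, hxE 0⟩ : E) = 0 := Subtype.ext (mul_zero _)
        rw [this, map_zero]
      map_add' := fun r r' => by
        have : (⟨φ x * (r + r'), hxE (r + r')⟩ : E) =
            ⟨φ x * r, hxE r⟩ + ⟨φ x * r', hxE r'⟩ := Subtype.ext (mul_add _ _ _)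
        rw [this, map_add] }
  have hτ0 : ∀ r, τ r = 0 ↔ φ x * r ∈ K.map φ := fun r => hmk0 _
  have hτker : ∀ r, π r = 0 → τ r = 0 := fun r hr => (hτ0 r).2 (K1 r hr)
  have hτeq : ∀ r r', π r = π r' → τ r = τ r' := by
    intro r r' h
    rw [← sub_eq_zero, ← map_sub]
    apply hτker
    rw [map_sub, h, sub_self]
  let σ : B₀ → R := Function.surjInv hπ
  have hσ : ∀ b, π (σ b) = b := Function.surjInv_eq hπ
  let incl : B₀ →+ (E ⧸ IK) :=
    { toFun := fun b => τ (σ b)
      map_zero' := hτker _ (by rw [hσ])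
      map_add' := fun b b' => by
        rw [← map_add τ]
        apply hτeq
        rw [map_add, hσ, hσ, hσ] }
  have hincl : ∀ r, incl (π r) = τ r := fun r => hτeq _ _ (hσ _)
  have hπx : π (φ x) = 0 := (hker _).2 (Ideal.mem_map_of_mem φ hxm)
  let X : Exal.Ext k B₀ B₀ :=
    { E := E ⧸ IK
      proj := proj
      incl := incl
      isExtension :=
        { proj_surjective := fun b => by
            obtain ⟨e, he, hb⟩ := hE1 b
            exact ⟨mk ⟨e, he⟩, hb⟩
          incl_injective := by
            rw [injective_iff_map_eq_zero]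
            intro b hb
            have h1 : φ x * σ b ∈ K.map φ := (hτ0 _).1 hb
            have h2 := mem_map_maximalIdeal_of_mul_mem φ hflat K x hxK _ h1
            rw [← hσ b]
            exact (hker _).2 h2
          exact := fun y => by
            obtain ⟨e, rfl⟩ := hmk_surj y
            constructor
            · intro hy
              rw [hproj] at hy
              have h1 := hE2 e.1 e.2 hy
              rw [Ideal.map_sup, Ideal.map_span, Set.image_singleton, Submodule.mem_sup] at h1
              obtain ⟨κ, hκ, z, hz, hsum⟩ := h1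
              rw [Ideal.mem_span_singleton'] at hz
              obtain ⟨c, rfl⟩ := hz
              refine ⟨π c, ?_⟩
              change incl (π c) = mk e
              rw [hincl]
              rw [← sub_eq_zero]
              change mk ⟨φ x * c, hxE c⟩ - mk e = 0
              rw [← map_sub, hmk0]
              change φ x * c - e.1 ∈ _
              rw [← hsum]
              have : φ x * c - (κ + c * φ x) = -κ := by ring
              rw [this]
              exact (K.map φ).neg_mem hκ
            · rintro ⟨b, hb⟩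
              rw [← hb]
              change proj (mk ⟨φ x * σ b, hxE _⟩) = 0
              rw [hproj]
              change π (φ x * σ b) = 0
              rw [map_mul, hπx, zero_mul]
          mul_incl := fun y z => by
            obtain ⟨e, rfl⟩ := hmk_surj y
            change mk e * mk ⟨φ x * σ z, hxE _⟩ = incl (proj (mk e) • z)
            rw [hproj, smul_eq_mul, ← map_mul, ← hσ z, ← map_mul π, hincl, hσ z]
            change _ = mk ⟨φ x * (e.1 * σ z), hxE _⟩
            congr 1
            apply Subtype.ext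
            change e.1 * (φ x * σ z) = φ x * (e.1 * σ z)
            ring } }
  obtain ⟨s, hs⟩ := hT X
  have hs' : ∀ b, proj (s b) = b := hs
  refine ⟨(Subalgebra.comap mk s.range).map E.val, ?_, ?_, ?_⟩
  · intro r hr
    rw [Subalgebra.mem_map]
    refine ⟨⟨r, hKE r hr⟩, ?_, rfl⟩
    rw [Subalgebra.mem_comap, (hmk0 _).2 hr]
    exact Subalgebra.zero_mem _
  · intro b
    obtain ⟨e, he⟩ := hmk_surj (s b)
    refine ⟨e.1, ?_, ?_⟩
    · rw [Subalgebra.mem_map]
      refine ⟨e, ?_, rfl⟩
      rw [Subalgebra.mem_comap, he]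
      exact ⟨b, rfl⟩
    · rw [← hproj, he, hs']
  · intro r hr hπr
    rw [Subalgebra.mem_map] at hr
    obtain ⟨e, he, rfl⟩ := hr
    rw [Subalgebra.mem_comap] at he
    obtain ⟨b, hb⟩ := he
    replace hb : s b = mk e := hb
    have hb0 : b = 0 := by
      rw [← hs' b]
      rw [hb, hproj]
      exact hπr
    rw [hb0, map_zero] at hb
    exact (hmk0 e).1 hb.symm

include hflat hπ hker in
theorem Q_all (hT : ∀ E : Exal.Ext k B₀ B₀, E.IsTrivial) (K : Ideal A)
    (hK : K ≤ maximalIdeal A) : Q φ π K := by
  induction K using WellFoundedGT.induction with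
  | ind K ih =>
    by_cases hKm : K = maximalIdeal A
    · subst hKm
      exact ⟨⊤, fun _ _ => Algebra.mem_top, fun b => (hπ b).elim fun e he => ⟨e, Algebra.mem_top, he⟩,
        fun e _ he => (hker e).1 he⟩
    · have hlt : K < maximalIdeal A := lt_of_le_of_ne hK hKm
      obtain ⟨x, hxm, hxK, hmx⟩ :=
        Groth.Agent.Lib.ArtFunFactor.exists_next K (maximalIdeal A) hlt le_rfl
      have hJ : K < K ⊔ Ideal.span {x} := by
        refine lt_of_le_of_ne le_sup_left fun h => hxK ?_
        rw [h]
        exact Ideal.mem_sup_right (Ideal.mem_span_singleton_self x)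
      have hJm : K ⊔ Ideal.span {x} ≤ maximalIdeal A :=
        sup_le hK ((Ideal.span_singleton_le_iff_mem _).2 hxm)
      exact step φ π hflat hπ hker hT K x hxm hxK hmx (ih _ hJ hJm)

include hflat hπ hker in
/-- **Rigidity, algebraic form**: if all extensions of `B₀` by `B₀` are trivial, the projection
`π : R → B₀` of a flat deformation over an Artinian local `k`-algebra has a `k`-algebra section. -/
theorem exists_section (hT : ∀ E : Exal.Ext k B₀ B₀, E.IsTrivial) :
    ∃ s : B₀ →ₐ[k] R, ∀ b, π (s b) = b := by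
  obtain ⟨E, -, hE1, hE2⟩ := Q_all φ π hflat hπ hker hT ⊥ bot_le
  have hbij : Function.Bijective (π.comp E.val) := by
    constructor
    · rw [injective_iff_map_eq_zero]
      intro e he
      have h1 := hE2 e.1 e.2 he
      rw [Ideal.map_bot, Ideal.mem_bot] at h1
      exact Subtype.ext h1
    · intro b
      obtain ⟨e, he, hb⟩ := hE1 b
      exact ⟨⟨e, he⟩, hb⟩
  let ε := AlgEquiv.ofBijective (π.comp E.val) hbij
  refine ⟨E.val.comp ε.symm.toAlgHom, fun b => ?_⟩
  change (π.comp E.val) (ε.symm b) = b
  exact ε.apply_symm_apply b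

end Step

end Groth.Agent.Lib.DefSchRigid
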