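import Mathlib
import Groth.Agent.Lib.DefSchAff1
import Groth.Agent.Lib.DefSchRigid1
import Groth.Agent.Lib.DefSchDual1

/-!
# Affine deformations from ring data; first order deformations
-/

set_option autoImplicit false
set_option linter.unusedVariables false
set_option linter.unusedSectionVars false

universe u

open CategoryTheory CategoryTheory.Limits AlgebraicGeometry ArtFun ArtFun.Art

namespace Groth.Agent.Lib.DefSchAff

section OfRing

variable {Λ : Type u} {k : Type u} [CommRing Λ] [Field k] [Algebra Λ k]
variable {B₀ : Type u} [CommRing B₀] [Algebra k B₀] {A : Art Λ k}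

/-- the affine deformation attached to ring data -/
noncomputable def ofRing (R : Type u) [CommRing R] (φ : A →+* R) (hflat : φ.Flat) (π : R →+* B₀)
    (hcomm : ∀ a, π (φ a) = algebraMap k B₀ (A.res a)) (hπ : Function.Surjective π)
    (hker : RingHom.ker π = (IsLocalRing.maximalIdeal A).map φ) :
    DefSch (Spec (CommRingCat.of B₀)) (Spec.map (CommRingCat.ofHom (algebraMap k B₀))) A where
  total := Spec (CommRingCat.of R)
  f := Spec.map (CommRingCat.ofHom φ)
  flat := Flat.SpecMap_iff.mpr hflat
  i := Spec.map (CommRingCat.ofHom π)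
  isPullback := isPullback_SpecMap_of_isPushout _ _ _ _
    (isPushout_of_surjective φ A.res.toRingHom π (algebraMap k B₀) (RingHom.ext hcomm)
      A.res_surjective hπ (by rw [hker, ker_res]))

variable (R : Type u) [CommRing R] (φ : A →+* R) (hflat : φ.Flat) (π : R →+* B₀)
    (hcomm : ∀ a, π (φ a) = algebraMap k B₀ (A.res a)) (hπ : Function.Surjective π)
    (hker : RingHom.ker π = (IsLocalRing.maximalIdeal A).map φ)

theorem algA_ofRing (a : A) : algA (ofRing R φ hflat π hcomm hπ hker) a =
    (Scheme.ΓSpecIso (CommRingCat.of R)).inv.hom (φ a) := by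
  have h := Scheme.ΓSpecIso_inv_naturality (CommRingCat.ofHom φ)
  exact (congrArg (fun f : CommRingCat.of A ⟶ Γ(Spec (CommRingCat.of R), ⊤) => f.hom a) h).symm

theorem proj_ofRing (r : Γ(Spec (CommRingCat.of R), ⊤)) :
    proj (ofRing R φ hflat π hcomm hπ hker) r =
      π ((Scheme.ΓSpecIso (CommRingCat.of R)).hom.hom r) := by
  have h := Scheme.ΓSpecIso_naturality (CommRingCat.ofHom π)
  exact congrArg (fun f : Γ(Spec (CommRingCat.of R), ⊤) ⟶ CommRingCat.of B₀ => f.hom r) h

end OfRing

section Dual

open Groth.Agent.Lib.DefSchDual DualNumber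

variable {k : Type u} [Field k] {B : Type u} [CommRing B] [Algebra k B]

/-- the identity, as a ring hom from `k[ε]` to the carrier of the object `Art.dual k k` -/
def toD : DualNumber k →+* (Art.dual k k) := RingHom.id (DualNumber k)

theorem res_toD (a : DualNumber k) : (Art.dual k k).res (toD a) = a.fst := rfl

theorem toD_surjective : Function.Surjective (toD (k := k)) := fun a => ⟨a, rfl⟩

theorem toD_injective : Function.Injective (toD (k := k)) := fun a b h => h

theorem maximalIdeal_dual :
    IsLocalRing.maximalIdeal (Art.dual k k) = Ideal.span {toD (ε : DualNumber k)} := by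
  ext a
  obtain ⟨a, rfl⟩ := toD_surjective a
  rw [mem_maximalIdeal_iff, res_toD, Ideal.mem_span_singleton']
  constructor
  · intro h
    refine ⟨toD (TrivSqZeroExt.inl a.snd), ?_⟩
    rw [← map_mul]
    congr 1
    ext <;> simp [h]
  · rintro ⟨c, hc⟩
    obtain ⟨c, rfl⟩ := toD_surjective c
    rw [← map_mul] at hc
    have := toD_injective hc
    rw [← this]
    simp

/-- the ring data of a first order deformation of `Spec B` -/
noncomputable def dataOf
    (ξ : DefSch (Spec (CommRingCat.of B)) (Spec.map (CommRingCat.ofHom (algebraMap k B)))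
      (Art.dual k k)) : Data k B where
  R := Γ(ξ.total, ⊤)
  φ := (algA ξ).comp toD
  π := proj ξ
  comm := fun c => by
    rw [RingHom.comp_apply, proj_algA, res_toD, TrivSqZeroExt.algebraMap_eq_inl,
      TrivSqZeroExt.fst_inl]
  surj := proj_surjective ξ
  ker := fun r => by
    rw [← RingHom.mem_ker, ker_proj, maximalIdeal_dual, Ideal.map_span, Set.image_singleton,
      Ideal.mem_span_singleton', RingHom.comp_apply]
    constructor
    · rintro ⟨c, h⟩
      exact ⟨c, by rw [← h, mul_comm]⟩
    · rintro ⟨c, h⟩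
      exact ⟨c, by rw [h, mul_comm]⟩
  ann := fun r hr => by
    have hε : toD (ε : DualNumber k) ∉ (⊥ : Ideal (Art.dual k k)) := by
      rw [Ideal.mem_bot]
      intro h
      have h2 : (ε : DualNumber k) = 0 := toD_injective (h.trans (map_zero toD).symm)
      have := congrArg TrivSqZeroExt.snd h2
      simp at this
    rw [RingHom.comp_apply] at hr
    have h1 := Groth.Agent.Lib.DefSchRigid.mem_map_maximalIdeal_of_mul_mem (algA ξ) (flat_algA ξ)
      ⊥ (toD ε) hε r (by rw [hr, Ideal.map_bot]; exact Ideal.zero_mem _)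
    rw [← ker_proj] at h1
    exact h1


/-- the inverse identity -/
def ofD : (Art.dual k k) →+* DualNumber k := RingHom.id (DualNumber k)

theorem ofD_toD (a : DualNumber k) : ofD (toD a) = a := rfl

theorem toD_ofD (a : Art.dual k k) : toD (ofD a) = a := rfl

theorem fst_ofD (a : Art.dual k k) : (ofD a).fst = (Art.dual k k).res a := rfl

/-- first order deformations of `Spec B` up to isomorphism are extensions of `B` by `B` up to
equivalence -/
theorem nonempty_equiv_exalcom :
    Nonempty ((ArtFun.defFunctor (Λ := k) (Spec (CommRingCat.of B))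
      (Spec.map (CommRingCat.ofHom (algebraMap k B)))).obj (Art.dual k k) ≃
        Exal.Exalcom k B B) := by
  let F : DefSch (Spec (CommRingCat.of B)) (Spec.map (CommRingCat.ofHom (algebraMap k B)))
      (Art.dual k k) → Exal.Ext k B B := fun ξ => (dataOf ξ).ext
  have hF : ∀ ξ ξ' : DefSch (Spec (CommRingCat.of B))
      (Spec.map (CommRingCat.ofHom (algebraMap k B))) (Art.dual k k),
      Nonempty (ξ.Iso ξ') → Nonempty (Exal.Ext.Equiv (F ξ) (F ξ')) := by
    rintro ξ ξ' ⟨e⟩
    have hiso : IsIso e.iso.hom.appTop := inferInstanceAs (IsIso (e.iso.hom.app ⊤))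
    have hb : Function.Bijective e.iso.hom.appTop.hom :=
      (ConcreteCategory.isIso_iff_bijective _).mp hiso
    obtain ⟨E⟩ := nonempty_equiv_of_hom (dataOf ξ) (dataOf ξ') e.iso.hom.appTop.hom hb
      (fun a => congrArg (fun f : (Art.dual k k) →+* Γ(ξ.total, ⊤) => f (toD a))
        (appTop_comp_algA e.iso.hom e.hom_f))
      (fun r => congrArg (fun f : Γ(ξ'.total, ⊤) →+* B => f r)
        (proj_comp_appTop e.iso.hom e.i_hom))
    exact ⟨E.symm⟩
  let Φ : Quotient (DefSch.setoid (Spec (CommRingCat.of B))
      (Spec.map (CommRingCat.ofHom (algebraMap k B))) (Art.dual k k)) → Exal.Exalcom k B B :=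
    Quotient.map F hF
  have hinj : Function.Injective Φ := by
    intro q q'
    induction q using Quotient.inductionOn with
    | h ξ =>
    induction q' using Quotient.inductionOn with
    | h ξ' =>
    intro h
    have h' : Nonempty (Exal.Ext.Equiv (F ξ) (F ξ')) := Quotient.exact h
    obtain ⟨E⟩ := h'
    obtain ⟨ψ, h1, h2⟩ := exists_hom_of_equiv (dataOf ξ) (dataOf ξ') E
    obtain ⟨φ, hf, hi, -⟩ := exists_hom_of_ringHom (ξ := ξ') (ξ' := ξ) ψ
      (RingHom.ext fun a => h1 (ofD a)) (RingHom.ext h2)
    exact Quotient.sound ⟨(isoOfHom φ hf hi).symm⟩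
  have hsurj : Function.Surjective Φ := by
    intro q
    induction q using Quotient.inductionOn with
    | h X =>
    let d := dataOfExt X
    have hflat : (d.φ.comp ofD).Flat := d.flat
    have hcomm : ∀ a : Art.dual k k, d.π ((d.φ.comp ofD) a) =
        algebraMap k B ((Art.dual k k).res a) := fun a => by
      rw [RingHom.comp_apply, d.comm', fst_ofD]
    have hker : RingHom.ker d.π = (IsLocalRing.maximalIdeal (Art.dual k k)).map (d.φ.comp ofD) := by
      ext r
      rw [RingHom.mem_ker, d.ker, maximalIdeal_dual, Ideal.map_span, Set.image_singleton,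
        Ideal.mem_span_singleton', RingHom.comp_apply, ofD_toD]
      constructor
      · rintro ⟨c, h⟩
        exact ⟨c, by rw [h, mul_comm]⟩
      · rintro ⟨c, h⟩
        exact ⟨c, by rw [← h, mul_comm]⟩
    let ζ := ofRing d.R (d.φ.comp ofD) hflat d.π hcomm d.surj hker
    refine ⟨Quotient.mk _ ζ, ?_⟩
    apply Quotient.sound
    have hb : Function.Bijective (Scheme.ΓSpecIso (CommRingCat.of d.R)).inv.hom :=
      (ConcreteCategory.isIso_iff_bijective _).mp inferInstance
    obtain ⟨E1⟩ := nonempty_equiv_of_hom (dataOf ζ) d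
      (Scheme.ΓSpecIso (CommRingCat.of d.R)).inv.hom hb
      (fun a => (algA_ofRing d.R (d.φ.comp ofD) hflat d.π hcomm d.surj hker (toD a)).symm)
      (fun r => by
        have h := proj_ofRing d.R (d.φ.comp ofD) hflat d.π hcomm d.surj hker
          ((Scheme.ΓSpecIso (CommRingCat.of d.R)).inv.hom r)
        have e1 : (Scheme.ΓSpecIso (CommRingCat.of d.R)).hom.hom
            ((Scheme.ΓSpecIso (CommRingCat.of d.R)).inv.hom r) = r :=
          congrArg (fun f : CommRingCat.of d.R ⟶ CommRingCat.of d.R => f.hom r)
            (Scheme.ΓSpecIso (CommRingCat.of d.R)).inv_hom_id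
        rw [e1] at h
        exact h)
    obtain ⟨E2⟩ := nonempty_equiv_dataOfExt X
    exact ⟨E1.symm.trans E2⟩
  exact ⟨Equiv.ofBijective Φ ⟨hinj, hsurj⟩⟩

end Dual

end Groth.Agent.Lib.DefSchAff
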