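import Mathlib
import Groth.Agent.Lib.ArtinianFlat

/-!
# The family `xy = a` of deformations of the node (ring level)
-/

set_option autoImplicit false
set_option linter.unusedVariables false
set_option linter.unusedSectionVars false

universe u

open TensorProduct Function IsLocalRing

namespace Groth.Agent.Lib.NodeDef

section Flat

variable {A : Type*} [CommRing A] [IsLocalRing A] (hnil : IsNilpotent (maximalIdeal A))

include hnil in
/-- quotient of a flat algebra by an element which is a nonzerodivisor on the closed fibre -/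
theorem flat_quotient_span_singleton {P : Type*} [CommRing P] [Algebra A P] [Module.Flat A P]
    (f : P)
    (hf : ∀ z : ResidueField A ⊗[A] P, ((1 : ResidueField A) ⊗ₜ[A] f) * z = 0 → z = 0) :
    Module.Flat A (P ⧸ Ideal.span {f}) := by
  let h : P →ₗ[A] P := LinearMap.mulLeft A f
  let g : P →ₗ[A] (P ⧸ Ideal.span {f}) := (Ideal.Quotient.mkₐ A (Ideal.span {f})).toLinearMap
  have hfg : Exact h g := by
    intro p
    change Ideal.Quotient.mk _ p = 0 ↔ _
    rw [Ideal.Quotient.eq_zero_iff_mem, Ideal.mem_span_singleton']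
    constructor
    · rintro ⟨q, rfl⟩
      exact ⟨q, mul_comm _ _⟩
    · rintro ⟨q, rfl⟩
      exact ⟨q, mul_comm _ _⟩
  have hg : Surjective g := Ideal.Quotient.mk_surjective
  have hmul : ∀ z : ResidueField A ⊗[A] P, h.lTensor (ResidueField A) z =
      ((1 : ResidueField A) ⊗ₜ[A] f) * z := by
    intro z
    induction z using TensorProduct.induction_on with
    | zero => simp
    | tmul c p =>
      rw [LinearMap.lTensor_tmul, Algebra.TensorProduct.tmul_mul_tmul, one_mul]
      rfl
    | add x y hx hy => rw [map_add, hx, hy, mul_add]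
  have hi : Injective (h.lTensor (ResidueField A)) := by
    rw [injective_iff_map_eq_zero]
    intro z hz
    rw [hmul] at hz
    exact hf z hz
  exact Groth.Agent.Lib.ArtinianFlat.flat_quotient_of_lTensor_injective hnil hfg hg hi

include hnil in
theorem flat_mvPolynomial_quotient {σ : Type*} (f : MvPolynomial σ A)
    (hf : MvPolynomial.map (algebraMap A (ResidueField A)) f ≠ 0) :
    Module.Flat A (MvPolynomial σ A ⧸ Ideal.span {f}) := by
  apply flat_quotient_span_singleton hnil
  intro z hz
  let e := MvPolynomial.algebraTensorAlgEquiv (σ := σ) A (ResidueField A)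
  have h1 : e (((1 : ResidueField A) ⊗ₜ[A] f) * z) = 0 := by rw [hz, map_zero]
  rw [map_mul, MvPolynomial.algebraTensorAlgEquiv_tmul, one_smul] at h1
  rcases mul_eq_zero.mp h1 with h | h
  · exact absurd h hf
  · exact (map_eq_zero_iff e e.injective).mp h

end Flat

section Node

open MvPolynomial

variable {A : Type u} [CommRing A]

/-- the polynomial `xy - a` -/
noncomputable def nodePoly (a : A) : MvPolynomial (Fin 2) A := X 0 * X 1 - C a

/-- the ring `A[x,y]/(xy - a)` -/
abbrev NodeRing (a : A) : Type u := MvPolynomial (Fin 2) A ⧸ Ideal.span {nodePoly a}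

/-- the coordinate `x` -/
noncomputable def nx (a : A) : NodeRing a := Ideal.Quotient.mk _ (X 0)

/-- the coordinate `y` -/
noncomputable def ny (a : A) : NodeRing a := Ideal.Quotient.mk _ (X 1)

theorem nx_mul_ny (a : A) : nx a * ny a = algebraMap A (NodeRing a) a := by
  unfold nx ny
  rw [← map_mul]
  change _ = Ideal.Quotient.mk _ (C a)
  rw [Ideal.Quotient.eq]
  exact Ideal.subset_span rfl

/-- maps out of the node ring -/
noncomputable def nodeLift {S : Type*} [CommRing S] (g : A →+* S) (a : A) (x' y' : S)
    (h : x' * y' = g a) : NodeRing a →+* S :=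
  Ideal.Quotient.lift _ (eval₂Hom g ![x', y']) (by
    intro p hp
    rw [Ideal.mem_span_singleton'] at hp
    obtain ⟨q, rfl⟩ := hp
    rw [map_mul]
    unfold nodePoly
    rw [map_sub, map_mul, eval₂Hom_X', eval₂Hom_X', eval₂Hom_C]
    simp [h])

theorem nodeLift_algebraMap {S : Type*} [CommRing S] (g : A →+* S) (a : A) (x' y' : S)
    (h : x' * y' = g a) (c : A) : nodeLift g a x' y' h (algebraMap A (NodeRing a) c) = g c := by
  change nodeLift g a x' y' h (Ideal.Quotient.mk _ (C c)) = _
  unfold nodeLift
  rw [Ideal.Quotient.lift_mk, eval₂Hom_C]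

theorem nodeLift_nx {S : Type*} [CommRing S] (g : A →+* S) (a : A) (x' y' : S)
    (h : x' * y' = g a) : nodeLift g a x' y' h (nx a) = x' := by
  unfold nodeLift nx
  rw [Ideal.Quotient.lift_mk, eval₂Hom_X']
  rfl

theorem nodeLift_ny {S : Type*} [CommRing S] (g : A →+* S) (a : A) (x' y' : S)
    (h : x' * y' = g a) : nodeLift g a x' y' h (ny a) = y' := by
  unfold nodeLift ny
  rw [Ideal.Quotient.lift_mk, eval₂Hom_X']
  rfl

/-- two maps out of the node ring agreeing on `A`, `x`, `y` are equal -/
theorem nodeRing_hom_ext {S : Type*} [CommRing S] (a : A) (f g : NodeRing a →+* S)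
    (h0 : ∀ c, f (algebraMap A (NodeRing a) c) = g (algebraMap A (NodeRing a) c))
    (h1 : f (nx a) = g (nx a)) (h2 : f (ny a) = g (ny a)) : f = g := by
  apply Ideal.Quotient.ringHom_ext
  apply MvPolynomial.ringHom_ext
  · intro c
    exact h0 c
  · intro i
    fin_cases i
    · exact h1
    · exact h2

end Node

section Proj

open MvPolynomial

variable {A : Type u} [CommRing A] {k : Type u} [Field k]

/-- the coordinate ring `k[x,y]/(xy)` of the node -/
abbrev NodeB (k : Type u) [Field k] : Type u :=
  MvPolynomial (Fin 2) k ⧸ Ideal.span {(X 0 * X 1 : MvPolynomial (Fin 2) k)}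

theorem nodeB_xy : (Ideal.Quotient.mk (Ideal.span {(X 0 * X 1 : MvPolynomial (Fin 2) k)}) (X 0)) *
    (Ideal.Quotient.mk _ (X 1)) = 0 := by
  rw [← map_mul, Ideal.Quotient.eq_zero_iff_mem]
  exact Ideal.subset_span rfl

variable (res : A →+* k) (a : A) (ha : res a = 0)

/-- reduction `A[x,y]/(xy-a) → k[x,y]/(xy)` -/
noncomputable def nodeProj : NodeRing a →+* NodeB k :=
  nodeLift ((algebraMap k (NodeB k)).comp res) a (Ideal.Quotient.mk _ (X 0))
    (Ideal.Quotient.mk _ (X 1)) (by rw [nodeB_xy, RingHom.comp_apply, ha, map_zero])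

theorem nodeProj_algebraMap (c : A) :
    nodeProj res a ha (algebraMap A (NodeRing a) c) = algebraMap k (NodeB k) (res c) :=
  nodeLift_algebraMap _ _ _ _ _ c

theorem nodeProj_mk (p : MvPolynomial (Fin 2) A) :
    nodeProj res a ha (Ideal.Quotient.mk _ p) = Ideal.Quotient.mk _ (MvPolynomial.map res p) := by
  have h : (nodeProj res a ha).comp (Ideal.Quotient.mk _) =
      (Ideal.Quotient.mk (Ideal.span {(X 0 * X 1 : MvPolynomial (Fin 2) k)})).comp
        (MvPolynomial.map res) := by
    apply MvPolynomial.ringHom_ext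
    · intro c
      rw [RingHom.comp_apply, RingHom.comp_apply, map_C]
      exact nodeProj_algebraMap res a ha c
    · intro i
      rw [RingHom.comp_apply, RingHom.comp_apply, map_X]
      fin_cases i
      · exact nodeLift_nx _ _ _ _ _
      · exact nodeLift_ny _ _ _ _ _
  exact RingHom.congr_fun h p

theorem nodeProj_nx : nodeProj res a ha (nx a) = Ideal.Quotient.mk _ (X 0) := nodeLift_nx _ _ _ _ _

theorem nodeProj_ny : nodeProj res a ha (ny a) = Ideal.Quotient.mk _ (X 1) := nodeLift_ny _ _ _ _ _

theorem nodeProj_surjective (hres : Function.Surjective res) :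
    Function.Surjective (nodeProj res a ha) := by
  intro b
  obtain ⟨q, rfl⟩ := Ideal.Quotient.mk_surjective b
  obtain ⟨p, rfl⟩ := MvPolynomial.map_surjective res hres q
  exact ⟨Ideal.Quotient.mk _ p, nodeProj_mk res a ha p⟩

theorem ker_nodeProj (hres : Function.Surjective res) :
    RingHom.ker (nodeProj res a ha) = (RingHom.ker res).map (algebraMap A (NodeRing a)) := by
  apply le_antisymm
  · intro r hr
    obtain ⟨p, rfl⟩ := Ideal.Quotient.mk_surjective r
    rw [RingHom.mem_ker, nodeProj_mk, Ideal.Quotient.eq_zero_iff_mem,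
      Ideal.mem_span_singleton'] at hr
    obtain ⟨qb, hqb⟩ := hr
    obtain ⟨q, rfl⟩ := MvPolynomial.map_surjective res hres qb
    have h1 : p - q * nodePoly a ∈ RingHom.ker (MvPolynomial.map (σ := Fin 2) res) := by
      rw [RingHom.mem_ker, map_sub, map_mul, ← hqb]
      unfold nodePoly
      rw [map_sub, map_mul, map_X, map_X, map_C, ha, map_zero, sub_zero, sub_self]
    rw [MvPolynomial.ker_map] at h1
    have h2 : Ideal.Quotient.mk (Ideal.span {nodePoly a}) p =
        Ideal.Quotient.mk _ (p - q * nodePoly a) := by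
      rw [Ideal.Quotient.eq]
      have : p - (p - q * nodePoly a) = q * nodePoly a := by ring
      rw [this]
      exact Ideal.mul_mem_left _ _ (Ideal.subset_span rfl)
    rw [h2]
    have h3 := Ideal.mem_map_of_mem (Ideal.Quotient.mk (Ideal.span {nodePoly a})) h1
    rw [Ideal.map_map] at h3
    exact h3
  · rw [Ideal.map_le_iff_le_comap]
    intro c hc
    rw [Ideal.mem_comap, RingHom.mem_ker, nodeProj_algebraMap, (RingHom.mem_ker).mp hc, map_zero]

end Proj

section FlatNode

open MvPolynomial

variable {A : Type u} [CommRing A] [IsLocalRing A]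

theorem flat_nodeRing (hnil : IsNilpotent (maximalIdeal A)) (a : A) (ha : a ∈ maximalIdeal A) :
    Module.Flat A (NodeRing a) := by
  apply flat_mvPolynomial_quotient hnil
  unfold nodePoly
  rw [map_sub, map_mul, map_X, map_X, map_C]
  have : algebraMap A (ResidueField A) a = 0 := by
    rw [IsLocalRing.ResidueField.algebraMap_eq]
    exact (IsLocalRing.residue_eq_zero_iff a).mpr ha
  rw [this, map_zero, sub_zero]
  exact mul_ne_zero (X_ne_zero _) (X_ne_zero _)

end FlatNode

end Groth.Agent.Lib.NodeDef
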