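import Mathlib
import Groth.Agent.Lib.NodeDef1
import Groth.Agent.Lib.H69DualFlat

/-!
# The first order deformation `xy = ε` of the node is not trivial (ring level)
-/

set_option autoImplicit false
set_option linter.unusedVariables false
set_option linter.unusedSectionVars false

universe u

open TensorProduct Function IsLocalRing DualNumber MvPolynomial

namespace Groth.Agent.Lib.NodeDef

variable {k : Type u} [Field k]

theorem isNilpotent_maximalIdeal_dualNumber :
    IsNilpotent (maximalIdeal (DualNumber k)) := by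
  refine ⟨2, ?_⟩
  rw [DualNumber.maximalIdeal_eq_span_singleton_eps, Ideal.span_singleton_pow, pow_two,
    eps_mul_eps, Ideal.zero_eq_bot, Ideal.span_singleton_eq_bot]

theorem eps_mem_maximalIdeal : (ε : DualNumber k) ∈ maximalIdeal (DualNumber k) := by
  rw [DualNumber.maximalIdeal_eq_span_singleton_eps]
  exact Ideal.subset_span rfl

/-- evaluation at the singular point of the node -/
noncomputable def nodeOrigin : NodeB k →+* k :=
  Ideal.Quotient.lift _ (MvPolynomial.eval (0 : Fin 2 → k)) (by
    intro p hp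
    rw [Ideal.mem_span_singleton'] at hp
    obtain ⟨q, rfl⟩ := hp
    simp)

theorem nodeOrigin_X (i : Fin 2) : nodeOrigin (Ideal.Quotient.mk _ (X i) : NodeB k) = 0 := by
  unfold nodeOrigin
  rw [Ideal.Quotient.lift_mk]
  simp

/-- no lift of `x, y` to `k[ε][x,y]/(xy - ε)` has product zero -/
theorem mul_ne_zero_of_lift (res : DualNumber k →+* k) (ha : res ε = 0)
    (hres : Function.Surjective res)
    (hker : RingHom.ker res = Ideal.span {(ε : DualNumber k)})
    (x' y' : NodeRing (ε : DualNumber k))
    (hx : nodeProj res ε ha x' = Ideal.Quotient.mk _ (X 0))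
    (hy : nodeProj res ε ha y' = Ideal.Quotient.mk _ (X 1)) : x' * y' ≠ 0 := by
  intro h0
  have hflat : Module.Flat (DualNumber k) (NodeRing (ε : DualNumber k)) :=
    flat_nodeRing isNilpotent_maximalIdeal_dualNumber ε eps_mem_maximalIdeal
  let π := nodeProj res ε ha
  let eε : NodeRing (ε : DualNumber k) := algebraMap (DualNumber k) (NodeRing (ε : DualNumber k)) ε
  have hkerπ : RingHom.ker π = Ideal.span {eε} := by
    change RingHom.ker (nodeProj res ε ha) = _
    rw [ker_nodeProj res ε ha hres, hker, Ideal.map_span, Set.image_singleton]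
  have hx1 : x' - nx ε ∈ RingHom.ker π := by
    rw [RingHom.mem_ker, map_sub]
    change nodeProj res ε ha x' - nodeProj res ε ha (nx ε) = 0
    rw [hx, nodeProj_nx, sub_self]
  have hy1 : y' - ny ε ∈ RingHom.ker π := by
    rw [RingHom.mem_ker, map_sub]
    change nodeProj res ε ha y' - nodeProj res ε ha (ny ε) = 0
    rw [hy, nodeProj_ny, sub_self]
  rw [hkerπ, Ideal.mem_span_singleton'] at hx1 hy1
  obtain ⟨f, hf⟩ := hx1
  obtain ⟨g, hg⟩ := hy1
  have hx2 : x' = nx ε + f * eε := by rw [hf]; ring
  have hy2 : y' = ny ε + g * eε := by rw [hg]; ring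
  have hεε : eε * eε = 0 := by
    change algebraMap (DualNumber k) (NodeRing (ε : DualNumber k)) ε * algebraMap (DualNumber k) (NodeRing (ε : DualNumber k)) ε = 0
    rw [← map_mul, eps_mul_eps, map_zero]
  have hxy : nx ε * ny ε = eε := nx_mul_ny ε
  have h1 : x' * y' = eε * (1 + nx ε * g + ny ε * f) := by
    rw [hx2, hy2]
    have : (nx ε + f * eε) * (ny ε + g * eε) =
        nx ε * ny ε + eε * (nx ε * g + ny ε * f) + f * g * (eε * eε) := by ring
    rw [this, hεε, hxy]
    ring
  rw [h1] at h0
  have h2 : (ε : DualNumber k) • (1 + nx ε * g + ny ε * f : NodeRing (ε : DualNumber k)) = 0 :=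
    (Algebra.smul_def (ε : DualNumber k) (1 + nx ε * g + ny ε * f : NodeRing (ε : DualNumber k))).trans h0
  obtain ⟨m', hm'⟩ := Groth.Agent.Lib.H69DualFlat.exists_eq_eps_smul_of_flat
    (NodeRing (ε : DualNumber k)) _ h2
  have hm'' : (1 + nx ε * g + ny ε * f : NodeRing (ε : DualNumber k)) =
      algebraMap (DualNumber k) (NodeRing (ε : DualNumber k)) ε * m' :=
    hm'.trans (Algebra.smul_def (ε : DualNumber k) m')
  have h3 := congrArg π hm''
  have hπε : π (algebraMap (DualNumber k) (NodeRing (ε : DualNumber k)) ε) = 0 := by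
    change nodeProj res ε ha _ = 0
    rw [nodeProj_algebraMap, ha, map_zero]
  rw [map_mul, hπε, zero_mul, map_add, map_add, map_one, map_mul, map_mul] at h3
  have h4 := congrArg nodeOrigin h3
  have e1 : π (nx ε) = Ideal.Quotient.mk _ (X 0) := nodeProj_nx res ε ha
  have e2 : π (ny ε) = Ideal.Quotient.mk _ (X 1) := nodeProj_ny res ε ha
  rw [e1, e2, map_add, map_add, map_one, map_mul, map_mul, nodeOrigin_X, nodeOrigin_X, zero_mul,
    zero_mul, add_zero, add_zero, map_zero] at h4
  exact one_ne_zero h4

end Groth.Agent.Lib.NodeDef
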