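import Mathlib
import Groth.Agent.Lib.DefSchAff2
import Groth.Agent.Lib.NodeDef2

/-!
# The families `xy = a` as deformations of the node (scheme level)
-/

set_option autoImplicit false
set_option linter.unusedVariables false
set_option linter.unusedSectionVars false

universe u

open CategoryTheory CategoryTheory.Limits AlgebraicGeometry ArtFun ArtFun.Art

namespace Groth.Agent.Lib.DefSchAff

section BaseChange

variable {Λ : Type u} {k : Type u} [CommRing Λ] [Field k] [Algebra Λ k]
variable {B₀ : Type u} [CommRing B₀] [Algebra k B₀] {A A' : Art Λ k}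

/-- recognising a base change: a morphism of total spaces over `Spec A' → Spec A` compatible with
the closed fibres identifies the target with the base change of the source -/
theorem nonempty_iso_baseChange (g : A ⟶ A')
    (ξ : DefSch (Spec (CommRingCat.of B₀)) (Spec.map (CommRingCat.ofHom (algebraMap k B₀))) A)
    (ξ' : DefSch (Spec (CommRingCat.of B₀)) (Spec.map (CommRingCat.ofHom (algebraMap k B₀))) A')
    (ψ : ξ'.total ⟶ ξ.total) (h1 : ψ ≫ ξ.f = ξ'.f ≫ specMap g) (h2 : ξ'.i ≫ ψ = ξ.i) :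
    Nonempty (DefSch.Iso (ξ.baseChange g) ξ') := by
  let φ : ξ'.total ⟶ (ξ.baseChange g).total := pullback.lift ψ ξ'.f h1
  have hf : φ ≫ (ξ.baseChange g).f = ξ'.f := pullback.lift_snd _ _ _
  have hi : ξ'.i ≫ φ = (ξ.baseChange g).i := by
    apply pullback.hom_ext
    · rw [Category.assoc, pullback.lift_fst, h2]
      exact (DefSch.baseChange_i_fst ξ g).symm
    · rw [Category.assoc]
      refine (congrArg (ξ'.i ≫ ·) hf).trans ?_
      rw [DefSch.i_f]
      exact (DefSch.baseChange_i_f ξ g).symm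
  exact ⟨(isoOfHom φ hf hi).symm⟩

/-- the ring-level version for deformations given by ring data -/
theorem nonempty_iso_baseChange_ofRing (g : A ⟶ A')
    (R : Type u) [CommRing R] (φ : A →+* R) (hflat : φ.Flat) (π : R →+* B₀)
    (hcomm : ∀ a, π (φ a) = algebraMap k B₀ (A.res a)) (hπ : Function.Surjective π)
    (hker : RingHom.ker π = (IsLocalRing.maximalIdeal A).map φ)
    (R' : Type u) [CommRing R'] (φ' : A' →+* R') (hflat' : φ'.Flat) (π' : R' →+* B₀)
    (hcomm' : ∀ a, π' (φ' a) = algebraMap k B₀ (A'.res a)) (hπ' : Function.Surjective π')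
    (hker' : RingHom.ker π' = (IsLocalRing.maximalIdeal A').map φ')
    (ρ : R →+* R') (h1 : ∀ a, ρ (φ a) = φ' (g a)) (h2 : ∀ r, π' (ρ r) = π r) :
    Nonempty (DefSch.Iso ((ofRing R φ hflat π hcomm hπ hker).baseChange g)
      (ofRing R' φ' hflat' π' hcomm' hπ' hker')) := by
  apply nonempty_iso_baseChange g _ _ (Spec.map (CommRingCat.ofHom ρ))
  · change Spec.map (CommRingCat.ofHom ρ) ≫ Spec.map (CommRingCat.ofHom φ) =
      Spec.map (CommRingCat.ofHom φ') ≫ Spec.map (CommRingCat.ofHom g.toAlgHom.toRingHom)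
    rw [← Spec.map_comp, ← Spec.map_comp, ← CommRingCat.ofHom_comp, ← CommRingCat.ofHom_comp]
    congr 2
    ext a
    exact h1 a
  · change Spec.map (CommRingCat.ofHom π') ≫ Spec.map (CommRingCat.ofHom ρ) =
      Spec.map (CommRingCat.ofHom π)
    rw [← Spec.map_comp, ← CommRingCat.ofHom_comp]
    congr 2
    ext r
    exact h2 r

/-- isomorphism of deformations given by ring data from a compatible ring map -/
theorem nonempty_iso_ofRing
    (R : Type u) [CommRing R] (φ : A →+* R) (hflat : φ.Flat) (π : R →+* B₀)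
    (hcomm : ∀ a, π (φ a) = algebraMap k B₀ (A.res a)) (hπ : Function.Surjective π)
    (hker : RingHom.ker π = (IsLocalRing.maximalIdeal A).map φ)
    (R' : Type u) [CommRing R'] (φ' : A →+* R') (hflat' : φ'.Flat) (π' : R' →+* B₀)
    (hcomm' : ∀ a, π' (φ' a) = algebraMap k B₀ (A.res a)) (hπ' : Function.Surjective π')
    (hker' : RingHom.ker π' = (IsLocalRing.maximalIdeal A).map φ')
    (ρ : R →+* R') (h1 : ∀ a, ρ (φ a) = φ' a) (h2 : ∀ r, π' (ρ r) = π r) :
    Nonempty (DefSch.Iso (ofRing R' φ' hflat' π' hcomm' hπ' hker')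
      (ofRing R φ hflat π hcomm hπ hker)) := by
  refine ⟨isoOfHom (Spec.map (CommRingCat.ofHom ρ)) ?_ ?_⟩
  · change Spec.map (CommRingCat.ofHom ρ) ≫ Spec.map (CommRingCat.ofHom φ) =
      Spec.map (CommRingCat.ofHom φ')
    rw [← Spec.map_comp, ← CommRingCat.ofHom_comp]
    congr 2
    ext a
    exact h1 a
  · change Spec.map (CommRingCat.ofHom π') ≫ Spec.map (CommRingCat.ofHom ρ) =
      Spec.map (CommRingCat.ofHom π)
    rw [← Spec.map_comp, ← CommRingCat.ofHom_comp]
    congr 2
    ext r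
    exact h2 r

/-- an isomorphism of deformations given by ring data induces a compatible ring map -/
theorem exists_ringHom_of_iso_ofRing
    (R : Type u) [CommRing R] (φ : A →+* R) (hflat : φ.Flat) (π : R →+* B₀)
    (hcomm : ∀ a, π (φ a) = algebraMap k B₀ (A.res a)) (hπ : Function.Surjective π)
    (hker : RingHom.ker π = (IsLocalRing.maximalIdeal A).map φ)
    (R' : Type u) [CommRing R'] (φ' : A →+* R') (hflat' : φ'.Flat) (π' : R' →+* B₀)
    (hcomm' : ∀ a, π' (φ' a) = algebraMap k B₀ (A.res a)) (hπ' : Function.Surjective π')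
    (hker' : RingHom.ker π' = (IsLocalRing.maximalIdeal A).map φ')
    (e : DefSch.Iso (ofRing R' φ' hflat' π' hcomm' hπ' hker')
      (ofRing R φ hflat π hcomm hπ hker)) :
    ∃ ρ : R →+* R', (∀ a, ρ (φ a) = φ' a) ∧ ∀ r, π' (ρ r) = π r := by
  let ξ := ofRing R φ hflat π hcomm hπ hker
  let ξ' := ofRing R' φ' hflat' π' hcomm' hπ' hker'
  let ψ : Spec (CommRingCat.of R') ⟶ Spec (CommRingCat.of R) := e.iso.hom
  have hf : ψ ≫ Spec.map (CommRingCat.ofHom φ) = Spec.map (CommRingCat.ofHom φ') := e.hom_f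
  have hi : Spec.map (CommRingCat.ofHom π') ≫ ψ = Spec.map (CommRingCat.ofHom π) := e.i_hom
  obtain ⟨ρ', hρ'⟩ := Spec.map_surjective ψ
  rw [← hρ', ← Spec.map_comp] at hf hi
  have hf' := Spec.map_injective hf
  have hi' := Spec.map_injective hi
  refine ⟨ρ'.hom, fun a => ?_, fun r => ?_⟩
  · exact congrArg (fun f : CommRingCat.of A ⟶ CommRingCat.of R' => f.hom a) hf'
  · exact congrArg (fun f : CommRingCat.of R ⟶ CommRingCat.of B₀ => f.hom r) hi'

end BaseChange

end Groth.Agent.Lib.DefSchAff
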