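import Mathlib
import Groth.Agent.Lib.ArtinianFlat
import Groth.Agent.Lib.FlatNilp
import Groth.Agent.Lib.KoszulReduce2

/-!
# Flatness of quotients over a local ring with nilpotent maximal ideal, via lifting of relations
-/

set_option autoImplicit false
set_option linter.unusedVariables false
set_option linter.unusedSectionVars false

universe u

open TensorProduct Function IsLocalRing

namespace Groth.Agent.Lib.Unobs

section Crit

variable {A : Type u} [CommRing A] {N : Type u} [CommRing N] [Algebra A N]

/-- elements of `(𝔪N) J` lie in `𝔪 • J` -/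
theorem mem_smul_top_of_mem_mul (m : Ideal A) (J : Ideal N) (z : N)
    (hz : z ∈ m.map (algebraMap A N) * J) :
    ∃ hzJ : z ∈ J, (⟨z, hzJ⟩ : J.restrictScalars A) ∈
      m • (⊤ : Submodule A (J.restrictScalars A)) := by
  refine Submodule.mul_induction_on hz ?_ ?_
  · intro a ha b hb
    have key : ∀ a ∈ m.map (algebraMap A N), ∀ b (hb : b ∈ J),
        ∃ h : a * b ∈ J, (⟨a * b, h⟩ : J.restrictScalars A) ∈
          m • (⊤ : Submodule A (J.restrictScalars A)) := by
      intro a ha
      refine Submodule.span_induction ?_ ?_ ?_ ?_ ha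
      · rintro _ ⟨c, hc, rfl⟩ b hb
        refine ⟨J.mul_mem_left _ hb, ?_⟩
        have : (⟨algebraMap A N c * b, J.mul_mem_left _ hb⟩ : J.restrictScalars A) =
            c • (⟨b, hb⟩ : J.restrictScalars A) := by
          apply Subtype.ext
          change _ = c • b
          rw [Algebra.smul_def]
        rw [this]
        exact Submodule.smul_mem_smul hc Submodule.mem_top
      · intro b hb
        refine ⟨by rw [zero_mul]; exact J.zero_mem, ?_⟩
        have : (⟨0 * b, by rw [zero_mul]; exact J.zero_mem⟩ : J.restrictScalars A) = 0 := by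
          apply Subtype.ext
          change 0 * b = 0
          rw [zero_mul]
        rw [this]
        exact Submodule.zero_mem _
      · intro x y _ _ hx hy b hb
        obtain ⟨h1, h1'⟩ := hx b hb
        obtain ⟨h2, h2'⟩ := hy b hb
        refine ⟨by rw [add_mul]; exact J.add_mem h1 h2, ?_⟩
        have : (⟨(x + y) * b, by rw [add_mul]; exact J.add_mem h1 h2⟩ : J.restrictScalars A) =
            ⟨x * b, h1⟩ + ⟨y * b, h2⟩ := by
          apply Subtype.ext
          change (x + y) * b = x * b + y * b
          rw [add_mul]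
        rw [this]
        exact Submodule.add_mem _ h1' h2'
      · intro n x _ hx b hb
        obtain ⟨h1, h1'⟩ := hx (n * b) (J.mul_mem_left _ hb)
        refine ⟨by rw [smul_eq_mul, mul_comm n x, mul_assoc]; exact h1, ?_⟩
        have : (⟨n • x * b, by rw [smul_eq_mul, mul_comm n x, mul_assoc]; exact h1⟩ :
            J.restrictScalars A) = ⟨x * (n * b), h1⟩ := by
          apply Subtype.ext
          change n • x * b = x * (n * b)
          rw [smul_eq_mul]
          ring
        rw [this]
        exact h1'
    exact key a ha b hb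
  · intro x y hx hy
    obtain ⟨h1, h1'⟩ := hx
    obtain ⟨h2, h2'⟩ := hy
    refine ⟨J.add_mem h1 h2, ?_⟩
    have : (⟨x + y, J.add_mem h1 h2⟩ : J.restrictScalars A) = ⟨x, h1⟩ + ⟨y, h2⟩ := rfl
    rw [this]
    exact Submodule.add_mem _ h1' h2'

variable [IsLocalRing A] (hnil : IsNilpotent (maximalIdeal A))

include hnil in
/-- flatness criterion: `N/J` is flat as soon as `J ∩ 𝔪N ⊆ (𝔪N) J` -/
theorem flat_quotient_of_inter_le [Module.Flat A N] (J : Ideal N)
    (h : ∀ y ∈ J, y ∈ (maximalIdeal A).map (algebraMap A N) →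
      y ∈ (maximalIdeal A).map (algebraMap A N) * J) : Module.Flat A (N ⧸ J) := by
  let f : (J.restrictScalars A) →ₗ[A] N := (J.restrictScalars A).subtype
  let g : N →ₗ[A] (N ⧸ J) := (Ideal.Quotient.mkₐ A J).toLinearMap
  have hfg : Exact f g := by
    intro x
    change Ideal.Quotient.mk J x = 0 ↔ _
    rw [Ideal.Quotient.eq_zero_iff_mem]
    constructor
    · intro hx
      exact ⟨⟨x, hx⟩, rfl⟩
    · rintro ⟨z, rfl⟩
      exact z.2
  have hg : Surjective g := Ideal.Quotient.mk_surjective
  have hi : Injective (f.lTensor (A ⧸ maximalIdeal A)) := by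
    rw [injective_iff_map_eq_zero]
    intro ξ hξ
    obtain ⟨y, rfl⟩ := Groth.Agent.Lib.FlatNilp.exists_one_tmul (maximalIdeal A) ξ
    rw [LinearMap.lTensor_tmul, Groth.Agent.Lib.FlatNilp.one_tmul_eq_zero_iff,
      Ideal.smul_top_eq_map] at hξ
    rw [Groth.Agent.Lib.FlatNilp.one_tmul_eq_zero_iff]
    obtain ⟨h1, h2⟩ := mem_smul_top_of_mem_mul (maximalIdeal A) J (y : N) (h _ y.2 hξ)
    exact h2
  exact Groth.Agent.Lib.ArtinianFlat.flat_quotient_of_lTensor_injective hnil hfg hg hi

end Crit

end Groth.Agent.Lib.Unobs
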