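import Mathlib
import Groth.Agent.Lib.Unobs1

/-!
# Presenting an affine deformation over a local ring with nilpotent maximal ideal
(generic version: the base ring `A` is only augmented to `k` by a surjective ring map, no `k`-algebra structure)
-/

set_option autoImplicit false
set_option linter.unusedVariables false
set_option linter.unusedSectionVars false

universe u

open TensorProduct Function IsLocalRing MvPolynomial

namespace Groth.Agent.Lib.UnobsG

section Pres

variable {k : Type u} [Field k] {B₀ : Type u} [CommRing B₀] [Algebra k B₀] {ι σ : Type u}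
  [Fintype σ] (P : Algebra.Presentation k B₀ ι σ)
variable {A : Type u} [CommRing A] [IsLocalRing A] (res : A →+* k) (hrs : Surjective res)
  (hres : RingHom.ker res = maximalIdeal A) (hnil : IsNilpotent (maximalIdeal A))
variable {R : Type u} [CommRing R] (φ : A →+* R) (hflat : φ.Flat) (π : R →+* B₀)
  (hcomm : ∀ a, π (φ a) = algebraMap k B₀ (res a)) (hπ : Surjective π)
  (hker : RingHom.ker π = (maximalIdeal A).map φ)

/-- reduction of polynomials modulo the maximal ideal -/
noncomputable abbrev mapR : MvPolynomial ι A →+* MvPolynomial ι k :=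
  MvPolynomial.map res

/-- a chosen (set-theoretic) lift of polynomials over `k` -/
noncomputable def lft (q : MvPolynomial ι k) : MvPolynomial ι A :=
  Function.surjInv (MvPolynomial.map_surjective res hrs) q

theorem mapR_lft (q : MvPolynomial ι k) : mapR res (lft res hrs q) = q :=
  Function.surjInv_eq (MvPolynomial.map_surjective res hrs) q

include hres in
theorem ker_mapR : RingHom.ker (mapR (ι := ι) res) = (maximalIdeal A).map C := by
  unfold mapR
  rw [MvPolynomial.ker_map, hres]

include hrs hres hnil hflat hcomm hπ hker in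
theorem exists_presentation :
    ∃ (Φ : MvPolynomial ι A →+* R) (F : σ → MvPolynomial ι A), Surjective Φ ∧
      (∀ a, Φ (C a) = φ a) ∧ (∀ q, π (Φ q) = aeval P.val (mapR res q)) ∧
      RingHom.ker Φ = Ideal.span (Set.range F) ∧ (∀ s, mapR res (F s) = P.relation s) ∧
      Module.Flat A (MvPolynomial ι A ⧸ Ideal.span (Set.range F)) := by
  classical
  choose x hx using fun i => hπ (P.val i)
  let Φ : MvPolynomial ι A →+* R := eval₂Hom φ x
  have hΦC : ∀ a, Φ (C a) = φ a := fun a => eval₂Hom_C φ x a
  have hπΦ : ∀ q, π (Φ q) = aeval P.val (mapR res q) := by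
    have h : π.comp Φ = ((aeval P.val : MvPolynomial ι k →ₐ[k] B₀) : _ →+* _).comp (mapR res) := by
      apply MvPolynomial.ringHom_ext
      · intro a
        rw [RingHom.comp_apply, RingHom.comp_apply, hΦC, hcomm, map_C]
        simp
      · intro i
        rw [RingHom.comp_apply, RingHom.comp_apply, map_X]
        change π (eval₂Hom φ x (X i)) = aeval P.val (X i)
        rw [eval₂Hom_X', hx, aeval_X]
    exact fun q => RingHom.congr_fun h q
  let _ : Algebra A R := φ.toAlgebra
  have hfl : Module.Flat A R := hflat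
  have halg : ∀ a : A, algebraMap A R a = φ a := fun a => rfl
  -- surjectivity
  have hsurj : Surjective Φ := by
    let R₀ : Submodule A R :=
      { carrier := Set.range Φ
        add_mem' := by
          rintro _ _ ⟨a, rfl⟩ ⟨b, rfl⟩
          exact ⟨a + b, map_add _ _ _⟩
        zero_mem' := ⟨0, map_zero _⟩
        smul_mem' := by
          rintro c _ ⟨a, rfl⟩
          refine ⟨C c * a, ?_⟩
          rw [map_mul, hΦC, Algebra.smul_def]
          rfl }
    have h1 : (⊤ : Submodule A R) ≤ R₀ ⊔ maximalIdeal A • (⊤ : Submodule A R) := by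
      intro r _
      obtain ⟨qb, hqb⟩ := P.aeval_val_surjective (π r)
      have h2 : r - Φ (lft res hrs qb) ∈ RingHom.ker π := by
        rw [RingHom.mem_ker, map_sub, hπΦ, mapR_lft, hqb, sub_self]
      rw [hker] at h2
      have h3 : r - Φ (lft res hrs qb) ∈ maximalIdeal A • (⊤ : Submodule A R) := by
        rw [Ideal.smul_top_eq_map]
        exact h2
      have h4 : r = Φ (lft res hrs qb) + (r - Φ (lft res hrs qb)) := by ring
      rw [h4]
      exact Submodule.add_mem_sup ⟨_, rfl⟩ h3
    have h5 := Groth.Agent.Lib.KoszulReduce.le_of_le_sup_smul (maximalIdeal A) hnil h1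
    intro r
    exact h5 (Submodule.mem_top (x := r))
  -- lifting the relations
  have hmapΦ : (maximalIdeal A).map φ = ((maximalIdeal A).map C).map Φ := by
    rw [Ideal.map_map]
    congr 1
    ext a
    exact (hΦC a).symm
  have hF : ∀ s, ∃ Fs : MvPolynomial ι A, Φ Fs = 0 ∧ mapR res Fs = P.relation s := by
    intro s
    have h1 : Φ (lft res hrs (P.relation s)) ∈ RingHom.ker π := by
      rw [RingHom.mem_ker, hπΦ, mapR_lft]
      exact P.aeval_val_relation s
    rw [hker, hmapΦ, Ideal.mem_map_iff_of_surjective Φ hsurj] at h1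
    obtain ⟨g, hg, hgΦ⟩ := h1
    refine ⟨lft res hrs (P.relation s) - g, by rw [map_sub, hgΦ, sub_self], ?_⟩
    rw [← ker_mapR res hres, RingHom.mem_ker] at hg
    rw [map_sub, hg, sub_zero, mapR_lft]
  choose F hF1 hF2 using hF
  suffices hkey : RingHom.ker Φ = Ideal.span (Set.range F) ∧
      Module.Flat A (MvPolynomial ι A ⧸ RingHom.ker Φ) by
    refine ⟨Φ, F, hsurj, hΦC, hπΦ, hkey.1, hF2, ?_⟩
    rw [← hkey.1]
    exact hkey.2
  -- the kernel
  have hle : Ideal.span (Set.range F) ≤ RingHom.ker Φ := by
    rw [Ideal.span_le]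
    rintro _ ⟨s, rfl⟩
    exact hF1 s
  let e : (MvPolynomial ι A ⧸ RingHom.ker Φ) ≃ₗ[A] R :=
    { RingHom.quotientKerEquivOfSurjective hsurj with
      map_smul' := fun c z => by
        obtain ⟨q, rfl⟩ := Ideal.Quotient.mk_surjective z
        change RingHom.quotientKerEquivOfSurjective hsurj (Ideal.Quotient.mk _ (c • q)) =
          c • RingHom.quotientKerEquivOfSurjective hsurj (Ideal.Quotient.mk _ q)
        rw [RingHom.quotientKerEquivOfSurjective_apply_mk, RingHom.quotientKerEquivOfSurjective_apply_mk,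
          MvPolynomial.smul_eq_C_mul, map_mul, hΦC, Algebra.smul_def]
        rfl }
  have hfl2 : Module.Flat A (MvPolynomial ι A ⧸ RingHom.ker Φ) := Module.Flat.of_linearEquiv e
  refine ⟨?_, hfl2⟩
  apply Groth.Agent.Lib.KoszulReduce.eq_of_flat_quotient_of_nilpotent A (MvPolynomial ι A)
    (maximalIdeal A) hnil (RingHom.ker Φ) (Ideal.span (Set.range F)) hle
  intro z hz
  rw [Ideal.mem_map_iff_of_surjective _ Ideal.Quotient.mk_surjective] at hz ⊢
  obtain ⟨q, hq, rfl⟩ := hz
  have h1 : mapR res q ∈ Ideal.span (Set.range P.relation) := by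
    rw [P.span_range_relation_eq_ker, P.ker_eq_ker_aeval_val, RingHom.mem_ker, ← hπΦ,
      (RingHom.mem_ker).mp hq, map_zero]
  rw [Ideal.mem_span_range_iff_exists_fun] at h1
  obtain ⟨h, hh⟩ := h1
  refine ⟨∑ s, lft res hrs (h s) * F s, ?_, ?_⟩
  · exact Ideal.sum_mem _ fun s _ => Ideal.mul_mem_left _ _ (Ideal.subset_span ⟨s, rfl⟩)
  · rw [Ideal.Quotient.eq]
    have h2 : (∑ s, lft res hrs (h s) * F s) - q ∈ RingHom.ker (mapR (ι := ι) res) := by
      rw [RingHom.mem_ker, map_sub, map_sum, ← hh, sub_eq_zero]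
      refine Finset.sum_congr rfl fun s _ => ?_
      rw [map_mul, mapR_lft, hF2]
    rw [ker_mapR res hres] at h2
    exact h2

end Pres

section Rel

variable {A : Type u} [CommRing A] {N : Type u} [CommRing N] {σ : Type u} [Fintype σ]

/-- elements of `I (F)` are combinations of the `F s` with coefficients in `I` -/
theorem exists_sum_of_mem_mul_span (I : Ideal N) (F : σ → N) (z : N)
    (hz : z ∈ I * Ideal.span (Set.range F)) :
    ∃ g : σ → N, (∀ s, g s ∈ I) ∧ z = ∑ s, g s * F s := by
  refine Submodule.mul_induction_on hz ?_ ?_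
  · intro a ha b hb
    rw [Ideal.mem_span_range_iff_exists_fun] at hb
    obtain ⟨c, rfl⟩ := hb
    refine ⟨fun s => a * c s, fun s => I.mul_mem_right _ ha, ?_⟩
    rw [Finset.mul_sum]
    exact Finset.sum_congr rfl fun s _ => (mul_assoc _ _ _).symm
  · rintro x y ⟨g, hg, rfl⟩ ⟨g', hg', rfl⟩
    refine ⟨fun s => g s + g' s, fun s => I.add_mem (hg s) (hg' s), ?_⟩
    rw [← Finset.sum_add_distrib]
    exact Finset.sum_congr rfl fun s _ => (add_mul _ _ _).symm

end Rel

section LP

variable {k : Type u} [Field k] {ι σ : Type u} [Fintype σ]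
variable {A : Type u} [CommRing A] [IsLocalRing A] (res : A →+* k) (hrs : Surjective res)
  (hres : RingHom.ker res = maximalIdeal A)
variable (F : σ → MvPolynomial ι A)
  (hFflat : Module.Flat A (MvPolynomial ι A ⧸ Ideal.span (Set.range F)))

include hrs hres hFflat in
/-- relations among the reductions of the `F s` lift to relations among the `F s` -/
theorem exists_lift_relation (q : σ → MvPolynomial ι k)
    (hq : ∑ s, q s * mapR res (F s) = 0) :
    ∃ r : σ → MvPolynomial ι A, (∀ s, mapR res (r s) = q s) ∧ ∑ s, r s * F s = 0 := by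
  let y : MvPolynomial ι A := ∑ s, lft res hrs (q s) * F s
  have hy : y ∈ Ideal.span (Set.range F) :=
    Ideal.sum_mem _ fun s _ => Ideal.mul_mem_left _ _ (Ideal.subset_span ⟨s, rfl⟩)
  have hyI : y ∈ (maximalIdeal A).map (algebraMap A (MvPolynomial ι A)) := by
    rw [MvPolynomial.algebraMap_eq, ← ker_mapR res hres, RingHom.mem_ker, map_sum, ← hq]
    refine Finset.sum_congr rfl fun s _ => ?_
    rw [map_mul, mapR_lft]
  have h1 := Groth.Agent.Lib.KoszulReduce.mem_mul_of_flat_quotient A (MvPolynomial ι A)
    (maximalIdeal A) (Ideal.span (Set.range F)) y hy hyI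
  obtain ⟨g, hg, hyg⟩ := exists_sum_of_mem_mul_span _ F y h1
  refine ⟨fun s => lft res hrs (q s) - g s, fun s => ?_, ?_⟩
  · have h2 : mapR res (g s) = 0 := by
      rw [← RingHom.mem_ker, ker_mapR res hres, ← MvPolynomial.algebraMap_eq]
      exact hg s
    rw [map_sub, mapR_lft, h2, sub_zero]
  · have h3 : ∑ s, (lft res hrs (q s) - g s) * F s = y - ∑ s, g s * F s := by
      rw [← Finset.sum_sub_distrib]
      exact Finset.sum_congr rfl fun s _ => sub_mul _ _ _
    rw [h3, ← hyg, sub_self]

/-- the `A`-linear map `r ↦ ∑ r s * F s` -/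
noncomputable def relMap : (σ → MvPolynomial ι A) →ₗ[A] MvPolynomial ι A :=
  ∑ s, (LinearMap.mulRight A (F s)).comp (LinearMap.proj s)

theorem relMap_apply (r : σ → MvPolynomial ι A) : relMap F r = ∑ s, r s * F s := by
  unfold relMap
  rw [LinearMap.sum_apply]
  rfl

theorem range_relMap : LinearMap.range (relMap F) =
    (Ideal.span (Set.range F)).restrictScalars A := by
  apply le_antisymm
  · rintro _ ⟨r, rfl⟩
    rw [Submodule.restrictScalars_mem, Ideal.mem_span_range_iff_exists_fun]
    exact ⟨r, (relMap_apply F r).symm⟩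
  · intro z hz
    rw [Submodule.restrictScalars_mem, Ideal.mem_span_range_iff_exists_fun] at hz
    obtain ⟨r, hr⟩ := hz
    exact ⟨r, (relMap_apply F r).trans hr⟩

/-- vectors with components in `𝔪 N` lie in `𝔪 • ⊤` -/
theorem mem_smul_top_pi (d : σ → MvPolynomial ι A)
    (hd : ∀ s, d s ∈ (maximalIdeal A).map (C : A →+* MvPolynomial ι A)) :
    d ∈ maximalIdeal A • (⊤ : Submodule A (σ → MvPolynomial ι A)) := by
  classical
  have h1 : d = ∑ s, Pi.single s (d s) := by
    funext s'
    rw [Finset.sum_apply, Finset.sum_eq_single s']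
    · rw [Pi.single_eq_same]
    · intro b _ hb
      rw [Pi.single_eq_of_ne (Ne.symm hb)]
    · intro h
      exact absurd (Finset.mem_univ _) h
  rw [h1]
  refine Submodule.sum_mem _ fun s _ => ?_
  have h2 : d s ∈ maximalIdeal A • (⊤ : Submodule A (MvPolynomial ι A)) := by
    rw [Ideal.smul_top_eq_map, MvPolynomial.algebraMap_eq]
    exact hd s
  have h3 : (maximalIdeal A • (⊤ : Submodule A (MvPolynomial ι A))).map
      (LinearMap.single A (fun _ : σ => MvPolynomial ι A) s) ≤
      maximalIdeal A • (⊤ : Submodule A (σ → MvPolynomial ι A)) := by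
    rw [Submodule.map_smul'']
    exact Submodule.smul_mono le_rfl le_top
  exact h3 ⟨d s, h2, rfl⟩

include hFflat in
/-- relations with coefficients in `𝔪 N` are `𝔪`-combinations of relations -/
theorem mem_smul_ker_relMap (d : σ → MvPolynomial ι A)
    (hd : ∀ s, d s ∈ (maximalIdeal A).map (C : A →+* MvPolynomial ι A))
    (hd0 : ∑ s, d s * F s = 0) :
    d ∈ maximalIdeal A • LinearMap.ker (relMap F) := by
  let J : Submodule A (MvPolynomial ι A) := (Ideal.span (Set.range F)).restrictScalars A
  -- `J` is flat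
  have hJflat : Module.Flat A J := by
    have hex : Exact J.subtype
        (Ideal.Quotient.mkₐ A (Ideal.span (Set.range F))).toLinearMap := by
      intro x
      change Ideal.Quotient.mk _ x = 0 ↔ _
      rw [Ideal.Quotient.eq_zero_iff_mem]
      constructor
      · intro hx
        exact ⟨⟨x, hx⟩, rfl⟩
      · rintro ⟨z, rfl⟩
        exact z.2
    exact Groth.Agent.Lib.ArtinianFlat.flat_of_flat_quotient (Submodule.subtype_injective J) hex
      Ideal.Quotient.mk_surjective
  let g : (σ → MvPolynomial ι A) →ₗ[A] J :=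
    (relMap F).codRestrict J (fun r => by
      change relMap F r ∈ (Ideal.span (Set.range F)).restrictScalars A
      rw [← range_relMap]
      exact LinearMap.mem_range_self _ r)
  have hg : Surjective g := by
    rintro ⟨z, hz⟩
    have hz' : z ∈ LinearMap.range (relMap F) := by
      rw [range_relMap]
      exact hz
    obtain ⟨r, hr⟩ := hz'
    exact ⟨r, Subtype.ext hr⟩
  let K := LinearMap.ker (relMap F)
  have hex2 : Exact K.subtype g := by
    intro r
    constructor
    · intro hr
      have : relMap F r = 0 := congrArg Subtype.val hr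
      exact ⟨⟨r, this⟩, rfl⟩
    · rintro ⟨z, rfl⟩
      exact Subtype.ext z.2
  have hinj : Injective (K.subtype.lTensor (A ⧸ maximalIdeal A)) :=
    Groth.Agent.Lib.ArtinianFlat.lTensor_injective_of_flat_quotient (Submodule.subtype_injective K)
      hex2 hg (A ⧸ maximalIdeal A)
  have hdK : d ∈ K := (relMap_apply F d).trans hd0
  have h0 : (1 : A ⧸ maximalIdeal A) ⊗ₜ[A] (⟨d, hdK⟩ : K) = 0 := by
    apply hinj
    rw [map_zero, LinearMap.lTensor_tmul, Groth.Agent.Lib.FlatNilp.one_tmul_eq_zero_iff]
    exact mem_smul_top_pi d hd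
  rw [Groth.Agent.Lib.FlatNilp.one_tmul_eq_zero_iff] at h0
  have h4 : (maximalIdeal A • (⊤ : Submodule A K)).map K.subtype = maximalIdeal A • K := by
    rw [Submodule.map_smul'', Submodule.map_subtype_top]
  rw [← h4]
  exact ⟨⟨d, hdK⟩, h0, rfl⟩

end LP

end Groth.Agent.Lib.UnobsG
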