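import Mathlib
import Groth.Agent.Lib.UnobsG2

/-!
# The obstruction to lifting a presented flat algebra along a small extension
(generic version: no `k`-algebra structures on the Artinian rings)
-/

set_option autoImplicit false
set_option linter.unusedVariables false
set_option linter.unusedSectionVars false

universe u

open TensorProduct Function IsLocalRing MvPolynomial

namespace Groth.Agent.Lib.UnobsG

/-- a small extension `A' → A` of local rings augmented to `k`, with nilpotent maximal ideals -/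
structure SmallData (k : Type u) [Field k] (A' A : Type u) [CommRing A'] [CommRing A]
    [IsLocalRing A'] [IsLocalRing A] where
  /-- the surjection -/
  p : A' →+* A
  /-- the augmentation -/
  res : A →+* k
  /-- a generator of the kernel -/
  t : A'
  p_surj : Surjective p
  res_surj : Surjective res
  ker_res : RingHom.ker res = maximalIdeal A
  ker_res' : RingHom.ker (res.comp p) = maximalIdeal A'
  nilA : IsNilpotent (maximalIdeal A)
  nilA' : IsNilpotent (maximalIdeal A')
  ker_p : RingHom.ker p = Ideal.span {t}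
  t_ne : t ≠ 0
  t_mul : ∀ a ∈ maximalIdeal A', a * t = 0

section Small

variable {k : Type u} [Field k] {A' A : Type u} [CommRing A'] [CommRing A]
  [IsLocalRing A'] [IsLocalRing A] (D : SmallData k A' A)
  {ι σ : Type u} [Fintype σ]

/-- the augmentation of `A'` -/
abbrev SmallData.res' : A' →+* k := D.res.comp D.p

theorem SmallData.res'_surj : Surjective D.res' := D.res_surj.comp D.p_surj

/-- reduction of polynomials along `A' → A` -/
noncomputable abbrev mapP : MvPolynomial ι A' →+* MvPolynomial ι A :=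
  MvPolynomial.map D.p

theorem mapR_mapP (x : MvPolynomial ι A') : mapR D.res (mapP D x) = mapR D.res' x := by
  unfold mapR mapP
  rw [MvPolynomial.map_map]

theorem mapP_surjective : Surjective (mapP (ι := ι) D) :=
  MvPolynomial.map_surjective _ D.p_surj

theorem ker_mapP : RingHom.ker (mapP (ι := ι) D) = Ideal.span {C D.t} := by
  unfold mapP
  rw [MvPolynomial.ker_map, D.ker_p, Ideal.map_span, Set.image_singleton]

theorem exists_eq_C_t_mul (x : MvPolynomial ι A') (hx : mapP D x = 0) :
    ∃ w : MvPolynomial ι A', x = C D.t * w := by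
  have h : x ∈ RingHom.ker (mapP (ι := ι) D) := hx
  rw [ker_mapP, Ideal.mem_span_singleton'] at h
  obtain ⟨w, hw⟩ := h
  exact ⟨w, by rw [← hw, mul_comm]⟩

theorem C_t_mul_eq_zero (g : MvPolynomial ι A') (hg : mapR D.res' g = 0) : C D.t * g = 0 := by
  have h : g ∈ RingHom.ker (mapR (ι := ι) D.res') := hg
  rw [ker_mapR D.res' D.ker_res'] at h
  refine Submodule.span_induction ?_ ?_ ?_ ?_ h
  · rintro _ ⟨a, ha, rfl⟩
    rw [← map_mul, mul_comm, D.t_mul a ha, map_zero]
  · rw [mul_zero]
  · intro x y _ _ hx hy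
    rw [mul_add, hx, hy, add_zero]
  · intro n x _ hx
    rw [smul_eq_mul, mul_left_comm, hx, mul_zero]

/-- multiplication by `t` only depends on the reduction modulo the maximal ideal -/
theorem C_t_mul_congr (x y : MvPolynomial ι A') (h : mapR D.res' x = mapR D.res' y) :
    C D.t * x = C D.t * y := by
  have h0 : C D.t * (x - y) = 0 := by
    apply C_t_mul_eq_zero
    rw [map_sub, h, sub_self]
  rw [mul_sub, sub_eq_zero] at h0
  exact h0

/-- `t` times (any lift of) a polynomial over `k` -/
noncomputable def tl (w : MvPolynomial ι k) : MvPolynomial ι A' :=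
  C D.t * lft D.res' D.res'_surj w

theorem tl_mapR (x : MvPolynomial ι A') : tl D (mapR D.res' x) = C D.t * x :=
  C_t_mul_congr D _ _ (mapR_lft D.res' D.res'_surj _)

theorem tl_zero : tl D (0 : MvPolynomial ι k) = 0 := by
  have h := tl_mapR D (0 : MvPolynomial ι A')
  rw [map_zero, mul_zero] at h
  exact h

theorem tl_add (a b : MvPolynomial ι k) : tl D (a + b) = tl D a + tl D b := by
  have h := tl_mapR D (lft D.res' D.res'_surj a + lft D.res' D.res'_surj b)
  rw [map_add, mapR_lft, mapR_lft, mul_add] at h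
  exact h

theorem tl_sub (a b : MvPolynomial ι k) : tl D (a - b) = tl D a - tl D b := by
  have h := tl_mapR D (lft D.res' D.res'_surj a - lft D.res' D.res'_surj b)
  rw [map_sub, mapR_lft, mapR_lft, mul_sub] at h
  exact h

theorem tl_sum {τ : Type*} (S : Finset τ) (f : τ → MvPolynomial ι k) :
    tl D (∑ s ∈ S, f s) = ∑ s ∈ S, tl D (f s) := by
  classical
  induction S using Finset.induction_on with
  | empty => simp [tl_zero]
  | insert a S ha ih => rw [Finset.sum_insert ha, Finset.sum_insert ha, tl_add, ih]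

theorem mul_tl (x : MvPolynomial ι A') (w : MvPolynomial ι k) :
    x * tl D w = tl D (mapR D.res' x * w) := by
  have h := tl_mapR D (x * lft D.res' D.res'_surj w)
  rw [map_mul, mapR_lft] at h
  rw [h]
  unfold tl
  ring

theorem mapP_C_t_mul (x : MvPolynomial ι A') : mapP D (C D.t * x) = 0 := by
  have h : C D.t ∈ RingHom.ker (mapP (ι := ι) D) := by
    rw [ker_mapP]
    exact Ideal.subset_span rfl
  rw [map_mul, (RingHom.mem_ker).mp h, zero_mul]

theorem mapP_tl (w : MvPolynomial ι k) : mapP D (tl D w) = 0 := mapP_C_t_mul D _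

theorem mapR'_C_t_mul (x : MvPolynomial ι A') : mapR D.res' (C D.t * x) = 0 := by
  rw [← mapR_mapP, mapP_C_t_mul, map_zero]

theorem mapR'_tl (w : MvPolynomial ι k) : mapR D.res' (tl D w) = 0 := mapR'_C_t_mul D _

theorem eq_zero_of_tl_eq_zero (w : MvPolynomial ι k) (h : tl D w = 0) : w = 0 := by
  ext m
  rw [coeff_zero]
  have h1 := congrArg (coeff m) h
  unfold tl at h1
  rw [coeff_C_mul, coeff_zero] at h1
  have h2 : D.res' (coeff m (lft D.res' D.res'_surj w)) = coeff m w := by
    have := congrArg (coeff m) (mapR_lft D.res' D.res'_surj w)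
    rw [coeff_map] at this
    exact this
  by_contra hne
  apply D.t_ne
  have hu : IsUnit (coeff m (lft D.res' D.res'_surj w)) := by
    rw [← IsLocalRing.notMem_maximalIdeal, ← D.ker_res', RingHom.mem_ker, h2]
    exact hne
  exact (hu.mul_left_eq_zero).mp h1

variable (F' : σ → MvPolynomial ι A')

/-- core of the well-definedness of the obstruction -/
theorem exists_of_mem_smul_ker (ρ : σ → MvPolynomial ι A)
    (hρ : ρ ∈ maximalIdeal A • LinearMap.ker (relMap (fun s => mapP D (F' s)))) :
    ∀ d' : σ → MvPolynomial ι A', (∀ s, mapP D (d' s) = ρ s) →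
      ∃ e : σ → MvPolynomial ι k, ∑ s, d' s * F' s =
        tl D (∑ s, e s * mapR D.res' (F' s)) := by
  refine Submodule.smul_induction_on hρ ?_ ?_
  · intro a ha ρ₀ hρ₀ d' hd'
    obtain ⟨a', rfl⟩ := D.p_surj a
    have ha' : a' ∈ maximalIdeal A' := by
      rw [← D.ker_res', RingHom.mem_ker]
      rw [← D.ker_res, RingHom.mem_ker] at ha
      exact ha
    choose ρ' hρ' using fun s => mapP_surjective (ι := ι) D (ρ₀ s)
    have h1 : mapP D (∑ s, ρ' s * F' s) = 0 := by
      rw [map_sum]
      have h2 : relMap (fun s => mapP D (F' s)) ρ₀ = 0 := hρ₀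
      rw [relMap_apply] at h2
      rw [← h2]
      refine Finset.sum_congr rfl fun s _ => ?_
      rw [map_mul, hρ']
    obtain ⟨w, hw⟩ := exists_eq_C_t_mul D _ h1
    have h3 : ∀ s, mapP D (d' s - C a' * ρ' s) = 0 := by
      intro s
      rw [map_sub, map_mul, hd', hρ']
      show (D.p a' • ρ₀) s - mapP D (C a') * ρ₀ s = 0
      rw [Pi.smul_apply, MvPolynomial.smul_eq_C_mul]
      unfold mapP
      rw [MvPolynomial.map_C]
      exact sub_self _
    choose u hu using fun s => exists_eq_C_t_mul D _ (h3 s)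
    refine ⟨fun s => mapR D.res' (u s), ?_⟩
    have h4 : ∑ s, d' s * F' s = ∑ s, (d' s - C a' * ρ' s) * F' s + C a' * ∑ s, ρ' s * F' s := by
      rw [Finset.mul_sum, ← Finset.sum_add_distrib]
      refine Finset.sum_congr rfl fun s _ => ?_
      ring
    rw [h4, hw, ← mul_assoc, ← map_mul, D.t_mul a' ha', map_zero, zero_mul, add_zero]
    have h5 : ∑ s, (d' s - C a' * ρ' s) * F' s = C D.t * ∑ s, u s * F' s := by
      rw [Finset.mul_sum]
      refine Finset.sum_congr rfl fun s _ => ?_
      rw [hu s, mul_assoc]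
    rw [h5, ← tl_mapR D (∑ s, u s * F' s), map_sum]
    congr 1
    refine Finset.sum_congr rfl fun s _ => ?_
    rw [map_mul]
  · intro ρ₁ ρ₂ h1 h2 d' hd'
    choose d₁ hd₁ using fun s => mapP_surjective (ι := ι) D (ρ₁ s)
    obtain ⟨e₁, he₁⟩ := h1 d₁ hd₁
    obtain ⟨e₂, he₂⟩ := h2 (fun s => d' s - d₁ s) (fun s => by
      rw [map_sub, hd', hd₁]
      exact add_sub_cancel_left _ _)
    refine ⟨fun s => e₁ s + e₂ s, ?_⟩
    have h3 : ∑ s, d' s * F' s = ∑ s, d₁ s * F' s + ∑ s, (d' s - d₁ s) * F' s := by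
      rw [← Finset.sum_add_distrib]
      refine Finset.sum_congr rfl fun s _ => ?_
      ring
    rw [h3, he₁, he₂, ← tl_add, ← Finset.sum_add_distrib]
    congr 1
    refine Finset.sum_congr rfl fun s _ => ?_
    ring

section Ob

variable (hFflat : Module.Flat A
  (MvPolynomial ι A ⧸ Ideal.span (Set.range (fun s => mapP D (F' s)))))

/-- `w` represents the obstruction to lifting the relation `q` -/
def ObRel (q : σ → MvPolynomial ι k) (w : MvPolynomial ι k) : Prop :=
  ∃ r' : σ → MvPolynomial ι A', (∀ s, mapR D.res' (r' s) = q s) ∧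
    ∑ s, r' s * F' s = tl D w

include hFflat in
theorem exists_obRel (q : σ → MvPolynomial ι k) (hq : ∑ s, q s * mapR D.res' (F' s) = 0) :
    ∃ w, ObRel D F' q w := by
  have hq' : ∑ s, q s * mapR D.res (mapP D (F' s)) = 0 := by
    rw [← hq]
    exact Finset.sum_congr rfl fun s _ => by rw [mapR_mapP]
  obtain ⟨r, hr1, hr2⟩ := exists_lift_relation D.res D.res_surj D.ker_res
    (fun s => mapP D (F' s)) hFflat q hq'
  choose r' hr' using fun s => mapP_surjective (ι := ι) D (r s)
  have h1 : mapP D (∑ s, r' s * F' s) = 0 := by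
    rw [map_sum, ← hr2]
    exact Finset.sum_congr rfl fun s _ => by rw [map_mul, hr']
  obtain ⟨w₀, hw₀⟩ := exists_eq_C_t_mul D _ h1
  refine ⟨mapR D.res' w₀, r', fun s => ?_, ?_⟩
  · rw [← mapR_mapP, hr', hr1]
  · rw [hw₀, tl_mapR]

include hFflat in
theorem obRel_sub_mem (q : σ → MvPolynomial ι k) (w₁ w₂ : MvPolynomial ι k)
    (h₁ : ObRel D F' q w₁) (h₂ : ObRel D F' q w₂) :
    w₁ - w₂ ∈ Ideal.span (Set.range (fun s => mapR D.res' (F' s))) := by
  obtain ⟨r₁, hr₁, he₁⟩ := h₁
  obtain ⟨r₂, hr₂, he₂⟩ := h₂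
  let d' : σ → MvPolynomial ι A' := fun s => r₁ s - r₂ s
  have hd'sum : ∑ s, d' s * F' s = tl D (w₁ - w₂) := by
    have : ∑ s, d' s * F' s = ∑ s, r₁ s * F' s - ∑ s, r₂ s * F' s := by
      rw [← Finset.sum_sub_distrib]
      exact Finset.sum_congr rfl fun s _ => sub_mul _ _ _
    rw [this, he₁, he₂, ← tl_sub]
  have hρ : (fun s => mapP D (d' s)) ∈
      maximalIdeal A • LinearMap.ker (relMap (fun s => mapP D (F' s))) := by
    apply mem_smul_ker_relMap (fun s => mapP D (F' s)) hFflat
    · intro s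
      rw [← ker_mapR D.res D.ker_res, RingHom.mem_ker, mapR_mapP, map_sub, hr₁, hr₂, sub_self]
    · have : ∑ s, mapP D (d' s) * mapP D (F' s) = mapP D (∑ s, d' s * F' s) := by
        rw [map_sum]
        exact Finset.sum_congr rfl fun s _ => (map_mul _ _ _).symm
      rw [this, hd'sum, mapP_tl]
  obtain ⟨e, he⟩ := exists_of_mem_smul_ker D F' _ hρ d' (fun s => rfl)
  rw [hd'sum] at he
  have h3 : tl D (w₁ - w₂ - ∑ s, e s * mapR D.res' (F' s)) = 0 := by
    rw [tl_sub, he, sub_self]
  have h4 := eq_zero_of_tl_eq_zero D _ h3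
  rw [sub_eq_zero] at h4
  rw [h4]
  exact Ideal.sum_mem _ fun s _ => Ideal.mul_mem_left _ _ (Ideal.subset_span ⟨s, rfl⟩)

theorem obRel_add (q₁ q₂ : σ → MvPolynomial ι k) (w₁ w₂ : MvPolynomial ι k)
    (h₁ : ObRel D F' q₁ w₁) (h₂ : ObRel D F' q₂ w₂) :
    ObRel D F' (fun s => q₁ s + q₂ s) (w₁ + w₂) := by
  obtain ⟨r₁, hr₁, he₁⟩ := h₁
  obtain ⟨r₂, hr₂, he₂⟩ := h₂
  refine ⟨fun s => r₁ s + r₂ s, fun s => by rw [map_add, hr₁, hr₂], ?_⟩
  have : ∑ s, (r₁ s + r₂ s) * F' s = ∑ s, r₁ s * F' s + ∑ s, r₂ s * F' s := by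
    rw [← Finset.sum_add_distrib]
    exact Finset.sum_congr rfl fun s _ => add_mul _ _ _
  rw [this, he₁, he₂, ← tl_add]

theorem obRel_smul (g : MvPolynomial ι k) (q : σ → MvPolynomial ι k) (w : MvPolynomial ι k)
    (h : ObRel D F' q w) : ObRel D F' (fun s => g * q s) (g * w) := by
  obtain ⟨r, hr, he⟩ := h
  refine ⟨fun s => lft D.res' D.res'_surj g * r s, fun s => by rw [map_mul, mapR_lft, hr], ?_⟩
  have : ∑ s, lft D.res' D.res'_surj g * r s * F' s =
      lft D.res' D.res'_surj g * ∑ s, r s * F' s := by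
    rw [Finset.mul_sum]
    exact Finset.sum_congr rfl fun s _ => mul_assoc _ _ _
  rw [this, he, mul_tl, mapR_lft]

theorem obRel_triv (a b : σ → MvPolynomial ι k) :
    ObRel D F' (fun s => (∑ u, a u * mapR D.res' (F' u)) * b s -
      (∑ u, b u * mapR D.res' (F' u)) * a s) 0 := by
  refine ⟨fun s => (∑ u, lft D.res' D.res'_surj (a u) * F' u) * lft D.res' D.res'_surj (b s) -
      (∑ u, lft D.res' D.res'_surj (b u) * F' u) * lft D.res' D.res'_surj (a s), fun s => ?_, ?_⟩
  · rw [map_sub, map_mul, map_mul, map_sum, map_sum, mapR_lft, mapR_lft]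
    congr 2
    · exact Finset.sum_congr rfl fun u _ => by rw [map_mul, mapR_lft]
    · exact Finset.sum_congr rfl fun u _ => by rw [map_mul, mapR_lft]
  · rw [tl_zero]
    have h1 : ∀ s, ((∑ u, lft D.res' D.res'_surj (a u) * F' u) * lft D.res' D.res'_surj (b s) -
        (∑ u, lft D.res' D.res'_surj (b u) * F' u) * lft D.res' D.res'_surj (a s)) * F' s =
        (∑ u, lft D.res' D.res'_surj (a u) * F' u) * (lft D.res' D.res'_surj (b s) * F' s) -
        (∑ u, lft D.res' D.res'_surj (b u) * F' u) * (lft D.res' D.res'_surj (a s) * F' s) :=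
      fun s => by ring
    rw [Finset.sum_congr rfl fun s _ => h1 s, Finset.sum_sub_distrib, ← Finset.mul_sum,
      ← Finset.mul_sum]
    ring

end Ob

section Correct

variable (hFflat : Module.Flat A
  (MvPolynomial ι A ⧸ Ideal.span (Set.range (fun s => mapP D (F' s)))))

include hFflat in
/-- if the obstruction is a coboundary `q ↦ ∑ q s * c s`, the corrected relations define a flat
algebra -/
theorem flat_of_correction (c : σ → MvPolynomial ι k)
    (hc : ∀ (q : σ → MvPolynomial ι k) (w : MvPolynomial ι k),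
      ∑ s, q s * mapR D.res' (F' s) = 0 → ObRel D F' q w →
        w - ∑ s, q s * c s ∈ Ideal.span (Set.range (fun s => mapR D.res' (F' s)))) :
    Module.Flat A' (MvPolynomial ι A' ⧸
      Ideal.span (Set.range (fun s => F' s - tl D (c s)))) := by
  let F'' : σ → MvPolynomial ι A' := fun s => F' s - tl D (c s)
  have hF''R : ∀ s, mapR D.res' (F'' s) = mapR D.res' (F' s) := fun s => by
    change mapR D.res' (F' s - tl D (c s)) = _
    rw [map_sub, mapR'_tl, sub_zero]
  apply Groth.Agent.Lib.Unobs.flat_quotient_of_inter_le D.nilA'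
  intro y hy hym
  change y ∈ Ideal.span (Set.range F'') at hy
  rw [Ideal.mem_span_range_iff_exists_fun] at hy
  obtain ⟨h, rfl⟩ := hy
  rw [MvPolynomial.algebraMap_eq, ← ker_mapR D.res' D.ker_res', RingHom.mem_ker, map_sum] at hym
  have hq : ∑ s, mapR D.res' (h s) * mapR D.res' (F' s) = 0 := by
    rw [← hym]
    exact Finset.sum_congr rfl fun s _ => by rw [map_mul, hF''R]
  obtain ⟨w, hw⟩ := exists_obRel D F' hFflat (fun s => mapR D.res' (h s)) hq
  have hmem := hc _ w hq hw
  obtain ⟨r', hr', he'⟩ := hw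
  rw [Ideal.mem_span_range_iff_exists_fun] at hmem
  obtain ⟨e, he⟩ := hmem
  -- the corrected relation
  have h1 : ∑ s, r' s * F'' s = ∑ s, (tl D (e s)) * F'' s := by
    have h2 : ∑ s, r' s * F'' s =
        ∑ s, r' s * F' s - ∑ s, r' s * tl D (c s) := by
      rw [← Finset.sum_sub_distrib]
      refine Finset.sum_congr rfl fun s _ => ?_
      change r' s * (F' s - tl D (c s)) = _
      ring
    have h3 : ∑ s, r' s * tl D (c s) =
        tl D (∑ s, mapR D.res' (h s) * c s) := by
      rw [tl_sum]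
      refine Finset.sum_congr rfl fun s _ => ?_
      rw [mul_tl, hr']
    have h4 : ∑ s, (tl D (e s)) * F'' s =
        tl D (∑ s, e s * mapR D.res' (F' s)) := by
      rw [tl_sum]
      refine Finset.sum_congr rfl fun s _ => ?_
      rw [mul_comm (tl D (e s)), mul_tl, hF''R, mul_comm]
    rw [h2, he', h3, h4, he, ← tl_sub]
  have h5 : ∑ s, h s * F'' s = ∑ s, (h s - (r' s - tl D (e s))) * F'' s := by
    have : ∑ s, (h s - (r' s - tl D (e s))) * F'' s =
        ∑ s, h s * F'' s - (∑ s, r' s * F'' s - ∑ s, (tl D (e s)) * F'' s) := by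
      rw [← Finset.sum_sub_distrib, ← Finset.sum_sub_distrib]
      refine Finset.sum_congr rfl fun s _ => ?_
      ring
    rw [this, h1, sub_self, sub_zero]
  rw [h5]
  refine Ideal.sum_mem _ fun s _ => ?_
  refine Ideal.mul_mem_mul ?_ (Ideal.subset_span ⟨s, rfl⟩)
  rw [MvPolynomial.algebraMap_eq, ← ker_mapR D.res' D.ker_res', RingHom.mem_ker, map_sub, map_sub,
    hr', mapR'_tl, sub_zero, sub_self]

end Correct

end Small

end Groth.Agent.Lib.UnobsG
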