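import Mathlib
import Groth.Prelude.Def_ArtFun2
import Groth.Agent.Lib.UnobsG5
import Groth.Agent.Lib.NodeDef3
import Groth.Agent.Lib.ArtFunFactor

/-!
# `T² = 0` implies that the deformation functor of an affine scheme is smooth (any base `Λ`)
-/

set_option autoImplicit false
set_option linter.unusedVariables false
set_option linter.unusedSectionVars false

universe u

open CategoryTheory CategoryTheory.Limits AlgebraicGeometry

namespace Groth.Agent.Lib.UnobsG

variable {Λ k : Type u} [CommRing Λ] [Field k] [Algebra Λ k]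
  (B₀ : Type u) [CommRing B₀] [Algebra k B₀] {ι σ : Type u} [Finite σ]
  (P : Algebra.Presentation k B₀ ι σ)

section Bridge

variable {B₀} {A : ArtFun.Art Λ k}
  (ξ : ArtFun.DefSch (Spec (CommRingCat.of B₀)) (Spec.map (CommRingCat.ofHom (algebraMap k B₀))) A)

theorem f_eq' : ξ.f = ξ.total.toSpecΓ ≫
    Spec.map (CommRingCat.ofHom (Groth.Agent.Lib.DefSchAff.algA ξ)) := by
  have h := Scheme.toSpecΓ_naturality ξ.f
  have h2 : (Spec (CommRingCat.of A)).toSpecΓ =
      Spec.map (Scheme.ΓSpecIso (CommRingCat.of A)).hom := Scheme.isoSpec_Spec_hom _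
  rw [h2] at h
  have e : CommRingCat.ofHom (Groth.Agent.Lib.DefSchAff.algA ξ) =
    (Scheme.ΓSpecIso (CommRingCat.of A)).inv ≫ ξ.f.appTop := rfl
  rw [e, Spec.map_comp, ← reassoc_of% h, ← Spec.map_comp, Iso.inv_hom_id, Spec.map_id,
    Category.comp_id]

theorem i_toSpecΓ' : ξ.i ≫ ξ.total.toSpecΓ =
    Spec.map (Scheme.ΓSpecIso (CommRingCat.of B₀)).hom ≫ Spec.map ξ.i.appTop := by
  have h := Scheme.toSpecΓ_naturality ξ.i
  have h2 : (Spec (CommRingCat.of B₀)).toSpecΓ =
      Spec.map (Scheme.ΓSpecIso (CommRingCat.of B₀)).hom := Scheme.isoSpec_Spec_hom _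
  rw [h2] at h
  exact h

end Bridge

/-- lifting deformations of `Spec B₀` along a small extension when `T² = 0` -/
theorem surjective_map_of_isSmallExt (hT2 : Subsingleton (CotT.T2 P B₀))
    {A' A : ArtFun.Art Λ k} (p : A' ⟶ A) (hp : ArtFun.Art.IsSmallExt p) :
    Function.Surjective ((ArtFun.defFunctor (Λ := Λ) (Spec (CommRingCat.of B₀))
      (Spec.map (CommRingCat.ofHom (algebraMap k B₀)))).map p) := by
  classical
  intro qξ
  induction qξ using Quotient.inductionOn with
  | h ξ =>
  have _ : Fintype σ := Fintype.ofFinite σ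
  -- the small extension data
  obtain ⟨hps, hne, ⟨t, ht⟩, hmul⟩ := hp
  have ht' : RingHom.ker (p.toAlgHom : A' →+* A) = Ideal.span {t} := ht
  have hnilA : IsNilpotent (IsLocalRing.maximalIdeal A) :=
    Groth.Agent.Lib.ArtinianFlat.isNilpotent_maximalIdeal
  have hnilA' : IsNilpotent (IsLocalRing.maximalIdeal A') :=
    Groth.Agent.Lib.ArtinianFlat.isNilpotent_maximalIdeal
  have hresp : A.res.comp p.toAlgHom = A'.res := p.res_comp
  have hresp' : ∀ a, A.res (p.toAlgHom a) = A'.res a := fun a =>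
    congrArg (fun f : A' →ₐ[Λ] k => f a) hresp
  let D : Groth.Agent.Lib.UnobsG.SmallData k A' A :=
    { p := (p.toAlgHom : A' →+* A)
      res := (A.res : A →+* k)
      t := t
      p_surj := hps
      res_surj := A.res_surjective
      ker_res := Groth.Agent.Lib.DefSchAff.ker_res A
      ker_res' := by
        have h1 : ((A.res : A →+* k).comp (p.toAlgHom : A' →+* A)) = (A'.res : A' →+* k) :=
          RingHom.ext hresp'
        rw [h1]
        exact Groth.Agent.Lib.DefSchAff.ker_res A'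
      nilA := hnilA
      nilA' := hnilA'
      ker_p := ht'
      t_ne := by
        intro h0
        apply hne
        rw [ht, h0]
        exact Submodule.span_zero_singleton A'.carrier
      t_mul := by
        intro a ha
        have h1 : a * t ∈ IsLocalRing.maximalIdeal A' * RingHom.ker p.toAlgHom :=
          Ideal.mul_mem_mul ha (by rw [ht]; exact Submodule.mem_span_singleton_self t)
        rw [hmul] at h1
        exact h1 }
  obtain ⟨R', instR', φ', π', ρ, hfl', hπ's, hker', hcomm', hρφ, hπρ⟩ :=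
    Groth.Agent.Lib.UnobsG.exists_lift_of_T2 P D (Groth.Agent.Lib.DefSchAff.algA ξ)
      (Groth.Agent.Lib.DefSchAff.flat_algA ξ) (Groth.Agent.Lib.DefSchAff.proj ξ)
      (Groth.Agent.Lib.DefSchAff.proj_algA ξ) (Groth.Agent.Lib.DefSchAff.proj_surjective ξ)
      (Groth.Agent.Lib.DefSchAff.ker_proj ξ) hT2
  have hcomm'' : ∀ a, π' (φ' a) = algebraMap k B₀ (A'.res a) := fun a => by
    rw [hcomm' a]
    congr 1
    exact hresp' a
  let ξ' := Groth.Agent.Lib.DefSchAff.ofRing R' φ' hfl' π' hcomm'' hπ's hker'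
  refine ⟨ξ'.cl, ?_⟩
  rw [ArtFun.defFunctor_map_cl]
  apply Quotient.sound
  let ψ : ξ.total ⟶ Spec (CommRingCat.of R') := ξ.total.toSpecΓ ≫ Spec.map (CommRingCat.ofHom ρ)
  refine Groth.Agent.Lib.DefSchAff.nonempty_iso_baseChange p ξ' ξ ψ ?_ ?_
  · change (ξ.total.toSpecΓ ≫ Spec.map (CommRingCat.ofHom ρ)) ≫ Spec.map (CommRingCat.ofHom φ') =
      ξ.f ≫ Spec.map (CommRingCat.ofHom p.toAlgHom.toRingHom)
    rw [f_eq' ξ, Category.assoc, Category.assoc, ← Spec.map_comp,
      ← Spec.map_comp]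
    congr 2
    refine CommRingCat.hom_ext (RingHom.ext fun a => ?_)
    exact hρφ a
  · change ξ.i ≫ ξ.total.toSpecΓ ≫ Spec.map (CommRingCat.ofHom ρ) =
      Spec.map (CommRingCat.ofHom π')
    rw [← Category.assoc, i_toSpecΓ' ξ, Category.assoc, ← Spec.map_comp,
      ← Spec.map_comp]
    congr 1
    refine CommRingCat.hom_ext (RingHom.ext fun r => ?_)
    exact hπρ r

/-- `T² = 0` implies smoothness of the deformation functor of `Spec B₀` -/
theorem isSmoothFunctor_of_T2 (hT2 : Subsingleton (CotT.T2 P B₀)) :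
    ArtFun.IsSmoothFunctor (ArtFun.defFunctor (Λ := Λ) (Spec (CommRingCat.of B₀))
      (Spec.map (CommRingCat.ofHom (algebraMap k B₀)))) := by
  intro B A μ hμ
  refine Groth.Agent.Lib.ArtFunFactor.surjection_induction
    (P := fun {B A} μ => Function.Surjective ((ArtFun.defFunctor (Λ := Λ)
      (Spec (CommRingCat.of B₀)) (Spec.map (CommRingCat.ofHom (algebraMap k B₀)))).map μ))
    ?_ ?_ ?_ μ hμ
  · intro B A μ hb
    obtain ⟨ν, h1, h2⟩ := Groth.Agent.Lib.ArtFunFactor.exists_inv_of_bijective μ hb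
    intro y
    refine ⟨(ArtFun.defFunctor (Λ := Λ) (Spec (CommRingCat.of B₀))
      (Spec.map (CommRingCat.ofHom (algebraMap k B₀)))).map ν y, ?_⟩
    rw [← CategoryTheory.Functor.map_comp_apply, h2, CategoryTheory.Functor.map_id_apply]
  · intro B A μ hs
    exact surjective_map_of_isSmallExt B₀ P hT2 μ hs
  · intro C B A ν μ h1 h2
    rw [CategoryTheory.Functor.map_comp]
    exact h2.comp h1

end Groth.Agent.Lib.UnobsG
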