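import Mathlib
import Groth.Prelude.Def_ArtFun4
import Groth.Agent.Lib.DefGlue2
import Groth.Agent.Lib.UnobsG6

/-!
# Deformations of an affine scheme `Spec B₀` over `Art Λ k`: ring data bridge, `H0`, `S1`, `Heps`
-/

set_option autoImplicit false
set_option linter.unusedVariables false
set_option linter.unusedSectionVars false

universe u

open CategoryTheory CategoryTheory.Limits AlgebraicGeometry ArtFun ArtFun.Art
open Groth.Agent.Lib.DefSchAff

namespace Groth.Agent.Lib.DefGlue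

variable {Λ k : Type u} [CommRing Λ] [Field k] [Algebra Λ k]
  {B₀ : Type u} [CommRing B₀] [Algebra k B₀]

/-- the augmentation data of an object of `Art Λ k`. -/
noncomputable def augOf (A : Art Λ k) : Aug k A where
  res := (A.res : A →+* k)
  surj := A.res_surjective
  ker := Groth.Agent.Lib.DefSchAff.ker_res A
  nil := Groth.Agent.Lib.ArtinianFlat.isNilpotent_maximalIdeal

/-- the deformations of `Spec B₀`. -/
abbrev DS (Λ : Type u) {k : Type u} [CommRing Λ] [Field k] [Algebra Λ k]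
    (B₀ : Type u) [CommRing B₀] [Algebra k B₀] (A : Art Λ k) :=
  DefSch (Λ := Λ) (Spec (CommRingCat.of B₀)) (Spec.map (CommRingCat.ofHom (algebraMap k B₀))) A

variable {A A' : Art Λ k}

/-- the ring data of a deformation. -/
noncomputable def toDefRing (ξ : DS Λ B₀ A) : DefRing B₀ (augOf A) where
  R := Γ(ξ.total, ⊤)
  φ := algA ξ
  π := proj ξ
  flat := flat_algA ξ
  comm := proj_algA ξ
  surj := proj_surjective ξ
  ker := ker_proj ξ

/-- the deformation attached to ring data. -/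
noncomputable def ofDefRing (d : DefRing B₀ (augOf A)) : DS Λ B₀ A :=
  ofRing d.R d.φ d.flat d.π d.comm d.surj d.ker

/-- a morphism of total spaces over `Spec g` gives a morphism of ring data. -/
noncomputable def homOfMor (g : A ⟶ A') (ξ : DS Λ B₀ A) (ξ' : DS Λ B₀ A')
    (ψ : ξ'.total ⟶ ξ.total) (h1 : ψ ≫ ξ.f = ξ'.f ≫ specMap g) (h2 : ξ'.i ≫ ψ = ξ.i) :
    DefRing.Hom (toDefRing ξ) (toDefRing ξ') (g.toAlgHom : A →+* A') where
  ψ := ψ.appTop.hom
  comp_φ := fun a => by
    have e1 : ξ.f.appTop ≫ ψ.appTop = (specMap g).appTop ≫ ξ'.f.appTop := by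
      rw [← Scheme.Hom.comp_appTop, ← Scheme.Hom.comp_appTop, h1]
    have e2 : (Scheme.ΓSpecIso (CommRingCat.of A)).inv ≫ (specMap g).appTop =
        CommRingCat.ofHom (g.toAlgHom : A →+* A') ≫ (Scheme.ΓSpecIso (CommRingCat.of A')).inv :=
      (Scheme.ΓSpecIso_inv_naturality (CommRingCat.ofHom (g.toAlgHom : A →+* A'))).symm
    have e3 := congrArg (fun θ : Γ(Spec (CommRingCat.of A), ⊤) ⟶ Γ(ξ'.total, ⊤) =>
      θ.hom ((Scheme.ΓSpecIso (CommRingCat.of A)).inv.hom a)) e1
    have e4 := congrArg (fun θ : CommRingCat.of A ⟶ Γ(Spec (CommRingCat.of A'), ⊤) => θ.hom a) e2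
    change ψ.appTop.hom (ξ.f.appTop.hom ((Scheme.ΓSpecIso (CommRingCat.of A)).inv.hom a)) =
      ξ'.f.appTop.hom ((Scheme.ΓSpecIso (CommRingCat.of A')).inv.hom (g.toAlgHom a))
    refine e3.trans ?_
    exact congrArg ξ'.f.appTop.hom e4
  π_comp := fun r => by
    have e1 : ψ.appTop ≫ ξ'.i.appTop = ξ.i.appTop := by
      rw [← Scheme.Hom.comp_appTop, h2]
    have e2 := congrArg (fun θ : Γ(ξ.total, ⊤) ⟶ Γ(Spec (CommRingCat.of B₀), ⊤) => θ.hom r) e1
    change (Scheme.ΓSpecIso (CommRingCat.of B₀)).hom.hom (ξ'.i.appTop.hom (ψ.appTop.hom r)) =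
      (Scheme.ΓSpecIso (CommRingCat.of B₀)).hom.hom (ξ.i.appTop.hom r)
    exact congrArg (Scheme.ΓSpecIso (CommRingCat.of B₀)).hom.hom e2

theorem specMap_eq (g : A ⟶ A') :
    specMap g = Spec.map (CommRingCat.ofHom (g.toAlgHom : A →+* A')) := rfl

/-- `ξ.i` in terms of the restriction `proj ξ`. -/
theorem i_eq (ξ : DS Λ B₀ A) :
    ξ.i ≫ ξ.total.toSpecΓ = Spec.map (CommRingCat.ofHom (proj ξ)) := by
  rw [Groth.Agent.Lib.UnobsG.i_toSpecΓ' ξ, ← Spec.map_comp]
  rfl

/-- a morphism of ring data `d → toDefRing ξ'` over `g` identifies `ξ'` with the base change. -/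
theorem nonempty_iso_baseChange_ofDefRing (g : A ⟶ A') (d : DefRing B₀ (augOf A)) (ξ' : DS Λ B₀ A')
    (h : DefRing.Hom d (toDefRing ξ') (g.toAlgHom : A →+* A')) :
    Nonempty (DefSch.Iso ((ofDefRing d).baseChange g) ξ') := by
  let ψ : ξ'.total ⟶ Spec (CommRingCat.of d.R) :=
    ξ'.total.toSpecΓ ≫ Spec.map (CommRingCat.ofHom h.ψ)
  refine nonempty_iso_baseChange g (ofDefRing d) ξ' ψ ?_ ?_
  · change (ξ'.total.toSpecΓ ≫ Spec.map (CommRingCat.ofHom h.ψ)) ≫
      Spec.map (CommRingCat.ofHom d.φ) = ξ'.f ≫ specMap g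
    rw [Groth.Agent.Lib.UnobsG.f_eq' ξ', specMap_eq, Category.assoc, Category.assoc,
      ← Spec.map_comp, ← Spec.map_comp]
    congr 2
    refine CommRingCat.hom_ext (RingHom.ext fun a => ?_)
    exact h.comp_φ a
  · change ξ'.i ≫ ξ'.total.toSpecΓ ≫ Spec.map (CommRingCat.ofHom h.ψ) =
      Spec.map (CommRingCat.ofHom d.π)
    rw [← Category.assoc, i_eq ξ', ← Spec.map_comp]
    congr 1
    refine CommRingCat.hom_ext (RingHom.ext fun r => ?_)
    exact h.π_comp r

/-- a deformation is isomorphic to the deformation of its ring data. -/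
theorem nonempty_iso_ofDefRing_toDefRing (ξ : DS Λ B₀ A) :
    Nonempty (DefSch.Iso ξ (ofDefRing (toDefRing ξ))) := by
  refine ⟨isoOfHom (ξ' := ofDefRing (toDefRing ξ)) ξ.total.toSpecΓ ?_ ?_⟩
  · change ξ.total.toSpecΓ ≫ Spec.map (CommRingCat.ofHom (algA ξ)) = ξ.f
    exact (Groth.Agent.Lib.UnobsG.f_eq' ξ).symm
  · change ξ.i ≫ ξ.total.toSpecΓ = Spec.map (CommRingCat.ofHom (proj ξ))
    exact i_eq ξ

/-- a morphism of ring data over `g` identifies `ξ'` with the base change of `ξ`. -/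
theorem nonempty_iso_baseChange_of_hom (g : A ⟶ A') (ξ : DS Λ B₀ A) (ξ' : DS Λ B₀ A')
    (h : DefRing.Hom (toDefRing ξ) (toDefRing ξ') (g.toAlgHom : A →+* A')) :
    Nonempty (DefSch.Iso (ξ.baseChange g) ξ') := by
  obtain ⟨e⟩ := nonempty_iso_ofDefRing_toDefRing ξ
  obtain ⟨e'⟩ := nonempty_iso_baseChange_ofDefRing g (toDefRing ξ) ξ' h
  exact ⟨(e.baseChange g).trans e'⟩

/-- a morphism of ring data over the identity gives an isomorphism. -/
theorem nonempty_iso_ofDefRing (ξ : DS Λ B₀ A) (d : DefRing B₀ (augOf A))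
    (h : DefRing.Hom d (toDefRing ξ) (RingHom.id A)) :
    Nonempty (DefSch.Iso ξ (ofDefRing d)) := by
  refine ⟨isoOfHom (ξ' := ofDefRing d) (ξ.total.toSpecΓ ≫ Spec.map (CommRingCat.ofHom h.ψ)) ?_ ?_⟩
  · change (ξ.total.toSpecΓ ≫ Spec.map (CommRingCat.ofHom h.ψ)) ≫
      Spec.map (CommRingCat.ofHom d.φ) = ξ.f
    rw [Groth.Agent.Lib.UnobsG.f_eq' ξ, Category.assoc, ← Spec.map_comp]
    congr 2
    refine CommRingCat.hom_ext (RingHom.ext fun a => ?_)
    exact h.comp_φ a
  · change ξ.i ≫ ξ.total.toSpecΓ ≫ Spec.map (CommRingCat.ofHom h.ψ) =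
      Spec.map (CommRingCat.ofHom d.π)
    rw [← Category.assoc, i_eq ξ, ← Spec.map_comp]
    congr 1
    refine CommRingCat.hom_ext (RingHom.ext fun r => ?_)
    exact h.π_comp r

/-- the projection from the base change, as a morphism of ring data. -/
noncomputable def bcHom (g : A ⟶ A') (ξ : DS Λ B₀ A) :
    DefRing.Hom (toDefRing ξ) (toDefRing (ξ.baseChange g)) (g.toAlgHom : A →+* A') :=
  homOfMor g ξ (ξ.baseChange g) (pullback.fst ξ.f (specMap g)) pullback.condition
    (DefSch.baseChange_i_fst ξ g)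

/-- transport of a morphism of ring data along an isomorphism of the target. -/
noncomputable def homOfIso (ξ ξ' : DS Λ B₀ A) (e : DefSch.Iso ξ ξ') :
    DefRing.Hom (toDefRing ξ') (toDefRing ξ) (RingHom.id A) where
  ψ := e.iso.hom.appTop.hom
  comp_φ := fun a => RingHom.congr_fun (appTop_comp_algA e.iso.hom e.hom_f) a
  π_comp := fun r => RingHom.congr_fun (proj_comp_appTop e.iso.hom e.i_hom) r

/-- composition of morphisms of ring data. -/
def DefRing.Hom.comp {A₁ A₂ A₃ : Type u} [CommRing A₁] [IsLocalRing A₁] [CommRing A₂]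
    [IsLocalRing A₂] [CommRing A₃] [IsLocalRing A₃] {a₁ : Aug k A₁} {a₂ : Aug k A₂} {a₃ : Aug k A₃}
    {d₁ : DefRing B₀ a₁} {d₂ : DefRing B₀ a₂} {d₃ : DefRing B₀ a₃} {f : A₁ →+* A₂} {g : A₂ →+* A₃}
    (h : DefRing.Hom d₁ d₂ f) (h' : DefRing.Hom d₂ d₃ g) : DefRing.Hom d₁ d₃ (g.comp f) where
  ψ := h'.ψ.comp h.ψ
  comp_φ := fun x => by
    rw [RingHom.comp_apply, h.comp_φ, h'.comp_φ]
    rfl
  π_comp := fun r => by
    rw [RingHom.comp_apply, h'.π_comp, h.π_comp]

/-- the ring data of the closed fibre itself. -/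
noncomputable def baseRing (Λ : Type u) {k : Type u} [CommRing Λ] [Field k] [Algebra Λ k]
    (B₀ : Type u) [CommRing B₀] [Algebra k B₀] : DefRing B₀ (augOf (base Λ k)) where
  R := B₀
  φ := (algebraMap k B₀ : (base Λ k).carrier →+* B₀)
  π := RingHom.id B₀
  flat := by
    have h : (algebraMap k B₀).Flat := by
      rw [RingHom.flat_algebraMap_iff]
      infer_instance
    exact h
  comm := fun x => rfl
  surj := Function.surjective_id
  ker := by
    apply le_antisymm
    · intro x hx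
      have hx0 : x = 0 := hx
      rw [hx0]
      exact Ideal.zero_mem _
    · refine Ideal.map_le_iff_le_comap.mpr ?_
      intro a ha
      rw [← Groth.Agent.Lib.DefSchAff.ker_res (base Λ k), RingHom.mem_ker] at ha
      have ha0 : a = 0 := ha
      rw [ha0]
      exact Ideal.zero_mem _

/-- every ring data maps to the ring data of the closed fibre. -/
noncomputable def toBaseHom (d : DefRing B₀ (augOf A)) :
    DefRing.Hom d (baseRing Λ B₀) ((toBase A).toAlgHom : A →+* (base Λ k).carrier) where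
  ψ := d.π
  comp_φ := fun x => d.comm x
  π_comp := fun r => rfl

end Groth.Agent.Lib.DefGlue
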