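import Mathlib
import Groth.Prelude.Def_ArtFun4
import Groth.Agent.Lib.DefGlue3

/-!
# `H0`, `S1`, `Heps` for the deformation functor of an affine scheme `Spec B₀` over `Art Λ k`
-/

set_option autoImplicit false
set_option linter.unusedVariables false
set_option linter.unusedSectionVars false

universe u

open CategoryTheory CategoryTheory.Limits AlgebraicGeometry ArtFun ArtFun.Art Function
open Groth.Agent.Lib.DefSchAff

namespace Groth.Agent.Lib.DefGlue

section Inv

variable {k : Type u} [Field k] {B₀ : Type u} [CommRing B₀] [Algebra k B₀]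
  {A : Type u} [CommRing A] [IsLocalRing A] {a : Aug k A}

/-- a morphism of ring data over the identity is bijective. -/
theorem DefRing.Hom.bijective_id {d d' : DefRing B₀ a} (h : DefRing.Hom d d' (RingHom.id A)) :
    Bijective h.ψ := by
  have he' : ∀ i, d'.π (h.ψ (d.lifts i)) = DefRing.bas k B₀ i := fun i => by
    rw [h.π_comp, DefRing.π_lifts]
  have h1 := DefRing.comb_bij d d.lifts (DefRing.π_lifts d)
  have h2 := DefRing.comb_bij d' (fun i => h.ψ (d.lifts i)) he'
  have h3 : h.ψ ∘ comb d.φ d.lifts = comb d'.φ (fun i => h.ψ (d.lifts i)) := by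
    funext c
    change h.ψ (comb d.φ d.lifts c) = _
    rw [map_comb]
    have h4 : h.ψ.comp d.φ = d'.φ := RingHom.ext h.comp_φ
    rw [h4]
  rw [← Function.Bijective.of_comp_iff h.ψ h1, h3]
  exact h2

/-- the inverse of a morphism of ring data over the identity. -/
noncomputable def DefRing.Hom.symm {d d' : DefRing B₀ a} (h : DefRing.Hom d d' (RingHom.id A)) :
    DefRing.Hom d' d (RingHom.id A) where
  ψ := ((RingEquiv.ofBijective h.ψ h.bijective_id).symm : d'.R →+* d.R)
  comp_φ := fun x => by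
    change (RingEquiv.ofBijective h.ψ h.bijective_id).symm (d'.φ x) = d.φ x
    rw [RingEquiv.symm_apply_eq]
    exact (h.comp_φ x).symm
  π_comp := fun r => by
    change d.π ((RingEquiv.ofBijective h.ψ h.bijective_id).symm r) = d'.π r
    obtain ⟨s, rfl⟩ := h.bijective_id.2 r
    have : (RingEquiv.ofBijective h.ψ h.bijective_id).symm (h.ψ s) = s :=
      (RingEquiv.ofBijective h.ψ h.bijective_id).symm_apply_apply s
    rw [this, h.π_comp]

/-- change the underlying ring map along an equality. -/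
def DefRing.Hom.cast {A' : Type u} [CommRing A'] [IsLocalRing A'] {a' : Aug k A'}
    {d : DefRing B₀ a} {d' : DefRing B₀ a'} {f f' : A →+* A'} (h : DefRing.Hom d d' f)
    (hf : ∀ x, f x = f' x) : DefRing.Hom d d' f' where
  ψ := h.ψ
  comp_φ := fun x => by rw [h.comp_φ, hf]
  π_comp := h.π_comp

end Inv

variable {Λ k : Type u} [CommRing Λ] [Field k] [Algebra Λ k]
  {B₀ : Type u} [CommRing B₀] [Algebra k B₀]

variable {A A' : Art Λ k}

/-- a morphism of ring data over the identity gives an isomorphism of deformations. -/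
theorem nonempty_iso_of_hom (ξ ξ' : DS Λ B₀ A)
    (h : DefRing.Hom (toDefRing ξ) (toDefRing ξ') (RingHom.id A)) :
    Nonempty (DefSch.Iso ξ ξ') := by
  obtain ⟨e⟩ := nonempty_iso_ofDefRing ξ' (toDefRing ξ) h
  obtain ⟨e'⟩ := nonempty_iso_ofDefRing_toDefRing ξ
  exact ⟨e'.trans e.symm⟩

variable (Λ B₀) in
/-- the deformation functor of `Spec B₀`. -/
noncomputable abbrev DF : Art Λ k ⥤ Type (u + 1) :=
  defFunctor (Λ := Λ) (Spec (CommRingCat.of B₀)) (Spec.map (CommRingCat.ofHom (algebraMap k B₀)))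

theorem h0_DF : H0 (DF Λ B₀ (k := k)) := by
  have hx : Flat (Spec.map (CommRingCat.ofHom (algebraMap k B₀))) := inferInstance
  refine ⟨⟨(DefSch.self (Λ := Λ) _ _ hx).cl⟩, ⟨fun q q' => ?_⟩⟩
  induction q using Quotient.inductionOn with
  | h ξ =>
    induction q' using Quotient.inductionOn with
    | h ξ' =>
      refine Quotient.sound ?_
      have h1 : DefRing.Hom (toDefRing ξ) (baseRing Λ B₀) (RingHom.id k) :=
        (toBaseHom (toDefRing ξ)).cast (fun x => rfl)
      have h2 : DefRing.Hom (toDefRing ξ') (baseRing Λ B₀) (RingHom.id k) :=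
        (toBaseHom (toDefRing ξ')).cast (fun x => rfl)
      exact nonempty_iso_of_hom ξ ξ' ((h1.comp h2.symm).cast (fun x => rfl))

theorem s1_DF : S1 (DF Λ B₀ (k := k)) := by
  intro B A A' A'' p' p'' f' f'' h hf'' z
  obtain ⟨⟨q', q''⟩, hq⟩ := z
  induction q' using Quotient.inductionOn with
  | h ξ₁ =>
    induction q'' using Quotient.inductionOn with
    | h ξ₂ =>
      have hq' : (ξ₁.baseChange f').cl = (ξ₂.baseChange f'').cl := hq
      obtain ⟨e⟩ := Quotient.exact hq'
      let q₂ := bcHom f'' ξ₂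
      let q₁ : DefRing.Hom (toDefRing ξ₁) (toDefRing (ξ₂.baseChange f''))
          (f'.toAlgHom : A' →+* A) :=
        ((bcHom f' ξ₁).comp (homOfIso _ _ e.symm)).cast (fun x => rfl)
      let G := glue (aB := augOf B) (p'.toAlgHom : B →+* A') (p''.toAlgHom : B →+* A'')
        (f'.toAlgHom : A' →+* A) (f''.toAlgHom : A'' →+* A) h.w_apply h.inj h.surj
        (fun b => res_app p' b) hf'' (toDefRing ξ₁) (toDefRing ξ₂) _ q₁ q₂
      refine ⟨(ofDefRing G).cl, ?_⟩
      apply FibProd.ext
      · exact Quotient.sound (nonempty_iso_baseChange_ofDefRing p' G ξ₁ (glueHom₁ _ _ _ _ _ _ _ _ _ _ _ _ _ _))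
      · exact Quotient.sound (nonempty_iso_baseChange_ofDefRing p'' G ξ₂ (glueHom₂ _ _ _ _ _ _ _ _ _ _ _ _ _ _))

theorem heps_DF : Heps (DF Λ B₀ (k := k)) := by
  intro B A' p' p'' h
  refine ⟨?_, s1_DF p' p'' _ _ h (dual Λ k).res_surjective⟩
  intro z z' hzz
  have hz1 : (DF Λ B₀).map p' z = (DF Λ B₀).map p' z' := congrArg (fun t => t.1.1) hzz
  have hz2 : (DF Λ B₀).map p'' z = (DF Λ B₀).map p'' z' := congrArg (fun t => t.1.2) hzz
  induction z using Quotient.inductionOn with
  | h ξ =>
    induction z' using Quotient.inductionOn with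
    | h ξ' =>
      have hz1' : (ξ.baseChange p').cl = (ξ'.baseChange p').cl := hz1
      have hz2' : (ξ.baseChange p'').cl = (ξ'.baseChange p'').cl := hz2
      obtain ⟨e₁⟩ := Quotient.exact hz1'
      obtain ⟨e₂⟩ := Quotient.exact hz2'
      refine Quotient.sound ?_
      let d₁ := toDefRing (ξ'.baseChange p')
      let d₂ := toDefRing (ξ'.baseChange p'')
      let q₁ := toBaseHom d₁
      let q₂ := toBaseHom d₂
      let G := glue (aB := augOf B) (p'.toAlgHom : B →+* A') (p''.toAlgHom : B →+* dual Λ k)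
        ((toBase A').toAlgHom : A' →+* (base Λ k).carrier)
        ((toBase (dual Λ k)).toAlgHom : (dual Λ k).carrier →+* (base Λ k).carrier)
        h.w_apply h.inj h.surj
        (fun b => res_app p' b) (dual Λ k).res_surjective d₁ d₂ _ q₁ q₂
      let u₁' := bcHom p' ξ'
      let u₂' := bcHom p'' ξ'
      let u₁ : DefRing.Hom (toDefRing ξ) d₁ (p'.toAlgHom : B →+* A') :=
        ((bcHom p' ξ).comp (homOfIso _ _ e₁.symm)).cast (fun x => rfl)
      let u₂ : DefRing.Hom (toDefRing ξ) d₂ (p''.toAlgHom : B →+* dual Λ k) :=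
        ((bcHom p'' ξ).comp (homOfIso _ _ e₂.symm)).cast (fun x => rfl)
      have l' : DefRing.Hom (toDefRing ξ') G (RingHom.id B) :=
        glueLift _ _ _ _ _ _ _ _ _ _ _ _ _ _ (toDefRing ξ') u₁' u₂' (fun r => by
          change d₁.π (u₁'.ψ r) = d₂.π (u₂'.ψ r)
          rw [u₁'.π_comp, u₂'.π_comp])
      have l : DefRing.Hom (toDefRing ξ) G (RingHom.id B) :=
        glueLift _ _ _ _ _ _ _ _ _ _ _ _ _ _ (toDefRing ξ) u₁ u₂ (fun r => by
          change d₁.π (u₁.ψ r) = d₂.π (u₂.ψ r)
          rw [u₁.π_comp, u₂.π_comp])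
      exact nonempty_iso_of_hom ξ ξ' ((l.comp l'.symm).cast (fun x => rfl))

end Groth.Agent.Lib.DefGlue
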