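import Mathlib
import Groth.Agent.Lib.DefGlue4

/-!
# Ring data of deformations: kernels, factorisation and base change along surjections (helper1)

* `DefRing.Hom.ker_le`, `DefRing.Hom.factor`: a morphism of ring data over a surjective ring map `f` is a quotient map, and every
  morphism over `g ∘ f` factors uniquely through it;
* `quotD d f`: the base change `R / (ker f) R` of ring data along a surjective ring map `f`, with `quotHom`;
* `isLocalRing_of_ker_nilpotent`: a ring with a surjection onto a field whose kernel consists of nilpotents is local.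
-/

set_option autoImplicit false
set_option linter.unusedVariables false
set_option linter.unusedSectionVars false

universe u

open Function IsLocalRing

namespace Groth.Agent.Lib.DefExt

open Groth.Agent.Lib.DefGlue

variable {k : Type u} [Field k] {B₀ : Type u} [CommRing B₀] [Algebra k B₀]
  {A A₁ A₂ : Type u} [CommRing A] [IsLocalRing A] [CommRing A₁] [IsLocalRing A₁]
  [CommRing A₂] [IsLocalRing A₂] {a : Aug k A} {a₁ : Aug k A₁} {a₂ : Aug k A₂}

/-- a set-theoretic section of a surjective ring map preserving zero. -/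
noncomputable def sect {f : A →+* A₁} (hf : Surjective f) : A₁ → A := by
  classical
  exact fun x => if x = 0 then 0 else Function.surjInv hf x

theorem sect_zero {f : A →+* A₁} (hf : Surjective f) : sect hf 0 = 0 := by
  classical
  exact if_pos rfl

theorem f_sect {f : A →+* A₁} (hf : Surjective f) (x : A₁) : f (sect hf x) = x := by
  classical
  by_cases hx : x = 0
  · rw [hx, sect_zero, map_zero]
  · change f (if x = 0 then 0 else Function.surjInv hf x) = x
    rw [if_neg hx, Function.surjInv_eq hf]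

/-- the image of a combination under a morphism of ring data. -/
theorem hom_comb {d : DefRing B₀ a} {d₁ : DefRing B₀ a₁} {f : A →+* A₁} (h : DefRing.Hom d d₁ f)
    (c : Module.Basis.ofVectorSpaceIndex k B₀ →₀ A) :
    h.ψ (comb d.φ d.lifts c) =
      comb d₁.φ (fun i => h.ψ (d.lifts i)) (Finsupp.mapRange f (map_zero f) c) := by
  rw [map_comb, comb_mapRange]
  have h1 : h.ψ.comp d.φ = d₁.φ.comp f := RingHom.ext h.comp_φ
  rw [h1]

theorem π_hom_lifts {d : DefRing B₀ a} {d₁ : DefRing B₀ a₁} {f : A →+* A₁} (h : DefRing.Hom d d₁ f)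
    (i) : d₁.π (h.ψ (d.lifts i)) = DefRing.bas k B₀ i := by
  rw [h.π_comp, DefRing.π_lifts]

/-- the kernel of a morphism of ring data consists of the combinations with coefficients in the kernel. -/
theorem coeff_of_hom_eq_zero {d : DefRing B₀ a} {d₁ : DefRing B₀ a₁} {f : A →+* A₁}
    (h : DefRing.Hom d d₁ f) (c : Module.Basis.ofVectorSpaceIndex k B₀ →₀ A)
    (hc : h.ψ (comb d.φ d.lifts c) = 0) (i) : f (c i) = 0 := by
  rw [hom_comb, ← comb_zero d₁.φ (fun i => h.ψ (d.lifts i))] at hc
  have h2 := (DefRing.comb_bij d₁ _ (π_hom_lifts h)).1 hc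
  have := DFunLike.congr_fun h2 i
  rwa [Finsupp.mapRange_apply] at this

/-- a morphism over `g ∘ f` kills the kernel of a morphism over `f`. -/
theorem ker_le_ker {d : DefRing B₀ a} {d₁ : DefRing B₀ a₁} {d₂ : DefRing B₀ a₂} {f : A →+* A₁}
    {g : A₁ →+* A₂} {gf : A →+* A₂} (h₁ : DefRing.Hom d d₁ f) (h₂ : DefRing.Hom d d₂ gf)
    (hgf : ∀ x, gf x = g (f x)) : RingHom.ker h₁.ψ ≤ RingHom.ker h₂.ψ := by
  intro r hr
  rw [RingHom.mem_ker] at hr ⊢
  obtain ⟨c, rfl⟩ := (DefRing.comb_bij d d.lifts (DefRing.π_lifts d)).2 r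
  have h1 := coeff_of_hom_eq_zero h₁ c hr
  rw [hom_comb]
  have h3 : Finsupp.mapRange gf (map_zero gf) c = 0 := by
    ext i
    rw [Finsupp.mapRange_apply, hgf, h1, map_zero]
    rfl
  rw [h3, comb_zero]

/-- factorisation through a morphism over a surjective ring map. -/
noncomputable def factor {d : DefRing B₀ a} {d₁ : DefRing B₀ a₁} {d₂ : DefRing B₀ a₂}
    {f : A →+* A₁} {g : A₁ →+* A₂} {gf : A →+* A₂} (h₁ : DefRing.Hom d d₁ f) (hf : Surjective f)
    (h₂ : DefRing.Hom d d₂ gf) (hgf : ∀ x, gf x = g (f x)) : DefRing.Hom d₁ d₂ g where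
  ψ := RingHom.liftOfSurjective h₁.ψ (h₁.surjective hf) ⟨h₂.ψ, ker_le_ker h₁ h₂ hgf⟩
  comp_φ := fun x => by
    obtain ⟨y, rfl⟩ := hf x
    rw [← h₁.comp_φ, RingHom.liftOfSurjective_comp_apply]
    change h₂.ψ (d.φ y) = _
    rw [h₂.comp_φ, hgf]
  π_comp := fun r => by
    obtain ⟨s, rfl⟩ := h₁.surjective hf r
    rw [RingHom.liftOfSurjective_comp_apply]
    change d₂.π (h₂.ψ s) = _
    rw [h₂.π_comp, h₁.π_comp]

theorem factor_ψ {d : DefRing B₀ a} {d₁ : DefRing B₀ a₁} {d₂ : DefRing B₀ a₂}
    {f : A →+* A₁} {g : A₁ →+* A₂} {gf : A →+* A₂} (h₁ : DefRing.Hom d d₁ f) (hf : Surjective f)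
    (h₂ : DefRing.Hom d d₂ gf) (hgf : ∀ x, gf x = g (f x)) (r : d.R) :
    (factor h₁ hf h₂ hgf).ψ (h₁.ψ r) = h₂.ψ r :=
  RingHom.liftOfSurjective_comp_apply h₁.ψ (h₁.surjective hf) ⟨h₂.ψ, ker_le_ker h₁ h₂ hgf⟩ r

section Quot

variable (d : DefRing B₀ a) (f : A →+* A₁) (hf : Surjective f) (hres : ∀ x, a₁.res (f x) = a.res x)

/-- elements of `K R` are the combinations with coefficients in `K`. -/
theorem exists_comb_of_mem_map (K : Ideal A) (r : d.R) (hr : r ∈ K.map d.φ) :
    ∃ c : Module.Basis.ofVectorSpaceIndex k B₀ →₀ A, (∀ i, c i ∈ K) ∧ comb d.φ d.lifts c = r := by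
  let _ : Algebra A d.R := d.φ.toAlgebra
  have h1 : r ∈ K • (⊤ : Submodule A d.R) := by
    rw [Ideal.smul_top_eq_map]
    exact hr
  refine Submodule.smul_induction_on h1 ?_ ?_
  · intro x hx s _
    obtain ⟨c, rfl⟩ := (DefRing.comb_bij d d.lifts (DefRing.π_lifts d)).2 s
    refine ⟨x • c, fun i => ?_, ?_⟩
    · rw [Finsupp.smul_apply, smul_eq_mul]
      exact Ideal.mul_mem_right _ _ hx
    · rw [comb_eq_linearCombination, comb_eq_linearCombination, map_smul]
  · rintro _ _ ⟨c, hc, rfl⟩ ⟨c', hc', rfl⟩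
    refine ⟨c + c', fun i => ?_, comb_add _ _ _ _⟩
    rw [Finsupp.add_apply]
    exact Ideal.add_mem _ (hc i) (hc' i)

/-- the ideal `(ker f) R`. -/
abbrev quotIdeal : Ideal d.R := (RingHom.ker f).map d.φ

include hres in
theorem ker_le_maximalIdeal : RingHom.ker f ≤ maximalIdeal A := by
  intro x hx
  rw [← a.ker, RingHom.mem_ker, ← hres, (RingHom.mem_ker).1 hx, map_zero]

include hres in
theorem quotIdeal_le : quotIdeal d f ≤ RingHom.ker d.π := by
  rw [d.ker]
  exact Ideal.map_mono (ker_le_maximalIdeal (a := a) (a₁ := a₁) f hres)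

/-- the structure map of the quotient. -/
noncomputable def quotφ : A₁ →+* d.R ⧸ quotIdeal d f :=
  RingHom.liftOfSurjective f hf ⟨(Ideal.Quotient.mk (quotIdeal d f)).comp d.φ, fun x hx => by
    rw [RingHom.mem_ker, RingHom.comp_apply, Ideal.Quotient.eq_zero_iff_mem]
    exact Ideal.mem_map_of_mem _ hx⟩

theorem quotφ_apply (x : A) :
    quotφ d f hf (f x) = Ideal.Quotient.mk (quotIdeal d f) (d.φ x) :=
  RingHom.liftOfSurjective_comp_apply f hf _ x

/-- the restriction to the closed fibre of the quotient. -/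
noncomputable def quotπ : d.R ⧸ quotIdeal d f →+* B₀ :=
  Ideal.Quotient.lift (quotIdeal d f) d.π (fun r hr => quotIdeal_le d f hres hr)

theorem quotπ_mk (r : d.R) : quotπ d f hres (Ideal.Quotient.mk (quotIdeal d f) r) = d.π r :=
  Ideal.Quotient.lift_mk _ _ _

/-- the images of the basis lifts. -/
noncomputable def quotLifts : Module.Basis.ofVectorSpaceIndex k B₀ → d.R ⧸ quotIdeal d f :=
  fun i => Ideal.Quotient.mk (quotIdeal d f) (d.lifts i)

theorem mk_comb (c : Module.Basis.ofVectorSpaceIndex k B₀ →₀ A) :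
    Ideal.Quotient.mk (quotIdeal d f) (comb d.φ d.lifts c) =
      comb (quotφ d f hf) (quotLifts d f) (Finsupp.mapRange f (map_zero f) c) := by
  rw [map_comb, comb_mapRange]
  have h1 : (Ideal.Quotient.mk (quotIdeal d f)).comp d.φ = (quotφ d f hf).comp f :=
    RingHom.ext fun x => (quotφ_apply d f hf x).symm
  rw [h1]
  rfl

theorem quot_comb_surjective : Surjective (comb (quotφ d f hf) (quotLifts d f)) := by
  intro r'
  obtain ⟨r, rfl⟩ := Ideal.Quotient.mk_surjective r'
  obtain ⟨c, rfl⟩ := (DefRing.comb_bij d d.lifts (DefRing.π_lifts d)).2 r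
  exact ⟨_, (mk_comb d f hf c).symm⟩

theorem quot_comb_injective : Injective (comb (quotφ d f hf) (quotLifts d f)) := by
  intro c₁ c₂ h12
  have h0 : comb (quotφ d f hf) (quotLifts d f) (c₁ - c₂) = 0 := by
    rw [comb_sub, h12, sub_self]
  have key : ∀ c' : Module.Basis.ofVectorSpaceIndex k B₀ →₀ A₁,
      comb (quotφ d f hf) (quotLifts d f) c' = 0 → c' = 0 := by
    intro c' hc'
    let c : Module.Basis.ofVectorSpaceIndex k B₀ →₀ A := Finsupp.mapRange (sect hf) (sect_zero hf) c'
    have hcc : Finsupp.mapRange f (map_zero f) c = c' := by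
      ext i
      rw [Finsupp.mapRange_apply, Finsupp.mapRange_apply, f_sect]
    rw [← hcc, ← mk_comb, Ideal.Quotient.eq_zero_iff_mem] at hc'
    obtain ⟨c₀, hc₀, hc₀'⟩ := exists_comb_of_mem_map d (RingHom.ker f) _ hc'
    have h2 := (DefRing.comb_bij d d.lifts (DefRing.π_lifts d)).1 hc₀'
    rw [← hcc, ← h2]
    ext i
    rw [Finsupp.mapRange_apply]
    exact hc₀ i
  have := key _ h0
  exact sub_eq_zero.mp this

/-- **base change of ring data along a surjective ring map.** -/
noncomputable def quotD : DefRing B₀ a₁ where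
  R := d.R ⧸ quotIdeal d f
  φ := quotφ d f hf
  π := quotπ d f hres
  flat := flat_of_comb_bijective _ (quotLifts d f)
    ⟨quot_comb_injective d f hf, quot_comb_surjective d f hf⟩
  comm := fun x => by
    obtain ⟨y, rfl⟩ := hf x
    rw [quotφ_apply, quotπ_mk, d.comm, hres]
  surj := fun b => by
    obtain ⟨r, rfl⟩ := d.surj b
    exact ⟨Ideal.Quotient.mk _ r, quotπ_mk d f hres r⟩
  ker := by
    apply le_antisymm
    · intro r' hr'
      obtain ⟨r, rfl⟩ := Ideal.Quotient.mk_surjective r'
      rw [RingHom.mem_ker, quotπ_mk] at hr'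
      have h1 : r ∈ (maximalIdeal A).map d.φ := by
        rw [← d.ker]
        exact hr'
      have h2 : Ideal.Quotient.mk (quotIdeal d f) r ∈
          ((maximalIdeal A).map d.φ).map (Ideal.Quotient.mk (quotIdeal d f)) :=
        Ideal.mem_map_of_mem _ h1
      rw [Ideal.map_map] at h2
      have h3 : (Ideal.Quotient.mk (quotIdeal d f)).comp d.φ = (quotφ d f hf).comp f :=
        RingHom.ext fun x => (quotφ_apply d f hf x).symm
      rw [h3, ← Ideal.map_map] at h2
      refine Ideal.map_mono ?_ h2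
      refine Ideal.map_le_iff_le_comap.mpr ?_
      intro x hx
      rw [Ideal.mem_comap, ← a₁.ker, RingHom.mem_ker, hres]
      rw [← a.ker, RingHom.mem_ker] at hx
      exact hx
    · refine Ideal.map_le_iff_le_comap.mpr ?_
      intro x hx
      obtain ⟨y, rfl⟩ := hf x
      rw [Ideal.mem_comap, RingHom.mem_ker, quotφ_apply, quotπ_mk, d.comm]
      rw [← a₁.ker, RingHom.mem_ker, hres] at hx
      rw [hx, map_zero]

/-- the projection to the base change. -/
noncomputable def quotHom : DefRing.Hom d (quotD d f hf hres) f where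
  ψ := Ideal.Quotient.mk (quotIdeal d f)
  comp_φ := fun x => (quotφ_apply d f hf x).symm
  π_comp := fun r => quotπ_mk d f hres r

end Quot

section Local

/-- a ring with a surjection onto a field whose kernel consists of nilpotent elements is local. -/
theorem isLocalRing_of_ker_nilpotent {R : Type*} [CommRing R] (ρ : R →+* k) (hρ : Surjective ρ)
    (hnil : ∀ x, ρ x = 0 → IsNilpotent x) : IsLocalRing R := by
  have : Nontrivial R := by
    refine ⟨⟨0, 1, fun h => ?_⟩⟩
    have := congrArg ρ h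
    rw [map_zero, map_one] at this
    exact zero_ne_one this
  refine IsLocalRing.of_isUnit_or_isUnit_one_sub_self fun x => ?_
  by_cases hx : ρ x = 0
  · exact Or.inr (hnil x hx).isUnit_one_sub
  · left
    obtain ⟨y, hy⟩ := hρ (ρ x)⁻¹
    have h1 : ρ (1 - x * y) = 0 := by
      rw [map_sub, map_one, map_mul, hy, mul_inv_cancel₀ hx, sub_self]
    have h2 : IsUnit (x * y) := by
      have := (hnil _ h1).isUnit_one_sub
      rwa [sub_sub_cancel] at this
    exact isUnit_of_mul_isUnit_left h2

end Local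

end Groth.Agent.Lib.DefExt
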