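import Mathlib
import Groth.Agent.Lib.DefExt1

/-!
# The ring `D = A' ×_A A'` of a surjection `A' → A` with kernel `J` killed by the maximal ideal (helper1)

`D` is local with nilpotent maximal ideal, and it is both the fibre product `A' ×_A A'` (projections `pr₀`, `pr₁`) and the
fibre product `A' ×_k k[J]` (projections `pr₀` and `σ (c₀, c₁) = (res c₀, c₁ - c₀)`).
-/

set_option autoImplicit false
set_option linter.unusedVariables false
set_option linter.unusedSectionVars false

universe u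

open Function IsLocalRing

namespace Groth.Agent.Lib.DefExt

open Groth.Agent.Lib.DefGlue

/-- a square-zero extension of a field by a vector space is local. -/
instance instIsLocalRingTsze {k : Type u} [Field k] {M : Type u} [AddCommGroup M] [Module k M]
    [Module kᵐᵒᵖ M] [SMulCommClass k kᵐᵒᵖ M] : IsLocalRing (TrivSqZeroExt k M) := by
  refine IsLocalRing.of_isUnit_or_isUnit_one_sub_self fun a => ?_
  rcases TrivSqZeroExt.isUnit_or_isNilpotent a with h | h
  · exact Or.inl h
  · exact Or.inr (IsNilpotent.isUnit_one_sub h)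

section

variable {k : Type u} [Field k] {A' A : Type u} [CommRing A'] [IsLocalRing A'] [CommRing A]
  [IsLocalRing A] [Algebra k A']
  (a' : Aug k A') (a₀ : Aug k A) (p : A' →+* A) (hp : Surjective p)
  (hres : ∀ x, a₀.res (p x) = a'.res x) (hk : ∀ c : k, a'.res (algebraMap k A' c) = c)
  (J : Ideal A') (hJp : ∀ x, x ∈ J ↔ p x = 0) (hmJ : ∀ x ∈ maximalIdeal A', ∀ j ∈ J, x * j = 0)

/-- the ring `A' ×_A A'`. -/
abbrev Dring : Subring (A' × A') :=
  (p.comp (RingHom.fst A' A')).eqLocus (p.comp (RingHom.snd A' A'))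

theorem mem_Dring (x : A' × A') : x ∈ Dring p ↔ p x.1 = p x.2 := Iff.rfl

/-- first projection. -/
def pr₀ : Dring p →+* A' := (RingHom.fst A' A').comp (Subring.subtype _)

/-- second projection. -/
def pr₁ : Dring p →+* A' := (RingHom.snd A' A').comp (Subring.subtype _)

theorem p_pr (b : Dring p) : p (pr₀ p b) = p (pr₁ p b) := b.2

theorem D_ext (b b' : Dring p) (h₀ : pr₀ p b = pr₀ p b') (h₁ : pr₁ p b = pr₁ p b') : b = b' :=
  Subtype.ext (Prod.ext h₀ h₁)

/-- the element `(x₀, x₁)`. -/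
def Dmk (x₀ x₁ : A') (h : p x₀ = p x₁) : Dring p := ⟨(x₀, x₁), h⟩

theorem pr₀_Dmk (x₀ x₁ : A') (h : p x₀ = p x₁) : pr₀ p (Dmk p x₀ x₁ h) = x₀ := rfl

theorem pr₁_Dmk (x₀ x₁ : A') (h : p x₀ = p x₁) : pr₁ p (Dmk p x₀ x₁ h) = x₁ := rfl

include hres in
theorem res_pr₁ (b : Dring p) : a'.res (pr₁ p b) = a'.res (pr₀ p b) := by
  rw [← hres, ← hres, p_pr]

/-- the augmentation of `D`. -/
def resD : Dring p →+* k := a'.res.comp (pr₀ p)

theorem resD_surjective : Surjective (resD a' p) := fun c => by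
  obtain ⟨x, rfl⟩ := a'.surj c
  exact ⟨Dmk p x x rfl, rfl⟩

include hres in
theorem pow_eq_zero_of_resD (n : ℕ) (hn : maximalIdeal A' ^ n = ⊥) (b : Dring p)
    (hb : resD a' p b = 0) : b ^ n = 0 := by
  have h0 : pr₀ p b ∈ maximalIdeal A' := by
    rw [← a'.ker, RingHom.mem_ker]
    exact hb
  have h1 : pr₁ p b ∈ maximalIdeal A' := by
    rw [← a'.ker, RingHom.mem_ker, res_pr₁ a' a₀ p hres]
    exact hb
  apply D_ext
  · rw [map_pow, map_zero]
    have := Ideal.pow_mem_pow h0 n
    rw [hn] at this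
    exact this
  · rw [map_pow, map_zero]
    have := Ideal.pow_mem_pow h1 n
    rw [hn] at this
    exact this

include hres in
theorem isLocalRing_D : IsLocalRing (Dring p) := by
  obtain ⟨n, hn⟩ := a'.nil
  refine isLocalRing_of_ker_nilpotent (resD a' p) (resD_surjective a' p) fun b hb => ?_
  exact ⟨n, pow_eq_zero_of_resD a' a₀ p hres n hn b hb⟩

variable [IsLocalRing (Dring p)]

theorem ker_resD : RingHom.ker (resD a' p) = maximalIdeal (Dring p) :=
  IsLocalRing.eq_maximalIdeal
    (RingHom.ker_isMaximal_of_surjective (resD a' p) (resD_surjective a' p))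

include hres in
/-- the augmentation data of `D`. -/
def augD : Aug k (Dring p) where
  res := resD a' p
  surj := resD_surjective a' p
  ker := ker_resD a' p
  nil := by
    obtain ⟨n, hn⟩ := a'.nil
    refine ⟨n, ?_⟩
    rw [Ideal.zero_eq_bot, eq_bot_iff]
    intro b hb
    have h0 : pr₀ p b ∈ maximalIdeal A' ^ n := by
      have h1 : (maximalIdeal (Dring p)).map (pr₀ p) ≤ maximalIdeal A' := by
        refine Ideal.map_le_iff_le_comap.mpr fun x hx => ?_
        rw [← ker_resD a' p, RingHom.mem_ker] at hx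
        rw [Ideal.mem_comap, ← a'.ker, RingHom.mem_ker]
        exact hx
      have h2 := Ideal.mem_map_of_mem (pr₀ p) hb
      rw [Ideal.map_pow] at h2
      exact Ideal.pow_right_mono h1 n h2
    have h1 : pr₁ p b ∈ maximalIdeal A' ^ n := by
      have h1 : (maximalIdeal (Dring p)).map (pr₁ p) ≤ maximalIdeal A' := by
        refine Ideal.map_le_iff_le_comap.mpr fun x hx => ?_
        rw [← ker_resD a' p, RingHom.mem_ker] at hx
        rw [Ideal.mem_comap, ← a'.ker, RingHom.mem_ker, res_pr₁ a' a₀ p hres]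
        exact hx
      have h2 := Ideal.mem_map_of_mem (pr₁ p) hb
      rw [Ideal.map_pow] at h2
      exact Ideal.pow_right_mono h1 n h2
    rw [hn] at h0 h1
    rw [Ideal.mem_bot]
    exact D_ext p _ _ (by rw [map_zero]; exact h0) (by rw [map_zero]; exact h1)

theorem augD_res (b : Dring p) : (augD a' a₀ p hres).res b = a'.res (pr₀ p b) := rfl

theorem pr₀_surjective : Surjective (pr₀ p) := fun x => ⟨Dmk p x x rfl, rfl⟩

theorem pr₁_surjective : Surjective (pr₁ p) := fun x => ⟨Dmk p x x rfl, rfl⟩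

/-- the fibre product property of `D` over `A`. -/
theorem D_surj₁ (x₀ x₁ : A') (h : p x₀ = p x₁) : ∃ b, pr₀ p b = x₀ ∧ pr₁ p b = x₁ :=
  ⟨Dmk p x₀ x₁ h, rfl, rfl⟩

section Sigma

include hp hJp in
theorem J_le_maximalIdeal : J ≤ maximalIdeal A' := by
  refine IsLocalRing.le_maximalIdeal fun h => ?_
  have h1 : (1 : A') ∈ J := by rw [h]; exact Submodule.mem_top
  rw [hJp, map_one] at h1
  exact one_ne_zero h1

include hk hmJ in
/-- multiplication on `J` only depends on the residue class. -/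
theorem mul_eq_algebraMap_mul (x : A') (j : A') (hj : j ∈ J) :
    x * j = algebraMap k A' (a'.res x) * j := by
  have h1 : x - algebraMap k A' (a'.res x) ∈ maximalIdeal A' := by
    rw [← a'.ker, RingHom.mem_ker, map_sub, hk, sub_self]
  have h2 := hmJ _ h1 j hj
  rw [sub_mul, sub_eq_zero] at h2
  exact h2

variable [Module kᵐᵒᵖ ↥J] [IsCentralScalar k ↥J]

include hJp in
theorem sub_mem_J (b : Dring p) : pr₁ p b - pr₀ p b ∈ J := by
  rw [hJp, map_sub, p_pr, sub_self]

/-- the difference `c₁ - c₀` as an element of `J`. -/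
def diffJ (b : Dring p) : ↥J := ⟨pr₁ p b - pr₀ p b, sub_mem_J p J hJp b⟩

theorem diffJ_add (b b' : Dring p) : diffJ p J hJp (b + b') = diffJ p J hJp b + diffJ p J hJp b' := by
  apply Subtype.ext
  change pr₁ p (b + b') - pr₀ p (b + b') = (pr₁ p b - pr₀ p b) + (pr₁ p b' - pr₀ p b')
  rw [map_add, map_add]
  ring

include hp hk hmJ in
theorem diffJ_mul (b b' : Dring p) : diffJ p J hJp (b * b') =
    a'.res (pr₀ p b) • diffJ p J hJp b' + a'.res (pr₀ p b') • diffJ p J hJp b := by
  apply Subtype.ext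
  change pr₁ p (b * b') - pr₀ p (b * b') =
    a'.res (pr₀ p b) • (pr₁ p b' - pr₀ p b') + a'.res (pr₀ p b') • (pr₁ p b - pr₀ p b)
  rw [Algebra.smul_def, Algebra.smul_def,
    ← mul_eq_algebraMap_mul a' hk J hmJ _ _ (sub_mem_J p J hJp b'),
    ← mul_eq_algebraMap_mul a' hk J hmJ _ _ (sub_mem_J p J hJp b), map_mul, map_mul]
  have hJm := J_le_maximalIdeal p hp J hJp
  have h3 := hmJ _ (hJm (sub_mem_J p J hJp b)) _ (sub_mem_J p J hJp b')
  linear_combination h3

include hp hk hmJ in
/-- `σ (c₀, c₁) = (res c₀, c₁ - c₀)`. -/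
def sigma : Dring p →+* TrivSqZeroExt k ↥J where
  toFun b := TrivSqZeroExt.inl (a'.res (pr₀ p b)) + TrivSqZeroExt.inr (diffJ p J hJp b)
  map_one' := by
    apply TrivSqZeroExt.ext
    · simp
    · have h0 : diffJ p J hJp (1 : Dring p) = 0 := by
        apply Subtype.ext
        change pr₁ p 1 - pr₀ p 1 = 0
        rw [map_one, map_one, sub_self]
      simp [h0]
  map_mul' b b' := by
    apply TrivSqZeroExt.ext
    · simp
    · rw [TrivSqZeroExt.snd_mul]
      simp only [TrivSqZeroExt.snd_add, TrivSqZeroExt.snd_inl, TrivSqZeroExt.snd_inr, zero_add,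
        TrivSqZeroExt.fst_add, TrivSqZeroExt.fst_inl, TrivSqZeroExt.fst_inr, add_zero,
        op_smul_eq_smul]
      exact diffJ_mul a' p hp hk J hJp hmJ b b'
  map_zero' := by
    apply TrivSqZeroExt.ext
    · simp
    · have h0 : diffJ p J hJp (0 : Dring p) = 0 := by
        apply Subtype.ext
        change pr₁ p 0 - pr₀ p 0 = 0
        rw [map_zero, map_zero, sub_self]
      simp [h0]
  map_add' b b' := by
    apply TrivSqZeroExt.ext
    · simp
    · simp only [TrivSqZeroExt.snd_add, TrivSqZeroExt.snd_inl, TrivSqZeroExt.snd_inr, zero_add]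
      exact diffJ_add p J hJp b b'

theorem fst_sigma (b : Dring p) :
    (sigma a' p hp hk J hJp hmJ b).fst = a'.res (pr₀ p b) := by
  change (TrivSqZeroExt.inl (a'.res (pr₀ p b)) + TrivSqZeroExt.inr (diffJ p J hJp b)).fst = _
  simp

theorem snd_sigma (b : Dring p) :
    (sigma a' p hp hk J hJp hmJ b).snd = diffJ p J hJp b := by
  change (TrivSqZeroExt.inl (a'.res (pr₀ p b)) + TrivSqZeroExt.inr (diffJ p J hJp b)).snd = _
  simp

theorem sigma_inj (b b' : Dring p) (h₀ : pr₀ p b = pr₀ p b')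
    (h₁ : sigma a' p hp hk J hJp hmJ b = sigma a' p hp hk J hJp hmJ b') : b = b' := by
  apply D_ext p _ _ h₀
  have h2 := congrArg TrivSqZeroExt.snd h₁
  rw [snd_sigma, snd_sigma] at h2
  have h3 := congrArg Subtype.val h2
  change pr₁ p b - pr₀ p b = pr₁ p b' - pr₀ p b' at h3
  rw [h₀] at h3
  exact sub_left_injective h3

theorem sigma_surj (x : A') (t : TrivSqZeroExt k ↥J) (h : a'.res x = t.fst) :
    ∃ b, pr₀ p b = x ∧ sigma a' p hp hk J hJp hmJ b = t := by
  have hm : p x = p (x + (t.snd : A')) := by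
    rw [map_add, (hJp _).1 t.snd.2, add_zero]
  refine ⟨Dmk p x (x + t.snd) hm, rfl, ?_⟩
  apply TrivSqZeroExt.ext
  · rw [fst_sigma, pr₀_Dmk, h]
  · rw [snd_sigma]
    apply Subtype.ext
    change pr₁ p (Dmk p x (x + t.snd) hm) - pr₀ p (Dmk p x (x + t.snd) hm) = _
    rw [pr₀_Dmk, pr₁_Dmk, add_sub_cancel_left]

theorem sigma_surjective : Surjective (sigma a' p hp hk J hJp hmJ) := fun t => by
  obtain ⟨x, hx⟩ := a'.surj t.fst
  obtain ⟨b, -, hb⟩ := sigma_surj a' p hp hk J hJp hmJ x t hx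
  exact ⟨b, hb⟩

end Sigma

end

end Groth.Agent.Lib.DefExt
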