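import Groth.Prelude.Def_Exal
import Mathlib.RingTheory.Derivation.Basic
import Mathlib.RingTheory.Ideal.Quotient.Operations
import Mathlib.RingTheory.Ideal.Maps
import Mathlib.Tactic.LinearCombination
import Mathlib.Tactic.Ring
import Mathlib.Tactic.Abel

/-!
# Classes of extensions of `B` by `M` via a "free" cover `R → B` (helper1)

Let `A → R → B` with `R → B` surjective with kernel `I`, such that every `A`-extension of `B` by `M`
admits an `A`-algebra lift `R → E` (e.g. `R` a polynomial `A`-algebra).  Then `Exalcom A B M` is in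
bijection with `Hom_R(I, M)` modulo restrictions of `A`-derivations `R → M`.  The quotient is given
abstractly by a surjection `q` with the right fibres (`exal_equiv_of_lifting`).
-/

namespace Groth.Agent.Lib.ExalY

universe u

set_option linter.unusedSectionVars false

attribute [local instance] Exal.opModule Exal.isCentralScalar_opModule

section Basic

variable {A : Type u} {B M : Type u} [CommRing A] [CommRing B] [Algebra A B] [AddCommGroup M] [Module B M]

theorem proj_incl (X : Exal.Ext A B M) (l : M) : X.proj (X.incl l) = 0 :=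
  (X.isExtension.exact _).2 ⟨l, rfl⟩

theorem incl_mul_incl (X : Exal.Ext A B M) (l l' : M) : X.incl l * X.incl l' = 0 := by
  rw [X.isExtension.mul_incl, proj_incl, zero_smul, map_zero]

/-- An algebra map of extensions compatible with projections and inclusions is an equivalence. -/
noncomputable def equivOfHom (X Y : Exal.Ext A B M) (φ : X.E →ₐ[A] Y.E)
    (hp : ∀ e, Y.proj (φ e) = X.proj e) (hi : ∀ l, φ (X.incl l) = Y.incl l) : X.Equiv Y where
  toAlgEquiv := AlgEquiv.ofBijective φ (by
    constructor
    · rw [injective_iff_map_eq_zero]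
      intro e he
      have h1 : X.proj e = 0 := by rw [← hp, he, map_zero]
      obtain ⟨l, rfl⟩ := (X.isExtension.exact e).1 h1
      rw [hi] at he
      have : l = 0 := Y.isExtension.incl_injective (by rw [he, map_zero])
      rw [this, map_zero]
    · intro y
      obtain ⟨e, he⟩ := X.isExtension.proj_surjective (Y.proj y)
      have h1 : Y.proj (y - φ e) = 0 := by rw [map_sub, hp, he, sub_self]
      obtain ⟨l, hl⟩ := (Y.isExtension.exact _).1 h1
      refine ⟨e + X.incl l, ?_⟩
      rw [map_add, hi, hl]
      abel)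
  proj_apply := hp
  apply_incl := hi

end Basic

variable {A B R M : Type u} [CommRing A] [CommRing B] [Algebra A B] [CommRing R] [Algebra A R]
  [Algebra R B] [IsScalarTower A R B] [AddCommGroup M] [Module B M] [Module R M]
  [IsScalarTower R B M] [Module A M] [IsScalarTower A R M] [IsScalarTower A B M]

/-- the kernel of `R → B`. -/
abbrev I (R B : Type u) [CommRing R] [CommRing B] [Algebra R B] : Ideal R := RingHom.ker (algebraMap R B)

section VOf

variable (X : Exal.Ext A B M) (s : R →ₐ[A] X.E) (hs : ∀ r, X.proj (s r) = algebraMap R B r)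

include hs in
theorem smul_incl (r : R) (m : M) : s r * X.incl m = X.incl (r • m) := by
  rw [X.isExtension.mul_incl, hs, algebraMap_smul]

/-- The `R`-linear map `I → M` attached to a lift `s : R → E`. -/
noncomputable def vOf : I R B →ₗ[R] M where
  toFun x := X.kerLift (s x) (by rw [hs]; exact x.2)
  map_add' x y := X.isExtension.incl_injective (by
    rw [X.incl_kerLift, map_add, X.incl_kerLift, X.incl_kerLift, Submodule.coe_add, map_add])
  map_smul' r x := X.isExtension.incl_injective (by
    rw [X.incl_kerLift, RingHom.id_apply, ← smul_incl X s hs, X.incl_kerLift, Submodule.coe_smul,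
      smul_eq_mul, map_mul])

theorem incl_vOf (x : I R B) : X.incl (vOf X s hs x) = s x :=
  X.incl_kerLift (s x) (by rw [hs]; exact x.2)

variable (s' : R →ₐ[A] X.E) (hs' : ∀ r, X.proj (s' r) = algebraMap R B r)

/-- The difference of two lifts, as a linear map. -/
noncomputable def derLin : R →ₗ[A] M where
  toFun := fun r => X.kerLift (s r - s' r) (by rw [map_sub, hs, hs', sub_self])
  map_add' := fun r r' => X.isExtension.incl_injective (by
    rw [map_add X.incl, X.incl_kerLift, X.incl_kerLift, X.incl_kerLift, map_add, map_add]; abel)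
  map_smul' := fun a r => X.isExtension.incl_injective (by
    rw [X.incl_kerLift, RingHom.id_apply, map_smul, map_smul, ← smul_sub,
      ← algebraMap_smul B a (X.kerLift _ _), ← X.proj.commutes a, ← X.isExtension.mul_incl,
      X.incl_kerLift, Algebra.smul_def])

theorem incl_derLin (r : R) : X.incl (derLin X s hs s' hs' r) = s r - s' r :=
  X.incl_kerLift (s r - s' r) (by rw [map_sub, hs, hs', sub_self])

/-- The difference of two lifts is a derivation. -/
noncomputable def derOf : Derivation A R M :=
  Derivation.mk' (derLin X s hs s' hs')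
    (fun r r' => X.isExtension.incl_injective (by
      rw [incl_derLin, map_add, ← smul_incl X s hs, ← smul_incl X s' hs', incl_derLin,
        incl_derLin, map_mul, map_mul]
      ring))

theorem incl_derOf (r : R) : X.incl (derOf X s hs s' hs' r) = s r - s' r :=
  incl_derLin X s hs s' hs' r

theorem vOf_sub_vOf (x : I R B) : vOf X s hs x - vOf X s' hs' x = derOf X s hs s' hs' x :=
  X.isExtension.incl_injective (by rw [map_sub, incl_vOf, incl_vOf, incl_derOf])

end VOf

section Invariance

variable {X X' : Exal.Ext A B M} (e : X.Equiv X') (s : R →ₐ[A] X.E)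
  (hs : ∀ r, X.proj (s r) = algebraMap R B r)

theorem vOf_equiv : vOf X' ((e.toAlgEquiv : X.E →ₐ[A] X'.E).comp s)
    (fun r => by
      change X'.proj (e.toAlgEquiv (s r)) = _
      rw [e.proj_apply, hs]) = vOf X s hs := by
  ext x
  apply X'.isExtension.incl_injective
  rw [incl_vOf, ← e.apply_incl, incl_vOf]
  rfl

end Invariance

section Modify

variable (X : Exal.Ext A B M) (s : R →ₐ[A] X.E) (hs : ∀ r, X.proj (s r) = algebraMap R B r)
  (D : Derivation A R M)

/-- modifying a lift by a derivation. -/
noncomputable def addDer : R →ₐ[A] X.E where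
  toFun r := s r + X.incl (D r)
  map_one' := by rw [map_one, D.map_one_eq_zero, map_zero, add_zero]
  map_mul' r r' := by
    rw [D.leibniz, map_add, ← smul_incl X s hs, ← smul_incl X s hs, map_mul]
    have := incl_mul_incl X (D r) (D r')
    linear_combination -this
  map_zero' := by rw [map_zero, map_zero, map_zero, add_zero]
  map_add' r r' := by rw [map_add, map_add, map_add]; abel
  commutes' a := by rw [D.map_algebraMap, map_zero, add_zero, s.commutes]

theorem proj_addDer (r : R) : X.proj (addDer X s hs D r) = algebraMap R B r := by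
  change X.proj (s r + X.incl (D r)) = _
  rw [map_add, hs, proj_incl, add_zero]

theorem vOf_addDer (x : I R B) :
    vOf X (addDer X s hs D) (proj_addDer X s hs D) x = vOf X s hs x + D x := by
  apply X.isExtension.incl_injective
  rw [incl_vOf, map_add, incl_vOf]
  rfl

end Modify

section Standard

variable (A) (v : I R B →ₗ[R] M)

/-- the ideal `{(x, -v x) : x ∈ I}` of `R ⊕ M`. -/
def Kv : Ideal (TrivSqZeroExt R M) where
  carrier := {y | ∃ x : I R B, (x : R) = y.fst ∧ -(v x) = y.snd}
  zero_mem' := ⟨0, by simp, by simp⟩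
  add_mem' := by
    rintro y y' ⟨x, hx1, hx2⟩ ⟨x', hx1', hx2'⟩
    refine ⟨x + x', ?_, ?_⟩
    · rw [TrivSqZeroExt.fst_add, ← hx1, ← hx1']; rfl
    · rw [TrivSqZeroExt.snd_add, ← hx2, ← hx2', map_add, neg_add]
  smul_mem' := by
    rintro c y ⟨x, hx1, hx2⟩
    refine ⟨c.fst • x, ?_, ?_⟩
    · rw [smul_eq_mul, TrivSqZeroExt.fst_mul, ← hx1]; rfl
    · rw [smul_eq_mul, TrivSqZeroExt.snd_mul, ← hx2, ← hx1, map_smul, op_smul_eq_smul, smul_neg]
      have : (x : R) • c.snd = 0 := by
        rw [← algebraMap_smul B (x : R) c.snd, show algebraMap R B x = 0 from x.2, zero_smul]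
      rw [this, add_zero]

theorem mem_Kv {y : TrivSqZeroExt R M} :
    y ∈ Kv v ↔ ∃ x : I R B, (x : R) = y.fst ∧ -(v x) = y.snd := Iff.rfl

/-- the middle ring of the standard extension attached to `v`. -/
def EV : Type u := TrivSqZeroExt R M ⧸ Kv v

instance : CommRing (EV v) := inferInstanceAs (CommRing (TrivSqZeroExt R M ⧸ Kv v))

/-- the quotient map. -/
def EV.mk : TrivSqZeroExt R M →+* EV v := Ideal.Quotient.mk (Kv v)

theorem EV.mk_surjective : Function.Surjective (EV.mk v) := Ideal.Quotient.mk_surjective

theorem EV.mk_eq_zero {y : TrivSqZeroExt R M} : EV.mk v y = 0 ↔ y ∈ Kv v :=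
  Ideal.Quotient.eq_zero_iff_mem

instance EV.algebra : Algebra A (EV v) :=
  ((EV.mk v).comp ((TrivSqZeroExt.inlHom R M).comp (algebraMap A R))).toAlgebra

theorem EV.algebraMap_apply (a : A) :
    algebraMap A (EV v) a = EV.mk v (TrivSqZeroExt.inl (algebraMap A R a)) := rfl

/-- first projection as a ring hom. -/
def fstRingHom : TrivSqZeroExt R M →+* R where
  toFun := TrivSqZeroExt.fst
  map_one' := TrivSqZeroExt.fst_one
  map_mul' := TrivSqZeroExt.fst_mul
  map_zero' := TrivSqZeroExt.fst_zero
  map_add' := TrivSqZeroExt.fst_add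

/-- the projection of the standard extension. -/
def EV.proj : EV v →ₐ[A] B :=
  { Ideal.Quotient.lift (Kv v) ((algebraMap R B).comp (fstRingHom (R := R) (M := M))) (by
      rintro y ⟨x, hx1, -⟩
      change algebraMap R B y.fst = 0
      rw [← hx1]; exact x.2) with
    commutes' := fun a => by
      change algebraMap R B (algebraMap A R a) = _
      rw [← IsScalarTower.algebraMap_apply] }

theorem EV.proj_mk (y : TrivSqZeroExt R M) : EV.proj A v (EV.mk v y) = algebraMap R B y.fst := rfl

/-- the inclusion of the standard extension. -/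
def EV.incl : M →+ EV v := (EV.mk v).toAddMonoidHom.comp (TrivSqZeroExt.inrHom R M).toAddMonoidHom

theorem EV.incl_apply (m : M) : EV.incl v m = EV.mk v (TrivSqZeroExt.inr m) := rfl

theorem EV.mk_inl_eq (x : I R B) :
    EV.mk v (TrivSqZeroExt.inl (x : R)) = EV.mk v (TrivSqZeroExt.inr (v x)) := by
  rw [← sub_eq_zero, ← map_sub, EV.mk_eq_zero]
  exact ⟨x, by simp, by simp⟩

variable (hπ : Function.Surjective (algebraMap R B))

include hπ in
theorem EV.isExtension : Exal.IsExtension (EV.proj A v) (EV.incl v) where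
  proj_surjective := fun b => by
    obtain ⟨r, rfl⟩ := hπ b
    exact ⟨EV.mk v (TrivSqZeroExt.inl r), rfl⟩
  incl_injective := by
    rw [injective_iff_map_eq_zero]
    intro m hm
    rw [EV.incl_apply, EV.mk_eq_zero] at hm
    obtain ⟨x, hx1, hx2⟩ := hm
    rw [TrivSqZeroExt.fst_inr] at hx1
    rw [TrivSqZeroExt.snd_inr] at hx2
    have : x = 0 := Subtype.ext hx1
    rw [← hx2, this, map_zero, neg_zero]
  exact := fun y => by
    obtain ⟨t, rfl⟩ := EV.mk_surjective v y
    constructor
    · intro h
      rw [EV.proj_mk] at h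
      let x : I R B := ⟨t.fst, h⟩
      refine ⟨t.snd + v x, ?_⟩
      rw [EV.incl_apply, TrivSqZeroExt.inr_add, map_add, ← EV.mk_inl_eq, ← map_add]
      congr 1
      exact TrivSqZeroExt.ext (by simp [x]) (by simp)
    · rintro ⟨m, hm⟩
      rw [← hm, EV.incl_apply, EV.proj_mk, TrivSqZeroExt.fst_inr, map_zero]
  mul_incl := fun y z => by
    obtain ⟨t, rfl⟩ := EV.mk_surjective v y
    rw [EV.incl_apply, ← map_mul, EV.incl_apply, EV.proj_mk, algebraMap_smul]
    congr 1
    exact TrivSqZeroExt.ext (by simp) (by simp)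

/-- the standard extension attached to `v`. -/
def EVext : Exal.Ext A B M where
  E := EV v
  proj := EV.proj A v
  incl := EV.incl v
  isExtension := EV.isExtension A v hπ

/-- the canonical lift `R → E_v`. -/
def EV.lift : R →ₐ[A] (EVext A v hπ).E :=
  { (EV.mk v).comp (TrivSqZeroExt.inlHom R M) with
    commutes' := fun _ => rfl }

theorem EV.proj_lift (r : R) : (EVext A v hπ).proj (EV.lift A v hπ r) = algebraMap R B r := rfl

theorem vOf_EV : vOf (EVext A v hπ) (EV.lift A v hπ) (EV.proj_lift A v hπ) = v := by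
  ext x
  apply (EVext A v hπ).isExtension.incl_injective
  rw [incl_vOf]
  exact EV.mk_inl_eq v x

end Standard

section Compare

variable (X : Exal.Ext A B M) (s : R →ₐ[A] X.E) (hs : ∀ r, X.proj (s r) = algebraMap R B r)
  (hπ : Function.Surjective (algebraMap R B))

/-- `R ⊕ M → E`, `(r, m) ↦ s r + i m`. -/
noncomputable def theta : TrivSqZeroExt R M →+* X.E where
  toFun t := s t.fst + X.incl t.snd
  map_one' := by rw [TrivSqZeroExt.fst_one, TrivSqZeroExt.snd_one, map_one, map_zero, add_zero]
  map_mul' t t' := by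
    rw [TrivSqZeroExt.fst_mul, TrivSqZeroExt.snd_mul, op_smul_eq_smul, map_add,
      ← smul_incl X s hs, ← smul_incl X s hs, map_mul]
    have := incl_mul_incl X t.snd t'.snd
    linear_combination -this
  map_zero' := by rw [TrivSqZeroExt.fst_zero, TrivSqZeroExt.snd_zero, map_zero, map_zero, add_zero]
  map_add' t t' := by
    rw [TrivSqZeroExt.fst_add, TrivSqZeroExt.snd_add, map_add, map_add]; abel

theorem theta_apply (t : TrivSqZeroExt R M) : theta X s hs t = s t.fst + X.incl t.snd := rfl

/-- the comparison map `E_v → E` for `v = vOf X s`. -/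
noncomputable def compareHom (v : I R B →ₗ[R] M) (hv : vOf X s hs = v) :
    (EVext A v hπ).E →ₐ[A] X.E :=
  { Ideal.Quotient.lift (Kv v) (theta X s hs) (by
      rintro y ⟨x, hx1, hx2⟩
      rw [theta_apply, ← hx1, ← hx2, map_neg, ← hv, incl_vOf, add_neg_cancel]) with
    commutes' := fun a => by
      change theta X s hs (TrivSqZeroExt.inl (algebraMap A R a)) = _
      rw [theta_apply, TrivSqZeroExt.fst_inl, TrivSqZeroExt.snd_inl, map_zero, add_zero,
        s.commutes] }

theorem compareHom_mk (v : I R B →ₗ[R] M) (hv : vOf X s hs = v) (t : TrivSqZeroExt R M) :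
    compareHom X s hs hπ v hv (EV.mk v t) = s t.fst + X.incl t.snd := rfl

/-- every extension is equivalent to the standard one attached to `vOf`. -/
noncomputable def compareEquiv (v : I R B →ₗ[R] M) (hv : vOf X s hs = v) :
    (EVext A v hπ).Equiv X :=
  equivOfHom (EVext A v hπ) X (compareHom X s hs hπ v hv)
    (fun e => by
      obtain ⟨t, rfl⟩ := EV.mk_surjective v e
      rw [compareHom_mk, map_add, hs, proj_incl, add_zero]
      rfl)
    (fun l => by
      change compareHom X s hs hπ v hv (EV.mk v (TrivSqZeroExt.inr l)) = _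
      rw [compareHom_mk, TrivSqZeroExt.fst_inr, TrivSqZeroExt.snd_inr, map_zero, zero_add])

end Compare

section Main

/-- the canonical lift into the trivial extension. -/
noncomputable def trivLift : R →ₐ[A] (Exal.Ext.trivial A B M).E where
  toFun r := (TrivSqZeroExt.inl (algebraMap R B r) : TrivSqZeroExt B M)
  map_one' := by rw [map_one]; rfl
  map_mul' r r' := by rw [map_mul]; exact TrivSqZeroExt.inl_mul M _ _
  map_zero' := by rw [map_zero]; rfl
  map_add' r r' := by rw [map_add]; exact TrivSqZeroExt.inl_add M _ _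
  commutes' a := by
    change (TrivSqZeroExt.inl (algebraMap R B (algebraMap A R a)) : TrivSqZeroExt B M) =
      TrivSqZeroExt.inl (algebraMap A B a)
    rw [← IsScalarTower.algebraMap_apply]

theorem proj_trivLift (r : R) :
    (Exal.Ext.trivial A B M).proj (trivLift (A := A) (M := M) r) = algebraMap R B r := rfl

theorem vOf_trivLift :
    vOf (Exal.Ext.trivial A B M) (trivLift (A := A) (R := R) (M := M)) proj_trivLift = 0 := by
  ext x
  apply (Exal.Ext.trivial A B M).isExtension.incl_injective
  rw [incl_vOf, LinearMap.zero_apply, map_zero]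
  change (TrivSqZeroExt.inl (algebraMap R B x) : TrivSqZeroExt B M) = 0
  rw [show algebraMap R B x = 0 from x.2]
  rfl

/-- **Main theorem.**  `Exalcom A B M` is the quotient of `Hom_R(I, M)` by restrictions of derivations,
for any surjection `R → B` from an `A`-algebra with the lifting property. -/
theorem exal_equiv_of_lifting
    (hπ : Function.Surjective (algebraMap R B))
    (hlift : ∀ X : Exal.Ext A B M, ∃ s : R →ₐ[A] X.E, ∀ r, X.proj (s r) = algebraMap R B r)
    {Y : Type*} (q : (I R B →ₗ[R] M) → Y) (hq : Function.Surjective q)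
    (hrel : ∀ v v', q v = q v' ↔ ∃ D : Derivation A R M, ∀ x, v x - v' x = D x) :
    ∃ e : Exal.Exalcom A B M ≃ Y, e 0 = q 0 := by
  classical
  choose s hs using hlift
  -- independence of the lift
  have hindep : ∀ (X : Exal.Ext A B M) (s₁ s₂ : R →ₐ[A] X.E) (h₁ : ∀ r, X.proj (s₁ r) = algebraMap R B r)
      (h₂ : ∀ r, X.proj (s₂ r) = algebraMap R B r), q (vOf X s₁ h₁) = q (vOf X s₂ h₂) := by
    intro X s₁ s₂ h₁ h₂
    rw [hrel]
    exact ⟨derOf X s₁ h₁ s₂ h₂, fun x => vOf_sub_vOf X s₁ h₁ s₂ h₂ x⟩
  let Φ₀ : Exal.Ext A B M → Y := fun X => q (vOf X (s X) (hs X))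
  have hΦ₀ : ∀ X X' : Exal.Ext A B M, (Exal.Ext.setoid A B M).r X X' → Φ₀ X = Φ₀ X' := by
    rintro X X' ⟨e⟩
    change q _ = q _
    rw [← vOf_equiv e (s X) (hs X)]
    exact hindep X' _ _ _ _
  let Φ : Exal.Exalcom A B M → Y := Quotient.lift Φ₀ hΦ₀
  have hΦ : ∀ (X : Exal.Ext A B M) (s₁ : R →ₐ[A] X.E) (h₁ : ∀ r, X.proj (s₁ r) = algebraMap R B r),
      Φ X.cl = q (vOf X s₁ h₁) := fun X s₁ h₁ => hindep X _ _ _ _
  have hinj : Function.Injective Φ := by
    intro c c' hcc'
    induction c using Quotient.inductionOn with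
    | _ X =>
    induction c' using Quotient.inductionOn with
    | _ X' =>
    change Φ X.cl = Φ X'.cl at hcc'
    rw [hΦ X (s X) (hs X), hΦ X' (s X') (hs X'), hrel] at hcc'
    obtain ⟨D, hD⟩ := hcc'
    -- modify the lift of X'
    have hv : vOf X' (addDer X' (s X') (hs X') D) (proj_addDer X' (s X') (hs X') D) =
        vOf X (s X) (hs X) := by
      ext x
      rw [vOf_addDer, ← hD x]
      abel
    have e₁ := compareEquiv (A := A) X (s X) (hs X) hπ _ rfl
    have e₂ := compareEquiv (A := A) X' (addDer X' (s X') (hs X') D)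
      (proj_addDer X' (s X') (hs X') D) hπ _ hv
    exact Quotient.sound ⟨e₁.symm.trans e₂⟩
  have hsurj : Function.Surjective Φ := by
    intro y
    obtain ⟨v, rfl⟩ := hq y
    refine ⟨(EVext A v hπ).cl, ?_⟩
    rw [hΦ _ (EV.lift A v hπ) (EV.proj_lift A v hπ), vOf_EV]
  refine ⟨Equiv.ofBijective Φ ⟨hinj, hsurj⟩, ?_⟩
  change Φ (Exal.Ext.trivial A B M).cl = q 0
  rw [hΦ _ trivLift proj_trivLift, vOf_trivLift]

end Main

section Trivial

/-- If the standard extension attached to `v` is trivial, `v` is the restriction of a derivation.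
(No lifting property is needed here.) -/
theorem exists_der_of_isTrivial (hπ : Function.Surjective (algebraMap R B)) (v : I R B →ₗ[R] M)
    (h : (EVext A v hπ).IsTrivial) : ∃ D : Derivation A R M, ∀ x : I R B, v x = D x := by
  obtain ⟨σ, hσ⟩ := h
  let s' : R →ₐ[A] (EVext A v hπ).E := σ.comp (IsScalarTower.toAlgHom A R B)
  have hs' : ∀ r, (EVext A v hπ).proj (s' r) = algebraMap R B r := fun r => hσ _
  have h0 : vOf (EVext A v hπ) s' hs' = 0 := by
    ext x
    apply (EVext A v hπ).isExtension.incl_injective
    rw [incl_vOf, LinearMap.zero_apply, map_zero]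
    change σ (algebraMap R B x) = 0
    rw [show algebraMap R B x = 0 from x.2, map_zero]
  refine ⟨derOf (EVext A v hπ) (EV.lift A v hπ) (EV.proj_lift A v hπ) s' hs', fun x => ?_⟩
  rw [← vOf_sub_vOf, vOf_EV, h0, LinearMap.zero_apply, sub_zero]

end Trivial

end Groth.Agent.Lib.ExalY
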