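import Mathlib
import Groth.Prelude.Def_Exal
import Groth.Agent.Lib.DefGlue1
import Groth.Agent.Lib.ExalY

/-!
# Ring data over `k ⊕ M` and extensions of `B₀` by `B₀ ⊗ M` (helper1)

* `phi X : k ⊕ M → X.E`, `(a, m) ↦ a + i(1 ⊗ m)`, for an extension `X` of `B₀` by `B₀ ⊗[k] M`; it is flat (`flat_phi`) and the
  kernel of the projection is generated by the `φ(0, m)` (`mem_span_of_proj_eq_zero`);
* conversely `extOf φ π …` makes a ring `R` over `k ⊕ M` with `R/(M)R = B₀` and a basis lifting a `k`-basis of `B₀` into an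
  extension (`phi_extOf`).
-/

set_option autoImplicit false
set_option linter.unusedVariables false
set_option linter.unusedSectionVars false

universe u

open TensorProduct Function

namespace Groth.Agent.Lib.DefTan

open Groth.Agent.Lib.DefGlue Groth.Agent.Lib.ExalY

section FromExt

variable {k : Type u} [Field k] {B₀ : Type u} [CommRing B₀] [Algebra k B₀]
  {M : Type u} [AddCommGroup M] [Module k M] [Module kᵐᵒᵖ M] [SMulCommClass k kᵐᵒᵖ M]
  [IsCentralScalar k M]
  (X : Exal.Ext k B₀ (B₀ ⊗[k] M))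

theorem algebraMap_mul_incl (c : k) (z : B₀ ⊗[k] M) :
    algebraMap k X.E c * X.incl z = X.incl (c • z) := by
  rw [X.isExtension.mul_incl, AlgHom.commutes, algebraMap_smul]

theorem incl_one_tmul_smul (c : k) (m : M) :
    X.incl ((1 : B₀) ⊗ₜ[k] (c • m)) = algebraMap k X.E c * X.incl ((1 : B₀) ⊗ₜ[k] m) := by
  rw [algebraMap_mul_incl, TensorProduct.tmul_smul]

/-- `(a, m) ↦ a + i(1 ⊗ m)`. -/
noncomputable def phi : TrivSqZeroExt k M →+* X.E where
  toFun t := algebraMap k X.E t.fst + X.incl ((1 : B₀) ⊗ₜ[k] t.snd)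
  map_one' := by
    rw [TrivSqZeroExt.fst_one, TrivSqZeroExt.snd_one, TensorProduct.tmul_zero, map_zero, map_one,
      add_zero]
  map_mul' t t' := by
    rw [TrivSqZeroExt.fst_mul, TrivSqZeroExt.snd_mul, op_smul_eq_smul, TensorProduct.tmul_add,
      map_add, map_mul, incl_one_tmul_smul, incl_one_tmul_smul]
    have := incl_mul_incl X ((1 : B₀) ⊗ₜ[k] t.snd) ((1 : B₀) ⊗ₜ[k] t'.snd)
    linear_combination -this
  map_zero' := by
    rw [TrivSqZeroExt.fst_zero, TrivSqZeroExt.snd_zero, TensorProduct.tmul_zero, map_zero, map_zero,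
      add_zero]
  map_add' t t' := by
    rw [TrivSqZeroExt.fst_add, TrivSqZeroExt.snd_add, TensorProduct.tmul_add, map_add, map_add]
    abel

theorem phi_apply (t : TrivSqZeroExt k M) :
    phi X t = algebraMap k X.E t.fst + X.incl ((1 : B₀) ⊗ₜ[k] t.snd) := rfl

theorem phi_inl (c : k) : phi X (TrivSqZeroExt.inl c) = algebraMap k X.E c := by
  rw [phi_apply, TrivSqZeroExt.fst_inl, TrivSqZeroExt.snd_inl, TensorProduct.tmul_zero, map_zero,
    add_zero]

theorem phi_inr (m : M) : phi X (TrivSqZeroExt.inr m) = X.incl ((1 : B₀) ⊗ₜ[k] m) := by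
  rw [phi_apply, TrivSqZeroExt.fst_inr, TrivSqZeroExt.snd_inr, map_zero, zero_add]

theorem proj_phi (t : TrivSqZeroExt k M) : X.proj (phi X t) = algebraMap k B₀ t.fst := by
  rw [phi_apply, map_add, proj_incl, add_zero, AlgHom.commutes]

/-- `i(b ⊗ m) = φ(0, m) * r` for every `r` over `b`. -/
theorem incl_tmul (r : X.E) (m : M) :
    X.incl (X.proj r ⊗ₜ[k] m) = phi X (TrivSqZeroExt.inr m) * r := by
  rw [phi_inr, mul_comm, X.isExtension.mul_incl, TensorProduct.smul_tmul', smul_eq_mul, mul_one]

/-- the kernel of the projection is generated by the `φ(0, m)`. -/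
theorem mem_span_of_proj_eq_zero (r : X.E) (hr : X.proj r = 0) :
    r ∈ Ideal.span (Set.range fun m : M => phi X (TrivSqZeroExt.inr m)) := by
  obtain ⟨z, rfl⟩ := (X.isExtension.exact r).1 hr
  induction z using TensorProduct.induction_on with
  | zero => rw [map_zero]; exact Ideal.zero_mem _
  | tmul b m =>
    obtain ⟨r', rfl⟩ := X.isExtension.proj_surjective b
    rw [incl_tmul]
    exact Ideal.mul_mem_right _ _ (Ideal.subset_span ⟨m, rfl⟩)
  | add z z' hz hz' =>
    rw [map_add]
    exact Ideal.add_mem _ (hz (by rw [proj_incl])) (hz' (by rw [proj_incl]))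

section Flat

variable {ι : Type u} (β : Module.Basis ι k B₀) (e : ι → X.E) (he : ∀ i, X.proj (e i) = β i)

theorem comb_inl (a : ι →₀ k) :
    comb (phi X) e (Finsupp.mapRange (TrivSqZeroExt.inlHom k M) (map_zero _) a) =
      comb (algebraMap k X.E) e a := by
  rw [comb_mapRange]
  congr 1
  exact RingHom.ext fun c => phi_inl X c

include he in
theorem proj_comb_algebraMap (a : ι →₀ k) :
    X.proj (comb (algebraMap k X.E) e a) = Finsupp.linearCombination k β a := by
  rw [Finsupp.linearCombination_apply]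
  unfold comb
  rw [Finsupp.sum, map_sum]
  refine Finset.sum_congr rfl fun i _ => ?_
  rw [map_mul, AlgHom.commutes, he]
  exact (Algebra.smul_def _ _).symm

include he in
theorem comb_inr (c : ι →₀ M) :
    comb (phi X) e (Finsupp.mapRange (TrivSqZeroExt.inr : M → TrivSqZeroExt k M)
      (TrivSqZeroExt.inr_zero k) c) = X.incl (c.sum fun i m => β i ⊗ₜ[k] m) := by
  unfold comb
  rw [Finsupp.sum_mapRange_index (h := fun i a => phi X a * e i)
    (fun i => by rw [map_zero, zero_mul]), Finsupp.sum, Finsupp.sum, map_sum]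
  refine Finset.sum_congr rfl fun i _ => ?_
  rw [← he i, incl_tmul]

theorem decomp (c : ι →₀ TrivSqZeroExt k M) :
    c = Finsupp.mapRange (TrivSqZeroExt.inlHom k M) (map_zero _)
        (Finsupp.mapRange TrivSqZeroExt.fst TrivSqZeroExt.fst_zero c) +
      Finsupp.mapRange (TrivSqZeroExt.inr : M → TrivSqZeroExt k M) (TrivSqZeroExt.inr_zero k)
        (Finsupp.mapRange TrivSqZeroExt.snd TrivSqZeroExt.snd_zero c) := by
  ext i
  · simp
  · simp

include he in
theorem comb_phi_injective : Injective (comb (phi X) e) := by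
  classical
  intro c c' hcc
  rw [← sub_eq_zero]
  have h0 : comb (phi X) e (c - c') = 0 := by rw [comb_sub, hcc, sub_self]
  generalize c - c' = d at h0
  rw [decomp d, comb_add, comb_inl, comb_inr X β e he] at h0
  have h1 := congrArg X.proj h0
  rw [map_add, proj_incl, add_zero, proj_comb_algebraMap X β e he, map_zero] at h1
  have h2 : Finsupp.mapRange TrivSqZeroExt.fst TrivSqZeroExt.fst_zero d = 0 := by
    have := β.linearIndependent
    rw [linearIndependent_iff] at this
    exact this _ h1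
  rw [h2] at h0
  have h3 : comb (algebraMap k X.E) e (0 : ι →₀ k) = 0 := comb_zero _ _
  rw [h3, zero_add] at h0
  have h4 := X.isExtension.incl_injective (h0.trans (map_zero X.incl).symm)
  have h5 := TensorProduct.sum_tmul_basis_left_eq_zero β _ h4
  rw [decomp d, h2, h5]
  simp

include he in
theorem comb_phi_surjective : Surjective (comb (phi X) e) := by
  classical
  intro r
  let a : ι →₀ k := β.repr (X.proj r)
  have h1 : X.proj (r - comb (algebraMap k X.E) e a) = 0 := by
    rw [map_sub, proj_comb_algebraMap X β e he, sub_eq_zero]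
    exact (β.linearCombination_repr _).symm
  obtain ⟨z, hz⟩ := (X.isExtension.exact _).1 h1
  obtain ⟨c, hc⟩ := TensorProduct.eq_repr_basis_left β z
  refine ⟨Finsupp.mapRange (TrivSqZeroExt.inlHom k M) (map_zero _) a +
    Finsupp.mapRange (TrivSqZeroExt.inr : M → TrivSqZeroExt k M) (TrivSqZeroExt.inr_zero k) c, ?_⟩
  rw [comb_add, comb_inl, comb_inr X β e he, hc, hz]
  ring

theorem flat_phi : (phi X).Flat := by
  let β := Module.Basis.ofVectorSpace k B₀
  let e : Module.Basis.ofVectorSpaceIndex k B₀ → X.E :=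
    fun i => Function.surjInv X.isExtension.proj_surjective (β i)
  have he : ∀ i, X.proj (e i) = β i := fun i => Function.surjInv_eq _ _
  exact flat_of_comb_bijective (phi X) e ⟨comb_phi_injective X β e he, comb_phi_surjective X β e he⟩

end Flat

end FromExt

section ToExt

variable {k : Type u} [Field k] {B₀ : Type u} [CommRing B₀] [Algebra k B₀]
  {M : Type u} [AddCommGroup M] [Module k M] [Module kᵐᵒᵖ M] [SMulCommClass k kᵐᵒᵖ M]
  [IsCentralScalar k M]
  {R : Type u} [CommRing R] (φ : TrivSqZeroExt k M →+* R) (π : R →+* B₀)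
  (hcomm : ∀ t, π (φ t) = algebraMap k B₀ t.fst) (hπ : Surjective π)
  (hker : ∀ r, π r = 0 → r ∈ Ideal.span (Set.range fun m : M => φ (TrivSqZeroExt.inr m)))

theorem inr_mul_of_mem_span (m : M) (r : R)
    (h : r ∈ Ideal.span (Set.range fun m : M => φ (TrivSqZeroExt.inr m))) :
    φ (TrivSqZeroExt.inr m) * r = 0 := by
  induction h using Submodule.span_induction with
  | mem x hx =>
    obtain ⟨m', rfl⟩ := hx
    rw [← map_mul, TrivSqZeroExt.inr_mul_inr, map_zero]
  | zero => rw [mul_zero]
  | add x y _ _ hx hy => rw [mul_add, hx, hy, add_zero]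
  | smul a x _ hx => rw [smul_eq_mul, mul_left_comm, hx, mul_zero]

include hker in
theorem inr_mul_of_ker (m : M) (r : R) (hr : π r = 0) : φ (TrivSqZeroExt.inr m) * r = 0 :=
  inr_mul_of_mem_span φ m r (hker r hr)

include hker in
theorem inr_mul_congr (m : M) (r r' : R) (h : π r = π r') :
    φ (TrivSqZeroExt.inr m) * r = φ (TrivSqZeroExt.inr m) * r' := by
  rw [← sub_eq_zero, ← mul_sub]
  exact inr_mul_of_ker φ π hker m _ (by rw [map_sub, h, sub_self])

/-- the `k`-algebra structure. -/
@[reducible] def algK : Algebra k R := (φ.comp (TrivSqZeroExt.inlHom k M)).toAlgebra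

/-- a set-theoretic section. -/
noncomputable def sec : B₀ → R := Function.surjInv hπ

theorem π_sec (b : B₀) : π (sec π hπ b) = b := Function.surjInv_eq hπ b

include hcomm hker in
/-- the bilinear map `(b, m) ↦ φ(0, m) * b̃`. -/
noncomputable def mu : letI := algK φ; B₀ →ₗ[k] M →ₗ[k] R :=
  letI := algK φ
  LinearMap.mk₂ k (fun b m => φ (TrivSqZeroExt.inr m) * sec π hπ b)
    (fun b b' m => by
      rw [← mul_add]
      exact inr_mul_congr φ π hker m _ _ (by rw [map_add, π_sec, π_sec, π_sec]))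
    (fun c b m => by
      change _ = φ (TrivSqZeroExt.inl c) * _
      rw [mul_left_comm]
      refine inr_mul_congr φ π hker m _ _ ?_
      rw [map_mul, hcomm, π_sec, π_sec, TrivSqZeroExt.fst_inl, Algebra.smul_def])
    (fun b m m' => by
      rw [TrivSqZeroExt.inr_add, map_add, add_mul])
    (fun c b m => by
      change _ = φ (TrivSqZeroExt.inl c) * _
      rw [← mul_assoc, ← map_mul, TrivSqZeroExt.inl_mul_inr])

include hcomm hker in
/-- the inclusion `B₀ ⊗ M → R`. -/
noncomputable def inclR : B₀ ⊗[k] M →+ R :=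
  letI := algK φ
  (TensorProduct.lift (mu φ π hcomm hπ hker)).toAddMonoidHom

theorem inclR_tmul (b : B₀) (m : M) :
    inclR φ π hcomm hπ hker (b ⊗ₜ[k] m) = φ (TrivSqZeroExt.inr m) * sec π hπ b := by
  rfl

theorem inclR_tmul' (r : R) (m : M) :
    inclR φ π hcomm hπ hker (π r ⊗ₜ[k] m) = φ (TrivSqZeroExt.inr m) * r := by
  rw [inclR_tmul]
  exact inr_mul_congr φ π hker m _ _ (π_sec π hπ _)

theorem mul_inclR (x : R) (z : B₀ ⊗[k] M) :
    x * inclR φ π hcomm hπ hker z = inclR φ π hcomm hπ hker (π x • z) := by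
  induction z using TensorProduct.induction_on with
  | zero => rw [smul_zero, map_zero, mul_zero]
  | tmul b m =>
    obtain ⟨r, rfl⟩ := hπ b
    rw [TensorProduct.smul_tmul', smul_eq_mul, ← map_mul, inclR_tmul', inclR_tmul']
    ring
  | add z z' hz hz' => rw [smul_add, map_add, map_add, mul_add, hz, hz']

theorem π_inclR (z : B₀ ⊗[k] M) : π (inclR φ π hcomm hπ hker z) = 0 := by
  induction z using TensorProduct.induction_on with
  | zero => rw [map_zero, map_zero]
  | tmul b m =>
    rw [inclR_tmul, map_mul, hcomm, TrivSqZeroExt.fst_inr, map_zero, zero_mul]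
  | add z z' hz hz' => rw [map_add, map_add, hz, hz', add_zero]

theorem exists_inclR_of_mem_span (r : R)
    (h : r ∈ Ideal.span (Set.range fun m : M => φ (TrivSqZeroExt.inr m))) :
    ∃ z, inclR φ π hcomm hπ hker z = r := by
  induction h using Submodule.span_induction with
  | mem x hx =>
    obtain ⟨m, rfl⟩ := hx
    refine ⟨(1 : B₀) ⊗ₜ[k] m, ?_⟩
    have := inclR_tmul' φ π hcomm hπ hker 1 m
    rw [map_one, mul_one] at this
    exact this
  | zero => exact ⟨0, map_zero _⟩
  | add x y _ _ hx hy =>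
    obtain ⟨z, rfl⟩ := hx
    obtain ⟨z', rfl⟩ := hy
    exact ⟨z + z', map_add _ _ _⟩
  | smul a x _ hx =>
    obtain ⟨z, rfl⟩ := hx
    exact ⟨π a • z, by rw [smul_eq_mul, mul_inclR]⟩

section Inj

variable {ι : Type u} (β : Module.Basis ι k B₀) (e : ι → R) (he : ∀ i, π (e i) = β i)
  (hinj : Injective (comb φ e))

include he hinj in
theorem inclR_injective : Injective (inclR φ π hcomm hπ hker) := by
  classical
  rw [injective_iff_map_eq_zero]
  intro z hz
  obtain ⟨c, rfl⟩ := TensorProduct.eq_repr_basis_left β z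
  have h1 : inclR φ π hcomm hπ hker (c.sum fun i m => β i ⊗ₜ[k] m) =
      comb φ e (Finsupp.mapRange (TrivSqZeroExt.inr : M → TrivSqZeroExt k M)
        (TrivSqZeroExt.inr_zero k) c) := by
    unfold comb
    rw [Finsupp.sum_mapRange_index (h := fun i a => φ a * e i)
      (fun i => by rw [map_zero, zero_mul]), Finsupp.sum, Finsupp.sum, map_sum]
    refine Finset.sum_congr rfl fun i _ => ?_
    rw [← he i, inclR_tmul']
  rw [h1] at hz
  have h2 : comb φ e (0 : ι →₀ TrivSqZeroExt k M) = 0 := comb_zero _ _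
  have h3 := hinj (hz.trans h2.symm)
  have h4 : c = 0 := by
    ext i
    have := congrArg (fun d : ι →₀ TrivSqZeroExt k M => (d i).snd) h3
    simpa using this
  rw [h4]
  simp

include hcomm in
/-- the projection as an algebra map. -/
def projK : letI := algK φ; R →ₐ[k] B₀ :=
  letI := algK φ
  { toRingHom := π
    commutes' := fun c => by
      change π (φ (TrivSqZeroExt.inl c)) = _
      rw [hcomm, TrivSqZeroExt.fst_inl] }

include hcomm hπ hker he hinj in
/-- the extension of `B₀` by `B₀ ⊗ M` on the ring `R`. -/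
noncomputable def extOf : Exal.Ext k B₀ (B₀ ⊗[k] M) :=
  letI := algK φ
  { E := R
    proj := projK φ π hcomm
    incl := inclR φ π hcomm hπ hker
    isExtension :=
      { proj_surjective := hπ
        incl_injective := inclR_injective φ π hcomm hπ hker β e he hinj
        exact := fun r => ⟨fun hr => exists_inclR_of_mem_span φ π hcomm hπ hker r (hker r hr),
          fun ⟨z, hz⟩ => by rw [← hz]; exact π_inclR φ π hcomm hπ hker z⟩
        mul_incl := fun x z => mul_inclR φ π hcomm hπ hker x z } }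

theorem phi_extOf (t : TrivSqZeroExt k M) :
    phi (extOf φ π hcomm hπ hker β e he hinj) t = φ t := by
  rw [phi_apply]
  change φ (TrivSqZeroExt.inl t.fst) + inclR φ π hcomm hπ hker ((1 : B₀) ⊗ₜ[k] t.snd) = φ t
  have := inclR_tmul' φ π hcomm hπ hker 1 t.snd
  rw [map_one, mul_one] at this
  rw [this, ← map_add, TrivSqZeroExt.inl_fst_add_inr_snd_eq]

end Inj

end ToExt

section Functorial

variable {k : Type u} [Field k] {B₀ : Type u} [CommRing B₀] [Algebra k B₀]
  {M : Type u} [AddCommGroup M] [Module k M] [Module kᵐᵒᵖ M] [SMulCommClass k kᵐᵒᵖ M]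
  [IsCentralScalar k M]
  {M' : Type u} [AddCommGroup M'] [Module k M'] [Module kᵐᵒᵖ M'] [SMulCommClass k kᵐᵒᵖ M']
  [IsCentralScalar k M']
  (f : M →ₗ[k] M') (X : Exal.Ext k B₀ (B₀ ⊗[k] M)) (X' : Exal.Ext k B₀ (B₀ ⊗[k] M'))
  (ψ : X.E →+* X'.E) (h1 : ∀ c, ψ (algebraMap k X.E c) = algebraMap k X'.E c)
  (h3 : ∀ z, ψ (X.incl z) = X'.incl (f.baseChange B₀ z))

include h1 h3 in
theorem map_phi (t : TrivSqZeroExt k M) :
    ψ (phi X t) = algebraMap k X'.E t.fst + X'.incl ((1 : B₀) ⊗ₜ[k] f t.snd) := by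
  rw [phi_apply, map_add, h1, h3, LinearMap.baseChange_tmul]

end Functorial

end Groth.Agent.Lib.DefTan
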