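import Mathlib
import Groth.Agent.Lib.DefExt2
import Groth.Agent.Lib.DefTan1

/-!
# Ring data over `k ⊕ M` (ring level, no finiteness) and extensions of `B₀` by `B₀ ⊗ M` (helper1)

* `augT`: the augmentation of `k ⊕ M`; `ofExtT X`: the ring data of an extension `X`;
* `exists_ext_of`: every ring data over `k ⊕ M` comes from an extension;
* `equivOfHom`, `homOfEquiv`: isomorphisms of ring data `ofExtT X → ofExtT X'` are the equivalences of extensions;
* `augK`, `baseR`, `toBaseR`: the ring data of the closed fibre.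
-/

set_option autoImplicit false
set_option linter.unusedVariables false
set_option linter.unusedSectionVars false

universe u

open Function IsLocalRing TensorProduct

namespace Groth.Agent.Lib.DefExt

open Groth.Agent.Lib.DefGlue Groth.Agent.Lib.DefTan

variable {k : Type u} [Field k] {B₀ : Type u} [CommRing B₀] [Algebra k B₀]

section Tsze

variable {M : Type u} [AddCommGroup M] [Module k M] [Module kᵐᵒᵖ M] [SMulCommClass k kᵐᵒᵖ M]
  [IsCentralScalar k M]

/-- the augmentation `k ⊕ M → k`. -/
def resT : TrivSqZeroExt k M →+* k := (TrivSqZeroExt.fstHom k k M : TrivSqZeroExt k M →+* k)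

theorem resT_apply (t : TrivSqZeroExt k M) : resT t = t.fst := rfl

theorem resT_surjective : Surjective (resT (k := k) (M := M)) :=
  fun c => ⟨TrivSqZeroExt.inl c, TrivSqZeroExt.fst_inl M c⟩

theorem ker_resT : RingHom.ker (resT (k := k) (M := M)) = maximalIdeal (TrivSqZeroExt k M) :=
  IsLocalRing.eq_maximalIdeal (RingHom.ker_isMaximal_of_surjective _ resT_surjective)

theorem mem_maximalIdeal_tsze (t : TrivSqZeroExt k M) :
    t ∈ maximalIdeal (TrivSqZeroExt k M) ↔ t.fst = 0 := by
  rw [← ker_resT, RingHom.mem_ker]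
  rfl

variable (k M) in
/-- the augmentation data of `k ⊕ M`. -/
def augT : Aug k (TrivSqZeroExt k M) where
  res := resT
  surj := resT_surjective
  ker := ker_resT
  nil := by
    refine ⟨2, ?_⟩
    rw [Ideal.zero_eq_bot, eq_bot_iff, pow_two, Ideal.mul_le]
    intro r hr s hs
    rw [mem_maximalIdeal_tsze] at hr hs
    rw [Ideal.mem_bot]
    apply TrivSqZeroExt.ext
    · rw [TrivSqZeroExt.fst_mul, hr, zero_mul, TrivSqZeroExt.fst_zero]
    · rw [TrivSqZeroExt.snd_mul, hr, hs, zero_smul, MulOpposite.op_zero, zero_smul, add_zero,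
        TrivSqZeroExt.snd_zero]

theorem augT_res (t : TrivSqZeroExt k M) : (augT k M).res t = t.fst := rfl

/-- the ring data over `k ⊕ M` of an extension of `B₀` by `B₀ ⊗ M`. -/
noncomputable def ofExtT (X : Exal.Ext k B₀ (B₀ ⊗[k] M)) : DefRing B₀ (augT k M) where
  R := X.E
  φ := phi X
  π := (X.proj : X.E →+* B₀)
  flat := flat_phi X
  comm := fun t => proj_phi X t
  surj := X.isExtension.proj_surjective
  ker := by
    apply le_antisymm
    · intro r hr
      have h := mem_span_of_proj_eq_zero X r hr
      refine (Ideal.span_le.mpr ?_) h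
      rintro _ ⟨m, rfl⟩
      exact Ideal.mem_map_of_mem _ ((mem_maximalIdeal_tsze _).2 (TrivSqZeroExt.fst_inr k m))
    · refine Ideal.map_le_iff_le_comap.mpr ?_
      intro t ht
      have ht' := (mem_maximalIdeal_tsze t).1 ht
      change X.proj (phi X t) = 0
      refine (proj_phi X t).trans ?_
      rw [ht', map_zero]

/-- every ring data over `k ⊕ M` comes from an extension. -/
theorem exists_ext_of (δ : DefRing B₀ (augT k M)) :
    ∃ X : Exal.Ext k B₀ (B₀ ⊗[k] M),
      Nonempty (DefRing.Hom (ofExtT X) δ (RingHom.id (TrivSqZeroExt k M))) := by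
  have hcomm : ∀ t, δ.π (δ.φ t) = algebraMap k B₀ t.fst := fun t => δ.comm t
  have hker : ∀ r, δ.π r = 0 →
      r ∈ Ideal.span (Set.range fun m : M => δ.φ (TrivSqZeroExt.inr m)) := by
    intro r hr
    have h1 : r ∈ (maximalIdeal (TrivSqZeroExt k M)).map δ.φ := by
      rw [← δ.ker]
      exact hr
    refine (Ideal.map_le_iff_le_comap.mpr ?_) h1
    intro t ht
    have ht' := (mem_maximalIdeal_tsze t).1 ht
    have ht2 : t = TrivSqZeroExt.inr t.snd :=
      TrivSqZeroExt.ext (by rw [ht', TrivSqZeroExt.fst_inr]) (by rw [TrivSqZeroExt.snd_inr])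
    rw [Ideal.mem_comap]
    exact Ideal.subset_span ⟨t.snd, congrArg δ.φ ht2.symm⟩
  have hinj : Injective (comb δ.φ δ.lifts) := (DefRing.comb_bij δ δ.lifts (DefRing.π_lifts δ)).1
  let X := extOf δ.φ δ.π hcomm δ.surj hker (DefRing.bas k B₀) δ.lifts (DefRing.π_lifts δ) hinj
  have h : DefRing.Hom (ofExtT X) δ (RingHom.id (TrivSqZeroExt k M)) :=
    { ψ := RingHom.id δ.R
      comp_φ := fun t => phi_extOf δ.φ δ.π hcomm δ.surj hker (DefRing.bas k B₀) δ.lifts
        (DefRing.π_lifts δ) hinj t
      π_comp := fun r => rfl }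
  exact ⟨X, ⟨h⟩⟩

/-- a ring map compatible with `phi` and the projections is compatible with the inclusions. -/
theorem map_incl_of_phi (X X' : Exal.Ext k B₀ (B₀ ⊗[k] M)) (ψ : X.E →+* X'.E)
    (hφ : ∀ t, ψ (phi X t) = phi X' t) (hπ : ∀ r, X'.proj (ψ r) = X.proj r) (z : B₀ ⊗[k] M) :
    ψ (X.incl z) = X'.incl z := by
  induction z using TensorProduct.induction_on with
  | zero => rw [map_zero, map_zero, map_zero]
  | tmul b m =>
    obtain ⟨r, rfl⟩ := X.isExtension.proj_surjective b
    rw [incl_tmul, map_mul, hφ, ← hπ, ← incl_tmul]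
  | add z z' hz hz' => rw [map_add, map_add, map_add, hz, hz']

/-- an isomorphism of the ring data of two extensions is an equivalence of extensions. -/
noncomputable def equivOfHom (X X' : Exal.Ext k B₀ (B₀ ⊗[k] M))
    (u : DefRing.Hom (ofExtT X) (ofExtT X') (RingHom.id (TrivSqZeroExt k M))) :
    Exal.Ext.Equiv X X' where
  toAlgEquiv := AlgEquiv.ofBijective
    { toRingHom := (u.ψ : X.E →+* X'.E)
      commutes' := fun c => by
        have h := u.comp_φ (TrivSqZeroExt.inl c)
        change u.ψ (phi X (TrivSqZeroExt.inl c)) = phi X' (TrivSqZeroExt.inl c) at h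
        rw [phi_inl, phi_inl] at h
        exact h } u.bijective_id
  proj_apply := fun x => u.π_comp x
  apply_incl := fun z => map_incl_of_phi X X' (u.ψ : X.E →+* X'.E) (fun t => u.comp_φ t)
    (fun r => u.π_comp r) z

/-- an equivalence of extensions is an isomorphism of ring data. -/
def homOfEquiv (X X' : Exal.Ext k B₀ (B₀ ⊗[k] M)) (e : Exal.Ext.Equiv X X') :
    DefRing.Hom (ofExtT X) (ofExtT X') (RingHom.id (TrivSqZeroExt k M)) where
  ψ := (e.toAlgEquiv : X.E →+* X'.E)
  comp_φ := fun t => by
    change e.toAlgEquiv (phi X t) = phi X' t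
    rw [phi_apply, phi_apply, map_add, AlgEquiv.commutes, e.apply_incl]
  π_comp := e.proj_apply

end Tsze

section Base

variable (k) in
/-- the augmentation data of the field itself. -/
def augK : Aug k k where
  res := RingHom.id k
  surj := surjective_id
  ker := by
    rw [IsLocalRing.maximalIdeal_eq_bot]
    ext x
    rw [RingHom.mem_ker, Ideal.mem_bot]
    rfl
  nil := by
    refine ⟨1, ?_⟩
    rw [pow_one, IsLocalRing.maximalIdeal_eq_bot]
    rfl

variable (k B₀) in
/-- the ring data of the closed fibre. -/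
def baseR : DefRing B₀ (augK k) where
  R := B₀
  φ := algebraMap k B₀
  π := RingHom.id B₀
  flat := by
    rw [RingHom.flat_algebraMap_iff]
    infer_instance
  comm := fun x => rfl
  surj := surjective_id
  ker := by
    rw [IsLocalRing.maximalIdeal_eq_bot, Ideal.map_bot]
    ext x
    rw [RingHom.mem_ker, Ideal.mem_bot]
    rfl

/-- every ring data maps to the closed fibre. -/
def toBaseR {A : Type u} [CommRing A] [IsLocalRing A] {a : Aug k A} (d : DefRing B₀ a) :
    DefRing.Hom d (baseR k B₀) a.res where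
  ψ := d.π
  comp_φ := fun x => d.comm x
  π_comp := fun r => rfl

end Base

section Symm

variable {A : Type u} [CommRing A] [IsLocalRing A] {a : Aug k A}

theorem symm_apply_apply {d d' : DefRing B₀ a} (h : DefRing.Hom d d' (RingHom.id A)) (r : d.R) :
    h.symm.ψ (h.ψ r) = r :=
  (RingEquiv.ofBijective h.ψ h.bijective_id).symm_apply_apply r

theorem apply_symm_apply {d d' : DefRing B₀ a} (h : DefRing.Hom d d' (RingHom.id A)) (r : d'.R) :
    h.ψ (h.symm.ψ r) = r :=
  (RingEquiv.ofBijective h.ψ h.bijective_id).apply_symm_apply r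

/-- the identity morphism. -/
def idHom (d : DefRing B₀ a) : DefRing.Hom d d (RingHom.id A) where
  ψ := RingHom.id d.R
  comp_φ := fun x => rfl
  π_comp := fun r => rfl

end Symm

end Groth.Agent.Lib.DefExt
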