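import Mathlib
import Groth.Agent.Lib.DefExt3

/-!
# Extensions of ring data along `A' → A` with kernel `J` killed by the maximal ideal (helper1)

For ring data `d` of a deformation of `B₀` over `A`, the set of classes of pairs `(d', h : d' → d over p)` is, when non-empty, in
bijection with the classes of extensions of `B₀` by `B₀ ⊗ J` (`nonempty_quot_equiv_exalcom`).  The correspondence is through ring data
over `D = A' ×_A A' = A' ×_k k[J]` mapping to the base point, to `d'` and to the ring data over `k[J]` of the extension (`Link`).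
-/

set_option autoImplicit false
set_option linter.unusedVariables false
set_option linter.unusedSectionVars false

universe u

open Function IsLocalRing TensorProduct

namespace Groth.Agent.Lib.DefExt

open Groth.Agent.Lib.DefGlue Groth.Agent.Lib.DefTan

/-- a relation with a total, surjective "graph" compatible with two relations induces a bijection of quotients. -/
theorem nonempty_quot_equiv {α β : Type*} (rα : α → α → Prop) (rβ : β → β → Prop)
    (L : α → β → Prop) (hα : ∀ a, rα a a) (hβ : ∀ b, rβ b b)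
    (h1 : ∀ a, ∃ b, L a b) (h2 : ∀ b, ∃ a, L a b)
    (h3 : ∀ a a' b b', L a b → L a' b' → (rα a a' ↔ rβ b b')) : Nonempty (Quot rα ≃ Quot rβ) := by
  choose f hf using h1
  choose g hg using h2
  refine ⟨{ toFun := Quot.lift (fun a => Quot.mk rβ (f a))
              (fun a a' h => Quot.sound ((h3 a a' _ _ (hf a) (hf a')).1 h))
            invFun := Quot.lift (fun b => Quot.mk rα (g b))
              (fun b b' h => Quot.sound ((h3 _ _ b b' (hg b) (hg b')).2 h))
            left_inv := ?_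
            right_inv := ?_ }⟩
  · intro q
    induction q using Quot.ind with
    | mk a => exact Quot.sound ((h3 _ _ _ _ (hg (f a)) (hf a)).2 (hβ (f a)))
  · intro q
    induction q using Quot.ind with
    | mk b => exact Quot.sound ((h3 _ _ _ _ (hf (g b)) (hg b)).1 (hα (g b)))

section

variable {k : Type u} [Field k] {B₀ : Type u} [CommRing B₀] [Algebra k B₀]
  {A' A : Type u} [CommRing A'] [IsLocalRing A'] [CommRing A] [IsLocalRing A] [Algebra k A']
  {a' : Aug k A'} {a₀ : Aug k A} (p : A' →+* A) (hp : Surjective p)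
  (hres : ∀ x, a₀.res (p x) = a'.res x) (hk : ∀ c : k, a'.res (algebraMap k A' c) = c)
  (J : Ideal A') (hJp : ∀ x, x ∈ J ↔ p x = 0) (hmJ : ∀ x ∈ maximalIdeal A', ∀ j ∈ J, x * j = 0)
  (d : DefRing B₀ a₀)

/-- ring data over `A'` with a morphism to `d` over `p`. -/
structure RExt (a' : Aug k A') {a₀ : Aug k A} (p : A' →+* A) (d : DefRing B₀ a₀) where
  /-- the ring data over `A'` -/
  d' : DefRing B₀ a'
  /-- the morphism to `d` -/
  h : DefRing.Hom d' d p

variable {p d}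

/-- two extensions are equivalent when an isomorphism of ring data is compatible with the morphisms to `d`. -/
def RExt.Rel (e₁ e₂ : RExt a' p d) : Prop :=
  ∃ u : DefRing.Hom e₂.d' e₁.d' (RingHom.id A'), ∀ r, e₁.h.ψ (u.ψ r) = e₂.h.ψ r

theorem RExt.Rel.refl (e : RExt a' p d) : RExt.Rel e e := ⟨idHom e.d', fun r => rfl⟩

theorem RExt.Rel.symm {e₁ e₂ : RExt a' p d} (h : RExt.Rel e₁ e₂) : RExt.Rel e₂ e₁ := by
  obtain ⟨u, hu⟩ := h
  refine ⟨u.symm, fun r => ?_⟩
  rw [← hu, apply_symm_apply]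

theorem RExt.Rel.trans {e₁ e₂ e₃ : RExt a' p d} (h : RExt.Rel e₁ e₂) (h' : RExt.Rel e₂ e₃) :
    RExt.Rel e₁ e₃ := by
  obtain ⟨u, hu⟩ := h
  obtain ⟨u', hu'⟩ := h'
  refine ⟨(u'.comp u).cast (fun x => rfl), fun r => ?_⟩
  change e₁.h.ψ (u.ψ (u'.ψ r)) = _
  rw [hu, hu']

variable [Module kᵐᵒᵖ ↥J] [IsCentralScalar k ↥J] [IsLocalRing (Dring p)]

/-- the correspondence between extensions of ring data and extensions of `B₀` by `B₀ ⊗ J`, relative to a base point `e₀`. -/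
def Link (e₀ e : RExt a' p d) (X : Exal.Ext k B₀ (B₀ ⊗[k] ↥J)) : Prop :=
  ∃ (G : DefRing B₀ (augD a' a₀ p hres)) (g₀ : DefRing.Hom G e₀.d' (pr₀ p))
    (g₁ : DefRing.Hom G e.d' (pr₁ p))
    (g₂ : DefRing.Hom G (ofExtT X) (sigma a' p hp hk J hJp hmJ)),
    ∀ r, e₀.h.ψ (g₀.ψ r) = e.h.ψ (g₁.ψ r)

/-- the fibre product over `d` of the base point and an extension. -/
noncomputable def glue₁ (e₀ e : RExt a' p d) : DefRing B₀ (augD a' a₀ p hres) :=
  glue (aB := augD a' a₀ p hres) (pr₀ p) (pr₁ p) p p (p_pr p) (D_ext p) (D_surj₁ p)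
    (fun b => rfl) hp e₀.d' e.d' d e₀.h e.h

/-- the fibre product over `B₀` of the base point and the ring data of an extension of `B₀`. -/
noncomputable def glue₂ (e₀ : RExt a' p d) (X : Exal.Ext k B₀ (B₀ ⊗[k] ↥J)) :
    DefRing B₀ (augD a' a₀ p hres) :=
  glue (aB := augD a' a₀ p hres) (a₀ := augK k) (pr₀ p) (sigma a' p hp hk J hJp hmJ) a'.res
    (augT k ↥J).res (fun b => (fst_sigma a' p hp hk J hJp hmJ b).symm)
    (sigma_inj a' p hp hk J hJp hmJ) (sigma_surj a' p hp hk J hJp hmJ)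
    (fun b => rfl) (augT k ↥J).surj e₀.d' (ofExtT X) (baseR k B₀) (toBaseR e₀.d')
    (toBaseR (ofExtT X))

variable {hp hres hk J hJp hmJ}

theorem Link.of_rel {e₀ e e' : RExt a' p d} {X : Exal.Ext k B₀ (B₀ ⊗[k] ↥J)}
    (hL : Link hp hres hk J hJp hmJ e₀ e X) (u : DefRing.Hom e.d' e'.d' (RingHom.id A'))
    (hu : ∀ r, e'.h.ψ (u.ψ r) = e.h.ψ r) : Link hp hres hk J hJp hmJ e₀ e' X := by
  obtain ⟨G, g₀, g₁, g₂, hc⟩ := hL
  refine ⟨G, g₀, (g₁.comp u).cast (fun x => rfl), g₂, fun r => ?_⟩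
  rw [hc]
  exact (hu _).symm

variable (hp hres hk J hJp hmJ)

/-- every extension of ring data is linked to an extension of `B₀`. -/
theorem exists_link_right (e₀ e : RExt a' p d) : ∃ X, Link hp hres hk J hJp hmJ e₀ e X := by
  let G := glue₁ hp hres e₀ e
  have hσ : ∀ b, (augT k ↥J).res (sigma a' p hp hk J hJp hmJ b) = (augD a' a₀ p hres).res b :=
    fun b => fst_sigma a' p hp hk J hJp hmJ b
  let δ := quotD G (sigma a' p hp hk J hJp hmJ) (sigma_surjective a' p hp hk J hJp hmJ) hσ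
  obtain ⟨X, ⟨t⟩⟩ := exists_ext_of δ
  refine ⟨X, G, glueHom₁ _ _ _ _ _ _ _ _ _ _ _ _ _ _, glueHom₂ _ _ _ _ _ _ _ _ _ _ _ _ _ _,
    ((quotHom G _ (sigma_surjective a' p hp hk J hJp hmJ) hσ).comp t.symm).cast (fun x => rfl),
    fun r => ?_⟩
  exact q_gluePr p p e₀.d' e.d' d e₀.h e.h r

/-- every extension of `B₀` is linked to an extension of ring data. -/
theorem exists_link_left (e₀ : RExt a' p d) (X : Exal.Ext k B₀ (B₀ ⊗[k] ↥J)) :
    ∃ e, Link hp hres hk J hJp hmJ e₀ e X := by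
  let G := glue₂ hp hres hk J hJp hmJ e₀ X
  have h1 : ∀ b, a'.res (pr₁ p b) = (augD a' a₀ p hres).res b :=
    fun b => res_pr₁ a' a₀ p hres b
  let d' := quotD G (pr₁ p) (pr₁_surjective p) h1
  let g₀ : DefRing.Hom G e₀.d' (pr₀ p) := glueHom₁ _ _ _ _ _ _ _ _ _ _ _ _ _ _
  let g₁ : DefRing.Hom G d' (pr₁ p) := quotHom G _ (pr₁_surjective p) h1
  let h' : DefRing.Hom d' d p := factor g₁ (pr₁_surjective p) (g₀.comp e₀.h) (fun b => p_pr p b)
  refine ⟨⟨d', h'⟩, G, g₀, g₁, glueHom₂ _ _ _ _ _ _ _ _ _ _ _ _ _ _, fun r => ?_⟩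
  exact (factor_ψ g₁ (pr₁_surjective p) (g₀.comp e₀.h) (fun b => p_pr p b) r).symm

/-- equivalent extensions of ring data are linked to equivalent extensions of `B₀`. -/
theorem equiv_of_rel {e₀ e e' : RExt a' p d} {X X' : Exal.Ext k B₀ (B₀ ⊗[k] ↥J)}
    (hL : Link hp hres hk J hJp hmJ e₀ e X) (hL' : Link hp hres hk J hJp hmJ e₀ e' X')
    (hr : RExt.Rel e e') : Nonempty (Exal.Ext.Equiv X X') := by
  obtain ⟨G, g₀, g₁, g₂, hc⟩ := hL
  obtain ⟨G', g₀', g₁', g₂', hc'⟩ := hL'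
  obtain ⟨u, hu⟩ := hr
  have l : DefRing.Hom G (glue₁ hp hres e₀ e) (RingHom.id (Dring p)) :=
    glueLift _ _ _ _ _ _ _ _ _ _ _ _ _ _ G g₀ g₁ hc
  have l' : DefRing.Hom G' (glue₁ hp hres e₀ e) (RingHom.id (Dring p)) :=
    glueLift _ _ _ _ _ _ _ _ _ _ _ _ _ _ G' g₀' ((g₁'.comp u).cast (fun x => rfl)) (fun r => by
      rw [hc']
      exact (hu _).symm)
  have w : DefRing.Hom G G' (RingHom.id (Dring p)) := (l.comp l'.symm).cast (fun x => rfl)
  have v : DefRing.Hom (ofExtT X) (ofExtT X') (RingHom.id (TrivSqZeroExt k ↥J)) :=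
    factor g₂ (sigma_surjective a' p hp hk J hJp hmJ) (w.comp g₂') (fun x => rfl)
  exact ⟨equivOfHom X X' v⟩

/-- extensions of ring data linked to equivalent extensions of `B₀` are equivalent. -/
theorem rel_of_equiv {e₀ e e' : RExt a' p d} {X X' : Exal.Ext k B₀ (B₀ ⊗[k] ↥J)}
    (hL : Link hp hres hk J hJp hmJ e₀ e X) (hL' : Link hp hres hk J hJp hmJ e₀ e' X')
    (hr : Nonempty (Exal.Ext.Equiv X X')) : RExt.Rel e e' := by
  obtain ⟨G, g₀, g₁, g₂, hc⟩ := hL
  obtain ⟨G', g₀', g₁', g₂', hc'⟩ := hL'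
  obtain ⟨ε⟩ := hr
  let v := homOfEquiv X X' ε
  let l : DefRing.Hom G (glue₂ hp hres hk J hJp hmJ e₀ X') (RingHom.id (Dring p)) :=
    glueLift _ _ _ _ _ _ _ _ _ _ _ _ _ _ G g₀ ((g₂.comp v).cast (fun x => rfl)) (fun r => by
      change e₀.d'.π (g₀.ψ r) = (ofExtT X').π (v.ψ (g₂.ψ r))
      rw [g₀.π_comp, v.π_comp, g₂.π_comp])
  let l' : DefRing.Hom G' (glue₂ hp hres hk J hJp hmJ e₀ X') (RingHom.id (Dring p)) :=
    glueLift _ _ _ _ _ _ _ _ _ _ _ _ _ _ G' g₀' g₂' (fun r => by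
      change e₀.d'.π (g₀'.ψ r) = (ofExtT X').π (g₂'.ψ r)
      rw [g₀'.π_comp, g₂'.π_comp])
  let w : DefRing.Hom G G' (RingHom.id (Dring p)) := (l.comp l'.symm).cast (fun x => rfl)
  -- compatibility of `w` with the projections to the base point
  have hw₀ : ∀ r, g₀'.ψ (w.ψ r) = g₀.ψ r := by
    intro r
    have h1 : l'.ψ (w.ψ r) = l.ψ r := apply_symm_apply l' (l.ψ r)
    have h2 := congrArg (gluePr₁ a'.res (augT k ↥J).res e₀.d' (ofExtT X') (baseR k B₀)
      (toBaseR e₀.d') (toBaseR (ofExtT X'))) h1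
    exact h2
  let u : DefRing.Hom e.d' e'.d' (RingHom.id A') :=
    factor g₁ (pr₁_surjective p) (w.comp g₁') (fun x => rfl)
  have hu : ∀ s, e'.h.ψ (u.ψ s) = e.h.ψ s := by
    intro s
    obtain ⟨r, rfl⟩ := g₁.surjective (pr₁_surjective p) s
    have h1 : u.ψ (g₁.ψ r) = g₁'.ψ (w.ψ r) :=
      factor_ψ g₁ (pr₁_surjective p) (w.comp g₁') (fun x => rfl) r
    rw [h1, ← hc', hw₀, hc]
  exact (RExt.Rel.symm ⟨u, hu⟩)

include hp hres hk hJp hmJ in
/-- **the classes of extensions of ring data are in bijection with `Exalcom k B₀ (B₀ ⊗ J)`**, given a base point. -/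
theorem nonempty_quot_equiv_exalcom (e₀ : RExt a' p d) :
    Nonempty (Quot (RExt.Rel (a' := a') (p := p) (d := d)) ≃ Exal.Exalcom k B₀ (B₀ ⊗[k] ↥J)) :=
  nonempty_quot_equiv (RExt.Rel (a' := a') (p := p) (d := d))
    (fun X X' : Exal.Ext k B₀ (B₀ ⊗[k] ↥J) => Nonempty (Exal.Ext.Equiv X X'))
    (Link hp hres hk J hJp hmJ e₀) RExt.Rel.refl (fun X => ⟨Exal.Ext.Equiv.refl X⟩)
    (exists_link_right hp hres hk J hJp hmJ e₀) (exists_link_left hp hres hk J hJp hmJ e₀)
    (fun e e' X X' hL hL' => ⟨equiv_of_rel hp hres hk J hJp hmJ hL hL',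
      rel_of_equiv hp hres hk J hJp hmJ hL hL'⟩)

end

end Groth.Agent.Lib.DefExt
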