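import Mathlib
import Groth.Prelude.Def_Exal
import Groth.Agent.Lib.ExalY

/-!
# Functoriality of the standard extension `E_v` in the module (helper1)

For `g : M → M'` linear over `R`, the ring map `E_v → E_{g ∘ v}` induced by `(r, m) ↦ (r, g m)`.
-/

set_option autoImplicit false
set_option linter.unusedVariables false
set_option linter.unusedSectionVars false

universe u

namespace Groth.Agent.Lib.DefTan

open Groth.Agent.Lib.ExalY

attribute [local instance] Exal.opModule Exal.isCentralScalar_opModule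

section EVmap

variable {A B R M M' : Type u} [CommRing A] [CommRing B] [Algebra A B] [CommRing R] [Algebra A R]
  [Algebra R B] [IsScalarTower A R B]
  [AddCommGroup M] [Module B M] [Module R M] [IsScalarTower R B M] [Module A M]
  [IsScalarTower A R M] [IsScalarTower A B M]
  [AddCommGroup M'] [Module B M'] [Module R M'] [IsScalarTower R B M'] [Module A M']
  [IsScalarTower A R M'] [IsScalarTower A B M']
  (g : M →ₗ[R] M') (v : I R B →ₗ[R] M)

/-- `(r, m) ↦ (r, g m)`. -/
def tmap : TrivSqZeroExt R M →+* TrivSqZeroExt R M' := (TrivSqZeroExt.map g).toRingHom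

theorem fst_tmap (t : TrivSqZeroExt R M) : (tmap g t).fst = t.fst := TrivSqZeroExt.fst_map g t

theorem snd_tmap (t : TrivSqZeroExt R M) : (tmap g t).snd = g t.snd := TrivSqZeroExt.snd_map g t

/-- the induced map of standard extensions. -/
def EVmap : EV v →+* EV (g ∘ₗ v) :=
  Ideal.Quotient.lift (Kv v) ((EV.mk (g ∘ₗ v)).comp (tmap g)) (by
    rintro y ⟨x, hx1, hx2⟩
    rw [RingHom.comp_apply, EV.mk_eq_zero]
    refine ⟨x, ?_, ?_⟩
    · rw [fst_tmap, hx1]
    · rw [snd_tmap, ← hx2, map_neg]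
      rfl)

theorem EVmap_mk (t : TrivSqZeroExt R M) : EVmap g v (EV.mk v t) = EV.mk (g ∘ₗ v) (tmap g t) := rfl

theorem proj_EVmap (y : EV v) : EV.proj A (g ∘ₗ v) (EVmap g v y) = EV.proj A v y := by
  obtain ⟨t, rfl⟩ := EV.mk_surjective v y
  rw [EVmap_mk, EV.proj_mk, EV.proj_mk, fst_tmap]

theorem EVmap_incl (m : M) : EVmap g v (EV.incl v m) = EV.incl (g ∘ₗ v) (g m) := by
  rw [EV.incl_apply, EVmap_mk, EV.incl_apply]
  congr 1
  apply TrivSqZeroExt.ext
  · rw [fst_tmap, TrivSqZeroExt.fst_inr, TrivSqZeroExt.fst_inr]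
  · rw [snd_tmap, TrivSqZeroExt.snd_inr, TrivSqZeroExt.snd_inr]

theorem EVmap_algebraMap (a : A) :
    EVmap g v (algebraMap A (EV v) a) = algebraMap A (EV (g ∘ₗ v)) a := by
  rw [EV.algebraMap_apply, EVmap_mk, EV.algebraMap_apply]
  congr 1
  apply TrivSqZeroExt.ext
  · rw [fst_tmap, TrivSqZeroExt.fst_inl, TrivSqZeroExt.fst_inl]
  · rw [snd_tmap, TrivSqZeroExt.snd_inl, TrivSqZeroExt.snd_inl, map_zero]

end EVmap

end Groth.Agent.Lib.DefTan
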