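import Groth.Prelude.Def_ArtFun2
import Mathlib.LinearAlgebra.Prod
import Mathlib.Algebra.Group.MinimalAxioms

/-!
# The vector space structure on the tangent space under `H0` and `Heps` (helper59)

`tangentStr h0 h2 : TangentStr F`.
-/

set_option autoImplicit false
set_option linter.unusedSectionVars false
universe u v
open CategoryTheory ArtFun ArtFun.Art IsLocalRing

namespace Groth.Agent.Lib.H59TangentStr

variable {Λ : Type u} {k : Type u} [CommRing Λ] [Field k] [Algebra Λ k]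

section Obj

variable (Λ k)
variable (M : Type u) [AddCommGroup M] [Module k M] [Module kᵐᵒᵖ M] [SMulCommClass k kᵐᵒᵖ M]
  [IsCentralScalar k M] [Module Λ M] [IsScalarTower Λ k M] [IsScalarTower Λ kᵐᵒᵖ M]
  [Module.Finite k M]

/-- `k ⊕ M` as an object. -/
def tObj : Art Λ k :=
  { carrier := TrivSqZeroExt k M
    isLocalRing := isLocalRing_tsze k M
    isArtinianRing := isArtinianRing_tsze k M
    res := TrivSqZeroExt.fstHom Λ k M
    res_surjective := fun a => ⟨TrivSqZeroExt.inl a, rfl⟩ }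

variable {M}
variable {N : Type u} [AddCommGroup N] [Module k N] [Module kᵐᵒᵖ N] [SMulCommClass k kᵐᵒᵖ N]
  [IsCentralScalar k N] [Module Λ N] [IsScalarTower Λ k N] [IsScalarTower Λ kᵐᵒᵖ N]
  [Module.Finite k N]
variable {P : Type u} [AddCommGroup P] [Module k P] [Module kᵐᵒᵖ P] [SMulCommClass k kᵐᵒᵖ P]
  [IsCentralScalar k P] [Module Λ P] [IsScalarTower Λ k P] [IsScalarTower Λ kᵐᵒᵖ P]
  [Module.Finite k P]

/-- the morphism induced by a linear map. -/
def tHom (f : M →ₗ[k] N) : tObj Λ k M ⟶ tObj Λ k N := ⟨tszeMap f, AlgHom.ext fun _ => rfl⟩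

theorem tHom_comp (f : M →ₗ[k] N) (g : N →ₗ[k] P) : tHom Λ k f ≫ tHom Λ k g = tHom Λ k (g ∘ₗ f) :=
  Art.hom_ext (AlgHom.ext fun _ => rfl)

theorem tHom_id : tHom Λ k (LinearMap.id : M →ₗ[k] M) = 𝟙 (tObj Λ k M) :=
  Art.hom_ext (AlgHom.ext fun _ => rfl)

variable (M) in
/-- the inclusion `k → k ⊕ M`. -/
def baseTo : base Λ k ⟶ tObj Λ k M :=
  ⟨(Algebra.ofId k (TrivSqZeroExt k M)).restrictScalars Λ, AlgHom.ext fun _ => rfl⟩

theorem baseTo_comp (f : M →ₗ[k] N) : baseTo Λ k M ≫ tHom Λ k f = baseTo Λ k N :=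
  Art.hom_ext (AlgHom.ext fun c => TrivSqZeroExt.ext rfl (by
    change f (algebraMap k (TrivSqZeroExt k M) c).snd = (algebraMap k (TrivSqZeroExt k N) c).snd
    rw [TrivSqZeroExt.algebraMap_eq_inl, TrivSqZeroExt.algebraMap_eq_inl, TrivSqZeroExt.snd_inl,
      TrivSqZeroExt.snd_inl, map_zero]))

theorem tHom_zero : tHom Λ k (0 : M →ₗ[k] N) = toBase (tObj Λ k M) ≫ baseTo Λ k N :=
  Art.hom_ext (AlgHom.ext fun x => TrivSqZeroExt.ext rfl (by
    change (0 : N) = (algebraMap k (TrivSqZeroExt k N) x.fst).snd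
    rw [TrivSqZeroExt.algebraMap_eq_inl, TrivSqZeroExt.snd_inl]))

theorem isFibreProd_prod :
    IsFibreProd (tHom Λ k (LinearMap.fst k M N)) (tHom Λ k (LinearMap.snd k M N))
      (toBase (tObj Λ k M)) (toBase (tObj Λ k N)) where
  w := by rw [eq_toBase (tHom Λ k (LinearMap.fst k M N) ≫ toBase _),
    eq_toBase (tHom Λ k (LinearMap.snd k M N) ≫ toBase _)]
  inj b₁ b₂ h₁ h₂ := by
    have e₁ : b₁.fst = b₂.fst := by have e := congrArg TrivSqZeroExt.fst h₁; exact e
    have e₂ : b₁.snd.1 = b₂.snd.1 := by have e := congrArg TrivSqZeroExt.snd h₁; exact e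
    have e₃ : b₁.snd.2 = b₂.snd.2 := by have e := congrArg TrivSqZeroExt.snd h₂; exact e
    exact TrivSqZeroExt.ext e₁ (Prod.ext e₂ e₃)
  surj a' a'' h := by
    have h' : a'.fst = a''.fst := h
    exact ⟨(a'.fst, (a'.snd, a''.snd)), TrivSqZeroExt.ext rfl rfl, TrivSqZeroExt.ext h' rfl⟩

end Obj

section Str

variable {F : Art Λ k ⥤ Type v} (h0 : H0 F) (h2 : Heps F)

section Pair

variable (M : Type u) [AddCommGroup M] [Module k M] [Module kᵐᵒᵖ M] [SMulCommClass k kᵐᵒᵖ M]
  [IsCentralScalar k M] [Module Λ M] [IsScalarTower Λ k M] [IsScalarTower Λ kᵐᵒᵖ M]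
  [Module.Finite k M]

theorem tObj_k : tObj Λ k k = dual Λ k := rfl

include h2 in
theorem pair_injective (z z' : F.obj (tObj Λ k (M × k)))
    (h₁ : F.map (tHom Λ k (LinearMap.fst k M k)) z = F.map (tHom Λ k (LinearMap.fst k M k)) z')
    (h₂ : F.map (tHom Λ k (LinearMap.snd k M k)) z = F.map (tHom Λ k (LinearMap.snd k M k)) z') :
    z = z' := by
  have hb := h2 (tHom Λ k (LinearMap.fst k M k)) (tHom Λ k (LinearMap.snd k M k))
    (isFibreProd_prod Λ k (M := M) (N := k))
  apply hb.1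
  exact FibProd.ext h₁ h₂

include h0 h2 in
theorem pair_surjective (a : F.obj (tObj Λ k M)) (b : F.obj (dual Λ k)) :
    ∃ z : F.obj (tObj Λ k (M × k)), F.map (tHom Λ k (LinearMap.fst k M k)) z = a ∧
      F.map (tHom Λ k (LinearMap.snd k M k)) z = b := by
  have hb := h2 (tHom Λ k (LinearMap.fst k M k)) (tHom Λ k (LinearMap.snd k M k))
    (isFibreProd_prod Λ k (M := M) (N := k))
  obtain ⟨z, hz⟩ := hb.2 ⟨(a, b), h0.2.elim _ _⟩
  exact ⟨z, congrArg (fun t : FibProd F _ _ => t.1.1) hz, congrArg (fun t : FibProd F _ _ => t.1.2) hz⟩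

end Pair

section Maps

variable {M : Type u} [AddCommGroup M] [Module k M] [Module kᵐᵒᵖ M] [SMulCommClass k kᵐᵒᵖ M]
  [IsCentralScalar k M] [Module Λ M] [IsScalarTower Λ k M] [IsScalarTower Λ kᵐᵒᵖ M]
  [Module.Finite k M]
variable {N : Type u} [AddCommGroup N] [Module k N] [Module kᵐᵒᵖ N] [SMulCommClass k kᵐᵒᵖ N]
  [IsCentralScalar k N] [Module Λ N] [IsScalarTower Λ k N] [IsScalarTower Λ kᵐᵒᵖ N]
  [Module.Finite k N]
variable {P : Type u} [AddCommGroup P] [Module k P] [Module kᵐᵒᵖ P] [SMulCommClass k kᵐᵒᵖ P]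
  [IsCentralScalar k P] [Module Λ P] [IsScalarTower Λ k P] [IsScalarTower Λ kᵐᵒᵖ P]
  [Module.Finite k P]

theorem map_map (f : M →ₗ[k] N) (g : N →ₗ[k] P) (x : F.obj (tObj Λ k M)) :
    F.map (tHom Λ k g) (F.map (tHom Λ k f) x) = F.map (tHom Λ k (g ∘ₗ f)) x := by
  rw [← tHom_comp, Functor.map_comp_apply]

theorem map_id' (x : F.obj (tObj Λ k M)) : F.map (tHom Λ k (LinearMap.id : M →ₗ[k] M)) x = x := by
  rw [tHom_id, Functor.map_id_apply]

/-- the zero element of `F(k ⊕ N)`. -/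
noncomputable def zeroElt (h0 : H0 F) (N : Type u) [AddCommGroup N] [Module k N] [Module kᵐᵒᵖ N]
    [SMulCommClass k kᵐᵒᵖ N] [IsCentralScalar k N] [Module Λ N] [IsScalarTower Λ k N]
    [IsScalarTower Λ kᵐᵒᵖ N] [Module.Finite k N] : F.obj (tObj Λ k N) :=
  F.map (baseTo Λ k N) (Classical.choice h0.1)

include h0 in
theorem map_zero' (x : F.obj (tObj Λ k M)) :
    F.map (tHom Λ k (0 : M →ₗ[k] N)) x = zeroElt h0 N := by
  rw [tHom_zero, Functor.map_comp_apply]
  unfold zeroElt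
  congr 1
  exact h0.2.elim _ _

theorem map_zeroElt (f : M →ₗ[k] N) : F.map (tHom Λ k f) (zeroElt h0 M) = zeroElt h0 N := by
  unfold zeroElt
  rw [← Functor.map_comp_apply, baseTo_comp]

end Maps

/-- the sum of two tangent vectors. -/
noncomputable def add (x y : F.obj (dual Λ k)) : F.obj (dual Λ k) :=
  F.map (tHom Λ k (LinearMap.fst k k k + LinearMap.snd k k k))
    (Classical.choose (pair_surjective h0 h2 k x y))

theorem add_spec (x y : F.obj (dual Λ k)) :
    F.map (tHom Λ k (LinearMap.fst k k k)) (Classical.choose (pair_surjective h0 h2 k x y)) = x ∧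
    F.map (tHom Λ k (LinearMap.snd k k k)) (Classical.choose (pair_surjective h0 h2 k x y)) = y :=
  Classical.choose_spec (pair_surjective h0 h2 k x y)

/-- the key formula: `G_f w + G_g w = G_{f+g} w`. -/
theorem add_map {M : Type u} [AddCommGroup M] [Module k M] [Module kᵐᵒᵖ M] [SMulCommClass k kᵐᵒᵖ M]
    [IsCentralScalar k M] [Module Λ M] [IsScalarTower Λ k M] [IsScalarTower Λ kᵐᵒᵖ M]
    [Module.Finite k M] (f g : M →ₗ[k] k) (w : F.obj (tObj Λ k M)) :
    add h0 h2 (F.map (tHom Λ k f) w) (F.map (tHom Λ k g) w) = F.map (tHom Λ k (f + g)) w := by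
  have hs := add_spec h0 h2 (F.map (tHom Λ k f) w) (F.map (tHom Λ k g) w)
  have hz : Classical.choose (pair_surjective h0 h2 k (F.map (tHom Λ k f) w) (F.map (tHom Λ k g) w)) =
      F.map (tHom Λ k (f.prod g)) w := by
    apply pair_injective h2 k
    · rw [hs.1, map_map]
      rfl
    · rw [hs.2, map_map]
      rfl
  unfold add
  rw [hz, map_map]
  rfl

end Str

section Axioms

variable {F : Art Λ k ⥤ Type v} (h0 : H0 F) (h2 : Heps F)

theorem add_comm' (x y : F.obj (dual Λ k)) : add h0 h2 x y = add h0 h2 y x := by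
  obtain ⟨w, rfl, rfl⟩ := pair_surjective h0 h2 k x y
  rw [add_map, add_map, add_comm]

theorem add_assoc' (x y z : F.obj (dual Λ k)) :
    add h0 h2 (add h0 h2 x y) z = add h0 h2 x (add h0 h2 y z) := by
  obtain ⟨w₁, rfl, rfl⟩ := pair_surjective h0 h2 k x y
  obtain ⟨w, rfl, rfl⟩ := pair_surjective h0 h2 (k × k) w₁ z
  rw [map_map, map_map, add_map, add_map, add_map, add_map, add_assoc]

theorem zero_add' (x : F.obj (dual Λ k)) : add h0 h2 (zeroElt h0 k) x = x := by
  have h := add_map h0 h2 (0 : k →ₗ[k] k) LinearMap.id x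
  rw [map_zero' h0, map_id', zero_add, map_id'] at h
  exact h

theorem neg_add_cancel' (x : F.obj (dual Λ k)) :
    add h0 h2 (F.map (tHom Λ k (-LinearMap.id : k →ₗ[k] k)) x) x = zeroElt h0 k := by
  have h := add_map h0 h2 (-LinearMap.id : k →ₗ[k] k) LinearMap.id x
  rw [map_id', neg_add_cancel, map_zero' h0] at h
  exact h

theorem smul_add' (c : k) (x y : F.obj (dual Λ k)) :
    F.map (tHom Λ k (c • LinearMap.id : k →ₗ[k] k)) (add h0 h2 x y) =
      add h0 h2 (F.map (tHom Λ k (c • LinearMap.id : k →ₗ[k] k)) x)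
        (F.map (tHom Λ k (c • LinearMap.id : k →ₗ[k] k)) y) := by
  obtain ⟨w, rfl, rfl⟩ := pair_surjective h0 h2 k x y
  rw [add_map, map_map, map_map, map_map, add_map, LinearMap.comp_add]

theorem add_smul' (c d : k) (x : F.obj (dual Λ k)) :
    F.map (tHom Λ k ((c + d) • LinearMap.id : k →ₗ[k] k)) x =
      add h0 h2 (F.map (tHom Λ k (c • LinearMap.id : k →ₗ[k] k)) x)
        (F.map (tHom Λ k (d • LinearMap.id : k →ₗ[k] k)) x) := by
  rw [add_map, add_smul]

theorem mul_smul' (c d : k) (x : F.obj (dual Λ k)) :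
    F.map (tHom Λ k ((c * d) • LinearMap.id : k →ₗ[k] k)) x =
      F.map (tHom Λ k (c • LinearMap.id : k →ₗ[k] k))
        (F.map (tHom Λ k (d • LinearMap.id : k →ₗ[k] k)) x) := by
  rw [map_map]
  have hcd : ((c * d) • LinearMap.id : k →ₗ[k] k) = (c • LinearMap.id) ∘ₗ (d • LinearMap.id) := by
    apply LinearMap.ext
    intro a
    change (c * d) * a = c * (d * a)
    rw [mul_assoc]
  rw [hcd]

theorem one_smul' (x : F.obj (dual Λ k)) :
    F.map (tHom Λ k ((1 : k) • LinearMap.id : k →ₗ[k] k)) x = x := by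
  rw [one_smul, map_id']

theorem zero_smul' (x : F.obj (dual Λ k)) :
    F.map (tHom Λ k ((0 : k) • LinearMap.id : k →ₗ[k] k)) x = zeroElt h0 k := by
  rw [zero_smul, map_zero' h0]

/-- the additive group structure on the tangent space. -/
noncomputable def addCommGroup : AddCommGroup (F.obj (dual Λ k)) :=
  letI : Add (F.obj (dual Λ k)) := ⟨add h0 h2⟩
  letI : Zero (F.obj (dual Λ k)) := ⟨zeroElt h0 k⟩
  letI : Neg (F.obj (dual Λ k)) := ⟨fun x => F.map (tHom Λ k (-LinearMap.id : k →ₗ[k] k)) x⟩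
  letI : AddGroup (F.obj (dual Λ k)) :=
    AddGroup.ofLeftAxioms (add_assoc' h0 h2) (zero_add' h0 h2) (neg_add_cancel' h0 h2)
  { (inferInstance : AddGroup (F.obj (dual Λ k))) with add_comm := add_comm' h0 h2 }

/-- the vector space structure on the tangent space. -/
noncomputable def module : @Module k (F.obj (dual Λ k)) _ (addCommGroup h0 h2).toAddCommMonoid :=
  letI := addCommGroup h0 h2
  { smul := fun c x => F.map (tHom Λ k (c • LinearMap.id : k →ₗ[k] k)) x
    one_smul := one_smul'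
    mul_smul := mul_smul'
    smul_zero := fun c => map_zeroElt h0 _
    smul_add := smul_add' h0 h2
    add_smul := add_smul' h0 h2
    zero_smul := zero_smul' h0 }

/-- the tangent space structure under `H0` and `Heps`. -/
noncomputable def tangentStr : TangentStr F where
  addCommGroup := addCommGroup h0 h2
  module := module h0 h2
  smul_eq := fun _ _ => rfl
  add_eq := fun z => add_map h0 h2 (LinearMap.fst k k k) (LinearMap.snd k k k) z

end Axioms

end Groth.Agent.Lib.H59TangentStr
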