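import Mathlib
import Groth.Prelude.Def_ArtFun4
import Groth.Agent.Lib.DefGlue4
import Groth.Agent.Lib.DefTan1
import Groth.Agent.Lib.DefTan2
import Groth.Agent.Lib.H59TangentStr

/-!
# Deformations of `Spec B₀` over `k ⊕ M` and extensions of `B₀` by `B₀ ⊗ M` (helper1)
-/

set_option autoImplicit false
set_option linter.unusedVariables false
set_option linter.unusedSectionVars false

universe u

open CategoryTheory CategoryTheory.Limits AlgebraicGeometry ArtFun ArtFun.Art Function TensorProduct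
open Groth.Agent.Lib.DefSchAff Groth.Agent.Lib.DefGlue Groth.Agent.Lib.H59TangentStr

namespace Groth.Agent.Lib.DefTan

variable {Λ k : Type u} [CommRing Λ] [Field k] [Algebra Λ k]
  {B₀ : Type u} [CommRing B₀] [Algebra k B₀]

section

variable {A : Art Λ k}

/-- the canonical morphism of ring data `d → toDefRing (ofDefRing d)`. -/
noncomputable def homToOf (d : DefRing B₀ (augOf A)) :
    DefRing.Hom d (toDefRing (ofDefRing d)) (RingHom.id A) where
  ψ := (Scheme.ΓSpecIso (CommRingCat.of d.R)).inv.hom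
  comp_φ := fun a => (algA_ofRing d.R d.φ d.flat d.π d.comm d.surj d.ker a).symm
  π_comp := fun r => by
    have h := proj_ofRing d.R d.φ d.flat d.π d.comm d.surj d.ker
      ((Scheme.ΓSpecIso (CommRingCat.of d.R)).inv.hom r)
    have e1 : (Scheme.ΓSpecIso (CommRingCat.of d.R)).hom.hom
        ((Scheme.ΓSpecIso (CommRingCat.of d.R)).inv.hom r) = r :=
      congrArg (fun f : CommRingCat.of d.R ⟶ CommRingCat.of d.R => f.hom r)
        (Scheme.ΓSpecIso (CommRingCat.of d.R)).inv_hom_id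
    rw [e1] at h
    exact h

end

section Main

variable (Λ)
variable (M : Type u) [AddCommGroup M] [Module k M] [Module kᵐᵒᵖ M] [SMulCommClass k kᵐᵒᵖ M]
  [IsCentralScalar k M] [Module Λ M] [IsScalarTower Λ k M] [IsScalarTower Λ kᵐᵒᵖ M]
  [Module.Finite k M]

theorem inr_mem (m : M) :
    (TrivSqZeroExt.inr m : (tObj Λ k M).carrier) ∈ IsLocalRing.maximalIdeal (tObj Λ k M).carrier :=
  (mem_maximalIdeal_iff (tObj Λ k M) _).2 rfl

theorem fst_eq_zero_of_mem (t : (tObj Λ k M).carrier)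
    (ht : t ∈ IsLocalRing.maximalIdeal (tObj Λ k M).carrier) :
    TrivSqZeroExt.fst (t : TrivSqZeroExt k M) = 0 :=
  (mem_maximalIdeal_iff (tObj Λ k M) t).1 ht

/-- the ring data over `k ⊕ M` of an extension of `B₀` by `B₀ ⊗ M`. -/
noncomputable def ofExt (X : Exal.Ext k B₀ (B₀ ⊗[k] M)) : DefRing B₀ (augOf (tObj Λ k M)) where
  R := X.E
  φ := (phi X : (tObj Λ k M).carrier →+* X.E)
  π := (X.proj : X.E →+* B₀)
  flat := flat_phi X
  comm := fun t => proj_phi X t
  surj := X.isExtension.proj_surjective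
  ker := by
    apply le_antisymm
    · intro r hr
      have h := mem_span_of_proj_eq_zero X r hr
      refine (Ideal.span_le.mpr ?_) h
      rintro _ ⟨m, rfl⟩
      exact Ideal.mem_map_of_mem _ (inr_mem Λ M m)
    · refine Ideal.map_le_iff_le_comap.mpr ?_
      intro t ht
      have ht' := fst_eq_zero_of_mem Λ M t ht
      change X.proj (phi X t) = 0
      refine (proj_phi X t).trans ?_
      rw [ht', map_zero]

/-- the class of the deformation attached to an extension. -/
noncomputable def clExt (X : Exal.Ext k B₀ (B₀ ⊗[k] M)) : (DF Λ B₀).obj (tObj Λ k M) :=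
  (ofDefRing (ofExt Λ M X)).cl

variable {M}
variable {M' : Type u} [AddCommGroup M'] [Module k M'] [Module kᵐᵒᵖ M'] [SMulCommClass k kᵐᵒᵖ M']
  [IsCentralScalar k M'] [Module Λ M'] [IsScalarTower Λ k M'] [IsScalarTower Λ kᵐᵒᵖ M']
  [Module.Finite k M']

/-- a ring map of extensions over a linear map gives a morphism of ring data. -/
noncomputable def homOfExt (f : M →ₗ[k] M') (X : Exal.Ext k B₀ (B₀ ⊗[k] M))
    (X' : Exal.Ext k B₀ (B₀ ⊗[k] M')) (ψ : X.E →+* X'.E)
    (h1 : ∀ c, ψ (algebraMap k X.E c) = algebraMap k X'.E c)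
    (h2 : ∀ r, X'.proj (ψ r) = X.proj r)
    (h3 : ∀ z, ψ (X.incl z) = X'.incl (f.baseChange B₀ z)) :
    DefRing.Hom (ofExt Λ M X) (ofExt Λ M' X')
      ((tHom Λ k f).toAlgHom : (tObj Λ k M).carrier →+* (tObj Λ k M').carrier) where
  ψ := ψ
  comp_φ := fun t => map_phi f X X' ψ h1 h3 t
  π_comp := h2

theorem map_clExt (f : M →ₗ[k] M') (X : Exal.Ext k B₀ (B₀ ⊗[k] M))
    (X' : Exal.Ext k B₀ (B₀ ⊗[k] M')) (ψ : X.E →+* X'.E)
    (h1 : ∀ c, ψ (algebraMap k X.E c) = algebraMap k X'.E c)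
    (h2 : ∀ r, X'.proj (ψ r) = X.proj r)
    (h3 : ∀ z, ψ (X.incl z) = X'.incl (f.baseChange B₀ z)) :
    (DF Λ B₀).map (tHom Λ k f) (clExt Λ M X) = clExt Λ M' X' := by
  refine Quotient.sound (nonempty_iso_baseChange_ofDefRing (tHom Λ k f) (ofExt Λ M X)
    (ofDefRing (ofExt Λ M' X')) ?_)
  exact ((homOfExt Λ f X X' ψ h1 h2 h3).comp (homToOf (ofExt Λ M' X'))).cast (fun x => rfl)

theorem clExt_eq_of_equiv (X X' : Exal.Ext k B₀ (B₀ ⊗[k] M)) (e : Exal.Ext.Equiv X X') :
    clExt Λ M X = clExt Λ M X' := by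
  have h := map_clExt Λ (LinearMap.id : M →ₗ[k] M) X X' (e.toAlgEquiv : X.E →+* X'.E)
    (fun c => e.toAlgEquiv.commutes c) e.proj_apply
    (fun z => by rw [LinearMap.baseChange_id]; exact e.apply_incl z)
  rw [tHom_id, CategoryTheory.Functor.map_id_apply] at h
  exact h

variable (M) in
theorem exists_clExt (q : (DF Λ B₀).obj (tObj Λ k M)) : ∃ X, clExt Λ M X = q := by
  induction q using Quotient.inductionOn with
  | h ξ =>
    let d := toDefRing ξ
    let φ : TrivSqZeroExt k M →+* d.R := d.φ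
    have hcomm : ∀ t, d.π (φ t) = algebraMap k B₀ t.fst := fun t => d.comm t
    have hker : ∀ r, d.π r = 0 →
        r ∈ Ideal.span (Set.range fun m : M => φ (TrivSqZeroExt.inr m)) := by
      intro r hr
      have h1 : r ∈ (IsLocalRing.maximalIdeal (tObj Λ k M).carrier).map d.φ := by
        rw [← d.ker]
        exact hr
      refine (Ideal.map_le_iff_le_comap.mpr ?_) h1
      intro t ht
      have ht' := fst_eq_zero_of_mem Λ M t ht
      have ht2 : (t : TrivSqZeroExt k M) = TrivSqZeroExt.inr (TrivSqZeroExt.snd (t : TrivSqZeroExt k M)) :=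
        TrivSqZeroExt.ext (by rw [ht', TrivSqZeroExt.fst_inr]) (by rw [TrivSqZeroExt.snd_inr])
      rw [Ideal.mem_comap]
      exact Ideal.subset_span ⟨TrivSqZeroExt.snd (t : TrivSqZeroExt k M), congrArg φ ht2.symm⟩
    have hinj : Injective (comb φ d.lifts) := (DefRing.comb_bij d d.lifts (DefRing.π_lifts d)).1
    let X := extOf φ d.π hcomm d.surj hker (DefRing.bas k B₀) d.lifts (DefRing.π_lifts d) hinj
    refine ⟨X, ?_⟩
    have h : DefRing.Hom (ofExt Λ M X) d (RingHom.id (tObj Λ k M).carrier) :=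
      { ψ := RingHom.id d.R
        comp_φ := fun t => phi_extOf φ d.π hcomm d.surj hker (DefRing.bas k B₀) d.lifts
          (DefRing.π_lifts d) hinj t
        π_comp := fun r => rfl }
    obtain ⟨e⟩ := nonempty_iso_ofDefRing ξ (ofExt Λ M X) h
    exact Quotient.sound ⟨e.symm⟩

end Main

end Groth.Agent.Lib.DefTan
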