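import Mathlib
import Groth.Prelude.Def_ArtFun4
import Groth.Agent.Lib.DefExt4
import Groth.Agent.Lib.DefTan3

/-!
# Rigidified extensions of a deformation of `Spec B₀` and extensions of its ring data (helper1)

`SExt p 𝒳`: pairs of a deformation `𝒳'` over `C'` and an isomorphism of its base change with `𝒳`; `SExt.Rel`: the equivalence of the
statement.  `toRExt` sends such a pair to ring data with a morphism to the ring data of `𝒳`; it induces a bijection on classes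
(`nonempty_quot_equiv_rext`).
-/

set_option autoImplicit false
set_option linter.unusedVariables false
set_option linter.unusedSectionVars false

universe u

open CategoryTheory CategoryTheory.Limits AlgebraicGeometry ArtFun ArtFun.Art

namespace Groth.Agent.Lib.DefExt

open Groth.Agent.Lib.DefSchAff Groth.Agent.Lib.DefGlue Groth.Agent.Lib.DefTan

/-- global sections of a morphism to an affine scheme given by a ring map. -/
theorem inv_comp_appTop_toSpecΓ_map {X : Scheme.{u}} {R : CommRingCat.{u}} (f : R ⟶ Γ(X, ⊤)) :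
    (Scheme.ΓSpecIso R).inv ≫ (X.toSpecΓ ≫ Spec.map f).appTop = f := by
  rw [Scheme.Hom.comp_appTop, ← Category.assoc, ← Scheme.ΓSpecIso_inv_naturality, Category.assoc,
    Scheme.toSpecΓ_appTop, Iso.inv_hom_id, Category.comp_id]

variable {k : Type u} [Field k] {B₀ : Type u} [CommRing B₀] [Algebra k B₀] {C' C : Art k k}
  (p : C' ⟶ C) (𝒳 : DS k B₀ C)

/-- rigidified extensions of `𝒳` over `C'`. -/
abbrev SExt := Σ 𝒳' : DS k B₀ C', (𝒳'.baseChange p).Iso 𝒳

variable {p 𝒳}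

/-- the equivalence of rigidified extensions. -/
def SExt.Rel (a b : SExt p 𝒳) : Prop :=
  ∃ ψ : a.1.Iso b.1, ((ψ.baseChange p).trans b.2).iso = a.2.iso

/-- the morphism from the total space of `𝒳` to the total space of the extension. -/
noncomputable def SExt.mor (a : SExt p 𝒳) : 𝒳.total ⟶ a.1.total :=
  a.2.iso.inv ≫ pullback.fst a.1.f (specMap p)

theorem SExt.inv_snd (a : SExt p 𝒳) : a.2.iso.inv ≫ pullback.snd a.1.f (specMap p) = 𝒳.f :=
  (Iso.inv_comp_eq _).mpr a.2.hom_f.symm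

theorem SExt.mor_f (a : SExt p 𝒳) : a.mor ≫ a.1.f = 𝒳.f ≫ specMap p := by
  unfold SExt.mor
  rw [Category.assoc, pullback.condition, ← Category.assoc, a.inv_snd]

theorem SExt.i_mor (a : SExt p 𝒳) : 𝒳.i ≫ a.mor = a.1.i := by
  unfold SExt.mor
  have h1 : 𝒳.i ≫ a.2.iso.inv = (a.1.baseChange p).i := (Iso.comp_inv_eq _).mpr a.2.i_hom.symm
  rw [← Category.assoc, h1]
  exact DefSch.baseChange_i_fst a.1 p

/-- the ring data of a rigidified extension. -/
noncomputable def toRExt (a : SExt p 𝒳) :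
    RExt (augOf C') (p.toAlgHom : C' →+* C) (toDefRing 𝒳) :=
  ⟨toDefRing a.1, homOfMor p a.1 𝒳 a.mor a.mor_f a.i_mor⟩

theorem toRExt_h_ψ (a : SExt p 𝒳) (r : Γ(a.1.total, ⊤)) :
    (toRExt a).h.ψ r = a.mor.appTop.hom r := rfl

theorem toRExt_rel_of_rel (a b : SExt p 𝒳) (h : SExt.Rel a b) :
    RExt.Rel (toRExt a) (toRExt b) := by
  obtain ⟨ψ, hψ⟩ := h
  have key : a.mor ≫ ψ.iso.hom = b.mor := by
    have h1 : a.2.iso.inv = b.2.iso.inv ≫ (ψ.baseChange p).iso.inv := by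
      rw [← hψ]
      rfl
    have h2 : (ψ.baseChange p).iso.inv ≫ pullback.fst a.1.f (specMap p) =
        pullback.fst b.1.f (specMap p) ≫ ψ.iso.inv :=
      DefSch.pullMap_fst ψ.iso.inv ψ.symm.hom_f p
    unfold SExt.mor
    rw [h1, Category.assoc, Category.assoc, reassoc_of% h2, Iso.inv_hom_id, Category.comp_id]
  refine ⟨homOfIso a.1 b.1 ψ, fun r => ?_⟩
  have h3 : ψ.iso.hom.appTop ≫ a.mor.appTop = b.mor.appTop := by
    rw [← Scheme.Hom.comp_appTop, key]
  exact congrArg (fun θ : Γ(b.1.total, ⊤) ⟶ Γ(𝒳.total, ⊤) => θ.hom r) h3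

theorem rel_of_toRExt_rel (a b : SExt p 𝒳) (h : RExt.Rel (toRExt a) (toRExt b)) :
    SExt.Rel a b := by
  obtain ⟨u, hu⟩ := h
  obtain ⟨φ, hf, hi, hφ⟩ := exists_hom_of_ringHom (ξ := a.1) (ξ' := b.1)
    (u.ψ : Γ(b.1.total, ⊤) →+* Γ(a.1.total, ⊤)) (RingHom.ext fun x => u.comp_φ x)
    (RingHom.ext fun r => u.π_comp r)
  have hu' : ∀ r : Γ(b.1.total, ⊤), a.mor.appTop.hom (φ.appTop.hom r) = b.mor.appTop.hom r := by
    intro r
    rw [hφ]
    exact hu r
  have key : a.mor ≫ φ = b.mor := by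
    have := isAffine_total b.1
    apply ext_of_isAffine
    rw [Scheme.Hom.comp_appTop]
    exact CommRingCat.hom_ext (RingHom.ext hu')
  refine ⟨isoOfHom φ hf hi, ?_⟩
  apply Iso.ext
  change DefSch.pullMap φ hf p ≫ b.2.iso.hom = a.2.iso.hom
  have h3 : a.2.iso.inv ≫ DefSch.pullMap φ hf p = b.2.iso.inv := by
    apply pullback.hom_ext
    · rw [Category.assoc, DefSch.pullMap_fst, ← Category.assoc]
      exact key
    · rw [Category.assoc, DefSch.pullMap_snd, a.inv_snd, b.inv_snd]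
  rw [← cancel_epi a.2.iso.inv, ← Category.assoc, h3, Iso.inv_hom_id, Iso.inv_hom_id]

theorem exists_toRExt_rel (e : RExt (augOf C') (p.toAlgHom : C' →+* C) (toDefRing 𝒳)) :
    ∃ a : SExt p 𝒳, RExt.Rel (toRExt a) e := by
  let 𝒳' : DS k B₀ C' := ofDefRing e.d'
  let ψ₀ : 𝒳.total ⟶ 𝒳'.total :=
    𝒳.total.toSpecΓ ≫ Spec.map (CommRingCat.ofHom (e.h.ψ : e.d'.R →+* Γ(𝒳.total, ⊤)))
  have h1 : ψ₀ ≫ 𝒳'.f = 𝒳.f ≫ specMap p := by
    change (𝒳.total.toSpecΓ ≫ Spec.map (CommRingCat.ofHom (e.h.ψ : e.d'.R →+* Γ(𝒳.total, ⊤)))) ≫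
      Spec.map (CommRingCat.ofHom e.d'.φ) = 𝒳.f ≫ specMap p
    rw [Groth.Agent.Lib.UnobsG.f_eq' 𝒳, specMap_eq, Category.assoc, Category.assoc,
      ← Spec.map_comp, ← Spec.map_comp]
    congr 2
    refine CommRingCat.hom_ext (RingHom.ext fun x => ?_)
    exact e.h.comp_φ x
  have h2 : 𝒳.i ≫ ψ₀ = 𝒳'.i := by
    change 𝒳.i ≫ 𝒳.total.toSpecΓ ≫ Spec.map (CommRingCat.ofHom (e.h.ψ : e.d'.R →+* Γ(𝒳.total, ⊤))) =
      Spec.map (CommRingCat.ofHom e.d'.π)
    rw [← Category.assoc, i_eq 𝒳, ← Spec.map_comp]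
    congr 1
    refine CommRingCat.hom_ext (RingHom.ext fun r => ?_)
    exact e.h.π_comp r
  let lift : 𝒳.total ⟶ (𝒳'.baseChange p).total := pullback.lift ψ₀ 𝒳.f h1
  have hf : lift ≫ (𝒳'.baseChange p).f = 𝒳.f := pullback.lift_snd _ _ _
  have hl1 : lift ≫ pullback.fst 𝒳'.f (specMap p) = ψ₀ := pullback.lift_fst _ _ _
  have hi : 𝒳.i ≫ lift = (𝒳'.baseChange p).i := by
    apply pullback.hom_ext
    · rw [Category.assoc, hl1, h2]
      exact (DefSch.baseChange_i_fst 𝒳' p).symm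
    · rw [Category.assoc]
      refine (congrArg (𝒳.i ≫ ·) hf).trans ?_
      rw [DefSch.i_f]
      exact (DefSch.baseChange_i_f 𝒳' p).symm
  let θ : (𝒳'.baseChange p).Iso 𝒳 := (isoOfHom lift hf hi).symm
  let a : SExt p 𝒳 := ⟨𝒳', θ⟩
  have hmor : a.mor = ψ₀ := hl1
  refine ⟨a, homToOf e.d', fun r => ?_⟩
  change a.mor.appTop.hom ((Scheme.ΓSpecIso (CommRingCat.of e.d'.R)).inv.hom r) = e.h.ψ r
  rw [hmor]
  have h3 := inv_comp_appTop_toSpecΓ_map (X := 𝒳.total)
    (CommRingCat.ofHom (e.h.ψ : e.d'.R →+* Γ(𝒳.total, ⊤)))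
  exact congrArg (fun θ : CommRingCat.of e.d'.R ⟶ Γ(𝒳.total, ⊤) => θ.hom r) h3

/-- **the classes of rigidified extensions are the classes of extensions of ring data.** -/
theorem nonempty_quot_equiv_rext :
    Nonempty (Quot (SExt.Rel (p := p) (𝒳 := 𝒳)) ≃
      Quot (RExt.Rel (a' := augOf C') (p := (p.toAlgHom : C' →+* C)) (d := toDefRing 𝒳))) := by
  refine nonempty_quot_equiv _ _ (fun a e => RExt.Rel (toRExt a) e)
    (fun a => rel_of_toRExt_rel a a (RExt.Rel.refl _)) RExt.Rel.refl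
    (fun a => ⟨toRExt a, RExt.Rel.refl _⟩) exists_toRExt_rel ?_
  intro a a' e e' h h'
  constructor
  · intro haa
    exact (h.symm.trans (toRExt_rel_of_rel a a' haa)).trans h'
  · intro hee
    exact rel_of_toRExt_rel a a' ((h.trans hee).trans h'.symm)

end Groth.Agent.Lib.DefExt
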