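import Mathlib.RingTheory.Flat.EquationalCriterion
import Mathlib.RingTheory.Artinian.Ring
import Mathlib.RingTheory.HopkinsLevitzki
import Mathlib.RingTheory.LocalRing.MaximalIdeal.Basic
import Mathlib.RingTheory.Ideal.Operations
import Mathlib.LinearAlgebra.Isomorphisms
import Mathlib.Tactic.LinearCombination

/-!
# Endomorphisms of deformations of a module with only scalar endomorphisms (helper18)

`R` an Artinian local `K`-algebra with an augmentation `res : R → K`, `F` an `R`-flat module with a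
commuting `D`-action and a `D`-linear, `res`-semilinear surjection `θ : F → E` with kernel `m_R F`.
If `End_D(E) = K` then `End_{R,D}(F) = R`.
-/

set_option autoImplicit false
universe u v w w'

namespace Groth.Agent.Lib.DefMod18

section Flat

variable {R : Type*} [CommRing R] {F : Type*} [AddCommGroup F] [Module R F]

theorem exists_sum_of_mem_smul_top (I : Ideal R) {z : F}
    (hz : z ∈ I • (⊤ : Submodule R F)) :
    ∃ (ι : Type) (_ : Fintype ι) (ν : ι → R) (w : ι → F), (∀ i, ν i ∈ I) ∧ z = ∑ i, ν i • w i := by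
  refine Submodule.smul_induction_on hz ?_ ?_
  · intro r hr n _
    exact ⟨Unit, inferInstance, fun _ => r, fun _ => n, fun _ => hr, by simp⟩
  · rintro x y ⟨ι₁, _, ν₁, w₁, h₁, rfl⟩ ⟨ι₂, _, ν₂, w₂, h₂, rfl⟩
    refine ⟨ι₁ ⊕ ι₂, inferInstance, Sum.elim ν₁ ν₂, Sum.elim w₁ w₂, ?_, ?_⟩
    · rintro (i | i)
      · exact h₁ i
      · exact h₂ i
    · rw [Fintype.sum_sum_type]
      simp

variable [IsLocalRing R] [Module.Flat R F]

/-- If `μ ∉ I'` and `μ y ∈ I' F` for a flat module `F` over a local ring, then `y ∈ m F`. -/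
theorem mem_maximalIdeal_smul_top_of_smul_mem {I' : Ideal R} {μ : R} (hμ : μ ∉ I') {y : F}
    (h : μ • y ∈ I' • (⊤ : Submodule R F)) :
    y ∈ IsLocalRing.maximalIdeal R • (⊤ : Submodule R F) := by
  classical
  obtain ⟨ι, _, ν, w, hν, hsum⟩ := exists_sum_of_mem_smul_top I' h
  have hrel : ∑ o : Option ι, (o.elim μ fun i => -ν i) • (o.elim y w) = 0 := by
    rw [Fintype.sum_option]
    simp only [Option.elim_none, Option.elim_some, neg_smul, Finset.sum_neg_distrib]
    rw [hsum, add_neg_cancel]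
  obtain ⟨k, a, yy, hx, hcoef⟩ := Module.Flat.isTrivialRelation_of_sum_smul_eq_zero hrel
  have hy : y = ∑ j, a none j • yy j := hx none
  rw [hy]
  refine Submodule.sum_mem _ fun j _ => Submodule.smul_mem_smul ?_ Submodule.mem_top
  by_contra hnot
  have hunit : IsUnit (a none j) := by
    rwa [IsLocalRing.mem_maximalIdeal, mem_nonunits_iff, not_not] at hnot
  have hj := hcoef j
  rw [Fintype.sum_option] at hj
  simp only [Option.elim_none, Option.elim_some, neg_mul, Finset.sum_neg_distrib] at hj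
  have hmem : μ * a none j ∈ I' := by
    have : μ * a none j = ∑ i, ν i * a (some i) j := by
      rw [← sub_eq_zero, sub_eq_add_neg]; exact hj
    rw [this]
    exact Submodule.sum_mem _ fun i _ => I'.mul_mem_right _ (hν i)
  apply hμ
  obtain ⟨b, hb⟩ := hunit.exists_right_inv
  have : μ = (μ * a none j) * b := by rw [mul_assoc, hb, mul_one]
  rw [this]
  exact I'.mul_mem_right _ hmem

end Flat

section Coatom

variable {R : Type*} [CommRing R] [IsLocalRing R] [IsNoetherianRing R]

/-- A nonzero ideal of a Noetherian local ring has a sub-ideal of colength one. -/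
theorem exists_lt_sup_span {I : Ideal R} (hI : I ≠ ⊥) :
    ∃ (I' : Ideal R) (μ : R), I' < I ∧ μ ∈ I ∧ μ ∉ I' ∧ I ≤ I' ⊔ Ideal.span {μ} ∧
      ∀ ρ ∈ IsLocalRing.maximalIdeal R, ρ * μ ∈ I' := by
  have hne : ({J : Ideal R | J < I} : Set (Submodule R R)).Nonempty :=
    ⟨⊥, bot_lt_iff_ne_bot.2 hI⟩
  obtain ⟨I', hI'lt, hmax⟩ :=
    set_has_maximal_iff_noetherian.mpr (inferInstance : IsNoetherian R R) _ hne
  have hI'lt' : I' < I := hI'lt
  obtain ⟨μ, hμI, hμI'⟩ := SetLike.exists_of_lt hI'lt'
  have key : ∀ ν ∈ I, ν ∉ I' → I ≤ I' ⊔ Ideal.span {ν} := by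
    intro ν hνI hνI'
    have hlt : I' < I' ⊔ Ideal.span {ν} := by
      refine lt_of_le_of_ne le_sup_left fun h => hνI' ?_
      rw [h]
      exact (le_sup_right : Ideal.span {ν} ≤ I' ⊔ Ideal.span {ν}) (Ideal.subset_span rfl)
    have hle : I' ⊔ Ideal.span {ν} ≤ I :=
      sup_le hI'lt'.le ((Ideal.span_singleton_le_iff_mem _).2 hνI)
    by_contra hnot
    have hlt' : I' ⊔ Ideal.span {ν} < I := lt_of_le_of_ne hle fun h => hnot h.ge
    exact hmax _ hlt' hlt
  refine ⟨I', μ, hI'lt', hμI, hμI', key μ hμI hμI', fun ρ hρ => ?_⟩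
  by_contra hnot
  have hμmem := key (ρ * μ) (I.mul_mem_left ρ hμI) hnot hμI
  obtain ⟨i', hi', z, hz, hsum⟩ := Submodule.mem_sup.1 hμmem
  obtain ⟨a, rfl⟩ := Ideal.mem_span_singleton'.1 hz
  have hunit : IsUnit (1 - a * ρ) := by
    have : a * ρ ∈ IsLocalRing.maximalIdeal R := Ideal.mul_mem_left _ a hρ
    by_contra hnu
    have h1 : (1 - a * ρ) ∈ IsLocalRing.maximalIdeal R := by
      rwa [IsLocalRing.mem_maximalIdeal, mem_nonunits_iff]
    have : (1 : R) ∈ IsLocalRing.maximalIdeal R := by
      have h3 := Ideal.add_mem _ h1 this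
      rwa [sub_add_cancel] at h3
    exact (IsLocalRing.maximalIdeal.isMaximal R).ne_top ((Ideal.eq_top_iff_one _).2 this)
  apply hμI'
  obtain ⟨b, hb⟩ := hunit.exists_left_inv
  have h2 : (1 - a * ρ) * μ = i' := by
    linear_combination (-1 : R) * hsum
  have : μ = b * i' := by rw [← h2, ← mul_assoc, hb, one_mul]
  rw [this]
  exact Ideal.mul_mem_left I' b hi'

end Coatom

section Main

variable {K : Type u} [Field K] {D : Type v} [Ring D] [Algebra K D]
  {E : Type w} [AddCommGroup E] [Module K E] [Module D E] [IsScalarTower K D E]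
  {R : Type*} [CommRing R] [Algebra K R] [IsLocalRing R] [IsArtinianRing R]
  {F : Type w'} [AddCommGroup F] [Module K F] [Module R F] [Module D F]
  [IsScalarTower K R F] [IsScalarTower K D F] [SMulCommClass R D F] [Module.Flat R F]
  (res : R →ₐ[K] K) (θ : F →ₗ[D] E) (hθ : ∀ (r : R) (x : F), θ (r • x) = res r • θ x)
  (hsurj : Function.Surjective θ)
  (hker : ∀ x : F, θ x = 0 ↔ x ∈ IsLocalRing.maximalIdeal R • (⊤ : Submodule R F))

omit [Field K] [Algebra K D] [Algebra K R] [IsLocalRing R] [IsArtinianRing R] [Module K F]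
  [IsScalarTower K R F] [IsScalarTower K D F] [Module.Flat R F] in
theorem smul_mem_smul_top (I : Ideal R) (d : D) {w : F} (hw : w ∈ I • (⊤ : Submodule R F)) :
    d • w ∈ I • (⊤ : Submodule R F) := by
  refine Submodule.smul_induction_on hw ?_ ?_
  · intro r hr n _
    rw [← smul_comm r d n]
    exact Submodule.smul_mem_smul hr Submodule.mem_top
  · intro x y hx hy
    rw [smul_add]
    exact Submodule.add_mem _ hx hy

omit [IsLocalRing R] [IsArtinianRing R] [SMulCommClass R D F] [Module.Flat R F]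
  [IsScalarTower K R F] [Algebra K R] [Module R F] in
theorem theta_smul (c : K) (x : F) : θ (c • x) = c • θ x := by
  rw [← algebraMap_smul D c x, map_smul, algebraMap_smul]

include hsurj hker in
omit hθ [IsArtinianRing R] in
/-- One step of the induction: from `φ ≡ r` modulo `I F` to `φ ≡ r'` modulo `I' F`. -/
theorem step (hE : ∀ ψ : E →ₗ[D] E, ∃ c : K, ∀ y : E, ψ y = c • y)
    (φ : F →ₗ[R] F) (hφ : ∀ (d : D) (x : F), φ (d • x) = d • φ x)
    {I I' : Ideal R} {μ : R} (hμ : μ ∉ I') (hI : I ≤ I' ⊔ Ideal.span {μ})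
    (hm : ∀ ρ ∈ IsLocalRing.maximalIdeal R, ρ * μ ∈ I')
    (r : R) (hr : ∀ x, φ x - r • x ∈ I • (⊤ : Submodule R F)) :
    ∃ r' : R, ∀ x, φ x - r' • x ∈ I' • (⊤ : Submodule R F) := by
  classical
  have H1 : ∀ x : F, ∃ y w : F, φ x - r • x = μ • y + w ∧ w ∈ I' • (⊤ : Submodule R F) := by
    intro x
    have h := Submodule.smul_mono_left (N := (⊤ : Submodule R F)) hI (hr x)
    rw [Submodule.sup_smul, Submodule.ideal_span_singleton_smul] at h
    obtain ⟨w, hw, z, hz, hsum⟩ := Submodule.mem_sup.1 h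
    obtain ⟨y, -, rfl⟩ := (Submodule.mem_smul_pointwise_iff_exists _ _ _).1 hz
    exact ⟨y, w, by rw [← hsum, add_comm], hw⟩
  have H2 : ∀ y y' w w' : F, w ∈ I' • (⊤ : Submodule R F) → w' ∈ I' • (⊤ : Submodule R F) →
      μ • y + w = μ • y' + w' → θ y = θ y' := by
    intro y y' w w' hw hw' h
    have h1 : μ • (y - y') ∈ I' • (⊤ : Submodule R F) := by
      have : μ • (y - y') = w' - w := by
        rw [smul_sub, sub_eq_sub_iff_add_eq_add, h, add_comm]
      rw [this]
      exact Submodule.sub_mem _ hw' hw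
    have h2 := mem_maximalIdeal_smul_top_of_smul_mem hμ h1
    have h3 := (hker _).2 h2
    rwa [map_sub, sub_eq_zero] at h3
  choose Y W hYW hW using H1
  have hmF : ∀ x ∈ IsLocalRing.maximalIdeal R • (⊤ : Submodule R F),
      φ x - r • x ∈ I' • (⊤ : Submodule R F) := by
    intro x hx
    refine Submodule.smul_induction_on hx ?_ ?_
    · intro ρ hρ n _
      have : φ (ρ • n) - r • (ρ • n) = ρ • (φ n - r • n) := by
        rw [map_smul, smul_sub, smul_comm r ρ n]
      rw [this, hYW n, smul_add, smul_smul]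
      exact Submodule.add_mem _ (Submodule.smul_mem_smul (hm ρ hρ) Submodule.mem_top)
        (Submodule.smul_mem _ _ (hW n))
    · intro x y hx hy
      have : φ (x + y) - r • (x + y) = (φ x - r • x) + (φ y - r • y) := by
        rw [map_add, smul_add]; abel
      rw [this]
      exact Submodule.add_mem _ hx hy
  let g : F →ₗ[D] E :=
    { toFun := fun x => θ (Y x)
      map_add' := by
        intro x x'
        rw [← map_add]
        apply H2 (Y (x + x')) (Y x + Y x') (W (x + x')) (W x + W x') (hW _)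
          (Submodule.add_mem _ (hW x) (hW x'))
        rw [← hYW, map_add, smul_add, smul_add]
        have e1 := hYW x
        have e2 := hYW x'
        calc φ x + φ x' - (r • x + r • x') = (φ x - r • x) + (φ x' - r • x') := by abel
          _ = μ • Y x + μ • Y x' + (W x + W x') := by rw [e1, e2]; abel
      map_smul' := by
        intro d x
        simp only [RingHom.id_apply]
        rw [← map_smul]
        apply H2 (Y (d • x)) (d • Y x) (W (d • x)) (d • W x) (hW _)
          (smul_mem_smul_top I' d (hW x))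
        rw [← hYW, hφ, smul_comm r d x, ← smul_sub, hYW x, smul_add, ← smul_comm μ d (Y x)] }
  have hgker : ∀ x, θ x = 0 → g x = 0 := by
    intro x hx
    have hx' := (hker x).1 hx
    have h1 := hmF x hx'
    have h2 := H2 (Y x) 0 (W x) (φ x - r • x) (hW x) h1 (by rw [← hYW, smul_zero, zero_add])
    show θ (Y x) = 0
    rw [h2, map_zero]
  have hle : LinearMap.ker θ ≤ LinearMap.ker g := fun x hx =>
    LinearMap.mem_ker.2 (hgker x (LinearMap.mem_ker.1 hx))
  let ψ' : E →ₗ[D] E := ((LinearMap.ker θ).liftQ g hle) ∘ₗ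
    (θ.quotKerEquivOfSurjective hsurj).symm.toLinearMap
  have hψ' : ∀ x, ψ' (θ x) = g x := by
    intro x
    have : (θ.quotKerEquivOfSurjective hsurj).symm (θ x) = Submodule.Quotient.mk x := by
      rw [LinearEquiv.symm_apply_eq]
      rfl
    show ((LinearMap.ker θ).liftQ g hle) ((θ.quotKerEquivOfSurjective hsurj).symm (θ x)) = g x
    rw [this]
    rfl
  obtain ⟨c, hc⟩ := hE ψ'
  refine ⟨r + algebraMap K R c * μ, fun x => ?_⟩
  have hgx : θ (Y x) = c • θ x := by
    rw [← hc, hψ']
    rfl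
  have h4 : Y x - c • x ∈ IsLocalRing.maximalIdeal R • (⊤ : Submodule R F) :=
    (hker _).1 (by rw [map_sub, hgx, theta_smul, sub_self])
  have h5 : μ • (Y x - c • x) ∈ I' • (⊤ : Submodule R F) := by
    refine Submodule.smul_induction_on h4 ?_ ?_
    · intro ρ hρ n _
      rw [smul_smul, mul_comm]
      exact Submodule.smul_mem_smul (hm ρ hρ) Submodule.mem_top
    · intro a b ha hb
      rw [smul_add]
      exact Submodule.add_mem _ ha hb
  have : φ x - (r + algebraMap K R c * μ) • x = μ • (Y x - c • x) + W x := by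
    rw [add_smul, ← sub_sub, hYW x, mul_comm, mul_smul, algebraMap_smul, smul_sub]
    abel
  rw [this]
  exact Submodule.add_mem _ h5 (hW x)

include hsurj hker in
omit hθ in
/-- Every `R`- and `D`-linear endomorphism of a deformation is multiplication by an element of
`R`. -/
theorem exists_smul_eq (hE : ∀ ψ : E →ₗ[D] E, ∃ c : K, ∀ y : E, ψ y = c • y)
    (φ : F →ₗ[R] F) (hφ : ∀ (d : D) (x : F), φ (d • x) = d • φ x) :
    ∃ r : R, ∀ x, φ x = r • x := by
  have hnoeth : IsNoetherianRing R := inferInstance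
  let S : Set (Submodule R R) :=
    {I | ∃ r : R, ∀ x, φ x - r • x ∈ (I : Ideal R) • (⊤ : Submodule R F)}
  have hne : S.Nonempty :=
    ⟨⊤, 0, fun x => by rw [Submodule.top_smul]; exact Submodule.mem_top⟩
  obtain ⟨I₀, ⟨r, hr⟩, hmin⟩ := IsArtinian.set_has_minimal S hne
  by_cases h0 : I₀ = ⊥
  · refine ⟨r, fun x => ?_⟩
    have := hr x
    rw [h0, Submodule.bot_smul, Submodule.mem_bot, sub_eq_zero] at this
    exact this
  · exfalso
    obtain ⟨I', μ, hlt, -, hμI', hle, hm⟩ := exists_lt_sup_span (I := I₀) h0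
    obtain ⟨r', hr'⟩ := step θ hsurj hker hE φ hφ hμI' hle hm r hr
    exact hmin I' ⟨r', hr'⟩ hlt

include hsurj hker in
omit hθ [IsArtinianRing R] [SMulCommClass R D F] [IsScalarTower K D F] [IsScalarTower K R F]
  [Module K F] [Algebra K R] [IsScalarTower K D E] [Module K E] [Algebra K D] [Field K] in
/-- A deformation is a faithful module. -/
theorem eq_zero_of_forall_smul_eq_zero [Nontrivial E] {ρ : R} (h : ∀ x : F, ρ • x = 0) :
    ρ = 0 := by
  by_contra hρ
  obtain ⟨e, he⟩ := exists_ne (0 : E)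
  obtain ⟨x, rfl⟩ := hsurj e
  apply he
  rw [hker]
  apply mem_maximalIdeal_smul_top_of_smul_mem (I' := ⊥) (μ := ρ) (by simpa using hρ)
  rw [h x]
  exact Submodule.zero_mem _

end Main

end Groth.Agent.Lib.DefMod18
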