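import Mathlib
import Groth.Agent.Lib.DefSchAff1
import Groth.Agent.Lib.DefSchRigid1

/-!
# Deformations of a general affine scheme over an Artinian local algebra: conversion to `DefSch`
-/

set_option autoImplicit false
set_option linter.unusedVariables false
set_option linter.unusedSectionVars false

universe u

open CategoryTheory CategoryTheory.Limits AlgebraicGeometry ArtFun ArtFun.Art

namespace Groth.Agent.Lib.DefSchAff


section TrivialProj

variable {k : Type u} [Field k] {B₀ : Type u} [CommRing B₀] [Algebra k B₀] (A : Art k k)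
  (hx : Flat (Spec.map (CommRingCat.ofHom (algebraMap k B₀))))

/-- first projection of the trivial deformation -/
noncomputable def trivFst : (DefSch.trivial (Spec (CommRingCat.of B₀))
    (Spec.map (CommRingCat.ofHom (algebraMap k B₀))) hx A).total ⟶ Spec (CommRingCat.of B₀) :=
  pullback.fst (Spec.map (CommRingCat.ofHom (algebraMap k B₀))) (specMap (ofBase A))

theorem trivFst_comp : trivFst A hx ≫ Spec.map (CommRingCat.ofHom (algebraMap k B₀)) =
    (DefSch.trivial (Spec (CommRingCat.of B₀))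
      (Spec.map (CommRingCat.ofHom (algebraMap k B₀))) hx A).f ≫ specMap (ofBase A) :=
  pullback.condition

theorem trivial_i_fst : (DefSch.trivial (Spec (CommRingCat.of B₀))
    (Spec.map (CommRingCat.ofHom (algebraMap k B₀))) hx A).i ≫ trivFst A hx = 𝟙 _ :=
  pullback.lift_fst _ _ _

theorem trivial_hom_ext {W : Scheme.{u}} (a b : W ⟶ (DefSch.trivial (Spec (CommRingCat.of B₀))
    (Spec.map (CommRingCat.ofHom (algebraMap k B₀))) hx A).total)
    (h1 : a ≫ trivFst A hx = b ≫ trivFst A hx)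
    (h2 : a ≫ (DefSch.trivial (Spec (CommRingCat.of B₀))
      (Spec.map (CommRingCat.ofHom (algebraMap k B₀))) hx A).f = b ≫ (DefSch.trivial
      (Spec (CommRingCat.of B₀)) (Spec.map (CommRingCat.ofHom (algebraMap k B₀))) hx A).f) :
    a = b :=
  pullback.hom_ext h1 h2

/-- morphisms into the trivial deformation -/
noncomputable def trivLift {W : Scheme.{u}} (a : W ⟶ Spec (CommRingCat.of B₀)) (b : W ⟶ spec A)
    (h : a ≫ Spec.map (CommRingCat.ofHom (algebraMap k B₀)) = b ≫ specMap (ofBase A)) :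
    W ⟶ (DefSch.trivial (Spec (CommRingCat.of B₀))
      (Spec.map (CommRingCat.ofHom (algebraMap k B₀))) hx A).total :=
  pullback.lift a b h

theorem trivLift_fst {W : Scheme.{u}} (a : W ⟶ Spec (CommRingCat.of B₀)) (b : W ⟶ spec A)
    (h : a ≫ Spec.map (CommRingCat.ofHom (algebraMap k B₀)) = b ≫ specMap (ofBase A)) :
    trivLift A hx a b h ≫ trivFst A hx = a := pullback.lift_fst _ _ _

theorem trivLift_f {W : Scheme.{u}} (a : W ⟶ Spec (CommRingCat.of B₀)) (b : W ⟶ spec A)
    (h : a ≫ Spec.map (CommRingCat.ofHom (algebraMap k B₀)) = b ≫ specMap (ofBase A)) :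
    trivLift A hx a b h ≫ (DefSch.trivial (Spec (CommRingCat.of B₀))
      (Spec.map (CommRingCat.ofHom (algebraMap k B₀))) hx A).f = b := pullback.lift_snd _ _ _

variable {A}

/-- A `k`-algebra section of `Γ(total) → B₀` trivialises the deformation, explicitly. -/
theorem exists_iso_trivial_of_section
    (ξ : DefSch (Spec (CommRingCat.of B₀)) (Spec.map (CommRingCat.ofHom (algebraMap k B₀))) A)
    (s : B₀ →+* Γ(ξ.total, ⊤)) (hs1 : ∀ b, proj ξ (s b) = b)
    (hs2 : ∀ c : k, s (algebraMap k B₀ c) = algA ξ (algebraMap k A c)) :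
    ∃ E : ξ.Iso (DefSch.trivial (Spec (CommRingCat.of B₀))
      (Spec.map (CommRingCat.ofHom (algebraMap k B₀))) hx A),
      E.iso.hom ≫ trivFst A hx = ξ.total.toSpecΓ ≫ Spec.map (CommRingCat.ofHom s) := by
  let g : ξ.total ⟶ Spec (CommRingCat.of B₀) := ξ.total.toSpecΓ ≫ Spec.map (CommRingCat.ofHom s)
  have hcond : g ≫ Spec.map (CommRingCat.ofHom (algebraMap k B₀)) = ξ.f ≫ specMap (ofBase A) := by
    rw [f_eq ξ]
    simp only [g, Category.assoc, specMap, ← Spec.map_comp]
    congr 2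
    ext c
    exact hs2 c
  have hig : ξ.i ≫ g = 𝟙 _ := by
    simp only [g]
    rw [← Category.assoc, i_toSpecΓ ξ, Category.assoc, ← Spec.map_comp, ← Spec.map_comp]
    have : CommRingCat.ofHom s ≫ ξ.i.appTop ≫ (Scheme.ΓSpecIso (CommRingCat.of B₀)).hom = 𝟙 _ := by
      ext b
      exact hs1 b
    rw [Category.assoc, this, Spec.map_id]
  have hf := trivLift_f A hx g ξ.f hcond
  have hi : ξ.i ≫ trivLift A hx g ξ.f hcond = (DefSch.trivial (Spec (CommRingCat.of B₀))
      (Spec.map (CommRingCat.ofHom (algebraMap k B₀))) hx A).i := by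
    apply trivial_hom_ext A hx
    · rw [Category.assoc, trivLift_fst, hig, trivial_i_fst]
    · rw [Category.assoc, trivLift_f, DefSch.i_f, DefSch.i_f]
  exact ⟨isoOfHom _ hf hi, trivLift_fst A hx g ξ.f hcond⟩

end TrivialProj

section Convert

variable {k : Type u} [Field k] {X : Scheme.{u}} [IsAffine X] (hX : X ⟶ Spec (CommRingCat.of k))

/-- the `k`-algebra structure on global sections of a `k`-scheme -/
@[reducible] noncomputable def algΓ : Algebra k Γ(X, ⊤) :=
  (hX.appTop.hom.comp (Scheme.ΓSpecIso (CommRingCat.of k)).inv.hom).toAlgebra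

theorem hX_eq : hX = X.isoSpec.hom ≫ Spec.map (CommRingCat.ofHom
    (@algebraMap k Γ(X, ⊤) _ _ (algΓ hX))) := by
  have h := Scheme.isoSpec_hom_naturality hX
  rw [Scheme.isoSpec_Spec_hom] at h
  have h2 : CommRingCat.ofHom (@algebraMap k Γ(X, ⊤) _ _ (algΓ hX)) =
      (Scheme.ΓSpecIso (CommRingCat.of k)).inv ≫ hX.appTop := rfl
  rw [h2, Spec.map_comp, reassoc_of% h, ← Spec.map_comp, Iso.inv_hom_id, Spec.map_id,
    Category.comp_id]

variable {A : Type u} [CommRing A] [IsLocalRing A] [IsArtinianRing A] [Algebra k A] (e : A →ₐ[k] k)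

/-- the object of `Art k k` given by an augmented Artinian local `k`-algebra -/
@[reducible] def artOf : Art k k :=
  Art.of A e (fun c => ⟨algebraMap k A c, by rw [AlgHom.commutes]; rfl⟩)

variable {X' : Scheme.{u}} (g : X' ⟶ Spec (CommRingCat.of A)) (hg : Flat g) (i : X ⟶ X')
  (hsq : IsPullback i hX g (Spec.map (CommRingCat.ofHom e.toRingHom)))

/-- conversion to a `DefSch` -/
noncomputable def toDefSch :
    @DefSch k k _ _ _ (Spec (CommRingCat.of Γ(X, ⊤)))
      (Spec.map (CommRingCat.ofHom (@algebraMap k Γ(X, ⊤) _ _ (algΓ hX)))) (artOf e) where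
  total := X'
  f := g
  flat := hg
  i := X.isoSpec.inv ≫ i
  isPullback := by
    refine hsq.of_iso X.isoSpec (Iso.refl _) (Iso.refl _) (Iso.refl _) ?_ ?_ ?_ ?_
    · rw [Iso.refl_hom, Category.comp_id, Iso.hom_inv_id_assoc]
    · rw [Iso.refl_hom, Category.comp_id]
      exact hX_eq hX
    · exact (Category.comp_id _).trans (Category.id_comp _).symm
    · exact (Category.comp_id _).trans (Category.id_comp _).symm

theorem proj_toDefSch (r : Γ(X', ⊤)) :
    @proj k k _ _ _ Γ(X, ⊤) _ (algΓ hX) (artOf e) (toDefSch hX e g hg i hsq) r =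
      i.appTop.hom r := by
  let _ := algΓ hX
  change (Scheme.ΓSpecIso (CommRingCat.of Γ(X, ⊤))).hom.hom
    ((X.isoSpec.inv ≫ i).appTop.hom r) = _
  rw [Scheme.Hom.comp_appTop]
  have h : X.isoSpec.inv.appTop ≫ (Scheme.ΓSpecIso (CommRingCat.of Γ(X, ⊤))).hom = 𝟙 _ := by
    have h1 : X.isoSpec.inv.appTop ≫ X.isoSpec.hom.appTop = 𝟙 _ := by
      rw [← Scheme.Hom.comp_appTop, Iso.hom_inv_id]
      rfl
    have h2 : X.isoSpec.hom.appTop = (Scheme.ΓSpecIso Γ(X, ⊤)).hom := Scheme.toSpecΓ_appTop X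
    rw [h2] at h1
    exact h1
  exact congrArg (fun f : Γ(X, ⊤) ⟶ Γ(X, ⊤) => f.hom (i.appTop.hom r)) h

include e hg hsq in
/-- a section of `Γ(X') → Γ(X)` compatible with `k` trivialises a deformation of an affine scheme -/
theorem exists_iso_of_section (s : Γ(X, ⊤) →+* Γ(X', ⊤))
    (hs1 : ∀ b, i.appTop.hom (s b) = b)
    (hs2 : ∀ c : k, s (hX.appTop.hom ((Scheme.ΓSpecIso (CommRingCat.of k)).inv.hom c)) =
      g.appTop.hom ((Scheme.ΓSpecIso (CommRingCat.of A)).inv.hom (algebraMap k A c))) :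
    ∃ φ : X' ≅ pullback hX (Spec.map (CommRingCat.ofHom (algebraMap k A))),
      φ.hom ≫ pullback.snd _ _ = g ∧ i ≫ φ.hom ≫ pullback.fst _ _ = 𝟙 X ∧
      φ.hom ≫ pullback.fst _ _ =
        X'.toSpecΓ ≫ Spec.map (CommRingCat.ofHom s) ≫ X.isoSpec.inv := by
  let _ := algΓ hX
  let ξ := toDefSch hX e g hg i hsq
  have hx : Flat (Spec.map (CommRingCat.ofHom (algebraMap k Γ(X, ⊤)))) := inferInstance
  obtain ⟨E, hE⟩ := exists_iso_trivial_of_section hx ξ s
    (fun b => (proj_toDefSch hX e g hg i hsq (s b)).trans (hs1 b)) hs2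
  -- comparison of the two pullbacks
  have hinv : X.isoSpec.inv ≫ hX = Spec.map (CommRingCat.ofHom (algebraMap k Γ(X, ⊤))) := by
    rw [Iso.inv_comp_eq]
    exact hX_eq hX
  let T := DefSch.trivial (Spec (CommRingCat.of Γ(X, ⊤)))
    (Spec.map (CommRingCat.ofHom (algebraMap k Γ(X, ⊤)))) hx (artOf e)
  have hc1 : (trivFst (artOf e) hx ≫ X.isoSpec.inv) ≫ hX =
      T.f ≫ Spec.map (CommRingCat.ofHom (algebraMap k A)) := by
    rw [Category.assoc, hinv]
    exact trivFst_comp (artOf e) hx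
  let c : T.total ⟶ pullback hX (Spec.map (CommRingCat.ofHom (algebraMap k A))) :=
    pullback.lift (trivFst (artOf e) hx ≫ X.isoSpec.inv) T.f hc1
  have hc2 : (pullback.fst hX (Spec.map (CommRingCat.ofHom (algebraMap k A))) ≫ X.isoSpec.hom) ≫
      Spec.map (CommRingCat.ofHom (algebraMap k Γ(X, ⊤))) =
      pullback.snd hX (Spec.map (CommRingCat.ofHom (algebraMap k A))) ≫ specMap (ofBase (artOf e)) := by
    rw [Category.assoc, ← hX_eq hX]
    exact pullback.condition
  let c' : pullback hX (Spec.map (CommRingCat.ofHom (algebraMap k A))) ⟶ T.total :=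
    trivLift (artOf e) hx (pullback.fst _ _ ≫ X.isoSpec.hom) (pullback.snd _ _) hc2
  have k1 : c ≫ pullback.fst _ _ = trivFst (artOf e) hx ≫ X.isoSpec.inv := pullback.lift_fst _ _ _
  have k2 : c ≫ pullback.snd _ _ = T.f := pullback.lift_snd _ _ _
  have k3 : c' ≫ trivFst (artOf e) hx = pullback.fst _ _ ≫ X.isoSpec.hom := trivLift_fst _ _ _ _ _
  have k4 : c' ≫ T.f = pullback.snd _ _ := trivLift_f _ _ _ _ _
  have hcc' : c ≫ c' = 𝟙 _ := by
    apply trivial_hom_ext (artOf e) hx
    · rw [Category.assoc, k3, ← Category.assoc, k1, Category.assoc,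
        Iso.inv_hom_id, Category.comp_id, Category.id_comp]
    · rw [Category.assoc]
      exact (congrArg (c ≫ ·) k4).trans (k2.trans (Category.id_comp _).symm)
  have hc'c : c' ≫ c = 𝟙 _ := by
    apply pullback.hom_ext
    · rw [Category.assoc, k1, ← Category.assoc, k3, Category.assoc,
        Iso.hom_inv_id, Category.comp_id, Category.id_comp]
    · exact (Category.assoc _ _ _).trans ((congrArg (c' ≫ ·) k2).trans
        (k4.trans (Category.id_comp _).symm))
  let ci : T.total ≅ pullback hX (Spec.map (CommRingCat.ofHom (algebraMap k A))) :=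
    ⟨c, c', hcc', hc'c⟩
  let eh : X' ⟶ T.total := E.iso.hom
  have ehf : eh ≫ T.f = g := E.hom_f
  have ehi : (X.isoSpec.inv ≫ i) ≫ eh = T.i := E.i_hom
  have ehE : eh ≫ trivFst (artOf e) hx = X'.toSpecΓ ≫ Spec.map (CommRingCat.ofHom s) := hE
  refine ⟨E.iso ≪≫ ci, ?_, ?_, ?_⟩
  · change (eh ≫ c) ≫ pullback.snd _ _ = g
    exact (Category.assoc _ _ _).trans ((congrArg (eh ≫ ·) k2).trans ehf)
  · change i ≫ (eh ≫ c) ≫ pullback.fst _ _ = 𝟙 X
    rw [Category.assoc, k1]
    have h2 : i ≫ eh = X.isoSpec.hom ≫ T.i := by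
      rw [← ehi, Category.assoc, Iso.hom_inv_id_assoc]
    rw [← Category.assoc, ← Category.assoc, h2, Category.assoc, Category.assoc,
      ← Category.assoc T.i, trivial_i_fst, Category.id_comp, Iso.hom_inv_id]
  · change (eh ≫ c) ≫ pullback.fst _ _ = _
    rw [Category.assoc, k1, ← Category.assoc, ehE, Category.assoc]

end Convert

end Groth.Agent.Lib.DefSchAff
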