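import Mathlib
import Groth.Agent.Lib.DefSchAff3

/-!
# Smooth affine schemes have only trivial infinitesimal deformations
-/

set_option autoImplicit false
set_option linter.unusedVariables false
set_option linter.unusedSectionVars false

universe u

open CategoryTheory CategoryTheory.Limits AlgebraicGeometry ArtFun ArtFun.Art

namespace Groth.Agent.Lib.DefSchAff

/-- extensions of a formally smooth algebra are trivial -/
theorem isTrivial_of_formallySmooth {k B : Type u} [CommRing k] [CommRing B] [Algebra k B]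
    [Algebra.FormallySmooth k B] {L : Type u} [AddCommGroup L] [Module B L]
    (E : Exal.Ext k B L) : E.IsTrivial := by
  have hnil : IsNilpotent (RingHom.ker (E.proj : E.E →+* B)) := by
    refine ⟨2, ?_⟩
    rw [pow_two, Ideal.zero_eq_bot, eq_bot_iff, Ideal.mul_le]
    intro x hx y hy
    obtain ⟨z, rfl⟩ := (E.isExtension.exact y).1 hy
    have hx' : E.proj x = 0 := hx
    rw [Ideal.mem_bot, E.isExtension.mul_incl, hx', zero_smul, map_zero]
  exact ⟨Algebra.FormallySmooth.liftOfSurjective (AlgHom.id k B) E.proj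
      E.isExtension.proj_surjective hnil,
    fun b => Algebra.FormallySmooth.liftOfSurjective_apply (AlgHom.id k B) E.proj
      E.isExtension.proj_surjective hnil b⟩

section Smooth

variable {k : Type u} [Field k] {X : Scheme.{u}} [IsAffine X] (hX : X ⟶ Spec (CommRingCat.of k))

/-- global sections of a smooth affine `k`-scheme are formally smooth over `k` -/
theorem formallySmooth_Γ_of_smooth [Smooth hX] :
    @Algebra.FormallySmooth k Γ(X, ⊤) _ _ (algΓ hX) := by
  have h1 : hX.appTop.hom.Smooth := (HasRingHomProperty.iff_of_isAffine (P := @Smooth)).mp ‹_›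
  have h2 : (hX.appTop.hom.comp (Scheme.ΓSpecIso (CommRingCat.of k)).inv.hom).FormallySmooth :=
    RingHom.FormallySmooth.comp (RingHom.FormallySmooth.of_bijective
      ((ConcreteCategory.isIso_iff_bijective _).mp inferInstance)) h1.formallySmooth
  exact h2

variable {A : Type u} [CommRing A] [IsLocalRing A] [IsArtinianRing A] [Algebra k A] (e : A →ₐ[k] k)
  {X' : Scheme.{u}} (g : X' ⟶ Spec (CommRingCat.of A)) (hg : Flat g) (i : X ⟶ X')
  (hsq : IsPullback i hX g (Spec.map (CommRingCat.ofHom e.toRingHom)))

include e hg hsq in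
/-- deformations of an affine scheme with formally smooth coordinate ring are trivial -/
theorem exists_iso_of_formallySmooth (hfs : @Algebra.FormallySmooth k Γ(X, ⊤) _ _ (algΓ hX)) :
    ∃ φ : X' ≅ pullback hX (Spec.map (CommRingCat.ofHom (algebraMap k A))),
      φ.hom ≫ pullback.snd _ _ = g ∧ i ≫ φ.hom ≫ pullback.fst _ _ = 𝟙 X := by
  let _ := algΓ hX
  let ξ := toDefSch hX e g hg i hsq
  let φ : (artOf e) →+* Γ(ξ.total, ⊤) := algA ξ
  let _ : Algebra k Γ(ξ.total, ⊤) := (φ.comp (algebraMap k (artOf e))).toAlgebra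
  let π : Γ(ξ.total, ⊤) →ₐ[k] Γ(X, ⊤) :=
    { proj ξ with
      commutes' := fun c => by
        change proj ξ (algA ξ (algebraMap k (artOf e) c)) = algebraMap k Γ(X, ⊤) c
        rw [proj_algA, AlgHom.commutes]
        rfl }
  have hker : ∀ r : Γ(ξ.total, ⊤), π r = 0 ↔ r ∈ (IsLocalRing.maximalIdeal (artOf e)).map φ := by
    intro r
    rw [← ker_proj ξ, RingHom.mem_ker]
    rfl
  obtain ⟨s, hs⟩ := Groth.Agent.Lib.DefSchRigid.exists_section φ π (flat_algA ξ)
    (proj_surjective ξ) hker (fun E => isTrivial_of_formallySmooth E)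
  obtain ⟨ψ, h1, h2, -⟩ := exists_iso_of_section hX e g hg i hsq s.toRingHom
    (fun b => (proj_toDefSch hX e g hg i hsq (s b)).symm.trans (hs b))
    (fun c => s.commutes c)
  exact ⟨ψ, h1, h2⟩

end Smooth

end Groth.Agent.Lib.DefSchAff
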