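import Mathlib

/-!
# Sections of a first order thickening compatible with marked points (algebraic core)
-/

set_option autoImplicit false
set_option linter.unusedVariables false
set_option linter.unusedSectionVars false

universe u v

open DualNumber

namespace Groth.Agent.Lib.DefSchMarked

theorem maximalIdeal_dualNumber (k : Type u) [Field k] :
    IsLocalRing.maximalIdeal (DualNumber k) = Ideal.span {(ε : DualNumber k)} := by
  ext a
  rw [IsLocalRing.mem_maximalIdeal, mem_nonunits_iff, TrivSqZeroExt.isUnit_iff_isUnit_fst,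
    isUnit_iff_ne_zero, not_not, Ideal.mem_span_singleton']
  constructor
  · intro h
    refine ⟨TrivSqZeroExt.inl a.snd, ?_⟩
    ext <;> simp [h]
  · rintro ⟨c, rfl⟩
    simp

variable {k : Type u} [Field k] {B R : Type u} [CommRing B] [CommRing R] [Algebra k B] [Algebra k R]

theorem exists_marked_section [Algebra.FormallySmooth k B] (π : R →ₐ[k] B)
    (hπ : Function.Surjective π) (εR : R) (hε : εR * εR = 0) (hεπ : π εR = 0)
    (hker : ∀ r, π r = 0 → ∃ r', r = εR * r')
    {ι : Type v} [Finite ι] (q : ι → (B →ₐ[k] k)) (hq : Function.Injective q)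
    (q' : ι → (R →ₐ[k] DualNumber k)) (hq1 : ∀ j r, (q' j r).fst = q j (π r))
    (hq2 : ∀ j, q' j εR = ε) :
    ∃ s : B →ₐ[k] R, (∀ b, π (s b) = b) ∧ ∀ j b, q' j (s b) = TrivSqZeroExt.inl (q j b) := by
  classical
  -- the target ring
  let f₁ : (B × (ι → DualNumber k)) →ₐ[k] (ι → k) :=
    (AlgHom.pi q).comp (AlgHom.fst k B (ι → DualNumber k))
  let f₂ : (B × (ι → DualNumber k)) →ₐ[k] (ι → k) :=
    (AlgHom.compLeft (TrivSqZeroExt.fstHom k k k) ι).comp (AlgHom.snd k B (ι → DualNumber k))
  let T : Subalgebra k (B × (ι → DualNumber k)) := AlgHom.equalizer f₁ f₂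
  have hT : ∀ x : B × (ι → DualNumber k), x ∈ T ↔ ∀ j, q j x.1 = (x.2 j).fst := by
    intro x
    change f₁ x = f₂ x ↔ _
    constructor
    · intro h j
      exact congrFun h j
    · intro h
      funext j
      exact h j
  let Pm0 : R →ₐ[k] (B × (ι → DualNumber k)) := AlgHom.prod π (AlgHom.pi q')
  let Pm : R →ₐ[k] T := Pm0.codRestrict T (fun r => (hT _).2 fun j => (hq1 j r).symm)
  let θ0 : B →ₐ[k] (B × (ι → DualNumber k)) := AlgHom.prod (AlgHom.id k B)
    (AlgHom.pi (fun j => (TrivSqZeroExt.inlAlgHom k k k).comp (q j)))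
  let θ : B →ₐ[k] T := θ0.codRestrict T (fun b => (hT _).2 fun j => rfl)
  -- CRT
  have hmax : ∀ j, (RingHom.ker (q j : B →+* k)).IsMaximal := fun j =>
    RingHom.ker_isMaximal_of_surjective (q j : B →+* k) (fun c => ⟨algebraMap k B c, by simp⟩)
  have hcop : Pairwise (Function.onFun IsCoprime fun j => RingHom.ker (q j : B →+* k)) := by
    intro j j' hne
    have := hmax j
    have := hmax j'
    apply Ideal.isCoprime_of_isMaximal
    intro heq
    replace heq : RingHom.ker (q j : B →+* k) = RingHom.ker (q j' : B →+* k) := heq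
    apply hne
    apply hq
    ext b
    have h1 : b - algebraMap k B (q j b) ∈ RingHom.ker (q j : B →+* k) := by
      rw [RingHom.mem_ker]
      simp
    rw [heq, RingHom.mem_ker] at h1
    simp only [AlgHom.coe_toRingHom, map_sub, AlgHom.commutes, Algebra.algebraMap_self,
      RingHom.id_apply, sub_eq_zero] at h1
    exact h1.symm
  have hcrt : ∀ c : ι → k, ∃ b : B, ∀ j, q j b = c j := by
    intro c
    obtain ⟨b, hb⟩ := Ideal.exists_forall_sub_mem_ideal hcop (fun j => algebraMap k B (c j))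
    refine ⟨b, fun j => ?_⟩
    have h1 := hb j
    rw [RingHom.mem_ker] at h1
    simp only [AlgHom.coe_toRingHom, map_sub, AlgHom.commutes, Algebra.algebraMap_self,
      RingHom.id_apply, sub_eq_zero] at h1
    exact h1
  have hsurj : Function.Surjective Pm := by
    rintro ⟨⟨b, d⟩, ht⟩
    have ht' : ∀ j, q j b = (d j).fst := (hT _).1 ht
    obtain ⟨r₀, hr₀⟩ := hπ b
    obtain ⟨b₁, hb₁⟩ := hcrt (fun j => (d j).snd - (q' j r₀).snd)
    obtain ⟨r₁, hr₁⟩ := hπ b₁
    refine ⟨r₀ + εR * r₁, ?_⟩
    apply Subtype.ext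
    apply Prod.ext
    · change π (r₀ + εR * r₁) = b
      rw [map_add, map_mul, hεπ, zero_mul, add_zero, hr₀]
    · funext j
      change q' j (r₀ + εR * r₁) = d j
      rw [map_add, map_mul, hq2]
      ext
      · simp [hq1, hr₀, ht']
      · simp [hq1, hr₁, hb₁]
  have hnil : IsNilpotent (RingHom.ker (Pm : R →+* T)) := by
    refine ⟨2, ?_⟩
    rw [pow_two, Ideal.zero_eq_bot, eq_bot_iff, Ideal.mul_le]
    intro x hx y hy
    have hx1 : π x = 0 := congrArg (fun t : T => t.1.1) ((RingHom.mem_ker).mp hx)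
    have hy1 : π y = 0 := congrArg (fun t : T => t.1.1) ((RingHom.mem_ker).mp hy)
    obtain ⟨x', rfl⟩ := hker x hx1
    obtain ⟨y', rfl⟩ := hker y hy1
    rw [Ideal.mem_bot]
    have : εR * x' * (εR * y') = εR * εR * (x' * y') := by ring
    rw [this, hε, zero_mul]
  let s := Algebra.FormallySmooth.liftOfSurjective θ Pm hsurj hnil
  have hs : ∀ b, Pm (s b) = θ b :=
    fun b => Algebra.FormallySmooth.liftOfSurjective_apply θ Pm hsurj hnil b
  refine ⟨s, fun b => ?_, fun j b => ?_⟩
  · exact congrArg (fun t : T => t.1.1) (hs b)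
  · exact congrArg (fun t : T => t.1.2 j) (hs b)

end Groth.Agent.Lib.DefSchMarked
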