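import Groth.Agent.Lib.ExalY
import Groth.Agent.Lib.CotTIndep01

/-!
# `Exalcom A B M ≃ H¹(Hom(naive cotangent complex, M))` for an extension with the lifting property
(helper1)
-/

namespace Groth.Agent.Lib.ExalT1

open Algebra Algebra.Extension Groth.Agent.Lib.ExalY Groth.Agent.Lib.CotTIndep
open scoped TensorProduct

universe u

set_option linter.unusedSectionVars false

variable {A B : Type u} [CommRing A] [CommRing B] [Algebra A B] (E : Algebra.Extension.{u} A B)
  {M : Type u} [AddCommGroup M] [Module B M]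
  [Module E.Ring M] [IsScalarTower E.Ring B M] [Module A M] [IsScalarTower A E.Ring M]
  [IsScalarTower A B M]

/-- `Hom_R(I, M) → Hom_B(I/I², M)`. -/
noncomputable def cotLift (v : E.ker →ₗ[E.Ring] M) : E.Cotangent →ₗ[B] M :=
  (v.liftBaseChange B) ∘ₗ E.cotangentEquiv.symm.toLinearMap

theorem cotLift_mk (v : E.ker →ₗ[E.Ring] M) (x : E.ker) : cotLift E v (Cotangent.mk x) = v x := by
  have : E.cotangentEquiv.symm (Cotangent.mk x) = 1 ⊗ₜ x := by
    rw [LinearEquiv.symm_apply_eq]
    change _ = (Cotangent.mk.liftBaseChange B) (1 ⊗ₜ x)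
    rw [LinearMap.liftBaseChange_tmul, one_smul]
  change (v.liftBaseChange B) (E.cotangentEquiv.symm (Cotangent.mk x)) = _
  rw [this, LinearMap.liftBaseChange_tmul, one_smul]

/-- the inverse direction. -/
noncomputable def cotRestrict (w : E.Cotangent →ₗ[B] M) : E.ker →ₗ[E.Ring] M :=
  (w.restrictScalars E.Ring) ∘ₗ Cotangent.mk

theorem cotLift_cotRestrict (w : E.Cotangent →ₗ[B] M) : cotLift E (cotRestrict E w) = w := by
  ext c
  obtain ⟨x, rfl⟩ := Cotangent.mk_surjective c
  rw [cotLift_mk]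
  rfl

theorem mem_range_iff (w : E.Cotangent →ₗ[B] M) :
    w ∈ LinearMap.range (LinearMap.lcomp B M E.cotangentComplex) ↔
      ∃ D : Derivation A E.Ring M, ∀ x : E.ker, w (Cotangent.mk x) = D x := by
  constructor
  · rintro ⟨ψ, rfl⟩
    let f : Ω[E.Ring⁄A] →ₗ[E.Ring] M :=
      (ψ.restrictScalars E.Ring) ∘ₗ (TensorProduct.mk E.Ring B Ω[E.Ring⁄A] 1)
    refine ⟨f.compDer (KaehlerDifferential.D A E.Ring), fun x => ?_⟩
    change ψ (E.cotangentComplex (Cotangent.mk x)) = _
    rw [cotangentComplex_mk]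
    rfl
  · rintro ⟨D, hD⟩
    refine ⟨LinearMap.liftBaseChange B D.liftKaehlerDifferential, ?_⟩
    ext c
    obtain ⟨x, rfl⟩ := Cotangent.mk_surjective c
    change (LinearMap.liftBaseChange B D.liftKaehlerDifferential)
      (E.cotangentComplex (Cotangent.mk x)) = _
    rw [cotangentComplex_mk, LinearMap.liftBaseChange_tmul, one_smul,
      Derivation.liftKaehlerDifferential_comp_D, hD]

theorem exal_equiv_Y
    (hlift : ∀ X : Exal.Ext A B M, ∃ s : E.Ring →ₐ[A] X.E,
      ∀ r, X.proj (s r) = algebraMap E.Ring B r) :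
    ∃ e : Exal.Exalcom A B M ≃ Y M E, e 0 = 0 := by
  refine exal_equiv_of_lifting (R := E.Ring) E.algebraMap_surjective hlift
    (fun v => (Submodule.Quotient.mk (cotLift E v) : Y M E)) ?_ ?_ |>.imp fun e he => ?_
  · intro y
    obtain ⟨w, rfl⟩ := Submodule.Quotient.mk_surjective _ y
    exact ⟨cotRestrict E w, by simp only [cotLift_cotRestrict]⟩
  · intro v v'
    rw [Submodule.Quotient.eq, mem_range_iff]
    refine exists_congr fun D => forall_congr' fun x => ?_
    rw [LinearMap.sub_apply, cotLift_mk, cotLift_mk]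
  · rw [he]
    have : cotLift E (0 : E.ker →ₗ[E.Ring] M) = 0 := by
      ext c
      obtain ⟨x, rfl⟩ := Cotangent.mk_surjective c
      rw [cotLift_mk]; rfl
    rw [this]
    rfl

end Groth.Agent.Lib.ExalT1
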