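import Mathlib
import Groth.Prelude.Def_ArtFun4
import Groth.Agent.Lib.DefTan3
import Groth.Agent.Lib.ExalT1

/-!
# The tangent space of the deformation functor of `Spec B₀` is a quotient of `T¹(B₀/k, B₀ ⊗ k)` (helper1)
-/

set_option autoImplicit false
set_option linter.style.haveILetI false
set_option linter.unusedVariables false
set_option linter.unusedSectionVars false

universe u

open CategoryTheory CategoryTheory.Limits AlgebraicGeometry ArtFun ArtFun.Art Function TensorProduct
open Groth.Agent.Lib.DefSchAff Groth.Agent.Lib.DefGlue Groth.Agent.Lib.H59TangentStr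
open Groth.Agent.Lib.ExalY

namespace Groth.Agent.Lib.DefTan

variable (Λ : Type u) {k : Type u} [CommRing Λ] [Field k] [Algebra Λ k]
  {B₀ : Type u} [CommRing B₀] [Algebra k B₀]
  (E : Algebra.Extension.{u} k B₀)

section Theta

variable (M : Type u) [AddCommGroup M] [Module k M] [Module kᵐᵒᵖ M] [SMulCommClass k kᵐᵒᵖ M]
  [IsCentralScalar k M] [Module Λ M] [IsScalarTower Λ k M] [IsScalarTower Λ kᵐᵒᵖ M]
  [Module.Finite k M]

/-- `Hom_P(I, B₀ ⊗ M)`. -/
abbrev V := E.ker →ₗ[E.Ring] (B₀ ⊗[k] M)

/-- the class of the deformation over `k ⊕ M` attached to `v : I → B₀ ⊗ M`. -/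
noncomputable def Theta (v : V E M) : (DF Λ B₀).obj (tObj Λ k M) :=
  clExt Λ M (EVext k (R := E.Ring) v E.algebraMap_surjective)

variable {M}
variable {M' : Type u} [AddCommGroup M'] [Module k M'] [Module kᵐᵒᵖ M'] [SMulCommClass k kᵐᵒᵖ M']
  [IsCentralScalar k M'] [Module Λ M'] [IsScalarTower Λ k M'] [IsScalarTower Λ kᵐᵒᵖ M']
  [Module.Finite k M']

/-- push forward along a linear map. -/
noncomputable def push (f : M →ₗ[k] M') (v : V E M) : V E M' :=
  ((f.baseChange B₀).restrictScalars E.Ring) ∘ₗ v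

theorem push_apply (f : M →ₗ[k] M') (v : V E M) (x : E.ker) :
    push E f v x = f.baseChange B₀ (v x) := rfl

theorem map_Theta (f : M →ₗ[k] M') (v : V E M) :
    (DF Λ B₀).map (tHom Λ k f) (Theta Λ E M v) = Theta Λ E M' (push E f v) :=
  map_clExt Λ f _ _ (EVmap ((f.baseChange B₀).restrictScalars E.Ring) v)
    (EVmap_algebraMap _ v) (proj_EVmap _ v) (EVmap_incl _ v)

variable {M'' : Type u} [AddCommGroup M''] [Module k M''] [Module kᵐᵒᵖ M'']
  [SMulCommClass k kᵐᵒᵖ M''] [IsCentralScalar k M''] [Module Λ M''] [IsScalarTower Λ k M'']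
  [IsScalarTower Λ kᵐᵒᵖ M''] [Module.Finite k M'']

theorem push_push (f : M →ₗ[k] M') (g : M' →ₗ[k] M'') (v : V E M) :
    push E g (push E f v) = push E (g ∘ₗ f) v := by
  ext x
  rw [push_apply, push_apply, push_apply, LinearMap.baseChange_comp]
  rfl

theorem push_add_right (f : M →ₗ[k] M') (u v : V E M) :
    push E f (u + v) = push E f u + push E f v := by
  ext x
  rw [LinearMap.add_apply, push_apply, push_apply, push_apply, LinearMap.add_apply, map_add]

theorem push_add_left (f g : M →ₗ[k] M') (v : V E M) :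
    push E (f + g) v = push E f v + push E g v := by
  ext x
  rw [LinearMap.add_apply, push_apply, push_apply, push_apply, LinearMap.baseChange_add,
    LinearMap.add_apply]

theorem push_id (v : V E M) : push E (LinearMap.id : M →ₗ[k] M) v = v := by
  ext x
  rw [push_apply, LinearMap.baseChange_id]
  rfl

theorem push_zero (v : V E M) : push E (0 : M →ₗ[k] M') v = 0 := by
  ext x
  rw [push_apply, LinearMap.baseChange_zero]
  rfl

theorem push_smul (c : k) (f : M →ₗ[k] M') (v : V E M) : push E (c • f) v = c • push E f v := by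
  ext x
  rw [LinearMap.smul_apply, push_apply, push_apply, LinearMap.baseChange_smul, LinearMap.smul_apply]

end Theta

section Linear

variable (h0 : H0 (DF Λ B₀ (k := k))) (h2 : Heps (DF Λ B₀ (k := k)))

theorem Theta_add (u v : V E k) :
    add h0 h2 (Theta Λ E k u) (Theta Λ E k v) = Theta Λ E k (u + v) := by
  let w := Theta Λ E (k × k) (push E (LinearMap.inl k k k) u + push E (LinearMap.inr k k k) v)
  have e1 : (DF Λ B₀).map (tHom Λ k (LinearMap.fst k k k)) w = Theta Λ E k u := by
    rw [map_Theta, push_add_right, push_push, push_push, LinearMap.fst_comp_inl,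
      LinearMap.fst_comp_inr, push_id, push_zero, add_zero]
  have e2 : (DF Λ B₀).map (tHom Λ k (LinearMap.snd k k k)) w = Theta Λ E k v := by
    rw [map_Theta, push_add_right, push_push, push_push, LinearMap.snd_comp_inl,
      LinearMap.snd_comp_inr, push_id, push_zero, zero_add]
  have e3 : (DF Λ B₀).map (tHom Λ k (LinearMap.fst k k k + LinearMap.snd k k k)) w =
      Theta Λ E k (u + v) := by
    rw [map_Theta, push_add_right, push_push, push_push, LinearMap.add_comp, LinearMap.add_comp,
      LinearMap.fst_comp_inl, LinearMap.fst_comp_inr, LinearMap.snd_comp_inl,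
      LinearMap.snd_comp_inr, add_zero, zero_add, push_id, push_id]
  have h := add_map h0 h2 (LinearMap.fst k k k) (LinearMap.snd k k k) w
  rw [e1, e2, e3] at h
  exact h

theorem Theta_smul (c : k) (u : V E k) :
    (DF Λ B₀).map (tHom Λ k (c • LinearMap.id : k →ₗ[k] k)) (Theta Λ E k u) =
      Theta Λ E k (c • u) := by
  rw [map_Theta, push_smul, push_id]

end Linear

section Der

variable (M : Type u) [AddCommGroup M] [Module k M] [Module kᵐᵒᵖ M] [SMulCommClass k kᵐᵒᵖ M]
  [IsCentralScalar k M] [Module Λ M] [IsScalarTower Λ k M] [IsScalarTower Λ kᵐᵒᵖ M]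
  [Module.Finite k M]

theorem Theta_eq_of_der (v v' : V E M) (D : Derivation k E.Ring (B₀ ⊗[k] M))
    (h : ∀ x : E.ker, v x - v' x = D x) : Theta Λ E M v = Theta Λ E M v' := by
  let X := EVext k (R := E.Ring) v' E.algebraMap_surjective
  let s := addDer X (EV.lift k v' E.algebraMap_surjective) (EV.proj_lift k v' E.algebraMap_surjective) D
  have hs := proj_addDer X (EV.lift k v' E.algebraMap_surjective)
    (EV.proj_lift k v' E.algebraMap_surjective) D
  have hv : vOf X s hs = v := by
    ext x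
    rw [vOf_addDer, vOf_EV, ← h x]
    abel
  exact clExt_eq_of_equiv Λ _ _ (compareEquiv X s hs E.algebraMap_surjective v hv)

theorem exists_Theta
    (hlift : ∀ X : Exal.Ext k B₀ (B₀ ⊗[k] M), ∃ s : E.Ring →ₐ[k] X.E,
      ∀ r, X.proj (s r) = algebraMap E.Ring B₀ r)
    (q : (DF Λ B₀).obj (tObj Λ k M)) : ∃ v, Theta Λ E M v = q := by
  obtain ⟨X, rfl⟩ := exists_clExt Λ M q
  obtain ⟨s, hs⟩ := hlift X
  exact ⟨vOf X s hs, clExt_eq_of_equiv Λ _ _ (compareEquiv X s hs E.algebraMap_surjective _ rfl)⟩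

end Der

section Generic

/-- a module through which a surjection from a finite module factors is finite (the source is only
assumed to be an additive monoid, to avoid instance mismatches on spaces of linear maps). -/
theorem finite_of_factor {k V Y T : Type*} [Field k] [AddCommMonoid V] [Module k V]
    [AddCommGroup Y] [Module k Y] [AddCommGroup T] [Module k T]
    (q : V →ₗ[k] Y) (θ : V →ₗ[k] T) (hq : Surjective q) (hθ : Surjective θ)
    (hker : ∀ v, q v = 0 → θ v = 0) [Module.Finite k Y] : Module.Finite k T := by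
  let _ : AddCommGroup V := Module.addCommMonoidToAddCommGroup k
  have hker' : LinearMap.ker q ≤ LinearMap.ker θ := fun v hv => hker v hv
  let g : Y →ₗ[k] T := (LinearMap.ker q).liftQ θ hker' ∘ₗ
    (q.quotKerEquivOfSurjective hq).symm.toLinearMap
  refine Module.Finite.of_surjective g ?_
  intro t
  obtain ⟨v, rfl⟩ := hθ t
  refine ⟨q v, ?_⟩
  have h1 : (q.quotKerEquivOfSurjective hq).symm (q v) = Submodule.Quotient.mk v := by
    rw [LinearEquiv.symm_apply_eq]
    rfl
  change (LinearMap.ker q).liftQ θ hker' ((q.quotKerEquivOfSurjective hq).symm (q v)) = _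
  rw [h1, Submodule.liftQ_apply]

end Generic

section Fin

open Groth.Agent.Lib.ExalT1 Groth.Agent.Lib.CotTIndep Algebra.Extension

/-- `Hom_P(I, N) → T¹`, as a `k`-linear map. -/
noncomputable def qLin : V E k →ₗ[k] Y (B₀ ⊗[k] k) E where
  toFun v := Submodule.Quotient.mk (cotLift E v)
  map_add' u v := by
    rw [← Submodule.Quotient.mk_add]
    congr 1
    ext c
    obtain ⟨x, rfl⟩ := Cotangent.mk_surjective c
    rw [LinearMap.add_apply, cotLift_mk, cotLift_mk, cotLift_mk, LinearMap.add_apply]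
  map_smul' c v := by
    rw [RingHom.id_apply, ← Submodule.Quotient.mk_smul]
    congr 1
    ext y
    obtain ⟨x, rfl⟩ := Cotangent.mk_surjective y
    rw [LinearMap.smul_apply, cotLift_mk, cotLift_mk, LinearMap.smul_apply]

theorem qLin_surjective : Surjective (qLin E) := by
  intro y
  obtain ⟨w, rfl⟩ := Submodule.Quotient.mk_surjective _ y
  exact ⟨cotRestrict E w, by
    change Submodule.Quotient.mk (cotLift E (cotRestrict E w)) = _
    rw [cotLift_cotRestrict]⟩

theorem exists_der_of_qLin_eq_zero (v : V E k) (hv : qLin E v = 0) :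
    ∃ D : Derivation k E.Ring (B₀ ⊗[k] k), ∀ x : E.ker, v x = D x := by
  have h1 : cotLift E v ∈ LinearMap.range (LinearMap.lcomp B₀ (B₀ ⊗[k] k) E.cotangentComplex) :=
    (Submodule.Quotient.mk_eq_zero _).1 hv
  obtain ⟨D, hD⟩ := (mem_range_iff E (cotLift E v)).1 h1
  exact ⟨D, fun x => by rw [← hD x, cotLift_mk]⟩

variable (h0 : H0 (DF Λ B₀ (k := k))) (h2 : Heps (DF Λ B₀ (k := k)))


/-- the map `Θ` as a linear map. -/
noncomputable def ThetaL :
    letI := addCommGroup (F := DF Λ B₀ (k := k)) h0 h2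
    letI := module (F := DF Λ B₀ (k := k)) h0 h2
    V E k →ₗ[k] (DF Λ B₀ (k := k)).obj (dual Λ k) :=
  letI := addCommGroup (F := DF Λ B₀ (k := k)) h0 h2
  letI := module (F := DF Λ B₀ (k := k)) h0 h2
  { toFun := Theta Λ E k
    map_add' := fun u v => (Theta_add Λ E h0 h2 u v).symm
    map_smul' := fun c u => (Theta_smul Λ E c u).symm }

theorem ThetaL_apply (v : V E k) : ThetaL Λ E h0 h2 v = Theta Λ E k v := rfl

theorem ker_qLin_le :
    letI := addCommGroup (F := DF Λ B₀ (k := k)) h0 h2
    letI := module (F := DF Λ B₀ (k := k)) h0 h2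
    LinearMap.ker (qLin E) ≤ LinearMap.ker (ThetaL Λ E h0 h2) := by
  letI := addCommGroup (F := DF Λ B₀ (k := k)) h0 h2
  letI := module (F := DF Λ B₀ (k := k)) h0 h2
  intro v hv
  obtain ⟨D, hD⟩ := exists_der_of_qLin_eq_zero E v (LinearMap.mem_ker.1 hv)
  rw [LinearMap.mem_ker]
  have h1 : Theta Λ E k v = Theta Λ E k 0 :=
    Theta_eq_of_der Λ E k v 0 D (fun x => by rw [LinearMap.zero_apply, sub_zero, hD x])
  have h3 : ThetaL Λ E h0 h2 v = ThetaL Λ E h0 h2 0 := h1
  rw [h3, map_zero]

/-- finiteness of the tangent space from finiteness of `T¹`. -/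
theorem hfin_of_finite
    (hlift : ∀ X : Exal.Ext k B₀ (B₀ ⊗[k] k), ∃ s : E.Ring →ₐ[k] X.E,
      ∀ r, X.proj (s r) = algebraMap E.Ring B₀ r)
    [Module.Finite k (Y (B₀ ⊗[k] k) E)] :
    @Hfin Λ k _ _ _ (DF Λ B₀) (tangentStr h0 h2) := by
  letI := addCommGroup (F := DF Λ B₀ (k := k)) h0 h2
  letI := module (F := DF Λ B₀ (k := k)) h0 h2
  change Module.Finite k ((DF Λ B₀ (k := k)).obj (dual Λ k))
  refine finite_of_factor (qLin E) (ThetaL Λ E h0 h2) (qLin_surjective E) ?_ ?_
  · intro t
    obtain ⟨v, hv⟩ := exists_Theta Λ E k hlift t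
    exact ⟨v, hv⟩
  · intro v hv
    exact LinearMap.mem_ker.1 (ker_qLin_le Λ E h0 h2 (LinearMap.mem_ker.2 hv))

end Fin

end Groth.Agent.Lib.DefTan
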