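import Mathlib

/-!
# Splitting up to a power of `f` vs. splitting after inverting `f` (helper1)

For an exact sequence `C --d--> F --π--> Ω → 0` of `R`-modules and `f : R`:
* `ker_subsingleton_of_retract`, `projective_of_retract`: if `g ∘ d = f ^ n • id` for some `g : F → C`, then `(ker d)_f = 0`
  and (for `F` projective) `Ω_f` is projective over `R_f`;
* `exists_retract_of_loc`: conversely for `C` finite and `F` finitely presented.
-/

set_option autoImplicit false
universe u

namespace Groth.Agent.Lib.LocSplit

variable {R : Type*} [CommRing R] (f : R)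
  {C F Ω : Type*} [AddCommGroup C] [Module R C] [AddCommGroup F] [Module R F] [AddCommGroup Ω] [Module R Ω]
  (d : C →ₗ[R] F) (π : F →ₗ[R] Ω)

theorem ker_subsingleton_of_retract (n : ℕ) (g : F →ₗ[R] C) (hg : g ∘ₗ d = f ^ n • LinearMap.id) :
    Subsingleton (LocalizedModule (Submonoid.powers f) (LinearMap.ker d)) := by
  rw [LocalizedModule.subsingleton_iff]
  rintro ⟨x, hx⟩
  refine ⟨f ^ n, ⟨n, rfl⟩, Subtype.ext ?_⟩
  have h := LinearMap.congr_fun hg x
  rw [LinearMap.mem_ker] at hx
  simp only [LinearMap.coe_comp, Function.comp_apply, LinearMap.smul_apply, LinearMap.id_coe, id_eq, hx,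
    map_zero] at h
  simp [← h]

theorem projective_of_retract (hex : Function.Exact d π) (hπ : Function.Surjective π)
    [Module.Projective R F]
    (n : ℕ) (g : F →ₗ[R] C) (hg : g ∘ₗ d = f ^ n • LinearMap.id) :
    Module.Projective (Localization.Away f) (LocalizedModule.Away f Ω) := by
  let e : F →ₗ[R] F := f ^ n • LinearMap.id - d ∘ₗ g
  have he : ∀ c, e (d c) = 0 := by
    intro c
    have h := LinearMap.congr_fun hg c
    simp only [LinearMap.coe_comp, Function.comp_apply, LinearMap.smul_apply, LinearMap.id_coe, id_eq] at h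
    simp only [e, LinearMap.sub_apply, LinearMap.smul_apply, LinearMap.id_coe, id_eq, LinearMap.coe_comp,
      Function.comp_apply, h, map_smul, sub_self]
  have hker : LinearMap.ker π ≤ LinearMap.ker e := by
    intro y hy
    rw [LinearMap.mem_ker] at hy ⊢
    obtain ⟨c, rfl⟩ := (hex y).1 hy
    exact he c
  let ι : Ω →ₗ[R] F := (LinearMap.ker π).liftQ e hker ∘ₗ (LinearMap.quotKerEquivOfSurjective π hπ).symm.toLinearMap
  have hι : ∀ y, ι (π y) = e y := by
    intro y
    have : (LinearMap.quotKerEquivOfSurjective π hπ).symm (π y) = Submodule.Quotient.mk y := by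
      rw [LinearEquiv.symm_apply_eq]; rfl
    simp only [ι, LinearMap.coe_comp, LinearEquiv.coe_coe, Function.comp_apply, this, Submodule.liftQ_apply]
  have hπι : ∀ w, π (ι w) = f ^ n • w := by
    intro w
    obtain ⟨y, rfl⟩ := hπ w
    rw [hι]
    simp only [e, LinearMap.sub_apply, LinearMap.smul_apply, LinearMap.id_coe, id_eq, LinearMap.coe_comp,
      Function.comp_apply, map_sub, map_smul, hex.apply_apply_eq_zero, sub_zero]
  have hu : IsUnit (algebraMap R (Localization.Away f) (f ^ n)) :=
    IsLocalization.map_units (M := Submonoid.powers f) _ ⟨f ^ n, n, rfl⟩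
  refine Module.Projective.of_split (M := LocalizedModule (Submonoid.powers f) F)
    ((hu.unit⁻¹ : (Localization.Away f)ˣ).1 • LocalizedModule.map (Submonoid.powers f) ι)
    (LocalizedModule.map (Submonoid.powers f) π) ?_
  refine LinearMap.ext fun x => ?_
  induction x using LocalizedModule.induction_on with | _ m s
  simp only [LinearMap.coe_comp, Function.comp_apply, LinearMap.smul_apply, map_smul, LocalizedModule.map_mk,
    hπι, LinearMap.id_coe, id_eq]
  rw [← LocalizedModule.smul'_mk, ← algebraMap_smul (Localization.Away f) (f ^ n), ← mul_smul]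
  rw [show (hu.unit⁻¹ : (Localization.Away f)ˣ).1 * algebraMap R (Localization.Away f) (f ^ n) = 1 from
    hu.val_inv_mul, one_smul]

theorem exists_retract_of_loc (hex : Function.Exact d π) (hπ : Function.Surjective π)
    [Module.Finite R C] [Module.FinitePresentation R F]
    (h1 : Subsingleton (LocalizedModule (Submonoid.powers f) (LinearMap.ker d)))
    (h2 : Module.Projective (Localization.Away f) (LocalizedModule.Away f Ω)) :
    ∃ (n : ℕ) (g : F →ₗ[R] C), g ∘ₗ d = f ^ n • LinearMap.id := by
  let S := Submonoid.powers f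
  let d' := LocalizedModule.map S d
  let π' := LocalizedModule.map S π
  have hex' : Function.Exact d' π' := LocalizedModule.map_exact S d π hex
  have hex0 : Function.Exact (LocalizedModule.map S (LinearMap.ker d).subtype) d' :=
    LocalizedModule.map_exact S _ d (LinearMap.exact_subtype_ker_map d)
  have hinj : Function.Injective d' := by
    rw [injective_iff_map_eq_zero]
    intro x hx
    obtain ⟨z, rfl⟩ := (hex0 x).1 hx
    rw [Subsingleton.elim z 0, map_zero]
  have hπ' : Function.Surjective π' := LocalizedModule.map_surjective S π hπ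
  obtain ⟨s, hs⟩ := Module.projective_lifting_property π' LinearMap.id hπ'
  obtain ⟨l, hl⟩ := ((hex'.split_tfae'.out 0 1 rfl rfl).mp ⟨hinj, s, hs⟩).2
  let r : F →ₗ[R] LocalizedModule S C := (l.restrictScalars R) ∘ₗ LocalizedModule.mkLinearMap S F
  obtain ⟨h, s₀, hs₀⟩ := Module.FinitePresentation.exists_lift_of_isLocalizedModule S
    (LocalizedModule.mkLinearMap S C) r
  have H : LocalizedModule.mkLinearMap S C ∘ₗ (h ∘ₗ d) =
      LocalizedModule.mkLinearMap S C ∘ₗ (s₀.1 • LinearMap.id) := by
    refine LinearMap.ext fun c => ?_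
    have h1 := LinearMap.congr_fun hs₀ (d c)
    have h2 := LinearMap.congr_fun hl (LocalizedModule.mk c 1)
    simp only [LinearMap.coe_comp, Function.comp_apply, LinearMap.id_coe, id_eq, d',
      LocalizedModule.map_mk] at h2
    simp only [LinearMap.coe_comp, Function.comp_apply, LinearMap.smul_apply, r,
      LinearMap.coe_restrictScalars, LocalizedModule.mkLinearMap_apply, h2] at h1
    simp only [LinearMap.coe_comp, Function.comp_apply, LinearMap.smul_apply, LinearMap.id_coe, id_eq,
      LocalizedModule.mkLinearMap_apply, map_smul]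
    rw [h1]
    rfl
  obtain ⟨s₁, hs₁⟩ := Module.Finite.exists_smul_of_comp_eq_of_isLocalizedModule S
    (LocalizedModule.mkLinearMap S C) (h ∘ₗ d) (s₀.1 • LinearMap.id) H
  obtain ⟨n, hn⟩ := (s₁ * s₀).2
  refine ⟨n, s₁.1 • h, ?_⟩
  rw [LinearMap.smul_comp]
  change s₁ • (h ∘ₗ d) = _
  rw [hs₁]
  change s₁.1 • (s₀.1 • (LinearMap.id : C →ₗ[R] C)) = _
  rw [smul_smul]
  have hn' : f ^ n = s₁.1 * s₀.1 := hn
  rw [hn']

end Groth.Agent.Lib.LocSplit
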