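import Mathlib
import Groth.Agent.S12305

/-!
# Finite-dimensionality of `T¹(B₀/k, N)` for isolated singularities (helper1)

* `finite_of_locally_killed`: a finite module over a finite type `k`-algebra, locally killed outside a finite set of primes, is
  finite-dimensional;
* `finite_Y`: `T¹(B₀/k, N)` (as `Y N P.toExtension`) is finite-dimensional when the non-smooth locus of `B₀` is finite.
-/

set_option autoImplicit false
set_option linter.unusedVariables false
set_option linter.unusedSectionVars false

universe u

open Function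

namespace Groth.Agent.Lib.DefTan

section Support

variable {k B T : Type u} [Field k] [CommRing B] [Algebra k B] [Algebra.FiniteType k B]
  [AddCommGroup T] [Module B T] [Module k T] [IsScalarTower k B T] [Module.Finite B T]

/-- a finite module over a finite type `k`-algebra which is locally killed outside a finite set of
primes is finite-dimensional. -/
theorem finite_of_locally_killed (Z : Set (PrimeSpectrum B)) (hZ : Z.Finite)
    (h : ∀ p : PrimeSpectrum B, p ∉ Z → ∃ f : B, f ∉ p.asIdeal ∧ ∃ n : ℕ, ∀ t : T, f ^ n • t = 0) :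
    Module.Finite k T := by
  let J : Ideal B := Module.annihilator B T
  have hV : PrimeSpectrum.zeroLocus (J : Set B) ⊆ Z := by
    intro p hp
    by_contra hpZ
    obtain ⟨f, hf, n, hn⟩ := h p hpZ
    have h1 : f ^ n ∈ J := Module.mem_annihilator.2 hn
    have h2 : f ^ n ∈ p.asIdeal := hp h1
    exact hf (p.2.mem_of_pow_mem n h2)
  have hfin : Finite (PrimeSpectrum (B ⧸ J)) := by
    have hinj : Injective (PrimeSpectrum.comap (Ideal.Quotient.mk J)) :=
      PrimeSpectrum.comap_injective_of_surjective _ Ideal.Quotient.mk_surjective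
    have hr : Set.range (PrimeSpectrum.comap (Ideal.Quotient.mk J)) ⊆ Z := by
      rw [range_comap_of_surjective _ _ Ideal.Quotient.mk_surjective, Ideal.mk_ker]
      exact hV
    have : (Set.univ : Set (PrimeSpectrum (B ⧸ J))).Finite := by
      refine Set.Finite.of_finite_image ?_ hinj.injOn
      rw [Set.image_univ]
      exact hZ.subset hr
    exact Set.finite_univ_iff.mp this
  have hJac : IsJacobsonRing (B ⧸ J) := isJacobsonRing_of_finiteType (A := k)
  have hdim : Ring.KrullDimLE 0 (B ⧸ J) :=
    (PrimeSpectrum.discreteTopology_iff_finite_and_krullDimLE_zero.mp inferInstance).right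
  have hfinA : Module.Finite k (B ⧸ J) := (Module.finite_iff_krullDimLE_zero k (B ⧸ J)).mpr hdim
  have hM := Module.isTorsionBySet_annihilator B T
  let _ : Module (B ⧸ J) T := hM.module
  have hst : IsScalarTower B (B ⧸ J) T := hM.isScalarTower
  have hst' : IsScalarTower k (B ⧸ J) T := hM.isScalarTower
  have hfinT : Module.Finite (B ⧸ J) T := Module.Finite.of_restrictScalars_finite B (B ⧸ J) T
  exact Module.Finite.trans (B ⧸ J) T

end Support

section T1

open Groth.Agent.Lib.CotTIndep Groth.Agent.Lib.LocSplit Groth.Agent.S12305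

variable {k B₀ : Type u} [Field k] [CommRing B₀] [Algebra k B₀] [Algebra.FiniteType k B₀]
  {ι σ : Type u} (P : Algebra.Presentation k B₀ ι σ)
  [Module.Finite B₀ P.toExtension.Cotangent]
  [Module.FinitePresentation B₀ P.toExtension.CotangentSpace]
  (N : Type u) [AddCommGroup N] [Module B₀ N] [Module.Finite B₀ N] [Module k N]
  [IsScalarTower k B₀ N]

/-- `T¹(B₀/k, N)` is finite-dimensional when `B₀` has only finitely many non-smooth points. -/
theorem finite_Y (hsm : (Algebra.smoothLocus k B₀)ᶜ.Finite) :
    Module.Finite k (Y N P.toExtension) := by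
  have hN : IsNoetherianRing B₀ := Algebra.FiniteType.isNoetherianRing k B₀
  have hfp : Algebra.FinitePresentation k B₀ :=
    Algebra.FinitePresentation.of_finiteType.mp inferInstance
  refine finite_of_locally_killed (B := B₀) (Algebra.smoothLocus k B₀)ᶜ hsm ?_
  intro p hp
  have hp' : p ∈ Algebra.smoothLocus k B₀ := Set.notMem_compl_iff.mp hp
  obtain ⟨_, ⟨f, rfl⟩, hpf, hsub⟩ :=
    PrimeSpectrum.isTopologicalBasis_basic_opens.exists_subset_of_mem_open hp'
      Algebra.isOpen_smoothLocus
  refine ⟨f, hpf, ?_⟩
  obtain ⟨h1, h2⟩ := (smooth_iff (A := k) (B := B₀) f).mp (fun q hq => hsub hq)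
  have h1' := (H1_subsingleton_iff P.toGenerators f).mp h1
  obtain ⟨n, g, hg⟩ := exists_retract_of_loc f P.toExtension.cotangentComplex
    P.toExtension.toKaehler P.toExtension.exact_cotangentComplex_toKaehler
    P.toExtension.toKaehler_surjective h1' h2
  obtain ⟨n₀, h⟩ := (Y_killed_iff P f).mpr ⟨n, g, hg⟩
  exact ⟨n₀, fun t => h N t⟩

end T1

end Groth.Agent.Lib.DefTan
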