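import Groth.Prelude.Def_ArtFun3
import Groth.Agent.Lib.ArtFunBasic

/-!
# Maps to square-zero extensions `k ⊕ M` and derivations (helper59)

For an augmented `Λ`-algebra `res : A → k` and an additive map `D : A → M` into a `k`-module satisfying the Leibniz rule
through `res` and killing `Λ`, `toTsze` is the algebra map `a ↦ (res a, D a) : A → k ⊕ M`.
-/

set_option autoImplicit false
universe u v

open CategoryTheory ArtFun ArtFun.Art

namespace Groth.Agent.Lib.H59ArtFunDer

variable {Λ : Type u} {k : Type u} [CommRing Λ] [Field k] [Algebra Λ k]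

section

variable {M : Type u} [AddCommGroup M] [Module k M] [Module kᵐᵒᵖ M] [SMulCommClass k kᵐᵒᵖ M]
  [IsCentralScalar k M] [Module Λ M] [IsScalarTower Λ k M] [IsScalarTower Λ kᵐᵒᵖ M]

/-- `a ↦ (res a, D a)`. -/
def toTsze {A : Type u} [CommRing A] [Algebra Λ A] (res : A →ₐ[Λ] k) (D : A → M)
    (hadd : ∀ x y, D (x + y) = D x + D y)
    (hmul : ∀ x y, D (x * y) = res x • D y + res y • D x)
    (hΛ : ∀ c : Λ, D (algebraMap Λ A c) = 0) : A →ₐ[Λ] TrivSqZeroExt k M :=
  have h0 : D 0 = 0 := by
    have := hadd 0 0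
    rw [add_zero] at this
    exact left_eq_add.mp this
  have h1 : D 1 = 0 := by
    have := hmul 1 1
    rw [mul_one, map_one, one_smul] at this
    exact left_eq_add.mp this
  { toFun := fun x => ((res x, D x) : TrivSqZeroExt k M)
    map_one' := TrivSqZeroExt.ext (map_one res) h1
    map_mul' := fun x y => TrivSqZeroExt.ext (map_mul res x y) (by
      change D (x * y) = res x • D y + MulOpposite.op (res y) • D x
      rw [hmul, op_smul_eq_smul])
    map_zero' := TrivSqZeroExt.ext (map_zero res) h0
    map_add' := fun x y => TrivSqZeroExt.ext (map_add res x y) (hadd x y)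
    commutes' := fun c => TrivSqZeroExt.ext (by
        change res (algebraMap Λ A c) = (algebraMap Λ (TrivSqZeroExt k M) c).fst
        rw [TrivSqZeroExt.algebraMap_eq_inl', TrivSqZeroExt.fst_inl, AlgHom.commutes]) (by
        change D (algebraMap Λ A c) = (algebraMap Λ (TrivSqZeroExt k M) c).snd
        rw [TrivSqZeroExt.algebraMap_eq_inl', TrivSqZeroExt.snd_inl, hΛ]) }

theorem toTsze_apply {A : Type u} [CommRing A] [Algebra Λ A] (res : A →ₐ[Λ] k) (D : A → M)
    (hadd hmul hΛ) (x : A) :
    toTsze res D hadd hmul hΛ x = ((res x, D x) : TrivSqZeroExt k M) := rfl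

end

end Groth.Agent.Lib.H59ArtFunDer
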