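import Groth.Agent.Lib.H59ArtFunTorsor

/-!
# Versality criteria for families (helper59)

* `isVersal_of_smallExt`: versality may be tested on small extensions.
* `isVersal_of_tangent_surjective_of_lifts`: under `Hbar`, `Heps`-injectivity for `F`: a family which is surjective on
  tangent spaces and for which maps `R → A` lift along small extensions `B → A` whenever the element lifts, is versal.
-/

set_option autoImplicit false
universe u v w

open CategoryTheory ArtFun ArtFun.Art IsLocalRing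

namespace Groth.Agent.Lib.H59ArtFunVersal

variable {Λ : Type u} {k : Type u} [CommRing Λ] [Field k] [Algebra Λ k]
variable {R : Type u} [CommRing R] [Algebra Λ R] {resR : R →ₐ[Λ] k} {F : Art Λ k ⥤ Type v}

theorem homSet_map_id {A : Art Λ k} (φ : HomSet R resR A) : HomSet.map (𝟙 A) φ = φ :=
  Subtype.ext (AlgHom.ext fun _ => rfl)

theorem homSet_map_comp {A B C : Art Λ k} (f : A ⟶ B) (g : B ⟶ C) (φ : HomSet R resR A) :
    HomSet.map (f ≫ g) φ = HomSet.map g (HomSet.map f φ) :=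
  Subtype.ext (AlgHom.ext fun _ => rfl)

/-- versality may be tested on small extensions. -/
theorem isVersal_of_smallExt (ξ : Family R resR F)
    (h : ∀ ⦃B A : Art Λ k⦄ (μ : B ⟶ A), IsSmallExt μ →
      ∀ (φ : HomSet R resR A) (y : F.obj B), F.map μ y = ξ.app A φ →
        ∃ ψ : HomSet R resR B, HomSet.map μ ψ = φ ∧ ξ.app B ψ = y) :
    IsVersal ξ := by
  intro B A μ hμ
  refine Groth.Agent.Lib.ArtFunFactor.surjection_induction
    (P := fun {B A} μ => ∀ (φ : HomSet R resR A) (y : F.obj B), F.map μ y = ξ.app A φ →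
        ∃ ψ : HomSet R resR B, HomSet.map μ ψ = φ ∧ ξ.app B ψ = y) ?_ ?_ ?_ μ hμ
  · intro B A μ hbij φ y hy
    obtain ⟨ν, h1, h2⟩ := Groth.Agent.Lib.ArtFunFactor.exists_inv_of_bijective μ hbij
    refine ⟨HomSet.map ν φ, ?_, ?_⟩
    · rw [← homSet_map_comp, h2, homSet_map_id]
    · rw [ξ.natural, ← hy, ← Functor.map_comp_apply, h1, Functor.map_id_apply]
  · intro B A μ hs
    exact h μ hs
  · intro C B A ν μ hν hμ φ y hy
    obtain ⟨ψ', h1, h2⟩ := hμ φ (F.map ν y) (by rw [← Functor.map_comp_apply, hy])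
    obtain ⟨ψ, h3, h4⟩ := hν ψ' y h2.symm
    exact ⟨ψ, by rw [homSet_map_comp, h3, h1], h4⟩

/-- `h_R` turns fibre-product squares into surjections (indeed bijections) of comparison maps. -/
theorem hR_cmp_surjective {B A A' A'' : Art Λ k} {p' : B ⟶ A'} {p'' : B ⟶ A''} {f' : A' ⟶ A}
    {f'' : A'' ⟶ A} (h : IsFibreProd p' p'' f' f'') :
    Function.Surjective (cmp (hR R resR) h) := by
  intro t
  obtain ⟨θ, h1, h2⟩ := Groth.Agent.Lib.ArtFunBasic.exists_lift_of_isFibreProd h t.1.1 t.1.2 t.2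
  exact ⟨θ, Subtype.ext (Prod.ext h1 h2)⟩

theorem hR_cmp_injective {B A A' A'' : Art Λ k} {p' : B ⟶ A'} {p'' : B ⟶ A''} {f' : A' ⟶ A}
    {f'' : A'' ⟶ A} (h : IsFibreProd p' p'' f' f'') :
    Function.Injective (cmp (hR R resR) h) := by
  intro θ₁ θ₂ h12
  exact Groth.Agent.Lib.ArtFunBasic.eq_of_isFibreProd h θ₁ θ₂ (congrArg (fun t => t.1.1) h12)
    (congrArg (fun t => t.1.2) h12)

/-- tangent-surjective + liftable ⇒ versal. -/
theorem isVersal_of_tangent_surjective_of_lifts [IsNoetherianRing Λ] [Module.Finite Λ k]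
    (hbar : Hbar F)
    (heps : ∀ ⦃P B : Art Λ k⦄ (p : P ⟶ B) (q : P ⟶ dual Λ k)
      (h : IsFibreProd p q (toBase B) (toBase (dual Λ k))), Function.Injective (cmp F h))
    (ξ : Family R resR F) (htan : Function.Surjective (ξ.app (dual Λ k)))
    (hlift : ∀ ⦃B A : Art Λ k⦄ (μ : B ⟶ A), IsSmallExt μ →
      ∀ (φ : HomSet R resR A) (y : F.obj B), F.map μ y = ξ.app A φ →
        ∃ ψ : HomSet R resR B, HomSet.map μ ψ = φ) :
    IsVersal ξ := by
  apply isVersal_of_smallExt
  intro B A μ hμ φ y hy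
  obtain ⟨ψ₀, hψ₀⟩ := hlift μ hμ φ y hy
  obtain ⟨z, hz1, hz2⟩ := Groth.Agent.Lib.H59ArtFunTorsor.exists_adjust (F := hR R resR) (G := F)
    (fun A => ξ.app A) (fun g x => ξ.natural g x)
    (Groth.Agent.Lib.ArtFunBasic.homSet_base_subsingleton)
    (fun P B p q h => hR_cmp_surjective h) hbar heps htan μ hμ ψ₀ y (by
      rw [hy, ← ξ.natural, hψ₀])
  exact ⟨z, hz1.trans hψ₀, hz2⟩

end Groth.Agent.Lib.H59ArtFunVersal
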