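import Groth.Prelude.Def_ArtFun5
import Mathlib.RingTheory.AdicCompletion.Exactness
import Mathlib.RingTheory.AdicCompletion.Noetherian

/-!
# Quotients of coefficient rings (helper59)

`quot S J`: the quotient of a complete local Noetherian augmented `Λ`-algebra by a proper ideal is again one.
-/

set_option autoImplicit false
universe u v
open ArtFun IsLocalRing

namespace Groth.Agent.Lib.H59SchlessCRingQuot

/-- Precompleteness passes to quotients. -/
theorem isPrecomplete_of_surjective {R : Type*} [CommRing R] (I : Ideal R) {M N : Type*}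
    [AddCommGroup M] [Module R M] [AddCommGroup N] [Module R N] [IsPrecomplete I M]
    (f : M →ₗ[R] N) (hf : Function.Surjective f) : IsPrecomplete I N := by
  rw [← AdicCompletion.of_surjective_iff]
  intro y
  obtain ⟨x, rfl⟩ := AdicCompletion.map_surjective I hf y
  obtain ⟨m, rfl⟩ := AdicCompletion.of_surjective I M x
  exact ⟨f m, (AdicCompletion.map_of I f m).symm⟩

variable {Λ : Type u} {k : Type u} [CommRing Λ] [Field k] [Algebra Λ k]

section

variable (S : CRing Λ k) (J : Ideal S.carrier) (hJ : J ≤ maximalIdeal S.carrier)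

include hJ in
theorem quot_nontrivial : Nontrivial (S.carrier ⧸ J) :=
  Ideal.Quotient.nontrivial_iff.2
    (fun h => (maximalIdeal.isMaximal S.carrier).ne_top (top_le_iff.1 (h ▸ hJ)))

include hJ in
theorem quot_isLocalRing : IsLocalRing (S.carrier ⧸ J) :=
  have := quot_nontrivial S J hJ
  IsLocalRing.of_surjective' (Ideal.Quotient.mk J) Ideal.Quotient.mk_surjective

include hJ in
theorem map_maximalIdeal :
    haveI := quot_isLocalRing S J hJ
    (maximalIdeal S.carrier).map (Ideal.Quotient.mk J) = maximalIdeal (S.carrier ⧸ J) := by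
  have := quot_isLocalRing S J hJ
  apply le_antisymm
  · rw [Ideal.map_le_iff_le_comap]
    intro a ha
    rw [Ideal.mem_comap, IsLocalRing.mem_maximalIdeal, mem_nonunits_iff]
    intro hu
    have hmax : (maximalIdeal S.carrier).map (Ideal.Quotient.mk J) ≠ ⊤ := by
      intro htop
      have h1 : (1 : S.carrier ⧸ J) ∈ (maximalIdeal S.carrier).map (Ideal.Quotient.mk J) := by
        rw [htop]; trivial
      rw [← map_one (Ideal.Quotient.mk J),
        Ideal.mem_map_iff_of_surjective _ Ideal.Quotient.mk_surjective] at h1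
      obtain ⟨b, hb, hb1⟩ := h1
      have hsub : b - 1 ∈ J := Ideal.Quotient.eq.1 hb1
      have : (1 : S.carrier) ∈ maximalIdeal S.carrier := by
        have h2 := Ideal.sub_mem _ hb (hJ hsub)
        rwa [sub_sub_cancel] at h2
      exact (maximalIdeal.isMaximal S.carrier).ne_top ((Ideal.eq_top_iff_one _).2 this)
    exact hmax (Ideal.eq_top_of_isUnit_mem _ (Ideal.mem_map_of_mem _ ha) hu)
  · intro x hx
    obtain ⟨a, rfl⟩ := Ideal.Quotient.mk_surjective x
    have ha : a ∈ maximalIdeal S.carrier := by
      rw [IsLocalRing.mem_maximalIdeal] at hx ⊢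
      exact fun hu => hx (hu.map (Ideal.Quotient.mk J))
    exact Ideal.mem_map_of_mem _ ha

include hJ in
theorem quot_isAdicComplete :
    haveI := quot_isLocalRing S J hJ
    IsAdicComplete (maximalIdeal (S.carrier ⧸ J)) (S.carrier ⧸ J) := by
  have := quot_isLocalRing S J hJ
  have hS : IsAdicComplete (maximalIdeal S.carrier) S.carrier := S.isAdicComplete
  have hpre : IsPrecomplete (maximalIdeal S.carrier) (S.carrier ⧸ J) :=
    isPrecomplete_of_surjective (maximalIdeal S.carrier) (Submodule.mkQ J)
      (Submodule.mkQ_surjective J)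
  have hpre' : IsPrecomplete ((maximalIdeal S.carrier).map (algebraMap S.carrier (S.carrier ⧸ J)))
      (S.carrier ⧸ J) := IsPrecomplete.map_algebraMap_iff.2 hpre
  have hmap : (maximalIdeal S.carrier).map (algebraMap S.carrier (S.carrier ⧸ J)) =
      maximalIdeal (S.carrier ⧸ J) := map_maximalIdeal S J hJ
  rw [hmap] at hpre'
  exact { toIsHausdorff := inferInstance, toIsPrecomplete := hpre' }

/-- The quotient `S/J` as a coefficient ring. -/
noncomputable def quot : CRing Λ k :=
  haveI := quot_isLocalRing S J hJ
  { carrier := S.carrier ⧸ J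
    res := Ideal.Quotient.liftₐ J S.res (fun a ha => (CRing.mem_maximalIdeal_iff S a).1 (hJ ha))
    res_surjective := fun c => by
      obtain ⟨a, ha⟩ := S.res_surjective c
      exact ⟨Ideal.Quotient.mk _ a, ha⟩
    isAdicComplete := quot_isAdicComplete S J hJ }

theorem quot_carrier : (quot S J hJ).carrier = (S.carrier ⧸ J) := rfl

/-- The quotient map. -/
noncomputable def quotMk : S.carrier →ₐ[Λ] (quot S J hJ).carrier := Ideal.Quotient.mkₐ Λ J

theorem quotMk_apply (s : S.carrier) : quotMk S J hJ s = Ideal.Quotient.mk J s := rfl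

theorem quotMk_surjective : Function.Surjective (quotMk S J hJ) := Ideal.Quotient.mk_surjective

theorem quot_res_mk (s : S.carrier) : (quot S J hJ).res (Ideal.Quotient.mk J s) = S.res s := rfl

theorem res_comp_quotMk : (quot S J hJ).res.comp (quotMk S J hJ) = S.res :=
  AlgHom.ext fun _ => rfl

theorem ker_quotMk : RingHom.ker (quotMk S J hJ) = J := by
  ext s
  rw [RingHom.mem_ker]
  exact Ideal.Quotient.eq_zero_iff_mem

end

end Groth.Agent.Lib.H59SchlessCRingQuot
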