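import Groth.Prelude.Def_ArtFun5
import Groth.Agent.Lib.ArtFunBasic
import Groth.Agent.Lib.H59ArtFunVersal

/-!
# The image of the tangent map of a family is a subspace (helper59)
-/

set_option autoImplicit false
universe u v
open CategoryTheory ArtFun ArtFun.Art IsLocalRing

namespace Groth.Agent.Lib.H59SchlessTangent

variable {Λ : Type u} {k : Type u} [CommRing Λ] [Field k] [Algebra Λ k]
variable {R : Type u} [CommRing R] [Algebra Λ R] {resR : R →ₐ[Λ] k} {F : Art Λ k ⥤ Type v}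

/-- The image of `t_R → t_F` is a `k`-subspace. -/
theorem exists_submodule_range [T : TangentStr F] (ξ : Family R resR F) :
    ∃ W : Submodule k (TangentSpace F), ∀ v : TangentSpace F,
      v ∈ W ↔ ∃ ψ : HomSet R resR (dual Λ k), ξ.app (dual Λ k) ψ = v := by
  have hsmul : ∀ (c : k) (ψ : HomSet R resR (dual Λ k)),
      c • TangentSpace.mk (ξ.app (dual Λ k) ψ) =
        TangentSpace.mk (ξ.app (dual Λ k) (HomSet.map (scale c) ψ)) := by
    intro c ψ
    have := T.smul_eq c (ξ.app (dual Λ k) ψ)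
    rw [← ξ.natural] at this
    exact this
  have hadd : ∀ (ψ₁ ψ₂ : HomSet R resR (dual Λ k)), ∃ ψ₃ : HomSet R resR (dual Λ k),
      TangentSpace.mk (ξ.app (dual Λ k) ψ₁) + TangentSpace.mk (ξ.app (dual Λ k) ψ₂) =
        TangentSpace.mk (ξ.app (dual Λ k) ψ₃) := by
    intro ψ₁ ψ₂
    obtain ⟨ω, h1, h2⟩ := Groth.Agent.Lib.ArtFunBasic.exists_lift_of_isFibreProd
      (isFibreProd_dual2 (Λ := Λ) (k := k)) ψ₁ ψ₂ (Subsingleton.elim _ _)
    refine ⟨HomSet.map plus ω, ?_⟩
    have := T.add_eq (ξ.app (dual2 Λ k) ω)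
    rw [← ξ.natural, ← ξ.natural, ← ξ.natural, h1, h2] at this
    exact this
  let ψ₀ : HomSet R resR (dual Λ k) :=
    HomSet.map baseToDual (Groth.Agent.Lib.ArtFunBasic.homSetBase R resR)
  refine ⟨{ carrier := {v | ∃ ψ : HomSet R resR (dual Λ k), ξ.app (dual Λ k) ψ = v}
            add_mem' := ?_
            zero_mem' := ?_
            smul_mem' := ?_ }, fun v => Iff.rfl⟩
  · rintro _ _ ⟨ψ₁, rfl⟩ ⟨ψ₂, rfl⟩
    obtain ⟨ψ₃, h⟩ := hadd ψ₁ ψ₂
    exact ⟨ψ₃, h.symm⟩
  · refine ⟨HomSet.map (scale 0) ψ₀, ?_⟩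
    exact ((hsmul 0 ψ₀).symm.trans (zero_smul k _))
  · rintro c _ ⟨ψ, rfl⟩
    exact ⟨HomSet.map (scale c) ψ, (hsmul c ψ).symm⟩

/-- If the image of the tangent map contains a spanning set, the tangent map is surjective. -/
theorem tangent_surjective_of_span [T : TangentStr F] (ξ : Family R resR F)
    (V : Set (TangentSpace F)) (hV : Submodule.span k V = ⊤)
    (h : ∀ v ∈ V, ∃ ψ : HomSet R resR (dual Λ k), ξ.app (dual Λ k) ψ = v) :
    Function.Surjective (ξ.app (dual Λ k)) := by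
  obtain ⟨W, hW⟩ := exists_submodule_range ξ
  have hle : Submodule.span k V ≤ W := Submodule.span_le.2 (fun v hv => (hW v).2 (h v hv))
  rw [hV] at hle
  intro v
  exact (hW v).1 (hle (Submodule.mem_top))

end Groth.Agent.Lib.H59SchlessTangent
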