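import Groth.Agent.Lib.H59SchlessStep
import Groth.Agent.Lib.H59SchlessTangent
import Groth.Agent.Lib.ArtFunFibre

/-!
# Versality of the limit of Schlessinger's tower (helper59)

Given a smooth coefficient ring `S`, a starting stage `s₀` and the tower of minimal extensions, any coefficient ring
`R` which is the quotient of `S` by the intersection of the kernels of the tower (plus Chevalley's property) carries
a versal family, provided the tangent directions are visible at stage `0`.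
-/

set_option autoImplicit false
set_option linter.unusedTactic false
universe u v
open CategoryTheory ArtFun ArtFun.Art IsLocalRing

namespace Groth.Agent.Lib.H59SchlessVersal

open Groth.Agent.Lib.H59SchlessQuot Groth.Agent.Lib.H59SchlessStep

variable {Λ : Type u} {k : Type u} [CommRing Λ] [Field k] [Algebra Λ k]
  [IsNoetherianRing Λ] [Module.Finite Λ k]
variable {S : CRing Λ k} {F : Art Λ k ⥤ Type v} (h1 : S1 F) (s₀ : Stage S F)

/-- transition maps of the tower. -/
theorem tower_trans {m n : ℕ} (hmn : m ≤ n) :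
    ∃ g : (tower h1 s₀ n).A ⟶ (tower h1 s₀ m).A,
      HomSet.map g (tower h1 s₀ n).σ = (tower h1 s₀ m).σ ∧
        F.map g (tower h1 s₀ n).x = (tower h1 s₀ m).x := by
  induction n, hmn using Nat.le_induction with
  | base => exact ⟨𝟙 _, Groth.Agent.Lib.H59ArtFunVersal.homSet_map_id _, Functor.map_id_apply _ _ _⟩
  | succ n _ ih =>
    obtain ⟨g, hg1, hg2⟩ := ih
    obtain ⟨⟨π, hπ1, hπ2⟩, _, _⟩ := tower_isNext h1 s₀ n
    refine ⟨π ≫ g, ?_, ?_⟩
    · rw [Groth.Agent.Lib.H59ArtFunVersal.homSet_map_comp, hπ1, hg1]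
    · rw [Functor.map_comp_apply, hπ2, hg2]

theorem tower_ker_antitone : Antitone (fun n => (tower h1 s₀ n).ker) := by
  intro m n hmn
  obtain ⟨g, hg1, _⟩ := tower_trans h1 s₀ hmn
  intro t ht
  have h0 : (tower h1 s₀ n).σ.1 t = 0 := ht
  change (tower h1 s₀ m).σ.1 t = 0
  rw [← hg1]
  change g ((tower h1 s₀ n).σ.1 t) = 0
  rw [h0]
  exact map_zero _

section Limit

variable (R : CRing Λ k) (ρ : S.carrier →ₐ[Λ] R.carrier) (hρ : Function.Surjective ρ)
  (hρres : R.res.comp ρ = S.res)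
  (hρker : RingHom.ker ρ = ⨅ n, (tower h1 s₀ n).ker)
  (hchev : ∀ t : ℕ, ∃ n, (tower h1 s₀ n).ker ≤
    (⨅ i, (tower h1 s₀ i).ker) ⊔ maximalIdeal S.carrier ^ t)

/-- restriction of a map on `R` to `S`. -/
def pull {A : Art Λ k} (φ : HomSet R.carrier R.res A) : HomSet S.carrier S.res A :=
  ⟨φ.1.comp ρ, by rw [← AlgHom.comp_assoc, φ.2, hρres]⟩

omit [IsNoetherianRing Λ] [Module.Finite Λ k] in
theorem pull_map {A B : Art Λ k} (f : A ⟶ B) (φ : HomSet R.carrier R.res A) :
    pull R ρ hρres (HomSet.map f φ) = HomSet.map f (pull R ρ hρres φ) := rfl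

include hρ in
omit [IsNoetherianRing Λ] [Module.Finite Λ k] in
theorem pull_injective {A : Art Λ k} (φ ψ : HomSet R.carrier R.res A)
    (h : pull R ρ hρres φ = pull R ρ hρres ψ) : φ = ψ := by
  apply Groth.Agent.Lib.ArtFunBasic.homSet_ext
  intro r
  obtain ⟨s, rfl⟩ := hρ r
  exact congrArg (fun t : HomSet S.carrier S.res A => t.1 s) h

include hρ in
omit [IsNoetherianRing Λ] [Module.Finite Λ k] in
/-- maps on `S` killing `ker ρ` descend to `R`. -/
theorem exists_descend {A : Art Λ k} (θ : HomSet S.carrier S.res A)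
    (h : RingHom.ker ρ ≤ RingHom.ker θ.1) :
    ∃ φ : HomSet R.carrier R.res A, pull R ρ hρres φ = θ := by
  let e : (S.carrier ⧸ RingHom.ker ρ) ≃ₐ[Λ] R.carrier := Ideal.quotientKerAlgEquivOfSurjective hρ
  let l : (S.carrier ⧸ RingHom.ker ρ) →ₐ[Λ] A :=
    Ideal.Quotient.liftₐ (RingHom.ker ρ) θ.1 (fun a ha => h ha)
  have he : ∀ s, e.symm (ρ s) = Ideal.Quotient.mk _ s := by
    intro s
    rw [AlgEquiv.symm_apply_eq]
    rfl
  have hg : ∀ s, l (e.symm (ρ s)) = θ.1 s := by
    intro s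
    rw [he]
    rfl
  refine ⟨⟨l.comp e.symm.toAlgHom, ?_⟩, ?_⟩
  · apply AlgHom.ext
    intro r
    obtain ⟨s, rfl⟩ := hρ r
    change A.res (l (e.symm (ρ s))) = R.res (ρ s)
    rw [hg, Groth.Agent.Lib.ArtFunBasic.homSet_res_apply]
    exact (DFunLike.congr_fun hρres s).symm
  · apply Groth.Agent.Lib.ArtFunBasic.homSet_ext
    intro s
    exact hg s

include hρker hchev in
/-- every map from `R` to an Artinian object factors through a level of the tower. -/
theorem exists_level {A : Art Λ k} (φ : HomSet R.carrier R.res A) :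
    ∃ (n : ℕ) (g : (tower h1 s₀ n).A ⟶ A), HomSet.map g (tower h1 s₀ n).σ = pull R ρ hρres φ := by
  obtain ⟨t, ht⟩ := exists_pow_le_ker (pull R ρ hρres φ)
  obtain ⟨n, hn⟩ := hchev t
  have hle : (tower h1 s₀ n).ker ≤ RingHom.ker (pull R ρ hρres φ).1 := by
    refine hn.trans (sup_le ?_ ht)
    rw [← hρker]
    intro s hs
    rw [RingHom.mem_ker] at hs ⊢
    change φ.1 (ρ s) = 0
    rw [hs, map_zero]
  obtain ⟨g, hg⟩ := exists_factor (tower h1 s₀ n).σ (tower h1 s₀ n).surj _ hle
  exact ⟨n, g, hg⟩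

/-- the value does not depend on the level. -/
theorem level_indep {A : Art Λ k} (θ : HomSet S.carrier S.res A) (n n' : ℕ)
    (g : (tower h1 s₀ n).A ⟶ A) (g' : (tower h1 s₀ n').A ⟶ A)
    (hg : HomSet.map g (tower h1 s₀ n).σ = θ) (hg' : HomSet.map g' (tower h1 s₀ n').σ = θ) :
    F.map g (tower h1 s₀ n).x = F.map g' (tower h1 s₀ n').x := by
  wlog hnn : n ≤ n' generalizing n n'
  · exact (this n' n g' g hg' hg (le_of_not_ge hnn)).symm
  obtain ⟨π, hπ1, hπ2⟩ := tower_trans h1 s₀ hnn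
  have : g' = π ≫ g := by
    apply factor_unique (tower h1 s₀ n').σ (tower h1 s₀ n').surj
    rw [Groth.Agent.Lib.H59ArtFunVersal.homSet_map_comp, hπ1, hg, hg']
  rw [this, Functor.map_comp_apply, hπ2]

/-- The limit family. -/
noncomputable def limitFamily : Family R.carrier R.res F where
  app A φ := F.map (Classical.choose (Classical.choose_spec
      (exists_level h1 s₀ R ρ hρres hρker hchev φ)))
    (tower h1 s₀ (Classical.choose (exists_level h1 s₀ R ρ hρres hρker hchev φ))).x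
  natural {A B} f φ := by
    have hA := Classical.choose_spec (Classical.choose_spec
      (exists_level h1 s₀ R ρ hρres hρker hchev φ))
    have hB := Classical.choose_spec (Classical.choose_spec
      (exists_level h1 s₀ R ρ hρres hρker hchev (HomSet.map f φ)))
    rw [← Functor.map_comp_apply]
    apply level_indep h1 s₀ (pull R ρ hρres (HomSet.map f φ)) _ _ _ _ hB
    rw [Groth.Agent.Lib.H59ArtFunVersal.homSet_map_comp, hA]
    rfl

theorem limitFamily_app {A : Art Λ k} (φ : HomSet R.carrier R.res A) (n : ℕ)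
    (g : (tower h1 s₀ n).A ⟶ A) (hg : HomSet.map g (tower h1 s₀ n).σ = pull R ρ hρres φ) :
    (limitFamily h1 s₀ R ρ hρres hρker hchev).app A φ = F.map g (tower h1 s₀ n).x := by
  have hA := Classical.choose_spec (Classical.choose_spec
    (exists_level h1 s₀ R ρ hρres hρker hchev φ))
  exact level_indep h1 s₀ (pull R ρ hρres φ) _ _ _ _ hA hg

include hρ in
/-- each level of the tower is visible on `R`. -/
theorem limitFamily_level (n : ℕ) :
    ∃ φ : HomSet R.carrier R.res (tower h1 s₀ n).A, pull R ρ hρres φ = (tower h1 s₀ n).σ ∧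
      (limitFamily h1 s₀ R ρ hρres hρker hchev).app _ φ = (tower h1 s₀ n).x := by
  obtain ⟨φ, hφ⟩ := exists_descend R ρ hρ hρres (tower h1 s₀ n).σ (by
    rw [hρker]; exact iInf_le _ n)
  refine ⟨φ, hφ, ?_⟩
  rw [limitFamily_app h1 s₀ R ρ hρres hρker hchev φ n (𝟙 _) (by
    rw [Groth.Agent.Lib.H59ArtFunVersal.homSet_map_id, hφ]), Functor.map_id_apply]

include hρ in
theorem limitFamily_tangent [TangentStr F] (V : Set (TangentSpace F))
    (hV : Submodule.span k V = ⊤)
    (hs₀ : ∀ v ∈ V, ∃ h : s₀.A ⟶ dual Λ k, F.map h s₀.x = v) :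
    Function.Surjective ((limitFamily h1 s₀ R ρ hρres hρker hchev).app (dual Λ k)) := by
  apply Groth.Agent.Lib.H59SchlessTangent.tangent_surjective_of_span _ V hV
  intro v hv
  obtain ⟨h, hh⟩ := hs₀ v hv
  obtain ⟨φ, _, hφ2⟩ : ∃ φ : HomSet R.carrier R.res s₀.A, pull R ρ hρres φ = s₀.σ ∧
      (limitFamily h1 s₀ R ρ hρres hρker hchev).app s₀.A φ = s₀.x :=
    limitFamily_level h1 s₀ R ρ hρ hρres hρker hchev 0
  refine ⟨HomSet.map h φ, ?_⟩
  rw [Family.natural, hφ2]
  exact hh

include hρ in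
theorem limitFamily_lift (hS : IsSmoothFunctor (hR S.carrier S.res)) {B A : Art Λ k} (μ : B ⟶ A)
    (hμ : IsSmallExt μ) (φ : HomSet R.carrier R.res A) (y : F.obj B)
    (hy : F.map μ y = (limitFamily h1 s₀ R ρ hρres hρker hchev).app A φ) :
    ∃ ψ : HomSet R.carrier R.res B, HomSet.map μ ψ = φ := by
  classical
  obtain ⟨n, g, hg⟩ := exists_level h1 s₀ R ρ hρres hρker hchev φ
  have hξ := limitFamily_app h1 s₀ R ρ hρres hρker hchev φ n g hg
  obtain ⟨hμsurj, hμne, ⟨t, ht⟩, hm⟩ := hμ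
  have ht' : RingHom.ker μ.toAlgHom = Ideal.span {t} := ht
  obtain ⟨P, p₁, p₂, hP⟩ := Groth.Agent.Lib.ArtFunFibre.exists_isFibreProd_of_surjective g μ hμsurj
  -- smooth lift
  obtain ⟨ψS, hψS⟩ := hS μ hμsurj (pull R ρ hρres φ)
  have hψS' : HomSet.map μ ψS = pull R ρ hρres φ := hψS
  obtain ⟨ψ', hψ'1, hψ'2⟩ := Groth.Agent.Lib.ArtFunBasic.exists_lift_of_isFibreProd hP
    (tower h1 s₀ n).σ ψS (by rw [hg, hψS'])
  have hψ'1a : ∀ s, p₁ (ψ'.1 s) = (tower h1 s₀ n).σ.1 s := fun s =>
    congrArg (fun θ : HomSet S.carrier S.res _ => θ.1 s) hψ'1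
  have hψ'2a : ∀ s, p₂ (ψ'.1 s) = ψS.1 s := fun s =>
    congrArg (fun θ : HomSet S.carrier S.res _ => θ.1 s) hψ'2
  -- the element over P
  obtain ⟨y', hy'⟩ := h1 p₁ p₂ g μ hP hμsurj ⟨((tower h1 s₀ n).x, y), by rw [← hξ]; exact hy.symm⟩
  have hy'1 : F.map p₁ y' = (tower h1 s₀ n).x := congrArg (fun w => w.1.1) hy'
  -- the image of S in P
  have hJ'm := ker_le_maximalIdeal ψ'
  have hJ'N := exists_pow_le_ker ψ'
  set C : Art Λ k := artQuot S (RingHom.ker ψ'.1) hJ'm hJ'N with hC
  set τ : HomSet S.carrier S.res C := artQuotHom S (RingHom.ker ψ'.1) hJ'm hJ'N with hτ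
  have hτs : Function.Surjective τ.1 := artQuotHom_surjective S _ hJ'm hJ'N
  have hτker : RingHom.ker τ.1 = RingHom.ker ψ'.1 := ker_artQuotHom S _ hJ'm hJ'N
  obtain ⟨ι, hι⟩ := exists_factor τ hτs ψ' (le_of_eq hτker)
  have hιτ : ∀ s, ι (τ.1 s) = ψ'.1 s := fun s =>
    congrArg (fun θ : HomSet S.carrier S.res _ => θ.1 s) hι
  have hιinj : Function.Injective ι := by
    intro c₁ c₂ h
    obtain ⟨s₁, rfl⟩ := hτs c₁
    obtain ⟨s₂, rfl⟩ := hτs c₂
    rw [hιτ, hιτ] at h
    have h0 : s₁ - s₂ ∈ RingHom.ker τ.1 := by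
      rw [hτker, RingHom.mem_ker, map_sub, h, sub_self]
    rw [RingHom.mem_ker, map_sub, sub_eq_zero] at h0
    exact h0
  have hq : HomSet.map (ι ≫ p₁) τ = (tower h1 s₀ n).σ := by
    rw [Groth.Agent.Lib.H59ArtFunVersal.homSet_map_comp, hι, hψ'1]
  have hσker : ∀ b, b ∈ (tower h1 s₀ n).ker → μ (ψS.1 b) = 0 := by
    intro b hb
    have h0 : (tower h1 s₀ n).σ.1 b = 0 := hb
    have : μ (ψS.1 b) = (pull R ρ hρres φ).1 b :=
      congrArg (fun θ : HomSet S.carrier S.res _ => θ.1 b) hψS'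
    rw [this, ← hg]
    change g ((tower h1 s₀ n).σ.1 b) = 0
    rw [h0]
    exact map_zero _
  have hmK : maximalIdeal S.carrier * (tower h1 s₀ n).ker ≤ RingHom.ker τ.1 := by
    rw [hτker, Ideal.mul_le]
    intro a ha b hb
    rw [RingHom.mem_ker, map_mul]
    apply hP.inj
    · have h0 : (tower h1 s₀ n).σ.1 b = 0 := hb
      change p₁.toAlgHom (ψ'.1 a * ψ'.1 b) = p₁.toAlgHom 0
      rw [map_mul, map_zero]
      change p₁ (ψ'.1 a) * p₁ (ψ'.1 b) = 0
      rw [hψ'1a b, h0, mul_zero]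
    · change p₂.toAlgHom (ψ'.1 a * ψ'.1 b) = p₂.toAlgHom 0
      rw [map_mul, map_zero]
      change p₂ (ψ'.1 a) * p₂ (ψ'.1 b) = 0
      rw [hψ'2a, hψ'2a]
      apply Groth.Agent.Lib.H59ArtFunTorsor.mul_eq_zero_of_res_eq_zero μ hm
      · rw [Groth.Agent.Lib.ArtFunBasic.homSet_res_apply]
        exact (CRing.mem_maximalIdeal_iff S a).1 ha
      · exact hσker b hb
  have hclaim : ∃ y'' : F.obj C, F.map (ι ≫ p₁) y'' = (tower h1 s₀ n).x := by
    by_cases hsurj : Function.Surjective ι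
    · obtain ⟨ν, _, hν⟩ := Groth.Agent.Lib.ArtFunFactor.exists_inv_of_bijective ι ⟨hιinj, hsurj⟩
      refine ⟨F.map ν y', ?_⟩
      rw [← Functor.map_comp_apply, ← Category.assoc, hν, Category.id_comp, hy'1]
    · have hqbij : Function.Bijective (ι ≫ p₁) := by
        constructor
        · rw [injective_iff_map_eq_zero (ι ≫ p₁).toAlgHom]
          intro c hc
          by_contra hc0
          apply hsurj
          have hw1 : p₁ (ι c) = 0 := hc
          have hw0 : ι c ≠ 0 := fun h => hc0 (hιinj (h.trans (map_zero ι.toAlgHom).symm))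
          have hw2 : μ (p₂ (ι c)) = 0 := by
            rw [← hP.w_apply, hw1]
            exact map_zero _
          have hmem : p₂ (ι c) ∈ Ideal.span {t} := by rw [← ht']; exact hw2
          rw [Ideal.mem_span_singleton'] at hmem
          obtain ⟨b, hb⟩ := hmem
          have hbu : IsUnit b := by
            by_contra hnu
            have hbm : B.res b = 0 := (Art.mem_maximalIdeal_iff B b).1 ((mem_maximalIdeal _).2 hnu)
            have htk : μ t = 0 := by
              have : t ∈ RingHom.ker μ.toAlgHom := by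
                rw [ht']; exact Ideal.mem_span_singleton_self t
              exact this
            have hbt : b * t = 0 :=
              Groth.Agent.Lib.H59ArtFunTorsor.mul_eq_zero_of_res_eq_zero μ hm hbm htk
            apply hw0
            apply hP.inj
            · exact hw1.trans (map_zero p₁.toAlgHom).symm
            · change p₂ (ι c) = p₂.toAlgHom 0
              rw [← hb, hbt, map_zero]
          intro w'
          obtain ⟨s', hs'⟩ := (tower h1 s₀ n).surj (p₁ w')
          have hd1 : p₁ (w' - ψ'.1 s') = 0 := by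
            change p₁.toAlgHom (w' - ψ'.1 s') = 0
            rw [map_sub]
            change p₁ w' - p₁ (ψ'.1 s') = 0
            rw [hψ'1a, hs', sub_self]
          have hd2 : μ (p₂ (w' - ψ'.1 s')) = 0 := by
            rw [← hP.w_apply, hd1]
            exact map_zero _
          have hmem' : p₂ (w' - ψ'.1 s') ∈ Ideal.span {t} := by rw [← ht']; exact hd2
          rw [Ideal.mem_span_singleton'] at hmem'
          obtain ⟨b', hb'⟩ := hmem'
          obtain ⟨s'', hs''⟩ := S.res_surjective (B.res (b' * ↑hbu.unit⁻¹))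
          have hkey : w' - ψ'.1 s' = ψ'.1 s'' * ι c := by
            apply hP.inj
            · change p₁ (w' - ψ'.1 s') = p₁.toAlgHom (ψ'.1 s'' * ι c)
              rw [hd1, map_mul]
              change 0 = p₁ (ψ'.1 s'') * p₁ (ι c)
              rw [hw1, mul_zero]
            · change p₂ (w' - ψ'.1 s') = p₂.toAlgHom (ψ'.1 s'' * ι c)
              rw [map_mul]
              change p₂ (w' - ψ'.1 s') = p₂ (ψ'.1 s'') * p₂ (ι c)
              rw [hψ'2a, ← hb', Groth.Agent.Lib.H59ArtFunTorsor.mul_eq_mul_of_res_eq μ hm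
                (b := ψS.1 s'') (b' := b' * ↑hbu.unit⁻¹) (x := p₂ (ι c)) (by
                  rw [Groth.Agent.Lib.ArtFunBasic.homSet_res_apply, hs'']) hw2, ← hb,
                mul_assoc, ← mul_assoc (↑hbu.unit⁻¹ : B), IsUnit.val_inv_mul, one_mul]
          refine ⟨τ.1 s' + τ.1 s'' * c, ?_⟩
          change ι.toAlgHom (τ.1 s' + τ.1 s'' * c) = w'
          rw [map_add, map_mul]
          change ι (τ.1 s') + ι (τ.1 s'') * ι c = w'
          rw [hιτ, hιτ, ← hkey]
          ring
        · intro a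
          obtain ⟨s, hs⟩ := (tower h1 s₀ n).surj a
          refine ⟨τ.1 s, ?_⟩
          change p₁ (ι (τ.1 s)) = a
          rw [hιτ, hψ'1a, hs]
      obtain ⟨ν, _, hν⟩ := Groth.Agent.Lib.ArtFunFactor.exists_inv_of_bijective (ι ≫ p₁) hqbij
      exact ⟨F.map ν (tower h1 s₀ n).x, by rw [← Functor.map_comp_apply, hν, Functor.map_id_apply]⟩
  have hle := (tower_isNext h1 s₀ n).2.2 C τ hτs (ι ≫ p₁) hq hmK hclaim
  obtain ⟨ψR, hψR⟩ := exists_descend R ρ hρ hρres ψ' (by
    rw [hρker]
    exact (iInf_le _ (n + 1)).trans (hle.trans (le_of_eq hτker)))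
  refine ⟨HomSet.map p₂ ψR, ?_⟩
  apply pull_injective R ρ hρ hρres
  rw [pull_map, pull_map, hψR, hψ'2, hψS']

include hρ in
/-- the limit family is versal. -/
theorem limitFamily_isVersal [TangentStr F] (hS : IsSmoothFunctor (hR S.carrier S.res))
    (h2 : Heps F) (V : Set (TangentSpace F)) (hV : Submodule.span k V = ⊤)
    (hs₀ : ∀ v ∈ V, ∃ h : s₀.A ⟶ dual Λ k, F.map h s₀.x = v) :
    IsVersal (limitFamily h1 s₀ R ρ hρres hρker hchev) := by
  apply Groth.Agent.Lib.H59ArtFunVersal.isVersal_of_tangent_surjective_of_lifts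
    (fun B A A' A'' p' p'' f' f'' h hf'' => h1 p' p'' f' f'' h hf''.1)
    (fun P B p q h => (h2 p q h).1)
  · exact limitFamily_tangent h1 s₀ R ρ hρ hρres hρker hchev V hV hs₀
  · intro B A μ hμ φ y hy
    exact limitFamily_lift h1 s₀ R ρ hρ hρres hρker hchev hS μ hμ φ y hy

end Limit

end Groth.Agent.Lib.H59SchlessVersal
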