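import Groth.Agent.Lib.ArtFunDual
import Groth.Agent.Lib.ArtFunBasic
import Mathlib.RingTheory.Nakayama

/-!
# Hulls with trivial tangent space (helper71)

Over `Λ = k`: if `h_R(k[ε])` is a single point then `R = k` and `h_R(A)` is a single point for every `A`.
A versal family over a functor with `H0` is surjective on every object.
-/

set_option autoImplicit false
universe u v

namespace Groth.Agent.Lib.H71ArtFunHull

open CategoryTheory ArtFun ArtFun.Art Groth.Agent.Lib.ArtFunBasic Groth.Agent.Lib.ArtFunDual

section Versal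

variable {Λ : Type u} {k : Type u} [CommRing Λ] [Field k] [Algebra Λ k]
variable {R : Type u} [CommRing R] [Algebra Λ R] {resR : R →ₐ[Λ] k} {F : Art Λ k ⥤ Type v}

/-- A versal family over a functor with `F(k)` a point is surjective on every object. -/
theorem surjective_app_of_isVersal (ξ : Family R resR F) (hξ : IsVersal ξ) (h0 : H0 F) (A : Art Λ k) :
    Function.Surjective (ξ.app A) := by
  intro y
  have := h0.2
  obtain ⟨ψ, -, hψ⟩ := hξ (toBase A) (toBase_surjective A) (homSetBase R resR) y
    (Subsingleton.elim _ _)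
  exact ⟨ψ, hψ⟩

end Versal

section Field

variable {k : Type u} [Field k]

/-- The "constant" element of `h_R(A)` when `Λ = k`: `R → k → A`. -/
def homSetConst (R : CRing k k) (A : Art k k) : HomSet R.carrier R.res A :=
  ⟨(Algebra.ofId k A).comp R.res, by
    apply AlgHom.ext
    intro x
    change A.res (algebraMap k A (R.res x)) = R.res x
    rw [AlgHom.commutes, Algebra.algebraMap_self_apply]⟩

theorem homSet_subsingleton_of_sq_zero (R : CRing k k)
    (hsub : Subsingleton (HomSet R.carrier R.res (dual k k))) (A : Art k k)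
    (hsq : ∀ x y : A, A.res x = 0 → A.res y = 0 → x * y = 0) :
    Subsingleton (HomSet R.carrier R.res A) := by
  refine ⟨fun u₁ u₂ => homSet_ext fun r => ?_⟩
  apply eq_of_forall_toDual_eq A hsq
  intro l
  have h2 : HomSet.map (toDual A hsq l) u₁ = HomSet.map (toDual A hsq l) u₂ := Subsingleton.elim _ _
  exact congrArg (fun t : HomSet R.carrier R.res (dual k k) => t.1 r) h2

theorem maximalIdeal_eq_bot (R : CRing k k)
    (hsub : Subsingleton (HomSet R.carrier R.res (dual k k))) :
    IsLocalRing.maximalIdeal R.carrier = ⊥ := by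
  have hS := homSet_subsingleton_of_sq_zero R hsub (R.trunc 1) (trunc_one_sq_zero R)
  have hle : IsLocalRing.maximalIdeal R.carrier ≤
      IsLocalRing.maximalIdeal R.carrier • IsLocalRing.maximalIdeal R.carrier := by
    intro a ha
    have h1 : (R.truncHom 1).1 a = (homSetConst R (R.trunc 1)).1 a := by
      rw [Subsingleton.elim (R.truncHom 1) (homSetConst R (R.trunc 1))]
    have h2 : (homSetConst R (R.trunc 1)).1 a = 0 := by
      change algebraMap k (R.trunc 1) (R.res a) = 0
      rw [(R.mem_maximalIdeal_iff a).1 ha, map_zero]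
    rw [h2] at h1
    have h3 : a ∈ R.mpow 1 := Ideal.Quotient.eq_zero_iff_mem.1 h1
    have h4 : R.mpow 1 = IsLocalRing.maximalIdeal R.carrier • IsLocalRing.maximalIdeal R.carrier := by
      change IsLocalRing.maximalIdeal R.carrier ^ 2 = _
      rw [pow_two, smul_eq_mul]
    rw [h4] at h3
    exact h3
  exact Submodule.eq_bot_of_le_smul_of_le_jacobson_bot _ _
    (IsNoetherian.noetherian _) hle (IsLocalRing.maximalIdeal_le_jacobson ⊥)

theorem homSet_subsingleton (R : CRing k k)
    (hsub : Subsingleton (HomSet R.carrier R.res (dual k k))) (A : Art k k) :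
    Subsingleton (HomSet R.carrier R.res A) := by
  have hm := maximalIdeal_eq_bot R hsub
  have hr : ∀ r : R.carrier, r = algebraMap k R.carrier (R.res r) := by
    intro r
    have h1 : r - algebraMap k R.carrier (R.res r) ∈ IsLocalRing.maximalIdeal R.carrier := by
      rw [R.mem_maximalIdeal_iff, map_sub, AlgHom.commutes, Algebra.algebraMap_self_apply, sub_self]
    rw [hm, Ideal.mem_bot, sub_eq_zero] at h1
    exact h1
  refine ⟨fun u₁ u₂ => homSet_ext fun r => ?_⟩
  rw [hr r, AlgHom.commutes, AlgHom.commutes]

/-- A functor with `H0`, a hull and a one-point tangent space is the one-point functor. -/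
theorem obj_unique_of_hasHull {F : Art k k ⥤ Type v} (h0 : H0 F) (hF : HasHull F)
    (ht : Subsingleton (TangentSpace F)) (A : Art k k) :
    Nonempty (F.obj A) ∧ Subsingleton (F.obj A) := by
  obtain ⟨⟨R, ξ, hver, hbij⟩⟩ := hF
  have hsub : Subsingleton (HomSet R.carrier R.res (dual k k)) := by
    refine ⟨fun a b => hbij.1 ?_⟩
    exact @Subsingleton.elim (F.obj (dual k k)) ht _ _
  have hS := homSet_subsingleton R hsub A
  have hsurj := surjective_app_of_isVersal ξ hver h0 A
  refine ⟨⟨ξ.app A (homSetConst R A)⟩, ⟨fun x y => ?_⟩⟩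
  obtain ⟨φ, rfl⟩ := hsurj x
  obtain ⟨ψ, rfl⟩ := hsurj y
  rw [Subsingleton.elim φ ψ]

end Field

end Groth.Agent.Lib.H71ArtFunHull
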