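import Groth.Agent.Lib.H59ArtFunTorsor
import Groth.Agent.Lib.H59ArtFunVersal
import Groth.Agent.Lib.H59ArtFunDer
import Groth.Agent.Lib.H59SchlessCRingQuot
import Groth.Agent.Lib.H59SchlessVersal
import Groth.Agent.Lib.H71ArtFunHull
import Mathlib.RingTheory.Derivation.Basic

/-!
# From a versal family to a hull (helper59)

If `k` has no nonzero `Λ`-derivation into itself, a versal family over `R` restricts to a miniversal family over a
quotient of `R`: take an ideal `I` maximal with the property that the lifts demanded by versality can be chosen to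
kill `I`.
-/

set_option autoImplicit false
set_option linter.unusedTactic false
universe u v
open CategoryTheory ArtFun ArtFun.Art IsLocalRing

namespace Groth.Agent.Lib.H59SchlessHull

open Groth.Agent.Lib.ArtFunBasic

variable {Λ : Type u} {k : Type u} [CommRing Λ] [Field k] [Algebra Λ k]

section Der

variable {R : Type u} [CommRing R] [Algebra Λ R] {resR : R →ₐ[Λ] k}

/-- The derivation part of a tangent vector of `h_R`. -/
def der (ψ : HomSet R resR (dual Λ k)) (r : R) : k :=
  TrivSqZeroExt.snd (show TrivSqZeroExt k k from ψ.1 r)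

theorem fst_apply (ψ : HomSet R resR (dual Λ k)) (r : R) :
    TrivSqZeroExt.fst (show TrivSqZeroExt k k from ψ.1 r) = resR r :=
  homSet_res_apply ψ r

theorem apply_eq (ψ : HomSet R resR (dual Λ k)) (r : R) :
    (show TrivSqZeroExt k k from ψ.1 r) = ((resR r, der ψ r) : TrivSqZeroExt k k) :=
  TrivSqZeroExt.ext (fst_apply ψ r) rfl

theorem dual_ext {ψ₁ ψ₂ : HomSet R resR (dual Λ k)} (h : ∀ r, der ψ₁ r = der ψ₂ r) : ψ₁ = ψ₂ := by
  apply homSet_ext
  intro r
  exact TrivSqZeroExt.ext ((fst_apply ψ₁ r).trans (fst_apply ψ₂ r).symm) (h r)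

theorem der_add (ψ : HomSet R resR (dual Λ k)) (r s : R) : der ψ (r + s) = der ψ r + der ψ s := by
  let g : R →ₐ[Λ] TrivSqZeroExt k k := ψ.1
  change (g (r + s)).snd = (g r).snd + (g s).snd
  rw [map_add, TrivSqZeroExt.snd_add]

theorem der_mul (ψ : HomSet R resR (dual Λ k)) (r s : R) :
    der ψ (r * s) = resR r * der ψ s + resR s * der ψ r := by
  let g : R →ₐ[Λ] TrivSqZeroExt k k := ψ.1
  have h1 : (g r).fst = resR r := fst_apply ψ r
  have h2 : (g s).fst = resR s := fst_apply ψ s
  change (g (r * s)).snd = resR r * (g s).snd + resR s * (g r).snd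
  rw [map_mul, TrivSqZeroExt.snd_mul, h1, h2, op_smul_eq_smul, smul_eq_mul, smul_eq_mul]

theorem der_algebraMap (ψ : HomSet R resR (dual Λ k)) (c : Λ) : der ψ (algebraMap Λ R c) = 0 := by
  let g : R →ₐ[Λ] TrivSqZeroExt k k := ψ.1
  change (g (algebraMap Λ R c)).snd = 0
  rw [AlgHom.commutes, TrivSqZeroExt.algebraMap_eq_inl', TrivSqZeroExt.snd_inl]

theorem der_eq_zero_of_apply_eq_zero (ψ : HomSet R resR (dual Λ k)) (r : R) (h : ψ.1 r = 0) :
    der ψ r = 0 := by
  change TrivSqZeroExt.snd (show TrivSqZeroExt k k from ψ.1 r) = 0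
  rw [h]
  rfl

theorem apply_eq_zero (ψ : HomSet R resR (dual Λ k)) (r : R) (h1 : resR r = 0) (h2 : der ψ r = 0) :
    ψ.1 r = 0 :=
  TrivSqZeroExt.ext ((fst_apply ψ r).trans h1) h2

theorem der_scale (c : k) (ψ : HomSet R resR (dual Λ k)) (r : R) :
    der (HomSet.map (scale c) ψ) r = c * der ψ r := rfl

/-- the zero tangent vector. -/
def zeroTan (R : Type u) [CommRing R] [Algebra Λ R] (resR : R →ₐ[Λ] k) : HomSet R resR (dual Λ k) :=
  HomSet.map baseToDual (homSetBase R resR)

theorem der_zeroTan (r : R) : der (zeroTan R resR) r = 0 := rfl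

theorem scale_zeroTan (c : k) : HomSet.map (scale c) (zeroTan R resR) = zeroTan R resR := by
  apply dual_ext
  intro r
  rw [der_scale, der_zeroTan, mul_zero]

/-- a tangent vector with prescribed derivation part. -/
theorem exists_sub (ψ₁ ψ₂ : HomSet R resR (dual Λ k)) :
    ∃ (ω : HomSet R resR (dual2 Λ k)), HomSet.map pr₁ ω = ψ₁ ∧
      HomSet.map pr₂ ω = HomSet.map (scale (-1)) ψ₂ ∧
      ∀ r, der (HomSet.map plus ω) r = der ψ₁ r - der ψ₂ r := by
  obtain ⟨ω, h1, h2⟩ := exists_lift_of_isFibreProd (isFibreProd_dual2 (Λ := Λ) (k := k)) ψ₁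
    (HomSet.map (scale (-1)) ψ₂) (Subsingleton.elim _ _)
  refine ⟨ω, h1, h2, fun r => ?_⟩
  have e1 : der (HomSet.map pr₁ ω) r = der ψ₁ r := by rw [h1]
  have e2 : der (HomSet.map pr₂ ω) r = der (HomSet.map (scale (-1)) ψ₂) r := by rw [h2]
  rw [der_scale] at e2
  have e3 : der (HomSet.map plus ω) r = der (HomSet.map pr₁ ω) r + der (HomSet.map pr₂ ω) r := rfl
  rw [e3, e1, e2]
  ring

end Der

section Tangent

variable {R : Type u} [CommRing R] [Algebra Λ R] {resR : R →ₐ[Λ] k} {F : Art Λ k ⥤ Type v}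

/-- if two tangent vectors have the same image, their difference maps to the image of zero. -/
theorem exists_diff [T : TangentStr F] (ξ : Family R resR F) (ψ₁ ψ₂ : HomSet R resR (dual Λ k))
    (h : ξ.app _ ψ₁ = ξ.app _ ψ₂) :
    ∃ D : HomSet R resR (dual Λ k), ξ.app _ D = ξ.app _ (zeroTan R resR) ∧
      ∀ r, der D r = der ψ₁ r - der ψ₂ r := by
  let := T.addCommGroup
  let := T.module
  obtain ⟨ω, h1, h2, h3⟩ := exists_sub ψ₁ ψ₂
  refine ⟨HomSet.map plus ω, ?_, h3⟩
  have hadd := T.add_eq (ξ.app (dual2 Λ k) ω)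
  rw [← ξ.natural, ← ξ.natural, ← ξ.natural, h1, h2] at hadd
  have hs := T.smul_eq (-1) (ξ.app _ ψ₂)
  rw [← ξ.natural] at hs
  have hz := T.smul_eq 0 (ξ.app _ ψ₁)
  rw [← ξ.natural] at hz
  have hz' : HomSet.map (scale 0) ψ₁ = zeroTan R resR := by
    apply dual_ext
    intro r
    rw [der_scale, der_zeroTan, zero_mul]
  rw [hz', zero_smul] at hz
  rw [← hadd, ← hs, ← h, neg_one_smul, add_neg_cancel]
  exact hz

end Tangent

section Adjust

variable [IsNoetherianRing Λ] [Module.Finite Λ k]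
variable {R : Type u} [CommRing R] [Algebra Λ R] {resR : R →ₐ[Λ] k} {F : Art Λ k ⥤ Type v}

/-- Adjust a lift by a multiple of a tangent vector in the kernel of the tangent map so that it kills `x`. -/
theorem exists_adjust_kill (ξ : Family R resR F)
    (heps : ∀ ⦃P B : Art Λ k⦄ (p : P ⟶ B) (q : P ⟶ dual Λ k)
      (h : IsFibreProd p q (toBase B) (toBase (dual Λ k))), Function.Injective (cmp F h))
    {B A : Art Λ k} (μ : B ⟶ A) (hμ : IsSmallExt μ) (ψ : HomSet R resR B)
    (D : HomSet R resR (dual Λ k)) (hD : ξ.app _ D = ξ.app _ (zeroTan R resR))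
    (x : R) (hx : μ (ψ.1 x) = 0) (hDx : der D x = 1) :
    ∃ ψ' : HomSet R resR B, HomSet.map μ ψ' = HomSet.map μ ψ ∧ ξ.app B ψ' = ξ.app B ψ ∧
      ψ'.1 x = 0 ∧ ∀ i : R, ψ.1 i = 0 → der D i = 0 → ψ'.1 i = 0 := by
  obtain ⟨hsurj, hne, ⟨t, ht⟩, hm⟩ := hμ
  have ht' : RingHom.ker μ.toAlgHom = Ideal.span {t} := ht
  have ht0 : t ≠ 0 := by
    intro h0
    apply hne
    rw [ht', h0]
    exact Ideal.span_singleton_eq_bot.2 rfl
  have htk : μ t = 0 := by
    have : t ∈ RingHom.ker μ.toAlgHom := by rw [ht']; exact Ideal.mem_span_singleton_self t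
    exact this
  obtain ⟨P, p₁, p₂, q, hP, hQ, hq3⟩ :=
    Groth.Agent.Lib.H59ArtFunTorsor.exists_torsor_square μ t hsurj ht' ht0 hm
  have hdiff : ∀ w : P, ∃ b : B, p₂ w - p₁ w = b * t := by
    intro w
    have h0 : μ (p₂ w - p₁ w) = 0 := by
      change μ.toAlgHom (p₂ w - p₁ w) = 0
      rw [map_sub, sub_eq_zero]
      exact (hP.w_apply w).symm
    have hmem : p₂ w - p₁ w ∈ Ideal.span {t} := by rw [← ht']; exact h0
    obtain ⟨b, hb⟩ := Ideal.mem_span_singleton'.1 hmem
    exact ⟨b, hb.symm⟩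
  -- ψ x = b t
  have hmemx : ψ.1 x ∈ Ideal.span {t} := by rw [← ht']; exact hx
  obtain ⟨b, hb⟩ := Ideal.mem_span_singleton'.1 hmemx
  have hresx : resR x = 0 := by
    have h1 : A.res (μ (ψ.1 x)) = resR x := by
      rw [Art.res_app, homSet_res_apply]
    rw [hx, map_zero] at h1
    exact h1.symm
  obtain ⟨θ, hθ1, hθ2⟩ := exists_lift_of_isFibreProd hQ ψ (HomSet.map (scale (-(B.res b))) D)
    (Subsingleton.elim _ _)
  have hθ1a : ∀ r, p₁ (θ.1 r) = ψ.1 r := fun r =>
    congrArg (fun φ : HomSet R resR B => φ.1 r) hθ1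
  have hθ2a : ∀ r, q (θ.1 r) = (HomSet.map (scale (-(B.res b))) D).1 r := fun r =>
    congrArg (fun φ : HomSet R resR (dual Λ k) => φ.1 r) hθ2
  obtain ⟨δ, hδ1, hδ2⟩ := Groth.Agent.Lib.H59ArtFunTorsor.exists_hom_of_isFibreProd hP (𝟙 B) (𝟙 B) rfl
  have hδ1a : ∀ b', p₁ (δ b') = b' := fun b' => congrArg (fun f : B ⟶ B => f b') hδ1
  have hδ2a : ∀ b', p₂ (δ b') = b' := fun b' => congrArg (fun f : B ⟶ B => f b') hδ2
  -- ξ θ = F(δ)(ξ ψ)
  have hξθ : ξ.app P θ = F.map δ (ξ.app B ψ) := by
    apply heps p₁ q hQ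
    apply FibProd.ext
    · change F.map p₁ (ξ.app P θ) = F.map p₁ (F.map δ (ξ.app B ψ))
      rw [← ξ.natural, hθ1, ← Functor.map_comp_apply, hδ1, Functor.map_id_apply]
    · change F.map q (ξ.app P θ) = F.map q (F.map δ (ξ.app B ψ))
      rw [← ξ.natural, hθ2, ξ.natural, hD, ← ξ.natural, scale_zeroTan,
        ← Functor.map_comp_apply, ← ξ.natural]
      congr 1
      apply homSet_ext
      intro r
      have h0 : p₂ (δ (ψ.1 r)) - p₁ (δ (ψ.1 r)) = 0 * t := by
        rw [hδ1a, hδ2a, sub_self, zero_mul]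
      have h1 := hq3 (δ (ψ.1 r)) 0 h0
      rw [hδ1a, map_zero] at h1
      change ((resR r, (0 : k)) : TrivSqZeroExt k k) = q (δ (ψ.1 r))
      rw [h1, homSet_res_apply]
  refine ⟨HomSet.map p₂ θ, ?_, ?_, ?_, ?_⟩
  · rw [← Groth.Agent.Lib.H59ArtFunVersal.homSet_map_comp, ← hP.w,
      Groth.Agent.Lib.H59ArtFunVersal.homSet_map_comp, hθ1]
  · rw [ξ.natural, hξθ, ← Functor.map_comp_apply, hδ2, Functor.map_id_apply]
  · change p₂ (θ.1 x) = 0
    obtain ⟨b', hb'⟩ := hdiff (θ.1 x)
    have h1 := hq3 (θ.1 x) b' hb'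
    rw [hθ2a] at h1
    have h2 : der (HomSet.map (scale (-(B.res b))) D) x = B.res b' := by
      have := congrArg TrivSqZeroExt.snd h1
      exact this
    rw [der_scale, hDx, mul_one] at h2
    have h3 : p₂ (θ.1 x) = (b + b') * t := by
      rw [add_mul, hb, ← hb', hθ1a]
      ring
    rw [h3]
    apply Groth.Agent.Lib.H59ArtFunTorsor.mul_eq_zero_of_res_eq_zero μ hm _ htk
    rw [map_add, ← h2, add_neg_cancel]
  · intro i hi hDi
    change p₂ (θ.1 i) = 0
    have hθi : θ.1 i = 0 := by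
      apply hQ.inj
      · change p₁ (θ.1 i) = p₁.toAlgHom 0
        rw [hθ1a, hi, map_zero]
      · change q (θ.1 i) = q.toAlgHom 0
        rw [hθ2a, map_zero]
        apply apply_eq_zero
        · have h1 : B.res (ψ.1 i) = resR i := homSet_res_apply ψ i
          rw [hi, map_zero] at h1
          exact h1.symm
        · rw [der_scale, hDi, mul_zero]
    rw [hθi]
    exact map_zero p₂.toAlgHom

end Adjust

section Good

variable [IsNoetherianRing Λ] [Module.Finite Λ k]
variable {R : CRing Λ k} {F : Art Λ k ⥤ Type v}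

/-- lifts demanded by versality (for small extensions) can be chosen to kill `I`. -/
def Good (ξ : Family R.carrier R.res F) (I : Ideal R.carrier) : Prop :=
  I ≤ maximalIdeal R.carrier ∧
  ∀ ⦃B A : Art Λ k⦄ (μ : B ⟶ A), IsSmallExt μ → ∀ (φ : HomSet R.carrier R.res A) (y : F.obj B),
    I ≤ RingHom.ker φ.1 → F.map μ y = ξ.app A φ →
    ∃ ψ : HomSet R.carrier R.res B, HomSet.map μ ψ = φ ∧ ξ.app B ψ = y ∧ I ≤ RingHom.ker ψ.1

omit [IsNoetherianRing Λ] [Module.Finite Λ k] in
theorem good_bot (ξ : Family R.carrier R.res F) (hξ : IsVersal ξ) : Good ξ ⊥ :=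
  ⟨bot_le, fun B A μ hμ φ y _ hy => by
    obtain ⟨ψ, h1, h2⟩ := hξ μ hμ.1 φ y hy
    exact ⟨ψ, h1, h2, bot_le⟩⟩

theorem good_sup (ξ : Family R.carrier R.res F)
    (heps : ∀ ⦃P B : Art Λ k⦄ (p : P ⟶ B) (q : P ⟶ dual Λ k)
      (h : IsFibreProd p q (toBase B) (toBase (dual Λ k))), Function.Injective (cmp F h))
    {I : Ideal R.carrier} (hI : Good ξ I) (D : HomSet R.carrier R.res (dual Λ k))
    (hDI : ∀ i ∈ I, der D i = 0) (hD : ξ.app _ D = ξ.app _ (zeroTan R.carrier R.res))
    (x : R.carrier) (hxm : x ∈ maximalIdeal R.carrier) (hDx : der D x = 1) :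
    Good ξ (I ⊔ Ideal.span {x}) := by
  refine ⟨sup_le hI.1 ((Ideal.span_singleton_le_iff_mem _).2 hxm), ?_⟩
  intro B A μ hμ φ y hφ hy
  obtain ⟨ψ, h1, h2, h3⟩ := hI.2 μ hμ φ y (le_sup_left.trans hφ) hy
  have hx : μ (ψ.1 x) = 0 := by
    have h0 : φ.1 x = 0 := hφ (Ideal.mem_sup_right (Ideal.subset_span rfl))
    rw [← h1] at h0
    exact h0
  obtain ⟨ψ', e1, e2, e3, e4⟩ := exists_adjust_kill ξ heps μ hμ ψ D hD x hx hDx
  refine ⟨ψ', e1.trans h1, e2.trans h2, ?_⟩
  rw [sup_le_iff]
  constructor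
  · intro i hi
    rw [RingHom.mem_ker]
    exact e4 i (h3 hi) (hDI i hi)
  · rw [Ideal.span_singleton_le_iff_mem, RingHom.mem_ker]
    exact e3

omit [IsNoetherianRing Λ] [Module.Finite Λ k] in
/-- if `k` has no `Λ`-derivations, a nonzero tangent vector of `h_R` is nonzero on the maximal ideal. -/
theorem exists_mem_maximalIdeal_der_ne_zero (hk : Subsingleton (Derivation Λ k k))
    (D : HomSet R.carrier R.res (dual Λ k)) (r₀ : R.carrier) (h : der D r₀ ≠ 0) :
    ∃ x ∈ maximalIdeal R.carrier, der D x ≠ 0 := by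
  by_contra hcon
  push Not at hcon
  have hs : ∀ c, R.res (Function.surjInv R.res_surjective c) = c :=
    Function.surjInv_eq R.res_surjective
  have hdep : ∀ r r', R.res r = R.res r' → der D r = der D r' := by
    intro r r' hrr'
    have hm : r - r' ∈ maximalIdeal R.carrier := by
      rw [CRing.mem_maximalIdeal_iff, map_sub, hrr', sub_self]
    have h0 := hcon _ hm
    have h1 : r = r' + (r - r') := by ring
    rw [h1, der_add, h0, add_zero]
  let E : Derivation Λ k k :=
    { toFun := fun c => der D (Function.surjInv R.res_surjective c)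
      map_add' := fun a b => by
        rw [← der_add]
        apply hdep
        rw [map_add, hs, hs, hs]
      map_smul' := fun c a => by
        have h1 : der D (Function.surjInv R.res_surjective (c • a)) =
            der D (algebraMap Λ R.carrier c * Function.surjInv R.res_surjective a) := by
          apply hdep
          rw [map_mul, hs, hs, AlgHom.commutes, Algebra.smul_def]
        rw [h1, der_mul, der_algebraMap, mul_zero, add_zero, AlgHom.commutes, RingHom.id_apply,
          Algebra.smul_def]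
      map_one_eq_zero' := by
        change der D (Function.surjInv R.res_surjective 1) = 0
        have h1 : der D (Function.surjInv R.res_surjective 1) = der D 1 := by
          apply hdep
          rw [hs, map_one]
        have h2 := der_algebraMap D (1 : Λ)
        rw [map_one] at h2
        rw [h1, h2]
      leibniz' := fun a b => by
        change der D (Function.surjInv R.res_surjective (a * b)) =
          a • der D (Function.surjInv R.res_surjective b) +
            b • der D (Function.surjInv R.res_surjective a)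
        have h1 : der D (Function.surjInv R.res_surjective (a * b)) =
            der D (Function.surjInv R.res_surjective a * Function.surjInv R.res_surjective b) := by
          apply hdep
          rw [map_mul, hs, hs, hs]
        rw [h1, der_mul, hs, hs, smul_eq_mul, smul_eq_mul] }
  have hE : E = 0 := Subsingleton.elim _ _
  apply h
  have h1 : der D r₀ = der D (Function.surjInv R.res_surjective (R.res r₀)) := by
    apply hdep
    rw [hs]
  rw [h1]
  change E (R.res r₀) = 0
  rw [hE]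
  rfl

open Groth.Agent.Lib.H59SchlessCRingQuot Groth.Agent.Lib.H59SchlessVersal in
/-- versal ⇒ hull, when `k` has no `Λ`-derivations. -/
theorem hasHull_of_isVersal (hk : Subsingleton (Derivation Λ k k)) [TangentStr F] (h0 : H0 F)
    (h2 : Heps F) (ξ : Family R.carrier R.res F) (hξ : IsVersal ξ) : HasHull F := by
  classical
  have hN : IsNoetherian R.carrier R.carrier := inferInstance
  obtain ⟨I, hI, hmax⟩ := set_has_maximal_iff_noetherian.mpr hN
    {I : Ideal R.carrier | Good ξ I} ⟨⊥, good_bot ξ hξ⟩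
  have hI' : Good ξ I := hI
  have heps : ∀ ⦃P B : Art Λ k⦄ (p : P ⟶ B) (q : P ⟶ dual Λ k)
      (h : IsFibreProd p q (toBase B) (toBase (dual Λ k))), Function.Injective (cmp F h) :=
    fun P B p q h => (h2 p q h).1
  have hinj : ∀ ψ₁ ψ₂ : HomSet R.carrier R.res (dual Λ k), I ≤ RingHom.ker ψ₁.1 →
      I ≤ RingHom.ker ψ₂.1 → ξ.app _ ψ₁ = ξ.app _ ψ₂ → ψ₁ = ψ₂ := by
    intro ψ₁ ψ₂ hk1 hk2 he
    by_contra hne
    obtain ⟨D, hD, hDder⟩ := exists_diff ξ ψ₁ ψ₂ he
    have hex : ∃ r₀, der D r₀ ≠ 0 := by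
      by_contra hall
      push Not at hall
      apply hne
      apply dual_ext
      intro r
      have := hall r
      rw [hDder, sub_eq_zero] at this
      exact this
    obtain ⟨r₀, hr₀⟩ := hex
    obtain ⟨x, hxm, hx⟩ := exists_mem_maximalIdeal_der_ne_zero hk D r₀ hr₀
    have hD' : ξ.app _ (HomSet.map (scale (der D x)⁻¹) D) = ξ.app _ (zeroTan R.carrier R.res) := by
      rw [ξ.natural, hD, ← ξ.natural, scale_zeroTan]
    have hD'x : der (HomSet.map (scale (der D x)⁻¹) D) x = 1 := by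
      rw [der_scale, inv_mul_cancel₀ hx]
    have hDI : ∀ i ∈ I, der (HomSet.map (scale (der D x)⁻¹) D) i = 0 := by
      intro i hi
      have hDi : der D i = 0 := by
        rw [hDder, der_eq_zero_of_apply_eq_zero ψ₁ i (hk1 hi),
          der_eq_zero_of_apply_eq_zero ψ₂ i (hk2 hi), sub_zero]
      rw [der_scale, hDi, mul_zero]
    have hgood := good_sup ξ heps hI' _ hDI hD' x hxm hD'x
    have hlt : I < I ⊔ Ideal.span {x} := by
      refine lt_of_le_of_ne le_sup_left (fun heq => ?_)
      have hxI : x ∈ I := by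
        rw [heq]
        exact Ideal.mem_sup_right (Ideal.subset_span rfl)
      have := hDI x hxI
      rw [hD'x] at this
      exact one_ne_zero this
    exact hmax _ hgood hlt
  -- the hull
  have hres := res_comp_quotMk R I hI'.1
  have hπs := quotMk_surjective R I hI'.1
  have hπk : RingHom.ker (quotMk R I hI'.1) = I := ker_quotMk R I hI'.1
  have hξ'app : ∀ (A : Art Λ k) (φ' : HomSet (quot R I hI'.1).carrier (quot R I hI'.1).res A),
      (ξ.along (quotMk R I hI'.1) hres).app A φ' =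
        ξ.app A (pull (quot R I hI'.1) (quotMk R I hI'.1) hres φ') := fun A φ' => rfl
  have hkill : ∀ (A : Art Λ k) (φ' : HomSet (quot R I hI'.1).carrier (quot R I hI'.1).res A),
      I ≤ RingHom.ker (pull (quot R I hI'.1) (quotMk R I hI'.1) hres φ').1 := by
    intro A φ' i hi
    rw [RingHom.mem_ker]
    change φ'.1 (quotMk R I hI'.1 i) = 0
    have : quotMk R I hI'.1 i = 0 := by
      have : i ∈ RingHom.ker (quotMk R I hI'.1) := by rw [hπk]; exact hi
      exact this
    rw [this, map_zero]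
  have hversal : IsVersal (ξ.along (quotMk R I hI'.1) hres) := by
    apply Groth.Agent.Lib.H59ArtFunVersal.isVersal_of_smallExt
    intro B A μ hμ φ' y hy
    rw [hξ'app] at hy
    obtain ⟨ψ, e1, e2, e3⟩ := hI'.2 μ hμ _ y (hkill A φ') hy
    obtain ⟨ψ', hψ'⟩ := exists_descend (quot R I hI'.1) (quotMk R I hI'.1) hπs hres ψ (by
      rw [hπk]; exact e3)
    refine ⟨ψ', ?_, ?_⟩
    · apply pull_injective (quot R I hI'.1) (quotMk R I hI'.1) hπs hres
      rw [pull_map, hψ', e1]
    · rw [hξ'app, hψ', e2]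
  refine ⟨⟨quot R I hI'.1, ξ.along (quotMk R I hI'.1) hres, hversal, ?_,
    Groth.Agent.Lib.H71ArtFunHull.surjective_app_of_isVersal _ hversal h0 _⟩⟩
  intro ψ₁' ψ₂' he
  rw [hξ'app, hξ'app] at he
  apply pull_injective (quot R I hI'.1) (quotMk R I hI'.1) hπs hres
  exact hinj _ _ (hkill _ ψ₁') (hkill _ ψ₂') he

end Good

end Groth.Agent.Lib.H59SchlessHull
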