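import Groth.Prelude.Def_ArtFun5
import Mathlib.RingTheory.AdicCompletion.Noetherian
import Mathlib.RingTheory.Artinian.Module
import Mathlib.RingTheory.Ideal.Quotient.Operations

/-!
# Chevalley's lemma for decreasing chains of ideals in a complete local Noetherian ring (helper59)

`exists_le_iInf_sup_pow`: for an antitone sequence of ideals `J n` of a coefficient ring `S` and every `t` there is
`n` with `J n ≤ (⨅ i, J i) ⊔ m^t`.
-/

set_option autoImplicit false
universe u
open IsLocalRing

namespace Groth.Agent.Lib.H59SchlessChevalley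

section General

variable {R : Type*} [CommRing R] [IsLocalRing R] [IsNoetherianRing R]

/-- ideals of a Noetherian local ring are closed. -/
theorem mem_of_forall_mem_sup_pow (J : Ideal R) (x : R)
    (h : ∀ s : ℕ, x ∈ J ⊔ maximalIdeal R ^ s) : x ∈ J := by
  have hH : IsHausdorff (maximalIdeal R) (R ⧸ J) := inferInstance
  rw [← Ideal.Quotient.eq_zero_iff_mem]
  apply hH.haus
  intro s
  rw [SModEq.zero]
  obtain ⟨j, hj, e, he, rfl⟩ := Submodule.mem_sup.1 (h s)
  rw [map_add, Ideal.Quotient.eq_zero_iff_mem.2 hj, zero_add]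
  have : Ideal.Quotient.mk J e = e • (1 : R ⧸ J) := by
    rw [Algebra.smul_def, mul_one]
    rfl
  rw [this]
  exact Submodule.smul_mem_smul he Submodule.mem_top

omit [IsNoetherianRing R] in
/-- chains stabilize modulo a power of the maximal ideal. -/
theorem exists_stable (s : ℕ) (hart : IsArtinianRing (R ⧸ maximalIdeal R ^ s))
    (J : ℕ → Ideal R) (hJ : Antitone J) :
    ∃ n, ∀ n', n ≤ n' → J n' ⊔ maximalIdeal R ^ s = J n ⊔ maximalIdeal R ^ s := by
  let f : ℕ →o (Ideal (R ⧸ maximalIdeal R ^ s))ᵒᵈ :=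
    ⟨fun n => OrderDual.toDual ((J n).map (Ideal.Quotient.mk (maximalIdeal R ^ s))),
      fun a b hab => OrderDual.toDual_le_toDual.2 (Ideal.map_mono (hJ hab))⟩
  obtain ⟨n, hn⟩ := (monotone_stabilizes_iff_artinian.2 hart) f
  refine ⟨n, fun n' hn' => ?_⟩
  have h1 : (J n).map (Ideal.Quotient.mk (maximalIdeal R ^ s)) =
      (J n').map (Ideal.Quotient.mk (maximalIdeal R ^ s)) := hn n' hn'
  have h2 := (Ideal.map_eq_iff_sup_ker_eq_of_surjective _ Ideal.Quotient.mk_surjective).1 h1
  rw [Ideal.mk_ker] at h2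
  exact h2.symm

theorem chevalley [IsAdicComplete (maximalIdeal R) R]
    (hart : ∀ s : ℕ, IsArtinianRing (R ⧸ maximalIdeal R ^ (s + 1)))
    (J : ℕ → Ideal R) (hJ : Antitone J) (t : ℕ) :
    ∃ n, J n ≤ (⨅ i, J i) ⊔ maximalIdeal R ^ (t + 1) := by
  classical
  choose N hN using fun s : ℕ => exists_stable (s + 1) (hart s) J hJ
  -- the stable values
  let L : ℕ → Ideal R := fun s => J (N s) ⊔ maximalIdeal R ^ (s + 1)
  have hL : ∀ s n, N s ≤ n → J n ⊔ maximalIdeal R ^ (s + 1) = L s := fun s n hn => hN s n hn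
  have hLpow : ∀ s, maximalIdeal R ^ (s + 1) ≤ L s := fun s => le_sup_right
  have hLA : ∀ s, L s ≤ L (s + 1) ⊔ maximalIdeal R ^ (s + 1) := by
    intro s
    rw [← hL s (max (N s) (N (s + 1))) (le_max_left _ _),
      ← hL (s + 1) (max (N s) (N (s + 1))) (le_max_right _ _)]
    exact sup_le (le_sup_left.trans le_sup_left) le_sup_right
  have hLanti : ∀ s, L (s + 1) ≤ L s := by
    intro s
    rw [← hL s (max (N s) (N (s + 1))) (le_max_left _ _),
      ← hL (s + 1) (max (N s) (N (s + 1))) (le_max_right _ _)]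
    exact sup_le_sup_left (Ideal.pow_le_pow_right (Nat.le_succ _)) _
  have hLanti' : ∀ s s', s ≤ s' → L s' ≤ L s := by
    intro s s' hss'
    induction s', hss' using Nat.le_induction with
    | base => exact le_rfl
    | succ s' _ ih => exact (hLanti s').trans ih
  have hLinf : ∀ x, (∀ s, x ∈ L s) → x ∈ ⨅ i, J i := by
    intro x hx
    rw [Submodule.mem_iInf]
    intro n
    apply mem_of_forall_mem_sup_pow
    intro s
    have h1 : x ∈ L s := hx s
    rw [← hL s (max n (N s)) (le_max_right _ _)] at h1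
    have h2 : J (max n (N s)) ⊔ maximalIdeal R ^ (s + 1) ≤ J n ⊔ maximalIdeal R ^ s :=
      sup_le_sup (hJ (le_max_left _ _)) (Ideal.pow_le_pow_right (Nat.le_succ _))
    exact h2 h1
  refine ⟨N t, fun x hx => ?_⟩
  -- the approximating sequence
  have step : ∀ (i : ℕ) (y : R), y ∈ L (t + i) →
      ∃ y', y' ∈ L (t + i + 1) ∧ y - y' ∈ maximalIdeal R ^ (t + i + 1) := by
    intro i y hy
    obtain ⟨y', hy', e, he, rfl⟩ := Submodule.mem_sup.1 (hLA (t + i) hy)
    exact ⟨y', hy', by rw [add_sub_cancel_left]; exact he⟩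
  choose! next hnext1 hnext2 using step
  let y : ℕ → R := fun i => Nat.rec x (fun i yi => next i yi) i
  have hy0 : y 0 = x := rfl
  have hysucc : ∀ i, y (i + 1) = next i (y i) := fun i => rfl
  have hyL : ∀ i, y i ∈ L (t + i) := by
    intro i
    induction i with
    | zero => exact le_sup_left (a := J (N t)) hx
    | succ i ih => rw [hysucc]; exact hnext1 i (y i) ih
  have hydiff : ∀ i, y i - y (i + 1) ∈ maximalIdeal R ^ (t + i + 1) := by
    intro i
    rw [hysucc]
    exact hnext2 i (y i) (hyL i)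
  have hy0i : ∀ i, y 0 - y i ∈ maximalIdeal R ^ (t + 1) := by
    intro i
    induction i with
    | zero => rw [sub_self]; exact Submodule.zero_mem _
    | succ i ih =>
      have h1 : y 0 - y (i + 1) = (y 0 - y i) + (y i - y (i + 1)) := by ring
      rw [h1]
      refine Ideal.add_mem _ ih (Ideal.pow_le_pow_right ?_ (hydiff i))
      omega
  -- the limit
  have hcauchy : AdicCompletion.IsAdicCauchy (maximalIdeal R) R y := by
    rw [AdicCompletion.isAdicCauchy_iff]
    intro i
    rw [SModEq.sub_mem, smul_eq_mul, Ideal.mul_top]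
    refine Ideal.pow_le_pow_right ?_ (hydiff i)
    omega
  obtain ⟨yl, hylim⟩ := IsPrecomplete.prec (inferInstance : IsPrecomplete (maximalIdeal R) R)
    (fun {m n} hmn => hcauchy hmn)
  have hylim' : ∀ i, y i - yl ∈ maximalIdeal R ^ i := by
    intro i
    have := hylim i
    rw [SModEq.sub_mem, smul_eq_mul, Ideal.mul_top] at this
    exact this
  have hylimL : ∀ s, yl ∈ L s := by
    intro s
    have h1 : y (s + 1) ∈ L s := hLanti' s (t + (s + 1)) (by omega) (hyL (s + 1))
    have h2 : y (s + 1) - yl ∈ L s := hLpow s (hylim' (s + 1))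
    have h3 : yl = y (s + 1) - (y (s + 1) - yl) := by ring
    rw [h3]
    exact Ideal.sub_mem _ h1 h2
  have hxy : x - yl ∈ maximalIdeal R ^ (t + 1) := by
    have h1 : x - yl = (y 0 - y (t + 1)) + (y (t + 1) - yl) := by rw [hy0]; ring
    rw [h1]
    exact Ideal.add_mem _ (hy0i (t + 1)) (hylim' (t + 1))
  have h3 : x = yl + (x - yl) := by ring
  rw [h3]
  exact Submodule.add_mem_sup (hLinf yl hylimL) hxy

end General

variable {Λ : Type u} {k : Type u} [CommRing Λ] [Field k] [Algebra Λ k]

open ArtFun in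
theorem exists_le_iInf_sup_pow (S : CRing Λ k) (J : ℕ → Ideal S.carrier) (hJ : Antitone J)
    (t : ℕ) : ∃ n, J n ≤ (⨅ i, J i) ⊔ maximalIdeal S.carrier ^ t := by
  have : IsAdicComplete (maximalIdeal S.carrier) S.carrier := S.isAdicComplete
  rcases t with _ | t
  · refine ⟨0, ?_⟩
    rw [pow_zero, Ideal.one_eq_top, sup_top_eq]
    exact le_top
  · exact chevalley (fun s => CRing.isArtinianRing_quot_mpow S s) J hJ t

end Groth.Agent.Lib.H59SchlessChevalley
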