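import Groth.Prelude.Def_ArtFun5
import Groth.Agent.Lib.ArtFunBasic
import Groth.Agent.Lib.ArtFunFormal
import Mathlib.RingTheory.Artinian.Ring
import Mathlib.RingTheory.Ideal.Quotient.Operations

/-!
# Artinian quotients of a coefficient ring (helper59)

`artQuot S J`: the quotient `S/J` of a coefficient ring by an ideal `m^N ≤ J ≤ m` as an object of `Art Λ k`, its
quotient map `artQuotHom`, and factorization of maps from `S` through surjections (`exists_factor`).
-/

set_option autoImplicit false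
universe u v
open CategoryTheory ArtFun ArtFun.Art IsLocalRing

namespace Groth.Agent.Lib.H59SchlessQuot

variable {Λ : Type u} {k : Type u} [CommRing Λ] [Field k] [Algebra Λ k]

section Quot

variable (S : CRing Λ k) (J : Ideal S.carrier) (hJ : J ≤ maximalIdeal S.carrier)
  (hN : ∃ N : ℕ, maximalIdeal S.carrier ^ N ≤ J)

include hJ in
theorem quot_nontrivial : Nontrivial (S.carrier ⧸ J) :=
  Ideal.Quotient.nontrivial_iff.2
    (fun h => (maximalIdeal.isMaximal S.carrier).ne_top (top_le_iff.1 (h ▸ hJ)))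

include hJ in
theorem quot_isLocalRing : IsLocalRing (S.carrier ⧸ J) :=
  have := quot_nontrivial S J hJ
  IsLocalRing.of_surjective' (Ideal.Quotient.mk J) Ideal.Quotient.mk_surjective

include hJ hN in
theorem quot_isArtinianRing : IsArtinianRing (S.carrier ⧸ J) := by
  have := quot_isLocalRing S J hJ
  rw [isArtinianRing_iff_isNilpotent_maximalIdeal]
  obtain ⟨N, hN⟩ := hN
  refine ⟨N, ?_⟩
  rw [Ideal.zero_eq_bot, ← le_bot_iff]
  have hle : maximalIdeal (S.carrier ⧸ J) ≤ (maximalIdeal S.carrier).map (Ideal.Quotient.mk J) := by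
    intro x hx
    obtain ⟨a, rfl⟩ := Ideal.Quotient.mk_surjective x
    have ha : a ∈ maximalIdeal S.carrier := by
      rw [IsLocalRing.mem_maximalIdeal] at hx ⊢
      exact fun hu => hx (hu.map (Ideal.Quotient.mk J))
    exact Ideal.mem_map_of_mem _ ha
  calc maximalIdeal (S.carrier ⧸ J) ^ N
      ≤ ((maximalIdeal S.carrier).map (Ideal.Quotient.mk J)) ^ N := Ideal.pow_right_mono hle _
    _ = (maximalIdeal S.carrier ^ N).map (Ideal.Quotient.mk J) := by rw [← Ideal.map_pow]
    _ ≤ J.map (Ideal.Quotient.mk J) := Ideal.map_mono hN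
    _ = ⊥ := Ideal.map_quotient_self _

/-- The quotient `S/J` as an Artinian object. -/
noncomputable def artQuot : Art Λ k :=
  haveI := quot_isLocalRing S J hJ
  { carrier := S.carrier ⧸ J
    isArtinianRing := quot_isArtinianRing S J hJ hN
    res := Ideal.Quotient.liftₐ J S.res (fun a ha => (CRing.mem_maximalIdeal_iff S a).1 (hJ ha))
    res_surjective := fun c => by
      obtain ⟨a, ha⟩ := S.res_surjective c
      exact ⟨Ideal.Quotient.mk _ a, ha⟩ }

/-- The quotient map as an element of `h_S(S/J)`. -/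
noncomputable def artQuotHom : HomSet S.carrier S.res (artQuot S J hJ hN) :=
  ⟨Ideal.Quotient.mkₐ Λ J, Ideal.Quotient.liftₐ_comp _ _ _⟩

theorem artQuotHom_apply (s : S.carrier) :
    (artQuotHom S J hJ hN).1 s = Ideal.Quotient.mk J s := rfl

theorem artQuotHom_surjective : Function.Surjective (artQuotHom S J hJ hN).1 :=
  Ideal.Quotient.mk_surjective

theorem artQuotHom_eq_zero_iff (s : S.carrier) : (artQuotHom S J hJ hN).1 s = 0 ↔ s ∈ J :=
  Ideal.Quotient.eq_zero_iff_mem

theorem ker_artQuotHom : RingHom.ker (artQuotHom S J hJ hN).1 = J := by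
  ext s
  rw [RingHom.mem_ker]
  exact artQuotHom_eq_zero_iff S J hJ hN s

end Quot

section Factor

variable {S : CRing Λ k}

/-- the kernel of a map to an Artinian object lies in the maximal ideal. -/
theorem ker_le_maximalIdeal {A : Art Λ k} (σ : HomSet S.carrier S.res A) :
    RingHom.ker σ.1 ≤ maximalIdeal S.carrier := by
  intro s hs
  rw [CRing.mem_maximalIdeal_iff, ← Groth.Agent.Lib.ArtFunBasic.homSet_res_apply σ s,
    (RingHom.mem_ker.1 hs : σ.1 s = 0), map_zero]

/-- maps from `S` factor through surjections with smaller kernel. -/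
theorem exists_factor {A C : Art Λ k} (σ : HomSet S.carrier S.res A) (hσ : Function.Surjective σ.1)
    (φ : HomSet S.carrier S.res C) (h : RingHom.ker σ.1 ≤ RingHom.ker φ.1) :
    ∃ g : A ⟶ C, HomSet.map g σ = φ := by
  let e : (S.carrier ⧸ RingHom.ker σ.1) ≃ₐ[Λ] A := Ideal.quotientKerAlgEquivOfSurjective hσ
  let l : (S.carrier ⧸ RingHom.ker σ.1) →ₐ[Λ] C :=
    Ideal.Quotient.liftₐ (RingHom.ker σ.1) φ.1 (fun a ha => h ha)
  have he : ∀ s, e.symm (σ.1 s) = Ideal.Quotient.mk _ s := by
    intro s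
    rw [AlgEquiv.symm_apply_eq]
    rfl
  have hg : ∀ s, l (e.symm (σ.1 s)) = φ.1 s := by
    intro s
    rw [he]
    rfl
  refine ⟨homMk (l.comp e.symm.toAlgHom) ?_, ?_⟩
  · apply AlgHom.ext
    intro a
    obtain ⟨s, rfl⟩ := hσ a
    change C.res (l (e.symm (σ.1 s))) = A.res (σ.1 s)
    rw [hg, Groth.Agent.Lib.ArtFunBasic.homSet_res_apply, Groth.Agent.Lib.ArtFunBasic.homSet_res_apply]
  · apply Groth.Agent.Lib.ArtFunBasic.homSet_ext
    intro s
    exact hg s

theorem factor_unique {A C : Art Λ k} (σ : HomSet S.carrier S.res A) (hσ : Function.Surjective σ.1)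
    (g g' : A ⟶ C) (h : HomSet.map g σ = HomSet.map g' σ) : g = g' := by
  apply hom_ext
  apply AlgHom.ext
  intro a
  obtain ⟨s, rfl⟩ := hσ a
  have := congrArg (fun t : HomSet S.carrier S.res C => t.1 s) h
  exact this

/-- a surjection from `S` to an Artinian object kills a power of the maximal ideal. -/
theorem exists_pow_le_ker {A : Art Λ k} (σ : HomSet S.carrier S.res A) :
    ∃ N : ℕ, maximalIdeal S.carrier ^ N ≤ RingHom.ker σ.1 := by
  obtain ⟨N, hN⟩ := Groth.Agent.Lib.ArtFunFormal.isNilpotent_maximalIdeal A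
  refine ⟨N, ?_⟩
  have hm : (maximalIdeal S.carrier).map (σ.1 : S.carrier →+* A) ≤ maximalIdeal A := by
    rw [Ideal.map_le_iff_le_comap]
    intro s hs
    rw [Ideal.mem_comap, Art.mem_maximalIdeal_iff]
    change A.res (σ.1 s) = 0
    rw [Groth.Agent.Lib.ArtFunBasic.homSet_res_apply]
    exact (CRing.mem_maximalIdeal_iff S s).1 hs
  intro s hs
  rw [RingHom.mem_ker]
  have h2 : (maximalIdeal S.carrier ^ N).map (σ.1 : S.carrier →+* A) ≤ ⊥ := by
    rw [Ideal.map_pow]
    calc _ ≤ maximalIdeal A ^ N := Ideal.pow_right_mono hm _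
      _ = ⊥ := hN
  have := h2 (Ideal.mem_map_of_mem _ hs)
  rw [Ideal.mem_bot] at this
  exact this

end Factor

end Groth.Agent.Lib.H59SchlessQuot
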