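import Groth.Agent.S12729
import Groth.Agent.Lib.H59SchlessQuot
import Groth.Agent.Lib.H59ArtFunVersal

/-!
# The inductive step of Schlessinger's construction (helper59)

A `Stage` is a surjection `σ : S → A` onto an Artinian object together with an element `x ∈ F(A)`.  `IsNext s s'`
says `s'` is the minimal semismall extension of `s` (as quotients of `S`) to which `x` lifts.  `exists_next`
constructs it from the least-ideal lemma (S12729).  `tower` iterates.
-/

set_option autoImplicit false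
universe u v
open CategoryTheory ArtFun ArtFun.Art IsLocalRing

namespace Groth.Agent.Lib.H59SchlessStep

open Groth.Agent.Lib.H59SchlessQuot Groth.Agent.Lib.ArtFunFactor

variable {Λ : Type u} {k : Type u} [CommRing Λ] [Field k] [Algebra Λ k]

/-- a quotient of `S` with an element of `F` over it. -/
structure Stage (S : CRing Λ k) (F : Art Λ k ⥤ Type v) : Type (max (u + 1) v) where
  A : Art Λ k
  σ : HomSet S.carrier S.res A
  surj : Function.Surjective σ.1
  x : F.obj A

variable {S : CRing Λ k} {F : Art Λ k ⥤ Type v}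

/-- the kernel ideal of a stage. -/
def Stage.ker (s : Stage S F) : Ideal S.carrier := RingHom.ker s.σ.1

/-- `s'` is the minimal extension of `s` killed by `m·ker`. -/
def IsNext (s s' : Stage S F) : Prop :=
  (∃ π : s'.A ⟶ s.A, HomSet.map π s'.σ = s.σ ∧ F.map π s'.x = s.x) ∧
    maximalIdeal S.carrier * s.ker ≤ s'.ker ∧
    ∀ (C : Art Λ k) (τ : HomSet S.carrier S.res C) (_ : Function.Surjective τ.1) (q : C ⟶ s.A),
      HomSet.map q τ = s.σ → maximalIdeal S.carrier * s.ker ≤ RingHom.ker τ.1 →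
      (∃ y : F.obj C, F.map q y = s.x) → s'.ker ≤ RingHom.ker τ.1

theorem exists_next [IsNoetherianRing Λ] [Module.Finite Λ k] (h1 : S1 F) (s : Stage S F) :
    ∃ s' : Stage S F, IsNext s s' := by
  classical
  have hK : s.ker ≤ maximalIdeal S.carrier := ker_le_maximalIdeal s.σ
  obtain ⟨N, hN⟩ := exists_pow_le_ker s.σ
  have hJK : maximalIdeal S.carrier * s.ker ≤ s.ker := Ideal.mul_le_right
  have hJm : maximalIdeal S.carrier * s.ker ≤ maximalIdeal S.carrier := Ideal.mul_le_left
  have hJN : ∃ N', maximalIdeal S.carrier ^ N' ≤ maximalIdeal S.carrier * s.ker :=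
    ⟨N + 1, by rw [pow_succ']; exact Ideal.mul_mono_right hN⟩
  set B : Art Λ k := artQuot S _ hJm hJN with hB
  set β : HomSet S.carrier S.res B := artQuotHom S _ hJm hJN with hβ
  have hβs : Function.Surjective β.1 := artQuotHom_surjective S _ hJm hJN
  have hβker : RingHom.ker β.1 = maximalIdeal S.carrier * s.ker := ker_artQuotHom S _ hJm hJN
  obtain ⟨p, hp⟩ := exists_factor β hβs s.σ (by rw [hβker]; exact hJK)
  have hpβ : ∀ t, p (β.1 t) = s.σ.1 t := fun t =>
    congrArg (fun φ : HomSet S.carrier S.res s.A => φ.1 t) hp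
  have hps : Function.Surjective p := by
    intro a
    obtain ⟨t, rfl⟩ := s.surj a
    exact ⟨β.1 t, hpβ t⟩
  have hβm : ∀ t, β.1 t ∈ maximalIdeal B → t ∈ maximalIdeal S.carrier := by
    intro t ht
    rw [Art.mem_maximalIdeal_iff, Groth.Agent.Lib.ArtFunBasic.homSet_res_apply] at ht
    exact (CRing.mem_maximalIdeal_iff S t).2 ht
  have hpsemi : IsSemismallExt p := by
    refine ⟨hps, ?_⟩
    rw [eq_bot_iff, Ideal.mul_le]
    intro b hb c hc
    obtain ⟨tb, rfl⟩ := hβs b
    obtain ⟨tc, rfl⟩ := hβs c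
    have h1 : tb ∈ maximalIdeal S.carrier := hβm tb hb
    have h2 : tc ∈ s.ker := by
      have : p (β.1 tc) = 0 := hc
      rw [hpβ] at this
      exact this
    rw [Submodule.mem_bot, ← map_mul]
    have : tb * tc ∈ RingHom.ker β.1 := by rw [hβker]; exact Ideal.mul_mem_mul h1 h2
    exact this
  obtain ⟨J₀, hJ₀, hJ₀', ⟨y₀, hy₀⟩, hmin⟩ := Groth.Agent.S12729.result h1 p hpsemi s.x
  refine ⟨⟨quot B J₀ hJ₀', HomSet.map (quotMk B J₀ hJ₀') β,
    (quotMk_surjective B J₀ hJ₀').comp hβs, y₀⟩, ⟨quotFactor hJ₀' p hJ₀, ?_, hy₀⟩, ?_, ?_⟩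
  · change HomSet.map (quotFactor hJ₀' p hJ₀) (HomSet.map (quotMk B J₀ hJ₀') β) = s.σ
    rw [← Groth.Agent.Lib.H59ArtFunVersal.homSet_map_comp, quotMk_quotFactor, hp]
  · intro t ht
    change quotMk B J₀ hJ₀' (β.1 t) = 0
    have : β.1 t = 0 := by
      rw [← hβker] at ht
      exact ht
    rw [this]
    exact map_zero _
  · intro C τ hτ q hq hmK ⟨y, hy⟩
    obtain ⟨τb, hτb⟩ := exists_factor β hβs τ (by rw [hβker]; exact hmK)
    have hτbβ : ∀ t, τb (β.1 t) = τ.1 t := fun t =>
      congrArg (fun φ : HomSet S.carrier S.res C => φ.1 t) hτb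
    have hτbs : Function.Surjective τb := by
      intro c
      obtain ⟨t, rfl⟩ := hτ c
      exact ⟨β.1 t, hτbβ t⟩
    have hτq : τb ≫ q = p := by
      apply factor_unique β hβs
      rw [Groth.Agent.Lib.H59ArtFunVersal.homSet_map_comp, hτb, hq, hp]
    have hJ'p : RingHom.ker τb.toAlgHom ≤ RingHom.ker p.toAlgHom := by
      intro b hb
      rw [RingHom.mem_ker] at hb ⊢
      rw [← hτq]
      change q (τb b) = 0
      have : τb b = 0 := hb
      rw [this]
      exact map_zero _
    have hJ'm : RingHom.ker τb.toAlgHom ≤ maximalIdeal B := Groth.Agent.Lib.ArtFunFactor.ker_le_maximalIdeal τb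
    have hbij : Function.Bijective (quotFactor hJ'm τb (le_refl _)) := by
      constructor
      · intro y₁ y₂ h
        obtain ⟨b₁, rfl⟩ := quotMk_surjective B _ hJ'm y₁
        obtain ⟨b₂, rfl⟩ := quotMk_surjective B _ hJ'm y₂
        rw [quotMk_eq_iff]
        change τb b₁ = τb b₂ at h
        change τb.toAlgHom (b₁ - b₂) = 0
        rw [map_sub, sub_eq_zero]
        exact h
      · intro c
        obtain ⟨b, rfl⟩ := hτbs c
        exact ⟨quotMk B _ hJ'm b, rfl⟩
    obtain ⟨ν, _, hν⟩ := exists_inv_of_bijective _ hbij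
    have hfac : quotFactor hJ'm τb (le_refl _) ≫ q = quotFactor hJ'm p hJ'p := by
      apply hom_ext
      apply AlgHom.ext
      intro z
      obtain ⟨b, rfl⟩ := quotMk_surjective B _ hJ'm z
      change q (τb b) = p b
      rw [← hτq]
      rfl
    have hle : J₀ ≤ RingHom.ker τb.toAlgHom := by
      apply hmin _ hJ'p hJ'm
      refine ⟨F.map ν y, ?_⟩
      rw [← Functor.map_comp_apply, ← hfac, ← Category.assoc, hν, Category.id_comp]
      exact hy
    intro t ht
    have h0 : quotMk B J₀ hJ₀' (β.1 t) = 0 := ht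
    rw [quotMk_eq_zero_iff] at h0
    have := hle h0
    rw [RingHom.mem_ker] at this ⊢
    rw [← hτbβ]
    exact this

/-- the tower of stages starting from `s₀`. -/
noncomputable def tower [IsNoetherianRing Λ] [Module.Finite Λ k] (h1 : S1 F) (s₀ : Stage S F) :
    ℕ → Stage S F
  | 0 => s₀
  | n + 1 => Classical.choose (exists_next h1 (tower h1 s₀ n))

theorem tower_isNext [IsNoetherianRing Λ] [Module.Finite Λ k] (h1 : S1 F) (s₀ : Stage S F) (n : ℕ) :
    IsNext (tower h1 s₀ n) (tower h1 s₀ (n + 1)) :=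
  Classical.choose_spec (exists_next h1 (tower h1 s₀ n))

theorem tower_zero [IsNoetherianRing Λ] [Module.Finite Λ k] (h1 : S1 F) (s₀ : Stage S F) :
    tower h1 s₀ 0 = s₀ := rfl

end Groth.Agent.Lib.H59SchlessStep
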