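import Groth.Agent.Lib.H59SchlessSmooth
import Groth.Agent.Lib.H59SchlessStep
import Groth.Agent.Lib.ArtFunFibre

/-!
# The starting stage of Schlessinger's construction (helper59)

A smooth coefficient ring `S` and a stage `s₀` over it on which a spanning set of tangent vectors is visible.
-/

set_option autoImplicit false
set_option linter.unusedTactic false
universe u v
open CategoryTheory ArtFun ArtFun.Art IsLocalRing

namespace Groth.Agent.Lib.H59SchlessStart

open Groth.Agent.Lib.H59SchlessQuot Groth.Agent.Lib.H59SchlessStep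

variable {Λ : Type u} {k : Type u} [CommRing Λ] [Field k] [Algebra Λ k]
  [IsNoetherianRing Λ] [Module.Finite Λ k]

theorem exists_start (F : Art Λ k ⥤ Type v) [TangentStr F] (h0 : H0 F) (h2 : Heps F)
    (h3 : Hfin F) :
    ∃ (S : CRing Λ k) (_ : IsSmoothFunctor (hR S.carrier S.res)) (s₀ : Stage S F)
      (V : Set (TangentSpace F)), Submodule.span k V = ⊤ ∧
        ∀ v ∈ V, ∃ h : s₀.A ⟶ dual Λ k, F.map h s₀.x = v := by
  classical
  have h3' : Module.Finite k (TangentSpace F) := h3
  obtain ⟨r, b, hb⟩ := Module.Finite.exists_fin (R := k) (M := TangentSpace F)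
  obtain ⟨G, hG⟩ := (Module.Finite.fg_top : (⊤ : Submodule Λ k).FG)
  let f : (↥G ⊕ Fin r) → k := Sum.elim (fun g => (g : k)) (fun _ => 0)
  have hπ : Function.Surjective (MvPolynomial.aeval f : MvPolynomial (↥G ⊕ Fin r) Λ →ₐ[Λ] k) := by
    intro c
    have hc : c ∈ Submodule.span Λ (G : Set k) := by rw [hG]; trivial
    induction hc using Submodule.span_induction with
    | mem g hg => exact ⟨MvPolynomial.X (Sum.inl ⟨g, hg⟩), MvPolynomial.aeval_X _ _⟩
    | zero => exact ⟨0, map_zero _⟩
    | add a b _ _ ha hb =>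
      obtain ⟨pa, rfl⟩ := ha
      obtain ⟨pb, rfl⟩ := hb
      exact ⟨pa + pb, map_add _ _ _⟩
    | smul r a _ ha =>
      obtain ⟨pa, rfl⟩ := ha
      exact ⟨r • pa, map_smul _ _ _⟩
  obtain ⟨S, X, hS, hX, huniv⟩ :=
    Groth.Agent.Lib.H59SchlessSmooth.exists_smooth_with_vars (↥G ⊕ Fin r) f hπ
  -- the tangent directions of `S`
  let a : Fin r → (↥G ⊕ Fin r) → (dual Λ k) := fun j =>
    Sum.elim (fun g => (TrivSqZeroExt.inl (g : k) : TrivSqZeroExt k k))
      (fun i => if i = j then (TrivSqZeroExt.inr 1 : TrivSqZeroExt k k) else 0)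
  have ha : ∀ j i, (dual Λ k).res (a j i) = f i := by
    intro j i
    rcases i with g | i
    · rfl
    · change TrivSqZeroExt.fst (if i = j then (TrivSqZeroExt.inr 1 : TrivSqZeroExt k k) else 0) = 0
      split_ifs
      · exact TrivSqZeroExt.fst_inr k 1
      · rfl
  have key : ∀ j : ℕ, j ≤ r → ∃ s : Stage S F,
      (∀ i : Fin r, i.1 < j → ∃ h : s.A ⟶ dual Λ k, F.map h s.x = b i) ∧
        (∀ i : Fin r, j ≤ i.1 → X (Sum.inr i) ∈ s.ker) := by
    intro j
    induction j with
    | zero =>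
      intro _
      obtain ⟨⟨pt⟩, _⟩ := h0
      refine ⟨⟨base Λ k, Groth.Agent.Lib.ArtFunBasic.homSetBase S.carrier S.res,
        S.res_surjective, pt⟩, fun i hi => absurd hi (Nat.not_lt_zero _), fun i _ => ?_⟩
      change S.res (X (Sum.inr i)) = 0
      exact hX (Sum.inr i)
    | succ j ih =>
      intro hj
      obtain ⟨s, hs1, hs2⟩ := ih (Nat.le_of_succ_le hj)
      let jj : Fin r := ⟨j, hj⟩
      obtain ⟨P, p₁, p₂, hP⟩ := Groth.Agent.Lib.ArtFunFibre.exists_isFibreProd_of_surjective
        (toBase s.A) (toBase (dual Λ k)) (Groth.Agent.Lib.ArtFunBasic.toBase_surjective _)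
      obtain ⟨τ, hτ⟩ := huniv (dual Λ k) (a jj) (ha jj)
      obtain ⟨σ', hσ'1, hσ'2⟩ := Groth.Agent.Lib.ArtFunBasic.exists_lift_of_isFibreProd hP s.σ τ
        (Subsingleton.elim _ _)
      have hσ'1a : ∀ t, p₁ (σ'.1 t) = s.σ.1 t := fun t =>
        congrArg (fun θ : HomSet S.carrier S.res _ => θ.1 t) hσ'1
      have hσ'2a : ∀ t, p₂ (σ'.1 t) = τ.1 t := fun t =>
        congrArg (fun θ : HomSet S.carrier S.res _ => θ.1 t) hσ'2
      obtain ⟨x', hx'⟩ := (h2 p₁ p₂ hP).2 ⟨(s.x, TangentSpace.val (b jj)), h0.2.elim _ _⟩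
      have hx'1 : F.map p₁ x' = s.x := congrArg (fun w => w.1.1) hx'
      have hx'2 : F.map p₂ x' = b jj := congrArg (fun w => w.1.2) hx'
      have hYj : s.σ.1 (X (Sum.inr jj)) = 0 := hs2 jj (le_refl _)
      have hτYj : τ.1 (X (Sum.inr jj)) = (TrivSqZeroExt.inr 1 : TrivSqZeroExt k k) := by
        rw [hτ]
        change (if jj = jj then (TrivSqZeroExt.inr 1 : TrivSqZeroExt k k) else 0) = _
        rw [if_pos rfl]
      have hsurj : Function.Surjective σ'.1 := by
        intro w
        obtain ⟨t, ht⟩ := s.surj (p₁ w)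
        have hd1 : p₁ (w - σ'.1 t) = 0 := by
          change p₁.toAlgHom (w - σ'.1 t) = 0
          rw [map_sub]
          change p₁ w - p₁ (σ'.1 t) = 0
          rw [hσ'1a, ht, sub_self]
        have hfst : TrivSqZeroExt.fst (p₂ (w - σ'.1 t)) = 0 := by
          have h1 := hP.w_apply (w - σ'.1 t)
          rw [hd1] at h1
          have h2 : (toBase (dual Λ k)) (p₂ (w - σ'.1 t)) = 0 := by
            rw [← h1]
            exact map_zero _
          exact h2
        obtain ⟨c, hc⟩ := S.res_surjective (TrivSqZeroExt.snd (p₂ (w - σ'.1 t)))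
        have hkey : w - σ'.1 t = σ'.1 (c * X (Sum.inr jj)) := by
          apply hP.inj
          · change p₁ (w - σ'.1 t) = p₁ (σ'.1 (c * X (Sum.inr jj)))
            rw [hd1, hσ'1a, map_mul, hYj, mul_zero]
          · change p₂ (w - σ'.1 t) = p₂ (σ'.1 (c * X (Sum.inr jj)))
            rw [hσ'2a]
            let g : S.carrier →ₐ[Λ] TrivSqZeroExt k k := τ.1
            let e : TrivSqZeroExt k k := p₂ (w - σ'.1 t)
            have hgY : g (X (Sum.inr jj)) = (TrivSqZeroExt.inr 1 : TrivSqZeroExt k k) := hτYj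
            have hcf : TrivSqZeroExt.fst (g c) = S.res c :=
              Groth.Agent.Lib.ArtFunBasic.homSet_res_apply τ c
            have hefst : TrivSqZeroExt.fst e = 0 := hfst
            have hesnd : S.res c = TrivSqZeroExt.snd e := hc
            change e = g (c * X (Sum.inr jj))
            rw [map_mul, hgY]
            apply TrivSqZeroExt.ext
            · rw [hefst, TrivSqZeroExt.fst_mul, TrivSqZeroExt.fst_inr, mul_zero]
            · rw [TrivSqZeroExt.snd_mul, TrivSqZeroExt.snd_inr, TrivSqZeroExt.fst_inr, hcf, hesnd,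
                MulOpposite.op_zero, zero_smul, add_zero, smul_eq_mul, mul_one]
        refine ⟨t + c * X (Sum.inr jj), ?_⟩
        rw [map_add, ← hkey]
        ring
      refine ⟨⟨P, σ', hsurj, x'⟩, ?_, ?_⟩
      · intro i hi
        rcases Nat.lt_succ_iff_lt_or_eq.1 hi with hlt | heq
        · obtain ⟨h, hh⟩ := hs1 i hlt
          refine ⟨p₁ ≫ h, ?_⟩
          change F.map (p₁ ≫ h) x' = b i
          rw [Functor.map_comp_apply, hx'1, hh]
        · have hij : i = jj := Fin.ext heq
          rw [hij]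
          exact ⟨p₂, hx'2⟩
      · intro i hi
        change σ'.1 (X (Sum.inr i)) = 0
        apply hP.inj
        · change p₁ (σ'.1 (X (Sum.inr i))) = p₁.toAlgHom 0
          rw [hσ'1a, map_zero]
          exact hs2 i (Nat.le_of_succ_le hi)
        · change p₂ (σ'.1 (X (Sum.inr i))) = p₂.toAlgHom 0
          rw [hσ'2a, map_zero, hτ]
          change (if i = jj then (TrivSqZeroExt.inr 1 : TrivSqZeroExt k k) else 0) = 0
          rw [if_neg]
          intro hij
          rw [hij] at hi
          exact Nat.not_succ_le_self j hi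
  obtain ⟨s₀, hs₀, _⟩ := key r le_rfl
  refine ⟨S, hS, s₀, Set.range b, hb, ?_⟩
  rintro _ ⟨i, rfl⟩
  exact hs₀ i i.2

end Groth.Agent.Lib.H59SchlessStart
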