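import Mathlib
import Groth.Prelude.Def_ArtFun4
import Groth.Agent.Lib.DefTan4
import Groth.Agent.Lib.DefTan5
import Groth.Agent.S12732

/-!
# The deformation functor of `Spec B₀` has a hull when `B₀` has isolated singularities (helper1)
-/

set_option autoImplicit false
set_option linter.unusedVariables false
set_option linter.unusedSectionVars false

universe u

open CategoryTheory AlgebraicGeometry ArtFun ArtFun.Art Function TensorProduct
open Groth.Agent.Lib.DefGlue Groth.Agent.Lib.H59TangentStr

namespace Groth.Agent.Lib.DefTan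

theorem hasHull_DF (Λ k : Type u) [CommRing Λ] [IsNoetherianRing Λ] [Field k] [Algebra Λ k]
    (hk : Surjective (algebraMap Λ k))
    (B₀ : Type u) [CommRing B₀] [Algebra k B₀] [Algebra.FiniteType k B₀]
    (hsm : (Algebra.smoothLocus k B₀)ᶜ.Finite) :
    HasHull (DF Λ B₀ (k := k)) := by
  have hfinΛ : Module.Finite Λ k := Module.Finite.of_surjective (Algebra.linearMap Λ k) hk
  have hder : Subsingleton (Derivation Λ k k) := ⟨fun D D' => by
    ext c
    obtain ⟨a, rfl⟩ := hk c
    rw [Derivation.map_algebraMap, Derivation.map_algebraMap]⟩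
  have h0 : H0 (DF Λ B₀ (k := k)) := h0_DF
  have h1 : S1 (DF Λ B₀ (k := k)) := s1_DF
  have h2 : Heps (DF Λ B₀ (k := k)) := heps_DF
  have hN : IsNoetherianRing B₀ := Algebra.FiniteType.isNoetherianRing k B₀
  have hfp : Algebra.FinitePresentation k B₀ :=
    Algebra.FinitePresentation.of_finiteType.mp inferInstance
  let P := (Algebra.Presentation.ofFinitePresentation k B₀).reindex (Equiv.ulift.{u})
    (Equiv.ulift.{u})
  have i1 : Module.Finite B₀ P.toExtension.Cotangent :=
    Algebra.Extension.Cotangent.finite P.fg_ker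
  have i2 : Module.Free B₀ P.toExtension.CotangentSpace := Module.Free.of_basis P.cotangentSpaceBasis
  have i3 : Module.Finite B₀ P.toExtension.CotangentSpace :=
    Module.Finite.of_basis P.cotangentSpaceBasis
  have i4 : Module.FinitePresentation B₀ P.toExtension.CotangentSpace :=
    Module.finitePresentation_of_projective _ _
  have hlift : ∀ X : Exal.Ext k B₀ (B₀ ⊗[k] k), ∃ s : P.toExtension.Ring →ₐ[k] X.E,
      ∀ r, X.proj (s r) = algebraMap P.toExtension.Ring B₀ r := by
    intro X
    choose y hy using X.isExtension.proj_surjective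
    refine ⟨(MvPolynomial.aeval (fun i => y (P.val i)) : MvPolynomial _ k →ₐ[k] X.E), fun r => ?_⟩
    have : X.proj.comp (MvPolynomial.aeval (fun i => y (P.val i)) : MvPolynomial _ k →ₐ[k] X.E) =
        IsScalarTower.toAlgHom k P.toExtension.Ring B₀ := by
      apply MvPolynomial.algHom_ext
      intro i
      change X.proj (MvPolynomial.aeval (fun i => y (P.val i)) (MvPolynomial.X i)) =
        algebraMap P.Ring B₀ (MvPolynomial.X i)
      rw [MvPolynomial.aeval_X, hy, Algebra.Generators.algebraMap_apply, MvPolynomial.aeval_X]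
    exact congrArg (fun f => f r) this
  have hY : Module.Finite k (Groth.Agent.Lib.CotTIndep.Y (B₀ ⊗[k] k) P.toExtension) :=
    finite_Y P (B₀ ⊗[k] k) hsm
  have h3 := hfin_of_finite Λ P.toExtension h0 h2 hlift
  exact @Groth.Agent.S12732.result Λ k _ _ _ _ _ hder (DF Λ B₀) (tangentStr h0 h2) h0 h1 h2 h3

end Groth.Agent.Lib.DefTan
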