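import Mathlib
import Groth.Prelude.Def_ArtFun4

/-!
# Invariance of the deformation functor under isomorphisms of the closed fibre; transport of hulls (helper1)
-/

set_option autoImplicit false
set_option linter.unusedVariables false
set_option linter.unusedSectionVars false

universe u v

open CategoryTheory CategoryTheory.Limits AlgebraicGeometry ArtFun ArtFun.Art Function

namespace Groth.Agent.Lib.DefTan

variable {Λ k : Type u} [CommRing Λ] [Field k] [Algebra Λ k]

section Hull

variable {F F' : Art Λ k ⥤ Type v}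

/-- transport of a hull along a natural family of bijections. -/
theorem hasHull_of_equiv (τ : ∀ A, F'.obj A ≃ F.obj A)
    (hτ : ∀ {A B : Art Λ k} (g : A ⟶ B) (z : F'.obj A), τ B (F'.map g z) = F.map g (τ A z))
    (h : HasHull F') : HasHull F := by
  obtain ⟨⟨R, ξ, hv, hb⟩⟩ := h
  let ξ' : Family R.carrier R.res F :=
    { app := fun A φ => τ A (ξ.app A φ)
      natural := fun f φ => by rw [ξ.natural, hτ] }
  refine ⟨⟨R, ξ', ?_, ?_⟩⟩
  · intro B A μ hμ φ y hy
    have h1 : F'.map μ ((τ B).symm y) = ξ.app A φ := by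
      apply (τ A).injective
      rw [hτ, Equiv.apply_symm_apply]
      exact hy
    obtain ⟨ψ, hψ1, hψ2⟩ := hv μ hμ φ ((τ B).symm y) h1
    refine ⟨ψ, hψ1, ?_⟩
    change τ B (ξ.app B ψ) = y
    rw [hψ2, Equiv.apply_symm_apply]
  · exact (τ (dual Λ k)).bijective.comp hb

end Hull

section Transp

variable {X X' : Scheme.{u}} {x : X ⟶ specPt k} {x' : X' ⟶ specPt k} (e : X ≅ X')
  (he : e.hom ≫ x' = x)

variable {A B : Art Λ k}

include he in
/-- transport of a deformation along an isomorphism of the closed fibre. -/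
def transp (ξ : DefSch (Λ := Λ) X x A) : DefSch (Λ := Λ) X' x' A where
  total := ξ.total
  f := ξ.f
  flat := ξ.flat
  i := e.inv ≫ ξ.i
  isPullback := by
    have h1 : IsPullback e.inv x' x (𝟙 (specPt k)) :=
      IsPullback.of_horiz_isIso ⟨by rw [Category.comp_id, ← he, Iso.inv_hom_id_assoc]⟩
    have h2 := h1.paste_horiz ξ.isPullback
    rw [Category.id_comp] at h2
    exact h2

/-- transport respects isomorphisms. -/
def transpIso {ξ ξ' : DefSch (Λ := Λ) X x A} (a : DefSch.Iso ξ ξ') :
    DefSch.Iso (transp e he ξ) (transp e he ξ') where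
  iso := a.iso
  hom_f := a.hom_f
  i_hom := by
    change (e.inv ≫ ξ.i) ≫ a.iso.hom = e.inv ≫ ξ'.i
    rw [Category.assoc, a.i_hom]

/-- transport commutes with base change. -/
noncomputable def transpBaseChange (ξ : DefSch (Λ := Λ) X x A) (g : A ⟶ B) :
    DefSch.Iso (transp e he (ξ.baseChange g)) ((transp e he ξ).baseChange g) where
  iso := Iso.refl _
  hom_f := Category.id_comp _
  i_hom := by
    change (e.inv ≫ (ξ.baseChange g).i) ≫ 𝟙 _ = ((transp e he ξ).baseChange g).i
    rw [Category.comp_id]
    apply pullback.hom_ext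
    · rw [Category.assoc, DefSch.baseChange_i_fst]
      exact (DefSch.baseChange_i_fst (transp e he ξ) g).symm
    · rw [Category.assoc, DefSch.baseChange_i_f]
      refine Eq.trans ?_ (DefSch.baseChange_i_f (transp e he ξ) g).symm
      rw [← Category.assoc, ← he, Iso.inv_hom_id_assoc]

/-- going back and forth. -/
def transpTransp (ξ : DefSch (Λ := Λ) X x A) :
    DefSch.Iso (transp e.symm (x := x') (x' := x)
      (by rw [Iso.symm_hom, ← he, Iso.inv_hom_id_assoc]) (transp e he ξ)) ξ where
  iso := Iso.refl _
  hom_f := Category.id_comp _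
  i_hom := by
    change (e.hom ≫ e.inv ≫ ξ.i) ≫ 𝟙 _ = ξ.i
    rw [Category.comp_id, Iso.hom_inv_id_assoc]

end Transp

section Functor

variable {X X' : Scheme.{u}} (x : X ⟶ specPt k) (x' : X' ⟶ specPt k) (e : X ≅ X')
  (he : e.hom ≫ x' = x)

include he in
/-- the bijection on isomorphism classes. -/
noncomputable def clEquiv (A : Art Λ k) :
    (defFunctor (Λ := Λ) X x).obj A ≃ (defFunctor (Λ := Λ) X' x').obj A where
  toFun := Quotient.map' (transp e he) (fun _ _ ⟨a⟩ => ⟨transpIso e he a⟩)
  invFun := Quotient.map' (transp e.symm (x := x') (x' := x)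
      (by rw [Iso.symm_hom, ← he, Iso.inv_hom_id_assoc]))
    (fun _ _ ⟨a⟩ => ⟨transpIso e.symm _ a⟩)
  left_inv := fun q => by
    induction q using Quotient.inductionOn with
    | h ξ => exact Quotient.sound ⟨transpTransp e he ξ⟩
  right_inv := fun q => by
    induction q using Quotient.inductionOn with
    | h ξ =>
      refine Quotient.sound ⟨?_⟩
      have h := transpTransp e.symm (x := x') (x' := x)
        (by rw [Iso.symm_hom, ← he, Iso.inv_hom_id_assoc]) ξ
      exact h

theorem clEquiv_map {A B : Art Λ k} (g : A ⟶ B) (z : (defFunctor (Λ := Λ) X x).obj A) :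
    clEquiv x x' e he B ((defFunctor (Λ := Λ) X x).map g z) =
      (defFunctor (Λ := Λ) X' x').map g (clEquiv x x' e he A z) := by
  induction z using Quotient.inductionOn with
  | h ξ => exact Quotient.sound ⟨transpBaseChange e he ξ g⟩

include he in
/-- a hull for the deformation functor of `X` gives one for an isomorphic `X'`. -/
theorem hasHull_of_iso (h : HasHull (defFunctor (Λ := Λ) X x)) :
    HasHull (defFunctor (Λ := Λ) X' x') :=
  hasHull_of_equiv (clEquiv x x' e he) (fun g z => clEquiv_map x x' e he g z) h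

end Functor

end Groth.Agent.Lib.DefTan
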