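import Mathlib
import Groth.Agent.Lib.DefSchAff3

/-!
# From an affine scheme with finite non-smooth locus to its coordinate ring (helper1)
-/

set_option autoImplicit false
set_option linter.unusedVariables false
set_option linter.unusedSectionVars false

universe u

open CategoryTheory AlgebraicGeometry Function
open Groth.Agent.Lib.DefSchAff

namespace Groth.Agent.Lib.DefTan

section Alg

variable {R k A : Type*} [CommRing R] [CommRing k] [CommRing A] [Algebra R A] [Algebra k A]
  (j : k →+* R) (hj : Bijective j) (hcomp : (algebraMap R A).comp j = algebraMap k A)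

include hj hcomp in
theorem smoothLocus_subset_of_bijective : Algebra.smoothLocus R A ⊆ Algebra.smoothLocus k A := by
  intro p hp
  have hp' : Algebra.FormallySmooth R (Localization.AtPrime p.asIdeal) := hp
  change Algebra.FormallySmooth k (Localization.AtPrime p.asIdeal)
  rw [← RingHom.formallySmooth_algebraMap] at hp' ⊢
  have h1 : algebraMap k (Localization.AtPrime p.asIdeal) =
      (algebraMap R (Localization.AtPrime p.asIdeal)).comp j := by
    rw [IsScalarTower.algebraMap_eq k A, IsScalarTower.algebraMap_eq R A, RingHom.comp_assoc, hcomp]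
  rw [h1]
  exact RingHom.FormallySmooth.comp (RingHom.FormallySmooth.of_bijective hj) hp'

end Alg

section Sch

variable {k : Type u} [Field k] {X : Scheme.{u}} [IsAffine X] (x : X ⟶ Spec (CommRingCat.of k))

theorem bijective_ΓSpecIso_inv :
    Bijective (Scheme.ΓSpecIso (CommRingCat.of k)).inv.hom :=
  (ConcreteCategory.isIso_iff_bijective _).mp inferInstance

theorem finiteType_Γ [LocallyOfFiniteType x] : @Algebra.FiniteType k Γ(X, ⊤) _ _ (algΓ x) := by
  have h1 : x.appTop.hom.FiniteType :=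
    (HasRingHomProperty.iff_of_isAffine (P := @LocallyOfFiniteType)).mp ‹_›
  have h2 : (x.appTop.hom.comp (Scheme.ΓSpecIso (CommRingCat.of k)).inv.hom).FiniteType :=
    RingHom.FiniteType.comp h1 (RingHom.FiniteType.of_surjective _ bijective_ΓSpecIso_inv.2)
  exact h2

theorem finite_compl_smoothLocus [LocallyOfFiniteType x] (U : X.Opens) (hU : Smooth (U.ι ≫ x))
    (hfin : ((U : Set X)ᶜ).Finite) :
    (@Algebra.smoothLocus k Γ(X, ⊤) _ _ (algΓ x))ᶜ.Finite := by
  let _ : Algebra k Γ(X, ⊤) := algΓ x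
  have hV : IsAffineOpen (⊤ : X.Opens) := isAffineOpen_top X
  have hT : IsAffineOpen (⊤ : (Spec (CommRingCat.of k)).Opens) := isAffineOpen_top _
  let π : X → PrimeSpectrum Γ(X, ⊤) := fun p => hV.primeIdealOf ⟨p, trivial⟩
  have hle : (⊤ : X.Opens) ≤ x ⁻¹ᵁ ⊤ := le_top
  -- smooth points
  have h1 : ∀ p ∈ U, π p ∈ Algebra.smoothLocus k Γ(X, ⊤) := by
    intro p hp
    have hs : (U.ι ≫ x).smoothLocus = ⊤ := Scheme.Hom.smoothLocus_eq_top _
    have hpre : U.ι ⁻¹ᵁ x.smoothLocus = ⊤ := (Scheme.Hom.preimage_smoothLocus_eq U.ι x).trans hs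
    have hmem : (⟨p, hp⟩ : U) ∈ U.ι ⁻¹ᵁ x.smoothLocus := by rw [hpre]; trivial
    have hmem' : p ∈ x.smoothLocus := hmem
    have hfs : (x.stalkMap p).hom.FormallySmooth := Scheme.Hom.mem_smoothLocus.mp hmem'
    have h2 := (formallySmooth_stalkMap_iff (f := x) (x := p) ⊤ hT ⊤ hV hle trivial).mp hfs
    let _ : Algebra Γ(Spec (CommRingCat.of k), ⊤) Γ(X, ⊤) := (x.appLE ⊤ ⊤ hle).hom.toAlgebra
    refine smoothLocus_subset_of_bijective (R := Γ(Spec (CommRingCat.of k), ⊤))
      (Scheme.ΓSpecIso (CommRingCat.of k)).inv.hom bijective_ΓSpecIso_inv ?_ h2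
    have h3 : x.appLE ⊤ ⊤ hle = x.appTop := Scheme.Hom.appLE_eq_app x
    change (x.appLE ⊤ ⊤ hle).hom.comp (Scheme.ΓSpecIso (CommRingCat.of k)).inv.hom =
      x.appTop.hom.comp (Scheme.ΓSpecIso (CommRingCat.of k)).inv.hom
    rw [h3]
  -- surjectivity
  have h2 : Surjective π := by
    intro q
    refine ⟨hV.fromSpec q, ?_⟩
    have h3 := hV.fromSpec_primeIdealOf ⟨hV.fromSpec q, trivial⟩
    exact hV.fromSpec.isOpenEmbedding.injective h3
  refine (hfin.image π).subset ?_
  intro q hq
  obtain ⟨p, rfl⟩ := h2 q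
  refine ⟨p, ?_, rfl⟩
  intro hp
  exact hq (h1 p hp)

end Sch

end Groth.Agent.Lib.DefTan
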