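import Groth.Agent.Lib.ThickeningBC
import Mathlib.AlgebraicGeometry.Morphisms.Flat

/-!
# Deformation squares over a finite order thickening: reduction to rings (helper88)

Setting: `S ⟶ S'` a finite order thickening, `X' ⟶ Y' ⟶ S'`, and `X ⟶ Y ⟶ S` its base change, with
`X'` flat over `S'`.  Around every point of `X'` we produce affine opens giving two pushout squares
of rings `R' → B' → C'`, `R → B → C` with `R' → R` surjective with nilpotent kernel and `C'` flat
over `R'`.  A property of morphisms given by a property `Q` of ring maps then ascends from `X ⟶ Y`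
to `X' ⟶ Y'` as soon as `Q` ascends in such ring diagrams.
-/

set_option autoImplicit false
universe u

namespace Groth.Agent.Lib.DeformBC88

open AlgebraicGeometry CategoryTheory Limits Groth.Agent.Lib.ThickeningBC

variable {X X' Y Y' S S' : Scheme.{u}} {iX : X ⟶ X'} {iY : Y ⟶ Y'} {iS : S ⟶ S'}
  {f : X ⟶ Y} {f' : X' ⟶ Y'} {g : Y ⟶ S} {g' : Y' ⟶ S'}

/-- The left square of a deformation diagram is cartesian. -/
theorem isPullback_left (hcX : IsPullback iX (f ≫ g) (f' ≫ g') iS) (hcY : IsPullback iY g g' iS)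
    (w : iX ≫ f' = f ≫ iY) : IsPullback iX f f' iY :=
  (IsPullback.of_right hcX.flip w.symm hcY.flip).flip

theorem isThickening_mid (hS : MoreMor.IsThickening iS) (hcY : IsPullback iY g g' iS) :
    MoreMor.IsThickening iY :=
  ⟨MorphismProperty.of_isPullback hcY.flip hS.1, MorphismProperty.of_isPullback hcY.flip hS.2⟩

/-- The ring-level ascent statement for a property `Q` of ring maps. -/
def RingAscent (Q : ∀ {R T : Type u} [CommRing R] [CommRing T], (R →+* T) → Prop) : Prop :=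
  ∀ {R' R B' B C' C : CommRingCat.{u}} {ρ : R' ⟶ B'} {α : B' ⟶ C'} {φR : R' ⟶ R} {φB : B' ⟶ B}
    {φC : C' ⟶ C} {ρb : R ⟶ B} {β : B ⟶ C},
    IsPushout ρ φR φB ρb → IsPushout α φB φC β → Function.Surjective φR.hom →
    IsNilpotent (RingHom.ker φR.hom) → (ρ ≫ α).hom.Flat → Q β.hom → Q α.hom

/-- Ascent of a property of morphisms of schemes in a deformation diagram from ascent in ring
diagrams. -/
theorem of_ringAscent {P : MorphismProperty Scheme.{u}}
    {Q : ∀ {R T : Type u} [CommRing R] [CommRing T], (R →+* T) → Prop} [HasRingHomProperty P Q]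
    (hQs : RingHom.StableUnderCompositionWithLocalizationAwaySource Q)
    (hQ : RingAscent Q)
    (hS : MoreMor.IsFiniteOrderThickening iS)
    (hcX : IsPullback iX (f ≫ g) (f' ≫ g') iS) (hcY : IsPullback iY g g' iS)
    (w : iX ≫ f' = f ≫ iY) [Flat (f' ≫ g')] (hf : P f) : P f' := by
  have hiS : IsClosedImmersion iS := hS.1.1
  have hL := isPullback_left hcX hcY w
  have hiY : IsClosedImmersion iY := (isThickening_mid hS.1 hcY).1
  have hiX : IsClosedImmersion iX := MorphismProperty.of_isPullback hL.flip hiY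
  rw [HasRingHomProperty.iff_exists_appLE (P := P) hQs]
  intro x'
  -- choose affine neighbourhoods
  obtain ⟨_, ⟨W', hW', rfl⟩, hsW', -⟩ :=
    S'.isBasis_affineOpens.exists_subset_of_mem_open (Set.mem_univ (g' (f' x'))) isOpen_univ
  obtain ⟨_, ⟨V', hV', rfl⟩, hyV', hV'W'⟩ :=
    Y'.isBasis_affineOpens.exists_subset_of_mem_open (show f' x' ∈ g' ⁻¹ᵁ W' from hsW')
      (g' ⁻¹ᵁ W').isOpen
  obtain ⟨_, ⟨U', hU', rfl⟩, hxU', hU'V'⟩ :=
    X'.isBasis_affineOpens.exists_subset_of_mem_open (show x' ∈ f' ⁻¹ᵁ V' from hyV')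
      (f' ⁻¹ᵁ V').isOpen
  have e₁ : V' ≤ g' ⁻¹ᵁ W' := hV'W'
  have e₂ : U' ≤ f' ⁻¹ᵁ V' := hU'V'
  refine ⟨⟨V', hV'⟩, ⟨U', hU'⟩, hxU', e₂, ?_⟩
  have hflat : (g'.appLE W' V' e₁ ≫ f'.appLE V' U' e₂).hom.Flat := by
    rw [Scheme.Hom.appLE_comp_appLE]
    exact HasRingHomProperty.appLE (P := @Flat) (f' ≫ g') inferInstance ⟨W', hW'⟩ ⟨U', hU'⟩ _
  exact hQ (isPushout_appLE hcY hW' hV' e₁) (isPushout_appLE hL hV' hU' e₂)
    (iS.app_surjective _ hW') (isNilpotent_ker_app hS.2 hW') hflat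
    (HasRingHomProperty.appLE P f hf ⟨_, hV'.preimage iY⟩ ⟨_, hU'.preimage iX⟩ _)

end Groth.Agent.Lib.DeformBC88
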