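import Mathlib.RingTheory.Kaehler.TensorProduct
import Mathlib.RingTheory.Unramified.Basic
import Mathlib.RingTheory.Nakayama
import Mathlib.RingTheory.Nilpotent.Lemmas
import Mathlib.RingTheory.Jacobson.Ideal
import Mathlib.LinearAlgebra.TensorProduct.Quotient
import Mathlib.RingTheory.FiniteType

set_option autoImplicit false
universe u

namespace Groth.Agent.Lib.ThickeningAlg

open TensorProduct

/-- A finitely generated module `M` over `B` with `M = I M` for an ideal `I` of `A` contained in
the nilradical is zero. -/
theorem subsingleton_of_smul_top_eq_top {A B M : Type*} [CommRing A] [CommRing B] [Algebra A B]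
    [AddCommGroup M] [Module A M] [Module B M] [IsScalarTower A B M] [Module.Finite B M]
    (I : Ideal A) (hI : I ≤ nilradical A)
    (h : I • (⊤ : Submodule A M) = ⊤) : Subsingleton M := by
  have hJ : I.map (algebraMap A B) ≤ Ideal.jacobson ⊥ := by
    refine le_trans ?_ (Ideal.radical_le_jacobson (I := (⊥ : Ideal B)))
    rw [Ideal.map_le_iff_le_comap]
    intro x hx
    have := hI hx
    rw [mem_nilradical] at this
    change algebraMap A B x ∈ nilradical B
    rw [mem_nilradical]
    exact this.map _
  have key : ∀ x ∈ I • (⊤ : Submodule A M), x ∈ (I.map (algebraMap A B)) • (⊤ : Submodule B M) := by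
    intro x hx
    induction hx using Submodule.smul_induction_on' with
    | smul a ha m hm =>
      rw [← algebraMap_smul B a m]
      exact Submodule.smul_mem_smul (Ideal.mem_map_of_mem _ ha) trivial
    | add x hx y hy hx' hy' => exact add_mem hx' hy'
  have h2 : (⊤ : Submodule B M) ≤ (I.map (algebraMap A B)) • (⊤ : Submodule B M) := by
    intro x _
    exact key x (by rw [h]; trivial)
  have h3 := Submodule.eq_bot_of_le_smul_of_le_jacobson_bot (I.map (algebraMap A B))
    (⊤ : Submodule B M) Module.Finite.fg_top h2 hJ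
  exact (Submodule.subsingleton_iff B).mp (subsingleton_of_bot_eq_top h3.symm)

/-- If `B₀ = A₀ ⊗[A] B` where `A → A₀` is surjective with nil kernel, `B` is of finite type
over `A`, and `B₀` is formally unramified over `A₀`, then `B` is formally unramified over `A`. -/
theorem formallyUnramified_of_isPushout {A B A₀ B₀ : Type u} [CommRing A] [CommRing B]
    [CommRing A₀] [CommRing B₀] [Algebra A B] [Algebra A A₀] [Algebra A B₀] [Algebra B B₀]
    [Algebra A₀ B₀] [IsScalarTower A B B₀] [IsScalarTower A A₀ B₀] [Algebra.IsPushout A A₀ B B₀]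
    (hsurj : Function.Surjective (algebraMap A A₀))
    (hker : RingHom.ker (algebraMap A A₀) ≤ nilradical A)
    [Algebra.FiniteType A B] [Algebra.FormallyUnramified A₀ B₀] : Algebra.FormallyUnramified A B := by
  constructor
  set I := RingHom.ker (algebraMap A A₀) with hIdef
  have e := KaehlerDifferential.tensorKaehlerEquivBase A A₀ B B₀
  have h1 : Subsingleton (A₀ ⊗[A] Ω[B⁄A]) := e.toEquiv.subsingleton
  let e2 : (A ⧸ I) ≃ₐ[A] A₀ := Ideal.quotientKerAlgEquivOfSurjective (f := Algebra.ofId A A₀) hsurj
  have h1' : Subsingleton ((A ⧸ I) ⊗[A] Ω[B⁄A]) :=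
    (TensorProduct.congr e2.toLinearEquiv (LinearEquiv.refl A Ω[B⁄A])).toEquiv.subsingleton
  have h2 : Subsingleton (Ω[B⁄A] ⧸ (I • (⊤ : Submodule A Ω[B⁄A]))) :=
    (TensorProduct.quotTensorEquivQuotSMul Ω[B⁄A] I).symm.toEquiv.subsingleton
  rw [Submodule.Quotient.subsingleton_iff] at h2
  exact subsingleton_of_smul_top_eq_top (B := B) I hker h2

end Groth.Agent.Lib.ThickeningAlg
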