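import Groth.Agent.Lib.DeformRing88
import Groth.Agent.Lib.ThickeningAlg
import Mathlib.RingTheory.Smooth.Fiber
import Mathlib.RingTheory.RingHom.Etale
import Mathlib.AlgebraicGeometry.Morphisms.Etale

/-!
# Étale morphisms ascend along flat deformations over nilpotent thickenings (helper88)
-/

set_option autoImplicit false
set_option linter.style.haveILetI false
set_option linter.unusedSectionVars false
universe u

namespace Groth.Agent.Lib.DeformEtale88

open TensorProduct Function CategoryTheory Limits Groth.Agent.Lib.DeformRing88

section Algebraic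

variable {R' R B' B C' C : Type u} [CommRing R'] [CommRing R] [CommRing B'] [CommRing B]
  [CommRing C'] [CommRing C]
  [Algebra R' B'] [Algebra B' C'] [Algebra R' C'] [IsScalarTower R' B' C']
  [Algebra R' R] [Algebra B' B] [Algebra C' C] [Algebra R B] [Algebra B C]
  [Algebra R' B] [IsScalarTower R' B' B] [IsScalarTower R' R B]
  [Algebra B' C] [IsScalarTower B' C' C] [IsScalarTower B' B C]

theorem etale_of_isPushout [Algebra.IsPushout R' R B' B] [Algebra.IsPushout B' B C' C]
    (hsurj : Surjective (algebraMap R' R)) (hnil : IsNilpotent (RingHom.ker (algebraMap R' R)))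
    [Module.Flat R' C'] [Algebra.Etale B C] : Algebra.Etale B' C' := by
  have hfp : Algebra.FinitePresentation B' C' :=
    finitePresentation_of_isPushout (R' := R') (R := R) (B := B) (C := C) hsurj hnil
  have hfl : Module.Flat B' C' :=
    flat_of_isPushout (R' := R') (R := R) (B := B) (C := C) hsurj hnil
  have hkerB := ker_eq_map_of_isPushout (R' := R') (R := R) (B' := B') (B := B) hsurj
  have hsurjB : Surjective (algebraMap B' B) :=
    surjective_of_isPushout (R' := R') (R := R) (B' := B') (B := B) hsurj
  have hnilJ : RingHom.ker (algebraMap B' B) ≤ nilradical B' := by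
    rw [hkerB]
    obtain ⟨n, hn⟩ := hnil
    intro x hx
    rw [mem_nilradical]
    refine ⟨n, ?_⟩
    have h1 : x ^ n ∈ (Ideal.map (algebraMap R' B') (RingHom.ker (algebraMap R' R))) ^ n :=
      Ideal.pow_mem_pow hx n
    rw [← Ideal.map_pow, hn, Ideal.zero_eq_bot, Ideal.map_bot] at h1
    exact h1
  have hfu : Algebra.FormallyUnramified B' C' :=
    Groth.Agent.Lib.ThickeningAlg.formallyUnramified_of_isPushout (A := B') (B := C') (A₀ := B)
      (B₀ := C) hsurjB hnilJ
  exact Algebra.Etale.of_formallyUnramified_of_flat

end Algebraic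

theorem ringAscent_etale : Groth.Agent.Lib.DeformBC88.RingAscent @RingHom.Etale := by
  apply ringAscent_of_algebraic
  intro R' R B' B C' C _ _ _ _ _ _ _ _ _ _ _ _ _ _ _ _ _ _ _ _ _ _ _ hsurj hnil hflat hβ
  have : Algebra.Etale B C := RingHom.etale_algebraMap.mp hβ
  rw [RingHom.etale_algebraMap]
  exact etale_of_isPushout (R' := R') (R := R) (B' := B') (B := B) (C' := C') (C := C) hsurj hnil

theorem etale_stableSource :
    RingHom.StableUnderCompositionWithLocalizationAwaySource @RingHom.Etale :=
  (RingHom.Etale.stableUnderComposition.stableUnderCompositionWithLocalizationAway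
    (fun _ S _ _ _ r _ => RingHom.etale_algebraMap.mpr (Algebra.Etale.of_isLocalizationAway r))).left

end Groth.Agent.Lib.DeformEtale88
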