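import Groth.Agent.Lib.DeformEtale88
import Mathlib.RingTheory.RingHom.Smooth
import Mathlib.AlgebraicGeometry.Morphisms.Smooth

/-!
# Smooth morphisms ascend along flat deformations over nilpotent thickenings (helper88)
-/

set_option autoImplicit false
set_option linter.style.haveILetI false
set_option linter.unusedSectionVars false
universe u

namespace Groth.Agent.Lib.DeformSmooth88

open TensorProduct Function CategoryTheory Limits Groth.Agent.Lib.DeformRing88

section Algebraic

variable {R' R B' B C' C : Type u} [CommRing R'] [CommRing R] [CommRing B'] [CommRing B]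
  [CommRing C'] [CommRing C]
  [Algebra R' B'] [Algebra B' C'] [Algebra R' C'] [IsScalarTower R' B' C']
  [Algebra R' R] [Algebra B' B] [Algebra C' C] [Algebra R B] [Algebra B C]
  [Algebra R' B] [IsScalarTower R' B' B] [IsScalarTower R' R B]
  [Algebra B' C] [IsScalarTower B' C' C] [IsScalarTower B' B C]

theorem smooth_of_isPushout [Algebra.IsPushout R' R B' B] [Algebra.IsPushout B' B C' C]
    (hsurj : Surjective (algebraMap R' R)) (hnil : IsNilpotent (RingHom.ker (algebraMap R' R)))
    [Module.Flat R' C'] [Algebra.Smooth B C] : Algebra.Smooth B' C' := by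
  have hfp : Algebra.FinitePresentation B' C' :=
    finitePresentation_of_isPushout (R' := R') (R := R) (B := B) (C := C) hsurj hnil
  have hfl : Module.Flat B' C' :=
    flat_of_isPushout (R' := R') (R := R) (B := B) (C := C) hsurj hnil
  have hkerB := ker_eq_map_of_isPushout (R' := R') (R := R) (B' := B') (B := B) hsurj
  have hsurjB : Surjective (algebraMap B' B) :=
    surjective_of_isPushout (R' := R') (R := R) (B' := B') (B := B) hsurj
  have hnilJ : ∀ x ∈ RingHom.ker (algebraMap B' B), IsNilpotent x := by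
    rw [hkerB]
    obtain ⟨n, hn⟩ := hnil
    intro x hx
    refine ⟨n, ?_⟩
    have h1 : x ^ n ∈ (Ideal.map (algebraMap R' B') (RingHom.ker (algebraMap R' R))) ^ n :=
      Ideal.pow_mem_pow hx n
    rw [← Ideal.map_pow, hn, Ideal.zero_eq_bot, Ideal.map_bot] at h1
    exact h1
  refine Algebra.Smooth.of_formallySmooth_fiber fun 𝔭 _ => ?_
  -- `κ(𝔭)` is a `B`-algebra
  have hle : RingHom.ker (algebraMap B' B) ≤ RingHom.ker (algebraMap B' 𝔭.ResidueField) := by
    intro x hx
    obtain ⟨n, hn⟩ := hnilJ x hx
    rw [RingHom.mem_ker]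
    have : (algebraMap B' 𝔭.ResidueField x) ^ n = 0 := by rw [← map_pow, hn, map_zero]
    exact pow_eq_zero_iff (n := n) (by
      rintro rfl
      rw [pow_zero] at hn
      exact one_ne_zero (α := 𝔭.ResidueField) (by
        have := congrArg (algebraMap B' 𝔭.ResidueField) hn
        simpa using this)) |>.mp this
  let φ : B →+* 𝔭.ResidueField :=
    RingHom.liftOfSurjective (algebraMap B' B) hsurjB ⟨algebraMap B' 𝔭.ResidueField, hle⟩
  letI : Algebra B 𝔭.ResidueField := φ.toAlgebra
  have hφ : ∀ x, φ (algebraMap B' B x) = algebraMap B' 𝔭.ResidueField x := fun x =>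
    RingHom.liftOfRightInverse_comp_apply (algebraMap B' B) _ (Function.surjInv_eq hsurjB)
      ⟨algebraMap B' 𝔭.ResidueField, hle⟩ x
  have : IsScalarTower B' B 𝔭.ResidueField := IsScalarTower.of_algebraMap_eq' (by
    ext x
    exact (hφ x).symm)
  have h1 : Algebra.FormallySmooth 𝔭.ResidueField (𝔭.ResidueField ⊗[B] C) :=
    (inferInstance : Algebra.Smooth 𝔭.ResidueField (𝔭.ResidueField ⊗[B] C)).formallySmooth
  let e1 : 𝔭.ResidueField ⊗[B] (B ⊗[B'] C') ≃ₐ[𝔭.ResidueField] 𝔭.ResidueField ⊗[B] C :=
    Algebra.TensorProduct.congr AlgEquiv.refl (Algebra.IsPushout.equiv B' B C' C)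
  let e2 : 𝔭.ResidueField ⊗[B] (B ⊗[B'] C') ≃ₐ[𝔭.ResidueField] 𝔭.ResidueField ⊗[B'] C' :=
    Algebra.TensorProduct.cancelBaseChange B' B 𝔭.ResidueField 𝔭.ResidueField C'
  exact Algebra.FormallySmooth.of_equiv (e1.symm.trans e2)

end Algebraic

theorem ringAscent_smooth : Groth.Agent.Lib.DeformBC88.RingAscent @RingHom.Smooth := by
  apply ringAscent_of_algebraic
  intro R' R B' B C' C _ _ _ _ _ _ _ _ _ _ _ _ _ _ _ _ _ _ _ _ _ _ _ hsurj hnil hflat hβ
  have : Algebra.Smooth B C := RingHom.smooth_algebraMap.mp hβ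
  rw [RingHom.smooth_algebraMap]
  exact smooth_of_isPushout (R' := R') (R := R) (B' := B') (B := B) (C' := C') (C := C) hsurj hnil

theorem smooth_stableSource :
    RingHom.StableUnderCompositionWithLocalizationAwaySource @RingHom.Smooth :=
  (RingHom.Smooth.stableUnderComposition.stableUnderCompositionWithLocalizationAway
    RingHom.Smooth.holdsForLocalizationAway).left

end Groth.Agent.Lib.DeformSmooth88
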