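import Groth.Agent.Lib.H90OXModFP
import Groth.Agent.Lib.ModHomBasis

/-!
# Morphisms of quasi-coherent modules from linear maps over a family of affine opens (helper28)

For `F G : X.Modules` and an affine open `U` on which `F`, `G` are localizing (e.g. quasi-coherent):

* `locMap hF hG m s`: the localization `Γ(F, D(s)) →+ Γ(G, D(s))` of a linear map `m : Γ(F, U) →ₗ[Γ(X, U)] Γ(G, U)`,
  with `locMap_res`, `locMap_smul_resO`, `locMap_smul`;
* `ext_of_res`: additive maps out of `Γ(F, D(s))` compatible with the action of `Γ(X, U)` are determined by their values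
  on restrictions of sections over `U`;
* `exists_hom_of_affine_family` / `hom_ext_of_affine_family`: GLUING: a family of linear maps
  `m k : Γ(F, U k) →ₗ Γ(G, U k)` over a family of affine opens `U k` covering `X`, such that each `U k ⊓ U k'` is covered
  by members of the family, natural for inclusions among the `U k`, comes from a unique morphism `F ⟶ G`.
-/

set_option autoImplicit false
universe u

open CategoryTheory AlgebraicGeometry TopologicalSpace Opposite
open AlgebraicGeometry.Scheme AlgebraicGeometry.Scheme.Modules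

namespace Groth.Agent.Lib.QCohHomGlue

open Groth.Agent.Lib.QCohStalk Groth.Agent.Lib.AssPush Groth.Agent.Lib.H90OXModFP
  Groth.Agent.Lib.H90OXModQcqs Groth.Agent.Lib.ModHomBasis

variable {X : Scheme.{u}}

/-- A function on `U` is a unit on every open contained in its basic open. -/
theorem isUnit_resO_of_le_basicOpen {U W : X.Opens} (s : Γ(X, U)) (h : W ≤ X.basicOpen s) :
    IsUnit (resO X (h.trans (X.basicOpen_le s)) s) := by
  have h1 : IsUnit (resO X (X.basicOpen_le s) s) := RingedSpace.isUnit_res_basicOpen X.toRingedSpace s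
  have h2 : resO X (h.trans (X.basicOpen_le s)) s = resO X h (resO X (X.basicOpen_le s) s) :=
    (resO_resO X h (X.basicOpen_le s) s).symm
  rw [h2]
  exact h1.map (X.presheaf.map (homOfLE h).op).hom

/-- Additive maps out of `Γ(F, D(s))`, compatible with the action of the functions on `U`, are determined by their
values on the restrictions of sections over `U`. -/
theorem ext_of_res {F G : X.Modules} {U : X.Opens} (hF : IsLocalizingOn F U) (s : Γ(X, U))
    {W : X.Opens} (hW : W ≤ X.basicOpen s) (a b : Γ(F, X.basicOpen s) →+ Γ(G, W))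
    (ha : ∀ (c : Γ(X, U)) (t : Γ(F, X.basicOpen s)),
      a (resO X (X.basicOpen_le s) c • t) = resO X (hW.trans (X.basicOpen_le s)) c • a t)
    (hb : ∀ (c : Γ(X, U)) (t : Γ(F, X.basicOpen s)),
      b (resO X (X.basicOpen_le s) c • t) = resO X (hW.trans (X.basicOpen_le s)) c • b t)
    (h : ∀ x : Γ(F, U), a (res F (X.basicOpen_le s) x) = b (res F (X.basicOpen_le s) x)) : a = b := by
  ext t
  obtain ⟨n, x, hx⟩ := hF.surj s t
  have hu : IsUnit (resO X (hW.trans (X.basicOpen_le s)) (s ^ n)) := by
    rw [resO_pow]; exact (isUnit_resO_of_le_basicOpen s hW).pow n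
  have e1 : resO X (X.basicOpen_le s) (s ^ n) • t = res F (X.basicOpen_le s) x := by
    rw [resO_pow]; exact hx
  have e2 : resO X (hW.trans (X.basicOpen_le s)) (s ^ n) • a t =
      resO X (hW.trans (X.basicOpen_le s)) (s ^ n) • b t := by
    rw [← ha, ← hb, e1, h]
  exact hu.smul_left_cancel.mp e2

section locMap

variable {F G : X.Modules} {U : X.Opens} (hF : IsLocalizingOn F U) (hG : IsLocalizingOn G U)

/-- The localization at `s` of a linear map between the sections over `U` of two modules localizing on `U`. -/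
noncomputable def locMap (m : Γ(F, U) →ₗ[Γ(X, U)] Γ(G, U)) (s : Γ(X, U)) :
    Γ(F, X.basicOpen s) →+ Γ(G, X.basicOpen s) :=
  letI := moduleBasicOpen F s
  letI := moduleBasicOpen G s
  haveI := isLocalizedModule_resBasicOpen F hF s
  haveI := isLocalizedModule_resBasicOpen G hG s
  (IsLocalizedModule.map (Submonoid.powers s) (resBasicOpen F s) (resBasicOpen G s) m).toAddMonoidHom

theorem locMap_res (m : Γ(F, U) →ₗ[Γ(X, U)] Γ(G, U)) (s : Γ(X, U)) (x : Γ(F, U)) :
    locMap hF hG m s (res F (X.basicOpen_le s) x) = res G (X.basicOpen_le s) (m x) := by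
  letI := moduleBasicOpen F s
  letI := moduleBasicOpen G s
  haveI := isLocalizedModule_resBasicOpen F hF s
  haveI := isLocalizedModule_resBasicOpen G hG s
  exact IsLocalizedModule.map_apply (Submonoid.powers s) (resBasicOpen F s) (resBasicOpen G s) m x

theorem locMap_smul_resO (m : Γ(F, U) →ₗ[Γ(X, U)] Γ(G, U)) (s : Γ(X, U)) (c : Γ(X, U))
    (t : Γ(F, X.basicOpen s)) :
    locMap hF hG m s (resO X (X.basicOpen_le s) c • t) =
      resO X (X.basicOpen_le s) c • locMap hF hG m s t := by
  letI := moduleBasicOpen F s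
  letI := moduleBasicOpen G s
  haveI := isLocalizedModule_resBasicOpen F hF s
  haveI := isLocalizedModule_resBasicOpen G hG s
  exact (IsLocalizedModule.map (Submonoid.powers s) (resBasicOpen F s) (resBasicOpen G s) m).map_smul c t

theorem locMap_smul (hU : IsAffineOpen U) (m : Γ(F, U) →ₗ[Γ(X, U)] Γ(G, U)) (s : Γ(X, U))
    (r : Γ(X, X.basicOpen s)) (t : Γ(F, X.basicOpen s)) :
    locMap hF hG m s (r • t) = r • locMap hF hG m s t := by
  haveI := hU.isLocalization_basicOpen s
  obtain ⟨n, c, hc⟩ := IsLocalization.Away.surj s r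
  have hc' : r * resO X (X.basicOpen_le s) (s ^ n) = resO X (X.basicOpen_le s) c := by
    rw [resO_pow]; exact hc
  have hu : IsUnit (resO X (X.basicOpen_le s) (s ^ n)) := by
    rw [resO_pow]; exact (isUnit_resO_of_le_basicOpen s le_rfl).pow n
  apply hu.smul_left_cancel.mp
  rw [← locMap_smul_resO, ← mul_smul, ← mul_smul, mul_comm, hc', locMap_smul_resO]

end locMap

section Glue

variable (F G : X.Modules) {κ : Type*} (U : κ → X.Opens)

/-- Two morphisms out of a quasi-coherent module which agree on the members of an affine open cover are equal. -/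
theorem hom_ext_of_affine_family [F.IsQuasicoherent] (hU : ∀ k, IsAffineOpen (U k))
    (hcov : ⨆ k, U k = ⊤) (u u' : F ⟶ G) (h : ∀ k (x : Γ(F, U k)), u.app (U k) x = u'.app (U k) x) :
    u = u' := by
  let B : (Σ k, Γ(X, U k)) → X.Opens := fun i => X.basicOpen i.2
  have hB : Opens.IsBasis (Set.range B) := by
    rw [Opens.isBasis_iff_nbhd]
    intro W x hx
    have hx' : x ∈ ⨆ k, U k := by rw [hcov]; trivial
    obtain ⟨k, hk⟩ := Opens.mem_iSup.mp hx'
    obtain ⟨s, hsW, hxs⟩ := (hU k).exists_basicOpen_le ⟨x, hx⟩ hk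
    exact ⟨_, ⟨⟨k, s⟩, rfl⟩, hxs, hsW⟩
  refine hom_ext_of_basis hB u u' ?_
  rintro ⟨k, s⟩
  have hF := isLocalizingOn_of_isQuasicoherent F (hU k)
  have key : (u.app (X.basicOpen s)).hom = (u'.app (X.basicOpen s)).hom := by
    refine ext_of_res hF s le_rfl _ _ ?_ ?_ ?_
    · intro c t
      exact Hom.app_smul u _ t
    · intro c t
      exact Hom.app_smul u' _ t
    · intro x
      have n1 := NatTrans.naturality_apply u.mapPresheaf (homOfLE (X.basicOpen_le s)).op x
      have n2 := NatTrans.naturality_apply u'.mapPresheaf (homOfLE (X.basicOpen_le s)).op x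
      change u.app (X.basicOpen s) (res F _ x) = u'.app (X.basicOpen s) (res F _ x)
      erw [n1, n2]
      exact congrArg _ (h k x)
  ext t
  exact congr($key t)

end Glue

section Compat

variable {F G : X.Modules}

/-- Compatibility of `locMap` with shrinking the affine open: if `m` over `U` and `m'` over `U' ≤ U` are compatible with
restriction, the localization of `m` at `s` and the localization of `m'` at `s|_{U'}` are compatible with restriction. -/
theorem locMap_res_of_le {U U' : X.Opens} (hF : IsLocalizingOn F U) (hG : IsLocalizingOn G U)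
    (hF' : IsLocalizingOn F U') (hG' : IsLocalizingOn G U') (h : U' ≤ U)
    (m : Γ(F, U) →ₗ[Γ(X, U)] Γ(G, U)) (m' : Γ(F, U') →ₗ[Γ(X, U')] Γ(G, U'))
    (nat : ∀ x : Γ(F, U), res G h (m x) = m' (res F h x)) (s : Γ(X, U))
    (hle : X.basicOpen (resO X h s) ≤ X.basicOpen s) (t : Γ(F, X.basicOpen s)) :
    res G hle (locMap hF hG m s t) = locMap hF' hG' m' (resO X h s) (res F hle t) := by
  let a : Γ(F, X.basicOpen s) →+ Γ(G, X.basicOpen (resO X h s)) :=
    (G.presheaf.map (homOfLE hle).op).hom.comp (locMap hF hG m s)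
  let b : Γ(F, X.basicOpen s) →+ Γ(G, X.basicOpen (resO X h s)) :=
    (locMap hF' hG' m' (resO X h s)).comp (F.presheaf.map (homOfLE hle).op).hom
  have key : a = b := by
    refine ext_of_res hF s hle a b ?_ ?_ ?_
    · intro c t
      change res G hle (locMap hF hG m s (resO X _ c • t)) = resO X _ c • res G hle (locMap hF hG m s t)
      rw [locMap_smul_resO, res_smul, resO_resO]
    · intro c t
      change locMap hF' hG' m' (resO X h s) (res F hle (resO X _ c • t)) =
        resO X _ c • locMap hF' hG' m' (resO X h s) (res F hle t)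
      rw [res_smul, resO_resO, ← resO_resO X (X.basicOpen_le (resO X h s)) h c, locMap_smul_resO]
    · intro x
      change res G hle (locMap hF hG m s (res F _ x)) =
        locMap hF' hG' m' (resO X h s) (res F hle (res F _ x))
      rw [locMap_res, res_res, res_res, ← res_res F (X.basicOpen_le (resO X h s)) h x, locMap_res, ← nat,
        res_res]
  exact DFunLike.congr_fun key t

end Compat

section Family

variable {F G : X.Modules} {κ : Type*} {U : κ → X.Opens}
  (hF : ∀ k, IsLocalizingOn F (U k)) (hG : ∀ k, IsLocalizingOn G (U k))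
  (hint : ∀ (k k' : κ) (x : X), x ∈ U k → x ∈ U k' → ∃ k'', x ∈ U k'' ∧ U k'' ≤ U k ∧ U k'' ≤ U k')
  (m : ∀ k, Γ(F, U k) →ₗ[Γ(X, U k)] Γ(G, U k))
  (nat : ∀ (k k' : κ) (h : U k' ≤ U k) (x : Γ(F, U k)), res G h (m k x) = m k' (res F h x))

include hint nat in
/-- The localization of `m k'` at `s'` is compatible with `m k` whenever `D(s') ≤ U k`. -/
theorem locMap_res_of_basicOpen_le (k k' : κ) (s' : Γ(X, U k')) (hle : X.basicOpen s' ≤ U k)
    (x : Γ(F, U k)) :
    locMap (hF k') (hG k') (m k') s' (res F hle x) = res G hle (m k x) := by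
  have hV : ∀ i : {k'' : κ // U k'' ≤ U k ∧ U k'' ≤ U k'},
      X.basicOpen (resO X i.2.2 s') ≤ X.basicOpen s' := fun i => by
    rw [basicOpen_resO]; exact inf_le_right
  refine res_ext G (X.basicOpen s') (fun i : {k'' : κ // U k'' ≤ U k ∧ U k'' ≤ U k'} =>
    X.basicOpen (resO X i.2.2 s')) hV ?_ _ _ ?_
  · intro y hy
    obtain ⟨k'', hy'', h1, h2⟩ := hint k k' y (hle hy) (X.basicOpen_le s' hy)
    refine Opens.mem_iSup.mpr ⟨⟨k'', h1, h2⟩, ?_⟩
    change y ∈ X.basicOpen (resO X h2 s')
    rw [basicOpen_resO]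
    exact ⟨hy'', hy⟩
  · rintro ⟨k'', h1, h2⟩
    rw [locMap_res_of_le (hF k') (hG k') (hF k'') (hG k'') h2 (m k') (m k'') (nat k' k'' h2) s' (hV ⟨k'', h1, h2⟩),
      res_res, ← res_res F (X.basicOpen_le (resO X h2 s')) h1 x, locMap_res, ← nat k k'' h1, res_res, res_res]

include hF hG hint nat in
/-- GLUING: a family of linear maps `m k : Γ(F, U k) →ₗ Γ(G, U k)` over a family of affine opens `U k` covering `X`, such
that each `U k ⊓ U k'` is covered by members of the family, natural for the inclusions among the `U k`, comes from a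
morphism `F ⟶ G`. -/
theorem exists_hom_of_family (hU : ∀ k, IsAffineOpen (U k)) (hcov : ⨆ k, U k = ⊤) :
    ∃ u : F ⟶ G, ∀ k (x : Γ(F, U k)), u.app (U k) x = m k x := by
  let B : (Σ k, Γ(X, U k)) → X.Opens := fun i => X.basicOpen i.2
  have hB : Opens.IsBasis (Set.range B) := by
    rw [Opens.isBasis_iff_nbhd]
    intro W x hx
    have hx' : x ∈ ⨆ k, U k := by rw [hcov]; trivial
    obtain ⟨k, hk⟩ := Opens.mem_iSup.mp hx'
    obtain ⟨s, hsW, hxs⟩ := (hU k).exists_basicOpen_le ⟨x, hx⟩ hk
    exact ⟨_, ⟨⟨k, s⟩, rfl⟩, hxs, hsW⟩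
  let φ : ∀ i, Γ(F, B i) ⟶ Γ(G, B i) := fun i => AddCommGrpCat.ofHom (locMap (hF i.1) (hG i.1) (m i.1) i.2)
  have hnat : ∀ (i j : Σ k, Γ(X, U k)) (h : B j ≤ B i) (t : Γ(F, B i)),
      G.presheaf.map (homOfLE h).op (φ i t) = φ j (F.presheaf.map (homOfLE h).op t) := by
    rintro ⟨k, s⟩ ⟨k', s'⟩ h t
    change res G h (locMap (hF k) (hG k) (m k) s t) = locMap (hF k') (hG k') (m k') s' (res F h t)
    let a : Γ(F, X.basicOpen s) →+ Γ(G, X.basicOpen s') :=
      (G.presheaf.map (homOfLE h).op).hom.comp (locMap (hF k) (hG k) (m k) s)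
    let b : Γ(F, X.basicOpen s) →+ Γ(G, X.basicOpen s') :=
      (locMap (hF k') (hG k') (m k') s').comp (F.presheaf.map (homOfLE h).op).hom
    have key : a = b := by
      refine ext_of_res (hF k) s h a b ?_ ?_ ?_
      · intro c t
        change res G h (locMap (hF k) (hG k) (m k) s (resO X _ c • t)) =
          resO X _ c • res G h (locMap (hF k) (hG k) (m k) s t)
        rw [locMap_smul_resO, res_smul, resO_resO]
      · intro c t
        change locMap (hF k') (hG k') (m k') s' (res F h (resO X _ c • t)) =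
          resO X _ c • locMap (hF k') (hG k') (m k') s' (res F h t)
        rw [res_smul, resO_resO, locMap_smul (hF k') (hG k') (hU k')]
      · intro x
        change res G h (locMap (hF k) (hG k) (m k) s (res F _ x)) =
          locMap (hF k') (hG k') (m k') s' (res F h (res F _ x))
        rw [locMap_res, res_res, res_res,
          locMap_res_of_basicOpen_le hF hG hint m nat k k' s' (h.trans (X.basicOpen_le s)) x]
    exact DFunLike.congr_fun key t
  have hlin : ∀ (i : Σ k, Γ(X, U k)) (r : Γ(X, B i)) (t : Γ(F, B i)), φ i (r • t) = r • φ i t := by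
    rintro ⟨k, s⟩ r t
    exact locMap_smul (hF k) (hG k) (hU k) (m k) s r t
  obtain ⟨u, hu⟩ := exists_hom_of_basis hB φ hnat hlin
  refine ⟨u, fun k x => ?_⟩
  refine res_ext G (U k) (fun s : Γ(X, U k) => X.basicOpen s) (fun s => X.basicOpen_le s) ?_ _ _ ?_
  · intro y hy
    obtain ⟨s, -, hys⟩ := (hU k).exists_basicOpen_le ⟨y, hy⟩ hy
    exact Opens.mem_iSup.mpr ⟨s, hys⟩
  · intro s
    have n1 := NatTrans.naturality_apply u.mapPresheaf (homOfLE (X.basicOpen_le s)).op x
    have e1 : res G (X.basicOpen_le s) (u.app (U k) x) = u.app (X.basicOpen s) (res F (X.basicOpen_le s) x) :=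
      n1.symm
    rw [e1, ← locMap_res (hF k) (hG k) (m k) s x]
    exact congr($(hu ⟨k, s⟩) (res F (X.basicOpen_le s) x))

end Family

section FamilyRel

variable {F G : X.Modules} {κ : Type*} {U : κ → X.Opens}
  (hF : ∀ k, IsLocalizingOn F (U k)) (hG : ∀ k, IsLocalizingOn G (U k))
  (rel : κ → κ → Prop) (hrel : ∀ k' k, rel k' k → U k' ≤ U k)
  (hint : ∀ (k k' : κ) (x : X), x ∈ U k → x ∈ U k' → ∃ k'', x ∈ U k'' ∧ rel k'' k ∧ rel k'' k')
  (m : ∀ k, Γ(F, U k) →ₗ[Γ(X, U k)] Γ(G, U k))
  (nat : ∀ (k k' : κ) (h : rel k' k) (x : Γ(F, U k)),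
    res G (hrel k' k h) (m k x) = m k' (res F (hrel k' k h) x))

include hint nat in
/-- Variant of `locMap_res_of_basicOpen_le` where naturality is only known along a relation `rel` (e.g. "is a basic
open of"). -/
theorem locMap_res_of_basicOpen_le_rel (k k' : κ) (s' : Γ(X, U k')) (hle : X.basicOpen s' ≤ U k)
    (x : Γ(F, U k)) :
    locMap (hF k') (hG k') (m k') s' (res F hle x) = res G hle (m k x) := by
  have hV : ∀ i : {k'' : κ // rel k'' k ∧ rel k'' k'},
      X.basicOpen (resO X (hrel _ _ i.2.2) s') ≤ X.basicOpen s' := fun i => by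
    rw [basicOpen_resO]; exact inf_le_right
  refine res_ext G (X.basicOpen s') (fun i : {k'' : κ // rel k'' k ∧ rel k'' k'} =>
    X.basicOpen (resO X (hrel _ _ i.2.2) s')) hV ?_ _ _ ?_
  · intro y hy
    obtain ⟨k'', hy'', h1, h2⟩ := hint k k' y (hle hy) (X.basicOpen_le s' hy)
    refine Opens.mem_iSup.mpr ⟨⟨k'', h1, h2⟩, ?_⟩
    change y ∈ X.basicOpen (resO X (hrel _ _ h2) s')
    rw [basicOpen_resO]
    exact ⟨hy'', hy⟩
  · rintro ⟨k'', h1, h2⟩
    rw [locMap_res_of_le (hF k') (hG k') (hF k'') (hG k'') (hrel _ _ h2) (m k') (m k'') (nat k' k'' h2) s'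
        (hV ⟨k'', h1, h2⟩),
      res_res, ← res_res F (X.basicOpen_le (resO X (hrel _ _ h2) s')) (hrel _ _ h1) x, locMap_res,
      ← nat k k'' h1, res_res, res_res]

include hF hG hint nat in
/-- GLUING (relative version): as `exists_hom_of_family`, but naturality of the `m k` is only required along a relation
`rel` (with `rel k' k → U k' ≤ U k`) such that every point of `U k ⊓ U k'` lies in some `U k''` with `rel k'' k` and
`rel k'' k'` — e.g. all affine opens with `rel` = "is a basic open of". -/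
theorem exists_hom_of_family_rel (hU : ∀ k, IsAffineOpen (U k)) (hcov : ⨆ k, U k = ⊤) :
    ∃ u : F ⟶ G, ∀ k (x : Γ(F, U k)), u.app (U k) x = m k x := by
  let B : (Σ k, Γ(X, U k)) → X.Opens := fun i => X.basicOpen i.2
  have hB : Opens.IsBasis (Set.range B) := by
    rw [Opens.isBasis_iff_nbhd]
    intro W x hx
    have hx' : x ∈ ⨆ k, U k := by rw [hcov]; trivial
    obtain ⟨k, hk⟩ := Opens.mem_iSup.mp hx'
    obtain ⟨s, hsW, hxs⟩ := (hU k).exists_basicOpen_le ⟨x, hx⟩ hk
    exact ⟨_, ⟨⟨k, s⟩, rfl⟩, hxs, hsW⟩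
  let φ : ∀ i, Γ(F, B i) ⟶ Γ(G, B i) := fun i => AddCommGrpCat.ofHom (locMap (hF i.1) (hG i.1) (m i.1) i.2)
  have hnat : ∀ (i j : Σ k, Γ(X, U k)) (h : B j ≤ B i) (t : Γ(F, B i)),
      G.presheaf.map (homOfLE h).op (φ i t) = φ j (F.presheaf.map (homOfLE h).op t) := by
    rintro ⟨k, s⟩ ⟨k', s'⟩ h t
    change res G h (locMap (hF k) (hG k) (m k) s t) = locMap (hF k') (hG k') (m k') s' (res F h t)
    let a : Γ(F, X.basicOpen s) →+ Γ(G, X.basicOpen s') :=
      (G.presheaf.map (homOfLE h).op).hom.comp (locMap (hF k) (hG k) (m k) s)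
    let b : Γ(F, X.basicOpen s) →+ Γ(G, X.basicOpen s') :=
      (locMap (hF k') (hG k') (m k') s').comp (F.presheaf.map (homOfLE h).op).hom
    have key : a = b := by
      refine ext_of_res (hF k) s h a b ?_ ?_ ?_
      · intro c t
        change res G h (locMap (hF k) (hG k) (m k) s (resO X _ c • t)) =
          resO X _ c • res G h (locMap (hF k) (hG k) (m k) s t)
        rw [locMap_smul_resO, res_smul, resO_resO]
      · intro c t
        change locMap (hF k') (hG k') (m k') s' (res F h (resO X _ c • t)) =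
          resO X _ c • locMap (hF k') (hG k') (m k') s' (res F h t)
        rw [res_smul, resO_resO, locMap_smul (hF k') (hG k') (hU k')]
      · intro x
        change res G h (locMap (hF k) (hG k) (m k) s (res F _ x)) =
          locMap (hF k') (hG k') (m k') s' (res F h (res F _ x))
        rw [locMap_res, res_res, res_res,
          locMap_res_of_basicOpen_le_rel hF hG rel hrel hint m nat k k' s' (h.trans (X.basicOpen_le s)) x]
    exact DFunLike.congr_fun key t
  have hlin : ∀ (i : Σ k, Γ(X, U k)) (r : Γ(X, B i)) (t : Γ(F, B i)), φ i (r • t) = r • φ i t := by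
    rintro ⟨k, s⟩ r t
    exact locMap_smul (hF k) (hG k) (hU k) (m k) s r t
  obtain ⟨u, hu⟩ := exists_hom_of_basis hB φ hnat hlin
  refine ⟨u, fun k x => ?_⟩
  refine res_ext G (U k) (fun s : Γ(X, U k) => X.basicOpen s) (fun s => X.basicOpen_le s) ?_ _ _ ?_
  · intro y hy
    obtain ⟨s, -, hys⟩ := (hU k).exists_basicOpen_le ⟨y, hy⟩ hy
    exact Opens.mem_iSup.mpr ⟨s, hys⟩
  · intro s
    have n1 := NatTrans.naturality_apply u.mapPresheaf (homOfLE (X.basicOpen_le s)).op x
    have e1 : res G (X.basicOpen_le s) (u.app (U k) x) = u.app (X.basicOpen s) (res F (X.basicOpen_le s) x) :=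
      n1.symm
    rw [e1, ← locMap_res (hF k) (hG k) (m k) s x]
    exact congr($(hu ⟨k, s⟩) (res F (X.basicOpen_le s) x))

end FamilyRel

end Groth.Agent.Lib.QCohHomGlue
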