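import Mathlib.LinearAlgebra.SymmetricAlgebra.Basic
import Mathlib.RingTheory.Localization.Module
import Mathlib.RingTheory.Localization.Away.Basic
import Mathlib.Algebra.Module.LocalizedModule.Basic

/-!
# Symmetric algebras: functoriality for semilinear maps and localization (helper28)

* `ringHom_ext`: ring homomorphisms out of `SymmetricAlgebra R M` are determined by their values on scalars and on `ι m`.
* `symMap g : SymmetricAlgebra R M →+* SymmetricAlgebra R' M'` for a `ρ`-semilinear map `g : M →ₛₗ[ρ] M'`, with
  `symMap_ι`, `symMap_algebraMap`, `symMap_id`, `symMap_comp`.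
* `isLocalization_away`: if `R'` is the localization of `R` at `r` and `g : M → M'` the localization of `M` at `r`, then
  `SymmetricAlgebra R' M'` is the localization of `SymmetricAlgebra R M` at `r` (through any ring homomorphism `θ` with
  `θ (ι m) = ι (g m)` and `θ a = a`).
-/

set_option autoImplicit false

open SymmetricAlgebra

namespace Groth.Agent.Lib.SymAlgLoc

section Ext

variable {R M T : Type*} [CommRing R] [AddCommGroup M] [Module R M] [Semiring T]

/-- Ring homomorphisms out of a symmetric algebra are determined on scalars and generators. -/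
theorem ringHom_ext {φ ψ : SymmetricAlgebra R M →+* T}
    (ha : ∀ a : R, φ (algebraMap R (SymmetricAlgebra R M) a) = ψ (algebraMap R (SymmetricAlgebra R M) a))
    (hι : ∀ m : M, φ (ι R M m) = ψ (ι R M m)) : φ = ψ := by
  refine RingHom.ext fun x => ?_
  induction x using SymmetricAlgebra.induction with
  | algebraMap r => exact ha r
  | ι x => exact hι x
  | mul a b ha hb => rw [map_mul, map_mul, ha, hb]
  | add a b ha hb => rw [map_add, map_add, ha, hb]

end Ext

section SymMap

variable {R R' R'' M M' M'' : Type*} [CommRing R] [CommRing R'] [CommRing R'']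
  [AddCommGroup M] [Module R M] [AddCommGroup M'] [Module R' M'] [AddCommGroup M''] [Module R'' M'']
  {ρ : R →+* R'} {ρ' : R' →+* R''}

/-- The ring homomorphism of symmetric algebras induced by a semilinear map. -/
noncomputable def symMap (g : M →ₛₗ[ρ] M') : SymmetricAlgebra R M →+* SymmetricAlgebra R' M' :=
  letI : Algebra R (SymmetricAlgebra R' M') :=
    ((algebraMap R' (SymmetricAlgebra R' M')).comp ρ).toAlgebra
  (SymmetricAlgebra.lift (R := R) (M := M) (A := SymmetricAlgebra R' M')
    { toFun := fun m => ι R' M' (g m)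
      map_add' := fun a b => by rw [map_add, map_add]
      map_smul' := fun a m => by
        rw [LinearMap.map_smulₛₗ, map_smul, RingHom.id_apply, Algebra.smul_def, Algebra.smul_def]
        rfl }).toRingHom

theorem symMap_ι (g : M →ₛₗ[ρ] M') (m : M) : symMap g (ι R M m) = ι R' M' (g m) := by
  letI : Algebra R (SymmetricAlgebra R' M') :=
    ((algebraMap R' (SymmetricAlgebra R' M')).comp ρ).toAlgebra
  exact SymmetricAlgebra.lift_ι_apply _ m

theorem symMap_algebraMap (g : M →ₛₗ[ρ] M') (a : R) :
    symMap g (algebraMap R (SymmetricAlgebra R M) a) = algebraMap R' (SymmetricAlgebra R' M') (ρ a) := by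
  letI : Algebra R (SymmetricAlgebra R' M') :=
    ((algebraMap R' (SymmetricAlgebra R' M')).comp ρ).toAlgebra
  exact AlgHom.commutes _ a

theorem symMap_id : symMap (LinearMap.id : M →ₗ[R] M) = RingHom.id (SymmetricAlgebra R M) :=
  ringHom_ext (fun a => by rw [symMap_algebraMap]; rfl) (fun m => by rw [symMap_ι]; rfl)

theorem symMap_comp [RingHomCompTriple ρ ρ' (ρ'.comp ρ)] (g : M →ₛₗ[ρ] M') (g' : M' →ₛₗ[ρ'] M'') :
    symMap (g'.comp g : M →ₛₗ[ρ'.comp ρ] M'') = (symMap g').comp (symMap g) :=
  ringHom_ext
    (fun a => by
      rw [symMap_algebraMap]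
      change _ = symMap g' (symMap g _)
      rw [symMap_algebraMap, symMap_algebraMap]; rfl)
    (fun m => by
      rw [symMap_ι]
      change _ = symMap g' (symMap g _)
      rw [symMap_ι, symMap_ι]; rfl)

end SymMap

section Loc

variable {R R' M M' : Type*} [CommRing R] [CommRing R'] [Algebra R R']
  [AddCommGroup M] [Module R M] [AddCommGroup M'] [Module R M'] [Module R' M'] [IsScalarTower R R' M']

/-- If `R'` is the localization of `R` at `r` and `g : M → M'` the localization of `M` at `r`, then
`SymmetricAlgebra R' M'` is the localization of `SymmetricAlgebra R M` at `r`. -/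
theorem isLocalization_away (r : R) [IsLocalization.Away r R'] (g : M →ₗ[R] M')
    [IsLocalizedModule (Submonoid.powers r) g]
    (θ : SymmetricAlgebra R M →+* SymmetricAlgebra R' M')
    (hθι : ∀ m, θ (ι R M m) = ι R' M' (g m))
    (hθa : ∀ a, θ (algebraMap R (SymmetricAlgebra R M) a) =
      algebraMap R' (SymmetricAlgebra R' M') (algebraMap R R' a)) :
    letI := θ.toAlgebra
    IsLocalization.Away (algebraMap R (SymmetricAlgebra R M) r) (SymmetricAlgebra R' M') := by
  letI := θ.toAlgebra
  let rA : SymmetricAlgebra R M := algebraMap R (SymmetricAlgebra R M) r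
  let L := Localization.Away rA
  have hru : IsUnit (algebraMap R R' r) := IsLocalization.Away.algebraMap_isUnit r
  have hu : IsUnit (θ rA) := by
    change IsUnit (θ (algebraMap R (SymmetricAlgebra R M) r))
    rw [hθa]; exact hru.map _
  let f1 : L →+* SymmetricAlgebra R' M' := IsLocalization.Away.lift rA hu
  have hf1 : ∀ a, f1 (algebraMap (SymmetricAlgebra R M) L a) = θ a := fun a =>
    IsLocalization.Away.lift_eq rA hu a
  have hrL : IsUnit (algebraMap (SymmetricAlgebra R M) L rA) :=
    IsLocalization.Away.algebraMap_isUnit rA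
  have hu2 : IsUnit (((algebraMap (SymmetricAlgebra R M) L).comp (algebraMap R (SymmetricAlgebra R M))) r) := hrL
  let σ : R' →+* L := IsLocalization.Away.lift r hu2
  have hσ : ∀ a : R, σ (algebraMap R R' a) =
      algebraMap (SymmetricAlgebra R M) L (algebraMap R (SymmetricAlgebra R M) a) := fun a =>
    IsLocalization.Away.lift_eq r hu2 a
  letI : Algebra R' L := σ.toAlgebra
  haveI : IsScalarTower R R' L := IsScalarTower.of_algebraMap_eq (fun a => by
    rw [IsScalarTower.algebraMap_apply R (SymmetricAlgebra R M) L]
    exact (hσ a).symm)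
  -- the linear map `M → L`
  let h : M →ₗ[R] L :=
    ((Algebra.linearMap (SymmetricAlgebra R M) L).restrictScalars R).comp (ι R M)
  have hunits : ∀ x : Submonoid.powers r, IsUnit ((algebraMap R (Module.End R L)) x) := by
    rintro ⟨_, n, rfl⟩
    have hx : IsUnit (algebraMap R L (r ^ n)) := by
      rw [IsScalarTower.algebraMap_apply R (SymmetricAlgebra R M) L, map_pow, map_pow]
      exact hrL.pow n
    rw [Module.End.isUnit_iff]
    constructor
    · intro a b hab
      have hab' : (r ^ n) • a = (r ^ n) • b := hab
      rw [Algebra.smul_def, Algebra.smul_def] at hab'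
      exact hx.mul_left_cancel hab'
    · intro b
      obtain ⟨c, hc⟩ := hx.exists_right_inv
      refine ⟨c * b, ?_⟩
      change (r ^ n) • (c * b) = b
      rw [Algebra.smul_def, ← mul_assoc, hc, one_mul]
  let l : M' →ₗ[R] L := IsLocalizedModule.lift (Submonoid.powers r) g h hunits
  have hl : ∀ m, l (g m) = algebraMap (SymmetricAlgebra R M) L (ι R M m) := fun m =>
    IsLocalizedModule.lift_apply (Submonoid.powers r) g h hunits m
  let l' : M' →ₗ[R'] L := l.extendScalarsOfIsLocalization (Submonoid.powers r) R'
  let f2 : SymmetricAlgebra R' M' →ₐ[R'] L := SymmetricAlgebra.lift l'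
  have hf2ι : ∀ m', f2 (ι R' M' m') = l m' := fun m' => SymmetricAlgebra.lift_ι_apply l' m'
  have hf2a : ∀ b : R', f2 (algebraMap R' (SymmetricAlgebra R' M') b) = σ b := fun b => f2.commutes b
  -- `f2 ∘ f1 = id`
  have h21 : ∀ x : L, f2 (f1 x) = x := by
    have e : (f2.toRingHom.comp f1) = RingHom.id L := by
      apply IsLocalization.ringHom_ext (Submonoid.powers rA)
      refine ringHom_ext (fun a => ?_) (fun m => ?_)
      · change f2 (f1 (algebraMap _ L (algebraMap R _ a))) = algebraMap _ L (algebraMap R _ a)
        rw [hf1, hθa, hf2a, hσ]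
      · change f2 (f1 (algebraMap _ L (ι R M m))) = algebraMap _ L (ι R M m)
        rw [hf1, hθι, hf2ι, hl]
    intro x
    exact congr($e x)
  -- `f1 ∘ f2 = id`
  have hf1σ : ∀ b : R', f1 (σ b) = algebraMap R' (SymmetricAlgebra R' M') b := by
    have e : f1.comp σ = algebraMap R' (SymmetricAlgebra R' M') := by
      apply IsLocalization.ringHom_ext (Submonoid.powers r)
      ext a
      change f1 (σ (algebraMap R R' a)) = algebraMap R' _ (algebraMap R R' a)
      rw [hσ, hf1, hθa]
    intro b
    exact congr($e b)
  have hf1l : ∀ m' : M', f1 (l m') = ι R' M' m' := by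
    intro m'
    obtain ⟨⟨m, ⟨_, n, rfl⟩⟩, hs⟩ := IsLocalizedModule.surj (Submonoid.powers r) g m'
    have hs' : (r ^ n) • m' = g m := hs
    have hc : IsUnit (algebraMap R' (SymmetricAlgebra R' M') (algebraMap R R' (r ^ n))) := by
      rw [map_pow, map_pow]; exact (hru.map _).pow n
    apply hc.mul_left_cancel
    have e1 : algebraMap R' (SymmetricAlgebra R' M') (algebraMap R R' (r ^ n)) * ι R' M' m' =
        ι R' M' (g m) := by
      rw [← hs', ← Algebra.smul_def, ← map_smul, algebraMap_smul]
    have e2 : algebraMap R' (SymmetricAlgebra R' M') (algebraMap R R' (r ^ n)) * f1 (l m') =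
        f1 (l (g m)) := by
      rw [← hs', map_smul, Algebra.smul_def, map_mul, IsScalarTower.algebraMap_apply R R' L]
      congr 1
      exact (hf1σ _).symm
    rw [e1, e2, hl, hf1, hθι]
  have h12 : ∀ y : SymmetricAlgebra R' M', f1 (f2 y) = y := by
    have e : (f1.comp f2.toRingHom) = RingHom.id (SymmetricAlgebra R' M') := by
      refine ringHom_ext (fun b => ?_) (fun m' => ?_)
      · change f1 (f2 (algebraMap R' _ b)) = algebraMap R' _ b
        rw [hf2a, hf1σ]
      · change f1 (f2 (ι R' M' m')) = ι R' M' m'
        rw [hf2ι, hf1l]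
    intro y
    exact congr($e y)
  let e : L ≃ₐ[SymmetricAlgebra R M] SymmetricAlgebra R' M' :=
    { toFun := f1
      invFun := f2
      left_inv := h21
      right_inv := h12
      map_mul' := map_mul f1
      map_add' := map_add f1
      commutes' := hf1 }
  exact IsLocalization.isLocalization_of_algEquiv (Submonoid.powers rA) e

end Loc

end Groth.Agent.Lib.SymAlgLoc
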