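import Groth.Agent.Lib.QCAlgOfAffine
import Groth.Agent.Lib.SymAlgLoc
import Groth.Agent.Lib.QCohHomGlue

/-!
# The symmetric algebra of a quasi-coherent module as a quasi-coherent algebra (helper28)

For a quasi-coherent module `E` on `S`: `symAlg E : RelSpec.QCAlg S` with sections `SymmetricAlgebra Γ(S,U) Γ(E,U)` over the
affine opens `U` (`symIso`), built through `Lib/QCAlgOfAffine` from the functor `symF E` on the affine Zariski site.
-/

set_option autoImplicit false
universe u

open CategoryTheory CategoryTheory.Limits AlgebraicGeometry TopologicalSpace Opposite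
open AlgebraicGeometry.Scheme AlgebraicGeometry.Scheme.Modules

noncomputable section

namespace Groth.Agent.Lib.SymQCAlg

open Groth.Agent.Lib.SymAlgLoc Groth.Agent.Lib.QCAlgOfAffine Groth.Agent.Lib.QCohStalk
  Groth.Agent.Lib.AssPush Groth.Agent.Lib.H90OXModFP

variable {S : Scheme.{u}} (E : S.Modules)

/-- Restriction of sections as a semilinear map. -/
def resSL {U V : S.Opens} (h : V ≤ U) :
    Γ(E, U) →ₛₗ[(S.presheaf.map (homOfLE h).op).hom] Γ(E, V) where
  toFun := res E h
  map_add' := fun a b => map_add (E.presheaf.map (homOfLE h).op).hom a b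
  map_smul' := fun r x => res_smul E h r x

@[simp] theorem resSL_apply {U V : S.Opens} (h : V ≤ U) (x : Γ(E, U)) : resSL E h x = res E h x := rfl

/-- The symmetric algebras `Sym_{O(U)} E(U)` over the affine opens, as a functor on the affine Zariski site. -/
def symF : S.AffineZariskiSiteᵒᵖ ⥤ CommRingCat.{u} where
  obj U := CommRingCat.of (SymmetricAlgebra Γ(S, U.unop.toOpens) Γ(E, U.unop.toOpens))
  map {U V} i := CommRingCat.ofHom (symMap (resSL E (Scheme.AffineZariskiSite.toOpens_mono i.unop.le)))
  map_id _ := by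
    apply CommRingCat.hom_ext
    refine ringHom_ext (fun a => ?_) (fun m => ?_)
    · rw [CommRingCat.hom_ofHom, symMap_algebraMap]
      change algebraMap _ _ (resO S (le_refl _) a) = algebraMap _ _ a
      rw [Groth.Agent.Lib.H90OXModQcqs.resO_self]
    · rw [CommRingCat.hom_ofHom, symMap_ι]
      change SymmetricAlgebra.ι _ _ (res E (le_refl _) m) = SymmetricAlgebra.ι _ _ m
      rw [res_self]
  map_comp {U V W} i j := by
    apply CommRingCat.hom_ext
    refine ringHom_ext (fun a => ?_) (fun m => ?_)
    · rw [CommRingCat.hom_comp, RingHom.comp_apply, CommRingCat.hom_ofHom, CommRingCat.hom_ofHom,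
        CommRingCat.hom_ofHom, symMap_algebraMap, symMap_algebraMap, symMap_algebraMap]
      congr 1
      exact (resO_resO S _ _ a).symm
    · rw [CommRingCat.hom_comp, RingHom.comp_apply, CommRingCat.hom_ofHom, CommRingCat.hom_ofHom,
        CommRingCat.hom_ofHom, symMap_ι, symMap_ι, symMap_ι]
      congr 1
      exact (res_res E _ _ m).symm

/-- The structure maps `O(U) → Sym_{O(U)} E(U)`. -/
def symStr : (Scheme.AffineZariskiSite.toOpensFunctor S).op ⋙ S.presheaf ⟶ symF E where
  app U := CommRingCat.ofHom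
    (algebraMap Γ(S, U.unop.toOpens) (SymmetricAlgebra Γ(S, U.unop.toOpens) Γ(E, U.unop.toOpens)))
  naturality {U V} i := by
    apply CommRingCat.hom_ext
    ext a
    exact (symMap_algebraMap (resSL E (Scheme.AffineZariskiSite.toOpens_mono i.unop.le)) a).symm

/-- A quasi-coherent algebra, as a module, is localizing on every affine open. -/
theorem isLocalizingOn_toModule (A : RelSpec.QCAlg S) {U : S.Opens} (hU : IsAffineOpen U) :
    IsLocalizingOn A.toModule U := by
  constructor
  · intro f t
    letI := (A.presheaf.map (homOfLE (S.basicOpen_le f)).op).hom.toAlgebra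
    haveI : IsLocalization.Away ((A.str.app (op U)).hom f) (A.presheaf.obj (op (S.basicOpen f))) := A.isQC U hU f
    obtain ⟨n, a, ha⟩ := IsLocalization.Away.surj ((A.str.app (op U)).hom f)
      (show A.presheaf.obj (op (S.basicOpen f)) from t)
    refine ⟨n, a, ?_⟩
    change (A.str.app (op (S.basicOpen f))).hom (resO S (S.basicOpen_le f) f ^ n) *
        (show A.presheaf.obj (op (S.basicOpen f)) from t) =
      (A.presheaf.map (homOfLE (S.basicOpen_le f)).op).hom a
    have hnat : (A.str.app (op (S.basicOpen f))).hom (resO S (S.basicOpen_le f) f) =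
        (A.presheaf.map (homOfLE (S.basicOpen_le f)).op).hom ((A.str.app (op U)).hom f) :=
      congr($(A.str.naturality (homOfLE (S.basicOpen_le f)).op) f)
    rw [map_pow, hnat, mul_comm]
    exact ha
  · intro f s hs
    letI := (A.presheaf.map (homOfLE (S.basicOpen_le f)).op).hom.toAlgebra
    haveI : IsLocalization.Away ((A.str.app (op U)).hom f) (A.presheaf.obj (op (S.basicOpen f))) := A.isQC U hU f
    have h0 : algebraMap (A.presheaf.obj (op U)) (A.presheaf.obj (op (S.basicOpen f)))
        (show A.presheaf.obj (op U) from s) =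
        algebraMap (A.presheaf.obj (op U)) (A.presheaf.obj (op (S.basicOpen f))) 0 := by
      rw [map_zero]; exact hs
    obtain ⟨⟨_, n, rfl⟩, hc⟩ := (IsLocalization.eq_iff_exists (Submonoid.powers ((A.str.app (op U)).hom f)) _).mp h0
    refine ⟨n, ?_⟩
    change (A.str.app (op U)).hom (f ^ n) * (show A.presheaf.obj (op U) from s) = 0
    rw [map_pow]
    simpa using hc


variable [E.IsQuasicoherent]

set_option backward.isDefEq.respectTransparency false in
theorem coequifibered : (symStr E).Coequifibered := by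
  rw [Scheme.AffineZariskiSite.coequifibered_iff_forall_isLocalizationAway]
  intro U f
  letI := moduleBasicOpen E f
  haveI := isScalarTower_basicOpen E f
  haveI : IsLocalization.Away f Γ(S, S.basicOpen f) := U.2.isLocalization_basicOpen f
  haveI := isLocalizedModule_resBasicOpen E (isLocalizingOn_of_isQuasicoherent E U.2) f
  exact isLocalization_away (R := Γ(S, U.toOpens)) (R' := Γ(S, S.basicOpen f)) (M := Γ(E, U.toOpens))
    (M' := Γ(E, S.basicOpen f)) f (resBasicOpen E f)
    ((symF E).map (homOfLE (U.basicOpen_le f)).op).hom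
    (fun m => symMap_ι (resSL E (Scheme.AffineZariskiSite.toOpens_mono (U.basicOpen_le f))) m)
    (fun a => symMap_algebraMap (resSL E (Scheme.AffineZariskiSite.toOpens_mono (U.basicOpen_le f))) a)

/-- The symmetric algebra of a quasi-coherent module, as a quasi-coherent algebra. -/
def symAlg : RelSpec.QCAlg S := alg (coequifibered E)


section Iso

variable (U : S.Opens) (hU : IsAffineOpen U)

/-- Over an affine open `U`, the sections of `symAlg E` are the symmetric algebra of `Γ(E, U)` over `Γ(S, U)`. -/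
def symIso : (symAlg E).presheaf.obj (op U) ≅ CommRingCat.of (SymmetricAlgebra Γ(S, U) Γ(E, U)) :=
  @asIso _ _ _ _ (gammaAff (coequifibered E) U hU) (isIso_gammaAff (coequifibered E) U hU)

theorem str_symIso : (symAlg E).str.app (op U) ≫ (symIso E U hU).hom =
    CommRingCat.ofHom (algebraMap Γ(S, U) (SymmetricAlgebra Γ(S, U) Γ(E, U))) :=
  str_gammaAff (coequifibered E) U hU

theorem symIso_hom_str (a : Γ(S, U)) :
    (symIso E U hU).hom ((symAlg E).str.app (op U) a) = algebraMap Γ(S, U) (SymmetricAlgebra Γ(S, U) Γ(E, U)) a :=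
  congr($(str_symIso E U hU) a)

theorem symIso_inv_algebraMap (a : Γ(S, U)) :
    (symIso E U hU).inv (algebraMap Γ(S, U) (SymmetricAlgebra Γ(S, U) Γ(E, U)) a) = (symAlg E).str.app (op U) a := by
  rw [← symIso_hom_str E U hU a]
  exact congr($((symIso E U hU).hom_inv_id) ((symAlg E).str.app (op U) a))

theorem symIso_naturality {U V : S.AffineZariskiSite} (i : V ≤ U) :
    (symAlg E).presheaf.map (homOfLE (Scheme.AffineZariskiSite.toOpens_mono i)).op ≫ (symIso E V.1 V.2).hom =
      (symIso E U.1 U.2).hom ≫ CommRingCat.ofHom (symMap (resSL E (Scheme.AffineZariskiSite.toOpens_mono i))) :=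
  gammaAff_naturality (coequifibered E) (homOfLE i)

theorem symIso_inv_naturality {U V : S.AffineZariskiSite} (i : V ≤ U)
    (y : SymmetricAlgebra Γ(S, U.1) Γ(E, U.1)) :
    (symAlg E).presheaf.map (homOfLE (Scheme.AffineZariskiSite.toOpens_mono i)).op ((symIso E U.1 U.2).inv y) =
      (symIso E V.1 V.2).inv (symMap (resSL E (Scheme.AffineZariskiSite.toOpens_mono i)) y) := by
  have h := symIso_naturality E i
  have h2 : (symIso E U.1 U.2).inv ≫ (symAlg E).presheaf.map (homOfLE (Scheme.AffineZariskiSite.toOpens_mono i)).op =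
      CommRingCat.ofHom (symMap (resSL E (Scheme.AffineZariskiSite.toOpens_mono i))) ≫ (symIso E V.1 V.2).inv := by
    rw [Iso.inv_comp_eq, ← Category.assoc, Iso.eq_comp_inv]
    exact h
  exact congr($h2 y)

end Iso


section J

/-- The canonical map `Γ(E, U) → Γ(Sym E, U)` over an affine open. -/
def jAff (U : S.Opens) (hU : IsAffineOpen U) : Γ(E, U) →ₗ[Γ(S, U)] Γ((symAlg E).toModule, U) where
  toFun x := (show Γ((symAlg E).toModule, U) from
    (symIso E U hU).inv (SymmetricAlgebra.ι Γ(S, U) Γ(E, U) x))
  map_add' x y := by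
    change (symIso E U hU).inv (SymmetricAlgebra.ι Γ(S, U) Γ(E, U) (x + y)) =
      (symIso E U hU).inv (SymmetricAlgebra.ι Γ(S, U) Γ(E, U) x) +
        (symIso E U hU).inv (SymmetricAlgebra.ι Γ(S, U) Γ(E, U) y)
    rw [map_add, map_add]
  map_smul' r x := by
    change (symIso E U hU).inv (SymmetricAlgebra.ι Γ(S, U) Γ(E, U) (r • x)) =
      (symAlg E).str.app (op U) r * (symIso E U hU).inv (SymmetricAlgebra.ι Γ(S, U) Γ(E, U) x)
    rw [LinearMap.map_smul, Algebra.smul_def, map_mul, symIso_inv_algebraMap]

theorem jAff_apply (U : S.Opens) (hU : IsAffineOpen U) (x : Γ(E, U)) :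
    (show (symAlg E).presheaf.obj (op U) from jAff E U hU x) =
      (symIso E U hU).inv (SymmetricAlgebra.ι Γ(S, U) Γ(E, U) x) := rfl

theorem exists_j : ∃ j : E ⟶ (symAlg E).toModule, ∀ (U : S.Opens) (hU : IsAffineOpen U) (x : Γ(E, U)),
    j.app U x = jAff E U hU x := by
  obtain ⟨j, hj⟩ := Groth.Agent.Lib.QCohHomGlue.exists_hom_of_family_rel
    (F := E) (G := (symAlg E).toModule) (κ := S.AffineZariskiSite) (U := fun k => k.toOpens)
    (fun k => isLocalizingOn_of_isQuasicoherent E k.2)
    (fun k => isLocalizingOn_toModule (symAlg E) k.2)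
    (fun V U => V ≤ U) (fun V U h => Scheme.AffineZariskiSite.toOpens_mono h)
    (by
      intro k k' x hx hx'
      obtain ⟨f, g, hfg, hxf⟩ := exists_basicOpen_le_affine_inter k.2 k'.2 x ⟨hx, hx'⟩
      refine ⟨k.basicOpen f, hxf, k.basicOpen_le f, ?_⟩
      exact ⟨g, hfg.symm⟩)
    (fun k => jAff E k.toOpens k.2)
    (by
      intro k k' h x
      exact symIso_inv_naturality E h (SymmetricAlgebra.ι _ _ x) |>.trans (by
        rw [symMap_ι]; rfl))
    (fun k => k.2)
    (by
      rw [eq_top_iff]
      intro x _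
      obtain ⟨_, ⟨U, hU, rfl⟩, hxU, -⟩ :=
        S.isBasis_affineOpens.exists_subset_of_mem_open (Set.mem_univ x) isOpen_univ
      exact Opens.mem_iSup.mpr ⟨⟨U, hU⟩, hxU⟩)
  exact ⟨j, fun U hU x => hj ⟨U, hU⟩ x⟩

/-- The canonical map `E ⟶ Sym E`. -/
def j : E ⟶ (symAlg E).toModule := (exists_j E).choose

theorem j_app (U : S.Opens) (hU : IsAffineOpen U) (x : Γ(E, U)) : (j E).app U x = jAff E U hU x :=
  (exists_j E).choose_spec U hU x

end J


section Universal

variable (B : RelSpec.QCAlg S) (φ : E ⟶ B.toModule)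

omit [E.IsQuasicoherent] in
theorem toModule_smul_def (U : S.Opens) (r : Γ(S, U)) (y : Γ(B.toModule, U)) :
    (show B.presheaf.obj (op U) from r • y) =
      (B.str.app (op U)).hom r * (show B.presheaf.obj (op U) from y) := rfl

/-- Over an open `U`: the ring map `Sym E(U) → B(U)` extending `φ(U)`. -/
def liftAff (U : S.Opens) : SymmetricAlgebra Γ(S, U) Γ(E, U) →+* B.presheaf.obj (op U) :=
  letI : Algebra Γ(S, U) (B.presheaf.obj (op U)) := (B.str.app (op U)).hom.toAlgebra
  (SymmetricAlgebra.lift (R := Γ(S, U)) (M := Γ(E, U)) (A := B.presheaf.obj (op U))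
    { toFun := fun x => (show B.presheaf.obj (op U) from φ.app U x)
      map_add' := fun x y => by
        change (show B.presheaf.obj (op U) from φ.app U (x + y)) = _
        rw [map_add]; rfl
      map_smul' := fun r x => by
        change (show B.presheaf.obj (op U) from φ.app U (r • x)) = _
        rw [Hom.app_smul, toModule_smul_def, Algebra.smul_def]; rfl }).toRingHom

omit [E.IsQuasicoherent] in
theorem liftAff_ι (U : S.Opens) (x : Γ(E, U)) :
    liftAff E B φ U (SymmetricAlgebra.ι Γ(S, U) Γ(E, U) x) = (show B.presheaf.obj (op U) from φ.app U x) := by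
  letI : Algebra Γ(S, U) (B.presheaf.obj (op U)) := (B.str.app (op U)).hom.toAlgebra
  exact SymmetricAlgebra.lift_ι_apply _ x

omit [E.IsQuasicoherent] in
theorem liftAff_algebraMap (U : S.Opens) (a : Γ(S, U)) :
    liftAff E B φ U (algebraMap Γ(S, U) (SymmetricAlgebra Γ(S, U) Γ(E, U)) a) = (B.str.app (op U)).hom a := by
  letI : Algebra Γ(S, U) (B.presheaf.obj (op U)) := (B.str.app (op U)).hom.toAlgebra
  exact AlgHom.commutes _ a

omit [E.IsQuasicoherent] in
theorem app_res (U V : S.Opens) (h : V ≤ U) (x : Γ(E, U)) :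
    (B.presheaf.map (homOfLE h).op).hom (show B.presheaf.obj (op U) from φ.app U x) =
      (show B.presheaf.obj (op V) from φ.app V (res E h x)) :=
  (NatTrans.naturality_apply φ.mapPresheaf (homOfLE h).op x).symm

/-- The natural transformation on the affine site. -/
def liftNat : symF E ⟶ (Scheme.AffineZariskiSite.toOpensFunctor S).op ⋙ B.presheaf where
  app U := CommRingCat.ofHom (liftAff E B φ U.unop.toOpens)
  naturality {U V} i := by
    apply CommRingCat.hom_ext
    refine ringHom_ext (fun a => ?_) (fun x => ?_)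
    · change liftAff E B φ V.unop.toOpens (symMap (resSL E _) (algebraMap _ _ a)) =
        (B.presheaf.map (homOfLE (Scheme.AffineZariskiSite.toOpens_mono i.unop.le)).op).hom
          (liftAff E B φ U.unop.toOpens (algebraMap _ _ a))
      rw [symMap_algebraMap, liftAff_algebraMap, liftAff_algebraMap]
      exact congr($(B.str.naturality (homOfLE (Scheme.AffineZariskiSite.toOpens_mono i.unop.le)).op) a)
    · change liftAff E B φ V.unop.toOpens (symMap (resSL E _) (SymmetricAlgebra.ι _ _ x)) =
        (B.presheaf.map (homOfLE (Scheme.AffineZariskiSite.toOpens_mono i.unop.le)).op).hom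
          (liftAff E B φ U.unop.toOpens (SymmetricAlgebra.ι _ _ x))
      rw [symMap_ι, liftAff_ι, liftAff_ι, app_res]
      rfl

theorem symStr_liftNat : symStr E ≫ liftNat E B φ =
    (Scheme.AffineZariskiSite.toOpensFunctor S).op.whiskerLeft B.str := by
  ext U a
  exact liftAff_algebraMap E B φ U.unop.toOpens a

/-- The algebra homomorphism `Sym E ⟶ B` extending `φ`. -/
def lift : symAlg E ⟶ B := homOfAffine (coequifibered E) B (liftNat E B φ) (symStr_liftNat E B φ)

theorem lift_app (U : S.Opens) (hU : IsAffineOpen U) (y : (symAlg E).presheaf.obj (op U)) :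
    (lift E B φ).hom.app (op U) y = liftAff E B φ U ((symIso E U hU).hom y) :=
  congr($(homOfAffine_app (coequifibered E) U hU B (liftNat E B φ) (symStr_liftNat E B φ)) y)

end Universal


section IsSym

omit [E.IsQuasicoherent] in
theorem toModuleMap_app {A B : RelSpec.QCAlg S} (ψ : A ⟶ B) (U : S.Opens) (y : Γ(A.toModule, U)) :
    (show B.presheaf.obj (op U) from (RelSpec.QCAlg.Hom.toModuleMap ψ).app U y) =
      (ψ.hom.app (op U)).hom (show A.presheaf.obj (op U) from y) := rfl

theorem j_lift (B : RelSpec.QCAlg S) (φ : E ⟶ B.toModule) :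
    j E ≫ RelSpec.QCAlg.Hom.toModuleMap (lift E B φ) = φ := by
  refine Groth.Agent.Lib.QCohHomGlue.hom_ext_of_affine_family E B.toModule
    (fun k : S.affineOpens => k.1) (fun k => k.2) (iSup_affineOpens_eq_top S) _ _ ?_
  intro k x
  change (show B.presheaf.obj (op k.1) from
    (RelSpec.QCAlg.Hom.toModuleMap (lift E B φ)).app k.1 ((j E).app k.1 x)) = _
  rw [toModuleMap_app, j_app E k.1 k.2 x, jAff_apply, lift_app E B φ k.1 k.2]
  have h : (symIso E k.1 k.2).hom ((symIso E k.1 k.2).inv (SymmetricAlgebra.ι _ _ x)) =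
      SymmetricAlgebra.ι _ _ x := congr($((symIso E k.1 k.2).inv_hom_id) (SymmetricAlgebra.ι _ _ x))
  rw [h, liftAff_ι]

theorem lift_unique (B : RelSpec.QCAlg S) (φ : E ⟶ B.toModule) (ψ : symAlg E ⟶ B)
    (hψ : j E ≫ RelSpec.QCAlg.Hom.toModuleMap ψ = φ) : ψ = lift E B φ := by
  refine Groth.Agent.Lib.QCAlgAffine.qcHom_ext_affine _ _ fun U hU => ?_
  apply CommRingCat.hom_ext
  have key : (ψ.hom.app (op U)).hom.comp (symIso E U hU).inv.hom =
      ((lift E B φ).hom.app (op U)).hom.comp (symIso E U hU).inv.hom := by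
    refine ringHom_ext (fun a => ?_) (fun x => ?_)
    · change (ψ.hom.app (op U)).hom ((symIso E U hU).inv (algebraMap _ _ a)) =
        ((lift E B φ).hom.app (op U)).hom ((symIso E U hU).inv (algebraMap _ _ a))
      rw [symIso_inv_algebraMap]
      have h1 : (ψ.hom.app (op U)).hom ((symAlg E).str.app (op U) a) = (B.str.app (op U)).hom a :=
        congr($(NatTrans.congr_app ψ.comm (op U)) a)
      have h2 : ((lift E B φ).hom.app (op U)).hom ((symAlg E).str.app (op U) a) = (B.str.app (op U)).hom a :=
        congr($(NatTrans.congr_app (lift E B φ).comm (op U)) a)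
      rw [h1, h2]
    · change (ψ.hom.app (op U)).hom ((symIso E U hU).inv (SymmetricAlgebra.ι _ _ x)) =
        ((lift E B φ).hom.app (op U)).hom ((symIso E U hU).inv (SymmetricAlgebra.ι _ _ x))
      rw [← jAff_apply E U hU x, ← j_app E U hU x, ← toModuleMap_app, ← toModuleMap_app]
      change (show B.presheaf.obj (op U) from (j E ≫ RelSpec.QCAlg.Hom.toModuleMap ψ).app U x) =
        (show B.presheaf.obj (op U) from (j E ≫ RelSpec.QCAlg.Hom.toModuleMap (lift E B φ)).app U x)
      rw [hψ, j_lift]
  ext y
  have hy : y = (symIso E U hU).inv ((symIso E U hU).hom y) :=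
    (congr($((symIso E U hU).hom_inv_id) y)).symm
  rw [hy]
  exact congr($key ((symIso E U hU).hom y))

/-- `symAlg E` with `j E` is the symmetric algebra of `E`. -/
theorem isSymAlg : RelSpec.IsSymAlg E (symAlg E) (j E) := fun B φ =>
  ⟨lift E B φ, j_lift E B φ, fun ψ hψ => lift_unique E B φ ψ hψ⟩

end IsSym


end Groth.Agent.Lib.SymQCAlg
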