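import Groth.Agent.Lib.H90QCAlg
import Groth.Agent.Lib.ModHomBasis
import Groth.Agent.Lib.SymQCAlg
import Groth.Prelude.Def_RelProj2

set_option autoImplicit false
universe u
open CategoryTheory AlgebraicGeometry TopologicalSpace Opposite
open scoped HomogeneousIdeal

namespace Groth.Agent.Lib.H60DegPart

variable {Y : Scheme.{u}} (𝒮 : RelProj.QCGrAlg Y)

/-- the degree `d` projection on sections over an affine open, as an additive map of sections of the module -/
noncomputable def projAdd (d : ℕ) (U : Y.Opens) (hU : IsAffineOpen U) :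
    Γ(𝒮.toModule, U) →+ Γ(𝒮.toModule, U) :=
  (GradedRing.proj (𝒮.deg U hU) d : 𝒮.presheaf.obj (op U) →+ 𝒮.presheaf.obj (op U))

theorem projAdd_apply (d : ℕ) (U : Y.Opens) (hU : IsAffineOpen U) (x : 𝒮.presheaf.obj (op U)) :
    (show 𝒮.presheaf.obj (op U) from projAdd 𝒮 d U hU x) = GradedRing.proj (𝒮.deg U hU) d x := rfl

/-- The projection of a quasi-coherent graded algebra onto its part of degree `d`, as a morphism of modules. -/
theorem exists_proj (d : ℕ) :
    ∃ π : 𝒮.toModule ⟶ 𝒮.toModule, ∀ (U : Y.Opens) (hU : IsAffineOpen U) (x : 𝒮.presheaf.obj (op U)),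
      (show 𝒮.presheaf.obj (op U) from π.app U x) = GradedRing.proj (𝒮.deg U hU) d x := by
  classical
  let B : Y.affineOpens → Y.Opens := fun U => U.1
  have hB : Opens.IsBasis (Set.range B) := by
    have : Set.range B = Y.affineOpens := Subtype.range_coe
    rw [this]
    exact Y.isBasis_affineOpens
  let φ : ∀ U : Y.affineOpens, Γ(𝒮.toModule, B U) ⟶ Γ(𝒮.toModule, B U) := fun U =>
    AddCommGrpCat.ofHom (projAdd 𝒮 d U.1 U.2)
  have hnat : ∀ (i j : Y.affineOpens) (h : B j ≤ B i) (s : Γ(𝒮.toModule, B i)),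
      𝒮.toModule.presheaf.map (homOfLE h).op (φ i s) = φ j (𝒮.toModule.presheaf.map (homOfLE h).op s) := by
    intro i j h s
    change 𝒮.res i.2 j.2 h (GradedRing.proj (𝒮.deg i.1 i.2) d (show 𝒮.presheaf.obj (op i.1) from s)) =
      GradedRing.proj (𝒮.deg j.1 j.2) d (𝒮.res i.2 j.2 h (show 𝒮.presheaf.obj (op i.1) from s))
    rw [GradedRing.proj_apply, GradedRing.proj_apply, GradedRingHom.map_directSumDecompose]
  have hlin : ∀ (i : Y.affineOpens) (r : Γ(Y, B i)) (s : Γ(𝒮.toModule, B i)), φ i (r • s) = r • φ i s := by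
    intro i r s
    change GradedRing.proj (𝒮.deg i.1 i.2) d
        ((𝒮.str.app (op i.1)).hom r * (show 𝒮.presheaf.obj (op i.1) from s)) =
      (𝒮.str.app (op i.1)).hom r * GradedRing.proj (𝒮.deg i.1 i.2) d (show 𝒮.presheaf.obj (op i.1) from s)
    rw [GradedRing.proj_apply, GradedRing.proj_apply]
    have h0 : (𝒮.str.app (op i.1)).hom r ∈ 𝒮.deg i.1 i.2 0 := 𝒮.str_mem i.1 i.2 r
    have := DirectSum.coe_decompose_mul_of_left_mem (𝒜 := 𝒮.deg i.1 i.2) (n := d) (i := 0)
      (a := (𝒮.str.app (op i.1)).hom r) (b := (show 𝒮.presheaf.obj (op i.1) from s)) h0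
    rw [if_pos (Nat.zero_le d), Nat.sub_zero] at this
    exact this
  obtain ⟨f, hf⟩ := Groth.Agent.Lib.ModHomBasis.exists_hom_of_basis (M := 𝒮.toModule)
    (N := 𝒮.toModule) hB φ hnat hlin
  refine ⟨f, fun U hU x => ?_⟩
  have h1 : f.app U = φ ⟨U, hU⟩ := hf ⟨U, hU⟩
  rw [h1]
  rfl

end Groth.Agent.Lib.H60DegPart
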