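import Groth.Agent.Lib.SymQCAlg

/-!
# Any symmetric algebra of a quasi-coherent module is the standard one (helper28)

For `(A, j)` with `RelSpec.IsSymAlg E A j` (`E` quasi-coherent): `A ≅ symAlg E` compatibly with `j`, hence over every
affine open `U` there is a ring isomorphism `A(U) ≃+* SymmetricAlgebra Γ(S,U) Γ(E,U)` carrying the structure map to the
algebra map and `j(U)` to `ι` (`exists_ringEquiv`).
-/

set_option autoImplicit false
universe u

open CategoryTheory CategoryTheory.Limits AlgebraicGeometry TopologicalSpace Opposite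
open AlgebraicGeometry.Scheme AlgebraicGeometry.Scheme.Modules

noncomputable section

namespace Groth.Agent.Lib.SymQCAlg

variable {S : Scheme.{u}} (E : S.Modules) [E.IsQuasicoherent]

omit [E.IsQuasicoherent] in
theorem toModuleMap_comp {A B C : RelSpec.QCAlg S} (ψ : A ⟶ B) (χ : B ⟶ C) :
    RelSpec.QCAlg.Hom.toModuleMap (ψ ≫ χ) =
      RelSpec.QCAlg.Hom.toModuleMap ψ ≫ RelSpec.QCAlg.Hom.toModuleMap χ := rfl

omit [E.IsQuasicoherent] in
theorem toModuleMap_id (A : RelSpec.QCAlg S) :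
    RelSpec.QCAlg.Hom.toModuleMap (𝟙 A) = 𝟙 A.toModule := rfl

/-- Uniqueness of the symmetric algebra: comparison maps. -/
theorem exists_iso_of_isSymAlg (A : RelSpec.QCAlg S) (jA : E ⟶ A.toModule) (hA : RelSpec.IsSymAlg E A jA) :
    ∃ (ψ : A ⟶ symAlg E) (ψ' : symAlg E ⟶ A), ψ ≫ ψ' = 𝟙 A ∧ ψ' ≫ ψ = 𝟙 (symAlg E) ∧
      jA ≫ RelSpec.QCAlg.Hom.toModuleMap ψ = j E ∧ j E ≫ RelSpec.QCAlg.Hom.toModuleMap ψ' = jA := by
  obtain ⟨ψ, hψ, -⟩ := hA (symAlg E) (j E)
  obtain ⟨ψ', hψ', -⟩ := isSymAlg E A jA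
  refine ⟨ψ, ψ', ?_, ?_, hψ, hψ'⟩
  · obtain ⟨χ, -, hχ⟩ := hA A jA
    have h1 : ψ ≫ ψ' = χ := hχ _ (by
      show jA ≫ RelSpec.QCAlg.Hom.toModuleMap (ψ ≫ ψ') = jA
      rw [toModuleMap_comp, ← Category.assoc, hψ, hψ'])
    have h2 : 𝟙 A = χ := hχ _ (by
      show jA ≫ RelSpec.QCAlg.Hom.toModuleMap (𝟙 A) = jA
      rw [toModuleMap_id, Category.comp_id])
    rw [h1, h2]
  · obtain ⟨χ, -, hχ⟩ := isSymAlg E (symAlg E) (j E)
    have h1 : ψ' ≫ ψ = χ := hχ _ (by
      show j E ≫ RelSpec.QCAlg.Hom.toModuleMap (ψ' ≫ ψ) = j E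
      rw [toModuleMap_comp, ← Category.assoc, hψ', hψ])
    have h2 : 𝟙 (symAlg E) = χ := hχ _ (by
      show j E ≫ RelSpec.QCAlg.Hom.toModuleMap (𝟙 (symAlg E)) = j E
      rw [toModuleMap_id, Category.comp_id])
    rw [h1, h2]

/-- Over an affine open `U`, any symmetric algebra `A` of `E` has `A(U) = Sym_{O(U)} E(U)`. -/
theorem exists_ringEquiv (A : RelSpec.QCAlg S) (jA : E ⟶ A.toModule) (hA : RelSpec.IsSymAlg E A jA)
    (U : S.Opens) (hU : IsAffineOpen U) :
    ∃ e : A.presheaf.obj (op U) ≃+* SymmetricAlgebra Γ(S, U) Γ(E, U),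
      (∀ a : Γ(S, U), e ((A.str.app (op U)).hom a) = algebraMap Γ(S, U) (SymmetricAlgebra Γ(S, U) Γ(E, U)) a) ∧
      (∀ x : Γ(E, U), e (show A.presheaf.obj (op U) from jA.app U x) = SymmetricAlgebra.ι Γ(S, U) Γ(E, U) x) := by
  obtain ⟨ψ, ψ', h1, h2, h3, h4⟩ := exists_iso_of_isSymAlg E A jA hA
  let f : A.presheaf.obj (op U) ⟶ CommRingCat.of (SymmetricAlgebra Γ(S, U) Γ(E, U)) :=
    ψ.hom.app (op U) ≫ (symIso E U hU).hom
  let g : CommRingCat.of (SymmetricAlgebra Γ(S, U) Γ(E, U)) ⟶ A.presheaf.obj (op U) :=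
    (symIso E U hU).inv ≫ ψ'.hom.app (op U)
  have hfg : f ≫ g = 𝟙 _ := by
    have this : ψ.hom.app (op U) ≫ ψ'.hom.app (op U) = 𝟙 _ := congr(($h1).hom.app (op U))
    simp only [f, g, Category.assoc, Iso.hom_inv_id_assoc]
    exact this
  have hgf : g ≫ f = 𝟙 _ := by
    have this : ψ'.hom.app (op U) ≫ ψ.hom.app (op U) = 𝟙 _ := congr(($h2).hom.app (op U))
    simp only [f, g, Category.assoc]
    rw [← Category.assoc (ψ'.hom.app (op U)), this, Category.id_comp, Iso.inv_hom_id]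
  let e : A.presheaf.obj (op U) ≃+* SymmetricAlgebra Γ(S, U) Γ(E, U) :=
    { toFun := f.hom
      invFun := g.hom
      left_inv := fun y => congr($hfg y)
      right_inv := fun y => congr($hgf y)
      map_mul' := map_mul f.hom
      map_add' := map_add f.hom }
  refine ⟨e, fun a => ?_, fun x => ?_⟩
  · change (symIso E U hU).hom ((ψ.hom.app (op U)).hom ((A.str.app (op U)).hom a)) = _
    have hc : (ψ.hom.app (op U)).hom ((A.str.app (op U)).hom a) = ((symAlg E).str.app (op U)).hom a :=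
      congr($(NatTrans.congr_app ψ.comm (op U)) a)
    rw [hc]
    exact symIso_hom_str E U hU a
  · change (symIso E U hU).hom ((ψ.hom.app (op U)).hom (show A.presheaf.obj (op U) from jA.app U x)) = _
    rw [← toModuleMap_app]
    have hj : (show (symAlg E).presheaf.obj (op U) from
        (RelSpec.QCAlg.Hom.toModuleMap ψ).app U (jA.app U x)) =
        (show (symAlg E).presheaf.obj (op U) from (j E).app U x) := by
      rw [← h3]; rfl
    rw [hj, j_app E U hU x, jAff_apply]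
    exact congr($((symIso E U hU).inv_hom_id) (SymmetricAlgebra.ι _ _ x))

end Groth.Agent.Lib.SymQCAlg
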