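import Groth.Agent.Lib.H60LineBundle
import Groth.Agent.Lib.SymQCAlgUniq
import Mathlib.LinearAlgebra.SymmetricAlgebra.Basis

/-!
# Local structure of the graded symmetric algebra of an invertible module

From `RelProj.IsGrSymAlg L 𝒮L j` (via helper28's `SymQCAlg.exists_ringEquiv`):
* `deg_one`: `j s ∈ 𝒮L(V)_1`;
* `isGenDegOne`: `𝒮L` is generated in degrees `0` and `1`;
* `bijective_eval₂`: if `s` is a free generator of `L` over the affine open `V`, then
  `Γ(V)[X] → 𝒮L(V)`, `X ↦ j s` is bijective.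
-/

set_option autoImplicit false
universe u
open CategoryTheory CategoryTheory.Limits AlgebraicGeometry TopologicalSpace Opposite
noncomputable section

namespace Groth.Agent.Lib.H60LineSym

open Groth.Agent.Lib.H60LineBundle Groth.Agent.Lib.H90Invertible

variable {X : Scheme.{u}} (L : X.Modules) (hLq : Coh.IsQCoh L)
  (𝒮L : RelProj.QCGrAlg X) (j : L ⟶ 𝒮L.toModule) (hj : RelProj.IsGrSymAlg L 𝒮L j)

include hj in
lemma deg_one (V : X.Opens) (hV : IsAffineOpen V) (s : Γ(L, V)) :
    jel L 𝒮L j V s ∈ 𝒮L.deg V hV 1 :=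
  hj.2 V hV s

include hLq hj in
lemma isGenDegOne : 𝒮L.IsGenDegOne := by
  haveI : L.IsQuasicoherent := hLq
  intro V hV
  obtain ⟨e, he1, he2⟩ := Groth.Agent.Lib.SymQCAlg.exists_ringEquiv L 𝒮L.toQCAlg j hj.1 V hV
  rw [eq_top_iff]
  rintro y -
  have key : ∀ z : SymmetricAlgebra Γ(X, V) Γ(L, V), e.symm z ∈
      Subring.closure (((𝒮L.deg V hV 0 : AddSubgroup (𝒮L.presheaf.obj (op V))) :
        Set (𝒮L.presheaf.obj (op V))) ∪ (𝒮L.deg V hV 1 : Set _)) := by
    intro z
    induction z using SymmetricAlgebra.induction with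
    | algebraMap a =>
      rw [← he1 a, RingEquiv.symm_apply_apply]
      exact Subring.subset_closure (Or.inl (𝒮L.str_mem V hV a))
    | ι x =>
      rw [← he2 x, RingEquiv.symm_apply_apply]
      exact Subring.subset_closure (Or.inr (hj.2 V hV x))
    | mul a b ha hb => rw [map_mul]; exact mul_mem ha hb
    | add a b ha hb => rw [map_add]; exact add_mem ha hb
  have := key (e y)
  rwa [RingEquiv.symm_apply_apply] at this

include hLq hj in
lemma bijective_eval₂ (V : X.Opens) (hV : IsAffineOpen V) (s : Γ(L, V)) (hs : IsGen L V s) :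
    Function.Bijective (Polynomial.eval₂RingHom (𝒮L.str.app (op V)).hom (jel L 𝒮L j V s)) := by
  haveI : L.IsQuasicoherent := hLq
  obtain ⟨e, he1, he2⟩ := Groth.Agent.Lib.SymQCAlg.exists_ringEquiv L 𝒮L.toQCAlg j hj.1 V hV
  -- the basis `{s}` of `Γ(L, V)`
  have hbij := hs V le_rfl
  have hres : L.presheaf.map (homOfLE (le_refl V)).op s = s := by
    have : (homOfLE (le_refl V)).op = 𝟙 (op V) := rfl
    rw [this, L.presheaf.map_id]
    rfl
  rw [hres] at hbij
  let ℓ : Γ(X, V) ≃ₗ[Γ(X, V)] Γ(L, V) :=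
    LinearEquiv.ofBijective
      { toFun := fun a ↦ a • s
        map_add' := fun a b ↦ add_smul a b s
        map_smul' := fun a b ↦ by
          change (a • b) • s = a • (b • s)
          rw [smul_eq_mul, mul_smul] } hbij
  let b : Module.Basis PUnit.{1} Γ(X, V) Γ(L, V) := (Module.Basis.singleton PUnit.{1} Γ(X, V)).map ℓ
  have hb : b PUnit.unit.{1} = s := by
    change ℓ ((Module.Basis.singleton PUnit.{1} Γ(X, V)) PUnit.unit.{1}) = s
    rw [Module.Basis.singleton_apply]
    exact one_smul _ s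
  let E : 𝒮L.presheaf.obj (op V) ≃+* Polynomial Γ(X, V) :=
    e.trans ((SymmetricAlgebra.equivMvPolynomial b).toRingEquiv.trans
      (MvPolynomial.uniqueAlgEquiv Γ(X, V) PUnit.{1}).toRingEquiv)
  have hE1 : ∀ a, E ((𝒮L.str.app (op V)).hom a) = Polynomial.C a := by
    intro a
    change (MvPolynomial.uniqueAlgEquiv Γ(X, V) PUnit.{1}) ((SymmetricAlgebra.equivMvPolynomial b)
      (e ((𝒮L.str.app (op V)).hom a))) = _
    rw [he1 a, AlgEquiv.commutes, AlgEquiv.commutes]
    rfl
  have hE2 : E (jel L 𝒮L j V s) = Polynomial.X := by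
    change (MvPolynomial.uniqueAlgEquiv Γ(X, V) PUnit.{1}) ((SymmetricAlgebra.equivMvPolynomial b)
      (e (jel L 𝒮L j V s))) = _
    have h2 := he2 s
    change e (jel L 𝒮L j V s) = _ at h2
    rw [h2, ← hb, SymmetricAlgebra.equivMvPolynomial_ι_apply]
    exact MvPolynomial.eval₂_X _ _ _
  have hcomp : (Polynomial.eval₂RingHom (𝒮L.str.app (op V)).hom (jel L 𝒮L j V s)) =
      E.symm.toRingHom := by
    apply Polynomial.ringHom_ext
    · intro a
      change Polynomial.eval₂ _ _ (Polynomial.C a) = E.symm (Polynomial.C a)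
      rw [Polynomial.eval₂_C, ← hE1 a, RingEquiv.symm_apply_apply]
    · change Polynomial.eval₂ _ _ Polynomial.X = E.symm Polynomial.X
      rw [Polynomial.eval₂_X, ← hE2, RingEquiv.symm_apply_apply]
  rw [hcomp]
  exact E.symm.bijective

end Groth.Agent.Lib.H60LineSym
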