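import Groth.Prelude.Def_RelProj
import Groth.Agent.Lib.ProjMapImm

/-!
# Morphisms of relative Proj's given chartwise by `Proj.map` (`RelProj.IsRelProjMap`)

* `over`: such a morphism is a morphism over the base.
* `of_forall`: a property local on the target holds for it if it holds for all the chartwise
  `Proj.map`s.
-/

set_option autoImplicit false

universe u

open CategoryTheory CategoryTheory.Limits AlgebraicGeometry Opposite TopologicalSpace
open scoped HomogeneousIdeal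

namespace Groth.Agent.Lib.RelProjMap

open RelProj

variable {Y PA PB : Scheme.{u}} {𝒜 ℬ : RelProj.QCGrAlg Y}
  (φ : 𝒜.toQCAlg ⟶ ℬ.toQCAlg) (hφ : RelProj.IsGradedHom φ)
  (hirr : ∀ (U : Y.Opens) (hU : IsAffineOpen U),
    (ℬ.deg U hU)₊ ≤ ((𝒜.deg U hU)₊).map (RelProj.gradedHomAt φ hφ U hU))
  {pA : PA ⟶ Y} {pB : PB ⟶ Y}
  {chartA : ∀ (U : Y.Opens) (hU : IsAffineOpen U),
    (((pA ⁻¹ᵁ U : PA.Opens) : Scheme.{u}) ≅ Proj (𝒜.deg U hU))}
  {chartB : ∀ (U : Y.Opens) (hU : IsAffineOpen U),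
    (((pB ⁻¹ᵁ U : PB.Opens) : Scheme.{u}) ≅ Proj (ℬ.deg U hU))}

include hφ in
lemma gradedHomAt_str (U : Y.Opens) (hU : IsAffineOpen U) (r : Γ(Y, U)) :
    RelProj.gradedHomAt φ hφ U hU (((𝒜.strZero U hU).hom r : 𝒜.deg U hU 0) : 𝒜.presheaf.obj (op U)) =
      (((ℬ.strZero U hU).hom r : ℬ.deg U hU 0) : ℬ.presheaf.obj (op U)) := by
  have h := congrArg (fun t => (t.app (op U)).hom r) φ.comm
  exact h

lemma iSup_preimage_affineOpens {P : Scheme.{u}} (p : P ⟶ Y) :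
    ⨆ U : Y.affineOpens, p ⁻¹ᵁ (U : Y.Opens) = ⊤ := by
  rw [← Scheme.Hom.preimage_iSup, iSup_affineOpens_eq_top, Scheme.Hom.preimage_top]

/-- A morphism of relative Proj's given chartwise by `Proj.map` is a morphism over the base. -/
theorem over (hA : RelProj.IsRelProj 𝒜 pA chartA) (hB : RelProj.IsRelProj ℬ pB chartB)
    (h : PB ⟶ PA) (hh : RelProj.IsRelProjMap φ hφ hirr chartA chartB h) : h ≫ pA = pB := by
  refine Scheme.hom_ext_of_forall _ _ fun x => ?_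
  have hx : x ∈ (⊤ : PB.Opens) := trivial
  rw [← iSup_preimage_affineOpens pB, Opens.mem_iSup] at hx
  obtain ⟨⟨U, hU'⟩, hxU⟩ := hx
  have hU : IsAffineOpen U := hU'
  refine ⟨pB ⁻¹ᵁ U, hxU, ?_⟩
  have e1 := hA.chart_over U hU
  have e2 := hB.chart_over U hU
  rw [← Iso.eq_inv_comp] at e1
  rw [← Category.assoc, hh U hU]
  simp only [Category.assoc]
  rw [← e1, ← e2]
  have e3 := ProjMapImm.map_toSpecZero (RelProj.gradedHomAt φ hφ U hU) (hirr U hU)
    (𝒜.strZero U hU) (ℬ.strZero U hU) (gradedHomAt_str φ hφ U hU)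
  rw [reassoc_of% e3]

/-- Preimages of the opens over `U` correspond. -/
theorem preimage_eq (hA : RelProj.IsRelProj 𝒜 pA chartA) (hB : RelProj.IsRelProj ℬ pB chartB)
    (h : PB ⟶ PA) (hh : RelProj.IsRelProjMap φ hφ hirr chartA chartB h) (U : Y.Opens) :
    h ⁻¹ᵁ (pA ⁻¹ᵁ U) = pB ⁻¹ᵁ U := by
  rw [← Scheme.Hom.comp_preimage, over φ hφ hirr hA hB h hh]

/-- The restriction of `h` over an affine open is isomorphic to the chartwise `Proj.map`. -/
theorem restrict_iso (hA : RelProj.IsRelProj 𝒜 pA chartA) (hB : RelProj.IsRelProj ℬ pB chartB)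
    (h : PB ⟶ PA) (hh : RelProj.IsRelProjMap φ hφ hirr chartA chartB h)
    (U : Y.Opens) (hU : IsAffineOpen U) :
    Nonempty (Arrow.mk (h ∣_ (pA ⁻¹ᵁ U)) ≅
      Arrow.mk (Proj.map (RelProj.gradedHomAt φ hφ U hU) (hirr U hU))) := by
  refine ⟨Arrow.isoMk (PB.isoOfEq (preimage_eq φ hφ hirr hA hB h hh U) ≪≫ chartB U hU)
    (chartA U hU) ?_⟩
  simp only [Arrow.mk_left, Arrow.mk_right, Arrow.mk_hom, Iso.trans_hom]
  rw [← cancel_mono ((chartA U hU).inv ≫ (pA ⁻¹ᵁ U).ι)]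
  simp only [Category.assoc, Iso.hom_inv_id_assoc, morphismRestrict_ι]
  rw [← hh U hU, Scheme.isoOfEq_hom_ι_assoc]

/-- A property local on the target holds for `h` as soon as it holds for the chartwise
`Proj.map`s. -/
theorem of_forall (P : MorphismProperty Scheme.{u}) [IsZariskiLocalAtTarget P]
    (hA : RelProj.IsRelProj 𝒜 pA chartA) (hB : RelProj.IsRelProj ℬ pB chartB)
    (h : PB ⟶ PA) (hh : RelProj.IsRelProjMap φ hφ hirr chartA chartB h)
    (H : ∀ (U : Y.Opens) (hU : IsAffineOpen U),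
      P (Proj.map (RelProj.gradedHomAt φ hφ U hU) (hirr U hU))) : P h := by
  refine IsZariskiLocalAtTarget.of_iSup_eq_top
    (fun U : Y.affineOpens => pA ⁻¹ᵁ (U : Y.Opens)) (iSup_preimage_affineOpens pA) fun U => ?_
  obtain ⟨e⟩ := restrict_iso φ hφ hirr hA hB h hh U.1 U.2
  exact (P.arrow_mk_iso_iff e).mpr (H U.1 U.2)

end Groth.Agent.Lib.RelProjMap
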