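import Groth.Prelude.Def_RelProj
import Groth.Agent.Lib.OpensGlue
import Groth.Agent.Lib.RelProjMap

/-!
# Gluing chartwise morphisms between relative Proj's

Given two relative Proj's `(PA, pA, chartA)` of `𝒜` and `(PB, pB, chartB)` of `ℬ` over `Y`, and a
family of morphisms `m U hU : Proj ℬ(U) ⟶ Proj 𝒜(U)` over the affine opens `U` of `Y`, compatible
with restriction to basic opens, there is a unique morphism `h : PB ⟶ PA` which over every affine
open is `m U hU` under the charts (`existsUnique_of_compat`).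
-/

set_option autoImplicit false

universe u

open CategoryTheory CategoryTheory.Limits AlgebraicGeometry Opposite TopologicalSpace
open scoped HomogeneousIdeal

namespace Groth.Agent.Lib.RelProjGlue

open RelProj

variable {Y PA PB : Scheme.{u}} {𝒜 ℬ : RelProj.QCGrAlg Y}
  {pA : PA ⟶ Y} {pB : PB ⟶ Y}
  (chartA : ∀ (U : Y.Opens) (hU : IsAffineOpen U),
    (((pA ⁻¹ᵁ U : PA.Opens) : Scheme.{u}) ≅ Proj (𝒜.deg U hU)))
  (chartB : ∀ (U : Y.Opens) (hU : IsAffineOpen U),
    (((pB ⁻¹ᵁ U : PB.Opens) : Scheme.{u}) ≅ Proj (ℬ.deg U hU)))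
  (m : ∀ (U : Y.Opens) (hU : IsAffineOpen U), Proj (ℬ.deg U hU) ⟶ Proj (𝒜.deg U hU))

/-- The morphism `pB⁻¹(U) ⟶ PA` given under the charts by `m U hU`. -/
noncomputable def chartHom (U : Y.Opens) (hU : IsAffineOpen U) :
    ((pB ⁻¹ᵁ U : PB.Opens) : Scheme.{u}) ⟶ PA :=
  (chartB U hU).hom ≫ m U hU ≫ (chartA U hU).inv ≫ (pA ⁻¹ᵁ U).ι

/-- The compatibility of a chartwise family with restriction to basic opens. -/
def Compat : Prop :=
  ∀ (U : Y.Opens) (hU : IsAffineOpen U) (r : Γ(Y, U)),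
    Proj.map (ℬ.res hU (hU.basicOpen r) (Y.basicOpen_le r)) (ℬ.irrelevant_le_map U hU r) ≫ m U hU =
      m (Y.basicOpen r) (hU.basicOpen r) ≫
        Proj.map (𝒜.res hU (hU.basicOpen r) (Y.basicOpen_le r)) (𝒜.irrelevant_le_map U hU r)

variable {chartA chartB m}

theorem chartHom_basicOpen (hA : RelProj.IsRelProj 𝒜 pA chartA)
    (hB : RelProj.IsRelProj ℬ pB chartB) (hm : Compat m)
    (U : Y.Opens) (hU : IsAffineOpen U) (r : Γ(Y, U)) (W : Y.Opens) (hW : IsAffineOpen W)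
    (e : W = Y.basicOpen r) :
    PB.homOfLE (pB.preimage_mono (e.le.trans (Y.basicOpen_le r))) ≫ chartHom chartA chartB m U hU =
      chartHom chartA chartB m W hW := by
  subst e
  have eA := hA.chart_res U hU r
  have eB := hB.chart_res U hU r
  have e1 : Proj.map (𝒜.res hU (hU.basicOpen r) (Y.basicOpen_le r)) (𝒜.irrelevant_le_map U hU r) ≫
      (chartA U hU).inv = (chartA (Y.basicOpen r) (hU.basicOpen r)).inv ≫
        PA.homOfLE (pA.preimage_mono (Y.basicOpen_le r)) := by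
    rw [Iso.eq_inv_comp, ← Category.assoc, Iso.comp_inv_eq, eA]
  unfold chartHom
  rw [reassoc_of% eB, reassoc_of% (hm U hU r), reassoc_of% e1, Scheme.homOfLE_ι]

/-- Gluing a compatible chartwise family of morphisms. -/
theorem existsUnique_of_compat (hA : RelProj.IsRelProj 𝒜 pA chartA)
    (hB : RelProj.IsRelProj ℬ pB chartB) (hm : Compat m) :
    ∃! h : PB ⟶ PA, ∀ (U : Y.Opens) (hU : IsAffineOpen U),
      (pB ⁻¹ᵁ U).ι ≫ h = chartHom chartA chartB m U hU := by
  obtain ⟨h, hh, huniq⟩ := OpensGlue.existsUnique_glue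
    (fun V : Y.affineOpens => pB ⁻¹ᵁ (V : Y.Opens))
    (RelProjMap.iSup_preimage_affineOpens pB)
    (fun V => chartHom chartA chartB m V.1 V.2) (by
      intro V₁ V₂ x hx₁ hx₂
      obtain ⟨f, g, hfg, hxf⟩ := exists_basicOpen_le_affine_inter V₁.2 V₂.2 (pB x) ⟨hx₁, hx₂⟩
      refine ⟨pB ⁻¹ᵁ Y.basicOpen f, pB.preimage_mono (Y.basicOpen_le f),
        pB.preimage_mono (hfg.le.trans (Y.basicOpen_le g)), hxf, ?_⟩
      rw [chartHom_basicOpen hA hB hm V₁.1 V₁.2 f (Y.basicOpen f) (V₁.2.basicOpen f) rfl,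
        chartHom_basicOpen hA hB hm V₂.1 V₂.2 g (Y.basicOpen f) (V₁.2.basicOpen f) hfg])
  refine ⟨h, fun U hU => hh ⟨U, hU⟩, fun h' hh' => huniq h' fun V => hh' V.1 V.2⟩

end Groth.Agent.Lib.RelProjGlue
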