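import Groth.Agent.Lib.H60AwayDegOne

/-!
# Graded polynomial rings in one variable of degree one: `A = R[T]`

Let `A = ⊕ 𝒜 n` be a graded ring, `σ : R →+* A` a ring homomorphism with values in `𝒜 0`,
`T ∈ 𝒜 1`, such that `R[X] → A`, `X ↦ T` is bijective (the sections of the symmetric algebra of
an invertible module over an affine open where the module is free).  Then
* `mem_deg_iff`: `a ∈ 𝒜 n ↔ ∃ r, a = σ r * T ^ n`;
* `T_notMem`: no point of `Proj 𝒜` contains `T`;
* `mul_pow_mem_iff`: `σ r * T ^ n ∈ w ↔ σ r ∈ w` for points `w` of `Proj 𝒜`;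
* `deg_subset_span_iff`: `𝒜 n ⊆ (σ r * T ^ n) ↔ IsUnit r`;
* `isNilpotent_mul_pow_iff`: `σ r * T ^ n` nilpotent iff `r` nilpotent.
-/

set_option autoImplicit false
universe u
open AlgebraicGeometry

namespace Groth.Agent.Lib.H60LineAlg

open Groth.Agent.Lib.H60AwayDegOne
open scoped Polynomial

variable {R A : Type u} [CommRing R] [CommRing A] (𝒜 : ℕ → AddSubgroup A) [GradedRing 𝒜]
  (σ : R →+* A) (hσ : ∀ r, σ r ∈ 𝒜 0) (T : A) (hT : T ∈ 𝒜 1)
  (hbij : Function.Bijective (Polynomial.eval₂RingHom σ T))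

include hσ hT in
lemma mul_pow_mem (r : R) (n : ℕ) : σ r * T ^ n ∈ 𝒜 n := by
  have h1 : T ^ n ∈ 𝒜 (n • 1) := SetLike.pow_mem_graded n hT
  have h2 := SetLike.GradedMul.mul_mem (hσ r) h1
  rwa [zero_add, smul_eq_mul, mul_one] at h2

include hσ hT hbij in
lemma mem_deg_iff (n : ℕ) (a : A) : a ∈ 𝒜 n ↔ ∃ r, a = σ r * T ^ n := by
  classical
  constructor
  · intro ha
    obtain ⟨P, rfl⟩ := hbij.surjective a
    refine ⟨P.coeff n, ?_⟩
    change Polynomial.eval₂ σ T P = _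
    change Polynomial.eval₂ σ T P ∈ 𝒜 n at ha
    have h1 : ((DirectSum.decompose 𝒜 (Polynomial.eval₂ σ T P) n : 𝒜 n) : A) =
        Polynomial.eval₂ σ T P := DirectSum.decompose_of_mem_same 𝒜 ha
    rw [← h1, Polynomial.eval₂_eq_sum, Polynomial.sum_def, DirectSum.decompose_sum,
      DFinsupp.finsetSum_apply, AddSubmonoidClass.coe_finsetSum]
    rw [Finset.sum_eq_single n]
    · exact DirectSum.decompose_of_mem_same 𝒜 (mul_pow_mem 𝒜 σ hσ T hT _ n)
    · intro k _ hk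
      exact DirectSum.decompose_of_mem_ne 𝒜 (mul_pow_mem 𝒜 σ hσ T hT _ k) hk
    · intro hn
      rw [Polynomial.notMem_support_iff.mp hn, map_zero, zero_mul, DirectSum.decompose_zero]
      rfl
  · rintro ⟨r, rfl⟩
    exact mul_pow_mem 𝒜 σ hσ T hT r n

include hσ hT hbij in
lemma T_notMem (w : Proj 𝒜) : T ∉ w.asHomogeneousIdeal := by
  intro hTw
  apply w.not_irrelevant_le
  rw [HomogeneousIdeal.irrelevant_le]
  intro n hn a ha
  obtain ⟨r, rfl⟩ := (mem_deg_iff 𝒜 σ hσ T hT hbij n a).mp ha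
  refine Ideal.mul_mem_left _ _ ?_
  obtain ⟨m, rfl⟩ := Nat.exists_eq_succ_of_ne_zero hn.ne'
  rw [pow_succ]
  exact Ideal.mul_mem_left _ _ hTw

include hσ hT hbij in
lemma mul_pow_mem_iff (w : Proj 𝒜) (r : R) (n : ℕ) :
    σ r * T ^ n ∈ w.asHomogeneousIdeal ↔ σ r ∈ w.asHomogeneousIdeal := by
  constructor
  · intro h
    rcases w.isPrime.mem_or_mem h with h1 | h1
    · exact h1
    · exact absurd (w.isPrime.mem_of_pow_mem n h1) (T_notMem 𝒜 σ hσ T hT hbij w)
  · intro h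
    exact Ideal.mul_mem_right _ _ h

include hσ hT hbij in
lemma deg_subset_span_iff (n : ℕ) (r : R) :
    ((𝒜 n : AddSubgroup A) : Set A) ⊆ (Ideal.span {σ r * T ^ n} : Set A) ↔ IsUnit r := by
  constructor
  · intro h
    have h1 : T ^ n ∈ Ideal.span {σ r * T ^ n} := by
      have := mul_pow_mem 𝒜 σ hσ T hT 1 n
      rw [map_one, one_mul] at this
      exact h this
    obtain ⟨b, hb⟩ := Ideal.mem_span_singleton'.mp h1
    have h2 := congrArg (ev1 σ T hbij) hb
    rw [map_mul, map_mul, map_pow, ev1_z, one_pow, mul_one, ev1_f] at h2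
    exact .of_mul_eq_one _ (by rw [mul_comm]; exact h2)
  · rintro ⟨v, rfl⟩ a ha
    obtain ⟨r', rfl⟩ := (mem_deg_iff 𝒜 σ hσ T hT hbij n a).mp ha
    refine Ideal.mem_span_singleton'.mpr ⟨σ (r' * ↑v⁻¹), ?_⟩
    rw [← mul_assoc, ← map_mul, mul_assoc r', Units.inv_mul, mul_one]

include hbij in
lemma isNilpotent_mul_pow_iff (n : ℕ) (r : R) : IsNilpotent (σ r * T ^ n) ↔ IsNilpotent r := by
  constructor
  · rintro ⟨k, hk⟩
    have h2 := congrArg (ev1 σ T hbij) hk
    rw [map_pow, map_mul, map_pow, ev1_z, one_pow, mul_one, ev1_f, map_zero] at h2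
    exact ⟨k, h2⟩
  · rintro ⟨k, hk⟩
    refine ⟨k, ?_⟩
    rw [mul_pow, ← map_pow, hk, map_zero, zero_mul]

/-- If a graded ring is generated by its parts of degree `0` and `1`, every point of `Proj`
avoids an element of degree one. -/
lemma exists_deg_one_notMem {A : Type u} [CommRing A] (𝒜 : ℕ → AddSubgroup A) [GradedRing 𝒜]
    (hgen : Subring.closure ((𝒜 0 : Set A) ∪ (𝒜 1 : Set A)) = ⊤) (x : Proj 𝒜) :
    ∃ g ∈ 𝒜 1, g ∉ x.asHomogeneousIdeal := by
  classical
  by_contra hcon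
  push Not at hcon
  apply x.not_irrelevant_le
  set I := x.asHomogeneousIdeal.toIdeal with hI
  have key : ∀ a : A, ∃ a0 ∈ 𝒜 0, a - a0 ∈ I := by
    intro a
    have ha : a ∈ Subring.closure ((𝒜 0 : Set A) ∪ (𝒜 1 : Set A)) := by rw [hgen]; trivial
    induction ha using Subring.closure_induction with
    | mem a ha =>
      rcases ha with h0 | h1
      · exact ⟨a, h0, by rw [sub_self]; exact zero_mem _⟩
      · exact ⟨0, zero_mem _, by rw [sub_zero]; exact hcon a h1⟩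
    | zero => exact ⟨0, zero_mem _, by rw [sub_zero]; exact zero_mem _⟩
    | one => exact ⟨1, SetLike.GradedOne.one_mem, by rw [sub_self]; exact zero_mem _⟩
    | add a b _ _ ha hb =>
      obtain ⟨a0, ha0, ha1⟩ := ha
      obtain ⟨b0, hb0, hb1⟩ := hb
      refine ⟨a0 + b0, add_mem ha0 hb0, ?_⟩
      have : a + b - (a0 + b0) = (a - a0) + (b - b0) := by ring
      rw [this]
      exact add_mem ha1 hb1
    | neg a _ ha =>
      obtain ⟨a0, ha0, ha1⟩ := ha
      refine ⟨-a0, neg_mem ha0, ?_⟩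
      have : -a - -a0 = -(a - a0) := by ring
      rw [this]
      exact neg_mem ha1
    | mul a b _ _ ha hb =>
      obtain ⟨a0, ha0, ha1⟩ := ha
      obtain ⟨b0, hb0, hb1⟩ := hb
      refine ⟨a0 * b0, ?_, ?_⟩
      · have := SetLike.GradedMul.mul_mem ha0 hb0
        rwa [add_zero] at this
      · have : a * b - a0 * b0 = (a - a0) * b + a0 * (b - b0) := by ring
        rw [this]
        exact add_mem (I.mul_mem_right _ ha1) (I.mul_mem_left _ hb1)
  rw [HomogeneousIdeal.irrelevant_le]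
  intro n hn b hb
  obtain ⟨b0, hb0, hb1⟩ := key b
  have h1 := x.asHomogeneousIdeal.isHomogeneous n hb1
  have h2 : ((DirectSum.decompose 𝒜 (b - b0) n : 𝒜 n) : A) = b := by
    rw [DirectSum.decompose_sub, DirectSum.sub_apply, AddSubgroupClass.coe_sub,
      DirectSum.decompose_of_mem_same 𝒜 hb, DirectSum.decompose_of_mem_ne 𝒜 hb0 hn.ne, sub_zero]
  rw [h2] at h1
  exact h1

/-- If `𝒜 n ⊆ (t)` for a ring generated in degrees `0` and `1`, no point of `Proj` contains `t`. -/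
lemma notMem_of_deg_subset_span {A : Type u} [CommRing A] (𝒜 : ℕ → AddSubgroup A) [GradedRing 𝒜]
    (hgen : Subring.closure ((𝒜 0 : Set A) ∪ (𝒜 1 : Set A)) = ⊤) (w : Proj 𝒜) (n : ℕ) (t : A)
    (h : ((𝒜 n : AddSubgroup A) : Set A) ⊆ (Ideal.span {t} : Set A)) :
    t ∉ w.asHomogeneousIdeal := by
  intro htw
  obtain ⟨g, hg, hgw⟩ := exists_deg_one_notMem 𝒜 hgen w
  have h1 : g ^ n ∈ 𝒜 (n • 1) := SetLike.pow_mem_graded n hg
  rw [smul_eq_mul, mul_one] at h1
  have h2 : g ^ n ∈ Ideal.span {t} := h h1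
  have h3 : g ^ n ∈ w.asHomogeneousIdeal.toIdeal :=
    ((Ideal.span_singleton_le_iff_mem (I := w.asHomogeneousIdeal.toIdeal)).mpr htw) h2
  exact hgw (w.isPrime.mem_of_pow_mem n h3)

end Groth.Agent.Lib.H60LineAlg
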