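import Groth.Prelude.Def_GrTwist
import Groth.Agent.Lib.H90Invertible
import Mathlib.Tactic.Ring
import Mathlib.Tactic.Linarith

/-!
# Twisting sheaves `GrTwist.twist` on `Proj` of a ring graded by additive subgroups (helper60)

A port of helper4's `Lib/H4Twist` + `Lib/H4TwistSec` (written for `Twist.twist`, gradings by
submodules over a base ring) to the frozen `GrTwist.twist` (gradings by any `AddSubgroupClass`).
Same names: `mk_mem_twistAt`, `mul_mem_twistAt`, `fUnit`, `mem_twistAt_mul_iff`, `sval`, `oval`,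
`sec_ext`, `oval_ext`, `exists_frac`, `gen`, `sval_gen`, `isGen_gen`, ...
-/

set_option autoImplicit false
universe u
open CategoryTheory AlgebraicGeometry TopologicalSpace Opposite GrTwist
open Groth.Agent.Lib.H90Invertible

namespace Groth.Agent.Lib.H60GrTwist


variable {A σ : Type u} [CommRing A] [SetLike σ A] [AddSubgroupClass σ A] {𝒜 : ℕ → σ} [GradedRing 𝒜]

section Pointwise

variable (x : ProjectiveSpectrum 𝒜)

theorem mk_mem_twistAt {n : ℤ} {i j : ℕ} (h : (i : ℤ) = j + n) {a s : A} (ha : a ∈ 𝒜 i) (hs : s ∈ 𝒜 j)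
    (hsx : s ∉ x.asHomogeneousIdeal) :
    (Localization.mk a ⟨s, hsx⟩ : Loc 𝒜 x) ∈ twistAt 𝒜 n x :=
  Submodule.subset_span ⟨i, j, ⟨a, ha⟩, ⟨s, hs⟩, hsx, h, rfl⟩

theorem one_notMem : (1 : A) ∉ x.asHomogeneousIdeal :=
  fun h => x.isPrime.ne_top ((Ideal.eq_top_iff_one _).mpr h)

theorem one_mem_twistAt : (1 : Loc 𝒜 x) ∈ twistAt 𝒜 0 x := by
  have := mk_mem_twistAt x (n := 0) (i := 0) (j := 0) (by simp) (a := 1) (s := 1)
    SetLike.GradedOne.one_mem SetLike.GradedOne.one_mem (one_notMem x)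
  rwa [show (Localization.mk (1 : A) ⟨1, one_notMem x⟩ : Loc 𝒜 x) = 1 from Localization.mk_one] at this

theorem twistAt_congr {m n : ℤ} (h : m = n) {q : Loc 𝒜 x} (hq : q ∈ twistAt 𝒜 m x) :
    q ∈ twistAt 𝒜 n x := h ▸ hq

theorem mul_mem_twistAt {m n : ℤ} {p q : Loc 𝒜 x} (hp : p ∈ twistAt 𝒜 m x)
    (hq : q ∈ twistAt 𝒜 n x) : p * q ∈ twistAt 𝒜 (m + n) x := by
  unfold twistAt at hp
  induction hp using Submodule.span_induction with
  | mem p hp =>
    obtain ⟨i, j, a, s, hs, hij, rfl⟩ := hp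
    unfold twistAt at hq
    induction hq using Submodule.span_induction with
    | mem q hq =>
      obtain ⟨i', j', a', s', hs', hij', rfl⟩ := hq
      rw [Localization.mk_mul]
      have hss : s.1 * s'.1 ∉ x.asHomogeneousIdeal := fun h =>
        (x.isPrime.mem_or_mem h).elim hs hs'
      exact mk_mem_twistAt x (i := i + i') (j := j + j') (by push_cast; linarith)
        (SetLike.mul_mem_graded a.2 a'.2) (SetLike.mul_mem_graded s.2 s'.2) hss
    | zero => rw [mul_zero]; exact Submodule.zero_mem _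
    | add q q' _ _ ih ih' => rw [mul_add]; exact Submodule.add_mem _ ih ih'
    | smul c q _ ih => rw [mul_smul_comm]; exact Submodule.smul_mem _ c ih
  | zero => rw [zero_mul]; exact Submodule.zero_mem _
  | add p p' _ _ ih ih' => rw [add_mul]; exact Submodule.add_mem _ ih ih'
  | smul c p _ ih => rw [smul_mul_assoc]; exact Submodule.smul_mem _ c ih

theorem pow_mem_twistAt {m : ℤ} {p : Loc 𝒜 x} (hp : p ∈ twistAt 𝒜 m x) (k : ℕ) :
    p ^ k ∈ twistAt 𝒜 (k * m) x := by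
  induction k with
  | zero => simpa using one_mem_twistAt x
  | succ k ih =>
    rw [pow_succ]
    exact twistAt_congr x (by push_cast; ring) (mul_mem_twistAt x ih hp)

theorem val_mem_twistAt_zero (c : A0 𝒜 x) : (c.val : Loc 𝒜 x) ∈ twistAt 𝒜 0 x := by
  obtain ⟨⟨i, a, s, hs⟩, rfl⟩ := HomogeneousLocalization.mk_surjective c
  rw [HomogeneousLocalization.val_mk]
  exact mk_mem_twistAt x (i := i) (j := i) (by simp) a.2 s.2 hs

theorem mem_twistAt_zero_iff {q : Loc 𝒜 x} : q ∈ twistAt 𝒜 0 x ↔ ∃ c : A0 𝒜 x, c.val = q := by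
  constructor
  · intro hq
    unfold twistAt at hq
    induction hq using Submodule.span_induction with
    | mem q hq =>
      obtain ⟨i, j, a, s, hs, hij, rfl⟩ := hq
      have hji : j = i := by
        have : (i : ℤ) = j := by simpa using hij
        exact_mod_cast this.symm
      subst hji
      exact ⟨HomogeneousLocalization.mk ⟨j, a, s, hs⟩, HomogeneousLocalization.val_mk _⟩
    | zero => exact ⟨0, HomogeneousLocalization.val_zero⟩
    | add q q' _ _ ih ih' =>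
      obtain ⟨c, rfl⟩ := ih
      obtain ⟨c', rfl⟩ := ih'
      exact ⟨c + c', HomogeneousLocalization.val_add _ _⟩
    | smul c q _ ih =>
      obtain ⟨c', rfl⟩ := ih
      refine ⟨c * c', ?_⟩
      rw [HomogeneousLocalization.val_mul, Algebra.smul_def,
        HomogeneousLocalization.algebraMap_apply]
  · rintro ⟨c, rfl⟩
    exact val_mem_twistAt_zero x c

/-- The unit `f / 1` of the localization at `x`, for `f ∉ x`. -/
def fUnit (f : A) (hf : f ∉ x.asHomogeneousIdeal) : (Loc 𝒜 x)ˣ where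
  val := Localization.mk f 1
  inv := Localization.mk 1 ⟨f, hf⟩
  val_inv := by
    rw [Localization.mk_mul, mul_one, one_mul]
    exact Localization.mk_self (⟨f, hf⟩ : x.asHomogeneousIdeal.toIdeal.primeCompl)
  inv_val := by
    rw [Localization.mk_mul, mul_one, one_mul]
    exact Localization.mk_self (⟨f, hf⟩ : x.asHomogeneousIdeal.toIdeal.primeCompl)

variable {x}

theorem fUnit_val {f : A} (hf : f ∉ x.asHomogeneousIdeal) :
    ((fUnit x f hf : (Loc 𝒜 x)ˣ) : Loc 𝒜 x) = Localization.mk f 1 := rfl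

theorem fUnit_inv_val {f : A} (hf : f ∉ x.asHomogeneousIdeal) :
    (((fUnit x f hf)⁻¹ : (Loc 𝒜 x)ˣ) : Loc 𝒜 x) = Localization.mk 1 ⟨f, hf⟩ := rfl

theorem fUnit_mem {f : A} (hf : f ∉ x.asHomogeneousIdeal) {d : ℕ} (hfd : f ∈ 𝒜 d) :
    ((fUnit x f hf : (Loc 𝒜 x)ˣ) : Loc 𝒜 x) ∈ twistAt 𝒜 d x :=
  mk_mem_twistAt x (i := d) (j := 0) (by simp) hfd SetLike.GradedOne.one_mem (one_notMem x)

theorem fUnit_inv_mem {f : A} (hf : f ∉ x.asHomogeneousIdeal) {d : ℕ} (hfd : f ∈ 𝒜 d) :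
    (((fUnit x f hf)⁻¹ : (Loc 𝒜 x)ˣ) : Loc 𝒜 x) ∈ twistAt 𝒜 (-(d : ℤ)) x :=
  mk_mem_twistAt x (i := 0) (j := d) (by simp) SetLike.GradedOne.one_mem hfd hf

theorem fUnit_zpow_mem {f : A} (hf : f ∉ x.asHomogeneousIdeal) {d : ℕ} (hfd : f ∈ 𝒜 d) (n : ℤ) :
    (((fUnit x f hf) ^ n : (Loc 𝒜 x)ˣ) : Loc 𝒜 x) ∈ twistAt 𝒜 (n * d) x := by
  obtain ⟨k, rfl | rfl⟩ := n.eq_nat_or_neg
  · rw [zpow_natCast, Units.val_pow_eq_pow_val]
    exact pow_mem_twistAt x (fUnit_mem hf hfd) k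
  · rw [zpow_neg, zpow_natCast, ← inv_pow, Units.val_pow_eq_pow_val]
    exact twistAt_congr x (by ring) (pow_mem_twistAt x (fUnit_inv_mem hf hfd) k)

/-- Fractions of degree `n * d` at `x` are the degree-zero fractions times `f ^ n`, for `f ∈ 𝒜 d`, `f ∉ x`. -/
theorem mem_twistAt_mul_iff {f : A} (hf : f ∉ x.asHomogeneousIdeal) {d : ℕ} (hfd : f ∈ 𝒜 d) (n : ℤ)
    {q : Loc 𝒜 x} :
    q ∈ twistAt 𝒜 (n * d) x ↔
      ∃ c : A0 𝒜 x, q = c.val * (((fUnit x f hf) ^ n : (Loc 𝒜 x)ˣ) : Loc 𝒜 x) := by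
  constructor
  · intro hq
    have h0 : q * (((fUnit x f hf) ^ (-n) : (Loc 𝒜 x)ˣ) : Loc 𝒜 x) ∈ twistAt 𝒜 0 x :=
      twistAt_congr x (by ring) (mul_mem_twistAt x hq (fUnit_zpow_mem hf hfd (-n)))
    obtain ⟨c, hc⟩ := (mem_twistAt_zero_iff x).mp h0
    refine ⟨c, ?_⟩
    rw [hc, mul_assoc, ← Units.val_mul, ← zpow_add, neg_add_cancel, zpow_zero, Units.val_one, mul_one]
  · rintro ⟨c, rfl⟩
    exact twistAt_congr x (by ring)
      (mul_mem_twistAt x (val_mem_twistAt_zero x c) (fUnit_zpow_mem hf hfd n))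

theorem val_injective : Function.Injective (fun c : A0 𝒜 x => (c.val : Loc 𝒜 x)) :=
  HomogeneousLocalization.val_injective _

end Pointwise





/-- The value in `A_x` of a section of `O(n)` at a point `x`. -/
def sval {n : ℤ} {U : (Proj 𝒜).Opens} (t : Γ(twist 𝒜 n, U)) (x : U) : Loc 𝒜 x.1 :=
  ((show sectN (𝒜 := 𝒜) n (op U) from t).1 x : Loc 𝒜 x.1)

/-- The value in `A_x` of a section of the structure sheaf at a point `x`. -/
def oval {U : (Proj 𝒜).Opens} (r : Γ(Proj 𝒜, U)) (x : U) : Loc 𝒜 x.1 :=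
  ((show O (𝒜 := 𝒜) (op U) from r).1 x).val

section Basic

variable {n : ℤ} {U V : (Proj 𝒜).Opens}

theorem sval_mem (t : Γ(twist 𝒜 n, U)) (x : U) : sval t x ∈ twistAt 𝒜 n x.1 :=
  ((show sectN (𝒜 := 𝒜) n (op U) from t).1 x).2

theorem sec_ext {t t' : Γ(twist 𝒜 n, U)} (h : ∀ x : U, sval t x = sval t' x) : t = t' := by
  apply Subtype.ext
  funext x
  exact Subtype.ext (h x)

theorem oval_ext {r r' : Γ(Proj 𝒜, U)} (h : ∀ x : U, oval r x = oval r' x) : r = r' := by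
  apply Subtype.ext
  funext x
  exact HomogeneousLocalization.val_injective _ (h x)

@[simp] theorem sval_smul (r : Γ(Proj 𝒜, U)) (t : Γ(twist 𝒜 n, U)) (x : U) :
    sval (r • t) x = oval r x * sval t x :=
  coe_smul_val n x.1 _ _

@[simp] theorem sval_add (t t' : Γ(twist 𝒜 n, U)) (x : U) : sval (t + t') x = sval t x + sval t' x := rfl

@[simp] theorem sval_zero (x : U) : sval (0 : Γ(twist 𝒜 n, U)) x = 0 := rfl

@[simp] theorem sval_map (h : V ≤ U) (t : Γ(twist 𝒜 n, U)) (x : V) :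
    sval ((twist 𝒜 n).presheaf.map (homOfLE h).op t) x = sval t ⟨x.1, h x.2⟩ := rfl

@[simp] theorem oval_map (h : V ≤ U) (r : Γ(Proj 𝒜, U)) (x : V) :
    oval ((Proj 𝒜).presheaf.map (homOfLE h).op r) x = oval r ⟨x.1, h x.2⟩ := rfl

@[simp] theorem oval_mul (r r' : Γ(Proj 𝒜, U)) (x : U) : oval (r * r') x = oval r x * oval r' x :=
  HomogeneousLocalization.val_mul _ _

@[simp] theorem oval_one (x : U) : oval (1 : Γ(Proj 𝒜, U)) x = 1 :=
  HomogeneousLocalization.val_one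

/-- Sections of `O(n)` are locally a single fraction. -/
theorem exists_frac (t : Γ(twist 𝒜 n, U)) (x : U) :
    ∃ (V : (Proj 𝒜).Opens) (_ : x.1 ∈ V) (hVU : V ≤ U) (i j : ℕ) (a : 𝒜 i) (s : 𝒜 j)
      (s_nin : ∀ y : V, s.1 ∉ y.1.asHomogeneousIdeal),
      ((i : ℤ) = j + n ∨ a.1 = 0) ∧
        ∀ y : V, sval t ⟨y.1, hVU y.2⟩ = Localization.mk a.1 ⟨s.1, s_nin y⟩ := by
  obtain ⟨V, hxV, iVU, i, j, a, s, s_nin, h, w⟩ := (show sectN (𝒜 := 𝒜) n (op U) from t).2 x
  exact ⟨V, hxV, iVU.le, i, j, a, s, s_nin, h, fun y => w y⟩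

end Basic

section Gen

variable {f : A} {d : ℕ} (hfd : f ∈ 𝒜 d)

include hfd in
/-- `f ^ n`, `n : ℤ`, is uniformly in `x` a fraction `N / D` with `deg N = deg D + n * d`. -/
theorem exists_zpow_eq_mk (n : ℤ) :
    ∃ (p q : ℕ) (N D : A) (_ : N ∈ 𝒜 p) (_ : D ∈ 𝒜 q), (p : ℤ) = q + n * d ∧
      ∀ (x : ProjectiveSpectrum 𝒜) (hf : f ∉ x.asHomogeneousIdeal),
        ∃ hD : D ∉ x.asHomogeneousIdeal,
          (((fUnit x f hf) ^ n : (Loc 𝒜 x)ˣ) : Loc 𝒜 x) = Localization.mk N ⟨D, hD⟩ := by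
  obtain ⟨k, rfl | rfl⟩ := n.eq_nat_or_neg
  · refine ⟨k • d, 0, f ^ k, 1, SetLike.pow_mem_graded k hfd, SetLike.GradedOne.one_mem,
      by simp, fun x hf => ⟨one_notMem x, ?_⟩⟩
    rw [zpow_natCast, Units.val_pow_eq_pow_val, fUnit_val, Localization.mk_pow]
    congr 1
    exact Subtype.ext (by simp)
  · refine ⟨0, k • d, 1, f ^ k, SetLike.GradedOne.one_mem, SetLike.pow_mem_graded k hfd,
      by simp, fun x hf => ⟨fun h => hf (x.isPrime.mem_of_pow_mem k h), ?_⟩⟩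
    rw [zpow_neg, zpow_natCast, ← inv_pow, Units.val_pow_eq_pow_val, fUnit_inv_val,
      Localization.mk_pow, one_pow]
    congr 1

variable {U : (Proj 𝒜).Opens} (hU : ∀ x : U, f ∉ x.1.asHomogeneousIdeal)

/-- The section `x ↦ f ^ n` of `O(n * d)` over an open on which `f ∈ 𝒜 d` vanishes nowhere. -/
def gen (n : ℤ) : Γ(twist 𝒜 (n * d), U) :=
  (⟨fun x => ⟨(((fUnit x.1 f (hU x)) ^ n : (Loc 𝒜 x.1)ˣ) : Loc 𝒜 x.1),
      fUnit_zpow_mem (hU x) hfd n⟩, by
    intro x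
    obtain ⟨p, q, N, D, hN, hD, hpq, h⟩ := exists_zpow_eq_mk hfd n
    exact ⟨U, x.2, 𝟙 U, p, q, ⟨N, hN⟩, ⟨D, hD⟩, fun y => (h y.1 (hU y)).1, Or.inl hpq,
      fun y => (h y.1 (hU y)).2⟩⟩ : sectN (𝒜 := 𝒜) (n * d) (op U))

@[simp] theorem sval_gen (n : ℤ) (x : U) :
    sval (gen hfd hU n) x = (((fUnit x.1 f (hU x)) ^ n : (Loc 𝒜 x.1)ˣ) : Loc 𝒜 x.1) := rfl

/-- `f ^ n` is a free generator of `O(n * d)` over any open on which `f ∈ 𝒜 d` vanishes nowhere. -/
theorem isGen_gen (n : ℤ) : IsGen (twist 𝒜 (n * d)) U (gen hfd hU n) := by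
  intro W hW
  constructor
  · intro a b hab
    dsimp only at hab
    refine oval_ext fun x => ?_
    have h1 := congrArg (fun t => sval t x) hab
    simp only [sval_smul, sval_map, sval_gen] at h1
    exact (Units.mul_left_inj _).mp h1
  · intro t
    -- choose the degree-zero part pointwise
    have hc : ∀ x : W, ∃ c : A0 𝒜 x.1, sval t x =
        c.val * (((fUnit x.1 f (hU ⟨x.1, hW x.2⟩)) ^ n : (Loc 𝒜 x.1)ˣ) : Loc 𝒜 x.1) :=
      fun x => (mem_twistAt_mul_iff (hU ⟨x.1, hW x.2⟩) hfd n).mp (sval_mem t x)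
    choose c hc using hc
    have hloc : (ProjectiveSpectrum.StructureSheaf.isLocallyFraction 𝒜).pred c := by
      intro x
      obtain ⟨V, hxV, hVW, i, j, a, s, s_nin, hij, w⟩ := exists_frac t x
      obtain ⟨p, q, N, D, hN, hD, hpq, h⟩ := exists_zpow_eq_mk hfd (-n)
      have hfV : ∀ y : V, f ∉ y.1.asHomogeneousIdeal := fun y => hU ⟨y.1, hW (hVW y.2)⟩
      have hsD : ∀ y : V, s.1 * D ∉ y.1.asHomogeneousIdeal := fun y hy =>
        (y.1.isPrime.mem_or_mem hy).elim (s_nin y) (h y.1 (hfV y)).1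
      have hval : ∀ y : V, (c ⟨y.1, hVW y.2⟩).val = Localization.mk (a.1 * N) ⟨s.1 * D, hsD y⟩ := by
        intro y
        have h1 := hc ⟨y.1, hVW y.2⟩
        have h2 : (c ⟨y.1, hVW y.2⟩).val = sval t ⟨y.1, hVW y.2⟩ *
            (((fUnit y.1 f (hfV y)) ^ (-n) : (Loc 𝒜 y.1)ˣ) : Loc 𝒜 y.1) := by
          rw [h1, mul_assoc, ← Units.val_mul, ← zpow_add, add_neg_cancel, zpow_zero, Units.val_one,
            mul_one]
        rw [h2, w y, (h y.1 (hfV y)).2, Localization.mk_mul]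
        rfl
      have hsDmem : s.1 * D ∈ 𝒜 (j + q) := SetLike.mul_mem_graded s.2 hD
      rcases hij with hij | ha
      · have hdeg : i + p = j + q := by
          have : ((i + p : ℕ) : ℤ) = ((j + q : ℕ) : ℤ) := by push_cast; linarith
          exact_mod_cast this
        have haN : a.1 * N ∈ 𝒜 (j + q) := hdeg ▸ SetLike.mul_mem_graded a.2 hN
        refine ⟨V, hxV, homOfLE hVW, j + q, ⟨a.1 * N, haN⟩, ⟨s.1 * D, hsDmem⟩, hsD, fun y => ?_⟩
        apply HomogeneousLocalization.val_injective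
        rw [HomogeneousLocalization.val_mk]
        exact hval y
      · refine ⟨V, hxV, homOfLE hVW, j + q, ⟨0, zero_mem _⟩, ⟨s.1 * D, hsDmem⟩, hsD, fun y => ?_⟩
        apply HomogeneousLocalization.val_injective
        rw [HomogeneousLocalization.val_mk]
        have := hval y
        rw [ha, zero_mul] at this
        exact this
    refine ⟨(⟨c, hloc⟩ : O (𝒜 := 𝒜) (op W)), sec_ext fun x => ?_⟩
    rw [sval_smul, sval_map, sval_gen]
    exact (hc x).symm

end Gen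


end Groth.Agent.Lib.H60GrTwist
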