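import Groth.Prelude.Def_RelProj2
import Groth.Agent.Lib.H60GrTwist
import Groth.Agent.Lib.H78SecCoord

/-!
# Relative twisting sheaves `RelProj.IsRelTwist`: transfer of sections to the charts (helper60)

For `(L, lam)` with `RelProj.IsRelTwist 𝒮 p chart n L lam` and an affine open `U` of the base,
`lamS U hU W : Γ(L, W) → Γ(O(n), ε⁻¹W)` (`ε = RelProj.emb p chart U hU`) is the map on sections;
* `lamS_bijective` (for `W ≤ p⁻¹U`), `lamS_add`, `lamS_smul`, `lamS_rs`;
* `isGen_of_lamS`: a section whose image generates `O(n)` over `ε⁻¹W` generates `L` over `W`;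
* `exists_isGen_image`: a generator of `O(n)` over an open `D` of `Proj 𝒮(U)` gives a generator
  of `L` over `ε(D)`.
-/

set_option autoImplicit false
universe u
open CategoryTheory CategoryTheory.Limits AlgebraicGeometry Opposite TopologicalSpace
open Groth.Agent.Lib.H90Invertible Groth.Agent.Lib.H78TensorGen

namespace Groth.Agent.Lib.H60RelTwist

variable {S P : Scheme.{u}} {𝒮 : RelProj.QCGrAlg S} {p : P ⟶ S}
  {chart : ∀ (U : S.Opens) (hU : IsAffineOpen U),
    (((p ⁻¹ᵁ U : P.Opens) : Scheme.{u}) ≅ Proj (𝒮.deg U hU))}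
  {n : ℤ} {L : P.Modules}
  {lam : ∀ (U : S.Opens) (hU : IsAffineOpen U),
    L ⟶ (Scheme.Modules.pushforward (RelProj.emb p chart U hU)).obj
      (GrTwist.twist (𝒮.deg U hU) n)}

lemma opensRange_emb (U : S.Opens) (hU : IsAffineOpen U) :
    (RelProj.emb p chart U hU).opensRange = p ⁻¹ᵁ U := by
  unfold RelProj.emb
  rw [Scheme.Hom.opensRange_comp_of_isIso]
  exact (p ⁻¹ᵁ U).opensRange_ι

variable (lam) in
/-- The map on sections induced by `lam U hU`. -/
noncomputable def lamS (U : S.Opens) (hU : IsAffineOpen U) (W : P.Opens) (s : Γ(L, W)) :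
    Γ(GrTwist.twist (𝒮.deg U hU) n, RelProj.emb p chart U hU ⁻¹ᵁ W) :=
  (lam U hU).app W s

lemma lamS_add (U : S.Opens) (hU : IsAffineOpen U) (W : P.Opens) (s t : Γ(L, W)) :
    lamS lam U hU W (s + t) = lamS lam U hU W s + lamS lam U hU W t :=
  map_add ((lam U hU).app W).hom s t

lemma lamS_smul (U : S.Opens) (hU : IsAffineOpen U) (W : P.Opens) (a : Γ(P, W)) (s : Γ(L, W)) :
    lamS lam U hU W (a • s) = ((RelProj.emb p chart U hU).app W a) • lamS lam U hU W s :=
  Scheme.Modules.Hom.app_smul (lam U hU) a s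

lemma lamS_rs (U : S.Opens) (hU : IsAffineOpen U) {W W' : P.Opens} (h : W' ≤ W) (s : Γ(L, W)) :
    lamS lam U hU W' (rs L h s) =
      rs (GrTwist.twist (𝒮.deg U hU) n)
        ((RelProj.emb p chart U hU).preimage_mono h) (lamS lam U hU W s) :=
  NatTrans.naturality_apply (lam U hU).mapPresheaf (homOfLE h).op s

lemma lamS_bijective (hL : RelProj.IsRelTwist 𝒮 p chart n L lam) (U : S.Opens)
    (hU : IsAffineOpen U) (W : P.Opens) (hW : W ≤ p ⁻¹ᵁ U) :
    Function.Bijective (lamS lam U hU W) :=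
  hL.bijective U hU W hW

/-- A section of `L` whose image in `O(n)` over the chart is a free generator is a free
generator. -/
theorem isGen_of_lamS (hL : RelProj.IsRelTwist 𝒮 p chart n L lam) (U : S.Opens)
    (hU : IsAffineOpen U) (W : P.Opens) (hW : W ≤ p ⁻¹ᵁ U) (s : Γ(L, W))
    (hs : IsGen (GrTwist.twist (𝒮.deg U hU) n) (RelProj.emb p chart U hU ⁻¹ᵁ W)
      (lamS lam U hU W s)) : IsGen L W s := by
  intro W₁ hW₁
  have h1 := hs (RelProj.emb p chart U hU ⁻¹ᵁ W₁) ((RelProj.emb p chart U hU).preimage_mono hW₁)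
  have hle : W₁ ≤ (RelProj.emb p chart U hU).opensRange := by
    rw [opensRange_emb]; exact hW₁.trans hW
  haveI := (RelProj.emb p chart U hU).isIso_app W₁ hle
  have h2 : Function.Bijective ((RelProj.emb p chart U hU).app W₁).hom :=
    (ConcreteCategory.isIso_iff_bijective ((RelProj.emb p chart U hU).app W₁)).mp inferInstance
  have h3 := lamS_bijective hL U hU W₁ (hW₁.trans hW)
  have key : (lamS lam U hU W₁) ∘ (fun a : Γ(P, W₁) => a • L.presheaf.map (homOfLE hW₁).op s) =
      (fun b : Γ(Proj (𝒮.deg U hU), RelProj.emb p chart U hU ⁻¹ᵁ W₁) =>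
        b • (GrTwist.twist (𝒮.deg U hU) n).presheaf.map
          (homOfLE ((RelProj.emb p chart U hU).preimage_mono hW₁)).op (lamS lam U hU W s)) ∘
        ((RelProj.emb p chart U hU).app W₁).hom := by
    funext a
    simp only [Function.comp_apply]
    rw [lamS_smul]
    congr 1
    exact lamS_rs U hU hW₁ s
  have h4 : Function.Bijective ((lamS lam U hU W₁) ∘
      (fun a : Γ(P, W₁) => a • L.presheaf.map (homOfLE hW₁).op s)) := by
    rw [key]; exact h1.comp h2
  exact (Function.Bijective.of_comp_iff' h3 _).mp h4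

/-- A free generator of `O(n)` over an open `D` of the chart `Proj 𝒮(U)` gives a free generator of
`L` over the image of `D` in `P`. -/
theorem exists_isGen_image (hL : RelProj.IsRelTwist 𝒮 p chart n L lam) (U : S.Opens)
    (hU : IsAffineOpen U) (D : (Proj (𝒮.deg U hU)).Opens)
    (g : Γ(GrTwist.twist (𝒮.deg U hU) n, D)) (hg : IsGen (GrTwist.twist (𝒮.deg U hU) n) D g) :
    ∃ s : Γ(L, RelProj.emb p chart U hU ''ᵁ D), IsGen L (RelProj.emb p chart U hU ''ᵁ D) s := by
  have hW : RelProj.emb p chart U hU ''ᵁ D ≤ p ⁻¹ᵁ U := by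
    rw [← opensRange_emb (chart := chart)]
    exact (RelProj.emb p chart U hU).image_le_opensRange D
  have he : RelProj.emb p chart U hU ⁻¹ᵁ (RelProj.emb p chart U hU ''ᵁ D) = D :=
    (RelProj.emb p chart U hU).preimage_image_eq D
  obtain ⟨s, hs⟩ := (lamS_bijective hL U hU _ hW).2
    (rs (GrTwist.twist (𝒮.deg U hU) n) he.le g)
  refine ⟨s, isGen_of_lamS hL U hU _ hW s ?_⟩
  rw [hs]
  exact hg.mono he.le

end Groth.Agent.Lib.H60RelTwist
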