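import Groth.Prelude.Def_RelProj2
import Groth.Agent.Lib.H60RelTwist

/-!
# Relative twisting sheaves: the generator `f ^ n` of `O_P(n d)` over `X_f` (helper60)

For a global section `f` of `𝒮` of degree `d` and the open `X_f ⊆ P = Proj(𝒮)` (chartwise `D₊(f|U)`),
`exists_glued` produces the section of an `IsRelTwist … k` module (`k = n * d`) over `X_f` that reads
`(f|U / 1) ^ n` on every chart; it is a free generator.
Also: `locMap_fUnit_zpow`, `fUnit_congr`, `fU`, `res_fU`, `emb_preimage`, `exists_gen_val`.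
-/

set_option autoImplicit false
universe u
open CategoryTheory CategoryTheory.Limits AlgebraicGeometry Opposite TopologicalSpace
open scoped HomogeneousIdeal
noncomputable section

namespace Groth.Agent.Lib.H60RelTwistGen

open Groth.Agent.Lib.H90Invertible Groth.Agent.Lib.H78TensorGen Groth.Agent.Lib.H60GrTwist
  Groth.Agent.Lib.H60RelTwist GrTwist

section ring
variable {A σ : Type u} [CommRing A] [SetLike σ A] [AddSubgroupClass σ A] {𝒜 : ℕ → σ} [GradedRing 𝒜]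
variable {B τ : Type u} [CommRing B] [SetLike τ B] [AddSubgroupClass τ B] {ℬ : ℕ → τ} [GradedRing ℬ]
variable (ψ : 𝒜 →+*ᵍ ℬ) (hψ : ℬ₊ ≤ (𝒜₊).map ψ)

lemma locMap_fUnit_zpow (y : ProjectiveSpectrum ℬ) (f : A)
    (hf : f ∉ (ProjectiveSpectrum.comap ψ hψ y).asHomogeneousIdeal)
    (hf' : ψ f ∉ y.asHomogeneousIdeal) (n : ℤ) :
    locMap ψ hψ y (((fUnit _ f hf) ^ n : (Loc 𝒜 _)ˣ) : Loc 𝒜 _) =
      (((fUnit y (ψ f) hf') ^ n : (Loc ℬ y)ˣ) : Loc ℬ y) := by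
  have h1 : Units.map (locMap ψ hψ y).toMonoidHom (fUnit _ f hf) = fUnit y (ψ f) hf' := by
    apply Units.ext
    rw [Units.coe_map, fUnit_val, fUnit_val]
    change locMap ψ hψ y (Localization.mk f 1) = _
    rw [locMap_mk]
    congr 1
    exact Subtype.ext (map_one ψ)
  rw [← h1, ← map_zpow, Units.coe_map]
  rfl

end ring


section main

variable {Y P : Scheme.{u}} {𝒮 : RelProj.QCGrAlg Y} {p : P ⟶ Y}
  {chart : ∀ (U : Y.Opens) (hU : IsAffineOpen U),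
    (((p ⁻¹ᵁ U : P.Opens) : Scheme.{u}) ≅ Proj (𝒮.deg U hU))}

/-- `f` restricted to `U`. -/
def fU (f : 𝒮.presheaf.obj (op ⊤)) (U : Y.Opens) : 𝒮.presheaf.obj (op U) :=
  (𝒮.presheaf.map (homOfLE le_top).op).hom f

lemma res_fU (f : 𝒮.presheaf.obj (op ⊤)) {U V : Y.Opens} (hU : IsAffineOpen U)
    (hV : IsAffineOpen V) (i : V ≤ U) : 𝒮.res hU hV i (fU f U) = fU f V := by
  rw [RelProj.QCGrAlg.res_apply]
  unfold fU
  rw [← CommRingCat.comp_apply, ← Functor.map_comp]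
  rfl

lemma emb_preimage (U : Y.Opens) (hU : IsAffineOpen U) (D : (Proj (𝒮.deg U hU)).Opens) :
    RelProj.emb p chart U hU ⁻¹ᵁ ((p ⁻¹ᵁ U).ι ''ᵁ ((chart U hU).hom ⁻¹ᵁ D)) = D := by
  unfold RelProj.emb
  rw [Scheme.Hom.comp_preimage, Scheme.Hom.preimage_image_eq, ← Scheme.Hom.comp_preimage,
    Iso.inv_hom_id, Scheme.Hom.id_preimage]


lemma fUnit_congr {A σ : Type u} [CommRing A] [SetLike σ A] [AddSubgroupClass σ A] {𝒜 : ℕ → σ}
    [GradedRing 𝒜] (x : ProjectiveSpectrum 𝒜) {g g' : A} (e : g = g')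
    (hg : g ∉ x.asHomogeneousIdeal) (hg' : g' ∉ x.asHomogeneousIdeal) :
    fUnit x g hg = fUnit x g' hg' := by
  subst e; rfl


/-- A free generator of `O(k)`, `k = n * d`, reading `(f / 1) ^ n`, over an open on which `f ∈ 𝒜 d`
vanishes nowhere. -/
theorem exists_gen_val {A σ : Type u} [CommRing A] [SetLike σ A] [AddSubgroupClass σ A] {𝒜 : ℕ → σ}
    [GradedRing 𝒜] {f : A} {d : ℕ} (hfd : f ∈ 𝒜 d) (n k : ℤ) (hk : k = n * (d : ℤ))
    (D : (Proj 𝒜).Opens) (hD : ∀ x : D, f ∉ x.1.asHomogeneousIdeal) :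
    ∃ t : Γ(twist 𝒜 k, D), IsGen (twist 𝒜 k) D t ∧
      ∀ x : D, sval t x = (((fUnit x.1 f (hD x)) ^ n : (Loc 𝒜 x.1)ˣ) : Loc 𝒜 x.1) := by
  subst hk
  exact ⟨gen hfd hD n, isGen_gen hfd hD n, fun x => rfl⟩


/-- The section of `O_P(k)`, `k = n * d`, over `X_f` reading `(f|U / 1) ^ n` on every chart; it is a
free generator. -/
theorem exists_glued {Y P : Scheme.{u}} (𝒮 : RelProj.QCGrAlg Y) (p : P ⟶ Y)
    (chart : ∀ (U : Y.Opens) (hU : IsAffineOpen U), (((p ⁻¹ᵁ U : P.Opens) : Scheme.{u}) ≅ Proj (𝒮.deg U hU)))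
    (hP : RelProj.IsRelProj 𝒮 p chart) {d : ℕ} (f : 𝒮.presheaf.obj (op ⊤))
    (hf : ∀ (U : Y.Opens) (hU : IsAffineOpen U), fU f U ∈ 𝒮.deg U hU d)
    (Xf : P.Opens)
    (hXf : ∀ (U : Y.Opens) (hU : IsAffineOpen U),
      Xf ⊓ p ⁻¹ᵁ U =
        (p ⁻¹ᵁ U).ι ''ᵁ ((chart U hU).hom ⁻¹ᵁ
          Proj.basicOpen (𝒮.deg U hU) (fU f U)))
    (n k : ℤ) (hk : k = n * (d : ℤ)) (L : P.Modules)
    (lam : ∀ (U : Y.Opens) (hU : IsAffineOpen U),
      L ⟶ (Scheme.Modules.pushforward (RelProj.emb p chart U hU)).obj (GrTwist.twist (𝒮.deg U hU) k))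
    (hL : RelProj.IsRelTwist 𝒮 p chart k L lam) :
    ∃ s : Γ(L, Xf), IsGen L Xf s ∧
      ∀ (U : Y.Opens) (hU : IsAffineOpen U)
        (y : ↥(RelProj.emb p chart U hU ⁻¹ᵁ (Xf ⊓ p ⁻¹ᵁ U)))
        (hfy : fU f U ∉ y.1.asHomogeneousIdeal),
        sval (lamS lam U hU (Xf ⊓ p ⁻¹ᵁ U) (rs L inf_le_left s)) y =
          (((fUnit y.1 (fU f U) hfy) ^ n : (Loc (𝒮.deg U hU) y.1)ˣ) : Loc (𝒮.deg U hU) y.1) := by
  classical
  subst hk
  let W : Y.Opens → P.Opens := fun U => Xf ⊓ p ⁻¹ᵁ U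
  have hWle : ∀ U, W U ≤ p ⁻¹ᵁ U := fun U => inf_le_right
  have hWmono : ∀ {U V : Y.Opens}, V ≤ U → W V ≤ W U :=
    fun h => inf_le_inf_left _ (p.preimage_mono h)
  have he : ∀ (U : Y.Opens) (hU : IsAffineOpen U),
      RelProj.emb p chart U hU ⁻¹ᵁ (W U) = Proj.basicOpen (𝒮.deg U hU) (fU f U) := by
    intro U hU
    change RelProj.emb p chart U hU ⁻¹ᵁ (Xf ⊓ p ⁻¹ᵁ U) = _
    rw [hXf U hU]
    exact emb_preimage U hU _
  have hnot : ∀ (U : Y.Opens) (hU : IsAffineOpen U)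
      (x : ↥(RelProj.emb p chart U hU ⁻¹ᵁ (W U))), fU f U ∉ x.1.asHomogeneousIdeal := by
    intro U hU x
    exact (he U hU).le x.2
  have hσ : ∀ (U : Y.Opens) (hU : IsAffineOpen U), ∃ s : Γ(L, W U),
      lamS lam U hU (W U) s = gen (hf U hU) (hnot U hU) n :=
    fun U hU => (lamS_bijective hL U hU (W U) (hWle U)).2 _
  choose σ hσ using hσ
  have hgen : ∀ (U : Y.Opens) (hU : IsAffineOpen U), IsGen L (W U) (σ U hU) := fun U hU =>
    isGen_of_lamS hL U hU (W U) (hWle U) _ (by rw [hσ]; exact isGen_gen _ _ n)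
  have hbasic : ∀ (U : Y.Opens) (hU : IsAffineOpen U) (r : Γ(Y, U)),
      rs L (hWmono (Y.basicOpen_le r)) (σ U hU) = σ (Y.basicOpen r) (hU.basicOpen r) := by
    intro U hU r
    apply (lamS_bijective hL _ (hU.basicOpen r) (W _) (hWle _)).1
    rw [hσ]
    apply Groth.Agent.Lib.H60GrTwist.sec_ext
    intro y
    rw [sval_gen]
    have hy : (RelProj.emb p chart (Y.basicOpen r) (hU.basicOpen r)).base y.1 ∈
        W (Y.basicOpen r) := y.2
    have hy' : (RelProj.emb p chart U hU).base (ProjectiveSpectrum.comap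
        (𝒮.res hU (hU.basicOpen r) (Y.basicOpen_le r)) (𝒮.irrelevant_le_map U hU r) y.1) ∈
        W (Y.basicOpen r) := by
      have h1 := RelProj.map_res_emb hP U hU r
      have h2 : ∀ z : ProjectiveSpectrum (𝒮.deg (Y.basicOpen r) (hU.basicOpen r)),
          (RelProj.emb p chart U hU).base (ProjectiveSpectrum.comap
            (𝒮.res hU (hU.basicOpen r) (Y.basicOpen_le r)) (𝒮.irrelevant_le_map U hU r) z) =
          (RelProj.emb p chart (Y.basicOpen r) (hU.basicOpen r)).base z := by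
        intro z
        rw [← h1]
        rfl
      rw [h2 y.1]
      exact hy
    have hc := hL.compat U hU r (W (Y.basicOpen r))
      (rs L (hWmono (Y.basicOpen_le r)) (σ U hU)) y.1 hy hy'
    refine hc.trans ?_
    have hy'' : (ProjectiveSpectrum.comap
        (𝒮.res hU (hU.basicOpen r) (Y.basicOpen_le r)) (𝒮.irrelevant_le_map U hU r) y.1) ∈
        RelProj.emb p chart U hU ⁻¹ᵁ (W U) := hWmono (Y.basicOpen_le r) hy'
    have h3 : GrTwist.val (V := RelProj.emb p chart U hU ⁻¹ᵁ W (Y.basicOpen r))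
        ((lam U hU).app (W (Y.basicOpen r))
          (rs L (hWmono (Y.basicOpen_le r)) (σ U hU))) ⟨_, hy'⟩ =
        (((fUnit _ (fU f U) (hnot U hU ⟨_, hy''⟩)) ^ n : (Loc (𝒮.deg U hU) _)ˣ) :
          Loc (𝒮.deg U hU) _) := by
      have h4 := lamS_rs (lam := lam) U hU (hWmono (Y.basicOpen_le r)) (σ U hU)
      change sval (lamS lam U hU _ (rs L _ (σ U hU))) ⟨_, hy'⟩ = _
      rw [h4, hσ]
      rfl
    rw [h3, locMap_fUnit_zpow _ _ _ _ _ (hnot U hU ⟨_, hy''⟩)]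
    rw [fUnit_congr y.1 (res_fU f hU (hU.basicOpen r) (Y.basicOpen_le r))]
  have hcongr : ∀ (V V' : Y.Opens) (hV : IsAffineOpen V) (hV' : IsAffineOpen V') (e : V = V')
      (h : W V ≤ W V'), rs L h (σ V' hV') = σ V hV := by
    intro V V' hV hV' e h
    subst e
    exact rs_self L _
  have hover : ∀ (U U' : Y.Opens) (hU : IsAffineOpen U) (hU' : IsAffineOpen U'),
      rs L (inf_le_left : W U ⊓ W U' ≤ W U) (σ U hU) =
        rs L (inf_le_right : W U ⊓ W U' ≤ W U') (σ U' hU') := by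
    intro U U' hU hU'
    refine Groth.Agent.Lib.H78TensorGen.sec_ext L _ _ (fun x hx => ?_)
    have hpx : p.base x ∈ U ⊓ U' := ⟨hx.1.2, hx.2.2⟩
    obtain ⟨r, r', e, hxr⟩ := exists_basicOpen_le_affine_inter hU hU' (p.base x) hpx
    have h5 : W (Y.basicOpen r) ≤ W (Y.basicOpen r') := by rw [e]
    have hle1 : W (Y.basicOpen r) ≤ W U ⊓ W U' :=
      le_inf (hWmono (Y.basicOpen_le r)) (h5.trans (hWmono (Y.basicOpen_le r')))
    refine ⟨W (Y.basicOpen r), hle1, ⟨hx.1.1, hxr⟩, ?_⟩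
    rw [rs_rs, rs_rs]
    rw [hbasic U hU r]
    have h6 := hcongr _ _ (hU.basicOpen r) (hU'.basicOpen r') e h5
    rw [← h6, ← hbasic U' hU' r', rs_rs]
  have hcover : Xf ≤ ⨆ U : Y.affineOpens, W U.1 := by
    intro x hx
    obtain ⟨_, ⟨U, hU, rfl⟩, hxU, -⟩ := Y.isBasis_affineOpens.exists_subset_of_mem_open
      (Set.mem_univ (p.base x)) isOpen_univ
    exact Opens.mem_iSup.2 ⟨⟨U, hU⟩, ⟨hx, hxU⟩⟩
  obtain ⟨s, hs⟩ := Groth.Agent.Lib.H78TensorGen.sec_glue L (V := Xf)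
    (fun U : Y.affineOpens => W U.1) (fun U => inf_le_left) hcover (fun U => σ U.1 U.2)
    (fun U U' => hover U.1 U'.1 U.2 U'.2)
  refine ⟨s, Groth.Agent.Lib.H78SecCoord.isGen_of_cover s (fun U : Y.affineOpens => W U.1)
    (fun U => inf_le_left) hcover (fun U => ?_), ?_⟩
  · rw [hs]
    exact hgen _ _
  · intro U hU y hfy
    have h7 : rs L (inf_le_left : Xf ⊓ p ⁻¹ᵁ U ≤ Xf) s = σ U hU := hs ⟨U, hU⟩
    rw [h7]
    change sval (lamS lam U hU (W U) (σ U hU)) y = _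
    rw [hσ U hU]
    rfl

end main

end Groth.Agent.Lib.H60RelTwistGen
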