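import Groth.Agent.Lib.ModHomBasis

/-!
# Gluing a morphism of `O_X`-modules from chartwise identifications (helper28)

Abstract form of "the modules `(ℳ(n))~` on a relative Proj are determined up to unique isomorphism by their chartwise
identifications, and are functorial in `ℳ`".

Data: modules `F G` on `X`, a family of opens `V i`, and for each `i` modules `T i`, `T' i` with morphisms
`lam i : F ⟶ T i`, `mu i : G ⟶ T' i`, `τ i : T i ⟶ T' i`.  If every `mu i` is bijective on sections over the opens inside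
`V i`, the restriction `Γ(T' i, W) → Γ(T' i, W ⊓ V i)` is injective, the `V i` cover `X` and any two of the relations
`(mu i) t = τ i (lam i s)` can be compared on a smaller member around every point of `V i ⊓ V j`, then there is exactly
one `φ : F ⟶ G` with `φ ≫ mu i = lam i ≫ τ i` for all `i` (`existsUnique_hom`).
-/

set_option autoImplicit false
universe u

open CategoryTheory AlgebraicGeometry TopologicalSpace Opposite
open AlgebraicGeometry.Scheme AlgebraicGeometry.Scheme.Modules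

namespace Groth.Agent.Lib.RelGlueHom

variable {X : Scheme.{u}}

/-- Naturality of the maps on sections of a morphism of modules, for an inclusion of opens. -/
theorem app_res {M N : X.Modules} (φ : M ⟶ N) {W W' : X.Opens} (h : W' ≤ W) (s : Γ(M, W)) :
    φ.app W' (M.presheaf.map (homOfLE h).op s) = N.presheaf.map (homOfLE h).op (φ.app W s) :=
  NatTrans.naturality_apply φ.mapPresheaf (homOfLE h).op s

variable {F G : X.Modules} {ι : Type*} (V : ι → X.Opens)
  {T T' : ι → X.Modules} (lam : ∀ i, F ⟶ T i) (mu : ∀ i, G ⟶ T' i) (τ : ∀ i, T i ⟶ T' i)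

/-- The relation "`t` corresponds to `s`" read in the chart `i`. -/
def Rel (i : ι) (W : X.Opens) (s : Γ(F, W)) (t : Γ(G, W)) : Prop :=
  (mu i).app W t = (τ i).app W ((lam i).app W s)

variable {lam mu τ}

theorem Rel.res {i : ι} {W W' : X.Opens} (h : W' ≤ W) {s : Γ(F, W)} {t : Γ(G, W)}
    (hst : Rel lam mu τ i W s t) :
    Rel lam mu τ i W' (F.presheaf.map (homOfLE h).op s) (G.presheaf.map (homOfLE h).op t) := by
  unfold Rel at hst ⊢
  rw [app_res, app_res, app_res, hst]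

theorem Rel.smul {i : ι} {W : X.Opens} {s : Γ(F, W)} {t : Γ(G, W)}
    (hst : Rel lam mu τ i W s t) (r : Γ(X, W)) : Rel lam mu τ i W (r • s) (r • t) := by
  unfold Rel at hst ⊢
  rw [Hom.app_smul, Hom.app_smul, Hom.app_smul, hst]

variable (lam mu τ)

/-- GLUING: see the module docstring. -/
theorem existsUnique_hom
    (hcov : ∀ x : X, ∃ i, x ∈ V i)
    (hbij : ∀ (i : ι) (W : X.Opens), W ≤ V i → Function.Bijective ((mu i).app W))
    (hsupp : ∀ (i : ι) (W : X.Opens),
      Function.Injective ((T' i).presheaf.map (homOfLE (inf_le_left : W ⊓ V i ≤ W)).op))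
    (hloc : ∀ (i j : ι) (x : X), x ∈ V i → x ∈ V j → ∃ k, x ∈ V k ∧ V k ≤ V i ∧ V k ≤ V j ∧
      (∀ (W : X.Opens), W ≤ V k → ∀ (s : Γ(F, W)) (t : Γ(G, W)), Rel lam mu τ i W s t → Rel lam mu τ k W s t) ∧
      (∀ (W : X.Opens), W ≤ V k → ∀ (s : Γ(F, W)) (t : Γ(G, W)), Rel lam mu τ j W s t → Rel lam mu τ k W s t)) :
    ∃! φ : F ⟶ G, ∀ i, φ ≫ mu i = lam i ≫ τ i := by
  classical
  -- the basis
  let B : (Σ i : ι, {W : X.Opens // W ≤ V i}) → X.Opens := fun a => a.2.1
  have hB : Opens.IsBasis (Set.range B) := by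
    rw [Opens.isBasis_iff_nbhd]
    intro U x hx
    obtain ⟨i, hi⟩ := hcov x
    exact ⟨U ⊓ V i, ⟨⟨i, ⟨U ⊓ V i, inf_le_right⟩⟩, rfl⟩, ⟨hx, hi⟩, inf_le_left⟩
  -- existence and uniqueness of the corresponding section
  have hex : ∀ (i : ι) (W : X.Opens), W ≤ V i → ∀ s : Γ(F, W), ∃ t : Γ(G, W), Rel lam mu τ i W s t :=
    fun i W hW s => (hbij i W hW).2 _
  have huniq : ∀ (i : ι) (W : X.Opens), W ≤ V i → ∀ (s : Γ(F, W)) (t t' : Γ(G, W)),
      Rel lam mu τ i W s t → Rel lam mu τ i W s t' → t = t' :=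
    fun i W hW s t t' h h' => (hbij i W hW).1 (h.trans h'.symm)
  -- independence of the chart
  have hindep : ∀ (i j : ι) (W : X.Opens), W ≤ V i → W ≤ V j → ∀ (s : Γ(F, W)) (t t' : Γ(G, W)),
      Rel lam mu τ i W s t → Rel lam mu τ j W s t' → t = t' := by
    intro i j W hWi hWj s t t' h h'
    have hk : ∀ x : W, ∃ k, x.1 ∈ V k ∧ V k ≤ V i ∧ V k ≤ V j ∧
      (∀ (W : X.Opens), W ≤ V k → ∀ (s : Γ(F, W)) (t : Γ(G, W)), Rel lam mu τ i W s t → Rel lam mu τ k W s t) ∧
      (∀ (W : X.Opens), W ≤ V k → ∀ (s : Γ(F, W)) (t : Γ(G, W)), Rel lam mu τ j W s t → Rel lam mu τ k W s t) :=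
      fun x => hloc i j x.1 (hWi x.2) (hWj x.2)
    choose k hk1 hk2 hk3 hk4 hk5 using hk
    refine TopCat.Sheaf.eq_of_locally_eq' (⟨G.presheaf, G.isSheaf⟩ : TopCat.Sheaf Ab X)
      (fun x : W => W ⊓ V (k x)) W (fun x => homOfLE inf_le_left) ?_ t t' ?_
    · intro x hx
      exact Opens.mem_iSup.mpr ⟨⟨x, hx⟩, ⟨hx, hk1 ⟨x, hx⟩⟩⟩
    · intro x
      exact huniq (k x) _ inf_le_right _ _ _
        (hk4 x _ inf_le_right _ _ (h.res inf_le_left)) (hk5 x _ inf_le_right _ _ (h'.res inf_le_left))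
  -- the maps on the members of the basis
  choose ψ hψ using hex
  have hψ_add : ∀ (i : ι) (W : X.Opens) (hW : W ≤ V i) (s s' : Γ(F, W)),
      ψ i W hW (s + s') = ψ i W hW s + ψ i W hW s' := by
    intro i W hW s s'
    refine huniq i W hW (s + s') _ _ (hψ i W hW _) ?_
    have h1 := hψ i W hW s
    have h2 := hψ i W hW s'
    unfold Rel at h1 h2 ⊢
    rw [map_add, map_add, map_add, h1, h2]
  let φ0 : ∀ a : (Σ i : ι, {W : X.Opens // W ≤ V i}), Γ(F, B a) ⟶ Γ(G, B a) := fun a =>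
    AddCommGrpCat.ofHom (AddMonoidHom.mk' (ψ a.1 a.2.1 a.2.2) (hψ_add a.1 a.2.1 a.2.2))
  have hφ0 : ∀ (a : (Σ i : ι, {W : X.Opens // W ≤ V i})) (s : Γ(F, B a)), φ0 a s = ψ a.1 a.2.1 a.2.2 s :=
    fun a s => rfl
  obtain ⟨φ, hφ⟩ := ModHomBasis.exists_hom_of_basis hB φ0
    (by
      rintro ⟨i, W, hW⟩ ⟨j, W', hW'⟩ h s
      change W' ≤ W at h
      rw [hφ0, hφ0]
      exact hindep i j W' (h.trans hW) hW' _ _ _ ((hψ i W hW s).res h) (hψ j W' hW' _))
    (by
      rintro ⟨i, W, hW⟩ r s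
      rw [hφ0, hφ0]
      exact huniq i W hW _ _ _ (hψ i W hW _) ((hψ i W hW s).smul r))
  have hφ' : ∀ (i : ι) (W : X.Opens) (hW : W ≤ V i) (s : Γ(F, W)), Rel lam mu τ i W s (φ.app W s) := by
    intro i W hW s
    have := hφ ⟨i, W, hW⟩
    change φ.app W = _ at this
    rw [this, hφ0]
    exact hψ i W hW s
  refine ⟨φ, fun i => ?_, fun φ' h' => ?_⟩
  · refine ModHomBasis.hom_ext_of_basis hB _ _ ?_
    rintro ⟨j, W, hW⟩
    change (φ ≫ mu i).app W = (lam i ≫ τ i).app W
    ext s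
    rw [Scheme.Modules.Hom.comp_app, Scheme.Modules.Hom.comp_app]
    apply hsupp i W
    change (T' i).presheaf.map _ ((mu i).app W (φ.app W s)) = (T' i).presheaf.map _ ((τ i).app W ((lam i).app W s))
    rw [← app_res, ← app_res, ← app_res, ← app_res]
    exact hφ' i _ inf_le_right _
  · refine ModHomBasis.hom_ext_of_basis hB _ _ ?_
    rintro ⟨i, W, hW⟩
    change φ'.app W = φ.app W
    ext s
    refine huniq i W hW s _ _ ?_ (hφ' i W hW s)
    have := congrArg (fun f => (Scheme.Modules.Hom.app f W) s) (h' i)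
    exact this

end Groth.Agent.Lib.RelGlueHom
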