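import Groth.Agent.Lib.RelGlueHom
import Groth.Prelude.Def_RelProj3

/-!
# Morphisms between the modules `(ℳ(n))~` on a relative Proj from chartwise data (helper28)

* `sec_ext`: sections of `GrMod.tilde` with the same values are equal.
* `locModMap_locMap`: the maps of localized modules induced by a morphism of `𝒮`-modules commute with those induced by
  restriction.
* `rel_basicOpen`: the relation "`t` corresponds to `s` under `u`" read in the chart over `U` implies the one read over `D(r)`.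
* `existsUnique_hom`: for `(F, lam)`, `(G, lam')` the modules attached to `ℳ`, `𝒩` and a degree-preserving `u : ℳ ⟶ 𝒩`
  there is exactly one `ut : F ⟶ G` compatible with the maps `GrMod.map` chartwise.
-/

set_option autoImplicit false
universe u

open CategoryTheory CategoryTheory.Limits AlgebraicGeometry Opposite TopologicalSpace
open scoped HomogeneousIdeal

noncomputable section

namespace Groth.Agent.Lib.RelTildeGlue

section ring

variable {A σ : Type u} [CommRing A] [SetLike σ A] [AddSubgroupClass σ A] {𝒜 : ℕ → σ} [GradedRing 𝒜]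
variable {M τ : Type u} [AddCommGroup M] [Module A M] [SetLike τ M] [AddSubgroupClass τ M] {ℳ : ℕ → τ}
  [SetLike.GradedSMul 𝒜 ℳ]

/-- Sections of `M(n)~` with the same values are equal. -/
theorem sec_ext {n : ℤ} {V : (Proj 𝒜).Opens} (a b : Γ(GrMod.tilde 𝒜 ℳ n, V))
    (h : ∀ y : V, GrMod.val a y = GrMod.val b y) : a = b :=
  Subtype.ext (funext fun y => Subtype.ext (h y))

end ring

variable {Y P : Scheme.{u}} {𝒮 : RelProj.QCGrAlg Y} {p : P ⟶ Y}
  {chart : ∀ (U : Y.Opens) (hU : IsAffineOpen U), (((p ⁻¹ᵁ U : P.Opens) : Scheme.{u}) ≅ Proj (𝒮.deg U hU))}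

/-- The linear map on sections over `U` of a morphism of `𝒮`-modules. -/
abbrev linAt {ℳ 𝒩 : RelProj.GrModule 𝒮} (u : ℳ.mod ⟶ 𝒩.mod) (U : Y.Opens) :
    ℳ.mod.val.obj (op U) →ₗ[𝒮.presheaf.obj (op U)] 𝒩.mod.val.obj (op U) := (u.val.app (op U)).hom

theorem linAt_res {ℳ 𝒩 : RelProj.GrModule 𝒮} (u : ℳ.mod ⟶ 𝒩.mod) {U V : Y.Opens} (hU : IsAffineOpen U)
    (hV : IsAffineOpen V) (i : V ≤ U) (m : ℳ.mod.val.obj (op U)) :
    𝒩.res hU hV i (linAt u U m) = linAt u V (ℳ.res hU hV i m) :=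
  (PresheafOfModules.naturality_apply u.val (homOfLE i).op m).symm

/-- The maps of localized modules induced by `u` commute with those induced by restriction. -/
theorem locModMap_locMap {ℳ 𝒩 : RelProj.GrModule 𝒮} (u : ℳ.mod ⟶ 𝒩.mod) {U V : Y.Opens} (hU : IsAffineOpen U)
    (hV : IsAffineOpen V) (i : V ≤ U) (hirr : (𝒮.deg V hV)₊ ≤ ((𝒮.deg U hU)₊).map (𝒮.res hU hV i))
    (y : ProjectiveSpectrum (𝒮.deg V hV))
    (q : GrMod.LocMod (𝒮.deg U hU) (M := ℳ.mod.val.obj (op U)) (ProjectiveSpectrum.comap (𝒮.res hU hV i) hirr y)) :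
    GrMod.locModMap (𝒮.res hU hV i) hirr (𝒩.res hU hV i) y (GrMod.locMap (linAt u U) _ q) =
      GrMod.locMap (linAt u V) y (GrMod.locModMap (𝒮.res hU hV i) hirr (ℳ.res hU hV i) y q) := by
  induction q using LocalizedModule.induction_on with
  | h m s =>
    rw [GrMod.locMap_mk, GrMod.locModMap_mk, GrMod.locModMap_mk, GrMod.locMap_mk, linAt_res]

/-- Under `IsRelProj`, the auxiliary membership hypothesis of the compatibility clauses follows. -/
theorem mem_of_mem (hP : RelProj.IsRelProj 𝒮 p chart) (U : Y.Opens) (hU : IsAffineOpen U) (r : Γ(Y, U)) (W : P.Opens)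
    (y : ProjectiveSpectrum (𝒮.deg (Y.basicOpen r) (hU.basicOpen r)))
    (hy : (RelProj.emb p chart (Y.basicOpen r) (hU.basicOpen r)).base y ∈ W) :
    (RelProj.emb p chart U hU).base (ProjectiveSpectrum.comap
      (𝒮.res hU (hU.basicOpen r) (Y.basicOpen_le r)) (𝒮.irrelevant_le_map U hU r) y) ∈ W := by
  have e1 := congrArg (fun g ↦ g.base y) (RelProj.map_res_emb hP U hU r)
  have e1' : (RelProj.emb p chart U hU).base
      ((Proj.map (𝒮.res hU (hU.basicOpen r) (Y.basicOpen_le r)) (𝒮.irrelevant_le_map U hU r)).base y) =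
      (RelProj.emb p chart (Y.basicOpen r) (hU.basicOpen r)).base y := e1
  have e2 : (Proj.map (𝒮.res hU (hU.basicOpen r) (Y.basicOpen_le r)) (𝒮.irrelevant_le_map U hU r)).base y =
      ProjectiveSpectrum.comap (𝒮.res hU (hU.basicOpen r) (Y.basicOpen_le r)) (𝒮.irrelevant_le_map U hU r) y := rfl
  rw [← e2, e1']
  exact hy

/-- The morphism between the chart modules induced by a degree-preserving `u`. -/
abbrev tmap {ℳ 𝒩 : RelProj.GrModule 𝒮} (u : ℳ.mod ⟶ 𝒩.mod) (hu : RelProj.IsGrModHom u) (n : ℤ)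
    (U : Y.Opens) (hU : IsAffineOpen U) :
    (Scheme.Modules.pushforward (RelProj.emb p chart U hU)).obj (GrMod.tilde (𝒮.deg U hU) (ℳ.deg U hU) n) ⟶
      (Scheme.Modules.pushforward (RelProj.emb p chart U hU)).obj (GrMod.tilde (𝒮.deg U hU) (𝒩.deg U hU) n) :=
  (Scheme.Modules.pushforward (RelProj.emb p chart U hU)).map
    (GrMod.map (𝒮.deg U hU) (linAt u U) (hu U hU) n)

theorem tmap_app_val {ℳ 𝒩 : RelProj.GrModule 𝒮} (u : ℳ.mod ⟶ 𝒩.mod) (hu : RelProj.IsGrModHom u) (n : ℤ)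
    (U : Y.Opens) (hU : IsAffineOpen U) (W : P.Opens)
    (s : Γ((Scheme.Modules.pushforward (RelProj.emb p chart U hU)).obj
      (GrMod.tilde (𝒮.deg U hU) (ℳ.deg U hU) n), W))
    (y : (RelProj.emb p chart U hU ⁻¹ᵁ W : (Proj (𝒮.deg U hU)).Opens)) :
    GrMod.val (V := RelProj.emb p chart U hU ⁻¹ᵁ W) ((tmap (p := p) (chart := chart) u hu n U hU).app W s) y =
      GrMod.locMap (linAt u U) y.1 (GrMod.val (V := RelProj.emb p chart U hU ⁻¹ᵁ W) s y) := rfl

/-- The relation "`t` corresponds to `s` under `u`" read in the chart over `U` implies the one read over `D(r)`. -/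
theorem rel_basicOpen (hP : RelProj.IsRelProj 𝒮 p chart) {ℳ 𝒩 : RelProj.GrModule 𝒮} (u : ℳ.mod ⟶ 𝒩.mod)
    (hu : RelProj.IsGrModHom u) (n : ℤ) {F G : P.Modules}
    {lam : ∀ (U : Y.Opens) (hU : IsAffineOpen U),
      F ⟶ (Scheme.Modules.pushforward (RelProj.emb p chart U hU)).obj (GrMod.tilde (𝒮.deg U hU) (ℳ.deg U hU) n)}
    (hF : RelProj.IsRelTilde 𝒮 p chart ℳ n F lam)
    {lam' : ∀ (U : Y.Opens) (hU : IsAffineOpen U),
      G ⟶ (Scheme.Modules.pushforward (RelProj.emb p chart U hU)).obj (GrMod.tilde (𝒮.deg U hU) (𝒩.deg U hU) n)}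
    (hG : RelProj.IsRelTilde 𝒮 p chart 𝒩 n G lam')
    (U : Y.Opens) (hU : IsAffineOpen U) (r : Γ(Y, U)) (W : P.Opens) (s : Γ(F, W)) (t : Γ(G, W))
    (h : (lam' U hU).app W t = (tmap (p := p) (chart := chart) u hu n U hU).app W ((lam U hU).app W s)) :
    (lam' (Y.basicOpen r) (hU.basicOpen r)).app W t =
      (tmap (p := p) (chart := chart) u hu n (Y.basicOpen r) (hU.basicOpen r)).app W
        ((lam (Y.basicOpen r) (hU.basicOpen r)).app W s) := by
  refine sec_ext (V := RelProj.emb p chart (Y.basicOpen r) (hU.basicOpen r) ⁻¹ᵁ W) _ _ fun y => ?_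
  have hy' := mem_of_mem hP U hU r W y.1 y.2
  have h1 := hG.compat U hU r W t y.1 y.2 hy'
  have h2 := hF.compat U hU r W s y.1 y.2 hy'
  have h3 := tmap_app_val (p := p) (chart := chart) u hu n (Y.basicOpen r) (hU.basicOpen r) W
    ((lam (Y.basicOpen r) (hU.basicOpen r)).app W s) y
  have h4 := tmap_app_val (p := p) (chart := chart) u hu n U hU W ((lam U hU).app W s) ⟨_, hy'⟩
  refine h1.trans ?_
  rw [h, h4]
  refine Eq.trans ?_ h3.symm
  rw [h2]
  exact locModMap_locMap u hU (hU.basicOpen r) (Y.basicOpen_le r) (𝒮.irrelevant_le_map U hU r) y.1 _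

/-- Restriction of sections of a direct image between opens with the same preimage is injective. -/
theorem pushforward_res_injective {X Z : Scheme.{u}} (f : X ⟶ Z) (M : X.Modules) {W W' : Z.Opens} (h : W' ≤ W)
    (h' : f ⁻¹ᵁ W ≤ f ⁻¹ᵁ W') :
    Function.Injective (((Scheme.Modules.pushforward f).obj M).presheaf.map (homOfLE h).op) := by
  rw [Scheme.Modules.pushforward_obj_presheaf_map]
  have hl : Function.LeftInverse (M.presheaf.map (homOfLE h').op)
      (M.presheaf.map ((Opens.map f.base).map (homOfLE h)).op) := by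
    intro a
    have e : ((Opens.map f.base).map (homOfLE h)).op ≫ (homOfLE h').op = 𝟙 _ := Subsingleton.elim _ _
    have e2 : M.presheaf.map ((Opens.map f.base).map (homOfLE h)).op ≫ M.presheaf.map (homOfLE h').op = 𝟙 _ := by
      rw [← Functor.map_comp, e]
      exact M.presheaf.map_id _
    exact congrArg (fun g => g a) e2
  exact hl.injective

/-- The chart immersion over `U` lands in `p⁻¹(U)`. -/
theorem emb_mem (U : Y.Opens) (hU : IsAffineOpen U) (y : Proj (𝒮.deg U hU)) :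
    (RelProj.emb p chart U hU).base y ∈ p ⁻¹ᵁ U := by
  have e : (RelProj.emb p chart U hU).base y = (p ⁻¹ᵁ U).ι.base ((chart U hU).inv.base y) := rfl
  rw [e]
  exact ((chart U hU).inv.base y).2

/-- FUNCTORIALITY of `(ℳ(n))~` on a relative Proj: for `(F, lam)`, `(G, lam')` the modules attached to `ℳ`, `𝒩` and a
degree-preserving `u : ℳ ⟶ 𝒩` there is exactly one `ut : F ⟶ G` compatible chartwise with the maps `GrMod.map`. -/
theorem existsUnique_hom (hP : RelProj.IsRelProj 𝒮 p chart) {ℳ 𝒩 : RelProj.GrModule 𝒮} (u : ℳ.mod ⟶ 𝒩.mod)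
    (hu : RelProj.IsGrModHom u) (n : ℤ) {F G : P.Modules}
    {lam : ∀ (U : Y.Opens) (hU : IsAffineOpen U),
      F ⟶ (Scheme.Modules.pushforward (RelProj.emb p chart U hU)).obj (GrMod.tilde (𝒮.deg U hU) (ℳ.deg U hU) n)}
    (hF : RelProj.IsRelTilde 𝒮 p chart ℳ n F lam)
    {lam' : ∀ (U : Y.Opens) (hU : IsAffineOpen U),
      G ⟶ (Scheme.Modules.pushforward (RelProj.emb p chart U hU)).obj (GrMod.tilde (𝒮.deg U hU) (𝒩.deg U hU) n)}
    (hG : RelProj.IsRelTilde 𝒮 p chart 𝒩 n G lam') :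
    ∃! ut : F ⟶ G, ∀ (U : Y.Opens) (hU : IsAffineOpen U),
      ut ≫ lam' U hU = lam U hU ≫ tmap (p := p) (chart := chart) u hu n U hU := by
  have key := RelGlueHom.existsUnique_hom (X := P) (F := F) (G := G) (ι := Y.affineOpens)
    (fun i => p ⁻¹ᵁ i.1) (fun i => lam i.1 i.2) (fun i => lam' i.1 i.2)
    (fun i => tmap (p := p) (chart := chart) u hu n i.1 i.2) ?_ ?_ ?_ ?_
  · obtain ⟨φ, hφ, huniq⟩ := key
    exact ⟨φ, fun U hU => hφ ⟨U, hU⟩, fun φ' h' => huniq φ' fun i => h' i.1 i.2⟩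
  · intro x
    obtain ⟨W, hW, hxW, -⟩ := exists_isAffineOpen_mem_and_subset (x := p.base x) (U := ⊤) trivial
    exact ⟨⟨W, hW⟩, hxW⟩
  · intro i W hW
    exact hG.bijective i.1 i.2 W hW
  · intro i W
    refine pushforward_res_injective _ _ _ ?_
    intro y hy
    exact ⟨hy, emb_mem i.1 i.2 y⟩
  · rintro ⟨U₁, h₁⟩ ⟨U₂, h₂⟩ x hx₁ hx₂
    obtain ⟨f, g, hfg, hxf⟩ := exists_basicOpen_le_affine_inter h₁ h₂ (p.base x) ⟨hx₁, hx₂⟩
    refine ⟨⟨Y.basicOpen f, h₁.basicOpen f⟩, hxf, p.preimage_mono (Y.basicOpen_le f),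
      p.preimage_mono (hfg.trans_le (Y.basicOpen_le g)), ?_, ?_⟩
    · intro W _ s t hst
      exact rel_basicOpen hP u hu n hF hG U₁ h₁ f W s t hst
    · intro W _ s t hst
      have key : ∀ (U' : Y.Opens) (hU' : IsAffineOpen U') (_ : Y.basicOpen g = U'),
          (lam' U' hU').app W t =
            (tmap (p := p) (chart := chart) u hu n U' hU').app W ((lam U' hU').app W s) := by
        intro U' hU' e
        subst e
        exact rel_basicOpen hP u hu n hF hG U₂ h₂ g W s t hst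
      exact key _ (h₁.basicOpen f) hfg.symm

theorem isGrModHom_id (ℳ : RelProj.GrModule 𝒮) : RelProj.IsGrModHom (𝟙 ℳ.mod) := fun _ _ _ _ hm => hm

theorem tmap_id (ℳ : RelProj.GrModule 𝒮) (n : ℤ) (U : Y.Opens) (hU : IsAffineOpen U) :
    tmap (p := p) (chart := chart) (𝟙 ℳ.mod) (isGrModHom_id ℳ) n U hU = 𝟙 _ := by
  have h0 : GrMod.map (𝒮.deg U hU) (linAt (𝟙 ℳ.mod) U) (isGrModHom_id ℳ U hU) n = 𝟙 _ := by
    refine Scheme.Modules.hom_ext _ _ fun V => ?_
    ext s
    refine sec_ext _ _ fun y => ?_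
    rw [GrMod.map_app_val]
    have e : linAt (𝟙 ℳ.mod) U = LinearMap.id := rfl
    rw [e]
    change (LocalizedModule.map _ LinearMap.id) _ = _
    rw [LocalizedModule.map_id]
    rfl
  unfold tmap
  rw [h0, CategoryTheory.Functor.map_id]

/-- UNIQUENESS of `(ℳ(n))~` on a relative Proj, part 1: exactly one morphism commutes with the identifications. -/
theorem existsUnique_hom_id (hP : RelProj.IsRelProj 𝒮 p chart) {ℳ : RelProj.GrModule 𝒮} (n : ℤ) {F G : P.Modules}
    {lam : ∀ (U : Y.Opens) (hU : IsAffineOpen U),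
      F ⟶ (Scheme.Modules.pushforward (RelProj.emb p chart U hU)).obj (GrMod.tilde (𝒮.deg U hU) (ℳ.deg U hU) n)}
    (hF : RelProj.IsRelTilde 𝒮 p chart ℳ n F lam)
    {lam' : ∀ (U : Y.Opens) (hU : IsAffineOpen U),
      G ⟶ (Scheme.Modules.pushforward (RelProj.emb p chart U hU)).obj (GrMod.tilde (𝒮.deg U hU) (ℳ.deg U hU) n)}
    (hG : RelProj.IsRelTilde 𝒮 p chart ℳ n G lam') :
    ∃! φ : F ⟶ G, ∀ (U : Y.Opens) (hU : IsAffineOpen U), φ ≫ lam' U hU = lam U hU := by
  obtain ⟨φ, hφ, huniq⟩ := existsUnique_hom hP (𝟙 ℳ.mod) (isGrModHom_id ℳ) n hF hG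
  refine ⟨φ, fun U hU => ?_, fun φ' h' => huniq φ' fun U hU => ?_⟩
  · rw [hφ U hU, tmap_id, Category.comp_id]
  · rw [h' U hU, tmap_id, Category.comp_id]

/-- UNIQUENESS of `(ℳ(n))~` on a relative Proj, part 2: a morphism commuting with the identifications is an isomorphism. -/
theorem isIso_of_comm (hP : RelProj.IsRelProj 𝒮 p chart) {ℳ : RelProj.GrModule 𝒮} (n : ℤ) {F G : P.Modules}
    {lam : ∀ (U : Y.Opens) (hU : IsAffineOpen U),
      F ⟶ (Scheme.Modules.pushforward (RelProj.emb p chart U hU)).obj (GrMod.tilde (𝒮.deg U hU) (ℳ.deg U hU) n)}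
    (hF : RelProj.IsRelTilde 𝒮 p chart ℳ n F lam)
    {lam' : ∀ (U : Y.Opens) (hU : IsAffineOpen U),
      G ⟶ (Scheme.Modules.pushforward (RelProj.emb p chart U hU)).obj (GrMod.tilde (𝒮.deg U hU) (ℳ.deg U hU) n)}
    (hG : RelProj.IsRelTilde 𝒮 p chart ℳ n G lam')
    (φ : F ⟶ G) (hφ : ∀ (U : Y.Opens) (hU : IsAffineOpen U), φ ≫ lam' U hU = lam U hU) : IsIso φ := by
  obtain ⟨ψ, hψ, -⟩ := existsUnique_hom_id hP n hG hF
  have h1 : φ ≫ ψ = 𝟙 F :=
    (existsUnique_hom_id hP n hF hF).unique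
      (fun U hU => by rw [Category.assoc, hψ U hU, hφ U hU]) (fun U hU => Category.id_comp _)
  have h2 : ψ ≫ φ = 𝟙 G :=
    (existsUnique_hom_id hP n hG hG).unique
      (fun U hU => by rw [Category.assoc, hφ U hU, hψ U hU]) (fun U hU => Category.id_comp _)
  exact ⟨ψ, h1, h2⟩

end Groth.Agent.Lib.RelTildeGlue
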