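import Groth.Prelude.Def_RelProj2
import Groth.Agent.Lib.H60RelTwist
import Groth.Agent.Lib.RelGlueHom
import Groth.Agent.Lib.RelProjMap
import Groth.Agent.Lib.RelTildeGlue

/-!
# The comparison `O_{Proj 𝒜}(n) ⟶ h_* O_{Proj ℬ}(n)` on relative Proj's (helper60)

For `h : P_B ⟶ P_A` an `IsRelProjMap` of a graded homomorphism `φ : 𝒜 ⟶ ℬ` and `IsRelTwist` data
`(L_A, lamA)`, `(L_B, lamB)` of the same degree `n`:
* `locMap_square`: values of a section of `O(n)` read through a commutative square of graded ring maps;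
* `emb_comm`, `mem_iff`, `mu`, `tau`, `mu_app_val`, `tau_app_val`, `RelV`, `rel_iff`, `relV_basicOpen`;
* `existsUnique_theta`: exactly one `θ : L_A ⟶ h_* L_B` is chartwise, valuewise, `a / f ↦ φ a / φ f`
  (glued with helper28's `RelGlueHom.existsUnique_hom`).
-/

set_option autoImplicit false
universe u
open CategoryTheory CategoryTheory.Limits AlgebraicGeometry Opposite TopologicalSpace
open scoped HomogeneousIdeal
noncomputable section

namespace Groth.Agent.Lib.H60RelTwistMap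

open Groth.Agent.Lib.H90Invertible Groth.Agent.Lib.H78TensorGen Groth.Agent.Lib.H60GrTwist
  Groth.Agent.Lib.H60RelTwist GrTwist

section ring
variable {A σ : Type u} [CommRing A] [SetLike σ A] [AddSubgroupClass σ A] {𝒜 : ℕ → σ} [GradedRing 𝒜]
variable {B τ : Type u} [CommRing B] [SetLike τ B] [AddSubgroupClass τ B] {ℬ : ℕ → τ} [GradedRing ℬ]
variable {B' τ' : Type u} [CommRing B'] [SetLike τ' B'] [AddSubgroupClass τ' B'] {ℬ' : ℕ → τ'}
  [GradedRing ℬ']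
variable {C ρ : Type u} [CommRing C] [SetLike ρ C] [AddSubgroupClass ρ C] {𝒞 : ℕ → ρ} [GradedRing 𝒞]

/-- Values of a section at (propositionally) equal points, read through a commutative square of
graded ring homomorphisms. -/
theorem locMap_square (ψ₁ : 𝒜 →+*ᵍ ℬ) (h₁ : ℬ₊ ≤ (𝒜₊).map ψ₁) (ψ₂ : ℬ →+*ᵍ 𝒞) (h₂ : 𝒞₊ ≤ (ℬ₊).map ψ₂)
    (ψ₁' : 𝒜 →+*ᵍ ℬ') (h₁' : ℬ'₊ ≤ (𝒜₊).map ψ₁') (ψ₂' : ℬ' →+*ᵍ 𝒞) (h₂' : 𝒞₊ ≤ (ℬ'₊).map ψ₂')
    (hcomm : ∀ a : A, ψ₂ (ψ₁ a) = ψ₂' (ψ₁' a)) {n : ℤ} {V : (Proj 𝒜).Opens} (t : Γ(twist 𝒜 n, V))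
    (y : ProjectiveSpectrum 𝒞)
    (h : ProjectiveSpectrum.comap ψ₁ h₁ (ProjectiveSpectrum.comap ψ₂ h₂ y) ∈ V)
    (h' : ProjectiveSpectrum.comap ψ₁' h₁' (ProjectiveSpectrum.comap ψ₂' h₂' y) ∈ V) :
    locMap ψ₂ h₂ y (locMap ψ₁ h₁ _ (sval t ⟨_, h⟩)) =
      locMap ψ₂' h₂' y (locMap ψ₁' h₁' _ (sval t ⟨_, h'⟩)) := by
  have hx : ProjectiveSpectrum.comap ψ₁ h₁ (ProjectiveSpectrum.comap ψ₂ h₂ y) =
      ProjectiveSpectrum.comap ψ₁' h₁' (ProjectiveSpectrum.comap ψ₂' h₂' y) := by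
    apply ProjectiveSpectrum.ext
    apply HomogeneousIdeal.ext
    ext a
    change ψ₂ (ψ₁ a) ∈ y.asHomogeneousIdeal ↔ ψ₂' (ψ₁' a) ∈ y.asHomogeneousIdeal
    rw [hcomm]
  obtain ⟨V₀, hxV₀, hV₀, i, j, a, s, s_nin, -, w⟩ := exists_frac t ⟨_, h⟩
  have hx' : ProjectiveSpectrum.comap ψ₁' h₁' (ProjectiveSpectrum.comap ψ₂' h₂' y) ∈ V₀ := by
    rw [← hx]; exact hxV₀
  have w1 := w ⟨_, hxV₀⟩
  have w2 := w ⟨_, hx'⟩
  have e1 : sval t ⟨_, h⟩ = Localization.mk a.1 ⟨s.1, s_nin ⟨_, hxV₀⟩⟩ := w1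
  have e2 : sval t ⟨_, h'⟩ = Localization.mk a.1 ⟨s.1, s_nin ⟨_, hx'⟩⟩ := w2
  rw [e1, e2, locMap_mk, locMap_mk, locMap_mk, locMap_mk]
  congr 1
  · exact hcomm _
  · exact Subtype.ext (hcomm _)

end ring


section rel

variable {Y PA PB : Scheme.{u}} {𝒜 ℬ : RelProj.QCGrAlg Y}
  {φ : 𝒜.toQCAlg ⟶ ℬ.toQCAlg} {hφ : RelProj.IsGradedHom φ}
  {hirr : ∀ (U : Y.Opens) (hU : IsAffineOpen U),
    (ℬ.deg U hU)₊ ≤ ((𝒜.deg U hU)₊).map (RelProj.gradedHomAt φ hφ U hU)}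
  {pA : PA ⟶ Y} {pB : PB ⟶ Y}
  {chartA : ∀ (U : Y.Opens) (hU : IsAffineOpen U),
    (((pA ⁻¹ᵁ U : PA.Opens) : Scheme.{u}) ≅ Proj (𝒜.deg U hU))}
  {chartB : ∀ (U : Y.Opens) (hU : IsAffineOpen U),
    (((pB ⁻¹ᵁ U : PB.Opens) : Scheme.{u}) ≅ Proj (ℬ.deg U hU))}
  {h : PB ⟶ PA}

/-- The chart immersions intertwine `h` and the chartwise `Proj.map`. -/
theorem emb_comm (hh : RelProj.IsRelProjMap φ hφ hirr chartA chartB h) (U : Y.Opens)
    (hU : IsAffineOpen U) :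
    RelProj.emb pB chartB U hU ≫ h =
      Proj.map (RelProj.gradedHomAt φ hφ U hU) (hirr U hU) ≫ RelProj.emb pA chartA U hU := by
  unfold RelProj.emb
  rw [Category.assoc, hh U hU, Iso.inv_hom_id_assoc]

variable {n : ℤ} {LA : PA.Modules}
  {lamA : ∀ (U : Y.Opens) (hU : IsAffineOpen U),
    LA ⟶ (Scheme.Modules.pushforward (RelProj.emb pA chartA U hU)).obj (GrTwist.twist (𝒜.deg U hU) n)}
  {LB : PB.Modules}
  {lamB : ∀ (U : Y.Opens) (hU : IsAffineOpen U),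
    LB ⟶ (Scheme.Modules.pushforward (RelProj.emb pB chartB U hU)).obj (GrTwist.twist (ℬ.deg U hU) n)}

variable (lamB) in
/-- The identification of `h_* L_B` with the direct image of `O_{ℬ(U)}(n)` over the chart `U`. -/
def mu (hh : RelProj.IsRelProjMap φ hφ hirr chartA chartB h) (U : Y.Opens) (hU : IsAffineOpen U) :
    (Scheme.Modules.pushforward h).obj LB ⟶
      (Scheme.Modules.pushforward (RelProj.emb pA chartA U hU)).obj
        ((Scheme.Modules.pushforward (Proj.map (RelProj.gradedHomAt φ hφ U hU) (hirr U hU))).obj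
          (GrTwist.twist (ℬ.deg U hU) n)) :=
  (Scheme.Modules.pushforward h).map (lamB U hU) ≫
    (Scheme.Modules.pushforwardComp (RelProj.emb pB chartB U hU) h).hom.app _ ≫
    (Scheme.Modules.pushforwardCongr (emb_comm hh U hU)).hom.app _ ≫
    (Scheme.Modules.pushforwardComp (Proj.map (RelProj.gradedHomAt φ hφ U hU) (hirr U hU))
      (RelProj.emb pA chartA U hU)).inv.app _

/-- The comparison `O_{𝒜(U)}(n) ⟶ (Proj.map φ(U))_* O_{ℬ(U)}(n)`, pushed to `P_A`. -/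
def tau (n : ℤ) (U : Y.Opens) (hU : IsAffineOpen U) :
    (Scheme.Modules.pushforward (RelProj.emb pA chartA U hU)).obj (GrTwist.twist (𝒜.deg U hU) n) ⟶
      (Scheme.Modules.pushforward (RelProj.emb pA chartA U hU)).obj
        ((Scheme.Modules.pushforward (Proj.map (RelProj.gradedHomAt φ hφ U hU) (hirr U hU))).obj
          (GrTwist.twist (ℬ.deg U hU) n)) :=
  (Scheme.Modules.pushforward (RelProj.emb pA chartA U hU)).map
    (GrTwist.comap (RelProj.gradedHomAt φ hφ U hU) (hirr U hU) n)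

theorem mem_iff (hh : RelProj.IsRelProjMap φ hφ hirr chartA chartB h) (U : Y.Opens)
    (hU : IsAffineOpen U) (W : PA.Opens) (y : ProjectiveSpectrum (ℬ.deg U hU)) :
    (RelProj.emb pB chartB U hU).base y ∈ h ⁻¹ᵁ W ↔
      (RelProj.emb pA chartA U hU).base
        (ProjectiveSpectrum.comap (RelProj.gradedHomAt φ hφ U hU) (hirr U hU) y) ∈ W := by
  have e := congrArg (fun g => g.base y) (emb_comm hh U hU)
  have e' : h.base ((RelProj.emb pB chartB U hU).base y) =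
      (RelProj.emb pA chartA U hU).base
        ((Proj.map (RelProj.gradedHomAt φ hφ U hU) (hirr U hU)).base y) := e
  change h.base ((RelProj.emb pB chartB U hU).base y) ∈ W ↔ _
  rw [e']
  rfl

theorem mu_app_val (hh : RelProj.IsRelProjMap φ hφ hirr chartA chartB h) (U : Y.Opens)
    (hU : IsAffineOpen U) (W : PA.Opens) (t : Γ(LB, h ⁻¹ᵁ W))
    (y : ProjectiveSpectrum (ℬ.deg U hU))
    (hy : (RelProj.emb pB chartB U hU).base y ∈ h ⁻¹ᵁ W)
    (hy' : (RelProj.emb pA chartA U hU).base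
        (ProjectiveSpectrum.comap (RelProj.gradedHomAt φ hφ U hU) (hirr U hU) y) ∈ W) :
    GrTwist.val (V := Proj.map (RelProj.gradedHomAt φ hφ U hU) (hirr U hU) ⁻¹ᵁ
        (RelProj.emb pA chartA U hU ⁻¹ᵁ W))
      ((mu lamB hh U hU).app W t) ⟨y, hy'⟩ =
    GrTwist.val (V := RelProj.emb pB chartB U hU ⁻¹ᵁ (h ⁻¹ᵁ W))
      ((lamB U hU).app (h ⁻¹ᵁ W) t) ⟨y, hy⟩ := rfl

theorem tau_app_val (U : Y.Opens) (hU : IsAffineOpen U) (W : PA.Opens)
    (s : Γ((Scheme.Modules.pushforward (RelProj.emb pA chartA U hU)).obj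
      (GrTwist.twist (𝒜.deg U hU) n), W))
    (y : ProjectiveSpectrum (ℬ.deg U hU))
    (hy' : (RelProj.emb pA chartA U hU).base
        (ProjectiveSpectrum.comap (RelProj.gradedHomAt φ hφ U hU) (hirr U hU) y) ∈ W) :
    GrTwist.val (V := Proj.map (RelProj.gradedHomAt φ hφ U hU) (hirr U hU) ⁻¹ᵁ
        (RelProj.emb pA chartA U hU ⁻¹ᵁ W))
      ((tau (φ := φ) (hφ := hφ) (hirr := hirr) (pA := pA) (chartA := chartA) n U hU).app W s)
        ⟨y, hy'⟩ =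
    GrTwist.locMap (RelProj.gradedHomAt φ hφ U hU) (hirr U hU) y
      (GrTwist.val (V := RelProj.emb pA chartA U hU ⁻¹ᵁ W) s ⟨_, hy'⟩) := rfl

variable (lamA lamB) in
/-- The valuewise relation "`t` is the image of `s`" read in the chart over `U`. -/
def RelV (U : Y.Opens) (hU : IsAffineOpen U) (W : PA.Opens) (s : Γ(LA, W))
    (t : Γ(LB, h ⁻¹ᵁ W)) : Prop :=
  ∀ (y : ProjectiveSpectrum (ℬ.deg U hU))
    (hy : (RelProj.emb pB chartB U hU).base y ∈ h ⁻¹ᵁ W)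
    (hy' : (RelProj.emb pA chartA U hU).base
      (ProjectiveSpectrum.comap (RelProj.gradedHomAt φ hφ U hU) (hirr U hU) y) ∈ W),
    GrTwist.val (V := RelProj.emb pB chartB U hU ⁻¹ᵁ (h ⁻¹ᵁ W))
        ((lamB U hU).app (h ⁻¹ᵁ W) t) ⟨y, hy⟩ =
      GrTwist.locMap (RelProj.gradedHomAt φ hφ U hU) (hirr U hU) y
        (GrTwist.val (V := RelProj.emb pA chartA U hU ⁻¹ᵁ W) ((lamA U hU).app W s) ⟨_, hy'⟩)

theorem rel_iff (hh : RelProj.IsRelProjMap φ hφ hirr chartA chartB h) (U : Y.Opens)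
    (hU : IsAffineOpen U) (W : PA.Opens) (s : Γ(LA, W)) (t : Γ(LB, h ⁻¹ᵁ W)) :
    (mu lamB hh U hU).app W t =
        (tau (φ := φ) (hφ := hφ) (hirr := hirr) n U hU).app W ((lamA U hU).app W s) ↔
      RelV (hirr := hirr) lamA lamB U hU W s t := by
  constructor
  · intro hrel y hy hy'
    have h1 := congrArg (fun σ => GrTwist.val (V := Proj.map (RelProj.gradedHomAt φ hφ U hU)
      (hirr U hU) ⁻¹ᵁ (RelProj.emb pA chartA U hU ⁻¹ᵁ W)) σ ⟨y, hy'⟩) hrel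
    exact (mu_app_val hh U hU W t y hy hy').symm.trans
      (h1.trans (tau_app_val U hU W _ y hy'))
  · intro hrel
    refine Groth.Agent.Lib.H60GrTwist.sec_ext (U := Proj.map (RelProj.gradedHomAt φ hφ U hU)
      (hirr U hU) ⁻¹ᵁ (RelProj.emb pA chartA U hU ⁻¹ᵁ W)) fun y => ?_
    have hy : (RelProj.emb pB chartB U hU).base y.1 ∈ h ⁻¹ᵁ W := (mem_iff hh U hU W y.1).mpr y.2
    exact (mu_app_val hh U hU W t y.1 hy y.2).trans
      ((hrel y.1 hy y.2).trans (tau_app_val U hU W _ y.1 y.2).symm)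

include hφ in
theorem res_comm (U : Y.Opens) (hU : IsAffineOpen U) (r : Γ(Y, U)) (a : 𝒜.presheaf.obj (op U)) :
    ℬ.res hU (hU.basicOpen r) (Y.basicOpen_le r) (RelProj.gradedHomAt φ hφ U hU a) =
      RelProj.gradedHomAt φ hφ (Y.basicOpen r) (hU.basicOpen r)
        (𝒜.res hU (hU.basicOpen r) (Y.basicOpen_le r) a) :=
  (NatTrans.naturality_apply φ.hom (homOfLE (Y.basicOpen_le r)).op a).symm

/-- The valuewise relation read over `U` implies the one read over a basic open `D(r) ⊆ U`. -/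
theorem relV_basicOpen (hA : RelProj.IsRelProj 𝒜 pA chartA) (hB : RelProj.IsRelProj ℬ pB chartB)
    (hh : RelProj.IsRelProjMap φ hφ hirr chartA chartB h)
    (hLA : RelProj.IsRelTwist 𝒜 pA chartA n LA lamA) (hLB : RelProj.IsRelTwist ℬ pB chartB n LB lamB)
    (U : Y.Opens) (hU : IsAffineOpen U) (r : Γ(Y, U)) (W : PA.Opens) (s : Γ(LA, W))
    (t : Γ(LB, h ⁻¹ᵁ W)) (hrel : RelV (hirr := hirr) lamA lamB U hU W s t) :
    RelV (hirr := hirr) lamA lamB (Y.basicOpen r) (hU.basicOpen r) W s t := by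
  intro y hy hy'
  have hyB' := Groth.Agent.Lib.RelTildeGlue.mem_of_mem hB U hU r (h ⁻¹ᵁ W) y hy
  have hyA' := Groth.Agent.Lib.RelTildeGlue.mem_of_mem hA U hU r W _ hy'
  have hyA'' := (mem_iff hh U hU W _).mp hyB'
  have h1 := hLB.compat U hU r (h ⁻¹ᵁ W) t y hy hyB'
  have h2 := hLA.compat U hU r W s _ hy' hyA'
  have h3 := hrel _ hyB' hyA''
  rw [h1, h3, h2]
  exact locMap_square _ _ _ _ _ _ _ _ (res_comm (hφ := hφ) U hU r) ((lamA U hU).app W s) y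
    hyA'' hyA'

theorem mu_bijective (hA : RelProj.IsRelProj 𝒜 pA chartA) (hB : RelProj.IsRelProj ℬ pB chartB)
    (hh : RelProj.IsRelProjMap φ hφ hirr chartA chartB h)
    (hLB : RelProj.IsRelTwist ℬ pB chartB n LB lamB)
    (U : Y.Opens) (hU : IsAffineOpen U) (W : PA.Opens) (hW : W ≤ pA ⁻¹ᵁ U) :
    Function.Bijective ((mu lamB hh U hU).app W) := by
  have hW' : h ⁻¹ᵁ W ≤ pB ⁻¹ᵁ U := by
    rw [← Groth.Agent.Lib.RelProjMap.preimage_eq φ hφ hirr hA hB h hh U]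
    exact h.preimage_mono hW
  have h1 := hLB.bijective U hU (h ⁻¹ᵁ W) hW'
  have hmem : ∀ y : ProjectiveSpectrum (ℬ.deg U hU),
      (RelProj.emb pA chartA U hU).base
        (ProjectiveSpectrum.comap (RelProj.gradedHomAt φ hφ U hU) (hirr U hU) y) ∈ W →
      (RelProj.emb pB chartB U hU).base y ∈ h ⁻¹ᵁ W := fun y => (mem_iff hh U hU W y).mpr
  constructor
  · intro t t' htt'
    apply h1.1
    refine Groth.Agent.Lib.H60GrTwist.sec_ext
      (U := RelProj.emb pB chartB U hU ⁻¹ᵁ (h ⁻¹ᵁ W)) fun y => ?_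
    have hy' := (mem_iff hh U hU W y.1).mp y.2
    have h3 := congrArg (fun σ => GrTwist.val (V := Proj.map (RelProj.gradedHomAt φ hφ U hU)
      (hirr U hU) ⁻¹ᵁ (RelProj.emb pA chartA U hU ⁻¹ᵁ W)) σ ⟨y.1, hy'⟩) htt'
    exact (mu_app_val hh U hU W t y.1 y.2 hy').symm.trans
      (h3.trans (mu_app_val hh U hU W t' y.1 y.2 hy'))
  · intro σ
    have hle : RelProj.emb pB chartB U hU ⁻¹ᵁ (h ⁻¹ᵁ W) ≤
        Proj.map (RelProj.gradedHomAt φ hφ U hU) (hirr U hU) ⁻¹ᵁ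
          (RelProj.emb pA chartA U hU ⁻¹ᵁ W) := fun y hy => (mem_iff hh U hU W y).mp hy
    obtain ⟨t, ht⟩ := h1.2 ((GrTwist.twist (ℬ.deg U hU) n).presheaf.map (homOfLE hle).op σ)
    refine ⟨t, ?_⟩
    refine Groth.Agent.Lib.H60GrTwist.sec_ext (U := Proj.map (RelProj.gradedHomAt φ hφ U hU)
      (hirr U hU) ⁻¹ᵁ (RelProj.emb pA chartA U hU ⁻¹ᵁ W)) fun y => ?_
    have hy := hmem y.1 y.2
    have h3 := congrArg (fun σ' => GrTwist.val (V := RelProj.emb pB chartB U hU ⁻¹ᵁ (h ⁻¹ᵁ W))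
      σ' ⟨y.1, hy⟩) ht
    exact (mu_app_val hh U hU W t y.1 hy y.2).trans h3

/-- EXISTENCE AND UNIQUENESS of the comparison `O_{P_A}(n) ⟶ h_* O_{P_B}(n)`. -/
theorem existsUnique_theta (hA : RelProj.IsRelProj 𝒜 pA chartA) (hB : RelProj.IsRelProj ℬ pB chartB)
    (hh : RelProj.IsRelProjMap φ hφ hirr chartA chartB h)
    (hLA : RelProj.IsRelTwist 𝒜 pA chartA n LA lamA) (hLB : RelProj.IsRelTwist ℬ pB chartB n LB lamB) :
    ∃! θ : LA ⟶ (Scheme.Modules.pushforward h).obj LB,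
      ∀ (U : Y.Opens) (hU : IsAffineOpen U) (W : PA.Opens) (s : Γ(LA, W)),
        RelV (hirr := hirr) lamA lamB U hU W s (θ.app W s) := by
  have key := Groth.Agent.Lib.RelGlueHom.existsUnique_hom (X := PA) (F := LA)
    (G := (Scheme.Modules.pushforward h).obj LB) (ι := Y.affineOpens)
    (fun i => pA ⁻¹ᵁ i.1) (fun i => lamA i.1 i.2) (fun i => mu lamB hh i.1 i.2)
    (fun i => tau (φ := φ) (hφ := hφ) (hirr := hirr) n i.1 i.2) ?_ ?_ ?_ ?_
  · obtain ⟨θ, hθ, huniq⟩ := key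
    refine ⟨θ, fun U hU W s => ?_, fun θ' h' => huniq θ' fun i => ?_⟩
    · have h1 := congrArg (fun g => g.app W s) (hθ ⟨U, hU⟩)
      simp only [Scheme.Modules.Hom.comp_app, ConcreteCategory.comp_apply] at h1
      exact (rel_iff hh U hU W s (θ.app W s)).mp h1
    · refine Scheme.Modules.hom_ext _ _ fun W => ?_
      ext s
      simp only [Scheme.Modules.Hom.comp_app, ConcreteCategory.comp_apply]
      exact (rel_iff hh i.1 i.2 W s (θ'.app W s)).mpr (h' i.1 i.2 W s)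
  · intro x
    obtain ⟨W, hW, hxW, -⟩ := exists_isAffineOpen_mem_and_subset (x := pA.base x) (U := ⊤) trivial
    exact ⟨⟨W, hW⟩, hxW⟩
  · intro i W hW
    exact mu_bijective hA hB hh hLB i.1 i.2 W hW
  · intro i W
    refine Groth.Agent.Lib.RelTildeGlue.pushforward_res_injective _ _ _ ?_
    intro y hy
    exact ⟨hy, Groth.Agent.Lib.RelTildeGlue.emb_mem i.1 i.2 y⟩
  · rintro ⟨U₁, h₁⟩ ⟨U₂, h₂⟩ x hx₁ hx₂
    obtain ⟨f, g, hfg, hxf⟩ := exists_basicOpen_le_affine_inter h₁ h₂ (pA.base x) ⟨hx₁, hx₂⟩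
    refine ⟨⟨Y.basicOpen f, h₁.basicOpen f⟩, hxf, pA.preimage_mono (Y.basicOpen_le f),
      pA.preimage_mono (hfg.trans_le (Y.basicOpen_le g)), ?_, ?_⟩
    · intro W _ s t hst
      exact (rel_iff hh _ _ W s t).mpr
        (relV_basicOpen hA hB hh hLA hLB U₁ h₁ f W s t ((rel_iff hh _ _ W s t).mp hst))
    · intro W _ s t hst
      have key : ∀ (U' : Y.Opens) (hU' : IsAffineOpen U') (_ : Y.basicOpen g = U'),
          RelV (hirr := hirr) lamA lamB U' hU' W s t := by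
        intro U' hU' e
        subst e
        exact relV_basicOpen hA hB hh hLA hLB U₂ h₂ g W s t ((rel_iff hh _ _ W s t).mp hst)
      exact (rel_iff hh _ _ W s t).mpr (key _ (h₁.basicOpen f) hfg.symm)

end rel

end Groth.Agent.Lib.H60RelTwistMap
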