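import Groth.Agent.Lib.H60GrSym
import Groth.Agent.Lib.SymQCAlgUniq
import Groth.Agent.Lib.H60LineSym
import Groth.Agent.S8262
import Groth.Agent.S8263
import Groth.Agent.S8287
import Mathlib.RingTheory.GradedAlgebra.RingHom
import Mathlib.RingTheory.GradedAlgebra.Homogeneous.Maps

/-!
# A surjection `E ⟶ F` induces a closed immersion `P(F) ⟶ P(E)` compatible with `O(1)` (helper60)

* `map_mem_of_sym`: a ring homomorphism out of a symmetric algebra sending scalars to degree `0` and generators to degree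
  `1` is graded; `isGradedHom_of_j`: the relative version for `grSymAlg E`.
* `irrelevant_le_map_of_surjective`: a surjective graded homomorphism generates the irrelevant ideal.
* `surjective_of_factor`, `exists_pi`: the graded surjection `Sym(E) ⟶ Sym(F)` attached to `r : E ⟶ F` surjective over
  affine opens (with the irrelevant-ideal hypothesis of `Proj.map`).
* `exists_map`: the closed immersion `h : P(F) ⟶ P(E)` (`IsRelProjMap`), over the base, with `h^* O_{P(E)}(n) ≅ O_{P(F)}(n)`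
  (via S8262, S8263, S8287).
-/

set_option autoImplicit false
universe u
open CategoryTheory CategoryTheory.Limits AlgebraicGeometry TopologicalSpace Opposite
open scoped HomogeneousIdeal

namespace Groth.Agent.Lib.H60BundleSurj

section ring

/-- A ring homomorphism out of a symmetric algebra which sends scalars to degree `0` and the generators to degree `1`
is graded for the grading by the powers of `range ι`. -/
theorem map_mem_of_sym {R M B τ : Type*} [CommRing R] [AddCommGroup M] [Module R M] [CommRing B]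
    [SetLike τ B] [AddSubgroupClass τ B] (ℬ : ℕ → τ) [SetLike.GradedMonoid ℬ]
    (ψ : SymmetricAlgebra R M →+* B)
    (h0 : ∀ r : R, ψ (algebraMap R _ r) ∈ ℬ 0) (h1 : ∀ m : M, ψ (SymmetricAlgebra.ι R M m) ∈ ℬ 1)
    {d : ℕ} {x : SymmetricAlgebra R M} (hx : x ∈ LinearMap.range (SymmetricAlgebra.ι R M) ^ d) :
    ψ x ∈ ℬ d := by
  induction hx using Submodule.pow_induction_on_left' with
  | algebraMap r => exact h0 r
  | add x y i hx hy ihx ihy =>
    rw [map_add]
    exact add_mem ihx ihy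
  | mem_mul m hm i x hx ih =>
    obtain ⟨m₀, rfl⟩ := hm
    rw [map_mul]
    have := SetLike.mul_mem_graded (h1 m₀) ih
    rwa [add_comm] at this

variable {A σ B τ : Type u} [CommRing A] [SetLike σ A] [AddSubgroupClass σ A] {𝒜 : ℕ → σ} [GradedRing 𝒜]
  [CommRing B] [SetLike τ B] [AddSubgroupClass τ B] {ℬ : ℕ → τ} [GradedRing ℬ]

/-- A surjective graded homomorphism generates the irrelevant ideal of the target from that of the source. -/
theorem irrelevant_le_map_of_surjective (ψ : 𝒜 →+*ᵍ ℬ) (hs : Function.Surjective ψ) :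
    ℬ₊ ≤ (𝒜₊).map ψ := by
  rw [HomogeneousIdeal.irrelevant_le]
  intro i hi b hb
  obtain ⟨a, rfl⟩ := hs b
  have h1 : ψ a = ψ (DirectSum.decompose 𝒜 a i) := by
    rw [GradedRingHom.map_directSumDecompose]
    exact (DirectSum.decompose_of_mem_same ℬ hb).symm
  have h2 : (DirectSum.decompose 𝒜 a i : A) ∈ 𝒜₊ :=
    HomogeneousIdeal.mem_irrelevant_of_mem _ hi (SetLike.coe_mem _)
  change ψ a ∈ ((𝒜₊).map ψ).toIdeal
  rw [h1]
  exact Ideal.mem_map_of_mem _ h2

end ring

section rel

open Groth.Agent.Lib.SymQCAlg Groth.Agent.Lib.H60GrSym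

variable {Y : Scheme.{u}} (E : Y.Modules) [E.IsQuasicoherent]

/-- A homomorphism of algebras out of the graded symmetric algebra `grSymAlg E` which sends `E` into degree one is
graded. -/
theorem isGradedHom_of_j (ℬ : RelProj.QCGrAlg Y) (π : (grSymAlg E).toQCAlg ⟶ ℬ.toQCAlg)
    (h1 : ∀ (U : Y.Opens) (hU : IsAffineOpen U) (x : Γ(E, U)),
      (π.hom.app (op U)).hom (show (symAlg E).presheaf.obj (op U) from (j E).app U x) ∈ ℬ.deg U hU 1) :
    RelProj.IsGradedHom π := by
  intro U hU d x hx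
  have hx' : (symIso E U hU).hom x ∈ LinearMap.range (SymmetricAlgebra.ι Γ(Y, U) Γ(E, U)) ^ d := hx
  haveI := ℬ.graded U hU
  let ψ : SymmetricAlgebra Γ(Y, U) Γ(E, U) →+* ℬ.presheaf.obj (op U) :=
    (π.hom.app (op U)).hom.comp (symIso E U hU).inv.hom
  have key := map_mem_of_sym (ℬ.deg U hU) ψ ?_ ?_ hx'
  · have e : ψ ((symIso E U hU).hom x) = (π.hom.app (op U)).hom x := by
      change (π.hom.app (op U)).hom ((symIso E U hU).inv ((symIso E U hU).hom x)) = _
      have h3 : (symIso E U hU).inv ((symIso E U hU).hom x) = x := congr($((symIso E U hU).hom_inv_id) x)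
      rw [h3]
    rw [e] at key
    exact key
  · intro r
    change (π.hom.app (op U)).hom ((symIso E U hU).inv (algebraMap _ _ r)) ∈ _
    rw [symIso_inv_algebraMap]
    have h0 := NatTrans.congr_app π.comm (op U)
    rw [NatTrans.comp_app] at h0
    have h0' : (π.hom.app (op U)).hom ((symAlg E).str.app (op U) r) = (ℬ.str.app (op U)).hom r :=
      congr($h0 r)
    rw [h0']
    exact ℬ.str_mem U hU r
  · intro m
    have := h1 U hU m
    rw [j_app E U hU, jAff_apply] at this
    exact this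

/-- A homomorphism from any quasi-coherent algebra to the symmetric algebra of `F` through which the structure map of `F`
factors (up to a map surjective over affine opens) is surjective over affine opens. -/
theorem surjective_of_factor {E' F : Y.Modules} (hF : Coh.IsQCoh F)
    (A : RelSpec.QCAlg Y) (j' : E' ⟶ A.toModule)
    (𝒮F : RelProj.QCGrAlg Y) (jF : F ⟶ 𝒮F.toModule) (hjF : RelProj.IsGrSymAlg F 𝒮F jF)
    (π : A ⟶ 𝒮F.toQCAlg) (r : E' ⟶ F)
    (hr : ∀ U : Y.Opens, IsAffineOpen U → Function.Surjective (r.app U))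
    (hjπ : j' ≫ RelSpec.QCAlg.Hom.toModuleMap π = r ≫ jF)
    (U : Y.Opens) (hU : IsAffineOpen U) : Function.Surjective (π.hom.app (op U)).hom := by
  haveI : F.IsQuasicoherent := hF
  obtain ⟨e, he1, he2⟩ := Groth.Agent.Lib.SymQCAlg.exists_ringEquiv F 𝒮F.toQCAlg jF hjF.1 U hU
  have key : ∀ z : SymmetricAlgebra Γ(Y, U) Γ(F, U), e.symm z ∈ (π.hom.app (op U)).hom.range := by
    intro z
    induction z using SymmetricAlgebra.induction with
    | algebraMap a =>
      rw [← he1 a, RingEquiv.symm_apply_apply]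
      refine ⟨(A.str.app (op U)).hom a, ?_⟩
      have h0 := NatTrans.congr_app π.comm (op U)
      rw [NatTrans.comp_app] at h0
      rw [← h0]; rfl
    | ι x =>
      rw [← he2 x, RingEquiv.symm_apply_apply]
      obtain ⟨x', rfl⟩ := hr U hU x
      refine ⟨(show A.presheaf.obj (op U) from j'.app U x'), ?_⟩
      have h1 := congrArg (fun ψ => Scheme.Modules.Hom.app ψ U x') hjπ
      exact h1
    | mul a b ha hb => rw [map_mul]; exact mul_mem ha hb
    | add a b ha hb => rw [map_add]; exact add_mem ha hb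
  intro y
  have := key (e y)
  rwa [RingEquiv.symm_apply_apply] at this

variable {F : Y.Modules} (hF : Coh.IsQCoh F) (r : E ⟶ F)
  (hr : ∀ U : Y.Opens, IsAffineOpen U → Function.Surjective (r.app U))
  (𝒮F : RelProj.QCGrAlg Y) (jF : F ⟶ 𝒮F.toModule) (hjF : RelProj.IsGrSymAlg F 𝒮F jF)

include hF hr hjF in
/-- The graded surjection `Sym(E) ⟶ Sym(F)` induced by a surjection `E ⟶ F`. -/
theorem exists_pi :
    ∃ (π : (grSymAlg E).toQCAlg ⟶ 𝒮F.toQCAlg) (hπ : RelProj.IsGradedHom π)
      (_ : ∀ (U : Y.Opens) (hU : IsAffineOpen U),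
        (𝒮F.deg U hU)₊ ≤ (((grSymAlg E).deg U hU)₊).map (RelProj.gradedHomAt π hπ U hU)),
      j E ≫ RelSpec.QCAlg.Hom.toModuleMap π = r ≫ jF ∧
        ∀ (U : Y.Opens) (_ : IsAffineOpen U), Function.Surjective (π.hom.app (op U)).hom := by
  obtain ⟨π₀, hπ₀, -⟩ := isSymAlg E 𝒮F.toQCAlg (r ≫ jF)
  obtain ⟨π, hπ⟩ : ∃ π : (grSymAlg E).toQCAlg ⟶ 𝒮F.toQCAlg,
      j E ≫ RelSpec.QCAlg.Hom.toModuleMap π = r ≫ jF := ⟨π₀, hπ₀⟩
  have hgr : RelProj.IsGradedHom π := by
    refine isGradedHom_of_j E 𝒮F π fun U hU x => ?_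
    have h1 := congrArg (fun ψ => Scheme.Modules.Hom.app ψ U x) hπ
    have h2 : (π.hom.app (op U)).hom (show (symAlg E).presheaf.obj (op U) from (j E).app U x) =
        (show 𝒮F.presheaf.obj (op U) from jF.app U (r.app U x)) := h1
    rw [h2]
    exact hjF.2 U hU _
  have hsurj : ∀ (U : Y.Opens) (_ : IsAffineOpen U), Function.Surjective (π.hom.app (op U)).hom :=
    fun U hU => surjective_of_factor hF (symAlg E) (j E) 𝒮F jF hjF π r hr hπ U hU
  refine ⟨π, hgr, fun U hU => ?_, hπ, hsurj⟩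
  exact irrelevant_le_map_of_surjective (RelProj.gradedHomAt π hgr U hU) (hsurj U hU)

include hF hr hjF in
/-- **A surjection `E ⟶ F` of quasi-coherent modules induces a closed immersion `P(F) ⟶ P(E)` over the base under which
`O_{P(E)}(1)` pulls back to `O_{P(F)}(1)`.** -/
theorem exists_map {PE PF : Scheme.{u}} (pE : PE ⟶ Y)
    (chartE : ∀ (U : Y.Opens) (hU : IsAffineOpen U),
      (((pE ⁻¹ᵁ U : PE.Opens) : Scheme.{u}) ≅ Proj ((grSymAlg E).deg U hU)))
    (hPE : RelProj.IsRelProj (grSymAlg E) pE chartE) (pF : PF ⟶ Y)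
    (chartF : ∀ (U : Y.Opens) (hU : IsAffineOpen U), (((pF ⁻¹ᵁ U : PF.Opens) : Scheme.{u}) ≅ Proj (𝒮F.deg U hU)))
    (hPF : RelProj.IsRelProj 𝒮F pF chartF) :
    ∃ (π : (grSymAlg E).toQCAlg ⟶ 𝒮F.toQCAlg) (hπ : RelProj.IsGradedHom π)
      (hirr : ∀ (U : Y.Opens) (hU : IsAffineOpen U),
        (𝒮F.deg U hU)₊ ≤ (((grSymAlg E).deg U hU)₊).map (RelProj.gradedHomAt π hπ U hU))
      (h : PF ⟶ PE),
      j E ≫ RelSpec.QCAlg.Hom.toModuleMap π = r ≫ jF ∧
        RelProj.IsRelProjMap π hπ hirr chartE chartF h ∧ IsClosedImmersion h ∧ h ≫ pE = pF ∧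
        ∀ (n : ℤ) (OE : PE.Modules)
          (lamE : ∀ (U : Y.Opens) (hU : IsAffineOpen U),
            OE ⟶ (Scheme.Modules.pushforward (RelProj.emb pE chartE U hU)).obj
              (GrTwist.twist ((grSymAlg E).deg U hU) n))
          (_ : RelProj.IsRelTwist (grSymAlg E) pE chartE n OE lamE)
          (OF : PF.Modules)
          (lamF : ∀ (U : Y.Opens) (hU : IsAffineOpen U),
            OF ⟶ (Scheme.Modules.pushforward (RelProj.emb pF chartF U hU)).obj (GrTwist.twist (𝒮F.deg U hU) n))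
          (_ : RelProj.IsRelTwist 𝒮F pF chartF n OF lamF),
          Nonempty ((Scheme.Modules.pullback h).obj OE ≅ OF) := by
  obtain ⟨π, hπ, hirr, hjπ, hsurj⟩ := exists_pi E hF r hr 𝒮F jF hjF
  obtain ⟨⟨h, hh, -⟩, hover⟩ := Groth.Agent.S8262.result π hπ hirr pE pF chartE chartF hPE hPF
  have hgen : (grSymAlg E).IsGenDegOne :=
    Groth.Agent.Lib.H60LineSym.isGenDegOne E inferInstance (grSymAlg E) (j E) (isGrSymAlg E)
  refine ⟨π, hπ, hirr, h, hjπ, hh,
    Groth.Agent.S8263.result π hπ hsurj hirr pE pF chartE chartF hPE hPF h hh, hover h hh, ?_⟩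
  intro n OE lamE hOE OF lamF hOF
  exact Groth.Agent.S8287.result π hπ hgen hsurj hirr pE pF chartE chartF hPE hPF h hh n OE lamE hOE OF lamF hOF

end rel

end Groth.Agent.Lib.H60BundleSurj
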