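import Mathlib.AlgebraicGeometry.Modules.Sheaf
import Mathlib.CategoryTheory.Limits.Shapes.Multiequalizer
import Mathlib.CategoryTheory.Limits.Types.Limits
import Mathlib.Algebra.Category.Grp.Limits
import Groth.Agent.Lib.H90OXModQcqs
import Groth.Agent.Lib.RelGlueHom

/-!
# Abstract gluing of `O_X`-modules along refinement maps (helper60)

Data: modules `T i` on a scheme `X` indexed by `ι : Type u`, opens `V i`, a relation `E i k` ("`k` refines
`i`") and morphisms `ρ i k h : T i ⟶ T k` for `h : E i k`.  `glue T E ρ : X.Modules` is the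
multiequalizer (families `(s i)` with `ρ i k (s i) = s k`), with projections `lam T E ρ i` and
`lam_comp : lam i ≫ ρ i k h = lam k`; sections: `glue_ext`, `glue_mk`.

Under `GlueHyp T E ρ V` (each `T i` is supported on `V i`: restriction `Γ(T i, W) → Γ(T i, W ⊓ V i)`
bijective; `E i k → V k ≤ V i`; `ρ i k` bijective on sections over opens inside `V k`; transitivity of
`E`, `ρ` on such opens; any two charts have a common refinement around every common point) the projection
`lam i` is bijective on sections over every open inside `V i` (`GlueHyp.lam_bijective`).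
-/

set_option autoImplicit false
universe u
open CategoryTheory CategoryTheory.Limits AlgebraicGeometry TopologicalSpace Opposite

namespace Groth.Agent.Lib.H60ModGlue

variable {X : Scheme.{u}}

/-- Sections over `W`, as a limit-preserving functor to types. -/
noncomputable def secF (W : X.Opens) : X.Modules ⥤ Type u :=
  Scheme.Modules.toPresheaf X ⋙ (evaluation _ _).obj (op W) ⋙ forget Ab

instance (W : X.Opens) : PreservesLimits (secF (X := X) W) := by
  unfold secF
  have : PreservesLimitsOfSize.{u, u} ((evaluation (Opens ↥X)ᵒᵖ Ab.{u}).obj (op W) ⋙ forget Ab) :=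
    comp_preservesLimits _ _
  exact comp_preservesLimits _ _

variable {ι : Type u} (T : ι → X.Modules) (E : ι → ι → Prop) (ρ : ∀ i k, E i k → (T i ⟶ T k))

/-- The shape of the gluing diagram. -/
def shape : MulticospanShape.{u, u} where
  L := ι
  R := {p : ι × ι // E p.1 p.2}
  fst := fun p => p.1.1
  snd := fun p => p.1.2

/-- The gluing diagram. -/
def index : MulticospanIndex (shape E) X.Modules where
  left := T
  right := fun p => T p.1.2
  fst := fun p => ρ p.1.1 p.1.2 p.2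
  snd := fun _ => 𝟙 _

/-- The glued module. -/
noncomputable def glue : X.Modules := multiequalizer (index T E ρ)

/-- The projections. -/
noncomputable def lam (i : ι) : glue T E ρ ⟶ T i := Multiequalizer.ι (index T E ρ) i

theorem lam_comp (i k : ι) (h : E i k) : lam T E ρ i ≫ ρ i k h = lam T E ρ k := by
  have := Multiequalizer.condition (index T E ρ) ⟨(i, k), h⟩
  exact this.trans (Category.comp_id _)

theorem secF_map_apply (W : X.Opens) {M N : X.Modules} (φ : M ⟶ N) (x : Γ(M, W)) :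
    (secF W).map φ x = φ.app W x := rfl

/-- Sections of the glued module are determined by their projections. -/
theorem glue_ext (W : X.Opens) (x y : Γ(glue T E ρ, W))
    (h : ∀ i, (lam T E ρ i).app W x = (lam T E ρ i).app W y) : x = y := by
  have hG := isLimitOfPreserves (secF W) (limit.isLimit (index T E ρ).multicospan)
  apply (Types.isLimitEquivSections hG).injective
  apply Subtype.ext
  funext j
  rcases j with i | b
  · exact h i
  · have hw := limit.w (index T E ρ).multicospan (WalkingMulticospan.Hom.fst b)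
    have h1 : ∀ z : Γ(glue T E ρ, W),
        ((secF W).mapCone (limit.cone (index T E ρ).multicospan)).π.app (WalkingMulticospan.right b) z =
        (ρ b.1.1 b.1.2 b.2).app W ((lam T E ρ b.1.1).app W z) := by
      intro z
      change (secF W).map (limit.π (index T E ρ).multicospan (WalkingMulticospan.right b)) z = _
      rw [← hw, Functor.map_comp]
      rfl
    change ((secF W).mapCone (limit.cone (index T E ρ).multicospan)).π.app (WalkingMulticospan.right b) x =
      ((secF W).mapCone (limit.cone (index T E ρ).multicospan)).π.app (WalkingMulticospan.right b) y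
    rw [h1, h1, h b.1.1]

/-- Compatible families of sections glue to a section of the glued module. -/
theorem glue_mk (W : X.Opens) (s : ∀ i, Γ(T i, W))
    (hs : ∀ i k (h : E i k), (ρ i k h).app W (s i) = s k) :
    ∃ x : Γ(glue T E ρ, W), ∀ i, (lam T E ρ i).app W x = s i := by
  have hG := isLimitOfPreserves (secF W) (limit.isLimit (index T E ρ).multicospan)
  let val : ∀ j, ((index T E ρ).multicospan ⋙ secF W).obj j := fun j =>
    match j with
    | WalkingMulticospan.left i => s i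
    | WalkingMulticospan.right b => s b.1.2
  have hval : val ∈ ((index T E ρ).multicospan ⋙ secF W).sections := by
    rintro (a | b) (a' | b') (f | f | f)
    · change ((index T E ρ).multicospan ⋙ secF W).map (𝟙 _) _ = _
      rw [CategoryTheory.Functor.map_id]; rfl
    · exact hs _ _ b'.2
    · change (secF W).map (𝟙 _) (s b'.1.2) = s b'.1.2
      rw [CategoryTheory.Functor.map_id]; rfl
    · change ((index T E ρ).multicospan ⋙ secF W).map (𝟙 _) _ = _
      rw [CategoryTheory.Functor.map_id]; rfl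
  refine ⟨(Types.isLimitEquivSections hG).symm ⟨val, hval⟩, fun i => ?_⟩
  exact Types.isLimitEquivSections_symm_apply hG ⟨val, hval⟩ (WalkingMulticospan.left i)

/-! ### Bijectivity of the projections -/

open Groth.Agent.Lib.QCohStalk Groth.Agent.Lib.H90OXModQcqs

theorem res_res (F : X.Modules) {O₁ O₂ O₃ : X.Opens} (h₁ : O₂ ≤ O₁) (h₂ : O₃ ≤ O₂) (s : Γ(F, O₁)) :
    res F h₂ (res F h₁ s) = res F (h₂.trans h₁) s := by
  change (F.presheaf.map (homOfLE h₁).op ≫ F.presheaf.map (homOfLE h₂).op) s = _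
  rw [← Functor.map_comp]
  rfl

theorem app_res {M N : X.Modules} (φ : M ⟶ N) {W W' : X.Opens} (h : W' ≤ W) (s : Γ(M, W)) :
    φ.app W' (res M h s) = res N h (φ.app W s) :=
  Groth.Agent.Lib.RelGlueHom.app_res φ h s

variable (V : ι → X.Opens)

/-- The hypotheses of the gluing theorem. -/
structure GlueHyp : Prop where
  hsupp : ∀ (i : ι) (W : X.Opens),
    Function.Bijective (res (T i) (inf_le_left : W ⊓ V i ≤ W))
  hle : ∀ i k, E i k → V k ≤ V i
  hbij : ∀ i k (h : E i k) (W : X.Opens), W ≤ V k → Function.Bijective ((ρ i k h).app W)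
  htrans : ∀ i k l (h : E i k) (h' : E k l), ∃ h'' : E i l, ∀ (W : X.Opens), W ≤ V l →
    ∀ s : Γ(T i, W), (ρ k l h').app W ((ρ i k h).app W s) = (ρ i l h'').app W s
  hloc : ∀ i j (x : X), x ∈ V i → x ∈ V j → ∃ k, x ∈ V k ∧ E i k ∧ E j k

variable {T E}

/-- The property characterizing the `j`-th component of the family extending `t`. -/
def Ext (i₀ j : ι) (W : X.Opens) (t : Γ(T i₀, W)) (a : Γ(T j, W)) : Prop :=
  ∀ k (hi : E i₀ k) (hj : E j k), (ρ j k hj).app (W ⊓ V k) (res (T j) inf_le_left a) =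
    (ρ i₀ k hi).app (W ⊓ V k) (res (T i₀) inf_le_left t)

variable {ρ V}

theorem GlueHyp.trans' (H : GlueHyp T E ρ V) {i k l : ι} (h : E i k) (h' : E k l) (h'' : E i l)
    {W : X.Opens} (hW : W ≤ V l) (s : Γ(T i, W)) :
    (ρ k l h').app W ((ρ i k h).app W s) = (ρ i l h'').app W s := by
  obtain ⟨_, h3⟩ := H.htrans i k l h h'
  exact h3 W hW s

theorem GlueHyp.ext_uniq (H : GlueHyp T E ρ V) {i₀ j : ι} {W : X.Opens} (hW : W ≤ V i₀)
    (t : Γ(T i₀, W)) (a b : Γ(T j, W)) (ha : Ext ρ V i₀ j W t a) (hb : Ext ρ V i₀ j W t b) :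
    a = b := by
  apply (H.hsupp j W).1
  have hk : ∀ x : ↥(W ⊓ V j), ∃ k, x.1 ∈ V k ∧ E i₀ k ∧ E j k :=
    fun x => H.hloc i₀ j x.1 (hW x.2.1) x.2.2
  choose k hxk hi hj using hk
  refine res_ext (T j) (W ⊓ V j) (fun x : ↥(W ⊓ V j) => W ⊓ V (k x))
    (fun x => inf_le_inf_left W (H.hle j (k x) (hj x)))
    (fun x hx => Opens.mem_iSup.mpr ⟨⟨x, hx⟩, ⟨hx.1, hxk ⟨x, hx⟩⟩⟩) _ _ (fun x => ?_)
  rw [res_res, res_res]
  apply (H.hbij j (k x) (hj x) _ inf_le_right).1
  exact (ha (k x) (hi x) (hj x)).trans (hb (k x) (hi x) (hj x)).symm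

theorem GlueHyp.ext_exists (H : GlueHyp T E ρ V) {i₀ : ι} (j : ι) {W : X.Opens} (hW : W ≤ V i₀)
    (t : Γ(T i₀, W)) : ∃ a : Γ(T j, W), Ext ρ V i₀ j W t a := by
  have hk : ∀ x : ↥(W ⊓ V j), ∃ k, x.1 ∈ V k ∧ E i₀ k ∧ E j k :=
    fun x => H.hloc i₀ j x.1 (hW x.2.1) x.2.2
  choose k hxk hi hj using hk
  have hlocs : ∀ x : ↥(W ⊓ V j), ∃ a : Γ(T j, W ⊓ V (k x)),
      (ρ j (k x) (hj x)).app _ a = (ρ i₀ (k x) (hi x)).app _ (res (T i₀) inf_le_left t) :=
    fun x => (H.hbij j (k x) (hj x) _ inf_le_right).2 _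
  choose al hal using hlocs
  have hkey : ∀ (x : ↥(W ⊓ V j)) (l : ι) (hl : E (k x) l) (hjl : E j l) (hil : E i₀ l)
      (O : X.Opens) (hO : O ≤ W ⊓ V l),
      (ρ j l hjl).app O (res (T j) (hO.trans (inf_le_inf_left W (H.hle _ _ hl))) (al x)) =
        (ρ i₀ l hil).app O (res (T i₀) (hO.trans inf_le_left) t) := by
    intro x l hl hjl hil O hO
    have hOl : O ≤ V l := hO.trans inf_le_right
    rw [← H.trans' (hj x) hl hjl hOl, app_res, hal x, ← app_res, H.trans' (hi x) hl hil hOl, res_res]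
  -- glue the local sections
  obtain ⟨a₀, ha₀⟩ := exists_glue (T j) (W ⊓ V j) (fun x : ↥(W ⊓ V j) => W ⊓ V (k x))
    (fun x => inf_le_inf_left W (H.hle j (k x) (hj x)))
    (fun x hx => Opens.mem_iSup.mpr ⟨⟨x, hx⟩, ⟨hx.1, hxk ⟨x, hx⟩⟩⟩) al (by
      intro x x'
      have hl : ∀ z : ↥((W ⊓ V (k x)) ⊓ (W ⊓ V (k x'))), ∃ l, z.1 ∈ V l ∧ E (k x) l ∧ E (k x') l :=
        fun z => H.hloc (k x) (k x') z.1 z.2.1.2 z.2.2.2
      choose l hzl hl1 hl2 using hl
      refine res_ext (T j) _ (fun z : ↥((W ⊓ V (k x)) ⊓ (W ⊓ V (k x'))) => W ⊓ V (l z))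
        (fun z => le_inf (inf_le_inf_left W (H.hle _ _ (hl1 z))) (inf_le_inf_left W (H.hle _ _ (hl2 z))))
        (fun z hz => Opens.mem_iSup.mpr ⟨⟨z, hz⟩, ⟨hz.1.1, hzl ⟨z, hz⟩⟩⟩) _ _ (fun z => ?_)
      rw [res_res, res_res]
      obtain ⟨hjl, -⟩ := H.htrans j (k x) (l z) (hj x) (hl1 z)
      obtain ⟨hil, -⟩ := H.htrans i₀ (k x) (l z) (hi x) (hl1 z)
      apply (H.hbij j (l z) hjl _ inf_le_right).1
      exact (hkey x (l z) (hl1 z) hjl hil _ le_rfl).trans (hkey x' (l z) (hl2 z) hjl hil _ le_rfl).symm)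
  obtain ⟨a, ha⟩ := (H.hsupp j W).2 a₀
  have haal : ∀ x : ↥(W ⊓ V j), res (T j) (inf_le_inf_left W (H.hle j (k x) (hj x)) |>.trans inf_le_left) a = al x := by
    intro x
    rw [← ha₀ x, ← ha, res_res]
  refine ⟨a, fun k' hi' hj' => ?_⟩
  have hl : ∀ z : ↥(W ⊓ V k'), ∃ l, z.1 ∈ V l ∧ E k' l ∧
      E (k ⟨z.1, ⟨z.2.1, H.hle _ _ hj' z.2.2⟩⟩) l :=
    fun z => H.hloc k' (k ⟨z.1, ⟨z.2.1, H.hle _ _ hj' z.2.2⟩⟩) z.1 z.2.2 (hxk _)
  choose l hzl hl1 hl2 using hl
  refine res_ext (T k') (W ⊓ V k') (fun z : ↥(W ⊓ V k') => W ⊓ V (l z))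
    (fun z => inf_le_inf_left W (H.hle _ _ (hl1 z)))
    (fun z hz => Opens.mem_iSup.mpr ⟨⟨z, hz⟩, ⟨hz.1, hzl ⟨z, hz⟩⟩⟩) _ _ (fun z => ?_)
  rw [← app_res, ← app_res, res_res, res_res]
  obtain ⟨hjl, -⟩ := H.htrans j k' (l z) hj' (hl1 z)
  obtain ⟨hil, -⟩ := H.htrans i₀ k' (l z) hi' (hl1 z)
  apply (H.hbij k' (l z) (hl1 z) _ inf_le_right).1
  rw [H.trans' hj' (hl1 z) hjl inf_le_right, H.trans' hi' (hl1 z) hil inf_le_right]
  set x : ↥(W ⊓ V j) := ⟨z.1, ⟨z.2.1, H.hle _ _ hj' z.2.2⟩⟩ with hx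
  have h1 := hkey x (l z) (hl2 z) hjl hil (W ⊓ V (l z)) le_rfl
  rw [← haal x, res_res] at h1
  exact h1

theorem ext_lam (i₀ j : ι) (W : X.Opens) (x : Γ(glue T E ρ, W)) :
    Ext ρ V i₀ j W ((lam T E ρ i₀).app W x) ((lam T E ρ j).app W x) := by
  intro k hi hj
  rw [← app_res, ← app_res]
  have h1 : (ρ j k hj).app (W ⊓ V k) ((lam T E ρ j).app (W ⊓ V k) (res (glue T E ρ) inf_le_left x)) =
      (lam T E ρ j ≫ ρ j k hj).app (W ⊓ V k) (res (glue T E ρ) inf_le_left x) := rfl
  have h2 : (ρ i₀ k hi).app (W ⊓ V k) ((lam T E ρ i₀).app (W ⊓ V k) (res (glue T E ρ) inf_le_left x)) =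
      (lam T E ρ i₀ ≫ ρ i₀ k hi).app (W ⊓ V k) (res (glue T E ρ) inf_le_left x) := rfl
  rw [h1, h2, lam_comp, lam_comp]

/-- GLUING: the projections of the glued module are bijective on sections over the opens inside the
corresponding chart. -/
theorem GlueHyp.lam_bijective (H : GlueHyp T E ρ V) (i₀ : ι) (W : X.Opens) (hW : W ≤ V i₀) :
    Function.Bijective ((lam T E ρ i₀).app W) := by
  constructor
  · intro x y hxy
    apply glue_ext T E ρ W
    intro j
    refine H.ext_uniq hW ((lam T E ρ i₀).app W x) _ _ (ext_lam i₀ j W x) ?_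
    have := ext_lam (V := V) i₀ j W y
    rw [← hxy] at this
    exact this
  · intro t
    have hex : ∀ j, ∃ a : Γ(T j, W), Ext ρ V i₀ j W t a := fun j => H.ext_exists j hW t
    choose s hs using hex
    obtain ⟨x, hx⟩ := glue_mk T E ρ W s (by
      intro j j' h
      refine H.ext_uniq hW t _ _ ?_ (hs j')
      intro k hi hj'k
      obtain ⟨hjk, -⟩ := H.htrans j j' k h hj'k
      rw [← app_res, H.trans' h hj'k hjk inf_le_right]
      exact hs j k hi hjk)
    refine ⟨x, ?_⟩
    rw [hx i₀]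
    exact H.ext_uniq hW t _ _ (hs i₀) (fun k hi hj => rfl)

end Groth.Agent.Lib.H60ModGlue
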