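import Groth.Prelude.Def_GrTwist
import Groth.Agent.Lib.H60GrTwist
import Groth.Agent.Lib.H90OXModQcqs

/-!
# `GrTwist.comap` is bijective on sections inside the range of `Proj.map` (helper60)

For a homomorphism of graded rings `ψ : 𝒜 →+*ᵍ ℬ` (gradings by additive subgroups) such that
* the induced maps of localizations `GrTwist.locMap ψ hψ y` are injective,
* every homogeneous element of `B` becomes, after multiplication by the image of a homogeneous element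
  of `A` not vanishing at a given point, the image of a homogeneous element of `A` (`hgen`),
* `Proj.map ψ hψ` is injective and open on points,
the canonical map `GrTwist.comap ψ hψ n : O_A(n) ⟶ (Proj.map ψ)_* O_B(n)` is bijective on sections over
every open `W` contained in the range of `Proj.map ψ` (`comap_app_bijective`).
-/

set_option autoImplicit false
universe u
open CategoryTheory AlgebraicGeometry TopologicalSpace Opposite GrTwist
open scoped HomogeneousIdeal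

namespace Groth.Agent.Lib.H60TwistLoc

open Groth.Agent.Lib.H60GrTwist Groth.Agent.Lib.QCohStalk

variable {A σ : Type u} [CommRing A] [SetLike σ A] [AddSubgroupClass σ A] {𝒜 : ℕ → σ} [GradedRing 𝒜]

/-- The section `a / f` of `O(n)` over an open on which `f` vanishes nowhere. -/
noncomputable def fracSec (n : ℤ) {i j : ℕ} (a : 𝒜 i) (f : 𝒜 j) (hij : (i : ℤ) = j + n ∨ (a : A) = 0)
    (V : (Proj 𝒜).Opens) (hV : ∀ z : V, (f : A) ∉ z.1.asHomogeneousIdeal) : Γ(twist 𝒜 n, V) :=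
  (⟨fun z => ⟨Localization.mk (a : A) ⟨(f : A), hV z⟩, by
      rcases hij with h | h
      · exact Submodule.subset_span ⟨i, j, a, f, hV z, h, rfl⟩
      · rw [h, Localization.mk_zero]; exact zero_mem _⟩,
    fun z => ⟨V, z.2, 𝟙 _, i, j, a, f, hV, hij, fun _ => rfl⟩⟩ : sectN (𝒜 := 𝒜) n (op V))

theorem sval_fracSec (n : ℤ) {i j : ℕ} (a : 𝒜 i) (f : 𝒜 j) (hij : (i : ℤ) = j + n ∨ (a : A) = 0)
    (V : (Proj 𝒜).Opens) (hV : ∀ z : V, (f : A) ∉ z.1.asHomogeneousIdeal) (z : V) :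
    sval (fracSec n a f hij V hV) z = Localization.mk (a : A) ⟨(f : A), hV z⟩ := rfl

variable {B τ : Type u} [CommRing B] [SetLike τ B] [AddSubgroupClass τ B] {ℬ : ℕ → τ} [GradedRing ℬ]
variable (ψ : 𝒜 →+*ᵍ ℬ) (hψ : ℬ₊ ≤ (𝒜₊).map ψ)

theorem sval_comap_app (n : ℤ) (W : (Proj 𝒜).Opens) (s : Γ(twist 𝒜 n, W))
    (y : (Proj.map ψ hψ ⁻¹ᵁ W : (Proj ℬ).Opens)) :
    sval (U := Proj.map ψ hψ ⁻¹ᵁ W) ((comap ψ hψ n).app W s) y =
      locMap ψ hψ y.1 (sval s ⟨ProjectiveSpectrum.comap ψ hψ y.1, y.2⟩) := rfl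

/-- Local lifting of a section of `O_B(n)` to a section of `O_A(n)` around a point of the range. -/
theorem exists_local_lift (n : ℤ)
    (hgen : ∀ (y : ProjectiveSpectrum ℬ) (i : ℕ) (b : B), b ∈ ℬ i →
      ∃ (j : ℕ) (g a : A), g ∈ 𝒜 j ∧ a ∈ 𝒜 (i + j) ∧ ψ g ∉ y.asHomogeneousIdeal ∧ ψ g * b = ψ a)
    (hopen : IsOpenMap (Proj.map ψ hψ).base) (hinjb : Function.Injective (Proj.map ψ hψ).base)
    (W : (Proj 𝒜).Opens) (t : Γ(twist ℬ n, Proj.map ψ hψ ⁻¹ᵁ W))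
    (y : ProjectiveSpectrum ℬ) (hy : ProjectiveSpectrum.comap ψ hψ y ∈ W) :
    ∃ (V : (Proj 𝒜).Opens) (_ : ProjectiveSpectrum.comap ψ hψ y ∈ V) (hV : V ≤ W) (σ : Γ(twist 𝒜 n, V)),
      ∀ (z : ProjectiveSpectrum ℬ) (hz : ProjectiveSpectrum.comap ψ hψ z ∈ V),
        locMap ψ hψ z (sval σ ⟨_, hz⟩) = sval t ⟨z, hV hz⟩ := by
  obtain ⟨N, hyN, hN, i, k, b, f', f'_nin, hdeg, hval⟩ := exists_frac t ⟨y, hy⟩
  rcases hdeg with hdeg | hb
  · obtain ⟨j₁, g₁, a, hg₁, ha, hg₁y, e₁⟩ := hgen y i b.1 b.2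
    obtain ⟨j₂, g₂, f, hg₂, hf, hg₂y, e₂⟩ := hgen y k f'.1 f'.2
    let N' : (Proj ℬ).Opens := N ⊓ Proj.basicOpen ℬ (ψ g₁) ⊓ Proj.basicOpen ℬ (ψ g₂)
    have hyN' : y ∈ N' := ⟨⟨hyN, (Proj.mem_basicOpen ℬ _ _).mpr hg₁y⟩, (Proj.mem_basicOpen ℬ _ _).mpr hg₂y⟩
    let V : (Proj 𝒜).Opens := ⟨(Proj.map ψ hψ).base '' (N' : Set (Proj ℬ)), hopen _ N'.2⟩
    have hmemV : ∀ z : ProjectiveSpectrum ℬ, ProjectiveSpectrum.comap ψ hψ z ∈ V → z ∈ N' := by
      intro z hz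
      obtain ⟨z', hz', e⟩ := hz
      have : z' = z := hinjb e
      exact this ▸ hz'
    have hVW : V ≤ W := by
      rintro _ ⟨z, hz, rfl⟩
      exact hN hz.1.1
    have hnum : g₂ * a ∈ 𝒜 (j₂ + (i + j₁)) := SetLike.mul_mem_graded hg₂ ha
    have hden : g₁ * f ∈ 𝒜 (j₁ + (k + j₂)) := SetLike.mul_mem_graded hg₁ hf
    have hdenV : ∀ z : V, (g₁ * f) ∉ z.1.asHomogeneousIdeal := by
      rintro ⟨_, z, hz, rfl⟩ h
      have h' : ψ (g₁ * f) ∈ z.asHomogeneousIdeal := h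
      rw [map_mul, ← e₂] at h'
      rcases z.isPrime.mem_or_mem h' with h1 | h1
      · exact (Proj.mem_basicOpen ℬ _ _).mp hz.1.2 h1
      · rcases z.isPrime.mem_or_mem h1 with h2 | h2
        · exact (Proj.mem_basicOpen ℬ _ _).mp hz.2 h2
        · exact f'_nin ⟨z, hz.1.1⟩ h2
    refine ⟨V, ⟨y, hyN', rfl⟩, hVW,
      fracSec n ⟨g₂ * a, hnum⟩ ⟨g₁ * f, hden⟩ (Or.inl (by push_cast; omega)) V hdenV, ?_⟩
    intro z hz
    have hzN' := hmemV z hz
    rw [sval_fracSec, locMap_mk]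
    have := hval ⟨z, hzN'.1.1⟩
    refine Eq.trans ?_ this.symm
    rw [Localization.mk_eq_mk_iff, Localization.r_iff_exists]
    refine ⟨1, ?_⟩
    simp only [OneMemClass.coe_one, one_mul, map_mul]
    rw [← e₁, ← e₂]
    ring
  · -- the zero fraction
    let V : (Proj 𝒜).Opens := ⟨(Proj.map ψ hψ).base '' (N : Set (Proj ℬ)), hopen _ N.2⟩
    have hmemV : ∀ z : ProjectiveSpectrum ℬ, ProjectiveSpectrum.comap ψ hψ z ∈ V → z ∈ N := by
      intro z hz
      obtain ⟨z', hz', e⟩ := hz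
      have : z' = z := hinjb e
      exact this ▸ hz'
    have hVW : V ≤ W := by
      rintro _ ⟨z, hz, rfl⟩
      exact hN hz
    refine ⟨V, ⟨y, hyN, rfl⟩, hVW, 0, ?_⟩
    intro z hz
    have := hval ⟨z, hmemV z hz⟩
    rw [sval_zero, map_zero]
    refine Eq.trans ?_ this.symm
    rw [hb, Localization.mk_zero]

theorem comap_app_bijective (n : ℤ)
    (hinj : ∀ y : ProjectiveSpectrum ℬ, Function.Injective (locMap ψ hψ y))
    (hgen : ∀ (y : ProjectiveSpectrum ℬ) (i : ℕ) (b : B), b ∈ ℬ i →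
      ∃ (j : ℕ) (g a : A), g ∈ 𝒜 j ∧ a ∈ 𝒜 (i + j) ∧ ψ g ∉ y.asHomogeneousIdeal ∧ ψ g * b = ψ a)
    (hopen : IsOpenMap (Proj.map ψ hψ).base) (hinjb : Function.Injective (Proj.map ψ hψ).base)
    (W : (Proj 𝒜).Opens) (hW : (W : Set (Proj 𝒜)) ⊆ Set.range (Proj.map ψ hψ).base) :
    Function.Bijective ((comap ψ hψ n).app W) := by
  constructor
  · intro s s' h
    apply sec_ext
    rintro ⟨x, hx⟩
    obtain ⟨y, rfl⟩ := hW hx
    have h1 := congrArg (fun t => sval (U := Proj.map ψ hψ ⁻¹ᵁ W) t ⟨y, hx⟩) h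
    exact hinj y h1
  · intro t
    let t' : Γ(twist ℬ n, Proj.map ψ hψ ⁻¹ᵁ W) := t
    have hloc : ∀ x : W, ∃ (V : (Proj 𝒜).Opens) (_ : x.1 ∈ V) (hV : V ≤ W) (σ : Γ(twist 𝒜 n, V)),
        ∀ (z : ProjectiveSpectrum ℬ) (hz : ProjectiveSpectrum.comap ψ hψ z ∈ V),
          locMap ψ hψ z (sval σ ⟨_, hz⟩) = sval t' ⟨z, hV hz⟩ := by
      rintro ⟨x, hx⟩
      obtain ⟨y, rfl⟩ := hW hx
      exact exists_local_lift ψ hψ n hgen hopen hinjb W t' y hx
    choose V hxV hV σ hσ using hloc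
    obtain ⟨s, hs⟩ := Groth.Agent.Lib.H90OXModQcqs.exists_glue (twist 𝒜 n) W V hV
      (fun x hx => Opens.mem_iSup.mpr ⟨⟨x, hx⟩, hxV ⟨x, hx⟩⟩) σ (by
        intro x x'
        apply sec_ext
        rintro ⟨z', hz'⟩
        obtain ⟨z, rfl⟩ := hW (hV x hz'.1)
        exact hinj z ((hσ x z hz'.1).trans (hσ x' z hz'.2).symm))
    refine ⟨s, ?_⟩
    apply sec_ext (U := Proj.map ψ hψ ⁻¹ᵁ W)
    rintro ⟨y, hy⟩
    rw [sval_comap_app]
    have h1 := hσ ⟨_, hy⟩ y (hxV ⟨_, hy⟩)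
    have h2 := congrArg (fun τ => sval τ ⟨ProjectiveSpectrum.comap ψ hψ y, hxV ⟨_, hy⟩⟩) (hs ⟨_, hy⟩)
    have h2' : sval s ⟨ProjectiveSpectrum.comap ψ hψ y, hy⟩ =
        sval (σ ⟨_, hy⟩) ⟨ProjectiveSpectrum.comap ψ hψ y, hxV ⟨_, hy⟩⟩ := h2
    rw [h2']
    exact h1

/-! ### The case of a localization at an element of degree zero -/

section Away

variable {c : A} (hc : c ∈ 𝒜 0)
  (hloc : letI := ψ.toRingHom.toAlgebra; IsLocalization.Away c B)

include hloc in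
theorem isUnit_map_of_away : IsUnit (ψ c) := by
  letI := ψ.toRingHom.toAlgebra
  exact IsLocalization.Away.algebraMap_isUnit (S := B) c

include hloc in
theorem map_notMem_of_away (y : ProjectiveSpectrum ℬ) : ψ c ∉ y.asHomogeneousIdeal := fun h =>
  y.isPrime.ne_top (Ideal.eq_top_of_isUnit_mem _ h (isUnit_map_of_away ψ hloc))

include hloc in
theorem locMap_injective_of_away (y : ProjectiveSpectrum ℬ) : Function.Injective (locMap ψ hψ y) := by
  letI := ψ.toRingHom.toAlgebra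
  haveI : IsLocalization.Away c B := hloc
  rw [injective_iff_map_eq_zero]
  intro q
  induction q using Localization.induction_on with
  | H p =>
    obtain ⟨a, s⟩ := p
    intro hq
    rw [locMap_mk] at hq
    rw [Localization.mk_eq_mk', IsLocalization.mk'_eq_zero_iff] at hq ⊢
    obtain ⟨⟨u', hu'⟩, hu'a⟩ := hq
    change u' * ψ a = 0 at hu'a
    obtain ⟨⟨u, ⟨_, k, rfl⟩⟩, hu⟩ := IsLocalization.surj (Submonoid.powers c) u'
    change u' * ψ (c ^ k) = ψ u at hu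
    have h0 : ψ (u * a) = 0 := by
      rw [map_mul, ← hu, mul_right_comm, hu'a, zero_mul]
    obtain ⟨⟨_, l, rfl⟩, hl⟩ := (IsLocalization.map_eq_zero_iff (Submonoid.powers c) B (u * a)).mp h0
    change c ^ l * (u * a) = 0 at hl
    refine ⟨⟨c ^ l * u, ?_⟩, ?_⟩
    · intro hmem
      have hmem' : ψ (c ^ l * u) ∈ y.asHomogeneousIdeal := hmem
      rw [map_mul, ← hu, map_pow, map_pow] at hmem'
      have hcy := map_notMem_of_away ψ hloc y
      rcases y.isPrime.mem_or_mem hmem' with h1 | h1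
      · exact hcy (y.isPrime.mem_of_pow_mem _ h1)
      · rcases y.isPrime.mem_or_mem h1 with h2 | h2
        · exact hu' h2
        · exact hcy (y.isPrime.mem_of_pow_mem _ h2)
    · change c ^ l * u * a = 0
      rw [mul_assoc]; exact hl

include hc hloc in
theorem hgen_of_away (y : ProjectiveSpectrum ℬ) (i : ℕ) (b : B) (hb : b ∈ ℬ i) :
    ∃ (j : ℕ) (g a : A), g ∈ 𝒜 j ∧ a ∈ 𝒜 (i + j) ∧ ψ g ∉ y.asHomogeneousIdeal ∧ ψ g * b = ψ a := by
  classical
  letI := ψ.toRingHom.toAlgebra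
  haveI : IsLocalization.Away c B := hloc
  obtain ⟨⟨x, ⟨_, k, rfl⟩⟩, hx⟩ := IsLocalization.surj (Submonoid.powers c) b
  change b * ψ (c ^ k) = ψ x at hx
  have hck : c ^ k ∈ 𝒜 0 := by
    have := SetLike.pow_mem_graded k hc
    simpa using this
  have hbi : b * ψ (c ^ k) ∈ ℬ (i + 0) := SetLike.mul_mem_graded hb (ψ.map_mem hck)
  have hxi : ψ (DirectSum.decompose 𝒜 x (i + 0) : A) = b * ψ (c ^ k) := by
    rw [GradedRingHom.map_directSumDecompose, ← hx, DirectSum.decompose_of_mem_same _ hbi]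
  refine ⟨0, c ^ k, (DirectSum.decompose 𝒜 x (i + 0) : A), hck, SetLike.coe_mem _, ?_, ?_⟩
  · rw [map_pow]
    exact fun h => map_notMem_of_away ψ hloc y (y.isPrime.mem_of_pow_mem _ h)
  · rw [hxi, mul_comm]

include hc hloc in
/-- For a localization at an element of degree zero, `GrTwist.comap` is bijective on sections over the
opens inside the range of `Proj.map ψ`. -/
theorem comap_app_bijective_of_away (n : ℤ)
    (hopen : IsOpenMap (Proj.map ψ hψ).base) (hinjb : Function.Injective (Proj.map ψ hψ).base)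
    (W : (Proj 𝒜).Opens) (hW : (W : Set (Proj 𝒜)) ⊆ Set.range (Proj.map ψ hψ).base) :
    Function.Bijective ((comap ψ hψ n).app W) :=
  comap_app_bijective ψ hψ n (locMap_injective_of_away ψ hψ hloc) (hgen_of_away ψ hc hloc)
    hopen hinjb W hW

end Away

end Groth.Agent.Lib.H60TwistLoc
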