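import Groth.Agent.Lib.AwayLocalization
import Mathlib.AlgebraicGeometry.ProjectiveSpectrum.Functor
import Mathlib.AlgebraicGeometry.Morphisms.OpenImmersion

/-!
# `Proj` of a degree-zero localization

If `ψ : 𝒜 →+*ᵍ ℬ` exhibits `B` as `A[1/c]` with `c` of degree zero, then `Proj.map ψ` is an open
immersion (`isOpenImmersion_map`) whose range contains every point of a chart `D₊(s)` at which
`c/1` does not vanish (`mem_range_map`).
-/

set_option autoImplicit false

universe u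

open CategoryTheory AlgebraicGeometry HomogeneousLocalization Graded
open scoped HomogeneousIdeal

namespace Groth.Agent.Lib.ProjLocalization

variable {A B σ τ : Type u} [CommRing A] [SetLike σ A] [AddSubgroupClass σ A]
  [CommRing B] [SetLike τ B] [AddSubgroupClass τ B]
  {𝒜 : ℕ → σ} {ℬ : ℕ → τ} [GradedRing 𝒜] [GradedRing ℬ]
  (ψ : 𝒜 →+*ᵍ ℬ) (hψ : ℬ₊ ≤ 𝒜₊.map ψ) {c : A} (hc : c ∈ 𝒜 0)

include hc in
theorem isOpenImmersion_map
    (hloc : letI := ψ.toRingHom.toAlgebra; IsLocalization.Away c B) :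
    IsOpenImmersion (Proj.map ψ hψ) := by
  refine Groth.Agent.Lib.ProjMapImm.of_forall_away ψ hψ @IsOpenImmersion fun i _ s hs => ?_
  have hl := Groth.Agent.Lib.AwayLocalization.isLocalization_away_map ψ hc hloc hs
  let alg := (Away.map ψ s).toAlgebra
  exact IsOpenImmersion.of_isLocalization (fromZeroRingHom 𝒜 (.powers s) ⟨c, hc⟩)

theorem mem_range_map
    (hloc : letI := ψ.toRingHom.toAlgebra; IsLocalization.Away c B)
    {i : ℕ} (hi : 0 < i) {s : A} (hs : s ∈ 𝒜 i) (q : Spec (.of (Away 𝒜 s)))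
    (hq : fromZeroRingHom 𝒜 (.powers s) ⟨c, hc⟩ ∉ q.asIdeal) :
    Proj.awayι 𝒜 s hs hi q ∈ Set.range (Proj.map ψ hψ) := by
  have hl := Groth.Agent.Lib.AwayLocalization.isLocalization_away_map ψ hc hloc hs
  let alg := (Away.map ψ s).toAlgebra
  have hr := PrimeSpectrum.localization_away_comap_range (Away ℬ (ψ s))
    (fromZeroRingHom 𝒜 (.powers s) ⟨c, hc⟩)
  have hq' : q ∈ Set.range (PrimeSpectrum.comap (algebraMap (Away 𝒜 s) (Away ℬ (ψ s)))) := by
    rw [hr]; exact hq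
  obtain ⟨q', rfl⟩ := hq'
  refine ⟨Proj.awayι ℬ (ψ s) (map_mem ψ hs) hi q', ?_⟩
  rw [← Scheme.Hom.comp_apply, Proj.awayι_comp_map ψ hψ hi s hs, Scheme.Hom.comp_apply]
  rfl

end Groth.Agent.Lib.ProjLocalization
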