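import Groth.Prelude.Def_RelProj2
import Groth.Agent.Lib.H60ModGlue
import Groth.Agent.Lib.H60TwistLoc
import Groth.Agent.Lib.ProjLocalization
import Groth.Agent.Lib.H60RelTwist
import Groth.Agent.Lib.RelTildeGlue

/-!
# Existence of the twisting sheaves `O_P(n)` on a relative Proj (helper60)
-/

set_option autoImplicit false
universe u
open CategoryTheory CategoryTheory.Limits AlgebraicGeometry Opposite TopologicalSpace
open scoped HomogeneousIdeal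
noncomputable section

namespace Groth.Agent.Lib.H60RelTwistExists

open Groth.Agent.Lib.H60GrTwist Groth.Agent.Lib.H60TwistLoc Groth.Agent.Lib.H60ModGlue GrTwist
  Groth.Agent.Lib.QCohStalk

section ring
variable {A σ : Type u} [CommRing A] [SetLike σ A] [AddSubgroupClass σ A] {𝒜 : ℕ → σ} [GradedRing 𝒜]
variable {B τ : Type u} [CommRing B] [SetLike τ B] [AddSubgroupClass τ B] {ℬ : ℕ → τ} [GradedRing ℬ]
variable {C ρ : Type u} [CommRing C] [SetLike ρ C] [AddSubgroupClass ρ C] {𝒞 : ℕ → ρ} [GradedRing 𝒞]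

/-- Values of a section read through a commutative triangle of graded ring homomorphisms. -/
theorem locMap_triangle (ψ₁ : 𝒜 →+*ᵍ ℬ) (h₁ : ℬ₊ ≤ (𝒜₊).map ψ₁) (ψ₂ : ℬ →+*ᵍ 𝒞) (h₂ : 𝒞₊ ≤ (ℬ₊).map ψ₂)
    (ψ₃ : 𝒜 →+*ᵍ 𝒞) (h₃ : 𝒞₊ ≤ (𝒜₊).map ψ₃)
    (hcomm : ∀ a : A, ψ₂ (ψ₁ a) = ψ₃ a) {n : ℤ} {V : (Proj 𝒜).Opens} (t : Γ(twist 𝒜 n, V))
    (y : ProjectiveSpectrum 𝒞)
    (h : ProjectiveSpectrum.comap ψ₁ h₁ (ProjectiveSpectrum.comap ψ₂ h₂ y) ∈ V)
    (h' : ProjectiveSpectrum.comap ψ₃ h₃ y ∈ V) :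
    locMap ψ₂ h₂ y (locMap ψ₁ h₁ _ (sval t ⟨_, h⟩)) = locMap ψ₃ h₃ y (sval t ⟨_, h'⟩) := by
  have hx : ProjectiveSpectrum.comap ψ₁ h₁ (ProjectiveSpectrum.comap ψ₂ h₂ y) =
      ProjectiveSpectrum.comap ψ₃ h₃ y := by
    apply ProjectiveSpectrum.ext
    apply HomogeneousIdeal.ext
    ext a
    change ψ₂ (ψ₁ a) ∈ y.asHomogeneousIdeal ↔ ψ₃ a ∈ y.asHomogeneousIdeal
    rw [hcomm]
  obtain ⟨V₀, hxV₀, hV₀, i, j, a, s, s_nin, -, w⟩ := exists_frac t ⟨_, h⟩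
  have hx' : ProjectiveSpectrum.comap ψ₃ h₃ y ∈ V₀ := by
    rw [← hx]; exact hxV₀
  have w1 := w ⟨_, hxV₀⟩
  have w2 := w ⟨_, hx'⟩
  have e1 : sval t ⟨_, h⟩ = Localization.mk a.1 ⟨s.1, s_nin ⟨_, hxV₀⟩⟩ := w1
  have e2 : sval t ⟨_, h'⟩ = Localization.mk a.1 ⟨s.1, s_nin ⟨_, hx'⟩⟩ := w2
  rw [e1, e2, locMap_mk, locMap_mk, locMap_mk]
  congr 1
  · exact hcomm _
  · exact Subtype.ext (hcomm _)

end ring

/-- Restriction of sections of a direct image between opens with the same preimage is bijective. -/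
theorem pushforward_res_bijective {X Z : Scheme.{u}} (f : X ⟶ Z) (M : X.Modules) {W W' : Z.Opens} (h : W' ≤ W)
    (h' : f ⁻¹ᵁ W ≤ f ⁻¹ᵁ W') :
    Function.Bijective (res ((Scheme.Modules.pushforward f).obj M) h) := by
  refine ⟨Groth.Agent.Lib.RelTildeGlue.pushforward_res_injective f M h h', ?_⟩
  change Function.Surjective (((Scheme.Modules.pushforward f).obj M).presheaf.map (homOfLE h).op)
  rw [Scheme.Modules.pushforward_obj_presheaf_map]
  have hr : Function.RightInverse (M.presheaf.map (homOfLE h').op)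
      (M.presheaf.map ((Opens.map f.base).map (homOfLE h)).op) := by
    intro a
    have e : (homOfLE h').op ≫ ((Opens.map f.base).map (homOfLE h)).op = 𝟙 _ := Subsingleton.elim _ _
    have e2 : M.presheaf.map (homOfLE h').op ≫ M.presheaf.map ((Opens.map f.base).map (homOfLE h)).op = 𝟙 _ := by
      rw [← Functor.map_comp, e]
      exact M.presheaf.map_id _
    exact congrArg (fun g => g a) e2
  exact hr.surjective

section rel

variable {Y P : Scheme.{u}} (𝒮 : RelProj.QCGrAlg Y) (p : P ⟶ Y)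
  (chart : ∀ (U : Y.Opens) (hU : IsAffineOpen U), (((p ⁻¹ᵁ U : P.Opens) : Scheme.{u}) ≅ Proj (𝒮.deg U hU)))
  (n : ℤ)

/-- The index type: affine opens of the base. -/
abbrev Idx (Y : Scheme.{u}) : Type u := {U : Y.Opens // IsAffineOpen U}

/-- The charts. -/
def VV (i : Idx Y) : P.Opens := p ⁻¹ᵁ i.1

/-- The direct images of the chartwise twisting sheaves. -/
def TT (i : Idx Y) : P.Modules :=
  (Scheme.Modules.pushforward (RelProj.emb p chart i.1 i.2)).obj (GrTwist.twist (𝒮.deg i.1 i.2) n)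

/-- `k` is a basic open of `i`. -/
def EE (i k : Idx Y) : Prop := ∃ r : Γ(Y, i.1), k.1 = Y.basicOpen r

variable {𝒮 p chart}

/-- The data attached to a refinement (all propositions). -/
theorem EE.data (hP : RelProj.IsRelProj 𝒮 p chart) {i k : Idx Y} (h : EE i k) :
    ∃ (hle : k.1 ≤ i.1) (hirr : (𝒮.deg k.1 k.2)₊ ≤ ((𝒮.deg i.1 i.2)₊).map (𝒮.res i.2 k.2 hle)),
      Proj.map (𝒮.res i.2 k.2 hle) hirr ≫ RelProj.emb p chart i.1 i.2 = RelProj.emb p chart k.1 k.2 := by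
  obtain ⟨U, hU⟩ := i
  obtain ⟨D, hD⟩ := k
  obtain ⟨r, hr⟩ := h
  change D = Y.basicOpen r at hr
  subst hr
  exact ⟨Y.basicOpen_le r, 𝒮.irrelevant_le_map U hU r, RelProj.map_res_emb hP U hU r⟩

variable (𝒮 p chart) in
/-- The refinement map for general data. -/
def rhoG {U D : Y.Opens} (hU : IsAffineOpen U) (hD : IsAffineOpen D) (hle : D ≤ U)
    (hirr : (𝒮.deg D hD)₊ ≤ ((𝒮.deg U hU)₊).map (𝒮.res hU hD hle))
    (hemb : Proj.map (𝒮.res hU hD hle) hirr ≫ RelProj.emb p chart U hU = RelProj.emb p chart D hD) :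
    TT 𝒮 p chart n ⟨U, hU⟩ ⟶ TT 𝒮 p chart n ⟨D, hD⟩ :=
  (Scheme.Modules.pushforward (RelProj.emb p chart U hU)).map (GrTwist.comap (𝒮.res hU hD hle) hirr n) ≫
    (Scheme.Modules.pushforwardComp (Proj.map (𝒮.res hU hD hle) hirr) (RelProj.emb p chart U hU)).hom.app _ ≫
    (Scheme.Modules.pushforwardCongr hemb).hom.app _

theorem rhoG_app_val {U D : Y.Opens} (hU : IsAffineOpen U) (hD : IsAffineOpen D) (hle : D ≤ U)
    (hirr : (𝒮.deg D hD)₊ ≤ ((𝒮.deg U hU)₊).map (𝒮.res hU hD hle))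
    (hemb : Proj.map (𝒮.res hU hD hle) hirr ≫ RelProj.emb p chart U hU = RelProj.emb p chart D hD)
    (W : P.Opens) (t : Γ(TT 𝒮 p chart n ⟨U, hU⟩, W)) (y : ProjectiveSpectrum (𝒮.deg D hD))
    (hy : (RelProj.emb p chart D hD).base y ∈ W)
    (hy' : (RelProj.emb p chart U hU).base (ProjectiveSpectrum.comap (𝒮.res hU hD hle) hirr y) ∈ W) :
    GrTwist.val (V := RelProj.emb p chart D hD ⁻¹ᵁ W) ((rhoG 𝒮 p chart n hU hD hle hirr hemb).app W t) ⟨y, hy⟩ =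
      GrTwist.locMap (𝒮.res hU hD hle) hirr y
        (GrTwist.val (V := RelProj.emb p chart U hU ⁻¹ᵁ W) t ⟨_, hy'⟩) := rfl

/-- The refinement maps `O_{𝒮(U)}(n) ⟶ O_{𝒮(D)}(n)` pushed to `P`, for `D` a basic open of `U`. -/
def rho (hP : RelProj.IsRelProj 𝒮 p chart) (i k : Idx Y) (h : EE i k) :
    TT 𝒮 p chart n i ⟶ TT 𝒮 p chart n k :=
  rhoG 𝒮 p chart n i.2 k.2 (EE.data hP h).choose (EE.data hP h).choose_spec.choose
    (EE.data hP h).choose_spec.choose_spec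

theorem rho_app_sval (hP : RelProj.IsRelProj 𝒮 p chart) (i k : Idx Y) (h : EE i k)
    (hle : k.1 ≤ i.1) (hirr : (𝒮.deg k.1 k.2)₊ ≤ ((𝒮.deg i.1 i.2)₊).map (𝒮.res i.2 k.2 hle))
    (W : P.Opens) (t : Γ(TT 𝒮 p chart n i, W)) (y : ProjectiveSpectrum (𝒮.deg k.1 k.2))
    (hy : (RelProj.emb p chart k.1 k.2).base y ∈ W)
    (hy' : (RelProj.emb p chart i.1 i.2).base (ProjectiveSpectrum.comap (𝒮.res i.2 k.2 hle) hirr y) ∈ W) :
    sval (U := RelProj.emb p chart k.1 k.2 ⁻¹ᵁ W) ((rho n hP i k h).app W t) ⟨y, hy⟩ =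
      GrTwist.locMap (𝒮.res i.2 k.2 hle) hirr y
        (sval (U := RelProj.emb p chart i.1 i.2 ⁻¹ᵁ W) t ⟨_, hy'⟩) := rfl

theorem bijective_app_of_isIso {X : Scheme.{u}} {M N : X.Modules} (φ : M ⟶ N) [IsIso φ] (W : X.Opens) :
    Function.Bijective (φ.app W) := by
  refine Function.bijective_iff_has_inverse.mpr ⟨(inv φ).app W, fun a => ?_, fun b => ?_⟩
  · have : (φ ≫ inv φ).app W a = a := by rw [IsIso.hom_inv_id]; rfl
    exact this
  · have : (inv φ ≫ φ).app W b = b := by rw [IsIso.inv_hom_id]; rfl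
    exact this

theorem rho_app_bijective (hP : RelProj.IsRelProj 𝒮 p chart) (i k : Idx Y) (h : EE i k)
    (W : P.Opens) (hW : W ≤ VV p k) : Function.Bijective ((rho n hP i k h).app W) := by
  obtain ⟨U, hU⟩ := i
  obtain ⟨D, hD⟩ := k
  obtain ⟨hle, hirr, hemb⟩ := EE.data hP h
  have hrho : rho n hP ⟨U, hU⟩ ⟨D, hD⟩ h = rhoG 𝒮 p chart n hU hD hle hirr hemb := rfl
  rw [hrho]
  obtain ⟨r, hr⟩ := h
  change D = Y.basicOpen r at hr
  subst hr
  -- the localization data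
  have hc : (𝒮.str.app (op U)).hom r ∈ 𝒮.deg U hU 0 := 𝒮.str_mem U hU r
  have hloc : letI := (𝒮.res hU hD hle).toRingHom.toAlgebra
      IsLocalization.Away ((𝒮.str.app (op U)).hom r) (𝒮.presheaf.obj (op (Y.basicOpen r))) :=
    𝒮.isQC U hU r
  haveI := Groth.Agent.Lib.ProjLocalization.isOpenImmersion_map (𝒮.res hU hD hle) hirr hc hloc
  have h1 : Function.Bijective ((GrTwist.comap (𝒮.res hU hD hle) hirr n).app (RelProj.emb p chart U hU ⁻¹ᵁ W)) := by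
    refine comap_app_bijective_of_away (𝒮.res hU hD hle) hirr hc hloc n
      (Proj.map (𝒮.res hU hD hle) hirr).isOpenEmbedding.isOpenMap
      (Proj.map (𝒮.res hU hD hle) hirr).isOpenEmbedding.injective _ ?_
    intro y hy
    have hy1 : (RelProj.emb p chart U hU).base y ∈ p ⁻¹ᵁ (Y.basicOpen r) := hW hy
    rw [← Groth.Agent.Lib.H60RelTwist.opensRange_emb (p := p) (chart := chart) (Y.basicOpen r) hD] at hy1
    obtain ⟨y', hy'⟩ := hy1
    refine ⟨y', ?_⟩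
    apply (RelProj.emb p chart U hU).isOpenEmbedding.injective
    rw [← hy', ← hemb]
    rfl
  unfold rhoG
  have h2 := bijective_app_of_isIso ((Scheme.Modules.pushforwardComp (Proj.map (𝒮.res hU hD hle) hirr)
    (RelProj.emb p chart U hU)).hom.app (GrTwist.twist (𝒮.deg (Y.basicOpen r) hD) n)) W
  have h3 := bijective_app_of_isIso ((Scheme.Modules.pushforwardCongr hemb).hom.app
    (GrTwist.twist (𝒮.deg (Y.basicOpen r) hD) n)) W
  exact h3.comp (h2.comp h1)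

theorem EE.le {i k : Idx Y} (h : EE i k) : k.1 ≤ i.1 := by
  obtain ⟨r, hr⟩ := h
  rw [hr]
  exact Y.basicOpen_le r

theorem EE.trans {i k l : Idx Y} (h : EE i k) (h' : EE k l) : EE i l := by
  obtain ⟨U, hU⟩ := i
  obtain ⟨D, hD⟩ := k
  obtain ⟨r, hr⟩ := h
  change D = Y.basicOpen r at hr
  subst hr
  obtain ⟨r', hr'⟩ := h'
  obtain ⟨f', hf'⟩ := hU.basicOpen_basicOpen_is_basicOpen r r'
  exact ⟨f', hr'.trans hf'.symm⟩

theorem emb_comap_mem (hP : RelProj.IsRelProj 𝒮 p chart) {i k : Idx Y} (h : EE i k)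
    (hle : k.1 ≤ i.1) (hirr : (𝒮.deg k.1 k.2)₊ ≤ ((𝒮.deg i.1 i.2)₊).map (𝒮.res i.2 k.2 hle))
    (W : P.Opens) (y : ProjectiveSpectrum (𝒮.deg k.1 k.2))
    (hy : (RelProj.emb p chart k.1 k.2).base y ∈ W) :
    (RelProj.emb p chart i.1 i.2).base (ProjectiveSpectrum.comap (𝒮.res i.2 k.2 hle) hirr y) ∈ W := by
  obtain ⟨hle', hirr', hemb⟩ := EE.data hP h
  have e : (RelProj.emb p chart i.1 i.2).base (ProjectiveSpectrum.comap (𝒮.res i.2 k.2 hle) hirr y) =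
      (RelProj.emb p chart k.1 k.2).base y := by
    rw [← hemb]
    rfl
  rw [e]
  exact hy

theorem rho_trans (hP : RelProj.IsRelProj 𝒮 p chart) (i k l : Idx Y) (h : EE i k) (h' : EE k l)
    (h'' : EE i l) (W : P.Opens) (s : Γ(TT 𝒮 p chart n i, W)) :
    (rho n hP k l h').app W ((rho n hP i k h).app W s) = (rho n hP i l h'').app W s := by
  obtain ⟨hle1, hirr1, -⟩ := EE.data hP h
  obtain ⟨hle2, hirr2, -⟩ := EE.data hP h'
  obtain ⟨hle3, hirr3, -⟩ := EE.data hP h''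
  apply sec_ext (U := RelProj.emb p chart l.1 l.2 ⁻¹ᵁ W)
  rintro ⟨y, hy⟩
  have hy2 := emb_comap_mem hP h' hle2 hirr2 W y hy
  have hy1 := emb_comap_mem hP h hle1 hirr1 W _ hy2
  have hy3 := emb_comap_mem hP h'' hle3 hirr3 W y hy
  rw [rho_app_sval n hP k l h' hle2 hirr2 W _ y hy hy2, rho_app_sval n hP i k h hle1 hirr1 W _ _ hy2 hy1,
    rho_app_sval n hP i l h'' hle3 hirr3 W _ y hy hy3]
  refine locMap_triangle (𝒮.res i.2 k.2 hle1) hirr1 (𝒮.res k.2 l.2 hle2) hirr2 (𝒮.res i.2 l.2 hle3) hirr3 ?_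
    (V := RelProj.emb p chart i.1 i.2 ⁻¹ᵁ W) s y hy1 hy3
  intro a
  rw [RelProj.QCGrAlg.res_apply, RelProj.QCGrAlg.res_apply, RelProj.QCGrAlg.res_apply,
    ← CommRingCat.comp_apply, ← Functor.map_comp]
  rfl

variable (𝒮 p chart) in
theorem glueHyp (hP : RelProj.IsRelProj 𝒮 p chart) :
    GlueHyp (TT 𝒮 p chart n) EE (rho n hP) (VV p) where
  hsupp := by
    intro i W
    refine pushforward_res_bijective _ _ _ ?_
    intro y hy
    exact ⟨hy, Groth.Agent.Lib.RelTildeGlue.emb_mem i.1 i.2 y⟩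
  hle := by
    intro i k h x hx
    exact h.le hx
  hbij := fun i k h W hW => rho_app_bijective n hP i k h W hW
  htrans := fun i k l h h' => ⟨h.trans h', fun W _ s => rho_trans n hP i k l h h' (h.trans h') W s⟩
  hloc := by
    intro i j x hxi hxj
    obtain ⟨f, g, hfg, hx⟩ := exists_basicOpen_le_affine_inter i.2 j.2 (p.base x) ⟨hxi, hxj⟩
    exact ⟨⟨Y.basicOpen f, i.2.basicOpen f⟩, hx, ⟨f, rfl⟩, ⟨g, hfg⟩⟩

/-- EXISTENCE of the twisting sheaf `O_P(n)` on a relative Proj (= S8284). -/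
theorem exists_relTwist (hP : RelProj.IsRelProj 𝒮 p chart) (n : ℤ) :
    ∃ (L : P.Modules) (lam : ∀ (U : Y.Opens) (hU : IsAffineOpen U),
      L ⟶ (Scheme.Modules.pushforward (RelProj.emb p chart U hU)).obj (GrTwist.twist (𝒮.deg U hU) n)),
      RelProj.IsRelTwist 𝒮 p chart n L lam := by
  refine ⟨glue (TT 𝒮 p chart n) EE (rho n hP),
    fun U hU => lam (TT 𝒮 p chart n) EE (rho n hP) ⟨U, hU⟩, ?_, ?_⟩
  · intro U hU W hW
    exact (glueHyp 𝒮 p chart n hP).lam_bijective ⟨U, hU⟩ W hW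
  · intro U hU r W s y hy hy'
    have hE : EE (⟨U, hU⟩ : Idx Y) ⟨Y.basicOpen r, hU.basicOpen r⟩ := ⟨r, rfl⟩
    have hc := lam_comp (TT 𝒮 p chart n) EE (rho n hP) ⟨U, hU⟩ ⟨Y.basicOpen r, hU.basicOpen r⟩ hE
    have h1 : (lam (TT 𝒮 p chart n) EE (rho n hP) ⟨Y.basicOpen r, hU.basicOpen r⟩).app W s =
        (rho n hP ⟨U, hU⟩ ⟨Y.basicOpen r, hU.basicOpen r⟩ hE).app W
          ((lam (TT 𝒮 p chart n) EE (rho n hP) ⟨U, hU⟩).app W s) := by
      rw [← hc]; rfl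
    have h2 := rho_app_sval n hP ⟨U, hU⟩ ⟨Y.basicOpen r, hU.basicOpen r⟩ hE (Y.basicOpen_le r)
      (𝒮.irrelevant_le_map U hU r) W ((lam (TT 𝒮 p chart n) EE (rho n hP) ⟨U, hU⟩).app W s) y hy hy'
    rw [← h1] at h2
    exact h2

end rel

end Groth.Agent.Lib.H60RelTwistExists
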