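import Groth.Prelude.Def_RelProj
import Groth.Agent.Lib.ProjLocalization
import Groth.Agent.Lib.ProjMapImm

/-!
# Existence of the relative homogeneous spectrum

For a quasi-coherent graded algebra `𝒮` over `Y` we glue the schemes `Proj 𝒮(U)`, `U` affine open,
along Mathlib's relative gluing (`Scheme.Cover.RelativeGluingData` over the small affine Zariski
site, whose morphisms are the inclusions of basic opens).
-/

set_option autoImplicit false

universe u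

open CategoryTheory CategoryTheory.Limits AlgebraicGeometry Opposite TopologicalSpace
open scoped HomogeneousIdeal

namespace Groth.Agent.Lib.RelProjExists

open RelProj Scheme.AffineZariskiSite

variable {Y : Scheme.{u}} (𝒮 : RelProj.QCGrAlg Y)

lemma projMap_congr {A B σ τ : Type u} [CommRing A] [SetLike σ A] [AddSubgroupClass σ A]
    [CommRing B] [SetLike τ B] [AddSubgroupClass τ B]
    {𝒜 : ℕ → σ} {ℬ : ℕ → τ} [GradedRing 𝒜] [GradedRing ℬ] {f g : 𝒜 →+*ᵍ ℬ} (h : f = g)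
    (hf : ℬ₊ ≤ 𝒜₊.map f) (hg : ℬ₊ ≤ 𝒜₊.map g) : Proj.map f hf = Proj.map g hg := by
  subst h; rfl

lemma le_of_isBasic {U V : Y.Opens} (h : ∃ f : Γ(Y, U), Y.basicOpen f = V) : V ≤ U := by
  obtain ⟨f, rfl⟩ := h
  exact Y.basicOpen_le f

lemma irrelevant_le_map_of_le {U V : Y.Opens} (hU : IsAffineOpen U) (hV : IsAffineOpen V)
    (h : ∃ f : Γ(Y, U), Y.basicOpen f = V) :
    (𝒮.deg V hV)₊ ≤ ((𝒮.deg U hU)₊).map (𝒮.res hU hV (le_of_isBasic h)) := by
  obtain ⟨f, hf⟩ := h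
  subst hf
  exact 𝒮.irrelevant_le_map U hU f

/-- The restriction morphism `Proj 𝒮(V) ⟶ Proj 𝒮(U)` for `V` a basic open of `U`. -/
noncomputable def projRes {U V : Y.Opens} (hU : IsAffineOpen U) (hV : IsAffineOpen V)
    (h : ∃ f : Γ(Y, U), Y.basicOpen f = V) : Proj (𝒮.deg V hV) ⟶ Proj (𝒮.deg U hU) :=
  Proj.map (𝒮.res hU hV (le_of_isBasic h)) (irrelevant_le_map_of_le 𝒮 hU hV h)

lemma projRes_id {U : Y.Opens} (hU : IsAffineOpen U)
    (h : ∃ f : Γ(Y, U), Y.basicOpen f = U) : projRes 𝒮 hU hU h = 𝟙 _ := by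
  have h' : 𝒮.res hU hU (le_of_isBasic h) = GradedRingHom.id _ := by
    ext x
    change (𝒮.presheaf.map (𝟙 _)).hom x = x
    rw [CategoryTheory.Functor.map_id]
    rfl
  unfold projRes
  rw [projMap_congr h' _ (by simp)]
  exact Proj.map_id

lemma projRes_comp {U V W : Y.Opens} (hU : IsAffineOpen U) (hV : IsAffineOpen V)
    (hW : IsAffineOpen W) (h₁ : ∃ f : Γ(Y, V), Y.basicOpen f = W)
    (h₂ : ∃ f : Γ(Y, U), Y.basicOpen f = V) (h₃ : ∃ f : Γ(Y, U), Y.basicOpen f = W) :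
    projRes 𝒮 hU hW h₃ = projRes 𝒮 hV hW h₁ ≫ projRes 𝒮 hU hV h₂ := by
  have h : 𝒮.res hU hW (le_of_isBasic h₃) =
      (𝒮.res hV hW (le_of_isBasic h₁)).comp (𝒮.res hU hV (le_of_isBasic h₂)) := by
    ext x
    change (𝒮.presheaf.map _).hom x = (𝒮.presheaf.map _).hom ((𝒮.presheaf.map _).hom x)
    rw [← CommRingCat.comp_apply, ← Functor.map_comp]
    rfl
  unfold projRes
  rw [projMap_congr h _ (HomogeneousIdeal.irrelevant_le_map_comp
    (irrelevant_le_map_of_le 𝒮 hU hV h₂) (irrelevant_le_map_of_le 𝒮 hV hW h₁))]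
  exact Proj.map_comp _ _ _ _

/-- The functor `U ↦ Proj 𝒮(U)` on the small affine Zariski site. -/
noncomputable def functor : Y.AffineZariskiSite ⥤ Scheme.{u} where
  obj U := Proj (𝒮.deg U.1 U.2)
  map {V U} i := projRes 𝒮 U.2 V.2 i.le
  map_id U := projRes_id 𝒮 U.2 _
  map_comp {W V U} i j := projRes_comp 𝒮 U.2 V.2 W.2 i.le j.le (i ≫ j).le

/-- The structure morphism `Proj 𝒮(U) ⟶ U`. -/
noncomputable def toOpen (U : Y.Opens) (hU : IsAffineOpen U) :
    Proj (𝒮.deg U hU) ⟶ (U : Scheme.{u}) :=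
  Proj.toSpecZero _ ≫ Spec.map (𝒮.strZero U hU) ≫ hU.isoSpec.inv

lemma toOpen_ι (U : Y.Opens) (hU : IsAffineOpen U) :
    toOpen 𝒮 U hU ≫ U.ι = Proj.toSpecZero _ ≫ Spec.map (𝒮.strZero U hU) ≫ hU.fromSpec := by
  simp only [toOpen, Category.assoc, IsAffineOpen.isoSpec_inv_ι]

lemma projRes_toOpen {U V : Y.Opens} (hU : IsAffineOpen U) (hV : IsAffineOpen V)
    (h : ∃ f : Γ(Y, U), Y.basicOpen f = V) :
    projRes 𝒮 hU hV h ≫ toOpen 𝒮 U hU = toOpen 𝒮 V hV ≫ Y.homOfLE (le_of_isBasic h) := by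
  rw [← cancel_mono U.ι]
  simp only [Category.assoc, toOpen_ι, Scheme.homOfLE_ι]
  have h' := Groth.Agent.Lib.ProjMapImm.map_toSpecZero (𝒮.res hU hV (le_of_isBasic h))
    (irrelevant_le_map_of_le 𝒮 hU hV h) (𝒮.strZero U hU)
    (Y.presheaf.map (homOfLE (le_of_isBasic h)).op ≫ 𝒮.strZero V hV) (fun r => by
      have hn := congrArg (fun t => t.hom r) (𝒮.str.naturality (homOfLE (le_of_isBasic h)).op)
      exact hn.symm)
  unfold projRes
  rw [reassoc_of% h', Spec.map_comp, Category.assoc, hU.map_fromSpec hV]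

/-- The structure morphisms as a natural transformation to the directed cover of `Y`. -/
noncomputable def natTrans :
    functor 𝒮 ⟶ (Scheme.AffineZariskiSite.directedCover Y).functorOfLocallyDirected where
  app U := toOpen 𝒮 U.1 U.2
  naturality V U i := projRes_toOpen 𝒮 U.2 V.2 i.le


lemma isOpenImmersion_projRes {U V : Y.Opens} (hU : IsAffineOpen U) (hV : IsAffineOpen V)
    (h : ∃ f : Γ(Y, U), Y.basicOpen f = V) : IsOpenImmersion (projRes 𝒮 hU hV h) := by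
  obtain ⟨r, rfl⟩ := h
  exact Groth.Agent.Lib.ProjLocalization.isOpenImmersion_map _ _ (𝒮.str_mem U hU r) (𝒮.isQC U hU r)

theorem isPullback_projRes {U V : Y.Opens} (hU : IsAffineOpen U) (hV : IsAffineOpen V)
    (h : ∃ f : Γ(Y, U), Y.basicOpen f = V) :
    IsPullback (projRes 𝒮 hU hV h) (toOpen 𝒮 V hV) (toOpen 𝒮 U hU)
      (Y.homOfLE (le_of_isBasic h)) := by
  have hoi := isOpenImmersion_projRes 𝒮 hU hV h
  refine (IsOpenImmersion.isPullback (toOpen 𝒮 V hV) (projRes 𝒮 hU hV h)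
    (Y.homOfLE (le_of_isBasic h)) (toOpen 𝒮 U hU) (projRes_toOpen 𝒮 hU hV h) ?_).flip
  rw [Scheme.opensRange_homOfLE, ← Scheme.Hom.comp_preimage]
  apply le_antisymm
  · intro x hx
    obtain ⟨r, rfl⟩ := h
    have hxtop : x ∈ (⊤ : (Proj (𝒮.deg U hU)).Opens) := trivial
    rw [← Groth.Agent.Lib.ProjMapImm.iSup_basicOpen_pos (𝒜 := 𝒮.deg U hU), Opens.mem_iSup] at hxtop
    obtain ⟨⟨⟨i, hi⟩, ⟨s, hs⟩⟩, hxs⟩ := hxtop
    change x ∈ Proj.basicOpen (𝒮.deg U hU) s at hxs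
    rw [← Proj.opensRange_awayι _ _ hs hi] at hxs
    obtain ⟨q, rfl⟩ := hxs
    refine Groth.Agent.Lib.ProjLocalization.mem_range_map _ _ (𝒮.str_mem U hU r) (𝒮.isQC U hU r)
      hi hs q ?_
    have hx' : (Proj.awayι (𝒮.deg U hU) s hs hi ≫ toOpen 𝒮 U hU ≫ U.ι) q ∈
        Y.basicOpen r := hx
    rw [toOpen_ι, Proj.awayι_toSpecZero_assoc, ← Spec.map_comp_assoc] at hx'
    have hx'' : Spec.map (𝒮.strZero U hU ≫ CommRingCat.ofHom
        (HomogeneousLocalization.fromZeroRingHom (𝒮.deg U hU) (.powers s))) q ∈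
          hU.fromSpec ⁻¹ᵁ Y.basicOpen r := hx'
    rw [hU.fromSpec_preimage_basicOpen] at hx''
    exact hx''
  · rintro _ ⟨x', rfl⟩
    have h1 : (projRes 𝒮 hU hV h ≫ toOpen 𝒮 U hU ≫ U.ι) x' ∈ V := by
      rw [← Category.assoc, projRes_toOpen 𝒮 hU hV h, Category.assoc, Scheme.homOfLE_ι]
      exact (toOpen 𝒮 V hV x').2
    exact h1


/-- An affine open as an object of the small affine Zariski site. -/
abbrev az (U : Y.Opens) (hU : IsAffineOpen U) : Y.AffineZariskiSite := ⟨U, hU⟩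

/-- The relative gluing datum of the `Proj 𝒮(U)`. -/
noncomputable def gluingData :
    (Scheme.AffineZariskiSite.directedCover Y).RelativeGluingData where
  functor := functor 𝒮
  natTrans := natTrans 𝒮
  equifibered := fun V U i => isPullback_projRes 𝒮 U.2 V.2 i.le

instance : ((gluingData 𝒮).functor ⋙ Scheme.forget).IsLocallyDirected :=
  Scheme.Cover.RelativeGluingData.instIsLocallyDirectedI₀CompFunctorForgetOfIsThin ..

/-- The relative homogeneous spectrum `Proj(𝒮)`. -/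
noncomputable def relProj : Scheme.{u} := (gluingData 𝒮).glued

/-- The structure morphism `Proj(𝒮) ⟶ Y`. -/
noncomputable def relProjHom : relProj 𝒮 ⟶ Y := (gluingData 𝒮).toBase

/-- The chart `Proj 𝒮(U) ⟶ Proj(𝒮)`. -/
noncomputable def chartι (U : Y.Opens) (hU : IsAffineOpen U) : Proj (𝒮.deg U hU) ⟶ relProj 𝒮 :=
  (gluingData 𝒮).cover.f ⟨U, hU⟩

instance (U : Y.Opens) (hU : IsAffineOpen U) : IsOpenImmersion (chartι 𝒮 U hU) :=
  (gluingData 𝒮).cover.map_prop _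

lemma chartι_relProjHom (U : Y.Opens) (hU : IsAffineOpen U) :
    chartι 𝒮 U hU ≫ relProjHom 𝒮 =
      Proj.toSpecZero _ ≫ Spec.map (𝒮.strZero U hU) ≫ hU.fromSpec := by
  rw [← toOpen_ι]
  exact (gluingData 𝒮).ι_toBase ⟨U, hU⟩

lemma relProjHom_preimage (U : Y.Opens) (hU : IsAffineOpen U) :
    relProjHom 𝒮 ⁻¹ᵁ U = (chartι 𝒮 U hU).opensRange := by
  simpa using! (gluingData 𝒮).toBase_preimage_eq_opensRange_ι ⟨U, hU⟩

lemma projRes_chartι {U V : Y.Opens} (hU : IsAffineOpen U) (hV : IsAffineOpen V)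
    (h : ∃ f : Γ(Y, U), Y.basicOpen f = V) :
    projRes 𝒮 hU hV h ≫ chartι 𝒮 U hU = chartι 𝒮 V hV :=
  colimit.w (gluingData 𝒮).functor (homOfLE (show az V hV ≤ az U hU from h))

/-- The chart isomorphism `p⁻¹(U) ≅ Proj 𝒮(U)`. -/
noncomputable def chart (U : Y.Opens) (hU : IsAffineOpen U) :
    ((relProjHom 𝒮 ⁻¹ᵁ U : (relProj 𝒮).Opens) : Scheme.{u}) ≅ Proj (𝒮.deg U hU) :=
  (relProj 𝒮).isoOfEq (relProjHom_preimage 𝒮 U hU) ≪≫ (chartι 𝒮 U hU).isoOpensRange.symm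

lemma chart_inv_ι (U : Y.Opens) (hU : IsAffineOpen U) :
    (chart 𝒮 U hU).inv ≫ (relProjHom 𝒮 ⁻¹ᵁ U).ι = chartι 𝒮 U hU := by
  simp only [chart, Iso.trans_inv, Iso.symm_inv, Category.assoc, Scheme.isoOfEq_inv_ι,
    Scheme.Hom.isoOpensRange_hom_ι]

/-- Existence of the relative homogeneous spectrum. -/
theorem isRelProj : RelProj.IsRelProj 𝒮 (relProjHom 𝒮) (chart 𝒮) where
  chart_over U hU := by
    rw [← cancel_epi (chart 𝒮 U hU).inv, Iso.inv_hom_id_assoc,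
      reassoc_of% (chart_inv_ι 𝒮 U hU), chartι_relProjHom]
  chart_res U hU r := by
    rw [← cancel_epi (chart 𝒮 (Y.basicOpen r) (hU.basicOpen r)).inv,
      ← cancel_mono ((chart 𝒮 U hU).inv ≫ (relProjHom 𝒮 ⁻¹ᵁ U).ι)]
    simp only [Category.assoc, Iso.hom_inv_id_assoc, Iso.inv_hom_id_assoc, Scheme.homOfLE_ι]
    rw [chart_inv_ι, chart_inv_ι]
    exact (projRes_chartι 𝒮 hU (hU.basicOpen r) ⟨r, rfl⟩).symm

end Groth.Agent.Lib.RelProjExists
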