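import Groth.Agent.Lib.RelTildeFT
import Groth.Agent.Lib.H60DegPart
import Groth.Agent.Lib.H60BundleSurj
import Groth.Agent.Lib.H60RelTwistExists
import Groth.Agent.Lib.RelProjExists
import Groth.Agent.Lib.ProjMapImm
import Groth.Agent.S8287
import Groth.Agent.S8262

/-!
# Proj of an algebra generated in degree one embeds into a projective bundle (helper60)

* ring level: `succ_induction` (`𝒜_{k+1}` is additively spanned by `𝒜_k 𝒜_1` when `𝒜` is generated in degrees `0,1`),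
  `exists_preimage_of_pos` (a graded hom onto `𝒜_1` is onto `𝒜_k` for all `k ≥ 1`), `irrelevant_le_map_of_pos`;
* `exists_closedImmersion_bundle 𝒮 hgen p chart hP O1 lam hO1`: for `𝒮` generated in degree one (NO hypothesis on `𝒮_0`),
  `P = Proj(𝒮)` admits a closed immersion `h` over `Y` into a projective bundle `P(E)` (with `E = 𝒮` as a module, mapped to
  `𝒮` by the projection onto degree one; all `IsGrSymAlg`/`IsRelProj`/`IsRelTwist` data produced) with `h^* O_{P(E)}(1) ≅ O_P(1)`.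
-/

set_option autoImplicit false
universe u
open CategoryTheory AlgebraicGeometry TopologicalSpace Opposite
open scoped HomogeneousIdeal

namespace Groth.Agent.Lib.H60GenDegOneEmb

section ring

variable {A σ : Type u} [CommRing A] [SetLike σ A] [AddSubgroupClass σ A] {𝒜 : ℕ → σ} [GradedRing 𝒜]
variable {B τ : Type u} [CommRing B] [SetLike τ B] [AddSubgroupClass τ B] {ℬ : ℕ → τ} [GradedRing ℬ]

/-- In a graded ring generated in degrees `0` and `1`, the part of degree `k + 1` is additively spanned by the products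
`𝒜_k 𝒜_1`. -/
theorem succ_induction (h : Subring.closure ((𝒜 0 : Set A) ∪ (𝒜 1 : Set A)) = ⊤) (k : ℕ) (P : A → Prop)
    (hmul : ∀ s ∈ 𝒜 k, ∀ t ∈ 𝒜 1, P (s * t)) (h0 : P 0) (hadd : ∀ x y, P x → P y → P (x + y))
    (y : A) (hy : y ∈ 𝒜 (k + 1)) : P y := by
  classical
  have hy1 : y ∈ (𝒜₊).toIdeal := HomogeneousIdeal.mem_irrelevant_of_mem 𝒜 (Nat.succ_pos k) hy
  rw [Groth.Agent.Lib.RelTildeFT.irrelevant_eq_span_of_closure h] at hy1
  obtain ⟨f, t, ht, -, hsum⟩ := Submodule.mem_span_iff_exists_finset_subset.mp hy1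
  have e : y = ∑ a ∈ t, (DirectSum.decompose 𝒜 (f a) k : A) * a := by
    have h1 : (DirectSum.decompose 𝒜 y (k + 1) : A) = y := DirectSum.decompose_of_mem_same 𝒜 hy
    rw [← h1, ← hsum, DirectSum.decompose_sum, DFinsupp.finset_sum_apply, AddSubmonoidClass.coe_finset_sum]
    refine Finset.sum_congr rfl fun a ha => ?_
    have ha1 : a ∈ 𝒜 1 := ht ha
    rw [smul_eq_mul, DirectSum.coe_decompose_mul_of_right_mem 𝒜 (k + 1) ha1, if_pos (Nat.le_add_left 1 k),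
      Nat.add_sub_cancel]
  rw [e]
  refine Finset.sum_induction _ P hadd h0 fun a ha => ?_
  exact hmul _ (SetLike.coe_mem _) a (ht ha)

/-- A graded homomorphism onto the part of degree one of a ring generated in degrees `0`, `1` is surjective in every
positive degree. -/
theorem exists_preimage_of_pos (φ : ℬ →+*ᵍ 𝒜) (h : Subring.closure ((𝒜 0 : Set A) ∪ (𝒜 1 : Set A)) = ⊤)
    (h1 : ∀ y ∈ 𝒜 1, ∃ x ∈ ℬ 1, φ x = y) (k : ℕ) (hk : 1 ≤ k) (y : A) (hy : y ∈ 𝒜 k) :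
    ∃ x ∈ ℬ k, φ x = y := by
  induction k, hk using Nat.le_induction generalizing y with
  | base => exact h1 y hy
  | succ k hk ih =>
    refine succ_induction h k (fun y => ∃ x ∈ ℬ (k + 1), φ x = y) ?_ ⟨0, zero_mem _, map_zero _⟩ ?_ y hy
    · intro s hs t ht
      obtain ⟨a, ha, rfl⟩ := ih s hs
      obtain ⟨b, hb, rfl⟩ := h1 t ht
      exact ⟨a * b, SetLike.mul_mem_graded ha hb, map_mul _ _ _⟩
    · rintro _ _ ⟨a, ha, rfl⟩ ⟨b, hb, rfl⟩
      exact ⟨a + b, add_mem ha hb, map_add _ _ _⟩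

theorem irrelevant_le_map_of_pos (φ : ℬ →+*ᵍ 𝒜)
    (hs : ∀ k, 1 ≤ k → ∀ y ∈ 𝒜 k, ∃ x ∈ ℬ k, φ x = y) : 𝒜₊ ≤ (ℬ₊).map φ := by
  rw [HomogeneousIdeal.irrelevant_le]
  intro i hi b hb
  obtain ⟨a, ha, rfl⟩ := hs i hi b hb
  have h2 : a ∈ ℬ₊ := HomogeneousIdeal.mem_irrelevant_of_mem _ hi ha
  change φ a ∈ ((ℬ₊).map φ).toIdeal
  exact Ideal.mem_map_of_mem _ h2

end ring

section rel

open Groth.Agent.Lib.SymQCAlg Groth.Agent.Lib.H60GrSym Groth.Agent.Lib.H60BundleSurj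

/-- **A relative Proj of an algebra generated in degree one embeds into a projective bundle**, compatibly with `O(1)`. -/
theorem exists_closedImmersion_bundle {Y P : Scheme.{u}} (𝒮 : RelProj.QCGrAlg Y) (hgen : 𝒮.IsGenDegOne)
    (p : P ⟶ Y)
    (chart : ∀ (U : Y.Opens) (hU : IsAffineOpen U), (((p ⁻¹ᵁ U : P.Opens) : Scheme.{u}) ≅ Proj (𝒮.deg U hU)))
    (hP : RelProj.IsRelProj 𝒮 p chart) (O1 : P.Modules)
    (lam : ∀ (U : Y.Opens) (hU : IsAffineOpen U),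
      O1 ⟶ (Scheme.Modules.pushforward (RelProj.emb p chart U hU)).obj (GrTwist.twist (𝒮.deg U hU) 1))
    (hO1 : RelProj.IsRelTwist 𝒮 p chart 1 O1 lam) :
    ∃ (E : Y.Modules) (_ : Coh.IsQCoh E) (𝒮E : RelProj.QCGrAlg Y) (jE : E ⟶ 𝒮E.toModule)
      (_ : RelProj.IsGrSymAlg E 𝒮E jE) (PE : Scheme.{u}) (pE : PE ⟶ Y)
      (chartE : ∀ (U : Y.Opens) (hU : IsAffineOpen U),
        (((pE ⁻¹ᵁ U : PE.Opens) : Scheme.{u}) ≅ Proj (𝒮E.deg U hU)))
      (_ : RelProj.IsRelProj 𝒮E pE chartE) (O1E : PE.Modules)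
      (lamE : ∀ (U : Y.Opens) (hU : IsAffineOpen U),
        O1E ⟶ (Scheme.Modules.pushforward (RelProj.emb pE chartE U hU)).obj (GrTwist.twist (𝒮E.deg U hU) 1))
      (_ : RelProj.IsRelTwist 𝒮E pE chartE 1 O1E lamE) (h : P ⟶ PE),
      IsClosedImmersion h ∧ h ≫ pE = p ∧ Nonempty ((Scheme.Modules.pullback h).obj O1E ≅ O1) := by
  haveI hq : 𝒮.toModule.IsQuasicoherent := Groth.Agent.Lib.H90QCAlg.isQuasicoherent_toModule 𝒮.toQCAlg
  obtain ⟨π, hπ⟩ := Groth.Agent.Lib.H60DegPart.exists_proj 𝒮 1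
  have hjE := isGrSymAlg 𝒮.toModule
  obtain ⟨φ, hφ, -⟩ := hjE.1 𝒮.toQCAlg π
  have hφj : ∀ (U : Y.Opens) (hU : IsAffineOpen U) (x : 𝒮.presheaf.obj (op U)),
      (φ.hom.app (op U)).hom (show (symAlg 𝒮.toModule).presheaf.obj (op U) from (j 𝒮.toModule).app U x) =
        GradedRing.proj (𝒮.deg U hU) 1 x := by
    intro U hU x
    have h1 := congrArg (fun ψ : 𝒮.toModule ⟶ 𝒮.toModule =>
      Scheme.Modules.Hom.app ψ U (show Γ(𝒮.toModule, U) from x)) hφ
    exact h1.trans (hπ U hU x)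
  have hgr : RelProj.IsGradedHom φ := by
    refine isGradedHom_of_j 𝒮.toModule 𝒮 φ fun U hU x => ?_
    rw [hφj U hU x]
    exact SetLike.coe_mem _
  have h1 : ∀ (U : Y.Opens) (hU : IsAffineOpen U), ∀ y ∈ 𝒮.deg U hU 1,
      ∃ x ∈ (grSymAlg 𝒮.toModule).deg U hU 1, RelProj.gradedHomAt φ hgr U hU x = y := by
    intro U hU y hy
    refine ⟨(show (symAlg 𝒮.toModule).presheaf.obj (op U) from (j 𝒮.toModule).app U y), hjE.2 U hU y, ?_⟩
    refine (hφj U hU y).trans ?_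
    rw [GradedRing.proj_apply, DirectSum.decompose_of_mem_same _ hy]
  have hpos : ∀ (U : Y.Opens) (hU : IsAffineOpen U) (k : ℕ), 1 ≤ k → ∀ y ∈ 𝒮.deg U hU k,
      ∃ x ∈ (grSymAlg 𝒮.toModule).deg U hU k, RelProj.gradedHomAt φ hgr U hU x = y :=
    fun U hU k hk y hy =>
      exists_preimage_of_pos (RelProj.gradedHomAt φ hgr U hU) (hgen U hU) (h1 U hU) k hk y hy
  have hirr : ∀ (U : Y.Opens) (hU : IsAffineOpen U),
      (𝒮.deg U hU)₊ ≤ (((grSymAlg 𝒮.toModule).deg U hU)₊).map (RelProj.gradedHomAt φ hgr U hU) :=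
    fun U hU => irrelevant_le_map_of_pos _ (hpos U hU)
  have hPE := Groth.Agent.Lib.RelProjExists.isRelProj (grSymAlg 𝒮.toModule)
  obtain ⟨O1E, lamE, hO1E⟩ := Groth.Agent.Lib.H60RelTwistExists.exists_relTwist hPE 1
  obtain ⟨⟨h, hh, -⟩, hover⟩ := Groth.Agent.S8262.result φ hgr hirr _ p _ chart hPE hP
  have hgenE : (grSymAlg 𝒮.toModule).IsGenDegOne :=
    Groth.Agent.Lib.H60LineSym.isGenDegOne 𝒮.toModule hq (grSymAlg 𝒮.toModule) (j 𝒮.toModule) hjE
  refine ⟨𝒮.toModule, hq, grSymAlg 𝒮.toModule, j 𝒮.toModule, hjE, _, _, _, hPE, O1E, lamE, hO1E, h, ?_,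
    hover h hh, Groth.Agent.S8287.main φ hgr hgenE hirr _ p _ chart hPE hP h hh 1 O1E lamE hO1E O1 lam hO1⟩
  refine Groth.Agent.Lib.RelProjMap.of_forall φ hgr hirr @IsClosedImmersion hPE hP h hh fun U hU => ?_
  exact Groth.Agent.Lib.ProjMapImm.isClosedImmersion_map _ _ 1 (hpos U hU)

end rel

end Groth.Agent.Lib.H60GenDegOneEmb
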