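import Mathlib
import Groth.Prelude.Def_RelSpec
import Groth.Agent.Lib.H90OXModPush

/-!
# Quasi-coherent algebras (`RelSpec.QCAlg`) as quasi-coherent modules
-/

set_option autoImplicit false
universe u

open AlgebraicGeometry CategoryTheory TopologicalSpace Opposite
open Groth.Agent.Lib.QCohStalk

namespace Groth.Agent.Lib.H90QCAlg

variable {X : Scheme.{u}} (B : RelSpec.QCAlg X)

/-- Sections of the module underlying `B` are sections of `B`. -/
def toSec (U : X.Opens) (b : B.presheaf.obj (op U)) : Γ(B.toModule, U) := b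

def ofSec (U : X.Opens) (m : Γ(B.toModule, U)) : B.presheaf.obj (op U) := m

theorem smul_def (U : X.Opens) (r : Γ(X, U)) (m : Γ(B.toModule, U)) :
    ofSec B U (r • m) = (B.str.app (op U)).hom r * ofSec B U m := rfl

theorem res_def {V U : X.Opens} (h : V ≤ U) (m : Γ(B.toModule, U)) :
    ofSec B V (res B.toModule h m) = (B.presheaf.map (homOfLE h).op).hom (ofSec B U m) := rfl

theorem str_res {V U : X.Opens} (h : V ≤ U) (r : Γ(X, U)) :
    (B.str.app (op V)).hom (resO X h r) = (B.presheaf.map (homOfLE h).op).hom
      ((B.str.app (op U)).hom r) := by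
  have := congr_arg (fun ψ => ψ.hom r) (B.str.naturality (homOfLE h).op)
  simp only [CommRingCat.hom_comp] at this
  exact this

theorem isLocalizingOn_toModule {U : X.Opens} (hU : IsAffineOpen U) :
    Groth.Agent.Lib.AssPush.IsLocalizingOn B.toModule U := by
  constructor
  · intro f t
    letI := (B.presheaf.map (homOfLE (X.basicOpen_le f)).op).hom.toAlgebra
    haveI : IsLocalization.Away ((B.str.app (op U)).hom f) (B.presheaf.obj (op (X.basicOpen f))) :=
      B.isQC U hU f
    obtain ⟨n, a, ha⟩ := IsLocalization.Away.surj ((B.str.app (op U)).hom f) (ofSec B _ t)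
    refine ⟨n, toSec B U a, ?_⟩
    change ofSec B _ (resO X (X.basicOpen_le f) f ^ n • t) = ofSec B _ (res B.toModule _ (toSec B U a))
    rw [smul_def, res_def, map_pow, str_res, mul_comm]
    exact ha
  · intro f s hs
    letI := (B.presheaf.map (homOfLE (X.basicOpen_le f)).op).hom.toAlgebra
    haveI : IsLocalization.Away ((B.str.app (op U)).hom f) (B.presheaf.obj (op (X.basicOpen f))) :=
      B.isQC U hU f
    have h0 : algebraMap (B.presheaf.obj (op U)) (B.presheaf.obj (op (X.basicOpen f))) (ofSec B U s) =
        0 := congr_arg (ofSec B _) hs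
    obtain ⟨⟨_, n, rfl⟩, hn⟩ := (IsLocalization.map_eq_zero_iff
      (Submonoid.powers ((B.str.app (op U)).hom f)) _ _).mp h0
    refine ⟨n, ?_⟩
    change ofSec B U (f ^ n • s) = 0
    rw [smul_def, map_pow]
    exact hn

instance isQuasicoherent_toModule : B.toModule.IsQuasicoherent :=
  (Groth.Agent.Lib.H90OXModPush.isQuasicoherent_iff_forall_isLocalizingOn _).mpr
    fun U => isLocalizingOn_toModule B U.2

end Groth.Agent.Lib.H90QCAlg
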