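/-
# The degree-one part of a quasi-coherent graded algebra as a module; embedding into `P(E)`, `E` of finite type (helper28)

* `E1 𝒮 : Y.Modules` (kernel of `1 - π₁`), `ι1 𝒮 : E1 𝒮 ⟶ 𝒮.toModule`, `sec 𝒮 U : Γ(E1 𝒮, U) →+ 𝒮(U)`;
  `sec_mem`, `exists_sec_eq` (sections over an affine open are exactly `𝒮(U)_1`), `sec_injective`, `sec_smul`;
* `isQCoh_E1`, `finite_sections`, `isFT_E1` (from `𝒮.IsFTDeg 1`);
* `exists_closedImmersion_bundle_ft`: for `𝒮` generated in degree one with `𝒮_1` of finite type, `Proj 𝒮` admits a closed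
  immersion over `Y` into `P(E)` with `E` quasi-coherent of finite type (variant of helper60's
  `H60GenDegOneEmb.exists_closedImmersion_bundle`).
-/
import Groth.Agent.Lib.QCohKernel13
import Groth.Agent.Lib.H60DegPart
import Groth.Agent.Lib.H90OXModAffineFT
import Groth.Agent.Lib.H90QCAlg
import Groth.Agent.Lib.H60GenDegOneEmb

set_option autoImplicit false
universe u
open CategoryTheory CategoryTheory.Limits AlgebraicGeometry TopologicalSpace Opposite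
open AlgebraicGeometry.Scheme AlgebraicGeometry.Scheme.Modules

namespace Groth.Agent.Lib.DegOneMod

variable {Y : Scheme.{u}} (𝒮 : RelProj.QCGrAlg Y)

/-- the projection onto degree one -/
noncomputable def π1 : 𝒮.toModule ⟶ 𝒮.toModule := (Groth.Agent.Lib.H60DegPart.exists_proj 𝒮 1).choose

lemma π1_app (U : Y.Opens) (hU : IsAffineOpen U) (x : 𝒮.presheaf.obj (op U)) :
    (show 𝒮.presheaf.obj (op U) from (π1 𝒮).app U x) = GradedRing.proj (𝒮.deg U hU) 1 x :=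
  (Groth.Agent.Lib.H60DegPart.exists_proj 𝒮 1).choose_spec U hU x

/-- the degree one part of `𝒮` as a module -/
noncomputable def E1 : Y.Modules := kernel (𝟙 𝒮.toModule - π1 𝒮)

/-- the inclusion -/
noncomputable def ι1 : E1 𝒮 ⟶ 𝒮.toModule := kernel.ι _

instance : Mono (ι1 𝒮) :=
  inferInstanceAs (Mono (kernel.ι (𝟙 𝒮.toModule - π1 𝒮)))

instance : (𝒮.toModule).IsQuasicoherent :=
  Groth.Agent.Lib.H90QCAlg.isQuasicoherent_toModule 𝒮.toQCAlg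

instance : (E1 𝒮).IsQuasicoherent :=
  Groth.Agent.Lib.QCohKernel13.isQuasicoherent_kernel _

lemma isQCoh_E1 : Coh.IsQCoh (E1 𝒮) := inferInstanceAs (E1 𝒮).IsQuasicoherent

/-- the inclusion on sections, with values in the ring `𝒮(U)` -/
noncomputable def sec (U : Y.Opens) : Γ(E1 𝒮, U) →+ 𝒮.presheaf.obj (op U) :=
  ((ι1 𝒮).app U).hom

lemma sec_apply (U : Y.Opens) (t : Γ(E1 𝒮, U)) : sec 𝒮 U t = (ι1 𝒮).app U t := rfl

lemma sub_app (U : Y.Opens) (x : Γ(𝒮.toModule, U)) :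
    (𝟙 𝒮.toModule - π1 𝒮).app U x = x - (π1 𝒮).app U x := by
  simp

lemma sec_mem (U : Y.Opens) (hU : IsAffineOpen U) (t : Γ(E1 𝒮, U)) :
    sec 𝒮 U t ∈ 𝒮.deg U hU 1 := by
  have h := Groth.Agent.Lib.QCohKernel13.kernel_ι_app_eq_zero (𝟙 𝒮.toModule - π1 𝒮) U t
  have h2 : (ι1 𝒮).app U t - (π1 𝒮).app U ((ι1 𝒮).app U t) = 0 :=
    (sub_app 𝒮 U _).symm.trans h
  have h3 : sec 𝒮 U t = GradedRing.proj (𝒮.deg U hU) 1 (sec 𝒮 U t) := by
    rw [← π1_app 𝒮 U hU]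
    exact sub_eq_zero.1 h2
  rw [h3]
  exact SetLike.coe_mem _

lemma exists_sec_eq (U : Y.Opens) (hU : IsAffineOpen U) (x : 𝒮.presheaf.obj (op U))
    (hx : x ∈ 𝒮.deg U hU 1) : ∃ t : Γ(E1 𝒮, U), sec 𝒮 U t = x := by
  have h0 : (𝟙 𝒮.toModule - π1 𝒮).app U (show Γ(𝒮.toModule, U) from x) = 0 := by
    rw [sub_app, sub_eq_zero]
    symm
    refine (π1_app 𝒮 U hU x).trans ?_
    rw [GradedRing.proj_apply, DirectSum.decompose_of_mem_same _ hx]
  exact Groth.Agent.Lib.QCohKernel13.exists_kernel_ι_app_eq _ U _ h0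

lemma sec_injective (U : Y.Opens) : Function.Injective (sec 𝒮 U) :=
  Groth.Agent.Lib.H90OXModSections.injective_app_of_mono (ι1 𝒮) U

lemma sec_smul (U : Y.Opens) (r : Γ(Y, U)) (t : Γ(E1 𝒮, U)) :
    sec 𝒮 U (r • t) = (𝒮.str.app (op U)).hom r * sec 𝒮 U t := by
  rw [sec_apply, Hom.app_smul]
  rfl

theorem finite_sections (hft : 𝒮.IsFTDeg 1) (U : Y.Opens) (hU : IsAffineOpen U) :
    Module.Finite Γ(Y, U) Γ(E1 𝒮, U) := by
  classical
  obtain ⟨T, hT1, hT⟩ := hft U hU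
  choose! g hg using fun x (hx : x ∈ 𝒮.deg U hU 1) => exists_sec_eq 𝒮 U hU x hx
  refine ⟨⟨T.image g, ?_⟩⟩
  rw [eq_top_iff]
  rintro s -
  obtain ⟨c, hc⟩ := hT _ (sec_mem 𝒮 U hU s)
  have hs : s = ∑ t ∈ T, c t • g t := by
    apply sec_injective 𝒮 U
    refine Eq.trans hc ?_
    rw [map_sum]
    refine Finset.sum_congr rfl fun t ht => ?_
    rw [sec_smul, hg t (hT1 ht)]
  rw [hs]
  refine Submodule.sum_mem _ fun t ht => Submodule.smul_mem _ _ (Submodule.subset_span ?_)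
  exact Finset.mem_coe.2 (Finset.mem_image_of_mem g ht)

theorem isFT_E1 (hft : 𝒮.IsFTDeg 1) : CohB1.IsFT (E1 𝒮) :=
  Groth.Agent.Lib.H90OXModAffineFT.isFiniteType_of_forall_affine (E1 𝒮)
    fun U => finite_sections 𝒮 hft U.1 U.2

end Groth.Agent.Lib.DegOneMod

open scoped HomogeneousIdeal

namespace Groth.Agent.Lib.DegOneMod

open Groth.Agent.Lib.SymQCAlg Groth.Agent.Lib.H60GrSym Groth.Agent.Lib.H60BundleSurj
  Groth.Agent.Lib.H60GenDegOneEmb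

/-- **A relative Proj of an algebra generated in degree one with degree-one part of finite type embeds into the projective
bundle of a quasi-coherent module of finite type.** -/
theorem exists_closedImmersion_bundle_ft {Y P : Scheme.{u}} (𝒮 : RelProj.QCGrAlg Y)
    (hgen : 𝒮.IsGenDegOne) (hft : 𝒮.IsFTDeg 1) (p : P ⟶ Y)
    (chart : ∀ (U : Y.Opens) (hU : IsAffineOpen U),
      (((p ⁻¹ᵁ U : P.Opens) : Scheme.{u}) ≅ Proj (𝒮.deg U hU)))
    (hP : RelProj.IsRelProj 𝒮 p chart) :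
    ∃ (E : Y.Modules) (𝒯 : RelProj.QCGrAlg Y) (j : E ⟶ 𝒯.toModule) (PE : Scheme.{u}) (pE : PE ⟶ Y)
      (chartE : ∀ (U : Y.Opens) (hU : IsAffineOpen U),
        (((pE ⁻¹ᵁ U : PE.Opens) : Scheme.{u}) ≅ Proj (𝒯.deg U hU)))
      (h : P ⟶ PE),
      Coh.IsQCoh E ∧ CohB1.IsFT E ∧ RelProj.IsGrSymAlg E 𝒯 j ∧ RelProj.IsRelProj 𝒯 pE chartE ∧
        IsClosedImmersion h ∧ h ≫ pE = p := by
  have hjE := isGrSymAlg (E1 𝒮)
  obtain ⟨φ, hφ, -⟩ := hjE.1 𝒮.toQCAlg (ι1 𝒮)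
  have hφj : ∀ (U : Y.Opens) (hU : IsAffineOpen U) (x : Γ(E1 𝒮, U)),
      (φ.hom.app (op U)).hom (show (symAlg (E1 𝒮)).presheaf.obj (op U) from (j (E1 𝒮)).app U x) =
        sec 𝒮 U x := by
    intro U hU x
    have h1 := congrArg (fun ψ : E1 𝒮 ⟶ 𝒮.toModule =>
      Scheme.Modules.Hom.app ψ U x) hφ
    exact h1
  have hgr : RelProj.IsGradedHom φ := by
    refine isGradedHom_of_j (E1 𝒮) 𝒮 φ fun U hU x => ?_
    rw [hφj U hU x]
    exact sec_mem 𝒮 U hU x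
  have h1 : ∀ (U : Y.Opens) (hU : IsAffineOpen U), ∀ y ∈ 𝒮.deg U hU 1,
      ∃ x ∈ (grSymAlg (E1 𝒮)).deg U hU 1, RelProj.gradedHomAt φ hgr U hU x = y := by
    intro U hU y hy
    obtain ⟨t, ht⟩ := exists_sec_eq 𝒮 U hU y hy
    refine ⟨(show (symAlg (E1 𝒮)).presheaf.obj (op U) from (j (E1 𝒮)).app U t), hjE.2 U hU t, ?_⟩
    exact (hφj U hU t).trans ht
  have hpos : ∀ (U : Y.Opens) (hU : IsAffineOpen U) (k : ℕ), 1 ≤ k → ∀ y ∈ 𝒮.deg U hU k,
      ∃ x ∈ (grSymAlg (E1 𝒮)).deg U hU k, RelProj.gradedHomAt φ hgr U hU x = y :=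
    fun U hU k hk y hy =>
      exists_preimage_of_pos (RelProj.gradedHomAt φ hgr U hU) (hgen U hU) (h1 U hU) k hk y hy
  have hirr : ∀ (U : Y.Opens) (hU : IsAffineOpen U),
      (𝒮.deg U hU)₊ ≤ (((grSymAlg (E1 𝒮)).deg U hU)₊).map (RelProj.gradedHomAt φ hgr U hU) :=
    fun U hU => irrelevant_le_map_of_pos _ (hpos U hU)
  have hPE := Groth.Agent.Lib.RelProjExists.isRelProj (grSymAlg (E1 𝒮))
  obtain ⟨⟨h, hh, -⟩, hover⟩ := Groth.Agent.S8262.result φ hgr hirr _ p _ chart hPE hP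
  refine ⟨E1 𝒮, grSymAlg (E1 𝒮), j (E1 𝒮), _, _, _, h, isQCoh_E1 𝒮, isFT_E1 𝒮 hft, hjE, hPE, ?_,
    hover h hh⟩
  refine Groth.Agent.Lib.RelProjMap.of_forall φ hgr hirr @IsClosedImmersion hPE hP h hh fun U hU => ?_
  exact Groth.Agent.Lib.ProjMapImm.isClosedImmersion_map _ _ 1 (hpos U hU)

end Groth.Agent.Lib.DegOneMod
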