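import Mathlib
import Groth.Agent.Lib.DetLength3
set_option maxHeartbeats 800000
set_option autoImplicit false
set_option linter.style.haveILetI false
universe u v

namespace Groth.Agent.Lib.DegOrd
open Groth.Agent.Lib.LenLoc Groth.Agent.Lib.DetLength

section sum2
variable (A : Type u) [CommRing A] {B : Type u} [CommRing B] [Algebra A B]
  [Finite (MaximalSpectrum B)]

/-- two-ring length formula: `l_A(T) = Σ_m l_A(B/m) · l_{B_m}(T_m)` for a `B`-module `T` of
finite length. -/
theorem sum_ell_mul (T : Type u) [AddCommGroup T] [Module B T] (h : IsFiniteLength B T) :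
    ∀ [Module A T] [IsScalarTower A B T],
      Module.length A T =
        ∑ᶠ m : MaximalSpectrum B, Module.length A (B ⧸ m.asIdeal) * ell T m.asIdeal := by
  classical
  haveI : Fintype (MaximalSpectrum B) := Fintype.ofFinite _
  induction h with
  | @of_subsingleton M _ _ _ =>
    intro _ _
    have h0 : ∀ m : MaximalSpectrum B, ell M m.asIdeal = 0 := fun m => ell_of_subsingleton M _
    simp only [h0, mul_zero, finsum_zero]
    exact Module.length_eq_zero
  | @of_simple_quotient M _ _ N _ hN ih =>
    intro _ _
    obtain ⟨m₀, hm₀, ⟨e⟩⟩ := isSimpleModule_iff_quot_maximal.mp ‹IsSimpleModule B (M ⧸ N)›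
    have hadd : ∀ m : Ideal B, ell M m = ell N m + ell (M ⧸ N) m := fun m =>
      ell_add_of_exact N.subtype N.mkQ (Submodule.injective_subtype _)
        (Submodule.mkQ_surjective _) (LinearMap.exact_subtype_mkQ N) m
    have hq : ∀ m : MaximalSpectrum B,
        ell (M ⧸ N) m.asIdeal = if m.asIdeal = m₀ then 1 else 0 := fun m => by
      haveI := m.isMaximal
      exact ell_simple m₀ e m.asIdeal
    have hlen : Module.length A M = Module.length A N + Module.length A (M ⧸ N) :=
      Module.length_eq_add_of_exact (N.subtype.restrictScalars A) (N.mkQ.restrictScalars A)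
        (Submodule.injective_subtype _) (Submodule.mkQ_surjective _)
        (LinearMap.exact_subtype_mkQ N)
    have hquot : Module.length A (M ⧸ N) = Module.length A (B ⧸ m₀) :=
      (e.restrictScalars A).length_eq
    rw [hlen, ih, hquot, finsum_eq_sum_of_fintype, finsum_eq_sum_of_fintype]
    simp only [hadd, mul_add, Finset.sum_add_distrib]
    congr 1
    rw [Finset.sum_eq_single (⟨m₀, hm₀⟩ : MaximalSpectrum B)]
    · rw [hq, if_pos rfl, mul_one]
    · intro m _ hm
      rw [hq, if_neg (fun h => hm (MaximalSpectrum.ext h)), mul_zero]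
    · intro h
      exact absurd (Finset.mem_univ _) h

end sum2

end Groth.Agent.Lib.DegOrd
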