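import Mathlib
import Groth.Agent.Lib.DegOrd1
set_option maxHeartbeats 800000
set_option autoImplicit false
set_option linter.style.haveILetI false
universe u v

namespace Groth.Agent.Lib.DegOrd
open Groth.Agent.Lib.CommonFactor

section setup
variable {A B K L : Type u}
    [CommRing A] [IsDomain A]
    [CommRing B] [IsDomain B] [Algebra A B] [FaithfulSMul A B]
    [Field K] [Field L] [Algebra A K] [IsFractionRing A K] [Algebra B L] [IsFractionRing B L]
    [Algebra K L] [Algebra A L] [IsScalarTower A K L] [IsScalarTower A B L] [FiniteDimensional K L]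

omit [FaithfulSMul A B] in
variable (A B K L) in
theorem exists_basis_in :
    ∃ e : Fin (Module.finrank K L) → B, LinearIndependent A e ∧
      ∀ b : B, ∃ d : A, d ≠ 0 ∧ d • b ∈ Submodule.span A (Set.range e) := by
  classical
  set n := Module.finrank K L with hn
  let bL : Module.Basis (Fin n) K L := Module.finBasis K L
  obtain ⟨s, hs⟩ := IsLocalization.exist_integer_multiples (nonZeroDivisors B) Finset.univ
    (fun i => bL i)
  choose e he using fun i => hs i (Finset.mem_univ i)
  have hinjBL : Function.Injective (algebraMap B L) := IsFractionRing.injective B L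
  have hs0 : algebraMap B L (s : B) ≠ 0 := by
    rw [Ne, map_eq_zero_iff _ hinjBL]
    exact nonZeroDivisors.ne_zero s.2
  have he' : ∀ i, algebraMap B L (e i) = algebraMap B L (s : B) * bL i := fun i => by
    rw [he i, Algebra.smul_def]
  -- `algebraMap ∘ e` is `K`-linearly independent
  have hliK : LinearIndependent K (fun i => algebraMap B L (e i)) := by
    have h1 : LinearIndependent K (fun i => (LinearMap.mulLeft K (algebraMap B L (s : B))) (bL i)) := by
      refine bL.linearIndependent.map' _ ?_
      rw [LinearMap.ker_eq_bot]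
      exact mul_right_injective₀ hs0
    convert h1 using 2 with i
    exact he' i
  have hinjAK : Function.Injective (algebraMap A K) := IsFractionRing.injective A K
  have hliA : LinearIndependent A (fun i => algebraMap B L (e i)) :=
    hliK.restrict_scalars' A
  have hliAe : LinearIndependent A e :=
    LinearIndependent.of_comp (IsScalarTower.toAlgHom A B L).toLinearMap hliA
  refine ⟨e, hliAe, ?_⟩
  -- a `K`-basis
  let bE : Module.Basis (Fin n) K L :=
    basisOfLinearIndependentOfCardEqFinrank' _ hliK (by simp [hn])
  have hbE : ∀ i, bE i = algebraMap B L (e i) := fun i => by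
    simp [bE]
  intro b
  obtain ⟨d, hd⟩ := IsLocalization.exist_integer_multiples (nonZeroDivisors A) Finset.univ
    (fun i => bE.repr (algebraMap B L b) i)
  choose a ha using fun i => hd i (Finset.mem_univ i)
  refine ⟨(d : A), nonZeroDivisors.ne_zero d.2, ?_⟩
  have : (d : A) • b = ∑ i, a i • e i := by
    apply hinjBL
    rw [map_sum]
    have h1 : algebraMap B L ((d : A) • b) = (d : A) • algebraMap B L b := by
      rw [Algebra.smul_def, map_mul, ← IsScalarTower.algebraMap_apply, Algebra.smul_def]
    rw [h1]
    conv_lhs => rw [← bE.sum_repr (algebraMap B L b), Finset.smul_sum]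
    refine Finset.sum_congr rfl fun i _ => ?_
    have h2 : algebraMap B L (a i • e i) = a i • algebraMap B L (e i) := by
      rw [Algebra.smul_def, map_mul, ← IsScalarTower.algebraMap_apply, Algebra.smul_def]
    rw [h2, hbE, ← algebraMap_smul K (a i), ha i, smul_assoc]
  rw [this]
  exact Submodule.sum_mem _ fun i _ => Submodule.smul_mem _ _ (Submodule.subset_span ⟨i, rfl⟩)

omit [FaithfulSMul A B] [IsDomain B] in
include K L in
variable (K L) in
theorem isAlgebraic_of_finiteDimensional (b : B) : IsAlgebraic A b := by
  have hinjBL : Function.Injective (algebraMap B L) := IsFractionRing.injective B L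
  rw [← isAlgebraic_algebraMap_iff (R := A) hinjBL, IsFractionRing.isAlgebraic_iff A K L]
  exact Algebra.IsAlgebraic.isAlgebraic _

end setup

section maxspec
variable {A B : Type u} [CommRing A] [IsDomain A] [IsNoetherianRing A] [IsLocalRing A]
    [Ring.KrullDimLE 1 A] [CommRing B] [IsDomain B] [Algebra A B]

/-- a nonzero prime of an algebraic extension domain of a one-dimensional local domain contains
the maximal ideal. -/
theorem mem_of_ne_bot (halg : ∀ b : B, IsAlgebraic A b) {x : A}
    (hx : x ∈ IsLocalRing.maximalIdeal A) (m : Ideal B) [m.IsPrime] (hm : m ≠ ⊥) :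
    algebraMap A B x ∈ m := by
  obtain ⟨b, hbm, hb0⟩ := Submodule.exists_mem_ne_zero_of_ne_bot hm
  obtain ⟨a, ha0, hdvd⟩ := (halg b).exists_nonzero_dvd (mem_nonZeroDivisors_of_ne_zero hb0)
  have ham : algebraMap A B a ∈ m := Ideal.mem_of_dvd m hdvd hbm
  obtain ⟨N, hN⟩ := exists_pow_le_span (mem_nonZeroDivisors_of_ne_zero ha0)
  have hxN : x ^ N ∈ Ideal.span {a} := hN (Ideal.pow_mem_pow hx N)
  obtain ⟨c, hc⟩ := Ideal.mem_span_singleton'.mp hxN
  have : algebraMap A B x ^ N ∈ m := by
    rw [← map_pow, ← hc, map_mul]
    exact Ideal.mul_mem_left _ _ ham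
  exact Ideal.IsPrime.mem_of_pow_mem inferInstance N this

theorem finite_maximalSpectrum (halg : ∀ b : B, IsAlgebraic A b) {x : A}
    (hx : x ∈ IsLocalRing.maximalIdeal A)
    [IsArtinianRing (B ⧸ Ideal.span {algebraMap A B x})] : Finite (MaximalSpectrum B) := by
  classical
  set I : Ideal B := Ideal.span {algebraMap A B x} with hI
  have hsurj : Function.Surjective (Ideal.Quotient.mk I) := Ideal.Quotient.mk_surjective
  let f : MaximalSpectrum B → Option (MaximalSpectrum (B ⧸ I)) := fun m =>
    if h : I ≤ m.asIdeal then
      some ⟨m.asIdeal.map (Ideal.Quotient.mk I),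
        Ideal.IsMaximal.map_of_surjective_of_ker_le hsurj (by rw [Ideal.mk_ker]; exact h)⟩
    else none
  refine Finite.of_injective f ?_
  intro m m' hmm
  have hbot : ∀ m : MaximalSpectrum B, ¬ I ≤ m.asIdeal → m.asIdeal = ⊥ := by
    intro m hIm
    by_contra hne
    haveI := m.isMaximal.isPrime
    exact hIm ((Ideal.span_singleton_le_iff_mem _).mpr (mem_of_ne_bot halg hx m.asIdeal hne))
  by_cases h : I ≤ m.asIdeal <;> by_cases h' : I ≤ m'.asIdeal
  · simp only [f, dif_pos h, dif_pos h', Option.some.injEq, MaximalSpectrum.mk.injEq] at hmm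
    have h1 := congrArg (Ideal.comap (Ideal.Quotient.mk I)) hmm
    rw [Ideal.comap_map_of_surjective _ hsurj, Ideal.comap_map_of_surjective _ hsurj,
      ← RingHom.ker_eq_comap_bot, Ideal.mk_ker, sup_eq_left.mpr h, sup_eq_left.mpr h'] at h1
    exact MaximalSpectrum.ext h1
  · simp [f, dif_pos h, dif_neg h'] at hmm
  · simp [f, dif_neg h, dif_pos h'] at hmm
  · exact MaximalSpectrum.ext ((hbot m h).trans (hbot m' h').symm)

end maxspec

end Groth.Agent.Lib.DegOrd
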