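import Groth.Agent.Lib.DegPull48
import Groth.Agent.Lib.CurveFinite54
import Groth.Agent.Lib.CartierDim48
import Groth.Agent.Lib.CurveVanishing54

/-!
# Degree of the pullback along a morphism which is an isomorphism over a dense open (helper48; = S1666)

* `dim_le_zero_of_forall_isClosed_singleton`: a closed subset all of whose points are closed has dimension `≤ 0`.
* `dim_compl_le_zero_of_dense`: the complement of a dense open in a locally Noetherian scheme of dimension `≤ 1` has
  dimension `≤ 0`.
* `isFinite_of_isIso_over_dense`.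
* `deg_pullback_of_isIso_over_dense` (= S1666).
-/

set_option autoImplicit false
universe u
open CategoryTheory CategoryTheory.Limits AlgebraicGeometry Opposite TopologicalSpace

namespace Groth.Agent.Lib.CurveDeg48

open Groth.Agent.Lib.OXModTensor

section Top

theorem dim_le_zero_of_forall_isClosed_singleton {T : Type*} [TopologicalSpace T] [QuasiSober T]
    {Z : Set T} (hZ : IsClosed Z) (h : ∀ z ∈ Z, IsClosed ({z} : Set T)) :
    topologicalKrullDim Z ≤ 0 := by
  by_contra hcon
  have h1 : ((1 : ℕ) : WithBot ℕ∞) ≤ topologicalKrullDim ↥Z := by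
    exact_mod_cast Groth.Agent.Lib.CartierDim48.one_le_of_not_le_zero hcon
  obtain ⟨l, hlen, hlast⟩ := Groth.Agent.Lib.DimChain48.exists_chain_of_le_dim h1
  rw [hZ.closure_eq] at hlast
  obtain ⟨b, hb⟩ := QuasiSober.sober l.last.isIrreducible l.last.isClosed
  have hb' : closure {b} = (l.last : Set T) := hb
  have hbl : b ∈ (l.last : Set T) := by rw [← hb']; exact subset_closure rfl
  have hbc : IsClosed ({b} : Set T) := h b (hlast hbl)
  have hlast_eq : (l.last : Set T) = {b} := by rw [← hb', hbc.closure_eq]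
  have hlt : l.head < l.last := by
    have h0 : l.length ≠ 0 := by rw [hlen]; exact one_ne_zero
    have := l.strictMono (show (0 : Fin (l.length + 1)) < Fin.last l.length by
      rw [Fin.lt_iff_val_lt_val]; simp; omega)
    exact this
  have hsub : (l.head : Set T) ⊆ {b} := by
    rw [← hlast_eq]
    exact hlt.le
  have hne : (l.head : Set T).Nonempty := l.head.isIrreducible.nonempty
  have heq : (l.head : Set T) = {b} := by
    obtain ⟨a, ha⟩ := hne
    have hab : a = b := hsub ha
    subst hab
    exact Set.Subset.antisymm hsub (Set.singleton_subset_iff.mpr ha)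
  have : l.head = l.last := by
    apply TopologicalSpace.IrreducibleCloseds.ext
    rw [heq, hlast_eq]
  exact absurd this hlt.ne

theorem dim_compl_le_zero_of_dense {X : Scheme.{u}} [IsLocallyNoetherian X]
    (hdim : topologicalKrullDim X ≤ 1) (U : X.Opens) (hU : Dense (U : Set X)) :
    topologicalKrullDim ↥((U : Set X)ᶜ) ≤ 0 :=
  dim_le_zero_of_forall_isClosed_singleton U.isOpen.isClosed_compl (fun z hz =>
    Groth.Agent.Lib.CurveFinite54.isClosed_singleton_of_not_mem_dense hdim (U : Set X) U.isOpen hU z hz)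

end Top

section Iso

variable {X X' : Scheme.{u}} (f : X' ⟶ X) (U : X.Opens) [IsIso (f ∣_ U)]

/-- if `f` is an isomorphism over `U`, then `f^♯` is bijective on opens contained in `U` -/
theorem app_bijective_of_isIso_restrict (W : X.Opens) (hW : W ≤ U) :
    Function.Bijective (f.app W) := by
  obtain ⟨V, rfl⟩ : ∃ V : U.toScheme.Opens, W = U.ι ''ᵁ V := by
    refine ⟨U.ι ⁻¹ᵁ W, ?_⟩
    rw [Scheme.Hom.image_preimage_eq_opensRange_inf, Scheme.Opens.opensRange_ι]
    exact (inf_eq_right.mpr hW).symm
  have h1 : IsIso ((f ∣_ U).app V) := inferInstance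
  rw [morphismRestrict_app] at h1
  have h2 : IsIso (X'.presheaf.map (eqToHom (image_morphismRestrict_preimage f U V)).op) := inferInstance
  have h3 : IsIso (f.app (U.ι ''ᵁ V)) := @IsIso.of_isIso_comp_right _ _ _ _ _ _
    (X'.presheaf.map (eqToHom (image_morphismRestrict_preimage f U V)).op) h2 h1
  exact (ConcreteCategory.isIso_iff_bijective (f.app (U.ι ''ᵁ V))).mp h3

/-- if `f` is an isomorphism over `U`, then `f` is injective on `f⁻¹ U` -/
theorem injOn_of_isIso_restrict : Set.InjOn f ((f ⁻¹ᵁ U : X'.Opens) : Set X') := by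
  intro y hy y' hy' hyy'
  have hinj : Function.Injective (f ∣_ U) :=
    (ConcreteCategory.bijective_of_isIso (f ∣_ U).base).1
  have h1 : (f ∣_ U) ⟨y, hy⟩ = (f ∣_ U) ⟨y', hy'⟩ := by
    apply Subtype.ext
    rw [morphismRestrict_base_coe, morphismRestrict_base_coe]
    exact hyy'
  exact congrArg Subtype.val (hinj h1)

end Iso

section Finite

variable (k : Type u) [Field k] (X X' : Scheme.{u})
  [X.Over (Spec (CommRingCat.of k))] [X'.Over (Spec (CommRingCat.of k))]
  [IsProper (X ↘ (Spec (CommRingCat.of k)))] [IsProper (X' ↘ (Spec (CommRingCat.of k)))]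
  (hdim' : topologicalKrullDim X' ≤ 1)
  (f : X' ⟶ X) (hf : f ≫ (X ↘ (Spec (CommRingCat.of k))) = X' ↘ (Spec (CommRingCat.of k)))
  (U : X.Opens) (hU' : Dense ((f ⁻¹ᵁ U : X'.Opens) : Set X')) [IsIso (f ∣_ U)]

include hdim' hf hU' in
theorem isFinite_of_isIso_over_dense : IsFinite f := by
  haveI : IsProper (f ≫ (X ↘ (Spec (CommRingCat.of k)))) := by rw [hf]; infer_instance
  haveI : IsProper f := IsProper.of_comp f (X ↘ (Spec (CommRingCat.of k)))
  haveI := Groth.Agent.Lib.EulerLE48.isNoetherian k X'
  haveI : IsLocallyNoetherian X' := Groth.Agent.Lib.EulerLE48.isLocallyNoetherian k X'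
  have hd0 := dim_compl_le_zero_of_dense hdim' (f ⁻¹ᵁ U) hU'
  haveI : Finite ↥(((f ⁻¹ᵁ U : X'.Opens) : Set X')ᶜ) :=
    Groth.Agent.Lib.CartierDim48.finite_of_noetherianSpace_of_dim_le_zero hd0
  have hfinZ : (((f ⁻¹ᵁ U : X'.Opens) : Set X')ᶜ).Finite := Set.toFinite _
  haveI : LocallyQuasiFinite f := by
    refine LocallyQuasiFinite.of_finite_preimage_singleton f fun x => ?_
    have hsub : f ⁻¹' {x} ⊆ (((f ⁻¹ᵁ U : X'.Opens) : Set X')ᶜ) ∪
        (f ⁻¹' {x} ∩ ((f ⁻¹ᵁ U : X'.Opens) : Set X')) := by
      intro y hy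
      by_cases hyU : y ∈ ((f ⁻¹ᵁ U : X'.Opens) : Set X')
      · exact Or.inr ⟨hy, hyU⟩
      · exact Or.inl hyU
    have hss : (f ⁻¹' {x} ∩ ((f ⁻¹ᵁ U : X'.Opens) : Set X')).Subsingleton := by
      intro y hy y' hy'
      exact injOn_of_isIso_restrict f U hy.2 hy'.2 (hy.1.trans hy'.1.symm)
    exact (hfinZ.union hss.finite).subset hsub
  exact IsFinite.of_isProper_of_locallyQuasiFinite f

end Finite

section Main

open Groth.Agent.Lib.InvMap54 Groth.Agent.Lib.CurveVanishing54

variable (H : Groth.Agent.Lib.ProperFinHyp.Hyp.{u}) (k : Type u) [Field k] (X X' : Scheme.{u})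
  [X.Over (Spec (CommRingCat.of k))] [X'.Over (Spec (CommRingCat.of k))]
  [IsProper (X ↘ (Spec (CommRingCat.of k)))] [IsProper (X' ↘ (Spec (CommRingCat.of k)))]
  (hdim : topologicalKrullDim X ≤ 1) (hdim' : topologicalKrullDim X' ≤ 1)
  (f : X' ⟶ X) (hf : f ≫ (X ↘ (Spec (CommRingCat.of k))) = X' ↘ (Spec (CommRingCat.of k)))
  (U : X.Opens) (hU : Dense (U : Set X)) (hU' : Dense ((f ⁻¹ᵁ U : X'.Opens) : Set X')) [IsIso (f ∣_ U)]

/-- the kernel and the cokernel of `O_X ⟶ f_* O_{X'}` are supported off `U` -/
theorem support_kernel_cokernel_unitToPush_subset :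
    CohB1.support (kernel (ClSub.unitToPush f)) ⊆ (U : Set X)ᶜ ∧
      CohB1.support (cokernel (ClSub.unitToPush f)) ⊆ (U : Set X)ᶜ := by
  have happ : ∀ W : X.Opens, W ≤ U → Function.Bijective ((ClSub.unitToPush f).app W) := by
    intro W hW
    exact app_bijective_of_isIso_restrict f U W hW
  constructor
  · intro x hx hxU
    exact (not_mem_support_kernel_iff (ClSub.unitToPush f) x).mpr
      (stalkLin_injective_of_app_injective _ x U hxU (fun W hW => (happ W hW).1)) hx
  · intro x hx hxU
    exact (not_mem_support_cokernel_iff (ClSub.unitToPush f) x).mpr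
      (stalkLin_surjective_of_app_surjective _ x U hxU (fun W hW => (happ W hW).2)) hx

include H hdim hdim' hf hU hU' in
/-- **S1666**: the degree of a finite locally free module is invariant under pullback along a morphism of proper
schemes of dimension `≤ 1` which is an isomorphism over a dense open with dense preimage. -/
theorem deg_pullback_of_isIso_over_dense {n : ℕ} {E : X.Modules} (hE : FlatMod.IsFinLocFreeOfRank n E) :
    Curv2.deg k X' ((Scheme.Modules.pullback f).obj E) n = Curv2.deg k X E n := by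
  haveI := isFinite_of_isIso_over_dense k X X' hdim' f hf U hU'
  haveI := Groth.Agent.Lib.EulerLE48.isNoetherian k X
  haveI : IsLocallyNoetherian X := Groth.Agent.Lib.EulerLE48.isLocallyNoetherian k X
  have hOX := Groth.Agent.Lib.CohFinAmple.isCoh_structureModule X
  have hOX' := Groth.Agent.Lib.CohFinAmple.isCoh_structureModule X'
  have hP : Coh.IsCoh ((Scheme.Modules.pushforward f).obj (Coh.structureModule X')) :=
    Groth.Agent.Lib.H90OXModPushFinite.isCoh_pushforward f _ hOX'
  obtain ⟨hK, hC⟩ := support_kernel_cokernel_unitToPush_subset (X := X) (X' := X') f U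
  have hd0 := dim_compl_le_zero_of_dense hdim U hU
  have key := (eulerInv H k X hE).eq_of_ker_coker_tors (ClSub.unitToPush f) hOX hP
    ((Groth.Agent.Lib.DimDrop.topologicalKrullDim_mono hK).trans hd0)
    ((Groth.Agent.Lib.DimDrop.topologicalKrullDim_mono hC).trans hd0)
  rw [deg_pullback_eq k X X' f hf hE]
  have key' : Curv2.euler k X (CohB1.tensorMod E (Coh.structureModule X)) -
      n * Curv2.euler k X (Coh.structureModule X) =
      Curv2.euler k X (CohB1.tensorMod E ((Scheme.Modules.pushforward f).obj (Coh.structureModule X'))) -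
        n * Curv2.euler k X ((Scheme.Modules.pushforward f).obj (Coh.structureModule X')) := key
  rw [← key', Groth.Agent.Lib.DegTensor54.euler_congr k (rightUnitor E)]
  rfl

end Main

end Groth.Agent.Lib.CurveDeg48
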