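import Groth.Agent.Lib.DerivedLES
import Groth.Agent.Lib.DeltaUniv
import Mathlib.Algebra.Homology.ShortComplex.ExactFunctor
import Mathlib.CategoryTheory.Preadditive.Injective.Preserves

/-!
# The degenerate case of the Grothendieck spectral sequence, by dimension shifting (helper10)

`Φ : A ⥤ B`, `Γ : B ⥤ C` left exact additive functors, `Φ` preserving injectives.  If all `RᵖΦ X` are
`Γ`-acyclic then `Rᵖ(Φ ⋙ Γ) X ≅ Γ (RᵖΦ X)` (`nonempty_iso`).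
-/

set_option autoImplicit false

open CategoryTheory CategoryTheory.Limits

universe v₁ v₂ v₃ u₁ u₂ u₃

namespace Groth.Agent.Lib.DegenComposite

section Acyc

variable {B : Type u₂} [Category.{v₂} B] [Abelian B] [HasInjectiveResolutions B]
  {C : Type u₃} [Category.{v₃} C] [Abelian C]
  (Γ : B ⥤ C) [Γ.Additive]

/-- `Γ`-acyclic objects -/
def Acyc (Y : B) : Prop := ∀ q : ℕ, IsZero ((Γ.rightDerived (q + 1)).obj Y)

variable {Γ}

lemma acyc_of_iso {Y Y' : B} (e : Y ≅ Y') (h : Acyc Γ Y) : Acyc Γ Y' :=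
  fun q => (h q).of_iso ((Γ.rightDerived (q + 1)).mapIso e.symm)

lemma acyc_of_injective (I : B) [Injective I] : Acyc Γ I :=
  fun q => Functor.isZero_rightDerived_obj_injective_succ Γ q I

lemma acyc_X₃ {S : ShortComplex B} (hS : S.ShortExact) (h1 : Acyc Γ S.X₁) (h2 : Acyc Γ S.X₂) :
    Acyc Γ S.X₃ := by
  intro q
  exact ((Groth.Agent.Lib.DerivedLES.derivedLES Γ).exact₃ S hS (q + 1) (q + 2)
    rfl).isZero_of_both_zeros ((h2 q).eq_of_src _ _) ((h1 (q + 1)).eq_of_tgt _ _)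

lemma acyc_X₂ {S : ShortComplex B} (hS : S.ShortExact) (h1 : Acyc Γ S.X₁) (h3 : Acyc Γ S.X₃) :
    Acyc Γ S.X₂ := by
  intro q
  exact ((Groth.Agent.Lib.DerivedLES.derivedLES Γ).exact₂ S hS
    (q + 1)).isZero_of_both_zeros ((h1 q).eq_of_src _ _) ((h3 q).eq_of_tgt _ _)

variable [PreservesFiniteLimits Γ]

lemma epi_map_g {S : ShortComplex B} (hS : S.ShortExact) (h1 : Acyc Γ S.X₁) : Epi (Γ.map S.g) := by
  have hδ : (Groth.Agent.Lib.DerivedLES.derivedLES Γ).δ S hS 0 1 rfl = 0 :=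
    (h1 0).eq_of_tgt _ _
  have h : Epi ((Γ.rightDerived 0).map S.g) :=
    ((Groth.Agent.Lib.DerivedLES.derivedLES Γ).exact₃ S hS 0 1 rfl).epi_f hδ
  have e : Γ.map S.g = Γ.rightDerivedZeroIsoSelf.inv.app S.X₂ ≫ (Γ.rightDerived 0).map S.g ≫
      Γ.rightDerivedZeroIsoSelf.hom.app S.X₃ := by
    rw [Γ.rightDerivedZeroIsoSelf.hom.naturality, Iso.inv_hom_id_app_assoc]
  rw [e]
  infer_instance

lemma shortExact_map {S : ShortComplex B} (hS : S.ShortExact) (h1 : Acyc Γ S.X₁) :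
    (S.map Γ).ShortExact := by
  have := hS.mono_f
  have : Mono (Γ.map S.f) := inferInstance
  have : Epi (Γ.map S.g) := epi_map_g hS h1
  have hk : (S.map Γ).Exact := (hS.exact.map_of_mono_of_preservesKernel Γ inferInstance inferInstance)
  exact ShortComplex.ShortExact.mk' hk ‹_› ‹_›

/-- **Four term lemma**: `Y₀ ↣ E ⟶ E' ↠ Y₁` exact, `Y₀` and `E` acyclic; then
`Γ E ⟶ Γ E' ⟶ Γ Y₁` is exact and `Γ E' ⟶ Γ Y₁` is an epimorphism. -/
lemma fourTerm {Y₀ E E' Y₁ : B} (a : Y₀ ⟶ E) (u : E ⟶ E') (v : E' ⟶ Y₁) [Mono a] [Epi v]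
    (wau : a ≫ u = 0) (wuv : u ≫ v = 0) (h1 : (ShortComplex.mk a u wau).Exact)
    (h2 : (ShortComplex.mk u v wuv).Exact) (hY₀ : Acyc Γ Y₀) (hE : Acyc Γ E) :
    ∃ w : Γ.map u ≫ Γ.map v = 0, (ShortComplex.mk (Γ.map u) (Γ.map v) w).Exact ∧
      Epi (Γ.map v) ∧ (Acyc Γ Y₁ → Acyc Γ E') := by
  let e' := cokernel.π a
  let m' : cokernel a ⟶ E' := cokernel.desc a u wau
  have hm' : Mono m' := (ShortComplex.exact_iff_mono_cokernel_desc (S := ShortComplex.mk a u wau)).1 h1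
  have hem : e' ≫ m' = u := cokernel.π_desc a u wau
  have wmv : m' ≫ v = 0 := by
    rw [← cancel_epi e', ← Category.assoc, hem, wuv, comp_zero]
  have hS1 : (Groth.Agent.Lib.DeltaUniv.ses a).ShortExact := Groth.Agent.Lib.DeltaUniv.ses_shortExact a
  let φ : ShortComplex.mk u v wuv ⟶ ShortComplex.mk m' v wmv :=
    { τ₁ := e', τ₂ := 𝟙 _, τ₃ := 𝟙 _, comm₁₂ := by simp [hem], comm₂₃ := by simp }
  have : Epi φ.τ₁ := inferInstanceAs (Epi (cokernel.π a))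
  have : IsIso φ.τ₂ := inferInstanceAs (IsIso (𝟙 _))
  have : Mono φ.τ₃ := inferInstanceAs (Mono (𝟙 _))
  have h2' : (ShortComplex.mk m' v wmv).Exact :=
    (ShortComplex.exact_iff_of_epi_of_isIso_of_mono φ).1 h2
  have hS2 : (ShortComplex.mk m' v wmv).ShortExact := ShortComplex.ShortExact.mk' h2' hm' ‹_›
  have hB : Acyc Γ (cokernel a) := acyc_X₃ hS1 hY₀ hE
  have hΓe : Epi (Γ.map e') := epi_map_g hS1 hY₀
  have hΓ2 := shortExact_map hS2 hB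
  have w : Γ.map u ≫ Γ.map v = 0 := by rw [← Γ.map_comp, wuv, Γ.map_zero]
  refine ⟨w, ?_, hΓ2.epi_g, fun hY₁ => acyc_X₂ hS2 hB hY₁⟩
  let ψ : ShortComplex.mk (Γ.map u) (Γ.map v) w ⟶ (ShortComplex.mk m' v wmv).map Γ :=
    { τ₁ := Γ.map e', τ₂ := 𝟙 _, τ₃ := 𝟙 _
      comm₁₂ := by
        change Γ.map e' ≫ Γ.map m' = Γ.map u ≫ 𝟙 _
        rw [Category.comp_id, ← Γ.map_comp, hem]
      comm₂₃ := by
        change 𝟙 _ ≫ Γ.map v = Γ.map v ≫ 𝟙 _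
        rw [Category.comp_id, Category.id_comp] }
  have : Epi ψ.τ₁ := hΓe
  have : IsIso ψ.τ₂ := inferInstanceAs (IsIso (𝟙 _))
  have : Mono ψ.τ₃ := inferInstanceAs (Mono (𝟙 _))
  exact (ShortComplex.exact_iff_of_epi_of_isIso_of_mono ψ).2 hΓ2.exact

end Acyc

section Coker

variable {C : Type u₃} [Category.{v₃} C] [Abelian C]

/-- two cokernels of isomorphic arrows are isomorphic -/
lemma nonempty_iso_of_exact {X₁ X₂ X₃ X₁' X₂' X₃' : C} (f : X₁ ⟶ X₂) (g : X₂ ⟶ X₃)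
    (f' : X₁' ⟶ X₂') (g' : X₂' ⟶ X₃') [Epi g] [Epi g'] (w : f ≫ g = 0) (w' : f' ≫ g' = 0)
    (h : (ShortComplex.mk f g w).Exact) (h' : (ShortComplex.mk f' g' w').Exact)
    (α : X₁ ≅ X₁') (β : X₂ ≅ X₂') (comm : f ≫ β.hom = α.hom ≫ f') : Nonempty (X₃ ≅ X₃') := by
  have hc : IsColimit (CokernelCofork.ofπ g w) := h.gIsCokernel
  have hc' : IsColimit (CokernelCofork.ofπ g' w') := h'.gIsCokernel
  have w1 : f ≫ β.hom ≫ g' = 0 := by rw [← Category.assoc, comm, Category.assoc, w', comp_zero]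
  have w2 : f' ≫ β.inv ≫ g = 0 := by
    have : f' = α.inv ≫ f ≫ β.hom := by rw [comm, Iso.inv_hom_id_assoc]
    rw [this]
    simp [w]
  let a : X₃ ⟶ X₃' := hc.desc (CokernelCofork.ofπ (β.hom ≫ g') w1)
  let b : X₃' ⟶ X₃ := hc'.desc (CokernelCofork.ofπ (β.inv ≫ g) w2)
  have ha : g ≫ a = β.hom ≫ g' := hc.fac _ WalkingParallelPair.one
  have hb : g' ≫ b = β.inv ≫ g := hc'.fac _ WalkingParallelPair.one
  refine ⟨⟨a, b, ?_, ?_⟩⟩
  · rw [← cancel_epi g, ← Category.assoc, ha, Category.assoc, hb, Iso.hom_inv_id_assoc,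
      Category.comp_id]
  · rw [← cancel_epi g', ← Category.assoc, hb, Category.assoc, ha, Iso.inv_hom_id_assoc,
      Category.comp_id]

end Coker

section Main

open DeltaF

variable {A : Type u₁} [Category.{v₁} A] [Abelian A] [HasInjectiveResolutions A]
  {B : Type u₂} [Category.{v₂} B] [Abelian B] [HasInjectiveResolutions B]
  {C : Type u₃} [Category.{v₃} C] [Abelian C]

/-- the connecting morphism is an isomorphism when the neighbouring terms vanish -/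
lemma isIso_δ {D : Type*} [Category D] [Abelian D] (F : A ⥤ D) [F.Additive]
    (S : ShortComplex A) (hS : S.ShortExact) (n₀ n₁ : ℕ) (h : n₀ + 1 = n₁)
    (h1 : IsZero ((F.rightDerived n₀).obj S.X₂)) (h2 : IsZero ((F.rightDerived n₁).obj S.X₂)) :
    IsIso ((Groth.Agent.Lib.DerivedLES.derivedLES F).δ S hS n₀ n₁ h) := by
  have hm : Mono ((Groth.Agent.Lib.DerivedLES.derivedLES F).δ S hS n₀ n₁ h) :=
    ((Groth.Agent.Lib.DerivedLES.derivedLES F).exact₃ S hS n₀ n₁ h).mono_g (h1.eq_of_src _ _)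
  have he : Epi ((Groth.Agent.Lib.DerivedLES.derivedLES F).δ S hS n₀ n₁ h) :=
    ((Groth.Agent.Lib.DerivedLES.derivedLES F).exact₁ S hS n₀ n₁ h).epi_f (h2.eq_of_tgt _ _)
  exact isIso_of_mono_of_epi _

variable (Φ : A ⥤ B) [Φ.Additive] [PreservesFiniteLimits Φ] [Φ.PreservesInjectiveObjects]
  (Γ : B ⥤ C) [Γ.Additive] [PreservesFiniteLimits Γ]

/-- all `RᵖΦ X` are `Γ`-acyclic -/
def Good (X : A) : Prop := ∀ p : ℕ, Acyc Γ ((Φ.rightDerived p).obj X)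

/-- an injective object containing `X` -/
noncomputable abbrev I₀ (X : A) : A := (injectiveResolution X).cocomplex.X 0

/-- the embedding into an injective object -/
noncomputable abbrev ι₀ (X : A) : X ⟶ I₀ X := (injectiveResolution X).ι.f 0

instance (X : A) : Mono (ι₀ X) := inferInstanceAs (Mono ((injectiveResolution X).ι.f 0))

/-- the short exact sequence `0 → X → I → Q → 0` -/
noncomputable abbrev S₀ (X : A) : ShortComplex A := Groth.Agent.Lib.DeltaUniv.ses (ι₀ X)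

lemma hS₀ (X : A) : (S₀ X).ShortExact := Groth.Agent.Lib.DeltaUniv.ses_shortExact (ι₀ X)

lemma isZero_I₀ {D : Type*} [Category D] [Abelian D] (F : A ⥤ D) [F.Additive] (X : A) (n : ℕ) :
    IsZero ((F.rightDerived (n + 1)).obj (S₀ X).X₂) :=
  Functor.isZero_rightDerived_obj_injective_succ F n (I₀ X)

instance : PreservesFiniteLimits (Φ ⋙ Γ) := comp_preservesFiniteLimits Φ Γ

/-- the degree zero comparison -/
noncomputable def θ : (Φ ⋙ Γ).rightDerived 0 ≅ Φ.rightDerived 0 ⋙ Γ :=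
  (Φ ⋙ Γ).rightDerivedZeroIsoSelf ≪≫ Functor.isoWhiskerRight Φ.rightDerivedZeroIsoSelf.symm Γ

variable {Φ Γ}

/-- the four term exact sequence `R⁰Φ X ↣ R⁰Φ I → R⁰Φ Q ↠ R¹Φ X` after applying `Γ` -/
lemma four (X : A) (hX : Good Φ Γ X) :
    ∃ w, (ShortComplex.mk (Γ.map ((Φ.rightDerived 0).map (S₀ X).g))
        (Γ.map ((Groth.Agent.Lib.DerivedLES.derivedLES Φ).δ (S₀ X) (hS₀ X) 0 1 rfl)) w).Exact ∧
      Epi (Γ.map ((Groth.Agent.Lib.DerivedLES.derivedLES Φ).δ (S₀ X) (hS₀ X) 0 1 rfl)) ∧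
      Acyc Γ ((Φ.rightDerived 0).obj (S₀ X).X₃) := by
  let Δ := Groth.Agent.Lib.DerivedLES.derivedLES Φ
  have hmono : Mono ((Φ.rightDerived 0).map (S₀ X).f) := by
    have e : (Φ.rightDerived 0).map (S₀ X).f = Φ.rightDerivedZeroIsoSelf.hom.app _ ≫
        Φ.map (S₀ X).f ≫ Φ.rightDerivedZeroIsoSelf.inv.app _ := by
      rw [← Category.assoc, ← Φ.rightDerivedZeroIsoSelf.hom.naturality, Category.assoc,
        Iso.hom_inv_id_app, Category.comp_id]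
    rw [e]
    have : Mono (Φ.map (S₀ X).f) := inferInstanceAs (Mono (Φ.map (ι₀ X)))
    infer_instance
  have hepi : Epi (Δ.δ (S₀ X) (hS₀ X) 0 1 rfl) :=
    (Δ.exact₁ (S₀ X) (hS₀ X) 0 1 rfl).epi_f ((isZero_I₀ Φ X 0).eq_of_tgt _ _)
  have hE : Acyc Γ ((Φ.rightDerived 0).obj (S₀ X).X₂) := by
    have : Injective (Φ.obj (I₀ X)) := Functor.injective_obj Φ (I₀ X)
    exact acyc_of_iso (Φ.rightDerivedZeroIsoSelf.app (I₀ X)).symm (acyc_of_injective _)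
  obtain ⟨w, h1, h2, h3⟩ := fourTerm (Γ := Γ) ((Φ.rightDerived 0).map (S₀ X).f)
    ((Φ.rightDerived 0).map (S₀ X).g) (Δ.δ (S₀ X) (hS₀ X) 0 1 rfl)
    (by rw [← Functor.map_comp, (S₀ X).zero, Functor.map_zero]) (Δ.comp_δ (S₀ X) (hS₀ X) 0 1 rfl)
    (Δ.exact₂ (S₀ X) (hS₀ X) 0) (Δ.exact₃ (S₀ X) (hS₀ X) 0 1 rfl) (hX 0) hE
  exact ⟨w, h1, h2, h3 (hX 1)⟩

lemma good_Q (X : A) (hX : Good Φ Γ X) : Good Φ Γ (S₀ X).X₃ := by
  intro p
  cases p with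
  | zero => exact (four X hX).choose_spec.2.2
  | succ p =>
    have := isIso_δ Φ (S₀ X) (hS₀ X) (p + 1) (p + 2) rfl (isZero_I₀ Φ X p) (isZero_I₀ Φ X (p + 1))
    exact acyc_of_iso (asIso ((Groth.Agent.Lib.DerivedLES.derivedLES Φ).δ (S₀ X) (hS₀ X)
      (p + 1) (p + 2) rfl)).symm (hX (p + 2))

/-- **Degenerate Grothendieck spectral sequence**: `Rᵖ(Φ ⋙ Γ) X ≅ Γ (RᵖΦ X)` when all `RᵖΦ X`
are `Γ`-acyclic. -/
theorem nonempty_iso (p : ℕ) : ∀ (X : A), Good Φ Γ X →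
    Nonempty (((Φ ⋙ Γ).rightDerived p).obj X ≅ Γ.obj ((Φ.rightDerived p).obj X)) := by
  induction p with
  | zero => exact fun X _ => ⟨(θ Φ Γ).app X⟩
  | succ n ih =>
    intro X hX
    cases n with
    | zero =>
      let ΔΨ := Groth.Agent.Lib.DerivedLES.derivedLES (Φ ⋙ Γ)
      obtain ⟨w, h1, h2, -⟩ := four X hX
      have hepi : Epi (ΔΨ.δ (S₀ X) (hS₀ X) 0 1 rfl) :=
        (ΔΨ.exact₁ (S₀ X) (hS₀ X) 0 1 rfl).epi_f ((isZero_I₀ (Φ ⋙ Γ) X 0).eq_of_tgt _ _)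
      exact nonempty_iso_of_exact _ _ _ _ (ΔΨ.comp_δ (S₀ X) (hS₀ X) 0 1 rfl) w
        (ΔΨ.exact₃ (S₀ X) (hS₀ X) 0 1 rfl) h1 ((θ Φ Γ).app _) ((θ Φ Γ).app _)
        ((θ Φ Γ).hom.naturality (S₀ X).g)
    | succ n =>
      have h1 := isIso_δ (Φ ⋙ Γ) (S₀ X) (hS₀ X) (n + 1) (n + 2) rfl (isZero_I₀ _ X n)
        (isZero_I₀ _ X (n + 1))
      have h2 := isIso_δ Φ (S₀ X) (hS₀ X) (n + 1) (n + 2) rfl (isZero_I₀ _ X n)
        (isZero_I₀ _ X (n + 1))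
      obtain ⟨e⟩ := ih (S₀ X).X₃ (good_Q X hX)
      exact ⟨(asIso ((Groth.Agent.Lib.DerivedLES.derivedLES (Φ ⋙ Γ)).δ (S₀ X) (hS₀ X)
        (n + 1) (n + 2) rfl)).symm ≪≫ e ≪≫
        Γ.mapIso (asIso ((Groth.Agent.Lib.DerivedLES.derivedLES Φ).δ (S₀ X) (hS₀ X)
          (n + 1) (n + 2) rfl))⟩

end Main

end Groth.Agent.Lib.DegenComposite
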