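import Groth.Prelude.Def_Curv2

/-!
# δ-invariant via localization of an integral closure (helper84)

Namespace `Groth.Agent.Lib.DeltaAlg84`.
* `length_quotient_span_eq_deltaInv M hM S R N g`: `A` a domain with fraction ring `S`, `M ≤ A⁰`, `R = M⁻¹A`, `N` an
  `R`-module which is the localization at `M` of `C = integralClosure A S` through `g : C →ₗ[A] N`; then
  `length_R (N ⧸ R ∙ g 1) = Curv2.deltaInv R` (uses Mathlib's `IsLocalization.integralClosure`).
-/

set_option autoImplicit false
set_option maxHeartbeats 800000
set_option linter.style.haveILetI false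
universe u

namespace Groth.Agent.Lib.DeltaAlg84

open scoped nonZeroDivisors

/-- **Algebraic core.** `A` a domain with fraction ring `S`, `M ⊆ A` a submonoid of nonzerodivisors, `R = M⁻¹A`.
If an `R`-module `N` is the localization at `M` of the integral closure `C` of `A` in `S` (through `g : C → N`), then
`N / R·g(1)` has length `δ(R)`. -/
theorem length_quotient_span_eq_deltaInv
    {A : Type u} [CommRing A] [IsDomain A] (M : Submonoid A) (hM : M ≤ A⁰)
    (S : Type u) [CommRing S] [Algebra A S] [IsFractionRing A S]
    (R : Type u) [CommRing R] [Algebra A R] [IsLocalization M R]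
    (N : Type u) [AddCommGroup N] [Module A N] [Module R N] [IsScalarTower A R N]
    (g : integralClosure A S →ₗ[A] N) [IsLocalizedModule M g] :
    Module.length R (N ⧸ Submodule.span R {g 1}) = Curv2.deltaInv R := by
  haveI : IsDomain S := IsFractionRing.isDomain A
  haveI : IsDomain R := IsLocalization.isDomain_of_le_nonZeroDivisors R hM
  have hunits : ∀ y : M, IsUnit (algebraMap A S y) := fun y =>
    IsLocalization.map_units S (⟨y.1, hM y.2⟩ : A⁰)
  letI algRS : Algebra R S := (IsLocalization.lift (M := M) (g := algebraMap A S) hunits).toAlgebra
  haveI : IsScalarTower A R S := IsScalarTower.of_algebraMap_eq (fun a =>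
    (IsLocalization.lift_eq (M := M) hunits a).symm)
  haveI : IsFractionRing R S := IsFractionRing.isFractionRing_of_isDomain_of_isLocalization M R S
  have hCD : ∀ c : integralClosure A S, (c : S) ∈ integralClosure R S := fun c =>
    IsIntegral.tower_top (A := R) c.2
  letI algCD : Algebra (integralClosure A S) (integralClosure R S) :=
    (RingHom.codRestrict (algebraMap (integralClosure A S) S) (integralClosure R S) hCD).toAlgebra
  haveI : IsScalarTower (integralClosure A S) (integralClosure R S) S :=
    IsScalarTower.of_algebraMap_eq (fun c => rfl)
  haveI : IsScalarTower A (integralClosure A S) (integralClosure R S) :=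
    IsScalarTower.of_algebraMap_eq (fun a => Subtype.ext (by
      change algebraMap A S a = algebraMap A S a
      rfl))
  haveI : IsLocalization (Algebra.algebraMapSubmonoid S M) S :=
    IsLocalization.of_le_isUnit (by
      rintro _ ⟨y, hy, rfl⟩
      exact hunits ⟨y, hy⟩)
  haveI hloc : IsLocalization (Algebra.algebraMapSubmonoid (integralClosure A S) M)
      (integralClosure R S) := IsLocalization.integralClosure (S := S) (Rf := R) (Sf := S) M
  let g' : integralClosure A S →ₗ[A] integralClosure R S :=
    (IsScalarTower.toAlgHom A (integralClosure A S) (integralClosure R S)).toLinearMap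
  haveI : IsLocalizedModule M g' := isLocalizedModule_iff_isLocalization.mpr hloc
  let e₀ : N ≃ₗ[A] integralClosure R S := IsLocalizedModule.linearEquiv M g g'
  let e : N ≃ₗ[R] integralClosure R S := e₀.extendScalarsOfIsLocalization M R
  have he1 : e (g 1) = 1 := by
    change e₀ (g 1) = 1
    rw [IsLocalizedModule.linearEquiv_apply]
    exact map_one (IsScalarTower.toAlgHom A (integralClosure A S) (integralClosure R S))
  have hmap : (Submodule.span R {g 1}).map (e : N →ₗ[R] integralClosure R S) =
      LinearMap.range (Algebra.linearMap R (integralClosure R S)) := by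
    rw [Submodule.map_span, Set.image_singleton]
    change Submodule.span R {e (g 1)} = _
    rw [he1]
    ext z
    rw [Submodule.mem_span_singleton, LinearMap.mem_range]
    constructor
    · rintro ⟨r, rfl⟩
      exact ⟨r, by rw [Algebra.linearMap_apply, Algebra.algebraMap_eq_smul_one]⟩
    · rintro ⟨r, rfl⟩
      exact ⟨r, by rw [Algebra.linearMap_apply, Algebra.algebraMap_eq_smul_one]⟩
  let q1 : (N ⧸ Submodule.span R {g 1}) ≃ₗ[R]
      (integralClosure R S ⧸ LinearMap.range (Algebra.linearMap R (integralClosure R S))) :=
    Submodule.Quotient.equiv _ _ e hmap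
  let a : FractionRing R ≃ₐ[R] S := FractionRing.algEquiv R S
  let b : integralClosure R (FractionRing R) ≃ₐ[R] integralClosure R S := a.mapIntegralClosure
  have hmap2 : (LinearMap.range (Algebra.linearMap R (integralClosure R (FractionRing R)))).map
      (b.toLinearEquiv : integralClosure R (FractionRing R) →ₗ[R] integralClosure R S) =
      LinearMap.range (Algebra.linearMap R (integralClosure R S)) := by
    rw [← LinearMap.range_comp]
    congr 1
    ext
    simp
  let q2 : (integralClosure R (FractionRing R) ⧸
        LinearMap.range (Algebra.linearMap R (integralClosure R (FractionRing R)))) ≃ₗ[R]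
      (integralClosure R S ⧸ LinearMap.range (Algebra.linearMap R (integralClosure R S))) :=
    Submodule.Quotient.equiv _ _ b.toLinearEquiv hmap2
  rw [Curv2.deltaInv]
  exact (q1.trans q2.symm).length_eq

end Groth.Agent.Lib.DeltaAlg84
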