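import Groth.Agent.Lib.HenselizationNoeth
import Groth.Agent.Lib.HenselizationDim
import Groth.Agent.Lib.HenselizationUP
import Mathlib.RingTheory.RegularLocalRing.Defs
import Mathlib.Algebra.Module.SpanRankOperations
import Mathlib.RingTheory.Ideal.Cotangent

/-!
# Regularity of the henselization (helper22)

* `spanFinrank_maximalIdeal_eq_of_local`: for a local homomorphism `R → S` with `m_R S = m_S`,
  `R/m² ≅ S/m²S`-type hypotheses and bijective residue field map, the maximal ideals have the same
  minimal number of generators.
* `isRegularLocalRing_iff_of_isHenselization`.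
-/

namespace Groth.Agent.Lib.HenselizationRegular

open IsLocalRing Groth.Agent.Lib.HenselizationConstr Groth.Agent.Lib.HenselizationFlat

universe u

section General

variable (R S : Type u) [CommRing R] [CommRing S] [IsLocalRing R] [IsLocalRing S] [Algebra R S]
  [IsLocalHom (algebraMap R S)]

theorem spanFinrank_maximalIdeal_eq_of_local (fg : (maximalIdeal R).FG)
    (hmap : Ideal.map (algebraMap R S) (maximalIdeal R) = maximalIdeal S)
    (hinj : (Ideal.map (algebraMap R S) (maximalIdeal R ^ 2)).comap (algebraMap R S) =
      maximalIdeal R ^ 2)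
    (hsurj : ∀ y : S, ∃ x : R, algebraMap R S x - y ∈
      Ideal.map (algebraMap R S) (maximalIdeal R ^ 2))
    (hres : Function.Bijective (ResidueField.map (algebraMap R S))) :
    (maximalIdeal S).spanFinrank = (maximalIdeal R).spanFinrank := by
  have comapeq := IsLocalRing.maximalIdeal_comap (algebraMap R S)
  have hsq : maximalIdeal S ^ 2 = Ideal.map (algebraMap R S) (maximalIdeal R ^ 2) := by
    rw [Ideal.map_pow, hmap]
  let f := Ideal.mapCotangent (maximalIdeal R) (maximalIdeal S) (Algebra.ofId R S)
    (le_of_eq comapeq.symm)
  have inj : Function.Injective f := by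
    rw [← LinearMap.ker_eq_bot, LinearMap.ker_eq_bot']
    intro m hm
    rcases Ideal.toCotangent_surjective _ m with ⟨m', hm'⟩
    simp only [← hm', Ideal.mapCotangent_toCotangent, Algebra.ofId_apply,
      Ideal.toCotangent_eq_zero, f] at hm
    rw [hsq] at hm
    have : (m' : R) ∈ maximalIdeal R ^ 2 := by
      rw [← hinj]
      exact hm
    rw [← hm', Ideal.toCotangent_eq_zero]
    exact this
  have surj : Function.Surjective f := by
    intro m
    rcases Ideal.toCotangent_surjective _ m with ⟨m', hm'⟩
    obtain ⟨x, hx⟩ := hsurj m'.1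
    have hxm : x ∈ maximalIdeal R := by
      rw [← comapeq, Ideal.mem_comap]
      have h1 : algebraMap R S x - m'.1 ∈ maximalIdeal S := by
        rw [← hsq] at hx
        exact Ideal.pow_le_self two_ne_zero hx
      have := Ideal.add_mem _ h1 m'.2
      simpa using this
    use (maximalIdeal R).toCotangent ⟨x, hxm⟩
    simp only [Ideal.mapCotangent_toCotangent, Algebra.ofId_apply, ← hm', Ideal.toCotangent_eq, f]
    rw [hsq]
    exact hx
  have rkeq := rank_eq_of_equiv_equiv _
    (LinearEquiv.ofBijective f ⟨inj, surj⟩).toAddEquiv
    hres (fun r m ↦ by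
      rcases IsLocalRing.residue_surjective r with ⟨s, rfl⟩
      show f (residue R s • m) = ResidueField.map (algebraMap R S) (residue R s) • f m
      rw [ResidueField.map_residue]
      have h1 : residue R s • m = s • m := rfl
      have h2 : residue S (algebraMap R S s) • f m = (algebraMap R S s) • f m := rfl
      rw [h1, h2, map_smul, algebraMap_smul])
  have fg' : (maximalIdeal S).FG := by
    rw [← hmap]
    exact fg.map _
  rw [IsLocalRing.spanFinrank_maximalIdeal_eq_finrank_cotangentSpace_of_fg fg,
    IsLocalRing.spanFinrank_maximalIdeal_eq_finrank_cotangentSpace_of_fg fg', eq_comm]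
  simp [Module.finrank, CotangentSpace, rkeq]

end General

section Hens

variable (R : Type u) [CommRing R] [IsLocalRing R] (S : Type u) [CommRing S] [IsLocalRing S]
  [Algebra R S] [IsLocalHom (algebraMap R S)] [Hensel.IsHenselization R S]

theorem spanFinrank_maximalIdeal_of_isHenselization (fg : (maximalIdeal R).FG) :
    (maximalIdeal S).spanFinrank = (maximalIdeal R).spanFinrank := by
  have hff := faithfullyFlat_of_isHenselization R S
  refine spanFinrank_maximalIdeal_eq_of_local R S fg
    (Groth.Agent.Lib.HenselizationUP.map_maximalIdeal_eq R S)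
    (Ideal.comap_map_eq_self_of_faithfullyFlat _) ?_
    (Groth.Agent.Lib.HenselizationUP.residueFieldMap_bijective R S)
  intro y
  obtain ⟨x, hx⟩ := (Groth.Agent.Lib.HenselizationUP.quotientMap_pow_bijective R S 2).2
    (Ideal.Quotient.mk _ y)
  obtain ⟨r, rfl⟩ := Ideal.Quotient.mk_surjective x
  refine ⟨r, ?_⟩
  rw [Ideal.quotientMap_mk] at hx
  exact (Ideal.Quotient.eq).mp hx

theorem isRegularLocalRing_iff_of_isHenselization [IsNoetherianRing R] :
    IsRegularLocalRing R ↔ IsRegularLocalRing S := by
  have hS : IsNoetherianRing S :=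
    (Groth.Agent.Lib.HenselizationNoeth.isNoetherianRing_iff_of_isHenselization R S).mp
      inferInstance
  have hdim := Groth.Agent.Lib.HenselizationDim.ringKrullDim_of_isHenselization R S
  have hspan := spanFinrank_maximalIdeal_of_isHenselization R S
    (maximalIdeal R).fg_of_isNoetherianRing
  rw [isRegularLocalRing_iff, isRegularLocalRing_iff, hdim, hspan]

end Hens

end Groth.Agent.Lib.HenselizationRegular
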