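import Groth.Agent.S7652
import Groth.Agent.S7651
import Groth.Agent.S4861
import Groth.Agent.S9262
import Groth.Agent.Lib.TotalFrac

/-!
# Invariance of the δ-invariant under flat local base change (helper98)

Let `A` be a reduced Nagata local ring of dimension one with integral closure `A'` (finite over `A`),
and `A → B` a flat local homomorphism of Noetherian local rings with `m_A B = m_B` which is
"unramified along `A'`": for every maximal ideal `n` of `A' ⊗[A] B`, `(n ∩ A') (A' ⊗ B)_n` is the
maximal ideal.  Then `δ(B) = δ(A)` (`deltaInv_eq`).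

* `mem_range_of_isIntegral`: a ring `C` whose localizations at maximal ideals are integrally closed
  domains, embedded in the fraction ring of `B`, contains every element integral over `B`.
* `dvr_loc`: the localizations of `A'` at maximal ideals are DVRs.
* `hram_of_residue_surjective`: the ramification hypothesis when `A → B/m_A B` is surjective.
-/

set_option autoImplicit false
set_option maxHeartbeats 400000
universe u

namespace Groth.Agent.Lib.DeltaBC98

open IsLocalRing TensorProduct Variety

section IC

variable {B C : Type*} [CommRing B] [CommRing C] (θ : B →+* C)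
  {K : Type*} [CommRing K] [Algebra B K] [IsFractionRing B K]
  (ι : C →+* K)

theorem mem_range_of_isIntegral (hι : Function.Injective ι)
    (hιθ : ∀ b, ι (θ b) = algebraMap B K b)
    (hC : ∀ (n : Ideal C) [n.IsMaximal],
      IsDomain (Localization.AtPrime n) ∧ IsIntegrallyClosed (Localization.AtPrime n))
    (x : K) (hx : IsIntegral B x) : x ∈ ι.range := by
  classical
  obtain ⟨⟨β, t⟩, hβt⟩ := IsLocalization.surj (nonZeroDivisors B) x
  simp only at hβt
  have htunit : IsUnit (algebraMap B K (t : B)) := IsLocalization.map_units K t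
  by_cases htop : (Ideal.span {θ t} : Ideal C).colon ({θ β} : Set C) = ⊤
  · have h1 : (1 : C) ∈ (Ideal.span {θ t} : Ideal C).colon ({θ β} : Set C) := by
      rw [htop]; trivial
    rw [Submodule.mem_colon_singleton, one_smul, Ideal.mem_span_singleton'] at h1
    obtain ⟨c₀, hc₀⟩ := h1
    refine ⟨c₀, ?_⟩
    have h2 : ι c₀ * algebraMap B K t = x * algebraMap B K t := by
      rw [hβt, ← hιθ β, ← hιθ t, ← map_mul, hc₀]
    exact htunit.mul_left_injective h2
  · exfalso
    obtain ⟨n, hn, hle⟩ := Ideal.exists_le_maximal _ htop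
    haveI := hn
    obtain ⟨hdom, hic⟩ := hC n
    have hinjCK : Function.Injective (algebraMap (Localization.AtPrime n)
        (FractionRing (Localization.AtPrime n))) :=
      IsFractionRing.injective _ _
    let θ' : B →+* Localization.AtPrime n := (algebraMap C (Localization.AtPrime n)).comp θ
    let φ : B →+* FractionRing (Localization.AtPrime n) :=
      (algebraMap (Localization.AtPrime n) (FractionRing (Localization.AtPrime n))).comp θ'
    have hφunit : ∀ t' : nonZeroDivisors B, IsUnit (φ t') := by
      intro t'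
      rw [isUnit_iff_ne_zero]
      intro h0
      have h1 : algebraMap C (Localization.AtPrime n) (θ t') = 0 :=
        hinjCK (by rw [map_zero]; exact h0)
      rw [IsLocalization.map_eq_zero_iff n.primeCompl] at h1
      obtain ⟨u, hu⟩ := h1
      have h2 : ι (u : C) * algebraMap B K (t' : B) = 0 := by
        rw [← hιθ, ← map_mul, hu, map_zero]
      have h3 : ι (u : C) = 0 := (IsLocalization.map_units K t').mul_left_eq_zero.mp h2
      have h4 : (u : C) = 0 := hι (by rw [h3, map_zero])
      exact (Ideal.mem_primeCompl_iff.mp u.2) (h4 ▸ n.zero_mem)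
    let ψ : K →+* FractionRing (Localization.AtPrime n) :=
      IsLocalization.lift (M := nonZeroDivisors B) (g := φ) hφunit
    have hψ : ∀ b : B, ψ (algebraMap B K b) = φ b := fun b => IsLocalization.lift_eq hφunit b
    obtain ⟨p, hpm, hp⟩ := hx
    have hint : IsIntegral (Localization.AtPrime n) (ψ x) := by
      refine ⟨p.map θ', hpm.map _, ?_⟩
      rw [Polynomial.eval₂_map]
      have h5 : (algebraMap (Localization.AtPrime n)
          (FractionRing (Localization.AtPrime n))).comp θ' = ψ.comp (algebraMap B K) := by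
        ext b; exact (hψ b).symm
      rw [h5, ← Polynomial.hom_eval₂, hp, map_zero]
    obtain ⟨y, hy⟩ := IsIntegrallyClosed.algebraMap_eq_of_integral hint
    have h5 : y * algebraMap C (Localization.AtPrime n) (θ t) =
        algebraMap C (Localization.AtPrime n) (θ β) := by
      apply hinjCK
      rw [map_mul, hy]
      have h6 := congrArg ψ hβt
      rw [map_mul, hψ, hψ] at h6
      exact h6
    obtain ⟨c, u, rfl⟩ := IsLocalization.exists_mk'_eq n.primeCompl y
    have h6 : algebraMap C (Localization.AtPrime n) (c * θ t) =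
        algebraMap C (Localization.AtPrime n) (θ β * u) := by
      rw [map_mul, map_mul, ← h5, ← IsLocalization.mk'_spec (Localization.AtPrime n) c u]
      ring
    obtain ⟨u', hu'⟩ := (IsLocalization.eq_iff_exists n.primeCompl (Localization.AtPrime n)).mp h6
    have h7 : ((u' : C) * u) ∈ (Ideal.span {θ t} : Ideal C).colon ({θ β} : Set C) := by
      rw [Submodule.mem_colon_singleton, smul_eq_mul, Ideal.mem_span_singleton']
      refine ⟨u' * c, ?_⟩
      rw [mul_assoc, hu']; ring
    have h8 := hle h7
    rcases hn.isPrime.mem_or_mem h8 with h | h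
    · exact (Ideal.mem_primeCompl_iff.mp u'.2) h
    · exact (Ideal.mem_primeCompl_iff.mp u.2) h

end IC

section Loc

variable (A : Type u) [CommRing A] [IsLocalRing A] [IsReduced A]

/-- The localizations of the integral closure of a reduced Nagata local ring of dimension one at
its maximal ideals are discrete valuation rings. -/
theorem dvr_loc (hN : CAlg.IsNagata A) (hdim : ringKrullDim A = 1)
    (m' : Ideal ↥(integralClosure A (FractionRing A))) [hm' : m'.IsMaximal] :
    ∃ _ : IsDomain (Localization.AtPrime m'),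
      IsDiscreteValuationRing (Localization.AtPrime m') := by
  classical
  have hNoeth : IsNoetherianRing A := hN.1
  obtain ⟨hA'fin, hnorm, -⟩ := Groth.Agent.S7652.result A hN hdim
  haveI := hA'fin
  haveI hint : Algebra.IsIntegral A ↥(integralClosure A (FractionRing A)) :=
    Algebra.IsIntegral.of_finite A _
  have hIm : (maximalIdeal A).map (algebraMap A ↥(integralClosure A (FractionRing A))) ≤ m' := by
    rw [Ideal.map_le_iff_le_comap]
    have hmax : (m'.comap (algebraMap A ↥(integralClosure A (FractionRing A)))).IsMaximal :=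
      Ideal.isMaximal_comap_of_isIntegral_of_isMaximal m'
    exact (IsLocalRing.eq_maximalIdeal hmax).ge
  have hdimA' : ringKrullDim ↥(integralClosure A (FractionRing A)) ≤ ringKrullDim A :=
    Order.krullDim_le_of_strictMono
      (fun I : PrimeSpectrum ↥(integralClosure A (FractionRing A)) =>
        (⟨Ideal.comap (algebraMap A ↥(integralClosure A (FractionRing A))) I.asIdeal,
          inferInstance⟩ : PrimeSpectrum A))
      (fun I J hIJ => by
        have : I.asIdeal < J.asIdeal := hIJ
        exact Ideal.IsIntegral.comap_lt_comap (R := A) this)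
  haveI hNoethA' : IsNoetherianRing ↥(integralClosure A (FractionRing A)) :=
    Algebra.FiniteType.isNoetherianRing A _
  obtain ⟨hdomR, hicR⟩ := hnorm ⟨m', hm'.isPrime⟩
  refine ⟨hdomR, ?_⟩
  haveI : IsNoetherianRing (Localization.AtPrime m') :=
    IsLocalization.isNoetherianRing m'.primeCompl _ inferInstance
  obtain ⟨f, hfm, hfmin⟩ := Groth.Agent.S7651.exists_avoid hdim
  have hfreg : f ∈ nonZeroDivisors A :=
    Groth.Agent.Lib.TotalFrac.mem_nonZeroDivisors_iff_forall_notMem.mpr
      (fun q => hfmin q.1 q.2)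
  have hfR_mem : algebraMap ↥(integralClosure A (FractionRing A))
      (Localization.AtPrime m')
      (algebraMap A ↥(integralClosure A (FractionRing A)) f) ∈
      maximalIdeal (Localization.AtPrime m') :=
    (IsLocalization.AtPrime.to_map_mem_maximal_iff _ m' _).mpr
      (hIm (Ideal.mem_map_of_mem _ hfm))
  have hfR_ne : algebraMap ↥(integralClosure A (FractionRing A))
      (Localization.AtPrime m')
      (algebraMap A ↥(integralClosure A (FractionRing A)) f) ≠ 0 := by
    intro h0
    rw [IsLocalization.map_eq_zero_iff m'.primeCompl] at h0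
    obtain ⟨s, hs⟩ := h0
    have hunit : IsUnit (algebraMap A (FractionRing A) f) :=
      IsLocalization.map_units (FractionRing A) (⟨f, hfreg⟩ : nonZeroDivisors A)
    have hs' : ((s : ↥(integralClosure A (FractionRing A))) : FractionRing A) *
        algebraMap A (FractionRing A) f = 0 := by
      have h5 := congrArg Subtype.val hs
      exact h5
    have h6 : ((s : ↥(integralClosure A (FractionRing A))) : FractionRing A) = 0 :=
      hunit.mul_left_eq_zero.mp hs'
    have hs0 : (s : ↥(integralClosure A (FractionRing A))) = 0 := Subtype.ext h6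
    exact s.2 (hs0 ▸ zero_mem _)
  have hnf : ¬ IsField (Localization.AtPrime m') := by
    intro hf
    have h7 := IsLocalRing.isField_iff_maximalIdeal_eq.mp hf
    rw [h7] at hfR_mem
    exact hfR_ne ((Submodule.mem_bot _).mp hfR_mem)
  have hm0 : maximalIdeal (Localization.AtPrime m') ≠ ⊥ :=
    fun h0 => hnf (IsLocalRing.isField_iff_maximalIdeal_eq.2 h0)
  have hdimR : ringKrullDim (Localization.AtPrime m') ≤ 1 := by
    rw [IsLocalization.AtPrime.ringKrullDim_eq_height m' (Localization.AtPrime m')]
    exact ((Ideal.height_le_ringKrullDim_of_ne_top hm'.ne_top).trans hdimA').trans hdim.le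
  have huniq : ∃! P : Ideal (Localization.AtPrime m'), P ≠ ⊥ ∧ P.IsPrime := by
    refine ⟨maximalIdeal _, ⟨hm0, inferInstance⟩, ?_⟩
    rintro P ⟨hP0, hP⟩
    have := Groth.Agent.S4861.isMaximal_of_dim_le_one
      (B := Localization.AtPrime m') hdimR P hP0
    exact IsLocalRing.eq_maximalIdeal this
  have htfae := (IsDiscreteValuationRing.TFAE (Localization.AtPrime m') hnf).out 3 0
  exact htfae.1 ⟨hicR, huniq⟩

end Loc

section Main

variable (A : Type u) [CommRing A]
  (B : Type u) [CommRing B] [Algebra A B] [Module.Flat A B]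
  (A' : Type u) [CommRing A'] [Algebra A A'] (ε : A' →ₐ[A] FractionRing A)

theorem nonZeroDivisors_le_comap :
    nonZeroDivisors A ≤ (nonZeroDivisors B).comap (algebraMap A B) := by
  intro a ha
  rw [Submonoid.mem_comap, mem_nonZeroDivisors_iff_right]
  intro z hz
  have hreg : IsSMulRegular B a := Module.Flat.isSMulRegular_of_nonZeroDivisors ha
  apply hreg
  show a • z = a • (0 : B)
  rw [smul_zero, Algebra.smul_def, mul_comm]; exact hz

/-- The map of total fraction rings induced by a flat ring map. -/
noncomputable def mapK : FractionRing A →+* FractionRing B :=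
  IsLocalization.map (FractionRing B) (algebraMap A B) (nonZeroDivisors_le_comap A B)

theorem mapK_algebraMap (a : A) :
    mapK A B (algebraMap A (FractionRing A) a) =
      algebraMap B (FractionRing B) (algebraMap A B a) :=
  IsLocalization.map_eq _ a

variable {A'}

/-- The `A`-algebra map `A' → Q(B)`. -/
noncomputable def jalg : A' →ₐ[A] FractionRing B :=
  { (mapK A B).comp (ε : A' →+* FractionRing A) with
    commutes' := fun a => by
      show mapK A B (ε (algebraMap A A' a)) = algebraMap A (FractionRing B) a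
      rw [ε.commutes, mapK_algebraMap, ← IsScalarTower.algebraMap_apply A B (FractionRing B)] }

theorem jalg_apply (a' : A') : jalg A B ε a' = mapK A B (ε a') := rfl

theorem isIntegral_jalg (hεint : ∀ a', IsIntegral A (ε a')) (a' : A') :
    IsIntegral B (jalg A B ε a') := by
  obtain ⟨p, hpm, hp⟩ := hεint a'
  refine ⟨p.map (algebraMap A B), hpm.map _, ?_⟩
  rw [Polynomial.eval₂_map]
  have h1 : (algebraMap B (FractionRing B)).comp (algebraMap A B) =
      (mapK A B).comp (algebraMap A (FractionRing A)) := by
    ext a; exact (mapK_algebraMap A B a).symm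
  rw [h1, jalg_apply, ← Polynomial.hom_eval₂, hp, map_zero]

/-- The `B`-linear map `B ⊗ A' → Q(B)`. -/
noncomputable def Phi0 : B ⊗[A] A' →ₗ[B] FractionRing B :=
  LinearMap.liftBaseChange B (jalg A B ε).toLinearMap

theorem Phi0_tmul (b : B) (a' : A') :
    Phi0 A B ε (b ⊗ₜ[A] a') = b • jalg A B ε a' :=
  LinearMap.liftBaseChange_tmul B _ b a'

theorem Phi0_tmul_one (b : B) :
    Phi0 A B ε (b ⊗ₜ[A] (1 : A')) = algebraMap B (FractionRing B) b := by
  rw [Phi0_tmul, map_one, Algebra.algebraMap_eq_smul_one]

theorem isIntegral_Phi0 (hεint : ∀ a', IsIntegral A (ε a')) (c : B ⊗[A] A') :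
    IsIntegral B (Phi0 A B ε c) := by
  induction c using TensorProduct.induction_on with
  | zero => rw [map_zero]; exact isIntegral_zero
  | tmul b a' =>
    rw [Phi0_tmul, Algebra.smul_def]
    exact isIntegral_algebraMap.mul (isIntegral_jalg A B ε hεint a')
  | add x y hx hy => rw [map_add]; exact hx.add hy

theorem exists_smul_eq_algebraMap [Module.Finite A A'] (hε : Function.Injective ε) :
    ∃ g ∈ nonZeroDivisors A, ∀ x : A', ∃ a : A, g • x = algebraMap A A' a := by
  classical
  obtain ⟨S, hS⟩ := (Module.Finite.fg_top : (⊤ : Submodule A A').FG)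
  have hx : ∀ x : A', ∃ s : nonZeroDivisors A, ∃ a : A, (s : A) • x = algebraMap A A' a := by
    intro x
    obtain ⟨⟨a, s⟩, h⟩ := IsLocalization.surj (nonZeroDivisors A) (ε x)
    refine ⟨s, a, hε ?_⟩
    rw [map_smul, ε.commutes, Algebra.smul_def, mul_comm]
    exact h
  choose s a hsa using hx
  refine ⟨∏ x ∈ S, (s x : A), Submonoid.prod_mem _ (fun x _ => (s x).2), ?_⟩
  have hle : (⊤ : Submodule A A') ≤ Submodule.comap (LinearMap.lsmul A A' (∏ x ∈ S, (s x : A)))
      (LinearMap.range (Algebra.linearMap A A')) := by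
    rw [← hS, Submodule.span_le]
    intro x hx
    change (∏ y ∈ S, (s y : A)) • x ∈ LinearMap.range (Algebra.linearMap A A')
    rw [← Finset.mul_prod_erase S _ hx, mul_comm, mul_smul, hsa x]
    exact ⟨(∏ y ∈ S.erase x, (s y : A)) * a x, by simp [Algebra.smul_def]⟩
  intro x
  obtain ⟨a₀, ha₀⟩ := hle (Submodule.mem_top : x ∈ ⊤)
  exact ⟨a₀, ha₀.symm⟩

theorem Phi0_injective [Module.Finite A A'] (hε : Function.Injective ε) :
    Function.Injective (Phi0 A B ε) := by
  obtain ⟨g, hg, hgr⟩ := exists_smul_eq_algebraMap A ε hε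
  rw [injective_iff_map_eq_zero]
  intro c hc
  have h1 : ∀ c : B ⊗[A] A', ∃ β : B, g • c = β ⊗ₜ[A] (1 : A') := by
    intro c
    induction c using TensorProduct.induction_on with
    | zero => exact ⟨0, by rw [smul_zero, TensorProduct.zero_tmul]⟩
    | tmul b a' =>
      obtain ⟨a₀, ha₀⟩ := hgr a'
      refine ⟨a₀ • b, ?_⟩
      rw [TensorProduct.smul_tmul', TensorProduct.smul_tmul, ha₀,
        Algebra.algebraMap_eq_smul_one, ← TensorProduct.smul_tmul]
    | add x y hx hy =>
      obtain ⟨β₁, h₁⟩ := hx
      obtain ⟨β₂, h₂⟩ := hy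
      exact ⟨β₁ + β₂, by rw [smul_add, h₁, h₂, TensorProduct.add_tmul]⟩
  obtain ⟨β, hβ⟩ := h1 c
  have h2 : Phi0 A B ε (g • c) = 0 := by
    rw [← algebraMap_smul B g c, map_smul, hc, smul_zero]
  rw [hβ, Phi0_tmul_one] at h2
  have h3 : β = 0 := IsFractionRing.injective B (FractionRing B) (by rw [h2, map_zero])
  rw [h3, TensorProduct.zero_tmul] at hβ
  have hginj : Function.Injective (g • (LinearMap.id : A' →ₗ[A] A')) := by
    intro x y hxy
    have h4 : g • x = g • y := hxy
    apply hε
    have h5 : algebraMap A (FractionRing A) g * ε x = algebraMap A (FractionRing A) g * ε y := by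
      rw [← Algebra.smul_def, ← Algebra.smul_def, ← map_smul, ← map_smul, h4]
    exact (IsLocalization.map_units (FractionRing A)
      (⟨g, hg⟩ : nonZeroDivisors A)).mul_right_injective h5
  have hinj2 := Module.Flat.lTensor_preserves_injective_linearMap (M := B) _ hginj
  rw [LinearMap.lTensor_smul, LinearMap.lTensor_id] at hinj2
  apply hinj2
  show g • c = g • (0 : B ⊗[A] A')
  rw [hβ, smul_zero]

end Main

section Ram

/-- Ascent of normality at a prime along a flat map which is unramified at that prime, from a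
DVR. -/
theorem normal_loc_of_ram {A' C : Type u} [CommRing A'] [CommRing C] [Algebra A' C]
    [Module.Flat A' C] [IsNoetherianRing A'] [IsNoetherianRing C]
    (n : Ideal C) [hn : n.IsPrime] (m' : Ideal A') [hm'p : m'.IsPrime]
    (hm' : m' = n.comap (algebraMap A' C))
    (hdvr : ∃ _ : IsDomain (Localization.AtPrime m'),
      IsDiscreteValuationRing (Localization.AtPrime m'))
    (hram : m'.map (algebraMap A' (Localization.AtPrime n)) =
      maximalIdeal (Localization.AtPrime n)) :
    IsDomain (Localization.AtPrime n) ∧ IsIntegrallyClosed (Localization.AtPrime n) := by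
  obtain ⟨hd, hdvr⟩ := hdvr
  letI : Algebra (Localization.AtPrime m') (Localization.AtPrime n) :=
    (Localization.localRingHom m' n (algebraMap A' C) hm').toAlgebra
  haveI : IsLocalHom (algebraMap (Localization.AtPrime m') (Localization.AtPrime n)) :=
    Localization.isLocalHom_localRingHom m' n _ hm'
  haveI : Module.Flat (Localization.AtPrime m') (Localization.AtPrime n) :=
    RingHom.Flat.localRingHom (f := algebraMap A' C)
      (RingHom.flat_algebraMap_iff.mpr inferInstance) n m' hm'
  haveI : IsNoetherianRing (Localization.AtPrime m') :=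
    IsLocalization.isNoetherianRing m'.primeCompl _ inferInstance
  haveI : IsNoetherianRing (Localization.AtPrime n) :=
    IsLocalization.isNoetherianRing n.primeCompl _ inferInstance
  have hmap : (maximalIdeal (Localization.AtPrime m')).map
      (algebraMap (Localization.AtPrime m') (Localization.AtPrime n)) =
      maximalIdeal (Localization.AtPrime n) := by
    rw [← IsLocalization.AtPrime.map_eq_maximalIdeal m' (Localization.AtPrime m'), Ideal.map_map]
    have hcompeq : (algebraMap (Localization.AtPrime m') (Localization.AtPrime n)).comp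
        (algebraMap A' (Localization.AtPrime m')) =
        algebraMap A' (Localization.AtPrime n) := by
      ext r
      rw [RingHom.comp_apply]
      show Localization.localRingHom m' n _ hm' (algebraMap _ _ r) = _
      rw [Localization.localRingHom_to_map, ← IsScalarTower.algebraMap_apply]
    rw [hcompeq]
    exact hram
  obtain ⟨hd2, hdvr2⟩ := (Groth.Agent.S9262.dvr_iff_of_flat hmap).mp ⟨hd, hdvr⟩
  exact ⟨hd2, inferInstance⟩

end Ram

section Tensor

variable (A : Type u) [CommRing A] [IsLocalRing A]
  (B : Type u) [CommRing B] [IsLocalRing B] [Algebra A B] [IsLocalHom (algebraMap A B)]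
  (A' : Type u) [CommRing A'] [Algebra A A']

/-- The ring map `B → A' ⊗ B`. -/
noncomputable def theta : B →+* A' ⊗[A] B :=
  (Algebra.TensorProduct.includeRight : B →ₐ[A] A' ⊗[A] B).toRingHom

theorem theta_apply (b : B) : theta A B A' b = (1 : A') ⊗ₜ[A] b := rfl

/-- `B → A' ⊗ B` is integral. -/
theorem theta_isIntegral [Algebra.IsIntegral A A'] : (theta A B A').IsIntegral := by
  intro c₂
  induction c₂ using TensorProduct.induction_on with
  | zero => exact RingHom.isIntegralElem_zero _
  | tmul a' b =>
    have h1 : a' ⊗ₜ[A] b = (a' ⊗ₜ[A] (1 : B)) * theta A B A' b := by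
      rw [theta_apply, Algebra.TensorProduct.tmul_mul_tmul, mul_one, one_mul]
    rw [h1]
    refine RingHom.IsIntegralElem.mul _ ?_ (RingHom.isIntegralElem_map _)
    obtain ⟨p, hpm, hp⟩ := Algebra.IsIntegral.isIntegral (R := A) a'
    refine ⟨p.map (algebraMap A B), hpm.map _, ?_⟩
    rw [Polynomial.eval₂_map]
    have h2 : (theta A B A').comp (algebraMap A B) =
        ((Algebra.TensorProduct.includeLeft : A' →ₐ[A] A' ⊗[A] B).toRingHom).comp
          (algebraMap A A') := by
      ext a
      show (1 : A') ⊗ₜ[A] (algebraMap A B a) = (algebraMap A A' a) ⊗ₜ[A] (1 : B)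
      rw [Algebra.algebraMap_eq_smul_one, Algebra.algebraMap_eq_smul_one,
        TensorProduct.smul_tmul]
    rw [h2]
    have h3 : (a' ⊗ₜ[A] (1 : B)) =
        (Algebra.TensorProduct.includeLeft : A' →ₐ[A] A' ⊗[A] B).toRingHom a' := rfl
    rw [h3, ← Polynomial.hom_eval₂, hp, map_zero]
  | add x y hx hy => exact RingHom.IsIntegralElem.add _ hx hy

theorem comap_comap_eq_maximalIdeal [Algebra.IsIntegral A A']
    (n : Ideal (A' ⊗[A] B)) [hn : n.IsMaximal] :
    (n.comap (algebraMap A' (A' ⊗[A] B))).comap (algebraMap A A') = maximalIdeal A := by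
  have h1 : (n.comap (theta A B A')).IsMaximal :=
    Ideal.isMaximal_comap_of_isIntegral_of_isMaximal' _ (theta_isIntegral A B A') n
  have h2 := IsLocalRing.eq_maximalIdeal h1
  rw [Ideal.comap_comap, ← IsScalarTower.algebraMap_eq A A' (A' ⊗[A] B)]
  have h4 : algebraMap A (A' ⊗[A] B) = (theta A B A').comp (algebraMap A B) := by
    ext a
    exact ((Algebra.TensorProduct.includeRight : B →ₐ[A] A' ⊗[A] B).commutes a).symm
  rw [h4, ← Ideal.comap_comap, h2]
  exact ((IsLocalRing.local_hom_TFAE (algebraMap A B)).out 0 4).mp ‹IsLocalHom (algebraMap A B)›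

theorem isMaximal_comap [Algebra.IsIntegral A A']
    (n : Ideal (A' ⊗[A] B)) [hn : n.IsMaximal] :
    (n.comap (algebraMap A' (A' ⊗[A] B))).IsMaximal := by
  have h3 := comap_comap_eq_maximalIdeal A B A' n
  have h5 : ((n.comap (algebraMap A' (A' ⊗[A] B))).comap (algebraMap A A')).IsMaximal :=
    h3 ▸ maximalIdeal.isMaximal A
  exact Ideal.isMaximal_of_isIntegral_of_isMaximal_comap _ h5

end Tensor

section Final

variable (A : Type u) [CommRing A] [IsLocalRing A] [IsNoetherianRing A]
  (B : Type u) [CommRing B] [IsLocalRing B] [Algebra A B] [IsLocalHom (algebraMap A B)]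
  [Module.Flat A B] [IsNoetherianRing B]
  (A' : Type u) [CommRing A'] [Algebra A A'] [Module.Finite A A']
  (ε : A' →ₐ[A] FractionRing A)

theorem surj_aux (hε : Function.Injective ε)
    (hdvr : ∀ (m' : Ideal A') [m'.IsMaximal], ∃ _ : IsDomain (Localization.AtPrime m'),
      IsDiscreteValuationRing (Localization.AtPrime m'))
    (hram : ∀ (n : Ideal (A' ⊗[A] B)) [n.IsMaximal],
      (n.comap (algebraMap A' (A' ⊗[A] B))).map (algebraMap A' (Localization.AtPrime n)) =
        maximalIdeal (Localization.AtPrime n))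
    (x : FractionRing B) (hx : IsIntegral B x) : ∃ c : B ⊗[A] A', Phi0 A B ε c = x := by
  haveI : IsNoetherianRing A' := Algebra.FiniteType.isNoetherianRing A _
  haveI : IsNoetherianRing (B ⊗[A] A') := Algebra.FiniteType.isNoetherianRing B _
  haveI : IsNoetherianRing (A' ⊗[A] B) :=
    isNoetherianRing_of_ringEquiv _ (Algebra.TensorProduct.comm A B A').toRingEquiv
  let ι₂ : A' ⊗[A] B →+* FractionRing B :=
    (Algebra.TensorProduct.productMap (jalg A B ε)
      (IsScalarTower.toAlgHom A B (FractionRing B))).toRingHom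
  have hι₂ : ∀ c₂, ι₂ c₂ = Phi0 A B ε (TensorProduct.comm A A' B c₂) := by
    intro c₂
    induction c₂ using TensorProduct.induction_on with
    | zero => rw [map_zero, map_zero, map_zero]
    | tmul a' b =>
      show Algebra.TensorProduct.productMap (jalg A B ε)
        (IsScalarTower.toAlgHom A B (FractionRing B)) (a' ⊗ₜ[A] b) = _
      rw [Algebra.TensorProduct.productMap_apply_tmul, TensorProduct.comm_tmul, Phi0_tmul,
        Algebra.smul_def, mul_comm]
      rfl
    | add x y hx hy => rw [map_add, map_add, map_add, hx, hy]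
  have hι₂inj : Function.Injective ι₂ := by
    intro c d hcd
    rw [hι₂, hι₂] at hcd
    exact (TensorProduct.comm A A' B).injective (Phi0_injective A B ε hε hcd)
  have hιθ : ∀ b, ι₂ (theta A B A' b) = algebraMap B (FractionRing B) b := by
    intro b
    show Algebra.TensorProduct.productMap (jalg A B ε)
      (IsScalarTower.toAlgHom A B (FractionRing B)) ((1 : A') ⊗ₜ[A] b) = _
    rw [Algebra.TensorProduct.productMap_apply_tmul, map_one, one_mul]
    rfl
  obtain ⟨c₂, hc₂⟩ := mem_range_of_isIntegral (theta A B A') ι₂ hι₂inj hιθ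
    (fun n hn => by
      haveI := isMaximal_comap A B A' n
      exact normal_loc_of_ram n (n.comap (algebraMap A' (A' ⊗[A] B))) rfl
        (hdvr _) (hram n)) x hx
  exact ⟨TensorProduct.comm A A' B c₂, by rw [← hι₂]; exact hc₂⟩

/-- **Main theorem**: the length of `B'/B` equals the length of `A'/A`. -/
theorem length_eq (hε : Function.Injective ε) (hεint : ∀ a', IsIntegral A (ε a'))
    (hdvr : ∀ (m' : Ideal A') [m'.IsMaximal], ∃ _ : IsDomain (Localization.AtPrime m'),
      IsDiscreteValuationRing (Localization.AtPrime m'))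
    (hm : (maximalIdeal A).map (algebraMap A B) = maximalIdeal B)
    (hram : ∀ (n : Ideal (A' ⊗[A] B)) [n.IsMaximal],
      (n.comap (algebraMap A' (A' ⊗[A] B))).map (algebraMap A' (Localization.AtPrime n)) =
        maximalIdeal (Localization.AtPrime n)) :
    Module.length B (↥(integralClosure B (FractionRing B)) ⧸
      LinearMap.range (Algebra.linearMap B ↥(integralClosure B (FractionRing B)))) =
    Module.length A (A' ⧸ LinearMap.range (Algebra.linearMap A A')) := by
  classical
  let Φ' : B ⊗[A] A' →ₗ[B] ↥(integralClosure B (FractionRing B)) :=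
    { toFun := fun c => ⟨Phi0 A B ε c, isIntegral_Phi0 A B ε hεint c⟩
      map_add' := fun x y => Subtype.ext (map_add _ x y)
      map_smul' := fun b x => Subtype.ext (map_smul _ b x) }
  have hΦ'val : ∀ c, ((Φ' c : ↥(integralClosure B (FractionRing B))) : FractionRing B) =
      Phi0 A B ε c := fun c => rfl
  have hΦ'surj : Function.Surjective Φ' := by
    intro y
    obtain ⟨c, hc⟩ := surj_aux A B A' ε hε hdvr hram y.1 y.2
    exact ⟨c, Subtype.ext hc⟩
  have hΦ'inj : Function.Injective Φ' :=
    fun x y h => Phi0_injective A B ε hε (congrArg Subtype.val h)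
  have hΦ'one : ∀ β : B, Φ' (β ⊗ₜ[A] (1 : A')) =
      algebraMap B ↥(integralClosure B (FractionRing B)) β := by
    intro β
    apply Subtype.ext
    rw [hΦ'val, Phi0_tmul_one]
    rfl
  let Ψ : B ⊗[A] A' →ₗ[B] (↥(integralClosure B (FractionRing B)) ⧸
      LinearMap.range (Algebra.linearMap B ↥(integralClosure B (FractionRing B)))) :=
    (LinearMap.range (Algebra.linearMap B ↥(integralClosure B (FractionRing B)))).mkQ ∘ₗ Φ'
  have hΨsurj : Function.Surjective Ψ := (Submodule.mkQ_surjective _).comp hΦ'surj
  let Pi : B ⊗[A] A' →ₗ[B] B ⊗[A] (A' ⧸ LinearMap.range (Algebra.linearMap A A')) :=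
    LinearMap.baseChange B (LinearMap.range (Algebra.linearMap A A')).mkQ
  have hPisurj : Function.Surjective Pi := by
    have h1 := LinearMap.lTensor_surjective B
      (Submodule.mkQ_surjective (LinearMap.range (Algebra.linearMap A A')))
    intro y
    obtain ⟨c, hc⟩ := h1 y
    exact ⟨c, hc⟩
  have hA : ∀ c, Ψ c = 0 ↔ ∃ β : B, c = β ⊗ₜ[A] (1 : A') := by
    intro c
    show (LinearMap.range (Algebra.linearMap B
      ↥(integralClosure B (FractionRing B)))).mkQ (Φ' c) = 0 ↔ _
    rw [Submodule.mkQ_apply, Submodule.Quotient.mk_eq_zero]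
    constructor
    · rintro ⟨β, hβ⟩
      refine ⟨β, hΦ'inj ?_⟩
      rw [hΦ'one]
      exact hβ.symm
    · rintro ⟨β, rfl⟩
      exact ⟨β, (hΦ'one β).symm⟩
  have hB : ∀ c, Pi c = 0 ↔ ∃ β : B, c = β ⊗ₜ[A] (1 : A') := by
    intro c
    constructor
    · intro hc
      have hex := lTensor_exact B (LinearMap.exact_map_mkQ_range (Algebra.linearMap A A'))
        (Submodule.mkQ_surjective _)
      have hc' : LinearMap.lTensor B (LinearMap.range (Algebra.linearMap A A')).mkQ c = 0 := hc
      obtain ⟨z, hz⟩ := (hex c).mp hc'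
      refine ⟨TensorProduct.rid A B z, ?_⟩
      have hz2 : z = (TensorProduct.rid A B z) ⊗ₜ[A] (1 : A) := by
        rw [← TensorProduct.rid_symm_apply, LinearEquiv.symm_apply_apply]
      rw [← hz, hz2, LinearMap.lTensor_tmul, Algebra.linearMap_apply, map_one,
        TensorProduct.rid_tmul, one_smul]
    · rintro ⟨β, rfl⟩
      show LinearMap.baseChange B (LinearMap.range (Algebra.linearMap A A')).mkQ
        (β ⊗ₜ[A] (1 : A')) = 0
      rw [LinearMap.baseChange_tmul]
      have h1 : (LinearMap.range (Algebra.linearMap A A')).mkQ (1 : A') = 0 := by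
        rw [Submodule.mkQ_apply, Submodule.Quotient.mk_eq_zero]
        exact ⟨1, by rw [Algebra.linearMap_apply, map_one]⟩
      rw [h1, TensorProduct.tmul_zero]
  have hker : LinearMap.ker Ψ = LinearMap.ker Pi := by
    ext c
    rw [LinearMap.mem_ker, LinearMap.mem_ker, hA, hB]
  have e₁ := Ψ.quotKerEquivOfSurjective hΨsurj
  have e₂ := Pi.quotKerEquivOfSurjective hPisurj
  have e₃ : ((B ⊗[A] A') ⧸ LinearMap.ker Ψ) ≃ₗ[B] ((B ⊗[A] A') ⧸ LinearMap.ker Pi) :=
    Submodule.quotEquivOfEq _ _ hker
  have hsimple : IsSimpleModule B (B ⧸ maximalIdeal B) :=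
    isSimpleModule_iff_quot_maximal.mpr ⟨maximalIdeal B, inferInstance, ⟨LinearEquiv.refl B _⟩⟩
  rw [← e₁.length_eq, e₃.length_eq, e₂.length_eq,
    IsLocalRing.length_baseChange A B (A' ⧸ LinearMap.range (Algebra.linearMap A A')), hm,
    Module.length_eq_one B (B ⧸ maximalIdeal B), mul_one]

end Final

section Residue

variable (A : Type u) [CommRing A] [IsLocalRing A]
  (B : Type u) [CommRing B] [IsLocalRing B] [Algebra A B] [IsLocalHom (algebraMap A B)]
  (A' : Type u) [CommRing A'] [Algebra A A'] [Algebra.IsIntegral A A']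

/-- The ramification hypothesis holds when `A → B/m_A B` is surjective. -/
theorem hram_of_residue_surjective
    (hres : ∀ b : B, ∃ a : A, b - algebraMap A B a ∈ (maximalIdeal A).map (algebraMap A B))
    (n : Ideal (A' ⊗[A] B)) [hn : n.IsMaximal] :
    (n.comap (algebraMap A' (A' ⊗[A] B))).map (algebraMap A' (Localization.AtPrime n)) =
      maximalIdeal (Localization.AtPrime n) := by
  obtain ⟨m', hm'⟩ : ∃ m' : Ideal A', m' = n.comap (algebraMap A' (A' ⊗[A] B)) := ⟨_, rfl⟩
  rw [← hm']
  have hmA : ∀ m ∈ maximalIdeal A, algebraMap A A' m ∈ m' := by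
    intro m hmm
    have h3 := comap_comap_eq_maximalIdeal A B A' n
    rw [← hm'] at h3
    rw [← h3] at hmm
    exact hmm
  set J : Ideal (A' ⊗[A] B) := m'.map (algebraMap A' (A' ⊗[A] B)) with hJ
  have hJn : J ≤ n := by
    rw [hJ, hm']
    exact Ideal.map_comap_le
  have hmu : ∀ μ ∈ (maximalIdeal A).map (algebraMap A B), ∀ a' : A', a' ⊗ₜ[A] μ ∈ J := by
    intro μ hμ
    refine Submodule.span_induction (p := fun μ _ => ∀ a' : A', a' ⊗ₜ[A] μ ∈ J) ?_ ?_ ?_ ?_ hμ
    · rintro _ ⟨m, hmm, rfl⟩ a'
      have h1 : a' ⊗ₜ[A] (algebraMap A B m) =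
          algebraMap A' (A' ⊗[A] B) (algebraMap A A' m * a') := by
        rw [Algebra.algebraMap_eq_smul_one (A := B), ← TensorProduct.smul_tmul,
          Algebra.smul_def]
        rfl
      rw [h1]
      exact Ideal.mem_map_of_mem _ (m'.mul_mem_right _ (hmA m hmm))
    · intro a'
      rw [TensorProduct.tmul_zero]; exact J.zero_mem
    · intro x y _ _ hx hy a'
      rw [TensorProduct.tmul_add]; exact J.add_mem (hx a') (hy a')
    · intro b x _ hx a'
      have h1 : a' ⊗ₜ[A] (b • x) = ((1 : A') ⊗ₜ[A] b) * (a' ⊗ₜ[A] x) := by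
        rw [Algebra.TensorProduct.tmul_mul_tmul, one_mul, smul_eq_mul]
      rw [h1]
      exact J.mul_mem_left _ (hx a')
  have hclaim : ∀ c₂ : A' ⊗[A] B, ∃ a' : A', c₂ - algebraMap A' (A' ⊗[A] B) a' ∈ J := by
    intro c₂
    induction c₂ using TensorProduct.induction_on with
    | zero => exact ⟨0, by rw [map_zero, sub_zero]; exact J.zero_mem⟩
    | tmul a' b =>
      obtain ⟨a, ha⟩ := hres b
      refine ⟨a • a', ?_⟩
      have h1 : a' ⊗ₜ[A] b - algebraMap A' (A' ⊗[A] B) (a • a') =
          a' ⊗ₜ[A] (b - algebraMap A B a) := by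
        rw [TensorProduct.tmul_sub, Algebra.algebraMap_eq_smul_one (A := B),
          ← TensorProduct.smul_tmul]
        rfl
      rw [h1]
      exact hmu _ ha a'
    | add x y hx hy =>
      obtain ⟨a₁, h₁⟩ := hx
      obtain ⟨a₂, h₂⟩ := hy
      refine ⟨a₁ + a₂, ?_⟩
      have h3 : x + y - algebraMap A' (A' ⊗[A] B) (a₁ + a₂) =
          (x - algebraMap A' (A' ⊗[A] B) a₁) + (y - algebraMap A' (A' ⊗[A] B) a₂) := by
        rw [map_add]; ring
      rw [h3]
      exact J.add_mem h₁ h₂
  have hnJ : n ≤ J := by
    intro c hc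
    obtain ⟨a', ha'⟩ := hclaim c
    have h1 : algebraMap A' (A' ⊗[A] B) a' ∈ n := by
      have h2 := n.sub_mem hc (hJn ha')
      rwa [sub_sub_cancel] at h2
    have h2 : a' ∈ m' := by rw [hm']; exact h1
    have h3 : algebraMap A' (A' ⊗[A] B) a' ∈ J := Ideal.mem_map_of_mem _ h2
    have h4 := J.add_mem ha' h3
    rwa [sub_add_cancel] at h4
  have hJeq : J = n := le_antisymm hJn hnJ
  rw [← IsLocalization.AtPrime.map_eq_maximalIdeal n (Localization.AtPrime n)]
  have h5 : m'.map (algebraMap A' (Localization.AtPrime n)) =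
      J.map (algebraMap (A' ⊗[A] B) (Localization.AtPrime n)) := by
    rw [hJ, Ideal.map_map, ← IsScalarTower.algebraMap_eq]
  rw [h5, hJeq]

end Residue

end Groth.Agent.Lib.DeltaBC98
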