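import Groth.Prelude.Def_DeltaF

/-!
# Universal delta-functors are linear over the centres (helper10)

If `T` is a universal cohomological delta-functor `A ⥤ B`, `α : 𝟭 A ⟶ 𝟭 A` and `β : 𝟭 B ⟶ 𝟭 B` are
endomorphisms of the identity functors (elements of the centres) with
`(T.F 0).map (α.app M) = β.app ((T.F 0).obj M)` for all `M`, then the same holds in all degrees.
-/

set_option autoImplicit false

open CategoryTheory CategoryTheory.Limits DeltaF

universe v u v' u'

namespace Groth.Agent.Lib.DeltaCenter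

variable {A : Type u} [Category.{v} A] [Abelian A] {B : Type u'} [Category.{v'} B] [Abelian B]
  (T : CohDeltaFunctor A B ℕ) (α : 𝟭 A ⟶ 𝟭 A) (β : 𝟭 B ⟶ 𝟭 B)

/-- the endomorphism of a short complex given by a central element -/
def scEnd (S : ShortComplex A) : S ⟶ S where
  τ₁ := α.app S.X₁
  τ₂ := α.app S.X₂
  τ₃ := α.app S.X₃
  comm₁₂ := (α.naturality S.f).symm
  comm₂₃ := (α.naturality S.g).symm

/-- the endomorphism `M ↦ Tⁿ(α_M)` of `T` -/
def mapEnd : T ⟶ T where
  app n :=
    { app := fun M => (T.F n).map (α.app M)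
      naturality := fun M N φ => by
        rw [← Functor.map_comp, ← Functor.map_comp]
        exact congrArg _ (α.naturality φ) }
  comm S hS n₀ n₁ h := (T.δ_natural hS hS (scEnd α S) n₀ n₁ h).symm

/-- the endomorphism `M ↦ β_{Tⁿ M}` of `T` -/
def centEnd : T ⟶ T where
  app n :=
    { app := fun M => β.app ((T.F n).obj M)
      naturality := fun _ _ φ => β.naturality ((T.F n).map φ) }
  comm S hS n₀ n₁ h := β.naturality (T.δ S hS n₀ n₁ h)

theorem map_eq_of_isUniversal (hT : T.IsUniversal)
    (h0 : ∀ M : A, (T.F 0).map (α.app M) = β.app ((T.F 0).obj M)) (n : ℕ) (M : A) :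
    (T.F n).map (α.app M) = β.app ((T.F n).obj M) := by
  obtain ⟨τ, -, hτ⟩ := hT T ((mapEnd T α).app 0)
  have h1 : mapEnd T α = τ := hτ _ rfl
  have h2 : centEnd T β = τ := hτ _ (by
    ext M
    exact (h0 M).symm)
  have h3 : mapEnd T α = centEnd T β := h1.trans h2.symm
  have h4 := congrArg (fun σ : T ⟶ T => (σ.app n).app M) h3
  exact h4

end Groth.Agent.Lib.DeltaCenter
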