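import Groth.Prelude.Def_DeltaF
import Mathlib.Algebra.Category.Grp.Abelian
import Mathlib.Algebra.Homology.ShortComplex.Ab
import Mathlib.CategoryTheory.ObjectProperty.Basic
import Mathlib.CategoryTheory.ConcreteCategory.EpiMono
import Mathlib.Algebra.Category.Grp.EpiMono
import Mathlib.CategoryTheory.Abelian.Exact
set_option autoImplicit false
universe w v u
open CategoryTheory CategoryTheory.Limits

namespace Groth.Agent.Lib.DeltaFAb

variable {C : Type u} [Category.{v} C] [Abelian C]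

/-- the short exact sequence of a monomorphism -/
noncomputable abbrev sesOfMono {A M : C} (u : A ⟶ M) : ShortComplex C :=
  ShortComplex.mk u (cokernel.π u) (cokernel.condition u)

lemma sesOfMono_shortExact {A M : C} (u : A ⟶ M) [Mono u] : (sesOfMono u).ShortExact where
  exact := ShortComplex.exact_cokernel u
  mono_f := by dsimp [sesOfMono]; infer_instance
  epi_g := by dsimp [sesOfMono]; infer_instance

variable (T T' : DeltaF.CohDeltaFunctor C AddCommGrpCat.{w} ℕ)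

lemma ex2 (S : ShortComplex C) (hS : S.ShortExact) (n : ℕ) (y : (T.F n).obj S.X₂)
    (hy : (T.F n).map S.g y = 0) : ∃ x : (T.F n).obj S.X₁, (T.F n).map S.f x = y :=
  (ShortComplex.ab_exact_iff _).1 (T.exact₂ S hS n) y hy

lemma ex3 (S : ShortComplex C) (hS : S.ShortExact) (n : ℕ) (z : (T.F n).obj S.X₃)
    (hz : T.δ S hS n (n + 1) rfl z = 0) : ∃ y : (T.F n).obj S.X₂, (T.F n).map S.g y = z :=
  (ShortComplex.ab_exact_iff _).1 (T.exact₃ S hS n (n + 1) rfl) z hz

lemma ex1 (S : ShortComplex C) (hS : S.ShortExact) (n : ℕ) (a : (T.F (n + 1)).obj S.X₁)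
    (ha : (T.F (n + 1)).map S.f a = 0) : ∃ z : (T.F n).obj S.X₃, T.δ S hS n (n + 1) rfl z = a :=
  (ShortComplex.ab_exact_iff _).1 (T.exact₁ S hS n (n + 1) rfl) a ha

lemma map_g_map_f (S : ShortComplex C) (n : ℕ) (x : (T.F n).obj S.X₁) :
    (T.F n).map S.g ((T.F n).map S.f x) = 0 := by
  rw [← ConcreteCategory.comp_apply, ← Functor.map_comp, S.zero, Functor.map_zero]
  rfl

lemma δ_map_g (S : ShortComplex C) (hS : S.ShortExact) (n : ℕ) (y : (T.F n).obj S.X₂) :
    T.δ S hS n (n + 1) rfl ((T.F n).map S.g y) = 0 := by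
  rw [← ConcreteCategory.comp_apply, T.comp_δ]
  rfl

lemma map_f_δ (S : ShortComplex C) (hS : S.ShortExact) (n : ℕ) (z : (T.F n).obj S.X₃) :
    (T.F (n + 1)).map S.f (T.δ S hS n (n + 1) rfl z) = 0 := by
  rw [← ConcreteCategory.comp_apply, T.δ_comp]
  rfl

variable {T T'} (φ : T ⟶ T')

lemma φ_nat (n : ℕ) {X Y : C} (f : X ⟶ Y) (x : (T.F n).obj X) :
    (φ.app n).app Y ((T.F n).map f x) = (T'.F n).map f ((φ.app n).app X x) := by
  rw [← ConcreteCategory.comp_apply, ← ConcreteCategory.comp_apply, (φ.app n).naturality]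

lemma φ_δ (S : ShortComplex C) (hS : S.ShortExact) (n : ℕ) (z : (T.F n).obj S.X₃) :
    (φ.app (n + 1)).app S.X₁ (T.δ S hS n (n + 1) rfl z) =
      T'.δ S hS n (n + 1) rfl ((φ.app n).app S.X₃ z) := by
  rw [← ConcreteCategory.comp_apply, ← ConcreteCategory.comp_apply, φ.comm]

lemma zeroMono_inj (hT0 : T.ZeroMono) {A M : C} (u : A ⟶ M) [Mono u] :
    Function.Injective ((T.F 0).map u) := by
  have := hT0 (sesOfMono u) (sesOfMono_shortExact u)
  exact (AddCommGrpCat.mono_iff_injective _).1 this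


lemma inj_step (q : ℕ)
    (hT : ∀ (A : C) (α : (T.F (q + 1)).obj A),
      ∃ (M : C) (u : A ⟶ M), Mono u ∧ (T.F (q + 1)).map u α = 0)
    (hq : ∀ A, Function.Bijective ((φ.app q).app A)) (A : C) :
    Function.Injective ((φ.app (q + 1)).app A) := by
  rw [injective_iff_map_eq_zero]
  intro α hα
  obtain ⟨M, u, hu, hα0⟩ := hT A α
  have hS := sesOfMono_shortExact u
  obtain ⟨β, hβ⟩ := ex1 T (sesOfMono u) hS q α hα0
  have h1 : T'.δ (sesOfMono u) hS q (q + 1) rfl ((φ.app q).app _ β) = 0 := by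
    rw [← φ_δ, hβ]
    exact hα
  obtain ⟨γ', hγ'⟩ := ex3 T' (sesOfMono u) hS q _ h1
  obtain ⟨γ, hγ⟩ := (hq (sesOfMono u).X₂).2 γ'
  have h2 : (T.F q).map (sesOfMono u).g γ = β := by
    apply (hq _).1
    rw [φ_nat, hγ, hγ']
  rw [← hβ, ← h2, δ_map_g]

lemma surj_step_eff (q : ℕ)
    (hT' : ∀ (A : C) (α : (T'.F (q + 1)).obj A),
      ∃ (M : C) (u : A ⟶ M), Mono u ∧ (T'.F (q + 1)).map u α = 0)
    (hq : ∀ A, Function.Surjective ((φ.app q).app A)) (A : C) :
    Function.Surjective ((φ.app (q + 1)).app A) := by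
  intro α'
  obtain ⟨M, u, hu, h0⟩ := hT' A α'
  have hS := sesOfMono_shortExact u
  obtain ⟨β', hβ'⟩ := ex1 T' (sesOfMono u) hS q α' h0
  obtain ⟨β, hβ⟩ := hq (sesOfMono u).X₃ β'
  refine ⟨T.δ (sesOfMono u) hS q (q + 1) rfl β, ?_⟩
  rw [φ_δ φ (sesOfMono u) hS q β, hβ, hβ']

lemma surj_step_four (q : ℕ) {A M : C} (u : A ⟶ M) [Mono u]
    (h1 : Function.Surjective ((φ.app q).app (cokernel u)))
    (h2 : Function.Surjective ((φ.app (q + 1)).app M))
    (h3 : Function.Injective ((φ.app (q + 1)).app (cokernel u))) :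
    Function.Surjective ((φ.app (q + 1)).app A) := by
  intro α'
  have hS := sesOfMono_shortExact u
  obtain ⟨μ, hμ⟩ := h2 ((T'.F (q + 1)).map u α')
  have h4 : (T.F (q + 1)).map (sesOfMono u).g μ = 0 := by
    apply h3
    rw [map_zero]
    have := φ_nat φ (q + 1) (sesOfMono u).g μ
    rw [hμ] at this
    rw [this]
    exact map_g_map_f T' (sesOfMono u) (q + 1) α'
  obtain ⟨α₁, hα₁⟩ := ex2 T (sesOfMono u) hS (q + 1) μ h4
  have h5 : (T'.F (q + 1)).map (sesOfMono u).f (α' - (φ.app (q + 1)).app A α₁) = 0 := by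
    rw [map_sub, sub_eq_zero]
    have := φ_nat φ (q + 1) (sesOfMono u).f α₁
    rw [hα₁, hμ] at this
    exact this
  obtain ⟨β', hβ'⟩ := ex1 T' (sesOfMono u) hS q _ h5
  obtain ⟨β, hβ⟩ := h1 β'
  refine ⟨α₁ + T.δ (sesOfMono u) hS q (q + 1) rfl β, ?_⟩
  rw [map_add, φ_δ φ (sesOfMono u) hS q β, hβ, hβ']
  abel

lemma zero_inj (hT0 : T.ZeroMono) {A M : C} (u : A ⟶ M) [Mono u]
    (hM : Function.Injective ((φ.app 0).app M)) : Function.Injective ((φ.app 0).app A) := by
  intro x y hxy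
  apply zeroMono_inj hT0 u
  apply hM
  rw [φ_nat, φ_nat, hxy]

lemma zero_surj (hT'0 : T'.ZeroMono) {A M : C} (u : A ⟶ M) [Mono u]
    (hM : Function.Surjective ((φ.app 0).app M))
    (hQ : Function.Injective ((φ.app 0).app (cokernel u))) :
    Function.Surjective ((φ.app 0).app A) := by
  intro y
  have hS := sesOfMono_shortExact u
  obtain ⟨m, hm⟩ := hM ((T'.F 0).map u y)
  have h1 : (T.F 0).map (sesOfMono u).g m = 0 := by
    apply hQ
    rw [map_zero]
    have := φ_nat φ 0 (sesOfMono u).g m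
    rw [hm] at this
    rw [this]
    exact map_g_map_f T' (sesOfMono u) 0 y
  obtain ⟨a, ha⟩ := ex2 T (sesOfMono u) hS 0 m h1
  refine ⟨a, zeroMono_inj hT'0 u ?_⟩
  have := φ_nat φ 0 (sesOfMono u).f a
  rw [ha, hm] at this
  exact this.symm


lemma inj_step_four (q : ℕ) {A M : C} (u : A ⟶ M) [Mono u]
    (h1 : Function.Surjective ((φ.app q).app M))
    (h2 : Function.Injective ((φ.app q).app (cokernel u)))
    (h3 : Function.Injective ((φ.app (q + 1)).app M)) :
    Function.Injective ((φ.app (q + 1)).app A) := by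
  rw [injective_iff_map_eq_zero]
  intro α hα
  have hS := sesOfMono_shortExact u
  have h4 : (T.F (q + 1)).map (sesOfMono u).f α = 0 := by
    apply h3
    rw [map_zero]
    have := φ_nat φ (q + 1) (sesOfMono u).f α
    rw [hα, map_zero] at this
    exact this
  obtain ⟨β, hβ⟩ := ex1 T (sesOfMono u) hS q α h4
  have h5 : T'.δ (sesOfMono u) hS q (q + 1) rfl ((φ.app q).app _ β) = 0 := by
    rw [← φ_δ φ (sesOfMono u) hS q β, hβ]
    exact hα
  obtain ⟨γ', hγ'⟩ := ex3 T' (sesOfMono u) hS q _ h5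
  obtain ⟨γ, hγ⟩ := h1 γ'
  have h6 : (T.F q).map (sesOfMono u).g γ = β := by
    apply h2
    have := φ_nat φ q (sesOfMono u).g γ
    rw [hγ, hγ'] at this
    exact this
  rw [← hβ, ← h6, δ_map_g]

end Groth.Agent.Lib.DeltaFAb
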