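import Mathlib.RingTheory.Kaehler.JacobiZariski

/-!
# helper44: naturality of the Jacobi–Zariski connecting homomorphism in the top ring

For `R → S → T → T'` the connecting map `δ : H¹(L_{T/S}) → T ⊗[S] Ω[S⁄R]` is compatible with
`H¹(L_{T/S}) → H¹(L_{T'/S})` and `T ⊗[S] Ω[S⁄R] → T' ⊗[S] Ω[S⁄R]`.
-/

set_option autoImplicit false

open Algebra KaehlerDifferential TensorProduct MvPolynomial

universe u₁ u₂ u₃ u₄

namespace Groth.Agent.Lib.DeltaNatH44

variable (R : Type u₁) (S : Type u₂) (T : Type u₃) (T' : Type u₄) [CommRing R] [CommRing S]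
  [CommRing T] [CommRing T'] [Algebra R S] [Algebra S T] [Algebra S T'] [Algebra T T']
  [IsScalarTower S T T'] [Algebra R T] [Algebra R T'] [IsScalarTower R S T] [IsScalarTower R S T']

/-- The comparison map `T ⊗[S] Ω[S⁄R] → T' ⊗[S] Ω[S⁄R]`. -/
noncomputable def phi : T ⊗[S] Ω[S⁄R] →ₗ[S] T' ⊗[S] Ω[S⁄R] :=
  LinearMap.rTensor Ω[S⁄R] (IsScalarTower.toAlgHom S T T').toLinearMap

omit [Algebra R T] [Algebra R T'] [IsScalarTower R S T] [IsScalarTower R S T'] in
theorem phi_tmul (t : T) (w : Ω[S⁄R]) : phi R S T T' (t ⊗ₜ w) = algebraMap T T' t ⊗ₜ w := rfl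

theorem δAux_rename (x : (Generators.self S T).Ring) :
    Generators.H1Cotangent.δAux R (Generators.self S T')
      (MvPolynomial.rename (algebraMap T T') x) =
    phi R S T T' (Generators.H1Cotangent.δAux R (Generators.self S T) x) := by
  induction x using MvPolynomial.induction_on' with
  | monomial n s =>
    rw [MvPolynomial.rename_monomial, Generators.H1Cotangent.δAux_monomial,
      Generators.H1Cotangent.δAux_monomial]
    simp only [phi, LinearMap.rTensor_tmul, AlgHom.toLinearMap_apply,
      IsScalarTower.coe_toAlgHom']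
    congr 1
    rw [Finsupp.prod_mapDomain_index (by simp) (by intros; rw [pow_add])]
    simp [Finsupp.prod, Generators.self]
  | add p q hp hq =>
    simp only [map_add, hp, hq]

omit [IsScalarTower S T T'] in
theorem defaultHom_toAlgHom (x : (Generators.self S T).Ring) :
    (Generators.defaultHom (Generators.self S T) (Generators.self S T')).toAlgHom x =
      MvPolynomial.rename (algebraMap T T') x := by
  induction x using MvPolynomial.induction_on with
  | C s => simp [Generators.Hom.toAlgHom]
  | add p q hp hq => simp only [map_add, hp, hq]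
  | mul_X p i hp =>
    simp only [map_mul, hp, Generators.Hom.toAlgHom_X, rename_X]
    rfl

set_option backward.isDefEq.respectTransparency false in
/-- Naturality of the connecting homomorphism in the top ring. -/
theorem δ_natural (x : H1Cotangent S T) :
    H1Cotangent.δ R S T' (H1Cotangent.map S S T T' x) =
      phi R S T T' (H1Cotangent.δ R S T x) := by
  obtain ⟨c, hc⟩ := x
  obtain ⟨y, rfl⟩ := Extension.Cotangent.mk_surjective c
  unfold H1Cotangent.δ H1Cotangent.map
  change Generators.H1Cotangent.δ _ _ ⟨_, _⟩ =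
    phi R S T T' (Generators.H1Cotangent.δ _ _ ⟨_, _⟩)
  simp only [LinearMap.domRestrict_apply, Extension.Cotangent.map_mk,
    Generators.H1Cotangent.δ_eq_δAux]
  rw [← δAux_rename, ← defaultHom_toAlgHom]
  rfl

end Groth.Agent.Lib.DeltaNatH44
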