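import Groth.Prelude.Def_DeltaF
import Mathlib.Algebra.Homology.ShortComplex.ExactFunctor

/-!
# Precomposition of a cohomological delta-functor with an exact functor
-/

set_option autoImplicit false

open CategoryTheory CategoryTheory.Limits DeltaF

namespace Groth.Agent.Lib.DeltaPrecomp92

variable {A' : Type*} [Category A'] [Abelian A'] {A : Type*} [Category A] [Abelian A]
  {B : Type*} [Category B] [Abelian B]
  (R : A' ⥤ A) [R.Additive] [PreservesFiniteLimits R] [PreservesFiniteColimits R]
  (T : CohDeltaFunctor A B ℕ)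

/-- precomposition of a delta-functor with an exact functor -/
noncomputable def precomp : CohDeltaFunctor A' B ℕ where
  F n := R ⋙ T.F n
  additive _ := inferInstance
  δ S hS n₀ n₁ h := T.δ (S.map R) (hS.map_of_exact R) n₀ n₁ h
  δ_natural hS hS' φ n₀ n₁ h :=
    T.δ_natural (hS.map_of_exact R) (hS'.map_of_exact R) (R.mapShortComplex.map φ) n₀ n₁ h
  exact₂ S hS n := T.exact₂ (S.map R) (hS.map_of_exact R) n
  comp_δ S hS n₀ n₁ h := T.comp_δ (S.map R) (hS.map_of_exact R) n₀ n₁ h
  exact₃ S hS n₀ n₁ h := T.exact₃ (S.map R) (hS.map_of_exact R) n₀ n₁ h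
  δ_comp S hS n₀ n₁ h := T.δ_comp (S.map R) (hS.map_of_exact R) n₀ n₁ h
  exact₁ S hS n₀ n₁ h := T.exact₁ (S.map R) (hS.map_of_exact R) n₀ n₁ h

lemma precomp_F (n : ℕ) : (precomp R T).F n = R ⋙ T.F n := rfl

/-- if `R` preserves injective objects and `T` vanishes on injectives in positive degrees, the
precomposed delta-functor is effaceable -/
theorem precomp_isEffaceable [EnoughInjectives A']
    (hR : ∀ I : A', Injective I → Injective (R.obj I))
    (hT : ∀ (n : ℕ) (I : A), Injective I → IsZero ((T.F (n + 1)).obj I)) :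
    (precomp R T).IsEffaceable := by
  intro n M
  refine ⟨Injective.under M, Injective.ι M, inferInstance, ?_⟩
  exact (hT n _ (hR _ inferInstance)).eq_of_tgt _ _

end Groth.Agent.Lib.DeltaPrecomp92
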