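import Groth.Agent.S1585
import Groth.Agent.Lib.QCohStalk
import Groth.Agent.Lib.H90OXModPush
import Groth.Agent.Lib.StructureModule
import Groth.Agent.Lib.FreeModStalk
import Groth.Agent.Lib.DeltaAlg84
import Groth.Agent.Lib.InvMap54b

/-!
# Stalks of `ν_* O_{X^ν} / O_X` and the δ-invariant (helper84; for S7689)

Namespace `Groth.Agent.Lib.DeltaStalk84`.  `X` integral, `ν = Curv2.normalizationι X`.
* `smul_push_structure`: the scalar action on sections of `ν_* O_Y` (`rfl`).
* `isFractionRing_sections_generic`: `Γ(Spec K(X), f⁻¹U)` is a fraction ring of `Γ(X, U)` (`U` nonempty affine).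
* `exists_linearEquiv_sections f hU`: `integralClosure Γ(X,U) Γ(W, f⁻¹U) ≃ₗ Γ(ν_* O, U)` sending `1` to `1`
  (any qcqs `f : W ⟶ X`, `ν = f.fromNormalization`).
* `normPush X`, `oneSec X U`, quasi-coherence instance.
* `length_stalk_push_quotient_aux`, `stalkLin_unit_one_eq`, **`length_stalk_cokernel`**: if `O_X → ν_* O_{X^ν}` is mono,
  the stalk of its cokernel at ANY point `x` has length `Curv2.deltaInv (O_{X,x})`.
* `mono_of_app_injective`, `mono_unitToPush` (dominant quasi-compact to reduced target).
-/

set_option autoImplicit false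
set_option maxHeartbeats 800000
set_option linter.style.haveILetI false
universe u
open CategoryTheory CategoryTheory.Limits AlgebraicGeometry Opposite TopologicalSpace

namespace Groth.Agent.Lib.DeltaStalk84

open Groth.Agent.Lib.NormField85

variable {X Y : Scheme.{u}} (ν : Y ⟶ X)

/-- The scalar action on sections of `ν_* O_Y`. -/
lemma smul_push_structure (U : X.Opens) (a : Γ(X, U))
    (s : Γ((Scheme.Modules.pushforward ν).obj (Coh.structureModule Y), U)) :
    a • s = (show Γ((Scheme.Modules.pushforward ν).obj (Coh.structureModule Y), U) from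
      ((ν.app U).hom a * (show Γ(Y, ν ⁻¹ᵁ U) from s) : Γ(Y, ν ⁻¹ᵁ U))) := rfl

section

variable (X) [IsIntegral X]

/-- Sections of `Spec K(X)` over the preimage of a nonempty affine open form a fraction ring of the sections. -/
lemma isFractionRing_sections_generic {U : X.Opens} (hU : IsAffineOpen U)
    (hξ : genericPoint X ∈ U) :
    letI := ((X.fromSpecStalk (genericPoint X)).app U).hom.toAlgebra
    IsFractionRing Γ(X, U)
      Γ(Spec (X.presheaf.stalk (genericPoint X)), (X.fromSpecStalk (genericPoint X)) ⁻¹ᵁ U) := by
  letI := ((X.fromSpecStalk (genericPoint X)).app U).hom.toAlgebra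
  have hg : X.fromSpecStalk (genericPoint X) =
      Spec.map (𝟙 (X.presheaf.stalk (genericPoint X))) ≫ X.fromSpecStalk (genericPoint X) := by
    simp
  have hiso := isIso_secHom (𝟙 _) (X.fromSpecStalk (genericPoint X)) hg hξ
  let e : X.presheaf.stalk (genericPoint X) ≃+*
      Γ(Spec (X.presheaf.stalk (genericPoint X)), (X.fromSpecStalk (genericPoint X)) ⁻¹ᵁ U) :=
    (asIso (secHom (X.fromSpecStalk (genericPoint X)) U)).commRingCatIsoToRingEquiv
  have happ := app_eq (𝟙 _) (X.fromSpecStalk (genericPoint X)) hg hξ
  haveI : Nonempty U := ⟨⟨genericPoint X, hξ⟩⟩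
  let e' : X.functionField ≃ₐ[Γ(X, U)]
      Γ(Spec (X.presheaf.stalk (genericPoint X)), (X.fromSpecStalk (genericPoint X)) ⁻¹ᵁ U) :=
    AlgEquiv.ofRingEquiv (f := e) (fun a ↦ by
      change (secHom (X.fromSpecStalk (genericPoint X)) U).hom
        ((X.germToFunctionField U).hom a) = ((X.fromSpecStalk (genericPoint X)).app U).hom a
      rw [happ]
      rfl)
  haveI : IsFractionRing Γ(X, U) X.functionField :=
    functionField_isFractionRing_of_isAffineOpen X U hU
  exact IsLocalization.isLocalization_of_algEquiv _ e'

end

/-- The linear equivalence between the integral closure and the sections of `ν_* O`. -/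
lemma exists_linearEquiv_sections {W X : Scheme.{u}} (f : W ⟶ X) [QuasiCompact f] [QuasiSeparated f]
    {U : X.Opens} (hU : IsAffineOpen U) :
    letI := (f.app U).hom.toAlgebra
    ∃ c : integralClosure Γ(X, U) Γ(W, f ⁻¹ᵁ U) ≃ₗ[Γ(X, U)]
        Γ((Scheme.Modules.pushforward f.fromNormalization).obj
          (Coh.structureModule f.normalization), U),
      c 1 = (show Γ((Scheme.Modules.pushforward f.fromNormalization).obj
          (Coh.structureModule f.normalization), U) from
        (1 : Γ(f.normalization, f.fromNormalization ⁻¹ᵁ U))) := by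
  letI := (f.app U).hom.toAlgebra
  let i := f.normalizationObjIso hU
  have happ := f.fromNormalization_app hU
  let e : integralClosure Γ(X, U) Γ(W, f ⁻¹ᵁ U) ≃+*
      Γ(f.normalization, f.fromNormalization ⁻¹ᵁ U) := i.symm.commRingCatIsoToRingEquiv
  refine ⟨{ toFun := fun z => e z
            invFun := fun w => e.symm w
            left_inv := e.left_inv
            right_inv := e.right_inv
            map_add' := fun a b => map_add e a b
            map_smul' := fun a z => ?_ }, map_one e⟩
  change (e (a • z) : Γ(f.normalization, f.fromNormalization ⁻¹ᵁ U)) =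
    (f.fromNormalization.app U).hom a * e z
  rw [Algebra.smul_def, map_mul]
  congr 1
  rw [happ]
  rfl

section Main

open Groth.Agent.Lib.ModStalkLin Groth.Agent.Lib.QCohStalk Groth.Agent.Lib.FreeModStalk

variable (X) [IsIntegral X] [QuasiCompact (X.fromSpecStalk (genericPoint X))]
  [QuasiSeparated (X.fromSpecStalk (genericPoint X))]

/-- `ν_* O_{X^ν}` as an `O_X`-module. -/
noncomputable abbrev normPush : X.Modules :=
  (Scheme.Modules.pushforward (Curv2.normalizationι X)).obj (Coh.structureModule (Curv2.normalization X))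

/-- the section `1` of `ν_* O_{X^ν}` over `U`. -/
noncomputable abbrev oneSec (U : X.Opens) : Γ(normPush X, U) :=
  (show Γ(normPush X, U) from (1 : Γ(Curv2.normalization X, Curv2.normalizationι X ⁻¹ᵁ U)))

instance : (normPush X).IsQuasicoherent := by
  haveI hqY : Coh.IsQCoh (Coh.structureModule (Curv2.normalization X)) :=
    Groth.Agent.Lib.StructureModule.isQCoh_structureModule _
  haveI : IsIntegralHom (Curv2.normalizationι X) :=
    inferInstanceAs (IsIntegralHom (X.fromSpecStalk (genericPoint X)).fromNormalization)
  exact Groth.Agent.Lib.H90OXModPush.isQuasicoherent_pushforward _ _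

/-- The stalk of `ν_* O_{X^ν}` at `x` modulo the line spanned by the germ of `1` has length `δ(O_{X,x})`. -/
theorem length_stalk_push_quotient_aux {U : X.Opens} (hU : IsAffineOpen U) (x : U) :
    Module.length (X.presheaf.stalk (x : X))
      ((normPush X).presheaf.stalk (x : X) ⧸
        Submodule.span (X.presheaf.stalk (x : X))
          {(normPush X).presheaf.germ U x.1 x.2 (oneSec X U)}) =
      Curv2.deltaInv (X.presheaf.stalk (x : X)) := by
  have hξ : genericPoint X ∈ U :=
    ((genericPoint_spec X).mem_open_set_iff U.isOpen).mpr ⟨x.1, trivial, x.2⟩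
  letI := ((X.fromSpecStalk (genericPoint X)).app U).hom.toAlgebra
  haveI := isFractionRing_sections_generic X hU hξ
  obtain ⟨c, hc1⟩ := exists_linearEquiv_sections (X.fromSpecStalk (genericPoint X)) hU
  letI := moduleSectionStalk (normPush X) x
  haveI := isScalarTower_sectionStalk (normPush X) x
  haveI := isLocalizedModule_germ (normPush X) hU x
  haveI : IsLocalization.AtPrime (X.presheaf.stalk (x : X)) (hU.primeIdealOf x).asIdeal :=
    hU.isLocalization_stalk x
  haveI : IsLocalizedModule (hU.primeIdealOf x).asIdeal.primeCompl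
      ((germLinear (normPush X) x).comp c.toLinearMap) :=
    IsLocalizedModule.of_linearEquiv_right (hU.primeIdealOf x).asIdeal.primeCompl
      (germLinear (normPush X) x) c
  haveI : Nonempty U := ⟨x⟩
  have key := Groth.Agent.Lib.DeltaAlg84.length_quotient_span_eq_deltaInv
    (hU.primeIdealOf x).asIdeal.primeCompl (Ideal.primeCompl_le_nonZeroDivisors _)
    Γ(Spec (X.presheaf.stalk (genericPoint X)), (X.fromSpecStalk (genericPoint X)) ⁻¹ᵁ U)
    (X.presheaf.stalk (x : X)) ((normPush X).presheaf.stalk (x : X))
    ((germLinear (normPush X) x).comp c.toLinearMap)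
  have hg1 : ((germLinear (normPush X) x).comp c.toLinearMap) 1 =
      (normPush X).presheaf.germ U x.1 x.2 (oneSec X U) := by
    change (normPush X).presheaf.germ U x.1 x.2 (c 1) = _
    rw [hc1]
    rfl
  rw [hg1] at key
  exact key

/-- `u(1) = 1`: the unit map sends the germ of `1` to the germ of `1`. -/
lemma stalkLin_unit_one_eq (x : X) {U : X.Opens} (hxU : x ∈ U) :
    stalkLin (ClSub.unitToPush (Curv2.normalizationι X)) x (one x) =
      (normPush X).presheaf.germ U x hxU (oneSec X U) := by
  have h1 : stalkLin (ClSub.unitToPush (Curv2.normalizationι X)) x (one x) =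
      (normPush X).presheaf.germ ⊤ x trivial
        ((ClSub.unitToPush (Curv2.normalizationι X)).app ⊤
          (show Γ(Coh.structureModule X, ⊤) from (1 : Γ(X, ⊤)))) :=
    stalkLin_germ _ x ⊤ trivial _
  rw [h1]
  have h2 : (ClSub.unitToPush (Curv2.normalizationι X)).app ⊤
      (show Γ(Coh.structureModule X, ⊤) from (1 : Γ(X, ⊤))) = oneSec X ⊤ :=
    map_one ((Curv2.normalizationι X).app ⊤).hom
  rw [h2]
  have h3 : oneSec X U = res (normPush X) (le_top : U ≤ ⊤) (oneSec X ⊤) :=
    (map_one ((Curv2.normalization X).presheaf.map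
      (homOfLE (show Curv2.normalizationι X ⁻¹ᵁ U ≤ Curv2.normalizationι X ⁻¹ᵁ ⊤ from
        fun _ _ => trivial)).op).hom).symm
  rw [h3]
  exact (germ_res (normPush X) le_top x hxU _).symm

/-- **Stalks of the cokernel of `O_X → ν_* O_{X^ν}`** have length the δ-invariant of the local ring. -/
theorem length_stalk_cokernel [Mono (ClSub.unitToPush (Curv2.normalizationι X))] (x : X) :
    Module.length (X.presheaf.stalk x)
      ((cokernel (ClSub.unitToPush (Curv2.normalizationι X))).presheaf.stalk x) =
      Curv2.deltaInv (X.presheaf.stalk x) := by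
  obtain ⟨U, hU, hxU, -⟩ := Opens.isBasis_iff_nbhd.1 X.isBasis_affineOpens
    (show x ∈ (⊤ : X.Opens) from trivial)
  have hU : IsAffineOpen U := hU
  rw [← length_stalk_push_quotient_aux X hU ⟨x, hxU⟩]
  let S₀ : ShortComplex X.Modules :=
    ShortComplex.mk (ClSub.unitToPush (Curv2.normalizationι X))
      (cokernel.π (ClSub.unitToPush (Curv2.normalizationι X))) (cokernel.condition _)
  have hS₀ : S₀.ShortExact :=
    { exact := ShortComplex.exact_cokernel (ClSub.unitToPush (Curv2.normalizationι X)) }
  obtain ⟨-, hex, hsurj⟩ := stalkLin_exact hS₀ x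
  have hker : LinearMap.ker (stalkLin (cokernel.π (ClSub.unitToPush (Curv2.normalizationι X))) x) =
      Submodule.span (X.presheaf.stalk x)
        {(normPush X).presheaf.germ U x hxU (oneSec X U)} := by
    rw [LinearMap.exact_iff.mp hex, ← stalkLin_unit_one_eq X x hxU]
    have htop : (⊤ : Submodule (X.presheaf.stalk x) ((Coh.structureModule X).presheaf.stalk x)) =
        Submodule.span (X.presheaf.stalk x) {one x} := by
      symm
      rw [eq_top_iff]
      intro ζ _
      obtain ⟨a, rfl⟩ := exists_eq_smul_one x ζ
      exact Submodule.smul_mem _ a (Submodule.subset_span rfl)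
    rw [LinearMap.range_eq_map, htop, Submodule.map_span, Set.image_singleton]
  exact ((LinearMap.quotKerEquivOfSurjective _ hsurj).symm.trans
    (Submodule.quotEquivOfEq _ _ hker)).length_eq

end Main

section Mono

/-- A morphism of `O_X`-modules which is injective on all sections is a monomorphism. -/
theorem mono_of_app_injective {X : Scheme.{u}} {M N : X.Modules} (φ : M ⟶ N)
    (hall : ∀ U : X.Opens, Function.Injective (φ.app U)) : Mono φ := by
  refine ⟨fun {K} ψ₁ ψ₂ hψ => ?_⟩
  apply Scheme.Modules.hom_ext
  intro U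
  ext x
  apply hall U
  have := congrArg (fun χ => (Scheme.Modules.Hom.app χ U) x) hψ
  exact this

/-- For a quasi-compact dominant morphism to a reduced scheme, `O_X → ν_* O_Y` is a monomorphism. -/
theorem mono_unitToPush {X Y : Scheme.{u}} (ν : Y ⟶ X) [IsDominant ν] [QuasiCompact ν] [IsReduced X] :
    Mono (ClSub.unitToPush ν) := by
  haveI := IsSchemeTheoreticallyDominant.of_isDominant ν
  exact mono_of_app_injective _ (fun U => ν.app_injective U)

end Mono

end Groth.Agent.Lib.DeltaStalk84
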