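import Groth.Prelude.Def_Algz

/-!
# The distance function `Algz.deltaZ`: basic toolkit (helper59)

* `cod w v` : total version of `Algz.codimPt`; basic estimates (`cod_self`, `one_le_cod`,
  `cod_le_one_of_immediate`, `cod_mono_right`), invariance under embeddings whose range is stable under
  generization (`cod_map_of_isEmbedding`).
* `val k c b` : the purely combinatorial value of a system, with monotonicity (`val_mono`),
  the effect of appending a step (`val_snoc_le`), the zigzag estimate (`val_le_of_zigzag`) and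
  the lower bound by the `i = 0` term (`le_val`).
* constructions of systems: `DSystem.single`, `DSystem.snoc`, `DSystem.replaceLast`, `DSystem.map`.
-/

set_option autoImplicit false
universe u

open Algz Specialization

namespace Groth.Agent.Lib.DeltaZ

section Cod

variable {Y : Type u} [TopologicalSpace Y]

/-- The element of `Set.Ici (toEquiv v)` attached to a generization `w` of `v`. -/
def pt (w v : Y) (h : w ⤳ v) : Set.Ici (toEquiv v) :=
  ⟨toEquiv w, toEquiv_le_toEquiv.mpr h⟩

theorem codimPt_eq (w v : Y) (h : w ⤳ v) : codimPt w v h = Order.height (pt w v h) := rfl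

theorem pt_le_pt {v w w' : Y} (h : w ⤳ v) (h' : w' ⤳ v) : pt w v h ≤ pt w' v h' ↔ w' ⤳ w :=
  Iff.rfl

open Classical in
/-- Total version of `codimPt` (value `0` when `w` does not specialize to `v`). -/
noncomputable def cod (w v : Y) : ℕ∞ := if h : w ⤳ v then codimPt w v h else 0

theorem cod_eq {w v : Y} (h : w ⤳ v) : cod w v = codimPt w v h := dif_pos h

theorem cod_self (w : Y) : cod w w = 0 := by
  rw [cod_eq specializes_rfl, codimPt_eq, Order.height_eq_zero]
  intro b _
  exact b.2

theorem one_le_cod {w v : Y} (h : w ⤳ v) (hne : ¬ v ⤳ w) : 1 ≤ cod w v := by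
  rw [cod_eq h, codimPt_eq]
  have hlt : pt v v specializes_rfl < pt w v h := by
    refine lt_of_le_not_ge ?_ ?_
    · exact (pt_le_pt _ _).2 h
    · intro h'
      exact hne ((pt_le_pt _ _).1 h')
  calc (1 : ℕ∞) ≤ Order.height (pt v v specializes_rfl) + 1 := le_add_self
    _ ≤ Order.height (pt w v h) := Order.height_add_one_le hlt

theorem cod_le_one_of_immediate {w v : Y} (h : w ⤳ v)
    (himm : ∀ z : Y, w ⤳ z → z ⤳ v → z ⤳ w ∨ v ⤳ z) : cod w v ≤ 1 := by
  rw [cod_eq h, codimPt_eq]
  have h1 : ((1 : ℕ) : ℕ∞) = 1 := rfl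
  rw [← h1, Order.height_le_coe_iff]
  intro x hx
  have hxv : ofEquiv x.1 ⤳ v := x.2
  have hwx : w ⤳ ofEquiv x.1 := hx.le
  have : Order.height x = 0 := by
    rw [Order.height_eq_zero]
    intro b _
    rcases himm _ hwx hxv with h' | h'
    · exact absurd h' hx.not_ge
    · exact le_trans (show x ≤ pt v v specializes_rfl from h') b.2
  rw [this]
  exact zero_lt_one

theorem cod_mono_right {w v v' : Y} (h : w ⤳ v) (hv : v ⤳ v') : cod w v ≤ cod w v' := by
  rw [cod_eq h, cod_eq (h.trans hv), codimPt_eq, codimPt_eq]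
  let f : Set.Ici (toEquiv v) → Set.Ici (toEquiv v') := fun x =>
    ⟨x.1, le_trans (toEquiv_le_toEquiv.mpr hv) x.2⟩
  have hf : StrictMono f := fun a b hab => hab
  exact Order.height_le_height_apply_of_strictMono f hf (pt w v h)

end Cod

section Embedding

variable {Y Y' : Type u} [TopologicalSpace Y] [TopologicalSpace Y']

theorem cod_le_cod_map {f : Y' → Y} (hf : Topology.IsInducing f) (w v : Y') (h : w ⤳ v) :
    cod w v ≤ cod (f w) (f v) := by
  have h' : f w ⤳ f v := h.map hf.continuous
  rw [cod_eq h, cod_eq h', codimPt_eq, codimPt_eq]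
  let g : Set.Ici (toEquiv v) → Set.Ici (toEquiv (f v)) := fun x =>
    ⟨toEquiv (f (ofEquiv x.1)), toEquiv_le_toEquiv.mpr
      ((show ofEquiv x.1 ⤳ v from x.2).map hf.continuous)⟩
  have hg : StrictMono g := by
    intro a b hab
    refine lt_of_le_not_ge ?_ ?_
    · exact (show ofEquiv b.1 ⤳ ofEquiv a.1 from hab.le).map hf.continuous
    · intro hba
      exact hab.not_ge (hf.specializes_iff.1 hba)
  exact Order.height_le_height_apply_of_strictMono g hg (pt w v h)

theorem cod_map_le_cod {f : Y' → Y} (hf : Topology.IsEmbedding f)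
    (hgen : StableUnderGeneralization (Set.range f)) (w v : Y') (h : w ⤳ v) :
    cod (f w) (f v) ≤ cod w v := by
  classical
  have h' : f w ⤳ f v := h.map hf.continuous
  rw [cod_eq h, cod_eq h', codimPt_eq, codimPt_eq]
  have hmem : ∀ x : Set.Ici (toEquiv (f v)), ofEquiv x.1 ∈ Set.range f := fun x =>
    hgen (show ofEquiv x.1 ⤳ f v from x.2) ⟨v, rfl⟩
  let pre : Set.Ici (toEquiv (f v)) → Y' := fun x => (hmem x).choose
  have hpre : ∀ x, f (pre x) = ofEquiv x.1 := fun x => (hmem x).choose_spec
  let g : Set.Ici (toEquiv (f v)) → Set.Ici (toEquiv v) := fun x =>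
    ⟨toEquiv (pre x), toEquiv_le_toEquiv.mpr (by
      rw [← hf.isInducing.specializes_iff, hpre]; exact x.2)⟩
  have hg : StrictMono g := by
    intro a b hab
    refine lt_of_le_not_ge ?_ ?_
    · change pre b ⤳ pre a
      rw [← hf.isInducing.specializes_iff, hpre, hpre]
      exact hab.le
    · intro hba
      apply hab.not_ge
      have : pre a ⤳ pre b := hba
      rw [← hf.isInducing.specializes_iff, hpre, hpre] at this
      exact this
  have hgw : g (pt (f w) (f v) h') = pt w v h := by
    apply Subtype.ext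
    change toEquiv (pre (pt (f w) (f v) h')) = toEquiv w
    congr 1
    apply hf.injective
    rw [hpre]
    rfl
  rw [← hgw]
  exact Order.height_le_height_apply_of_strictMono g hg (pt (f w) (f v) h')

theorem cod_map_eq {f : Y' → Y} (hf : Topology.IsEmbedding f)
    (hgen : StableUnderGeneralization (Set.range f)) (w v : Y') (h : w ⤳ v) :
    cod (f w) (f v) = cod w v :=
  le_antisymm (cod_map_le_cod hf hgen w v h) (cod_le_cod_map hf.isInducing w v h)

end Embedding

section Val

/-- The partial sum `∑_{j ≥ n} f j` over `Fin m`. -/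
noncomputable def tailSum {m : ℕ} (f : Fin m → ℕ∞) (n : ℕ) : ℕ∞ :=
  ∑ j ∈ Finset.univ.filter (fun j : Fin m => n ≤ j.val), f j

theorem tailSum_succ {m : ℕ} (f : Fin (m + 1) → ℕ∞) (n : ℕ) (hn : n ≤ m) :
    tailSum f n = tailSum (fun j : Fin m => f j.castSucc) n + f (Fin.last m) := by
  unfold tailSum
  rw [Finset.sum_filter, Finset.sum_filter, Fin.sum_univ_castSucc]
  simp [hn]

theorem tailSum_of_le {m : ℕ} (f : Fin m → ℕ∞) (n : ℕ) (hn : m ≤ n) : tailSum f n = 0 := by
  unfold tailSum
  rw [Finset.sum_eq_zero_iff]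
  intro j hj
  rw [Finset.mem_filter] at hj
  exact absurd hj.2 (by have := j.2; omega)

theorem tailSum_mono {m : ℕ} {f g : Fin m → ℕ∞} (h : ∀ j, f j ≤ g j) (n : ℕ) :
    tailSum f n ≤ tailSum g n :=
  Finset.sum_le_sum fun j _ => h j

/-- The combinatorial value of a system with codimensions `c i` and `b i`. -/
noncomputable def val (k : ℕ) (c : Fin (k + 1) → ℕ∞) (b : Fin k → ℕ∞) : ℕ∞ :=
  (k : ℕ∞) + Finset.univ.sup fun i : Fin (k + 1) => tailSum c i.val - tailSum b i.val

theorem val_mono {k : ℕ} {c c' : Fin (k + 1) → ℕ∞} {b b' : Fin k → ℕ∞}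
    (hc : ∀ j, c j ≤ c' j) (hb : ∀ j, b' j ≤ b j) : val k c b ≤ val k c' b' := by
  unfold val
  refine add_le_add_right (Finset.sup_mono_fun fun i _ => ?_) _
  exact tsub_le_tsub (tailSum_mono hc _) (tailSum_mono hb _)

theorem le_val {k : ℕ} (c : Fin (k + 1) → ℕ∞) (b : Fin k → ℕ∞) :
    (∑ j, c j) - ∑ j, b j ≤ val k c b := by
  unfold val
  refine le_trans ?_ le_add_self
  refine le_trans (le_of_eq ?_) (Finset.le_sup (f := fun i : Fin (k + 1) =>
    tailSum c i.val - tailSum b i.val) (Finset.mem_univ (0 : Fin (k + 1))))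
  simp [tailSum]

theorem val_zero (c : Fin 1 → ℕ∞) (b : Fin 0 → ℕ∞) : val 0 c b = c 0 := by
  unfold val
  simp [tailSum]

private theorem enat_aux (C B β : ℕ∞) (hβ : 1 ≤ β) : C - (B + β) + 1 ≤ max (C - B) 1 := by
  induction β using ENat.recTopCoe with
  | top => simp
  | coe β =>
    induction B using ENat.recTopCoe with
    | top => simp
    | coe B =>
      induction C using ENat.recTopCoe with
      | top =>
        have : (⊤ : ℕ∞) - (B : ℕ∞) = ⊤ := ENat.top_sub_natCast B
        simp [this]
      | coe C =>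
        have hβ' : 1 ≤ β := by exact_mod_cast hβ
        rw [le_max_iff]
        by_cases h : C ≤ B + β
        · right
          have : (C : ℕ∞) - ((B : ℕ∞) + (β : ℕ∞)) = 0 := by
            rw [tsub_eq_zero_iff_le]; exact_mod_cast h
          rw [this, zero_add]
        · left
          have h1 : (C : ℕ∞) - ((B : ℕ∞) + (β : ℕ∞)) + 1 = ((C - (B + β) + 1 : ℕ) : ℕ∞) := by
            push_cast; rfl
          have h2 : (C : ℕ∞) - (B : ℕ∞) = ((C - B : ℕ) : ℕ∞) := by push_cast; rfl
          rw [h1, h2]
          exact_mod_cast (by omega : C - (B + β) + 1 ≤ C - B)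

theorem val_snoc_le {k : ℕ} (c : Fin (k + 1) → ℕ∞) (b : Fin k → ℕ∞) (β : ℕ∞)
    (hc : 1 ≤ c (Fin.last k)) (hβ : 1 ≤ β) :
    val (k + 1) (Fin.snoc (α := fun _ => ℕ∞) c 0) (Fin.snoc (α := fun _ => ℕ∞) b β) ≤ val k c b := by
  set M := Finset.univ.sup fun i : Fin (k + 1) => tailSum c i.val - tailSum b i.val with hM
  have hM1 : 1 ≤ M := by
    refine le_trans ?_ (Finset.le_sup (f := fun i : Fin (k + 1) =>
      tailSum c i.val - tailSum b i.val) (Finset.mem_univ (Fin.last k)))
    have e1 : tailSum b (Fin.last k).val = 0 := tailSum_of_le b _ (by simp)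
    have e2 : c (Fin.last k) ≤ tailSum c (Fin.last k).val := by
      unfold tailSum
      exact Finset.single_le_sum (f := c) (fun _ _ => zero_le)
        (Finset.mem_filter.2 ⟨Finset.mem_univ _, le_rfl⟩)
    simp only [e1, tsub_zero]
    exact hc.trans e2
  have key : ∀ i : Fin (k + 2),
      tailSum (Fin.snoc (α := fun _ => ℕ∞) c 0) i.val -
        tailSum (Fin.snoc (α := fun _ => ℕ∞) b β) i.val + 1 ≤ M := by
    intro i
    induction i using Fin.lastCases with
    | last =>
      have e1 : tailSum (Fin.snoc (α := fun _ => ℕ∞) c 0) (Fin.last (k + 1)).val = 0 := by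
        rw [tailSum_succ _ _ (by simp)]
        simp only [Fin.snoc_castSucc, Fin.snoc_last, add_zero]
        exact tailSum_of_le c _ (by simp)
      rw [e1, zero_tsub, zero_add]
      exact hM1
    | cast i =>
      have hi : i.val ≤ k := Nat.lt_succ_iff.mp i.2
      have e1 : tailSum (Fin.snoc (α := fun _ => ℕ∞) c 0) (Fin.castSucc i).val = tailSum c i.val := by
        rw [tailSum_succ _ _ (by simp only [Fin.val_castSucc]; omega)]
        simp only [Fin.snoc_castSucc, Fin.snoc_last, add_zero, Fin.val_castSucc]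
      have e2 : tailSum (Fin.snoc (α := fun _ => ℕ∞) b β) (Fin.castSucc i).val =
          tailSum b i.val + β := by
        rw [tailSum_succ _ _ (by simp only [Fin.val_castSucc]; omega)]
        simp only [Fin.snoc_castSucc, Fin.snoc_last, Fin.val_castSucc]
      rw [e1, e2]
      refine (enat_aux _ _ _ hβ).trans (max_le ?_ hM1)
      exact Finset.le_sup (f := fun i : Fin (k + 1) =>
        tailSum c i.val - tailSum b i.val) (Finset.mem_univ i)
  have hsup : (Finset.univ.sup fun i : Fin (k + 2) =>
      tailSum (Fin.snoc (α := fun _ => ℕ∞) c 0) i.val -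
        tailSum (Fin.snoc (α := fun _ => ℕ∞) b β) i.val) + 1 ≤ M := by
    obtain ⟨i, -, hi⟩ := Finset.exists_mem_eq_sup (Finset.univ : Finset (Fin (k + 2)))
      Finset.univ_nonempty (fun i : Fin (k + 2) =>
      tailSum (Fin.snoc (α := fun _ => ℕ∞) c 0) i.val -
        tailSum (Fin.snoc (α := fun _ => ℕ∞) b β) i.val)
    rw [hi]
    exact key i
  unfold val
  rw [← hM]
  calc ((k + 1 : ℕ) : ℕ∞) + _ = (k : ℕ∞) + (_ + 1) := by push_cast; ring
    _ ≤ (k : ℕ∞) + M := add_le_add_right hsup _

theorem val_le_of_zigzag {k : ℕ} (c : Fin (k + 1) → ℕ∞) (b : Fin k → ℕ∞)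
    (hc : ∀ i : Fin k, c i.castSucc ≤ 1) (hlast : c (Fin.last k) = 0) (hb : ∀ i, 1 ≤ b i) :
    val k c b ≤ k := by
  unfold val
  have : (Finset.univ.sup fun i : Fin (k + 1) => tailSum c i.val - tailSum b i.val) = 0 := by
    rw [← bot_eq_zero, Finset.sup_eq_bot_iff]
    intro i _
    rw [bot_eq_zero, tsub_eq_zero_iff_le, tailSum_succ c _ (Nat.lt_succ_iff.mp i.2), hlast, add_zero]
    exact tailSum_mono (fun j => (hc j).trans (hb j)) _
  rw [this, add_zero]

end Val

section Systems

variable {Y : Type u} [TopologicalSpace Y] {Z : Set Y}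

theorem c_eq {y : Y} {k : ℕ} (S : DSystem Z y k) (i : Fin (k + 1)) :
    S.c i = cod (S.w i) (S.v i) := (cod_eq (S.spec i)).symm

theorem b_eq {y : Y} {k : ℕ} (S : DSystem Z y k) (i : Fin k) :
    S.b i = cod (S.w i.castSucc) (S.v i.succ) := (cod_eq (S.spec_succ i)).symm

theorem delta_eq_val {y : Y} {k : ℕ} (S : DSystem Z y k) :
    S.delta = val k (fun i => cod (S.w i) (S.v i)) (fun i => cod (S.w i.castSucc) (S.v i.succ)) := by
  have h1 : (fun i => cod (S.w i) (S.v i)) = S.c := funext fun i => (c_eq S i).symm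
  have h2 : (fun i => cod (S.w i.castSucc) (S.v i.succ)) = S.b := funext fun i => (b_eq S i).symm
  rw [h1, h2]
  rfl

theorem deltaZ_le_delta {y : Y} {k : ℕ} (S : DSystem Z y k) : deltaZ Z y ≤ S.delta :=
  iInf₂_le k S

/-- the system of length `0` given by a point of `Z` in the closure of `y`. -/
def single (y z : Y) (h : y ⤳ z) (hz : z ∈ Z) : DSystem Z y 0 where
  v := fun _ => z
  w := fun _ => y
  spec := fun _ => h
  spec_succ := fun i => i.elim0
  start_mem := hz
  last_eq := rfl

theorem delta_single (y z : Y) (h : y ⤳ z) (hz : z ∈ Z) :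
    (single y z h hz).delta = cod y z := by
  rw [delta_eq_val, val_zero]
  rfl

theorem deltaZ_le_cod (y z : Y) (h : y ⤳ z) (hz : z ∈ Z) : deltaZ Z y ≤ cod y z :=
  (deltaZ_le_delta (single y z h hz)).trans (delta_single y z h hz).le

/-- append a step `V_{k+1} = W_{k+1} = closure of y'` for a specialization `y'` of `y`. -/
def snoc {y : Y} {k : ℕ} (S : DSystem Z y k) (y' : Y) (h : y ⤳ y') : DSystem Z y' (k + 1) where
  v := Fin.snoc (α := fun _ => Y) S.v y'
  w := Fin.snoc (α := fun _ => Y) S.w y'
  spec := by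
    intro i
    induction i using Fin.lastCases with
    | last => simp only [Fin.snoc_last]; exact specializes_rfl
    | cast i => simp only [Fin.snoc_castSucc]; exact S.spec i
  spec_succ := by
    intro i
    induction i using Fin.lastCases with
    | last =>
      rw [Fin.succ_last]
      simp only [Fin.snoc_castSucc, Fin.snoc_last]
      rw [S.last_eq]
      exact h
    | cast i =>
      rw [Fin.succ_castSucc]
      simp only [Fin.snoc_castSucc]
      exact S.spec_succ i
  start_mem := by
    have : (0 : Fin (k + 2)) = Fin.castSucc (0 : Fin (k + 1)) := rfl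
    rw [this, Fin.snoc_castSucc]
    exact S.start_mem
  last_eq := by simp only [Fin.snoc_last]

theorem delta_snoc {y : Y} {k : ℕ} (S : DSystem Z y k) (y' : Y) (h : y ⤳ y') :
    (snoc S y' h).delta = val (k + 1)
      (Fin.snoc (α := fun _ => ℕ∞) (fun i => cod (S.w i) (S.v i)) 0)
      (Fin.snoc (α := fun _ => ℕ∞) (fun i => cod (S.w i.castSucc) (S.v i.succ)) (cod y y')) := by
  rw [delta_eq_val]
  congr 1
  · funext i
    induction i using Fin.lastCases with
    | last => simp only [snoc, Fin.snoc_last]; exact cod_self y'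
    | cast i => simp only [snoc, Fin.snoc_castSucc]
  · funext i
    induction i using Fin.lastCases with
    | last =>
      simp only [snoc, Fin.snoc_last, Fin.succ_last, Fin.snoc_castSucc]
      rw [S.last_eq]
    | cast i =>
      simp only [snoc, Fin.snoc_castSucc, Fin.succ_castSucc]

end Systems

section Specializes

variable {Y : Type u} [TopologicalSpace Y] {Z : Set Y}

theorem specializes_of_cod_eq_zero {w v : Y} (h : w ⤳ v) (h0 : cod w v = 0) : v ⤳ w := by
  by_contra hne
  have := one_le_cod h hne
  rw [h0] at this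
  exact absurd this (by simp)

/-- replace the last pair `V_k ⊆ W_k` (assumed equal) by the closure of a specialization `y'`. -/
def replaceLast {y : Y} {k : ℕ} (S : DSystem Z y k) (y' : Y) (h : y ⤳ y')
    (hv : S.v (Fin.last k) ⤳ y) (hZ : StableUnderSpecialization Z) : DSystem Z y' k where
  v := Function.update S.v (Fin.last k) y'
  w := Function.update S.w (Fin.last k) y'
  spec := by
    intro i
    by_cases hi : i = Fin.last k
    · subst hi; simp only [Function.update_self]; exact specializes_rfl
    · simp only [Function.update_of_ne hi]; exact S.spec i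
  spec_succ := by
    intro i
    have h1 : i.castSucc ≠ Fin.last k := Fin.castSucc_ne_last i
    rw [Function.update_of_ne h1]
    by_cases hi : i.succ = Fin.last k
    · rw [hi, Function.update_self]
      have := S.spec_succ i
      rw [hi] at this
      exact (this.trans hv).trans h
    · rw [Function.update_of_ne hi]; exact S.spec_succ i
  start_mem := by
    by_cases h0 : (0 : Fin (k + 1)) = Fin.last k
    · rw [h0, Function.update_self]
      have := S.start_mem
      rw [h0] at this
      exact hZ (hv.trans h) this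
    · rw [Function.update_of_ne h0]; exact S.start_mem
  last_eq := Function.update_self ..

theorem delta_replaceLast_le {y : Y} {k : ℕ} (S : DSystem Z y k) (y' : Y) (h : y ⤳ y')
    (hv : S.v (Fin.last k) ⤳ y) (hZ : StableUnderSpecialization Z) :
    (replaceLast S y' h hv hZ).delta ≤ S.delta := by
  rw [delta_eq_val, delta_eq_val]
  refine val_mono ?_ ?_
  · intro j
    by_cases hj : j = Fin.last k
    · subst hj
      simp only [replaceLast, Function.update_self, cod_self]
      exact zero_le
    · simp only [replaceLast, Function.update_of_ne hj]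
      exact le_rfl
  · intro j
    have h1 : j.castSucc ≠ Fin.last k := Fin.castSucc_ne_last j
    by_cases hj : j.succ = Fin.last k
    · simp only [replaceLast, Function.update_of_ne h1, hj, Function.update_self]
      have := S.spec_succ j
      rw [hj] at this
      exact cod_mono_right this (hv.trans h)
    · simp only [replaceLast, Function.update_of_ne h1, Function.update_of_ne hj]
      exact le_rfl

/-- The sets `{y | δ_Z(y) ≤ k}` are stable under specialization. -/
theorem deltaZ_le_of_specializes [T0Space Y] (hZ : StableUnderSpecialization Z) {y y' : Y}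
    (h : y ⤳ y') : deltaZ Z y' ≤ deltaZ Z y := by
  refine le_iInf₂ fun k S => ?_
  by_cases h0 : cod (S.w (Fin.last k)) (S.v (Fin.last k)) = 0
  · have hv : S.v (Fin.last k) ⤳ y := by
      have := specializes_of_cod_eq_zero (S.spec _) h0
      rwa [S.last_eq] at this
    exact (deltaZ_le_delta _).trans (delta_replaceLast_le S y' h hv hZ)
  · by_cases h' : y' ⤳ y
    · have : y = y' := (h.antisymm h').eq
      subst this
      exact deltaZ_le_delta S
    · refine (deltaZ_le_delta (snoc S y' h)).trans ?_
      rw [delta_snoc, delta_eq_val S]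
      exact val_snoc_le _ _ _ (Order.one_le_iff_ne_zero.2 h0) (one_le_cod h h')

end Specializes

section Zigzag

variable {Y : Type u} [TopologicalSpace Y] {Z : Set Y}

/-- the system attached to a zigzag of specializations. -/
def zigzag (k : ℕ) (y : Fin (k + 1) → Y) (y' : Fin k → Y) (h0 : y 0 ∈ Z)
    (hdown : ∀ i : Fin k, y' i ⤳ y i.castSucc) (hup : ∀ i : Fin k, y' i ⤳ y i.succ) :
    DSystem Z (y (Fin.last k)) k where
  v := y
  w := Fin.snoc (α := fun _ => Y) y' (y (Fin.last k))
  spec := by
    intro i
    induction i using Fin.lastCases with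
    | last => simp only [Fin.snoc_last]; exact specializes_rfl
    | cast i => simp only [Fin.snoc_castSucc]; exact hdown i
  spec_succ := by
    intro i
    simp only [Fin.snoc_castSucc]
    exact hup i
  start_mem := h0
  last_eq := by simp only [Fin.snoc_last]

theorem deltaZ_le_of_zigzag [T0Space Y] (k : ℕ) (y : Fin (k + 1) → Y) (y' : Fin k → Y)
    (h0 : y 0 ∈ Z)
    (hdown : ∀ i : Fin k, y' i ⤳ y i.castSucc ∧
      ∀ z : Y, y' i ⤳ z → z ⤳ y i.castSucc → z = y' i ∨ z = y i.castSucc)
    (hup : ∀ i : Fin k, y' i ⤳ y i.succ ∧ y' i ≠ y i.succ) :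
    deltaZ Z (y (Fin.last k)) ≤ k := by
  refine (deltaZ_le_delta (zigzag k y y' h0 (fun i => (hdown i).1) (fun i => (hup i).1))).trans ?_
  rw [delta_eq_val]
  refine val_le_of_zigzag _ _ ?_ ?_ ?_
  · intro i
    simp only [zigzag, Fin.snoc_castSucc]
    refine cod_le_one_of_immediate (hdown i).1 fun z hz1 hz2 => ?_
    rcases (hdown i).2 z hz1 hz2 with rfl | rfl
    · exact Or.inl specializes_rfl
    · exact Or.inr specializes_rfl
  · simp only [zigzag, Fin.snoc_last]
    exact cod_self _
  · intro i
    simp only [zigzag, Fin.snoc_castSucc]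
    refine one_le_cod (hup i).1 fun h' => (hup i).2 ?_
    exact ((hup i).1.antisymm h').eq

end Zigzag

section MapSys

variable {Y Y' : Type u} [TopologicalSpace Y] [TopologicalSpace Y'] {Z : Set Y}

/-- image of a system under a continuous map. -/
def mapSys (f : Y' → Y) (hf : Continuous f) {y' : Y'} {k : ℕ} (S : DSystem (f ⁻¹' Z) y' k) :
    DSystem Z (f y') k where
  v := fun i => f (S.v i)
  w := fun i => f (S.w i)
  spec := fun i => (S.spec i).map hf
  spec_succ := fun i => (S.spec_succ i).map hf
  start_mem := S.start_mem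
  last_eq := congrArg f S.last_eq

theorem delta_mapSys {f : Y' → Y} (hf : Topology.IsEmbedding f)
    (hgen : StableUnderGeneralization (Set.range f)) {y' : Y'} {k : ℕ}
    (S : DSystem (f ⁻¹' Z) y' k) : (mapSys f hf.continuous S).delta = S.delta := by
  rw [delta_eq_val, delta_eq_val]
  congr 1
  · funext i
    exact cod_map_eq hf hgen _ _ (S.spec i)
  · funext i
    exact cod_map_eq hf hgen _ _ (S.spec_succ i)

theorem deltaZ_map_le {f : Y' → Y} (hf : Topology.IsEmbedding f)
    (hgen : StableUnderGeneralization (Set.range f)) (y' : Y') :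
    deltaZ Z (f y') ≤ deltaZ (f ⁻¹' Z) y' := by
  refine le_iInf₂ fun k S => ?_
  rw [← delta_mapSys hf hgen S]
  exact deltaZ_le_delta _

end MapSys

end Groth.Agent.Lib.DeltaZ
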