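import Groth.Agent.Lib.DeltaZ

/-!
# The distance function `Algz.deltaZ` and dimension functions (helper59)

`IsDimFn δ` is the condition of `Cyc.IsDimFun` on an arbitrary topological space.  For a T0 space with a
dimension function, `cod w v = δ w - δ v` whenever `cod w v` is finite (`toNat_sub_le_cod`,
`cod_le_toNat_sub`), and `δ y ≤ δ_Z(y) + δ z` for some `z ∈ Z` (`exists_le_add_of_deltaZ_eq`).
-/

set_option autoImplicit false
universe u

open Algz Specialization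

namespace Groth.Agent.Lib.DeltaZ

variable {Y : Type u} [TopologicalSpace Y]

/-- the dimension function condition (same formula as `Cyc.IsDimFun`). -/
def IsDimFn (δ : Y → ℤ) : Prop :=
  ∀ x y : Y, x ⤳ y → x ≠ y →
    δ y < δ x ∧ ((∀ z : Y, x ⤳ z → z ⤳ y → z = x ∨ z = y) → δ x = δ y + 1)

theorem IsDimFn.mono {δ : Y → ℤ} (hδ : IsDimFn δ) {x y : Y} (h : x ⤳ y) : δ y ≤ δ x := by
  by_cases hxy : x = y
  · rw [hxy]
  · exact (hδ x y h hxy).1.le

theorem IsDimFn.strict [T0Space Y] {δ : Y → ℤ} (hδ : IsDimFn δ) {x y : Y} (h : x ⤳ y)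
    (h' : ¬ y ⤳ x) : δ y < δ x := by
  refine (hδ x y h ?_).1
  rintro rfl
  exact h' specializes_rfl

/-- easy direction: `cod w v ≤ δ w - δ v`. -/
theorem cod_le_toNat_sub [T0Space Y] {δ : Y → ℤ} (hδ : IsDimFn δ) {w v : Y} (h : w ⤳ v) :
    cod w v ≤ ((δ w - δ v).toNat : ℕ∞) := by
  rw [cod_eq h, codimPt_eq]
  suffices H : ∀ (m : ℕ) (x : Set.Ici (toEquiv v)), (δ (ofEquiv x.1) - δ v).toNat = m →
      Order.height x ≤ (m : ℕ∞) from H _ (pt w v h) rfl
  intro m
  induction m using Nat.strong_induction_on with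
  | _ m ih =>
    intro x hx
    rw [Order.height_le_coe_iff]
    intro y hy
    have hyv : ofEquiv y.1 ⤳ v := y.2
    have hxy : ofEquiv x.1 ⤳ ofEquiv y.1 := hy.le
    have hnot : ¬ ofEquiv y.1 ⤳ ofEquiv x.1 := fun h' => hy.not_ge h'
    have h1 : δ (ofEquiv y.1) < δ (ofEquiv x.1) := hδ.strict hxy hnot
    have h2 : δ v ≤ δ (ofEquiv y.1) := hδ.mono hyv
    have hlt : (δ (ofEquiv y.1) - δ v).toNat < m := by omega
    exact lt_of_le_of_lt (ih _ hlt y rfl) (by exact_mod_cast hlt)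

/-- hard direction: `δ w - δ v ≤ cod w v` (saturated chains exist when the codimension is finite). -/
theorem toNat_sub_le_cod [T0Space Y] {δ : Y → ℤ} (hδ : IsDimFn δ) {w v : Y} (h : w ⤳ v) :
    ((δ w - δ v).toNat : ℕ∞) ≤ cod w v := by
  rcases eq_or_ne (cod w v) ⊤ with htop | hfin
  · rw [htop]; exact le_top
  obtain ⟨N, hN⟩ := ENat.ne_top_iff_exists.1 hfin
  rw [← hN]
  suffices H : ∀ (N : ℕ) (w : Y) (h : w ⤳ v), cod w v = N → δ w ≤ δ v + N by
    have := H N w h hN.symm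
    exact_mod_cast (by omega : (δ w - δ v).toNat ≤ N)
  clear hN hfin h w N
  intro N
  induction N with
  | zero =>
    intro w h hN
    have : v ⤳ w := specializes_of_cod_eq_zero h (by simpa using hN)
    have : v = w := (this.antisymm h).eq
    subst this
    simp
  | succ N ih =>
    intro w h hN
    rw [cod_eq h, codimPt_eq] at hN
    have hN' : Order.height (pt w v h) = (N : ℕ∞) + 1 := by rw [hN]; push_cast; rfl
    obtain ⟨-, ⟨x', hx'lt, hx'⟩, hall⟩ := Order.height_eq_coe_add_one_iff.1 hN'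
    set x : Y := ofEquiv x'.1 with hx
    have hxv : x ⤳ v := x'.2
    have hwx : w ⤳ x := hx'lt.le
    have hnxw : ¬ x ⤳ w := fun h' => hx'lt.not_ge h'
    have hcodx : cod x v = N := by rw [cod_eq hxv, codimPt_eq]; exact hx'
    have hIH := ih x hxv hcodx
    have hne : w ≠ x := by rintro rfl; exact hnxw specializes_rfl
    have himm : ∀ z : Y, w ⤳ z → z ⤳ x → z = w ∨ z = x := by
      intro z hwz hzx
      by_contra hcon
      rw [not_or] at hcon
      have hzw : ¬ z ⤳ w := fun h' => hcon.1 ((h'.antisymm hwz).eq)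
      have hxz : ¬ x ⤳ z := fun h' => hcon.2 ((hzx.antisymm h').eq)
      have hzv : z ⤳ v := hzx.trans hxv
      have h1 : pt z v hzv < pt w v h := lt_of_le_not_ge hwz hzw
      have h2 : x' < pt z v hzv := lt_of_le_not_ge hzx hxz
      have h3 := hall _ h1
      have h4 := Order.height_add_one_le h2
      rw [hx'] at h4
      have : (N : ℕ∞) + 1 ≤ N := h4.trans h3
      exact absurd this (by exact_mod_cast Nat.not_succ_le_self N)
    have := (hδ w x hwx hne).2 himm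
    push_cast
    omega

theorem sum_telescope {k : ℕ} (a : Fin (k + 1) → ℤ) (b : Fin (k + 1) → ℤ) :
    (∑ i, (b i - a i)) - ∑ i : Fin k, (b i.castSucc - a i.succ) = b (Fin.last k) - a 0 := by
  rw [Finset.sum_sub_distrib, Finset.sum_sub_distrib, Fin.sum_univ_castSucc b, Fin.sum_univ_succ a]
  ring

/-- `δ y ≤ δ_Z(y) + δ z` for some `z ∈ Z`. -/
theorem exists_le_add_of_deltaZ_eq [T0Space Y] {δ : Y → ℤ} (hδ : IsDimFn δ) {Z : Set Y} {y : Y}
    {n : ℕ} (hn : deltaZ Z y = n) : ∃ z ∈ Z, δ y ≤ n + δ z := by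
  have hlt : deltaZ Z y < ((n + 1 : ℕ) : ℕ∞) := by rw [hn]; exact_mod_cast Nat.lt_succ_self n
  unfold deltaZ at hlt
  rw [iInf_lt_iff] at hlt
  obtain ⟨k, hk⟩ := hlt
  rw [iInf_lt_iff] at hk
  obtain ⟨S, hS⟩ := hk
  have hSn : S.delta ≤ (n : ℕ∞) := by
    rw [Nat.cast_add, Nat.cast_one] at hS
    exact Order.le_of_lt_add_one hS
  refine ⟨S.v 0, S.start_mem, ?_⟩
  rw [delta_eq_val] at hSn
  have h1 := (le_val _ _).trans hSn
  set cI : Fin (k + 1) → ℤ := fun i => δ (S.w i) - δ (S.v i) with hcI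
  set bI : Fin k → ℤ := fun i => δ (S.w i.castSucc) - δ (S.v i.succ) with hbI
  have hc0 : ∀ i, 0 ≤ cI i := fun i => sub_nonneg.2 (hδ.mono (S.spec i))
  have hb0 : ∀ i, 0 ≤ bI i := fun i => sub_nonneg.2 (hδ.mono (S.spec_succ i))
  have hA : ((∑ i, (cI i).toNat : ℕ) : ℕ∞) ≤ ∑ i, cod (S.w i) (S.v i) := by
    rw [Nat.cast_sum]
    exact Finset.sum_le_sum fun i _ => toNat_sub_le_cod hδ (S.spec i)
  have hB : (∑ i : Fin k, cod (S.w i.castSucc) (S.v i.succ)) ≤
      ((∑ i, (bI i).toNat : ℕ) : ℕ∞) := by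
    rw [Nat.cast_sum]
    exact Finset.sum_le_sum fun i _ => cod_le_toNat_sub hδ (S.spec_succ i)
  have h2 : ((∑ i, (cI i).toNat : ℕ) : ℕ∞) - ((∑ i, (bI i).toNat : ℕ) : ℕ∞) ≤ n :=
    (tsub_le_tsub hA hB).trans h1
  have h3 : (∑ i, (cI i).toNat) - (∑ i, (bI i).toNat) ≤ n := by
    rw [← ENat.natCast_sub] at h2
    exact_mod_cast h2
  have hsumc : ((∑ i, (cI i).toNat : ℕ) : ℤ) = ∑ i, cI i := by
    rw [Nat.cast_sum]
    exact Finset.sum_congr rfl fun i _ => Int.toNat_of_nonneg (hc0 i)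
  have hsumb : ((∑ i, (bI i).toNat : ℕ) : ℤ) = ∑ i, bI i := by
    rw [Nat.cast_sum]
    exact Finset.sum_congr rfl fun i _ => Int.toNat_of_nonneg (hb0 i)
  have htel := sum_telescope (fun i => δ (S.v i)) (fun i => δ (S.w i))
  rw [S.last_eq] at htel
  have htel' : (∑ i, cI i) - ∑ i, bI i = δ y - δ (S.v 0) := htel
  omega

end Groth.Agent.Lib.DeltaZ
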