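import Groth.Agent.Lib.LocalImmersion
import Mathlib.AlgebraicGeometry.Morphisms.OpenImmersion

/-!
# Separated morphisms which are immersions on a cover by dense opens (helper37)

Generalisation of (part of) `Lib/LocalImmersion` (helper26) from irreducible sources to covers by
dense open subsets: a separated morphism `f : X ⟶ Y` which restricts to a preimmersion on each member
of a cover of `X` by dense opens is injective; if the restrictions are (open) immersions, then so
is `f`.
-/

set_option autoImplicit false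
universe u

namespace Groth.Agent.Lib.DenseCoverImmersion

open AlgebraicGeometry CategoryTheory Limits
open Groth.Agent.Lib.LocalImmersion

variable {X Y : Scheme.{u}}

/-- The inclusion of the intersection of two dense opens in the first one has dense range. -/
lemma denseRange_homOfLE_inf_of_dense (U₁ U₂ : X.Opens) (h₁ : Dense (U₁ : Set X))
    (h₂ : Dense (U₂ : Set X)) :
    DenseRange (X.homOfLE (inf_le_left : U₁ ⊓ U₂ ≤ U₁)) := by
  have hd : Dense ((U₁ ⊓ U₂ : X.Opens) : Set X) := h₁.inter_of_isOpen_left h₂ U₁.2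
  rw [DenseRange, U₁.ι.isEmbedding.isInducing.dense_iff]
  intro x
  have h3 : Set.range (U₁.ι ∘ (X.homOfLE (inf_le_left : U₁ ⊓ U₂ ≤ U₁))) =
      ((U₁ ⊓ U₂ : X.Opens) : Set X) := by
    rw [← Scheme.Opens.range_ι (U₁ ⊓ U₂), ← X.homOfLE_ι (inf_le_left : U₁ ⊓ U₂ ≤ U₁)]
    rfl
  rw [← Set.range_comp, h3, hd.closure_eq]
  exact Set.mem_univ _

set_option backward.isDefEq.respectTransparency false in
/-- A separated morphism which is a preimmersion on each of two dense opens identifies no point
of the first with a different point of the second. -/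
lemma eq_of_apply_eq_of_dense (f : X ⟶ Y) [IsSeparated f] (U₁ U₂ : X.Opens)
    (h₁ : Dense (U₁ : Set X)) (h₂ : Dense (U₂ : Set X))
    (hp₂ : IsPreimmersion (U₂.ι ≫ f))
    {x₁ x₂ : X} (hx₁ : x₁ ∈ U₁) (hx₂ : x₂ ∈ U₂) (hx : f x₁ = f x₂) : x₁ = x₂ := by
  let g₁ : pullback (U₁.ι ≫ f) (U₂.ι ≫ f) ⟶ X := pullback.fst _ _ ≫ U₁.ι
  let g₂ : pullback (U₁.ι ≫ f) (U₂.ι ≫ f) ⟶ X := pullback.snd _ _ ≫ U₂.ι
  have hg : g₁ ≫ f = g₂ ≫ f := by simp [g₁, g₂, pullback.condition]
  let ιW : (U₁ ⊓ U₂).toScheme ⟶ pullback (U₁.ι ≫ f) (U₂.ι ≫ f) :=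
    pullback.lift (X.homOfLE inf_le_left) (X.homOfLE inf_le_right) (by simp)
  have hι : ιW ≫ g₁ = ιW ≫ g₂ := by
    change pullback.lift _ _ _ ≫ pullback.fst _ _ ≫ U₁.ι =
      pullback.lift _ _ _ ≫ pullback.snd _ _ ≫ U₂.ι
    rw [pullback.lift_fst_assoc, pullback.lift_snd_assoc, X.homOfLE_ι, X.homOfLE_ι]
  have hdom : IsDominant ιW := by
    constructor
    have hemb := (pullback.fst (U₁.ι ≫ f) (U₂.ι ≫ f)).isEmbedding
    rw [DenseRange, hemb.isInducing.dense_iff]
    intro t
    have h3 : (pullback.fst (U₁.ι ≫ f) (U₂.ι ≫ f)) '' Set.range ιW =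
        Set.range (X.homOfLE (inf_le_left : U₁ ⊓ U₂ ≤ U₁)) := by
      rw [← Set.range_comp]
      have : ιW ≫ pullback.fst _ _ = X.homOfLE (inf_le_left : U₁ ⊓ U₂ ≤ U₁) :=
        pullback.lift_fst _ _ _
      rw [← this]
      rfl
    rw [h3]
    exact (denseRange_homOfLE_inf_of_dense U₁ U₂ h₁ h₂).closure_eq ▸ Set.mem_univ _
  obtain ⟨t, ht₁, ht₂⟩ := Scheme.Pullback.exists_preimage_pullback
    (f := U₁.ι ≫ f) (g := U₂.ι ≫ f) ⟨x₁, hx₁⟩ ⟨x₂, hx₂⟩ (by simpa using hx)
  have key := apply_eq_of_isDominant_of_isSeparated f hg ιW hι t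
  simpa [g₁, g₂, ht₁, ht₂] using key

/-- A separated morphism which is a preimmersion on each member of a cover by dense opens is
injective. -/
lemma injective_of_dense_cover (f : X ⟶ Y) [IsSeparated f] {ι : Type*} (U : ι → X.Opens)
    (hU : ⨆ i, U i = ⊤) (hd : ∀ i, Dense (U i : Set X))
    (h : ∀ i, IsPreimmersion ((U i).ι ≫ f)) : Function.Injective f := by
  intro x₁ x₂ hx
  have hm : ∀ x : X, ∃ i, x ∈ U i := fun x => by
    have : x ∈ (⨆ i, U i : X.Opens) := by rw [hU]; trivial
    exact TopologicalSpace.Opens.mem_iSup.mp this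
  obtain ⟨i, hi⟩ := hm x₁
  obtain ⟨j, hj⟩ := hm x₂
  exact eq_of_apply_eq_of_dense f (U i) (U j) (hd i) (hd j) (h j) hi hj hx

set_option backward.isDefEq.respectTransparency false in
/-- For an injective morphism, the source of a chart with dense source is the full preimage
of its target. -/
lemma preimage_eq_of_chart_of_dense (f : X ⟶ Y) (hi : Function.Injective f)
    {U : X.Opens} {V : Y.Opens} (h : U ≤ f ⁻¹ᵁ V) (hUd : Dense (U : Set X))
    (hc : IsClosedImmersion (f.resLE V U h)) : f ⁻¹ᵁ V = U := by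
  apply le_antisymm _ h
  intro x' (hx' : f x' ∈ V)
  have hcl : IsClosed (Set.range (f.resLE V U h)) :=
    (f.resLE V U h).isClosedEmbedding.isClosed_range
  have h1 : f x' ∈ closure (f '' (U : Set X)) :=
    image_closure_subset_closure_image f.continuous ⟨x', hUd.closure_eq ▸ Set.mem_univ _, rfl⟩
  rw [← ι_image_range_resLE f h] at h1
  have h2 : (⟨f x', hx'⟩ : V) ∈ closure (Set.range (f.resLE V U h)) := by
    rw [V.ι.isEmbedding.isInducing.closure_eq_preimage_closure_image]
    exact h1
  rw [hcl.closure_eq] at h2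
  obtain ⟨u, hu⟩ := h2
  have h3 : f (U.ι u) = f x' := by
    have := congrArg Subtype.val hu
    rw [Scheme.Hom.coe_resLE_apply] at this
    exact this
  rw [← hi h3]
  exact u.2

set_option backward.isDefEq.respectTransparency false in
/-- A separated morphism which is an immersion on each member of a cover by dense opens is an
immersion. -/
theorem isImmersion_of_dense_cover (f : X ⟶ Y) [IsSeparated f] {ι : Type*} (U : ι → X.Opens)
    (hU : ⨆ i, U i = ⊤) (hd : ∀ i, Dense (U i : Set X))
    (h : ∀ i, IsImmersion ((U i).ι ≫ f)) : IsImmersion f := by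
  have hinj : Function.Injective f :=
    injective_of_dense_cover f U hU hd fun i => inferInstance
  let V : ι → Y.Opens := fun i => ((U i).ι ≫ f).coborderRange
  have hUV : ∀ i, U i ≤ f ⁻¹ᵁ V i := by
    intro i x hx
    have h1 : ((U i).ι ≫ f).liftCoborder ≫ (V i).ι = (U i).ι ≫ f :=
      ((U i).ι ≫ f).liftCoborder_ι
    have h2 := congrArg (fun g : (U i).toScheme ⟶ Y => g ⟨x, hx⟩) h1
    simp only [Scheme.Hom.comp_apply] at h2
    change f x ∈ V i
    have h3 : (U i).ι ⟨x, hx⟩ = x := rfl
    rw [h3] at h2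
    rw [← h2]
    exact (((U i).ι ≫ f).liftCoborder ⟨x, hx⟩).2
  have hres : ∀ i, f.resLE (V i) (U i) (hUV i) = ((U i).ι ≫ f).liftCoborder := by
    intro i
    rw [← cancel_mono (V i).ι, Scheme.Hom.resLE_comp_ι, Scheme.Hom.liftCoborder_ι]
  have hc : ∀ i, IsClosedImmersion (f.resLE (V i) (U i) (hUV i)) := by
    intro i
    rw [hres i]
    infer_instance
  have : MorphismProperty.RespectsRight @IsImmersion @IsOpenImmersion :=
    ⟨fun i hi f hf => by
      have : IsImmersion f := hf
      have : IsOpenImmersion i := hi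
      exact (inferInstance : IsImmersion (f ≫ i))⟩
  apply IsZariskiLocalAtTarget.of_range_subset_iSup (P := @IsImmersion) V
  · rintro _ ⟨x, rfl⟩
    have : x ∈ (⨆ i, U i : X.Opens) := by rw [hU]; trivial
    obtain ⟨i, hi⟩ := TopologicalSpace.Opens.mem_iSup.mp this
    simp only [TopologicalSpace.Opens.coe_iSup, Set.mem_iUnion, SetLike.mem_coe]
    exact ⟨i, hUV i hi⟩
  · intro i
    have hpre := preimage_eq_of_chart_of_dense f hinj (hUV i) (hd i) (hc i)
    have : IsClosedImmersion (f ∣_ V i) := by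
      rw [← Scheme.Hom.resLE_eq_morphismRestrict]
      exact (Scheme.Hom.resLE_congr f (hUV i) rfl hpre.symm @IsClosedImmersion).mp (hc i)
    infer_instance

/-- A separated morphism which is an open immersion on each member of a cover by dense opens is
an open immersion. -/
theorem isOpenImmersion_of_dense_cover (f : X ⟶ Y) [IsSeparated f] {ι : Type*}
    (U : ι → X.Opens) (hU : ⨆ i, U i = ⊤) (hd : ∀ i, Dense (U i : Set X))
    (h : ∀ i, IsOpenImmersion ((U i).ι ≫ f)) : IsOpenImmersion f := by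
  have hinj : Function.Injective f :=
    injective_of_dense_cover f U hU hd fun i => inferInstance
  refine IsOpenImmersion.of_forall_source_exists f hinj fun x => ?_
  have : x ∈ (⨆ i, U i : X.Opens) := by rw [hU]; trivial
  obtain ⟨i, hi⟩ := TopologicalSpace.Opens.mem_iSup.mp this
  exact ⟨(U i).toScheme, (U i).ι, inferInstance, by simpa using hi, h i⟩

end Groth.Agent.Lib.DenseCoverImmersion
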