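import Groth.Agent.Lib.GrpAction

/-!
# The action of a group object on the target of a homomorphism (helper45)

For a homomorphism `f : G ⟶ H` of group objects of `Over S`:
* `viaHom f : AlgGrp.Action G H`, `(g, h) ↦ f(g) * h`;
* `leftMul G : AlgGrp.Action G G`, left multiplication;
* `whiskerLeft_viaHom_act` : `f` is equivariant.
-/

set_option autoImplicit false
universe u

open CategoryTheory MonoidalCategory CartesianMonoidalCategory MonObj AlgebraicGeometry

namespace Groth.Agent.Lib.GrpHomAction45

variable {S : Scheme.{u}} {G H : Over S} [GrpObj G] [GrpObj H]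

/-- `(g, h) ↦ f(g) * h`. -/
noncomputable def viaHom (f : G ⟶ H) [IsMonHom f] : AlgGrp.Action G H where
  act := (fst G H ≫ f) * snd G H
  one_act := by
    rw [MonObj.comp_mul, whiskerRight_fst_assoc, whiskerRight_snd,
      IsMonHom.one_hom, leftUnitor_hom]
    have : fst (𝟙_ (Over S)) H ≫ η[H] = 1 := by
      rw [Hom.one_def, toUnit_unique (fst (𝟙_ (Over S)) H) (toUnit _)]
    rw [this, _root_.one_mul]
  mul_act := by
    rw [MonObj.comp_mul, MonObj.comp_mul, whiskerRight_fst_assoc, whiskerRight_snd]
    simp only [whiskerLeft_fst_assoc, whiskerLeft_snd,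
      associator_hom_fst_assoc, MonObj.comp_mul, associator_hom_snd_fst_assoc,
      associator_hom_snd_snd]
    have : fst (G ⊗ G) H ≫ μ[G] ≫ f =
        (fst (G ⊗ G) H ≫ fst G G ≫ f) * (fst (G ⊗ G) H ≫ snd G G ≫ f) := by
      have h : μ[G] = fst G G * snd G G := by
        rw [Hom.mul_def, lift_fst_snd, Category.id_comp]
      rw [h, MonObj.mul_comp, MonObj.comp_mul]
    rw [this, _root_.mul_assoc]

@[simp]
lemma viaHom_act (f : G ⟶ H) [IsMonHom f] : (viaHom f).act = (fst G H ≫ f) * snd G H := rfl

/-- Left multiplication. -/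
noncomputable def leftMul (G : Over S) [GrpObj G] : AlgGrp.Action G G where
  act := μ[G]
  one_act := MonObj.one_mul G
  mul_act := MonObj.mul_assoc G

lemma leftMul_act : (leftMul G).act = fst G G * snd G G := by
  show μ[G] = _
  rw [Hom.mul_def, lift_fst_snd, Category.id_comp]

/-- A homomorphism is equivariant for left multiplication on the source and the action through
`f` on the target. -/
lemma whiskerLeft_viaHom_act (f : G ⟶ H) [IsMonHom f] :
    (G ◁ f) ≫ (viaHom f).act = (leftMul G).act ≫ f := by
  rw [leftMul_act, viaHom_act, MonObj.comp_mul, MonObj.mul_comp, whiskerLeft_fst_assoc,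
    whiskerLeft_snd]

end Groth.Agent.Lib.GrpHomAction45
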