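import Groth.Agent.Lib.GrpActionShear
import Groth.Agent.Lib.GrpHomAction45
import Groth.Prelude.Def_CInt

set_option autoImplicit false
universe u
open CategoryTheory CategoryTheory.Limits MonoidalCategory CartesianMonoidalCategory MonObj GrpObj
  AlgebraicGeometry

namespace Groth.Agent.Lib.DenseOpenMul45

/-- A schematically dense open is topologically dense. -/
lemma dense_of_isSchematicallyDense {Y : Scheme.{u}} (U : Y.Opens)
    (h : CInt.IsSchematicallyDense U) : Dense (U : Set Y) := by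
  rw [dense_iff_inter_open]
  intro V hV hne
  by_contra hcon
  rw [Set.not_nonempty_iff_eq_empty] at hcon
  let V' : Y.Opens := ⟨V, hV⟩
  have hbot : V' ⊓ U = ⊥ := by
    apply TopologicalSpace.Opens.ext
    exact hcon
  have hinj := h V'
  have : Nonempty V' := hne.to_subtype
  have hnt : Nontrivial Γ(Y, V') := Scheme.component_nontrivial Y V'
  have hss : Subsingleton Γ(Y, V' ⊓ U) := by rw [hbot]; infer_instance
  exact not_subsingleton _ (hinj.subsingleton)

variable {S : Scheme.{u}} {G : Over S} [GrpObj G]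

section pt
variable {X : Over S} (x : X ⟶ G)

/-- `(y, t) ↦ (y⁻¹ * x t, t)` -/
noncomputable def tw : G ⊗ X ⟶ G ⊗ X := lift ((fst G X)⁻¹ * (snd G X ≫ x)) (snd G X)

/-- `(y, t) ↦ (x t * y⁻¹, t)` -/
noncomputable def twInv : G ⊗ X ⟶ G ⊗ X := lift ((snd G X ≫ x) * (fst G X)⁻¹) (snd G X)

lemma tw_twInv : tw x ≫ twInv x = 𝟙 _ := by
  apply CartesianMonoidalCategory.hom_ext
  · simp only [tw, twInv, Category.assoc, lift_fst, Category.id_comp]
    rw [MonObj.comp_mul, GrpObj.comp_inv, ← Category.assoc, lift_snd, lift_fst, _root_.mul_inv_rev,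
      _root_.inv_inv, mul_inv_cancel_left]
  · simp [tw, twInv]

lemma twInv_tw : twInv x ≫ tw x = 𝟙 _ := by
  apply CartesianMonoidalCategory.hom_ext
  · simp only [tw, twInv, Category.assoc, lift_fst, Category.id_comp]
    rw [MonObj.comp_mul, GrpObj.comp_inv, ← Category.assoc, lift_snd, lift_fst, _root_.mul_inv_rev,
      _root_.inv_inv, inv_mul_cancel_right]
  · simp [tw, twInv]

instance : IsIso (tw x) := ⟨twInv x, tw_twInv x, twInv_tw x⟩

instance : IsIso (tw x).left := inferInstanceAs (IsIso ((Over.forget S).map (tw x)))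

/-- `(y, t) ↦ (y, y⁻¹ * x t)` -/
noncomputable def spl : G ⊗ X ⟶ G ⊗ G := lift (fst G X) (tw x ≫ fst G X)

lemma spl_mul : spl x ≫ μ[G] = snd G X ≫ x := by
  have h1 : tw x ≫ fst G X = (fst G X)⁻¹ * (snd G X ≫ x) := lift_fst _ _
  rw [spl, ← Hom.mul_def, h1, mul_inv_cancel_left]

end pt

/-- If `U` is dense in the fibre product `G ×_S Spec κ(x)`, then `x` is a product of two points
of `U`. -/
theorem exists_mul_eq (U : G.left.Opens) (x : G.left)
    (hd : Dense ((pullback.fst G.hom (G.left.fromSpecResidueField x ≫ G.hom) ⁻¹ᵁ U :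
      (pullback G.hom (G.left.fromSpecResidueField x ≫ G.hom)).Opens) :
        Set ↥(pullback G.hom (G.left.fromSpecResidueField x ≫ G.hom)))) :
    ∃ w : (G ⊗ G).left, (fst G G).left w ∈ U ∧ (snd G G).left w ∈ U ∧ μ[G].left w = x := by
  let X : Over S := Over.mk (G.left.fromSpecResidueField x ≫ G.hom)
  let xb : X ⟶ G := Over.homMk (G.left.fromSpecResidueField x) rfl
  let U₁ : (G ⊗ X).left.Opens := (fst G X).left ⁻¹ᵁ U
  have hd1 : Dense (U₁ : Set ↥(G ⊗ X).left) := hd
  let U₂ : (G ⊗ X).left.Opens := (tw xb).left ⁻¹ᵁ U₁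
  have hd2 : Dense (U₂ : Set ↥(G ⊗ X).left) :=
    hd1.preimage (tw xb).left.isOpenEmbedding.isOpenMap
  have hne : Nonempty ↥(G ⊗ X).left := by
    have : Nonempty ↥X.left := inferInstanceAs (Nonempty ↥(Spec (G.left.residueField x)))
    exact ⟨(lift xb (𝟙 X)).left (Classical.arbitrary _)⟩
  obtain ⟨z, hz1, hz2⟩ := hd1.inter_open_nonempty U₂ U₂.isOpen hd2.nonempty
  refine ⟨(spl xb).left z, ?_, ?_, ?_⟩
  · rw [← Scheme.Hom.comp_apply, ← Over.comp_left]
    have : spl xb ≫ fst G G = fst G X := lift_fst _ _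
    rw [this]
    exact hz2
  · rw [← Scheme.Hom.comp_apply, ← Over.comp_left]
    have : spl xb ≫ snd G G = tw xb ≫ fst G X := lift_snd _ _
    rw [this, Over.comp_left, Scheme.Hom.comp_apply]
    exact hz1
  · rw [← Scheme.Hom.comp_apply, ← Over.comp_left, spl_mul, Over.comp_left, Scheme.Hom.comp_apply]
    exact Scheme.fromSpecResidueField_apply _ _

/-- multiplication is flat for a flat group scheme -/
lemma flat_mul [Flat G.hom] : Flat μ[G].left := by
  have h := Groth.Agent.Lib.GrpAction.act_left_eq (Groth.Agent.Lib.GrpHomAction45.leftMul G)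
  have h' : μ[G].left = (Groth.Agent.Lib.GrpAction.shear
      (Groth.Agent.Lib.GrpHomAction45.leftMul G)).left ≫ pullback.snd G.hom G.hom := h
  rw [h']
  infer_instance

/-- Two homomorphisms which agree on a fibrewise dense open of a flat group scheme are equal. -/
theorem hom_ext_of_dense [Flat G.hom] {H : Over S} [GrpObj H] (U : G.left.Opens)
    (hd : ∀ x : G.left, Dense ((pullback.fst G.hom (G.left.fromSpecResidueField x ≫ G.hom) ⁻¹ᵁ U :
      (pullback G.hom (G.left.fromSpecResidueField x ≫ G.hom)).Opens) :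
        Set ↥(pullback G.hom (G.left.fromSpecResidueField x ≫ G.hom))))
    (f g : G ⟶ H) [IsMonHom f] [IsMonHom g] (h : U.ι ≫ f.left = U.ι ≫ g.left) : f = g := by
  let W : (G ⊗ G).left.Opens := (fst G G).left ⁻¹ᵁ U ⊓ (snd G G).left ⁻¹ᵁ U
  have hfl : Flat (W.ι ≫ μ[G].left) := by
    have := flat_mul (G := G)
    infer_instance
  have hsurj : Surjective (W.ι ≫ μ[G].left) := by
    refine ⟨fun x => ?_⟩
    obtain ⟨w, hw1, hw2, hw3⟩ := exists_mul_eq U x (hd x)
    exact ⟨⟨w, ⟨hw1, hw2⟩⟩, hw3⟩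
  have hepi : Epi (W.ι ≫ μ[G].left) := Flat.epi_of_flat_of_surjective _
  -- factor through `U`
  have h1 : W.ι ≫ (fst G G).left ≫ f.left = W.ι ≫ (fst G G).left ≫ g.left := by
    have hle : W ≤ (fst G G).left ⁻¹ᵁ U := inf_le_left
    have : W.ι ≫ (fst G G).left =
        ((fst G G).left.resLE U W hle) ≫ U.ι := by simp
    rw [← Category.assoc, this, Category.assoc, h, ← Category.assoc, ← this, Category.assoc]
  have h2 : W.ι ≫ (snd G G).left ≫ f.left = W.ι ≫ (snd G G).left ≫ g.left := by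
    have hle : W ≤ (snd G G).left ⁻¹ᵁ U := inf_le_right
    have : W.ι ≫ (snd G G).left =
        ((snd G G).left.resLE U W hle) ≫ U.ι := by simp
    rw [← Category.assoc, this, Category.assoc, h, ← Category.assoc, ← this, Category.assoc]
  let W' : Over S := Over.mk (W.ι ≫ (G ⊗ G).hom)
  let jW : W' ⟶ G ⊗ G := Over.homMk W.ι rfl
  have h1' : jW ≫ fst G G ≫ f = jW ≫ fst G G ≫ g := by
    apply Over.OverMorphism.ext
    exact h1
  have h2' : jW ≫ snd G G ≫ f = jW ≫ snd G G ≫ g := by
    apply Over.OverMorphism.ext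
    exact h2
  have hmul : jW ≫ μ[G] ≫ f = jW ≫ μ[G] ≫ g := by
    have hμ : μ[G] = fst G G * snd G G := by
      rw [Hom.mul_def, lift_fst_snd, Category.id_comp]
    have hf : ∀ (φ : G ⟶ H) [IsMonHom φ],
        jW ≫ μ[G] ≫ φ = (jW ≫ fst G G ≫ φ) * (jW ≫ snd G G ≫ φ) := by
      intro φ _
      rw [hμ, MonObj.mul_comp, MonObj.comp_mul]
    rw [hf f, hf g, h1', h2']
  apply Over.OverMorphism.ext
  rw [← cancel_epi (W.ι ≫ μ[G].left)]
  have h3 := congrArg CommaMorphism.left hmul
  simp only [Over.comp_left] at h3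
  rw [Category.assoc, Category.assoc]
  exact h3

end Groth.Agent.Lib.DenseOpenMul45
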