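import Groth.Agent.Lib.CodimZeroNbhd46
import Groth.Agent.Lib.H60FinitePointsAffine
import Groth.Agent.Lib.H86AlgSpOpen
import Groth.Agent.Lib.AlgSpQC
import Groth.Agent.S10196

/-!
# Quotients of quasi-affine charts by finite étale relations are locally affine schemes (helper46)
-/

set_option autoImplicit false
universe u
open CategoryTheory CategoryTheory.Limits AlgebraicGeometry Opposite

namespace Groth.Agent.Lib.FinEtQuot46

open AlgSp Groth.Agent.Lib.AlgSpDecentSpec Groth.Agent.Lib.RelRestrict46
  Groth.Agent.Lib.CodimZeroNbhd46 Groth.Agent.Lib.AlgSpPoints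

variable {S : Scheme.{u}} {U R : Over S} {s t : R ⟶ U}

/-- An étale chart from an affine scheme whose relation is finite has image an affine open
subspace. -/
theorem exists_affine_open_of_affine_chart (X : AlgSp.Space S) [IsAffine U.left]
    (a : (yon S).obj U ⟶ X.obj) (ha : RepWith @Etale a)
    (hR : IsPullback ((yon S).map t) ((yon S).map s) a a) [IsFinite s.left] :
    ∃ (M : Over S) (f : (yon S).obj M ⟶ X.obj), IsAffine M.left ∧ RepWith @IsOpenImmersion f ∧
      Set.range (Points.ofPt a) = Set.range (Points.map f) := by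
  have hopen : IsOpen (Set.range (Points.ofPt a)) :=
    (Groth.Agent.Lib.AlgSpQC.isOpenMap_ofPt_of_repWith_etale ha).isOpen_range
  let X' : AlgSp.Space S :=
    ⟨Groth.Agent.Lib.H86AlgSpOpen.openSub X.obj (Set.range (Points.ofPt a)),
      Groth.Agent.Lib.H86AlgSpOpen.isAlgSpace_openSub X.property hopen⟩
  let jj : X' ⟶ X := ObjectProperty.homMk (Groth.Agent.Lib.H86AlgSpOpen.openSubι X.obj _)
  have hjj : RepWith @IsOpenImmersion jj.hom := Groth.Agent.Lib.H86AlgSpOpen.openSubι_repWith hopen
  have hrange : Set.range (Points.map jj.hom) = Set.range (Points.ofPt a) :=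
    Groth.Agent.Lib.H86AlgSpOpen.range_map_openSubι
  obtain ⟨b', hb'j, hb'e, hb's, hpres⟩ := Groth.Agent.S10196.result a ha jj hjj hrange
  have hP := (hpres R s t hR).isPullback
  obtain ⟨M, e, q, hMaff, -⟩ := exists_iso_of_chart b' hb'e hb's hP
  refine ⟨M, e.hom ≫ jj.hom, hMaff, MorphismProperty.RespectsIso.precomp _ e.hom _ hjj, ?_⟩
  rw [← hrange]
  ext x
  constructor
  · rintro ⟨y, rfl⟩
    refine ⟨Points.map e.inv y, ?_⟩
    rw [← Points.map_comp, ← Category.assoc, e.inv_hom_id, Category.id_comp]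
  · rintro ⟨y, rfl⟩
    exact ⟨Points.map e.hom y, by rw [← Points.map_comp]⟩

/-- A point of an étale chart which embeds into an affine scheme and whose relation is finite has an
affine open neighbourhood in the quotient. -/
theorem exists_affine_open_of_finite_rel (X : AlgSp.Space S)
    (a : (yon S).obj U ⟶ X.obj) (ha : RepWith @Etale a)
    (hR : IsPullback ((yon S).map t) ((yon S).map s) a a) [IsFinite s.left]
    {Y : Scheme.{u}} [IsAffine Y] (i : U.left ⟶ Y) [IsImmersion i] (u : ↥U.left) :
    ∃ (M : Over S) (f : (yon S).obj M ⟶ X.obj), IsAffine M.left ∧ RepWith @IsOpenImmersion f ∧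
      Points.ofPt a u ∈ Set.range (Points.map f) := by
  have h := isEqvRel_of_isPullback hR
  have hse : Etale s.left := ha.property _ _ _ hR
  let G := grpd h
  have : IsFinite G.s := ‹IsFinite s.left›
  have : Etale G.s := hse
  have : Flat G.s := inferInstance
  have : LocallyOfFinitePresentation G.s := inferInstance
  have hGt : G.i ≫ G.s = G.t := G.i_s
  have : IsFinite G.t := by rw [← hGt]; infer_instance
  have : Flat G.t := by rw [← hGt]; infer_instance
  have : LocallyOfFinitePresentation G.t := by rw [← hGt]; infer_instance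
  -- the orbit of `u` is finite, hence contained in an affine open
  have hfib : (G.s ⁻¹' {u}).Finite := G.s.finite_preimage_singleton u
  have horbfin : (G.t '' (G.s ⁻¹' {u})).Finite := hfib.image _
  obtain ⟨V₀, hV₀, hEV₀⟩ :=
    Groth.Agent.Lib.H60FinitePointsAffine.exists_isAffineOpen_of_finite_of_isImmersion i
      (G.t '' (G.s ⁻¹' {u})) horbfin
  have horb : ∀ r : ↥G.R, G.s r = u → G.t r ∈ V₀ := fun r hr => hEV₀ ⟨r, hr, rfl⟩
  obtain ⟨W, hWaff, huW, hWinv⟩ := Groth.Agent.S1881.result S G u V₀ hV₀ horb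
  have hR₂ := isPullback_restrict hR W
  have hfin₂ : IsFinite (sW s t W).left :=
    isFinite_sW (V := ⊤) le_top (inferInstance : IsFinite (G.s ∣_ ⊤)) hWinv
  have ha₂ : RepWith @Etale ((yon S).map (restrictOverι U W) ≫ a) := repWith_etale_restrict a ha W
  have hW' : IsAffine (restrictOver U W).left := hWaff
  obtain ⟨M, f, hM, hf, hrange⟩ := exists_affine_open_of_affine_chart X _ ha₂ hR₂
  refine ⟨M, f, hM, hf, ?_⟩
  rw [← hrange]
  refine ⟨(⟨u, huW⟩ : ↥W), ?_⟩
  rw [ofPt_yon_map_comp]
  rfl

end Groth.Agent.Lib.FinEtQuot46
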