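import Groth.Agent.Lib.RelDegree46
import Groth.Agent.Lib.FinEtQuot46c
import Groth.Agent.Lib.H86ZarGlue
import Groth.Agent.Lib.H86AlgSpSub

/-!
# Dense open subschemes of algebraic spaces with a finite étale cover by a scheme (helper46)
-/

set_option autoImplicit false
universe u
open CategoryTheory CategoryTheory.Limits AlgebraicGeometry Opposite IsLocalRing

namespace Groth.Agent.Lib.DenseOpenSch46

open AlgSp Groth.Agent.Lib.FinEtQuot46 Groth.Agent.Lib.AlgSpDecentSpec
  Groth.Agent.Lib.RelRestrict46 Groth.Agent.Lib.H59GeomPoints Groth.Agent.Lib.H59NGeom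
  Groth.Agent.Lib.RelDegree46 Groth.Agent.Lib.CodimZeroNbhd46 Groth.Agent.Lib.AlgSpPoints

variable {S : Scheme.{u}} {U R : Over S} {s t : R ⟶ U}

/-- Fibres of the restricted source map are finite when those of `s` are. -/
theorem finite_fibre_sW (hfin : ∀ u : ↥U.left, (s.left ⁻¹' {u}).Finite) (V : U.left.Opens)
    (v : ↥(restrictOver U V).left) : ((sW s t V).left ⁻¹' {v}).Finite := by
  refine Set.Finite.of_finite_image (f := (relOpens s t V).ι) ((hfin (V.ι v)).subset ?_)
    (relOpens s t V).ι.isOpenEmbedding.injective.injOn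
  rintro _ ⟨r, hr, rfl⟩
  have : ((sW s t V).left ≫ V.ι) r = ((relOpens s t V).ι ≫ s.left) r := by rw [sW_left_ι]
  simp only [Scheme.Hom.comp_apply] at this
  change s.left ((relOpens s t V).ι r) = V.ι v
  rw [← this]
  exact congrArg V.ι hr

/-- The number of geometric points of the fibres of the restricted relation is bounded by that of
the original relation. -/
theorem fibreIntegral_sW_le [LocallyQuasiFinite s.left] (V : U.left.Opens)
    [LocallyQuasiFinite (sW s t V).left]
    (hfin : ∀ u : ↥U.left, (s.left ⁻¹' {u}).Finite)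
    (v : ↥(restrictOver U V).left) :
    MoreMor.fibreIntegral (sW s t V).left (fun _ => 1) v ≤
      MoreMor.fibreIntegral s.left (fun _ => 1) (V.ι v) := by
  let K := AlgebraicClosure ↑((restrictOver U V).left.residueField v)
  let vb : Spec (.of K) ⟶ (restrictOver U V).left :=
    Spec.map (CommRingCat.ofHom (algebraMap ↑((restrictOver U V).left.residueField v) K)) ≫
      (restrictOver U V).left.fromSpecResidueField v
  have hvb : vb (closedPoint K) = v := by
    change ((restrictOver U V).left.fromSpecResidueField v) _ = v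
    exact (restrictOver U V).left.fromSpecResidueField_apply v _
  have e2 : (vb ≫ V.ι) (closedPoint K) = V.ι v := by
    rw [Scheme.Hom.comp_apply, hvb]
  have hf1 : ((sW s t V).left ⁻¹' {vb (closedPoint K)}).Finite := finite_fibre_sW hfin V _
  have hf2 : (s.left ⁻¹' {(vb ≫ V.ι) (closedPoint K)}).Finite := hfin _
  have : Finite (Lifts s.left K (vb ≫ V.ι)) :=
    finite_lifts s.left (vb ≫ V.ι) hf2 (fun u => finite_residueFieldMap s.left u)
  rw [← e2, fibreIntegral_one_eq_card_lifts s.left K (vb ≫ V.ι) hf2]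
  conv_lhs => rw [← hvb]
  rw [fibreIntegral_one_eq_card_lifts (sW s t V).left K vb hf1]
  let φ : Lifts (sW s t V).left K vb → Lifts s.left K (vb ≫ V.ι) := fun r =>
    ⟨r.1 ≫ (relOpens s t V).ι, by
      rw [Category.assoc, ← sW_left_ι, ← Category.assoc, r.2]⟩
  have hφ : Function.Injective φ := by
    intro r r' hrr
    apply Subtype.ext
    have : r.1 ≫ (relOpens s t V).ι = r'.1 ≫ (relOpens s t V).ι := congrArg Subtype.val hrr
    exact (cancel_mono _).1 this
  exact_mod_cast Nat.card_le_card_of_injective φ hφ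

/-- **Key step.**  Let `a : h_U ⟶ X` be an étale chart whose relation `s, t : R ⟶ U` has `s` finite.
Every nonempty open of `U` contains a point whose image in `X` has an affine open neighbourhood. -/
theorem exists_affine_open_in (X : AlgSp.Space S) (a : (yon S).obj U ⟶ X.obj)
    (ha : RepWith @Etale a) (hR : IsPullback ((yon S).map t) ((yon S).map s) a a)
    [IsFinite s.left] (V₀ : U.left.Opens) (v₀ : ↥U.left) (hv₀ : v₀ ∈ V₀) :
    ∃ (u : ↥U.left) (M : Over S) (f : (yon S).obj M ⟶ X.obj), u ∈ V₀ ∧ IsAffine M.left ∧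
      RepWith @IsOpenImmersion f ∧ Points.ofPt a u ∈ Set.range (Points.map f) := by
  have h := isEqvRel_of_isPullback hR
  have hse : Etale s.left := ha.property _ _ _ hR
  have hlqf : LocallyQuasiFinite s.left := locallyQuasiFinite_of_etale _
  have hfin : ∀ u : ↥U.left, (s.left ⁻¹' {u}).Finite := fun u => s.left.finite_preimage_singleton u
  obtain ⟨V, hVaff, hv₀V, hVV₀⟩ : ∃ V : U.left.Opens, IsAffineOpen V ∧ v₀ ∈ V ∧ V ≤ V₀ := by
    obtain ⟨V, h1, h2, h3⟩ :=
      (TopologicalSpace.Opens.isBasis_iff_nbhd.1 U.left.isBasis_affineOpens) hv₀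
    exact ⟨V, h1, h2, h3⟩
  -- the restricted relation
  have hR₁ := isPullback_restrict hR V
  have ha₁ : RepWith @Etale ((yon S).map (restrictOverι U V) ≫ a) := repWith_etale_restrict a ha V
  have h₁ := isEqvRel_of_isPullback hR₁
  have hge : Etale (sW s t V).left := ha₁.property _ _ _ hR₁
  have hVaff' : IsAffine (restrictOver U V).left := hVaff
  have hgs : IsSeparated (sW s t V).left := isSeparated_s h₁
  have hglqf : LocallyQuasiFinite (sW s t V).left := locallyQuasiFinite_of_etale _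
  have hgfin : ∀ v : ↥(restrictOver U V).left, ((sW s t V).left ⁻¹' {v}).Finite :=
    finite_fibre_sW hfin V
  -- the number of geometric points is bounded
  have hbdd : ∃ C : ℤ, ∀ v : ↥(restrictOver U V).left,
      MoreMor.fibreIntegral (sW s t V).left (fun _ => 1) v ≤ C := by
    have hlc : IsLocallyConstant (fun v : ↥(restrictOver U V).left => s.left.finrank (V.ι v)) :=
      (Scheme.Hom.isLocallyConstant_finrank s.left).comp_continuous V.ι.continuous
    have : CompactSpace ↥(restrictOver U V).left := inferInstance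
    obtain ⟨C, hC⟩ := hlc.range_finite.bddAbove
    refine ⟨(C : ℤ), fun v => (fibreIntegral_sW_le V hfin v).trans ?_⟩
    rw [fibreIntegral_one_eq_finrank]
    exact_mod_cast hC ⟨v, rfl⟩
  obtain ⟨d, ⟨vd, hvd⟩, hmax⟩ := Int.exists_greatest_of_bdd
    (P := fun z => ∃ v : ↥(restrictOver U V).left,
      MoreMor.fibreIntegral (sW s t V).left (fun _ => 1) v = z)
    (by obtain ⟨C, hC⟩ := hbdd; exact ⟨C, fun z ⟨v, hv⟩ => hv ▸ hC v⟩)
    ⟨_, ⟨(⟨v₀, hv₀V⟩ : ↥V), rfl⟩⟩
  have hmax' : ∀ v : ↥(restrictOver U V).left,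
      MoreMor.fibreIntegral (sW s t V).left (fun _ => 1) v ≤ d := fun v => hmax _ ⟨v, rfl⟩
  obtain ⟨hYd, hfinYd⟩ := Groth.Agent.S1428.result (sW s t V).left hgfin (fun _ => 1)
    (isWeighting_one_of_etale _) (fun _ => one_pos) d hmax' ⟨vd, hvd⟩
  obtain ⟨Vd, hVdmem, hfinVd⟩ : ∃ Vd : (restrictOver U V).left.Opens,
      (∀ y, y ∈ Vd ↔ MoreMor.fibreIntegral (sW s t V).left (fun _ => 1) y = d) ∧
        IsFinite ((sW s t V).left ∣_ Vd) := ⟨⟨_, hYd⟩, fun y => Iff.rfl, hfinYd⟩
  -- the locus of maximal degree is invariant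
  have hinv : (sW s t V).left ⁻¹ᵁ Vd = (tW s t V).left ⁻¹ᵁ Vd := by
    ext r
    change (sW s t V).left r ∈ Vd ↔ (tW s t V).left r ∈ Vd
    rw [hVdmem, hVdmem, fibreIntegral_one_eq_of_rel h₁ hgfin r]
  -- second restriction
  have hR₂ := isPullback_restrict hR₁ Vd
  have hfin₂ := isFinite_sW (s := sW s t V) (t := tW s t V) le_rfl hfinVd hinv
  have ha₂ := repWith_etale_restrict _ ha₁ Vd
  obtain ⟨M, f, hM, hf, hmem⟩ := exists_affine_open_of_finite_rel X _ ha₂ hR₂
    Vd.ι ⟨vd, (hVdmem vd).2 hvd⟩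
  refine ⟨V.ι vd, M, f, hVV₀ vd.2, hM, hf, ?_⟩
  rw [ofPt_yon_map_comp, ofPt_yon_map_comp] at hmem
  exact hmem

/-- Assembling a dense open subscheme from affine open neighbourhoods of a dense set of points. -/
theorem exists_dense_open_subscheme (X : AlgSp.Space S) (a : (yon S).obj U ⟶ X.obj)
    (hsurj : Function.Surjective (Points.ofPt a))
    (key : ∀ (V₀ : U.left.Opens) (v₀ : ↥U.left), v₀ ∈ V₀ →
      ∃ (u : ↥U.left) (M : Over S) (f : (yon S).obj M ⟶ X.obj), u ∈ V₀ ∧ IsAffine M.left ∧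
        RepWith @IsOpenImmersion f ∧ Points.ofPt a u ∈ Set.range (Points.map f)) :
    ∃ (X' : AlgSp.Space S) (j : X' ⟶ X), RepWith @IsOpenImmersion j.hom ∧
      X'.obj.obj.IsRepresentable ∧ Dense (Set.range (Points.map j.hom)) := by
  let ι : Type u := {u : ↥U.left // ∃ (M : Over S) (f : (yon S).obj M ⟶ X.obj), IsAffine M.left ∧
    RepWith @IsOpenImmersion f ∧ Points.ofPt a u ∈ Set.range (Points.map f)}
  have hι : ∀ i : ι, ∃ (M : Over S) (f : (yon S).obj M ⟶ X.obj), IsAffine M.left ∧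
    RepWith @IsOpenImmersion f ∧ Points.ofPt a i.1 ∈ Set.range (Points.map f) := fun i => i.2
  choose M f hM hf hmem using hι
  have hopen : ∀ i, IsOpen (Set.range (Points.map (f i))) := by
    intro i
    rw [Groth.Agent.Lib.H86AlgSpOpen.range_map_eq_range_ofPt]
    have he : RepWith @Etale (f i) :=
      Groth.Agent.Lib.H69AlgSp.repWith_mono
        (fun _ _ g (_ : IsOpenImmersion g) => (inferInstance : Etale g)) (hf i)
    exact (Groth.Agent.Lib.AlgSpQC.isOpenMap_ofPt_of_repWith_etale he).isOpen_range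
  have hΩ : IsOpen (⋃ i, Set.range (Points.map (f i))) := isOpen_iUnion hopen
  let X' : AlgSp.Space S :=
    ⟨Groth.Agent.Lib.H86AlgSpOpen.openSub X.obj (⋃ i, Set.range (Points.map (f i))),
      Groth.Agent.Lib.H86AlgSpOpen.isAlgSpace_openSub X.property hΩ⟩
  let j : X' ⟶ X := ObjectProperty.homMk (Groth.Agent.Lib.H86AlgSpOpen.openSubι X.obj _)
  have hj : RepWith @IsOpenImmersion j.hom := Groth.Agent.Lib.H86AlgSpOpen.openSubι_repWith hΩ
  have hrange : Set.range (Points.map j.hom) = ⋃ i, Set.range (Points.map (f i)) :=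
    Groth.Agent.Lib.H86AlgSpOpen.range_map_openSubι
  have hmono : Mono j.hom := Groth.Agent.Lib.H86AlgSpOpen.openSubι_mono
  have hfac : ∀ i, ∃ g : (yon S).obj (M i) ⟶ X'.obj, g ≫ j.hom = f i := fun i =>
    Groth.Agent.Lib.H86AlgSpSub.exists_factor_of_range_subset hj (f i) (by
      rw [hrange]
      exact Set.subset_iUnion (fun i => Set.range (Points.map (f i))) i)
  choose g hg using hfac
  have hgo : ∀ i, RepWith @IsOpenImmersion (g i) := fun i =>
    Groth.Agent.Lib.H86AlgSpOpen.repWith_of_comp_mono j.hom (by rw [hg i]; exact hf i)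
  have hcov : ∀ y : Points X'.obj, ∃ i, y ∈ Set.range (Points.map (g i)) := by
    intro y
    have hy : Points.map j.hom y ∈ ⋃ i, Set.range (Points.map (f i)) := by
      rw [← hrange]
      exact ⟨y, rfl⟩
    obtain ⟨i, z, hz⟩ := Set.mem_iUnion.1 hy
    refine ⟨i, z, ?_⟩
    apply Groth.Agent.Lib.H86AlgSpOpen.map_injective_of_mono j.hom
    rw [← Points.map_comp, hg i, hz]
  refine ⟨X', j, hj, Groth.Agent.Lib.H86ZarGlue.isRepresentable_of_openCover g hgo hcov, ?_⟩
  rw [hrange, dense_iff_inter_open]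
  intro O hO hne
  obtain ⟨x, hx⟩ := hne
  obtain ⟨v₀, rfl⟩ := hsurj x
  obtain ⟨u, M', f', huV, hM', hf', hmem'⟩ :=
    key ⟨Points.ofPt a ⁻¹' O, (Points.continuous_ofPt a).isOpen_preimage _ hO⟩ v₀ hx
  let i : ι := ⟨u, M', f', hM', hf', hmem'⟩
  exact ⟨Points.ofPt a u, huV, Set.mem_iUnion.2 ⟨i, hmem i⟩⟩

end Groth.Agent.Lib.DenseOpenSch46
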