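import Mathlib

/-!
# Dense subrings of local rings (helper89)

`A` a local ring whose maximal ideal is generated by a family `y`, `E` a subring containing the
`y i` and surjecting onto the residue field. Then `E` is dense: `A = E + m ^ n` for all `n`.
Consequently, if an automorphism-like pair of ring maps into a Hausdorff quotient agree on `E`,
they agree.
-/

set_option autoImplicit false

namespace Groth.Agent.Lib.DenseSubring89

open IsLocalRing

variable {A : Type*} [CommRing A] [IsLocalRing A] {ι : Type*} (y : ι → A)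
  (hy : Ideal.span (Set.range y) = maximalIdeal A) (E : Subring A) (hyE : ∀ i, y i ∈ E)
  (hres : ∀ a : A, ∃ e ∈ E, a - e ∈ maximalIdeal A)

include hy hyE hres

theorem exists_step (n : ℕ) : ∀ a ∈ maximalIdeal A ^ n,
    ∃ e ∈ E, e ∈ maximalIdeal A ^ n ∧ a - e ∈ maximalIdeal A ^ (n + 1) := by
  classical
  induction n with
  | zero =>
    intro a _
    obtain ⟨e, he, hae⟩ := hres a
    refine ⟨e, he, by simp, by simpa using hae⟩
  | succ n ih =>
    intro a ha
    have h1 : maximalIdeal A ^ (n + 1) = maximalIdeal A ^ n • Submodule.span A (Set.range y) := by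
      rw [pow_succ, smul_eq_mul]
      congr 1
      exact hy.symm
    rw [h1, Submodule.mem_ideal_smul_span_iff_exists_sum] at ha
    obtain ⟨c, hc, hca⟩ := ha
    choose e he hen her using fun i => ih (c i) (hc i)
    refine ⟨c.sum fun i _ => e i * y i, ?_, ?_, ?_⟩
    · exact Subring.sum_mem _ fun i _ => Subring.mul_mem _ (he i) (hyE i)
    · refine Ideal.sum_mem _ fun i _ => ?_
      rw [pow_succ]
      refine Ideal.mul_mem_mul (hen i) ?_
      rw [← hy]
      exact Ideal.subset_span ⟨i, rfl⟩
    · rw [← hca, Finsupp.sum, Finsupp.sum, ← Finset.sum_sub_distrib]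
      refine Ideal.sum_mem _ fun i _ => ?_
      rw [smul_eq_mul, ← sub_mul, pow_succ]
      refine Ideal.mul_mem_mul (her i) ?_
      rw [← hy]
      exact Ideal.subset_span ⟨i, rfl⟩

theorem exists_approx (n : ℕ) (a : A) : ∃ e ∈ E, a - e ∈ maximalIdeal A ^ n := by
  induction n with
  | zero => exact ⟨0, E.zero_mem, by simp⟩
  | succ n ih =>
    obtain ⟨e, he, hr⟩ := ih
    obtain ⟨e', he', -, hr'⟩ := exists_step y hy E hyE hres n (a - e) hr
    refine ⟨e + e', E.add_mem he he', ?_⟩
    have : a - (e + e') = a - e - e' := by ring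
    rw [this]
    exact hr'

end Groth.Agent.Lib.DenseSubring89
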