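import Groth.Agent.Lib.H8CM10
import Mathlib.RingTheory.Localization.Module

/-!
# Depth and localization for modules, universe-polymorphic versions (helper8)
-/

set_option autoImplicit false
set_option linter.unusedSectionVars false
universe u v w

namespace Groth.Agent.Lib.H8CM

open RingTheory.Sequence IsLocalRing Pointwise Module Groth.Agent.Lib.DepthBasic
  Groth.Agent.Lib.DepthRees LocCoh

variable {A : Type u} [CommRing A] [IsNoetherianRing A]
  {M : Type v} [AddCommGroup M] [Module A M] [Module.Finite A M]

/-- A weakly regular sequence on `M` inside a prime `p` bounds `depth M_p` from below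
(universe-polymorphic version). -/
theorem length_le_depth_localizedModule' (p : Ideal A) [p.IsPrime] {rs : List A}
    (hreg : IsWeaklyRegular M rs) (hmem : ∀ r ∈ rs, r ∈ p) :
    (rs.length : ℕ∞) ≤ depth (Localization.AtPrime p) (LocalizedModule p.primeCompl M) := by
  rcases subsingleton_or_nontrivial (LocalizedModule p.primeCompl M) with h | h
  · rw [depth_eq_top_of_subsingleton]; exact le_top
  rw [natCast_le_depth_iff]
  refine ⟨rs.map (algebraMap A (Localization.AtPrime p)), by simp, ?_,
    hreg.of_isLocalizedModule (Localization.AtPrime p) p.primeCompl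
      (LocalizedModule.mkLinearMap p.primeCompl M)⟩
  intro r hr
  obtain ⟨r0, hr0, rfl⟩ := List.mem_map.mp hr
  exact (IsLocalization.AtPrime.to_map_mem_maximal_iff _ p _).mpr (hmem r0 hr0)

/-- The depth of the localization only depends on the isomorphism class. -/
theorem depth_localizedModule_congr {M' : Type w} [AddCommGroup M'] [Module A M']
    (e : M' ≃ₗ[A] M) (p : Ideal A) [p.IsPrime] :
    depth (Localization.AtPrime p) (LocalizedModule p.primeCompl M') =
      depth (Localization.AtPrime p) (LocalizedModule p.primeCompl M) :=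
  depth_eq_of_equiv (IsLocalizedModule.mapEquiv p.primeCompl
    (LocalizedModule.mkLinearMap p.primeCompl M') (LocalizedModule.mkLinearMap p.primeCompl M)
    (Localization.AtPrime p) e)

/-- A finite module is isomorphic to one in the universe of the ring. -/
theorem exists_small_model (A : Type u) [CommRing A] (M : Type v) [AddCommGroup M] [Module A M]
    [Module.Finite A M] :
    ∃ (M' : Type u) (_ : AddCommGroup M') (_ : Module A M') (_ : Module.Finite A M'),
      Nonempty (M' ≃ₗ[A] M) := by
  obtain ⟨k, f, hf⟩ := Module.Finite.exists_fin' A M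
  exact ⟨(Fin k → A) ⧸ LinearMap.ker f, inferInstance, inferInstance, inferInstance,
    ⟨f.quotKerEquivOfSurjective hf⟩⟩

/-- If `IM ≠ M` and `depth(I, M) = n` is finite, there is a prime `p ⊇ I` with `depth M_p = n`
(universe-polymorphic version). -/
theorem exists_prime_depth_localizedModule_eq' (I : Ideal A) (hI : I • (⊤ : Submodule A M) ≠ ⊤)
    (n : ℕ) (hn : idealDepth I M = n) :
    ∃ p : Ideal A, ∃ _ : p.IsPrime, I ≤ p ∧
      depth (Localization.AtPrime p) (LocalizedModule p.primeCompl M) = n := by
  obtain ⟨M', _, _, _, ⟨e⟩⟩ := exists_small_model A M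
  have hI' : I • (⊤ : Submodule A M') ≠ ⊤ :=
    fun h ↦ hI ((smul_top_eq_top_iff_of_equiv I e).mpr h)
  have hn' : idealDepth I M' = n := by rw [idealDepth_eq_of_equiv I e, hn]
  obtain ⟨p, hp, hIp, hd⟩ := exists_prime_depth_localizedModule_eq I hI' n hn'
  exact ⟨p, hp, hIp, by rw [← depth_localizedModule_congr e p, hd]⟩

/-- If `a` acts as the identity on `M`, then `[a, a, …, a]` is weakly regular on `M`. -/
theorem isWeaklyRegular_replicate_of_smul_eq (a : A) (k : ℕ) :
    ∀ (M : Type v) [AddCommGroup M] [Module A M], (∀ m : M, a • m = m) →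
      IsWeaklyRegular M (List.replicate k a) := by
  induction k with
  | zero => intro M _ _ _; exact IsWeaklyRegular.nil A M
  | succ k ih =>
    intro M _ _ h
    rw [List.replicate_succ, isWeaklyRegular_cons_iff]
    refine ⟨fun m n hmn ↦ by simpa [h] using hmn, ih _ ?_⟩
    intro m
    obtain ⟨m, rfl⟩ := Submodule.mkQ_surjective _ m
    rw [← map_smul, h]

/-- **`depth M_p ≥ r` for all `p ⊇ I` iff `I` contains an `M`-regular sequence of length `r`.** -/
theorem forall_le_depth_localizedModule_iff (I : Ideal A) (r : ℕ) :
    (∀ (p : Ideal A) [p.IsPrime], I ≤ p →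
        (r : ℕ∞) ≤ depth (Localization.AtPrime p) (LocalizedModule p.primeCompl M)) ↔
      ∃ fs : List A, fs.length = r ∧ (∀ f ∈ fs, f ∈ I) ∧ IsWeaklyRegular M fs := by
  constructor
  · intro h
    by_cases hI : I • (⊤ : Submodule A M) = ⊤
    · obtain ⟨r0, hr0, hkill⟩ := Submodule.exists_sub_one_mem_and_smul_eq_zero_of_fg_of_le_smul I
        (⊤ : Submodule A M) Module.Finite.fg_top hI.ge
      refine ⟨List.replicate r (1 - r0), by simp, ?_, ?_⟩
      · intro f hf
        rw [List.eq_of_mem_replicate hf]
        have : 1 - r0 = -(r0 - 1) := by ring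
        rw [this]
        exact I.neg_mem hr0
      · apply isWeaklyRegular_replicate_of_smul_eq
        intro m
        rw [sub_smul, one_smul, hkill m Submodule.mem_top, sub_zero]
    · by_cases hle : (r : ℕ∞) ≤ idealDepth I M
      · exact (natCast_le_idealDepth_iff I M hI r).mp hle
      · exfalso
        rw [not_le] at hle
        obtain ⟨n, hn⟩ := ENat.ne_top_iff_exists.mp (ne_top_of_lt hle)
        obtain ⟨p, hp, hIp, hd⟩ := exists_prime_depth_localizedModule_eq' I hI n hn.symm
        have := h p hIp
        rw [hd, hn] at this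
        exact absurd this (not_le.mpr hle)
  · rintro ⟨fs, rfl, hmem, hreg⟩ p _ hIp
    exact length_le_depth_localizedModule' p hreg (fun f hf ↦ hIp (hmem f hf))

end Groth.Agent.Lib.H8CM
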