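import Groth.Prelude.Def_CAlg
import Groth.Agent.Lib.DepthRees
import Groth.Agent.Lib.SerreSk
import Mathlib.RingTheory.Flat.Basic
import Mathlib.RingTheory.Flat.Stability
import Mathlib.LinearAlgebra.TensorProduct.Quotient
import Mathlib.LinearAlgebra.TensorProduct.RightExactness
import Mathlib.LinearAlgebra.TensorProduct.Tower
import Mathlib.LinearAlgebra.TensorProduct.Pi
import Mathlib.RingTheory.TensorProduct.Finite
import Mathlib.RingTheory.Filtration
import Mathlib.RingTheory.Regular.RegularSequence
import Mathlib.RingTheory.Regular.IsSMulRegular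
import Mathlib.RingTheory.Ideal.AssociatedPrime.Basic
import Mathlib.Tactic

/-!
# Depth along flat local homomorphisms (helper33)

`R → S` a local homomorphism of Noetherian local rings, `M` a finite `R`-module, `N` a finite
`S`-module which is flat over `R`.  Main result (Stacks 0337, Bruns–Herzog 1.2.16):

`depth_S (N ⊗_R M) = depth_R M + depth_S (N / 𝔪_R N)`.

Depth is the prelude's `LocCoh.depth` (supremum of lengths of weakly regular sequences).
-/

set_option autoImplicit false
universe u v w

namespace Groth.Agent.Lib.DepthFlat33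

open RingTheory.Sequence IsLocalRing Groth.Agent.Lib TensorProduct
open scoped Pointwise

section Congr

variable {R : Type u} [CommRing R]

/-- Ideal-depth is invariant under linear equivalence. -/
lemma idealDepth_congr {M : Type v} {M' : Type w} [AddCommGroup M] [Module R M]
    [AddCommGroup M'] [Module R M'] (e : M ≃ₗ[R] M') (I : Ideal R) :
    LocCoh.idealDepth I M = LocCoh.idealDepth I M' := by
  have htop : I • (⊤ : Submodule R M) = ⊤ ↔ I • (⊤ : Submodule R M') = ⊤ := by
    have h1 : (I • (⊤ : Submodule R M)).map (e : M →ₗ[R] M') = I • (⊤ : Submodule R M') := by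
      rw [Submodule.map_smul'', Submodule.map_top, LinearMap.range_eq_top.mpr e.surjective]
    constructor
    · intro h
      rw [← h1, h, Submodule.map_top, LinearMap.range_eq_top.mpr e.surjective]
    · intro h
      rw [← h1] at h
      have := congrArg (Submodule.comap (e : M →ₗ[R] M')) h
      rwa [Submodule.comap_map_eq_of_injective e.injective, Submodule.comap_top] at this
  unfold LocCoh.idealDepth
  by_cases h : I • (⊤ : Submodule R M) = ⊤
  · rw [if_pos h, if_pos (htop.mp h)]
  · rw [if_neg h, if_neg (fun h' => h (htop.mpr h'))]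
    simp only [e.isWeaklyRegular_congr]

/-- Depth is invariant under linear equivalence. -/
lemma depth_congr [IsLocalRing R] {M : Type v} {M' : Type w} [AddCommGroup M] [Module R M]
    [AddCommGroup M'] [Module R M'] (e : M ≃ₗ[R] M') :
    LocCoh.depth R M = LocCoh.depth R M' :=
  idealDepth_congr e _

/-- The depth of the zero module is `⊤`. -/
lemma depth_eq_top_of_subsingleton [IsLocalRing R] (M : Type v) [AddCommGroup M] [Module R M]
    [Subsingleton M] : LocCoh.depth R M = ⊤ := by
  unfold LocCoh.depth LocCoh.idealDepth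
  rw [if_pos (Subsingleton.elim _ _)]

/-- Rees: depth drops by one modulo a regular element of the maximal ideal (no nontriviality
assumption). -/
theorem depth_quotSMulTop_add_one' [IsLocalRing R] [IsNoetherianRing R]
    (M : Type u) [AddCommGroup M] [Module R M] [Module.Finite R M]
    {x : R} (hxm : x ∈ maximalIdeal R) (hx : IsSMulRegular M x) :
    LocCoh.depth R (QuotSMulTop x M) + 1 = LocCoh.depth R M := by
  rcases subsingleton_or_nontrivial M with h | h
  · rw [depth_eq_top_of_subsingleton, depth_eq_top_of_subsingleton]; rfl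
  · exact DepthRees.depth_quotSMulTop_add_one M hxm hx

/-- Over a Noetherian local ring, a nontrivial finite module has depth zero iff the maximal ideal
is an associated prime. -/
lemma depth_eq_zero_iff [IsLocalRing R] [IsNoetherianRing R]
    (N : Type v) [AddCommGroup N] [Module R N] [Module.Finite R N] [Nontrivial N] :
    LocCoh.depth R N = 0 ↔ maximalIdeal R ∈ associatedPrimes R N := by
  rw [SerreSk.maximalIdeal_mem_associatedPrimes_iff]
  constructor
  · intro h; rw [h]; simp
  · intro h
    by_contra h0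
    exact h (Order.one_le_iff_ne_zero.mpr h0)

end Congr

section Tensor

variable {R S : Type u} [CommRing R] [CommRing S] [Algebra R S]
variable (M : Type u) [AddCommGroup M] [Module R M]
variable (N : Type u) [AddCommGroup N] [Module S N] [Module R N] [IsScalarTower R S N]

/-- `N ⊗_R M` is a finite `S`-module when `N` is finite over `S` and `M` is finite over `R`. -/
lemma finite_tensor [Module.Finite R M] [Module.Finite S N] : Module.Finite S (N ⊗[R] M) :=
  Module.Finite.equiv (AlgebraTensorModule.cancelBaseChange R S S N M)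

variable {M}

/-- The action of `algebraMap R S x` on `N ⊗_R M` is `id ⊗ x`. -/
lemma algebraMap_smul_eq_lTensor (x : R) (z : N ⊗[R] M) :
    (algebraMap R S x) • z = LinearMap.lTensor N (x • (LinearMap.id : M →ₗ[R] M)) z := by
  induction z with
  | zero => simp
  | tmul n m =>
    rw [algebraMap_smul, LinearMap.lTensor_tmul, LinearMap.smul_apply, LinearMap.id_apply,
      tmul_smul]
  | add a b ha hb => rw [smul_add, map_add, ha, hb]

variable (R) in
/-- Multiplication by `y : S` on `N`, as an `R`-linear map. -/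
def mulR (y : S) : N →ₗ[R] N := (LinearMap.lsmul S N y).restrictScalars R

@[simp] lemma mulR_apply (y : S) (n : N) : mulR R N y n = y • n := rfl

/-- The action of `y : S` on `N ⊗_R M` is `(y •) ⊗ id`. -/
lemma smul_eq_rTensor (y : S) (z : N ⊗[R] M) :
    y • z = LinearMap.rTensor M (mulR R N y) z := by
  induction z with
  | zero => simp
  | tmul n m => rw [smul_tmul', LinearMap.rTensor_tmul, mulR_apply]
  | add a b ha hb => rw [smul_add, map_add, ha, hb]

variable {N}

/-- Regular elements of `R` on `M` stay regular on `N ⊗_R M` when `N` is `R`-flat. -/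
lemma isSMulRegular_algebraMap_tensor [Module.Flat R N] {x : R} (hx : IsSMulRegular M x) :
    IsSMulRegular (N ⊗[R] M) (algebraMap R S x) := by
  have h : Function.Injective (LinearMap.lTensor N (x • (LinearMap.id : M →ₗ[R] M))) :=
    Module.Flat.lTensor_preserves_injective_linearMap _ (fun a b h => hx h)
  intro a b hab
  apply h
  rw [← algebraMap_smul_eq_lTensor (S := S) N x a, ← algebraMap_smul_eq_lTensor (S := S) N x b]
  exact hab

variable (N) in
/-- `(N ⊗_R M)/x(N ⊗_R M) ≃ N ⊗_R (M/xM)`, `S`-linearly. -/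
noncomputable def quotSMulTopTensorEquiv (x : R) :
    QuotSMulTop (algebraMap R S x) (N ⊗[R] M) ≃ₗ[S] N ⊗[R] QuotSMulTop x M := by
  let f : N ⊗[R] M →ₗ[S] N ⊗[R] QuotSMulTop x M :=
    AlgebraTensorModule.lTensor S N (Submodule.mkQ (x • (⊤ : Submodule R M)))
  have hf : Function.Surjective f :=
    LinearMap.lTensor_surjective N (Submodule.mkQ_surjective _)
  have hex : Function.Exact (x • (LinearMap.id : M →ₗ[R] M))
      (Submodule.mkQ (x • (⊤ : Submodule R M))) := by
    intro m
    rw [Submodule.mkQ_apply, Submodule.Quotient.mk_eq_zero,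
      Submodule.mem_smul_pointwise_iff_exists]
    constructor
    · rintro ⟨m', -, rfl⟩; exact ⟨m', rfl⟩
    · rintro ⟨m', rfl⟩; exact ⟨m', trivial, rfl⟩
  have hker : LinearMap.ker f = (algebraMap R S x) • (⊤ : Submodule S (N ⊗[R] M)) := by
    ext z
    have h1 := lTensor_exact N hex (Submodule.mkQ_surjective _) z
    rw [LinearMap.mem_ker, Submodule.mem_smul_pointwise_iff_exists]
    change LinearMap.lTensor N _ z = 0 ↔ _
    rw [h1]
    constructor
    · rintro ⟨w, rfl⟩
      exact ⟨w, trivial, algebraMap_smul_eq_lTensor N x w⟩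
    · rintro ⟨w, -, rfl⟩
      exact ⟨w, (algebraMap_smul_eq_lTensor N x w).symm⟩
  exact (Submodule.quotEquivOfEq _ _ hker.symm).trans (f.quotKerEquivOfSurjective hf)

variable (R N) in
/-- The quotient map `N → N/yN`, as an `R`-linear map. -/
def mkQR (y : S) : N →ₗ[R] QuotSMulTop y N :=
  (Submodule.mkQ (y • (⊤ : Submodule S N))).restrictScalars R

variable (R N) in
lemma mkQR_surjective (y : S) : Function.Surjective (mkQR R N y) :=
  Submodule.mkQ_surjective (y • (⊤ : Submodule S N))

variable (R N) in
lemma exact_mulR_mkQR (y : S) : Function.Exact (mulR R N y) (mkQR R N y) := by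
  intro n
  change Submodule.mkQ (y • (⊤ : Submodule S N)) n = 0 ↔ _
  rw [Submodule.mkQ_apply, Submodule.Quotient.mk_eq_zero,
    Submodule.mem_smul_pointwise_iff_exists]
  constructor
  · rintro ⟨n', -, rfl⟩; exact ⟨n', rfl⟩
  · rintro ⟨n', rfl⟩; exact ⟨n', trivial, rfl⟩

variable (R M N) in
/-- The `S`-linear map `N ⊗_R M → (N/yN) ⊗_R M`. -/
noncomputable def rTensorMkQ (y : S) : N ⊗[R] M →ₗ[S] (QuotSMulTop y N) ⊗[R] M :=
  AlgebraTensorModule.rTensor R M (Submodule.mkQ (y • (⊤ : Submodule S N)))

lemma rTensorMkQ_apply (y : S) (z : N ⊗[R] M) :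
    rTensorMkQ R M N y z = LinearMap.rTensor M (mkQR R N y) z := rfl

lemma rTensorMkQ_surjective (y : S) : Function.Surjective (rTensorMkQ R M N y) := by
  intro z
  obtain ⟨w, hw⟩ := LinearMap.rTensor_surjective M (mkQR_surjective R N y) z
  exact ⟨w, hw⟩

lemma ker_rTensorMkQ (y : S) :
    LinearMap.ker (rTensorMkQ R M N y) = y • (⊤ : Submodule S (N ⊗[R] M)) := by
  ext z
  have h1 := rTensor_exact M (exact_mulR_mkQR R N y) (mkQR_surjective R N y) z
  rw [LinearMap.mem_ker, Submodule.mem_smul_pointwise_iff_exists, rTensorMkQ_apply, h1]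
  constructor
  · rintro ⟨w, rfl⟩
    exact ⟨w, trivial, smul_eq_rTensor N y w⟩
  · rintro ⟨w, -, rfl⟩
    exact ⟨w, (smul_eq_rTensor N y w).symm⟩

variable (M N) in
/-- `(N ⊗_R M)/y(N ⊗_R M) ≃ (N/yN) ⊗_R M`, `S`-linearly. -/
noncomputable def quotSMulTopTensorEquiv' (y : S) :
    QuotSMulTop y (N ⊗[R] M) ≃ₗ[S] (QuotSMulTop y N) ⊗[R] M :=
  (Submodule.quotEquivOfEq _ _ (ker_rTensorMkQ (R := R) (M := M) (N := N) y).symm).trans
    ((rTensorMkQ R M N y).quotKerEquivOfSurjective (rTensorMkQ_surjective (R := R) (M := M) (N := N) y))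

variable (N) in
/-- The fibre `N ⊗_R R/I` is `N / I N`, `S`-linearly. -/
noncomputable def fibEquiv (I : Ideal R) :
    (N ⊗[R] (R ⧸ I)) ≃ₗ[S] N ⧸ (I.map (algebraMap R S) • (⊤ : Submodule S N)) := by
  let P : Submodule S N := I.map (algebraMap R S) • ⊤
  have hP : P.restrictScalars R = I • (⊤ : Submodule R N) := by
    rw [Ideal.smul_restrictScalars, Submodule.restrictScalars_top]
  let e1 : N ⊗[R] (R ⧸ I) ≃ₗ[R] N ⧸ (I • (⊤ : Submodule R N)) := tensorQuotEquivQuotSMul N I
  let e2 : (N ⧸ (I • (⊤ : Submodule R N))) ≃ₗ[R] N ⧸ P.restrictScalars R :=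
    Submodule.quotEquivOfEq _ _ hP.symm
  let e3 : (N ⧸ P.restrictScalars R) ≃ₗ[R] N ⧸ P := Submodule.Quotient.restrictScalarsEquiv R P
  let e := (e1.trans e2).trans e3
  have he : ∀ (n : N) (r : R), e (n ⊗ₜ[R] Ideal.Quotient.mk I r) = Submodule.Quotient.mk (r • n) := by
    intro n r
    rw [show e = (e1.trans e2).trans e3 from rfl, LinearEquiv.trans_apply, LinearEquiv.trans_apply,
      show e1 = tensorQuotEquivQuotSMul N I from rfl, tensorQuotEquivQuotSMul_tmul_mk, Submodule.quotEquivOfEq_mk,
      Submodule.Quotient.restrictScalarsEquiv_mk]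
  refine { e.toAddEquiv with map_smul' := ?_ }
  intro s z
  change e (s • z) = s • e z
  induction z with
  | zero => simp
  | tmul n r =>
    obtain ⟨r, rfl⟩ := Ideal.Quotient.mk_surjective r
    rw [smul_tmul', he, he, ← Submodule.Quotient.mk_smul, smul_comm]
  | add a b ha hb => rw [smul_add, map_add, ha, hb, map_add, smul_add]

end Tensor

section Local

variable {R S : Type u} [CommRing R] [CommRing S] [Algebra R S]
variable [IsLocalRing R] [IsLocalRing S] [IsLocalHom (algebraMap R S)]
variable (M : Type u) [AddCommGroup M] [Module R M]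
variable (N : Type u) [AddCommGroup N] [Module S N] [Module R N] [IsScalarTower R S N]

/-- Nakayama: `M/xM` is nontrivial for `x` in the maximal ideal and `M` finite nontrivial. -/
lemma nontrivial_quotSMulTop [Module.Finite R M] [Nontrivial M] {x : R}
    (hx : x ∈ maximalIdeal R) : Nontrivial (QuotSMulTop x M) := by
  have h := DepthRees.smul_top_quotSMulTop_ne_top hx (DepthRees.maximalIdeal_smul_top_ne_top M)
  by_contra hn
  rw [not_nontrivial_iff_subsingleton] at hn
  exact h (Subsingleton.elim _ _)

variable {M N}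

omit [IsLocalHom (algebraMap R S)] in
/-- If `𝔪_R ∈ Ass_R M` and `𝔪_S ∈ Ass_S (N ⊗ k)` with `N` flat, then `𝔪_S ∈ Ass_S (N ⊗_R M)`. -/
lemma maximalIdeal_mem_associatedPrimes_tensor [IsNoetherianRing R] [Module.Flat R N]
    (hM : maximalIdeal R ∈ associatedPrimes R M)
    (hN : maximalIdeal S ∈ associatedPrimes S (N ⊗[R] (R ⧸ maximalIdeal R))) :
    maximalIdeal S ∈ associatedPrimes S (N ⊗[R] M) := by
  obtain ⟨-, j, hj⟩ := (isAssociatedPrime_iff_exists_injective_linearMap _ _).mp hM
  have hinj : Function.Injective (AlgebraTensorModule.lTensor S N j) :=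
    Module.Flat.lTensor_preserves_injective_linearMap j hj
  exact associatedPrimes.subset_of_injective hinj hN

omit [IsLocalRing R] [IsLocalRing S] [IsLocalHom (algebraMap R S)] in
variable (N) in
/-- The `S`-linear version of `lTensor N f`. -/
lemma lTensor_smul (y : S) {P Q : Type u} [AddCommGroup P] [Module R P] [AddCommGroup Q]
    [Module R Q] (f : P →ₗ[R] Q) (z : N ⊗[R] P) :
    LinearMap.lTensor N f (y • z) = y • LinearMap.lTensor N f z :=
  (AlgebraTensorModule.lTensor S N f).map_smul y z

omit [IsLocalHom (algebraMap R S)] [IsLocalRing S] in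
/-- (B1) If `y` is regular on the fibre `N ⊗ k`, it is regular on `N ⊗ V` for every finite
`R`-module `V` killed by the maximal ideal. -/
lemma isSMulRegular_tensor_of_killed (V : Type u) [AddCommGroup V] [Module R V]
    [Module.Finite R V] (hV : ∀ a ∈ maximalIdeal R, ∀ v : V, a • v = 0) {y : S}
    (hy : IsSMulRegular (N ⊗[R] (R ⧸ maximalIdeal R)) y) : IsSMulRegular (N ⊗[R] V) y := by
  have tors : Module.IsTorsionBySet R V (maximalIdeal R : Set R) := fun v a => hV a a.2 v
  letI : Module (R ⧸ maximalIdeal R) V := tors.module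
  letI : Field (R ⧸ maximalIdeal R) := Ideal.Quotient.field (maximalIdeal R)
  haveI : IsScalarTower R (R ⧸ maximalIdeal R) V := tors.isScalarTower
  haveI : Module.Finite (R ⧸ maximalIdeal R) V := Module.Finite.of_restrictScalars_finite R _ V
  let b := Module.finBasis (R ⧸ maximalIdeal R) V
  let eR : V ≃ₗ[R] (Fin (Module.finrank (R ⧸ maximalIdeal R) V) → (R ⧸ maximalIdeal R)) :=
    b.equivFun.restrictScalars R
  let e1 : N ⊗[R] V ≃ₗ[S] N ⊗[R] (Fin (Module.finrank (R ⧸ maximalIdeal R) V) →
      (R ⧸ maximalIdeal R)) := AlgebraTensorModule.congr (LinearEquiv.refl S N) eR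
  let e2 := TensorProduct.piRight R S N
    (fun _ : Fin (Module.finrank (R ⧸ maximalIdeal R) V) => (R ⧸ maximalIdeal R))
  rw [(e1.trans e2).isSMulRegular_congr]
  exact IsSMulRegular.pi fun _ => hy

/-- The image of `N ⊗ 𝔪^i M` in `N ⊗ M` lies in `𝔫^i (N ⊗ M)`. -/
lemma lTensor_subtype_mem_pow_smul_top (i : ℕ)
    (w : N ⊗[R] ↥((maximalIdeal R) ^ i • (⊤ : Submodule R M))) :
    LinearMap.lTensor N ((maximalIdeal R) ^ i • (⊤ : Submodule R M)).subtype w ∈
      (maximalIdeal S) ^ i • (⊤ : Submodule S (N ⊗[R] M)) := by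
  induction w with
  | zero => simp
  | add a b ha hb => rw [map_add]; exact Submodule.add_mem _ ha hb
  | tmul n m =>
    obtain ⟨m, hm⟩ := m
    rw [LinearMap.lTensor_tmul, Submodule.subtype_apply]
    change n ⊗ₜ[R] m ∈ _
    refine Submodule.smul_induction_on hm (fun a ha m' _ => ?_) (fun m1 m2 h1 h2 => ?_)
    · rw [tmul_smul, ← algebraMap_smul S a (n ⊗ₜ[R] m')]
      refine Submodule.smul_mem_smul ?_ Submodule.mem_top
      have h1 : (maximalIdeal R ^ i).map (algebraMap R S) ≤ maximalIdeal S ^ i := by
        rw [Ideal.map_pow]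
        exact Ideal.pow_right_mono (map_maximalIdeal_le (algebraMap R S)) i
      exact h1 (Ideal.mem_map_of_mem _ ha)
    · rw [tmul_add]; exact Submodule.add_mem _ h1 h2

omit [IsLocalRing S] [IsLocalHom (algebraMap R S)] in
/-- Inductive step for (B2). -/
lemma exists_lTensor_succ [IsNoetherianRing R] [Module.Finite R M] [Module.Flat R N] {y : S}
    (hy : IsSMulRegular (N ⊗[R] (R ⧸ maximalIdeal R)) y) (i : ℕ)
    (zi : N ⊗[R] ↥((maximalIdeal R) ^ i • (⊤ : Submodule R M)))
    (hz : y • LinearMap.lTensor N ((maximalIdeal R) ^ i • (⊤ : Submodule R M)).subtype zi = 0) :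
    ∃ w : N ⊗[R] ↥((maximalIdeal R) ^ (i + 1) • (⊤ : Submodule R M)),
      LinearMap.lTensor N ((maximalIdeal R) ^ (i + 1) • (⊤ : Submodule R M)).subtype w =
        LinearMap.lTensor N ((maximalIdeal R) ^ i • (⊤ : Submodule R M)).subtype zi := by
  haveI : IsNoetherian R M := isNoetherian_of_isNoetherianRing_of_finite R M
  have hinj : Function.Injective
      (LinearMap.lTensor N ((maximalIdeal R) ^ i • (⊤ : Submodule R M)).subtype) :=
    Module.Flat.lTensor_preserves_injective_linearMap _ (Submodule.injective_subtype _)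
  have hzi : y • zi = 0 := by
    apply hinj
    rw [lTensor_smul, hz, map_zero]
  -- the quotient V = Mi / 𝔪 Mi
  let K : Submodule R ↥((maximalIdeal R) ^ i • (⊤ : Submodule R M)) :=
    maximalIdeal R • (⊤ : Submodule R _)
  have hV : ∀ a ∈ maximalIdeal R, ∀ v : _ ⧸ K, a • v = 0 := by
    intro a ha v
    obtain ⟨w, rfl⟩ := Submodule.Quotient.mk_surjective _ v
    rw [← Submodule.Quotient.mk_smul, Submodule.Quotient.mk_eq_zero]
    exact Submodule.smul_mem_smul ha Submodule.mem_top
  have hq0 : LinearMap.lTensor N K.mkQ zi = 0 := by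
    have hreg := isSMulRegular_tensor_of_killed (N := N) (_ ⧸ K) hV hy
    rw [isSMulRegular_iff_right_eq_zero_of_smul] at hreg
    apply hreg
    rw [← lTensor_smul, hzi, map_zero]
  have hex : Function.Exact K.subtype K.mkQ := by
    intro m
    rw [Submodule.mkQ_apply, Submodule.Quotient.mk_eq_zero]
    constructor
    · intro h; exact ⟨⟨m, h⟩, rfl⟩
    · rintro ⟨w, rfl⟩; exact w.2
  obtain ⟨w, rfl⟩ := (lTensor_exact N hex (Submodule.mkQ_surjective K) zi).mp hq0
  -- factor through 𝔪^(i+1) M
  have hmem : ∀ k : K, ((k : ↥((maximalIdeal R) ^ i • (⊤ : Submodule R M))) : M) ∈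
      (maximalIdeal R) ^ (i + 1) • (⊤ : Submodule R M) := by
    intro k
    have h1 : ((k : ↥((maximalIdeal R) ^ i • (⊤ : Submodule R M))) : M) ∈
        K.map ((maximalIdeal R) ^ i • (⊤ : Submodule R M)).subtype := ⟨k, k.2, rfl⟩
    have h2 : K.map ((maximalIdeal R) ^ i • (⊤ : Submodule R M)).subtype =
        (maximalIdeal R) ^ (i + 1) • (⊤ : Submodule R M) := by
      rw [Submodule.map_smul'', Submodule.map_subtype_top, ← Submodule.mul_smul, pow_succ']
    rwa [h2] at h1
  let g : K →ₗ[R] ↥((maximalIdeal R) ^ (i + 1) • (⊤ : Submodule R M)) :=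
    LinearMap.codRestrict _
      ((((maximalIdeal R) ^ i • (⊤ : Submodule R M)).subtype).comp K.subtype) hmem
  refine ⟨LinearMap.lTensor N g w, ?_⟩
  rw [← LinearMap.lTensor_comp_apply, ← LinearMap.lTensor_comp_apply]
  rfl

/-- (B2) If `y ∈ S` is regular on the fibre `N ⊗ k` (`N` finite over `S`, flat over `R`), then `y`
is regular on `N ⊗_R M` for every finite `R`-module `M`. -/
lemma isSMulRegular_tensor_of_fibre [IsNoetherianRing R] [IsNoetherianRing S]
    [Module.Finite R M] [Module.Finite S N] [Module.Flat R N] {y : S}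
    (hy : IsSMulRegular (N ⊗[R] (R ⧸ maximalIdeal R)) y) : IsSMulRegular (N ⊗[R] M) y := by
  haveI : Module.Finite S (N ⊗[R] M) := finite_tensor M N
  rw [isSMulRegular_iff_right_eq_zero_of_smul]
  intro z hz
  -- z lies in the image of N ⊗ 𝔪^i M for all i
  have key : ∀ i : ℕ, z ∈ LinearMap.range
      (LinearMap.lTensor N ((maximalIdeal R) ^ i • (⊤ : Submodule R M)).subtype) := by
    intro i
    induction i with
    | zero =>
      have hs : Function.Surjective ((maximalIdeal R) ^ 0 • (⊤ : Submodule R M)).subtype := by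
        intro m
        refine ⟨⟨m, ?_⟩, rfl⟩
        rw [pow_zero, Ideal.one_eq_top, Submodule.top_smul]
        trivial
      rw [LinearMap.range_eq_top.mpr (LinearMap.lTensor_surjective N hs)]
      trivial
    | succ i ih =>
      obtain ⟨zi, hzi⟩ := ih
      obtain ⟨w, hw⟩ := exists_lTensor_succ (M := M) (N := N) hy i zi (by rw [hzi]; exact hz)
      exact ⟨w, hw.trans hzi⟩
  -- Krull intersection theorem
  have hz0 : z ∈ (⨅ i : ℕ, (maximalIdeal S) ^ i • ⊤ : Submodule S (N ⊗[R] M)) := by
    rw [Submodule.mem_iInf]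
    intro i
    obtain ⟨w, rfl⟩ := key i
    exact lTensor_subtype_mem_pow_smul_top i w
  rw [Ideal.iInf_pow_smul_eq_bot_of_isLocalRing (maximalIdeal S)
    (Ideal.IsMaximal.ne_top inferInstance)] at hz0
  exact hz0

/-- (B3) If `y ∈ S` is regular on the fibre `N ⊗ k`, then `N/yN` is flat over `R`. -/
lemma flat_quotSMulTop_of_fibre [IsNoetherianRing R] [IsNoetherianRing S]
    [Module.Finite S N] [Module.Flat R N] {y : S}
    (hy : IsSMulRegular (N ⊗[R] (R ⧸ maximalIdeal R)) y) : Module.Flat R (QuotSMulTop y N) := by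
  rw [Module.Flat.iff_lTensor_injective']
  intro I
  rw [injective_iff_map_eq_zero]
  intro t ht
  -- notation
  let π : N →ₗ[R] QuotSMulTop y N := mkQR R N y
  let μ : N →ₗ[R] N := mulR R N y
  have hπμ : π.comp μ = 0 := by
    ext n
    exact ((exact_mulR_mkQR R N y) (μ n)).mpr ⟨n, rfl⟩
  -- 1. lift t
  obtain ⟨t', rfl⟩ := LinearMap.rTensor_surjective I (mkQR_surjective R N y) t
  -- 2.
  have h2 : LinearMap.rTensor R π (LinearMap.lTensor N I.subtype t') = 0 := by
    rw [← LinearMap.comp_apply, LinearMap.rTensor_comp_lTensor, ← LinearMap.lTensor_comp_rTensor,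
      LinearMap.comp_apply]
    exact ht
  -- 3.
  obtain ⟨s, hs⟩ := (rTensor_exact R (exact_mulR_mkQR R N y) (mkQR_surjective R N y) _).mp h2
  -- 4.
  have hreg : IsSMulRegular (N ⊗[R] (R ⧸ I)) y := isSMulRegular_tensor_of_fibre (M := R ⧸ I) hy
  have h4 : LinearMap.lTensor N I.mkQ s = 0 := by
    rw [isSMulRegular_iff_right_eq_zero_of_smul] at hreg
    apply hreg
    rw [smul_eq_rTensor, ← LinearMap.comp_apply, LinearMap.rTensor_comp_lTensor,
      ← LinearMap.lTensor_comp_rTensor, LinearMap.comp_apply]
    change LinearMap.lTensor N I.mkQ (LinearMap.rTensor R μ s) = 0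
    rw [hs, ← LinearMap.lTensor_comp_apply]
    have : (Submodule.mkQ I).comp I.subtype = 0 := by
      ext a
      simpa using Ideal.Quotient.eq_zero_iff_mem.mpr a.2
    rw [this, LinearMap.lTensor_zero, LinearMap.zero_apply]
  -- 5.
  have hex : Function.Exact I.subtype I.mkQ := by
    intro r
    rw [Submodule.mkQ_apply, Submodule.Quotient.mk_eq_zero]
    constructor
    · intro h; exact ⟨⟨r, h⟩, rfl⟩
    · rintro ⟨w, rfl⟩; exact w.2
  obtain ⟨s', rfl⟩ := (lTensor_exact N hex (Submodule.mkQ_surjective I) s).mp h4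
  -- 6.
  have hinj : Function.Injective (LinearMap.lTensor N I.subtype) :=
    Module.Flat.lTensor_preserves_injective_linearMap _ I.injective_subtype
  have h6 : t' = LinearMap.rTensor I μ s' := by
    apply hinj
    rw [← hs, ← LinearMap.comp_apply, ← LinearMap.comp_apply, LinearMap.rTensor_comp_lTensor,
      ← LinearMap.lTensor_comp_rTensor]
  -- 7.
  rw [h6, ← LinearMap.rTensor_comp_apply]
  change LinearMap.rTensor I (π.comp μ) s' = 0
  rw [hπμ, LinearMap.rTensor_zero, LinearMap.zero_apply]

end Local

section Main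

variable {R S : Type u} [CommRing R] [CommRing S] [Algebra R S]
variable [IsLocalRing R] [IsLocalRing S] [IsLocalHom (algebraMap R S)]
variable [IsNoetherianRing R] [IsNoetherianRing S]

omit [IsNoetherianRing R] [IsNoetherianRing S] [IsLocalHom (algebraMap R S)] [IsLocalRing S] in
lemma nontrivial_of_depth_ne_top (M : Type u) [AddCommGroup M] [Module R M]
    (h : LocCoh.depth R M ≠ ⊤) : Nontrivial M := by
  by_contra hn
  rw [not_nontrivial_iff_subsingleton] at hn
  exact h (depth_eq_top_of_subsingleton M)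

omit [IsNoetherianRing R] [IsNoetherianRing S] [IsLocalHom (algebraMap R S)] [IsLocalRing S] in
lemma exists_regular_of_one_le_depth (M : Type u) [AddCommGroup M] [Module R M]
    [Module.Finite R M] [Nontrivial M] (h : 1 ≤ LocCoh.depth R M) :
    ∃ x ∈ maximalIdeal R, IsSMulRegular M x := by
  have h1 : ((1 : ℕ) : ℕ∞) ≤ LocCoh.depth R M := by simpa using h
  obtain ⟨rs, hlen, hmem, hreg⟩ := (DepthRees.natCast_le_depth_iff M 1).mp h1
  obtain ⟨x, rfl⟩ := List.length_eq_one_iff.mp hlen
  rw [isWeaklyRegular_singleton_iff] at hreg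
  exact ⟨x, hmem x (by simp), hreg⟩

/-- The case `depth M = 0` of the depth formula, by induction on the depth of the fibre. -/
theorem depth_tensor_of_depth_eq_zero :
    ∀ (e : ℕ) (N : Type u) [AddCommGroup N] [Module S N] [Module R N] [IsScalarTower R S N]
      [Module.Finite S N] [Module.Flat R N],
      LocCoh.depth S (N ⊗[R] (R ⧸ maximalIdeal R)) = e →
      ∀ (M : Type u) [AddCommGroup M] [Module R M] [Module.Finite R M] [Nontrivial M],
        LocCoh.depth R M = 0 → LocCoh.depth S (N ⊗[R] M) = e := by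
  intro e
  induction e with
  | zero =>
    intro N _ _ _ _ _ _ hN M _ _ _ _ hM
    haveI : Module.Finite S (N ⊗[R] (R ⧸ maximalIdeal R)) := finite_tensor _ N
    haveI : Module.Finite S (N ⊗[R] M) := finite_tensor M N
    haveI : Nontrivial (N ⊗[R] (R ⧸ maximalIdeal R)) :=
      nontrivial_of_depth_ne_top _ (by rw [hN]; simp)
    have h1 : maximalIdeal S ∈ associatedPrimes S (N ⊗[R] (R ⧸ maximalIdeal R)) :=
      (depth_eq_zero_iff _).mp (by simpa using hN)
    have h2 : maximalIdeal R ∈ associatedPrimes R M := (depth_eq_zero_iff _).mp hM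
    have h3 := maximalIdeal_mem_associatedPrimes_tensor h2 h1
    haveI : Nontrivial (N ⊗[R] M) := by
      by_contra hn
      rw [not_nontrivial_iff_subsingleton] at hn
      rw [associatedPrimes.eq_empty_of_subsingleton] at h3
      exact h3
    simpa using (depth_eq_zero_iff _).mpr h3
  | succ e ih =>
    intro N _ _ _ _ _ _ hN M _ _ _ _ hM
    haveI : Module.Finite S (N ⊗[R] (R ⧸ maximalIdeal R)) := finite_tensor _ N
    haveI : Module.Finite S (N ⊗[R] M) := finite_tensor M N
    haveI : Nontrivial (N ⊗[R] (R ⧸ maximalIdeal R)) :=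
      nontrivial_of_depth_ne_top _ (by rw [hN]; exact ENat.natCast_ne_top _)
    obtain ⟨y, hym, hy⟩ := exists_regular_of_one_le_depth (N ⊗[R] (R ⧸ maximalIdeal R))
      (by rw [hN]; push_cast; exact le_add_self)
    have hyM : IsSMulRegular (N ⊗[R] M) y := isSMulRegular_tensor_of_fibre hy
    haveI : Module.Flat R (QuotSMulTop y N) := flat_quotSMulTop_of_fibre hy
    -- depth of the new fibre
    have hfib : LocCoh.depth S ((QuotSMulTop y N) ⊗[R] (R ⧸ maximalIdeal R)) = e := by
      rw [← depth_congr (quotSMulTopTensorEquiv' (R ⧸ maximalIdeal R) N y)]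
      have := depth_quotSMulTop_add_one' (N ⊗[R] (R ⧸ maximalIdeal R)) hym hy
      rw [hN] at this
      push_cast at this
      exact ENat.add_left_injective_of_ne_top ENat.one_ne_top this
    have hIH := ih (QuotSMulTop y N) hfib M hM
    rw [← depth_quotSMulTop_add_one' (N ⊗[R] M) hym hyM,
      depth_congr (quotSMulTopTensorEquiv' M N y), hIH]
    push_cast
    rfl

/-- The depth formula for nontrivial `M` and nontrivial fibre, by induction on `depth M`. -/
theorem depth_tensor_eq_add_aux :
    ∀ (d : ℕ) (M : Type u) [AddCommGroup M] [Module R M] [Module.Finite R M] [Nontrivial M],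
      LocCoh.depth R M = d →
      ∀ (N : Type u) [AddCommGroup N] [Module S N] [Module R N] [IsScalarTower R S N]
        [Module.Finite S N] [Module.Flat R N] [Nontrivial (N ⊗[R] (R ⧸ maximalIdeal R))],
        LocCoh.depth S (N ⊗[R] M) = d + LocCoh.depth S (N ⊗[R] (R ⧸ maximalIdeal R)) := by
  intro d
  induction d with
  | zero =>
    intro M _ _ _ _ hM N _ _ _ _ _ _ _
    haveI : Module.Finite S (N ⊗[R] (R ⧸ maximalIdeal R)) := finite_tensor _ N
    have hne := DepthRees.depth_ne_top (R := S) (N ⊗[R] (R ⧸ maximalIdeal R))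
    obtain ⟨e, he⟩ := ENat.ne_top_iff_exists.mp hne
    rw [depth_tensor_of_depth_eq_zero e N he.symm M (by simpa using hM), ← he]
    simp
  | succ d ih =>
    intro M _ _ _ _ hM N _ _ _ _ _ _ _
    haveI : Module.Finite S (N ⊗[R] M) := finite_tensor M N
    obtain ⟨x, hxm, hx⟩ := exists_regular_of_one_le_depth M
      (by rw [hM]; push_cast; exact le_add_self)
    haveI : Nontrivial (QuotSMulTop x M) := nontrivial_quotSMulTop M hxm
    have hM' : LocCoh.depth R (QuotSMulTop x M) = d := by
      have := depth_quotSMulTop_add_one' M hxm hx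
      rw [hM] at this
      push_cast at this
      exact ENat.add_left_injective_of_ne_top ENat.one_ne_top this
    have hIH := ih (QuotSMulTop x M) hM' N
    have hxS : algebraMap R S x ∈ maximalIdeal S :=
      map_maximalIdeal_le (algebraMap R S) (Ideal.mem_map_of_mem _ hxm)
    have hxreg : IsSMulRegular (N ⊗[R] M) (algebraMap R S x) :=
      isSMulRegular_algebraMap_tensor hx
    rw [← depth_quotSMulTop_add_one' (N ⊗[R] M) hxS hxreg,
      depth_congr (quotSMulTopTensorEquiv N x), hIH]
    push_cast
    exact add_right_comm _ _ _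

omit [IsNoetherianRing R] [IsNoetherianRing S] in
/-- Nakayama: if the fibre `N ⊗ k` vanishes then `N` vanishes. -/
lemma subsingleton_of_subsingleton_fibre (N : Type u) [AddCommGroup N] [Module S N] [Module R N]
    [IsScalarTower R S N] [Module.Finite S N]
    [h : Subsingleton (N ⊗[R] (R ⧸ maximalIdeal R))] : Subsingleton N := by
  have h0 : Subsingleton (N ⧸ ((maximalIdeal R).map (algebraMap R S) • (⊤ : Submodule S N))) :=
    (fibEquiv N (maximalIdeal R)).symm.injective.subsingleton
  have h1 : (maximalIdeal R).map (algebraMap R S) • (⊤ : Submodule S N) = ⊤ :=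
    Submodule.Quotient.subsingleton_iff.mp h0
  have h2 : (⊤ : Submodule S N) ≤ maximalIdeal S • (⊤ : Submodule S N) :=
    h1.symm.le.trans (Submodule.smul_mono_left (map_maximalIdeal_le (algebraMap R S)))
  have h3 := Submodule.eq_bot_of_le_smul_of_le_jacobson_bot (maximalIdeal S)
    (⊤ : Submodule S N) Module.Finite.fg_top h2
    (IsLocalRing.jacobson_eq_maximalIdeal _ bot_ne_top).ge
  exact (Submodule.subsingleton_iff S).mp (subsingleton_of_bot_eq_top h3.symm)

/-- **Depth formula for flat local homomorphisms** (Stacks 0337). -/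
theorem depth_tensor_eq_add (M N : Type u) [AddCommGroup M] [Module R M] [Module.Finite R M]
    [AddCommGroup N] [Module S N] [Module R N] [IsScalarTower R S N] [Module.Finite S N]
    [Module.Flat R N] :
    LocCoh.depth S (N ⊗[R] M) = LocCoh.depth R M +
      LocCoh.depth S (N ⧸ (maximalIdeal R).map (algebraMap R S) • (⊤ : Submodule S N)) := by
  rw [← depth_congr (fibEquiv N (maximalIdeal R))]
  rcases subsingleton_or_nontrivial M with hM | hM
  · haveI : Subsingleton (N ⊗[R] M) := by
      refine ⟨fun a b => ?_⟩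
      have : ∀ z : N ⊗[R] M, z = 0 := by
        intro z
        induction z with
        | zero => rfl
        | tmul n m => rw [Subsingleton.elim m 0, tmul_zero]
        | add a b ha hb => rw [ha, hb, add_zero]
      rw [this a, this b]
    rw [depth_eq_top_of_subsingleton, depth_eq_top_of_subsingleton, top_add]
  · rcases subsingleton_or_nontrivial (N ⊗[R] (R ⧸ maximalIdeal R)) with hF | hF
    · haveI : Subsingleton N := subsingleton_of_subsingleton_fibre (R := R) (S := S) N
      haveI : Subsingleton (N ⊗[R] M) := by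
        refine ⟨fun a b => ?_⟩
        have : ∀ z : N ⊗[R] M, z = 0 := by
          intro z
          induction z with
          | zero => rfl
          | tmul n m => rw [Subsingleton.elim n 0, zero_tmul]
          | add a b ha hb => rw [ha, hb, add_zero]
        rw [this a, this b]
      rw [depth_eq_top_of_subsingleton (N ⊗[R] M),
        depth_eq_top_of_subsingleton (N ⊗[R] (R ⧸ maximalIdeal R)), add_top]
    · obtain ⟨d, hd⟩ := ENat.ne_top_iff_exists.mp (DepthRees.depth_ne_top (R := R) M)
      rw [depth_tensor_eq_add_aux d M hd.symm N, hd]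

/-- Special case: flat local homomorphism whose closed fibre `S/𝔪_R S` has depth zero (for
instance `𝔪_R S = 𝔪_S`): `depth_S (S ⊗_R M) = depth_R M`. -/
theorem depth_baseChange_eq_of_map_maximalIdeal [Module.Flat R S]
    (h : (maximalIdeal R).map (algebraMap R S) = maximalIdeal S)
    (M : Type u) [AddCommGroup M] [Module R M] [Module.Finite R M] :
    LocCoh.depth S (S ⊗[R] M) = LocCoh.depth R M := by
  rw [depth_tensor_eq_add M S, h]
  have : LocCoh.depth S (S ⧸ maximalIdeal S • (⊤ : Submodule S S)) = 0 := by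
    haveI : Nontrivial (S ⧸ maximalIdeal S • (⊤ : Submodule S S)) := by
      rw [Submodule.Quotient.nontrivial_iff]
      exact DepthRees.maximalIdeal_smul_top_ne_top S
    by_contra h0
    obtain ⟨x, hxm, hx⟩ := exists_regular_of_one_le_depth
      (S ⧸ maximalIdeal S • (⊤ : Submodule S S)) (Order.one_le_iff_ne_zero.mpr h0)
    have h1 : x • (Submodule.Quotient.mk (1 : S) : S ⧸ maximalIdeal S • (⊤ : Submodule S S)) = 0 := by
      rw [← Submodule.Quotient.mk_smul, Submodule.Quotient.mk_eq_zero]
      exact Submodule.smul_mem_smul hxm Submodule.mem_top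
    rw [isSMulRegular_iff_right_eq_zero_of_smul] at hx
    have h2 := hx _ h1
    rw [Submodule.Quotient.mk_eq_zero] at h2
    have h3 : maximalIdeal S • (⊤ : Submodule S S) = ⊤ := by
      rw [eq_top_iff]
      intro s _
      have := Submodule.smul_mem _ s h2
      simpa using this
    exact DepthRees.maximalIdeal_smul_top_ne_top S h3
  rw [this, add_zero]

/-- Flat local homomorphism with `𝔪_R S = 𝔪_S`: `depth S = depth R`. -/
theorem depth_eq_of_flat_of_map_maximalIdeal [Module.Flat R S]
    (h : (maximalIdeal R).map (algebraMap R S) = maximalIdeal S) :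
    LocCoh.depth S S = LocCoh.depth R R := by
  rw [← depth_baseChange_eq_of_map_maximalIdeal h R]
  exact depth_congr (TensorProduct.AlgebraTensorModule.rid R S S).symm

end Main

end Groth.Agent.Lib.DepthFlat33
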