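import Groth.Agent.Lib.H8DepthLemma
import Groth.Agent.Lib.H8CM

/-!
# Depth of a finite free module is at least the depth of the ring
-/

set_option autoImplicit false
universe u

namespace Groth.Agent.Lib.DepthFree92

open LocCoh

theorem idealDepth_eq_top_of_subsingleton {R : Type u} [CommRing R] (I : Ideal R) (N : Type u)
    [AddCommGroup N] [Module R N] [Subsingleton N] : idealDepth I N = ⊤ := by
  unfold idealDepth
  rw [if_pos (Subsingleton.elim _ _)]

theorem idealDepth_eq_of_equiv' {R : Type u} [CommRing R] (I : Ideal R) {M N : Type u}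
    [AddCommGroup M] [Module R M] [AddCommGroup N] [Module R N] (e : M ≃ₗ[R] N) :
    idealDepth I M = idealDepth I N := by
  unfold idealDepth
  have hiff : I • (⊤ : Submodule R M) = ⊤ ↔ I • (⊤ : Submodule R N) = ⊤ := by
    constructor
    · intro h
      have := congrArg (Submodule.map e.toLinearMap) h
      rwa [Submodule.map_smul'', Submodule.map_top, LinearMap.range_eq_top.2 e.surjective] at this
    · intro h
      have := congrArg (Submodule.map e.symm.toLinearMap) h
      rwa [Submodule.map_smul'', Submodule.map_top,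
        LinearMap.range_eq_top.2 e.symm.surjective] at this
  by_cases h : I • (⊤ : Submodule R M) = ⊤
  · rw [if_pos h, if_pos (hiff.1 h)]
  · rw [if_neg h, if_neg (fun h' => h (hiff.2 h'))]
    simp only [e.isWeaklyRegular_congr]

theorem le_idealDepth_pi {R : Type u} [CommRing R] [IsNoetherianRing R] (I : Ideal R) (d : ℕ)
    (h : (d : ℕ∞) ≤ idealDepth I R) (n : ℕ) : (d : ℕ∞) ≤ idealDepth I (Fin n → R) := by
  induction n with
  | zero =>
    rw [idealDepth_eq_top_of_subsingleton]
    exact le_top
  | succ n ih =>
    rw [← idealDepth_eq_of_equiv' I (Fin.consLinearEquiv R (fun _ : Fin (n + 1) => R))]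
    exact Groth.Agent.Lib.H8DepthLemma.le_idealDepth_prod I d h ih

theorem le_idealDepth_of_free {R : Type u} [CommRing R] [IsNoetherianRing R] [Nontrivial R]
    (I : Ideal R) (d : ℕ) (h : (d : ℕ∞) ≤ idealDepth I R) (N : Type u) [AddCommGroup N]
    [Module R N] [Module.Free R N] [Module.Finite R N] : (d : ℕ∞) ≤ idealDepth I N := by
  rw [idealDepth_eq_of_equiv' I (Module.finBasis R N).equivFun]
  exact le_idealDepth_pi I d h _

theorem le_depth_of_free {R : Type u} [CommRing R] [IsNoetherianRing R] [IsLocalRing R]
    (d : ℕ) (h : (d : ℕ∞) ≤ depth R R) (N : Type u) [AddCommGroup N]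
    [Module R N] [Module.Free R N] [Module.Finite R N] : (d : ℕ∞) ≤ depth R N :=
  le_idealDepth_of_free _ d h N

end Groth.Agent.Lib.DepthFree92
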