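import Mathlib.RingTheory.IntegralClosure.IntegrallyClosed
import Mathlib.RingTheory.Derivation.Basic
import Mathlib.FieldTheory.IntermediateField.Adjoin.Algebra
import Mathlib.Algebra.CharP.Lemmas
import Mathlib.Algebra.CharP.Algebra
import Mathlib.RingTheory.Noetherian.Basic
import Mathlib.RingTheory.Localization.FractionRing
import Mathlib.Algebra.Polynomial.Div
import Mathlib.Tactic

/-!
# Finiteness of integral closure in `K(a^{1/p})` via a derivation (Stacks 0AE0-style)

`R` normal Noetherian domain, `K = Frac R` of characteristic `p`, `D` a derivation of `K` with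
`D R ⊆ R`, `D a ≠ 0`, `L = K(x)`, `x^p = a`. Then the integral closure of `R` in `L` is finite.
-/

set_option autoImplicit false
universe u
open Polynomial

namespace Groth.Agent.Lib.DerivIntClosure

section
variable {R : Type*} [CommRing R] [IsDomain R] [IsIntegrallyClosed R]
  {K : Type*} [Field K] [Algebra R K] [IsFractionRing R K] (p : ℕ) [Fact p.Prime] [CharP K p]
  (D : Derivation ℤ K K)
  {L : Type*} [Field L] [Algebra K L] [Algebra R L] [IsScalarTower R K L]

omit [IsDomain R] [IsIntegrallyClosed R] [IsFractionRing R K] in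
theorem D_pow_p (c : K) : D (c ^ p) = 0 := by
  rw [Derivation.leibniz_pow]
  have : (p : K) = 0 := CharP.cast_eq_zero K p
  rw [← Nat.cast_smul_eq_nsmul K, this, zero_smul]

/-- an element of `K` whose image in `L` is integral over `R` lies in `R`. -/
theorem mem_range_of_isIntegral (w : K) (hw : IsIntegral R (algebraMap K L w)) :
    w ∈ Set.range (algebraMap R K) := by
  have h1 : IsIntegral R w :=
    (isIntegral_algebraMap_iff (algebraMap K L).injective).1 hw
  exact IsIntegrallyClosed.isIntegral_iff.1 h1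

omit [IsDomain R] [IsIntegrallyClosed R] [IsFractionRing R K] in
/-- invert a natural number `1 ≤ n < p` in `K`. -/
theorem mem_range_of_natCast_mul (n : ℕ) (hn1 : 1 ≤ n) (hnp : n < p) (t : K)
    (h : (n : K) * t ∈ Set.range (algebraMap R K)) : t ∈ Set.range (algebraMap R K) := by
  have hp : p.Prime := Fact.out
  have hcop : Nat.Coprime n p :=
    ((Nat.Prime.coprime_iff_not_dvd hp).2
      (fun h => absurd (Nat.le_of_dvd hn1 h) (not_le.2 hnp))).symm
  obtain ⟨m', -, hm'⟩ := Nat.exists_mul_mod_eq_one_of_coprime hcop hp.one_lt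
  have h1 : n * m' = p * (n * m' / p) + 1 := by
    have := Nat.div_add_mod (n * m') p
    omega
  have h2 : ((n : K) * (m' : K)) = 1 := by
    rw [← Nat.cast_mul, h1]
    simp [CharP.cast_eq_zero K p]
  obtain ⟨r, hr⟩ := h
  refine ⟨(m' : R) * r, ?_⟩
  rw [map_mul, map_natCast, hr]
  calc (m' : K) * ((n : K) * t) = ((n : K) * (m' : K)) * t := by ring
    _ = t := by rw [h2, one_mul]

end

theorem natCast_pow_char {K : Type*} [Field K] (p : ℕ) [Fact p.Prime] [CharP K p] (n : ℕ) :
    ((n : K)) ^ p = (n : K) := by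
  induction n with
  | zero => simp [zero_pow (Fact.out : p.Prime).ne_zero]
  | succ n ih => rw [Nat.cast_succ, add_pow_char, ih, one_pow]

section main
variable {R : Type*} [CommRing R] [IsDomain R] [IsIntegrallyClosed R]
  {K : Type*} [Field K] [Algebra R K] [IsFractionRing R K] (p : ℕ) [Fact p.Prime] [CharP K p]
  (D : Derivation ℤ K K) (hD : ∀ r : R, ∃ s : R, D (algebraMap R K r) = algebraMap R K s)
  {L : Type*} [Field L] [Algebra K L] [Algebra R L] [IsScalarTower R K L]
  (x : L) (a₀ δ₀ : R) (hx : x ^ p = algebraMap K L (algebraMap R K a₀))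
  (hδ : D (algebraMap R K a₀) = algebraMap R K δ₀)

/-- The truncated expansions `Σ_{j ≤ i} c_j x^j`. -/
def S (x : L) (c : ℕ → K) (i : ℕ) : L := ∑ j ∈ Finset.range (i + 1), algebraMap K L (c j) * x ^ j

include hx in
omit [IsDomain R] [IsIntegrallyClosed R] [IsFractionRing R K] in
theorem S_pow (c : ℕ → K) (i : ℕ) :
    (S x c i) ^ p = algebraMap K L (∑ j ∈ Finset.range (i + 1),
      (c j) ^ p * (algebraMap R K a₀) ^ j) := by
  have : CharP L p := charP_of_injective_algebraMap (algebraMap K L).injective p
  rw [S, sum_pow_char, map_sum]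
  refine Finset.sum_congr rfl fun j _ => ?_
  rw [mul_pow, ← map_pow, ← pow_mul, mul_comm j p, pow_mul, hx, map_mul, map_pow, map_pow]

include hδ in
omit [IsDomain R] [IsIntegrallyClosed R] [IsFractionRing R K] in
theorem D_sum (c : ℕ → K) (i : ℕ) :
    D (∑ j ∈ Finset.range (i + 2), (c j) ^ p * (algebraMap R K a₀) ^ j) =
      algebraMap R K δ₀ * ∑ j ∈ Finset.range (i + 1),
        ((j + 1 : ℕ) : K) * (c (j + 1)) ^ p * (algebraMap R K a₀) ^ j := by
  rw [map_sum, Finset.sum_range_succ', Finset.mul_sum]
  have h0 : D ((c 0) ^ p * (algebraMap R K a₀) ^ 0) = 0 := by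
    rw [pow_zero, mul_one, D_pow_p p D]
  rw [h0, add_zero]
  refine Finset.sum_congr rfl fun j _ => ?_
  rw [Derivation.leibniz, D_pow_p p D, smul_zero, add_zero, Derivation.leibniz_pow, hδ,
    Nat.add_sub_cancel]
  simp only [smul_eq_mul, nsmul_eq_mul]
  ring

include hx in
omit [IsDomain R] [IsIntegrallyClosed R] [IsFractionRing R K] [CharP K p] in
theorem isIntegral_x : IsIntegral R x := by
  apply IsIntegral.of_pow (Fact.out : p.Prime).pos
  rw [hx, ← IsScalarTower.algebraMap_apply]
  exact isIntegral_algebraMap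

include hD hx hδ in
theorem claim (i : ℕ) (hi : i ≤ p - 1) : ∀ c : ℕ → K, IsIntegral R (S x c i) →
    ∀ j ≤ i, (algebraMap R K δ₀) ^ i * c j ∈ Set.range (algebraMap R K) := by
  have hp : p.Prime := Fact.out
  induction i with
  | zero =>
    intro c hc j hj
    obtain rfl : j = 0 := by omega
    simp only [pow_zero, one_mul]
    apply mem_range_of_isIntegral (L := L)
    simpa [S] using hc
  | succ i ih =>
    intro c hc j hj
    have ih' := ih (by omega)
    -- `y^p ∈ R`
    have h1 : IsIntegral R (algebraMap K L (∑ j ∈ Finset.range (i + 2),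
        (c j) ^ p * (algebraMap R K a₀) ^ j)) := by
      rw [← S_pow p x a₀ hx c (i + 1)]; exact hc.pow p
    obtain ⟨r, hr⟩ := mem_range_of_isIntegral _ h1
    obtain ⟨s, hs⟩ := hD r
    have h2 : algebraMap R K δ₀ * ∑ j ∈ Finset.range (i + 1),
        ((j + 1 : ℕ) : K) * (c (j + 1)) ^ p * (algebraMap R K a₀) ^ j = algebraMap R K s := by
      rw [← D_sum p D a₀ δ₀ hδ c i, ← hr, hs]
    set c' : ℕ → K := fun j => algebraMap R K δ₀ * ((j + 1 : ℕ) : K) * c (j + 1) with hc'
    have h3 : (S x c' i) ^ p = algebraMap R L (δ₀ ^ (p - 1) * s) := by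
      rw [S_pow p x a₀ hx c' i, IsScalarTower.algebraMap_apply R K L]
      congr 1
      rw [map_mul, ← h2, map_pow, Finset.mul_sum, Finset.mul_sum]
      refine Finset.sum_congr rfl fun j _ => ?_
      have hfr : (((j + 1 : ℕ) : K)) ^ p = ((j + 1 : ℕ) : K) := natCast_pow_char p (j + 1)
      rw [hc', mul_pow, mul_pow, hfr]
      have : (algebraMap R K δ₀) ^ p = (algebraMap R K δ₀) ^ (p - 1) * algebraMap R K δ₀ := by
        rw [← pow_succ]; congr 1; have := hp.pos; omega
      rw [this]; ring
    have h4 : IsIntegral R (S x c' i) := by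
      apply IsIntegral.of_pow hp.pos
      rw [h3]; exact isIntegral_algebraMap
    have h5 := ih' c' h4
    have h6 : ∀ j, 1 ≤ j → j ≤ i + 1 →
        (algebraMap R K δ₀) ^ (i + 1) * c j ∈ Set.range (algebraMap R K) := by
      intro j hj1 hj2
      obtain ⟨j', rfl⟩ : ∃ j', j = j' + 1 := ⟨j - 1, by omega⟩
      have h7 := h5 j' (by omega)
      apply mem_range_of_natCast_mul p (j' + 1) (by omega) (by omega)
      convert h7 using 1
      rw [hc']; ring
    rcases Nat.eq_zero_or_pos j with rfl | hjpos
    · apply mem_range_of_isIntegral (L := L)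
      have hdecomp : algebraMap K L ((algebraMap R K δ₀) ^ (i + 1) * c 0) =
          algebraMap R L (δ₀ ^ (i + 1)) * S x c (i + 1) -
            ∑ j ∈ Finset.range (i + 1),
              algebraMap K L ((algebraMap R K δ₀) ^ (i + 1) * c (j + 1)) * x ^ (j + 1) := by
        rw [S, Finset.sum_range_succ' _ (i + 1), mul_add, Finset.mul_sum,
          IsScalarTower.algebraMap_apply R K L, map_pow]
        simp only [pow_zero, mul_one, map_mul, map_pow]
        rw [eq_sub_iff_add_eq, add_comm]
        congr 1
        refine Finset.sum_congr rfl fun j _ => ?_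
        ring
      rw [hdecomp]
      refine IsIntegral.sub (IsIntegral.mul isIntegral_algebraMap hc)
        (IsIntegral.sum _ fun j hj => IsIntegral.mul ?_ ((isIntegral_x p x a₀ hx).pow _))
      obtain ⟨r', hr'⟩ := h6 (j + 1) (by omega) (by have := Finset.mem_range.1 hj; omega)
      rw [← hr', ← IsScalarTower.algebraMap_apply]
      exact isIntegral_algebraMap
    · exact h6 j hjpos hj

end main

section final

variable {R : Type*} [CommRing R] [IsDomain R] [IsNoetherianRing R] [IsIntegrallyClosed R]
  {K : Type*} [Field K] [Algebra R K] [IsFractionRing R K] (p : ℕ) [Fact p.Prime] [CharP K p]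
  (D : Derivation ℤ K K) (hD : ∀ r : R, ∃ s : R, D (algebraMap R K r) = algebraMap R K s)
  {L : Type*} [Field L] [Algebra K L] [Algebra R L] [IsScalarTower R K L]

omit [IsDomain R] [IsNoetherianRing R] [IsIntegrallyClosed R] [IsFractionRing R K] [Fact p.Prime]
  [CharP K p] [Algebra R L] [IsScalarTower R K L] in
/-- every element of `K(x)` with `x^p ∈ K` is a `K`-combination of `1, x, …, x^(p-1)`. -/
theorem exists_expansion (hp : 0 < p) (x : L) (a : K) (hx : x ^ p = algebraMap K L a)
    (hgen : IntermediateField.adjoin K {x} = ⊤) (y : L) :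
    ∃ c : ℕ → K, y = ∑ j ∈ Finset.range p, algebraMap K L (c j) * x ^ j := by
  have halg : IsAlgebraic K x := by
    refine ⟨X ^ p - C a, (monic_X_pow_sub_C a hp.ne').ne_zero, ?_⟩
    rw [map_sub, map_pow, aeval_X, aeval_C, hx, sub_self]
  have h1 : Algebra.adjoin K {x} = ⊤ := by
    rw [← IntermediateField.adjoin_simple_toSubalgebra_of_isAlgebraic halg, hgen,
      IntermediateField.top_toSubalgebra]
  have h2 : y ∈ (Polynomial.aeval x : K[X] →ₐ[K] L).range := by
    rw [← Algebra.adjoin_singleton_eq_range_aeval, h1]; trivial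
  obtain ⟨P, rfl⟩ := h2
  have hq : (X ^ p - C a : K[X]).Monic := monic_X_pow_sub_C a hp.ne'
  have h3 : aeval x P = aeval x (P %ₘ (X ^ p - C a)) := by
    conv_lhs => rw [← Polynomial.modByMonic_add_div P (X ^ p - C a)]
    rw [map_add, map_mul, map_sub, map_pow, aeval_X, aeval_C, hx, sub_self, zero_mul, add_zero]
  have hdeg : (P %ₘ (X ^ p - C a)).natDegree < p := by
    have := Polynomial.natDegree_modByMonic_lt P hq (by
      intro h
      have := congrArg natDegree h
      rw [natDegree_X_pow_sub_C, natDegree_one] at this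
      omega)
    rwa [natDegree_X_pow_sub_C] at this
  refine ⟨fun j => (P %ₘ (X ^ p - C a)).coeff j, ?_⟩
  change aeval x P = _
  rw [h3, aeval_eq_sum_range' hdeg]
  refine Finset.sum_congr rfl fun j _ => ?_
  rw [Algebra.smul_def]

include hD in
/-- Stacks 0AE0-type finiteness of integral closure in `K(a^{1/p})` when `D a ≠ 0`. -/
theorem finite_integralClosure (a : K) (ha : D a ≠ 0) (x : L)
    (hx : x ^ p = algebraMap K L a) (hgen : IntermediateField.adjoin K {x} = ⊤) :
    Module.Finite R (integralClosure R L) := by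
  have hp : p.Prime := Fact.out
  obtain ⟨a₁, f, hf, rfl⟩ := IsFractionRing.div_surjective (A := R) a
  have hf0 : algebraMap R K f ≠ 0 :=
    (map_ne_zero_iff _ (IsFractionRing.injective R K)).2 (nonZeroDivisors.ne_zero hf)
  set φ : K := algebraMap R K f with hφ
  set a : K := algebraMap R K a₁ / φ with ha_def
  -- the rescaled generator
  set x' : L := algebraMap K L φ * x with hx'
  set a₀ : R := f ^ (p - 1) * a₁ with ha₀
  have hpp : φ ^ p = φ ^ (p - 1) * φ := by
    rw [← pow_succ]; congr 1; have := hp.pos; omega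
  have ha₀' : algebraMap R K a₀ = φ ^ p * a := by
    rw [ha₀, map_mul, map_pow, ha_def, hpp, ← hφ]; field_simp
  have hx'p : x' ^ p = algebraMap K L (algebraMap R K a₀) := by
    rw [hx', mul_pow, hx, ← map_pow, ← map_mul, ha₀']
  obtain ⟨δ₀, hδ⟩ := hD a₀
  have hδ0 : algebraMap R K δ₀ ≠ 0 := by
    rw [← hδ, ha₀', Derivation.leibniz, D_pow_p p D, smul_zero, add_zero, smul_eq_mul]
    exact mul_ne_zero (pow_ne_zero _ hf0) ha
  set δ : K := algebraMap R K δ₀ with hδdef
  -- the finite module containing the integral closure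
  set b : Fin p → L := fun j => algebraMap K L ((δ⁻¹) ^ (p - 1)) * x' ^ (j : ℕ) with hb
  have hle : (integralClosure R L).toSubmodule ≤ Submodule.span R (Set.range b) := by
    intro y hy
    have hyint : IsIntegral R y := hy
    obtain ⟨c, hc⟩ := exists_expansion p hp.pos x a hx hgen y
    -- rewrite in terms of `x'`
    set c' : ℕ → K := fun j => c j * (φ⁻¹) ^ j with hc'
    have hyS : y = S x' c' (p - 1) := by
      rw [S, show p - 1 + 1 = p by have := hp.pos; omega, hc]
      refine Finset.sum_congr rfl fun j _ => ?_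
      rw [hc', hx', mul_pow, ← map_pow, map_mul, map_pow, map_pow]
      have : algebraMap K L φ⁻¹ * algebraMap K L φ = 1 := by
        rw [← map_mul, inv_mul_cancel₀ hf0, map_one]
      calc algebraMap K L (c j) * x ^ j
          = algebraMap K L (c j) * ((algebraMap K L φ⁻¹ * algebraMap K L φ) ^ j * x ^ j) := by
            rw [this, one_pow, one_mul]
        _ = _ := by rw [mul_pow]; ring
    have hcl := claim p D hD x' a₀ δ₀ hx'p hδ (p - 1) le_rfl c' (hyS ▸ hyint)
    choose! r hr using hcl
    have hy2 : y = ∑ j ∈ Finset.range p, r j • (algebraMap K L ((δ⁻¹) ^ (p - 1)) * x' ^ j) := by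
      rw [hyS, S, show p - 1 + 1 = p by have := hp.pos; omega]
      refine Finset.sum_congr rfl fun j hj => ?_
      have hj' : j ≤ p - 1 := by have := Finset.mem_range.1 hj; omega
      have h1 : c' j = (δ⁻¹) ^ (p - 1) * algebraMap R K (r j) := by
        rw [hr j hj', ← mul_assoc, ← mul_pow, inv_mul_cancel₀ hδ0, one_pow, one_mul]
      rw [h1, Algebra.smul_def, IsScalarTower.algebraMap_apply R K L, map_mul]
      ring
    rw [hy2, ← Fin.sum_univ_eq_sum_range (fun j => r j • (algebraMap K L ((δ⁻¹) ^ (p - 1)) * x' ^ j)) p]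
    exact Submodule.sum_mem _ fun j _ =>
      Submodule.smul_mem _ _ (Submodule.subset_span ⟨j, rfl⟩)
  have hfg : (Submodule.span R (Set.range b)).FG :=
    Submodule.fg_span (Set.finite_range b)
  exact Module.Finite.iff_fg.2 (Submodule.FG.of_le hfg hle)

end final

end Groth.Agent.Lib.DerivIntClosure
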