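import Mathlib.CategoryTheory.Localization.DerivabilityStructure.Derives
import Mathlib.CategoryTheory.Localization.DerivabilityStructure.Constructor
import Mathlib.CategoryTheory.Localization.CalculusOfFractions

/-!
# Right derivability structures from the Ore condition (helper11)

Let `Φ : LocalizerMorphism W₁ W₂` with `Φ.functor` full, `W₂` having a left calculus of fractions
and `Φ` having right resolutions. Then the categories of right resolutions are connected and
arrows have right resolutions. If moreover `Φ` is a localized equivalence (e.g. it is localized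
fully faithful), then `Φ` is a right derivability structure.
-/

set_option autoImplicit false

open CategoryTheory Localization

namespace Groth.Agent.Lib.DerivOre11

variable {C₁ C₂ : Type*} [Category* C₁] [Category* C₂]
  {W₁ : MorphismProperty C₁} {W₂ : MorphismProperty C₂} (Φ : LocalizerMorphism W₁ W₂)

/-- localized fully faithful + right resolutions ⇒ localized equivalence. -/
lemma isLocalizedEquivalence_of_isLocalizedFullyFaithful [Φ.IsLocalizedFullyFaithful]
    [Φ.HasRightResolutions] : Φ.IsLocalizedEquivalence := by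
  let G := Φ.localizedFunctor W₁.Q W₂.Q
  have h1 := Φ.essSurj_of_hasRightResolutions W₂.Q
  have h2 : (W₁.Q ⋙ G).EssSurj := Functor.essSurj_of_iso (Φ.catCommSq W₁.Q W₂.Q).iso
  have : G.EssSurj :=
    ⟨fun Y => ⟨W₁.Q.obj ((W₁.Q ⋙ G).objPreimage Y), ⟨(W₁.Q ⋙ G).objObjPreimageIso Y⟩⟩⟩
  have : G.Full := inferInstance
  have : G.Faithful := inferInstance
  exact ⟨{ }⟩

variable [Φ.functor.Full] [W₂.HasLeftCalculusOfFractions] [Φ.HasRightResolutions]

/-- "pushout and resolve". -/
lemma exists_square {X Y : C₂} (f : X ⟶ Y) {X₁ : C₁} (s : X ⟶ Φ.functor.obj X₁) (hs : W₂ s) :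
    ∃ (Y₁ : C₁) (t : Y ⟶ Φ.functor.obj Y₁) (_ : W₂ t) (g : X₁ ⟶ Y₁),
      s ≫ Φ.functor.map g = f ≫ t := by
  obtain ⟨ψ, hψ⟩ := (MorphismProperty.RightFraction.mk s hs f).exists_leftFraction
  dsimp at hψ
  obtain ⟨R⟩ := (inferInstance : Φ.HasRightResolutions) ψ.Y'
  obtain ⟨g, hg⟩ := Φ.functor.map_surjective (ψ.f ≫ R.w)
  exact ⟨R.X₁, ψ.s ≫ R.w, W₂.comp_mem _ _ ψ.hs R.hw, g, by
    rw [hg, ← Category.assoc, ← hψ, Category.assoc]⟩

lemma hasRightResolutions_arrow : Φ.arrow.HasRightResolutions := by
  intro f
  obtain ⟨R⟩ := (inferInstance : Φ.HasRightResolutions) f.left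
  obtain ⟨Y₁, t, ht, g, hg⟩ := exists_square Φ f.hom R.w R.hw
  exact ⟨{ X₁ := Arrow.mk g
           w := Arrow.homMk R.w t hg
           hw := ⟨R.hw, ht⟩ }⟩

lemma isConnected_rightResolution (X₂ : C₂) : IsConnected (Φ.RightResolution X₂) := by
  have : Nonempty (Φ.RightResolution X₂) := (inferInstance : Φ.HasRightResolutions) X₂
  have : IsPreconnected (Φ.RightResolution X₂) :=
    zigzag_isPreconnected (fun R₀ R₁ => by
      obtain ⟨Y₁, t, ht, g, hg⟩ := exists_square Φ R₁.w R₀.w R₀.hw
      let R₂ : Φ.RightResolution X₂ :=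
        { X₁ := Y₁, w := R₁.w ≫ t, hw := W₂.comp_mem _ _ R₁.hw ht }
      obtain ⟨g', hg'⟩ := Φ.functor.map_surjective t
      have a : R₀ ⟶ R₂ := { f := g, comm := hg }
      have b : R₁ ⟶ R₂ := { f := g', comm := by rw [hg'] }
      exact (Zigzag.of_hom a).trans (Zigzag.of_inv b))
  constructor

/-- The constructor: a localized fully faithful localizer morphism with full underlying functor,
right resolutions, and whose target has a left calculus of fractions, is a right derivability
structure. -/
lemma isRightDerivabilityStructure [Φ.IsLocalizedFullyFaithful] :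
    Φ.IsRightDerivabilityStructure := by
  have := isLocalizedEquivalence_of_isLocalizedFullyFaithful Φ
  have := hasRightResolutions_arrow Φ
  have := isConnected_rightResolution Φ
  exact LocalizerMorphism.IsRightDerivabilityStructure.mk' Φ

end Groth.Agent.Lib.DerivOre11
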