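import Groth.Agent.Lib.DerivedAdj66

/-!
# Derived adjunction with invertible counit (helper31)

If `L ⊣ R` with `L` exact, enough K-injectives, and the counit `R ⋙ L ⟶ 𝟭` is an isomorphism
(i.e. `R` is fully faithful), then the derived adjunction `L.mapDerivedCategory ⊣ RR` on unbounded
derived categories has invertible counit, so that `RR` is fully faithful.
-/

set_option autoImplicit false

open CategoryTheory Limits

namespace Groth.Agent.DerivedAdjCounit31

open Groth.Agent.Lib.DerivedAdj66

variable {A B : Type*} [Category* A] [Category* B] [Abelian A] [Abelian B]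
  [HasDerivedCategory A] [HasDerivedCategory B]
  {L : A ⥤ B} {R : B ⥤ A} (adj : L ⊣ R) [L.Additive] [R.Additive]
  [PreservesFiniteLimits L] [PreservesFiniteColimits L]
  (hKinj : ∀ K : CochainComplex B ℤ, ∃ (I : CochainComplex B ℤ) (f : K ⟶ I),
    I.IsKInjective ∧ QuasiIso f)
  [(R.mapHomotopyCategory (ComplexShape.up ℤ) ⋙ DerivedCategory.Qh).HasRightDerivedFunctor
    (HomotopyCategory.quasiIso B (ComplexShape.up ℤ))]

lemma isIso_adjH_counit_app [IsIso adj.counit] (X : HomotopyCategory B (ComplexShape.up ℤ)) :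
    IsIso ((adjH adj (ComplexShape.up ℤ)).counit.app X) := by
  obtain ⟨X, rfl⟩ := HomotopyCategory.quotient_obj_surjective X
  have : ∀ i, IsIso (((Groth.Agent.RDPlus31.adjHC adj (ComplexShape.up ℤ)).counit.app X).f i) := by
    intro i
    rw [Groth.Agent.RDPlus31.adjHC_counit_app_f]
    exact NatIso.isIso_app_of_isIso adj.counit _
  have : IsIso ((Groth.Agent.RDPlus31.adjHC adj (ComplexShape.up ℤ)).counit.app X) :=
    HomologicalComplex.Hom.isIso_of_components _
  change IsIso ((HomotopyCategory.quotient B (ComplexShape.up ℤ)).map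
    ((Groth.Agent.RDPlus31.adjHC adj (ComplexShape.up ℤ)).counit.app X))
  infer_instance

include hKinj in
theorem exists_derivedAdjunction_isIso_counit [IsIso adj.counit] :
    ∃ a : L.mapDerivedCategory ⊣ RR (R := R), IsIso a.counit := by
  let e : DerivedCategory.Qh ⋙ L.mapDerivedCategory ≅
      L.mapHomotopyCategory (ComplexShape.up ℤ) ⋙ DerivedCategory.Qh :=
    L.mapDerivedCategoryFactorsh
  have : L.mapDerivedCategory.IsLeftDerivedFunctor e.hom
      (HomotopyCategory.quasiIso A (ComplexShape.up ℤ)) :=
    Functor.isLeftDerivedFunctor_of_inverts _ _ e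
  have : (L.mapDerivedCategory ⋙ RR (R := R)).IsLeftDerivedFunctor
      ((Functor.associator _ _ _).inv ≫ Functor.whiskerRight e.hom (RR (R := R)))
      (HomotopyCategory.quasiIso A (ComplexShape.up ℤ)) :=
    Functor.isLeftDerivedFunctor_of_inverts _ _
      ((Functor.associator _ _ _).symm ≪≫ Functor.isoWhiskerRight e (RR (R := R)))
  have := isRightDerivedFunctor_comp (L := L) (R := R) hKinj
  let a : L.mapDerivedCategory ⊣ RR (R := R) :=
    (adjH adj (ComplexShape.up ℤ)).derived (HomotopyCategory.quasiIso A (ComplexShape.up ℤ))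
      (HomotopyCategory.quasiIso B (ComplexShape.up ℤ)) e.hom (RRunit (R := R))
  refine ⟨a, ?_⟩
  apply Groth.Agent.KInjComp31.isIso_natTrans_of_kinj hKinj
  intro I hI
  have h1 := (adjH adj (ComplexShape.up ℤ)).derivedε_fac_app
    (HomotopyCategory.quasiIso B (ComplexShape.up ℤ)) e.hom (RRunit (R := R))
    ((HomotopyCategory.quotient B (.up ℤ)).obj I)
  have h2 : IsIso ((RRunit (R := R)).app ((HomotopyCategory.quotient B (.up ℤ)).obj I)) :=
    Groth.Agent.KInjComp31.isIso_totalRightDerivedUnit_app hKinj _ I
  have h3 := isIso_adjH_counit_app adj ((HomotopyCategory.quotient B (.up ℤ)).obj I)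
  have h4 : IsIso (L.mapDerivedCategory.map
      ((RRunit (R := R)).app ((HomotopyCategory.quotient B (.up ℤ)).obj I)) ≫
      a.counit.app
        (DerivedCategory.Qh.obj ((HomotopyCategory.quotient B (.up ℤ)).obj I))) := by
    change IsIso (L.mapDerivedCategory.map
      ((RRunit (R := R)).app ((HomotopyCategory.quotient B (.up ℤ)).obj I)) ≫
      ((adjH adj (ComplexShape.up ℤ)).derivedε
        (HomotopyCategory.quasiIso B (ComplexShape.up ℤ)) e.hom (RRunit (R := R))).app
        (DerivedCategory.Qh.obj ((HomotopyCategory.quotient B (.up ℤ)).obj I)))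
    rw [h1]
    infer_instance
  exact IsIso.of_isIso_comp_left (L.mapDerivedCategory.map
      ((RRunit (R := R)).app ((HomotopyCategory.quotient B (.up ℤ)).obj I))) _

end Groth.Agent.DerivedAdjCounit31
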