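import Mathlib.Algebra.Homology.DerivedCategory.ExactFunctor
import Mathlib.CategoryTheory.Localization.Adjunction
import Mathlib.CategoryTheory.Adjunction.Additive

/-!
# Adjunctions between exact functors induce adjunctions on derived categories (helper49)

* `mapHomologicalComplexAdj adj c : L.mapHomologicalComplex c ⊣ G.mapHomologicalComplex c` for an adjunction
  `adj : L ⊣ G` between additive functors of preadditive categories.
* `derivedAdj adj : L.mapDerivedCategory ⊣ G.mapDerivedCategory` for exact `L`, `G` between abelian categories.
-/

set_option autoImplicit false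
universe w w' v v' u u'

open CategoryTheory CategoryTheory.Limits

namespace Groth.Agent.Lib.DerivedAdjunction

section Complexes

variable {C : Type u} [Category.{v} C] [Preadditive C] {D : Type u'} [Category.{v'} D] [Preadditive D]
  {L : C ⥤ D} {G : D ⥤ C} (adj : L ⊣ G) [L.Additive] [G.Additive]
  {ι : Type*} (c : ComplexShape ι)

/-- the unit of the adjunction on complexes -/
@[simps]
def unitHC : 𝟭 (HomologicalComplex C c) ⟶ L.mapHomologicalComplex c ⋙ G.mapHomologicalComplex c where
  app K :=
    { f := fun i => adj.unit.app (K.X i)
      comm' := fun i j _ => (adj.unit.naturality (K.d i j)).symm }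
  naturality K K' f := by
    ext i
    exact adj.unit.naturality (f.f i)

/-- the counit of the adjunction on complexes -/
@[simps]
def counitHC : G.mapHomologicalComplex c ⋙ L.mapHomologicalComplex c ⟶ 𝟭 (HomologicalComplex D c) where
  app K :=
    { f := fun i => adj.counit.app (K.X i)
      comm' := fun i j _ => (adj.counit.naturality (K.d i j)).symm }
  naturality K K' f := by
    ext i
    exact adj.counit.naturality (f.f i)

/-- an adjunction of additive functors induces an adjunction on categories of complexes -/
def mapHomologicalComplexAdj : L.mapHomologicalComplex c ⊣ G.mapHomologicalComplex c :=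
  Adjunction.mkOfUnitCounit
    { unit := unitHC adj c
      counit := counitHC adj c
      left_triangle := by
        ext K i
        simp
        exact adj.left_triangle_components (K.X i)
      right_triangle := by
        ext K i
        simp
        exact adj.right_triangle_components (K.X i) }

end Complexes

section Derived

variable {C : Type u} [Category.{v} C] [Abelian C] {D : Type u'} [Category.{v'} D] [Abelian D]
  [HasDerivedCategory.{w} C] [HasDerivedCategory.{w'} D]
  {L : C ⥤ D} {G : D ⥤ C} (adj : L ⊣ G) [L.Additive] [G.Additive]
  [PreservesFiniteLimits L] [PreservesFiniteColimits L]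
  [PreservesFiniteLimits G] [PreservesFiniteColimits G]

/-- an adjunction of exact functors induces an adjunction on derived categories -/
noncomputable def derivedAdj : L.mapDerivedCategory ⊣ G.mapDerivedCategory :=
  letI : CatCommSq (L.mapHomologicalComplex (ComplexShape.up ℤ)) DerivedCategory.Q DerivedCategory.Q
      L.mapDerivedCategory := ⟨L.mapDerivedCategoryFactors.symm⟩
  letI : CatCommSq (G.mapHomologicalComplex (ComplexShape.up ℤ)) DerivedCategory.Q DerivedCategory.Q
      G.mapDerivedCategory := ⟨G.mapDerivedCategoryFactors.symm⟩
  (mapHomologicalComplexAdj adj (ComplexShape.up ℤ)).localization DerivedCategory.Q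
    (HomologicalComplex.quasiIso C (ComplexShape.up ℤ)) DerivedCategory.Q
    (HomologicalComplex.quasiIso D (ComplexShape.up ℤ)) L.mapDerivedCategory G.mapDerivedCategory


/-- precomposition with an isomorphism, as an additive equivalence -/
@[simps]
def precompAddEquiv {T : Type*} [Category T] [Preadditive T] {X X' : T} (e : X ≅ X') (Y : T) :
    (X' ⟶ Y) ≃+ (X ⟶ Y) where
  toFun f := e.hom ≫ f
  invFun g := e.inv ≫ g
  left_inv f := by simp
  right_inv g := by simp
  map_add' f g := Preadditive.comp_add _ _ _ _ _ _

/-- postcomposition with an isomorphism, as an additive equivalence -/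
@[simps]
def postcompAddEquiv {T : Type*} [Category T] [Preadditive T] (X : T) {Y Y' : T} (e : Y ≅ Y') :
    (X ⟶ Y) ≃+ (X ⟶ Y') where
  toFun f := f ≫ e.hom
  invFun g := g ≫ e.inv
  left_inv f := by simp
  right_inv g := by simp
  map_add' f g := Preadditive.add_comp _ _ _ _ _ _

/-- `Hom_{D(D)}((L A)[0], K[p]) ≃+ Hom_{D(C)}(A[0], (G K)[p])` -/
noncomputable def homShiftAddEquiv (A : C) (K : DerivedCategory D) (p : ℤ) :
    ((DerivedCategory.singleFunctor D 0).obj (L.obj A) ⟶ (shiftFunctor (DerivedCategory D) p).obj K) ≃+
      ((DerivedCategory.singleFunctor C 0).obj A ⟶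
        (shiftFunctor (DerivedCategory C) p).obj (G.mapDerivedCategory.obj K)) :=
  ((precompAddEquiv ((L.mapDerivedCategorySingleFunctor 0).app A) _).trans
    ((derivedAdj adj).homAddEquiv _ _)).trans
    (postcompAddEquiv _ ((G.mapDerivedCategory.commShiftIso p).app K))

end Derived

end Groth.Agent.Lib.DerivedAdjunction
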