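/-
Groth.Agent.Lib.DerivedCompExact (helper49)

`rightDerivedCompIso R Φ' adj q : (R ⋙ Φ').rightDerived q ≅ R ⋙ Φ'.rightDerived q` (NATURAL iso)
for `R` an exact additive functor with a left adjoint preserving monomorphisms (so that `R`
preserves injective resolutions) and `Φ'` any additive functor.
-/
import Groth.Agent.Lib.DerivedBaseChange

set_option autoImplicit false
set_option linter.unusedSectionVars false
universe v₁ v₂ v₃ u₁ u₂ u₃

namespace Groth.Agent.Lib.DerivedCompExact

open CategoryTheory CategoryTheory.Limits Groth.Agent.Lib.ExtAdjunction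
  Groth.Agent.Lib.DerivedBaseChange

variable {A : Type u₁} [Category.{v₁} A] [Abelian A] [HasInjectiveResolutions A]
  {A' : Type u₂} [Category.{v₂} A'] [Abelian A'] [HasInjectiveResolutions A']
  {B' : Type u₃} [Category.{v₃} B'] [Abelian B']
  (R : A ⥤ A') [R.Additive] [PreservesFiniteLimits R] [PreservesFiniteColimits R]
  (Φ' : A' ⥤ B') [Φ'.Additive]
  {L : A' ⥤ A} (adj : L ⊣ R) [L.PreservesMonomorphisms]

/-- the image under the exact functor `R` of the chosen injective resolution -/
noncomputable def res (F : A) : InjectiveResolution (R.obj F) :=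
  pushRes adj (injectiveResolution F) (isZero_rightDerived_succ_of_exact R F)

/-- objectwise iso -/
noncomputable def compIsoApp (q : ℕ) (F : A) :
    ((R ⋙ Φ').rightDerived q).obj F ≅ (Φ'.rightDerived q).obj (R.obj F) :=
  (injectiveResolution F).isoRightDerivedObj (R ⋙ Φ') q ≪≫
    ((res R adj F).isoRightDerivedObj Φ' q).symm

/-- For `R` exact with a mono-preserving left adjoint, `R^q (R ⋙ Φ') ≅ R ⋙ R^q Φ'`, naturally. -/
noncomputable def rightDerivedCompIso (q : ℕ) :
    (R ⋙ Φ').rightDerived q ≅ R ⋙ Φ'.rightDerived q :=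
  NatIso.ofComponents (compIsoApp R Φ' adj q) (by
    intro F F' φ
    let ψ := InjectiveResolution.desc φ (injectiveResolution F') (injectiveResolution F)
    have comm : (injectiveResolution F).ι.f 0 ≫ ψ.f 0 = φ ≫ (injectiveResolution F').ι.f 0 :=
      InjectiveResolution.desc_commutes_zero φ _ _
    have comm' : (res R adj F).ι.f 0 ≫ ((R.mapHomologicalComplex _).map ψ).f 0 =
        R.map φ ≫ (res R adj F').ι.f 0 := by
      have e1 : (res R adj F).ι.f 0 = R.map ((injectiveResolution F).ι.f 0) := pushι_f_zero _
      have e2 : (res R adj F').ι.f 0 = R.map ((injectiveResolution F').ι.f 0) := pushι_f_zero _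
      rw [e1, e2]
      exact (R.map_comp _ _).symm.trans ((congrArg R.map comm).trans (R.map_comp _ _))
    have h1 := InjectiveResolution.isoRightDerivedObj_hom_naturality φ (injectiveResolution F)
      (injectiveResolution F') ψ comm (R ⋙ Φ') q
    have h2 := InjectiveResolution.isoRightDerivedObj_inv_naturality (R.map φ) (res R adj F)
      (res R adj F') ((R.mapHomologicalComplex _).map ψ) comm' Φ' q
    dsimp only [compIsoApp, Iso.trans_hom, Iso.symm_hom, Functor.comp_map]
    refine (Category.assoc _ _ _).symm.trans ?_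
    refine (congrArg (· ≫ ((res R adj F').isoRightDerivedObj Φ' q).inv) h1).trans ?_
    refine (Category.assoc _ _ _).trans ?_
    refine Eq.trans ?_ (Category.assoc _ _ _).symm
    exact congrArg (((injectiveResolution F).isoRightDerivedObj (R ⋙ Φ') q).hom ≫ ·) h2.symm)

end Groth.Agent.Lib.DerivedCompExact
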