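import Groth.Prelude.Def_DRing3
import Mathlib.Algebra.Homology.DerivedCategory.FullyFaithful
import Mathlib.RingTheory.Localization.Away.AdjoinRoot
import Mathlib.RingTheory.Polynomial.Basic
import Mathlib.Algebra.Polynomial.Basis

/-!
Bridging lemmas for `DRing.IsDerivedComplete I (Dual.inD A M)` (module placed in degree zero):
* every linear map `A_f → M` with `f ∈ I` vanishes;
* every sequence `u n = f • u (n + 1)` in `M` vanishes.
-/

set_option autoImplicit false
universe u
open CategoryTheory CategoryTheory.Limits Polynomial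
attribute [local instance] HasDerivedCategory.standard

namespace Groth.Agent.Lib.DerivedComplete

variable {A : Type u} [CommRing A]

/-- If `M[0]` is derived complete with respect to `I` and `f ∈ I`, then `Hom_A(A_f, M) = 0`. -/
theorem hom_eq_zero (I : Ideal A) (M : Type u) [AddCommGroup M] [Module A M]
    (hc : DRing.IsDerivedComplete I (Dual.inD A M)) (f : A) (hf : f ∈ I)
    (g : Localization.Away f →ₗ[A] M) : g = 0 := by
  have h0 : Subsingleton (Dual.inD A (Localization.Away f) ⟶ (Dual.inD A M)⟦(0 : ℤ)⟧) := hc f hf 0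
  let F := DerivedCategory.singleFunctor (ModuleCat.{u} A) 0
  let φ : Dual.inD A (Localization.Away f) ⟶ Dual.inD A M := F.map (ModuleCat.ofHom g)
  have h1 : φ ≫ (shiftFunctorZero (Dual.D A) ℤ).inv.app (Dual.inD A M) = 0 := h0.elim _ _
  have h2 : φ = 0 := by
    have := congrArg (fun k => k ≫ (shiftFunctorZero (Dual.D A) ℤ).hom.app (Dual.inD A M)) h1
    simp only [Category.assoc, Iso.inv_hom_id_app, Limits.zero_comp] at this
    simpa using this
  have h3 : ModuleCat.ofHom g = 0 := F.map_injective (by rw [F.map_zero]; exact h2)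
  have h4 := congrArg ModuleCat.Hom.hom h3
  simpa using h4

variable {M : Type u} [AddCommGroup M] [Module A M]

theorem exists_linearMap_adjoinRoot (f : A) (u : ℕ → M) (hu : ∀ n, u n = f • u (n + 1)) :
    ∃ ℓ : AdjoinRoot (C f * X - 1 : A[X]) →ₗ[A] M, ℓ 1 = u 0 := by
  let φ : A[X] →ₗ[A] M := (Polynomial.basisMonomials A).constr A u
  have hφ : ∀ n, φ (Polynomial.monomial n 1) = u n := fun n => by
    have := (Polynomial.basisMonomials A).constr_basis A u n
    simpa [φ] using this
  have hker : ∀ p, φ ((C f * X - 1) * p) = 0 := by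
    intro p
    have : (φ ∘ₗ LinearMap.mulLeft A (C f * X - 1 : A[X])) = 0 := by
      apply (Polynomial.basisMonomials A).ext
      intro n
      have h1 : (C f * X - 1 : A[X]) * monomial n 1 = f • monomial (n + 1) 1 - monomial n 1 := by
        rw [sub_mul, one_mul, mul_assoc, X_mul_monomial, ← smul_eq_C_mul]
      simp only [LinearMap.coe_comp, Function.comp_apply, LinearMap.mulLeft_apply,
        Polynomial.coe_basisMonomials, LinearMap.zero_apply]
      rw [h1, map_sub, map_smul, hφ, hφ, ← hu, sub_self]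
    exact LinearMap.congr_fun this p
  have hle : (Ideal.span {(C f * X - 1 : A[X])}).toAddSubgroup ≤ φ.toAddMonoidHom.ker := by
    intro x hx
    obtain ⟨p, rfl⟩ := Ideal.mem_span_singleton'.mp hx
    rw [AddMonoidHom.mem_ker, mul_comm]
    exact hker p
  let ℓ' : AdjoinRoot (C f * X - 1 : A[X]) →+ M :=
    QuotientAddGroup.lift _ φ.toAddMonoidHom hle
  have hℓ' : ∀ p : A[X], ℓ' (AdjoinRoot.mk _ p) = φ p := fun p => rfl
  refine ⟨{ toFun := ℓ', map_add' := ℓ'.map_add, map_smul' := ?_ }, ?_⟩
  · intro a x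
    obtain ⟨p, rfl⟩ := AdjoinRoot.mk_surjective x
    simp only [RingHom.id_apply]
    rw [AdjoinRoot.smul_mk, hℓ', hℓ', map_smul]
  · show ℓ' 1 = u 0
    rw [← map_one (AdjoinRoot.mk _), hℓ', ← hφ 0]
    rfl

/-- A sequence with `u n = f • u (n + 1)` defines a linear map `A_f → M` sending `1` to `u 0`. -/
theorem exists_linearMap_away (f : A) (u : ℕ → M) (hu : ∀ n, u n = f • u (n + 1)) :
    ∃ ℓ : Localization.Away f →ₗ[A] M, ℓ 1 = u 0 := by
  obtain ⟨ℓ, hℓ⟩ := exists_linearMap_adjoinRoot f u hu
  refine ⟨ℓ ∘ₗ (Localization.awayEquivAdjoin f).toLinearMap, ?_⟩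
  simp [hℓ]

/-- If `M[0]` is derived complete with respect to `I` and `f ∈ I`, every sequence with
`u n = f • u (n + 1)` vanishes. -/
theorem seq_eq_zero (I : Ideal A) (hc : DRing.IsDerivedComplete I (Dual.inD A M)) (f : A)
    (hf : f ∈ I) (u : ℕ → M) (hu : ∀ n, u n = f • u (n + 1)) (n : ℕ) : u n = 0 := by
  obtain ⟨ℓ, hℓ⟩ := exists_linearMap_away f (fun k => u (n + k)) (fun k => hu (n + k))
  have := hom_eq_zero I M hc f hf ℓ
  rw [this] at hℓ
  simpa using hℓ.symm

end Groth.Agent.Lib.DerivedComplete
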