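import Groth.Agent.Lib.DerivedAdjunction
import Mathlib.Algebra.Homology.ShortComplex.PreservesHomology
import Mathlib.CategoryTheory.Adjunction.FullyFaithful
import Mathlib.Algebra.Homology.DerivedCategory.HomologySequence

/-!
# Exact fully faithful right adjoints on derived categories (helper65)

`adj : L ⊣ G` with `L`, `G` exact and `adj.counit` an isomorphism: `G.mapDerivedCategory` is fully
faithful and `K` lies in its essential image iff the unit is an isomorphism on all `Hⁿ(K)`.
-/

set_option autoImplicit false
universe w w' v v' u u'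

open CategoryTheory CategoryTheory.Limits

namespace Groth.Agent.Lib.DerivedFFExact65

open Groth.Agent.Lib.DerivedAdjunction

variable {C : Type u} [Category.{v} C] [Abelian C] {D : Type u'} [Category.{v'} D] [Abelian D]
  [HasDerivedCategory.{w} C] [HasDerivedCategory.{w'} D]
  {L : C ⥤ D} {G : D ⥤ C} (adj : L ⊣ G) [L.Additive] [G.Additive]
  [PreservesFiniteLimits L] [PreservesFiniteColimits L]
  [PreservesFiniteLimits G] [PreservesFiniteColimits G]

lemma derivedAdj_counit_app_Q (M : CochainComplex D ℤ) :
    ∃ (e : (G.mapDerivedCategory ⋙ L.mapDerivedCategory).obj (DerivedCategory.Q.obj M) ≅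
        DerivedCategory.Q.obj ((L.mapHomologicalComplex _).obj ((G.mapHomologicalComplex _).obj M))),
      (derivedAdj adj).counit.app (DerivedCategory.Q.obj M) =
        e.hom ≫ DerivedCategory.Q.map ((counitHC adj (ComplexShape.up ℤ)).app M) := by
  let _ : CatCommSq (L.mapHomologicalComplex (ComplexShape.up ℤ)) DerivedCategory.Q DerivedCategory.Q
      L.mapDerivedCategory := ⟨L.mapDerivedCategoryFactors.symm⟩
  let _ : CatCommSq (G.mapHomologicalComplex (ComplexShape.up ℤ)) DerivedCategory.Q DerivedCategory.Q
      G.mapDerivedCategory := ⟨G.mapDerivedCategoryFactors.symm⟩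
  refine ⟨L.mapDerivedCategory.mapIso ((CatCommSq.iso (G.mapHomologicalComplex (ComplexShape.up ℤ))
      DerivedCategory.Q DerivedCategory.Q G.mapDerivedCategory).symm.app M) ≪≫
    (CatCommSq.iso (L.mapHomologicalComplex (ComplexShape.up ℤ))
      DerivedCategory.Q DerivedCategory.Q L.mapDerivedCategory).symm.app _, ?_⟩
  have := Adjunction.localization_counit_app (mapHomologicalComplexAdj adj (ComplexShape.up ℤ))
    DerivedCategory.Q (HomologicalComplex.quasiIso C (ComplexShape.up ℤ)) DerivedCategory.Q
    (HomologicalComplex.quasiIso D (ComplexShape.up ℤ)) L.mapDerivedCategory G.mapDerivedCategory M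
  simp only [Iso.trans_hom, Functor.mapIso_hom, Iso.app_hom, Iso.symm_hom, Category.assoc]
  exact this

lemma derivedAdj_unit_app_Q (M : CochainComplex C ℤ) :
    ∃ (e : DerivedCategory.Q.obj ((G.mapHomologicalComplex _).obj ((L.mapHomologicalComplex _).obj M)) ≅
        (L.mapDerivedCategory ⋙ G.mapDerivedCategory).obj (DerivedCategory.Q.obj M)),
      (derivedAdj adj).unit.app (DerivedCategory.Q.obj M) =
        DerivedCategory.Q.map ((unitHC adj (ComplexShape.up ℤ)).app M) ≫ e.hom := by
  let _ : CatCommSq (L.mapHomologicalComplex (ComplexShape.up ℤ)) DerivedCategory.Q DerivedCategory.Q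
      L.mapDerivedCategory := ⟨L.mapDerivedCategoryFactors.symm⟩
  let _ : CatCommSq (G.mapHomologicalComplex (ComplexShape.up ℤ)) DerivedCategory.Q DerivedCategory.Q
      G.mapDerivedCategory := ⟨G.mapDerivedCategoryFactors.symm⟩
  refine ⟨(CatCommSq.iso (G.mapHomologicalComplex (ComplexShape.up ℤ))
      DerivedCategory.Q DerivedCategory.Q G.mapDerivedCategory).app _ ≪≫
    G.mapDerivedCategory.mapIso ((CatCommSq.iso (L.mapHomologicalComplex (ComplexShape.up ℤ))
      DerivedCategory.Q DerivedCategory.Q L.mapDerivedCategory).app M), ?_⟩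
  have := Adjunction.localization_unit_app (mapHomologicalComplexAdj adj (ComplexShape.up ℤ))
    DerivedCategory.Q (HomologicalComplex.quasiIso C (ComplexShape.up ℤ)) DerivedCategory.Q
    (HomologicalComplex.quasiIso D (ComplexShape.up ℤ)) L.mapDerivedCategory G.mapDerivedCategory M
  simp only [Iso.trans_hom, Functor.mapIso_hom, Iso.app_hom]
  exact this

instance isIso_counit_derivedAdj [IsIso adj.counit] : IsIso (derivedAdj adj).counit := by
  have h : ∀ Y, IsIso ((derivedAdj adj).counit.app Y) := by
    intro Y
    have e : DerivedCategory.Q.obj (DerivedCategory.Q.objPreimage Y) ≅ Y :=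
      DerivedCategory.Q.objObjPreimageIso Y
    rw [← NatTrans.isIso_app_iff_of_iso _ e]
    obtain ⟨e', he'⟩ := derivedAdj_counit_app_Q adj (DerivedCategory.Q.objPreimage Y)
    rw [he']
    have : ∀ n, IsIso (((counitHC adj (ComplexShape.up ℤ)).app
        (DerivedCategory.Q.objPreimage Y)).f n) := fun n => by
      show IsIso (adj.counit.app _)
      infer_instance
    have : IsIso ((counitHC adj (ComplexShape.up ℤ)).app (DerivedCategory.Q.objPreimage Y)) :=
      HomologicalComplex.Hom.isIso_of_components _
    infer_instance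
  exact NatIso.isIso_of_isIso_app _

/-- the derived functor of an exact fully faithful right adjoint with exact left adjoint is fully
faithful -/
theorem full_faithful_mapDerivedCategory [IsIso adj.counit] :
    G.mapDerivedCategory.Full ∧ G.mapDerivedCategory.Faithful :=
  ⟨((derivedAdj adj).fullyFaithfulROfIsIsoCounit).full,
    ((derivedAdj adj).fullyFaithfulROfIsIsoCounit).faithful⟩

lemma isIso_homologyMap_unitHC_iff (M : CochainComplex C ℤ) (n : ℤ) :
    IsIso (HomologicalComplex.homologyMap ((unitHC adj (ComplexShape.up ℤ)).app M) n) ↔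
      IsIso (adj.unit.app (M.homology n)) := by
  have h1 : HomologicalComplex.homologyMap ((unitHC adj (ComplexShape.up ℤ)).app M) n =
      ShortComplex.homologyMap ((M.sc n).mapNatTrans adj.unit) := rfl
  have : PreservesFiniteLimits (L ⋙ G) := comp_preservesFiniteLimits L G
  have : PreservesFiniteColimits (L ⋙ G) := comp_preservesFiniteColimits L G
  have h2 := NatTrans.app_homology adj.unit (M.sc n)
  rw [h1]
  show _ ↔ IsIso (adj.unit.app (M.sc n).homology)
  rw [h2, isIso_comp_left_iff, isIso_comp_right_iff]
  exact Iff.rfl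

lemma isIso_unit_derivedAdj_app_iff (K : DerivedCategory C) :
    IsIso ((derivedAdj adj).unit.app K) ↔
      ∀ n : ℤ, IsIso (adj.unit.app ((DerivedCategory.homologyFunctor C n).obj K)) := by
  have e : DerivedCategory.Q.obj (DerivedCategory.Q.objPreimage K) ≅ K :=
    DerivedCategory.Q.objObjPreimageIso K
  set M := DerivedCategory.Q.objPreimage K
  rw [← NatTrans.isIso_app_iff_of_iso _ e]
  obtain ⟨e', he'⟩ := derivedAdj_unit_app_Q adj M
  have h1 : IsIso ((derivedAdj adj).unit.app (DerivedCategory.Q.obj M)) ↔
      QuasiIso ((unitHC adj (ComplexShape.up ℤ)).app M) := by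
    rw [he', ← DerivedCategory.isIso_Q_map_iff_quasiIso]
    constructor
    · intro h
      exact IsIso.of_isIso_comp_right _ e'.hom
    · intro h
      infer_instance
  rw [h1, quasiIso_iff]
  refine forall_congr' fun n => ?_
  rw [quasiIsoAt_iff_isIso_homologyMap, isIso_homologyMap_unitHC_iff]
  exact NatTrans.isIso_app_iff_of_iso adj.unit
    (((DerivedCategory.homologyFunctorFactors C n).app M).symm ≪≫
      (DerivedCategory.homologyFunctor C n).mapIso e)

/-- essential image of `G.mapDerivedCategory` -/
theorem essImage_mapDerivedCategory_iff [IsIso adj.counit] (K : DerivedCategory C) :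
    G.mapDerivedCategory.essImage K ↔
      ∀ n : ℤ, IsIso (adj.unit.app ((DerivedCategory.homologyFunctor C n).obj K)) := by
  have := (full_faithful_mapDerivedCategory adj).1
  have := (full_faithful_mapDerivedCategory adj).2
  rw [← (derivedAdj adj).isIso_unit_app_iff_mem_essImage, isIso_unit_derivedAdj_app_iff]

end Groth.Agent.Lib.DerivedFFExact65
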