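import Mathlib.Algebra.Homology.DerivedCategory.Linear
import Mathlib.Algebra.Homology.DerivedCategory.HomologySequence
import Mathlib.Algebra.Homology.ShortComplex.Linear
import Mathlib.Algebra.Category.ModuleCat.Abelian

/-!
Linearity of the homology functors on homological complexes and on the derived category
(helper59).
-/

set_option autoImplicit false

open CategoryTheory CategoryTheory.Limits

universe u v t

namespace Groth.Agent.Lib.DerivedHomologyLinear

variable (R : Type t) [Ring R] (C : Type u) [Category.{v} C] [Abelian C] [Linear R C]

set_option backward.isDefEq.respectTransparency false in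
lemma homologyMap_smul {ι : Type*} (c : ComplexShape ι) {K L : HomologicalComplex C c}
    (φ : K ⟶ L) (r : R) (i : ι) :
    HomologicalComplex.homologyMap (r • φ) i = r • HomologicalComplex.homologyMap φ i := by
  dsimp [HomologicalComplex.homologyMap]
  rw [← ShortComplex.homologyMap_smul]
  rfl

instance homologyFunctor_linear {ι : Type*} (c : ComplexShape ι) (i : ι) :
    (HomologicalComplex.homologyFunctor C c i).Linear R where
  map_smul φ r := homologyMap_smul R C c φ r i

attribute [local instance] HasDerivedCategory.standard in
instance derivedCategory_homologyFunctor_linear (n : ℤ) :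
    (DerivedCategory.homologyFunctor C n).Linear R := by
  have : Localization.Lifting DerivedCategory.Q
      (HomologicalComplex.quasiIso C (ComplexShape.up ℤ))
      (HomologicalComplex.homologyFunctor C (ComplexShape.up ℤ) n)
      (DerivedCategory.homologyFunctor C n) := ⟨DerivedCategory.homologyFunctorFactors C n⟩
  exact (Localization.functor_linear_iff DerivedCategory.Q
    (HomologicalComplex.quasiIso C (ComplexShape.up ℤ)) R
    (HomologicalComplex.homologyFunctor C (ComplexShape.up ℤ) n)
    (DerivedCategory.homologyFunctor C n)).mp inferInstance

attribute [local instance] HasDerivedCategory.standard in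
/-- On `D(R-Mod)`, the map induced on `H^n` by `r • 𝟙 K` is multiplication by `r`. -/
lemma homologyFunctor_map_smul_id_apply (A : Type u) [CommRing A] (r : A)
    (K : DerivedCategory (ModuleCat.{u} A)) (n : ℤ)
    (x : (DerivedCategory.homologyFunctor (ModuleCat.{u} A) n).obj K) :
    ((DerivedCategory.homologyFunctor (ModuleCat.{u} A) n).map (r • 𝟙 K)).hom x = r • x := by
  rw [Functor.map_smul, CategoryTheory.Functor.map_id]
  rfl

end Groth.Agent.Lib.DerivedHomologyLinear
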