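import Mathlib.Algebra.Homology.ShortComplex.FunctorEquivalence
import Mathlib.Algebra.Homology.ShortComplex.PreservesHomology
import Mathlib.Algebra.Homology.ShortComplex.ExactFunctor
import Mathlib.Algebra.Homology.ShortComplex.Limits
import Mathlib.Algebra.Homology.ShortComplex.HomologicalComplex
import Mathlib.Algebra.Homology.HomologicalComplexLimits
import Mathlib.CategoryTheory.Abelian.GrothendieckAxioms.Basic

/-!
# Homology commutes with exact limits (helper25; dual of helper21's `Lib/HomologyCoprod`)

If `A` is abelian and limits of shape `J` are exact in `A`, then the homology functors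
`ShortComplex A ⥤ A` and `HomologicalComplex A c ⥤ A` preserve limits of shape `J`.
-/

set_option autoImplicit false
set_option backward.isDefEq.respectTransparency false
universe v' u' v u

open CategoryTheory CategoryTheory.Limits

namespace Groth.Agent.Lib.HomologyProd

variable {A : Type u} [Category.{v} A] [Abelian A] {J : Type u'} [Category.{v'} J]
  [HasLimitsOfShape J A]

/-- `limit.π` as a natural transformation from `lim` to an evaluation functor. -/
noncomputable def πNat (j : J) : (lim : (J ⥤ A) ⥤ A) ⟶ (evaluation J A).obj j where
  app F := limit.π F j
  naturality F G α := by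
    dsimp
    rw [limMap_π]

variable (T : ShortComplex (J ⥤ A))

/-- The canonical cone with point `T.map lim`. -/
noncomputable def cone : Cone ((ShortComplex.functorEquivalence J A).functor.obj T) where
  pt := T.map lim
  π :=
    { app := fun j => T.mapNatTrans (πNat j)
      naturality := fun j j' a => by
        ext
        · dsimp [πNat]
          rw [Category.id_comp]
          exact (limit.w T.X₁ a).symm
        · dsimp [πNat]
          rw [Category.id_comp]
          exact (limit.w T.X₂ a).symm
        · dsimp [πNat]
          rw [Category.id_comp]
          exact (limit.w T.X₃ a).symm }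

/-- The canonical cone is a limit cone. -/
noncomputable def isLimitCone : IsLimit (cone T) :=
  ShortComplex.isLimitOfIsLimitπ _
    (IsLimit.ofIsoLimit (limit.isLimit T.X₁)
      (Cone.ext (Iso.refl _) (fun j => by dsimp [cone, πNat]; simp)))
    (IsLimit.ofIsoLimit (limit.isLimit T.X₂)
      (Cone.ext (Iso.refl _) (fun j => by dsimp [cone, πNat]; simp)))
    (IsLimit.ofIsoLimit (limit.isLimit T.X₃)
      (Cone.ext (Iso.refl _) (fun j => by dsimp [cone, πNat]; simp)))

section Exact

variable [HasExactLimitsOfShape J A]

instance : (lim : (J ⥤ A) ⥤ A).PreservesZeroMorphisms :=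
  Functor.preservesZeroMorphisms_of_preserves_terminal_object

omit [HasLimitsOfShape J A] in
lemma homologyMap_mapNatTrans_comp {F G : (J ⥤ A) ⥤ A} (τ : F ⟶ G)
    [F.PreservesZeroMorphisms] [G.PreservesZeroMorphisms]
    [F.PreservesLeftHomologyOf T] [G.PreservesLeftHomologyOf T] [F.PreservesRightHomologyOf T]
    [G.PreservesRightHomologyOf T] :
    ShortComplex.homologyMap (T.mapNatTrans τ) ≫ (T.mapHomologyIso G).hom =
      (T.mapHomologyIso F).hom ≫ τ.app T.homology := by
  rw [NatTrans.app_homology τ T, Iso.hom_inv_id_assoc]

/-- The identification of the pointwise homology with the homology in the functor category. -/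
noncomputable def homologyNatIso :
    (ShortComplex.functorEquivalence J A).functor.obj T ⋙ ShortComplex.homologyFunctor A ≅
      T.homology :=
  NatIso.ofComponents (fun j => T.mapHomologyIso ((evaluation J A).obj j)) (fun a =>
    homologyMap_mapNatTrans_comp T ((evaluation J A).map a))

/-- The homology functor sends the canonical limit cone to a limit cone. -/
noncomputable def isLimitMapCone :
    IsLimit ((ShortComplex.homologyFunctor A).mapCone (cone T)) := by
  refine IsLimit.ofIsoLimit
    ((IsLimit.postcomposeHomEquiv (homologyNatIso T).symm _).symm (limit.isLimit T.homology))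
    (Cone.ext (T.mapHomologyIso lim).symm (fun j => ?_))
  have := homologyMap_mapNatTrans_comp T (πNat j)
  change limit.π T.homology j ≫ (T.mapHomologyIso ((evaluation J A).obj j)).inv =
    (T.mapHomologyIso lim).inv ≫ ShortComplex.homologyMap (T.mapNatTrans (πNat j))
  rw [← cancel_mono (T.mapHomologyIso ((evaluation J A).obj j)).hom, Category.assoc,
    Iso.inv_hom_id, Category.comp_id, Category.assoc, this, Iso.inv_hom_id_assoc]
  rfl

instance : PreservesLimitsOfShape J (ShortComplex.homologyFunctor A) where
  preservesLimit {K} := by
    have : PreservesLimit (((ShortComplex.functorEquivalence J A).inverse ⋙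
        (ShortComplex.functorEquivalence J A).functor).obj K)
        (ShortComplex.homologyFunctor A) :=
      preservesLimit_of_preserves_limit_cone
        (isLimitCone ((ShortComplex.functorEquivalence J A).inverse.obj K))
        (isLimitMapCone _)
    exact preservesLimit_of_iso_diagram _
      ((ShortComplex.functorEquivalence J A).counitIso.app K)

end Exact

section HomologicalComplex

variable {ι : Type*} (c : ComplexShape ι)

instance (i : ι) : PreservesLimitsOfShape J (HomologicalComplex.shortComplexFunctor A c i) where
  preservesLimit := ⟨fun hs => ⟨ShortComplex.isLimitOfIsLimitπ _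
    (isLimitOfPreserves (HomologicalComplex.eval A c (c.prev i)) hs)
    (isLimitOfPreserves (HomologicalComplex.eval A c i) hs)
    (isLimitOfPreserves (HomologicalComplex.eval A c (c.next i)) hs)⟩⟩

variable [HasExactLimitsOfShape J A]

instance (i : ι) : PreservesLimitsOfShape J (HomologicalComplex.homologyFunctor A c i) :=
  preservesLimitsOfShape_of_natIso (HomologicalComplex.homologyFunctorIso A c i).symm

end HomologicalComplex

end Groth.Agent.Lib.HomologyProd
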