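import Mathlib.Algebra.Homology.HomotopyCategory
import Mathlib.Algebra.Homology.HomologicalComplexLimits
import Mathlib.CategoryTheory.Limits.Shapes.Products
import Mathlib.CategoryTheory.Limits.Preserves.Shapes.Products

/-!
# Products in the homotopy category (helper25; dual of helper21's `Lib/HomotopyCoprod`)

The quotient functor `HomologicalComplex V c ⥤ HomotopyCategory V c` preserves products
(when they exist termwise), and the homotopy category has products.
-/

set_option autoImplicit false
set_option backward.isDefEq.respectTransparency false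
universe w v u

open CategoryTheory CategoryTheory.Limits

namespace Groth.Agent.Lib.HomotopyProd

variable {V : Type u} [Category.{v} V] [Preadditive V] {ι : Type*} (c : ComplexShape ι)
  {J : Type w} [HasProductsOfShape J V]

section Homotopy

variable {c} (X : J → HomologicalComplex V c) {Y : HomologicalComplex V c}
  (h h' : Y ⟶ ∏ᶜ X) (H : ∀ j, Homotopy (h ≫ Pi.π X j) (h' ≫ Pi.π X j))

/-- The degreewise limit cone. -/
noncomputable def isLimitEval (p : ι) :
    IsLimit ((HomologicalComplex.eval V c p).mapCone (limit.cone (Discrete.functor X))) :=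
  isLimitOfPreserves (HomologicalComplex.eval V c p) (limit.isLimit _)

/-- The components of the assembled homotopy. -/
noncomputable def homAux (p q : ι) : Y.X p ⟶ (∏ᶜ X).X q :=
  (isLimitEval X q).lift (Cone.mk _ (Discrete.natTrans (fun ⟨j⟩ => (H j).hom p q)))

@[reassoc]
lemma homAux_π (j : J) (p q : ι) :
    homAux X h h' H p q ≫ (Pi.π X j).f q = (H j).hom p q :=
  (isLimitEval X q).fac _ ⟨j⟩

lemma hom_ext_eval {q : ι} {Z : V} (a b : Z ⟶ (∏ᶜ X).X q)
    (hab : ∀ j, a ≫ (Pi.π X j).f q = b ≫ (Pi.π X j).f q) : a = b :=
  (isLimitEval X q).hom_ext (fun ⟨j⟩ => hab j)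

/-- Homotopies on the factors assemble to a homotopy into the product. -/
noncomputable def homotopy : Homotopy h h' where
  hom := homAux X h h' H
  zero p q hpq := by
    apply hom_ext_eval
    intro j
    rw [homAux_π, (H j).zero p q hpq, zero_comp]
  comm p := by
    apply hom_ext_eval
    intro j
    have e1 : dNext p (homAux X h h' H) ≫ (Pi.π X j).f p = dNext p (H j).hom := by
      rw [← dNext_comp_right]
      congr 1
      funext a b
      exact homAux_π X h h' H j a b
    have e2 : prevD p (homAux X h h' H) ≫ (Pi.π X j).f p = prevD p (H j).hom := by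
      rw [← prevD_comp_right]
      congr 1
      funext a b
      exact homAux_π X h h' H j a b
    rw [Preadditive.add_comp, Preadditive.add_comp, e1, e2]
    exact (H j).comm p

end Homotopy

/-- The quotient functor to the homotopy category preserves products. -/
instance preservesLimit_quotient (X : J → HomologicalComplex V c) :
    PreservesLimit (Discrete.functor X) (HomotopyCategory.quotient V c) := by
  apply preservesLimit_of_preserves_limit_cone (limit.isLimit (Discrete.functor X))
  apply IsLimit.ofExistsUnique
  intro s
  have hsurj : ∀ j, ∃ g : s.pt.as ⟶ X j, (HomotopyCategory.quotient V c).map g = s.π.app ⟨j⟩ :=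
    fun j => (HomotopyCategory.quotient V c).map_surjective (s.π.app ⟨j⟩)
  choose g hg using hsurj
  refine ⟨(HomotopyCategory.quotient V c).map (Pi.lift g), ?_, ?_⟩
  · rintro ⟨j⟩
    change _ ≫ (HomotopyCategory.quotient V c).map (Pi.π X j) = _
    rw [← Functor.map_comp, Pi.lift_π, hg]
  · intro m hm
    obtain ⟨h, rfl⟩ := (HomotopyCategory.quotient V c).map_surjective m
    apply HomotopyCategory.eq_of_homotopy
    apply homotopy
    intro j
    apply HomotopyCategory.homotopyOfEq
    rw [Functor.map_comp, Pi.lift_π, hg]
    exact hm ⟨j⟩

instance : PreservesLimitsOfShape (Discrete J) (HomotopyCategory.quotient V c) where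
  preservesLimit {K} := by
    have : PreservesLimit (Discrete.functor (K.obj ∘ Discrete.mk))
        (HomotopyCategory.quotient V c) := preservesLimit_quotient c _
    exact preservesLimit_of_iso_diagram _ Discrete.natIsoFunctor.symm

/-- The homotopy category has products. -/
instance : HasProductsOfShape J (HomotopyCategory V c) where
  has_limit K := by
    have h : HasLimit (Discrete.functor (fun j => (K.obj ⟨j⟩).as) ⋙
        HomotopyCategory.quotient V c) :=
      ⟨⟨⟨_, isLimitOfPreserves (HomotopyCategory.quotient V c) (limit.isLimit _)⟩⟩⟩
    have e : Discrete.functor (fun j => (K.obj ⟨j⟩).as) ⋙ HomotopyCategory.quotient V c ≅ K :=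
      Discrete.natIso (fun ⟨j⟩ => Iso.refl _)
    exact hasLimit_of_iso e

end Groth.Agent.Lib.HomotopyProd
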