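import Groth.Agent.Lib.LocProd
import Groth.Agent.Lib.HomologyProd
import Groth.Agent.Lib.HomotopyProd
import Mathlib.Algebra.Homology.DerivedCategory.Fractions
import Mathlib.Algebra.Homology.DerivedCategory.HomologySequence

/-!
# Products in the derived category (helper25; dual of helper21's `Lib/DerivedCoprod`)

Let `A` be an abelian category in which products of shape `J` exist and are exact (AB4* for `J`).
Then `DerivedCategory A` has products of shape `J`, the localization functors
`Q : CochainComplex A ℤ ⥤ DerivedCategory A` and `Qh` preserve them, and so do the homology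
functors `DerivedCategory.homologyFunctor A n`.
-/

set_option autoImplicit false
set_option backward.isDefEq.respectTransparency false
universe w' w v u

open CategoryTheory CategoryTheory.Limits

namespace Groth.Agent.Lib.DerivedProd

section General

variable {C : Type*} [Category* C] {D : Type*} [Category* D] {E : Type*} [Category* E]
  {J : Type w'}

/-- If `F` is essentially surjective and preserves products of shape `J`, and `F ⋙ G` preserves
products of shape `J`, then so does `G`. -/
theorem preservesLimitsOfShape_of_comp (F : C ⥤ D) (G : D ⥤ E) [F.EssSurj]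
    [HasProductsOfShape J C] [PreservesLimitsOfShape (Discrete J) F]
    [PreservesLimitsOfShape (Discrete J) (F ⋙ G)] :
    PreservesLimitsOfShape (Discrete J) G where
  preservesLimit {K} := by
    let X : J → C := fun j => F.objPreimage (K.obj ⟨j⟩)
    have e : Discrete.functor X ⋙ F ≅ K :=
      Discrete.natIso (fun ⟨j⟩ => F.objObjPreimageIso (K.obj ⟨j⟩))
    have : PreservesLimit (Discrete.functor X ⋙ F) G :=
      preservesLimit_of_preserves_limit_cone
        (isLimitOfPreserves F (limit.isLimit (Discrete.functor X)))
        (isLimitOfPreserves (F ⋙ G) (limit.isLimit (Discrete.functor X)))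
    exact preservesLimit_of_iso_diagram G e

/-- A functor preserving products of shape `J` sends a product of maps inverted by it to an
isomorphism. -/
theorem isIso_map_piMap (G : D ⥤ E) [HasProductsOfShape J D] [HasProductsOfShape J E]
    [PreservesLimitsOfShape (Discrete J) G] {X X' : J → D} (s : ∀ j, X j ⟶ X' j)
    (hs : ∀ j, IsIso (G.map (s j))) : IsIso (G.map (Limits.Pi.map s)) := by
  have h : G.map (Limits.Pi.map s) ≫ piComparison G X' =
      piComparison G X ≫ Limits.Pi.map (fun j => G.map (s j)) := by
    apply Pi.hom_ext
    intro j
    rw [Category.assoc, piComparison_comp_π, ← G.map_comp, Pi.map_π, G.map_comp, Category.assoc,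
      Pi.map_π, piComparison_comp_π_assoc]
  have e : G.map (Limits.Pi.map s) = piComparison G X ≫
      (Pi.mapIso (fun j => asIso (G.map (s j)))).hom ≫ inv (piComparison G X') := by
    rw [← Category.assoc, IsIso.eq_comp_inv, h]
    rfl
  rw [e]
  infer_instance

end General

section Homotopy

variable {A : Type u} [Category.{v} A] [Abelian A] {ι : Type*} (c : ComplexShape ι)
  {J : Type w'} [HasLimitsOfShape (Discrete J) A] [HasExactLimitsOfShape (Discrete J) A]

instance (n : ι) : PreservesLimitsOfShape (Discrete J)
    (HomotopyCategory.homologyFunctor A c n) := by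
  have : PreservesLimitsOfShape (Discrete J)
      (HomotopyCategory.quotient A c ⋙ HomotopyCategory.homologyFunctor A c n) :=
    preservesLimitsOfShape_of_natIso (HomotopyCategory.homologyFunctorFactors A c n).symm
  exact preservesLimitsOfShape_of_comp (HomotopyCategory.quotient A c) _

/-- Quasi-isomorphisms in the homotopy category are stable under exact products. -/
theorem quasiIso_piMap {X X' : J → HomotopyCategory A c} (s : ∀ j, X j ⟶ X' j)
    (hs : ∀ j, HomotopyCategory.quasiIso A c (s j)) :
    HomotopyCategory.quasiIso A c (Limits.Pi.map s) :=
  fun n => isIso_map_piMap (HomotopyCategory.homologyFunctor A c n) s (fun j => hs j n)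

end Homotopy

section Derived

variable {A : Type u} [Category.{v} A] [Abelian A] [HasDerivedCategory.{w} A]
  {J : Type w'} [HasLimitsOfShape (Discrete J) A] [HasExactLimitsOfShape (Discrete J) A]

instance : PreservesLimitsOfShape (Discrete J) (DerivedCategory.Qh (C := A)) :=
  LocProd.preservesLimitsOfShape DerivedCategory.Qh
    (HomotopyCategory.quasiIso A (ComplexShape.up ℤ))
    (fun _ _ s hs => quasiIso_piMap (ComplexShape.up ℤ) s hs)

instance : PreservesLimitsOfShape (Discrete J) (DerivedCategory.Q (C := A)) :=
  preservesLimitsOfShape_of_natIso (DerivedCategory.quotientCompQhIso A)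

instance : HasProductsOfShape J (DerivedCategory A) :=
  LocProd.hasProductsOfShape DerivedCategory.Qh
    (HomotopyCategory.quasiIso A (ComplexShape.up ℤ))
    (fun _ _ s hs => quasiIso_piMap (ComplexShape.up ℤ) s hs)

instance (n : ℤ) : PreservesLimitsOfShape (Discrete J)
    (DerivedCategory.homologyFunctor A n) := by
  have : PreservesLimitsOfShape (Discrete J)
      (DerivedCategory.Q ⋙ DerivedCategory.homologyFunctor A n) :=
    preservesLimitsOfShape_of_natIso (DerivedCategory.homologyFunctorFactors A n).symm
  exact preservesLimitsOfShape_of_comp (DerivedCategory.Q (C := A)) _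

end Derived

end Groth.Agent.Lib.DerivedProd
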