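import Groth.Agent.Lib.ColimDescent96

/-!
# Descent of finitely presented algebras through weak filtered colimits of rings (helper62)

`IsWeakColim.exists_fp_descent`: if `A` is a weak filtered colimit of rings `G i` and `B` is a
finitely presented `A`-algebra, there are a stage `i` and a finitely presented `G i`-algebra `Bi`
with `B ≃ₐ[A] A ⊗[G i] Bi`.
-/

set_option autoImplicit false
universe u v

namespace Groth.Agent.Lib.DescFPRing

open TensorProduct Groth.Agent.Lib.ColimDescent96

variable {ι : Type v} {G : ι → Type u} [∀ i, CommRing (G i)] {A : Type u} [CommRing A]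
  {g : ∀ i, G i →+* A}

/-- A finitely presented algebra over a weak colimit of rings descends to some stage. -/
theorem exists_fp_descent (hW : IsWeakColim G g) (B : Type u) [CommRing B]
    [Algebra A B] [Algebra.FinitePresentation A B] :
    ∃ (i : ι) (Bi : Type u) (_ : CommRing Bi) (_ : Algebra (G i) Bi),
      Algebra.FinitePresentation (G i) Bi ∧
      letI : Algebra (G i) A := (g i).toAlgebra
      Nonempty (B ≃ₐ[A] A ⊗[G i] Bi) := by
  let P := Algebra.Presentation.ofFinitePresentation A B
  have hfg : (P.core).FG := by
    have : Algebra.FiniteType ℤ P.Core := inferInstance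
    exact (Subalgebra.fg_iff_finiteType P.core).2 this
  obtain ⟨j, l, hl⟩ := hW.exists_lift_subalgebra_fg P.core hfg
  let B₀ := P.ModelOfHasCoeffs P.Core
  have e : A ⊗[P.Core] B₀ ≃ₐ[A] B := P.tensorModelOfHasCoeffsEquiv P.Core
  let l' : P.Core →+* G j := l
  let _ : Algebra P.Core (G j) := l'.toAlgebra
  let _ : Algebra (G j) A := (g j).toAlgebra
  have : IsScalarTower P.Core (G j) A :=
    IsScalarTower.of_algebraMap_eq (fun a => (RingHom.congr_fun hl a).symm)
  refine ⟨j, G j ⊗[P.Core] B₀, inferInstance, inferInstance, inferInstance, ⟨e.symm.trans ?_⟩⟩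
  exact (Algebra.TensorProduct.cancelBaseChange P.Core (G j) A A B₀).symm

end Groth.Agent.Lib.DescFPRing
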