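import Groth.Agent.Lib.DescFPGlueModel
import Groth.Agent.Lib.DescFPRing
import Groth.Agent.Lib.LimDescentSmooth96

/-!
# Affine base case of EGA IV 8.8.2 (helper62)

`hasModel_of_affine`: `c` a limit of a cofiltered diagram `D` of schemes with affine transition
maps, `g₀ : Y₀ ⟶ D.obj i` locally of finite presentation with `Y₀` affine, `X` affine and
`f : X ⟶ c.pt` locally of finite presentation factoring through `Y₀ ×_{D i} c.pt`.  Then `f` is the
base change of a finitely presented morphism `Xi ⟶ D.obj j` (with `Xi` affine) for some `j`.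
-/

set_option autoImplicit false
universe u

open CategoryTheory Limits AlgebraicGeometry TensorProduct

namespace Groth.Agent.Lib.DescFP

open Groth.Agent.Lib.LimPullback Groth.Agent.Lib.LimDescent Groth.Agent.Lib.ColimTensor96
  Groth.Agent.Lib.ColimDescent96

/-- A weak colimit system of algebras is a weak colimit system of rings. -/
theorem isWeakColim_of_isWeakColimAlg {R : Type u} [CommRing R] {ι : Type u} {G : ι → Type u}
    [∀ i, CommRing (G i)] [∀ i, Algebra R (G i)] {A : Type u} [CommRing A] [Algebra R A]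
    {g : ∀ i, G i →ₐ[R] A} (hW : IsWeakColimAlg G g) :
    IsWeakColim G (fun i => (g i).toRingHom) := by
  obtain ⟨i₀⟩ := hW.nonempty
  constructor
  · intro T
    obtain ⟨j, h, -, hl⟩ := hW.lift_finset i₀ T
    exact ⟨j, fun a ha => hl a ha⟩
  · intro i T hT
    obtain ⟨j, h, hh, hk⟩ := hW.kill_finset i T hT
    refine ⟨j, h.toRingHom, ?_, hk⟩
    ext x
    exact congr($hh x)

attribute [local instance] stageAlg limAlg

variable {I : Type u} [Category.{u} I] (D : I ⥤ Scheme.{u}) (c : Cone D) [IsCofiltered I]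
  (hc : IsLimit c) [∀ {i j} (f : i ⟶ j), IsAffineHom (D.map f)]

include hc in
/-- Affine base case of EGA IV 8.8.2. -/
theorem hasModel_of_affine {X : Scheme.{u}} [IsAffine X] (f : X ⟶ c.pt)
    [LocallyOfFinitePresentation f] {i : I} {Y₀ : Scheme.{u}} [IsAffine Y₀] (g₀ : Y₀ ⟶ D.obj i)
    [IsOpenImmersion g₀] (u : X ⟶ pullback g₀ (c.π.app i))
    (hu : u ≫ pullback.snd g₀ (c.π.app i) = f) : HasModel D c f := by
  have := isAffineHom_π_app D c hc i
  have : IsAffine (pullback g₀ (c.π.app i)) := inferInstance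
  -- `u` is locally of finite presentation
  have hsnd : IsOpenImmersion (pullback.snd g₀ (c.π.app i)) := inferInstance
  have hulfp : LocallyOfFinitePresentation u := by
    have h1 : LocallyOfFinitePresentation (u ≫ pullback.snd g₀ (c.π.app i)) := by
      rw [hu]; infer_instance
    exact MorphismProperty.of_postcomp (W := @LocallyOfFinitePresentation)
      (W' := @IsOpenImmersion) u (pullback.snd g₀ (c.π.app i)) hsnd h1
  have hQ : RingHom.FinitePresentation u.appTop.hom :=
    (HasRingHomProperty.iff_of_isAffine (P := @LocallyOfFinitePresentation)).mp hulfp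
  let _ : Algebra (limRing D c g₀) Γ(X, ⊤) := u.appTop.hom.toAlgebra
  have hfpB : Algebra.FinitePresentation (limRing D c g₀) Γ(X, ⊤) := hQ
  have hW := isWeakColim_of_isWeakColimAlg (isWeakColimAlg_stage D c g₀ hc)
  obtain ⟨j, Bj, _, _, hfp, he⟩ := Groth.Agent.Lib.DescFPRing.exists_fp_descent hW Γ(X, ⊤)
  let _ : Algebra (stageRing D g₀ j) (limRing D c g₀) := (stageToLim D c g₀ j).toRingHom.toAlgebra
  obtain ⟨e⟩ := he
  have : IsAffine (pullback g₀ (D.map j.hom)) := inferInstance
  -- the ring pushout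
  let β : Bj →+* Γ(X, ⊤) := (e.symm : _ →+* Γ(X, ⊤)).comp
      (Algebra.TensorProduct.includeRight :
        Bj →ₐ[stageRing D g₀ j] limRing D c g₀ ⊗[stageRing D g₀ j] Bj).toRingHom
  have h0 := CommRingCat.isPushout_tensorProduct (stageRing D g₀ j) (limRing D c g₀) Bj
  have hpo : IsPushout (pbProj D c i g₀ j).appTop
      (CommRingCat.ofHom (algebraMap (stageRing D g₀ j) Bj)) u.appTop (CommRingCat.ofHom β) := by
    refine h0.of_iso (Iso.refl _) (Iso.refl _) (Iso.refl _)
      (e.symm.toRingEquiv.toCommRingCatIso) ?_ ?_ ?_ ?_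
    · ext x; rfl
    · ext x; rfl
    · ext x
      show e.symm (x ⊗ₜ[stageRing D g₀ j] (1 : Bj)) = u.appTop.hom x
      have : (x ⊗ₜ[stageRing D g₀ j] (1 : Bj)) =
          algebraMap (limRing D c g₀) (limRing D c g₀ ⊗[stageRing D g₀ j] Bj) x := rfl
      rw [this, e.symm.commutes]
      rfl
    · ext x; rfl
  have hpb := (isPullback_SpecMap_of_isPushout _ _ _ _ hpo).flip
  -- the model
  let Xi : Scheme.{u} := Spec (CommRingCat.of Bj)
  let q : Xi ⟶ pullback g₀ (D.map j.hom) :=
    Spec.map (CommRingCat.ofHom (algebraMap (stageRing D g₀ j) Bj)) ≫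
      (pullback g₀ (D.map j.hom)).isoSpec.inv
  let g : X ⟶ Xi := X.isoSpec.hom ≫ Spec.map (CommRingCat.ofHom β)
  have sqβ : IsPullback g u q (pbProj D c i g₀ j) := by
    refine hpb.of_iso X.isoSpec.symm (Iso.refl _) (pullback g₀ (c.π.app i)).isoSpec.symm
      (pullback g₀ (D.map j.hom)).isoSpec.symm ?_ ?_ ?_ ?_
    · simp [g]
    · exact Scheme.isoSpec_inv_naturality u
    · simp [q]
    · exact Scheme.isoSpec_inv_naturality (pbProj D c i g₀ j)
  have sqα := isPullback_pbProj D c i g₀ j
  have sq := sqβ.paste_vert sqα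
  rw [hu] at sq
  have hq : LocallyOfFinitePresentation q := by
    have h1 : LocallyOfFinitePresentation
        (Spec.map (CommRingCat.ofHom (algebraMap (stageRing D g₀ j) Bj))) := by
      rw [HasRingHomProperty.Spec_iff (P := @LocallyOfFinitePresentation)]
      exact (RingHom.finitePresentation_algebraMap).2 hfp
    infer_instance
  have hsndj : LocallyOfFinitePresentation (pullback.snd g₀ (D.map j.hom)) :=
    inferInstance
  exact ⟨j.left, Xi, q ≫ pullback.snd g₀ (D.map j.hom), g, inferInstance, inferInstance,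
    inferInstance, sq⟩

end Groth.Agent.Lib.DescFP
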