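import Mathlib

/-!
# Gluing two schemes along a common open subscheme (helper62)

For open immersions `a : V ⟶ W`, `b : V ⟶ U` the pushout `pushout a b` exists in `Scheme`
(Mathlib: locally directed colimits).  We record: the coprojections are jointly surjective open
immersions whose ranges meet exactly in the image of `V`; the pushout is quasi-compact /
quasi-separated when the pieces are and `V` is quasi-compact; and a gluing lemma for pullback
squares (`isPullback_glue`).
-/

set_option autoImplicit false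
universe u

open CategoryTheory Limits AlgebraicGeometry

namespace Groth.Agent.Lib.DescFPGlue

section Pushout

variable {V W U : Scheme.{u}} (a : V ⟶ W) (b : V ⟶ U) [IsOpenImmersion a] [IsOpenImmersion b]

instance isOpenImmersion_inl : IsOpenImmersion (pushout.inl a b) :=
  inferInstanceAs (IsOpenImmersion (colimit.ι (span a b) WalkingSpan.left))

instance isOpenImmersion_inr : IsOpenImmersion (pushout.inr a b) :=
  inferInstanceAs (IsOpenImmersion (colimit.ι (span a b) WalkingSpan.right))

theorem inl_or_inr (x : ↥(pushout a b)) :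
    (∃ w, pushout.inl a b w = x) ∨ (∃ u, pushout.inr a b u = x) := by
  obtain ⟨i, xi, h⟩ := Scheme.IsLocallyDirected.ι_jointly_surjective (span a b) x
  rcases i with _ | i
  · left
    refine ⟨a xi, ?_⟩
    rw [← h]
    have h1 : a ≫ pushout.inl a b = colimit.ι (span a b) WalkingSpan.zero :=
      colimit.w (span a b) WalkingSpan.Hom.fst
    rw [← h1]
    rfl
  · rcases i with _ | _
    · left; exact ⟨xi, h⟩
    · right; exact ⟨xi, h⟩

theorem exists_of_inl_eq_inr {w : W} {u : U} (h : pushout.inl a b w = pushout.inr a b u) :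
    ∃ v : V, a v = w ∧ b v = u := by
  have h' : colimit.ι (span a b) WalkingSpan.left w = colimit.ι (span a b) WalkingSpan.right u := h
  obtain ⟨k, fi, fj, x, h1, h2⟩ := (Scheme.IsLocallyDirected.ι_eq_ι_iff (span a b)).mp h'
  rcases k with _ | k
  · have e1 : fi = WalkingSpan.Hom.fst := Subsingleton.elim _ _
    have e2 : fj = WalkingSpan.Hom.snd := Subsingleton.elim _ _
    subst e1 e2
    exact ⟨x, h1, h2⟩
  · rcases k with _ | _
    · exfalso
      have t : WidePushoutShape.Hom (some WalkingPair.left) (some WalkingPair.right) := fj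
      cases t
    · exfalso
      have t : WidePushoutShape.Hom (some WalkingPair.right) (some WalkingPair.left) := fi
      cases t

theorem compactSpace_pushout [CompactSpace W] [CompactSpace U] : CompactSpace ↥(pushout a b) := by
  rw [← isCompact_univ_iff]
  have : (Set.univ : Set ↥(pushout a b)) = Set.range (pushout.inl a b) ∪
      Set.range (pushout.inr a b) := by
    ext x
    simp only [Set.mem_univ, Set.mem_union, Set.mem_range, true_iff]
    exact inl_or_inr a b x
  rw [this]
  exact (isCompact_range (pushout.inl a b).continuous).union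
    (isCompact_range (pushout.inr a b).continuous)

end Pushout

section QuasiSeparated

/-- A scheme covered by two quasi-separated opens with quasi-compact intersection is
quasi-separated. -/
theorem quasiSeparatedSpace_of_cover (X : Scheme.{u}) (s t : Set X) (hs : IsOpen s)
    (ht : IsOpen t) (hst : s ∪ t = Set.univ) (qs : IsQuasiSeparated s) (qt : IsQuasiSeparated t)
    (hc : IsCompact (s ∩ t)) : QuasiSeparatedSpace X := by
  let ι := {O : X.affineOpens // (O.1 : Set X) ⊆ s ∨ (O.1 : Set X) ⊆ t}
  let b : ι → Set X := fun O => (O.1.1 : Set X)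
  have hbasis : TopologicalSpace.IsTopologicalBasis (Set.range b) := by
    refine TopologicalSpace.isTopologicalBasis_of_isOpen_of_nhds ?_ ?_
    · rintro _ ⟨O, rfl⟩
      exact O.1.1.2
    · intro x O' hx hO'
      have hxst : x ∈ s ∪ t := hst ▸ Set.mem_univ x
      rcases hxst with hxs | hxt
      · obtain ⟨_, ⟨O, hO, rfl⟩, hxO, hOs⟩ :=
          X.isBasis_affineOpens.exists_subset_of_mem_open (show x ∈ O' ∩ s from ⟨hx, hxs⟩)
            (hO'.inter hs)
        exact ⟨_, ⟨⟨⟨O, hO⟩, Or.inl (hOs.trans Set.inter_subset_right)⟩, rfl⟩, hxO,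
          hOs.trans Set.inter_subset_left⟩
      · obtain ⟨_, ⟨O, hO, rfl⟩, hxO, hOs⟩ :=
          X.isBasis_affineOpens.exists_subset_of_mem_open (show x ∈ O' ∩ t from ⟨hx, hxt⟩)
            (hO'.inter ht)
        exact ⟨_, ⟨⟨⟨O, hO⟩, Or.inr (hOs.trans Set.inter_subset_right)⟩, rfl⟩, hxO,
          hOs.trans Set.inter_subset_left⟩
  have hbc : ∀ O : ι, IsCompact (b O) := fun O => O.1.2.isCompact
  have hbo : ∀ O : ι, IsOpen (b O) := fun O => O.1.1.2
  have hsto : IsOpen (s ∩ t) := hs.inter ht
  have key : ∀ A B : Set X, IsOpen A → IsCompact A → IsOpen B → IsCompact B → A ⊆ s → B ⊆ t →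
      IsCompact (A ∩ B) := by
    intro A B hA hA' hB hB' hAs hBt
    have h1 : IsCompact (A ∩ (s ∩ t)) := qs A (s ∩ t) hAs hA hA' Set.inter_subset_left hsto hc
    have h2 : IsCompact (B ∩ (s ∩ t)) := qt B (s ∩ t) hBt hB hB' Set.inter_subset_right hsto hc
    have h3 : IsCompact ((A ∩ (s ∩ t)) ∩ (B ∩ (s ∩ t))) :=
      qt _ _ (fun x hx => hx.2.2) (hA.inter hsto) h1 (fun x hx => hx.2.2) (hB.inter hsto) h2
    have e : A ∩ B = (A ∩ (s ∩ t)) ∩ (B ∩ (s ∩ t)) := by
      ext x
      constructor
      · rintro ⟨hxA, hxB⟩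
        exact ⟨⟨hxA, hAs hxA, hBt hxB⟩, ⟨hxB, hAs hxA, hBt hxB⟩⟩
      · rintro ⟨⟨hxA, -⟩, ⟨hxB, -⟩⟩
        exact ⟨hxA, hxB⟩
    rw [e]
    exact h3
  refine QuasiSeparatedSpace.of_isTopologicalBasis hbasis ?_
  intro O O'
  rcases O.2 with h | h <;> rcases O'.2 with h' | h'
  · exact qs _ _ h (hbo O) (hbc O) h' (hbo O') (hbc O')
  · exact key _ _ (hbo O) (hbc O) (hbo O') (hbc O') h h'
  · rw [Set.inter_comm]
    exact key _ _ (hbo O') (hbc O') (hbo O) (hbc O) h' h
  · exact qt _ _ h (hbo O) (hbc O) h' (hbo O') (hbc O')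

variable {V W U : Scheme.{u}} (a : V ⟶ W) (b : V ⟶ U) [IsOpenImmersion a] [IsOpenImmersion b]

theorem range_inl_inter_range_inr :
    Set.range (pushout.inl a b) ∩ Set.range (pushout.inr a b) =
      Set.range (a ≫ pushout.inl a b) := by
  ext x
  constructor
  · rintro ⟨⟨w, rfl⟩, ⟨u, hu⟩⟩
    obtain ⟨v, rfl, -⟩ := exists_of_inl_eq_inr a b hu.symm
    exact ⟨v, rfl⟩
  · rintro ⟨v, rfl⟩
    refine ⟨⟨a v, rfl⟩, ⟨b v, ?_⟩⟩
    change (b ≫ pushout.inr a b) v = (a ≫ pushout.inl a b) v
    rw [pushout.condition]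

theorem quasiSeparatedSpace_pushout [QuasiSeparatedSpace W] [QuasiSeparatedSpace U]
    [CompactSpace V] : QuasiSeparatedSpace ↥(pushout a b) := by
  refine quasiSeparatedSpace_of_cover _ (Set.range (pushout.inl a b))
    (Set.range (pushout.inr a b)) (pushout.inl a b).isOpenEmbedding.isOpen_range
    (pushout.inr a b).isOpenEmbedding.isOpen_range ?_ ?_ ?_ ?_
  · ext x
    simp only [Set.mem_union, Set.mem_range, Set.mem_univ, iff_true]
    exact inl_or_inr a b x
  · rw [← Set.image_univ]
    exact ((pushout.inl a b).isOpenEmbedding.isQuasiSeparated_iff).mp isQuasiSeparated_univ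
  · rw [← Set.image_univ]
    exact ((pushout.inr a b).isOpenEmbedding.isQuasiSeparated_iff).mp isQuasiSeparated_univ
  · rw [range_inl_inter_range_inr]
    exact isCompact_range (a ≫ pushout.inl a b).continuous

end QuasiSeparated

section Glue

/-- The open cover of a scheme by two jointly surjective open immersions. -/
noncomputable def twoCover {X W U : Scheme.{u}} (jW : W ⟶ X) (jU : U ⟶ X) [IsOpenImmersion jW]
    [IsOpenImmersion jU] (hcov : ∀ x : X, x ∈ Set.range jW ∨ x ∈ Set.range jU) : X.OpenCover :=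
  Scheme.Cover.mkOfCovers Bool (fun j => match j with | true => W | false => U)
    (fun j => match j with | true => jW | false => jU)
    (fun x => by
      rcases hcov x with ⟨w, hw⟩ | ⟨u', hu⟩
      · exact ⟨true, w, hw⟩
      · exact ⟨false, u', hu⟩)
    (fun j => match j with | true => inferInstanceAs (IsOpenImmersion jW)
                           | false => inferInstanceAs (IsOpenImmersion jU))

variable {X S T : Scheme.{u}} (f : X ⟶ S) (π : S ⟶ T)
  {W U : Scheme.{u}} (jW : W ⟶ X) (jU : U ⟶ X) [IsOpenImmersion jW] [IsOpenImmersion jU]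
  (hcov : ∀ x : X, x ∈ Set.range jW ∨ x ∈ Set.range jU)
  {W' U' V' : Scheme.{u}} (w' : W' ⟶ T) (u' : U' ⟶ T) (a' : V' ⟶ W') (b' : V' ⟶ U')
  [IsOpenImmersion a'] [IsOpenImmersion b'] (hab : a' ≫ w' = b' ≫ u')
  (gW : W ⟶ W') (gU : U ⟶ U') (gV : pullback jW jU ⟶ V')

include hcov in
/-- Gluing lemma: two pullback squares over `π : S ⟶ T` for the pieces of an open cover
`X = W ∪ U`, compatible on `W ∩ U`, glue to a pullback square for `X` and the pushout of the
models. -/
theorem exists_glue (sqW : IsPullback gW (jW ≫ f) w' π) (sqU : IsPullback gU (jU ≫ f) u' π)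
    (sqa : IsPullback gV (pullback.fst jW jU) a' gW)
    (sqb : IsPullback gV (pullback.snd jW jU) b' gU) :
    ∃ g : X ⟶ pushout a' b', IsPullback g f (pushout.desc w' u' hab) π ∧
      jW ≫ g = gW ≫ pushout.inl a' b' ∧ jU ≫ g = gU ≫ pushout.inr a' b' := by
  let 𝒰 := twoCover jW jU hcov
  let fam : ∀ j : 𝒰.I₀, 𝒰.X j ⟶ pushout a' b' := fun j =>
    match j with
    | true => gW ≫ pushout.inl a' b'
    | false => gU ≫ pushout.inr a' b'
  have hWU : pullback.fst jW jU ≫ gW ≫ pushout.inl a' b' =
      pullback.snd jW jU ≫ gU ≫ pushout.inr a' b' := by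
    rw [← Category.assoc, ← sqa.w, ← Category.assoc, ← sqb.w, Category.assoc, Category.assoc,
      pushout.condition]
  have hfam : ∀ i j : 𝒰.I₀, pullback.fst (𝒰.f i) (𝒰.f j) ≫ fam i =
      pullback.snd (𝒰.f i) (𝒰.f j) ≫ fam j := by
    intro i j
    match i, j with
    | true, true =>
      change pullback.fst jW jW ≫ _ = pullback.snd jW jW ≫ _
      rw [fst_eq_snd_of_mono_eq]
    | false, false =>
      change pullback.fst jU jU ≫ _ = pullback.snd jU jU ≫ _
      rw [fst_eq_snd_of_mono_eq]
    | true, false => exact hWU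
    | false, true =>
      change pullback.fst jU jW ≫ gU ≫ pushout.inr a' b' =
        pullback.snd jU jW ≫ gW ≫ pushout.inl a' b'
      rw [← pullbackSymmetry_hom_comp_snd, ← pullbackSymmetry_hom_comp_fst jU jW,
        Category.assoc, Category.assoc, hWU]
  let g : X ⟶ pushout a' b' := 𝒰.glueMorphisms fam hfam
  have hgW : jW ≫ g = gW ≫ pushout.inl a' b' := 𝒰.ι_glueMorphisms fam hfam true
  have hgU : jU ≫ g = gU ≫ pushout.inr a' b' := 𝒰.ι_glueMorphisms fam hfam false
  refine ⟨g, ?_, hgW, hgU⟩
  have hgW' : ∀ w₁, g (jW w₁) = pushout.inl a' b' (gW w₁) := fun w₁ => by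
    rw [← Scheme.Hom.comp_apply, hgW, Scheme.Hom.comp_apply]
  have hgU' : ∀ u₁, g (jU u₁) = pushout.inr a' b' (gU u₁) := fun u₁ => by
    rw [← Scheme.Hom.comp_apply, hgU, Scheme.Hom.comp_apply]
  -- the preimages of the two pieces
  have preW : g ⁻¹ᵁ (pushout.inl a' b').opensRange = jW.opensRange := by
    ext x
    constructor
    · rintro ⟨w₁, hw₁⟩
      rcases hcov x with hx | ⟨u₁, rfl⟩
      · exact hx
      · have h1 : pushout.inl a' b' w₁ = pushout.inr a' b' (gU u₁) := by
          rw [← hgU' u₁]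
          exact hw₁
        obtain ⟨v₁, hv₁, hv₂⟩ := exists_of_inl_eq_inr a' b' h1
        obtain ⟨z, hz₁, hz₂⟩ := Scheme.Pullback.exists_preimage_pullback (f := b') (g := gU)
          v₁ u₁ hv₂
        let p := sqb.isoPullback.inv z
        have hp : pullback.snd jW jU p = u₁ := by
          change (sqb.isoPullback.inv ≫ pullback.snd jW jU) z = u₁
          rw [sqb.isoPullback_inv_snd]
          exact hz₂
        refine ⟨pullback.fst jW jU p, ?_⟩
        rw [← hp]
        change (pullback.fst jW jU ≫ jW) p = (pullback.snd jW jU ≫ jU) p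
        rw [pullback.condition]
    · rintro ⟨w₁, rfl⟩
      show g (jW w₁) ∈ (pushout.inl a' b').opensRange
      rw [hgW' w₁]
      exact ⟨gW w₁, rfl⟩
  have preU : g ⁻¹ᵁ (pushout.inr a' b').opensRange = jU.opensRange := by
    ext x
    constructor
    · rintro ⟨u₁, hu₁⟩
      rcases hcov x with ⟨w₁, rfl⟩ | hx
      · have h1 : pushout.inl a' b' (gW w₁) = pushout.inr a' b' u₁ := by
          rw [← hgW' w₁]
          exact hu₁.symm
        obtain ⟨v₁, hv₁, hv₂⟩ := exists_of_inl_eq_inr a' b' h1
        obtain ⟨z, hz₁, hz₂⟩ := Scheme.Pullback.exists_preimage_pullback (f := a') (g := gW)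
          v₁ w₁ hv₁
        let p := sqa.isoPullback.inv z
        have hp : pullback.fst jW jU p = w₁ := by
          change (sqa.isoPullback.inv ≫ pullback.fst jW jU) z = w₁
          rw [sqa.isoPullback_inv_snd]
          exact hz₂
        refine ⟨pullback.snd jW jU p, ?_⟩
        rw [← hp]
        change (pullback.snd jW jU ≫ jU) p = (pullback.fst jW jU ≫ jW) p
        rw [pullback.condition]
      · exact hx
    · rintro ⟨u₁, rfl⟩
      show g (jU u₁) ∈ (pushout.inr a' b').opensRange
      rw [hgU' u₁]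
      exact ⟨gU u₁, rfl⟩
  have pbW : IsPullback gW jW (pushout.inl a' b') g :=
    IsOpenImmersion.isPullback gW jW (pushout.inl a' b') g hgW preW
  have pbU : IsPullback gU jU (pushout.inr a' b') g :=
    IsOpenImmersion.isPullback gU jU (pushout.inr a' b') g hgU preU
  let 𝒱 := twoCover (pushout.inl a' b') (pushout.inr a' b') (fun x => inl_or_inr a' b' x)
  refine Scheme.isPullback_of_openCover g f (pushout.desc w' u' hab) π 𝒱 ?_
  intro j
  match j with
  | true =>
    change IsPullback (pullback.snd g (pushout.inl a' b')) (pullback.fst g (pushout.inl a' b') ≫ f)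
      (pushout.inl a' b' ≫ pushout.desc w' u' hab) π
    rw [pushout.inl_desc]
    refine IsPullback.of_iso sqW pbW.flip.isoPullback (Iso.refl _) (Iso.refl _) (Iso.refl _)
      ?_ ?_ ?_ ?_
    · simp
    · simp
    · simp
    · simp
  | false =>
    change IsPullback (pullback.snd g (pushout.inr a' b')) (pullback.fst g (pushout.inr a' b') ≫ f)
      (pushout.inr a' b' ≫ pushout.desc w' u' hab) π
    rw [pushout.inr_desc]
    refine IsPullback.of_iso sqU pbU.flip.isoPullback (Iso.refl _) (Iso.refl _) (Iso.refl _)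
      ?_ ?_ ?_ ?_
    · simp
    · simp
    · simp
    · simp

end Glue

end Groth.Agent.Lib.DescFPGlue
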