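import Groth.Agent.Lib.DescFPModel
import Groth.Agent.Lib.DescFPGlue

/-!
# Gluing models over a cofiltered limit (helper62)

`HasModel D c f`: the morphism `f : X ⟶ c.pt` is the base change of a finitely presented morphism
`Xi ⟶ D.obj i` with `Xi` quasi-compact and quasi-separated.  Main result `hasModel_glue`: if
`X = W ∪ U` (open immersions `jW`, `jU`) with `W ∩ U` quasi-compact and both `jW ≫ f` and `jU ≫ f`
have models, then `f` has a model (EGA IV 8.8.2, gluing step).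
-/

set_option autoImplicit false
universe u

open CategoryTheory Limits AlgebraicGeometry

namespace Groth.Agent.Lib.DescFP

open Groth.Agent.Lib.LimPullback Groth.Agent.Lib.LimDescent Groth.Agent.Lib.SpreadPair
  Groth.Agent.Lib.DescFPGlue Groth.Agent.Lib.ConsPairGeom

variable {I : Type u} [Category.{u} I] (D : I ⥤ Scheme.{u}) (c : Cone D)

/-- `f : X ⟶ c.pt` is the base change of a finitely presented morphism from a quasi-compact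
quasi-separated scheme to some stage. -/
def HasModel {X : Scheme.{u}} (f : X ⟶ c.pt) : Prop :=
  ∃ (i : I) (Xi : Scheme.{u}) (fi : Xi ⟶ D.obj i) (g : X ⟶ Xi),
    LocallyOfFinitePresentation fi ∧ CompactSpace Xi ∧ QuasiSeparatedSpace Xi ∧
      IsPullback g f fi (c.π.app i)

section

variable [∀ {i j} (f : i ⟶ j), IsAffineHom (D.map f)] {i j : I} (φ : j ⟶ i) {Yi : Scheme.{u}}
  (yi : Yi ⟶ D.obj i)

instance compactSpace_rebase [CompactSpace Yi] : CompactSpace ↥(pullback yi (D.map φ)) :=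
  compactSpace_pb D i yi (Over.mk φ)

instance quasiSeparatedSpace_rebase [QuasiSeparatedSpace Yi] :
    QuasiSeparatedSpace ↥(pullback yi (D.map φ)) :=
  quasiSeparatedSpace_pb D i yi (Over.mk φ)

instance lfp_rebase [LocallyOfFinitePresentation yi] :
    LocallyOfFinitePresentation (pullback.snd yi (D.map φ)) :=
  MorphismProperty.pullback_snd _ _ inferInstance

end

variable [IsCofiltered I] (hc : IsLimit c) [∀ {i j} (f : i ⟶ j), IsAffineHom (D.map f)]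

include hc in
/-- Gluing step of EGA IV 8.8.2. -/
theorem hasModel_glue {X : Scheme.{u}} (f : X ⟶ c.pt) {W U : Scheme.{u}} (jW : W ⟶ X)
    (jU : U ⟶ X) [IsOpenImmersion jW] [IsOpenImmersion jU]
    (hcov : ∀ x : X, x ∈ Set.range jW ∨ x ∈ Set.range jU) [CompactSpace ↥(pullback jW jU)]
    (hW : HasModel D c (jW ≫ f)) (hU : HasModel D c (jU ≫ f)) : HasModel D c f := by
  obtain ⟨i₁, W₁, w₁, gW₁, _, _, _, sqW₁⟩ := hW
  obtain ⟨i₂, U₁, u₁, gU₁, _, _, _, sqU₁⟩ := hU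
  -- common stage
  let i := IsCofiltered.min i₁ i₂
  let φ₁ : i ⟶ i₁ := IsCofiltered.minToLeft i₁ i₂
  let φ₂ : i ⟶ i₂ := IsCofiltered.minToRight i₁ i₂
  let w₂ := pullback.snd w₁ (D.map φ₁)
  let u₂ := pullback.snd u₁ (D.map φ₂)
  have sqW₂ := isPullback_pbLift D c φ₁ w₁ sqW₁
  have sqU₂ := isPullback_pbLift D c φ₂ u₁ sqU₁
  -- the intersection
  let a := pullback.fst jW jU
  let b := pullback.snd jW jU
  have hab : b ≫ jU ≫ f = a ≫ jW ≫ f := by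
    rw [← Category.assoc, ← Category.assoc, pullback.condition]
  -- Step 1: descend the open `V ⊆ W`
  obtain ⟨j₁, ψ₁, V', gV, hV', sqV⟩ := exists_open_descent D c hc w₂ sqW₂ a
  let w₃ := pullback.snd w₂ (D.map ψ₁)
  let u₃ := pullback.snd u₂ (D.map ψ₁)
  have sqW₃ := isPullback_pbLift D c ψ₁ w₂ sqW₂
  have sqU₃ := isPullback_pbLift D c ψ₁ u₂ sqU₂
  let a₃ : V'.toScheme ⟶ pullback w₂ (D.map ψ₁) := V'.ι
  let v₃ := a₃ ≫ w₃
  haveI : CompactSpace ↥V'.toScheme := isCompact_iff_compactSpace.mp hV'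
  haveI : QuasiSeparatedSpace ↥V'.toScheme := a₃.isOpenEmbedding.quasiSeparatedSpace
  have sqV₃ : IsPullback gV (a ≫ jW ≫ f) v₃ (c.π.app j₁) := sqV.paste_vert sqW₃
  -- Step 2: descend the morphism `b : V ⟶ U`
  obtain ⟨j₂, ψ₂, b₄, hb₄, hcompb⟩ := exists_hom_descent D c hc v₃ u₃ sqV₃ sqU₃ b hab
  let w₄ := pullback.snd w₃ (D.map ψ₂)
  let u₄ := pullback.snd u₃ (D.map ψ₂)
  let v₄ := pullback.snd v₃ (D.map ψ₂)
  have sqW₄ := isPullback_pbLift D c ψ₂ w₃ sqW₃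
  have sqU₄ := isPullback_pbLift D c ψ₂ u₃ sqU₃
  have sqV₄ := isPullback_pbLift D c ψ₂ v₃ sqV₃
  let a₄ := pbHom D ψ₂ v₃ w₃ a₃ rfl
  have ha₄ : a₄ ≫ w₄ = v₄ := pbHom_snd D ψ₂ v₃ w₃ a₃ rfl
  haveI : IsOpenImmersion a₄ :=
    MorphismProperty.of_isPullback (P := @IsOpenImmersion) (isPullback_pbHom D ψ₂ v₃ w₃ a₃ rfl)
      (inferInstanceAs (IsOpenImmersion V'.ι))
  have hcompa : pbLift D c ψ₂ v₃ gV (a ≫ jW ≫ f) sqV₃.w ≫ a₄ =
      a ≫ pbLift D c ψ₂ w₃ _ (jW ≫ f) sqW₃.w :=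
    pbLift_pbHom D c ψ₂ v₃ w₃ a₃ rfl gV (a ≫ jW ≫ f) sqV₃.w _ (jW ≫ f) sqW₃.w a rfl sqV.w
  -- Step 3: make `b₄` an open immersion
  obtain ⟨j₃, ψ₃, hb₅⟩ := exists_prop_descent D c hc @IsOpenImmersion descends_isOpenImmersion
    v₄ u₄ sqV₄ sqU₄ b hab b₄ hb₄ hcompb (inferInstanceAs (IsOpenImmersion (pullback.snd jW jU)))
  let w₅ := pullback.snd w₄ (D.map ψ₃)
  let u₅ := pullback.snd u₄ (D.map ψ₃)
  let v₅ := pullback.snd v₄ (D.map ψ₃)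
  have sqW₅ := isPullback_pbLift D c ψ₃ w₄ sqW₄
  have sqU₅ := isPullback_pbLift D c ψ₃ u₄ sqU₄
  have sqV₅ := isPullback_pbLift D c ψ₃ v₄ sqV₄
  let a₅ := pbHom D ψ₃ v₄ w₄ a₄ ha₄
  let b₅ := pbHom D ψ₃ v₄ u₄ b₄ hb₄
  have ha₅ : a₅ ≫ w₅ = v₅ := pbHom_snd D ψ₃ v₄ w₄ a₄ ha₄
  have hb₅' : b₅ ≫ u₅ = v₅ := pbHom_snd D ψ₃ v₄ u₄ b₄ hb₄
  haveI : IsOpenImmersion a₅ :=
    MorphismProperty.of_isPullback (P := @IsOpenImmersion) (isPullback_pbHom D ψ₃ v₄ w₄ a₄ ha₄)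
      inferInstance
  haveI : IsOpenImmersion b₅ := hb₅
  have hcompa₅ : pbLift D c ψ₃ v₄ _ (a ≫ jW ≫ f) sqV₄.w ≫ a₅ =
      a ≫ pbLift D c ψ₃ w₄ _ (jW ≫ f) sqW₄.w :=
    pbLift_pbHom D c ψ₃ v₄ w₄ a₄ ha₄ _ (a ≫ jW ≫ f) sqV₄.w _ (jW ≫ f) sqW₄.w a rfl hcompa
  have hcompb₅ : pbLift D c ψ₃ v₄ _ (a ≫ jW ≫ f) sqV₄.w ≫ b₅ =
      b ≫ pbLift D c ψ₃ u₄ _ (jU ≫ f) sqU₄.w :=
    pbLift_pbHom D c ψ₃ v₄ u₄ b₄ hb₄ _ (a ≫ jW ≫ f) sqV₄.w _ (jU ≫ f) sqU₄.w b hab hcompb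
  -- Step 4: glue
  have sqVa : IsPullback (pbLift D c ψ₃ v₄ _ (a ≫ jW ≫ f) sqV₄.w) (a ≫ jW ≫ f) (a₅ ≫ w₅)
      (c.π.app j₃) := by
    rw [ha₅]; exact sqV₅
  have sqVb : IsPullback (pbLift D c ψ₃ v₄ _ (a ≫ jW ≫ f) sqV₄.w) (b ≫ jU ≫ f) (b₅ ≫ u₅)
      (c.π.app j₃) := by
    rw [hb₅', hab]; exact sqV₅
  have sqa : IsPullback (pbLift D c ψ₃ v₄ _ (a ≫ jW ≫ f) sqV₄.w) a a₅
      (pbLift D c ψ₃ w₄ _ (jW ≫ f) sqW₄.w) := IsPullback.of_bot sqVa hcompa₅ sqW₅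
  have sqb : IsPullback (pbLift D c ψ₃ v₄ _ (a ≫ jW ≫ f) sqV₄.w) b b₅
      (pbLift D c ψ₃ u₄ _ (jU ≫ f) sqU₄.w) := IsPullback.of_bot sqVb hcompb₅ sqU₅
  have hab₅ : a₅ ≫ w₅ = b₅ ≫ u₅ := ha₅.trans hb₅'.symm
  obtain ⟨g, hg, hgW, hgU⟩ := exists_glue f (c.π.app j₃) jW jU hcov w₅ u₅ a₅ b₅ hab₅ _ _ _
    sqW₅ sqU₅ sqa sqb
  refine ⟨j₃, pushout a₅ b₅, pushout.desc w₅ u₅ hab₅, g, ?_, compactSpace_pushout a₅ b₅,
    quasiSeparatedSpace_pushout a₅ b₅, hg⟩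
  let 𝒱 := twoCover (pushout.inl a₅ b₅) (pushout.inr a₅ b₅) (fun x => inl_or_inr a₅ b₅ x)
  rw [IsZariskiLocalAtSource.iff_of_openCover (P := @LocallyOfFinitePresentation) 𝒱]
  intro k
  match k with
  | true =>
    change LocallyOfFinitePresentation (pushout.inl a₅ b₅ ≫ pushout.desc w₅ u₅ hab₅)
    rw [pushout.inl_desc]
    infer_instance
  | false =>
    change LocallyOfFinitePresentation (pushout.inr a₅ b₅ ≫ pushout.desc w₅ u₅ hab₅)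
    rw [pushout.inr_desc]
    infer_instance

end Groth.Agent.Lib.DescFP
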