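import Groth.Agent.Lib.ConsLocusModMain

/-!
# Descent of finitely presented modules on finitely presented schemes over a limit (helper62)

Relative to the hypothesis `ModDescent` (= statement S4788, EGA IV 8.5.2 (ii)).
* `exists_mod_descent`: `F` f.p. on `X = Xi ×_{D i} c.pt` comes from a f.p. module on a rebased model.
* `exists_affine_model_mod`: affine `X ⟶ S` of finite presentation with a f.p. module is the base
  change of an affine model over a finitely generated `ℤ`-algebra, with a model of the module.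
-/

set_option autoImplicit false
universe u

open CategoryTheory Limits AlgebraicGeometry

namespace Groth.Agent.Lib.ConsLocusMod

open Groth.Agent.Lib.DescFP Groth.Agent.Lib.LimDescent Groth.Agent.Lib.LimPullback
  Groth.Agent.Lib.SpreadPair

section Descent

variable {I : Type u} [Category.{u} I] (D : I ⥤ Scheme.{u}) (c : Cone D) [IsCofiltered I]
  (hc : IsLimit c) [∀ {i j} (f : i ⟶ j), IsAffineHom (D.map f)]

include hc in
/-- A finitely presented module on a scheme with a model at stage `i` comes from a finitely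
presented module on a rebased model. -/
theorem exists_mod_descent (H : ModDescent.{u}) {i : I} {Xi : Scheme.{u}} (fi : Xi ⟶ D.obj i)
    [CompactSpace Xi] [QuasiSeparatedSpace Xi] {X : Scheme.{u}} {f : X ⟶ c.pt} {g : X ⟶ Xi}
    (sq : IsPullback g f fi (c.π.app i)) (F : X.Modules) (hF : CohB1.IsFP F) :
    ∃ (j : I) (φ : j ⟶ i) (Fj : (pullback fi (D.map φ)).Modules), CohB1.IsFP Fj ∧
      Nonempty ((Scheme.Modules.pullback (pbLift D c φ fi g f sq.w)).obj Fj ≅ F) := by
  let e := sq.isoPullback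
  let cX : Cone (pbDiagram D i fi) := (pbCone D c i fi).extend e.hom
  have hcX : IsLimit cX := IsLimit.extendIso (s := pbCone D c i fi) e.hom (isLimitPbCone hc)
  have hleg : ∀ j : Over i, cX.π.app j = pbLift D c j.hom fi g f sq.w := by
    intro j
    change e.hom ≫ pbProj D c i fi j = _
    apply pullback.hom_ext
    · simp only [e, pbLift_fst, Category.assoc, pbProj_fst, IsPullback.isoPullback_hom_fst]
    · simp only [e, pbLift_snd, Category.assoc, pbProj_snd,
        IsPullback.isoPullback_hom_snd_assoc]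
  have hqc : Coh.IsQCoh F := (isCoh_of_isFP F hF).1
  let i' : Over i := Over.mk (𝟙 i)
  haveI : CompactSpace ((pbDiagram D i fi).obj i') :=
    (inferInstance : CompactSpace ↥(pullback fi (D.map i'.hom)))
  haveI : QuasiSeparatedSpace ((pbDiagram D i fi).obj i') :=
    (inferInstance : QuasiSeparatedSpace ↥(pullback fi (D.map i'.hom)))
  haveI : ∀ (j k : Over i) (a : j ⟶ k), IsAffineHom ((pbDiagram D i fi).map a) :=
    fun j k a => inferInstance
  obtain ⟨j, _, Fj, _, hFj, ⟨iso⟩⟩ :=
    @H (Over i) _ _ (pbDiagram D i fi) cX hcX _ i' _ _ F hqc hF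
  exact ⟨j.left, j.hom, Fj, hFj, ⟨(Scheme.Modules.pullbackCongr (hleg j).symm).app Fj ≪≫ iso⟩⟩

end Descent

open Groth.Agent.Lib.FGSubalgLimitU in
/-- An affine morphism of finite presentation to `Spec A` with a finitely presented module is the
base change of such data over a finitely generated `ℤ`-subalgebra of `A`. -/
theorem exists_affine_model_mod (H : ModDescent.{u}) (A : Type u) [CommRing A] {X : Scheme.{u}}
    (f : X ⟶ Spec (CommRingCat.of A)) [LocallyOfFinitePresentation f] [IsAffineHom f]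
    (F : X.Modules) (hF : CohB1.IsFP F) :
    ∃ (A₀ : Subalgebra ℤ A) (_ : A₀.FG) (X₀ : Scheme.{u})
      (f₀ : X₀ ⟶ Spec (CommRingCat.of ↥A₀)) (g' : X ⟶ X₀) (F₀ : X₀.Modules),
      IsAffine X₀ ∧ LocallyOfFinitePresentation f₀ ∧
      IsPullback g' f f₀ (Spec.map (CommRingCat.ofHom A₀.val.toRingHom)) ∧
      CohB1.IsFP F₀ ∧ Nonempty ((Scheme.Modules.pullback g').obj F₀ ≅ F) := by
  haveI : ∀ {i j : (FGSub ℤ A)ᵒᵖ} (φ : i ⟶ j), IsAffineHom ((D ℤ A).map φ) :=
    fun φ => inferInstance
  haveI : ∀ i, CompactSpace ((D ℤ A).obj i) := fun i =>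
    (inferInstance : CompactSpace (Spec (CommRingCat.of i.unop.1)))
  haveI : ∀ i, QuasiSeparatedSpace ((D ℤ A).obj i) := fun i =>
    (inferInstance : QuasiSeparatedSpace (Spec (CommRingCat.of i.unop.1)))
  have key : ∀ (f' : X ⟶ (cone ℤ A).pt) [LocallyOfFinitePresentation f'] [IsAffineHom f'],
      ∃ (k : (FGSub ℤ A)ᵒᵖ) (X₀ : Scheme.{u}) (f₀ : X₀ ⟶ (D ℤ A).obj k) (g' : X ⟶ X₀)
        (F₀ : X₀.Modules), IsAffineHom f₀ ∧ LocallyOfFinitePresentation f₀ ∧
        IsPullback g' f' f₀ ((cone ℤ A).π.app k) ∧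
        CohB1.IsFP F₀ ∧ Nonempty ((Scheme.Modules.pullback g').obj F₀ ≅ F) := by
    intro f' _ _
    obtain ⟨j, Xj, fj, q, hfj, _, _, _, sq⟩ := exists_model_with_prop (D ℤ A) (cone ℤ A)
      (isLimitCone ℤ A) @IsAffineHom Groth.Agent.Lib.ConsPairGeom.descends_isAffineHom f'
      inferInstance
    obtain ⟨k, φ, Fk, hFk, iso⟩ :=
      exists_mod_descent (D ℤ A) (cone ℤ A) (isLimitCone ℤ A) H fj sq F hF
    haveI : IsAffineHom fj := hfj
    exact ⟨k, pullback fj ((D ℤ A).map φ), pullback.snd _ _,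
      pbLift (D ℤ A) (cone ℤ A) φ fj q f' sq.w, Fk,
      MorphismProperty.pullback_snd (P := @IsAffineHom) _ _ hfj, inferInstance,
      isPullback_pbLift (D ℤ A) (cone ℤ A) φ fj sq, hFk, iso⟩
  obtain ⟨k, X₀, f₀, g', F₀, h1, h2, sq, hF₀, iso⟩ := @key f ‹_› ‹_›
  haveI : IsAffineHom f₀ := h1
  haveI : IsAffine ((D ℤ A).obj k) := (inferInstance : IsAffine (Spec (CommRingCat.of k.unop.1)))
  exact ⟨k.unop.1, k.unop.2, X₀, f₀, g', F₀, isAffine_of_isAffineHom f₀, h2, sq, hF₀, iso⟩

end Groth.Agent.Lib.ConsLocusMod
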