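import Mathlib
import Groth.Agent.Lib.ColimTensor96
import Groth.Agent.Lib.FlatLimDirected88

/-!
# Flatness descends through weak filtered colimits of algebras (helper72)

Adaptation of helper88's `FlatLimDirected88.exists_flat_stage_of_directed` / `FlatLimDirectedFP88.flat_directed_iff`
(EGA IV 11.2.6.1) from directed preorders to helper96's weak filtered colimit systems `IsWeakColimAlg`, which is the
form produced by cofiltered limits of schemes.

* `exists_lift_fun`, `exists_kill_finset`, `exists_algHom_lift` : finitely presented algebras map to a stage.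
* `exists_flat_stage_of_weakColim` : Noetherian model form.
* `exists_flat_stage` : `R` any ring, `B₀` f.p. `R`-algebra, `M₀` f.p. `B₀`-module, `A` weak filtered colimit of
  `R`-algebras `G i`: `A ⊗[R] M₀` flat over `A` ⇒ `G i ⊗[R] M₀` flat over `G i` for some `i`.
-/

set_option autoImplicit false
set_option maxHeartbeats 400000
set_option linter.style.haveILetI false

namespace Groth.Agent.Lib.H72FlatDescent

open TensorProduct Function Groth.Agent.Lib.ColimTensor96

section Lift

variable {k : Type*} [CommRing k] {ι : Type*} {G : ι → Type*} [∀ i, CommRing (G i)]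
  [∀ i, Algebra k (G i)] {A : Type*} [CommRing A] [Algebra k A] {g : ∀ i, G i →ₐ[k] A}

theorem exists_lift_fun (hG : IsWeakColimAlg G g) {n : ℕ} (a : Fin n → A) :
    ∃ (i : ι) (x : Fin n → G i), ∀ t, g i (x t) = a t := by
  induction n with
  | zero =>
    obtain ⟨i⟩ := hG.nonempty
    exact ⟨i, Fin.elim0, fun t => Fin.elim0 t⟩
  | succ n ih =>
    obtain ⟨i, x, hx⟩ := ih (fun t => a t.castSucc)
    obtain ⟨j, y, hy⟩ := hG.lift (a (Fin.last n))
    obtain ⟨l, u, v, hu, hv⟩ := hG.dir i j
    refine ⟨l, Fin.snoc (fun m => u (x m)) (v y), fun m => ?_⟩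
    induction m using Fin.lastCases with
    | last =>
      rw [Fin.snoc_last]
      exact (congr($hv y)).trans hy
    | cast m =>
      rw [Fin.snoc_castSucc]
      exact (congr($hu (x m))).trans (hx m)

theorem exists_kill_finset (hG : IsWeakColimAlg G g) (i : ι) (T : Finset (G i))
    (hT : ∀ x ∈ T, g i x = 0) :
    ∃ (j : ι) (h : G i →ₐ[k] G j), (g j).comp h = g i ∧ ∀ x ∈ T, h x = 0 := by
  classical
  induction T using Finset.induction_on with
  | empty =>
    exact ⟨i, AlgHom.id k (G i), AlgHom.comp_id _, fun x hx => absurd hx (Finset.notMem_empty x)⟩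
  | insert x T _ ih =>
    obtain ⟨j₁, h₁, hh₁, hk₁⟩ := ih (fun y hy => hT y (Finset.mem_insert_of_mem hy))
    have hx0 : g j₁ (h₁ x) = 0 := by
      have := congr($hh₁ x)
      rw [AlgHom.comp_apply] at this
      rw [this]
      exact hT x (Finset.mem_insert_self x T)
    obtain ⟨j₂, h₂, hh₂, hk₂⟩ := hG.kill j₁ (h₁ x) hx0
    refine ⟨j₂, h₂.comp h₁, ?_, fun y hy => ?_⟩
    · rw [← AlgHom.comp_assoc, hh₂, hh₁]
    · rcases Finset.mem_insert.mp hy with rfl | hy
      · exact hk₂
      · rw [AlgHom.comp_apply, hk₁ y hy, map_zero]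

/-- An algebra map from a finitely presented `k`-algebra to a weak filtered colimit lifts to a stage. -/
theorem exists_algHom_lift (hG : IsWeakColimAlg G g) {P : Type*} [CommRing P] [Algebra k P]
    [Algebra.FinitePresentation k P] (φ : P →ₐ[k] A) :
    ∃ (j : ι) (ψ : P →ₐ[k] G j), (g j).comp ψ = φ := by
  classical
  obtain ⟨n, f, hf, hK⟩ := Algebra.FinitePresentation.out (R := k) (A := P)
  obtain ⟨i, x, hx⟩ := exists_lift_fun hG (fun t => φ (f (MvPolynomial.X t)))
  let ψ₀ : MvPolynomial (Fin n) k →ₐ[k] G i := MvPolynomial.aeval x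
  have hψ₀ : (g i).comp ψ₀ = φ.comp f := by
    apply MvPolynomial.algHom_ext
    intro t
    simp [ψ₀, hx]
  obtain ⟨S, hS⟩ := hK
  have hSker : ∀ r ∈ S, f r = 0 := by
    intro r hr
    have : r ∈ RingHom.ker f.toRingHom := hS ▸ Ideal.subset_span hr
    exact this
  obtain ⟨j, h, hh, hkill⟩ := exists_kill_finset hG i (S.image ψ₀) (by
    intro y hy
    obtain ⟨r, hr, rfl⟩ := Finset.mem_image.1 hy
    have := congr($hψ₀ r)
    rw [AlgHom.comp_apply, AlgHom.comp_apply] at this
    rw [this, hSker r hr, map_zero])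
  let ψ₁ : MvPolynomial (Fin n) k →ₐ[k] G j := h.comp ψ₀
  have hker : ∀ p ∈ RingHom.ker f.toRingHom, ψ₁.toRingHom p = 0 := by
    intro p hp
    have hp' : p ∈ Ideal.span (S : Set (MvPolynomial (Fin n) k)) := by
      rw [hS]; exact hp
    have hle : Ideal.span (S : Set (MvPolynomial (Fin n) k)) ≤ RingHom.ker ψ₁.toRingHom := by
      rw [Ideal.span_le]
      intro r hr
      exact hkill _ (Finset.mem_image_of_mem ψ₀ hr)
    exact hle hp'
  have hfsurj : Function.Surjective f.toRingHom := hf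
  let ψr : P →+* G j := RingHom.liftOfSurjective f.toRingHom hfsurj ⟨ψ₁.toRingHom, hker⟩
  have hψr : ∀ q, ψr (f q) = ψ₁ q := fun q =>
    RingHom.liftOfRightInverse_comp_apply _ _ _ ⟨ψ₁.toRingHom, hker⟩ q
  let ψ : P →ₐ[k] G j :=
    { ψr with
      commutes' := fun c => by
        have h1 : algebraMap k P c = f (MvPolynomial.C c) := (f.commutes c).symm
        change ψr (algebraMap k P c) = _
        rw [h1, hψr]
        exact ψ₁.commutes c }
  refine ⟨j, ψ, ?_⟩
  apply AlgHom.ext
  intro p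
  obtain ⟨q, rfl⟩ := hf p
  rw [AlgHom.comp_apply]
  change g j (ψr (f q)) = φ (f q)
  rw [hψr]
  change g j (h (ψ₀ q)) = φ (f q)
  have h2 := congr($hh (ψ₀ q))
  rw [AlgHom.comp_apply] at h2
  rw [h2]
  exact congr($hψ₀ q)

end Lift


section Flat

open Groth.Agent.Lib.FlatLimStage88 Groth.Agent.Lib.FlatLimGlobal88 Groth.Agent.Lib.FlatLimModel88
  Groth.Agent.Lib.FlatLimDirected88
open scoped Groth.Agent.Lib.FlatLimStage88

universe u v

/-- Descent of flatness from a weak filtered colimit to a stage, Noetherian model form. -/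
theorem exists_flat_stage_of_weakColim {k : Type u} [CommRing k] [IsNoetherianRing k]
    (S₀ : Type u) {M₀ : Type u} [CommRing S₀] [Algebra k S₀] [Algebra.FiniteType k S₀]
    [AddCommGroup M₀] [Module k M₀] [Module S₀ M₀] [IsScalarTower k S₀ M₀] [Module.Finite S₀ M₀]
    {ι : Type v} {G : ι → Type u} [∀ i, CommRing (G i)] [∀ i, Algebra k (G i)]
    {A : Type u} [CommRing A] [Algebra k A] {g : ∀ i, G i →ₐ[k] A} (hG : IsWeakColimAlg G g)
    [Module.Flat A (A ⊗[k] M₀)] : ∃ i, Module.Flat (G i) (G i ⊗[k] M₀) := by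
  classical
  obtain ⟨A', -, hA', hflat⟩ :=
    exists_fg_flat_global (k := k) S₀ (M₀ := M₀) (R := A) ⊥ Subalgebra.fg_bot
  have hft : Algebra.FiniteType k A' := (Subalgebra.fg_iff_finiteType A').mp hA'
  have hfp : Algebra.FinitePresentation k A' := Algebra.FinitePresentation.of_finiteType.mp hft
  obtain ⟨i, ψ, -⟩ := exists_algHom_lift hG A'.val
  refine ⟨i, ?_⟩
  letI : Algebra A' (G i) := ψ.toRingHom.toAlgebra
  haveI : IsScalarTower k A' (G i) := IsScalarTower.of_algebraMap_eq fun c => (ψ.commutes c).symm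
  haveI : Module.Flat (G i) (G i ⊗[A'] (A' ⊗[k] M₀)) := inferInstance
  exact Module.Flat.of_linearEquiv
    (AlgebraTensorModule.cancelBaseChange k A' (G i) (G i) M₀).symm

set_option synthInstance.maxHeartbeats 400000 in
/-- **Flatness descends through weak filtered colimits** (EGA IV 11.2.6.1 in `IsWeakColimAlg` form). -/
theorem exists_flat_stage {A₀ : Type u} [CommRing A₀]
    {ι : Type v} {G : ι → Type u} [∀ i, CommRing (G i)] [∀ i, Algebra A₀ (G i)]
    {A : Type u} [CommRing A] [Algebra A₀ A] {g : ∀ i, G i →ₐ[A₀] A} (hG : IsWeakColimAlg G g)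
    {B₀ : Type u} [CommRing B₀] [Algebra A₀ B₀] [Algebra.FinitePresentation A₀ B₀]
    (M₀ : Type u) [AddCommGroup M₀] [Module B₀ M₀] [Module A₀ M₀] [IsScalarTower A₀ B₀ M₀]
    [Module.FinitePresentation B₀ M₀] (hflat : Module.Flat A (A ⊗[A₀] M₀)) :
    ∃ i : ι, Module.Flat (G i) (G i ⊗[A₀] M₀) := by
  classical
  -- presentation of the module
  obtain ⟨n, m, f, gg, hf, hex⟩ := Module.FinitePresentation.exists_fin' B₀ M₀
  let u : Fin m → Fin n → B₀ := fun j => gg (Pi.single j 1)
  have hu : LinearMap.ker f = Submodule.span B₀ (Set.range u) := by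
    rw [(LinearMap.exact_iff).mp hex, LinearMap.range_eq_map, ← (Pi.basisFun B₀ (Fin m)).span_eq,
      Submodule.map_span, ← Set.range_comp]
    congr 2
    funext j
    simp [u, Pi.basisFun_apply]
  obtain ⟨k, _, _, S₀, _, _, e, ub, hk, hS₀, hub⟩ := exists_model_data (R := A₀) (S := B₀) u
  haveI : IsNoetherianRing k := Algebra.FiniteType.isNoetherianRing ℤ k
  letI : Module k M₀ := Module.compHom M₀ (algebraMap k A₀)
  haveI : IsScalarTower k A₀ M₀ := IsScalarTower.of_algebraMap_smul fun _ _ => rfl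
  let ε : A₀ ⊗[k] Model0 ub ≃ₗ[A₀] M₀ := modelEquiv e f u hub hu hf
  -- `k`-algebra structures
  letI algA : Algebra k A := ((algebraMap A₀ A).comp (algebraMap k A₀)).toAlgebra
  haveI : IsScalarTower k A₀ A := IsScalarTower.of_algebraMap_eq fun _ => rfl
  letI algG : ∀ i, Algebra k (G i) := fun i =>
    ((algebraMap A₀ (G i)).comp (algebraMap k A₀)).toAlgebra
  haveI : ∀ i, IsScalarTower k A₀ (G i) := fun i => IsScalarTower.of_algebraMap_eq fun _ => rfl
  -- the system over `k`
  have hGk : IsWeakColimAlg (R := k) G (fun i => (g i).restrictScalars k) := by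
    refine ⟨hG.nonempty, fun i i' => ?_, hG.lift, fun i x hx => ?_⟩
    · obtain ⟨j, h, h', hh, hh'⟩ := hG.dir i i'
      exact ⟨j, h.restrictScalars k, h'.restrictScalars k, AlgHom.ext fun x => congr($hh x),
        AlgHom.ext fun x => congr($hh' x)⟩
    · obtain ⟨j, h, hh, hx'⟩ := hG.kill i x hx
      exact ⟨j, h.restrictScalars k, AlgHom.ext fun x => congr($hh x), hx'⟩
  -- transfer of flatness
  have key : ∀ (T : Type u) [CommRing T] [Algebra A₀ T] [Algebra k T] [IsScalarTower k A₀ T],
      Nonempty ((T ⊗[A₀] M₀) ≃ₗ[T] (T ⊗[k] Model0 ub)) := fun T _ _ _ _ =>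
    ⟨(AlgebraTensorModule.congr (LinearEquiv.refl T T) ε.symm) ≪≫ₗ
      (AlgebraTensorModule.cancelBaseChange k A₀ T T (Model0 ub))⟩
  obtain ⟨eA⟩ := key A
  haveI : Module.Flat A (A ⊗[k] Model0 ub) := Module.Flat.of_linearEquiv eA.symm
  obtain ⟨i, hi⟩ := exists_flat_stage_of_weakColim (k := k) S₀ (M₀ := Model0 ub) hGk
  obtain ⟨eG⟩ := key (G i)
  exact ⟨i, Module.Flat.of_linearEquiv eG⟩

end Flat

end Groth.Agent.Lib.H72FlatDescent
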