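import Mathlib
import Groth.Agent.Lib.ColimTensor96
import Groth.Agent.Lib.ThickeningBC

/-!
# Sections over an affine open of a cofiltered limit of schemes form a weak filtered colimit (helper72)

For a cofiltered diagram `E : J ⥤ Scheme` with affine transition maps, a limit cone `c`, an index
`j₀` and an affine open `Ω ⊆ E j₀`, the rings `Γ(E j, E(j → j₀)⁻¹ Ω)` (`j : Over j₀`) with the maps to
`Γ(c.pt, π_{j₀}⁻¹ Ω)` form a weak filtered colimit system of `Γ(E j₀, Ω)`-algebras in the sense of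
helper96's `IsWeakColimAlg`.  This is a repackaging of Mathlib's
`exists_appTop_π_eq_of_isAffine_of_isLimit` / `exists_appTop_map_eq_zero_of_isAffine_of_isLimit`.
-/

set_option autoImplicit false
universe u

open CategoryTheory Limits AlgebraicGeometry

namespace Groth.Agent.Lib.H72LimRing

variable {J : Type u} [Category.{u} J] (E : J ⥤ Scheme.{u}) (c : Cone E) (j₀ : J)
  (Ω : (E.obj j₀).Opens)

/-- The preimage of `Ω` at the stage `j → j₀`. -/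
abbrev ΩAt (j : Over j₀) : (E.obj j.left).Opens := E.map j.hom ⁻¹ᵁ Ω

/-- The preimage of `Ω` in the limit. -/
abbrev ΩLim : c.pt.Opens := c.π.app j₀ ⁻¹ᵁ Ω

theorem ΩLim_le (j : Over j₀) : ΩLim E c j₀ Ω ≤ c.π.app j.left ⁻¹ᵁ ΩAt E j₀ Ω j := by
  rw [← Scheme.Hom.comp_preimage, c.w]

theorem ΩAt_le {j k : Over j₀} (φ : j ⟶ k) :
    ΩAt E j₀ Ω j ≤ E.map φ.left ⁻¹ᵁ ΩAt E j₀ Ω k := by
  rw [← Scheme.Hom.comp_preimage, ← E.map_comp, Over.w φ]

/-- The `Γ(E j₀, Ω)`-algebra structure on the sections at stage `j`. -/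
@[reducible] noncomputable def algAt (j : Over j₀) :
    Algebra Γ(E.obj j₀, Ω) Γ(E.obj j.left, ΩAt E j₀ Ω j) :=
  ((E.map j.hom).appLE Ω (ΩAt E j₀ Ω j) le_rfl).hom.toAlgebra

/-- The `Γ(E j₀, Ω)`-algebra structure on the sections of the limit. -/
@[reducible] noncomputable def algLim : Algebra Γ(E.obj j₀, Ω) Γ(c.pt, ΩLim E c j₀ Ω) :=
  ((c.π.app j₀).appLE Ω (ΩLim E c j₀ Ω) le_rfl).hom.toAlgebra

attribute [local instance] algAt algLim

/-- The map from stage `j` to the limit, as an algebra map. -/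
noncomputable def toLim (j : Over j₀) :
    Γ(E.obj j.left, ΩAt E j₀ Ω j) →ₐ[Γ(E.obj j₀, Ω)] Γ(c.pt, ΩLim E c j₀ Ω) :=
  { ((c.π.app j.left).appLE (ΩAt E j₀ Ω j) (ΩLim E c j₀ Ω) (ΩLim_le E c j₀ Ω j)).hom with
    commutes' := fun r => by
      change ((E.map j.hom).appLE Ω (ΩAt E j₀ Ω j) le_rfl ≫
        (c.π.app j.left).appLE (ΩAt E j₀ Ω j) (ΩLim E c j₀ Ω)
        (ΩLim_le E c j₀ Ω j)).hom r = ((c.π.app j₀).appLE Ω (ΩLim E c j₀ Ω) le_rfl).hom r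
      congr 2
      rw [Scheme.Hom.appLE_comp_appLE]
      congr 1
      exact c.w j.hom }

/-- The transition map induced by a morphism of `Over j₀`, as an algebra map. -/
noncomputable def trans {j k : Over j₀} (φ : j ⟶ k) :
    Γ(E.obj k.left, ΩAt E j₀ Ω k) →ₐ[Γ(E.obj j₀, Ω)] Γ(E.obj j.left, ΩAt E j₀ Ω j) :=
  { ((E.map φ.left).appLE (ΩAt E j₀ Ω k) (ΩAt E j₀ Ω j) (ΩAt_le E j₀ Ω φ)).hom with
    commutes' := fun r => by
      change ((E.map k.hom).appLE Ω (ΩAt E j₀ Ω k) le_rfl ≫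
        (E.map φ.left).appLE (ΩAt E j₀ Ω k) (ΩAt E j₀ Ω j)
        (ΩAt_le E j₀ Ω φ)).hom r = ((E.map j.hom).appLE Ω (ΩAt E j₀ Ω j) le_rfl).hom r
      congr 2
      rw [Scheme.Hom.appLE_comp_appLE]
      congr 1
      rw [← E.map_comp, Over.w φ] }

theorem toLim_comp_trans {j k : Over j₀} (φ : j ⟶ k) :
    (toLim E c j₀ Ω j).comp (trans E j₀ Ω φ) = toLim E c j₀ Ω k := by
  ext r
  change ((E.map φ.left).appLE (ΩAt E j₀ Ω k) (ΩAt E j₀ Ω j) (ΩAt_le E j₀ Ω φ) ≫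
    (c.π.app j.left).appLE (ΩAt E j₀ Ω j) (ΩLim E c j₀ Ω) (ΩLim_le E c j₀ Ω j)).hom r =
    ((c.π.app k.left).appLE (ΩAt E j₀ Ω k) (ΩLim E c j₀ Ω) (ΩLim_le E c j₀ Ω k)).hom r
  congr 2
  rw [Scheme.Hom.appLE_comp_appLE]
  congr 1
  exact c.w φ.left

theorem res_injective_of_eq {X : Scheme.{u}} {U V : X.Opens} (h : V = U) :
    Function.Injective (X.presheaf.map (homOfLE h.le).op) := by
  subst h
  intro a b hab
  have : X.presheaf.map (homOfLE (le_refl V)).op = 𝟙 _ := X.presheaf.map_id _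
  rw [this] at hab
  exact hab

section

variable [IsCofiltered J] [∀ {i j} (φ : i ⟶ j), IsAffineHom (E.map φ)]

theorem exists_toLim_eq (hc : IsLimit c) (hΩ : IsAffineOpen Ω) (a : Γ(c.pt, ΩLim E c j₀ Ω)) :
    ∃ (j : Over j₀) (x : Γ(E.obj j.left, ΩAt E j₀ Ω j)), toLim E c j₀ Ω j x = a := by
  have hA : ∀ j : Over j₀, IsAffine ((opensDiagram E j₀ Ω).obj j) :=
    fun j => hΩ.preimage (E.map j.hom)
  obtain ⟨j, t₀, ht₀⟩ := exists_appTop_π_eq_of_isAffine_of_isLimit (opensDiagram E j₀ Ω)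
    (opensCone E c j₀ Ω) (isLimitOpensCone E c hc j₀ Ω) ((ΩLim E c j₀ Ω).topIso.inv a)
  let t : Γ(↑(ΩAt E j₀ Ω j), ⊤) := t₀
  have ht : ((c.π.app j.left).resLE (ΩAt E j₀ Ω j) (ΩLim E c j₀ Ω)
    (ΩLim_le E c j₀ Ω j)).appTop.hom t = (ΩLim E c j₀ Ω).topIso.inv.hom a := ht₀
  refine ⟨j, (ΩAt E j₀ Ω j).topIso.hom.hom t, ?_⟩
  have key := Groth.Agent.Lib.ThickeningBC.resLE_appTop_comm (c.π.app j.left)
    (ΩAt E j₀ Ω j) (ΩLim E c j₀ Ω) (ΩLim_le E c j₀ Ω j)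
  have key2 : (ΩLim E c j₀ Ω).topIso.hom.hom (((c.π.app j.left).resLE (ΩAt E j₀ Ω j)
      (ΩLim E c j₀ Ω) (ΩLim_le E c j₀ Ω j)).appTop.hom t) =
    ((c.π.app j.left).appLE (ΩAt E j₀ Ω j) (ΩLim E c j₀ Ω) (ΩLim_le E c j₀ Ω j)).hom
      ((ΩAt E j₀ Ω j).topIso.hom.hom t) := congr($(key).hom t)
  change ((c.π.app j.left).appLE (ΩAt E j₀ Ω j) (ΩLim E c j₀ Ω) (ΩLim_le E c j₀ Ω j)).hom
    ((ΩAt E j₀ Ω j).topIso.hom.hom t) = a
  rw [← key2, ht]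
  exact congr($((ΩLim E c j₀ Ω).topIso.inv_hom_id).hom a)

theorem exists_trans_eq_zero (hc : IsLimit c) (hΩ : IsAffineOpen Ω) (j : Over j₀)
    (x : Γ(E.obj j.left, ΩAt E j₀ Ω j)) (hx : toLim E c j₀ Ω j x = 0) :
    ∃ (k : Over j₀) (φ : k ⟶ j), trans E j₀ Ω φ x = 0 := by
  have heq : c.π.app j.left ⁻¹ᵁ ΩAt E j₀ Ω j = ΩLim E c j₀ Ω := by
    rw [← Scheme.Hom.comp_preimage, c.w]
  have hx' : (c.π.app j.left).app (ΩAt E j₀ Ω j) x = 0 := by
    apply res_injective_of_eq heq.symm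
    rw [map_zero]
    exact hx
  obtain ⟨k, f, hk⟩ := exists_app_map_eq_zero_of_isLimit E c hc
    (hΩ.preimage (E.map j.hom)).isCompact x hx'
  refine ⟨Over.mk (f ≫ j.hom), Over.homMk f rfl, ?_⟩
  change (E.obj k).presheaf.map (homOfLE _).op ((E.map f).app (ΩAt E j₀ Ω j) x) = 0
  rw [hk, map_zero]

open Groth.Agent.Lib.ColimTensor96 in
/-- **The sections over an affine open form a weak filtered colimit system.** -/
theorem isWeakColimAlg (hc : IsLimit c) (hΩ : IsAffineOpen Ω) :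
    IsWeakColimAlg (R := Γ(E.obj j₀, Ω)) (fun j : Over j₀ => Γ(E.obj j.left, ΩAt E j₀ Ω j))
      (toLim E c j₀ Ω) where
  nonempty := ⟨Over.mk (𝟙 j₀)⟩
  dir j k := by
    obtain ⟨l, a, b, -⟩ := IsCofilteredOrEmpty.cone_objs j k
    exact ⟨l, trans E j₀ Ω a, trans E j₀ Ω b, toLim_comp_trans E c j₀ Ω a,
      toLim_comp_trans E c j₀ Ω b⟩
  lift a := exists_toLim_eq E c j₀ Ω hc hΩ a
  kill j x hx := by
    obtain ⟨k, φ, hk⟩ := exists_trans_eq_zero E c j₀ Ω hc hΩ j x hx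
    exact ⟨k, trans E j₀ Ω φ, toLim_comp_trans E c j₀ Ω φ, hk⟩

end

end Groth.Agent.Lib.H72LimRing
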