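import Groth.Agent.Lib.H72FlatModChart
import Groth.Agent.Lib.H72FlatDescent
import Groth.Agent.Lib.H72LimRing
import Groth.Agent.Lib.LimDescentIso
import Groth.Agent.Lib.H72FlatBaseChange2
import Groth.Agent.Lib.H90OXModFP
import Groth.Agent.Lib.AlgSpBasic

/-!
# Flatness of a finitely presented module descends to a stage of a cofiltered limit (helper72)

EGA IV 11.2.6 (ii) for modules, in helper62's `LimDescent` setting (`bcMap`, `pbDiagram`).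

* `exists_stage_flat_chart` : on an affine chart `U₀ ≤ f₀⁻¹ V₀`.
* `isFlatOverAt_pullback_comp` : base change of flatness, pullback module written along a composite.
* `exists_stage_flat` : canonical global form (`X₀` quasi-compact, `f₀` l.f.p., `F₀` f.p.).
* `isFlatOverAt_of_stage`, `isFlatOver_iff_exists_stage` : the statement in the shape of S4849.
-/

set_option autoImplicit false
set_option linter.style.haveILetI false
universe u

open CategoryTheory AlgebraicGeometry TopologicalSpace Opposite TensorProduct Limits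

namespace Groth.Agent.Lib.H72FlatModLim

open Groth.Agent.Lib.LimPullback Groth.Agent.Lib.LimDescent Groth.Agent.Lib.ColimTensor96
  Groth.Agent.Lib.H72FlatModChart

theorem appLE_comp_eq {A B C : Scheme.{u}} (a : A ⟶ B) (b : B ⟶ C) (ab : A ⟶ C) (h : a ≫ b = ab)
    (W : C.Opens) (V : B.Opens) (U : A.Opens) (hV : V ≤ b ⁻¹ᵁ W) (hU : U ≤ a ⁻¹ᵁ V)
    (hUW : U ≤ ab ⁻¹ᵁ W) : b.appLE W V hV ≫ a.appLE V U hU = ab.appLE W U hUW := by
  subst h
  exact Scheme.Hom.appLE_comp_appLE ..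

variable {I : Type u} [Category.{u} I] [IsCofiltered I] (D : I ⥤ Scheme.{u}) (c : Cone D)
  [∀ {i j : I} (φ : i ⟶ j), IsAffineHom (D.map φ)]
variable {i₀ : I} {X₀ Y₀ : Scheme.{u}} (f₀ : X₀ ⟶ Y₀) (g₀ : Y₀ ⟶ D.obj i₀)

attribute [local instance] Groth.Agent.Lib.H72LimRing.algAt Groth.Agent.Lib.H72LimRing.algLim

set_option maxHeartbeats 1000000 in
/-- **Descent of flatness of a module on a chart.** -/
theorem exists_stage_flat_chart (hc : IsLimit c) (F₀ : X₀.Modules) [F₀.IsQuasicoherent]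
    {V₀ : Y₀.Opens} {U₀ : X₀.Opens} (hV₀ : IsAffineOpen V₀) (hU₀ : IsAffineOpen U₀)
    (hUV : U₀ ≤ f₀ ⁻¹ᵁ V₀)
    (hfp : (f₀.appLE V₀ U₀ hUV).hom.FinitePresentation)
    (hM : Module.FinitePresentation Γ(X₀, U₀) Γ(F₀, U₀))
    (hflat : ∀ x : ↥(pullback (f₀ ≫ g₀) (c.π.app i₀)),
      pullback.fst (f₀ ≫ g₀) (c.π.app i₀) x ∈ U₀ →
        FlatMod.IsFlatOverAt (bcMap f₀ g₀ (c.π.app i₀))
          ((Scheme.Modules.pullback (pullback.fst (f₀ ≫ g₀) (c.π.app i₀))).obj F₀) x) :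
    ∃ j : Over i₀, ∀ x : ↥(pullback (f₀ ≫ g₀) (D.map j.hom)),
      pullback.fst (f₀ ≫ g₀) (D.map j.hom) x ∈ U₀ →
        FlatMod.IsFlatOverAt (bcMap f₀ g₀ (D.map j.hom))
          ((Scheme.Modules.pullback (pullback.fst (f₀ ≫ g₀) (D.map j.hom))).obj F₀) x := by
  classical
  -- the system of the `Y_j`
  let E : Over i₀ ⥤ Scheme.{u} := pbDiagram D i₀ g₀
  let cE : Cone E := pbCone D c i₀ g₀
  have hcE : IsLimit cE := isLimitPbCone hc
  let j₀ : Over i₀ := Over.mk (𝟙 i₀)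
  let Ω : (E.obj j₀).Opens := (pullback.fst g₀ (D.map j₀.hom)) ⁻¹ᵁ V₀
  have hΩ : IsAffineOpen Ω := hV₀.preimage (pullback.fst g₀ (D.map j₀.hom))
  have hW := Groth.Agent.Lib.H72LimRing.isWeakColimAlg E cE j₀ Ω hcE hΩ
  let G : Over j₀ → Type u := fun k => Γ(E.obj k.left, Groth.Agent.Lib.H72LimRing.ΩAt E j₀ Ω k)
  let A : Type u := Γ(cE.pt, Groth.Agent.Lib.H72LimRing.ΩLim E cE j₀ Ω)
  have hk : ∀ k : Over j₀, Groth.Agent.Lib.H72LimRing.ΩAt E j₀ Ω k ≤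
      (pullback.fst g₀ (D.map k.left.hom)) ⁻¹ᵁ V₀ := by
    intro k
    change (pbMap D i₀ g₀ k.hom) ⁻¹ᵁ ((pullback.fst g₀ (D.map j₀.hom)) ⁻¹ᵁ V₀) ≤ _
    rw [← Scheme.Hom.comp_preimage, pbMap_fst]
  have hlim : Groth.Agent.Lib.H72LimRing.ΩLim E cE j₀ Ω ≤
      (pullback.fst g₀ (c.π.app i₀)) ⁻¹ᵁ V₀ := by
    change (pbProj D c i₀ g₀ j₀) ⁻¹ᵁ ((pullback.fst g₀ (D.map j₀.hom)) ⁻¹ᵁ V₀) ≤ _
    rw [← Scheme.Hom.comp_preimage, pbProj_fst]
  letI algR' : Algebra Γ(Y₀, V₀) Γ(E.obj j₀, Ω) :=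
    ((pullback.fst g₀ (D.map j₀.hom)).appLE V₀ Ω le_rfl).hom.toAlgebra
  letI algG : ∀ k : Over j₀, Algebra Γ(Y₀, V₀) (G k) := fun k =>
    ((pullback.fst g₀ (D.map k.left.hom)).appLE V₀ _ (hk k)).hom.toAlgebra
  letI algA : Algebra Γ(Y₀, V₀) A :=
    ((pullback.fst g₀ (c.π.app i₀)).appLE V₀ _ hlim).hom.toAlgebra
  haveI towG : ∀ k : Over j₀, IsScalarTower Γ(Y₀, V₀) Γ(E.obj j₀, Ω) (G k) := fun k =>
    IsScalarTower.of_algebraMap_eq fun r => by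
      have := appLE_comp_eq (pbMap D i₀ g₀ k.hom) (pullback.fst g₀ (D.map j₀.hom))
        (pullback.fst g₀ (D.map k.left.hom)) (pbMap_fst D i₀ g₀ k.hom) V₀ Ω
        (Groth.Agent.Lib.H72LimRing.ΩAt E j₀ Ω k) le_rfl le_rfl (hk k)
      exact congr($(this).hom r).symm
  haveI towA : IsScalarTower Γ(Y₀, V₀) Γ(E.obj j₀, Ω) A :=
    IsScalarTower.of_algebraMap_eq fun r => by
      have := appLE_comp_eq (pbProj D c i₀ g₀ j₀) (pullback.fst g₀ (D.map j₀.hom))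
        (pullback.fst g₀ (c.π.app i₀)) (pbProj_fst D c i₀ g₀ j₀) V₀ Ω
        (Groth.Agent.Lib.H72LimRing.ΩLim E cE j₀ Ω) le_rfl le_rfl hlim
      exact congr($(this).hom r).symm
  let gR : ∀ k : Over j₀, G k →ₐ[Γ(Y₀, V₀)] A := fun k =>
    (Groth.Agent.Lib.H72LimRing.toLim E cE j₀ Ω k).restrictScalars Γ(Y₀, V₀)
  have hWR : IsWeakColimAlg (R := Γ(Y₀, V₀)) G gR := by
    refine ⟨hW.nonempty, fun k k' => ?_, hW.lift, fun k x hx => ?_⟩
    · obtain ⟨l, h, h', hh, hh'⟩ := hW.dir k k'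
      exact ⟨l, h.restrictScalars Γ(Y₀, V₀), h'.restrictScalars Γ(Y₀, V₀),
        AlgHom.ext fun x => congr($hh x), AlgHom.ext fun x => congr($hh' x)⟩
    · obtain ⟨l, h, hh, hx'⟩ := hW.kill k x hx
      exact ⟨l, h.restrictScalars Γ(Y₀, V₀), AlgHom.ext fun x => congr($hh x), hx'⟩
  -- the module data
  letI algRA : Algebra Γ(Y₀, V₀) Γ(X₀, U₀) := (f₀.appLE V₀ U₀ hUV).hom.toAlgebra
  haveI : Algebra.FinitePresentation Γ(Y₀, V₀) Γ(X₀, U₀) := hfp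
  letI modRM : Module Γ(Y₀, V₀) Γ(F₀, U₀) := Module.compHom _ (f₀.appLE V₀ U₀ hUV).hom
  haveI : IsScalarTower Γ(Y₀, V₀) Γ(X₀, U₀) Γ(F₀, U₀) := .of_algebraMap_smul fun _ _ => rfl
  haveI : IsAffineHom (cE.π.app j₀) := isAffineHom_π_app E cE hcE j₀
  -- flatness at the limit
  have hA : Module.Flat A (A ⊗[Γ(Y₀, V₀)] Γ(F₀, U₀)) := by
    refine (forall_isFlatOverAt_chart_iff (isPullback_bcMap f₀ g₀ (c.π.app i₀)) F₀ hV₀ hU₀
      (hΩ.preimage (cE.π.app j₀)) hUV hlim).mp ?_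
    intro x hx
    exact hflat x hx.1
  obtain ⟨k, hk'⟩ := Groth.Agent.Lib.H72FlatDescent.exists_flat_stage hWR (B₀ := Γ(X₀, U₀))
    Γ(F₀, U₀) hA
  refine ⟨k.left, fun x hx => ?_⟩
  have hVk : IsAffineOpen (Groth.Agent.Lib.H72LimRing.ΩAt E j₀ Ω k) := hΩ.preimage (E.map k.hom)
  refine (forall_isFlatOverAt_chart_iff (isPullback_bcMap f₀ g₀ (D.map k.left.hom)) F₀ hV₀ hU₀ hVk
    hUV (hk k)).mpr hk' x ⟨hx, ?_⟩
  change (pullback.fst g₀ (D.map j₀.hom)) ((pbMap D i₀ g₀ k.hom)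
    (bcMap f₀ g₀ (D.map k.left.hom) x)) ∈ V₀
  rw [← Scheme.Hom.comp_apply, ← Scheme.Hom.comp_apply, pbMap_fst, bcMap_fst,
    Scheme.Hom.comp_apply]
  exact hUV hx

omit [IsCofiltered I] [∀ {i j : I} (φ : i ⟶ j), IsAffineHom (D.map φ)] in
/-- Flatness over the base passes to a base change, with the pullback module written along a
composite. -/
theorem isFlatOverAt_pullback_comp {X Y X' Y' Z : Scheme.{u}} {f : X ⟶ Y} {f' : X' ⟶ Y'}
    {g' : X' ⟶ X} {g : Y' ⟶ Y} (hsq : IsPullback g' f' f g) (q : X ⟶ Z) (q' : X' ⟶ Z)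
    (hq : g' ≫ q = q') (F : Z.Modules) [F.IsQuasicoherent] (x' : X')
    (h : FlatMod.IsFlatOverAt f ((Scheme.Modules.pullback q).obj F) (g' x')) :
    FlatMod.IsFlatOverAt f' ((Scheme.Modules.pullback q').obj F) x' := by
  subst hq
  haveI : ((Scheme.Modules.pullback q).obj F).IsQuasicoherent :=
    Groth.Agent.Lib.H72PullbackQCoh.isQuasicoherent_pullback q F
  have h1 := Groth.Agent.Lib.H72FlatBaseChange.isFlatOverAt_pullback_of_isPullback hsq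
    ((Scheme.Modules.pullback q).obj F) x' h
  exact (Groth.Agent.Lib.H72FlatBaseChange.isFlatOverAt_iff_of_iso f'
    ((Scheme.Modules.pullbackComp g' q).app F) x').mp h1

/-- **Flatness of a finitely presented module descends to a stage** (canonical form). -/
theorem exists_stage_flat (hc : IsLimit c) [CompactSpace X₀] [LocallyOfFinitePresentation f₀]
    (F₀ : X₀.Modules) [F₀.IsQuasicoherent]
    [SheafOfModules.IsFinitePresentation (R := X₀.ringCatSheaf) F₀]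
    (hflat : FlatMod.IsFlatOver (bcMap f₀ g₀ (c.π.app i₀))
      ((Scheme.Modules.pullback (pullback.fst (f₀ ≫ g₀) (c.π.app i₀))).obj F₀)) :
    ∃ j : Over i₀, FlatMod.IsFlatOver (bcMap f₀ g₀ (D.map j.hom))
      ((Scheme.Modules.pullback (pullback.fst (f₀ ≫ g₀) (D.map j.hom))).obj F₀) := by
  classical
  have h1 : ∀ x : X₀, ∃ V : Y₀.Opens, IsAffineOpen V ∧ f₀ x ∈ V := by
    intro x
    obtain ⟨_, ⟨V, hV, rfl⟩, hxV, -⟩ :=
      Y₀.isBasis_affineOpens.exists_subset_of_mem_open (Set.mem_univ (f₀ x)) isOpen_univ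
    exact ⟨V, hV, hxV⟩
  choose V hV hxV using h1
  have h2 : ∀ x : X₀, ∃ U : X₀.Opens, IsAffineOpen U ∧ x ∈ U ∧ U ≤ f₀ ⁻¹ᵁ V x := by
    intro x
    obtain ⟨_, ⟨U, hU, rfl⟩, hxU, hUV⟩ :=
      X₀.isBasis_affineOpens.exists_subset_of_mem_open (show x ∈ (f₀ ⁻¹ᵁ V x : Set X₀) from hxV x)
        (f₀ ⁻¹ᵁ V x).isOpen
    exact ⟨U, hU, hxU, hUV⟩
  choose U hU hxU hUV using h2
  have key : ∀ x : X₀, ∃ j : Over i₀, ∀ y : ↥(pullback (f₀ ≫ g₀) (D.map j.hom)),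
      pullback.fst (f₀ ≫ g₀) (D.map j.hom) y ∈ U x →
        FlatMod.IsFlatOverAt (bcMap f₀ g₀ (D.map j.hom))
          ((Scheme.Modules.pullback (pullback.fst (f₀ ≫ g₀) (D.map j.hom))).obj F₀) y :=
    fun x => exists_stage_flat_chart D c f₀ g₀ hc F₀ (hV x) (hU x) (hUV x)
      (f₀.finitePresentation_appLE (hV x) (hU x) (hUV x))
      (Groth.Agent.Lib.H90OXModFP.finitePresentation_sections F₀ (hU x)) (fun y _ => hflat y)
  choose jx hjx using key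
  obtain ⟨t, ht⟩ := isCompact_univ.elim_finite_subcover (fun x : X₀ => ((U x : X₀.Opens) : Set X₀))
    (fun x => (U x).isOpen) (fun x _ => Set.mem_iUnion.mpr ⟨x, hxU x⟩)
  obtain ⟨j, hj⟩ := IsCofiltered.inf_objs_exists (t.image jx)
  refine ⟨j, fun y => ?_⟩
  obtain ⟨x, hxt, hyx⟩ : ∃ x ∈ t, pullback.fst (f₀ ≫ g₀) (D.map j.hom) y ∈ U x := by
    have := ht (Set.mem_univ (pullback.fst (f₀ ≫ g₀) (D.map j.hom) y))
    simpa using this
  obtain ⟨m⟩ := hj (Finset.mem_image_of_mem jx hxt)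
  refine isFlatOverAt_pullback_comp (isPullback_pbMap_bcMap D f₀ g₀ m)
    (pullback.fst (f₀ ≫ g₀) (D.map (jx x).hom)) (pullback.fst (f₀ ≫ g₀) (D.map j.hom))
    (pbMap_fst D i₀ (f₀ ≫ g₀) m) F₀ y (hjx x _ ?_)
  rw [← Scheme.Hom.comp_apply, pbMap_fst]
  exact hyx

omit [IsCofiltered I] [∀ {i j : I} (φ : i ⟶ j), IsAffineHom (D.map φ)] in
/-- The easy direction: flatness at a stage gives flatness at any base change of it. -/
theorem isFlatOverAt_of_stage (F₀ : X₀.Modules) [F₀.IsQuasicoherent]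
    {X Y : Scheme.{u}} (f : X ⟶ Y) (qY : Y ⟶ Y₀) (qX : X ⟶ X₀)
    (hX : IsPullback qX f f₀ qY) {Xi Yi : Scheme.{u}} (fi : Xi ⟶ Yi) (pY : Yi ⟶ Y₀) (pX : Xi ⟶ X₀)
    (hXi : IsPullback pX fi f₀ pY) (vY : Y ⟶ Yi) (hvY : vY ≫ pY = qY) (x : X)
    (h : FlatMod.IsFlatOverAt fi ((Scheme.Modules.pullback pX).obj F₀)
      (hXi.lift qX (f ≫ vY) (by rw [Category.assoc, hvY, hX.w]) x)) :
    FlatMod.IsFlatOverAt f ((Scheme.Modules.pullback qX).obj F₀) x := by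
  set vX : X ⟶ Xi := hXi.lift qX (f ≫ vY) (by rw [Category.assoc, hvY, hX.w]) with hvX
  have e1 : vX ≫ pX = qX := hXi.lift_fst _ _ _
  have e2 : vX ≫ fi = f ≫ vY := hXi.lift_snd _ _ _
  have sq : IsPullback vX f fi vY := by
    refine IsPullback.of_right ?_ e2 hXi
    rw [e1, hvY]
    exact hX
  exact isFlatOverAt_pullback_comp sq pX qX e1 F₀ x h

/-- **EGA IV 11.2.6 (ii)**: flatness of a finitely presented module over a finitely presented
morphism holds at the limit iff it holds at a stage. -/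
theorem isFlatOver_iff_exists_stage (hc : IsLimit c) [CompactSpace X₀]
    [LocallyOfFinitePresentation f₀] (F₀ : X₀.Modules) [F₀.IsQuasicoherent]
    [SheafOfModules.IsFinitePresentation (R := X₀.ringCatSheaf) F₀]
    {X Y : Scheme.{u}} (f : X ⟶ Y) (g : Y ⟶ c.pt) (qY : Y ⟶ Y₀) (qX : X ⟶ X₀)
    (hY : IsPullback qY g g₀ (c.π.app i₀)) (hX : IsPullback qX f f₀ qY) :
    FlatMod.IsFlatOver f ((Scheme.Modules.pullback qX).obj F₀) ↔
      ∃ (i : I) (φ : i ⟶ i₀) (Xi Yi : Scheme.{u}) (fi : Xi ⟶ Yi) (gi : Yi ⟶ D.obj i)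
        (pY : Yi ⟶ Y₀) (pX : Xi ⟶ X₀),
        IsPullback pY gi g₀ (D.map φ) ∧ IsPullback pX fi f₀ pY ∧
          FlatMod.IsFlatOver fi ((Scheme.Modules.pullback pX).obj F₀) := by
  constructor
  · intro hflat
    obtain ⟨eX, eY, h1, h2, h3, h4⟩ := exists_arrow_iso f₀ g₀ (c.π.app i₀) f g qY qX hY hX
    have hcan : FlatMod.IsFlatOver (bcMap f₀ g₀ (c.π.app i₀))
        ((Scheme.Modules.pullback (pullback.fst (f₀ ≫ g₀) (c.π.app i₀))).obj F₀) := by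
      intro x
      have sq : IsPullback eX.inv (bcMap f₀ g₀ (c.π.app i₀)) f eY.inv := by
        refine IsPullback.of_horiz_isIso ⟨?_⟩
        rw [Iso.inv_comp_eq, ← Category.assoc, h1, Category.assoc, Iso.hom_inv_id,
          Category.comp_id]
      refine isFlatOverAt_pullback_comp sq qX _ ?_ F₀ x (hflat _)
      rw [Iso.inv_comp_eq, h2]
    obtain ⟨j, hj⟩ := exists_stage_flat D c f₀ g₀ hc F₀ hcan
    exact ⟨j.left, j.hom, _, _, bcMap f₀ g₀ (D.map j.hom), pullback.snd _ _, pullback.fst _ _,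
      pullback.fst _ _, IsPullback.of_hasPullback _ _, isPullback_bcMap f₀ g₀ _, hj⟩
  · rintro ⟨i, φ, Xi, Yi, fi, gi, pY, pX, hYi, hXi, hfl⟩ x
    let vY : Y ⟶ Yi := hYi.lift qY (g ≫ c.π.app i) (by rw [Category.assoc, c.w, hY.w])
    have hvY : vY ≫ pY = qY := hYi.lift_fst _ _ _
    exact isFlatOverAt_of_stage f₀ F₀ f qY qX hX fi pY pX hXi vY hvY x (hfl _)

end Groth.Agent.Lib.H72FlatModLim
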