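import Groth.Agent.Lib.DescFPMod
import Groth.Agent.Lib.H72FlatModLim

set_option autoImplicit false
universe u

open CategoryTheory Limits AlgebraicGeometry

namespace Groth.Agent.Lib.ConsLocusMod

open Groth.Agent.Lib.DescFP Groth.Agent.Lib.LimDescent Groth.Agent.Lib.LimPullback
  Groth.Agent.Lib.SpreadPair

theorem isFlatOver_comp_iso {X S T : Scheme.{u}} (f : X ⟶ S) (g : S ⟶ T) [IsIso g] (N : X.Modules)
    (h : FlatMod.IsFlatOver f N) : FlatMod.IsFlatOver (f ≫ g) N := by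
  intro x
  refine Groth.Agent.Lib.H72FlatBaseChange.isFlatOverAt_comp_of_flat f g N x ?_ (h x)
  exact RingHom.Flat.of_bijective (ConcreteCategory.bijective_of_isIso (g.stalkMap (f x)))

theorem isFlatOver_of_iso {X S : Scheme.{u}} (f : X ⟶ S) {F F' : X.Modules} (e : F ≅ F')
    (h : FlatMod.IsFlatOver f F) : FlatMod.IsFlatOver f F' :=
  fun x => (Groth.Agent.Lib.H72FlatBaseChange.isFlatOverAt_iff_of_iso f e x).mp (h x)

open Groth.Agent.Lib.FGSubalgLimitU in
/-- An affine morphism of finite presentation to `Spec A` with a finitely presented module flat over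
`A` is the base change of such data over a finitely generated `ℤ`-subalgebra of `A`. -/
theorem exists_affine_model_mod_flat (H : ModDescent.{u}) (A : Type u) [CommRing A] {X : Scheme.{u}}
    (f : X ⟶ Spec (CommRingCat.of A)) [LocallyOfFinitePresentation f] [IsAffineHom f]
    (F : X.Modules) (hF : CohB1.IsFP F) (hfl : FlatMod.IsFlatOver f F) :
    ∃ (A₀ : Subalgebra ℤ A) (_ : A₀.FG) (X₀ : Scheme.{u})
      (f₀ : X₀ ⟶ Spec (CommRingCat.of ↥A₀)) (g' : X ⟶ X₀) (F₀ : X₀.Modules),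
      IsAffine X₀ ∧ LocallyOfFinitePresentation f₀ ∧
      IsPullback g' f f₀ (Spec.map (CommRingCat.ofHom A₀.val.toRingHom)) ∧
      CohB1.IsFP F₀ ∧ FlatMod.IsFlatOver f₀ F₀ ∧
      Nonempty ((Scheme.Modules.pullback g').obj F₀ ≅ F) := by
  haveI : ∀ {i j : (FGSub ℤ A)ᵒᵖ} (φ : i ⟶ j), IsAffineHom ((D ℤ A).map φ) :=
    fun φ => inferInstance
  haveI : ∀ i, CompactSpace ((D ℤ A).obj i) := fun i =>
    (inferInstance : CompactSpace (Spec (CommRingCat.of i.unop.1)))
  haveI : ∀ i, QuasiSeparatedSpace ((D ℤ A).obj i) := fun i =>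
    (inferInstance : QuasiSeparatedSpace (Spec (CommRingCat.of i.unop.1)))
  have key : ∀ (f' : X ⟶ (cone ℤ A).pt) [LocallyOfFinitePresentation f'] [IsAffineHom f']
      (_ : FlatMod.IsFlatOver f' F),
      ∃ (k : (FGSub ℤ A)ᵒᵖ) (X₀ : Scheme.{u}) (f₀ : X₀ ⟶ (D ℤ A).obj k) (g' : X ⟶ X₀)
        (F₀ : X₀.Modules), IsAffineHom f₀ ∧ LocallyOfFinitePresentation f₀ ∧
        IsPullback g' f' f₀ ((cone ℤ A).π.app k) ∧
        CohB1.IsFP F₀ ∧ FlatMod.IsFlatOver f₀ F₀ ∧
        Nonempty ((Scheme.Modules.pullback g').obj F₀ ≅ F) := by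
    intro f' _ _ hfl'
    obtain ⟨j, Xj, fj, q, hfj, _, _, _, sq⟩ := exists_model_with_prop (D ℤ A) (cone ℤ A)
      (isLimitCone ℤ A) @IsAffineHom Groth.Agent.Lib.ConsPairGeom.descends_isAffineHom f'
      inferInstance
    obtain ⟨k, φ, Fk, hFk, ⟨iso⟩⟩ :=
      exists_mod_descent (D ℤ A) (cone ℤ A) (isLimitCone ℤ A) H fj sq F hF
    haveI : IsAffineHom fj := hfj
    -- the model at stage `k`
    let X₀ := pullback fj ((D ℤ A).map φ)
    let f₀ : X₀ ⟶ (D ℤ A).obj k := pullback.snd _ _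
    let g' : X ⟶ X₀ := pbLift (D ℤ A) (cone ℤ A) φ fj q f' sq.w
    have sq₀ : IsPullback g' f' f₀ ((cone ℤ A).π.app k) :=
      isPullback_pbLift (D ℤ A) (cone ℤ A) φ fj sq
    haveI : IsAffineHom f₀ := MorphismProperty.pullback_snd (P := @IsAffineHom) _ _ hfj
    haveI : LocallyOfFinitePresentation f₀ := inferInstance
    haveI : IsAffine ((D ℤ A).obj k) := (inferInstance : IsAffine (Spec (CommRingCat.of k.unop.1)))
    haveI : IsAffine X₀ := isAffine_of_isAffineHom f₀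
    haveI : SheafOfModules.IsFinitePresentation (R := X₀.ringCatSheaf) Fk := hFk
    haveI : Fk.IsQuasicoherent := (isCoh_of_isFP Fk hFk).1
    have hflat' : FlatMod.IsFlatOver f' ((Scheme.Modules.pullback g').obj Fk) :=
      isFlatOver_of_iso f' iso.symm hfl'
    have hY : IsPullback ((cone ℤ A).π.app k) (𝟙 (cone ℤ A).pt) (𝟙 ((D ℤ A).obj k))
        ((cone ℤ A).π.app k) := IsPullback.id_vert _
    obtain ⟨i, ψ, Xi, Yi, fi, gi, pY, pX, hYi, hXi, hfli⟩ :=
      (Groth.Agent.Lib.H72FlatModLim.isFlatOver_iff_exists_stage (D ℤ A) (cone ℤ A) f₀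
        (𝟙 ((D ℤ A).obj k)) (isLimitCone ℤ A) Fk f' (𝟙 (cone ℤ A).pt) ((cone ℤ A).π.app k) g'
        hY sq₀).mp hflat'
    -- `gi` is an isomorphism
    haveI : IsIso gi := hYi.isIso_snd_of_isIso
    -- the maps to stage `i`
    let vY : (cone ℤ A).pt ⟶ Yi := hYi.lift ((cone ℤ A).π.app k) ((cone ℤ A).π.app i) (by
      rw [Category.comp_id, (cone ℤ A).w])
    have hvY : vY ≫ pY = (cone ℤ A).π.app k := hYi.lift_fst _ _ _
    have hvY' : vY ≫ gi = (cone ℤ A).π.app i := hYi.lift_snd _ _ _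
    let g'' : X ⟶ Xi := hXi.lift g' (f' ≫ vY) (by rw [Category.assoc, hvY, sq₀.w])
    have e1 : g'' ≫ pX = g' := hXi.lift_fst _ _ _
    have e2 : g'' ≫ fi = f' ≫ vY := hXi.lift_snd _ _ _
    have sq1 : IsPullback g'' f' fi vY := by
      refine IsPullback.of_right ?_ e2 hXi
      rw [e1, hvY]
      exact sq₀
    have sq2 : IsPullback vY (𝟙 (cone ℤ A).pt) gi ((cone ℤ A).π.app i) :=
      IsPullback.of_vert_isIso ⟨by rw [hvY', Category.id_comp]⟩
    have sq3 : IsPullback g'' f' (fi ≫ gi) ((cone ℤ A).π.app i) := by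
      have := sq1.paste_vert sq2
      rwa [Category.comp_id] at this
    haveI : IsAffineHom fi := MorphismProperty.of_isPullback hXi inferInstance
    haveI : LocallyOfFinitePresentation fi := MorphismProperty.of_isPullback hXi inferInstance
    refine ⟨i, Xi, fi ≫ gi, g'', (Scheme.Modules.pullback pX).obj Fk, inferInstance, inferInstance,
      sq3, isFP_pullback pX Fk hFk, isFlatOver_comp_iso fi gi _ hfli, ⟨?_⟩⟩
    exact (Scheme.Modules.pullbackComp g'' pX).app Fk ≪≫ (Scheme.Modules.pullbackCongr e1).app Fk ≪≫ iso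
  obtain ⟨k, X₀, f₀, g', F₀, h1, h2, sq, hF₀, hfl₀, iso⟩ := @key f ‹_› ‹_› hfl
  haveI : IsAffineHom f₀ := h1
  haveI : IsAffine ((D ℤ A).obj k) := (inferInstance : IsAffine (Spec (CommRingCat.of k.unop.1)))
  exact ⟨k.unop.1, k.unop.2, X₀, f₀, g', F₀, isAffine_of_isAffineHom f₀, h2, sq, hF₀, hfl₀, iso⟩

end Groth.Agent.Lib.ConsLocusMod
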