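import Groth.Agent.Lib.SpreadPair
import Groth.Agent.Lib.ConsPairGeomInst
import Groth.Agent.S12442

/-!
# Models of schemes over a cofiltered limit (helper62)

`D : I ⥤ Scheme` cofiltered with affine transition maps, `c` a limit cone. A *model* of
`y : Y ⟶ c.pt` at stage `i` is `yi : Yi ⟶ D.obj i` with a pullback square
`IsPullback gY y yi (c.π.app i)`.  This file contains: rebasing of models and of morphisms of models
(`pbLift`, `pbHom`), descent of morphisms between models (`exists_hom_descent`), descent of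
properties of morphisms (`exists_prop_descent`) and descent of quasi-compact open subschemes
(`exists_open_descent`).
-/

set_option autoImplicit false
universe u

open CategoryTheory Limits AlgebraicGeometry

namespace Groth.Agent.Lib.DescFP

open Groth.Agent.Lib.LimPullback Groth.Agent.Lib.LimDescent Groth.Agent.Lib.SpreadPair

variable {I : Type u} [Category.{u} I] (D : I ⥤ Scheme.{u}) (c : Cone D)

section Rebase

variable {i j : I} (φ : j ⟶ i) {Yi : Scheme.{u}} (yi : Yi ⟶ D.obj i)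

/-- The map from `Y` to the rebased model. -/
noncomputable def pbLift {Y : Scheme.{u}} (gY : Y ⟶ Yi) (y : Y ⟶ c.pt)
    (w : gY ≫ yi = y ≫ c.π.app i) : Y ⟶ pullback yi (D.map φ) :=
  pullback.lift gY (y ≫ c.π.app j) (by rw [w, Category.assoc, c.w])

@[reassoc (attr := simp)]
theorem pbLift_fst {Y : Scheme.{u}} (gY : Y ⟶ Yi) (y : Y ⟶ c.pt)
    (w : gY ≫ yi = y ≫ c.π.app i) :
    pbLift D c φ yi gY y w ≫ pullback.fst yi (D.map φ) = gY :=
  pullback.lift_fst _ _ _

@[reassoc (attr := simp)]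
theorem pbLift_snd {Y : Scheme.{u}} (gY : Y ⟶ Yi) (y : Y ⟶ c.pt)
    (w : gY ≫ yi = y ≫ c.π.app i) :
    pbLift D c φ yi gY y w ≫ pullback.snd yi (D.map φ) = y ≫ c.π.app j :=
  pullback.lift_snd _ _ _

theorem isPullback_pbLift {Y : Scheme.{u}} {gY : Y ⟶ Yi} {y : Y ⟶ c.pt}
    (sq : IsPullback gY y yi (c.π.app i)) :
    IsPullback (pbLift D c φ yi gY y sq.w) y (pullback.snd yi (D.map φ)) (c.π.app j) := by
  refine IsPullback.of_right ?_ (pbLift_snd D c φ yi gY y sq.w)
    (IsPullback.of_hasPullback yi (D.map φ))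
  rw [pbLift_fst, c.w]
  exact sq

variable {Zi : Scheme.{u}} (zi : Zi ⟶ D.obj i) (mi : Yi ⟶ Zi) (hm : mi ≫ zi = yi)

/-- The base change of a morphism of models. -/
noncomputable def pbHom : pullback yi (D.map φ) ⟶ pullback zi (D.map φ) :=
  pullback.lift (pullback.fst yi (D.map φ) ≫ mi) (pullback.snd yi (D.map φ))
    (by rw [Category.assoc, hm, pullback.condition])

@[reassoc (attr := simp)]
theorem pbHom_fst :
    pbHom D φ yi zi mi hm ≫ pullback.fst zi (D.map φ) = pullback.fst yi (D.map φ) ≫ mi :=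
  pullback.lift_fst _ _ _

@[reassoc (attr := simp)]
theorem pbHom_snd :
    pbHom D φ yi zi mi hm ≫ pullback.snd zi (D.map φ) = pullback.snd yi (D.map φ) :=
  pullback.lift_snd _ _ _

theorem isPullback_pbHom :
    IsPullback (pullback.fst yi (D.map φ)) (pbHom D φ yi zi mi hm) mi
      (pullback.fst zi (D.map φ)) := by
  subst hm
  exact isPullback_bcMap mi zi (D.map φ)

theorem pbHom_eq_bcMap : pbHom D φ (mi ≫ zi) zi mi rfl = bcMap mi zi (D.map φ) := rfl

theorem pbLift_pbHom {Y Z : Scheme.{u}} (gY : Y ⟶ Yi) (y : Y ⟶ c.pt)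
    (wY : gY ≫ yi = y ≫ c.π.app i) (gZ : Z ⟶ Zi) (z : Z ⟶ c.pt)
    (wZ : gZ ≫ zi = z ≫ c.π.app i) (m : Y ⟶ Z) (hmz : m ≫ z = y) (hcomp : gY ≫ mi = m ≫ gZ) :
    pbLift D c φ yi gY y wY ≫ pbHom D φ yi zi mi hm = m ≫ pbLift D c φ zi gZ z wZ := by
  apply pullback.hom_ext
  · rw [Category.assoc, pbHom_fst, pbLift_fst_assoc, Category.assoc, pbLift_fst, hcomp]
  · rw [Category.assoc, pbHom_snd, pbLift_snd, Category.assoc, pbLift_snd, ← Category.assoc, hmz]

end Rebase

section Descent

variable [IsCofiltered I] (hc : IsLimit c) [∀ {i j} (f : i ⟶ j), IsAffineHom (D.map f)]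

include hc in
/-- A morphism over `c.pt` between two schemes with models at stage `i` descends to a morphism
between the rebased models at some stage. -/
theorem exists_hom_descent {i : I} {Yi Zi : Scheme.{u}} (yi : Yi ⟶ D.obj i) (zi : Zi ⟶ D.obj i)
    [CompactSpace Yi] [QuasiSeparatedSpace Yi] [LocallyOfFinitePresentation zi]
    {Y Z : Scheme.{u}} {y : Y ⟶ c.pt} {z : Z ⟶ c.pt} {gY : Y ⟶ Yi} {gZ : Z ⟶ Zi}
    (sqY : IsPullback gY y yi (c.π.app i)) (sqZ : IsPullback gZ z zi (c.π.app i))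
    (m : Y ⟶ Z) (hm : m ≫ z = y) :
    ∃ (j : I) (φ : j ⟶ i) (mj : pullback yi (D.map φ) ⟶ pullback zi (D.map φ)),
      mj ≫ pullback.snd zi (D.map φ) = pullback.snd yi (D.map φ) ∧
      pbLift D c φ yi gY y sqY.w ≫ mj = m ≫ pbLift D c φ zi gZ z sqZ.w := by
  let eY := sqY.isoPullback
  let eZ := sqZ.isoPullback
  let g : pullback yi (c.π.app i) ⟶ pullback zi (c.π.app i) := eY.inv ≫ m ≫ eZ.hom
  have hg : g ≫ pullback.snd zi (c.π.app i) = pullback.snd yi (c.π.app i) := by
    simp only [g, eY, eZ, Category.assoc, IsPullback.isoPullback_hom_snd, hm,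
      IsPullback.isoPullback_inv_snd]
  obtain ⟨j, gj, hgj, hcomm⟩ := exists_hom_stage D c hc yi zi g hg
  have hY : pbLift D c j.hom yi gY y sqY.w = eY.hom ≫ pbProj D c i yi j := by
    apply pullback.hom_ext
    · simp only [eY, pbLift_fst, Category.assoc, pbProj_fst, IsPullback.isoPullback_hom_fst]
    · simp only [eY, pbLift_snd, Category.assoc, pbProj_snd,
        IsPullback.isoPullback_hom_snd_assoc]
  have hZ : pbLift D c j.hom zi gZ z sqZ.w = eZ.hom ≫ pbProj D c i zi j := by
    apply pullback.hom_ext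
    · simp only [eZ, pbLift_fst, Category.assoc, pbProj_fst, IsPullback.isoPullback_hom_fst]
    · simp only [eZ, pbLift_snd, Category.assoc, pbProj_snd,
        IsPullback.isoPullback_hom_snd_assoc]
  refine ⟨j.left, j.hom, gj, hgj, ?_⟩
  rw [hY, hZ, Category.assoc, hcomm]
  simp only [g, Category.assoc, Iso.hom_inv_id_assoc]

include hc in
/-- A property of a morphism over `c.pt` with a model at stage `i` descends to a base change of
the model, for properties that descend along limits. -/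
theorem exists_prop_descent (P : MorphismProperty Scheme.{u}) [P.RespectsIso]
    (hP : DescendsAlongLimit P) {i : I} {Yi Zi : Scheme.{u}} (yi : Yi ⟶ D.obj i)
    (zi : Zi ⟶ D.obj i) [CompactSpace Yi] [QuasiSeparatedSpace Yi] [CompactSpace Zi]
    [QuasiSeparatedSpace Zi] [LocallyOfFinitePresentation yi] [LocallyOfFiniteType zi]
    {Y Z : Scheme.{u}} {y : Y ⟶ c.pt} {z : Z ⟶ c.pt} {gY : Y ⟶ Yi} {gZ : Z ⟶ Zi}
    (sqY : IsPullback gY y yi (c.π.app i)) (sqZ : IsPullback gZ z zi (c.π.app i))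
    (m : Y ⟶ Z) (hm : m ≫ z = y) (mi : Yi ⟶ Zi) (hmi : mi ≫ zi = yi)
    (hcomp : gY ≫ mi = m ≫ gZ) (hPm : P m) :
    ∃ (j : I) (φ : j ⟶ i), P (pbHom D φ yi zi mi hmi) := by
  subst hmi
  subst hm
  haveI : LocallyOfFinitePresentation mi := Groth.Agent.S12442.result mi zi
  have hX : IsPullback gY m mi gZ := IsPullback.of_bot sqY hcomp sqZ
  have hBC : IsBC mi zi (c.π.app i) m := ⟨gZ, z, gY, sqZ, hX⟩
  have h1 : P (bcMap mi zi (c.π.app i)) := (hBC.iff P).mp hPm
  obtain ⟨j, hj⟩ := hP D c hc mi zi h1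
  exact ⟨j.left, j.hom, hj⟩

include hc in
/-- A quasi-compact open subscheme of a scheme with a model at stage `i` descends to an open
subscheme of a rebased model. -/
theorem exists_open_descent {i : I} {Wi : Scheme.{u}} (wi : Wi ⟶ D.obj i)
    [CompactSpace Wi] [QuasiSeparatedSpace Wi] {W : Scheme.{u}} {w : W ⟶ c.pt} {gW : W ⟶ Wi}
    (sqW : IsPullback gW w wi (c.π.app i)) {V : Scheme.{u}} (a : V ⟶ W) [IsOpenImmersion a]
    [CompactSpace V] :
    ∃ (j : I) (φ : j ⟶ i) (V' : (pullback wi (D.map φ)).Opens) (gV : V ⟶ V'.toScheme),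
      IsCompact (V' : Set ↥(pullback wi (D.map φ))) ∧
      IsPullback gV a V'.ι (pbLift D c φ wi gW w sqW.w) := by
  let e := sqW.isoPullback
  let cW : Cone (pbDiagram D i wi) := (pbCone D c i wi).extend e.hom
  have hcW : IsLimit cW := IsLimit.extendIso (s := pbCone D c i wi) e.hom (isLimitPbCone hc)
  have hleg : ∀ j : Over i, cW.π.app j = pbLift D c j.hom wi gW w sqW.w := by
    intro j
    change e.hom ≫ pbProj D c i wi j = _
    apply pullback.hom_ext
    · simp only [e, pbLift_fst, Category.assoc, pbProj_fst, IsPullback.isoPullback_hom_fst]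
    · simp only [e, pbLift_snd, Category.assoc, pbProj_snd,
        IsPullback.isoPullback_hom_snd_assoc]
  have hcomp : IsCompact (a.opensRange : Set W) := by
    rw [Scheme.Hom.coe_opensRange]
    exact isCompact_range a.continuous
  obtain ⟨j, V', hV', hpre⟩ : ∃ (j : Over i) (V' : (pullback wi (D.map j.hom)).Opens),
      IsCompact (V' : Set ↥(pullback wi (D.map j.hom))) ∧ cW.π.app j ⁻¹ᵁ V' = a.opensRange :=
    exists_preimage_eq (pbDiagram D i wi) cW hcW a.opensRange hcomp
  rw [hleg j] at hpre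
  have hsub : Set.range (a ≫ pbLift D c j.hom wi gW w sqW.w) ⊆ Set.range V'.ι := by
    rintro _ ⟨v, rfl⟩
    rw [Scheme.Opens.range_ι]
    have hv : a v ∈ a.opensRange := ⟨v, rfl⟩
    rw [← hpre] at hv
    exact hv
  refine ⟨j.left, j.hom, V', IsOpenImmersion.lift V'.ι _ hsub, hV', ?_⟩
  refine IsOpenImmersion.isPullback _ _ _ _ (IsOpenImmersion.lift_fac _ _ _).symm ?_
  rw [Scheme.Opens.opensRange_ι]
  exact hpre

end Descent

end Groth.Agent.Lib.DescFP
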