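import Groth.Agent.Lib.DescFPSpread

/-!
# EGA IV 8.8.2 with only one quasi-compact quasi-separated stage (helper62)

Versions of `hasModel_of_fp` / `exists_model_with_prop` where only the stage `D.obj i₀` is assumed
quasi-compact and quasi-separated (all stages over `i₀` then are, the transition maps being affine).
-/

set_option autoImplicit false
universe u

open CategoryTheory Limits AlgebraicGeometry

namespace Groth.Agent.Lib.DescFP

open Groth.Agent.Lib.LimPullback Groth.Agent.Lib.LimDescent Groth.Agent.Lib.SpreadPair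

variable {I : Type u} [Category.{u} I] (D : I ⥤ Scheme.{u}) (c : Cone D) [IsCofiltered I]
  (hc : IsLimit c) [∀ {i j} (f : i ⟶ j), IsAffineHom (D.map f)]

include hc in
/-- A finitely presented morphism to the limit with a property `P` descending along limits is the
base change of a finitely presented morphism to a stage over `i₀` with `P`. -/
theorem exists_model_with_prop_over (i₀ : I) [CompactSpace (D.obj i₀)]
    [QuasiSeparatedSpace (D.obj i₀)]
    (P : MorphismProperty Scheme.{u}) [P.RespectsIso] (hP : DescendsAlongLimit P)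
    {X : Scheme.{u}} (f : X ⟶ c.pt) [LocallyOfFinitePresentation f] [QuasiCompact f]
    [QuasiSeparated f] (hf : P f) :
    ∃ (j : I) (_ : j ⟶ i₀) (Xj : Scheme.{u}) (fj : Xj ⟶ D.obj j) (g : X ⟶ Xj),
      P fj ∧ LocallyOfFinitePresentation fj ∧ CompactSpace Xj ∧ QuasiSeparatedSpace Xj ∧
        IsPullback g f fj (c.π.app j) := by
  let D' : Over i₀ ⥤ Scheme.{u} := Over.forget i₀ ⋙ D
  let c' : Cone D' := c.whisker (Over.forget i₀)
  have hc' : IsLimit c' := isLimitWhisker (D := D) (c := c) (i := i₀) hc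
  haveI : ∀ {a b : Over i₀} (m : a ⟶ b), IsAffineHom (D'.map m) := fun m =>
    (inferInstance : IsAffineHom (D.map m.left))
  haveI : ∀ a : Over i₀, CompactSpace (D'.obj a) := fun a =>
    QuasiCompact.compactSpace_of_compactSpace (D.map a.hom)
  haveI : ∀ a : Over i₀, QuasiSeparatedSpace (D'.obj a) := fun a =>
    quasiSeparatedSpace_of_quasiSeparated (D.map a.hom)
  obtain ⟨j, Xj, fj, g, h1, h2, h3, h4, sq⟩ :=
    exists_model_with_prop D' c' hc' P hP (X := X) (f : X ⟶ c'.pt) hf
  exact ⟨j.left, j.hom, Xj, fj, g, h1, h2, h3, h4, sq⟩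

include hc in
/-- EGA IV 8.8.2 with one quasi-compact quasi-separated stage. -/
theorem exists_model_over (i₀ : I) [CompactSpace (D.obj i₀)] [QuasiSeparatedSpace (D.obj i₀)]
    {X : Scheme.{u}} (f : X ⟶ c.pt) [LocallyOfFinitePresentation f] [QuasiCompact f]
    [QuasiSeparated f] :
    ∃ (j : I) (_ : j ⟶ i₀) (Xj : Scheme.{u}) (fj : Xj ⟶ D.obj j) (g : X ⟶ Xj),
      LocallyOfFinitePresentation fj ∧ CompactSpace Xj ∧ QuasiSeparatedSpace Xj ∧
        IsPullback g f fj (c.π.app j) := by
  have htop : DescendsAlongLimit (⊤ : MorphismProperty Scheme.{u}) := by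
    intro I _ _ D c hc _ i₀ X₀ Y₀ f₀ g₀ _ _ _ _ _ _ _ _
    exact ⟨Over.mk (𝟙 _), trivial⟩
  obtain ⟨j, φ, Xj, fj, g, -, h2, h3, h4, sq⟩ :=
    exists_model_with_prop_over D c hc i₀ ⊤ htop f trivial
  exact ⟨j, φ, Xj, fj, g, h2, h3, h4, sq⟩

end Groth.Agent.Lib.DescFP
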