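import Mathlib

set_option autoImplicit false
universe u

namespace Groth.Agent.Lib.DescRec66

/-- Descending dependent recursion on `ℤ`: above `b` the value is prescribed (`bot`), below it is
chosen step by step. -/
noncomputable def descSeq {T : ℤ → Type u} (Q : ∀ i, T i → Prop) (R : ∀ i, T i → T (i+1) → Prop)
    (b : ℤ) (bot : ∀ i, T i) (hbot : ∀ i, b < i → Q i (bot i))
    (step : ∀ i (y : T (i+1)), Q (i+1) y → ∃ x : T i, Q i x ∧ R i x y) (i : ℤ) :
    {x : T i // Q i x} :=
  if h : b < i then ⟨bot i, hbot i h⟩ else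
    let y := descSeq Q R b bot hbot step (i+1)
    ⟨Classical.choose (step i y.1 y.2), (Classical.choose_spec (step i y.1 y.2)).1⟩
termination_by (b + 1 - i).toNat
decreasing_by omega

theorem exists_descSeq {T : ℤ → Type u} (Q : ∀ i, T i → Prop) (R : ∀ i, T i → T (i+1) → Prop)
    (b : ℤ) (bot : ∀ i, T i) (hbot : ∀ i, b < i → Q i (bot i))
    (hbotR : ∀ i, b < i → R i (bot i) (bot (i+1)))
    (step : ∀ i (y : T (i+1)), Q (i+1) y → ∃ x : T i, Q i x ∧ R i x y) :
    ∃ S : ∀ i, T i, (∀ i, Q i (S i)) ∧ (∀ i, R i (S i) (S (i+1))) ∧ ∀ i, b < i → S i = bot i := by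
  refine ⟨fun i => (descSeq Q R b bot hbot step i).1, fun i => (descSeq Q R b bot hbot step i).2,
    fun i => ?_, fun i hi => ?_⟩
  · show R i (descSeq Q R b bot hbot step i).1 (descSeq Q R b bot hbot step (i+1)).1
    by_cases h : b < i
    · have h1 : (descSeq Q R b bot hbot step i).1 = bot i := by
        rw [descSeq]; simp [h]
      have h2 : (descSeq Q R b bot hbot step (i+1)).1 = bot (i+1) := by
        rw [descSeq]; simp [show b < i + 1 by omega]
      rw [h1, h2]; exact hbotR i h
    · have h1 : (descSeq Q R b bot hbot step i).1 =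
          Classical.choose (step i (descSeq Q R b bot hbot step (i+1)).1
            (descSeq Q R b bot hbot step (i+1)).2) := by
        conv_lhs => rw [descSeq]
        simp [h]
      rw [h1]
      exact (Classical.choose_spec (step i (descSeq Q R b bot hbot step (i+1)).1
            (descSeq Q R b bot hbot step (i+1)).2)).2
  · show (descSeq Q R b bot hbot step i).1 = bot i
    rw [descSeq]; simp [hi]

end Groth.Agent.Lib.DescRec66
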