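import Groth.Agent.Lib.DescendMor45

/-!
# Descending morphisms along a surjection injective on sections, given a cover (helper45)

Variant of `DescendMor45.exists_descend` which does not assume that `h` is constant on the
fibres of `g`, but instead a cover of `S` by opens `U i` with `g⁻¹ U i ⊆ h⁻¹ W i`, `W i` affine.
-/

set_option autoImplicit false
universe u

namespace Groth.Agent.Lib.DescendMor45

open AlgebraicGeometry CategoryTheory CategoryTheory.Limits

variable {S' S Z : Scheme.{u}} (g : S' ⟶ S) (h : S' ⟶ Z)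

theorem exists_descend_of_cover {ι : Type*} (UW : ι → S.Opens) (W : ι → Z.affineOpens)
    (hcover : TopologicalSpace.IsOpenCover UW)
    (hpre : ∀ i, g ⁻¹ᵁ (UW i) ≤ h ⁻¹ᵁ (W i).1)
    (hsurj : Function.Surjective g)
    (hinj : ∀ U : S.Opens, Function.Injective (g.app U).hom)
    (hsec : ∀ (i : ι) (s : Γ(Z, (W i).1)),
      (h.appLE (W i).1 (g ⁻¹ᵁ UW i) (hpre i)).hom s ∈ Set.range (g.app (UW i)).hom) :
    ∃ h' : S ⟶ Z, g ≫ h' = h := by
  have hφ : ∀ i : ι, ∃ φ : Γ(Z, (W i).1) →+* Γ(S, UW i),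
      (g.app (UW i)).hom.comp φ = (h.appLE (W i).1 (g ⁻¹ᵁ UW i) (hpre i)).hom :=
    fun i => exists_ringHom_of_range_subset _ (hinj _) _ (fun s => hsec i s)
  choose φ hφ using hφ
  have hW : ∀ i, IsAffineOpen (W i).1 := fun i => (W i).2
  let a : ∀ i : ι, (UW i).toScheme ⟶ Z := fun i =>
    (UW i).toSpecΓ ≫ Spec.map (CommRingCat.ofHom (φ i)) ≫ (hW i).fromSpec
  have ha : ∀ i, (g ∣_ UW i) ≫ a i = (g ⁻¹ᵁ UW i).ι ≫ h := by
    intro i
    dsimp only [a]
    rw [← Scheme.Opens.toSpecΓ_naturality_assoc, ← Spec.map_comp_assoc]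
    have h1 : CommRingCat.ofHom (φ i) ≫ g.app (UW i) =
        h.appLE (W i).1 (g ⁻¹ᵁ UW i) (hpre i) := by
      ext s
      exact congrArg (fun ψ => ψ s) (hφ i)
    rw [h1, Scheme.Opens.toSpecΓ_SpecMap_appLE_assoc, IsAffineOpen.toSpecΓ_fromSpec,
      Scheme.Hom.resLE_comp_ι]
  have hcompat : ∀ i j : ι,
      S.homOfLE (inf_le_left : UW i ⊓ UW j ≤ UW i) ≫ a i =
        S.homOfLE (inf_le_right : UW i ⊓ UW j ≤ UW j) ≫ a j := by
    intro i j
    have := epi_morphismRestrict g hsurj hinj (UW i ⊓ UW j)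
    rw [← cancel_epi (g ∣_ (UW i ⊓ UW j)), morphismRestrict_homOfLE_assoc,
      morphismRestrict_homOfLE_assoc, ha, ha, Scheme.homOfLE_ι_assoc, Scheme.homOfLE_ι_assoc]
  obtain ⟨h', hh'⟩ := exists_glue_opens UW hcover a hcompat
  refine ⟨h', ?_⟩
  apply Scheme.hom_ext_of_forall
  intro x
  have hx : g x ∈ (⨆ i, UW i : S.Opens) := by
    rw [hcover.iSup_eq_top]; trivial
  obtain ⟨i, hi⟩ := TopologicalSpace.Opens.mem_iSup.mp hx
  refine ⟨g ⁻¹ᵁ UW i, hi, ?_⟩
  rw [← morphismRestrict_ι_assoc, hh', ha]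

end Groth.Agent.Lib.DescendMor45
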