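import Mathlib
import Groth.Agent.Lib.H69DescentAlg

/-!
# Effective descent for algebras, "abstract coaction" form (helper52)

A reformulation of helper69's `isPushout_descAlg` in which the tensor products `A' ⊗[A] B'` and
`A' ⊗[A] (A' ⊗[A] B')` are replaced by arbitrary pushouts `C` and `Q` (as they arise from global
sections of fibre products of affine schemes).
-/

set_option autoImplicit false
set_option linter.style.haveILetI false

open TensorProduct

namespace Groth.Agent.Lib.DescentAlgH52

open Groth.Agent.Lib.H69DescentAlg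

universe u

variable {A A' B' C Q : Type u} [CommRing A] [CommRing A'] [CommRing B'] [CommRing C] [CommRing Q]
  [Algebra A A'] [Algebra A' B'] [Algebra A B'] [IsScalarTower A A' B']
  [Algebra A' C] [Algebra B' C] [Algebra A C] [IsScalarTower A A' C] [IsScalarTower A B' C]
  [Algebra A' Q] [Algebra C Q] [Algebra A Q] [IsScalarTower A A' Q] [IsScalarTower A C Q]

/-- The subalgebra of invariants of an abstract coaction `r : B' → C`. -/
def invariants (r : B' →+* C) (hrA : ∀ x : A, r (algebraMap A B' x) = algebraMap A C x) :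
    Subalgebra A B' where
  carrier := {b | r b = algebraMap B' C b}
  mul_mem' := fun {x y} hx hy => by
    simp only [Set.mem_ofPred_eq] at hx hy ⊢
    rw [map_mul, map_mul, hx, hy]
  add_mem' := fun {x y} hx hy => by
    simp only [Set.mem_ofPred_eq] at hx hy ⊢
    rw [map_add, map_add, hx, hy]
  algebraMap_mem' := fun x => by
    simp only [Set.mem_ofPred_eq]
    rw [hrA, ← IsScalarTower.algebraMap_apply]

theorem mem_invariants (r : B' →+* C) (hrA) (b : B') :
    b ∈ invariants (A := A) r hrA ↔ r b = algebraMap B' C b := Iff.rfl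

variable [hC : Algebra.IsPushout A A' B' C] [hQ : Algebra.IsPushout A A' C Q] [Module.Flat A A']

theorem isPushout_invariants (r : B' →+* C) (s : C →+* B') (n₁ n₂ : C →+* Q)
    (hr1 : ∀ x : A', r (algebraMap A' B' x) = algebraMap A' C x)
    (hs1 : ∀ x : A', s (algebraMap A' C x) = algebraMap A' B' x)
    (hs2 : ∀ b : B', s (algebraMap B' C b) = b)
    (hrs : ∀ b : B', s (r b) = b)
    (hn1a : ∀ x : A', n₁ (algebraMap A' C x) = algebraMap A' Q x)
    (hn1b : ∀ b : B', n₁ (algebraMap B' C b) = algebraMap C Q (r b))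
    (hn2a : ∀ x : A', n₂ (algebraMap A' C x) = algebraMap A' Q x)
    (hn2b : ∀ b : B', n₂ (algebraMap B' C b) = algebraMap C Q (algebraMap B' C b))
    (hco : ∀ b : B', n₁ (r b) = n₂ (r b))
    (hrA : ∀ x : A, r (algebraMap A B' x) = algebraMap A C x) :
    Algebra.IsPushout A A' (invariants (A := A) r hrA) B' := by
  let eC : A' ⊗[A] B' ≃ₐ[A'] C := Algebra.IsPushout.equiv A A' B' C
  let eQ : A' ⊗[A] C ≃ₐ[A'] Q := Algebra.IsPushout.equiv A A' C Q
  -- the coaction
  let ρ : B' →ₐ[A] A' ⊗[A] B' :=
    { toRingHom := (eC.symm : C →+* A' ⊗[A] B').comp r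
      commutes' := fun x => by
        change eC.symm (r (algebraMap A B' x)) = _
        rw [hrA, IsScalarTower.algebraMap_apply A A' C, Algebra.IsPushout.equiv_symm_algebraMap_left]
        rfl }
  have hρ : ∀ b, ρ b = eC.symm (r b) := fun b => rfl
  have heρ : ∀ b, eC (ρ b) = r b := fun b => by rw [hρ, AlgEquiv.apply_symm_apply]
  have h1 : ∀ x : A', ρ (algebraMap A' B' x) = x ⊗ₜ[A] 1 := fun x => by
    rw [hρ, hr1, Algebra.IsPushout.equiv_symm_algebraMap_left]
  -- `mu = s ∘ eC`
  have hmu : ∀ z : A' ⊗[A] B', mu (A := A) z = s (eC z) := by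
    intro z
    induction z with
    | zero => simp
    | add x y hx hy => simp only [map_add, hx, hy]
    | tmul x y =>
      rw [mu_tmul, Algebra.IsPushout.equiv_tmul, map_mul, hs1, hs2]
  have h2 : ∀ b : B', mu (A := A) (ρ b) = b := fun b => by rw [hmu, heρ, hrs]
  -- coassociativity
  let Ψ : A' ⊗[A] (A' ⊗[A] B') →ₐ[A] Q :=
    (eQ.toAlgHom.restrictScalars A).comp
      (Algebra.TensorProduct.map (AlgHom.id A A') (eC.toAlgHom.restrictScalars A))
  have hΨinj : Function.Injective Ψ := by
    have e1 : Function.Injective (Algebra.TensorProduct.map (AlgHom.id A A')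
        (eC.toAlgHom.restrictScalars A)) := by
      have : (Algebra.TensorProduct.map (AlgHom.id A A') (eC.toAlgHom.restrictScalars A) :
          A' ⊗[A] (A' ⊗[A] B') → A' ⊗[A] C) =
          (Algebra.TensorProduct.congr (AlgEquiv.refl : A' ≃ₐ[A] A') (eC.restrictScalars A)) := by
        ext z; rfl
      rw [this]
      exact (Algebra.TensorProduct.congr (AlgEquiv.refl : A' ≃ₐ[A] A')
        (eC.restrictScalars A)).injective
    exact eQ.injective.comp e1
  have hΨ : ∀ (x : A') (z : A' ⊗[A] B'), Ψ (x ⊗ₜ z) = algebraMap A' Q x * algebraMap C Q (eC z) := by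
    intro x z
    change eQ (Algebra.TensorProduct.map (AlgHom.id A A') (eC.toAlgHom.restrictScalars A)
      (x ⊗ₜ z)) = _
    rw [Algebra.TensorProduct.map_tmul, Algebra.IsPushout.equiv_tmul]
    rfl
  have hF1 : ∀ z : A' ⊗[A] B',
      Ψ (Algebra.TensorProduct.map (AlgHom.id A A') ρ z) = n₁ (eC z) := by
    intro z
    induction z with
    | zero => simp
    | add x y hx hy => simp only [map_add, hx, hy]
    | tmul x y =>
      rw [Algebra.TensorProduct.map_tmul, AlgHom.id_apply, hΨ, heρ,
        Algebra.IsPushout.equiv_tmul, map_mul, hn1a, hn1b]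
  have hF2 : ∀ z : A' ⊗[A] B',
      Ψ (Algebra.TensorProduct.map (AlgHom.id A A')
        (Algebra.TensorProduct.includeRight : B' →ₐ[A] A' ⊗[A] B') z) = n₂ (eC z) := by
    intro z
    induction z with
    | zero => simp
    | add x y hx hy => simp only [map_add, hx, hy]
    | tmul x y =>
      rw [Algebra.TensorProduct.map_tmul, AlgHom.id_apply, hΨ,
        Algebra.IsPushout.equiv_tmul, map_mul, hn2a, hn2b]
      congr 2
      change eC ((1 : A') ⊗ₜ[A] y) = _
      rw [Algebra.IsPushout.equiv_tmul, map_one, one_mul]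
  have h3 : ∀ b : B', Algebra.TensorProduct.map (AlgHom.id A A') ρ (ρ b) =
      Algebra.TensorProduct.map (AlgHom.id A A') Algebra.TensorProduct.includeRight (ρ b) := by
    intro b
    apply hΨinj
    rw [hF1, hF2, heρ, hco]
  have key := isPushout_descAlg ρ h1 h2 h3
  have heq : descAlg ρ = invariants (A := A) r hrA := by
    ext b
    rw [mem_descAlg, mem_invariants, hρ, AlgEquiv.symm_apply_eq]
    have e1 : eC ((1 : A') ⊗ₜ[A] b) = algebraMap B' C b := by
      rw [Algebra.IsPushout.equiv_tmul, map_one, one_mul]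
    rw [e1]
  rw [← heq]
  exact key

section Cat

open CategoryTheory CategoryTheory.Limits

/-- A pushout square in `CommRingCat` whose maps are the structure maps of algebra instances is an
`Algebra.IsPushout`. -/
theorem algebra_isPushout_of_isPushout {R A B C : CommRingCat.{u}} {f : R ⟶ A} {g : R ⟶ B}
    {a : A ⟶ C} {b : B ⟶ C} (H : IsPushout f g a b)
    [Algebra R A] [Algebra R B] [Algebra A C] [Algebra B C] [Algebra R C]
    [IsScalarTower R A C] [IsScalarTower R B C]
    (h₁ : algebraMap R A = f.hom) (h₂ : algebraMap R B = g.hom) (h₃ : algebraMap A C = a.hom)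
    (h₄ : algebraMap B C = b.hom) : Algebra.IsPushout R A B C := by
  have e₁ : CommRingCat.ofHom (algebraMap R A) = f := by ext x; rw [h₁]; rfl
  have e₂ : CommRingCat.ofHom (algebraMap R B) = g := by ext x; rw [h₂]; rfl
  have e₃ : CommRingCat.ofHom (algebraMap A C) = a := by ext x; rw [h₃]; rfl
  have e₄ : CommRingCat.ofHom (algebraMap B C) = b := by ext x; rw [h₄]; rfl
  apply CommRingCat.isPushout_iff_isPushout.mp
  rw [e₁, e₂, e₃, e₄]
  exact H

/-- Conversely. -/
theorem isPushout_of_algebra_isPushout {R A B C : CommRingCat.{u}} {f : R ⟶ A} {g : R ⟶ B}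
    {a : A ⟶ C} {b : B ⟶ C}
    [Algebra R A] [Algebra R B] [Algebra A C] [Algebra B C] [Algebra R C]
    [IsScalarTower R A C] [IsScalarTower R B C] [H : Algebra.IsPushout R A B C]
    (h₁ : algebraMap R A = f.hom) (h₂ : algebraMap R B = g.hom) (h₃ : algebraMap A C = a.hom)
    (h₄ : algebraMap B C = b.hom) : IsPushout f g a b := by
  have e₁ : CommRingCat.ofHom (algebraMap R A) = f := by ext x; rw [h₁]; rfl
  have e₂ : CommRingCat.ofHom (algebraMap R B) = g := by ext x; rw [h₂]; rfl
  have e₃ : CommRingCat.ofHom (algebraMap A C) = a := by ext x; rw [h₃]; rfl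
  have e₄ : CommRingCat.ofHom (algebraMap B C) = b := by ext x; rw [h₄]; rfl
  have := CommRingCat.isPushout_iff_isPushout.mpr H
  rw [e₁, e₂, e₃, e₄] at this
  exact this

end Cat

end Groth.Agent.Lib.DescentAlgH52
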