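import Groth.Agent.Lib.PlSMT12

/-!
# First fundamental theorem for `SL_d` acting on `n × d` matrices

The invariants of `SL_d(K)` (right multiplication) in the coordinate ring of `n × d` matrices are the
polynomials in the maximal minors.  Proof: Cramer's rule shows `Δ ^ N * f` is a polynomial in the minors
(`Δ` the top minor), and standard monomial theory (independence on the masked generic matrix) shows that
the algebra of minors is closed under division by `Δ`.
-/

set_option autoImplicit false
set_option linter.unusedSectionVars false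
set_option linter.unusedSimpArgs false
universe u
open Finset MvPolynomial W4bk4grassmannian

noncomputable section

namespace Groth.Agent.Lib.PlFFT
open Groth.Agent.Lib.PlSMT

variable {d n : ℕ}

section Basic
variable (K : Type u) [CommRing K]

/-- The generic `n × d` matrix. -/
def genX : Matrix (Fin n) (Fin d) (MatRing K d n) := Matrix.of fun a t => X (a, t)

lemma minor_eq (a : Fin d → Fin n) :
    minor K d n a = ((genX K (d := d) (n := n)).submatrix a id).det := rfl

lemma pluckerMap_coord (a : Fin d → Fin n) :
    pluckerMap K d n (coord K d n a) = minor K d n a :=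
  aeval_coord K (genX K (d := d) (n := n)) a

lemma pluckerMap_X (θ : Idx d n) : pluckerMap K d n (X θ) = minor K d n θ.1 := by
  unfold pluckerMap; rw [aeval_X]

lemma plIdealTop_le_ker_pluckerMap :
    plIdealTop (d := d) (n := n) K ≤ RingHom.ker (pluckerMap K d n).toRingHom := by
  unfold plIdealTop
  rw [Ideal.span_le]
  rintro f ⟨i, j, r, -, rfl⟩
  exact aeval_shuffleRel K (genX K (d := d) (n := n)) i j r

lemma adjoin_eq_range :
    Algebra.adjoin K (Set.range fun θ : Idx d n => minor K d n θ.1) = (pluckerMap K d n).range := by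
  unfold pluckerMap
  exact Algebra.adjoin_range_eq_range_aeval K _

lemma minor_mem_range (a : Fin d → Fin n) : minor K d n a ∈ (pluckerMap K d n).range :=
  ⟨coord K d n a, pluckerMap_coord K a⟩

/-- The minors are invariant under right translation by `SL_d`. -/
lemma rightTranslate_minor (g : Matrix.SpecialLinearGroup (Fin d) K) (a : Fin d → Fin n) :
    rightTranslate K d n g (minor K d n a) = minor K d n a := by
  unfold minor
  rw [AlgHom.map_det]
  have h1 : (rightTranslate K d n g).mapMatrix (Matrix.of fun s t : Fin d => (X (a s, t) : MatRing K d n)) =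
      (Matrix.of fun s t : Fin d => (X (a s, t) : MatRing K d n)) *
        (C : K →+* MatRing K d n).mapMatrix (g : Matrix (Fin d) (Fin d) K) := by
    ext s t
    simp [rightTranslate, Matrix.mul_apply]
  rw [h1, Matrix.det_mul, ← RingHom.map_det, g.det_coe, map_one, mul_one]

/-- Evaluating a right translate at `A` is evaluating at `A * g`. -/
lemma eval_rightTranslate (g : Matrix.SpecialLinearGroup (Fin d) K) (A : Matrix (Fin n) (Fin d) K)
    (f : MatRing K d n) :
    eval (fun p : Fin n × Fin d => A p.1 p.2) (rightTranslate K d n g f) =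
      eval (fun p : Fin n × Fin d => (A * (g : Matrix (Fin d) (Fin d) K)) p.1 p.2) f := by
  have h : ((MvPolynomial.aeval (fun p : Fin n × Fin d => A p.1 p.2) : MatRing K d n →ₐ[K] K).comp
      (rightTranslate K d n g)) =
      MvPolynomial.aeval (fun p : Fin n × Fin d => (A * (g : Matrix (Fin d) (Fin d) K)) p.1 p.2) := by
    apply MvPolynomial.algHom_ext
    intro p
    simp [rightTranslate, Matrix.mul_apply]
  have := congrArg (fun φ : MatRing K d n →ₐ[K] K => φ f) h
  simpa [MvPolynomial.aeval_eq_eval] using this

end Basic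


section Eval
variable (K : Type u) [CommRing K]

lemma eval_minor (A : Matrix (Fin n) (Fin d) K) (a : Fin d → Fin n) :
    eval (fun p : Fin n × Fin d => A p.1 p.2) (minor K d n a) = (A.submatrix a id).det := by
  unfold minor
  rw [RingHom.map_det]
  congr 1
  ext s t
  simp

lemma minor_wbot_ne_zero [Nontrivial K] (hdn : d ≤ n) : minor K d n (wbot hdn).1 ≠ 0 := by
  intro h
  have h1 := eval_minor K (Matrix.of fun (a : Fin n) (t : Fin d) => if a.val = t.val then (1 : K) else 0)
    (wbot hdn).1
  rw [h, map_zero] at h1
  have h2 : (Matrix.of fun (a : Fin n) (t : Fin d) => if a.val = t.val then (1 : K) else 0).submatrix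
      (wbot hdn).1 id = 1 := by
    ext s t
    simp [wbot, Matrix.one_apply, Fin.ext_iff]
  rw [h2, Matrix.det_one] at h1
  exact zero_ne_one h1

end Eval

section Div
variable (K : Type u) [Field K]

/-- Specialisation of the generic matrix to a masked one. -/
def specM (m : Fin n → Fin d → Prop) [∀ a t, Decidable (m a t)] :
    MatRing K d n →ₐ[K] MatRing K d n :=
  MvPolynomial.aeval fun p : Fin n × Fin d => if m p.1 p.2 then X p else 0

lemma specM_comp_pluckerMap (m : Fin n → Fin d → Prop) [∀ a t, Decidable (m a t)] :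
    (specM K m).comp (pluckerMap K d n) = evalM K m := by
  apply MvPolynomial.algHom_ext
  intro θ
  rw [AlgHom.comp_apply, pluckerMap_X, evalM_X, minor_eq, AlgHom.map_det]
  congr 1
  ext s c
  simp [specM, genX, genM]

/-- Splitting a polynomial into the part not involving `X ι` and a multiple of `X ι`. -/
lemma split_at (ι : Idx d n) (G : PlRing K d n) :
    ∃ G₁ q : PlRing K d n, G = G₁ + X ι * q ∧
      ∀ e ∈ G₁.support, e ∈ G.support ∧ ι ∉ e.support := by
  classical
  refine ⟨∑ e ∈ G.support.filter (fun e => ι ∉ e.support), monomial e (coeff e G),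
    ∑ e ∈ G.support.filter (fun e => ¬ ι ∉ e.support),
      monomial (e - Finsupp.single ι 1) (coeff e G), ?_, ?_⟩
  · have h2 : X ι * ∑ e ∈ G.support.filter (fun e => ¬ ι ∉ e.support),
        monomial (e - Finsupp.single ι 1) (coeff e G) =
        ∑ e ∈ G.support.filter (fun e => ¬ ι ∉ e.support), monomial e (coeff e G) := by
      rw [Finset.mul_sum]
      refine Finset.sum_congr rfl fun e he => ?_
      have hmem : ι ∈ e.support := not_not.1 (Finset.mem_filter.1 he).2
      have h1 : 1 ≤ e ι := Nat.one_le_iff_ne_zero.2 (Finsupp.mem_support_iff.1 hmem)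
      have hs : Finsupp.single ι 1 + (e - Finsupp.single ι 1) = e := by
        refine Finsupp.ext fun θ' => ?_
        by_cases hθ' : θ' = ι
        · subst hθ'
          simp only [Finsupp.coe_add, Pi.add_apply, Finsupp.single_eq_same, Finsupp.coe_tsub,
            Pi.sub_apply]
          omega
        · simp only [Finsupp.coe_add, Pi.add_apply, Finsupp.coe_tsub, Pi.sub_apply,
            Finsupp.single_eq_of_ne hθ']
          omega
      rw [MvPolynomial.X, MvPolynomial.monomial_mul, one_mul, hs]
    rw [h2, Finset.sum_filter_add_sum_filter_not]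
    exact G.as_sum
  · intro e he
    have h1 := MvPolynomial.support_sum he
    rw [Finset.mem_biUnion] at h1
    obtain ⟨e', he', hl⟩ := h1
    have := MvPolynomial.support_monomial_subset hl
    rw [Finset.mem_singleton] at this
    subst this
    rw [Finset.mem_filter] at he'
    exact he'

variable (hd : 0 < d) (hdn : d < n)

include hd in
/-- The algebra of minors is closed under division by the least minor. -/
theorem div_mem (F h : MatRing K d n) (hF : F ∈ (pluckerMap K d n).range)
    (hFh : F = minor K d n (wbot hdn.le).1 * h) : h ∈ (pluckerMap K d n).range := by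
  classical
  obtain ⟨Gt, hGt⟩ := hF
  have hGt' : pluckerMap K d n Gt = F := hGt
  set ι := wbot (n := n) hdn.le with hι
  set ι' := wbot' hd hdn with hι'
  obtain ⟨G, hG, hfG⟩ := exists_std_rep K (RingHom.ker (pluckerMap K d n).toRingHom)
    (plIdealTop_le_ker_pluckerMap K) (fun _ => True) (fun θ hθ => absurd trivial hθ) Gt
  have hpl : pluckerMap K d n Gt = pluckerMap K d n G := by
    have : (pluckerMap K d n) (Gt - G) = 0 := hfG
    rwa [map_sub, sub_eq_zero] at this
  obtain ⟨G₁, q, hsplit, hG₁⟩ := split_at K ι G
  have hΔ : pluckerMap K d n (X ι) = minor K d n ι.1 := pluckerMap_X K ι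
  have h1 : pluckerMap K d n G₁ = minor K d n ι.1 * (h - pluckerMap K d n q) := by
    have : pluckerMap K d n G = pluckerMap K d n G₁ + minor K d n ι.1 * pluckerMap K d n q := by
      rw [hsplit, map_add, map_mul, hΔ]
    rw [mul_sub, ← hFh, ← hGt', hpl, this]
    ring
  have hXι : evalM K (maskI ι' (wtop hdn.le)) (X ι) = 0 := by
    rw [evalM_X]
    exact minor_genM_eq_zero_of_not_ge K ι' (wtop hdn.le) ι (not_wbot'_le_wbot hd hdn)
  have h2 : evalM K (maskI ι' (wtop hdn.le)) G₁ = 0 := by
    have e1 : evalM K (maskI ι' (wtop hdn.le)) G₁ =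
        specM K (maskI ι' (wtop hdn.le)) (pluckerMap K d n G₁) := by
      rw [← specM_comp_pluckerMap]; rfl
    have e2 : specM K (maskI ι' (wtop hdn.le)) (minor K d n ι.1) = 0 := by
      rw [← hΔ]
      have : specM K (maskI ι' (wtop hdn.le)) (pluckerMap K d n (X ι)) =
          evalM K (maskI ι' (wtop hdn.le)) (X ι) := by
        rw [← specM_comp_pluckerMap]; rfl
      rw [this, hXι]
    rw [e1, h1, map_mul, e2, zero_mul]
  have hG₁z : G₁ = 0 := by
    apply eq_zero_of_evalM_eq_zero K (maskI ι' (wtop hdn.le)) hd G₁ _ h2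
    intro e he
    obtain ⟨he1, he2⟩ := hG₁ e he
    refine ⟨(hG e he1).1, fun θ hθ t => ?_⟩
    have hθι : θ ≠ ι := fun h => he2 (h ▸ hθ)
    exact ⟨wbot'_le hd hdn θ hθι t, le_wtop hdn.le θ t⟩
  rw [hG₁z, map_zero] at h1
  have h3 : h - pluckerMap K d n q = 0 := by
    rcases mul_eq_zero.1 h1.symm with h4 | h4
    · exact absurd h4 (minor_wbot_ne_zero K hdn.le)
    · exact h4
  exact ⟨q, (sub_eq_zero.1 h3).symm⟩

end Div


section Cramer
variable {R : Type u} [CommRing R]

/-- Cramer's rule: the entries of `A * adj(A_ι)` are the minors of `A` on the rows `ι` with one row replaced. -/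
lemma mul_adjugate_submatrix_apply (A : Matrix (Fin n) (Fin d) R) (ι : Fin d → Fin n) (a : Fin n)
    (t : Fin d) :
    (A * Matrix.adjugate (A.submatrix ι id)) a t = (A.submatrix (Function.update ι t a) id).det := by
  have h2 : A.submatrix (Function.update ι t a) id = (A.submatrix ι id).updateRow t (A a) := by
    ext s c
    by_cases hs : s = t
    · subst hs
      simp
    · simp [Matrix.updateRow_ne hs, Function.update_of_ne hs]
  rw [h2, ← Matrix.cramer_transpose_apply, Matrix.cramer_eq_adjugate_mulVec, Matrix.mul_apply,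
    Matrix.mulVec, dotProduct]
  refine Finset.sum_congr rfl fun k _ => ?_
  rw [← Matrix.adjugate_transpose, Matrix.transpose_apply, mul_comm]

lemma prod_ite_val_zero (c : R) : ∀ d : ℕ, ∏ t : Fin d, (if t.val = 0 then (1 : R) else c) = c ^ (d - 1)
  | 0 => by simp
  | (d + 1) => by
    rw [Fin.prod_univ_succ]
    simp

end Cramer

section Igusa
variable (K : Type u) [Field K]

/-- The element of `SL_d` normalising a matrix with invertible block on the rows `ι`. -/
def gMat (ι : Fin d → Fin n) (A : Matrix (Fin n) (Fin d) K) : Matrix (Fin d) (Fin d) K :=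
  Matrix.adjugate (A.submatrix ι id) *
    Matrix.diagonal (fun t : Fin d => if t.val = 0 then 1 else ((A.submatrix ι id).det)⁻¹)

lemma det_gMat (ι : Fin d → Fin n) (A : Matrix (Fin n) (Fin d) K)
    (hδ : (A.submatrix ι id).det ≠ 0) : (gMat K ι A).det = 1 := by
  unfold gMat
  rw [Matrix.det_mul, Matrix.det_adjugate, Matrix.det_diagonal, prod_ite_val_zero, Fintype.card_fin,
    ← mul_pow, mul_inv_cancel₀ hδ, one_pow]

lemma mul_gMat_apply (ι : Fin d → Fin n) (A : Matrix (Fin n) (Fin d) K) (a : Fin n) (t : Fin d) :
    (A * gMat K ι A) a t = (A.submatrix (Function.update ι t a) id).det *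
      (if t.val = 0 then 1 else ((A.submatrix ι id).det)⁻¹) := by
  unfold gMat
  rw [← Matrix.mul_assoc, Matrix.mul_diagonal, mul_adjugate_submatrix_apply]

/-- Cramer's rule clears denominators: every polynomial evaluated at `A * g_A` is, up to a power of the
top minor, a polynomial in the minors. -/
theorem igusa_aux (ι : Fin d → Fin n) (h : MatRing K d n) :
    ∃ (N : ℕ) (H : MatRing K d n), H ∈ (pluckerMap K d n).range ∧
      ∀ A : Matrix (Fin n) (Fin d) K, (A.submatrix ι id).det ≠ 0 →
        (A.submatrix ι id).det ^ N * eval (fun p : Fin n × Fin d => (A * gMat K ι A) p.1 p.2) h =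
          eval (fun p : Fin n × Fin d => A p.1 p.2) H := by
  induction h using MvPolynomial.induction_on with
  | C c =>
    refine ⟨0, C c, Subalgebra.algebraMap_mem _ c, fun A _ => ?_⟩
    simp
  | add h₁ h₂ ih₁ ih₂ =>
    obtain ⟨N₁, H₁, hH₁, e₁⟩ := ih₁
    obtain ⟨N₂, H₂, hH₂, e₂⟩ := ih₂
    refine ⟨N₁ + N₂, minor K d n ι ^ N₂ * H₁ + minor K d n ι ^ N₁ * H₂, ?_, fun A hA => ?_⟩
    · exact Subalgebra.add_mem _
        (Subalgebra.mul_mem _ (Subalgebra.pow_mem _ (minor_mem_range K ι) _) hH₁)
        (Subalgebra.mul_mem _ (Subalgebra.pow_mem _ (minor_mem_range K ι) _) hH₂)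
    · rw [map_add, map_add, map_mul, map_mul, map_pow, map_pow, eval_minor, ← e₁ A hA, ← e₂ A hA]
      ring
  | mul_X h p ih =>
    obtain ⟨N, H, hH, e⟩ := ih
    refine ⟨N + 1, H * (minor K d n (Function.update ι p.2 p.1) *
      (if p.2.val = 0 then minor K d n ι else 1)), ?_, fun A hA => ?_⟩
    · refine Subalgebra.mul_mem _ hH (Subalgebra.mul_mem _ (minor_mem_range K _) ?_)
      split_ifs
      · exact minor_mem_range K ι
      · exact Subalgebra.one_mem _
    · rw [map_mul, eval_X, mul_gMat_apply, map_mul, map_mul, ← e A hA, eval_minor]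
      split_ifs with ht
      · rw [eval_minor]; ring
      · rw [map_one]; field_simp; ring

variable [Infinite K] (hd : 0 < d) (hdn : d < n)

/-- An `SL_d`-invariant polynomial becomes a polynomial in the minors after multiplication by a power of
the least minor. -/
theorem pow_mul_mem (f : MatRing K d n)
    (hf : ∀ g : Matrix.SpecialLinearGroup (Fin d) K, rightTranslate K d n g f = f) :
    ∃ N : ℕ, minor K d n (wbot hdn.le).1 ^ N * f ∈ (pluckerMap K d n).range := by
  obtain ⟨N, H, hH, hev⟩ := igusa_aux K (wbot hdn.le).1 f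
  refine ⟨N, ?_⟩
  have key : minor K d n (wbot hdn.le).1 * (minor K d n (wbot hdn.le).1 ^ N * f - H) = 0 := by
    apply MvPolynomial.funext
    intro x
    set A : Matrix (Fin n) (Fin d) K := Matrix.of fun a t => x (a, t) with hA
    have hx : x = fun p : Fin n × Fin d => A p.1 p.2 := by
      funext p
      rfl
    rw [hx, map_mul, map_sub, map_mul, map_pow, eval_minor, map_zero]
    by_cases hδ : (A.submatrix (wbot hdn.le).1 id).det = 0
    · rw [hδ, zero_mul]
    · have h1 := hev A hδ
      have h2 := eval_rightTranslate K ⟨gMat K (wbot hdn.le).1 A, det_gMat K _ A hδ⟩ A f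
      rw [hf] at h2
      rw [h2, h1, sub_self, mul_zero]
  rcases mul_eq_zero.1 key with h | h
  · exact absurd h (minor_wbot_ne_zero K hdn.le)
  · rw [sub_eq_zero.1 h]; exact hH

include hd hdn in
/-- First fundamental theorem for `SL_d`. -/
theorem fft (f : MatRing K d n) :
    (∀ g : Matrix.SpecialLinearGroup (Fin d) K, rightTranslate K d n g f = f) ↔
      f ∈ Algebra.adjoin K (Set.range fun θ : Idx d n => minor K d n θ.1) := by
  rw [adjoin_eq_range]
  constructor
  · intro hf
    obtain ⟨N, hN⟩ := pow_mul_mem K hdn f hf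
    induction N with
    | zero => rwa [pow_zero, one_mul] at hN
    | succ N ih =>
      apply ih
      apply div_mem K hd hdn _ _ hN
      rw [pow_succ]
      ring
  · intro hf g
    rw [← adjoin_eq_range] at hf
    have hle : Algebra.adjoin K (Set.range fun θ : Idx d n => minor K d n θ.1) ≤
        AlgHom.equalizer (rightTranslate K d n g) (AlgHom.id K (MatRing K d n)) := by
      apply Algebra.adjoin_le
      rintro _ ⟨θ, rfl⟩
      exact rightTranslate_minor K g θ.1
    exact hle hf

end Igusa

end Groth.Agent.Lib.PlFFT
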