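import Groth.Agent.Lib.PlSMT12
import Groth.Agent.Lib.PlFFT

/-!
# The big cell of a Schubert variety

For `τ ∈ I(d,n)` the normalized echelon matrix `cellN τ` has the identity on the rows `τ`, zeros below the pivots
and free variables above them (outside the pivot rows).  The map `alpha : X_θ ↦ x * [θ-minor of cellN τ]` from the
Plücker ring to `K[y, x]` has kernel the Schubert ideal `J(τ)`, sends `X_τ` to `x`, and identifies
`(S/J(τ))[1/X_τ]` with `K[y, x][1/x]`.
-/

set_option autoImplicit false
set_option linter.unusedSectionVars false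
set_option linter.unusedSimpArgs false
universe u
open Finset MvPolynomial W4bk4grassmannian

noncomputable section

namespace Groth.Agent.Lib.SchubertCell
open Groth.Agent.Lib.PlSMT Groth.Agent.Lib.PlFFT

variable {d n : ℕ}

/-- Free positions of the normalized echelon matrix of `τ`: above the pivot of the column, outside the pivot rows. -/
def Free (τ : Idx d n) : Type := {p : Fin n × Fin d // p.1 < τ.1 p.2 ∧ ∀ s, τ.1 s ≠ p.1}

variable (K : Type u) [Field K] (τ : Idx d n)

/-- The polynomial ring `K[y, x]`: one variable per free position, and the variable `x = X none`. -/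
abbrev CellP : Type u := MvPolynomial (Option (Free τ)) K

open Classical in
/-- The normalized echelon matrix of `τ`. -/
def cellN : Matrix (Fin n) (Fin d) (CellP K τ) := Matrix.of fun a t =>
  if h : ∃ s, τ.1 s = a then (if τ.1 t = a then 1 else 0)
  else if h2 : a < τ.1 t then X (some ⟨(a, t), h2, fun s hs => h ⟨s, hs⟩⟩) else 0

lemma cellN_pivot (s t : Fin d) : cellN K τ (τ.1 s) t = if s = t then 1 else 0 := by
  classical
  unfold cellN
  rw [Matrix.of_apply, dif_pos ⟨s, rfl⟩]
  by_cases h : s = t
  · subst h; rw [if_pos rfl, if_pos rfl]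
  · rw [if_neg h, if_neg]
    exact fun h' => h (τ.2.injective h').symm

lemma cellN_free (p : Free τ) : cellN K τ p.1.1 p.1.2 = X (some p) := by
  classical
  unfold cellN
  rw [Matrix.of_apply, dif_neg (fun ⟨s, hs⟩ => p.2.2 s hs), dif_pos p.2.1]
  rfl

lemma cellN_eq_zero_of_gt {a : Fin n} {t : Fin d} (h : τ.1 t < a) : cellN K τ a t = 0 := by
  classical
  unfold cellN
  rw [Matrix.of_apply]
  split_ifs with h1 h2 h3
  · exact absurd h2 (ne_of_lt h)
  · rfl
  · exact absurd h3 (not_lt.2 h.le)
  · rfl

lemma cellN_submatrix_self : (cellN K τ).submatrix τ.1 id = 1 := by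
  ext s t
  rw [Matrix.submatrix_apply, id, cellN_pivot, Matrix.one_apply]

lemma minor_cellN_eq_zero (φ : Idx d n) (h : ¬ φ ≤ τ) :
    ((cellN K τ).submatrix φ.1 id).det = 0 := by
  have hex : ∃ t : Fin d, τ.1 t < φ.1 t := by
    by_contra hcon
    exact h (fun t => not_lt.1 (fun hlt => hcon ⟨t, hlt⟩))
  obtain ⟨t, ht⟩ := hex
  apply det_eq_zero_of_block _ t
  intro s c hs hc
  rw [Matrix.submatrix_apply, id]
  apply cellN_eq_zero_of_gt
  calc τ.1 c ≤ τ.1 t := τ.2.monotone hc
    _ < φ.1 t := ht
    _ ≤ φ.1 s := φ.2.monotone hs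

/-- Replacing one row of the identity block: the minor is the entry. -/
lemma minor_cellN_update (a : Fin n) (t : Fin d) :
    ((cellN K τ).submatrix (Function.update τ.1 t a) id).det = cellN K τ a t := by
  rw [← mul_adjugate_submatrix_apply, cellN_submatrix_self, Matrix.adjugate_one, Matrix.mul_one]

/-- The scaled matrix: first column multiplied by `x`. -/
def cellN' : Matrix (Fin n) (Fin d) (CellP K τ) := Matrix.of fun a t =>
  (if t.val = 0 then X none else 1) * cellN K τ a t

lemma prod_ite_val_zero' {R : Type*} [CommRing R] (c : R) :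
    ∀ d : ℕ, 0 < d → ∏ t : Fin d, (if t.val = 0 then c else (1 : R)) = c
  | 0, h => absurd h (lt_irrefl 0)
  | (d + 1), _ => by
    rw [Fin.prod_univ_succ]
    simp

lemma minor_cellN' (hd : 0 < d) (ρ : Fin d → Fin n) :
    ((cellN' K τ).submatrix ρ id).det = X none * ((cellN K τ).submatrix ρ id).det := by
  have : (cellN' K τ).submatrix ρ id =
      Matrix.of fun s t => (fun t : Fin d => if t.val = 0 then (X none : CellP K τ) else 1) t *
        ((cellN K τ).submatrix ρ id) s t := by
    ext s t
    rfl
  rw [this, Matrix.det_mul_row, prod_ite_val_zero' _ d hd]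

/-- The comorphism of the big cell. -/
def alpha : PlRing K d n →ₐ[K] CellP K τ :=
  MvPolynomial.aeval fun θ : Idx d n => ((cellN' K τ).submatrix θ.1 id).det

lemma alpha_X (hd : 0 < d) (θ : Idx d n) :
    alpha K τ (X θ) = X none * ((cellN K τ).submatrix θ.1 id).det := by
  unfold alpha
  rw [aeval_X, minor_cellN' K τ hd]

lemma alpha_X_self (hd : 0 < d) : alpha K τ (X τ) = X none := by
  rw [alpha_X K τ hd, cellN_submatrix_self, Matrix.det_one, mul_one]

lemma alpha_coord (hd : 0 < d) (ρ : Fin d → Fin n) :
    alpha K τ (coord K d n ρ) = X none * ((cellN K τ).submatrix ρ id).det := by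
  unfold alpha
  rw [aeval_coord, minor_cellN' K τ hd]

lemma alpha_coord_update (hd : 0 < d) (p : Free τ) :
    alpha K τ (coord K d n (Function.update τ.1 p.1.2 p.1.1)) = X none * X (some p) := by
  rw [alpha_coord K τ hd, minor_cellN_update, cellN_free]

section Ker
variable [Infinite K] (hd : 0 < d)

include hd in
/-- The Schubert ideal is killed by `alpha`. -/
theorem alpha_eq_zero_of_mem (f : PlRing K d n) (hf : f ∈ schubertVanishing K d n τ) :
    alpha K τ f = 0 := by
  apply MvPolynomial.funext
  intro v
  rw [map_zero]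
  set A : Matrix (Fin n) (Fin d) K := (cellN' K τ).map (MvPolynomial.eval v) with hA
  have hsub : ∀ ρ : Fin d → Fin n, (A.submatrix ρ id).det =
      MvPolynomial.eval v (((cellN' K τ).submatrix ρ id).det) := by
    intro ρ
    rw [RingHom.map_det]
    rfl
  have hcond : ∀ φ : Idx d n, ¬ φ ≤ τ → (A.submatrix φ.1 id).det = 0 := by
    intro φ hφ
    rw [hsub, minor_cellN' K τ hd, minor_cellN_eq_zero K τ φ hφ, mul_zero, map_zero]
  unfold schubertVanishing at hf
  rw [Ideal.mem_iInf] at hf
  have h1 := hf A
  rw [Ideal.mem_iInf] at h1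
  have h2 : evalMinors K d n A f = 0 := h1 hcond
  have key : (MvPolynomial.aeval v : CellP K τ →ₐ[K] K).comp (alpha K τ) =
      evalMinors K d n A := by
    apply MvPolynomial.algHom_ext
    intro θ
    rw [AlgHom.comp_apply]
    unfold alpha evalMinors
    rw [aeval_X, aeval_X, hsub]
    rfl
  have h3 := congrArg (fun φ => φ f) key
  simp only [AlgHom.comp_apply] at h3
  rw [h2] at h3
  rw [← h3]
  rfl

/-- The point of the cell attached to a matrix with invertible `τ`-block. -/
def cellPt (A : Matrix (Fin n) (Fin d) K) : Option (Free τ) → K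
  | none => (A.submatrix τ.1 id).det
  | some p => ((A.submatrix τ.1 id).det)⁻¹ *
      (A * Matrix.adjugate (A.submatrix τ.1 id)) p.1.1 p.1.2

lemma minor_update_eq_zero (A : Matrix (Fin n) (Fin d) K)
    (hA : ∀ φ : Idx d n, ¬ φ ≤ τ → (A.submatrix φ.1 id).det = 0) {a : Fin n} {t : Fin d}
    (hat : τ.1 t < a) : (A.submatrix (Function.update τ.1 t a) id).det = 0 := by
  rw [← evalMinors_coord K A]
  by_cases hc : (Finset.univ.image (Function.update τ.1 t a)).card = d
  · rw [coord_of_card K hc, map_mul]
    have hlt : τ < sortIdx d n (Function.update τ.1 t a) hc := by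
      apply sortIdx_gt_of_le_of_ne hc
      · intro s
        by_cases hs : s = t
        · subst hs; rw [Function.update_self]; exact hat.le
        · rw [Function.update_of_ne hs]
      · intro h
        have := congrFun h t
        rw [Function.update_self] at this
        exact (ne_of_lt hat) this
    have : evalMinors K d n A (X (sortIdx d n (Function.update τ.1 t a) hc)) = 0 := by
      unfold evalMinors
      rw [aeval_X]
      exact hA _ (fun hle => absurd (lt_of_lt_of_le hlt hle) (lt_irrefl _))
    rw [this, mul_zero]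
  · rw [coord_of_not_card K hc, map_zero]

lemma cellN_map_cellPt (A : Matrix (Fin n) (Fin d) K)
    (hA : ∀ φ : Idx d n, ¬ φ ≤ τ → (A.submatrix φ.1 id).det = 0)
    (hδ : (A.submatrix τ.1 id).det ≠ 0) :
    (cellN K τ).map (MvPolynomial.eval (cellPt K τ A)) =
      ((A.submatrix τ.1 id).det)⁻¹ • (A * Matrix.adjugate (A.submatrix τ.1 id)) := by
  classical
  ext a t
  rw [Matrix.map_apply, Matrix.smul_apply, smul_eq_mul]
  by_cases h : ∃ s, τ.1 s = a
  · obtain ⟨s, rfl⟩ := h
    rw [cellN_pivot]
    have : (A * Matrix.adjugate (A.submatrix τ.1 id)) (τ.1 s) t =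
        ((A.submatrix τ.1 id) * Matrix.adjugate (A.submatrix τ.1 id)) s t := by
      rw [Matrix.mul_apply, Matrix.mul_apply]
      rfl
    rw [this, Matrix.mul_adjugate, Matrix.smul_apply, Matrix.one_apply, smul_eq_mul]
    by_cases hst : s = t
    · rw [if_pos hst, if_pos hst, map_one, mul_one, inv_mul_cancel₀ hδ]
    · rw [if_neg hst, if_neg hst, map_zero, mul_zero, mul_zero]
  · by_cases h2 : a < τ.1 t
    · have := cellN_free K τ ⟨(a, t), h2, fun s hs => h ⟨s, hs⟩⟩
      simp only at this
      rw [this, eval_X]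
      rfl
    · have hlt : τ.1 t < a := by
        rcases lt_or_eq_of_le (not_lt.1 h2) with h3 | h3
        · exact h3
        · exact absurd ⟨t, h3⟩ h
      rw [cellN_eq_zero_of_gt K τ hlt, map_zero, mul_adjugate_submatrix_apply,
        minor_update_eq_zero K τ A hA hlt, mul_zero]

include hd in
lemma evalMinors_eq_eval_alpha (A : Matrix (Fin n) (Fin d) K)
    (hA : ∀ φ : Idx d n, ¬ φ ≤ τ → (A.submatrix φ.1 id).det = 0)
    (hδ : (A.submatrix τ.1 id).det ≠ 0) :
    evalMinors K d n A = (MvPolynomial.aeval (cellPt K τ A) : CellP K τ →ₐ[K] K).comp (alpha K τ) := by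
  apply MvPolynomial.algHom_ext
  intro θ
  rw [AlgHom.comp_apply, alpha_X K τ hd]
  unfold evalMinors
  rw [aeval_X, map_mul, aeval_X]
  show _ = cellPt K τ A none * (MvPolynomial.eval (cellPt K τ A)) ((cellN K τ).submatrix θ.1 id).det
  rw [RingHom.map_det]
  have e1 : (MvPolynomial.eval (cellPt K τ A)).mapMatrix ((cellN K τ).submatrix θ.1 id) =
      ((cellN K τ).map (MvPolynomial.eval (cellPt K τ A))).submatrix θ.1 id := rfl
  rw [e1, cellN_map_cellPt K τ A hA hδ]
  set g := A.submatrix τ.1 id with hg
  set B := (g.det)⁻¹ • (A * Matrix.adjugate g) with hB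
  have hBg : B * g = A := by
    rw [hB, Matrix.smul_mul, Matrix.mul_assoc, Matrix.adjugate_mul, Matrix.mul_smul, Matrix.mul_one,
      smul_smul, inv_mul_cancel₀ hδ, one_smul]
  have e2 : A.submatrix θ.1 id = B.submatrix θ.1 id * g := by
    conv_lhs => rw [← hBg]
    rw [Matrix.submatrix_mul B g θ.1 id id Function.bijective_id, Matrix.submatrix_id_id]
  rw [e2, Matrix.det_mul, mul_comm]
  rfl

include hd in
/-- The kernel of `alpha` is contained in the Schubert ideal. -/
theorem mem_of_alpha_eq_zero (f : PlRing K d n) (h : alpha K τ f = 0) :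
    f ∈ schubertVanishing K d n τ := by
  have := isDomain_schB K hd τ
  have hmul : f * X τ ∈ schubertVanishing K d n τ := by
    unfold schubertVanishing
    rw [Ideal.mem_iInf]
    intro A
    rw [Ideal.mem_iInf]
    intro hA
    show evalMinors K d n A (f * X τ) = 0
    rw [map_mul]
    by_cases hδ : (A.submatrix τ.1 id).det = 0
    · have : evalMinors K d n A (X τ) = 0 := by
        unfold evalMinors
        rw [aeval_X]
        exact hδ
      rw [this, mul_zero]
    · rw [evalMinors_eq_eval_alpha K τ hd A hA hδ, AlgHom.comp_apply, h, map_zero, zero_mul]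
  have h1 : Ideal.Quotient.mk (schubertVanishing K d n τ) f *
      Ideal.Quotient.mk (schubertVanishing K d n τ) (X τ) = 0 := by
    rw [← map_mul]
    exact Ideal.Quotient.eq_zero_iff_mem.2 hmul
  rcases mul_eq_zero.1 h1 with h2 | h2
  · exact Ideal.Quotient.eq_zero_iff_mem.1 h2
  · exact absurd h2 (mk_X_self_ne_zero K τ)

include hd in
/-- Up to a power of `x`, every element of `K[y, x]` is in the image of `alpha`. -/
theorem exists_alpha_eq (p : CellP K τ) :
    ∃ (k : ℕ) (r : PlRing K d n), alpha K τ r = X none ^ k * p := by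
  induction p using MvPolynomial.induction_on with
  | C c =>
    refine ⟨0, C c, ?_⟩
    rw [pow_zero, one_mul]
    exact (alpha K τ).commutes c
  | add p q ihp ihq =>
    obtain ⟨k₁, r₁, h₁⟩ := ihp
    obtain ⟨k₂, r₂, h₂⟩ := ihq
    refine ⟨k₁ + k₂, X τ ^ k₂ * r₁ + X τ ^ k₁ * r₂, ?_⟩
    rw [map_add, map_mul, map_mul, map_pow, map_pow, alpha_X_self K τ hd, h₁, h₂]
    ring
  | mul_X p i ih =>
    obtain ⟨k, r, h⟩ := ih
    cases i with
    | none =>
      refine ⟨k, r * X τ, ?_⟩
      rw [map_mul, alpha_X_self K τ hd, h]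
      ring
    | some q =>
      refine ⟨k + 1, r * coord K d n (Function.update τ.1 q.1.2 q.1.1), ?_⟩
      rw [map_mul, alpha_coord_update K τ hd, h]
      ring

/-- The induced map on the coordinate ring of the cone over the Schubert variety. -/
def alphaBar : SchB K τ →ₐ[K] CellP K τ :=
  Ideal.Quotient.liftₐ (schubertVanishing K d n τ) (alpha K τ)
    (fun f hf => alpha_eq_zero_of_mem K τ hd f hf)

lemma alphaBar_mk (f : PlRing K d n) :
    alphaBar K τ hd (Ideal.Quotient.mk (schubertVanishing K d n τ) f) = alpha K τ f := rfl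

include hd in
lemma alphaBar_injective : Function.Injective (alphaBar K τ hd) := by
  rw [injective_iff_map_eq_zero]
  intro y hy
  obtain ⟨f, rfl⟩ := Ideal.Quotient.mk_surjective y
  rw [alphaBar_mk] at hy
  exact Ideal.Quotient.eq_zero_iff_mem.2 (mem_of_alpha_eq_zero K τ hd f hy)

include hd in
lemma alphaBar_X_self :
    alphaBar K τ hd (Ideal.Quotient.mk (schubertVanishing K d n τ) (X τ)) = X none := by
  rw [alphaBar_mk, alpha_X_self K τ hd]

/-- The ring map `S/J(τ) → K[y, x][1/x]`. -/
def cellMap : SchB K τ →+* Localization.Away (X none : CellP K τ) :=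
  (algebraMap (CellP K τ) (Localization.Away (X none : CellP K τ))).comp
    (alphaBar K τ hd).toRingHom

/-- `K[y, x][1/x]` is the localization of `S/J(τ)` at the class of `X_τ`. -/
theorem isLocalization_cell :
    @IsLocalization.Away _ _ (Ideal.Quotient.mk (schubertVanishing K d n τ) (X τ))
      (Localization.Away (X none : CellP K τ)) _ (cellMap K τ hd).toAlgebra := by
  let _ := (cellMap K τ hd).toAlgebra
  have halg : ∀ q, algebraMap (SchB K τ) (Localization.Away (X none : CellP K τ)) q =
      algebraMap (CellP K τ) (Localization.Away (X none : CellP K τ)) (alphaBar K τ hd q) :=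
    fun q => rfl
  have hinj : Function.Injective
      (algebraMap (CellP K τ) (Localization.Away (X none : CellP K τ))) :=
    IsLocalization.injective (M := Submonoid.powers (X none : CellP K τ)) _
      (powers_le_nonZeroDivisors_of_noZeroDivisors (X_ne_zero _))
  refine ⟨?_, ?_, ?_⟩
  · rintro ⟨_, k, rfl⟩
    rw [halg, map_pow, alphaBar_X_self K τ hd, map_pow]
    exact (IsLocalization.Away.algebraMap_isUnit (S := Localization.Away (X none : CellP K τ))
      (X none : CellP K τ)).pow k
  · intro z
    obtain ⟨⟨p, ⟨_, k, rfl⟩⟩, rfl⟩ := IsLocalization.mk'_surjective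
      (Submonoid.powers (X none : CellP K τ)) z
    obtain ⟨m, r, hr⟩ := exists_alpha_eq K τ hd p
    refine ⟨(Ideal.Quotient.mk _ r, ⟨Ideal.Quotient.mk _ (X τ) ^ (k + m), k + m, rfl⟩), ?_⟩
    show IsLocalization.mk' (Localization.Away (X none : CellP K τ)) p
        (⟨X none ^ k, k, rfl⟩ : Submonoid.powers (X none : CellP K τ)) *
      algebraMap (SchB K τ) (Localization.Away (X none : CellP K τ))
        (Ideal.Quotient.mk _ (X τ) ^ (k + m)) =
      algebraMap (SchB K τ) (Localization.Away (X none : CellP K τ)) (Ideal.Quotient.mk _ r)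
    have hspec := IsLocalization.mk'_spec (Localization.Away (X none : CellP K τ)) p
      (⟨X none ^ k, k, rfl⟩ : Submonoid.powers (X none : CellP K τ))
    rw [halg, halg, map_pow, alphaBar_X_self K τ hd, alphaBar_mk, hr, pow_add, map_mul, map_mul,
      ← mul_assoc]
    rw [show (algebraMap (CellP K τ) (Localization.Away (X none : CellP K τ))) (X none ^ k) =
      (algebraMap (CellP K τ) (Localization.Away (X none : CellP K τ)))
        ((⟨X none ^ k, k, rfl⟩ : Submonoid.powers (X none : CellP K τ)) : CellP K τ) from rfl, hspec,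
      mul_comm]
  · intro a b hab
    refine ⟨1, ?_⟩
    rw [halg, halg] at hab
    rw [alphaBar_injective K τ hd (hinj hab)]

end Ker

end Groth.Agent.Lib.SchubertCell
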