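import Groth.Agent.Lib.PlSMT4

/-!
# Standard monomial theory, part 5: Schubert ideals and standard monomials

Consequences for the vanishing ideals `schubertVanishing` over an infinite field: standard monomials below `w`
are linearly independent modulo `schubertVanishing w`; reduction of any polynomial to standard form modulo
an ideal containing the shuffle relations.
-/

set_option autoImplicit false
set_option linter.unusedSectionVars false
set_option linter.unusedSimpArgs false
universe u v
open Finset MvPolynomial W4bk4grassmannian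

namespace Groth.Agent.Lib.PlSMT

variable {d n : ℕ}

variable (K : Type u) [CommRing K]

/-- `X φ` lies in the Schubert ideal of `w` when `φ ≰ w`. -/
lemma X_mem_schubertVanishing {w φ : Idx d n} (h : ¬ φ ≤ w) : X φ ∈ schubertVanishing K d n w := by
  unfold schubertVanishing
  rw [Ideal.mem_iInf]
  intro A
  rw [Ideal.mem_iInf]
  intro hA
  show evalMinors K d n A (X φ) = 0
  unfold evalMinors
  rw [aeval_X]
  exact hA φ h

lemma schubertVanishing_mono {w w' : Idx d n} (h : w' ≤ w) :
    schubertVanishing K d n w ≤ schubertVanishing K d n w' := by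
  intro f hf
  unfold schubertVanishing at hf ⊢
  rw [Ideal.mem_iInf] at hf ⊢
  intro A
  rw [Ideal.mem_iInf]
  intro hA
  have := hf A
  rw [Ideal.mem_iInf] at this
  exact this (fun φ hφ => hA φ (fun hφ' => hφ (le_trans hφ' h)))

/-- Polynomials in the Schubert ideal of `w` vanish at the minors of the generic echelon matrix. -/
theorem evalG_eq_zero_of_mem [IsDomain K] [Infinite K] (w : Idx d n) (f : PlRing K d n)
    (hf : f ∈ schubertVanishing K d n w) : evalG K w f = 0 := by
  apply MvPolynomial.funext
  intro x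
  rw [map_zero]
  set A : Matrix (Fin n) (Fin d) K := (genEch K w).map (MvPolynomial.eval x) with hA
  have hsub : ∀ θ : Idx d n, (A.submatrix θ.1 id).det =
      MvPolynomial.eval x (((genEch K w).submatrix θ.1 id).det) := by
    intro θ
    rw [RingHom.map_det]
    rfl
  have hcond : ∀ φ : Idx d n, ¬ φ ≤ w → (A.submatrix φ.1 id).det = 0 := by
    intro φ hφ
    rw [hsub, minor_genEch_eq_zero K w φ hφ, map_zero]
  unfold schubertVanishing at hf
  rw [Ideal.mem_iInf] at hf
  have h1 := hf A
  rw [Ideal.mem_iInf] at h1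
  have h2 : evalMinors K d n A f = 0 := h1 hcond
  have key : (MvPolynomial.aeval x : MvPolynomial (Fin n × Fin d) K →ₐ[K] K).comp (evalG K w) =
      evalMinors K d n A := by
    apply MvPolynomial.algHom_ext
    intro θ
    rw [AlgHom.comp_apply, evalG_X]
    unfold evalMinors
    rw [aeval_X, hsub]
    rfl
  have h3 := congrArg (fun φ => φ f) key
  simp only [AlgHom.comp_apply] at h3
  rw [h2] at h3
  rw [← h3]
  rfl

/-- Standard monomials below `w` are independent modulo the Schubert ideal. -/
theorem eq_zero_of_mem_schubert_of_std [IsDomain K] [Infinite K] (hd : 0 < d) (w : Idx d n)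
    (f : PlRing K d n) (hf : f ∈ schubertVanishing K d n w)
    (hstd : ∀ e ∈ f.support, IsStdOn w e) : f = 0 := by
  apply eq_zero_of_evalG_eq_zero K hd (f.support.sup Finsupp.degree) w f
  · intro e he
    exact ⟨hstd e he, Finset.le_sup (f := Finsupp.degree) he⟩
  · exact evalG_eq_zero_of_mem K w f hf

/-- A monomial having a variable `X x` with `x ≰ w` lies in the Schubert ideal of `w`. -/
lemma monomial_mem_schubert {w : Idx d n} (e : Idx d n →₀ ℕ) (c : K) (x : Idx d n)
    (hx : x ∈ e.support) (hxw : ¬ x ≤ w) : monomial e c ∈ schubertVanishing K d n w := by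
  have h1 : 1 ≤ e x := Nat.one_le_iff_ne_zero.2 (Finsupp.mem_support_iff.1 hx)
  have hsum : Finsupp.single x 1 + (e - Finsupp.single x 1) = e := by
    refine Finsupp.ext fun θ => ?_
    by_cases hθ : θ = x
    · subst hθ
      simp only [Finsupp.coe_add, Pi.add_apply, Finsupp.single_eq_same, Finsupp.coe_tsub,
        Pi.sub_apply]
      omega
    · simp only [Finsupp.coe_add, Pi.add_apply, Finsupp.coe_tsub, Pi.sub_apply,
        Finsupp.single_eq_of_ne hθ]
      omega
  have : monomial e c = X x * monomial (e - Finsupp.single x 1) c := by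
    rw [MvPolynomial.X, MvPolynomial.monomial_mul, one_mul, hsum]
  rw [this]
  exact Ideal.mul_mem_right _ _ (X_mem_schubertVanishing K hxw)

/-- If `F` lies in the Schubert ideal of `w` and is supported on monomials whose supports are chains, then the
coefficients of the monomials below `w` vanish. -/
theorem coeff_eq_zero_of_mem_schubert [IsDomain K] [Infinite K] (hd : 0 < d) (w : Idx d n)
    (F : PlRing K d n) (hF : F ∈ schubertVanishing K d n w)
    (hch : ∀ e ∈ F.support, IsChain (· ≤ ·) (e.support : Set (Idx d n)))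
    (e : Idx d n →₀ ℕ) (he : ∀ θ ∈ e.support, θ ≤ w) : coeff e F = 0 := by
  classical
  set S₁ := F.support.filter fun e => ∀ θ ∈ e.support, θ ≤ w with hS₁
  set F₁ : PlRing K d n := ∑ e' ∈ S₁, monomial e' (coeff e' F) with hF₁
  set F₂ : PlRing K d n := ∑ e' ∈ F.support.filter (fun e => ¬ ∀ θ ∈ e.support, θ ≤ w),
    monomial e' (coeff e' F) with hF₂
  have hsplit : F = F₁ + F₂ := by
    conv_lhs => rw [F.as_sum]
    rw [hF₁, hF₂, hS₁, Finset.sum_filter_add_sum_filter_not]
  have hF₂mem : F₂ ∈ schubertVanishing K d n w := by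
    rw [hF₂]
    refine Ideal.sum_mem _ fun e' he' => ?_
    rw [Finset.mem_filter] at he'
    obtain ⟨-, hnot⟩ := he'
    push Not at hnot
    obtain ⟨x, hx, hxw⟩ := hnot
    exact monomial_mem_schubert K e' _ x hx hxw
  have hF₁mem : F₁ ∈ schubertVanishing K d n w := by
    have : F₁ = F - F₂ := by rw [hsplit]; ring
    rw [this]
    exact Ideal.sub_mem _ hF hF₂mem
  have hcoeff : ∀ e' : Idx d n →₀ ℕ, coeff e' F₁ = if e' ∈ S₁ then coeff e' F else 0 := by
    intro e'
    rw [hF₁, MvPolynomial.coeff_sum]
    simp only [MvPolynomial.coeff_monomial]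
    rw [Finset.sum_ite_eq' S₁ e']
  have hF₁std : ∀ e' ∈ F₁.support, IsStdOn w e' := by
    intro e' he'
    have hne : coeff e' F₁ ≠ 0 := MvPolynomial.mem_support_iff.1 he'
    rw [hcoeff] at hne
    have hmem : e' ∈ S₁ := by
      by_contra h
      rw [if_neg h] at hne
      exact hne rfl
    rw [hS₁, Finset.mem_filter] at hmem
    exact ⟨hch e' hmem.1, hmem.2⟩
  have hF₁0 := eq_zero_of_mem_schubert_of_std K hd w F₁ hF₁mem hF₁std
  by_cases hmem : e ∈ F.support
  · have : e ∈ S₁ := by rw [hS₁, Finset.mem_filter]; exact ⟨hmem, he⟩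
    have h1 := hcoeff e
    rw [if_pos this, hF₁0, MvPolynomial.coeff_zero] at h1
    exact h1.symm
  · exact MvPolynomial.notMem_support_iff.1 hmem

/-! ### Exponent vectors of chains -/

/-- The exponent vector of the monomial of a tuple. -/
noncomputable def expo {m : ℕ} (c : Fin m → Idx d n) : Idx d n →₀ ℕ := ∑ k, Finsupp.single (c k) 1

lemma chainMon_eq_monomial {m : ℕ} (c : Fin m → Idx d n) : chainMon K c = monomial (expo c) 1 := by
  unfold chainMon expo
  rw [MvPolynomial.monomial_sum_one]
  rfl

lemma expo_eq_toFinsupp {m : ℕ} (c : Fin m → Idx d n) :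
    expo c = Multiset.toFinsupp (Multiset.ofList (List.ofFn c)) := by
  rw [← Fin.univ_val_map]
  unfold expo
  have h1 : ∀ k : Fin m, Finsupp.single (c k) 1 = Multiset.toFinsupp ({c k} : Multiset (Idx d n)) :=
    fun k => (Multiset.toFinsupp_singleton (c k)).symm
  rw [Finset.sum_congr rfl fun k _ => h1 k, ← map_sum]
  congr 1
  rw [Finset.sum_eq_multiset_sum]
  have : (fun x : Fin m => ({c x} : Multiset (Idx d n))) =
      (fun a => ({a} : Multiset (Idx d n))) ∘ c := rfl
  rw [this, ← Multiset.map_map, Multiset.sum_map_singleton]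

lemma mem_support_expo {m : ℕ} (c : Fin m → Idx d n) (θ : Idx d n) :
    θ ∈ (expo c).support ↔ ∃ k, c k = θ := by
  rw [expo_eq_toFinsupp, Multiset.toFinsupp_support, Multiset.mem_toFinset, Multiset.mem_coe,
    List.mem_ofFn]

lemma isChain_expo {m : ℕ} {c : Fin m → Idx d n} (hc : Antitone c) :
    IsChain (· ≤ ·) ((expo c).support : Set (Idx d n)) := by
  intro x hx y hy _
  rw [Finset.mem_coe, mem_support_expo] at hx hy
  obtain ⟨k, rfl⟩ := hx
  obtain ⟨k', rfl⟩ := hy
  rcases le_total k k' with h | h
  · exact Or.inr (hc h)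
  · exact Or.inl (hc h)

lemma isStdOn_expo {m : ℕ} {c : Fin m → Idx d n} (hc : Antitone c) {w : Idx d n}
    (hw : ∀ k, c k ≤ w) : IsStdOn w (expo c) := by
  refine ⟨isChain_expo hc, fun θ hθ => ?_⟩
  rw [mem_support_expo] at hθ
  obtain ⟨k, rfl⟩ := hθ
  exact hw k

/-- Antitone tuples are determined by their exponent vectors. -/
theorem sigma_eq_of_expo_eq {m m' : ℕ} {c : Fin m → Idx d n} {c' : Fin m' → Idx d n}
    (hc : Antitone c) (hc' : Antitone c') (h : expo c = expo c') :
    (⟨m, c⟩ : Σ m, Fin m → Idx d n) = ⟨m', c'⟩ := by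
  rw [expo_eq_toFinsupp, expo_eq_toFinsupp] at h
  have h1 := Multiset.toFinsupp.injective h
  have h2 : List.Perm (List.ofFn c) (List.ofFn c') := Quotient.exact h1
  have p1 : (List.ofFn c).Pairwise (· ≥ ·) := by
    rw [List.pairwise_ofFn]; intro i j hij; exact hc hij.le
  have p2 : (List.ofFn c').Pairwise (· ≥ ·) := by
    rw [List.pairwise_ofFn]; intro i j hij; exact hc' hij.le
  have h3 := h2.eq_of_pairwise' p1 p2
  exact List.ofFn_inj'.1 h3

/-- A tuple one of whose members has its variable in `I` has its monomial in `I`. -/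
lemma chainMon_mem_of_X_mem {m : ℕ} (c : Fin m → Idx d n) (I : Ideal (PlRing K d n)) (k : Fin m)
    (hk : X (c k) ∈ I) : chainMon K c ∈ I := by
  unfold chainMon
  exact Ideal.mem_of_dvd _ (Finset.dvd_prod_of_mem (fun k => (X (c k) : PlRing K d n))
    (Finset.mem_univ k)) hk

/-- Reduction to standard form: modulo an ideal containing the shuffle relations and the variables `X θ`
with `¬ Q θ`, every polynomial is congruent to a combination of standard monomials in variables satisfying
`Q`. -/
theorem exists_std_rep (I : Ideal (PlRing K d n)) (hI : plIdealTop (d := d) (n := n) K ≤ I)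
    (Q : Idx d n → Prop) (hQ : ∀ θ, ¬ Q θ → X θ ∈ I) (f : PlRing K d n) :
    ∃ F : PlRing K d n,
      (∀ e ∈ F.support, IsChain (· ≤ ·) (e.support : Set (Idx d n)) ∧ ∀ θ ∈ e.support, Q θ) ∧
        f - F ∈ I := by
  classical
  have htop := span_std_eq_top K I hI
  have hmem : Ideal.Quotient.mk I f ∈ Submodule.span K (Set.range
      fun c : (Σ m : ℕ, {c : Fin m → Idx d n // Antitone c}) =>
        Ideal.Quotient.mk I (chainMon K c.2.1)) := by
    rw [htop]; trivial
  have key' : ∀ y ∈ Submodule.span K (Set.range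
      fun c : (Σ m : ℕ, {c : Fin m → Idx d n // Antitone c}) =>
        Ideal.Quotient.mk I (chainMon K c.2.1)), ∃ F : PlRing K d n,
      (∀ e ∈ F.support, IsChain (· ≤ ·) (e.support : Set (Idx d n)) ∧ ∀ θ ∈ e.support, Q θ) ∧
        Ideal.Quotient.mk I F = y := by
    intro y hy
    induction hy using Submodule.span_induction with
    | mem y hy =>
      obtain ⟨⟨m, c, hc⟩, rfl⟩ := hy
      by_cases hall : ∀ k, Q (c k)
      · refine ⟨chainMon K c, ?_, rfl⟩
        intro e he
        rw [chainMon_eq_monomial] at he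
        have := MvPolynomial.support_monomial_subset he
        rw [Finset.mem_singleton] at this
        subst this
        refine ⟨isChain_expo hc, fun θ hθ => ?_⟩
        rw [mem_support_expo] at hθ
        obtain ⟨k, rfl⟩ := hθ
        exact hall k
      · push Not at hall
        obtain ⟨k, hk⟩ := hall
        refine ⟨0, ?_, ?_⟩
        · intro e he; simp at he
        · rw [map_zero]
          exact (Ideal.Quotient.eq_zero_iff_mem.2
            (chainMon_mem_of_X_mem K c I k (hQ _ hk))).symm
    | zero => exact ⟨0, by intro e he; simp at he, rfl⟩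
    | add x y _ _ hx hy =>
      obtain ⟨F₁, h1, e1⟩ := hx
      obtain ⟨F₂, h2, e2⟩ := hy
      refine ⟨F₁ + F₂, ?_, by rw [map_add, e1, e2]⟩
      intro e he
      rcases Finset.mem_union.1 (MvPolynomial.support_add he) with h | h
      · exact h1 e h
      · exact h2 e h
    | smul a x _ hx =>
      obtain ⟨F₁, h1, e1⟩ := hx
      refine ⟨a • F₁, ?_, ?_⟩
      · intro e he
        exact h1 e (MvPolynomial.support_smul he)
      · rw [← e1]
        show Ideal.Quotient.mkₐ K I (a • F₁) = a • Ideal.Quotient.mkₐ K I F₁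
        rw [map_smul]
  obtain ⟨F, hF, hFe⟩ := key' _ hmem
  exact ⟨F, hF, Ideal.Quotient.eq.1 hFe.symm⟩

end Groth.Agent.Lib.PlSMT
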