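import Groth.Agent.Lib.BitabAlg
import Groth.Agent.Lib.SchubertCell
import Groth.Agent.S11250

/-!
# The determinantal ring as the opposite cell of a Schubert variety

For `w = w_t ∈ I(n, n+m)` the map `beta : X_θ ↦ T * [θ-minor of [I ; JZ]]` from the Plücker ring to `(K[Z]/I_t)[T]` has
kernel `J(w)`, sends `X_ι` (the least coordinate) to `T`, and identifies `(S/J(w))[1/X_ι]` with `(K[Z]/I_t)[T][1/T]`.
-/

set_option autoImplicit false
set_option linter.unusedSectionVars false
set_option linter.unusedSimpArgs false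
universe u
open Finset MvPolynomial W4bk4grassmannian

noncomputable section

namespace Groth.Agent.Lib.DetCell
open Groth.Agent.Lib.PlSMT Groth.Agent.Lib.Bitab Groth.Agent.Lib.SchubertCell

variable (K : Type u) [Field K] (m n t : ℕ)

/-- The determinantal ideal `I_t` of the generic `m × n` matrix. -/
abbrev It : Ideal (MvPolynomial (Fin m × Fin n) K) := CAlgX.minorIdeal (genMatrix K m n) t

/-- The determinantal ring `K[Z]/I_t`. -/
abbrev DetRing : Type u := MvPolynomial (Fin m × Fin n) K ⧸ It K m n t

/-- The `1 × 1` minor at position `(i, j)`. -/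
def M1 (i : Fin m) (j : Fin n) : MinorIdx m n :=
  ⟨0, ⟨fun _ => i, fun a b h => absurd h (by rw [Fin.lt_def]; omega)⟩,
    ⟨fun _ => j, fun a b h => absurd h (by rw [Fin.lt_def]; omega)⟩⟩

lemma minorOf_M1 (i : Fin m) (j : Fin n) : minorOf K (M1 m n i j) = X (i, j) := by
  unfold minorOf M1
  simp [genMatrix]

variable (ht : 1 ≤ t) (htm : t ≤ m + 1) (htn : t ≤ n + 1)

include ht in
lemma Psi_X_mem (φ : Idx n (n + m)) (hφ : ¬ φ ≤ Bitab.wt t htm htn) :
    Psi K m n (X φ) ∈ It K m n t := by
  have hne : φ ≠ wbot (Nat.le_add_right n m) := by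
    rintro rfl
    exact hφ (wbot_le _ _)
  obtain ⟨M, rfl⟩ := exists_psi_eq φ hne
  rw [Psi_X_psi, Algebra.smul_def]
  apply Ideal.mul_mem_left
  apply minorOf_mem_minorIdeal
  rw [le_wt_iff t ht htm htn, hiT_psi] at hφ
  omega

/-- The matrix `[I ; JZ]` over `(K[Z]/I_t)[T]`, first column scaled by `T`. -/
def cellT : Matrix (Fin (n + m)) (Fin n) (Polynomial (DetRing K m n t)) := Matrix.of fun a j =>
  (if j.val = 0 then Polynomial.X else 1) *
    Polynomial.C (Ideal.Quotient.mk (It K m n t) (cellRev K m n a j))

lemma minor_cellT (hn : 0 < n) (ρ : Fin n → Fin (n + m)) :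
    ((cellT K m n t).submatrix ρ id).det = Polynomial.X *
      Polynomial.C (Ideal.Quotient.mk (It K m n t) (((cellRev K m n).submatrix ρ id).det)) := by
  have h1 : (cellT K m n t).submatrix ρ id =
      Matrix.of fun s j => (fun j : Fin n => if j.val = 0 then
        (Polynomial.X : Polynomial (DetRing K m n t)) else 1) j *
        (((cellRev K m n).submatrix ρ id).map
          ((Polynomial.C : DetRing K m n t →+* _).comp (Ideal.Quotient.mk (It K m n t)))) s j := by
    ext s j
    rfl
  rw [h1, Matrix.det_mul_row, prod_ite_val_zero' _ n hn]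
  congr 1
  rw [← RingHom.mapMatrix_apply, ← RingHom.map_det]
  rfl

/-- The comorphism. -/
def beta : PlRing K n (n + m) →ₐ[K] Polynomial (DetRing K m n t) :=
  MvPolynomial.aeval fun θ : Idx n (n + m) => ((cellT K m n t).submatrix θ.1 id).det

lemma beta_X (hn : 0 < n) (θ : Idx n (n + m)) :
    beta K m n t (X θ) = Polynomial.X *
      Polynomial.C (Ideal.Quotient.mk (It K m n t) (Psi K m n (X θ))) := by
  unfold beta
  rw [aeval_X, minor_cellT K m n t hn, Psi_X]

lemma beta_coord (hn : 0 < n) (ρ : Fin n → Fin (n + m)) :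
    beta K m n t (coord K n (n + m) ρ) = Polynomial.X *
      Polynomial.C (Ideal.Quotient.mk (It K m n t) (Psi K m n (coord K n (n + m) ρ))) := by
  unfold beta
  rw [aeval_coord, minor_cellT K m n t hn, Psi_coord]

lemma beta_X_wbot (hn : 0 < n) :
    beta K m n t (X (wbot (Nat.le_add_right n m))) = Polynomial.X := by
  rw [beta_X K m n t hn, Psi_X_wbot, map_one, map_one, mul_one]

section AlgClosed
variable [IsAlgClosed K] (hn : 0 < n) (hm : 0 < m)

include ht hn hm in
/-- `beta` kills the Schubert ideal of `w_t`. -/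
theorem beta_eq_zero_of_mem (f : PlRing K n (n + m))
    (hf : f ∈ schubertVanishing K n (n + m) (Bitab.wt t htm htn)) : beta K m n t f = 0 := by
  rw [← Groth.Agent.S11250.result K n (n + m) hn (by omega) (Bitab.wt t htm htn)] at hf
  have hle : plIdeal K (Bitab.wt t htm htn) ≤ RingHom.ker (beta K m n t).toRingHom := by
    unfold plIdeal
    rw [Ideal.span_le]
    rintro g (⟨i, j, r, -, rfl⟩ | ⟨φ, hφ, rfl⟩)
    · exact aeval_shuffleRel K (cellT K m n t) i j r
    · show beta K m n t (X φ) = 0
      rw [beta_X K m n t hn, Ideal.Quotient.eq_zero_iff_mem.2 (Psi_X_mem K m n t ht htm htn φ hφ),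
        map_zero, mul_zero]
  exact hle hf

end AlgClosed

section Inf
variable [Infinite K] (hn : 0 < n) (hm : 0 < m)

include ht hn in
lemma evalMinors_eq_zero_of_beta (A' : Matrix (Fin (n + m)) (Fin n) K)
    (hA : ∀ φ : Idx n (n + m), ¬ φ ≤ Bitab.wt t htm htn → (A'.submatrix φ.1 id).det = 0)
    (hδ : (A'.submatrix (wbot (Nat.le_add_right n m)).1 id).det ≠ 0)
    (f : PlRing K n (n + m)) (hf : beta K m n t f = 0) : evalMinors K n (n + m) A' f = 0 := by
  set z₀ := zOf K m n (normA K m n A') with hz₀
  set δ := (A'.submatrix (wbot (Nat.le_add_right n m)).1 id).det with hδdef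
  let φ₀ : DetRing K m n t →+* K := Ideal.Quotient.lift (It K m n t) (MvPolynomial.eval z₀)
    (fun Φ hΦ => eval_minorIdeal_eq_zero K m n t ht htm htn A' hA hδ Φ hΦ)
  let ev : Polynomial (DetRing K m n t) →+* K := Polynomial.eval₂RingHom φ₀ δ
  have key : (evalMinors K n (n + m) A').toRingHom = ev.comp (beta K m n t).toRingHom := by
    apply MvPolynomial.ringHom_ext
    · intro c
      show evalMinors K n (n + m) A' (C c) = ev (beta K m n t (C c))
      rw [show (C c : PlRing K n (n + m)) = algebraMap K _ c from rfl, AlgHom.commutes,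
        AlgHom.commutes]
      show c = Polynomial.eval₂ φ₀ δ (Polynomial.C (algebraMap K (DetRing K m n t) c))
      rw [Polynomial.eval₂_C]
      show c = MvPolynomial.eval z₀ (C c)
      rw [eval_C]
    · intro θ
      show evalMinors K n (n + m) A' (X θ) = ev (beta K m n t (X θ))
      rw [beta_X K m n t hn]
      show _ = Polynomial.eval₂ φ₀ δ _
      rw [Polynomial.eval₂_mul, Polynomial.eval₂_X, Polynomial.eval₂_C]
      show _ = δ * MvPolynomial.eval z₀ (Psi K m n (X θ))
      rw [← evalMinors_eq_eval_Psi K m n _ (normA_top K m n A' hδ)]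
      unfold evalMinors
      rw [aeval_X, aeval_X]
      exact det_submatrix_eq K m n A' hδ θ.1
  have h1 := congrArg (fun g => g f) key
  simp only [RingHom.comp_apply] at h1
  have h2 : (beta K m n t).toRingHom f = 0 := hf
  rw [h2, map_zero] at h1
  exact h1

include ht hn hm in
/-- The kernel of `beta` is contained in the Schubert ideal. -/
theorem mem_of_beta_eq_zero (f : PlRing K n (n + m)) (h : beta K m n t f = 0) :
    f ∈ schubertVanishing K n (n + m) (Bitab.wt t htm htn) := by
  have hdom := isDomain_schB K hn (Bitab.wt t htm htn)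
  have hnm : n < n + m := by omega
  have hmul : f * X (wbot (Nat.le_add_right n m)) ∈
      schubertVanishing K n (n + m) (Bitab.wt t htm htn) := by
    unfold schubertVanishing
    rw [Ideal.mem_iInf]
    intro A'
    rw [Ideal.mem_iInf]
    intro hA
    show evalMinors K n (n + m) A' (f * X (wbot (Nat.le_add_right n m))) = 0
    rw [map_mul]
    by_cases hδ : (A'.submatrix (wbot (Nat.le_add_right n m)).1 id).det = 0
    · have : evalMinors K n (n + m) A' (X (wbot (Nat.le_add_right n m))) = 0 := by
        unfold evalMinors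
        rw [aeval_X]
        exact hδ
      rw [this, mul_zero]
    · rw [evalMinors_eq_zero_of_beta K m n t ht htm htn hn A' hA hδ f h, zero_mul]
  have h1 : Ideal.Quotient.mk (schubertVanishing K n (n + m) (Bitab.wt t htm htn)) f *
      Ideal.Quotient.mk (schubertVanishing K n (n + m) (Bitab.wt t htm htn))
        (X (wbot (Nat.le_add_right n m))) = 0 := by
    rw [← map_mul]
    exact Ideal.Quotient.eq_zero_iff_mem.2 hmul
  rcases mul_eq_zero.1 h1 with h2 | h2
  · exact Ideal.Quotient.eq_zero_iff_mem.1 h2
  · exact absurd h2 (prime_mk_X_wbot K hn hnm (Bitab.wt t htm htn)).ne_zero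

include hn in
lemma exists_beta_eq_C (g : MvPolynomial (Fin m × Fin n) K) :
    ∃ (k : ℕ) (r : PlRing K n (n + m)), beta K m n t r =
      Polynomial.X ^ k * Polynomial.C (Ideal.Quotient.mk (It K m n t) g) := by
  induction g using MvPolynomial.induction_on with
  | C c =>
    refine ⟨0, C c, ?_⟩
    rw [pow_zero, one_mul]
    exact (beta K m n t).commutes c
  | add p q ihp ihq =>
    obtain ⟨k₁, r₁, h₁⟩ := ihp
    obtain ⟨k₂, r₂, h₂⟩ := ihq
    refine ⟨k₁ + k₂, X (wbot (Nat.le_add_right n m)) ^ k₂ * r₁ +
      X (wbot (Nat.le_add_right n m)) ^ k₁ * r₂, ?_⟩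
    rw [map_add, map_mul, map_mul, map_pow, map_pow, beta_X_wbot K m n t hn, h₁, h₂, map_add,
      map_add]
    ring
  | mul_X p ij ih =>
    obtain ⟨k, r, h⟩ := ih
    obtain ⟨i, j⟩ := ij
    refine ⟨k + 1, r * coord K n (n + m) (rowsOf (M1 m n i j)), ?_⟩
    rw [map_mul, beta_coord K m n t hn, Psi_coord_rowsOf, minorOf_M1, h, map_mul, map_mul]
    ring

include hn in
/-- Up to a power of `T`, every element of `(K[Z]/I_t)[T]` is in the image of `beta`. -/
theorem exists_beta_eq (p : Polynomial (DetRing K m n t)) :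
    ∃ (k : ℕ) (r : PlRing K n (n + m)), beta K m n t r = Polynomial.X ^ k * p := by
  induction p using Polynomial.induction_on with
  | C a =>
    obtain ⟨g, rfl⟩ := Ideal.Quotient.mk_surjective a
    exact exists_beta_eq_C K m n t hn g
  | add p q ihp ihq =>
    obtain ⟨k₁, r₁, h₁⟩ := ihp
    obtain ⟨k₂, r₂, h₂⟩ := ihq
    refine ⟨k₁ + k₂, X (wbot (Nat.le_add_right n m)) ^ k₂ * r₁ +
      X (wbot (Nat.le_add_right n m)) ^ k₁ * r₂, ?_⟩
    rw [map_add, map_mul, map_mul, map_pow, map_pow, beta_X_wbot K m n t hn, h₁, h₂]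
    ring
  | monomial k a ih =>
    obtain ⟨j, r, h⟩ := ih
    refine ⟨j, r * X (wbot (Nat.le_add_right n m)), ?_⟩
    rw [map_mul, beta_X_wbot K m n t hn, h]
    ring

end Inf

section Loc
variable [IsAlgClosed K] (hn : 0 < n) (hm : 0 < m)

/-- The induced map on the cone over `X(w_t)`. -/
def betaBar : SchB K (Bitab.wt t htm htn) →ₐ[K] Polynomial (DetRing K m n t) :=
  Ideal.Quotient.liftₐ (schubertVanishing K n (n + m) (Bitab.wt t htm htn)) (beta K m n t)
    (fun f hf => beta_eq_zero_of_mem K m n t ht htm htn hn hm f hf)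

lemma betaBar_mk (f : PlRing K n (n + m)) :
    betaBar K m n t ht htm htn hn hm
      (Ideal.Quotient.mk (schubertVanishing K n (n + m) (Bitab.wt t htm htn)) f) =
      beta K m n t f := rfl

lemma betaBar_injective : Function.Injective (betaBar K m n t ht htm htn hn hm) := by
  rw [injective_iff_map_eq_zero]
  intro y hy
  obtain ⟨f, rfl⟩ := Ideal.Quotient.mk_surjective y
  rw [betaBar_mk] at hy
  exact Ideal.Quotient.eq_zero_iff_mem.2 (mem_of_beta_eq_zero K m n t ht htm htn hn hm f hy)

lemma betaBar_X_wbot :
    betaBar K m n t ht htm htn hn hm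
      (Ideal.Quotient.mk (schubertVanishing K n (n + m) (Bitab.wt t htm htn))
        (X (wbot (Nat.le_add_right n m)))) = Polynomial.X := by
  rw [betaBar_mk, beta_X_wbot K m n t hn]

/-- The ring map `S/J(w_t) → (K[Z]/I_t)[T][1/T]`. -/
def cellMapT : SchB K (Bitab.wt t htm htn) →+*
    Localization.Away (Polynomial.X : Polynomial (DetRing K m n t)) :=
  (algebraMap (Polynomial (DetRing K m n t))
    (Localization.Away (Polynomial.X : Polynomial (DetRing K m n t)))).comp
    (betaBar K m n t ht htm htn hn hm).toRingHom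

lemma algebraMap_polynomial_injective :
    Function.Injective (algebraMap (Polynomial (DetRing K m n t))
      (Localization.Away (Polynomial.X : Polynomial (DetRing K m n t)))) :=
  IsLocalization.injective (M := Submonoid.powers (Polynomial.X : Polynomial (DetRing K m n t))) _
    ((Submonoid.powers_le (P := nonZeroDivisors _)).2 Polynomial.X_mem_nonzeroDivisors)

/-- `(K[Z]/I_t)[T][1/T]` is the localization of `S/J(w_t)` at the class of the least Plücker coordinate. -/
theorem isLocalization_cellT :
    @IsLocalization.Away _ _ (Ideal.Quotient.mk (schubertVanishing K n (n + m) (Bitab.wt t htm htn))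
        (X (wbot (Nat.le_add_right n m))))
      (Localization.Away (Polynomial.X : Polynomial (DetRing K m n t))) _
      (cellMapT K m n t ht htm htn hn hm).toAlgebra := by
  let _ := (cellMapT K m n t ht htm htn hn hm).toAlgebra
  have halg : ∀ q, algebraMap (SchB K (Bitab.wt t htm htn))
      (Localization.Away (Polynomial.X : Polynomial (DetRing K m n t))) q =
      algebraMap (Polynomial (DetRing K m n t))
        (Localization.Away (Polynomial.X : Polynomial (DetRing K m n t)))
        (betaBar K m n t ht htm htn hn hm q) := fun q => rfl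
  refine ⟨?_, ?_, ?_⟩
  · rintro ⟨_, k, rfl⟩
    rw [halg, map_pow, betaBar_X_wbot K m n t ht htm htn hn hm, map_pow]
    exact (IsLocalization.Away.algebraMap_isUnit
      (S := Localization.Away (Polynomial.X : Polynomial (DetRing K m n t)))
      (Polynomial.X : Polynomial (DetRing K m n t))).pow k
  · intro z
    obtain ⟨⟨p, ⟨_, k, rfl⟩⟩, rfl⟩ := IsLocalization.mk'_surjective
      (Submonoid.powers (Polynomial.X : Polynomial (DetRing K m n t))) z
    obtain ⟨j, r, hr⟩ := exists_beta_eq K m n t hn p
    refine ⟨(Ideal.Quotient.mk _ r,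
      ⟨Ideal.Quotient.mk _ (X (wbot (Nat.le_add_right n m))) ^ (k + j), k + j, rfl⟩), ?_⟩
    show IsLocalization.mk' (Localization.Away (Polynomial.X : Polynomial (DetRing K m n t))) p
        (⟨Polynomial.X ^ k, k, rfl⟩ :
          Submonoid.powers (Polynomial.X : Polynomial (DetRing K m n t))) *
      algebraMap (SchB K (Bitab.wt t htm htn))
        (Localization.Away (Polynomial.X : Polynomial (DetRing K m n t)))
        (Ideal.Quotient.mk _ (X (wbot (Nat.le_add_right n m))) ^ (k + j)) =
      algebraMap (SchB K (Bitab.wt t htm htn))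
        (Localization.Away (Polynomial.X : Polynomial (DetRing K m n t))) (Ideal.Quotient.mk _ r)
    have hspec := IsLocalization.mk'_spec
      (Localization.Away (Polynomial.X : Polynomial (DetRing K m n t))) p
      (⟨Polynomial.X ^ k, k, rfl⟩ :
        Submonoid.powers (Polynomial.X : Polynomial (DetRing K m n t)))
    rw [halg, halg, map_pow, betaBar_X_wbot K m n t ht htm htn hn hm, betaBar_mk, hr, pow_add,
      map_mul, map_mul, ← mul_assoc]
    rw [show (algebraMap (Polynomial (DetRing K m n t))
        (Localization.Away (Polynomial.X : Polynomial (DetRing K m n t)))) (Polynomial.X ^ k) =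
      (algebraMap (Polynomial (DetRing K m n t))
        (Localization.Away (Polynomial.X : Polynomial (DetRing K m n t))))
        ((⟨Polynomial.X ^ k, k, rfl⟩ :
          Submonoid.powers (Polynomial.X : Polynomial (DetRing K m n t))) :
          Polynomial (DetRing K m n t)) from rfl, hspec, mul_comm]
  · intro a b hab
    refine ⟨1, ?_⟩
    rw [halg, halg] at hab
    rw [betaBar_injective K m n t ht htm htn hn hm
      (algebraMap_polynomial_injective K m n t hab)]

end Loc

end Groth.Agent.Lib.DetCell
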