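import Mathlib

/-!
# Determinants on contractible complexes (helper75, for S3139)

* `det_one_add_comp_comm` : Sylvester / Weinstein–Aronszajn for linear maps between finite free
  modules.
* `det_eq_mul_of_contraction` : the local step `det W = a · a'`.
-/

set_option autoImplicit false
set_option linter.unusedSimpArgs false

namespace Groth.Agent.Lib.DetCone75

universe u v

section ringfact
variable {R : Type*} [Ring R]

theorem ring_fact (p q W : R) (hpq : p + q = 1) (hp : p * p = p) (hqWp : q * W * p = 0) :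
    W = (p + q * W * q) * (1 + p * W * q) * (p * W * p + q) ∧
      p * q = 0 ∧ q * p = 0 ∧ q * q = q := by
  have hq' : q = 1 - p := by rw [← hpq]; abel
  have hpq0 : p * q = 0 := by rw [hq', mul_sub, mul_one, hp, sub_self]
  have hqp0 : q * p = 0 := by rw [hq', sub_mul, one_mul, hp, sub_self]
  have hqq : q * q = q := by
    rw [hq', sub_mul, one_mul, mul_sub, mul_one, hp]; abel
  refine ⟨?_, hpq0, hqp0, hqq⟩
  have r1 : ∀ x, p * (p * x) = p * x := fun x => by rw [← mul_assoc, hp]
  have r2 : ∀ x, q * (q * x) = q * x := fun x => by rw [← mul_assoc, hqq]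
  have r3 : ∀ x, p * (q * x) = 0 := fun x => by rw [← mul_assoc, hpq0, zero_mul]
  have r4 : ∀ x, q * (p * x) = 0 := fun x => by rw [← mul_assoc, hqp0, zero_mul]
  have r5 : q * (W * p) = 0 := by rw [← mul_assoc, hqWp]
  have r6 : ∀ x, q * (W * (p * x)) = 0 := fun x => by
    rw [← mul_assoc, ← mul_assoc, hqWp, zero_mul]
  have hW : W = p * (W * p) + p * (W * q) + q * (W * q) := by
    have : W = (p + q) * W * (p + q) := by rw [hpq, one_mul, mul_one]
    conv_lhs => rw [this]
    simp only [add_mul, mul_add, mul_assoc, r5]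
    abel
  simp only [add_mul, mul_add, mul_assoc, one_mul, mul_one, r1, r2, r3, r4, r5, r6, hp, hqq, hpq0,
    hqp0, mul_zero, zero_mul, add_zero, zero_add]
  conv_lhs => rw [hW]
  abel

end ringfact

section sylvester

variable {B : Type u} [CommRing B]
variable {M : Type v} [AddCommGroup M] [Module B M] [Module.Free B M] [Module.Finite B M]
variable {M' : Type v} [AddCommGroup M'] [Module B M'] [Module.Free B M'] [Module.Finite B M']

/-- Sylvester's determinant identity for linear maps between finite free modules. -/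
theorem det_one_add_comp_comm (f : M →ₗ[B] M') (g : M' →ₗ[B] M) :
    LinearMap.det (1 + g ∘ₗ f) = LinearMap.det (1 + f ∘ₗ g) := by
  classical
  let b := Module.Free.chooseBasis B M
  let b' := Module.Free.chooseBasis B M'
  rw [← LinearMap.det_toMatrix b, ← LinearMap.det_toMatrix b']
  have h1 : LinearMap.toMatrix b b (1 + g ∘ₗ f) =
      1 + LinearMap.toMatrix b' b g * LinearMap.toMatrix b b' f := by
    rw [map_add, LinearMap.toMatrix_comp b b' b, LinearMap.toMatrix_one]
  have h2 : LinearMap.toMatrix b' b' (1 + f ∘ₗ g) =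
      1 + LinearMap.toMatrix b b' f * LinearMap.toMatrix b' b g := by
    rw [map_add, LinearMap.toMatrix_comp b' b b', LinearMap.toMatrix_one]
  rw [h1, h2, Matrix.det_one_add_mul_comm]

/-- an endomorphism `m` with `m = m * e` and `e * m = 0` has `det (1 + m) = 1`. -/
theorem det_one_add_eq_one {m e : Module.End B M} (h1 : m * e = m) (h2 : e * m = 0) :
    LinearMap.det (1 + m) = 1 := by
  have := det_one_add_comp_comm (B := B) (M := M) (M' := M) e m
  rw [← Module.End.mul_eq_comp, ← Module.End.mul_eq_comp, h1, h2, add_zero, map_one] at this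
  exact this

end sylvester

section local_step

variable {B : Type u} [CommRing B]
variable {M : Type v} [AddCommGroup M] [Module B M] [Module.Free B M] [Module.Finite B M]
variable {M' : Type v} [AddCommGroup M'] [Module B M'] [Module.Free B M'] [Module.Finite B M']

/-- The local step (auxiliary form): on `M` with complementary idempotents `p + q = 1`,
`q = S ∘ D`, `W` preserving the image of `p`, one has
`det W = det (1 + (W-1) p) * det (1 + (W'-1) p')` where `p' = D ∘ S` on `M'`. -/
theorem det_eq_mul_of_contraction_aux (p q W : Module.End B M) (W' : Module.End B M')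
    (D : M →ₗ[B] M') (S : M' →ₗ[B] M)
    (hpq : p + q = 1) (hp : p * p = p) (hq : q = S ∘ₗ D) (hqWp : q * W * p = 0)
    (hDp : D ∘ₗ p = 0) (hWD : W' ∘ₗ D = D ∘ₗ W) :
    LinearMap.det W =
      LinearMap.det (1 + (W - 1) * p) * LinearMap.det (1 + (W' - 1) * (D ∘ₗ S)) := by
  obtain ⟨hfac, hpq0, hqp0, hqq⟩ := ring_fact p q W hpq hp hqWp
  have hq' : q = 1 - p := by rw [← hpq]; abel
  have hmid : LinearMap.det (1 + p * W * q) = 1 := by
    apply det_one_add_eq_one (e := q)
    · rw [mul_assoc, hqq]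
    · rw [← mul_assoc, ← mul_assoc, hqp0, zero_mul, zero_mul]
  have hX : LinearMap.det (p * W * p + q) = LinearMap.det (1 + (W - 1) * p) := by
    have e1 : p * W * p + q = 1 + p * ((W - 1) * p) := by
      rw [hq']
      simp only [sub_mul, mul_sub, one_mul, mul_one, hp, mul_assoc]
      abel
    rw [e1]
    have := det_one_add_comp_comm (B := B) (M := M) (M' := M) ((W - 1) * p) p
    rw [← Module.End.mul_eq_comp, ← Module.End.mul_eq_comp] at this
    rw [this, mul_assoc, hp]
  have hDq : D ∘ₗ q = D := by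
    rw [hq', LinearMap.comp_sub, hDp, sub_zero]
    rfl
  have hY : LinearMap.det (p + q * W * q) = LinearMap.det (1 + (W' - 1) * (D ∘ₗ S)) := by
    have e1 : p + q * W * q = 1 + S ∘ₗ (D ∘ₗ ((W - 1) * q)) := by
      have h : S ∘ₗ (D ∘ₗ ((W - 1) * q)) = q * ((W - 1) * q) := by
        rw [hq]; rfl
      rw [h]
      have hp' : p = 1 - q := by rw [← hpq]; abel
      rw [hp']
      simp only [sub_mul, mul_sub, one_mul, mul_one, hqq, mul_assoc]
      abel
    rw [e1, det_one_add_comp_comm]
    -- `(D ∘ (W-1) q) ∘ S = (W'-1) ∘ D ∘ S`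
    have e2 : D ∘ₗ ((W - 1) * q) = (W' - 1) ∘ₗ D := by
      have h : D ∘ₗ ((W - 1) * q) = (D ∘ₗ (W - 1)) ∘ₗ q := rfl
      rw [h, LinearMap.comp_sub, ← hWD]
      have h1 : D ∘ₗ (1 : Module.End B M) = D := rfl
      rw [h1, LinearMap.sub_comp, LinearMap.comp_assoc, hDq]
      rw [LinearMap.sub_comp]
      rfl
    rw [e2]
    rfl
  have := congrArg LinearMap.det hfac
  rw [map_mul, map_mul, hmid, mul_one, hY, hX, mul_comm] at this
  exact this

/-- The local step: `p + S ∘ D = 1`, `D ∘ p = 0`, `W' ∘ D = D ∘ W` imply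
`det W = det (1 + (W-1) p) * det (1 + (W'-1) (D ∘ S))`. -/
theorem det_eq_mul_of_contraction (p W : Module.End B M) (W' : Module.End B M')
    (D : M →ₗ[B] M') (S : M' →ₗ[B] M)
    (hpq : p + S ∘ₗ D = 1) (hDp : D ∘ₗ p = 0) (hWD : W' ∘ₗ D = D ∘ₗ W) :
    LinearMap.det W =
      LinearMap.det (1 + (W - 1) * p) * LinearMap.det (1 + (W' - 1) * (D ∘ₗ S)) := by
  have hqp : (S ∘ₗ D : Module.End B M) * p = 0 := by
    change (S ∘ₗ D) ∘ₗ p = 0
    rw [LinearMap.comp_assoc, hDp, LinearMap.comp_zero]
  have hp : p * p = p := by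
    have h : (p + S ∘ₗ D) * p = p := by rw [hpq, one_mul]
    rw [add_mul, hqp, add_zero] at h
    exact h
  have hqWp : (S ∘ₗ D : Module.End B M) * W * p = 0 := by
    ext x
    have h1 : D (p x) = 0 := LinearMap.congr_fun hDp x
    have h2 : ∀ y, D (W y) = W' (D y) := fun y => (LinearMap.congr_fun hWD y).symm
    simp [Module.End.mul_apply, h2, h1]
  exact det_eq_mul_of_contraction_aux p (S ∘ₗ D) W W' D S hpq hp rfl hqWp hDp hWD

variable {M'' : Type v} [AddCommGroup M''] [Module B M''] [Module.Free B M'']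
  [Module.Finite B M'']

/-- Block-triangular determinants: for a split short exact sequence `M'' → M → M'` of finite free
modules and compatible endomorphisms, `det W = det W' * det W''`. -/
theorem det_eq_mul_of_split (ι : M'' →ₗ[B] M) (r : M →ₗ[B] M'') (π : M →ₗ[B] M')
    (s : M' →ₗ[B] M) (hrι : r ∘ₗ ι = LinearMap.id) (hπs : π ∘ₗ s = LinearMap.id)
    (hπι : π ∘ₗ ι = 0) (hsum : ι ∘ₗ r + s ∘ₗ π = LinearMap.id)
    (W : Module.End B M) (W' : Module.End B M') (W'' : Module.End B M'')
    (h1 : π ∘ₗ W = W' ∘ₗ π) (h2 : W ∘ₗ ι = ι ∘ₗ W'') :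
    LinearMap.det W = LinearMap.det W' * LinearMap.det W'' := by
  have hDp : π ∘ₗ (ι ∘ₗ r : Module.End B M) = 0 := by
    rw [← LinearMap.comp_assoc, hπι, LinearMap.zero_comp]
  have key := det_eq_mul_of_contraction (ι ∘ₗ r : Module.End B M) W W' π s hsum hDp h1.symm
  rw [key, hπs]
  have e1 : (1 : Module.End B M') + (W' - 1) * LinearMap.id = W' := by
    change (1 : Module.End B M') + (W' - 1) * 1 = W'
    rw [mul_one]; abel
  rw [e1, mul_comm]
  congr 1
  have e2 : (1 : Module.End B M) + (W - 1) * (ι ∘ₗ r : Module.End B M) =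
      1 + ((W - 1) ∘ₗ ι) ∘ₗ r := rfl
  rw [e2, det_one_add_comp_comm]
  congr 1
  have e3 : r ∘ₗ ((W - 1) ∘ₗ ι) = W'' - 1 := by
    ext x
    have h3 : ∀ y, r (ι y) = y := fun y => LinearMap.congr_fun hrι y
    have h4 : ∀ y, W (ι y) = ι (W'' y) := fun y => LinearMap.congr_fun h2 y
    simp [h3, h4]
  rw [e3]
  abel

end local_step


section finprod

variable {R : Type*} [CommMonoid R]

theorem finprod_even_succ (a : ℤ → R) :
    ∏ᶠ i : {i : ℤ // Even i}, a (i.1 + 1) = ∏ᶠ j : {j : ℤ // Odd j}, a j.1 := by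
  refine finprod_eq_of_bijective (fun i : {i : ℤ // Even i} => (⟨i.1 + 1, i.2.add_one⟩ :
    {j : ℤ // Odd j})) ⟨?_, ?_⟩ (fun _ => rfl)
  · intro x y h
    have := congrArg Subtype.val h
    simp only [add_left_inj] at this
    exact Subtype.ext this
  · intro j
    exact ⟨⟨j.1 - 1, j.2.sub_odd odd_one⟩, Subtype.ext (by simp)⟩

theorem finprod_odd_succ (a : ℤ → R) :
    ∏ᶠ i : {i : ℤ // Odd i}, a (i.1 + 1) = ∏ᶠ j : {j : ℤ // Even j}, a j.1 := by
  refine finprod_eq_of_bijective (fun i : {i : ℤ // Odd i} => (⟨i.1 + 1, i.2.add_one⟩ :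
    {j : ℤ // Even j})) ⟨?_, ?_⟩ (fun _ => rfl)
  · intro x y h
    have := congrArg Subtype.val h
    simp only [add_left_inj] at this
    exact Subtype.ext this
  · intro j
    exact ⟨⟨j.1 - 1, j.2.sub_odd odd_one⟩, Subtype.ext (by simp)⟩

theorem finite_mulSupport_subtype (a : ℤ → R) (P : ℤ → Prop)
    (ha : (Function.mulSupport a).Finite) :
    (Function.mulSupport fun i : {i : ℤ // P i} => a i.1).Finite :=
  Set.Finite.preimage (Subtype.val_injective.injOn) ha

theorem finite_mulSupport_subtype_succ (a : ℤ → R) (P : ℤ → Prop)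
    (ha : (Function.mulSupport a).Finite) :
    (Function.mulSupport fun i : {i : ℤ // P i} => a (i.1 + 1)).Finite := by
  refine Set.Finite.preimage (f := fun i : {i : ℤ // P i} => i.1 + 1) ?_ ha
  intro x _ y _ h
  simp only [add_left_inj] at h
  exact Subtype.ext h

theorem finprod_even_mul (g b c : ℤ → R) (hg : ∀ i, g i = b (i + 1) * c i)
    (hb : (Function.mulSupport b).Finite) (hc : (Function.mulSupport c).Finite) :
    ∏ᶠ i : {i : ℤ // Even i}, g i.1 =
      (∏ᶠ i : {i : ℤ // Odd i}, b i.1) * ∏ᶠ i : {i : ℤ // Even i}, c i.1 := by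
  simp only [hg]
  rw [finprod_mul_distrib (finite_mulSupport_subtype_succ b _ hb)
    (finite_mulSupport_subtype c _ hc), finprod_even_succ]

theorem finprod_odd_mul (g b c : ℤ → R) (hg : ∀ i, g i = b (i + 1) * c i)
    (hb : (Function.mulSupport b).Finite) (hc : (Function.mulSupport c).Finite) :
    ∏ᶠ i : {i : ℤ // Odd i}, g i.1 =
      (∏ᶠ i : {i : ℤ // Even i}, b i.1) * ∏ᶠ i : {i : ℤ // Odd i}, c i.1 := by
  simp only [hg]
  rw [finprod_mul_distrib (finite_mulSupport_subtype_succ b _ hb)
    (finite_mulSupport_subtype c _ hc), finprod_odd_succ]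

theorem finprod_even_eq_finprod_odd (g a : ℤ → R) (hg : ∀ i, g i = a i * a (i + 1))
    (ha : (Function.mulSupport a).Finite) :
    ∏ᶠ i : {i : ℤ // Even i}, g i.1 = ∏ᶠ i : {i : ℤ // Odd i}, g i.1 := by
  rw [finprod_even_mul g a a (fun i => by rw [hg, mul_comm]) ha ha,
    finprod_odd_mul g a a (fun i => by rw [hg, mul_comm]) ha ha, mul_comm]

theorem finite_mulSupport_of_bounds (a : ℤ → R) (lo hi : ℤ)
    (h1 : ∀ i, i < lo → a i = 1) (h2 : ∀ i, hi < i → a i = 1) :
    (Function.mulSupport a).Finite := by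
  refine (Set.finite_Icc lo hi).subset ?_
  intro i hi'
  rw [Function.mem_mulSupport] at hi'
  constructor
  · by_contra h
    exact hi' (h1 i (not_le.mp h))
  · by_contra h
    exact hi' (h2 i (not_le.mp h))

end finprod

end Groth.Agent.Lib.DetCone75
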