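import Groth.Agent.Lib.CurveDeg48g
import Groth.Agent.Lib.H90InvertibleFP
import Groth.Agent.Lib.H78TensorGen

/-!
# Bookkeeping of Euler characteristics under twists (helper42)
-/

set_option autoImplicit false
universe u
open CategoryTheory CategoryTheory.Limits AlgebraicGeometry Opposite TopologicalSpace
open Groth.Agent.Lib.OXModTensor Groth.Agent.Lib.CurveDeg48

namespace Groth.Agent.Lib.DetDeg42

variable (H : Groth.Agent.Lib.ProperFinHyp.Hyp.{u}) (k : Type u) [Field k] (X : Scheme.{u})
  [X.Over (Spec (CommRingCat.of k))] [IsProper (X ↘ (Spec (CommRingCat.of k)))]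

include H in
theorem euler_assoc_tensor (hdim : topologicalKrullDim X ≤ 1) {n : ℕ} {E P : X.Modules}
    (hE : FlatMod.IsFinLocFreeOfRank n E) (hP : FlatMod.IsFinLocFreeOfRank 1 P)
    (F : X.Modules) (hF : Coh.IsCoh F) :
    Curv2.euler k X (CohB1.tensorMod (CohB1.tensorMod E P) F) =
      (Curv2.euler k X (CohB1.tensorMod E F) - n * Curv2.euler k X F) +
        n * Curv2.euler k X (CohB1.tensorMod P F) := by
  have h := eulerInv_tensor H k X hdim hE hP F hF
  change Curv2.euler k X (CohB1.tensorMod E (CohB1.tensorMod P F)) -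
      n * Curv2.euler k X (CohB1.tensorMod P F) =
    ((1 : ℕ) : ℤ) * (Curv2.euler k X (CohB1.tensorMod E F) - n * Curv2.euler k X F) at h
  rw [Groth.Agent.Lib.DegTensor54.euler_congr k (associator E P F)]
  push_cast at h
  linarith

theorem isFinLocFreeOfRank_one_tensorPow {P : X.Modules} (hP : FlatMod.IsFinLocFreeOfRank 1 P) (m : ℕ) :
    FlatMod.IsFinLocFreeOfRank 1 (CohB1.tensorPow P m) :=
  (Groth.Agent.Lib.H90Invertible.isInvertible_iff_isFinLocFreeOfRank_one _).1
    (Groth.Agent.Lib.H78TensorGen.isInvertible_tensorPow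
      ((Groth.Agent.Lib.H90Invertible.isInvertible_iff_isFinLocFreeOfRank_one _).2 hP) m)

include H in
theorem euler_tensorPow (hdim : topologicalKrullDim X ≤ 1) {P : X.Modules}
    (hP : FlatMod.IsFinLocFreeOfRank 1 P) (m : ℕ) (F : X.Modules) (hF : Coh.IsCoh F) :
    Curv2.euler k X (CohB1.tensorMod (CohB1.tensorPow P m) F) - Curv2.euler k X F =
      m * (Curv2.euler k X (CohB1.tensorMod P F) - Curv2.euler k X F) := by
  induction m with
  | zero =>
    have h : Curv2.euler k X (CohB1.tensorMod (CohB1.tensorPow P 0) F) = Curv2.euler k X F :=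
      Groth.Agent.Lib.DegTensor54.euler_congr k (leftUnitor F)
    rw [h]
    simp
  | succ m ih =>
    have h := euler_assoc_tensor H k X hdim (isFinLocFreeOfRank_one_tensorPow X hP m) hP F hF
    change Curv2.euler k X (CohB1.tensorMod (CohB1.tensorPow P (m + 1)) F) = _ at h
    rw [h]
    push_cast at ih ⊢
    linarith

include H in
/-- twisting `E` by `P` and `L` by `P^{⊗ n}` does not change the difference of the degree invariants -/
theorem twist_bookkeeping (hdim : topologicalKrullDim X ≤ 1) {n : ℕ} {E L P : X.Modules}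
    (hE : FlatMod.IsFinLocFreeOfRank n E) (hL : FlatMod.IsFinLocFreeOfRank 1 L)
    (hP : FlatMod.IsFinLocFreeOfRank 1 P) (F : X.Modules) (hF : Coh.IsCoh F) :
    (Curv2.euler k X (CohB1.tensorMod (CohB1.tensorMod E P) F) - n * Curv2.euler k X F) -
      (Curv2.euler k X (CohB1.tensorMod (CohB1.tensorMod L (CohB1.tensorPow P n)) F) -
        Curv2.euler k X F) =
    (Curv2.euler k X (CohB1.tensorMod E F) - n * Curv2.euler k X F) -
      (Curv2.euler k X (CohB1.tensorMod L F) - Curv2.euler k X F) := by
  have h1 := euler_assoc_tensor H k X hdim hE hP F hF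
  have h2 := euler_assoc_tensor H k X hdim hL (isFinLocFreeOfRank_one_tensorPow X hP n) F hF
  have h3 := euler_tensorPow H k X hdim hP n F hF
  rw [h1, h2]
  push_cast at h3 ⊢
  linarith

end Groth.Agent.Lib.DetDeg42
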