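import Groth.Agent.Lib.HubCoker42
import Groth.Agent.Lib.SupportTensor
import Groth.Agent.Lib.H90CurveH1

/-!
# Local analysis of the maps `hub ⊗ O^n ⟶ hub ⊗ (E ⊗ P)` and `hub ⊗ O ⟶ hub ⊗ (L ⊗ P^n)` (helper42)
-/

set_option autoImplicit false
universe u
open CategoryTheory CategoryTheory.Limits AlgebraicGeometry Opposite TopologicalSpace
open Groth.Agent.Lib.OXModTensor Groth.Agent.Lib.StructureModule Groth.Agent.Lib.H90Invertible
open Groth.Agent.Lib.H78TensorGen Groth.Agent.Lib.H78SecCoord Groth.Agent.Lib.LocFreeBasis48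
open Groth.Agent.Lib.H90OXModSections Groth.Agent.Lib.H90DevCanon Groth.Agent.Lib.H90DevAtom
open Groth.Agent.Lib.DetSec42 Groth.Agent.Lib.ZeroDimDev42 Groth.Agent.Lib.HubCoker42
open Groth.Agent.Lib.H90DevHub Groth.Agent.Lib.H78Atlas

namespace Groth.Agent.Lib.DetDeg42

variable {X : Scheme.{u}} {n : ℕ}

/-- two generators differ by a unit -/
theorem isUnit_of_isGen_smul {M : X.Modules} {W : X.Opens} {g : Γ(M, W)} (hg : IsGen M W g)
    (a : Γ(X, W)) (hag : IsGen M W (a • g)) : IsUnit a := by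
  obtain ⟨b, hb⟩ := (hag W le_rfl).2 g
  have hb' : b • (a • g) = g := by
    have h1 : M.presheaf.map (homOfLE (le_refl W)).op (a • g) = a • g := rs_self M (a • g)
    change b • M.presheaf.map (homOfLE (le_refl W)).op (a • g) = g at hb
    rwa [h1] at hb
  have h2 : (fun c : Γ(X, W) => c • M.presheaf.map (homOfLE (le_refl W)).op g) (b * a) =
      (fun c : Γ(X, W) => c • M.presheaf.map (homOfLE (le_refl W)).op g) 1 := by
    have h1 : M.presheaf.map (homOfLE (le_refl W)).op g = g := rs_self M g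
    change (b * a) • M.presheaf.map (homOfLE (le_refl W)).op g =
      (1 : Γ(X, W)) • M.presheaf.map (homOfLE (le_refl W)).op g
    rw [h1, mul_smul, hb', one_smul]
  have h3 : b * a = 1 := (hg W le_rfl).1 h2
  exact IsUnit.of_mul_eq_one b (by rw [mul_comm]; exact h3)

/-- if a global section `t` generates `M` near the generic point of `Zc` and is `a` times a generator over `W`,
then `a` restricts to a nonzerodivisor on `Zc ∩ W` -/
theorem sig_mem_nonZeroDivisors (Zc : Closeds X) (hirr : IsIrreducible (Zc : Set X)) {ξ : X}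
    (hξ : IsGenericPoint ξ (Zc : Set X)) {M : X.Modules} (t : Γ(M, ⊤)) {V : X.Opens} (hξV : ξ ∈ V)
    (hV : IsGen M V (rs M le_top t)) {W : X.Opens} {g : Γ(M, W)} (hg : IsGen M W g) (a : Γ(X, W))
    (ha : rs M le_top t = a • g) : sig Zc W a ∈ nonZeroDivisors (DD Zc W) := by
  by_cases hξW : ξ ∈ W
  · haveI : IsIntegral (ZZ Zc) := isIntegral_subscheme Zc hirr
    have hne : ((iZ Zc) ⁻¹ᵁ W : Set (ZZ Zc)).Nonempty := preimage_nonempty hξ hξW
    haveI : Nonempty ((iZ Zc) ⁻¹ᵁ W : (ZZ Zc).Opens) := hne.to_subtype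
    have hξW' : ξ ∈ W ⊓ V := ⟨hξW, hξV⟩
    have hne' : ((iZ Zc) ⁻¹ᵁ (W ⊓ V) : Set (ZZ Zc)).Nonempty := preimage_nonempty hξ hξW'
    haveI : Nonempty ((iZ Zc) ⁻¹ᵁ (W ⊓ V) : (ZZ Zc).Opens) := hne'.to_subtype
    -- the restriction of `a` to `W ⊓ V` is a unit
    have hg' : IsGen M (W ⊓ V) (rs M inf_le_left g) := hg.mono inf_le_left
    have hV' : IsGen M (W ⊓ V) (rs M inf_le_right (rs M le_top t)) := hV.mono inf_le_right
    have h1 : rs M (inf_le_right : W ⊓ V ≤ V) (rs M le_top t) =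
        rf (inf_le_left : W ⊓ V ≤ W) a • rs M inf_le_left g := by
      rw [rs_rs, ← Groth.Agent.Lib.H78Atlas.rs_smul, ← ha, rs_rs]
    rw [h1] at hV'
    have hu : IsUnit (rf (inf_le_left : W ⊓ V ≤ W) a) := isUnit_of_isGen_smul hg' _ hV'
    -- naturality
    have hnat : sig Zc (W ⊓ V) (rf (inf_le_left : W ⊓ V ≤ W) a) =
        (ZZ Zc).presheaf.map (homOfLE ((iZ Zc).preimage_mono (inf_le_left : W ⊓ V ≤ W))).op
          (sig Zc W a) := by
      have := congr($((iZ Zc).naturality (homOfLE (inf_le_left : W ⊓ V ≤ W)).op) a)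
      exact this
    apply mem_nonZeroDivisors_of_ne_zero
    intro h0
    rw [h0, map_zero] at hnat
    have hu' : IsUnit (sig Zc (W ⊓ V) (rf (inf_le_left : W ⊓ V ≤ W) a)) := hu.map _
    rw [hnat] at hu'
    exact not_isUnit_zero hu'
  · have hsub : ∀ x : DD Zc W, x = 0 := fun x =>
      ofFun_injective (iZ Zc) W
        ((hub_eq_zero_of_notMem hξ hξW (ofFun (iZ Zc) W x)).trans (ofFun_zero (iZ Zc) W).symm)
    rw [mem_nonZeroDivisors_iff]
    exact ⟨fun x _ => hsub x, fun x _ => hsub x⟩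


/-- the value of `Psi` in the coordinates `cO` -/
lemma Psi_cO' (G : X.Modules) {F : X.Modules} (s : Fin n → (Coh.structureModule X ⟶ F)) (W : X.Opens)
    (x : Fin n → Γ(G, W)) :
    (Psi G s).app W (cO G W x) = ∑ i, tmul (x i) (rs F le_top (sec (s i))) := by
  change (Psi G s).app W (∑ i, tmul (x i) (std n W i)) = _
  rw [map_sum]
  refine Finset.sum_congr rfl (fun i _ => ?_)
  rw [Psi, Groth.Agent.Lib.CurveSerreVan54.tensorModMap_tmul, psi_std]
  rfl

/-- the cokernel of `Psi G s` vanishes where the sections `s` form a basis -/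
theorem notMem_support_cokernel_Psi (G : X.Modules) {F : X.Modules}
    (s : Fin n → (Coh.structureModule X ⟶ F))
    [(CohB1.tensorMod G (FlatMod.freeMod X n)).IsQuasicoherent]
    [(CohB1.tensorMod G F).IsQuasicoherent]
    {V : X.Opens} (hV : IsBasis F V (fun j => rs F le_top (sec (s j)))) {x : X} (hx : x ∈ V) :
    x ∉ CohB1.support (cokernel (Psi G s)) := by
  obtain ⟨W, hW, hxW, hWV⟩ := Opens.isBasis_iff_nbhd.1 X.isBasis_affineOpens hx
  haveI := Groth.Agent.Lib.H90OXModExact.isQuasicoherent_cokernel (Psi G s)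
  have hsub : Subsingleton Γ(cokernel (Psi G s), W) := by
    refine ⟨fun q q' => ?_⟩
    have key : ∀ q : Γ(cokernel (Psi G s), W), q = 0 := by
      intro q
      obtain ⟨b, rfl⟩ := Groth.Agent.Lib.H90OXModExact.surjective_app_of_epi (cokernel.π (Psi G s)) hW q
      obtain ⟨y, rfl⟩ := (cF_bijective G (hV.mono hWV)).2 b
      have h1 : cF G (fun i => rs F hWV (rs F le_top (sec (s i)))) y = (Psi G s).app W (cO G W y) := by
        rw [Psi_cO']
        change ∑ j, tmul (y j) (rs F hWV (rs F le_top (sec (s j)))) = _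
        refine Finset.sum_congr rfl (fun i _ => ?_)
        rw [rs_rs]
      rw [h1]
      change (Psi G s ≫ cokernel.π (Psi G s)).app W (cO G W y) = 0
      rw [cokernel.condition]
      rfl
    rw [key q, key q']
  intro hmem
  rw [Groth.Agent.Lib.SupportTensor.mem_support_iff_of_affine (cokernel (Psi G s)) hW ⟨x, hxW⟩,
    Module.mem_support_iff] at hmem
  haveI := hsub
  exact not_subsingleton _ (inferInstance : Subsingleton (LocalizedModule
    (IsAffineOpen.primeIdealOf hW ⟨x, hxW⟩).asIdeal.primeCompl ↑Γ(cokernel (Psi G s), W)))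


section Main

variable [IsLocallyNoetherian X] {E L P : X.Modules}
  (φ : ∀ U : X.affineOpens, (L.val.obj (op U.1)) ≃ₗ[Γ(X, U.1)] ↥(⋀[Γ(X, U.1)]^n (E.val.obj (op U.1))))
  (hφ : ∀ (U V : X.affineOpens) (h : V.1 ≤ U.1) (e : Fin n → E.val.obj (op U.1)),
      L.val.map (homOfLE h).op ((φ U).symm (exteriorPower.ιMulti _ n e)) =
        (φ V).symm (exteriorPower.ιMulti _ n (fun j => E.val.map (homOfLE h).op (e j))))
  (hP : PicF.IsInvertible P) (hE : FlatMod.IsFinLocFreeOfRank n E)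
  (ζ : Fin n → Γ(CohB1.tensorMod E P, ⊤)) (t : Γ(CohB1.tensorMod L (CohB1.tensorPow P n), ⊤))
  (ht : ∀ (W : X.Opens) (hW : IsAffineOpen W) (ε : Γ(P, W)) (_ : IsGen P W ε) (σ : Fin n → Γ(E, W)),
        (∀ i, tmul (σ i) ε = rs _ le_top (ζ i)) →
          rs _ le_top t = tmul (lam φ hW σ) (epow ε n))
  (Zc : Closeds X) (hirr : IsIrreducible (Zc : Set X)) {ξ : X} (hξ : IsGenericPoint ξ (Zc : Set X))
  {V : X.Opens} (hVaff : IsAffineOpen V) (hξV : ξ ∈ V) {ε : Γ(P, V)} (hε : IsGen P V ε)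
  {σ : Fin n → Γ(E, V)} (hσ : IsBasis E V σ) (hζ : ∀ i, tmul (σ i) ε = rs _ le_top (ζ i))

omit [IsLocallyNoetherian X] in
include hε hσ hζ in
lemma isBasis_V : IsBasis (CohB1.tensorMod E P) V (fun j => rs _ le_top (sec (ofSection (ζ j)))) := by
  have h := isBasis_tmul hσ hε
  convert h using 2 with j
  rw [sec_ofSection, hζ]

omit [IsLocallyNoetherian X] in
include hφ ht hVaff hε hσ hζ in
lemma isGen_V : IsGen (CohB1.tensorMod L (CohB1.tensorPow P n)) V (rs _ le_top t) := by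
  rw [ht V hVaff ε hε σ hζ]
  exact isGen_lam_tmul φ hφ hVaff hσ hε

include hφ ht hirr hξ hVaff hξV hε hσ hζ in
theorem exists_matrix {W : X.Opens} (hW : IsAffineOpen W) {e : Fin n → Γ(E, W)} (he : IsBasis E W e)
    {ε' : Γ(P, W)} (hε' : IsGen P W ε') :
    ∃ M : Matrix (Fin n) (Fin n) Γ(X, W),
      (∀ i, rs _ le_top (sec (ofSection (ζ i))) = ∑ j, M i j • tmul (e j) ε') ∧
      (rs _ le_top (sec (ofSection t)) = M.det • tmul (lam φ hW e) (epow ε' n)) ∧
      sig Zc W M.det ∈ nonZeroDivisors (DD Zc W) := by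
  have hb := isBasis_tmul he hε'
  have h1 : ∀ i, ∃ a : Fin n → Γ(X, W), rs _ le_top (ζ i) = ∑ j, a j • tmul (e j) ε' := by
    intro i
    obtain ⟨a, ha⟩ := (hb W le_rfl).2 (rs _ le_top (ζ i))
    refine ⟨a, ?_⟩
    rw [← ha]
    refine Finset.sum_congr rfl (fun j _ => ?_)
    rw [rs_self]
  choose M hM using h1
  have hdet := detSec_coord φ ζ t ht hW he hε' (Matrix.of M) hM
  refine ⟨Matrix.of M, fun i => ?_, ?_, ?_⟩
  · rw [sec_ofSection]
    exact hM i
  · rw [sec_ofSection]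
    exact hdet
  · exact sig_mem_nonZeroDivisors Zc hirr hξ t hξV
      (isGen_V φ hφ ζ t ht hVaff hε hσ hζ) (isGen_lam_tmul φ hφ hW he hε') _ hdet

include hφ hP hE ht hirr hξ hVaff hξV hε hσ hζ in
/-- **local analysis** of the two maps given by the twisted sections and their determinant -/
theorem local_analysis
    (q1 : (CohB1.tensorMod (hub Zc) (FlatMod.freeMod X n)).IsQuasicoherent)
    (q2 : (CohB1.tensorMod (hub Zc) (CohB1.tensorMod E P)).IsQuasicoherent)
    (q3 : (CohB1.tensorMod (hub Zc) (FlatMod.freeMod X 1)).IsQuasicoherent)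
    (q4 : (CohB1.tensorMod (hub Zc) (CohB1.tensorMod L (CohB1.tensorPow P n))).IsQuasicoherent) :
    Mono (Psi (hub Zc) (fun i => ofSection (ζ i))) ∧
    Mono (Psi (hub Zc) (fun _ : Fin 1 => ofSection t)) ∧
    (∀ W : X.Opens, IsAffineOpen W → (∃ e : Fin n → Γ(E, W), IsBasis E W e) →
      (∃ ε' : Γ(P, W), IsGen P W ε') →
        slen W (cokernel (Psi (hub Zc) (fun i => ofSection (ζ i)))) =
          slen W (cokernel (Psi (hub Zc) (fun _ : Fin 1 => ofSection t)))) ∧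
    (∀ x ∈ V, x ∉ CohB1.support (cokernel (Psi (hub Zc) (fun i => ofSection (ζ i)))) ∧
      x ∉ CohB1.support (cokernel (Psi (hub Zc) (fun _ : Fin 1 => ofSection t)))) := by
  -- the one-by-one matrix data for `L ⊗ P^n`
  have hL1 : ∀ {W : X.Opens} {g : Γ(CohB1.tensorMod L (CohB1.tensorPow P n), W)} (a : Γ(X, W)),
      rs _ le_top (sec (ofSection t)) = a • g →
      ∀ i : Fin 1, rs _ le_top (sec ((fun _ : Fin 1 => ofSection t) i)) =
        ∑ j : Fin 1, (Matrix.of (fun _ _ : Fin 1 => a)) i j • (fun _ : Fin 1 => g) j := by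
    intro W g a h i
    rw [Fin.sum_univ_one]
    exact h
  have hdet1 : ∀ {W : X.Opens} (a : Γ(X, W)), (Matrix.of (fun _ _ : Fin 1 => a)).det = a := by
    intro W a
    rw [Matrix.det_fin_one]
    rfl
  -- the basis of opens
  let B : Set X.Opens := {W | IsAffineOpen W ∧ (∃ e : Fin n → Γ(E, W), IsBasis E W e) ∧
    ∃ ε' : Γ(P, W), IsGen P W ε'}
  have hB : Opens.IsBasis B := by
    rw [Opens.isBasis_iff_nbhd]
    intro U x hxU
    obtain ⟨V₁, e, hxV₁, he⟩ := exists_isBasis_of_isFinLocFreeOfRank hE x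
    obtain ⟨V₂, hxV₂, ε', hε'⟩ := (isInvertible_iff_exists_isGen P).1 hP x
    obtain ⟨W, hW, hxW, hWle⟩ := Opens.isBasis_iff_nbhd.1 X.isBasis_affineOpens
      (show x ∈ U ⊓ V₁ ⊓ V₂ from ⟨⟨hxU, hxV₁⟩, hxV₂⟩)
    refine ⟨W, ⟨hW, ⟨_, he.mono (hWle.trans (inf_le_left.trans inf_le_right))⟩,
      ⟨_, hε'.mono (hWle.trans inf_le_right)⟩⟩, hxW, hWle.trans (inf_le_left.trans inf_le_left)⟩
  haveI := q1
  haveI := q2
  haveI := q3
  haveI := q4
  refine ⟨?_, ?_, ?_, ?_⟩
  · refine mono_of_basis _ B hB ?_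
    rintro W ⟨hW, ⟨e, he⟩, ⟨ε', hε'⟩⟩
    obtain ⟨M, hM, -, hdet⟩ := exists_matrix φ hφ ζ t ht Zc hirr hξ hVaff hξV hε hσ hζ hW he hε'
    exact Psi_app_injective Zc _ (isBasis_tmul he hε') M hM hdet
  · refine mono_of_basis _ B hB ?_
    rintro W ⟨hW, ⟨e, he⟩, ⟨ε', hε'⟩⟩
    obtain ⟨M, -, hM', hdet⟩ := exists_matrix φ hφ ζ t ht Zc hirr hξ hVaff hξV hε hσ hζ hW he hε'
    refine Psi_app_injective Zc _ (isBasis_of_isGen (isGen_lam_tmul φ hφ hW he hε'))
      (Matrix.of (fun _ _ : Fin 1 => M.det)) (hL1 M.det hM') ?_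
    rw [hdet1]
    exact hdet
  · rintro W hW ⟨e, he⟩ ⟨ε', hε'⟩
    obtain ⟨M, hM, hM', hdet⟩ := exists_matrix φ hφ ζ t ht Zc hirr hξ hVaff hξV hε hσ hζ hW he hε'
    rw [slen_cokernel Zc _ hW (isBasis_tmul he hε') M hM hdet,
      slen_cokernel Zc _ hW (isBasis_of_isGen (isGen_lam_tmul φ hφ hW he hε'))
        (Matrix.of (fun _ _ : Fin 1 => M.det)) (hL1 M.det hM') (by rw [hdet1]; exact hdet), hdet1]
  · intro x hx
    refine ⟨notMem_support_cokernel_Psi (hub Zc) _ (isBasis_V ζ hε hσ hζ) hx, ?_⟩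
    refine notMem_support_cokernel_Psi (hub Zc) (fun _ : Fin 1 => ofSection t) ?_ hx
    have h := isBasis_of_isGen (isGen_V φ hφ ζ t ht hVaff hε hσ hζ)
    convert h using 2 with j
    rw [sec_ofSection]

end Main

end Groth.Agent.Lib.DetDeg42
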