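import Groth.Agent.Lib.LocFreeBasis48
import Groth.Agent.Lib.H78SecCoord
import Groth.Prelude.Def_ExtPow2
import Mathlib.LinearAlgebra.ExteriorPower.Basis

/-!
# The top exterior power of a finite locally free module of rank `n` is invertible (helper21)

`ExtPow.IsExtPow n E L` with `E` finite locally free of rank `n` implies `PicF.IsInvertible L`
(`isInvertible_of_isExtPow`).  Also `isGen_of_forall_exists`: a local section which is a free generator on
arbitrarily small opens around each point is a free generator.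
-/

set_option autoImplicit false
set_option linter.style.haveILetI false
universe u

open CategoryTheory CategoryTheory.Limits AlgebraicGeometry Opposite TopologicalSpace
open Groth.Agent.Lib.H90Invertible Groth.Agent.Lib.StructureModule Groth.Agent.Lib.H78TensorGen
open Groth.Agent.Lib.H78SecCoord Groth.Agent.Lib.LocFreeBasis48

namespace Groth.Agent.Lib.ExtPowInv21

variable {X : Scheme.{u}}

/-- being a free generator can be checked on small opens -/
theorem isGen_of_forall_exists {L : X.Modules} {V : X.Opens} (σ : Γ(L, V))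
    (h : ∀ (W : X.Opens) (hW : W ≤ V) (x : X), x ∈ W → ∃ (W' : X.Opens) (hW' : W' ≤ W), x ∈ W' ∧
      Function.Bijective (fun a : Γ(X, W') => a • rs L (hW'.trans hW) σ)) : IsGen L V σ := by
  intro W hW
  have hinj : ∀ {W : X.Opens} (hW : W ≤ V), Function.Injective (fun a : Γ(X, W) => a • rs L hW σ) := by
    intro W hW a a' haa'
    refine sec_ext (Coh.structureModule X) (toSec W a) (toSec W a') (fun x hx => ?_)
    obtain ⟨W', hW', hxW', hb⟩ := h W hW x hx
    refine ⟨W', hW', hxW', ?_⟩
    have h1 := congrArg (rs L hW') haa'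
    simp only [rs] at h1
    rw [L.map_smul, L.map_smul] at h1
    have h2 : L.presheaf.map (homOfLE hW').op (rs L hW σ) = rs L (hW'.trans hW) σ :=
      rs_rs L hW hW' σ
    rw [h2] at h1
    exact hb.1 h1
  refine ⟨hinj hW, fun t => ?_⟩
  choose W' hW' hxW' hb using fun x : W => h W hW x.1 x.2
  choose a ha using fun x : W => (hb x).2 (rs L (hW' x) t)
  obtain ⟨b, hbb⟩ : ∃ b : Γ(X, W), ∀ x : W,
      X.presheaf.map (homOfLE (hW' x)).op b = a x := by
    obtain ⟨b, hb'⟩ := sec_glue (Coh.structureModule X) (fun x : W => W' x) (fun x => hW' x)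
      (fun x hx => Opens.mem_iSup.2 ⟨⟨x, hx⟩, hxW' ⟨x, hx⟩⟩) (fun x => toSec _ (a x)) (by
        intro x y
        have hle : W' x ⊓ W' y ≤ V := inf_le_left.trans ((hW' x).trans hW)
        apply hinj hle
        have k1 := L.map_smul (homOfLE (inf_le_left : W' x ⊓ W' y ≤ W' x)) (a x)
          (rs L ((hW' x).trans hW) σ)
        have k2 := L.map_smul (homOfLE (inf_le_right : W' x ⊓ W' y ≤ W' y)) (a y)
          (rs L ((hW' y).trans hW) σ)
        have hax : a x • rs L ((hW' x).trans hW) σ = rs L (hW' x) t := ha x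
        have hay : a y • rs L ((hW' y).trans hW) σ = rs L (hW' y) t := ha y
        rw [hax] at k1
        rw [hay] at k2
        have k3 : rs L (inf_le_left : W' x ⊓ W' y ≤ W' x) (rs L (hW' x) t) =
            rs L (inf_le_right : W' x ⊓ W' y ≤ W' y) (rs L (hW' y) t) := by
          rw [rs_rs, rs_rs]
        calc X.presheaf.map (homOfLE (inf_le_left : W' x ⊓ W' y ≤ W' x)).op (a x) • rs L hle σ
            = X.presheaf.map (homOfLE (inf_le_left : W' x ⊓ W' y ≤ W' x)).op (a x) •
              rs L (inf_le_left : W' x ⊓ W' y ≤ W' x) (rs L ((hW' x).trans hW) σ) := by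
                rw [rs_rs]
          _ = rs L (inf_le_left : W' x ⊓ W' y ≤ W' x) (rs L (hW' x) t) := k1.symm
          _ = rs L (inf_le_right : W' x ⊓ W' y ≤ W' y) (rs L (hW' y) t) := k3
          _ = X.presheaf.map (homOfLE (inf_le_right : W' x ⊓ W' y ≤ W' y)).op (a y) •
              rs L (inf_le_right : W' x ⊓ W' y ≤ W' y) (rs L ((hW' y).trans hW) σ) := k2
          _ = X.presheaf.map (homOfLE (inf_le_right : W' x ⊓ W' y ≤ W' y)).op (a y) •
              rs L hle σ := by rw [rs_rs])
    exact ⟨b, hb'⟩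
  refine ⟨b, sec_ext L _ _ (fun x hx => ?_)⟩
  refine ⟨W' ⟨x, hx⟩, hW' ⟨x, hx⟩, hxW' ⟨x, hx⟩, ?_⟩
  have hax : a ⟨x, hx⟩ • rs L ((hW' ⟨x, hx⟩).trans hW) σ = rs L (hW' ⟨x, hx⟩) t := ha ⟨x, hx⟩
  rw [← hax, ← hbb ⟨x, hx⟩]
  change L.presheaf.map _ (b • rs L hW σ) = _
  rw [L.map_smul]
  congr 1
  exact rs_rs L hW (hW' ⟨x, hx⟩) σ

/-- the only subset of `Fin n` with `n` elements -/
noncomputable instance uniquePowersetCard (n : ℕ) : Unique (Set.powersetCard (Fin n) n) where
  default := ⟨Finset.univ, by simp [Set.powersetCard.mem_iff]⟩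
  uniq s := by
    apply Subtype.ext
    apply Finset.eq_univ_of_card
    have := s.2
    rw [Set.powersetCard.mem_iff] at this
    simp [this]

/-- a basis indexed by a one-element type gives a free generator -/
theorem bijective_smul_of_basis_unique {R M ι : Type*} [CommRing R] [AddCommGroup M] [Module R M]
    [Unique ι] (B : Module.Basis ι R M) : Function.Bijective (fun a : R => a • B default) := by
  constructor
  · intro a a' h
    have h1 := congrArg (fun x => B.repr x default) h
    simpa using h1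
  · intro x
    refine ⟨B.repr x default, ?_⟩
    have h := B.sum_repr x
    rw [Fintype.sum_unique] at h
    exact h

/-- the top exterior power of a free module of rank `n` is freely generated by the wedge of (a reordering of) a basis -/
theorem bijective_smul_ιMulti {R M : Type*} [CommRing R] [AddCommGroup M] [Module R M] {n : ℕ}
    (b : Module.Basis (Fin n) R M) :
    Function.Bijective (fun a : R => a • exteriorPower.ιMulti R n
      (b ∘ (Set.powersetCard.ofFinEmbEquiv.symm (default : Set.powersetCard (Fin n) n)))) := by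
  have h := bijective_smul_of_basis_unique (b.exteriorPower n)
  rw [exteriorPower.basis_apply] at h
  exact h

/-- the restrictions of a basis of sections over `V` to an open `W ≤ V` form a basis of `Γ(E, W)` -/
noncomputable def basisOf {E : X.Modules} {V : X.Opens} {n : ℕ} {e : Fin n → Γ(E, V)}
    (he : IsBasis E V e) {W : X.Opens} (hW : W ≤ V) : Module.Basis (Fin n) Γ(X, W) Γ(E, W) :=
  Module.Basis.mk (v := fun i => rs E hW (e i))
    (Fintype.linearIndependent_iff.2 (fun g hg i => by
      have h0 : (fun a : Fin n → Γ(X, W) => ∑ i, a i • rs E hW (e i)) g =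
          (fun a : Fin n → Γ(X, W) => ∑ i, a i • rs E hW (e i)) 0 := by
        simp only [Pi.zero_apply, zero_smul, Finset.sum_const_zero]
        exact hg
      exact congrFun ((he W hW).1 h0) i))
    (fun x _ => by
      obtain ⟨a, ha⟩ := (he W hW).2 x
      rw [← ha]
      exact Submodule.sum_mem _ (fun i _ => Submodule.smul_mem _ _ (Submodule.subset_span ⟨i, rfl⟩)))

theorem basisOf_apply {E : X.Modules} {V : X.Opens} {n : ℕ} {e : Fin n → Γ(E, V)}
    (he : IsBasis E V e) {W : X.Opens} (hW : W ≤ V) (i : Fin n) :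
    basisOf he hW i = rs E hW (e i) := by
  unfold basisOf
  rw [Module.Basis.mk_apply]

/-- **The top exterior power of a finite locally free module of rank `n` is invertible.** -/
theorem isInvertible_of_isExtPow {n : ℕ} {E L : X.Modules} (hE : FlatMod.IsFinLocFreeOfRank n E)
    (h : ExtPow.IsExtPow n E L) : PicF.IsInvertible L := by
  rw [isInvertible_iff_exists_isGen]
  intro x
  obtain ⟨V₀, e₀, hxV₀, he₀⟩ := exists_isBasis_of_isFinLocFreeOfRank hE x
  obtain ⟨_, ⟨V, hV, rfl⟩, hxV, hVV₀⟩ :=
    X.isBasis_affineOpens.exists_subset_of_mem_open hxV₀ V₀.2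
  obtain ⟨φ, hφ⟩ := h
  let emb := Set.powersetCard.ofFinEmbEquiv.symm (default : Set.powersetCard (Fin n) n)
  let e : Fin n → Γ(E, V) := fun i => rs E hVV₀ (e₀ (emb i))
  let s : Γ(L, V) := (φ ⟨V, hV⟩).symm (exteriorPower.ιMulti _ n e)
  refine ⟨V, hxV, s, isGen_of_forall_exists s ?_⟩
  intro W hW y hy
  obtain ⟨_, ⟨W', hW'aff, rfl⟩, hyW', hW'W⟩ :=
    X.isBasis_affineOpens.exists_subset_of_mem_open hy W.2
  refine ⟨W', hW'W, hyW', ?_⟩
  have hle : W' ≤ V₀ := (hW'W.trans hW).trans hVV₀
  have h1 : rs L (hW'W.trans hW) s = (φ ⟨W', hW'aff⟩).symm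
      (exteriorPower.ιMulti _ n (fun j => rs E (hW'W.trans hW) (e j))) :=
    hφ ⟨V, hV⟩ ⟨W', hW'aff⟩ (hW'W.trans hW) e
  have h2 : (fun j => rs E (hW'W.trans hW) (e j)) = (basisOf he₀ hle) ∘ emb := by
    funext j
    rw [Function.comp_apply, basisOf_apply]
    exact rs_rs E hVV₀ (hW'W.trans hW) _
  rw [h1, h2]
  have hb := bijective_smul_ιMulti (basisOf he₀ hle)
  have hφb : Function.Bijective (φ ⟨W', hW'aff⟩).symm := (φ ⟨W', hW'aff⟩).symm.bijective
  have h3 : ∀ a : Γ(X, W'), (φ ⟨W', hW'aff⟩).symm (a • exteriorPower.ιMulti _ n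
      ((basisOf he₀ hle) ∘ emb)) = a • (φ ⟨W', hW'aff⟩).symm (exteriorPower.ιMulti _ n
      ((basisOf he₀ hle) ∘ emb)) := fun a => (φ ⟨W', hW'aff⟩).symm.map_smul a _
  have h4 := hφb.comp hb
  refine ⟨fun a a' haa' => h4.1 ?_, fun t => ?_⟩
  · exact (h3 a).trans (haa'.trans (h3 a').symm)
  · obtain ⟨a, ha⟩ := h4.2 t
    exact ⟨a, (h3 a).symm.trans ha⟩

end Groth.Agent.Lib.ExtPowInv21
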