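import Groth.Agent.Lib.CurveDeg48c
import Groth.Agent.Lib.H78TensorGen
import Groth.Agent.Lib.H78PullSec

/-!
# Local bases of finite locally free modules (helper48)

Rank-`n` analogue of helper90's `IsGen` calculus.

* `IsBasis L V s`: the sections `s : Fin n → Γ(L, V)` form a free basis of `L` over `V`: for every open `W ⊆ V`
  the map `Γ(X, W)^n → Γ(L, W)`, `a ↦ ∑ aᵢ • sᵢ|_W` is bijective.
* `IsBasis.mono`, `IsBasis.of_iso`, `isBasis_restrict_iff`, `isBasis_pw` (standard basis of `O^n`),
  `exists_isBasis_of_isFinLocFreeOfRank`.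
-/

set_option autoImplicit false
universe u

open CategoryTheory CategoryTheory.Limits AlgebraicGeometry TopologicalSpace Opposite
open AlgebraicGeometry.Scheme AlgebraicGeometry.Scheme.Modules
open Groth.Agent.Lib.StructureModule Groth.Agent.Lib.H90Invertible Groth.Agent.Lib.H78TensorGen
open Groth.Agent.Lib.CurveDeg48

namespace Groth.Agent.Lib.LocFreeBasis48

variable {X : Scheme.{u}} {L L' : X.Modules} {n : ℕ}

/-- `s : Fin n → Γ(L, V)` is a free basis of `L` over `V`. -/
def IsBasis (L : X.Modules) (V : X.Opens) {n : ℕ} (s : Fin n → Γ(L, V)) : Prop :=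
  ∀ (W : X.Opens) (h : W ≤ V),
    Function.Bijective (fun a : Fin n → Γ(X, W) => ∑ i, a i • rs L h (s i))

theorem IsBasis.mono {V : X.Opens} {s : Fin n → Γ(L, V)} (hs : IsBasis L V s) {V' : X.Opens}
    (h : V' ≤ V) : IsBasis L V' (fun i => rs L h (s i)) := by
  intro W hW
  have := hs W (hW.trans h)
  convert this using 4
  exact rs_rs L h hW _

theorem IsBasis.of_iso {V : X.Opens} {s : Fin n → Γ(L, V)} (hs : IsBasis L V s) (e : L ≅ L') :
    IsBasis L' V (fun i => e.hom.app V (s i)) := by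
  intro W hW
  have h1 := hs W hW
  have h2 : Function.Bijective (e.hom.app W) :=
    (ConcreteCategory.isIso_iff_bijective (e.hom.app W)).mp inferInstance
  convert h2.comp h1 using 1
  funext a
  simp only [Function.comp_apply]
  rw [map_sum]
  refine Finset.sum_congr rfl (fun i _ => ?_)
  rw [Hom.app_smul]
  congr 1
  exact (NatTrans.naturality_apply e.hom.mapPresheaf (homOfLE hW).op (s i)).symm

section Restrict

variable {Y : Scheme.{u}} (j : Y ⟶ X) [IsOpenImmersion j]

theorem isBasis_restrict_iff (L : X.Modules) (W : Y.Opens) (s : Fin n → Γ(L, j ''ᵁ W)) :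
    IsBasis (L.restrict j) W s ↔ IsBasis L (j ''ᵁ W) s := by
  constructor
  · intro hs V' hV'
    obtain ⟨W'', hW'', rfl⟩ : ∃ W'' ≤ W, j ''ᵁ W'' = V' := by
      refine ⟨j ⁻¹ᵁ V', ?_, ?_⟩
      · intro y hy
        obtain ⟨y', hy', e⟩ := hV' hy
        rwa [← j.isOpenEmbedding.injective e]
      · rw [Scheme.Hom.image_preimage_eq_opensRange_inf]
        refine inf_eq_right.mpr (hV'.trans ?_)
        rintro _ ⟨y, -, rfl⟩
        exact ⟨y, rfl⟩
    have h1 := hs W'' hW''
    have h2 : Function.Bijective (fun b : Fin n → Γ(X, j ''ᵁ W'') => fun i => (j.appIso W'').hom (b i)) := by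
      have h3 : Function.Bijective (j.appIso W'').hom :=
        (ConcreteCategory.isIso_iff_bijective (j.appIso W'').hom).mp inferInstance
      constructor
      · intro b b' hbb'
        funext i
        exact h3.1 (congrFun hbb' i)
      · intro a
        choose b hb using fun i => h3.2 (a i)
        exact ⟨b, funext hb⟩
    have key : (fun b : Fin n → Γ(X, j ''ᵁ W'') => ∑ i, b i • rs L hV' (s i)) =
        (fun a : Fin n → Γ(Y, W'') => ∑ i, a i • rs (L.restrict j) hW'' (s i)) ∘
          (fun b : Fin n → Γ(X, j ''ᵁ W'') => fun i => (j.appIso W'').hom (b i)) := by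
      funext b
      simp only [Function.comp_apply]
      refine Finset.sum_congr rfl (fun i _ => ?_)
      rw [restrict_smul, Iso.hom_inv_id_apply]
      rfl
    rw [key]
    exact h1.comp h2
  · intro hs W'' hW''
    have h1 := hs (j ''ᵁ W'') (j.image_mono hW'')
    have h2 : Function.Bijective (fun a : Fin n → Γ(Y, W'') => fun i => (j.appIso W'').inv (a i)) := by
      have h3 : Function.Bijective (j.appIso W'').inv :=
        (ConcreteCategory.isIso_iff_bijective (j.appIso W'').inv).mp inferInstance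
      constructor
      · intro b b' hbb'
        funext i
        exact h3.1 (congrFun hbb' i)
      · intro a
        choose b hb using fun i => h3.2 (a i)
        exact ⟨b, funext hb⟩
    exact h1.comp h2

end Restrict

section Standard

open Groth.Agent.Lib.H78SecCoord

lemma sum_app {M N : X.Modules} {ι : Type*} (t : Finset ι) (φ : ι → (M ⟶ N)) (W : X.Opens) (x : Γ(M, W)) :
    (∑ i ∈ t, φ i).app W x = ∑ i ∈ t, (φ i).app W x := by
  classical
  induction t using Finset.induction_on with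
  | empty => simp
  | insert a t ha ih =>
    rw [Finset.sum_insert ha, Finset.sum_insert ha, Hom.add_app]
    change (φ a).app W x + (∑ i ∈ t, φ i).app W x = _
    rw [ih]

/-- sections of a finite power are tuples of sections -/
lemma pw_sections_bijective (G : X.Modules) (n : ℕ) (W : X.Opens) :
    Function.Bijective (fun x : Fin n → Γ(G, W) =>
      ∑ i, (Sigma.ι (fun _ : Fin n => G) i).app W (x i)) := by
  have hproj : ∀ (x : Fin n → Γ(G, W)) (j : Fin n),
      (pwProj n G j).app W (∑ i, (Sigma.ι (fun _ : Fin n => G) i).app W (x i)) = x j := by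
    intro x j
    rw [map_sum]
    rw [Finset.sum_eq_single j]
    · change ((Sigma.ι (fun _ : Fin n => G) j) ≫ pwProj n G j).app W (x j) = x j
      rw [ι_pwProj, if_pos rfl]
      rfl
    · intro i _ hij
      change ((Sigma.ι (fun _ : Fin n => G) i) ≫ pwProj n G j).app W (x i) = 0
      rw [ι_pwProj, if_neg hij]
      rfl
    · intro h
      exact absurd (Finset.mem_univ j) h
  constructor
  · intro x x' hxx'
    funext j
    rw [← hproj x j, ← hproj x' j]
    exact congrArg _ hxx'
  · intro y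
    refine ⟨fun j => (pwProj n G j).app W y, ?_⟩
    have h1 : (𝟙 (pw n G) : pw n G ⟶ pw n G).app W y = y := rfl
    rw [← sum_pwProj_ι n G, sum_app] at h1
    exact h1

/-- the standard basis of `O^n` -/
theorem isBasis_freeMod (n : ℕ) (V : X.Opens) :
    IsBasis (FlatMod.freeMod X n) V
      (fun i => (Sigma.ι (fun _ : Fin n => Coh.structureModule X) i).app V (toSec V 1)) := by
  intro W hW
  have h1 := pw_sections_bijective (Coh.structureModule X) n W
  have h2 : (fun a : Fin n → Γ(X, W) => ∑ i, a i • rs (FlatMod.freeMod X n) hW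
        ((Sigma.ι (fun _ : Fin n => Coh.structureModule X) i).app V (toSec V 1))) =
      (fun x : Fin n → Γ(Coh.structureModule X, W) =>
        ∑ i, (Sigma.ι (fun _ : Fin n => Coh.structureModule X) i).app W (x i)) ∘
      (fun (a : Fin n → Γ(X, W)) (i : Fin n) => toSec W (a i)) := by
    funext a
    simp only [Function.comp_apply]
    refine Finset.sum_congr rfl (fun i _ => ?_)
    rw [← app_rs, ← Hom.app_smul]
    congr 1
    change a i * (X.presheaf.map (homOfLE hW).op).hom 1 = a i
    rw [map_one, mul_one]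
  rw [h2]
  exact h1.comp Function.bijective_id

/-- a finite locally free module of rank `n` has local bases -/
theorem exists_isBasis_of_isFinLocFreeOfRank {E : X.Modules} (hE : FlatMod.IsFinLocFreeOfRank n E) (x : X) :
    ∃ (V : X.Opens) (s : Fin n → Γ(E, V)), x ∈ V ∧ IsBasis E V s := by
  obtain ⟨U, hxU, ⟨e⟩⟩ := hE x
  have h1 := (isBasis_freeMod (X := (U : Scheme.{u})) n ⊤).of_iso e.symm
  have h2 := (isBasis_restrict_iff U.ι E ⊤ _).mp h1
  have hU : U ≤ U.ι ''ᵁ ⊤ := le_of_eq (Scheme.Opens.ι_image_top U).symm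
  exact ⟨U, _, hxU, h2.mono hU⟩

end Standard

section Tensor

variable (M : X.Modules) {N : X.Modules}

/-- if `e` is a basis of `N` over `V`, every element of `M(V) ⊗ N(V)` is uniquely `∑ xᵢ ⊗ eᵢ` -/
lemma ptmul_basis_bijective {V : X.Opens} {e : Fin n → Γ(N, V)} (he : IsBasis N V e) :
    Function.Bijective (fun x : Fin n → Γ(M, V) => ∑ i, ptmul (x i) (e i)) := by
  classical
  let e' : Fin n → MM N V := fun i => (id (e i) : MM N V)
  have hb : Function.Bijective (Fintype.linearCombination (RR V) e') := by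
    have h1 := he V le_rfl
    have h2 : (fun a : Fin n → Γ(X, V) => ∑ i, a i • rs N le_rfl (e i)) =
        fun a : Fin n → Γ(X, V) => ∑ i, a i • e i := by
      funext a
      refine Finset.sum_congr rfl (fun i _ => ?_)
      rw [rs_self]
    rw [h2] at h1
    exact h1
  let b : (Fin n → RR V) ≃ₗ[RR V] MM N V := LinearEquiv.ofBijective _ hb
  have hbs : ∀ i, b.symm (e' i) = Pi.single i 1 := by
    intro i
    rw [LinearEquiv.symm_apply_eq]
    change e' i = Fintype.linearCombination (RR V) e' (Pi.single i 1)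
    rw [Fintype.linearCombination_apply_single, one_smul]
  let g : TensorProduct (RR V) (MM M V) (MM N V) ≃ₗ[RR V] (Fin n → MM M V) :=
    TensorProduct.congr (LinearEquiv.refl _ _) b.symm ≪≫ₗ
      TensorProduct.piScalarRight (RR V) (RR V) (MM M V) (Fin n)
  have hg : ∀ x : Fin n → Γ(M, V), g (∑ i, ptmul (x i) (e i)) = x := by
    intro x
    rw [map_sum]
    have h3 : ∀ i, g (ptmul (x i) (e i)) = Pi.single i (x i) := by
      intro i
      change TensorProduct.piScalarRight (RR V) (RR V) (MM M V) (Fin n)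
        ((id (x i) : MM M V) ⊗ₜ[RR V] (b.symm (e' i))) = _
      rw [hbs, TensorProduct.piScalarRight_apply, TensorProduct.piScalarRightHom_tmul]
      funext j
      by_cases hj : j = i
      · subst hj
        simp
      · simp [Pi.single_eq_of_ne hj]
    simp_rw [h3]
    exact Finset.univ_sum_single x
  have : (fun x : Fin n → Γ(M, V) => ∑ i, ptmul (x i) (e i)) = g.symm := by
    funext x
    exact (g.eq_symm_apply).mpr (hg x)
  rw [this]
  exact g.symm.bijective

lemma unitT_sum_ptmul {V : X.Opens} (x : Fin n → Γ(M, V)) (y : Fin n → Γ(N, V)) :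
    ((unitT M N).app (op V)).hom (∑ i, ptmul (x i) (y i)) = ∑ i, tmul (x i) (y i) := by
  rw [map_sum]
  rfl

lemma map_sum_ptmul {V W : X.Opens} (h : W ≤ V) (x : Fin n → Γ(M, V)) (y : Fin n → Γ(N, V)) :
    (tpre M N).map (homOfLE h).op (∑ i, ptmul (x i) (y i)) =
      ∑ i, ptmul (rs M h (x i)) (rs N h (y i)) := by
  rw [map_sum]
  refine Finset.sum_congr rfl (fun i _ => ?_)
  exact ptmul_res (homOfLE h) (x i) (y i)

lemma rs_sum_tmul {V W : X.Opens} (h : W ≤ V) (x : Fin n → Γ(M, V)) (y : Fin n → Γ(N, V)) :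
    rs (CohB1.tensorMod M N) h (∑ i, tmul (x i) (y i)) =
      ∑ i, tmul (rs M h (x i)) (rs N h (y i)) := by
  have h1 : rs (CohB1.tensorMod M N) h (∑ i, tmul (x i) (y i)) =
      ∑ i, rs (CohB1.tensorMod M N) h (tmul (x i) (y i)) :=
    map_sum ((CohB1.tensorMod M N).presheaf.map (homOfLE h).op).hom _ _
  rw [h1]
  refine Finset.sum_congr rfl (fun i _ => ?_)
  exact tmul_rs h (x i) (y i)

/-- **Tensoring with a module having a free basis `e` over `U`**: for `V ≤ U`, the map
`x ↦ ∑ xᵢ ⊗ eᵢ|_V` is a bijection `Γ(M, V)^n → Γ(M ⊗ N, V)`. -/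
theorem tmul_basis_bijective {U : X.Opens} {e : Fin n → Γ(N, U)} (he : IsBasis N U e)
    {V : X.Opens} (hV : V ≤ U) :
    Function.Bijective (fun x : Fin n → Γ(M, V) => ∑ i, tmul (x i) (rs N hV (e i))) := by
  have hinj : ∀ {V : X.Opens} (hV : V ≤ U),
      Function.Injective (fun x : Fin n → Γ(M, V) => ∑ i, tmul (x i) (rs N hV (e i))) := by
    intro V hV x x' hxx'
    funext i
    refine sec_ext M (x i) (x' i) (fun z hz => ?_)
    have hxx'' : ((unitT M N).app (op V)).hom (∑ i, ptmul (x i) (rs N hV (e i))) =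
        ((unitT M N).app (op V)).hom (∑ i, ptmul (x' i) (rs N hV (e i))) := by
      rw [unitT_sum_ptmul, unitT_sum_ptmul]
      exact hxx'
    obtain ⟨W, hW, hzW, hp⟩ := local_inj M N _ _ hxx'' z hz
    refine ⟨W, hW, hzW, ?_⟩
    rw [map_sum_ptmul, map_sum_ptmul] at hp
    have hbas : IsBasis N W (fun i => rs N hW (rs N hV (e i))) := (he.mono hV).mono hW
    exact congrFun ((ptmul_basis_bijective M hbas).1 hp) i
  refine ⟨hinj hV, ?_⟩
  intro q
  choose W hW hzW p hp using exists_local_rep M N q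
  have hbas : ∀ z hz, IsBasis N (W z hz) (fun i => rs N (hW z hz) (rs N hV (e i))) :=
    fun z hz => (he.mono hV).mono (hW z hz)
  choose xs hxs using fun z hz => (ptmul_basis_bijective M (hbas z hz)).2 (p z hz)
  have key : ∀ z hz, ∑ i, tmul (xs z hz i) (rs N (hW z hz) (rs N hV (e i))) = rs _ (hW z hz) q := by
    intro z hz
    rw [← hp z hz, ← hxs z hz]
    exact (unitT_sum_ptmul M _ _).symm
  have hcompat : ∀ (z z' : V), (fun i => rs M (inf_le_left : W z.1 z.2 ⊓ W z'.1 z'.2 ≤ W z.1 z.2) (xs z.1 z.2 i)) =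
      (fun i => rs M (inf_le_right : W z.1 z.2 ⊓ W z'.1 z'.2 ≤ W z'.1 z'.2) (xs z'.1 z'.2 i)) := by
    intro z z'
    have hle : W z.1 z.2 ⊓ W z'.1 z'.2 ≤ U := inf_le_left.trans ((hW z.1 z.2).trans hV)
    apply hinj hle
    change ∑ i, tmul (rs M _ (xs z.1 z.2 i)) (rs N hle (e i)) =
      ∑ i, tmul (rs M _ (xs z'.1 z'.2 i)) (rs N hle (e i))
    have h1 : ∀ i, rs N hle (e i) = rs N (inf_le_left : W z.1 z.2 ⊓ W z'.1 z'.2 ≤ W z.1 z.2)
        (rs N (hW z.1 z.2) (rs N hV (e i))) := by intro i; rw [rs_rs, rs_rs]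
    have h2 : ∀ i, rs N hle (e i) = rs N (inf_le_right : W z.1 z.2 ⊓ W z'.1 z'.2 ≤ W z'.1 z'.2)
        (rs N (hW z'.1 z'.2) (rs N hV (e i))) := by intro i; rw [rs_rs, rs_rs]
    calc ∑ i, tmul (rs M _ (xs z.1 z.2 i)) (rs N hle (e i))
        = ∑ i, tmul (rs M inf_le_left (xs z.1 z.2 i)) (rs N inf_le_left
            (rs N (hW z.1 z.2) (rs N hV (e i)))) := by simp_rw [← h1]
      _ = rs _ inf_le_left (rs _ (hW z.1 z.2) q) := by rw [← rs_sum_tmul, key]
      _ = rs _ inf_le_right (rs _ (hW z'.1 z'.2) q) := by rw [rs_rs, rs_rs]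
      _ = ∑ i, tmul (rs M inf_le_right (xs z'.1 z'.2 i)) (rs N inf_le_right
            (rs N (hW z'.1 z'.2) (rs N hV (e i)))) := by rw [← key, rs_sum_tmul]
      _ = ∑ i, tmul (rs M _ (xs z'.1 z'.2 i)) (rs N hle (e i)) := by simp_rw [← h2]
  have hglue : ∀ i, ∃ x : Γ(M, V), ∀ z : V, rs M (hW z.1 z.2) x = xs z.1 z.2 i := by
    intro i
    exact sec_glue M (fun z : V => W z.1 z.2) (fun z => hW z.1 z.2)
      (fun z hz => Opens.mem_iSup.2 ⟨⟨z, hz⟩, hzW z hz⟩) (fun z => xs z.1 z.2 i)
      (fun z z' => congrFun (hcompat z z') i)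
  choose x hx using hglue
  refine ⟨x, sec_ext _ _ _ (fun z hz => ⟨W z hz, hW z hz, hzW z hz, ?_⟩)⟩
  change rs _ (hW z hz) (∑ i, tmul (x i) (rs N hV (e i))) = _
  rw [rs_sum_tmul, ← key z hz]
  refine Finset.sum_congr rfl (fun i _ => ?_)
  rw [hx i ⟨z, hz⟩]

end Tensor

end Groth.Agent.Lib.LocFreeBasis48
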