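import Groth.Agent.Lib.H78GlobGen2
import Groth.Agent.Lib.LocFreeBasis48
import Groth.Agent.Lib.CurveDeg48b

/-!
# Twisted sections of a finite locally free module restricting to a basis near a point (helper42)
-/

set_option autoImplicit false
universe u
open CategoryTheory CategoryTheory.Limits AlgebraicGeometry Opposite TopologicalSpace
open Groth.Agent.Lib.H90Invertible Groth.Agent.Lib.StructureModule Groth.Agent.Lib.H78TensorGen
open Groth.Agent.Lib.H78SecCoord Groth.Agent.Lib.H78Atlas Groth.Agent.Lib.H78KeyLemma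
open Groth.Agent.Lib.H78KeyLemma2 Groth.Agent.Lib.H78AmpleBasis Groth.Agent.Lib.H78SecAdd
open Groth.Agent.Lib.LocFreeBasis48 Groth.Agent.Lib.H78GlobGen2

namespace Groth.Agent.Lib.TwistSec42

variable {X : Scheme.{u}} {n : ℕ}

/-- scaling the members of a basis by units gives a basis -/
theorem isBasis_units_smul {F : X.Modules} {V : X.Opens} {e : Fin n → Γ(F, V)} (he : IsBasis F V e)
    (u : Fin n → Γ(X, V)) (hu : ∀ i, IsUnit (u i)) : IsBasis F V (fun i => u i • e i) := by
  intro W hW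
  have h1 := he W hW
  have hu' : ∀ i, IsUnit (X.presheaf.map (homOfLE hW).op (u i)) := fun i => (hu i).map _
  have h2 : Function.Bijective (fun (a : Fin n → Γ(X, W)) (i : Fin n) =>
      a i * X.presheaf.map (homOfLE hW).op (u i)) := by
    constructor
    · intro a a' haa'
      funext i
      exact (hu' i).mul_left_injective (congrFun haa' i)
    · intro b
      choose v hv using fun i => (hu' i).exists_left_inv
      refine ⟨fun i => b i * v i, ?_⟩
      funext i
      change b i * v i * _ = b i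
      rw [mul_assoc, hv, mul_one]
  convert h1.comp h2 using 1
  funext a
  simp only [Function.comp_apply]
  refine Finset.sum_congr rfl (fun i _ => ?_)
  rw [mul_smul]
  congr 1
  exact rs_smul F hW (u i) (e i)

/-- **twisted sections which are a basis near a point**: for an ample `A` on a quasi-compact scheme, a finite locally
free `E` of rank `n` and a point `ξ`, there are `N`, an affine open neighbourhood `V` of `ξ`, a generator `ε` of
`A^{⊗N}` over `V`, a basis `σ` of `E` over `V` and global sections of `E ⊗ A^{⊗N}` restricting to `σ i ⊗ ε`. -/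
theorem exists_twisted_basis [CompactSpace X] {A : X.Modules} (hA : CohB1.IsAmple A) {E : X.Modules}
    (hE : FlatMod.IsFinLocFreeOfRank n E) (ξ : X) :
    ∃ (N : ℕ) (V : X.Opens) (_ : IsAffineOpen V) (_ : ξ ∈ V) (ε : Γ(CohB1.tensorPow A N, V))
      (σ : Fin n → Γ(E, V)) (s : Fin n → Γ(CohB1.tensorMod E (CohB1.tensorPow A N), ⊤)),
      IsGen (CohB1.tensorPow A N) V ε ∧ IsBasis E V σ ∧
        ∀ i, tmul (σ i) ε = rs _ le_top (s i) := by
  haveI := quasiSeparatedSpace_of_isAmple hA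
  have hEc : Coh.IsCoh E := isCoh_of_isFinLocFree
    (Groth.Agent.Lib.CurveDeg48.isFinLocFree_of_isFinLocFreeOfRank hE)
  haveI : E.IsQuasicoherent := hEc.1
  have hQ : QcLike E := qcLike_of_isQuasicoherent E
  have h1 : ∀ x : X, ∃ (V₀ : X.Opens) (e : Γ(A, V₀)) (b : Fin n → Γ(E, V₀)) (m : ℕ)
      (s : Coh.structureModule X ⟶ CohB1.tensorPow A (m + 1)), IsGen A V₀ e ∧ IsBasis E V₀ b ∧
        x ∈ CohB1.genLocus _ s ∧ CohB1.genLocus _ s ≤ V₀ ∧ IsAffineOpen (CohB1.genLocus _ s) := by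
    intro x
    obtain ⟨V₁, hxV₁, e, he⟩ := (isInvertible_iff_exists_isGen A).1 hA.1 x
    obtain ⟨V₂, b, hxV₂, hb⟩ := exists_isBasis_of_isFinLocFreeOfRank hE x
    obtain ⟨m, s, hx, hsV, haff⟩ := exists_sec_nbhd_affine hA x (V₁ ⊓ V₂) ⟨hxV₁, hxV₂⟩
    exact ⟨V₁ ⊓ V₂, _, _, m, s, he.mono inf_le_left, hb.mono inf_le_right, hx, hsV, haff⟩
  choose V₀ e b m s he hb hx hsV haff using h1
  obtain ⟨t, ht⟩ := isCompact_univ.elim_finite_subcover (fun y => (CohB1.genLocus _ (s y) : Set X))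
    (fun y => (CohB1.genLocus _ (s y)).2) (fun x _ => Set.mem_iUnion.2 ⟨x, hx x⟩)
  obtain ⟨V, hVdef⟩ : ∃ V : t → X.Opens, ∀ i, V i = CohB1.genLocus _ (s i.1) := ⟨_, fun _ => rfl⟩
  have hV : ⨆ i, V i = ⊤ := by
    refine top_le_iff.1 (fun x _ => ?_)
    obtain ⟨y, hy, hxy⟩ := Set.mem_iUnion₂.1 (ht (Set.mem_univ x))
    exact Opens.mem_iSup.2 ⟨⟨y, hy⟩, by rw [hVdef]; exact hxy⟩
  have hVaff : ∀ i, IsAffineOpen (V i) := fun i => by rw [hVdef]; exact haff i.1
  have hVle : ∀ i : t, V i ≤ V₀ i.1 := fun i => by rw [hVdef]; exact hsV i.1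
  let At : Atlas A V := ⟨fun i => rs A (hVle i) (e i.1), fun i => (he i.1).mono (hVle i)⟩
  obtain ⟨j, hξj⟩ : ∃ j : t, ξ ∈ V j := by
    have : ξ ∈ ⨆ i, V i := by rw [hV]; trivial
    exact Opens.mem_iSup.1 this
  obtain ⟨n₀, hn₀⟩ := exists_sections_twist hQ hV hVaff At j (m j.1 + 1) (Nat.succ_pos _)
    (sec (s j.1)) (by rw [ofSection_sec, hVdef]) (fun i : Fin n => rs E (hVle j) (b j.1 i))
  choose ζ u hu hζ using hn₀ n₀ le_rfl
  refine ⟨n₀, V j, hVaff j, hξj, epow (At.E j) n₀, fun i => u i • rs E (hVle j) (b j.1 i), ζ,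
    isGen_epow (At.gen j) n₀, isBasis_units_smul ((hb j.1).mono (hVle j)) u hu, fun i => (hζ i).symm⟩

end Groth.Agent.Lib.TwistSec42
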