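import Groth.Agent.Lib.DetDeg42a
import Groth.Agent.Lib.DetDeg42b
import Groth.Agent.Lib.TwistSec42
import Groth.Agent.Lib.PoleGlue42
import Groth.Agent.Lib.ExtPowInv21
import Groth.Agent.Lib.CartierDim48
import Groth.Agent.Lib.H90ProperFin
import Groth.Agent.Lib.EulerLE48
import Groth.Agent.Lib.H90DevTwo
import Groth.Agent.Lib.H90InvertiblePullback

/-!
# `deg E = deg det E` on a proper scheme of dimension `≤ 1` over a field (helper42)
-/

set_option autoImplicit false
universe u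
open CategoryTheory CategoryTheory.Limits AlgebraicGeometry Opposite TopologicalSpace
open Groth.Agent.Lib.OXModTensor Groth.Agent.Lib.StructureModule Groth.Agent.Lib.H90Invertible
open Groth.Agent.Lib.H78TensorGen Groth.Agent.Lib.H78SecCoord Groth.Agent.Lib.LocFreeBasis48
open Groth.Agent.Lib.H90OXModSections Groth.Agent.Lib.H90DevCanon Groth.Agent.Lib.H90DevAtom
open Groth.Agent.Lib.DetSec42 Groth.Agent.Lib.ZeroDimDev42 Groth.Agent.Lib.HubCoker42
open Groth.Agent.Lib.H90DevHub Groth.Agent.Lib.H90DevHub2 Groth.Agent.Lib.CurveDeg48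

namespace Groth.Agent.Lib.DetDeg42

variable (H : Groth.Agent.Lib.ProperFinHyp.Hyp.{u}) (k : Type u) [Field k] (X : Scheme.{u})
  [X.Over (Spec (CommRingCat.of k))] [IsProper (X ↘ (Spec (CommRingCat.of k)))]

/-- the Euler characteristic as an additive function on coherent modules -/
noncomputable def eulerAddFun : AddFun X where
  f M := Curv2.euler k X M
  iso e := Groth.Agent.Lib.DegTensor54.euler_congr k e
  zero hM := Groth.Agent.Lib.HilbPoly48.euler_eq_zero_of_isZero k X hM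
  add S hS h₁ h₂ h₃ := Groth.Agent.Lib.EulerChar54.euler_add H k X S hS h₁ h₂ h₃

include H in
/-- the Euler characteristic of the cokernel of `G ⊗ O^n ⟶ G ⊗ F` -/
theorem euler_cokernel_Psi {n : ℕ} {G F : X.Modules} (hG : Coh.IsCoh G) (hF : Coh.IsCoh F)
    (s : Fin n → (Coh.structureModule X ⟶ F)) [Mono (Psi G s)] :
    Curv2.euler k X (CohB1.tensorMod G F) =
      n * Curv2.euler k X G + Curv2.euler k X (cokernel (Psi G s)) := by
  have hOn : Coh.IsCoh (CohB1.tensorMod G (FlatMod.freeMod X n)) :=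
    Groth.Agent.Lib.CohFinAmple.isCoh_of_iso (tensorFreeIso G n).symm (isCoh_pw n hG)
  have hGF : Coh.IsCoh (CohB1.tensorMod G F) := Groth.Agent.Lib.CohFinAmple.isCoh_tensorMod hG hF
  haveI := hOn.1
  have hQ : Coh.IsCoh (cokernel (Psi G s)) := Groth.Agent.Lib.H90OXModExact.isCoh_cokernel (Psi G s) hGF
  have hS := Groth.Agent.Lib.H90DevTwo.shortExact_cokernel (Psi G s)
  have h1 := Groth.Agent.Lib.EulerChar54.euler_add H k X _ hS hOn hGF hQ
  change Curv2.euler k X (CohB1.tensorMod G F) =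
    Curv2.euler k X (CohB1.tensorMod G (FlatMod.freeMod X n)) +
      Curv2.euler k X (cokernel (Psi G s)) at h1
  rw [h1, Groth.Agent.Lib.DegTensor54.euler_congr k (tensorFreeIso G n), euler_pw H k X n hG]


include H in
/-- the hub case of `deg E = deg det E` -/
theorem hub_case (hdim : topologicalKrullDim X ≤ 1) {n : ℕ} {E L : X.Modules}
    (hE : FlatMod.IsFinLocFreeOfRank n E) (hL : ExtPow.IsExtPow n E L) (Zc : Closeds X)
    (hirr : IsIrreducible (Zc : Set X)) (ξ : X) (hξ : closure {ξ} = (Zc : Set X)) :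
    Curv2.euler k X (CohB1.tensorMod E (hub Zc)) - n * Curv2.euler k X (hub Zc) =
      Curv2.euler k X (CohB1.tensorMod L (hub Zc)) - Curv2.euler k X (hub Zc) := by
  classical
  haveI := Groth.Agent.Lib.EulerLE48.isNoetherian k X
  haveI : X.IsSeparated :=
    Groth.Agent.Lib.H90ProperFin.isSeparated_of_over_affine (X ↘ (Spec (CommRingCat.of k)))
  have hξg : IsGenericPoint ξ (Zc : Set X) := hξ
  have hLinv : PicF.IsInvertible L := Groth.Agent.Lib.ExtPowInv21.isInvertible_of_isExtPow hE hL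
  have hL1 : FlatMod.IsFinLocFreeOfRank 1 L := (isInvertible_iff_isFinLocFreeOfRank_one L).1 hLinv
  obtain ⟨φ, hφ⟩ := hL
  obtain ⟨A, hA⟩ := Groth.Agent.Lib.PoleGlue42.exists_isAmple_of_dim_le_one X hdim
  obtain ⟨N, V, hVaff, hξV, ε, σ, ζ, hε, hσ, hζ⟩ :=
    Groth.Agent.Lib.TwistSec42.exists_twisted_basis hA hE ξ
  have hP : PicF.IsInvertible (CohB1.tensorPow A N) := isInvertible_tensorPow hA.1 N
  have hP1 : FlatMod.IsFinLocFreeOfRank 1 (CohB1.tensorPow A N) :=
    (isInvertible_iff_isFinLocFreeOfRank_one _).1 hP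
  obtain ⟨t, ht⟩ := exists_detSec φ hφ hP ζ
  -- coherence
  have hGc : Coh.IsCoh (hub Zc) := isCoh_hub Zc
  have hEc : Coh.IsCoh E := isCoh_of_isFinLocFree (isFinLocFree_of_isFinLocFreeOfRank hE)
  have hLc : Coh.IsCoh L := isCoh_of_isFinLocFree (isFinLocFree_of_isFinLocFreeOfRank hL1)
  have hPc : Coh.IsCoh (CohB1.tensorPow A N) :=
    isCoh_of_isFinLocFree (isFinLocFree_of_isFinLocFreeOfRank hP1)
  have hPnc : Coh.IsCoh (CohB1.tensorPow (CohB1.tensorPow A N) n) :=
    isCoh_of_isFinLocFree (isFinLocFree_of_isFinLocFreeOfRank (isFinLocFreeOfRank_one_tensorPow X hP1 n))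
  have hE'c : Coh.IsCoh (CohB1.tensorMod E (CohB1.tensorPow A N)) :=
    Groth.Agent.Lib.CohFinAmple.isCoh_tensorMod hEc hPc
  have hL'c : Coh.IsCoh (CohB1.tensorMod L (CohB1.tensorPow (CohB1.tensorPow A N) n)) :=
    Groth.Agent.Lib.CohFinAmple.isCoh_tensorMod hLc hPnc
  have hOc : ∀ m : ℕ, Coh.IsCoh (CohB1.tensorMod (hub Zc) (FlatMod.freeMod X m)) := fun m =>
    Groth.Agent.Lib.CohFinAmple.isCoh_of_iso (tensorFreeIso (hub Zc) m).symm (isCoh_pw m hGc)
  have hGE'c := Groth.Agent.Lib.CohFinAmple.isCoh_tensorMod hGc hE'c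
  have hGL'c := Groth.Agent.Lib.CohFinAmple.isCoh_tensorMod hGc hL'c
  obtain ⟨hm1, hm2, hlen, hsupp⟩ := local_analysis φ hφ hP hE ζ t ht Zc hirr hξg hVaff hξV hε hσ hζ
    (hOc n).1 hGE'c.1 (hOc 1).1 hGL'c.1
  haveI := hm1
  haveI := hm2
  set ΨE := Psi (hub Zc) (fun i => ofSection (ζ i)) with hΨE
  set ΨL := Psi (hub Zc) (fun _ : Fin 1 => ofSection t) with hΨL
  have e1 := euler_cokernel_Psi H k X hGc hE'c (fun i => ofSection (ζ i))
  have e2 := euler_cokernel_Psi H k X hGc hL'c (fun _ : Fin 1 => ofSection t)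
  -- the cokernels
  haveI := (hOc n).1
  haveI := (hOc 1).1
  have hQc : Coh.IsCoh (cokernel ΨE) := Groth.Agent.Lib.H90OXModExact.isCoh_cokernel ΨE hGE'c
  have hQ'c : Coh.IsCoh (cokernel ΨL) := Groth.Agent.Lib.H90OXModExact.isCoh_cokernel ΨL hGL'c
  -- the closed set `T`
  let T : Closeds X := ⟨(Zc : Set X) ∩ (V : Set X)ᶜ, Zc.isClosed.inter V.isOpen.isClosed_compl⟩
  have hTZ : (T : Set X) ⊆ (Zc : Set X) := Set.inter_subset_left
  have hξZ : ξ ∈ (Zc : Set X) := by rw [← hξ]; exact subset_closure rfl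
  have hTne : (T : Set X) ≠ (Zc : Set X) := by
    intro h
    have : ξ ∈ (T : Set X) := by rw [h]; exact hξZ
    exact this.2 hξV
  have hTdim : topologicalKrullDim ↥(T : Set X) ≤ 0 := by
    have h1 := Groth.Agent.Lib.DimDrop.topologicalKrullDim_add_one_le_of_ssubset T.isClosed hirr hTZ hTne
    have h2 : topologicalKrullDim ↥(Zc : Set X) ≤ 1 :=
      (topologicalKrullDim_subspace_le X (Zc : Set X)).trans hdim
    exact le_zero_of_add_one_le_one' (h1.trans h2)
  haveI : Finite ↥(T : Set X) :=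
    Groth.Agent.Lib.CartierDim48.finite_of_noetherianSpace_of_dim_le_zero hTdim
  have hTfin : (T : Set X).Finite := Set.toFinite _
  have hpt : ∀ y ∈ (T : Set X), IsClosed ({y} : Set X) := fun y hy =>
    isClosed_singleton_of_mem_of_dim_le_zero T.isClosed hTdim hy
  have hsuppQ : CohB1.support (cokernel ΨE) ⊆ (T : Set X) := by
    intro x hx
    refine ⟨?_, fun hxV => (hsupp x hxV).1 hx⟩
    have h1 := support_subset_of_epi (cokernel.π ΨE) hx
    have h2 := Groth.Agent.Lib.H90CurveH1.support_tensorMod_subset_left _ _ h1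
    exact support_hub_subset Zc h2
  have hsuppQ' : CohB1.support (cokernel ΨL) ⊆ (T : Set X) := by
    intro x hx
    refine ⟨?_, fun hxV => (hsupp x hxV).2 hx⟩
    have h1 := support_subset_of_epi (cokernel.π ΨL) hx
    have h2 := Groth.Agent.Lib.H90CurveH1.support_tensorMod_subset_left _ _ h1
    exact support_hub_subset Zc h2
  -- small affine neighbourhoods
  have hW : ∀ x : X, ∃ W : X.Opens, IsAffineOpen W ∧ x ∈ W ∧ (∃ e : Fin n → Γ(E, W), IsBasis E W e) ∧
      (∃ ε' : Γ(CohB1.tensorPow A N, W), IsGen (CohB1.tensorPow A N) W ε') ∧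
      ∀ y ∈ (T : Set X), y ∈ W → y = x := by
    intro x
    have hcl : IsClosed ((T : Set X) \ {x}) := by
      have hfin : ((T : Set X) \ {x}).Finite := hTfin.subset Set.sdiff_subset
      have := hfin.isClosed_biUnion (f := fun y => ({y} : Set X)) (fun y hy => hpt y hy.1)
      rwa [Set.biUnion_of_singleton] at this
    let U : X.Opens := ⟨((T : Set X) \ {x})ᶜ, hcl.isOpen_compl⟩
    have hxU : x ∈ U := fun h => h.2 rfl
    obtain ⟨V₁, e, hxV₁, he⟩ := exists_isBasis_of_isFinLocFreeOfRank hE x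
    obtain ⟨V₂, hxV₂, ε', hε'⟩ := (isInvertible_iff_exists_isGen _).1 hP x
    obtain ⟨W, hWaff, hxW, hWle⟩ := Opens.isBasis_iff_nbhd.1 X.isBasis_affineOpens
      (show x ∈ U ⊓ V₁ ⊓ V₂ from ⟨⟨hxU, hxV₁⟩, hxV₂⟩)
    refine ⟨W, hWaff, hxW, ⟨_, he.mono (hWle.trans (inf_le_left.trans inf_le_right))⟩,
      ⟨_, hε'.mono (hWle.trans inf_le_right)⟩, fun y hyT hyW => ?_⟩
    have hyU : y ∈ U := (hWle.trans (inf_le_left.trans inf_le_left)) hyW
    by_contra hne
    exact hyU ⟨hyT, hne⟩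
  choose W hWaff hxW hWb hWg hWT using hW
  have hQQ' : Curv2.euler k X (cokernel ΨE) = Curv2.euler k X (cokernel ΨL) :=
    eq_of_slen_eq (eulerAddFun H k X) T hTdim hTfin.toFinset (fun x => hTfin.mem_toFinset) W
      (fun x _ => hWaff x) (fun x _ => hxW x) (fun x _ y hy hyW => hWT x y hy hyW) hQc hQ'c
      hsuppQ hsuppQ' (fun x _ => hlen (W x) (hWaff x) (hWb x) (hWg x))
  -- bookkeeping
  have hb := twist_bookkeeping H k X hdim hE hL1 hP1 (hub Zc) hGc
  rw [Groth.Agent.Lib.DegTensor54.euler_congr k (braiding (CohB1.tensorMod E (CohB1.tensorPow A N)) (hub Zc)),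
    Groth.Agent.Lib.DegTensor54.euler_congr k
      (braiding (CohB1.tensorMod L (CohB1.tensorPow (CohB1.tensorPow A N) n)) (hub Zc)), e1, e2, hQQ'] at hb
  push_cast at hb
  linarith


include H in
/-- `χ(E ⊗ M) - n χ(M) = χ(det E ⊗ M) - χ(M)` for every coherent `M` -/
theorem eulerInv_eq_det (hdim : topologicalKrullDim X ≤ 1) {n : ℕ} {E L : X.Modules}
    (hE : FlatMod.IsFinLocFreeOfRank n E) (hL : ExtPow.IsExtPow n E L)
    (hL1 : FlatMod.IsFinLocFreeOfRank 1 L) (M : X.Modules) (hM : Coh.IsCoh M) :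
    (eulerInv H k X hE).φ M = (eulerInv H k X hL1).φ M := by
  haveI := Groth.Agent.Lib.EulerLE48.isNoetherian k X
  set A := eulerInv H k X hE with hA
  set B := eulerInv H k X hL1 with hB
  refine Groth.Agent.Lib.H90DevSubset.devissage_two_of_three_subset X Set.univ
    (fun M => A.φ M = B.φ M) ?_ ?_ ?_ ?_ M hM (Set.subset_univ _)
  · rintro M N ⟨e⟩ hM
    rw [← A.iso e, ← B.iso e]
    exact hM
  · intro N hN
    rw [A.zero hN, B.zero hN]
  · intro S hS h₁ h₂ h₃
    have ha := A.add S hS h₁ h₂ h₃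
    have hb := B.add S hS h₁ h₂ h₃
    refine ⟨fun p₁ p₂ => ?_, fun p₁ p₃ => ?_, fun p₂ p₃ => ?_⟩
    · rw [p₁, p₂, hb] at ha
      linarith
    · rw [ha, hb, p₁, p₃]
    · rw [p₂, p₃, hb] at ha
      linarith
  · intro Zc hirr _ ξ hgen
    obtain ⟨hs, he⟩ := Groth.Agent.Lib.H90DevSummand.hub_props Zc hirr ξ hgen
    refine ⟨hub Zc, isCoh_hub Zc, hs, he, ?_⟩
    have h := hub_case H k X hdim hE hL Zc hirr ξ hgen
    change Curv2.euler k X (CohB1.tensorMod E (hub Zc)) - n * Curv2.euler k X (hub Zc) =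
      Curv2.euler k X (CohB1.tensorMod L (hub Zc)) - ((1 : ℕ) : ℤ) * Curv2.euler k X (hub Zc)
    rw [h]
    push_cast
    ring

include H in
/-- **`deg E = deg det E`** on a proper scheme of dimension `≤ 1` over a field -/
theorem deg_eq_deg_det (hdim : topologicalKrullDim X ≤ 1) (n : ℕ) (E : X.Modules)
    (hE : FlatMod.IsFinLocFreeOfRank n E) (L : X.Modules) (hL : ExtPow.IsExtPow n E L) :
    Curv2.deg k X E n = Curv2.deg k X L 1 := by
  have hLinv : PicF.IsInvertible L := Groth.Agent.Lib.ExtPowInv21.isInvertible_of_isExtPow hE hL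
  have hL1 : FlatMod.IsFinLocFreeOfRank 1 L := (isInvertible_iff_isFinLocFreeOfRank_one L).1 hLinv
  have h := eulerInv_eq_det H k X hdim hE hL hL1 (Coh.structureModule X)
    (Groth.Agent.Lib.CohFinAmple.isCoh_structureModule X)
  change Curv2.euler k X (CohB1.tensorMod E (Coh.structureModule X)) -
      n * Curv2.euler k X (Coh.structureModule X) =
    Curv2.euler k X (CohB1.tensorMod L (Coh.structureModule X)) -
      ((1 : ℕ) : ℤ) * Curv2.euler k X (Coh.structureModule X) at h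
  rw [Groth.Agent.Lib.DegTensor54.euler_congr k (rightUnitor E),
    Groth.Agent.Lib.DegTensor54.euler_congr k (rightUnitor L)] at h
  unfold Curv2.deg
  exact h

end Groth.Agent.Lib.DetDeg42
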