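import Groth.Prelude.Def_PolLaw
import Mathlib.LinearAlgebra.TensorProduct.RightExactness
import Mathlib.RingTheory.Flat.Basic

set_option autoImplicit false
universe u v
open scoped TensorProduct

namespace Groth.Agent.Lib.PolLaw23

/-- A commutative semiring that is an algebra over a commutative ring is a commutative ring. -/
theorem exists_commRing (A : Type u) [CommRing A] (S : Type v) [instS : CommSemiring S] [Algebra A S] :
    ∃ inst : CommRing S, inst.toCommSemiring = instS := by
  have key : ∀ s : S, algebraMap A S (-1) * s + s = 0 := fun s => by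
    have : algebraMap A S (-1) * s + s = (algebraMap A S (-1) + algebraMap A S 1) * s := by
      rw [map_one]; ring
    rw [this, ← map_add]
    simp
  refine ⟨{ instS with
      neg := fun s => algebraMap A S (-1) * s
      sub := fun a b => a + algebraMap A S (-1) * b
      sub_eq_add_neg := fun a b => rfl
      zsmul := fun n s => match n with
        | Int.ofNat k => k • s
        | Int.negSucc k => algebraMap A S (-1) * ((k + 1) • s)
      zsmul_zero' := fun s => zero_nsmul s
      zsmul_succ' := fun n s => succ_nsmul s n
      zsmul_neg' := fun n s => rfl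
      neg_add_cancel := key }, rfl⟩

/-- To prove a statement for all semiring test algebras it suffices to prove it for all ring test algebras. -/
theorem forall_semiring_of_forall_ring {A : Type u} [CommRing A]
    (P : ∀ (S : Type v) [CommSemiring S] [Algebra A S], Prop)
    (h : ∀ (S : Type v) [CommRing S] [Algebra A S], P S)
    (S : Type v) [instS : CommSemiring S] [instA : Algebra A S] : P S := by
  obtain ⟨inst, rfl⟩ := exists_commRing A S
  exact h S

section Desc

variable {A : Type u} [CommRing A] {M M' N : Type u} [AddCommGroup M] [Module A M]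
  [AddCommGroup M'] [Module A M'] [AddCommGroup N] [Module A N]

/-- The law `F` is constant on the fibres of `S ⊗ π`. -/
def DescOn (F : M →ₚₗ[A] N) (π : M →ₗ[A] M') (S : Type u) [CommSemiring S] [Algebra A S] : Prop :=
  ∀ y y' : S ⊗[A] M, π.lTensor S y = π.lTensor S y' → F.toFun' S y = F.toFun' S y'

theorem descOn_ring_of_poly (F : M →ₚₗ[A] N) (π : M →ₗ[A] M') (hπ : Function.Surjective π)
    (hpoly : ∀ n : ℕ, DescOn F π (MvPolynomial (Fin n) A))
    (S : Type u) [CommRing S] [Algebra A S] : DescOn F π S := by
  intro y y' hyy'
  set K := LinearMap.ker π with hK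
  have hex : Function.Exact (K.subtype.lTensor S) (π.lTensor S) :=
    lTensor_exact S (LinearMap.exact_subtype_ker_map π) hπ
  have hmem : π.lTensor S (y' - y) = 0 := by rw [map_sub, hyy', sub_self]
  obtain ⟨w, hw⟩ := (hex (y' - y)).1 hmem
  set t : S ⊗[A] (M × K) := (LinearMap.inl A M K).lTensor S y + (LinearMap.inr A M K).lTensor S w
  obtain ⟨n, ψ, p, hp⟩ := PolynomialLaw.exists_lift t
  set P := MvPolynomial (Fin n) A
  set Y : P ⊗[A] M := (LinearMap.fst A M K).lTensor P p
  set W : P ⊗[A] K := (LinearMap.snd A M K).lTensor P p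
  have hY : ψ.toLinearMap.rTensor M Y = y := by
    show ψ.toLinearMap.rTensor M ((LinearMap.fst A M K).lTensor P p) = y
    rw [← LinearMap.comp_apply, LinearMap.rTensor_comp_lTensor, ← LinearMap.lTensor_comp_rTensor,
      LinearMap.comp_apply, hp]
    simp only [t, map_add, ← LinearMap.comp_apply, ← LinearMap.lTensor_comp]
    simp
  have hW : ψ.toLinearMap.rTensor K W = w := by
    show ψ.toLinearMap.rTensor K ((LinearMap.snd A M K).lTensor P p) = w
    rw [← LinearMap.comp_apply, LinearMap.rTensor_comp_lTensor, ← LinearMap.lTensor_comp_rTensor,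
      LinearMap.comp_apply, hp]
    simp only [t, map_add, ← LinearMap.comp_apply, ← LinearMap.lTensor_comp]
    simp
  set Y' : P ⊗[A] M := Y + K.subtype.lTensor P W
  have hY' : ψ.toLinearMap.rTensor M Y' = y' := by
    show ψ.toLinearMap.rTensor M (Y + K.subtype.lTensor P W) = y'
    rw [map_add, hY, ← LinearMap.comp_apply, LinearMap.rTensor_comp_lTensor,
      ← LinearMap.lTensor_comp_rTensor, LinearMap.comp_apply, hW, hw]
    abel
  have hπY : π.lTensor P Y = π.lTensor P Y' := by
    show π.lTensor P Y = π.lTensor P (Y + K.subtype.lTensor P W)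
    have h0 : π.lTensor P (K.subtype.lTensor P W) = 0 := by
      rw [← LinearMap.comp_apply, ← LinearMap.lTensor_comp]
      have : π ∘ₗ K.subtype = 0 := by
        ext x; exact x.2
      rw [this]; simp
    rw [map_add, h0, add_zero]
  have := hpoly n Y Y' hπY
  rw [← hY, ← hY', ← PolynomialLaw.isCompat_apply', ← PolynomialLaw.isCompat_apply', this]

theorem descOn_of_poly (F : M →ₚₗ[A] N) (π : M →ₗ[A] M') (hπ : Function.Surjective π)
    (hpoly : ∀ n : ℕ, DescOn F π (MvPolynomial (Fin n) A))
    (S : Type u) [CommSemiring S] [Algebra A S] : DescOn F π S :=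
  forall_semiring_of_forall_ring
    (fun S instS instA => @DescOn A _ M M' N _ _ _ _ _ _ F π S instS instA)
    (fun S _ _ => descOn_ring_of_poly F π hπ hpoly S) S

end Desc


section DescLaw

variable {A : Type u} [CommRing A] {M M' N : Type u} [AddCommGroup M] [Module A M]
  [AddCommGroup M'] [Module A M'] [AddCommGroup N] [Module A N]

/-- The law on `M'` induced by a law on `M` that is constant on the fibres of a surjection `π : M → M'`. -/
noncomputable def descLaw (F : M →ₚₗ[A] N) (π : M →ₗ[A] M') (hπ : Function.Surjective π)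
    (hF : ∀ (S : Type u) [CommSemiring S] [Algebra A S], DescOn F π S) : M' →ₚₗ[A] N where
  toFun' S _ _ x := F.toFun' S (Function.surjInv (LinearMap.lTensor_surjective S hπ) x)
  isCompat' {S} _ _ {S'} _ _ φ := by
    funext x
    simp only [Function.comp_apply]
    rw [F.isCompat_apply']
    apply hF
    rw [Function.surjInv_eq (LinearMap.lTensor_surjective S' hπ), ← LinearMap.comp_apply,
      LinearMap.lTensor_comp_rTensor,
      ← LinearMap.rTensor_comp_lTensor, LinearMap.comp_apply,
      Function.surjInv_eq (LinearMap.lTensor_surjective S hπ)]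

theorem descLaw_apply (F : M →ₚₗ[A] N) (π : M →ₗ[A] M') (hπ : Function.Surjective π)
    (hF : ∀ (S : Type u) [CommSemiring S] [Algebra A S], DescOn F π S)
    (S : Type u) [CommSemiring S] [Algebra A S] (y : S ⊗[A] M) :
    (descLaw F π hπ hF).toFun' S (π.lTensor S y) = F.toFun' S y := by
  show F.toFun' S _ = _
  apply hF
  rw [Function.surjInv_eq (LinearMap.lTensor_surjective S hπ)]

end DescLaw

end Groth.Agent.Lib.PolLaw23
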