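import Mathlib.RingTheory.PolynomialLaw.Basic
import Mathlib.RingTheory.MvPolynomial.Basic
import Mathlib.LinearAlgebra.TensorProduct.RightExactness
import Groth.Agent.Lib.PolLaw23

set_option autoImplicit false
universe u v w
open scoped TensorProduct
open MvPolynomial

namespace Groth.Agent.Lib.PolLawExt23

variable {A : Type u} [CommRing A] {M : Type v} [AddCommGroup M] [Module A M]
  {N : Type w} [AddCommGroup N] [Module A N]

/-- A family of maps on the polynomial rings compatible with all algebra maps between them. -/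
def IsCompatFamily (T : ∀ n : ℕ, MvPolynomial (Fin n) A ⊗[A] M → MvPolynomial (Fin n) A ⊗[A] N) : Prop :=
  ∀ (n m : ℕ) (φ : MvPolynomial (Fin n) A →ₐ[A] MvPolynomial (Fin m) A),
    φ.toLinearMap.rTensor N ∘ T n = T m ∘ φ.toLinearMap.rTensor M

variable {T : ∀ n : ℕ, MvPolynomial (Fin n) A ⊗[A] M → MvPolynomial (Fin n) A ⊗[A] N}

theorem IsCompatFamily.apply (hT : IsCompatFamily T) {n m : ℕ}
    (φ : MvPolynomial (Fin n) A →ₐ[A] MvPolynomial (Fin m) A) (p : MvPolynomial (Fin n) A ⊗[A] M) :
    φ.toLinearMap.rTensor N (T n p) = T m (φ.toLinearMap.rTensor M p) :=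
  congrFun (hT n m φ) p

theorem rTensor_comp_apply' {P Q S : Type*} [CommSemiring P] [CommSemiring Q] [CommSemiring S]
    [Algebra A P] [Algebra A Q] [Algebra A S] (L : Type*) [AddCommGroup L] [Module A L]
    (g : Q →ₐ[A] S) (f : P →ₐ[A] Q) (x : P ⊗[A] L) :
    (g.comp f).toLinearMap.rTensor L x = g.toLinearMap.rTensor L (f.toLinearMap.rTensor L x) := by
  rw [AlgHom.comp_toLinearMap, LinearMap.rTensor_comp, LinearMap.comp_apply]

/-- Roby's trick, one step. -/
theorem roby_step (hT : IsCompatFamily T) {r : ℕ} {S : Type u} [CommRing S] [Algebra A S]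
    (θ : MvPolynomial (Fin r) A →ₐ[A] S) (j : MvPolynomial (Fin r) A) (hj : θ j = 0) (m : M)
    (q : MvPolynomial (Fin r) A ⊗[A] M) :
    θ.toLinearMap.rTensor N (T r (q + j ⊗ₜ[A] m)) = θ.toLinearMap.rTensor N (T r q) := by
  let i : MvPolynomial (Fin r) A →ₐ[A] MvPolynomial (Fin (r + 1)) A := rename Fin.castSucc
  let e : MvPolynomial (Fin r) A → (MvPolynomial (Fin (r + 1)) A →ₐ[A] MvPolynomial (Fin r) A) :=
    fun c => aeval (Fin.snoc (α := fun _ => MvPolynomial (Fin r) A) (fun k => X k) c)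
  have hei : ∀ c, (e c).comp i = AlgHom.id A _ := by
    intro c
    apply MvPolynomial.algHom_ext
    intro k
    simp [e, i]
  have helast : ∀ c, e c (X (Fin.last r)) = c := by
    intro c
    simp [e]
  have hθe : θ.comp (e j) = θ.comp (e 0) := by
    apply MvPolynomial.algHom_ext
    intro k
    refine Fin.lastCases ?_ (fun k => ?_) k
    · simp [e, hj]
    · simp [e]
  set Xel : MvPolynomial (Fin (r + 1)) A ⊗[A] M :=
    i.toLinearMap.rTensor M q + (X (Fin.last r)) ⊗ₜ[A] m with hXel
  have hXc : ∀ c, (e c).toLinearMap.rTensor M Xel = q + c ⊗ₜ[A] m := by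
    intro c
    rw [hXel, map_add, ← rTensor_comp_apply', hei]
    simp [helast]
  have h1 : ∀ c, θ.toLinearMap.rTensor N (T r (q + c ⊗ₜ[A] m)) =
      (θ.comp (e c)).toLinearMap.rTensor N (T (r + 1) Xel) := by
    intro c
    rw [rTensor_comp_apply', hT.apply, hXc]
  have h0 : q = q + (0 : MvPolynomial (Fin r) A) ⊗ₜ[A] m := by simp
  rw [h1 j, hθe, ← h1 0, ← h0]


/-- Well-definedness for a surjective presentation. -/
theorem eq_of_surjective (hT : IsCompatFamily T) {r : ℕ} {S : Type u} [CommRing S] [Algebra A S]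
    (θ : MvPolynomial (Fin r) A →ₐ[A] S) (hθ : Function.Surjective θ)
    (p q : MvPolynomial (Fin r) A ⊗[A] M)
    (h : θ.toLinearMap.rTensor M p = θ.toLinearMap.rTensor M q) :
    θ.toLinearMap.rTensor N (T r p) = θ.toLinearMap.rTensor N (T r q) := by
  set J := LinearMap.ker θ.toLinearMap with hJ
  have hex : Function.Exact (J.subtype.rTensor M) (θ.toLinearMap.rTensor M) :=
    rTensor_exact M (LinearMap.exact_subtype_ker_map θ.toLinearMap) hθ
  have hmem : θ.toLinearMap.rTensor M (p - q) = 0 := by rw [map_sub, h, sub_self]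
  obtain ⟨w, hw⟩ := (hex (p - q)).1 hmem
  have key : ∀ (w : J ⊗[A] M) (q : MvPolynomial (Fin r) A ⊗[A] M),
      θ.toLinearMap.rTensor N (T r (q + J.subtype.rTensor M w)) = θ.toLinearMap.rTensor N (T r q) := by
    intro w
    induction w using TensorProduct.induction_on with
    | zero => intro q; simp
    | tmul j m =>
      intro q
      exact roby_step hT θ j.1 j.2 m q
    | add w₁ w₂ h₁ h₂ =>
      intro q
      rw [map_add, ← add_assoc, h₂, h₁]
  have : p = q + J.subtype.rTensor M w := by rw [hw]; abel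
  rw [this, key]

/-- Well-definedness for an arbitrary map from a polynomial ring. -/
theorem eq_of_rTensor_eq (hT : IsCompatFamily T) {r : ℕ} {S : Type u} [CommRing S] [Algebra A S]
    (θ : MvPolynomial (Fin r) A →ₐ[A] S) (p q : MvPolynomial (Fin r) A ⊗[A] M)
    (h : θ.toLinearMap.rTensor M p = θ.toLinearMap.rTensor M q) :
    θ.toLinearMap.rTensor N (T r p) = θ.toLinearMap.rTensor N (T r q) := by
  classical
  have hfg : θ.range.FG := by
    rw [← Algebra.map_top]
    exact Subalgebra.FG.map _ Algebra.FiniteType.out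
  have h' : θ.range.val.toLinearMap.rTensor M (θ.rangeRestrict.toLinearMap.rTensor M p) =
      θ.range.val.toLinearMap.rTensor M (θ.rangeRestrict.toLinearMap.rTensor M q) := by
    rw [← rTensor_comp_apply', ← rTensor_comp_apply', AlgHom.val_comp_rangeRestrict, h]
  obtain ⟨B, hAB, ⟨t, ht⟩, hB⟩ := TensorProduct.Algebra.eq_of_fg_of_subtype_eq hfg h'
  -- a surjection from a bigger polynomial ring onto `B`
  let k := t.card
  have htB : ∀ x : t, (x : S) ∈ B := fun x => by
    rw [← ht]; exact Algebra.subset_adjoin x.2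
  let gen : Fin k → B := fun a => ⟨(t.equivFin.symm a : S), htB _⟩
  let θ₁ : MvPolynomial (Fin (r + k)) A →ₐ[A] B :=
    aeval (Fin.addCases (fun a => (Subalgebra.inclusion hAB) (θ.rangeRestrict (X a))) gen)
  let i : MvPolynomial (Fin r) A →ₐ[A] MvPolynomial (Fin (r + k)) A := rename (Fin.castAdd k)
  have hθ₁i : θ₁.comp i = (Subalgebra.inclusion hAB).comp θ.rangeRestrict := by
    apply MvPolynomial.algHom_ext
    intro a
    simp [θ₁, i]
  have hval : (B.val.comp θ₁).comp i = θ := by
    rw [AlgHom.comp_assoc, hθ₁i]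
    ext a; rfl
  have hsurj : Function.Surjective θ₁ := by
    have key : ∀ b : S, b ∈ Algebra.adjoin A (t : Set S) → ∃ f, ((θ₁ f : B) : S) = b := by
      intro b hb
      induction hb using Algebra.adjoin_induction with
      | mem x hx =>
        refine ⟨X (Fin.natAdd r (t.equivFin ⟨x, hx⟩)), ?_⟩
        simp [θ₁, gen]
      | algebraMap a => exact ⟨C a, by simp [θ₁]⟩
      | add x y _ _ hx hy =>
        obtain ⟨f, hf⟩ := hx
        obtain ⟨g, hg⟩ := hy
        exact ⟨f + g, by rw [map_add, Subalgebra.coe_add, hf, hg]⟩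
      | mul x y _ _ hx hy =>
        obtain ⟨f, hf⟩ := hx
        obtain ⟨g, hg⟩ := hy
        exact ⟨f * g, by rw [map_mul, Subalgebra.coe_mul, hf, hg]⟩
    intro b
    obtain ⟨f, hf⟩ := key b.1 (by rw [ht]; exact b.2)
    exact ⟨f, Subtype.ext hf⟩
  have h1 : θ₁.toLinearMap.rTensor M (i.toLinearMap.rTensor M p) =
      θ₁.toLinearMap.rTensor M (i.toLinearMap.rTensor M q) := by
    rw [← rTensor_comp_apply', ← rTensor_comp_apply', hθ₁i, rTensor_comp_apply', rTensor_comp_apply', hB]
  have h2 := eq_of_surjective hT θ₁ hsurj _ _ h1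
  rw [← hT.apply, ← hT.apply, ← rTensor_comp_apply', ← rTensor_comp_apply'] at h2
  have h3 := congrArg (B.val.toLinearMap.rTensor N) h2
  rw [← rTensor_comp_apply', ← rTensor_comp_apply', ← AlgHom.comp_assoc, hval] at h3
  exact h3


/-- Two lifts of the same element give the same value. -/
def WD (T : ∀ n : ℕ, MvPolynomial (Fin n) A ⊗[A] M → MvPolynomial (Fin n) A ⊗[A] N)
    (S : Type u) [CommSemiring S] [Algebra A S] : Prop :=
  ∀ (n m : ℕ) (ψ : MvPolynomial (Fin n) A →ₐ[A] S) (χ : MvPolynomial (Fin m) A →ₐ[A] S)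
    (p : MvPolynomial (Fin n) A ⊗[A] M) (q : MvPolynomial (Fin m) A ⊗[A] M),
    ψ.toLinearMap.rTensor M p = χ.toLinearMap.rTensor M q →
    ψ.toLinearMap.rTensor N (T n p) = χ.toLinearMap.rTensor N (T m q)

/-- Well-definedness: two lifts of the same element give the same value (ring test algebra). -/
theorem wd_ring (hT : IsCompatFamily T) (S : Type u) [CommRing S] [Algebra A S] : WD T S := by
  intro n m ψ χ p q h
  let θ : MvPolynomial (Fin (n + m)) A →ₐ[A] S :=
    aeval (Fin.addCases (fun a => ψ (X a)) (fun b => χ (X b)))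
  let i₁ : MvPolynomial (Fin n) A →ₐ[A] MvPolynomial (Fin (n + m)) A := rename (Fin.castAdd m)
  let i₂ : MvPolynomial (Fin m) A →ₐ[A] MvPolynomial (Fin (n + m)) A := rename (Fin.natAdd n)
  have h₁ : θ.comp i₁ = ψ := by
    apply MvPolynomial.algHom_ext
    intro a
    simp [θ, i₁]
  have h₂ : θ.comp i₂ = χ := by
    apply MvPolynomial.algHom_ext
    intro a
    simp [θ, i₂]
  have h3 : θ.toLinearMap.rTensor M (i₁.toLinearMap.rTensor M p) =
      θ.toLinearMap.rTensor M (i₂.toLinearMap.rTensor M q) := by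
    rw [← rTensor_comp_apply', ← rTensor_comp_apply', h₁, h₂, h]
  have h4 := eq_of_rTensor_eq hT θ _ _ h3
  rw [← hT.apply, ← hT.apply, ← rTensor_comp_apply', ← rTensor_comp_apply', h₁, h₂] at h4
  exact h4

/-- Well-definedness for semiring test algebras. -/
theorem wd (hT : IsCompatFamily T) (S : Type u) [CommSemiring S] [Algebra A S] : WD T S :=
  Groth.Agent.Lib.PolLaw23.forall_semiring_of_forall_ring
    (fun S instS instA => @WD A _ M _ _ N _ _ T S instS instA)
    (fun S _ _ => wd_ring hT S) S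

theorem exists_val (T : ∀ n : ℕ, MvPolynomial (Fin n) A ⊗[A] M → MvPolynomial (Fin n) A ⊗[A] N)
    (S : Type u) [CommSemiring S] [Algebra A S] (x : S ⊗[A] M) :
    ∃ y : S ⊗[A] N, ∃ (n : ℕ) (ψ : MvPolynomial (Fin n) A →ₐ[A] S)
      (p : MvPolynomial (Fin n) A ⊗[A] M), ψ.toLinearMap.rTensor M p = x ∧
        y = ψ.toLinearMap.rTensor N (T n p) := by
  obtain ⟨n, ψ, p, hp⟩ := PolynomialLaw.exists_lift (R := A) x
  exact ⟨_, n, ψ, p, hp, rfl⟩

/-- The polynomial law extending a compatible family on the polynomial rings. -/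
noncomputable def extLaw (T : ∀ n : ℕ, MvPolynomial (Fin n) A ⊗[A] M → MvPolynomial (Fin n) A ⊗[A] N)
    (hT : IsCompatFamily T) : M →ₚₗ[A] N where
  toFun' S _ _ x := Classical.choose (exists_val T S x)
  isCompat' {S} _ _ {S'} _ _ φ := by
    funext x
    simp only [Function.comp_apply]
    obtain ⟨n, ψ, p, hp, hy⟩ := Classical.choose_spec (exists_val T S x)
    obtain ⟨n', ψ', p', hp', hy'⟩ := Classical.choose_spec (exists_val T S' (φ.toLinearMap.rTensor M x))
    rw [hy, hy', ← rTensor_comp_apply']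
    apply wd hT S'
    rw [rTensor_comp_apply', hp, hp']

theorem extLaw_apply (hT : IsCompatFamily T) (S : Type u) [CommSemiring S] [Algebra A S] {n : ℕ}
    (ψ : MvPolynomial (Fin n) A →ₐ[A] S) (p : MvPolynomial (Fin n) A ⊗[A] M) :
    (extLaw T hT).toFun' S (ψ.toLinearMap.rTensor M p) = ψ.toLinearMap.rTensor N (T n p) := by
  obtain ⟨n', ψ', p', hp', hy'⟩ := Classical.choose_spec (exists_val T S (ψ.toLinearMap.rTensor M p))
  show Classical.choose (exists_val T S (ψ.toLinearMap.rTensor M p)) = _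
  rw [hy']
  exact wd hT S _ _ _ _ _ _ hp'

theorem extLaw_poly (hT : IsCompatFamily T) (n : ℕ) (p : MvPolynomial (Fin n) A ⊗[A] M) :
    (extLaw T hT).toFun' (MvPolynomial (Fin n) A) p = T n p := by
  have := extLaw_apply hT (MvPolynomial (Fin n) A) (AlgHom.id A _) p
  simpa using this

/-- A polynomial law is determined by its values on the polynomial rings. -/
theorem ext_of_poly (F G : M →ₚₗ[A] N)
    (h : ∀ n : ℕ, F.toFun' (MvPolynomial (Fin n) A) = G.toFun' (MvPolynomial (Fin n) A)) : F = G := by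
  ext S _ _ x
  obtain ⟨n, ψ, p, rfl⟩ := PolynomialLaw.exists_lift (R := A) x
  rw [← F.isCompat_apply', ← G.isCompat_apply', h]

end Groth.Agent.Lib.PolLawExt23
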