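import Groth.Prelude.Def_PolLaw2
import Groth.Agent.Lib.PolLaw23
import Groth.Agent.Lib.PolLawExt23
import Mathlib.RingTheory.Flat.Basic

set_option autoImplicit false
universe u
open scoped TensorProduct
open MvPolynomial

namespace Groth.Agent.Lib.PolLawGen23

open Groth.Agent.Lib.PolLaw23 Groth.Agent.Lib.PolLawExt23

variable {A : Type u} [CommRing A] {B C : Type u} [CommRing B] [Algebra A B] [CommRing C] [Algebra A C]

theorem postcomp_toFun' {M N P : Type u} [AddCommGroup M] [Module A M]
    [AddCommGroup N] [Module A N] [AddCommGroup P] [Module A P] (g : N →ₗ[A] P) (F : M →ₚₗ[A] N)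
    (S : Type u) [CommSemiring S] [Algebra A S] (x : S ⊗[A] M) :
    (PolLaw.postcomp g F).toFun' S x = g.lTensor S (F.toFun' S x) := rfl

theorem precomp_toFun' {M N P : Type u} [AddCommGroup M] [Module A M]
    [AddCommGroup N] [Module A N] [AddCommGroup P] [Module A P] (F : N →ₚₗ[A] P) (g : M →ₗ[A] N)
    (S : Type u) [CommSemiring S] [Algebra A S] (x : S ⊗[A] M) :
    (PolLaw.precomp F g).toFun' S x = F.toFun' S (g.lTensor S x) := rfl

/-- A law that is multiplicative over the polynomial rings is multiplicative. -/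
theorem isMult_of_poly (F : B →ₚₗ[A] C)
    (h1 : ∀ n : ℕ, F.toFun' (MvPolynomial (Fin n) A) 1 = 1)
    (hmul : ∀ (n : ℕ) (x y : MvPolynomial (Fin n) A ⊗[A] B),
      F.toFun' (MvPolynomial (Fin n) A) (x * y) =
        F.toFun' (MvPolynomial (Fin n) A) x * F.toFun' (MvPolynomial (Fin n) A) y) :
    PolLaw.IsMult F := by
  intro S _ _
  constructor
  · let Ψ : MvPolynomial (Fin 0) A →ₐ[A] S := MvPolynomial.aeval (fun _ => (0 : S))
    have h := PolynomialLaw.isCompat_apply' (f := F) Ψ (1 : MvPolynomial (Fin 0) A ⊗[A] B)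
    rw [h1 0, PolLaw.rTensor_algHom_apply, PolLaw.rTensor_algHom_apply, map_one, map_one] at h
    exact h.symm
  · intro x y
    obtain ⟨n, ψ, p, hp⟩ := PolynomialLaw.exists_lift (R := A) x
    obtain ⟨n', ψ', p', hp'⟩ := PolynomialLaw.exists_lift (R := A) y
    let ι₁ : MvPolynomial (Fin n) A →ₐ[A] MvPolynomial (Fin (n + n')) A :=
      MvPolynomial.rename (Fin.castAdd n')
    let ι₂ : MvPolynomial (Fin n') A →ₐ[A] MvPolynomial (Fin (n + n')) A :=
      MvPolynomial.rename (Fin.natAdd n)
    let Ψ : MvPolynomial (Fin (n + n')) A →ₐ[A] S :=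
      MvPolynomial.aeval (Fin.addCases (fun i => ψ (MvPolynomial.X i)) (fun i => ψ' (MvPolynomial.X i)))
    have hΨ₁ : Ψ.comp ι₁ = ψ := by
      apply MvPolynomial.algHom_ext
      intro i
      simp [Ψ, ι₁]
    have hΨ₂ : Ψ.comp ι₂ = ψ' := by
      apply MvPolynomial.algHom_ext
      intro i
      simp [Ψ, ι₂]
    set x' := ι₁.toLinearMap.rTensor B p with hx'
    set y' := ι₂.toLinearMap.rTensor B p' with hy'
    have hxx : Ψ.toLinearMap.rTensor B x' = x := by
      rw [hx', ← rTensor_comp_apply', hΨ₁, hp]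
    have hyy : Ψ.toLinearMap.rTensor B y' = y := by
      rw [hy', ← rTensor_comp_apply', hΨ₂, hp']
    have e1 := PolynomialLaw.isCompat_apply' (f := F) Ψ (x' * y')
    have e2 := PolynomialLaw.isCompat_apply' (f := F) Ψ x'
    have e3 := PolynomialLaw.isCompat_apply' (f := F) Ψ y'
    have hm : Ψ.toLinearMap.rTensor B (x' * y') = x * y := by
      rw [PolLaw.rTensor_algHom_apply, map_mul, ← PolLaw.rTensor_algHom_apply,
        ← PolLaw.rTensor_algHom_apply, hxx, hyy]
    rw [hm] at e1
    rw [hxx] at e2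
    rw [hyy] at e3
    rw [← e1, hmul, PolLaw.rTensor_algHom_apply, map_mul, ← PolLaw.rTensor_algHom_apply,
      ← PolLaw.rTensor_algHom_apply, e2, e3]

/-- A law that is homogeneous of degree `d` over the polynomial rings is homogeneous of degree `d`. -/
theorem isHomog_of_poly (F : B →ₚₗ[A] C) (d : ℕ)
    (h : ∀ (n : ℕ) (s : MvPolynomial (Fin n) A) (x : MvPolynomial (Fin n) A ⊗[A] B),
      F.toFun' (MvPolynomial (Fin n) A) (s • x) = s ^ d • F.toFun' (MvPolynomial (Fin n) A) x) :
    PolLaw.IsHomog F d := by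
  intro S _ _ s x
  obtain ⟨n, ψ, p, q, hp, hq⟩ := PolynomialLaw.exists_lift' (R := A) x s
  have hsm : ∀ (L : Type u) [CommRing L] [Algebra A L] (q : MvPolynomial (Fin n) A)
      (y : MvPolynomial (Fin n) A ⊗[A] L),
      ψ.toLinearMap.rTensor L (q • y) = ψ q • ψ.toLinearMap.rTensor L y := by
    intro L _ _ q y
    induction y using TensorProduct.induction_on with
    | zero => simp
    | tmul a b => simp [TensorProduct.smul_tmul']
    | add a b ha hb => simp only [smul_add, map_add, ha, hb]
  rw [← hp, ← hq, ← hsm, ← PolynomialLaw.isCompat_apply', h, hsm, map_pow,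
    PolynomialLaw.isCompat_apply']


section Cores

variable {d : ℕ}

theorem lTensor_val_injective (C₀ : Subalgebra A C) (n : ℕ) :
    Function.Injective (C₀.val.toLinearMap.lTensor (MvPolynomial (Fin n) A)) :=
  Module.Flat.lTensor_preserves_injective_linearMap _ Subtype.val_injective

theorem lTensor_rTensor_comm {S S' : Type u} [CommSemiring S] [Algebra A S] [CommSemiring S'] [Algebra A S']
    {N N' : Type u} [AddCommGroup N] [Module A N] [AddCommGroup N'] [Module A N']
    (φ : S →ₐ[A] S') (g : N →ₗ[A] N') (x : S ⊗[A] N) :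
    g.lTensor S' (φ.toLinearMap.rTensor N x) = φ.toLinearMap.rTensor N' (g.lTensor S x) := by
  rw [← LinearMap.comp_apply, ← LinearMap.comp_apply, LinearMap.lTensor_comp_rTensor,
    LinearMap.rTensor_comp_lTensor]

/-- If the universal law takes values in (the image of) `P ⊗ C₀` over every polynomial ring `P`,
it is the composite of a multiplicative law into `C₀` with the inclusion. -/
theorem exists_cores (γ : PolLaw.MulLaw A B C d) (C₀ : Subalgebra A C)
    (h : ∀ (n : ℕ) (z : MvPolynomial (Fin n) A ⊗[A] B),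
      γ.law.toFun' (MvPolynomial (Fin n) A) z ∈
        LinearMap.range (C₀.val.toLinearMap.lTensor (MvPolynomial (Fin n) A))) :
    ∃ G : PolLaw.MulLaw A B C₀ d, PolLaw.postcomp C₀.val.toLinearMap G.law = γ.law := by
  classical
  let T : ∀ n : ℕ, MvPolynomial (Fin n) A ⊗[A] B → MvPolynomial (Fin n) A ⊗[A] C₀ :=
    fun n z => Classical.choose (h n z)
  have hTs : ∀ n z, C₀.val.toLinearMap.lTensor (MvPolynomial (Fin n) A) (T n z) =
      γ.law.toFun' (MvPolynomial (Fin n) A) z := fun n z => Classical.choose_spec (h n z)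
  have hT : IsCompatFamily T := by
    intro n m φ
    funext z
    simp only [Function.comp_apply]
    apply lTensor_val_injective C₀ m
    rw [lTensor_rTensor_comm, hTs, hTs, PolynomialLaw.isCompat_apply']
  let G₀ : B →ₚₗ[A] C₀ := extLaw T hT
  have hG₀ : ∀ n z, G₀.toFun' (MvPolynomial (Fin n) A) z = T n z := fun n z => extLaw_poly hT n z
  have hmult : PolLaw.IsMult G₀ := by
    apply isMult_of_poly
    · intro n
      apply lTensor_val_injective C₀ n
      rw [hG₀, hTs, (γ.mult _).1, PolLaw.lTensor_algHom_apply, map_one]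
    · intro n x y
      apply lTensor_val_injective C₀ n
      rw [hG₀, hG₀, hG₀, hTs, (γ.mult _).2, PolLaw.lTensor_algHom_apply, map_mul,
        ← PolLaw.lTensor_algHom_apply, ← PolLaw.lTensor_algHom_apply, hTs, hTs]
  have hhomog : PolLaw.IsHomog G₀ d := by
    apply isHomog_of_poly
    intro n s x
    apply lTensor_val_injective C₀ n
    rw [hG₀, hG₀, hTs, γ.homog, PolLaw.lTensor_algHom_apply, map_smul,
      ← PolLaw.lTensor_algHom_apply, hTs]
  refine ⟨⟨G₀, hhomog, hmult⟩, ?_⟩
  apply ext_of_poly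
  intro n
  funext z
  rw [postcomp_toFun']
  show C₀.val.toLinearMap.lTensor _ (G₀.toFun' _ z) = _
  rw [hG₀, hTs]

/-- Generation principle: a subalgebra of `Γ^d_A(B)` containing the values of the universal law over all
polynomial rings is everything. -/
theorem subalgebra_eq_top_of_isGammaD (γ : PolLaw.MulLaw A B C d) (hγ : PolLaw.IsGammaD γ)
    (C₀ : Subalgebra A C)
    (h : ∀ (n : ℕ) (z : MvPolynomial (Fin n) A ⊗[A] B),
      γ.law.toFun' (MvPolynomial (Fin n) A) z ∈
        LinearMap.range (C₀.val.toLinearMap.lTensor (MvPolynomial (Fin n) A))) :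
    C₀ = ⊤ := by
  obtain ⟨G, hG⟩ := exists_cores γ C₀ h
  obtain ⟨ψ, hψ, -⟩ := hγ C₀ G
  obtain ⟨f, -, hf⟩ := hγ C γ
  have h1 : C₀.val.comp ψ = f := by
    apply hf
    ext S _ _ x
    rw [postcomp_toFun']
    have : (C₀.val.comp ψ).toLinearMap = C₀.val.toLinearMap ∘ₗ ψ.toLinearMap := rfl
    rw [this, LinearMap.lTensor_comp, LinearMap.comp_apply, ← postcomp_toFun', hψ,
      ← postcomp_toFun', hG]
  have h2 : AlgHom.id A C = f := by
    apply hf
    ext S _ _ x
    rw [postcomp_toFun']
    have : (AlgHom.id A C).toLinearMap = LinearMap.id := rfl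
    rw [this, LinearMap.lTensor_id, LinearMap.id_apply]
  rw [eq_top_iff]
  intro c _
  have h3 : C₀.val (ψ c) = c := by
    have := congrArg (fun g : C →ₐ[A] C => g c) (h1.trans h2.symm)
    simpa using this
  rw [← h3]
  exact (ψ c).2

end Cores

end Groth.Agent.Lib.PolLawGen23
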