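import Mathlib
import Groth.Prelude.Def_PolLaw2
import Groth.Agent.Lib.PolLawExt23
import Groth.Agent.Lib.PolLawGen23

set_option autoImplicit false
universe u
open scoped TensorProduct

namespace Groth.Agent.Lib.DetProj75

/-! ### A general determinant lemma for retracts -/

section Retract

variable {R : Type*} [CommRing R] {F P : Type*} [AddCommGroup F] [Module R F] [Module.Free R F]
  [Module.Finite R F] [AddCommGroup P] [Module R P] [Module.Free R P] [Module.Finite R P]

theorem det_retract (p : F →ₗ[R] P) (i : P →ₗ[R] F) (h : p ∘ₗ i = LinearMap.id)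
    (g : Module.End R P) :
    LinearMap.det (i ∘ₗ g ∘ₗ p + 1 - i ∘ₗ p) = LinearMap.det g := by
  classical
  let bF := Module.Free.chooseBasis R F
  let bP := Module.Free.chooseBasis R P
  rw [← LinearMap.det_toMatrix bF, ← LinearMap.det_toMatrix bP]
  set I := LinearMap.toMatrix bP bF i with hI
  set G := LinearMap.toMatrix bP bP g with hG
  set Pm := LinearMap.toMatrix bF bP p with hPm
  have h1 : Pm * I = 1 := by
    rw [hPm, hI, ← LinearMap.toMatrix_comp, h, LinearMap.toMatrix_id]
  have h2 : LinearMap.toMatrix bF bF (i ∘ₗ g ∘ₗ p + 1 - i ∘ₗ p) = 1 + I * ((G - 1) * Pm) := by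
    rw [map_sub, map_add, LinearMap.toMatrix_comp bF bP bF, LinearMap.toMatrix_comp bF bP bP,
      LinearMap.toMatrix_comp bF bP bF, LinearMap.toMatrix_one]
    rw [Matrix.sub_mul, Matrix.mul_sub, Matrix.one_mul]
    abel
  rw [h2, Matrix.det_one_add_mul_comm, Matrix.mul_assoc, h1, Matrix.mul_one]
  congr 1
  abel

end Retract

/-! ### Base change of determinants of compatible endomorphisms -/

section Compat

variable {A : Type u} [CommRing A] (F : Type u) [AddCommGroup F] [Module A F] [Module.Free A F]
  [Module.Finite A F]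

theorem det_of_compat {S S' : Type u} [CommRing S] [Algebra A S] [CommRing S'] [Algebra A S']
    (φ : S →ₐ[A] S') (f : Module.End S (S ⊗[A] F)) (f' : Module.End S' (S' ⊗[A] F))
    (h : ∀ z, φ.toLinearMap.rTensor F (f z) = f' (φ.toLinearMap.rTensor F z)) :
    LinearMap.det f' = φ (LinearMap.det f) := by
  classical
  let bM := Module.Free.chooseBasis A F
  rw [← LinearMap.det_toMatrix (Algebra.TensorProduct.basis S' bM),
    ← LinearMap.det_toMatrix (Algebra.TensorProduct.basis S bM), AlgHom.map_det]
  congr 1
  ext i j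
  simp only [AlgHom.mapMatrix_apply, Matrix.map_apply, LinearMap.toMatrix_apply,
    Algebra.TensorProduct.basis_apply]
  rw [← PolLaw.basis_repr_rTensor F φ, h, LinearMap.rTensor_tmul, AlgHom.toLinearMap_apply,
    map_one]

theorem rTensor_baseChange {N N' : Type u} [AddCommGroup N] [Module A N] [AddCommGroup N']
    [Module A N'] {S S' : Type u} [CommRing S] [Algebra A S] [CommRing S'] [Algebra A S']
    (φ : S →ₐ[A] S') (g : N →ₗ[A] N') (w : S ⊗[A] N) :
    φ.toLinearMap.rTensor N' (g.baseChange S w) = g.baseChange S' (φ.toLinearMap.rTensor N w) := by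
  induction w using TensorProduct.induction_on with
  | zero => simp
  | tmul a b => simp
  | add a b ha hb => simp only [map_add, ha, hb]

end Compat

/-! ### The determinant of a finitely generated projective module with an action -/

section Main

variable (A : Type u) [CommRing A] {B : Type u} [CommRing B] [Algebra A B]
  (M : Type u) [AddCommGroup M] [Module A M] [Module B M] [IsScalarTower A B M]

/-- A presentation of `M` as a retract of a finite free module. -/
structure Pres where
  n : ℕ
  π : (Fin n → A) →ₗ[A] M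
  s : M →ₗ[A] (Fin n → A)
  hs : π ∘ₗ s = LinearMap.id

theorem nonempty_pres [Module.Finite A M] [Module.Projective A M] : Nonempty (Pres A M) := by
  obtain ⟨n, f, hf⟩ := Module.Finite.exists_fin' A M
  obtain ⟨s, hs⟩ := Module.projective_lifting_property f LinearMap.id hf
  exact ⟨⟨n, f, s, hs⟩⟩

variable {A M}
variable (P : Pres A M) (S : Type u) [CommRing S] [Algebra A S]

theorem Pres.π_s_apply (w : S ⊗[A] M) : P.π.baseChange S (P.s.baseChange S w) = w := by
  rw [← LinearMap.comp_apply, ← LinearMap.baseChange_comp, P.hs, LinearMap.baseChange_id,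
    LinearMap.id_apply]

/-- The (non-unital) action of `S ⊗ B` on the free module `S ⊗ A^n`. -/
noncomputable def Lam (x : S ⊗[A] B) : Module.End S (S ⊗[A] (Fin P.n → A)) :=
  (P.s.baseChange S) ∘ₗ (PolLaw.actEnd M S x) ∘ₗ (P.π.baseChange S)

theorem Lam_apply (x : S ⊗[A] B) (z : S ⊗[A] (Fin P.n → A)) :
    Lam P S x z = P.s.baseChange S (PolLaw.actEnd M S x (P.π.baseChange S z)) := rfl

theorem Lam_mul (x y : S ⊗[A] B) : Lam P S (x * y) = Lam P S x * Lam P S y := by
  apply LinearMap.ext
  intro z
  rw [Module.End.mul_apply, Lam_apply, Lam_apply, Lam_apply, P.π_s_apply, map_mul,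
    Module.End.mul_apply]

theorem Lam_one_apply (z : S ⊗[A] (Fin P.n → A)) :
    Lam P S (1 : S ⊗[A] B) z = P.s.baseChange S (P.π.baseChange S z) := by
  rw [Lam_apply, map_one, Module.End.one_apply]

theorem ring_key {R : Type*} [Ring R] (a b e : R) (h1 : a * e = a) (h2 : e * b = b)
    (h3 : e * e = e) : a * b + 1 - e = (a + 1 - e) * (b + 1 - e) := by
  simp only [add_mul, sub_mul, mul_add, mul_sub, one_mul, mul_one, h1, h2, h3]
  abel

/-- The determinant function. -/
noncomputable def D (x : S ⊗[A] B) : S :=
  LinearMap.det (Lam P S x + 1 - Lam P S (1 : S ⊗[A] B))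

theorem D_one : D P S (1 : S ⊗[A] B) = 1 := by
  unfold D
  have h : Lam P S (1 : S ⊗[A] B) + 1 - Lam P S (1 : S ⊗[A] B) = 1 := by abel
  rw [h, map_one]

theorem D_mul (x y : S ⊗[A] B) : D P S (x * y) = D P S x * D P S y := by
  unfold D
  rw [← map_mul]
  congr 1
  have h1 : Lam P S x * Lam P S (1 : S ⊗[A] B) = Lam P S x := by rw [← Lam_mul, mul_one]
  have h2 : Lam P S (1 : S ⊗[A] B) * Lam P S y = Lam P S y := by rw [← Lam_mul, one_mul]
  have h3 : Lam P S (1 : S ⊗[A] B) * Lam P S (1 : S ⊗[A] B) = Lam P S (1 : S ⊗[A] B) := by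
    rw [← Lam_mul, one_mul]
  rw [Lam_mul]
  exact ring_key (R := Module.End S (S ⊗[A] (Fin P.n → A))) _ _ _ h1 h2 h3

theorem D_map {S' : Type u} [CommRing S'] [Algebra A S'] (φ : S →ₐ[A] S') (x : S ⊗[A] B) :
    D P S' (φ.toLinearMap.rTensor B x) = φ (D P S x) := by
  unfold D
  apply det_of_compat (Fin P.n → A) φ
  intro z
  have hL : ∀ (y : S ⊗[A] B) (z : S ⊗[A] (Fin P.n → A)),
      φ.toLinearMap.rTensor _ (Lam P S y z) =
        Lam P S' (φ.toLinearMap.rTensor B y) (φ.toLinearMap.rTensor _ z) := by
    intro y z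
    rw [Lam_apply, Lam_apply, rTensor_baseChange, PolLaw.rTensor_actEnd, rTensor_baseChange,
      PolLaw.rTensor_algHom_apply φ y]
  have h1 : φ.toLinearMap.rTensor B (1 : S ⊗[A] B) = 1 := by
    rw [PolLaw.rTensor_algHom_apply, map_one]
  simp only [LinearMap.add_apply, LinearMap.sub_apply, Module.End.one_apply, map_add, map_sub, hL,
    h1]

theorem D_eq_detAct [Module.Free S (S ⊗[A] M)] [Module.Finite S (S ⊗[A] M)] (x : S ⊗[A] B) :
    D P S x = PolLaw.detAct M S x := by
  unfold D PolLaw.detAct
  have hps : P.π.baseChange S ∘ₗ P.s.baseChange S = LinearMap.id := by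
    rw [← LinearMap.baseChange_comp, P.hs, LinearMap.baseChange_id]
  have h := det_retract (P.π.baseChange S) (P.s.baseChange S) hps (PolLaw.actEnd M S x)
  have hE : Lam P S (1 : S ⊗[A] B) = P.s.baseChange S ∘ₗ P.π.baseChange S :=
    LinearMap.ext (Lam_one_apply P S)
  rw [← h, hE]
  rfl

/-- The family of determinant maps on the polynomial rings. -/
noncomputable def T (n : ℕ) (x : MvPolynomial (Fin n) A ⊗[A] B) :
    MvPolynomial (Fin n) A ⊗[A] A :=
  D P (MvPolynomial (Fin n) A) x ⊗ₜ[A] (1 : A)

theorem T_compat : PolLawExt23.IsCompatFamily (T (B := B) P) := by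
  intro n m φ
  funext x
  simp only [Function.comp_apply, T, LinearMap.rTensor_tmul, AlgHom.toLinearMap_apply, D_map]

/-- The determinant law of a finitely generated projective module with a `B`-action. -/
noncomputable def detLaw : B →ₚₗ[A] A := PolLawExt23.extLaw (T (B := B) P) (T_compat P)

theorem detLaw_apply (x : S ⊗[A] B) : (detLaw P).toFun' S x = D P S x ⊗ₜ[A] (1 : A) := by
  obtain ⟨n, ψ, p, rfl⟩ := PolynomialLaw.exists_lift (R := A) x
  rw [detLaw, PolLawExt23.extLaw_apply, T, LinearMap.rTensor_tmul, AlgHom.toLinearMap_apply, D_map]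

theorem detLaw_isMult : PolLaw.IsMult (detLaw (B := B) P) := by
  apply PolLawGen23.isMult_of_poly
  · intro n
    rw [detLaw_apply, D_one, Algebra.TensorProduct.one_def]
  · intro n x y
    rw [detLaw_apply, detLaw_apply, detLaw_apply, D_mul, Algebra.TensorProduct.tmul_mul_tmul,
      mul_one]

theorem free_of_local [Module.Finite A M] [Module.Projective A M] [IsLocalRing S] :
    Module.Free S (S ⊗[A] M) :=
  Module.free_of_flat_of_isLocalRing

theorem detLaw_local [Module.Finite A M] [Module.Projective A M] [IsLocalRing S]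
    (x : S ⊗[A] B) : (detLaw P).toFun' S x = PolLaw.detAct M S x ⊗ₜ[A] (1 : A) := by
  have := free_of_local (A := A) (M := M) S
  rw [detLaw_apply, D_eq_detAct]

end Main

/-! ### Uniqueness: laws are determined by their values on local test rings -/

section Uniq

variable {A : Type u} [CommRing A] {B : Type u} [CommRing B] [Algebra A B]

theorem rid_rTensor {S S' : Type u} [CommRing S] [Algebra A S] [CommRing S'] [Algebra A S']
    (φ : S →ₐ[A] S') (y : S ⊗[A] A) :
    TensorProduct.rid A S' (φ.toLinearMap.rTensor A y) = φ (TensorProduct.rid A S y) := by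
  induction y using TensorProduct.induction_on with
  | zero => simp
  | tmul a b => simp
  | add a b ha hb => simp only [map_add, ha, hb]

/-- An element of a ring is determined by its images in the localizations at all maximal ideals,
phrased with `A`-algebra maps. -/
theorem eq_of_localization {R : Type u} [CommRing R] [Algebra A R] (a b : R)
    (h : ∀ (J : Ideal R) (_ : J.IsMaximal),
      (IsScalarTower.toAlgHom A R (Localization.AtPrime J)) a =
        (IsScalarTower.toAlgHom A R (Localization.AtPrime J)) b) : a = b := by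
  rw [← sub_eq_zero]
  apply eq_zero_of_localization
  intro J hJ
  have := h J hJ
  rw [map_sub, sub_eq_zero]
  exact this

theorem ext_of_local (N N' : B →ₚₗ[A] A)
    (h : ∀ (S : Type u) [CommRing S] [IsLocalRing S] [Algebra A S] (x : S ⊗[A] B),
      N.toFun' S x = N'.toFun' S x) : N = N' := by
  apply PolLawExt23.ext_of_poly
  intro n
  funext x
  apply (TensorProduct.rid A (MvPolynomial (Fin n) A)).injective
  apply eq_of_localization (A := A)
  intro J hJ
  set φ := IsScalarTower.toAlgHom A (MvPolynomial (Fin n) A) (Localization.AtPrime J) with hφ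
  have h1 := N.isCompat_apply' φ x
  have h2 := N'.isCompat_apply' φ x
  have h3 := h (Localization.AtPrime J) (φ.toLinearMap.rTensor B x)
  rw [← rid_rTensor, ← rid_rTensor, h1, h2, h3]

end Uniq

section Homog

variable {A : Type u} [CommRing A] {B : Type u} [CommRing B] [Algebra A B]
  {M : Type u} [AddCommGroup M] [Module A M] [Module B M] [IsScalarTower A B M]
  [Module.Finite A M] [Module.Projective A M]

theorem finrank_local (d : ℕ) (hd : ∀ p : PrimeSpectrum A, Module.rankAtStalk M p = d)
    (S : Type u) [CommRing S] [IsLocalRing S] [Algebra A S] :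
    Module.finrank S (S ⊗[A] M) = d := by
  have := free_of_local (A := A) (M := M) S
  have h1 := congrFun (Module.rankAtStalk_eq_finrank_of_free (R := S) (M := S ⊗[A] M))
    (IsLocalRing.closedPoint S)
  rw [Module.rankAtStalk_baseChange, hd] at h1
  simpa using h1.symm

theorem detAct_smul_local (d : ℕ) (hd : ∀ p : PrimeSpectrum A, Module.rankAtStalk M p = d)
    (S : Type u) [CommRing S] [IsLocalRing S] [Algebra A S] (r : S) (x : S ⊗[A] B) :
    PolLaw.detAct M S (r • x) = r ^ d * PolLaw.detAct M S x := by
  have := free_of_local (A := A) (M := M) S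
  unfold PolLaw.detAct
  rw [map_smul, LinearMap.det_smul, finrank_local d hd]

theorem rTensor_smul {S S' : Type u} [CommRing S] [Algebra A S] [CommRing S'] [Algebra A S']
    (φ : S →ₐ[A] S') (r : S) (x : S ⊗[A] B) :
    φ.toLinearMap.rTensor B (r • x) = φ r • φ.toLinearMap.rTensor B x := by
  induction x using TensorProduct.induction_on with
  | zero => simp
  | tmul a b => simp [TensorProduct.smul_tmul']
  | add a b ha hb => simp only [smul_add, map_add, ha, hb]

theorem detLaw_isHomog (P : Pres A M) (d : ℕ)
    (hd : ∀ p : PrimeSpectrum A, Module.rankAtStalk M p = d) :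
    PolLaw.IsHomog (detLaw (B := B) P) d := by
  apply PolLawGen23.isHomog_of_poly
  intro n s x
  rw [detLaw_apply, detLaw_apply, TensorProduct.smul_tmul', smul_eq_mul]
  congr 1
  apply eq_of_localization (A := A)
  intro J hJ
  set φ := IsScalarTower.toAlgHom A (MvPolynomial (Fin n) A) (Localization.AtPrime J) with hφ
  have := free_of_local (A := A) (M := M) (Localization.AtPrime J)
  rw [map_mul, map_pow, ← D_map, ← D_map, D_eq_detAct, D_eq_detAct, rTensor_smul,
    detAct_smul_local d hd]

end Homog

end Groth.Agent.Lib.DetProj75
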