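import Mathlib
import Groth.Prelude.Def_PolLaw2
import Groth.Agent.Lib.PolLawExt23
import Groth.Agent.Lib.PolLawGen23
import Groth.Agent.Lib.DetProj75

set_option autoImplicit false
set_option linter.unusedSectionVars false
set_option linter.style.haveILetI false
universe u
open scoped TensorProduct

namespace Groth.Agent.Lib.DetGeneric75

/-! ### Integrality of the determinant of an integral endomorphism -/

section Integral

variable {R : Type*} [CommRing R] {L : Type*} [Field L] [Algebra R L]
  {W : Type*} [AddCommGroup W] [Module L W] [Module.Finite L W]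

open Polynomial in
theorem isIntegral_det (f : Module.End L W) (p : R[X]) (hp : p.Monic)
    (h : Polynomial.aeval f (p.map (algebraMap R L)) = 0) : IsIntegral R (LinearMap.det f) := by
  let Ω := AlgebraicClosure L
  rw [← isIntegral_algebraMap_iff (B := Ω) (FaithfulSMul.algebraMap_injective L Ω),
    ← LinearMap.det_baseChange,
    Module.End.det_eq_prod_roots_charpoly_of_splits (IsAlgClosed.splits _)]
  apply IsIntegral.multiset_prod
  intro μ hμ
  have hroot : (LinearMap.charpoly (f.baseChange Ω)).IsRoot μ := (Polynomial.mem_roots'.mp hμ).2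
  have hev := (Module.End.hasEigenvalue_iff_isRoot_charpoly (f.baseChange Ω) μ).mpr hroot
  obtain ⟨v, hv⟩ := hev.exists_hasEigenvector
  have h0 : Polynomial.aeval (f.baseChange Ω) ((p.map (algebraMap R L)).map (algebraMap L Ω)) = 0 := by
    rw [Polynomial.aeval_map_algebraMap]
    have := Polynomial.aeval_algHom_apply (Module.End.baseChangeHom L Ω W) f (p.map (algebraMap R L))
    rw [h, map_zero] at this
    exact this
  have h1 := Module.End.aeval_apply_of_hasEigenvector hv
    (p := (p.map (algebraMap R L)).map (algebraMap L Ω))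
  rw [h0, LinearMap.zero_apply] at h1
  have h2 : ((p.map (algebraMap R L)).map (algebraMap L Ω)).eval μ = 0 := by
    rcases smul_eq_zero.mp h1.symm with h | h
    · exact h
    · exact absurd h hv.2
  refine ⟨p, hp, ?_⟩
  rw [Polynomial.map_map, Polynomial.eval_map] at h2
  exact h2

end Integral

/-! ### Cayley–Hamilton transfer: the determinant over a field of an element coming from a ring
over which the module is finite is integral -/

section CH

variable {A : Type u} [CommRing A] {B : Type u} [CommRing B] [Algebra A B]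
  (M : Type u) [AddCommGroup M] [Module A M] [Module B M] [IsScalarTower A B M]
  {R : Type u} [CommRing R] [Algebra A R] {F : Type u} [Field F] [Algebra A F] [Algebra R F]
  [IsScalarTower A R F]

theorem actEnd_eq_zero_of (y : R ⊗[A] B) (hy : PolLaw.actEnd M R y = 0) :
    PolLaw.actEnd M F
      (Algebra.TensorProduct.map (IsScalarTower.toAlgHom A R F) (AlgHom.id A B) y) = 0 := by
  apply LinearMap.ext
  intro w
  induction w using TensorProduct.induction_on with
  | zero => simp
  | tmul l m =>
    have h1 : l ⊗ₜ[A] m =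
        l • ((IsScalarTower.toAlgHom A R F).toLinearMap.rTensor M ((1 : R) ⊗ₜ[A] m)) := by
      simp [TensorProduct.smul_tmul']
    rw [h1, map_smul, ← PolLaw.rTensor_actEnd, hy]
    simp
  | add a b ha hb => rw [map_add, ha, hb]; simp

theorem isIntegral_detAct [Module.Finite A M] (x : R ⊗[A] B) :
    IsIntegral R (PolLaw.detAct M F
      (Algebra.TensorProduct.map (IsScalarTower.toAlgHom A R F) (AlgHom.id A B) x)) := by
  obtain ⟨p, hp, h⟩ := LinearMap.exists_monic_and_aeval_eq_zero R (PolLaw.actEnd M R x)
  rw [Polynomial.aeval_algHom_apply] at h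
  have h2 := actEnd_eq_zero_of M (F := F) _ h
  unfold PolLaw.detAct
  apply isIntegral_det _ p hp
  rw [← h2, Polynomial.aeval_def, Polynomial.eval₂_map, Polynomial.aeval_def]
  set ι := Algebra.TensorProduct.map (IsScalarTower.toAlgHom A R F) (AlgHom.id A B) with hι
  have := Polynomial.hom_eval₂ p (algebraMap R (R ⊗[A] B))
    (((PolLaw.actEnd M F).toRingHom).comp ι.toRingHom) x
  change PolLaw.actEnd M F (ι (Polynomial.eval₂ (algebraMap R (R ⊗[A] B)) x p)) = _ at this
  rw [this]
  congr 1
  ext r : 1
  change _ = PolLaw.actEnd M F (ι (algebraMap R (R ⊗[A] B) r))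
  rw [Algebra.TensorProduct.algebraMap_apply, hι, Algebra.TensorProduct.map_tmul]
  simp only [RingHom.comp_apply, Algebra.algebraMap_self, RingHom.id_apply,
    IsScalarTower.coe_toAlgHom', AlgHom.coe_id, id_eq]
  rw [← (PolLaw.actEnd (B := B) M F).commutes (algebraMap R F r),
    Algebra.TensorProduct.algebraMap_apply]
  simp

end CH

/-! ### Determinants over algebras over a field `K` over which the module becomes free -/

section Semilin

variable {A : Type u} [CommRing A] {M : Type u} [AddCommGroup M] [Module A M]

theorem rTensor_smul' {S S' : Type u} [CommRing S] [Algebra A S] [CommRing S'] [Algebra A S']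
    (φ : S →ₐ[A] S') (r : S) (x : S ⊗[A] M) :
    φ.toLinearMap.rTensor M (r • x) = φ r • φ.toLinearMap.rTensor M x := by
  induction x using TensorProduct.induction_on with
  | zero => simp
  | tmul a b => simp [TensorProduct.smul_tmul']
  | add a b ha hb => simp only [smul_add, map_add, ha, hb]

end Semilin

section Tower

variable {A : Type u} [CommRing A] {B : Type u} [CommRing B] [Algebra A B]
  (M : Type u) [AddCommGroup M] [Module A M] [Module B M] [IsScalarTower A B M]
  (K : Type u) [Field K] [Algebra A K] [Module.Finite K (K ⊗[A] M)]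

variable (S : Type u) [CommRing S] [Algebra A S] [Algebra K S] [IsScalarTower A K S]

/-- The basis of `S ⊗ M` induced from the chosen basis of `K ⊗ M`. -/
noncomputable def bS : Module.Basis (Module.Free.ChooseBasisIndex K (K ⊗[A] M)) S (S ⊗[A] M) :=
  (Algebra.TensorProduct.basis S (Module.Free.chooseBasis K (K ⊗[A] M))).map
    (TensorProduct.AlgebraTensorModule.cancelBaseChange A K S S M)

omit [Module.Finite K (K ⊗[A] M)] in
theorem cancel_one_tmul (z : K ⊗[A] M) :
    TensorProduct.AlgebraTensorModule.cancelBaseChange A K S S M ((1 : S) ⊗ₜ[K] z) =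
      (IsScalarTower.toAlgHom A K S).toLinearMap.rTensor M z := by
  induction z using TensorProduct.induction_on with
  | zero => simp
  | tmul k m => simp [Algebra.smul_def]
  | add a b ha hb => rw [TensorProduct.tmul_add, map_add, map_add, ha, hb]

theorem bS_apply (i : Module.Free.ChooseBasisIndex K (K ⊗[A] M)) :
    bS M K S i = (IsScalarTower.toAlgHom A K S).toLinearMap.rTensor M
      (Module.Free.chooseBasis K (K ⊗[A] M) i) := by
  rw [bS, Module.Basis.map_apply, Algebra.TensorProduct.basis_apply, cancel_one_tmul]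

variable {S} {S' : Type u} [CommRing S'] [Algebra A S'] [Algebra K S'] [IsScalarTower A K S']

theorem rTensor_bS (ψ : S →ₐ[K] S') (i : Module.Free.ChooseBasisIndex K (K ⊗[A] M)) :
    (ψ.restrictScalars A).toLinearMap.rTensor M (bS M K S i) = bS M K S' i := by
  rw [bS_apply, bS_apply, ← PolLawExt23.rTensor_comp_apply']
  congr 2
  ext k
  simp

theorem repr_rTensor (ψ : S →ₐ[K] S') (z : S ⊗[A] M)
    (i : Module.Free.ChooseBasisIndex K (K ⊗[A] M)) :
    (bS M K S').repr ((ψ.restrictScalars A).toLinearMap.rTensor M z) i =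
      ψ ((bS M K S).repr z i) := by
  classical
  have hz : (ψ.restrictScalars A).toLinearMap.rTensor M z =
      ∑ k, ψ ((bS M K S).repr z k) • bS M K S' k := by
    conv_lhs => rw [← (bS M K S).sum_repr z]
    simp only [map_sum, rTensor_smul', rTensor_bS, AlgHom.coe_restrictScalars']
  rw [hz, Module.Basis.repr_sum_self]

theorem det_compat (ψ : S →ₐ[K] S') (f : Module.End S (S ⊗[A] M))
    (f' : Module.End S' (S' ⊗[A] M))
    (h : ∀ z, (ψ.restrictScalars A).toLinearMap.rTensor M (f z) =
      f' ((ψ.restrictScalars A).toLinearMap.rTensor M z)) :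
    LinearMap.det f' = ψ (LinearMap.det f) := by
  classical
  rw [← LinearMap.det_toMatrix (bS M K S'), ← LinearMap.det_toMatrix (bS M K S), AlgHom.map_det]
  congr 1
  ext i j
  simp only [AlgHom.mapMatrix_apply, Matrix.map_apply, LinearMap.toMatrix_apply]
  rw [← repr_rTensor M K ψ, h, rTensor_bS]

theorem detAct_map_tower (ψ : S →ₐ[K] S') (x : S ⊗[A] B) :
    PolLaw.detAct M S' ((ψ.restrictScalars A).toLinearMap.rTensor B x) = ψ (PolLaw.detAct M S x) := by
  unfold PolLaw.detAct
  apply det_compat M K ψ
  intro z
  rw [PolLaw.rTensor_actEnd, PolLaw.rTensor_algHom_apply]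

theorem detAct_smul_tower [Nontrivial S] (r : S) (x : S ⊗[A] B) :
    PolLaw.detAct M S (r • x) = r ^ Module.finrank K (K ⊗[A] M) * PolLaw.detAct M S x := by
  have : Module.Free S (S ⊗[A] M) := Module.Free.of_basis (bS M K S)
  unfold PolLaw.detAct
  rw [map_smul, LinearMap.det_smul, Module.finrank_eq_card_basis (bS M K S),
    Module.finrank_eq_card_chooseBasisIndex]

end Tower

/-! ### The determinant law over an integrally closed domain -/

section Concrete

attribute [local instance] MvPolynomial.algebraMvPolynomial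

/-- polynomial ring over `A` -/
abbrev Pn (A : Type u) [CommRing A] (n : ℕ) := MvPolynomial (Fin n) A
/-- polynomial ring over the fraction field of `A` -/
abbrev KPn (A : Type u) [CommRing A] (n : ℕ) := MvPolynomial (Fin n) (FractionRing A)

variable (A : Type u) [CommRing A] [IsDomain A]

/-- the coefficientwise inclusion `A[t] → K[t]` -/
noncomputable def mapK (n : ℕ) : Pn A n →ₐ[A] KPn A n := IsScalarTower.toAlgHom A _ _

theorem mapK_apply (n : ℕ) (a : Pn A n) :
    mapK A n a = MvPolynomial.map (algebraMap A (FractionRing A)) a := rfl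

theorem mapK_injective (n : ℕ) : Function.Injective (mapK A n) :=
  MvPolynomial.map_injective _ (IsFractionRing.injective A (FractionRing A))

variable {A}
variable {B : Type u} [CommRing B] [Algebra A B]
  (M : Type u) [AddCommGroup M] [Module A M] [Module B M] [IsScalarTower A B M]
  [Module.Finite A M]

/-- the determinant over `K[t]` -/
noncomputable def cdet (n : ℕ) (x : Pn A n ⊗[A] B) : KPn A n :=
  PolLaw.detAct M (KPn A n) ((mapK A n).toLinearMap.rTensor B x)

theorem cdet_one (n : ℕ) : cdet M n (1 : Pn A n ⊗[A] B) = 1 := by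
  unfold cdet
  rw [PolLaw.rTensor_algHom_apply, map_one, PolLaw.detAct_one]

theorem cdet_mul (n : ℕ) (x y : Pn A n ⊗[A] B) : cdet M n (x * y) = cdet M n x * cdet M n y := by
  unfold cdet
  rw [PolLaw.rTensor_algHom_apply, map_mul, PolLaw.detAct_mul, ← PolLaw.rTensor_algHom_apply,
    ← PolLaw.rTensor_algHom_apply]

theorem cdet_smul (n : ℕ) (s : Pn A n) (x : Pn A n ⊗[A] B) :
    cdet M n (s • x) =
      (mapK A n s) ^ Module.finrank (FractionRing A) (FractionRing A ⊗[A] M) * cdet M n x := by
  unfold cdet
  rw [rTensor_smul', detAct_smul_tower M (FractionRing A)]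

/-- the extension of `φ : A[t_n] → A[t_m]` to `K[t_n] → K[t_m]` -/
noncomputable def extK {n m : ℕ} (φ : Pn A n →ₐ[A] Pn A m) : KPn A n →ₐ[FractionRing A] KPn A m :=
  MvPolynomial.aeval (fun i => mapK A m (φ (MvPolynomial.X i)))

theorem extK_comp {n m : ℕ} (φ : Pn A n →ₐ[A] Pn A m) :
    ((extK φ).restrictScalars A).comp (mapK A n) = (mapK A m).comp φ := by
  apply MvPolynomial.algHom_ext
  intro i
  simp [extK, mapK_apply]

theorem cdet_map {n m : ℕ} (φ : Pn A n →ₐ[A] Pn A m) (x : Pn A n ⊗[A] B) :
    cdet M m (φ.toLinearMap.rTensor B x) = extK φ (cdet M n x) := by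
  unfold cdet
  rw [← detAct_map_tower M (FractionRing A) (extK φ), ← PolLawExt23.rTensor_comp_apply',
    ← PolLawExt23.rTensor_comp_apply', extK_comp]

variable [IsIntegrallyClosed A]

theorem exists_a (n : ℕ) (x : Pn A n ⊗[A] B) : ∃ a : Pn A n, mapK A n a = cdet M n x := by
  set F := FractionRing (KPn A n) with hF
  have hint : IsIntegral (Pn A n) (PolLaw.detAct M F
      (Algebra.TensorProduct.map (IsScalarTower.toAlgHom A (Pn A n) F) (AlgHom.id A B) x)) :=
    isIntegral_detAct M x
  have h1 : algebraMap (KPn A n) F (cdet M n x) = PolLaw.detAct M F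
      (Algebra.TensorProduct.map (IsScalarTower.toAlgHom A (Pn A n) F) (AlgHom.id A B) x) := by
    have h := detAct_map_tower M (FractionRing A)
      (IsScalarTower.toAlgHom (FractionRing A) (KPn A n) F) ((mapK A n).toLinearMap.rTensor B x)
    rw [← PolLawExt23.rTensor_comp_apply'] at h
    have hc : ((IsScalarTower.toAlgHom (FractionRing A) (KPn A n) F).restrictScalars A).comp
        (mapK A n) = IsScalarTower.toAlgHom A (Pn A n) F := by
      apply AlgHom.ext
      intro p
      change algebraMap (KPn A n) F (algebraMap (Pn A n) (KPn A n) p) = algebraMap (Pn A n) F p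
      rw [← IsScalarTower.algebraMap_apply]
    rw [hc, PolLaw.rTensor_algHom_apply] at h
    rw [h]
    rfl
  rw [← h1] at hint
  have hint' : IsIntegral (Pn A n) (cdet M n x) :=
    (isIntegral_algebraMap_iff (IsFractionRing.injective (KPn A n) F)).mp hint
  rw [MvPolynomial.isIntegral_iff_isIntegral_coeff] at hint'
  have hr : cdet M n x ∈ Set.range (MvPolynomial.map (algebraMap A (FractionRing A))) := by
    rw [MvPolynomial.mem_range_map_iff_coeffs_subset]
    intro k hk
    obtain ⟨m, -, rfl⟩ := MvPolynomial.mem_coeffs_iff.mp hk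
    exact IsIntegrallyClosed.isIntegral_iff.mp (hint' m)
  obtain ⟨a, ha⟩ := hr
  exact ⟨a, ha⟩

/-- the determinant in `A[t]` -/
noncomputable def adet (n : ℕ) (x : Pn A n ⊗[A] B) : Pn A n := Classical.choose (exists_a M n x)

theorem adet_spec (n : ℕ) (x : Pn A n ⊗[A] B) : mapK A n (adet M n x) = cdet M n x :=
  Classical.choose_spec (exists_a M n x)

theorem adet_one (n : ℕ) : adet M n (1 : Pn A n ⊗[A] B) = 1 := by
  apply mapK_injective A n
  rw [adet_spec, cdet_one, map_one]

theorem adet_mul (n : ℕ) (x y : Pn A n ⊗[A] B) : adet M n (x * y) = adet M n x * adet M n y := by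
  apply mapK_injective A n
  rw [adet_spec, cdet_mul, map_mul, adet_spec, adet_spec]

theorem adet_smul (n : ℕ) (s : Pn A n) (x : Pn A n ⊗[A] B) :
    adet M n (s • x) =
      s ^ Module.finrank (FractionRing A) (FractionRing A ⊗[A] M) * adet M n x := by
  apply mapK_injective A n
  rw [adet_spec, cdet_smul, map_mul, map_pow, adet_spec]

theorem adet_map {n m : ℕ} (φ : Pn A n →ₐ[A] Pn A m) (x : Pn A n ⊗[A] B) :
    φ (adet M n x) = adet M m (φ.toLinearMap.rTensor B x) := by
  apply mapK_injective A m
  rw [adet_spec, cdet_map, ← adet_spec]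
  exact (DFunLike.congr_fun (extK_comp φ) (adet M n x)).symm

/-- the family defining the law -/
noncomputable def TT (n : ℕ) (x : Pn A n ⊗[A] B) : Pn A n ⊗[A] A := adet M n x ⊗ₜ[A] (1 : A)

theorem TT_compat : PolLawExt23.IsCompatFamily (TT (A := A) (B := B) M) := by
  intro n m φ
  funext x
  simp only [Function.comp_apply, TT, LinearMap.rTensor_tmul, AlgHom.toLinearMap_apply, adet_map]

/-- The generic determinant law. -/
noncomputable def genLaw : B →ₚₗ[A] A :=
  PolLawExt23.extLaw (TT (A := A) (B := B) M) (TT_compat M)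

theorem genLaw_poly (n : ℕ) (x : Pn A n ⊗[A] B) :
    (genLaw (A := A) M).toFun' (Pn A n) x = adet M n x ⊗ₜ[A] (1 : A) :=
  PolLawExt23.extLaw_poly (TT_compat M) n x

theorem genLaw_isMult : PolLaw.IsMult (genLaw (A := A) (B := B) M) := by
  apply PolLawGen23.isMult_of_poly
  · intro n
    rw [genLaw_poly, adet_one, Algebra.TensorProduct.one_def]
  · intro n x y
    rw [genLaw_poly, genLaw_poly, genLaw_poly, adet_mul, Algebra.TensorProduct.tmul_mul_tmul,
      mul_one]

theorem genLaw_isHomog :
    PolLaw.IsHomog (genLaw (A := A) (B := B) M)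
      (Module.finrank (FractionRing A) (FractionRing A ⊗[A] M)) := by
  apply PolLawGen23.isHomog_of_poly
  intro n s x
  rw [genLaw_poly, genLaw_poly, TensorProduct.smul_tmul', smul_eq_mul, adet_smul]

theorem adet_fraction (n : ℕ) (x : Pn A n ⊗[A] B) :
    algebraMap (Pn A n) (FractionRing (Pn A n)) (adet M n x) =
      PolLaw.detAct M (FractionRing (Pn A n))
        (Algebra.TensorProduct.map
          (IsScalarTower.toAlgHom A (Pn A n) (FractionRing (Pn A n))) (AlgHom.id A B) x) := by
  set L := FractionRing (Pn A n) with hL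
  haveI : FaithfulSMul A L := by
    rw [faithfulSMul_iff_algebraMap_injective, IsScalarTower.algebraMap_eq A (Pn A n) L]
    exact (IsFractionRing.injective (Pn A n) L).comp (MvPolynomial.C_injective _ _)
  letI := FractionRing.liftAlgebra A L
  haveI := FractionRing.isScalarTower_liftAlgebra A L
  let jL : KPn A n →ₐ[FractionRing A] L :=
    MvPolynomial.aeval (fun i => algebraMap (Pn A n) L (MvPolynomial.X i))
  have hjL : (jL.restrictScalars A).comp (mapK A n) = IsScalarTower.toAlgHom A (Pn A n) L := by
    apply MvPolynomial.algHom_ext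
    intro i
    simp [jL, mapK_apply]
  have h := detAct_map_tower M (FractionRing A) jL ((mapK A n).toLinearMap.rTensor B x)
  rw [← PolLawExt23.rTensor_comp_apply', hjL, PolLaw.rTensor_algHom_apply] at h
  rw [h]
  change _ = jL (cdet M n x)
  rw [← adet_spec]
  exact (DFunLike.congr_fun hjL (adet M n x)).symm

omit [Module.Finite A M] [IsIntegrallyClosed A] in
theorem ext_of_fraction (N N' : B →ₚₗ[A] A)
    (h : ∀ (n : ℕ) (x : Pn A n ⊗[A] B),
      algebraMap (Pn A n) (FractionRing (Pn A n))
          (TensorProduct.rid A (Pn A n) (N.toFun' (Pn A n) x)) =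
        algebraMap (Pn A n) (FractionRing (Pn A n))
          (TensorProduct.rid A (Pn A n) (N'.toFun' (Pn A n) x))) : N = N' := by
  apply PolLawExt23.ext_of_poly
  intro n
  funext x
  apply (TensorProduct.rid A (Pn A n)).injective
  exact IsFractionRing.injective (Pn A n) (FractionRing (Pn A n)) (h n x)

end Concrete

end Groth.Agent.Lib.DetGeneric75
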