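import Groth.Agent.Lib.NormLocus13
import Mathlib.LinearAlgebra.Matrix.SchurComplement
import Mathlib.LinearAlgebra.TensorProduct.Pi
import Mathlib.RingTheory.IsTensorProduct
import Mathlib.RingTheory.TensorProduct.Basic
import Mathlib.Algebra.Category.Ring.Constructions

/-!
# The generalized norm `det (ext i σ (b·))` of a finite projective algebra (helper13)

For a retraction `σ ∘ i = id` of a finite projective `A`-algebra `B` into a finite free module and
`b : B`, the element `det (ext i σ (lmul b))`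
* detects the primes over which `b` vanishes nowhere (`det_ext_notMem_iff`),
* does not depend on the retraction (`det_ext_indep`),
* commutes with base change (`exists_retract_det_commRingCat`).
-/

set_option autoImplicit false
universe u

namespace Groth.Agent.Lib.DetRetract13

open TensorProduct Groth.Agent.Lib.NormLocus13

section indep

variable {B : Type*} [CommRing B] {P F₁ F₂ : Type*} [AddCommGroup P] [Module B P]
  [AddCommGroup F₁] [Module B F₁] [AddCommGroup F₂] [Module B F₂]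

theorem ext_eq (i : P →ₗ[B] F₁) (σ : F₁ →ₗ[B] P) (L : P →ₗ[B] P) :
    ext i σ L = LinearMap.id + i ∘ₗ (L - LinearMap.id) ∘ₗ σ := by
  ext v
  simp only [ext_apply, LinearMap.add_apply, LinearMap.id_apply, LinearMap.comp_apply,
    LinearMap.sub_apply, map_sub]
  abel

theorem det_ext_indep {ι₁ ι₂ : Type*} [Fintype ι₁] [DecidableEq ι₁] [Fintype ι₂] [DecidableEq ι₂]
    (b₁ : Module.Basis ι₁ B F₁) (b₂ : Module.Basis ι₂ B F₂)
    (i₁ : P →ₗ[B] F₁) (σ₁ : F₁ →ₗ[B] P) (i₂ : P →ₗ[B] F₂) (σ₂ : F₂ →ₗ[B] P)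
    (h₁ : σ₁ ∘ₗ i₁ = LinearMap.id) (h₂ : σ₂ ∘ₗ i₂ = LinearMap.id) (L : P →ₗ[B] P) :
    LinearMap.det (ext i₁ σ₁ L) = LinearMap.det (ext i₂ σ₂ L) := by
  let L' : P →ₗ[B] P := L - LinearMap.id
  let X : F₂ →ₗ[B] F₁ := i₁ ∘ₗ σ₂
  let Y : F₁ →ₗ[B] F₂ := i₂ ∘ₗ L' ∘ₗ σ₁
  have hXY : X ∘ₗ Y = i₁ ∘ₗ L' ∘ₗ σ₁ := by
    ext v
    have : σ₂ (i₂ (L' (σ₁ v))) = L' (σ₁ v) := LinearMap.congr_fun h₂ _
    simp only [X, Y, LinearMap.comp_apply, this]
  have hYX : Y ∘ₗ X = i₂ ∘ₗ L' ∘ₗ σ₂ := by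
    ext v
    have : σ₁ (i₁ (σ₂ v)) = σ₂ v := LinearMap.congr_fun h₁ _
    simp only [X, Y, LinearMap.comp_apply, this]
  rw [ext_eq, ext_eq]
  change LinearMap.det (LinearMap.id + i₁ ∘ₗ L' ∘ₗ σ₁) = LinearMap.det (LinearMap.id + i₂ ∘ₗ L' ∘ₗ σ₂)
  rw [← hXY, ← hYX, ← LinearMap.det_toMatrix b₁, ← LinearMap.det_toMatrix b₂,
    map_add, map_add, LinearMap.toMatrix_comp b₁ b₂ b₁, LinearMap.toMatrix_comp b₂ b₁ b₂,
    LinearMap.toMatrix_id, LinearMap.toMatrix_id, Matrix.det_one_add_mul_comm]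

end indep

/-- The defining property of the generalized norm, for a given retraction. -/
theorem det_ext_notMem_iff {A B : Type*} [CommRing A] [CommRing B] [Algebra A B] {n : ℕ}
    (i : B →ₗ[A] (Fin n → A)) (s : (Fin n → A) →ₗ[A] B) (hsi : s ∘ₗ i = LinearMap.id) (b : B)
    (p : PrimeSpectrum A) :
    LinearMap.det (ext i s (Algebra.lmul A B b)) ∉ p.asIdeal ↔
      ∀ q : PrimeSpectrum B, q.comap (algebraMap A B) = p → b ∉ q.asIdeal := by
  let ψ : (Fin n → A) →ₗ[A] (Fin n → A) := ext i s (Algebra.lmul A B b)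
  let k := p.asIdeal.ResidueField
  have hk : (s.baseChange k) ∘ₗ (i.baseChange k) = LinearMap.id := by
    rw [← LinearMap.baseChange_comp, hsi, LinearMap.baseChange_id]
  have h1 : LinearMap.det ψ ∉ p.asIdeal ↔ IsUnit ((1 : k) ⊗ₜ[A] b) := by
    rw [← Ideal.algebraMap_residueField_eq_zero (I := p.asIdeal), ← ne_eq, ← isUnit_iff_ne_zero,
      ← LinearMap.det_baseChange, ← LinearMap.isUnit_iff_isUnit_det, baseChange_ext,
      isUnit_ext_iff hk, baseChange_mulLeft, Algebra.lmul_isUnit_iff]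
  rw [h1]
  constructor
  · intro hu q hq hb
    let Q := PrimeSpectrum.preimageEquivFiber A B p ⟨q, hq⟩
    have hQ : ((PrimeSpectrum.preimageEquivFiber A B p).symm Q).1 = q := by
      simp [Q]
    have hbQ : (1 : k) ⊗ₜ[A] b ∈ Q.asIdeal := by
      have : b ∈ (((PrimeSpectrum.preimageEquivFiber A B p).symm Q).1).asIdeal := by
        rw [hQ]; exact hb
      simpa using this
    exact Q.2.ne_top (Ideal.eq_top_of_isUnit_mem _ hbQ hu)
  · intro hq
    by_contra hu
    obtain ⟨Q, hQmax, hbQ⟩ := exists_max_ideal_of_mem_nonunits (mem_nonunits_iff.mpr hu)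
    let Q' : PrimeSpectrum (p.asIdeal.Fiber B) := ⟨Q, hQmax.isPrime⟩
    let q := (PrimeSpectrum.preimageEquivFiber A B p).symm Q'
    refine hq q.1 q.2 ?_
    simp only [q, PrimeSpectrum.preimageEquivFiber_symm_apply_coe, PrimeSpectrum.comap_asIdeal,
      Ideal.mem_comap]
    exact hbQ

section BC

theorem exists_retract_conj_of_isPushout (R S T P : Type u) [CommRing R] [CommRing S]
    [CommRing T] [CommRing P] [Algebra R S] [Algebra R T] [Algebra S P] [Algebra T P]
    [Algebra R P] [IsScalarTower R S P] [IsScalarTower R T P] [Algebra.IsPushout R S T P]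
    (n : ℕ) (i : S →ₗ[R] (Fin n → R)) (σ : (Fin n → R) →ₗ[R] S)
    (hσi : σ ∘ₗ i = LinearMap.id) :
    ∃ (i' : P →ₗ[T] (Fin n → T)) (σ' : (Fin n → T) →ₗ[T] P)
      (ρ : T ⊗[R] (Fin n → R) ≃ₗ[T] (Fin n → T)), σ' ∘ₗ i' = LinearMap.id ∧
      ∀ x : S, i' ∘ₗ Algebra.lmul T P (algebraMap S P x) ∘ₗ σ' =
        ρ.conj ((i ∘ₗ Algebra.lmul R S x ∘ₗ σ).baseChange T) := by
  have : Algebra.IsPushout R T S P := Algebra.IsPushout.symm inferInstance
  let e : T ⊗[R] S ≃ₐ[T] P := Algebra.IsPushout.equiv R T S P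
  let ρ : T ⊗[R] (Fin n → R) ≃ₗ[T] (Fin n → T) := TensorProduct.piScalarRight R T T (Fin n)
  have hk : (σ.baseChange T) ∘ₗ (i.baseChange T) = LinearMap.id := by
    rw [← LinearMap.baseChange_comp, hσi, LinearMap.baseChange_id]
  refine ⟨ρ.toLinearMap ∘ₗ i.baseChange T ∘ₗ e.symm.toLinearMap,
    e.toLinearMap ∘ₗ σ.baseChange T ∘ₗ ρ.symm.toLinearMap, ρ, ?_, ?_⟩
  · ext p
    have := LinearMap.congr_fun hk (e.symm p)
    simp only [LinearMap.comp_apply] at this
    simp [this]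
  · intro x
    apply LinearMap.ext
    intro v
    rw [LinearEquiv.conj_apply_apply, LinearMap.baseChange_comp, LinearMap.baseChange_comp,
      Algebra.baseChange_lmul]
    simp only [LinearMap.comp_apply, LinearEquiv.coe_coe, AlgEquiv.toLinearMap_apply,
      Algebra.coe_lmul_eq_mul, LinearMap.mul_apply']
    congr 2
    rw [map_mul, AlgEquiv.symm_apply_apply]
    congr 1
    exact Algebra.IsPushout.equiv_symm_algebraMap_right R T S P x

theorem exists_retract_det_of_isPushout (R S T P : Type u) [CommRing R] [CommRing S]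
    [CommRing T] [CommRing P] [Algebra R S] [Algebra R T] [Algebra S P] [Algebra T P]
    [Algebra R P] [IsScalarTower R S P] [IsScalarTower R T P] [Algebra.IsPushout R S T P]
    (n : ℕ) (i : S →ₗ[R] (Fin n → R)) (σ : (Fin n → R) →ₗ[R] S)
    (hσi : σ ∘ₗ i = LinearMap.id) :
    ∃ (i' : P →ₗ[T] (Fin n → T)) (σ' : (Fin n → T) →ₗ[T] P), σ' ∘ₗ i' = LinearMap.id ∧
      ∀ x : S, LinearMap.det (ext i' σ' (Algebra.lmul T P (algebraMap S P x))) =
        algebraMap R T (LinearMap.det (ext i σ (Algebra.lmul R S x))) := by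
  obtain ⟨i', σ', ρ, h, hconj⟩ := exists_retract_conj_of_isPushout R S T P n i σ hσi
  refine ⟨i', σ', h, fun x => ?_⟩
  have h1 := hconj 1
  have h1' : i' ∘ₗ σ' = ρ.conj ((i ∘ₗ σ).baseChange T) := by
    have e1 : Algebra.lmul T P (algebraMap S P 1) = LinearMap.id := by
      rw [map_one, map_one]; rfl
    have e2 : Algebra.lmul R S 1 = LinearMap.id := by rw [map_one]; rfl
    rw [e1, e2] at h1
    simpa using h1
  have hext : ext i' σ' (Algebra.lmul T P (algebraMap S P x)) =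
      ρ.conj ((ext i σ (Algebra.lmul R S x)).baseChange T) := by
    apply LinearMap.ext
    intro v
    have e1 := LinearMap.congr_fun (hconj x) v
    have e2 := LinearMap.congr_fun h1' v
    rw [LinearEquiv.conj_apply_apply] at e1 e2
    simp only [LinearMap.comp_apply] at e1 e2
    rw [LinearEquiv.conj_apply_apply, ext_apply]
    unfold NormLocus13.ext
    rw [LinearMap.baseChange_add, LinearMap.baseChange_sub, LinearMap.baseChange_id,
      LinearMap.add_apply, LinearMap.sub_apply, LinearMap.id_apply, map_add, map_sub,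
      LinearEquiv.apply_symm_apply, e1, e2]
  rw [hext, LinearEquiv.conj_apply, LinearMap.comp_assoc, LinearMap.det_conj,
    LinearMap.det_baseChange]

theorem exists_retract_det_commRingCat {R S T P : CommRingCat.{u}} {f : R ⟶ S} {g : R ⟶ T}
    {inl : S ⟶ P} {inr : T ⟶ P} (h : CategoryTheory.IsPushout f g inl inr) :
    letI := f.hom.toAlgebra
    letI := inr.hom.toAlgebra
    ∀ (n : ℕ) (i : S →ₗ[R] (Fin n → R)) (σ : (Fin n → R) →ₗ[R] S)
      (_ : σ ∘ₗ i = LinearMap.id),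
    ∃ (i' : P →ₗ[T] (Fin n → T)) (σ' : (Fin n → T) →ₗ[T] P), σ' ∘ₗ i' = LinearMap.id ∧
      ∀ x : S, LinearMap.det (ext i' σ' (Algebra.lmul T P (inl.hom x))) =
        g.hom (LinearMap.det (ext i σ (Algebra.lmul R S x))) := by
  algebraize [f.hom, g.hom, inl.hom, inr.hom, inl.hom.comp f.hom]
  have : IsScalarTower R T P := .of_algebraMap_eq' <| congr($(h.1.1).hom)
  have : Algebra.IsPushout R S T P := CommRingCat.isPushout_iff_isPushout.mp h
  intro n i σ hσi
  exact exists_retract_det_of_isPushout R S T P n i σ hσi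

end BC

end Groth.Agent.Lib.DetRetract13
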