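import Groth.Agent.Lib.SchubertUFD
import Groth.Agent.Lib.CMGlue
import Groth.Agent.Lib.CMAscent33

/-!
# Schubert varieties are arithmetically Cohen–Macaulay

By induction on the dimension: `S/J(τ)` is Cohen–Macaulay because it is a domain, `S/(J(τ) + (X_τ))` is the
coordinate ring of the union of the Schubert divisors and `(S/J(τ))[1/X_τ]` is regular (big cell); unions of
Schubert divisors are Cohen–Macaulay by gluing along intersections, which are again unions of Schubert divisors of
a smaller Schubert variety.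
-/

set_option autoImplicit false
set_option linter.unusedSectionVars false
set_option linter.unusedSimpArgs false
universe u
open Finset MvPolynomial W4bk4grassmannian

noncomputable section

namespace Groth.Agent.Lib.SchubertCM
open Groth.Agent.Lib.PlSMT Groth.Agent.Lib.SchubertCell Groth.Agent.Lib.SchubertDiv

variable {d n : ℕ} (K : Type u) [Field K]

/-- The ideal of a finite union of Schubert varieties. -/
def JD (D : Finset (Idx d n)) : Ideal (PlRing K d n) := ⨅ φ ∈ D, schubertVanishing K d n φ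

lemma JD_empty : JD K (∅ : Finset (Idx d n)) = ⊤ := by
  unfold JD
  simp

lemma JD_singleton (φ : Idx d n) : JD K {φ} = schubertVanishing K d n φ := by
  unfold JD
  simp

lemma JD_insert [DecidableEq (Idx d n)] (φ : Idx d n) (D : Finset (Idx d n)) :
    JD K (insert φ D) = schubertVanishing K d n φ ⊓ JD K D := by
  unfold JD
  rw [Finset.iInf_insert]

lemma mem_JD {D : Finset (Idx d n)} {f : PlRing K d n} :
    f ∈ JD K D ↔ ∀ φ ∈ D, f ∈ schubertVanishing K d n φ := by
  unfold JD
  simp only [Ideal.mem_iInf]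

/-- The meet of two distinct Schubert divisors of `τ` is a Schubert divisor of each of them. -/
lemma inf_mem_divisors {τ φ ψ : Idx d n} (hφ : φ ∈ divisors τ) (hψ : ψ ∈ divisors τ) (hne : φ ≠ ψ) :
    W4bk4grassmannian.inf φ ψ ∈ divisors ψ := by
  obtain ⟨t₁, -, ho₁, hr₁⟩ := exists_of_mem_divisors hφ
  obtain ⟨t₂, -, ho₂, hr₂⟩ := exists_of_mem_divisors hψ
  have ht : t₁ ≠ t₂ := by
    rintro rfl
    apply hne
    apply Subtype.ext
    funext t
    by_cases h : t = t₁
    · subst h
      exact Fin.ext (by omega)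
    · rw [hr₁ t h, hr₂ t h]
  have hψ1 : ψ.1 t₁ = τ.1 t₁ := hr₂ t₁ ht
  have hinf1 : ((W4bk4grassmannian.inf φ ψ).1 t₁).val + 1 = (ψ.1 t₁).val := by
    show (min (φ.1 t₁) (ψ.1 t₁)).val + 1 = _
    rw [hψ1, min_eq_left (by show (φ.1 t₁).val ≤ (τ.1 t₁).val; omega)]
    exact ho₁
  have hinf2 : ∀ t, t ≠ t₁ → (W4bk4grassmannian.inf φ ψ).1 t = ψ.1 t := by
    intro t h
    show min (φ.1 t) (ψ.1 t) = ψ.1 t
    rw [hr₁ t h]
    exact min_eq_right (hψ.1.le t)
  have hle : W4bk4grassmannian.inf φ ψ ≤ ψ := fun t => min_le_right _ _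
  refine ⟨lt_of_le_of_ne hle ?_, ?_⟩
  · intro hEq
    have : ((W4bk4grassmannian.inf φ ψ).1 t₁).val = (ψ.1 t₁).val := by rw [hEq]
    omega
  · have hsum : codeg ψ = codeg (W4bk4grassmannian.inf φ ψ) +
        ∑ t : Fin d, ((ψ.1 t).val - ((W4bk4grassmannian.inf φ ψ).1 t).val) := by
      unfold codeg
      rw [← Finset.sum_add_distrib]
      refine Finset.sum_congr rfl fun t _ => ?_
      have h1 := le_val (W4bk4grassmannian.inf φ ψ) t
      have h2 : ((W4bk4grassmannian.inf φ ψ).1 t).val ≤ (ψ.1 t).val := hle t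
      omega
    have hone : ∑ t : Fin d, ((ψ.1 t).val - ((W4bk4grassmannian.inf φ ψ).1 t).val) = 1 := by
      rw [Finset.sum_eq_single t₁]
      · omega
      · intro t _ h
        rw [hinf2 t h]
        omega
      · intro h
        exact absurd (Finset.mem_univ _) h
    omega

section Inf
variable [Infinite K] (hd : 0 < d)

include hd in
/-- Distributivity from standard monomial theory: `⋂ J(φ) + J(ψ) = ⋂ J(φ ∧ ψ)`. -/
theorem JD_sup_eq [DecidableEq (Idx d n)] (D : Finset (Idx d n)) (ψ : Idx d n) :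
    JD K D ⊔ schubertVanishing K d n ψ = JD K (D.image fun φ => W4bk4grassmannian.inf φ ψ) := by
  classical
  have hle : JD K D ⊔ schubertVanishing K d n ψ ≤
      JD K (D.image fun φ => W4bk4grassmannian.inf φ ψ) := by
    intro f hf
    rw [mem_JD]
    intro θ hθ
    obtain ⟨φ, hφ, rfl⟩ := Finset.mem_image.1 hθ
    have h1 : JD K D ≤ schubertVanishing K d n (W4bk4grassmannian.inf φ ψ) := by
      intro g hg
      exact schubertVanishing_mono K (fun t => min_le_left _ _) ((mem_JD K).1 hg φ hφ)
    have h2 : schubertVanishing K d n ψ ≤ schubertVanishing K d n (W4bk4grassmannian.inf φ ψ) :=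
      schubertVanishing_mono K (fun t => min_le_right _ _)
    exact (sup_le h1 h2) hf
  apply le_antisymm hle
  intro f hf
  set I : Ideal (PlRing K d n) := JD K D ⊔ schubertVanishing K d n ψ with hI
  have hIle : plIdealTop (d := d) (n := n) K ≤ I :=
    le_trans (plIdealTop_le_schubertVanishing K ψ) le_sup_right
  have hQ : ∀ θ : Idx d n, ¬ θ ≤ ψ → MvPolynomial.X θ ∈ I := fun θ hθ =>
    Ideal.mem_sup_right (X_mem_schubertVanishing K hθ)
  obtain ⟨F, hF, hfF⟩ := exists_std_rep K I hIle (· ≤ ψ) hQ f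
  have hFmem : F ∈ JD K (D.image fun φ => W4bk4grassmannian.inf φ ψ) := by
    have : F = f - (f - F) := by ring
    rw [this]
    exact Ideal.sub_mem _ hf (hle hfF)
  have hFD : F ∈ JD K D := by
    rw [mem_JD]
    intro φ hφ
    have hFφ : F ∈ schubertVanishing K d n (W4bk4grassmannian.inf φ ψ) :=
      (mem_JD K).1 hFmem _ (Finset.mem_image_of_mem _ hφ)
    rw [F.as_sum]
    refine Ideal.sum_mem _ fun e he => ?_
    have hex : ∃ θ ∈ e.support, ¬ θ ≤ φ := by
      by_contra hcon
      push Not at hcon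
      have h0 := coeff_eq_zero_of_mem_schubert K hd (W4bk4grassmannian.inf φ ψ) F hFφ
        (fun e he => (hF e he).1) e
        (fun θ hθ t => le_min (hcon θ hθ t) ((hF e he).2 θ hθ t))
      exact (MvPolynomial.mem_support_iff.1 he) h0
    obtain ⟨θ, hθ, hθφ⟩ := hex
    exact monomial_mem_schubert K e _ θ hθ hθφ
  have : f = F + (f - F) := by ring
  rw [this]
  exact Ideal.add_mem _ (Ideal.mem_sup_left hFD) hfF

include hd in
/-- The local dimension of the cone over `X(ψ)` at every closed point is `codeg ψ + 1`. -/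
lemma dimAt_schubert (ψ : Idx d n) (P : Ideal (PlRing K d n)) [hP : P.IsMaximal]
    (h : schubertVanishing K d n ψ ≤ P) :
    Groth.Agent.Lib.CMGlue.dimAt (schubertVanishing K d n ψ) P =
      ((codeg ψ + 1 : ℕ) : WithBot ℕ∞) := by
  have hdom := isDomain_schB K hd ψ
  have hq : (P.map (Ideal.Quotient.mk (schubertVanishing K d n ψ))).IsPrime :=
    Ideal.isPrime_map_quotientMk_of_isPrime h
  have hqmax : (P.map (Ideal.Quotient.mk (schubertVanishing K d n ψ))).IsMaximal :=
    (Ideal.map_eq_top_or_isMaximal_of_surjective _ Ideal.Quotient.mk_surjective hP).resolve_left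
      hq.ne_top
  unfold Groth.Agent.Lib.CMGlue.dimAt
  rw [← Groth.Agent.Lib.H8GradedCM.ringKrullDim_localization_quotient P _ _
    (Groth.Agent.Lib.CMGlue.comap_map_mk h),
    IsLocalization.AtPrime.ringKrullDim_eq_height
      (P.map (Ideal.Quotient.mk (schubertVanishing K d n ψ)))
      (Localization.AtPrime (P.map (Ideal.Quotient.mk (schubertVanishing K d n ψ))))]
  obtain ⟨n₀, hdim, hmax⟩ := Groth.Agent.Lib.FTDim.exists_ringKrullDim_eq K (SchB K ψ)
  rw [hmax _ hqmax]
  have h2 := ringKrullDim_schB K hd ψ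
  rw [hdim] at h2
  exact_mod_cast h2

end Inf

instance (τ : Idx d n) : Finite (Free τ) := by
  unfold Free
  infer_instance

/-- The coordinate ring of the big cell (a localization of a polynomial ring) is Cohen–Macaulay. -/
theorem isCMRing_cell (τ : Idx d n) :
    LocCoh.IsCohenMacaulayRing (Localization.Away (X none : CellP K τ)) := by
  have h1 : LocCoh.IsCohenMacaulayRing (CellP K τ) :=
    Groth.Agent.Lib.CMAscent33.isCohenMacaulayRing_of_isRegularRing _
  exact Groth.Agent.Lib.CMGlue.isCMRing_of_isLocalization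
    (Submonoid.powers (X none : CellP K τ)) _

/-- The zero ring is Cohen–Macaulay. -/
lemma isCMRing_quotient_top {A : Type u} [CommRing A] [IsNoetherianRing A] :
    LocCoh.IsCohenMacaulayRing (A ⧸ (⊤ : Ideal A)) := by
  have : Subsingleton (A ⧸ (⊤ : Ideal A)) := Ideal.Quotient.subsingleton_iff.mpr rfl
  refine ⟨fun p hp => ?_⟩
  exact absurd (Subsingleton.elim p ⊤) hp.ne_top

section Main
variable [IsAlgClosed K] (hd : 0 < d) (hdn : d < n)

include hd hdn in
theorem cm_aux : ∀ c : ℕ, ∀ τ : Idx d n, codeg τ = c →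
    LocCoh.IsCohenMacaulayRing (SchB K τ) ∧
    ∀ D : Finset (Idx d n), (∀ φ ∈ D, φ ∈ divisors τ) →
      LocCoh.IsCohenMacaulayRing (PlRing K d n ⧸ JD K D) ∧
      (D.Nonempty → ∀ (P : Ideal (PlRing K d n)) [P.IsMaximal], JD K D ≤ P →
        Groth.Agent.Lib.CMGlue.dimAt (JD K D) P = (c : WithBot ℕ∞)) := by
  classical
  intro c
  induction c using Nat.strong_induction_on with
  | _ c IH =>
  intro τ hτc
  -- unions of divisors
  have hQ : ∀ D : Finset (Idx d n), (∀ φ ∈ D, φ ∈ divisors τ) →
      LocCoh.IsCohenMacaulayRing (PlRing K d n ⧸ JD K D) ∧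
      (D.Nonempty → ∀ (P : Ideal (PlRing K d n)) [P.IsMaximal], JD K D ≤ P →
        Groth.Agent.Lib.CMGlue.dimAt (JD K D) P = (c : WithBot ℕ∞)) := by
    intro D
    induction D using Finset.induction_on with
    | empty =>
      intro _
      rw [JD_empty]
      exact ⟨isCMRing_quotient_top, fun h => absurd h Finset.not_nonempty_empty⟩
    | insert ψ D' hψD' ih =>
      intro hD
      have hψ : ψ ∈ divisors τ := hD ψ (Finset.mem_insert_self _ _)
      have hD' : ∀ φ ∈ D', φ ∈ divisors τ := fun φ hφ => hD φ (Finset.mem_insert_of_mem hφ)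
      have hcψ : codeg ψ + 1 = c := by rw [← hτc]; exact hψ.2
      obtain ⟨Pψ, Qψ⟩ := IH (codeg ψ) (by omega) ψ rfl
      have hdimψ : ∀ (P : Ideal (PlRing K d n)) [P.IsMaximal], schubertVanishing K d n ψ ≤ P →
          Groth.Agent.Lib.CMGlue.dimAt (schubertVanishing K d n ψ) P = (c : WithBot ℕ∞) := by
        intro P _ hP
        rw [dimAt_schubert K hd ψ P hP, hcψ]
      rw [JD_insert]
      rcases D'.eq_empty_or_nonempty with hemp | hne
      · subst hemp
        rw [JD_empty, inf_top_eq]
        exact ⟨Pψ, fun _ => hdimψ⟩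
      · obtain ⟨ihcm, ihdim⟩ := ih hD'
        have hsup : schubertVanishing K d n ψ ⊔ JD K D' =
            JD K (D'.image fun φ => W4bk4grassmannian.inf φ ψ) := by
          rw [sup_comm, JD_sup_eq K hd]
        have hD'' : ∀ θ ∈ D'.image (fun φ => W4bk4grassmannian.inf φ ψ), θ ∈ divisors ψ := by
          intro θ hθ
          obtain ⟨φ, hφ, rfl⟩ := Finset.mem_image.1 hθ
          exact inf_mem_divisors (hD' φ hφ) hψ (fun h => hψD' (h ▸ hφ))
        obtain ⟨h3cm, h3dim⟩ := Qψ _ hD''
        have hres := Groth.Agent.Lib.CMGlue.isCMRing_quotient_inf (schubertVanishing K d n ψ)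
          (JD K D') c Pψ ihcm (by rw [hsup]; exact h3cm) hdimψ (ihdim hne) (by
            intro P _ hP
            rw [hsup] at hP ⊢
            rw [h3dim (hne.image _) P hP, ← hcψ]
            push_cast
            exact le_rfl)
        exact ⟨hres.1, fun _ => hres.2⟩
  refine ⟨?_, hQ⟩
  -- the cone itself
  have hdom : IsDomain (SchB K τ) := isDomain_schB K hd τ
  let L := Localization.Away (MvPolynomial.X none : CellP K τ)
  let _ : Algebra (SchB K τ) L := (cellMap K τ hd).toAlgebra
  have hloc : IsLocalization.Away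
      (Ideal.Quotient.mk (schubertVanishing K d n τ) (MvPolynomial.X τ)) L :=
    isLocalization_cell K τ hd
  have hL : LocCoh.IsCohenMacaulayRing L := isCMRing_cell K τ
  have hquot : LocCoh.IsCohenMacaulayRing
      (SchB K τ ⧸ Ideal.span {Ideal.Quotient.mk (schubertVanishing K d n τ) (X τ)}) := by
    by_cases hτ : ∃ φ : Idx d n, φ < τ
    · have hfin : (divisors τ).Finite := Set.toFinite _
      have hJ : schubertVanishing K d n τ ⊔ Ideal.span {X τ} = JD K hfin.toFinset := by
        rw [Groth.Agent.S11254.result K d n hd hdn τ hτ]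
        unfold JD
        simp only [Set.Finite.mem_toFinset]
      have h1 := (hQ hfin.toFinset (fun φ hφ => hfin.mem_toFinset.1 hφ)).1
      have hmap : Ideal.span {Ideal.Quotient.mk (schubertVanishing K d n τ) (X τ)} =
          (Ideal.span {X τ}).map (Ideal.Quotient.mk (schubertVanishing K d n τ)) := by
        rw [Ideal.map_span, Set.image_singleton]
      rw [hmap]
      let e1 := DoubleQuot.quotQuotEquivQuotSup (schubertVanishing K d n τ) (Ideal.span {X τ})
      let e2 := Ideal.quotEquivOfEq hJ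
      exact Groth.Agent.Lib.CMRingEquiv96.isCohenMacaulayRing_of_ringEquiv (e1.trans e2).symm
    · rw [span_mk_X_eq_ker_aug K τ hd hτ]
      let e := RingHom.quotientKerEquivOfSurjective (aug_surjective K hd τ)
      have hK : LocCoh.IsCohenMacaulayRing K :=
        Groth.Agent.Lib.CMAscent33.isCohenMacaulayRing_of_isRegularRing K
      exact Groth.Agent.Lib.CMRingEquiv96.isCohenMacaulayRing_of_ringEquiv e.symm
  exact Groth.Agent.Lib.CMGlue.isCMRing_of_quotient_of_away
    (Ideal.Quotient.mk (schubertVanishing K d n τ) (X τ)) (mk_X_self_ne_zero K τ) hquot L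

end Main

end Groth.Agent.Lib.SchubertCM
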