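import Mathlib

/-!
# Normality descends from a localization at a radical principal ideal

If `A` is a domain, `x ≠ 0`, the ideal `(x)` is radical and `A[1/x]` is integrally closed, then `A` is integrally
closed: an integral element `a / x ^ k` with `k` minimal has `a ^ r ∈ (x)`, hence `a ∈ (x)` and `k = 0`.
-/

set_option autoImplicit false

namespace Groth.Agent.Lib.NormalAway

theorem isIntegrallyClosed_of_away {A : Type*} [CommRing A] [IsDomain A] (x : A) (hx : x ≠ 0)
    (hrad : (Ideal.span {x}).IsRadical) (L : Type*) [CommRing L] [Algebra A L]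
    [IsLocalization.Away x L] [IsIntegrallyClosed L] : IsIntegrallyClosed A := by
  classical
  have hle : Submonoid.powers x ≤ nonZeroDivisors A :=
    powers_le_nonZeroDivisors_of_noZeroDivisors hx
  have : IsDomain L := IsLocalization.isDomain_of_le_nonZeroDivisors (M := Submonoid.powers x) L hle
  have hinjAL : Function.Injective (algebraMap A L) := IsLocalization.injective L hle
  let Kf := FractionRing A
  have hunit : IsUnit (algebraMap A Kf x) :=
    IsUnit.mk0 _ (by
      intro h
      exact hx ((IsFractionRing.injective A Kf) (by rw [h, map_zero])))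
  let _ : Algebra L Kf := (IsLocalization.Away.lift x hunit).toAlgebra
  have : IsScalarTower A L Kf :=
    IsScalarTower.of_algebraMap_eq (fun a => (IsLocalization.Away.lift_eq x hunit a).symm)
  have : IsFractionRing L Kf :=
    IsFractionRing.isFractionRing_of_isDomain_of_isLocalization (Submonoid.powers x) L Kf
  rw [isIntegrallyClosed_iff Kf]
  intro f hf
  have hfL : IsIntegral L f := hf.tower_top
  obtain ⟨ℓ, hℓ⟩ := (isIntegrallyClosed_iff Kf).1 ‹IsIntegrallyClosed L› hfL
  have hinjL : Function.Injective (algebraMap L Kf) := IsFractionRing.injective L Kf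
  have hℓint : IsIntegral A ℓ := by
    rw [← hℓ] at hf
    exact (isIntegral_algebraMap_iff hinjL).1 hf
  have hxL : algebraMap A L x ≠ 0 := by
    intro h
    exact hx (hinjAL (by rw [h, map_zero]))
  have key : ∀ k : ℕ, ∀ a : A, algebraMap A L (x ^ k) * ℓ = algebraMap A L a →
      ∃ b, algebraMap A L b = ℓ := by
    intro k
    induction k with
    | zero =>
      intro a h
      exact ⟨a, by rw [← h, pow_zero, map_one, one_mul]⟩
    | succ k ih =>
      intro a h
      obtain ⟨p, hp, hpℓ⟩ := hℓint
      have hdvd : x ^ (k + 1) ∣ a ^ p.natDegree :=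
        Polynomial.dvd_pow_natDegree_of_eval₂_eq_zero hinjAL hp (x ^ (k + 1)) a ℓ hpℓ h
      have hxa : x ∣ a ^ p.natDegree := dvd_trans (dvd_pow_self x (Nat.succ_ne_zero k)) hdvd
      have ha : a ∈ Ideal.span {x} := hrad ⟨p.natDegree, Ideal.mem_span_singleton.2 hxa⟩
      obtain ⟨b, rfl⟩ := Ideal.mem_span_singleton.1 ha
      apply ih b
      have h2 : algebraMap A L x * (algebraMap A L (x ^ k) * ℓ) =
          algebraMap A L x * algebraMap A L b := by
        rw [← mul_assoc, ← map_mul, ← pow_succ', h, map_mul]
      exact mul_left_cancel₀ hxL h2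
  obtain ⟨⟨a, ⟨_, k, rfl⟩⟩, hak⟩ := IsLocalization.surj (Submonoid.powers x) ℓ
  obtain ⟨b, hb⟩ := key k a (by rw [mul_comm]; exact hak)
  exact ⟨b, by rw [← hℓ, ← hb, ← IsScalarTower.algebraMap_apply]⟩

end Groth.Agent.Lib.NormalAway
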