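import Groth.Agent.Lib.SchubertCell
import Groth.Agent.S11254

/-!
# The principal ideal of the top Plücker coordinate on a Schubert variety

In `R = S/J(τ)` the ideal `(x_τ)` is the intersection of the prime ideals `J(φ)/J(τ)` over the Schubert divisors
`φ` of `τ`; for the point Schubert variety it is the irrelevant ideal.  In particular it is radical.
-/

set_option autoImplicit false
set_option linter.unusedSectionVars false
set_option linter.unusedSimpArgs false
universe u
open Finset MvPolynomial W4bk4grassmannian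

noncomputable section

namespace Groth.Agent.Lib.SchubertCell
open Groth.Agent.Lib.PlSMT

variable {d n : ℕ} (K : Type u) [Field K] (τ : Idx d n)

lemma comap_span_mk_X :
    Ideal.comap (Ideal.Quotient.mk (schubertVanishing K d n τ))
      (Ideal.span {Ideal.Quotient.mk (schubertVanishing K d n τ) (X τ)}) =
      schubertVanishing K d n τ ⊔ Ideal.span {X τ} := by
  have h1 : Ideal.span {Ideal.Quotient.mk (schubertVanishing K d n τ) (X τ)} =
      Ideal.map (Ideal.Quotient.mk (schubertVanishing K d n τ)) (Ideal.span {X τ}) := by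
    rw [Ideal.map_span, Set.image_singleton]
  rw [h1, Ideal.comap_map_of_surjective _ Ideal.Quotient.mk_surjective, ← RingHom.ker_eq_comap_bot,
    Ideal.mk_ker, sup_comm]

lemma isPrime_schubertVanishing [Infinite K] (hd : 0 < d) (φ : Idx d n) :
    (schubertVanishing K d n φ).IsPrime := by
  have := isDomain_schB K hd φ
  exact (Ideal.Quotient.isDomain_iff_prime _).1 this

section AlgClosed
variable [IsAlgClosed K] (hd : 0 < d) (hdn : d < n)

include hd hdn in
lemma comap_span_mk_X_eq_iInf (hτ : ∃ φ : Idx d n, φ < τ) :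
    Ideal.comap (Ideal.Quotient.mk (schubertVanishing K d n τ))
      (Ideal.span {Ideal.Quotient.mk (schubertVanishing K d n τ) (X τ)}) =
      ⨅ φ ∈ divisors τ, schubertVanishing K d n φ := by
  rw [comap_span_mk_X]
  exact Groth.Agent.S11254.result K d n hd hdn τ hτ

include hd in
lemma span_mk_X_eq_ker_aug (hτ : ¬ ∃ φ : Idx d n, φ < τ) :
    Ideal.span {Ideal.Quotient.mk (schubertVanishing K d n τ) (X τ)} = RingHom.ker (aug K hd τ) := by
  classical
  apply le_antisymm
  · rw [Ideal.span_le, Set.singleton_subset_iff]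
    show aug K hd τ _ = 0
    rw [aug_mk, constantCoeff_X]
  · intro y hy
    obtain ⟨f, rfl⟩ := Ideal.Quotient.mk_surjective y
    have hf0 : constantCoeff f = 0 := hy
    have hf : f ∈ Ideal.span (MvPolynomial.X '' (Set.univ : Set (Idx d n)) : Set (PlRing K d n)) := by
      rw [mem_ideal_span_X_image]
      intro m hm
      have hm0 : m ≠ 0 := by
        rintro rfl
        rw [mem_support_iff] at hm
        exact hm ((congrFun (constantCoeff_eq (R := K) (σ := Idx d n)) f).symm.trans hf0)
      obtain ⟨i, hi⟩ := Finsupp.support_nonempty_iff.2 hm0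
      exact ⟨i, Set.mem_univ _, Finsupp.mem_support_iff.1 hi⟩
    have hle : Ideal.span (MvPolynomial.X '' (Set.univ : Set (Idx d n)) : Set (PlRing K d n)) ≤
        Ideal.comap (Ideal.Quotient.mk (schubertVanishing K d n τ))
          (Ideal.span {Ideal.Quotient.mk (schubertVanishing K d n τ) (X τ)}) := by
      rw [Ideal.span_le]
      rintro _ ⟨θ, -, rfl⟩
      show Ideal.Quotient.mk (schubertVanishing K d n τ) (X θ) ∈
        Ideal.span {Ideal.Quotient.mk (schubertVanishing K d n τ) (X τ)}
      by_cases hθ : θ = τ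
      · rw [hθ]; exact Ideal.subset_span rfl
      · have hnle : ¬ θ ≤ τ := fun hle => hτ ⟨θ, lt_of_le_of_ne hle hθ⟩
        rw [Ideal.Quotient.eq_zero_iff_mem.2 (X_mem_schubertVanishing K hnle)]
        exact Ideal.zero_mem _
    exact hle hf

include hd hdn in
/-- The ideal `(x_τ)` of `S/J(τ)` is radical. -/
theorem isRadical_span_mk_X :
    (Ideal.span {Ideal.Quotient.mk (schubertVanishing K d n τ) (X τ)}).IsRadical := by
  by_cases hτ : ∃ φ : Idx d n, φ < τ
  · rintro y ⟨k, hk⟩
    obtain ⟨f, rfl⟩ := Ideal.Quotient.mk_surjective y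
    have h1 : f ^ k ∈ Ideal.comap (Ideal.Quotient.mk (schubertVanishing K d n τ))
        (Ideal.span {Ideal.Quotient.mk (schubertVanishing K d n τ) (X τ)}) := by
      rw [Ideal.mem_comap, map_pow]; exact hk
    rw [comap_span_mk_X_eq_iInf K τ hd hdn hτ] at h1
    have h2 : f ∈ ⨅ φ ∈ divisors τ, schubertVanishing K d n φ := by
      rw [Ideal.mem_iInf] at h1 ⊢
      intro φ
      have h3 := h1 φ
      rw [Ideal.mem_iInf] at h3 ⊢
      intro hφ
      have := isPrime_schubertVanishing K hd φ
      exact this.mem_of_pow_mem k (h3 hφ)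
    rw [← comap_span_mk_X_eq_iInf K τ hd hdn hτ] at h2
    exact h2
  · rw [span_mk_X_eq_ker_aug K τ hd hτ]
    have : (RingHom.ker (aug K hd τ)).IsMaximal :=
      RingHom.ker_isMaximal_of_surjective _ (aug_surjective K hd τ)
    exact this.isPrime.isRadical

end AlgClosed

end Groth.Agent.Lib.SchubertCell
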