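import Groth.Agent.Lib.DetCell
import Groth.Agent.Lib.SchubertCM
import Groth.Agent.S11259

/-!
# Determinantal rings: domain, normal, Cohen–Macaulay, dimension

Through `(S/J(w_t))[1/X_ι] ≅ (K[Z]/I_t)[T][1/T]` and `K[Z]/I_t ≅ (S/J(w_t))/(X_ι - 1)` the properties of the cone over
the Schubert variety `X(w_t)` descend to the determinantal ring `K[Z]/I_t`.
-/

set_option autoImplicit false
set_option linter.unusedSectionVars false
set_option linter.unusedSimpArgs false
universe u
open Finset MvPolynomial W4bk4grassmannian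

noncomputable section

namespace Groth.Agent.Lib.DetCell
open Groth.Agent.Lib.PlSMT Groth.Agent.Lib.Bitab Groth.Agent.Lib.SchubertCell

/-- A retract of an integrally closed domain is integrally closed. -/
theorem isIntegrallyClosed_of_retract {A B : Type*} [CommRing A] [IsDomain A] [CommRing B]
    [IsDomain B] [IsIntegrallyClosed B] (ι : A →+* B) (ρ : B →+* A) (h : ∀ a, ρ (ι a) = a) :
    IsIntegrallyClosed A := by
  have hinj : Function.Injective ι := fun a b hab => by rw [← h a, ← h b, hab]
  let KA := FractionRing A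
  let KB := FractionRing B
  have hinj' : Function.Injective ((algebraMap B KB).comp ι) :=
    (IsFractionRing.injective B KB).comp hinj
  let g : KA →+* KB := IsFractionRing.lift hinj'
  have hg : ∀ a : A, g (algebraMap A KA a) = algebraMap B KB (ι a) :=
    fun a => IsFractionRing.lift_algebraMap hinj' a
  rw [isIntegrallyClosed_iff KA]
  intro x hx
  obtain ⟨p, hp, hpx⟩ := hx
  have hgx : IsIntegral B (g x) := by
    refine ⟨p.map ι, hp.map ι, ?_⟩
    rw [Polynomial.eval₂_map]
    have h1 := Polynomial.hom_eval₂ p (algebraMap A KA) g x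
    rw [hpx, map_zero] at h1
    have h2 : g.comp (algebraMap A KA) = (algebraMap B KB).comp ι := RingHom.ext hg
    rw [h2] at h1
    exact h1.symm
  obtain ⟨q, hq⟩ := (isIntegrallyClosed_iff KB).1 ‹IsIntegrallyClosed B› hgx
  obtain ⟨a, b, hb, rfl⟩ := IsFractionRing.div_surjective (A := A) x
  have hb0 : algebraMap A KA b ≠ 0 := by
    intro h0
    have := (IsFractionRing.injective A KA) (h0.trans (map_zero _).symm)
    exact (nonZeroDivisors.ne_zero hb) this
  have hb1 : algebraMap B KB (ι b) ≠ 0 := by
    rw [← hg]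
    intro h0
    exact hb0 (g.injective (h0.trans (map_zero _).symm))
  rw [map_div₀, hg, hg, eq_div_iff hb1, ← map_mul] at hq
  have h3 : q * ι b = ι a := IsFractionRing.injective B KB hq
  have h4 : ρ q * b = a := by
    have := congrArg ρ h3
    rwa [map_mul, h, h] at this
  refine ⟨ρ q, ?_⟩
  rw [eq_div_iff hb0, ← map_mul, h4]

section Codeg

lemma codeg_add_sum {d N : ℕ} (θ : Idx d N) : codeg θ + ∑ k : Fin d, k.val = esum θ.1 := by
  unfold codeg esum
  rw [← Finset.sum_add_distrib]
  refine Finset.sum_congr rfl fun k _ => ?_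
  have := le_val θ k
  omega

lemma sum_range_ite (a r : ℕ) : ∀ N : ℕ, r ≤ N →
    ∑ j ∈ Finset.range N, (if j < r then a - 2 * j else 0) = ∑ j ∈ Finset.range r, (a - 2 * j) := by
  intro N hN
  induction N, hN using Nat.le_induction with
  | base =>
    refine Finset.sum_congr rfl fun j hj => ?_
    rw [if_pos (Finset.mem_range.1 hj)]
  | succ N hN ih =>
    rw [Finset.sum_range_succ, ih, if_neg (by omega), add_zero]

lemma sum_range_closed (a : ℕ) : ∀ r : ℕ, 2 * r ≤ a + 2 →
    ∑ j ∈ Finset.range r, (a - 2 * j) = r * (a + 1 - r) := by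
  intro r
  induction r with
  | zero => intro _; simp
  | succ r ih =>
    intro h
    rw [Finset.sum_range_succ, ih (by omega)]
    obtain ⟨c, rfl⟩ : ∃ c, a = 2 * r + c := ⟨a - 2 * r, by omega⟩
    have e1 : 2 * r + c + 1 - r = r + c + 1 := by omega
    have e2 : 2 * r + c - 2 * r = c := by omega
    have e3 : 2 * r + c + 1 - (r + 1) = r + c := by omega
    rw [e1, e2, e3]
    ring

lemma sum_formula (r n m : ℕ) (hn : 0 < n) (hrn : r ≤ n) (hrm : r ≤ m) :
    ∑ j : Fin n, (if j.val < r then n + (m - 1 - j.val) else j.val) =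
      ∑ j : Fin n, j.val + r * (n + m - r) := by
  have h1 : ∀ j : Fin n, (if j.val < r then n + (m - 1 - j.val) else j.val) =
      j.val + (if j.val < r then (n + m - 1) - 2 * j.val else 0) := by
    intro j
    have := j.isLt
    split_ifs with h
    · omega
    · omega
  rw [Finset.sum_congr rfl fun j _ => h1 j, Finset.sum_add_distrib]
  congr 1
  rw [Fin.sum_univ_eq_sum_range (fun j => if j < r then (n + m - 1) - 2 * j else 0) n,
    sum_range_ite _ _ n hrn, sum_range_closed _ r (by omega)]
  congr 1
  omega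

variable {m n : ℕ}

lemma rowsOf_Mmax (t : ℕ) (h2 : 2 ≤ t) (htm : t ≤ m + 1) (htn : t ≤ n + 1) (j : Fin n) :
    (rowsOf (Mmax t h2 htm htn) j).val = if j.val < t - 1 then n + (m - 1 - j.val) else j.val := by
  unfold rowsOf
  split_ifs with h
  · have hk : j.val < t - 2 + 1 := by omega
    have hg : Function.Injective (Mmax t h2 htm htn).2.2.1 := (Mmax t h2 htm htn).2.2.2.injective
    have hj : (Mmax t h2 htm htn).2.2.1 ⟨j.val, hk⟩ = j := Fin.ext rfl
    have := Groth.Agent.Lib.CellMinors.blockRows_apply n m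
      (Fin.rev ∘ (Mmax t h2 htm htn).2.1.1) hg ⟨j.val, hk⟩
    rw [hj] at this
    rw [this]
    show n + (Fin.rev ((Mmax t h2 htm htn).2.1.1 ⟨j.val, hk⟩)).val = _
    rw [Fin.val_rev]
    show n + (m - (j.val + 1)) = _
    omega
  · have hne : ¬ ∃ k, (Mmax t h2 htm htn).2.2.1 k = j := by
      rintro ⟨k, hk⟩
      have h1 : k.val = j.val := congrArg Fin.val hk
      have h3 : k.val < t - 2 + 1 := k.isLt
      omega
    rw [Groth.Agent.Lib.CellMinors.blockRows_apply' n m _ _ j hne]
    rfl

theorem codeg_wt (t : ℕ) (ht : 1 ≤ t) (htm : t ≤ m + 1) (htn : t ≤ n + 1) (hn : 0 < n) :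
    codeg (Bitab.wt t htm htn) = (t - 1) * (m + n - t + 1) := by
  unfold Bitab.wt
  split_ifs with h2
  · have h1 := codeg_add_sum (psi (Mmax t h2 htm htn))
    have h3 : esum (psi (Mmax t h2 htm htn)).1 = esum (rowsOf (Mmax t h2 htm htn)) :=
      esum_sortIdx _ _
    have h4 : esum (rowsOf (Mmax t h2 htm htn)) =
        ∑ j : Fin n, j.val + (t - 1) * (n + m - (t - 1)) := by
      unfold esum
      rw [Finset.sum_congr rfl fun j _ => rowsOf_Mmax t h2 htm htn j]
      exact sum_formula (t - 1) n m hn (by omega) (by omega)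
    rw [h3, h4] at h1
    have h5 : n + m - (t - 1) = m + n - t + 1 := by omega
    rw [h5] at h1
    omega
  · have : t = 1 := by omega
    subst this
    rw [codeg_wbot]
    simp

end Codeg

section Props
variable (K : Type u) [Field K] [IsAlgClosed K] (m n t : ℕ) (ht : 1 ≤ t) (htm : t ≤ m + 1)
  (htn : t ≤ n + 1) (hn : 0 < n) (hm : 0 < m)

include ht htm htn hn hm in
/-- The determinantal ring is a normal domain. -/
theorem isDomain_and_isIntegrallyClosed :
    IsDomain (DetRing K m n t) ∧ IsIntegrallyClosed (DetRing K m n t) := by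
  have hnm : n < n + m := by omega
  obtain ⟨hdomR, hicR⟩ := Groth.Agent.S11259.result K n (n + m) hn hnm (Bitab.wt t htm htn)
  let B := Localization.Away (Polynomial.X : Polynomial (DetRing K m n t))
  let _ : Algebra (SchB K (Bitab.wt t htm htn)) B := (cellMapT K m n t ht htm htn hn hm).toAlgebra
  have hloc : IsLocalization.Away
      (Ideal.Quotient.mk (schubertVanishing K n (n + m) (Bitab.wt t htm htn))
        (X (wbot (Nat.le_add_right n m)))) B := isLocalization_cellT K m n t ht htm htn hn hm
  have hs0 : Ideal.Quotient.mk (schubertVanishing K n (n + m) (Bitab.wt t htm htn))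
      (X (wbot (Nat.le_add_right n m))) ≠ 0 :=
    (prime_mk_X_wbot K hn hnm (Bitab.wt t htm htn)).ne_zero
  have hle := powers_le_nonZeroDivisors_of_noZeroDivisors hs0
  have hdomB : IsDomain B := IsLocalization.isDomain_of_le_nonZeroDivisors
    (M := Submonoid.powers (Ideal.Quotient.mk (schubertVanishing K n (n + m)
      (Bitab.wt t htm htn)) (X (wbot (Nat.le_add_right n m))))) B hle
  have hicB : IsIntegrallyClosed B := isIntegrallyClosed_of_isLocalization B _ hle
  let ι : DetRing K m n t →+* B :=
    (algebraMap (Polynomial (DetRing K m n t)) B).comp Polynomial.C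
  have hιinj : Function.Injective ι :=
    (algebraMap_polynomial_injective K m n t).comp Polynomial.C_injective
  have hdomA : IsDomain (DetRing K m n t) := Function.Injective.isDomain ι hιinj
  let ρ : B →+* DetRing K m n t :=
    IsLocalization.Away.lift (Polynomial.X : Polynomial (DetRing K m n t))
      (g := Polynomial.evalRingHom (1 : DetRing K m n t)) (by
        rw [Polynomial.coe_evalRingHom, Polynomial.eval_X]; exact isUnit_one)
  have hρ : ∀ a, ρ (ι a) = a := by
    intro a
    show ρ (algebraMap _ _ (Polynomial.C a)) = a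
    rw [IsLocalization.Away.lift_eq]
    simp
  exact ⟨hdomA, isIntegrallyClosed_of_retract ι ρ hρ⟩

/-- The specialization `T ↦ 1`: the map `S/J(w_t) → K[Z]/I_t` induced by `Psi`. -/
def PsiBar : SchB K (Bitab.wt t htm htn) →+* DetRing K m n t :=
  (Polynomial.evalRingHom (1 : DetRing K m n t)).comp
    (betaBar K m n t ht htm htn hn hm).toRingHom

lemma PsiBar_mk (f : PlRing K n (n + m)) :
    PsiBar K m n t ht htm htn hn hm
      (Ideal.Quotient.mk (schubertVanishing K n (n + m) (Bitab.wt t htm htn)) f) =
      Ideal.Quotient.mk (It K m n t) (Psi K m n f) := by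
  have key : ((PsiBar K m n t ht htm htn hn hm).comp
      (Ideal.Quotient.mk (schubertVanishing K n (n + m) (Bitab.wt t htm htn)))) =
      (Ideal.Quotient.mk (It K m n t)).comp (Psi K m n).toRingHom := by
    apply MvPolynomial.ringHom_ext
    · intro c
      show Polynomial.eval 1 (beta K m n t (C c)) = Ideal.Quotient.mk (It K m n t) (Psi K m n (C c))
      rw [show (C c : PlRing K n (n + m)) = algebraMap K _ c from rfl, AlgHom.commutes,
        AlgHom.commutes]
      show Polynomial.eval 1 (Polynomial.C (algebraMap K (DetRing K m n t) c)) = _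
      rw [Polynomial.eval_C]
      rfl
    · intro θ
      show Polynomial.eval 1 (beta K m n t (X θ)) = Ideal.Quotient.mk (It K m n t) (Psi K m n (X θ))
      rw [beta_X K m n t hn, Polynomial.eval_mul, Polynomial.eval_X, Polynomial.eval_C, one_mul]
  exact congrArg (fun g => g f) key

lemma PsiBar_surjective : Function.Surjective (PsiBar K m n t ht htm htn hn hm) := by
  intro a
  obtain ⟨g, rfl⟩ := Ideal.Quotient.mk_surjective a
  obtain ⟨f, rfl⟩ := Psi_surjective K m n g
  exact ⟨Ideal.Quotient.mk _ f, PsiBar_mk K m n t ht htm htn hn hm f⟩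

/-- The kernel of `S/J(w_t) → K[Z]/I_t` is generated by `X_ι - 1`. -/
theorem ker_PsiBar :
    RingHom.ker (PsiBar K m n t ht htm htn hn hm) =
      Ideal.span {Ideal.Quotient.mk (schubertVanishing K n (n + m) (Bitab.wt t htm htn))
        (X (wbot (Nat.le_add_right n m))) - 1} := by
  set s := Ideal.Quotient.mk (schubertVanishing K n (n + m) (Bitab.wt t htm htn))
    (X (wbot (Nat.le_add_right n m))) with hs
  have hβs : betaBar K m n t ht htm htn hn hm (s - 1) = Polynomial.X - Polynomial.C 1 := by
    rw [map_sub, hs, betaBar_X_wbot K m n t ht htm htn hn hm, map_one, map_one]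
  apply le_antisymm
  · intro r hr
    have h1 : betaBar K m n t ht htm htn hn hm r ∈
        RingHom.ker (Polynomial.evalRingHom (1 : DetRing K m n t)) := hr
    rw [Polynomial.ker_evalRingHom, Ideal.mem_span_singleton'] at h1
    obtain ⟨p, hp⟩ := h1
    obtain ⟨k, r', hr'⟩ := exists_beta_eq K m n t hn p
    have h2 : betaBar K m n t ht htm htn hn hm (s ^ k * r) =
        betaBar K m n t ht htm htn hn hm ((s - 1) * Ideal.Quotient.mk _ r') := by
      rw [map_mul, map_mul, map_pow, hs, betaBar_X_wbot K m n t ht htm htn hn hm, ← hs, hβs,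
        betaBar_mk, hr', ← hp]
      ring
    have h3 := betaBar_injective K m n t ht htm htn hn hm h2
    rw [Ideal.mem_span_singleton]
    have h4 : s - 1 ∣ 1 - s ^ k := by
      have := one_sub_dvd_one_sub_pow s k
      have h5 : s - 1 ∣ 1 - s := ⟨-1, by ring⟩
      exact dvd_trans h5 this
    have h6 : r = (1 - s ^ k) * r + s ^ k * r := by ring
    rw [h6, h3]
    exact dvd_add (Dvd.dvd.mul_right h4 _) (dvd_mul_right _ _)
  · rw [Ideal.span_le, Set.singleton_subset_iff]
    show Polynomial.eval 1 (betaBar K m n t ht htm htn hn hm (s - 1)) = 0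
    rw [hβs]
    simp

/-- `K[Z]/I_t ≅ (S/J(w_t))/(X_ι - 1)`. -/
def detRingEquiv :
    (SchB K (Bitab.wt t htm htn) ⧸
      Ideal.span {Ideal.Quotient.mk (schubertVanishing K n (n + m) (Bitab.wt t htm htn))
        (X (wbot (Nat.le_add_right n m))) - 1}) ≃+* DetRing K m n t :=
  (Ideal.quotEquivOfEq (ker_PsiBar K m n t ht htm htn hn hm).symm).trans
    (RingHom.quotientKerEquivOfSurjective (PsiBar_surjective K m n t ht htm htn hn hm))

include ht htm htn hn hm in
/-- The determinantal ring is Cohen–Macaulay. -/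
theorem isCMRing_detRing : LocCoh.IsCohenMacaulayRing (DetRing K m n t) := by
  have hnm : n < n + m := by omega
  have hR : LocCoh.IsCohenMacaulayRing (SchB K (Bitab.wt t htm htn)) :=
    (Groth.Agent.Lib.SchubertCM.cm_aux K hn hnm _ (Bitab.wt t htm htn) rfl).1
  have hdomR : IsDomain (SchB K (Bitab.wt t htm htn)) := isDomain_schB K hn _
  have hq : LocCoh.IsCohenMacaulayRing (SchB K (Bitab.wt t htm htn) ⧸
      Ideal.span {Ideal.Quotient.mk (schubertVanishing K n (n + m) (Bitab.wt t htm htn))
        (X (wbot (Nat.le_add_right n m))) - 1}) := by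
    refine ⟨fun q hq => ?_⟩
    have h1 : IsDomain (Localization.AtPrime (q.comap (Ideal.Quotient.mk (Ideal.span
        {Ideal.Quotient.mk (schubertVanishing K n (n + m) (Bitab.wt t htm htn))
          (X (wbot (Nat.le_add_right n m))) - 1})))) :=
      IsLocalization.isDomain_localization (Ideal.primeCompl_le_nonZeroDivisors _)
    have h2 : LocCoh.IsCohenMacaulayLocalRing (Localization.AtPrime (q.comap (Ideal.Quotient.mk
        (Ideal.span {Ideal.Quotient.mk (schubertVanishing K n (n + m) (Bitab.wt t htm htn))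
          (X (wbot (Nat.le_add_right n m))) - 1})))) :=
      hR.isCohenMacaulayLocalRing_localization _
    exact Groth.Agent.Lib.H14CMQuot.isCMLocalRing_localization_quotient_span_singleton _ q
  exact Groth.Agent.Lib.CMRingEquiv96.isCohenMacaulayRing_of_ringEquiv
    (R := SchB K (Bitab.wt t htm htn) ⧸
      Ideal.span {Ideal.Quotient.mk (schubertVanishing K n (n + m) (Bitab.wt t htm htn))
        (X (wbot (Nat.le_add_right n m))) - 1})
    (detRingEquiv K m n t ht htm htn hn hm)

lemma withBot_add_one_cancel {a : WithBot ℕ∞} {c : ℕ} (h : a + 1 = ((c + 1 : ℕ) : WithBot ℕ∞)) :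
    a = (c : WithBot ℕ∞) := by
  induction a using WithBot.recBotCoe with
  | bot => exact absurd h (by rw [WithBot.bot_add]; exact WithBot.bot_ne_coe)
  | coe a =>
    induction a using ENat.recTopCoe with
    | top =>
      exfalso
      have h1 : ((⊤ : ℕ∞) : WithBot ℕ∞) + 1 = ((⊤ + 1 : ℕ∞) : WithBot ℕ∞) := rfl
      rw [h1, top_add] at h
      have h2 : (⊤ : ℕ∞) = ((c + 1 : ℕ) : ℕ∞) := WithBot.coe_injective h
      exact ENat.top_ne_natCast _ h2
    | coe a =>
      have h1 : ((a : ℕ∞) : WithBot ℕ∞) + 1 = (((a + 1 : ℕ) : ℕ∞) : WithBot ℕ∞) := by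
        push_cast; rfl
      rw [h1] at h
      have h2 : ((a + 1 : ℕ) : ℕ∞) = ((c + 1 : ℕ) : ℕ∞) := WithBot.coe_injective h
      have h3 : a + 1 = c + 1 := by exact_mod_cast h2
      have h4 : a = c := by omega
      rw [h4]
      rfl

include ht htm htn hn hm in
/-- The dimension of the determinantal ring. -/
theorem ringKrullDim_detRing :
    ringKrullDim (DetRing K m n t) = (((t - 1) * (m + n - t + 1) : ℕ) : WithBot ℕ∞) := by
  have hnm : n < n + m := by omega
  have hdomR : IsDomain (SchB K (Bitab.wt t htm htn)) := isDomain_schB K hn _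
  obtain ⟨hdomA, -⟩ := isDomain_and_isIntegrallyClosed K m n t ht htm htn hn hm
  set s := Ideal.Quotient.mk (schubertVanishing K n (n + m) (Bitab.wt t htm htn))
    (X (wbot (Nat.le_add_right n m))) with hs
  have hβs : betaBar K m n t ht htm htn hn hm (s - 1) = Polynomial.X - Polynomial.C 1 := by
    rw [map_sub, hs, betaBar_X_wbot K m n t ht htm htn hn hm, map_one, map_one]
  have hf0 : s - 1 ≠ 0 := by
    intro h0
    rw [h0, map_zero] at hβs
    exact Polynomial.X_sub_C_ne_zero (1 : DetRing K m n t) hβs.symm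
  have hfu : ¬ IsUnit (s - 1) := by
    intro hu
    have := hu.map (betaBar K m n t ht htm htn hn hm)
    rw [hβs] at this
    exact Polynomial.not_isUnit_X_sub_C (1 : DetRing K m n t) this
  have h1 : (Ideal.span {s - 1}).height = 1 :=
    Ideal.height_span_singleton_eq_one_of_mem_nonZeroDivisors
      (mem_nonZeroDivisors_of_ne_zero hf0) hfu
  have hdomQ : IsDomain (SchB K (Bitab.wt t htm htn) ⧸ Ideal.span {s - 1}) :=
    (detRingEquiv K m n t ht htm htn hn hm).toMulEquiv.isDomain (DetRing K m n t)
  have hprime : (Ideal.span {s - 1}).IsPrime := (Ideal.Quotient.isDomain_iff_prime _).1 hdomQ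
  have h2 := Groth.Agent.Lib.FTDim.ringKrullDim_quotient_add_one_of_height_eq_one K
    (SchB K (Bitab.wt t htm htn)) (Ideal.span {s - 1}) h1
  rw [ringKrullDim_schB K hn (Bitab.wt t htm htn)] at h2
  have h3 := withBot_add_one_cancel h2
  have h4 := ringKrullDim_eq_of_ringEquiv
    (R := SchB K (Bitab.wt t htm htn) ⧸ Ideal.span {s - 1})
    (detRingEquiv K m n t ht htm htn hn hm)
  rw [← h4, h3, codeg_wt t ht htm htn hn]

end Props

end Groth.Agent.Lib.DetCell
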