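import Groth.Agent.Lib.ExtPowInv21
import Groth.Agent.Lib.H78Atlas
import Mathlib.LinearAlgebra.Determinant
import Mathlib.LinearAlgebra.ExteriorPower.Basic

/-!
# Determinant sections (helper42)

For `E`, `L` with `ExtPow.IsExtPow n E L`, an invertible `P` and `n` global sections `s i` of `E ⊗ P`,
the section `det s` of `L ⊗ P^{⊗ n}`.
-/

set_option autoImplicit false
universe u
open CategoryTheory CategoryTheory.Limits AlgebraicGeometry Opposite TopologicalSpace
open Groth.Agent.Lib.H90Invertible Groth.Agent.Lib.StructureModule Groth.Agent.Lib.H78TensorGen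
open Groth.Agent.Lib.H78SecCoord Groth.Agent.Lib.LocFreeBasis48 Groth.Agent.Lib.H78Atlas
open Groth.Agent.Lib.ExtPowInv21

namespace Groth.Agent.Lib.DetSec42

section Algebra

variable {R M : Type*} [CommRing R] [AddCommGroup M] [Module R M] {n : ℕ}

/-- in the top exterior power of a free module, `v₁ ∧ ⋯ ∧ vₙ = det(v) • b₁ ∧ ⋯ ∧ bₙ` -/
theorem ιMulti_eq_det_smul (b : Module.Basis (Fin n) R M) (v : Fin n → M) :
    exteriorPower.ιMulti R n v = b.det v • exteriorPower.ιMulti R n b := by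
  let g : M [⋀^Fin n]→ₗ[R] ⋀[R]^n M :=
    (LinearMap.toSpanSingleton R (⋀[R]^n M) (exteriorPower.ιMulti R n b)).compAlternatingMap b.det
  have key : exteriorPower.ιMulti R n = g := by
    refine Module.Basis.ext_alternating b fun i hi => ?_
    let σ : Equiv.Perm (Fin n) := Equiv.ofBijective i (Finite.injective_iff_bijective.1 hi)
    change exteriorPower.ιMulti R n (b ∘ σ) = g (b ∘ σ)
    simp [g, AlternatingMap.map_perm, Module.Basis.det_self]
  have h := DFunLike.congr_fun key v
  rw [h]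
  rfl

/-- the top exterior power of a free module of rank `n` is freely generated by the wedge of a basis -/
theorem bijective_smul_ιMulti_basis (b : Module.Basis (Fin n) R M) :
    Function.Bijective (fun a : R => a • exteriorPower.ιMulti R n b) := by
  constructor
  · intro a a' h
    have h1 := congrArg (exteriorPower.alternatingMapLinearEquiv b.det) h
    simp only [map_smul, exteriorPower.alternatingMapLinearEquiv_apply_ιMulti,
      Module.Basis.det_self, smul_eq_mul, mul_one] at h1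
    exact h1
  · intro y
    have hy : y ∈ Submodule.span R (Set.range (exteriorPower.ιMulti R n (M := M))) := by
      rw [exteriorPower.ιMulti_span]
      trivial
    induction hy using Submodule.span_induction with
    | mem y hy =>
      obtain ⟨v, rfl⟩ := hy
      exact ⟨b.det v, (ιMulti_eq_det_smul b v).symm⟩
    | zero => exact ⟨0, zero_smul _ _⟩
    | add y z _ _ hy hz =>
      obtain ⟨a, ha⟩ := hy
      obtain ⟨c, hc⟩ := hz
      exact ⟨a + c, by simp only [add_smul]; rw [← ha, ← hc]⟩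
    | smul r y _ hy =>
      obtain ⟨a, ha⟩ := hy
      exact ⟨r * a, by simp only [mul_smul]; rw [← ha]⟩

end Algebra


section Sheaf

variable {X : Scheme.{u}} {n : ℕ} {E L : X.Modules}
  (φ : ∀ U : X.affineOpens, (L.val.obj (op U.1)) ≃ₗ[Γ(X, U.1)] ↥(⋀[Γ(X, U.1)]^n (E.val.obj (op U.1))))
  (hφ : ∀ (U V : X.affineOpens) (h : V.1 ≤ U.1) (e : Fin n → E.val.obj (op U.1)),
      L.val.map (homOfLE h).op ((φ U).symm (exteriorPower.ιMulti _ n e)) =
        (φ V).symm (exteriorPower.ιMulti _ n (fun j => E.val.map (homOfLE h).op (e j))))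

/-- the wedge of `n` sections of `E` over an affine open, as a section of `L` -/
noncomputable def lam {W : X.Opens} (hW : IsAffineOpen W) (v : Fin n → Γ(E, W)) : Γ(L, W) :=
  (φ ⟨W, hW⟩).symm (exteriorPower.ιMulti _ n v)

include hφ in
lemma lam_rs {W W' : X.Opens} (hW : IsAffineOpen W) (hW' : IsAffineOpen W') (h : W' ≤ W)
    (v : Fin n → Γ(E, W)) :
    rs L h (lam φ hW v) = lam φ hW' (fun j => rs E h (v j)) :=
  hφ ⟨W, hW⟩ ⟨W', hW'⟩ h v

lemma lam_smul {W : X.Opens} (hW : IsAffineOpen W) (c : Γ(X, W)) (v : Fin n → Γ(E, W)) :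
    lam φ hW (fun i => c • v i) = c ^ n • lam φ hW v := by
  unfold lam
  have h1 := (exteriorPower.ιMulti Γ(X, W) n (M := E.val.obj (op W))).map_smul_univ (fun _ => c) v
  rw [Finset.prod_const, Finset.card_univ, Fintype.card_fin] at h1
  exact (congrArg (φ ⟨W, hW⟩).symm h1).trans ((φ ⟨W, hW⟩).symm.map_smul _ _)

lemma lam_det {W : X.Opens} (hW : IsAffineOpen W) (b : Module.Basis (Fin n) Γ(X, W) Γ(E, W))
    (v : Fin n → Γ(E, W)) : lam φ hW v = b.det v • lam φ hW b := by
  unfold lam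
  exact (congrArg (φ ⟨W, hW⟩).symm (ιMulti_eq_det_smul b v)).trans ((φ ⟨W, hW⟩).symm.map_smul _ _)

include hφ in
/-- the wedge of a basis is a free generator of `L` -/
theorem isGen_lam {W : X.Opens} (hW : IsAffineOpen W) {e : Fin n → Γ(E, W)} (he : IsBasis E W e) :
    IsGen L W (lam φ hW e) := by
  refine isGen_of_forall_exists _ ?_
  intro W₁ hW₁ y hy
  obtain ⟨_, ⟨W', hW'aff, rfl⟩, hyW', hW'W⟩ :=
    X.isBasis_affineOpens.exists_subset_of_mem_open hy W₁.2
  refine ⟨W', hW'W, hyW', ?_⟩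
  rw [lam_rs φ hφ hW hW'aff (hW'W.trans hW₁) e]
  have h2 : (fun j => rs E (hW'W.trans hW₁) (e j)) = basisOf he (hW'W.trans hW₁) := by
    funext j
    exact (basisOf_apply he (hW'W.trans hW₁) j).symm
  rw [h2]
  have hb := bijective_smul_ιMulti_basis (basisOf he (hW'W.trans hW₁))
  have hφb : Function.Bijective (φ ⟨W', hW'aff⟩).symm := (φ ⟨W', hW'aff⟩).symm.bijective
  have h3 : ∀ a : Γ(X, W'), (φ ⟨W', hW'aff⟩).symm (a • exteriorPower.ιMulti _ n
      (basisOf he (hW'W.trans hW₁))) = a • (φ ⟨W', hW'aff⟩).symm (exteriorPower.ιMulti _ n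
      (basisOf he (hW'W.trans hW₁))) := fun a => (φ ⟨W', hW'aff⟩).symm.map_smul a _
  have h4 := hφb.comp hb
  refine ⟨fun a a' haa' => h4.1 ?_, fun t => ?_⟩
  · exact (h3 a).trans (haa'.trans (h3 a').symm)
  · obtain ⟨a, ha⟩ := h4.2 t
    exact ⟨a, (h3 a).symm.trans ha⟩


variable {P : X.Modules}

/-- independence of the choice of the generator of `P` -/
lemma key_indep {W : X.Opens} (hW : IsAffineOpen W) {ε ε' : Γ(P, W)} (hε : IsGen P W ε)
    (σ σ' : Fin n → Γ(E, W)) (h : ∀ i, tmul (σ i) ε = tmul (σ' i) ε') :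
    tmul (lam φ hW σ) (epow ε n) = tmul (lam φ hW σ') (epow ε' n) := by
  set c := coord hε le_rfl ε' with hc
  have hc' : c • ε = ε' := by
    have := coord_spec hε le_rfl ε'
    rwa [rs_self] at this
  have hσ : ∀ i, σ i = c • σ' i := by
    intro i
    have hb := (tmul_gen_bijective E hε (le_refl W)).1
    apply hb
    change tmul (σ i) (rs P le_rfl ε) = tmul (c • σ' i) (rs P le_rfl ε)
    rw [rs_self, h i, ← hc', tmul_smul, smul_tmul]
  have h1 : lam φ hW σ = c ^ n • lam φ hW σ' := by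
    rw [← lam_smul φ hW c σ']
    congr 1
    funext i
    exact hσ i
  rw [h1, ← hc', epow_smul, smul_tmul, tmul_smul]

section DetSection

variable (hP : PicF.IsInvertible P) (s : Fin n → Γ(CohB1.tensorMod E P, ⊤))

include hφ hP in
/-- **the determinant section**: a global section of `L ⊗ P^{⊗ n}` which is, over every affine open `W` with a
generator `ε` of `P`, the wedge of the `E`-components of the sections `s i = σ i ⊗ ε`. -/
theorem exists_detSec :
    ∃ t : Γ(CohB1.tensorMod L (CohB1.tensorPow P n), ⊤),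
      ∀ (W : X.Opens) (hW : IsAffineOpen W) (ε : Γ(P, W)) (_ : IsGen P W ε) (σ : Fin n → Γ(E, W)),
        (∀ i, tmul (σ i) ε = rs _ le_top (s i)) →
          rs _ le_top t = tmul (lam φ hW σ) (epow ε n) := by
  obtain ⟨V, hxV, hVaff, ⟨A⟩⟩ := exists_atlas hP
  have hσex : ∀ x : X, ∃ σ : Fin n → Γ(E, V x), ∀ i, tmul (σ i) (A.E x) = rs _ le_top (s i) := by
    intro x
    have hb := (tmul_gen_bijective E (A.gen x) (le_refl (V x))).2
    choose σ hσ using fun i => hb (rs _ le_top (s i))
    refine ⟨σ, fun i => ?_⟩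
    have := hσ i
    change tmul (σ i) (rs P le_rfl (A.E x)) = _ at this
    rwa [rs_self] at this
  choose σ hσ using hσex
  -- the local descriptions agree on small affine opens
  have hloc : ∀ (x : X) (W : X.Opens) (hW : IsAffineOpen W) (hWx : W ≤ V x) (ε : Γ(P, W))
      (_ : IsGen P W ε) (σ' : Fin n → Γ(E, W)), (∀ i, tmul (σ' i) ε = rs _ le_top (s i)) →
      rs _ hWx (tmul (lam φ (hVaff x) (σ x)) (epow (A.E x) n)) = tmul (lam φ hW σ') (epow ε n) := by
    intro x W hW hWx ε hε σ' hσ'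
    rw [tmul_rs, lam_rs φ hφ (hVaff x) hW hWx, epow_rs]
    refine key_indep φ hW ((A.gen x).mono hWx) _ _ (fun i => ?_)
    rw [← tmul_rs, hσ x i, rs_rs, hσ' i]
  obtain ⟨t, ht⟩ := sec_glue (CohB1.tensorMod L (CohB1.tensorPow P n)) V (fun x => le_top)
    (fun x _ => Opens.mem_iSup.2 ⟨x, hxV x⟩)
    (fun x => tmul (lam φ (hVaff x) (σ x)) (epow (A.E x) n)) (by
      intro x y
      refine sec_ext _ _ _ (fun z hz => ?_)
      obtain ⟨_, ⟨W, hWaff, rfl⟩, hzW, hWle⟩ :=
        X.isBasis_affineOpens.exists_subset_of_mem_open hz (V x ⊓ V y).2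
      have hWle' : W ≤ V x ⊓ V y := hWle
      refine ⟨W, hWle', hzW, ?_⟩
      rw [rs_rs, rs_rs]
      have hWx : W ≤ V x := hWle'.trans inf_le_left
      have hWy : W ≤ V y := hWle'.trans inf_le_right
      have hgen : IsGen P W (rs P hWx (A.E x)) := (A.gen x).mono hWx
      have hσ' : ∀ i, tmul (rs E hWx (σ x i)) (rs P hWx (A.E x)) = rs _ le_top (s i) := by
        intro i
        rw [← tmul_rs, hσ x i, rs_rs]
      rw [hloc x W hWaff hWx _ hgen _ hσ', hloc y W hWaff hWy _ hgen _ hσ'])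
  refine ⟨t, fun W hW ε hε σ' hσ' => ?_⟩
  refine sec_ext _ _ _ (fun z hz => ?_)
  obtain ⟨_, ⟨W', hW'aff, rfl⟩, hzW', hW'le⟩ :=
    X.isBasis_affineOpens.exists_subset_of_mem_open (show z ∈ (W ⊓ V z : X.Opens) from ⟨hz, hxV z⟩)
      (W ⊓ V z).2
  have hW'le' : W' ≤ W ⊓ V z := hW'le
  have hW'W : W' ≤ W := hW'le'.trans inf_le_left
  have hW'V : W' ≤ V z := hW'le'.trans inf_le_right
  refine ⟨W', hW'W, hzW', ?_⟩
  have h1 : rs _ hW'W (rs _ (le_top : W ≤ ⊤) t) = rs _ hW'V (rs _ (le_top : V z ≤ ⊤) t) := by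
    rw [rs_rs, rs_rs]
  have hR : rs _ hW'W (tmul (lam φ hW σ') (epow ε n)) =
      tmul (lam φ hW'aff (fun j => rs E hW'W (σ' j))) (epow (rs P hW'W ε) n) := by
    rw [tmul_rs, lam_rs φ hφ hW hW'aff hW'W, epow_rs]
  rw [h1, ht z, hR]
  refine hloc z W' hW'aff hW'V _ (hε.mono hW'W) _ (fun i => ?_)
  rw [← tmul_rs, hσ' i, rs_rs]

end DetSection

section Coordinates

lemma tmul_zero_left (M N : X.Modules) {V : X.Opens} (y : Γ(N, V)) : tmul (0 : Γ(M, V)) y = 0 := by
  have h := smul_tmul (0 : Γ(X, V)) (0 : Γ(M, V)) y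
  rw [zero_smul, zero_smul] at h
  exact h

lemma tmul_sum_left {M N : X.Modules} {V : X.Opens} {ι : Type*} (S : Finset ι) (x : ι → Γ(M, V))
    (y : Γ(N, V)) : tmul (∑ i ∈ S, x i) y = ∑ i ∈ S, tmul (x i) y := by
  classical
  induction S using Finset.induction_on with
  | empty => simp [tmul_zero_left]
  | insert a S ha ih => rw [Finset.sum_insert ha, Finset.sum_insert ha, tmul_add_left, ih]

/-- a basis of `E` and a generator of `P` give a basis of `E ⊗ P` -/
theorem isBasis_tmul {W : X.Opens} {e : Fin n → Γ(E, W)} (he : IsBasis E W e) {ε : Γ(P, W)}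
    (hε : IsGen P W ε) : IsBasis (CohB1.tensorMod E P) W (fun j => tmul (e j) ε) := by
  intro W' hW'
  have h1 := he W' hW'
  have h2 := tmul_gen_bijective E hε hW'
  convert h2.comp h1 using 1
  funext a
  simp only [Function.comp_apply]
  rw [tmul_sum_left]
  refine Finset.sum_congr rfl (fun j _ => ?_)
  rw [tmul_rs, smul_tmul]

/-- a generator is a basis with one element -/
theorem isBasis_of_isGen {M : X.Modules} {W : X.Opens} {ℓ : Γ(M, W)} (hℓ : IsGen M W ℓ) :
    IsBasis M W (fun _ : Fin 1 => ℓ) := by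
  intro W' hW'
  have h1 := hℓ W' hW'
  constructor
  · intro a a' haa'
    funext i
    have hi : i = 0 := Subsingleton.elim _ _
    subst hi
    apply h1.1
    simpa using haa'
  · intro y
    obtain ⟨a, ha⟩ := h1.2 y
    exact ⟨fun _ => a, by simpa using ha⟩

include hφ in
/-- the generator of `L ⊗ P^{⊗ n}` attached to a basis of `E` and a generator of `P` -/
theorem isGen_lam_tmul {W : X.Opens} (hW : IsAffineOpen W) {e : Fin n → Γ(E, W)} (he : IsBasis E W e)
    {ε : Γ(P, W)} (hε : IsGen P W ε) :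
    IsGen (CohB1.tensorMod L (CohB1.tensorPow P n)) W (tmul (lam φ hW e) (epow ε n)) :=
  isGen_tmul (isGen_lam φ hφ hW he) (isGen_epow hε n)

/-- the wedge of sections with coordinate matrix `M` in a basis `e` is `det M` times the wedge of `e` -/
theorem lam_eq_det_smul {W : X.Opens} (hW : IsAffineOpen W) {e : Fin n → Γ(E, W)} (he : IsBasis E W e)
    (M : Matrix (Fin n) (Fin n) Γ(X, W)) :
    lam φ hW (fun i => ∑ j, M i j • e j) = M.det • lam φ hW e := by
  have hb : ∀ j, basisOf he (le_refl W) j = e j := by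
    intro j
    rw [basisOf_apply, rs_self]
  have hbe : (⇑(basisOf he (le_refl W)) : Fin n → Γ(E, W)) = e := funext hb
  rw [lam_det φ hW (basisOf he (le_refl W)), hbe]
  congr 1
  rw [Module.Basis.det_apply, ← Matrix.det_transpose]
  congr 1
  ext i j
  rw [Matrix.transpose_apply, Module.Basis.toMatrix_apply]
  have : (∑ k, M i k • e k) = ∑ k, M i k • basisOf he (le_refl W) k := by
    refine Finset.sum_congr rfl (fun k _ => ?_)
    rw [hb]
  rw [this, Module.Basis.repr_sum_self]

/-- coordinate form of the determinant section -/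
theorem detSec_coord (s : Fin n → Γ(CohB1.tensorMod E P, ⊤))
    (t : Γ(CohB1.tensorMod L (CohB1.tensorPow P n), ⊤))
    (ht : ∀ (W : X.Opens) (hW : IsAffineOpen W) (ε : Γ(P, W)) (_ : IsGen P W ε) (σ : Fin n → Γ(E, W)),
        (∀ i, tmul (σ i) ε = rs _ le_top (s i)) →
          rs _ le_top t = tmul (lam φ hW σ) (epow ε n))
    {W : X.Opens} (hW : IsAffineOpen W) {e : Fin n → Γ(E, W)} (he : IsBasis E W e)
    {ε : Γ(P, W)} (hε : IsGen P W ε) (M : Matrix (Fin n) (Fin n) Γ(X, W))
    (hM : ∀ i, rs _ le_top (s i) = ∑ j, M i j • tmul (e j) ε) :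
    rs _ le_top t = M.det • tmul (lam φ hW e) (epow ε n) := by
  have h1 := ht W hW ε hε (fun i => ∑ j, M i j • e j) (fun i => by
    rw [tmul_sum_left, hM i]
    exact Finset.sum_congr rfl (fun j _ => smul_tmul _ _ _))
  rw [h1, lam_eq_det_smul φ hW he, smul_tmul]

end Coordinates

end Sheaf

end Groth.Agent.Lib.DetSec42
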