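import Mathlib

/-!
# Exterior powers commute with base change (helper2)

`Groth.Agent.Lib.H2ExtPowBC.baseChangeEquiv A R M n : A ⊗[R] ⋀[R]^n M ≃ₗ[A] ⋀[A]^n (A ⊗[R] M)`
with `baseChangeEquiv (a ⊗ₜ ιMulti R n m) = a • ιMulti A n (fun i => 1 ⊗ₜ m i)`.
-/

set_option autoImplicit false

open TensorProduct

namespace Groth.Agent.Lib.H2ExtPowBC

universe u v w

variable (A : Type u) [CommRing A] (R : Type v) [CommRing R] [Algebra R A]
  (M : Type w) [AddCommGroup M] [Module R M] (n : ℕ)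

/-- the `R`-alternating map `m ↦ (1 ⊗ m₁) ∧ … ∧ (1 ⊗ mₙ)` -/
noncomputable def altOne : M [⋀^Fin n]→ₗ[R] ⋀[A]^n (A ⊗[R] M) :=
  { ((exteriorPower.ιMulti A n (M := A ⊗[R] M)).toMultilinearMap.restrictScalars R).compLinearMap
      (fun _ => TensorProduct.mk R A M 1) with
    map_eq_zero_of_eq' := fun v i j hv hij => by
      change exteriorPower.ιMulti A n (fun i => (1 : A) ⊗ₜ[R] v i) = 0
      exact (exteriorPower.ιMulti A n).map_eq_zero_of_eq _ (by simp [hv]) hij }

@[simp] theorem altOne_apply (m : Fin n → M) :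
    altOne A R M n m = exteriorPower.ιMulti A n (fun i => (1 : A) ⊗ₜ[R] m i) := rfl

/-- the comparison map `A ⊗ ⋀ⁿ_R M → ⋀ⁿ_A (A ⊗ M)` -/
noncomputable def toBC : A ⊗[R] ⋀[R]^n M →ₗ[A] ⋀[A]^n (A ⊗[R] M) :=
  LinearMap.liftBaseChange A (exteriorPower.alternatingMapLinearEquiv (altOne A R M n))

@[simp] theorem toBC_tmul_ιMulti (a : A) (m : Fin n → M) :
    toBC A R M n (a ⊗ₜ exteriorPower.ιMulti R n m) =
      a • exteriorPower.ιMulti A n (fun i => (1 : A) ⊗ₜ[R] m i) := by
  simp [toBC]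

/-! ### the inverse direction, through the exterior algebra -/

/-- `a ⊗ m ↦ a ⊗ ι m` -/
noncomputable def ιBC : A ⊗[R] M →ₗ[A] A ⊗[R] ExteriorAlgebra R M :=
  (ExteriorAlgebra.ι R (M := M)).baseChange A

@[simp] theorem ιBC_tmul (a : A) (m : M) :
    ιBC A R M (a ⊗ₜ m) = a ⊗ₜ ExteriorAlgebra.ι R m := rfl

theorem ιBC_anticomm (x y : A ⊗[R] M) :
    ιBC A R M x * ιBC A R M y + ιBC A R M y * ιBC A R M x = 0 := by
  induction x using TensorProduct.induction_on with
  | zero => simp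
  | add x₁ x₂ h₁ h₂ =>
    rw [map_add, add_mul, mul_add]
    calc _ = (ιBC A R M x₁ * ιBC A R M y + ιBC A R M y * ιBC A R M x₁) +
        (ιBC A R M x₂ * ιBC A R M y + ιBC A R M y * ιBC A R M x₂) := by abel
      _ = 0 := by rw [h₁, h₂, add_zero]
  | tmul a m =>
    induction y using TensorProduct.induction_on with
    | zero => simp
    | add y₁ y₂ h₁ h₂ =>
      rw [map_add, add_mul, mul_add]
      calc _ = (ιBC A R M (a ⊗ₜ m) * ιBC A R M y₁ + ιBC A R M y₁ * ιBC A R M (a ⊗ₜ m)) +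
          (ιBC A R M (a ⊗ₜ m) * ιBC A R M y₂ + ιBC A R M y₂ * ιBC A R M (a ⊗ₜ m)) := by abel
        _ = 0 := by rw [h₁, h₂, add_zero]
    | tmul b k =>
      rw [ιBC_tmul, ιBC_tmul, Algebra.TensorProduct.tmul_mul_tmul,
        Algebra.TensorProduct.tmul_mul_tmul, mul_comm b a, ← TensorProduct.tmul_add,
        ExteriorAlgebra.ι_add_mul_swap, TensorProduct.tmul_zero]

theorem ιBC_sq (x : A ⊗[R] M) : ιBC A R M x * ιBC A R M x = 0 := by
  induction x using TensorProduct.induction_on with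
  | zero => simp
  | add x y hx hy =>
    rw [map_add, add_mul, mul_add, mul_add, hx, hy]
    have := ιBC_anticomm A R M x y
    calc _ = ιBC A R M x * ιBC A R M y + ιBC A R M y * ιBC A R M x := by abel
      _ = 0 := this
  | tmul a m =>
    rw [ιBC_tmul, Algebra.TensorProduct.tmul_mul_tmul, ExteriorAlgebra.ι_sq_zero,
      TensorProduct.tmul_zero]

/-- the algebra map `⋀_A (A ⊗ M) → A ⊗ ⋀_R M` -/
noncomputable def G : ExteriorAlgebra A (A ⊗[R] M) →ₐ[A] A ⊗[R] ExteriorAlgebra R M :=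
  ExteriorAlgebra.lift A ⟨ιBC A R M, ιBC_sq A R M⟩

@[simp] theorem G_ι (x : A ⊗[R] M) : G A R M (ExteriorAlgebra.ι A x) = ιBC A R M x := by
  simp [G]

theorem G_ιMulti_one (m : Fin n → M) :
    G A R M (ExteriorAlgebra.ιMulti A n (fun i => (1 : A) ⊗ₜ[R] m i)) =
      (1 : A) ⊗ₜ[R] ExteriorAlgebra.ιMulti R n m := by
  rw [ExteriorAlgebra.ιMulti_apply, ExteriorAlgebra.ιMulti_apply, map_list_prod]
  have : ((1 : A) ⊗ₜ[R] (List.ofFn fun i => ExteriorAlgebra.ι R (m i)).prod :
      A ⊗[R] ExteriorAlgebra R M) =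
      (Algebra.TensorProduct.includeRight : ExteriorAlgebra R M →ₐ[R] A ⊗[R] ExteriorAlgebra R M)
        (List.ofFn fun i => ExteriorAlgebra.ι R (m i)).prod := rfl
  rw [this, map_list_prod, List.map_ofFn, List.map_ofFn]
  congr 2
  funext i
  simp

/-- projection of the exterior algebra to its degree `n` part -/
noncomputable def projN : ExteriorAlgebra R M →ₗ[R] ⋀[R]^n M :=
  (DirectSum.component R ℕ (fun i => ↥(⋀[R]^i M)) n).comp
    (DirectSum.decomposeLinearEquiv (fun i : ℕ => ⋀[R]^i M)).toLinearMap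

theorem projN_of_mem (x : ExteriorAlgebra R M) (hx : x ∈ ⋀[R]^n M) :
    projN R M n x = ⟨x, hx⟩ := by
  simp only [projN, LinearMap.coe_comp, LinearEquiv.coe_coe, Function.comp_apply,
    DirectSum.decomposeLinearEquiv_apply]
  exact Subtype.ext (DirectSum.decompose_of_mem_same _ hx)

/-- the inverse comparison map `⋀ⁿ_A (A ⊗ M) → A ⊗ ⋀ⁿ_R M` -/
noncomputable def ofBC : ⋀[A]^n (A ⊗[R] M) →ₗ[A] A ⊗[R] ⋀[R]^n M :=
  ((projN R M n).baseChange A).comp
    ((G A R M).toLinearMap.comp (Submodule.subtype (⋀[A]^n (A ⊗[R] M))))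

theorem ofBC_ιMulti_one (m : Fin n → M) :
    ofBC A R M n (exteriorPower.ιMulti A n (fun i => (1 : A) ⊗ₜ[R] m i)) =
      (1 : A) ⊗ₜ[R] exteriorPower.ιMulti R n m := by
  simp only [ofBC, LinearMap.coe_comp, Function.comp_apply, Submodule.subtype_apply,
    exteriorPower.ιMulti_apply_coe, AlgHom.toLinearMap_apply, G_ιMulti_one,
    LinearMap.baseChange_tmul]
  congr 1
  exact projN_of_mem R M n _ (exteriorPower.ιMulti R n m).2

theorem ofBC_toBC (x : A ⊗[R] ⋀[R]^n M) : ofBC A R M n (toBC A R M n x) = x := by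
  induction x using TensorProduct.induction_on with
  | zero => simp
  | add x y hx hy => rw [map_add, map_add, hx, hy]
  | tmul a y =>
    have h1 : (a ⊗ₜ[R] y : A ⊗[R] ⋀[R]^n M) = a • ((1 : A) ⊗ₜ[R] y) := by
      rw [TensorProduct.smul_tmul', smul_eq_mul, mul_one]
    rw [h1, map_smul, map_smul]
    congr 1
    -- R-linear in y
    have h2 : ((ofBC A R M n).restrictScalars R).comp
        (((toBC A R M n).restrictScalars R).comp (TensorProduct.mk R A (⋀[R]^n M) 1)) =
        TensorProduct.mk R A (⋀[R]^n M) 1 := by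
      apply exteriorPower.linearMap_ext
      ext m
      simp only [LinearMap.compAlternatingMap_apply, LinearMap.coe_comp,
        LinearMap.coe_restrictScalars, Function.comp_apply, TensorProduct.mk_apply,
        toBC_tmul_ιMulti, one_smul, ofBC_ιMulti_one]
    exact LinearMap.congr_fun h2 y

theorem toBC_injective : Function.Injective (toBC A R M n) :=
  Function.LeftInverse.injective (ofBC_toBC A R M n)

theorem span_one_tmul : Submodule.span A (Set.range fun m : M => (1 : A) ⊗ₜ[R] m) = ⊤ := by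
  rw [eq_top_iff]
  rintro x -
  induction x using TensorProduct.induction_on with
  | zero => exact zero_mem _
  | add x y hx hy => exact add_mem hx hy
  | tmul a m =>
    have h1 : (a ⊗ₜ[R] m : A ⊗[R] M) = a • ((1 : A) ⊗ₜ[R] m) := by
      rw [TensorProduct.smul_tmul', smul_eq_mul, mul_one]
    rw [h1]
    exact Submodule.smul_mem _ _ (Submodule.subset_span ⟨m, rfl⟩)

theorem toBC_surjective : Function.Surjective (toBC A R M n) := by
  rw [← LinearMap.range_eq_top, eq_top_iff,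
    ← exteriorPower.ιMulti_span_of_span A n (A ⊗[R] M) (span_one_tmul A R M),
    Submodule.span_le]
  rintro _ ⟨v, hv, rfl⟩
  have : ∀ i, ∃ m : M, (1 : A) ⊗ₜ[R] m = v i := fun i => hv ⟨i, rfl⟩
  choose m hm using this
  refine ⟨(1 : A) ⊗ₜ exteriorPower.ιMulti R n m, ?_⟩
  rw [toBC_tmul_ιMulti, one_smul]
  congr 1
  funext i
  exact hm i

/-- **Exterior powers commute with base change.** -/
noncomputable def baseChangeEquiv : A ⊗[R] ⋀[R]^n M ≃ₗ[A] ⋀[A]^n (A ⊗[R] M) :=
  LinearEquiv.ofBijective (toBC A R M n) ⟨toBC_injective A R M n, toBC_surjective A R M n⟩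

@[simp] theorem baseChangeEquiv_tmul_ιMulti (a : A) (m : Fin n → M) :
    baseChangeEquiv A R M n (a ⊗ₜ exteriorPower.ιMulti R n m) =
      a • exteriorPower.ιMulti A n (fun i => (1 : A) ⊗ₜ[R] m i) :=
  toBC_tmul_ιMulti A R M n a m

theorem baseChangeEquiv_apply (x : A ⊗[R] ⋀[R]^n M) :
    baseChangeEquiv A R M n x = toBC A R M n x := rfl

theorem baseChangeEquiv_symm_ιMulti_one (m : Fin n → M) :
    (baseChangeEquiv A R M n).symm (exteriorPower.ιMulti A n (fun i => (1 : A) ⊗ₜ[R] m i)) =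
      (1 : A) ⊗ₜ[R] exteriorPower.ιMulti R n m := by
  rw [LinearEquiv.symm_apply_eq, baseChangeEquiv_tmul_ιMulti, one_smul]

/-- the map induced on exterior powers by a linear equivalence -/
noncomputable def mapEquiv {R : Type*} [CommRing R] {M N : Type*} [AddCommGroup M] [Module R M]
    [AddCommGroup N] [Module R N] (n : ℕ) (e : M ≃ₗ[R] N) : ⋀[R]^n M ≃ₗ[R] ⋀[R]^n N :=
  LinearEquiv.ofLinearMap (exteriorPower.map n e.toLinearMap) (exteriorPower.map n e.symm.toLinearMap)
    (by rw [← exteriorPower.map_comp]; simp)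
    (by rw [← exteriorPower.map_comp]; simp)

@[simp] theorem mapEquiv_ιMulti {R : Type*} [CommRing R] {M N : Type*} [AddCommGroup M]
    [Module R M] [AddCommGroup N] [Module R N] (n : ℕ) (e : M ≃ₗ[R] N) (m : Fin n → M) :
    mapEquiv n e (exteriorPower.ιMulti R n m) = exteriorPower.ιMulti R n (fun i => e (m i)) := by
  simp [mapEquiv, exteriorPower.map_apply_ιMulti]
  rfl

end Groth.Agent.Lib.H2ExtPowBC
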