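import Mathlib

open MvPolynomial

namespace Groth.Agent.Lib.QuasiReg97

variable {A : Type*} [CommRing A] {σ τ : Type*}

/-- quasi-regularity in degree `n`, in ideal-membership form. -/
def QRn (f : σ → A) (n : ℕ) : Prop :=
  ∀ P : MvPolynomial σ A, P.IsHomogeneous n → eval f P ∈ Ideal.span (Set.range f) ^ (n + 1) →
    P ∈ Ideal.map (C : A →+* MvPolynomial σ A) (Ideal.span (Set.range f))

theorem eval_mem_mul_pow (f : σ → A) (K : Ideal A) {n : ℕ} {P : MvPolynomial σ A}
    (hP : P.IsHomogeneous n) (hK : P ∈ Ideal.map (C : A →+* MvPolynomial σ A) K) :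
    eval f P ∈ K * Ideal.span (Set.range f) ^ n := by
  rw [MvPolynomial.eval_eq]
  refine Ideal.sum_mem _ fun d hd => ?_
  refine Ideal.mul_mem_mul ((MvPolynomial.mem_map_C_iff).1 hK d) ?_
  have h1 : ∏ i ∈ d.support, f i ^ d i ∈ ∏ i ∈ d.support, Ideal.span (Set.range f) ^ d i :=
    Ideal.prod_mem_prod fun i _ => Ideal.pow_mem_pow (Ideal.subset_span (Set.mem_range_self i)) _
  rw [Finset.prod_pow_eq_pow_sum] at h1
  have h2 : ∑ i ∈ d.support, d i = n := by
    rw [← hP.degree_eq_sum_deg_support hd]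
  rwa [h2] at h1

theorem exists_rep (f : σ → A) (K : Ideal A) {n : ℕ} {a : A}
    (ha : a ∈ K * Ideal.span (Set.range f) ^ n) :
    ∃ P : MvPolynomial σ A, P.IsHomogeneous n ∧
      P ∈ Ideal.map (C : A →+* MvPolynomial σ A) K ∧ eval f P = a := by
  induction ha using Submodule.mul_induction_on' with
  | mem_mul_mem k hk b hb =>
    obtain ⟨Q, hQ, rfl⟩ := (Ideal.mem_span_pow_iff_exists_isHomogeneous f b).1 hb
    refine ⟨C k * Q, hQ.C_mul k, Ideal.mul_mem_right _ _ (Ideal.mem_map_of_mem _ hk), by simp⟩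
  | add x hx y hy ihx ihy =>
    obtain ⟨P, hP, hPK, rfl⟩ := ihx
    obtain ⟨Q, hQ, hQK, rfl⟩ := ihy
    exact ⟨P + Q, hP.add hQ, Ideal.add_mem _ hPK hQK, by simp⟩

/-- reduction: it suffices to treat polynomials vanishing at `f`. -/
theorem qrn_of_zero (f : σ → A) (n : ℕ)
    (h : ∀ P : MvPolynomial σ A, P.IsHomogeneous n → eval f P = 0 →
      P ∈ Ideal.map (C : A →+* MvPolynomial σ A) (Ideal.span (Set.range f))) : QRn f n := by
  intro P hP hev
  rw [pow_succ'] at hev
  obtain ⟨Q, hQ, hQK, hQe⟩ := exists_rep f _ hev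
  have := h (P - Q) (hP.sub hQ) (by simp [hQe])
  simpa using Ideal.add_mem _ this hQK

/-- if `g` is quasi-regular and `x` is a nonzerodivisor modulo `(g)`, then `x` is a nonzerodivisor
modulo every power of `(g)`. -/
theorem mem_pow_of_mul_mem (g : σ → A) (hg : ∀ n, QRn g n) (x : A)
    (hx : ∀ a, x * a ∈ Ideal.span (Set.range g) → a ∈ Ideal.span (Set.range g)) :
    ∀ (n : ℕ) (a : A), x * a ∈ Ideal.span (Set.range g) ^ n → a ∈ Ideal.span (Set.range g) ^ n := by
  intro n
  induction n with
  | zero => intro a _; simp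
  | succ n ih =>
    intro a ha
    have h1 : a ∈ Ideal.span (Set.range g) ^ n := ih a (Ideal.pow_le_pow_right (Nat.le_succ n) ha)
    obtain ⟨Q, hQ, rfl⟩ := (Ideal.mem_span_pow_iff_exists_isHomogeneous g a).1 h1
    have h2 := hg n (C x * Q) (hQ.C_mul x) (by simpa using ha)
    have h3 : Q ∈ Ideal.map (C : A →+* MvPolynomial σ A) (Ideal.span (Set.range g)) := by
      rw [MvPolynomial.mem_map_C_iff] at h2 ⊢
      intro d
      have := h2 d
      rw [coeff_C_mul] at this
      exact hx _ this
    have := eval_mem_mul_pow g _ hQ h3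
    rwa [← pow_succ'] at this

theorem exists_decomp (i : σ) (ι : τ → σ) (hι : Function.Injective ι)
    (hr : ∀ j, j ≠ i → j ∈ Set.range ι) {n : ℕ} (P : MvPolynomial σ A)
    (hP : P.IsHomogeneous (n + 1)) :
    ∃ (H : MvPolynomial σ A) (G : MvPolynomial τ A), H.IsHomogeneous n ∧ G.IsHomogeneous (n + 1) ∧
      P = X i * H + rename ι G := by
  classical
  have hH : (P.divMonomial (Finsupp.single i 1)).IsHomogeneous n := by
    intro d hd
    rw [coeff_divMonomial] at hd
    have := hP hd
    rw [map_add, Finsupp.weight_single] at this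
    simp only [Pi.one_apply, smul_eq_mul, mul_one] at this
    omega
  have hR : (P.modMonomial (Finsupp.single i 1)).IsHomogeneous (n + 1) := by
    intro d hd
    by_cases hle : Finsupp.single i 1 ≤ d
    · rw [coeff_modMonomial_of_le _ hle] at hd
      exact absurd rfl hd
    · rw [coeff_modMonomial_of_not_le _ hle] at hd
      exact hP hd
  have hvars : ((P.modMonomial (Finsupp.single i 1)).vars : Set σ) ⊆ Set.range ι := by
    intro j hj
    by_cases hji : j = i
    · exfalso
      subst hji
      rw [Finset.mem_coe, mem_vars_iff_mem_support] at hj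
      obtain ⟨d, hd, hjd⟩ := hj
      rw [mem_support_iff] at hd
      apply hd
      apply coeff_modMonomial_of_le
      rw [Finsupp.single_le_iff]
      rw [Finsupp.mem_support_iff] at hjd
      omega
    · exact hr j hji
  obtain ⟨G, hG⟩ := exists_rename_eq_of_vars_subset_range _ ι hι hvars
  refine ⟨_, G, hH, ?_, ?_⟩
  · rw [← IsHomogeneous.rename_isHomogeneous_iff hι, hG]
    exact hR
  · rw [hG]
    exact (divMonomial_add_modMonomial_single P i).symm


theorem map_C_rename_mem (ι : τ → σ) (K : Ideal A) {G : MvPolynomial τ A}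
    (hG : G ∈ Ideal.map (C : A →+* MvPolynomial τ A) K) :
    rename ι G ∈ Ideal.map (C : A →+* MvPolynomial σ A) K := by
  have h1 : Ideal.map (rename ι : MvPolynomial τ A →ₐ[A] MvPolynomial σ A).toRingHom
      (Ideal.map (C : A →+* MvPolynomial τ A) K) = Ideal.map (C : A →+* MvPolynomial σ A) K := by
    rw [Ideal.map_map]
    congr 1
    ext a
    simp
  rw [← h1]
  exact Ideal.mem_map_of_mem _ hG

/-- the inductive step: adjoining to a quasi-regular family an element which is a nonzerodivisor
modulo the family gives a quasi-regular family. -/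
theorem qrn_step (i : σ) (ι : τ → σ) (hι : Function.Injective ι)
    (hr : ∀ j, j ≠ i → j ∈ Set.range ι) (f : σ → A) (hg : ∀ n, QRn (f ∘ ι) n)
    (hx : ∀ a, f i * a ∈ Ideal.span (Set.range (f ∘ ι)) → a ∈ Ideal.span (Set.range (f ∘ ι))) :
    ∀ n, QRn f n := by
  have hle : Ideal.span (Set.range (f ∘ ι)) ≤ Ideal.span (Set.range f) :=
    Ideal.span_mono (Set.range_comp_subset_range ι f)
  have hxi : f i ∈ Ideal.span (Set.range f) := Ideal.subset_span (Set.mem_range_self i)
  intro n
  induction n with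
  | zero =>
    apply qrn_of_zero
    intro P hP hev
    have h1 : P = C (coeff 0 P) :=
      totalDegree_eq_zero_iff_eq_C.1 ((totalDegree_zero_iff_isHomogeneous σ).2 hP)
    rw [h1, eval_C] at hev
    rw [h1, hev, map_zero]
    exact Ideal.zero_mem _
  | succ n ih =>
    apply qrn_of_zero
    intro P hP hev
    obtain ⟨H, G, hH, hG, rfl⟩ := exists_decomp i ι hι hr P hP
    have hev' : f i * eval f H + eval (f ∘ ι) G = 0 := by
      simpa [eval_rename] using hev
    have h1 : eval (f ∘ ι) G ∈ Ideal.span (Set.range (f ∘ ι)) ^ (n + 1) :=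
      (Ideal.mem_span_pow_iff_exists_isHomogeneous _ _).2 ⟨G, hG, rfl⟩
    have h2 : f i * eval f H ∈ Ideal.span (Set.range (f ∘ ι)) ^ (n + 1) := by
      have : f i * eval f H = - eval (f ∘ ι) G := eq_neg_of_add_eq_zero_left hev'
      rw [this]
      exact Ideal.neg_mem_iff _ |>.2 h1
    have h3 : eval f H ∈ Ideal.span (Set.range (f ∘ ι)) ^ (n + 1) :=
      mem_pow_of_mul_mem _ hg _ hx _ _ h2
    have h4 : H ∈ Ideal.map (C : A →+* MvPolynomial σ A) (Ideal.span (Set.range f)) :=
      ih H hH (Ideal.pow_right_mono hle _ h3)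
    obtain ⟨G2, hG2, hG2e⟩ := (Ideal.mem_span_pow_iff_exists_isHomogeneous _ _).1 h3
    have h5 : G + C (f i) * G2 ∈ Ideal.map (C : A →+* MvPolynomial τ A)
        (Ideal.span (Set.range (f ∘ ι))) := by
      apply hg (n + 1) _ (hG.add (hG2.C_mul _))
      have : eval (f ∘ ι) (G + C (f i) * G2) = 0 := by
        rw [map_add, map_mul, eval_C, hG2e, add_comm]; exact hev'
      rw [this]
      exact Ideal.zero_mem _
    have h6 : G ∈ Ideal.map (C : A →+* MvPolynomial τ A) (Ideal.span (Set.range f)) := by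
      have h7 : C (f i) * G2 ∈ Ideal.map (C : A →+* MvPolynomial τ A) (Ideal.span (Set.range f)) :=
        Ideal.mul_mem_right _ _ (Ideal.mem_map_of_mem _ hxi)
      have h8 := Ideal.map_mono (f := (C : A →+* MvPolynomial τ A)) hle h5
      have := Ideal.sub_mem _ h8 h7
      simpa using this
    exact Ideal.add_mem _ (Ideal.mul_mem_left _ _ h4) (map_C_rename_mem ι _ h6)


theorem ofList_ofFn {c : ℕ} (g : Fin c → A) :
    Ideal.ofList (List.ofFn g) = Ideal.span (Set.range g) := by
  unfold Ideal.ofList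
  congr 1
  ext r
  simp [List.mem_ofFn]

open RingTheory.Sequence in
/-- **Regular sequences are quasi-regular** (Matsumura 16.2, case `M = A`). -/
theorem qrn_of_isWeaklyRegular : ∀ (c : ℕ) (f : Fin c → A),
    IsWeaklyRegular A (List.ofFn f) → ∀ n, QRn f n := by
  intro c
  induction c with
  | zero =>
    intro f _ n P _ hev
    have h0 : Ideal.span (Set.range f) = ⊥ := by
      rw [Set.range_eq_empty, Ideal.span_empty]
    rw [h0, Ideal.bot_pow (Nat.succ_ne_zero n), Ideal.mem_bot] at hev
    have h1 : P = C (coeff 0 P) := eq_C_of_isEmpty P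
    rw [h1, eval_C] at hev
    rw [h1, hev, map_zero]
    exact Ideal.zero_mem _
  | succ c ih =>
    intro f hf
    rw [List.ofFn_succ', List.concat_eq_append, isWeaklyRegular_append_iff,
      isWeaklyRegular_singleton_iff] at hf
    obtain ⟨hf1, hf2⟩ := hf
    have hg := ih (fun i => f (Fin.castSucc i)) hf1
    refine qrn_step (Fin.last c) Fin.castSucc (Fin.castSucc_injective c) ?_ f hg ?_
    · intro j hj
      exact Fin.exists_castSucc_eq.2 hj
    · intro a ha
      have hI : (Ideal.ofList (List.ofFn fun i => f (Fin.castSucc i)) • ⊤ : Submodule A A) =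
          Ideal.span (Set.range (f ∘ Fin.castSucc)) := by
        rw [ofList_ofFn, smul_eq_mul, Ideal.mul_top]
        rfl
      have h1 : f (Fin.last c) • (Submodule.Quotient.mk a :
          A ⧸ (Ideal.ofList (List.ofFn fun i => f (Fin.castSucc i)) • ⊤ : Submodule A A)) =
          f (Fin.last c) • 0 := by
        rw [smul_zero, ← Submodule.Quotient.mk_smul, Submodule.Quotient.mk_eq_zero, hI]
        exact ha
      have h2 := hf2 h1
      rwa [Submodule.Quotient.mk_eq_zero, hI] at h2

end Groth.Agent.Lib.QuasiReg97
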