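import Mathlib
import Groth.Agent.Lib.H2ExtPowBC
import Groth.Agent.Lib.QuasiReg97

/-!
# Top exterior power of a stably free complement (helper6)

* `cofactorSnd k : ⋀^(k+1) (Q × R) →ₗ ⋀^k Q` (cofactor expansion along the `R`-summand), surjective.
* `nonempty_equiv_extPow`: if `Q × R^r ≃ R^n` with `n = m + r` then `⋀^m Q ≃ R`.
* `nonempty_cotangent_equiv`: `K/K²` is free on the classes of a quasi-regular generating family.
* `mem_of_sum_mul_mem_sq`: weakly regular sequences are quasi-regular in degree one.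
* `main`: statement S13315 (canonical module of a smooth complete intersection `≅ ⋀^(n-r) Ω`).
-/

namespace Groth.Agent.Lib.DetStablyFree6

universe u

section Part1
open TensorProduct

variable {R : Type u} [CommRing R] {Q : Type u} [AddCommGroup Q] [Module R Q]

/-- linear in the first argument (through `snd`), alternating in the rest (through `fst`). -/
noncomputable def cofLinear (k : ℕ) : Q × R →ₗ[R] (Q × R) [⋀^Fin k]→ₗ[R] ⋀[R]^k Q where
  toFun x := x.2 • ((exteriorPower.ιMulti R k).compLinearMap (LinearMap.fst R Q R))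
  map_add' x y := by ext; simp [add_smul]
  map_smul' c x := by ext; simp [mul_smul]

/-- The cofactor expansion along the `R`-summand of `Q × R`. -/
noncomputable def cofactorSnd (k : ℕ) : ⋀[R]^(k + 1) (Q × R) →ₗ[R] ⋀[R]^k Q :=
  exteriorPower.alternatingMapLinearEquiv (AlternatingMap.alternatizeUncurryFin (cofLinear k))

lemma cofactorSnd_ιMulti_cons (k : ℕ) (q : Fin k → Q) :
    cofactorSnd k (exteriorPower.ιMulti R (k + 1)
      (Fin.cons ((0 : Q), (1 : R)) fun i => (q i, (0 : R)))) = exteriorPower.ιMulti R k q := by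
  simp [cofactorSnd, cofLinear, AlternatingMap.alternatizeUncurryFin_apply, Fin.sum_univ_succ]

lemma cofactorSnd_surjective (k : ℕ) : Function.Surjective (cofactorSnd (R := R) (Q := Q) k) := by
  rw [← LinearMap.range_eq_top, eq_top_iff, ← exteriorPower.ιMulti_span R k Q, Submodule.span_le]
  rintro _ ⟨q, rfl⟩
  exact ⟨_, cofactorSnd_ιMulti_cons k q⟩

end Part1

section Part2
open TensorProduct

variable {R : Type u} [CommRing R]

theorem exists_surjective_of_prod : ∀ (r : ℕ) (Q : Type u) [AddCommGroup Q] [Module R Q]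
    (m N : ℕ), N = m + r →
    (∃ f : R →ₗ[R] ⋀[R]^N (Q × (Fin r → R)), Function.Surjective f) →
    ∃ f : R →ₗ[R] ⋀[R]^m Q, Function.Surjective f := by
  intro r
  induction r with
  | zero =>
    intro Q _ _ m N hN ⟨f, hf⟩
    obtain rfl : N = m := hN
    let e : (Q × (Fin 0 → R)) ≃ₗ[R] Q := LinearEquiv.prodUnique
    refine ⟨(exteriorPower.map N e.toLinearMap) ∘ₗ f, ?_⟩
    exact (exteriorPower.map_surjective (n := N) e.surjective).comp hf
  | succ r ih =>
    intro Q _ _ m N hN ⟨f, hf⟩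
    let e₁ : (Fin (r + 1) → R) ≃ₗ[R] (R × (Fin r → R)) :=
      (Fin.consLinearEquiv R (fun _ : Fin (r + 1) => R)).symm
    let e : (Q × (Fin (r + 1) → R)) ≃ₗ[R] ((Q × R) × (Fin r → R)) :=
      (LinearEquiv.prodCongr (LinearEquiv.refl R Q) e₁).trans
        (LinearEquiv.prodAssoc R Q R (Fin r → R)).symm
    obtain ⟨g, hg⟩ := ih (Q × R) (m + 1) N (by omega)
      ⟨(exteriorPower.map N e.toLinearMap) ∘ₗ f,
        (exteriorPower.map_surjective (n := N) e.surjective).comp hf⟩
    exact ⟨(cofactorSnd m) ∘ₗ g, (cofactorSnd_surjective m).comp hg⟩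

/-- If `Q × R^r ≃ R^n` with `n = m + r`, then there is a surjection `R → ⋀^m Q`. -/
theorem exists_surjective_of_equiv (Q : Type u) [AddCommGroup Q] [Module R Q] (m r n : ℕ)
    (hn : n = m + r) (e : (Q × (Fin r → R)) ≃ₗ[R] (Fin n → R)) :
    ∃ f : R →ₗ[R] ⋀[R]^m Q, Function.Surjective f := by
  rcases subsingleton_or_nontrivial R with h | h
  · refine ⟨0, fun x => ⟨0, ?_⟩⟩
    have : Subsingleton (⋀[R]^m Q) := Module.subsingleton R _
    exact Subsingleton.elim _ _
  refine exists_surjective_of_prod r Q m n hn ?_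
  have hfr : Module.finrank R (⋀[R]^n (Fin n → R)) = 1 := by
    rw [exteriorPower.finrank_eq, Module.finrank_fin_fun, Nat.choose_self]
  obtain ⟨e₂⟩ := Module.nonempty_linearEquiv_of_finrank_eq_one hfr
  refine ⟨(exteriorPower.map n e.symm.toLinearMap) ∘ₗ e₂.toLinearMap, ?_⟩
  exact (exteriorPower.map_surjective (n := n) e.symm.surjective).comp e₂.surjective

end Part2

section Part3
open TensorProduct

variable {R : Type u} [CommRing R]

/-- Base change to a field: the fibre of `Q` has dimension `m`. -/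
theorem finrank_baseChange_eq (K : Type u) [Field K] [Algebra R K]
    (Q : Type u) [AddCommGroup Q] [Module R Q] (m r n : ℕ)
    (hn : n = m + r) (e : (Q × (Fin r → R)) ≃ₗ[R] (Fin n → R)) :
    Module.Finite K (K ⊗[R] Q) ∧ Module.finrank K (K ⊗[R] Q) = m := by
  let e₁ : K ⊗[R] (Q × (Fin r → R)) ≃ₗ[K] (K ⊗[R] Q) × (K ⊗[R] (Fin r → R)) :=
    TensorProduct.prodRight R K K Q (Fin r → R)
  let e₂ : K ⊗[R] (Fin r → R) ≃ₗ[K] (Fin r → K) := TensorProduct.piScalarRight R K K (Fin r)
  let e₃ : K ⊗[R] (Fin n → R) ≃ₗ[K] (Fin n → K) := TensorProduct.piScalarRight R K K (Fin n)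
  let e₄ : K ⊗[R] (Q × (Fin r → R)) ≃ₗ[K] K ⊗[R] (Fin n → R) :=
    TensorProduct.AlgebraTensorModule.congr (LinearEquiv.refl K K) e
  let E : ((K ⊗[R] Q) × (Fin r → K)) ≃ₗ[K] (Fin n → K) :=
    ((LinearEquiv.prodCongr (LinearEquiv.refl K (K ⊗[R] Q)) e₂.symm).trans e₁.symm).trans
      (e₄.trans e₃)
  have hfin : Module.Finite K (K ⊗[R] Q) :=
    Module.Finite.of_surjective ((LinearMap.fst K (K ⊗[R] Q) (Fin r → K)) ∘ₗ E.symm.toLinearMap)
      ((LinearMap.fst_surjective (R := K) (M := K ⊗[R] Q) (M₂ := Fin r → K)).comp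
        E.symm.surjective)
  refine ⟨hfin, ?_⟩
  have h1 := LinearEquiv.finrank_eq E
  rw [Module.finrank_prod, Module.finrank_fin_fun, Module.finrank_fin_fun] at h1
  omega

theorem nonempty_equiv_extPow (Q : Type u) [AddCommGroup Q] [Module R Q] (m r n : ℕ)
    (hn : n = m + r) (e : (Q × (Fin r → R)) ≃ₗ[R] (Fin n → R)) :
    Nonempty (R ≃ₗ[R] ⋀[R]^m Q) := by
  obtain ⟨f, hf⟩ := exists_surjective_of_equiv Q m r n hn e
  -- `⋀^m Q` is projective
  have hproj : Module.Projective R (⋀[R]^m Q) := by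
    have h1 : Module.Projective R (⋀[R]^m (Fin n → R)) := inferInstance
    have h2 : Module.Projective R (⋀[R]^m (Q × (Fin r → R))) :=
      Module.Projective.of_equiv (Groth.Agent.Lib.H2ExtPowBC.mapEquiv m e.symm)
    refine Module.Projective.of_split
      (exteriorPower.map m (LinearMap.inl R Q (Fin r → R)))
      (exteriorPower.map m (LinearMap.fst R Q (Fin r → R))) ?_
    rw [← exteriorPower.map_comp, LinearMap.fst_comp_inl, exteriorPower.map_id]
  obtain ⟨s, hs⟩ := Module.projective_lifting_property f LinearMap.id hf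
  have hs' : ∀ x, f (s x) = x := fun x => LinearMap.congr_fun hs x
  set t : R := s (f 1) with ht
  have hft : ∀ x : ⋀[R]^m Q, t • x = x := by
    intro x
    obtain ⟨y, rfl⟩ := hf x
    have h1 : f t = f 1 := hs' (f 1)
    have h2 : f y = y • f 1 := by rw [← map_smul, smul_eq_mul, mul_one]
    have h3 : f t = t • f 1 := by rw [← map_smul, smul_eq_mul, mul_one]
    rw [h2, smul_comm, ← h3, h1]
  have htunit : IsUnit t := by
    by_contra hnu
    obtain ⟨𝔪, hmax, htm⟩ := exists_max_ideal_of_mem_nonunits hnu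
    let _ : Field (R ⧸ 𝔪) := Ideal.Quotient.field 𝔪
    obtain ⟨hfin, hrk⟩ := finrank_baseChange_eq (R ⧸ 𝔪) Q m r n hn e
    have hrk1 : Module.finrank (R ⧸ 𝔪) (⋀[R ⧸ 𝔪]^m ((R ⧸ 𝔪) ⊗[R] Q)) = 1 := by
      rw [exteriorPower.finrank_eq, hrk, Nat.choose_self]
    have hnontriv : Nontrivial (⋀[R ⧸ 𝔪]^m ((R ⧸ 𝔪) ⊗[R] Q)) :=
      Module.nontrivial_of_finrank_pos (R := R ⧸ 𝔪) (by omega)
    have hsub : Subsingleton ((R ⧸ 𝔪) ⊗[R] ⋀[R]^m Q) := by
      refine ⟨fun a b => ?_⟩
      have hz : ∀ z : (R ⧸ 𝔪) ⊗[R] ⋀[R]^m Q, z = 0 := by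
        intro z
        induction z using TensorProduct.induction_on with
        | zero => rfl
        | tmul k x =>
          rw [← hft x, ← TensorProduct.smul_tmul]
          have : t • k = 0 := by
            rw [Algebra.smul_def, Ideal.Quotient.algebraMap_eq,
              Ideal.Quotient.eq_zero_iff_mem.mpr htm, zero_mul]
          rw [this, TensorProduct.zero_tmul]
        | add a b ha hb => rw [ha, hb, add_zero]
      rw [hz a, hz b]
    have := (Groth.Agent.Lib.H2ExtPowBC.baseChangeEquiv (R ⧸ 𝔪) R Q m).symm.injective.subsingleton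
    exact not_subsingleton _ this
  -- hence `t = 1`
  have ht1 : t = 1 := by
    have h1 : (1 - t) * t = 0 := by
      have : f (1 - t) = 0 := by
        rw [map_sub, hs' (f 1), sub_self]
      have h2 : (1 - t) • t = s (f (1 - t)) := by
        rw [ht, ← map_smul, ← map_smul, smul_eq_mul, mul_one]
      rw [← smul_eq_mul, h2, this, map_zero]
    have := htunit.mul_left_eq_zero.mp h1
    exact (sub_eq_zero.mp this).symm
  have hinj : Function.Injective f := by
    rw [← LinearMap.ker_eq_bot, LinearMap.ker_eq_bot']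
    intro x hx
    have : x • t = s (f x) := by
      rw [ht, ← map_smul, ← map_smul, smul_eq_mul, mul_one]
    rw [hx, map_zero, ht1, smul_eq_mul, mul_one] at this
    exact this
  exact ⟨LinearEquiv.ofBijective f ⟨hinj, hf⟩⟩

end Part3

section Part4
open TensorProduct

/-- If `K` is generated by `F` and `F` is quasi-regular in degree one, then `K/K²` is free over
`P/K` with basis the classes of the `F i`. -/
theorem nonempty_cotangent_equiv {P : Type u} [CommRing P] (K : Ideal P) {r : ℕ} (F : Fin r → P)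
    (hK : K = Ideal.span (Set.range F))
    (hq : ∀ b : Fin r → P, ∑ i, b i * F i ∈ K ^ 2 → ∀ i, b i ∈ K) :
    Nonempty (K.Cotangent ≃ₗ[P ⧸ K] (Fin r → P ⧸ K)) := by
  have hFK : ∀ i, F i ∈ K := fun i => by rw [hK]; exact Ideal.subset_span ⟨i, rfl⟩
  let c : Fin r → K.Cotangent := fun i => K.toCotangent ⟨F i, hFK i⟩
  let ψ : (Fin r → P ⧸ K) →ₗ[P ⧸ K] K.Cotangent := Fintype.linearCombination (P ⧸ K) c
  have hψ : ∀ a : Fin r → P, ψ (fun i => Ideal.Quotient.mk K (a i)) =
      K.toCotangent ⟨∑ i, a i * F i, K.sum_mem fun i _ => K.mul_mem_left _ (hFK i)⟩ := by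
    intro a
    show Fintype.linearCombination (P ⧸ K) c _ = _
    rw [Fintype.linearCombination_apply]
    have h1 : ∀ i, Ideal.Quotient.mk K (a i) • c i = K.toCotangent ⟨a i * F i, K.mul_mem_left _ (hFK i)⟩ := by
      intro i
      show Ideal.Quotient.mk K (a i) • K.toCotangent ⟨F i, hFK i⟩ = _
      rw [← Ideal.Quotient.algebraMap_eq, algebraMap_smul, ← map_smul]
      rfl
    simp only [h1]
    rw [← map_sum]
    congr 1
    apply Subtype.ext
    simp
  have hinj : Function.Injective ψ := by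
    rw [← LinearMap.ker_eq_bot, LinearMap.ker_eq_bot']
    intro b hb
    obtain ⟨a, rfl⟩ : ∃ a : Fin r → P, b = fun i => Ideal.Quotient.mk K (a i) :=
      ⟨fun i => (Ideal.Quotient.mk_surjective (b i)).choose,
        funext fun i => ((Ideal.Quotient.mk_surjective (b i)).choose_spec).symm⟩
    rw [hψ, Ideal.toCotangent_eq_zero] at hb
    have := hq a hb
    funext i
    exact Ideal.Quotient.eq_zero_iff_mem.mpr (this i)
  have hsurj : Function.Surjective ψ := by
    intro x
    obtain ⟨⟨y, hy⟩, rfl⟩ := K.toCotangent_surjective x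
    have hy' := hy
    rw [hK, Ideal.mem_span_range_iff_exists_fun] at hy'
    obtain ⟨a, ha⟩ := hy'
    refine ⟨fun i => Ideal.Quotient.mk K (a i), ?_⟩
    rw [hψ]
    congr 1
    exact Subtype.ext ha
  exact ⟨(LinearEquiv.ofBijective ψ ⟨hinj, hsurj⟩).symm⟩

/-- Weakly regular sequences are quasi-regular in degree one. -/
theorem mem_of_sum_mul_mem_sq {P : Type u} [CommRing P] {r : ℕ} (F : Fin r → P)
    (hreg : RingTheory.Sequence.IsWeaklyRegular P (List.ofFn F)) (b : Fin r → P)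
    (hb : ∑ i, b i * F i ∈ Ideal.span (Set.range F) ^ 2) (i : Fin r) :
    b i ∈ Ideal.span (Set.range F) := by
  classical
  have hqr := Groth.Agent.Lib.QuasiReg97.qrn_of_isWeaklyRegular r F hreg 1
  let Pol : MvPolynomial (Fin r) P := ∑ i, MvPolynomial.C (b i) * MvPolynomial.X i
  have hhom : Pol.IsHomogeneous 1 := by
    refine MvPolynomial.IsHomogeneous.sum _ _ _ fun i _ => ?_
    have := (MvPolynomial.isHomogeneous_C (Fin r) (b i)).mul (MvPolynomial.isHomogeneous_X P i)
    simpa using this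
  have hev : MvPolynomial.eval F Pol = ∑ i, b i * F i := by
    simp [Pol]
  have hmem := hqr Pol hhom (by rw [hev]; exact hb)
  rw [MvPolynomial.mem_map_C_iff] at hmem
  have hcoeff : Pol.coeff (Finsupp.single i 1) = b i := by
    simp only [Pol, MvPolynomial.coeff_sum, MvPolynomial.coeff_C_mul, MvPolynomial.coeff_X]
    rw [Finset.sum_eq_single i]
    · simp
    · intro j _ hji
      have : ¬ (Finsupp.single j 1 = Finsupp.single i 1) := by
        intro h
        apply hji
        have := Finsupp.single_left_injective (one_ne_zero) h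
        exact this
      simp [this]
    · intro h; exact absurd (Finset.mem_univ i) h
  rw [← hcoeff]
  exact hmem _

end Part4

section Part5
open TensorProduct KaehlerDifferential

/-- Split exact sequence gives a product decomposition. -/
theorem nonempty_equiv_prod_of_split {P : Type*} [CommRing P] {C T W : Type*}
    [AddCommGroup C] [Module P C] [AddCommGroup T] [Module P T] [AddCommGroup W] [Module P W]
    (κ : C →ₗ[P] T) (μ : T →ₗ[P] W) (l : T →ₗ[P] C) (hl : l ∘ₗ κ = LinearMap.id)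
    (hex : Function.Exact κ μ) (hμ : Function.Surjective μ) : Nonempty (T ≃ₗ[P] C × W) := by
  have hl' : ∀ c, l (κ c) = c := fun c => LinearMap.congr_fun hl c
  have hμκ : ∀ c, μ (κ c) = 0 := fun c => (hex (κ c)).mpr ⟨c, rfl⟩
  refine ⟨LinearEquiv.ofBijective (LinearMap.prod l μ) ⟨?_, ?_⟩⟩
  · rw [← LinearMap.ker_eq_bot, LinearMap.ker_eq_bot']
    intro x hx
    have h1 : l x = 0 := congrArg Prod.fst hx
    have h2 : μ x = 0 := congrArg Prod.snd hx
    obtain ⟨c, rfl⟩ := (hex x).mp h2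
    rw [hl'] at h1
    rw [h1, map_zero]
  · rintro ⟨c, w⟩
    obtain ⟨x₀, rfl⟩ := hμ w
    refine ⟨x₀ - κ (l x₀) + κ c, ?_⟩
    apply Prod.ext
    · show l (x₀ - κ (l x₀) + κ c) = c
      rw [map_add, map_sub, hl', hl', sub_self, zero_add]
    · show μ (x₀ - κ (l x₀) + κ c) = μ x₀
      rw [map_add, map_sub, hμκ, hμκ, sub_zero, add_zero]

theorem main (A : Type u) [CommRing A] [IsNoetherianRing A]
    (n r : ℕ) (hrn : r ≤ n) (F : Fin r → MvPolynomial (Fin n) A)
    (hreg : RingTheory.Sequence.IsWeaklyRegular (MvPolynomial (Fin n) A) (List.ofFn F))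
    (I : Ideal (MvPolynomial (Fin n) A)) (hI : I = Ideal.span (Set.range F))
    [Algebra.Smooth A (MvPolynomial (Fin n) A ⧸ I)] :
    Nonempty ((Module.Dual (MvPolynomial (Fin n) A ⧸ I) (⋀[MvPolynomial (Fin n) A ⧸ I]^r I.Cotangent)) ⊗[MvPolynomial (Fin n) A ⧸ I]
        ((MvPolynomial (Fin n) A ⧸ I) ⊗[MvPolynomial (Fin n) A] (⋀[MvPolynomial (Fin n) A]^n (Ω[MvPolynomial (Fin n) A⁄A])))
      ≃ₗ[MvPolynomial (Fin n) A ⧸ I] (⋀[MvPolynomial (Fin n) A ⧸ I]^(n - r) (Ω[(MvPolynomial (Fin n) A ⧸ I)⁄A]))) := by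
  classical
  rcases subsingleton_or_nontrivial (MvPolynomial (Fin n) A ⧸ I) with hsub | hnt
  · -- trivial ring: all modules are zero
    have h1 : Subsingleton ((Module.Dual (MvPolynomial (Fin n) A ⧸ I) (⋀[MvPolynomial (Fin n) A ⧸ I]^r I.Cotangent)) ⊗[MvPolynomial (Fin n) A ⧸ I]
        ((MvPolynomial (Fin n) A ⧸ I) ⊗[MvPolynomial (Fin n) A] (⋀[MvPolynomial (Fin n) A]^n (Ω[MvPolynomial (Fin n) A⁄A])))) :=
      Module.subsingleton (MvPolynomial (Fin n) A ⧸ I) _
    have h2 : Subsingleton (⋀[MvPolynomial (Fin n) A ⧸ I]^(n - r) (Ω[(MvPolynomial (Fin n) A ⧸ I)⁄A])) :=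
      Module.subsingleton (MvPolynomial (Fin n) A ⧸ I) _
    exact ⟨LinearEquiv.ofSubsingleton _ _⟩
  -- quasi-regularity in degree one
  have hq : ∀ b : Fin r → MvPolynomial (Fin n) A, ∑ i, b i * F i ∈ I ^ 2 → ∀ i, b i ∈ I := by
    intro b hb i
    rw [hI] at hb ⊢
    exact mem_of_sum_mul_mem_sq F hreg b hb i
  -- `I/I²` is free of rank `r`
  obtain ⟨eC⟩ := nonempty_cotangent_equiv I F hI hq
  -- the left hand side is free of rank one
  have hfrC : Module.finrank (MvPolynomial (Fin n) A ⧸ I)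
      (⋀[MvPolynomial (Fin n) A ⧸ I]^r (Fin r → MvPolynomial (Fin n) A ⧸ I)) = 1 := by
    rw [exteriorPower.finrank_eq, Module.finrank_fin_fun, Nat.choose_self]
  obtain ⟨e₁⟩ := Module.nonempty_linearEquiv_of_finrank_eq_one hfrC
  let eL1 : (⋀[MvPolynomial (Fin n) A ⧸ I]^r I.Cotangent) ≃ₗ[MvPolynomial (Fin n) A ⧸ I]
      (MvPolynomial (Fin n) A ⧸ I) :=
    (Groth.Agent.Lib.H2ExtPowBC.mapEquiv r eC).trans e₁.symm
  let eL2 : Module.Dual (MvPolynomial (Fin n) A ⧸ I) (⋀[MvPolynomial (Fin n) A ⧸ I]^r I.Cotangent)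
      ≃ₗ[MvPolynomial (Fin n) A ⧸ I] (MvPolynomial (Fin n) A ⧸ I) :=
    (eL1.symm.dualMap).trans (LinearMap.ringLmapEquivSelf (MvPolynomial (Fin n) A ⧸ I)
      (MvPolynomial (Fin n) A ⧸ I) (MvPolynomial (Fin n) A ⧸ I))
  -- `⋀^n Ω_P` is free of rank one over `P`
  let bΩ := KaehlerDifferential.mvPolynomialBasis A (Fin n)
  have hntP : Nontrivial (MvPolynomial (Fin n) A) := by
    by_contra h
    rw [not_nontrivial_iff_subsingleton] at h
    exact not_subsingleton (MvPolynomial (Fin n) A ⧸ I)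
      (Function.Surjective.subsingleton (Ideal.Quotient.mk_surjective (I := I)))
  have hfrΩ : Module.finrank (MvPolynomial (Fin n) A)
      (⋀[MvPolynomial (Fin n) A]^n (Ω[MvPolynomial (Fin n) A⁄A])) = 1 := by
    have : Module.Free (MvPolynomial (Fin n) A) (Ω[MvPolynomial (Fin n) A⁄A]) :=
      Module.Free.of_basis bΩ
    have : Module.Finite (MvPolynomial (Fin n) A) (Ω[MvPolynomial (Fin n) A⁄A]) :=
      Module.Finite.of_basis bΩ
    rw [exteriorPower.finrank_eq, Module.finrank_eq_card_basis bΩ, Fintype.card_fin,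
      Nat.choose_self]
  obtain ⟨e₂⟩ := Module.nonempty_linearEquiv_of_finrank_eq_one hfrΩ
  let eR1 : (MvPolynomial (Fin n) A ⧸ I) ⊗[MvPolynomial (Fin n) A]
      (⋀[MvPolynomial (Fin n) A]^n (Ω[MvPolynomial (Fin n) A⁄A]))
      ≃ₗ[MvPolynomial (Fin n) A ⧸ I] (MvPolynomial (Fin n) A ⧸ I) :=
    (TensorProduct.AlgebraTensorModule.congr (LinearEquiv.refl (MvPolynomial (Fin n) A ⧸ I)
      (MvPolynomial (Fin n) A ⧸ I)) e₂.symm).trans
      (TensorProduct.AlgebraTensorModule.rid (MvPolynomial (Fin n) A) (MvPolynomial (Fin n) A ⧸ I)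
        (MvPolynomial (Fin n) A ⧸ I))
  let eLHS := (TensorProduct.congr eL2 eR1).trans
    (TensorProduct.lid (MvPolynomial (Fin n) A ⧸ I) (MvPolynomial (Fin n) A ⧸ I))
  -- the right hand side
  have hsurj : Function.Surjective (algebraMap (MvPolynomial (Fin n) A) (MvPolynomial (Fin n) A ⧸ I)) :=
    Ideal.Quotient.mk_surjective
  have hfs : Algebra.FormallySmooth A (MvPolynomial (Fin n) A ⧸ I) := inferInstance
  obtain ⟨l, hl⟩ := (Algebra.FormallySmooth.iff_split_injection (R := A)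
    (P := MvPolynomial (Fin n) A) (A := MvPolynomial (Fin n) A ⧸ I) hsurj).mp hfs
  obtain ⟨eT⟩ := nonempty_equiv_prod_of_split
    (kerCotangentToTensor A (MvPolynomial (Fin n) A) (MvPolynomial (Fin n) A ⧸ I))
    ((mapBaseChange A (MvPolynomial (Fin n) A) (MvPolynomial (Fin n) A ⧸ I)).restrictScalars
      (MvPolynomial (Fin n) A)) l hl
    (exact_kerCotangentToTensor_mapBaseChange A _ _ hsurj)
    (mapBaseChange_surjective A _ _ hsurj)
  -- identify the pieces
  have hJ : RingHom.ker (algebraMap (MvPolynomial (Fin n) A) (MvPolynomial (Fin n) A ⧸ I)) = I := by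
    rw [Ideal.Quotient.algebraMap_eq, Ideal.mk_ker]
  let eJ : (RingHom.ker (algebraMap (MvPolynomial (Fin n) A) (MvPolynomial (Fin n) A ⧸ I))).Cotangent
      ≃ₗ[MvPolynomial (Fin n) A] (Fin r → MvPolynomial (Fin n) A ⧸ I) :=
    (Ideal.Cotangent.equivOfEq _ _ hJ).trans (eC.restrictScalars (MvPolynomial (Fin n) A))
  let eΩ : (MvPolynomial (Fin n) A ⧸ I) ⊗[MvPolynomial (Fin n) A] (Ω[MvPolynomial (Fin n) A⁄A])
      ≃ₗ[MvPolynomial (Fin n) A ⧸ I] (Fin n → MvPolynomial (Fin n) A ⧸ I) :=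
    (bΩ.baseChange (MvPolynomial (Fin n) A ⧸ I)).equivFun
  let E₀ : ((Ω[(MvPolynomial (Fin n) A ⧸ I)⁄A]) × (Fin r → MvPolynomial (Fin n) A ⧸ I))
      ≃ₗ[MvPolynomial (Fin n) A] (Fin n → MvPolynomial (Fin n) A ⧸ I) :=
    ((LinearEquiv.prodComm (MvPolynomial (Fin n) A) _ _).trans
      ((LinearEquiv.prodCongr eJ.symm (LinearEquiv.refl (MvPolynomial (Fin n) A) _)).trans
        eT.symm)).trans (eΩ.restrictScalars (MvPolynomial (Fin n) A))
  let E : ((Ω[(MvPolynomial (Fin n) A ⧸ I)⁄A]) × (Fin r → MvPolynomial (Fin n) A ⧸ I))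
      ≃ₗ[MvPolynomial (Fin n) A ⧸ I] (Fin n → MvPolynomial (Fin n) A ⧸ I) :=
    LinearEquiv.extendScalarsOfSurjective hsurj E₀
  obtain ⟨eRHS⟩ := nonempty_equiv_extPow (Ω[(MvPolynomial (Fin n) A ⧸ I)⁄A]) (n - r) r n
    (by omega) E
  exact ⟨eLHS.trans eRHS⟩

end Part5

end Groth.Agent.Lib.DetStablyFree6
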