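/-
helper90: the submodule sheaf `I·F = Dual3.idealMul I F` on affine opens: for `F` quasi-coherent and `V` affine,
the sections of `I·F` over `V` are `I(V)·F(V)`.
-/
import Mathlib
import Groth.Prelude.Def_Dual3
import Groth.Agent.Lib.ClosedImmersionPush
import Groth.Agent.Lib.IdealMod
import Groth.Agent.Lib.H90OXModSections
import Groth.Agent.Lib.H90OXModExact

set_option autoImplicit false
set_option linter.style.haveILetI false
universe u

open CategoryTheory CategoryTheory.Limits AlgebraicGeometry TopologicalSpace Opposite TensorProduct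

namespace Groth.Agent.Lib.H90IdealMul

open Scheme.Modules Groth.Agent.Lib.UnitBaseChange Groth.Agent.Lib.H90OXModSections

/-- the kernel of a base change map along a surjective ring homomorphism -/
theorem ker_of_isBaseChange_of_surjective {A B M N : Type*} [CommRing A] [CommRing B] [Algebra A B]
    [AddCommGroup M] [Module A M] [AddCommGroup N] [Module A N] [Module B N] [IsScalarTower A B N]
    (hs : Function.Surjective (algebraMap A B)) (f : M →ₗ[A] N) (h : IsBaseChange B f) :
    LinearMap.ker f = (RingHom.ker (algebraMap A B)) • (⊤ : Submodule A M) := by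
  set J := RingHom.ker (algebraMap A B) with hJ
  apply le_antisymm
  · intro m hm
    let e : (A ⧸ J) ≃+* B := RingHom.quotientKerEquivOfSurjective hs
    letI : Module B (M ⧸ (J • ⊤ : Submodule A M)) := Module.compHom _ (e.symm : B →+* A ⧸ J)
    haveI : IsScalarTower A B (M ⧸ (J • ⊤ : Submodule A M)) := by
      refine IsScalarTower.of_algebraMap_smul fun a q => ?_
      change (e.symm (algebraMap A B a)) • q = a • q
      have : e.symm (algebraMap A B a) = Ideal.Quotient.mk J a := by
        apply e.injective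
        rw [RingEquiv.apply_symm_apply]
        rfl
      rw [this]
      induction q using Submodule.Quotient.induction_on with
      | H x => rfl
    let g : M →ₗ[A] (M ⧸ (J • ⊤ : Submodule A M)) := Submodule.mkQ _
    have hg := h.lift_eq g m
    rw [LinearMap.mem_ker] at hm
    rw [hm, map_zero] at hg
    exact (Submodule.Quotient.mk_eq_zero _).mp hg.symm
  · rw [Submodule.smul_le]
    intro a ha m _
    rw [LinearMap.mem_ker, _root_.map_smul, ← algebraMap_smul B a (f m)]
    rw [RingHom.mem_ker] at ha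
    rw [ha, zero_smul]

variable {X : Scheme.{u}} (I : X.IdealSheafData)

set_option backward.isDefEq.respectTransparency false in
/-- **Sections of `I·F` over an affine open.** -/
theorem mem_range_idealMulι_iff (F : X.Modules) [F.IsQuasicoherent] (V : X.affineOpens)
    (s : Γ(F, V.1)) :
    s ∈ LinearMap.range (appLin (Dual3.idealMulι I F) V.1) ↔
      s ∈ I.ideal V • (⊤ : Submodule Γ(X, V.1) Γ(F, V.1)) := by
  let i := I.subschemeι
  have hV : IsAffineOpen V.1 := V.2
  have hU : IsAffineOpen (i ⁻¹ᵁ V.1) := hV.preimage i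
  have hle : i ⁻¹ᵁ V.1 ≤ i ⁻¹ᵁ V.1 := le_rfl
  letI : Algebra Γ(X, V.1) Γ(I.subscheme, i ⁻¹ᵁ V.1) := (i.appLE V.1 (i ⁻¹ᵁ V.1) hle).hom.toAlgebra
  letI : Module Γ(X, V.1) Γ((Scheme.Modules.pullback i).obj F, i ⁻¹ᵁ V.1) :=
    Module.compHom _ (i.appLE V.1 (i ⁻¹ᵁ V.1) hle).hom
  haveI : IsScalarTower Γ(X, V.1) Γ(I.subscheme, i ⁻¹ᵁ V.1)
      Γ((Scheme.Modules.pullback i).obj F, i ⁻¹ᵁ V.1) := .of_algebraMap_smul fun _ _ => rfl
  have hθ := isBaseChange_unitSec i F hU hV hle
  have ef : i.appLE V.1 (i ⁻¹ᵁ V.1) hle = i.app V.1 := Scheme.Hom.appLE_eq_app _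
  have hAeq : algebraMap Γ(X, V.1) Γ(I.subscheme, i ⁻¹ᵁ V.1) = (i.app V.1).hom := by
    rw [← ef]; rfl
  have hsurj : Function.Surjective (algebraMap Γ(X, V.1) Γ(I.subscheme, i ⁻¹ᵁ V.1)) := by
    rw [hAeq]; exact i.app_surjective V.1 hV
  have hker := ker_of_isBaseChange_of_surjective hsurj (unitSec i F hle) hθ
  have hkerI : RingHom.ker (algebraMap Γ(X, V.1) Γ(I.subscheme, i ⁻¹ᵁ V.1)) = I.ideal V := by
    rw [hAeq, ← Scheme.Hom.ker_apply, Scheme.IdealSheafData.ker_subschemeι]
  rw [hkerI] at hker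
  rw [← hker, LinearMap.mem_ker]
  have hfun : unitSec i F hle s =
      ((pullbackPushforwardAdjunction i).unit.app F).app V.1 s := by
    rw [unitSec_apply]
    have : (homOfLE hle).op = 𝟙 (op (i ⁻¹ᵁ V.1)) := rfl
    rw [this, CategoryTheory.Functor.map_id]
    rfl
  rw [hfun]
  have hk := (Groth.Agent.Lib.IdealMod.kernel_sections
    ((pullbackPushforwardAdjunction i).unit.app F) V.1).2 s
  constructor
  · rintro ⟨t, rfl⟩
    exact hk.mpr ⟨t, rfl⟩
  · intro h0
    obtain ⟨t, ht⟩ := hk.mp h0
    exact ⟨t, ht⟩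

end Groth.Agent.Lib.H90IdealMul
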