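/-
helper90: Artin–Rees for coherent modules on a Noetherian scheme, in the form: for `H` coherent and `U` open there is a
coherent submodule `E ⊆ H` with `E|_U = H|_U` and without nonzero sections vanishing on `U` (`E = Iⁿ H`, `n ≫ 0`,
for `I` the ideal sheaf of the complement of `U`).
-/
import Mathlib
import Groth.Agent.Lib.H90IdealMul
import Groth.Agent.Lib.H90DevSub
import Groth.Agent.Lib.H72PullbackQCoh
import Groth.Agent.Lib.H77QCohKernel
import Groth.Agent.Lib.H90QCohLocalization
import Groth.Agent.Lib.CohFinite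
import Groth.Agent.Lib.H90DevTwo2

set_option autoImplicit false
set_option linter.style.haveILetI false
universe u

open CategoryTheory CategoryTheory.Limits AlgebraicGeometry TopologicalSpace Opposite

namespace Groth.Agent.Lib.H90ArtinRees

/-- a f.g. submodule all of whose elements are killed by powers of elements of `I` is killed by a power of `I` -/
theorem exists_pow_le_annihilator {A M : Type*} [CommRing A] [AddCommGroup M] [Module A M]
    (I : Ideal A) (hI : I.FG) (T : Submodule A M) (hTfg : T.FG)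
    (hT : ∀ t ∈ T, ∀ f ∈ I, ∃ k : ℕ, f ^ k • t = 0) :
    ∃ c : ℕ, I ^ c ≤ T.annihilator := by
  apply Ideal.exists_pow_le_of_le_radical_of_fg _ hI
  intro f hf
  obtain ⟨S, rfl⟩ := hTfg
  classical
  choose! k hk using fun t (ht : t ∈ Submodule.span A (S : Set M)) => hT t ht f hf
  refine ⟨S.sup k, ?_⟩
  rw [Submodule.mem_annihilator_span]
  rintro ⟨t, ht⟩
  have hle : k t ≤ S.sup k := Finset.le_sup (f := k) ht
  obtain ⟨d, hd⟩ := Nat.exists_eq_add_of_le hle
  change f ^ S.sup k • t = 0
  rw [hd, add_comm, pow_add, mul_smul, hk t (Submodule.subset_span ht), smul_zero]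

/-- **Artin–Rees consequence**: high powers `Iⁿ M` meet the `I`-power torsion trivially. -/
theorem exists_pow_smul_inf_eq_bot {A M : Type*} [CommRing A] [IsNoetherianRing A] [AddCommGroup M]
    [Module A M] [Module.Finite A M] (I : Ideal A) (T : Submodule A M)
    (hT : ∀ t ∈ T, ∀ f ∈ I, ∃ k : ℕ, f ^ k • t = 0) :
    ∃ n₀ : ℕ, ∀ n ≥ n₀, (I ^ n • (⊤ : Submodule A M)) ⊓ T = ⊥ := by
  haveI : IsNoetherian A M := isNoetherian_of_isNoetherianRing_of_finite A M
  obtain ⟨c, hc⟩ := exists_pow_le_annihilator I (IsNoetherian.noetherian I) T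
    (IsNoetherian.noetherian T) hT
  obtain ⟨k, hk⟩ := Ideal.exists_pow_inf_eq_pow_smul I T
  refine ⟨k + c, fun n hn => ?_⟩
  rw [hk n (by omega), eq_bot_iff]
  have h1 : I ^ (n - k) ≤ T.annihilator := (Ideal.pow_le_pow_right (by omega : c ≤ n - k)).trans hc
  calc I ^ (n - k) • (I ^ k • ⊤ ⊓ T) ≤ T.annihilator • T :=
        Submodule.smul_mono h1 inf_le_right
    _ = ⊥ := Submodule.annihilator_smul T
    _ ≤ ⊥ := le_rfl

open Groth.Agent.Lib.QCohStalk Groth.Agent.Lib.AssPush Groth.Agent.Lib.H90OXModQcqs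
  Groth.Agent.Lib.H90OXModSections Groth.Agent.Lib.H90OXModExt Groth.Agent.Lib.H90SubSh
  Groth.Agent.Lib.H90DevSub Scheme.Modules

variable {X : Scheme.{u}} (I : X.IdealSheafData) (H : X.Modules)

/-- `I·F` is quasi-coherent for quasi-coherent `F`. -/
instance isQuasicoherent_idealMul [H.IsQuasicoherent] : ((Dual3.idealMul I).obj H).IsQuasicoherent := by
  haveI : ((Scheme.Modules.pushforward I.subschemeι).obj
      ((Scheme.Modules.pullback I.subschemeι).obj H)).IsQuasicoherent :=
    Groth.Agent.Lib.H90OXModPush.isQuasicoherent_pushforward I.subschemeι _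
  exact Groth.Agent.Lib.H77QCohKernel.isQuasicoherent_kernel (M := H)
    (N := (Scheme.Modules.pushforward I.subschemeι).obj
      ((Scheme.Modules.pullback I.subschemeι).obj H))
    ((pullbackPushforwardAdjunction I.subschemeι).unit.app H)

/-- the submodule `Iⁿ H ⊆ H` -/
noncomputable def powSub (n : ℕ) : SubSh H := SubSh.ofMono (Dual3.idealMulι (I ^ n) H)

theorem powSub_obj [H.IsQuasicoherent] (n : ℕ) (V : X.affineOpens) :
    (powSub I H n).obj V.1 = (I.ideal V) ^ n • (⊤ : Submodule Γ(X, V.1) Γ(H, V.1)) := by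
  ext s
  rw [powSub, SubSh.mem_ofMono_iff]
  exact Groth.Agent.Lib.H90IdealMul.mem_range_idealMulι_iff (I ^ n) H V s

theorem qc_powSub [H.IsQuasicoherent] (n : ℕ) : QC (powSub I H n) :=
  qc_ofMono (Dual3.idealMulι (I ^ n) H)

variable {I} in
theorem basicOpen_le_of_mem_ideal {U : X.Opens} (hU : (U : Set X) = (I.support : Set X)ᶜ)
    (V : X.affineOpens) {f : Γ(X, V.1)} (hf : f ∈ I.ideal V) : X.basicOpen f ≤ V.1 ⊓ U := by
  intro x hx
  refine ⟨X.basicOpen_le f hx, ?_⟩
  change x ∈ (U : Set X)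
  rw [hU]
  intro hxs
  have h1 := (Scheme.IdealSheafData.mem_support_iff_of_mem (I := I) (U := V) (X.basicOpen_le f hx)).mp hxs
  rw [Scheme.mem_zeroLocus_iff] at h1
  exact h1 f hf hx

variable {I} in
set_option backward.isDefEq.respectTransparency false in
theorem ideal_eq_top_of_le {U : X.Opens} (hU : (U : Set X) = (I.support : Set X)ᶜ)
    (V : X.affineOpens) (hV : V.1 ≤ U) : I.ideal V = ⊤ := by
  have h1 := (V.2.fromSpec_image_zeroLocus (I.ideal V)).trans_subset
    (I.zeroLocus_inter_subset_supportSet V)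
  have h2 : V.2.fromSpec '' PrimeSpectrum.zeroLocus (I.ideal V : Set Γ(X, V.1)) ⊆ (U : Set X) := by
    rw [V.2.fromSpec_image_zeroLocus]
    exact fun x hx => hV hx.2
  have h3 : V.2.fromSpec '' PrimeSpectrum.zeroLocus (I.ideal V : Set Γ(X, V.1)) = ∅ := by
    rw [Set.eq_empty_iff_forall_notMem]
    intro x hx
    have := h2 hx
    rw [hU] at this
    exact this (h1 hx)
  exact PrimeSpectrum.zeroLocus_empty_iff_eq_top.mp (Set.image_eq_empty.mp h3)

set_option backward.isDefEq.respectTransparency false in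
/-- **Artin–Rees on a Noetherian scheme**: for `n ≫ 0`, `Iⁿ H` has no nonzero sections vanishing on the complement
`U` of `V(I)`. -/
theorem exists_powSub_inf_vanishOn_eq_bot [AlgebraicGeometry.IsNoetherian X] (hH : Coh.IsCoh H) {U : X.Opens}
    (hU : (U : Set X) = (I.support : Set X)ᶜ) :
    ∃ n₀ : ℕ, ∀ n ≥ n₀, (powSub I H n).inf (vanishOn H U) = bot H := by
  classical
  haveI : H.IsQuasicoherent := hH.1
  -- the local statement
  have hloc : ∀ V : X.affineOpens, ∃ n₀ : ℕ, ∀ n ≥ n₀,
      ((I.ideal V) ^ n • (⊤ : Submodule Γ(X, V.1) Γ(H, V.1))) ⊓ (vanishOn H U).obj V.1 = ⊥ := by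
    intro V
    haveI : IsNoetherianRing Γ(X, V.1) := IsLocallyNoetherian.component_noetherian V
    haveI : Module.Finite Γ(X, V.1) Γ(H, V.1) :=
      Groth.Agent.Lib.CohFinite.finite_sections_of_isCoh H hH V.2
    apply exists_pow_smul_inf_eq_bot
    intro t ht f hf
    rw [mem_vanishOn_iff] at ht
    apply exists_pow_smul_eq_zero H V.2 f t
    have hle := basicOpen_le_of_mem_ideal hU V hf
    rw [← res_res H hle (inf_le_left : V.1 ⊓ U ≤ V.1), ht, res_zero]
  choose n₀ hn₀ using hloc
  -- a finite affine cover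
  obtain ⟨t, ht⟩ := isCompact_univ.elim_finite_subcover (fun V : X.affineOpens => (V.1 : Set X))
    (fun V => V.1.isOpen) (by
      intro x _
      obtain ⟨_, ⟨V, hV, rfl⟩, hxV, -⟩ :=
        X.isBasis_affineOpens.exists_subset_of_mem_open (Set.mem_univ x) isOpen_univ
      exact Set.mem_iUnion.mpr ⟨⟨V, hV⟩, hxV⟩)
  refine ⟨t.sup n₀, fun n hn => ?_⟩
  rw [eq_bot_iff]
  intro W s hs
  refine res_ext H W (fun V : t => W ⊓ V.1.1) (fun _ => inf_le_left) ?_ s 0 fun V => ?_
  · intro x hx
    obtain ⟨V, hV⟩ := Set.mem_iUnion.mp (ht (Set.mem_univ x))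
    obtain ⟨hVt, hxV⟩ := Set.mem_iUnion.mp hV
    exact Opens.mem_iSup.mpr ⟨⟨V, hVt⟩, hx, hxV⟩
  · rw [res_zero]
    have hle : ((powSub I H n).inf (vanishOn H U)).obj V.1.1 ≤ (bot H).obj V.1.1 := by
      rw [SubSh.inf_obj, powSub_obj, hn₀ V.1 n ((Finset.le_sup V.2).trans hn)]
      exact le_rfl
    have := SubSh.obj_le_of_obj_le _ (bot H) V.1.2
      (qc_inf (qc_powSub I H n) (qc_vanishOn U) _ V.1.2) hle
      (inf_le_right : W ⊓ V.1.1 ≤ V.1.1)
      (SubSh.res_mem _ (inf_le_left : W ⊓ V.1.1 ≤ W) hs)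
    exact (mem_bot_iff _ _).mp this

open Groth.Agent.Lib.ModStalkLin Groth.Agent.Lib.H90DevHub2 Groth.Agent.Lib.H90DevTwo in
set_option backward.isDefEq.respectTransparency false in
/-- **Torsion-free coherent submodule**: on a Noetherian scheme, every coherent `H` has a coherent submodule `E` that
agrees with `H` on the open `U` and has no nonzero section vanishing on `U`. -/
theorem exists_torsionFree_sub [AlgebraicGeometry.IsNoetherian X] (hH : Coh.IsCoh H) (U : X.Opens) :
    ∃ (E : X.Modules) (j : E ⟶ H), Mono j ∧ Coh.IsCoh E ∧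
      IsIso ((Scheme.Modules.restrictFunctor U.ι).map j) ∧
      ∀ (V : X.Opens) (s : Γ(E, V)), res E (inf_le_left : V ⊓ U ≤ V) s = 0 → s = 0 := by
  haveI : H.IsQuasicoherent := hH.1
  let Zc : Closeds X := ⟨(U : Set X)ᶜ, U.isOpen.isClosed_compl⟩
  let I : X.IdealSheafData := Scheme.IdealSheafData.vanishingIdeal Zc
  have hU : (U : Set X) = (I.support : Set X)ᶜ := by
    rw [Scheme.IdealSheafData.coe_support_vanishingIdeal]
    exact (compl_compl _).symm
  obtain ⟨n, hn⟩ := exists_powSub_inf_vanishOn_eq_bot I H hH hU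
  have hbot := hn n le_rfl
  let j := Dual3.idealMulι (I ^ n) H
  refine ⟨(Dual3.idealMul (I ^ n)).obj H, j, inferInstance,
    Groth.Agent.Lib.H90DevFilt.isCoh_of_mono j hH, ?_, ?_⟩
  · rw [Groth.Agent.Lib.H90QCohLocalization.isIso_restrict_map_iff]
    constructor
    · intro x hx
      exfalso
      rw [mem_support_iff] at hx
      haveI := hx
      have hz : IsZero (kernel j) := isZero_kernel_of_mono j
      haveI := subsingleton_stalk_of_isZero hz x
      exact false_of_nontrivial_of_subsingleton ↑((kernel j).presheaf.stalk x)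
    · intro x hx hxU
      revert hx
      change x ∉ CohB1.support (cokernel j)
      rw [notMem_support_iff]
      have hS := stalkLin_exact (shortExact_cokernel j) x
      have hsurj : Function.Surjective (stalkLin j x) := by
        intro v
        obtain ⟨W, hxW, s, rfl⟩ := TopCat.Presheaf.exists_germ_eq H.presheaf v
        obtain ⟨_, ⟨V, hV, rfl⟩, hxV, hVW⟩ :=
          X.isBasis_affineOpens.exists_subset_of_mem_open (show x ∈ ((W ⊓ U : X.Opens) : Set X) from ⟨hxW, hxU⟩)
            (W ⊓ U).isOpen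
        have hVW' : V ≤ W := fun y hy => (hVW hy).1
        have hVU : V ≤ U := fun y hy => (hVW hy).2
        have htop : (powSub I H n).obj V = ⊤ := by
          rw [powSub_obj I H n ⟨V, hV⟩, ideal_eq_top_of_le hU ⟨V, hV⟩ hVU, Ideal.top_pow,
            Submodule.top_smul]
        have hmem : res H hVW' s ∈ (powSub I H n).obj V := by rw [htop]; trivial
        rw [powSub, SubSh.mem_ofMono_iff] at hmem
        obtain ⟨e, he⟩ := hmem
        refine ⟨((Dual3.idealMul (I ^ n)).obj H).presheaf.germ V x hxV e, ?_⟩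
        rw [stalkLin_germ]
        have : (j.app V) e = res H hVW' s := he
        rw [this]
        exact TopCat.Presheaf.germ_res_apply H.presheaf (homOfLE hVW') x hxV s
      refine ⟨fun a b => ?_⟩
      have key : ∀ w : ↑((cokernel j).presheaf.stalk x), w = 0 := by
        intro w
        obtain ⟨v, rfl⟩ := hS.2.2 w
        obtain ⟨g, rfl⟩ := hsurj v
        exact (hS.2.1 _).mpr ⟨g, rfl⟩
      rw [key a, key b]
  · intro V s hs
    apply injective_appLin_of_mono j V
    rw [map_zero]
    have h1 : appLin j V s ∈ ((powSub I H n).inf (vanishOn H U)).obj V := by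
      rw [SubSh.inf_obj]
      refine ⟨?_, ?_⟩
      · rw [powSub, SetLike.mem_coe, SubSh.mem_ofMono_iff]
        exact ⟨s, rfl⟩
      · rw [SetLike.mem_coe, mem_vanishOn_iff, ← appLin_res, hs, map_zero]
    rw [hbot] at h1
    exact (mem_bot_iff _ _).mp h1

open Groth.Agent.Lib.H90DevHub2 in
/-- sections of a module supported off `U` vanish over opens inside `U` -/
theorem eq_zero_of_support_subset_compl {N : X.Modules} {U : X.Opens}
    (h : CohB1.support N ⊆ (U : Set X)ᶜ) {W : X.Opens} (hW : W ≤ U) (t : Γ(N, W)) : t = 0 := by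
  refine TopCat.Presheaf.section_ext ⟨N.presheaf, N.isSheaf⟩ W t 0 fun x hx => ?_
  have hx' : x ∉ CohB1.support N := fun hxs => h hxs (hW hx)
  rw [notMem_support_iff] at hx'
  exact Subsingleton.elim _ _

/-- **Torsion-free coherent submodule**, categorical form: every morphism into `E` from a module supported off `U` is
zero. -/
theorem exists_torsionFree_sub' [AlgebraicGeometry.IsNoetherian X] (hH : Coh.IsCoh H) (U : X.Opens) :
    ∃ (E : X.Modules) (j : E ⟶ H), Mono j ∧ Coh.IsCoh E ∧
      IsIso ((Scheme.Modules.restrictFunctor U.ι).map j) ∧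
      ∀ (N : X.Modules) (g : N ⟶ E), CohB1.support N ⊆ (U : Set X)ᶜ → g = 0 := by
  obtain ⟨E, j, hj, hE, hiso, htf⟩ := exists_torsionFree_sub H hH U
  refine ⟨E, j, hj, hE, hiso, fun N g hN => ?_⟩
  ext V t
  apply htf V
  have h1 := appLin_res g (inf_le_left : V ⊓ U ≤ V) t
  rw [eq_zero_of_support_subset_compl hN (inf_le_right : V ⊓ U ≤ U) (res N _ t), map_zero] at h1
  exact h1.symm

end Groth.Agent.Lib.H90ArtinRees
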