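/-
helper90: powers of an ideal sheaf kill coherent modules supported on its zero locus (Noetherian schemes), and consequences:
`Iⁿ M ⟶ M` factors through every submodule `E ⊆ M` with `M/E` supported in `V(I)`; `Iⁿ M ⟶ M` is an isomorphism off `V(I)`.
-/
import Mathlib
import Groth.Agent.Lib.H90ArtinRees

set_option autoImplicit false
set_option linter.style.haveILetI false
universe u

open CategoryTheory CategoryTheory.Limits AlgebraicGeometry TopologicalSpace Opposite

namespace Groth.Agent.Lib.H90IdealKill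

open Groth.Agent.Lib.QCohStalk Groth.Agent.Lib.AssPush Groth.Agent.Lib.H90OXModQcqs
  Groth.Agent.Lib.H90OXModSections Groth.Agent.Lib.H90OXModExt Groth.Agent.Lib.H90SubSh
  Groth.Agent.Lib.H90DevSub Scheme.Modules Groth.Agent.Lib.H90ArtinRees
  Groth.Agent.Lib.ModStalkLin Groth.Agent.Lib.H90DevHub2 Groth.Agent.Lib.H90DevTwo

variable {X : Scheme.{u}} (I : X.IdealSheafData) (H : X.Modules)

set_option backward.isDefEq.respectTransparency false in
/-- off `V(I)`, the inclusion `Iⁿ H ⟶ H` is surjective on stalks -/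
theorem surjective_stalkLin_idealMulι [H.IsQuasicoherent] {U : X.Opens}
    (hU : (U : Set X) = (I.support : Set X)ᶜ) (n : ℕ) (x : X) (hxU : x ∈ U) :
    Function.Surjective (stalkLin (Dual3.idealMulι (I ^ n) H) x) := by
  intro v
  obtain ⟨W, hxW, s, rfl⟩ := TopCat.Presheaf.exists_germ_eq H.presheaf v
  obtain ⟨_, ⟨V, hV, rfl⟩, hxV, hVW⟩ :=
    X.isBasis_affineOpens.exists_subset_of_mem_open (show x ∈ ((W ⊓ U : X.Opens) : Set X) from ⟨hxW, hxU⟩)
      (W ⊓ U).isOpen
  have hVW' : V ≤ W := fun y hy => (hVW hy).1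
  have hVU : V ≤ U := fun y hy => (hVW hy).2
  have htop : (powSub I H n).obj V = ⊤ := by
    rw [powSub_obj I H n ⟨V, hV⟩, ideal_eq_top_of_le hU ⟨V, hV⟩ hVU, Ideal.top_pow,
      Submodule.top_smul]
  have hmem : res H hVW' s ∈ (powSub I H n).obj V := by rw [htop]; trivial
  rw [powSub, SubSh.mem_ofMono_iff] at hmem
  obtain ⟨e, he⟩ := hmem
  refine ⟨((Dual3.idealMul (I ^ n)).obj H).presheaf.germ V x hxV e, ?_⟩
  rw [stalkLin_germ]
  have : ((Dual3.idealMulι (I ^ n) H).app V) e = res H hVW' s := he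
  rw [this]
  exact TopCat.Presheaf.germ_res_apply H.presheaf (homOfLE hVW') x hxV s

/-- a monomorphism which is surjective on the stalks at the points of `U` is an isomorphism over `U` -/
theorem isIso_restrict_of_mono_of_surjective {A B : X.Modules} (j : A ⟶ B) [Mono j] (U : X.Opens)
    (h : ∀ x ∈ U, Function.Surjective (stalkLin j x)) :
    IsIso ((Scheme.Modules.restrictFunctor U.ι).map j) := by
  rw [Groth.Agent.Lib.H90QCohLocalization.isIso_restrict_map_iff]
  constructor
  · intro x hx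
    exfalso
    rw [mem_support_iff] at hx
    haveI := hx
    have hz : IsZero (kernel j) := isZero_kernel_of_mono j
    haveI := subsingleton_stalk_of_isZero hz x
    exact false_of_nontrivial_of_subsingleton ↑((kernel j).presheaf.stalk x)
  · intro x hx hxU
    revert hx
    change x ∉ CohB1.support (cokernel j)
    rw [notMem_support_iff]
    have hS := stalkLin_exact (shortExact_cokernel j) x
    refine ⟨fun a b => ?_⟩
    have key : ∀ w : ↑((cokernel j).presheaf.stalk x), w = 0 := by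
      intro w
      obtain ⟨v, rfl⟩ := hS.2.2 w
      obtain ⟨g, rfl⟩ := h x hxU v
      exact (hS.2.1 _).mpr ⟨g, rfl⟩
    rw [key a, key b]

/-- conversely -/
theorem surjective_stalkLin_of_isIso_restrict {A B : X.Modules} (j : A ⟶ B) [Mono j] (U : X.Opens)
    (h : IsIso ((Scheme.Modules.restrictFunctor U.ι).map j)) (x : X) (hxU : x ∈ U) :
    Function.Surjective (stalkLin j x) := by
  obtain ⟨-, hc⟩ := (Groth.Agent.Lib.H90QCohLocalization.isIso_restrict_map_iff j U).mp h
  have hx : x ∉ CohB1.support (cokernel j) := fun hx => hc hx hxU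
  rw [notMem_support_iff] at hx
  have hS := stalkLin_exact (shortExact_cokernel j) x
  intro v
  obtain ⟨g, hg⟩ := (hS.2.1 v).mp (Subsingleton.elim _ _)
  exact ⟨g, hg⟩

theorem isIso_restrict_idealMulι [H.IsQuasicoherent] {U : X.Opens}
    (hU : (U : Set X) = (I.support : Set X)ᶜ) (n : ℕ) :
    IsIso ((Scheme.Modules.restrictFunctor U.ι).map (Dual3.idealMulι (I ^ n) H)) :=
  isIso_restrict_of_mono_of_surjective _ U fun x hx => surjective_stalkLin_idealMulι I H hU n x hx

set_option backward.isDefEq.respectTransparency false in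
/-- **Powers of `I` kill coherent modules supported on `V(I)`** (sub-sheaf form). -/
theorem exists_powSub_eq_bot [AlgebraicGeometry.IsNoetherian X] (hH : Coh.IsCoh H) {U : X.Opens}
    (hU : (U : Set X) = (I.support : Set X)ᶜ) (hs : CohB1.support H ⊆ (U : Set X)ᶜ) :
    ∃ m : ℕ, ∀ n ≥ m, powSub I H n = bot H := by
  classical
  haveI : H.IsQuasicoherent := hH.1
  have hloc : ∀ V : X.affineOpens, ∃ c : ℕ,
      (I.ideal V) ^ c ≤ (⊤ : Submodule Γ(X, V.1) Γ(H, V.1)).annihilator := by
    intro V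
    haveI : IsNoetherianRing Γ(X, V.1) := IsLocallyNoetherian.component_noetherian V
    haveI : Module.Finite Γ(X, V.1) Γ(H, V.1) :=
      Groth.Agent.Lib.CohFinite.finite_sections_of_isCoh H hH V.2
    apply exists_pow_le_annihilator _ (IsNoetherian.noetherian _) _ Module.Finite.fg_top
    intro t _ f hf
    apply exists_pow_smul_eq_zero H V.2 f t
    exact eq_zero_of_support_subset_compl hs
      ((basicOpen_le_of_mem_ideal hU V hf).trans inf_le_right) _
  choose c hc using hloc
  obtain ⟨t, ht⟩ := isCompact_univ.elim_finite_subcover (fun V : X.affineOpens => (V.1 : Set X))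
    (fun V => V.1.isOpen) (by
      intro x _
      obtain ⟨_, ⟨V, hV, rfl⟩, hxV, -⟩ :=
        X.isBasis_affineOpens.exists_subset_of_mem_open (Set.mem_univ x) isOpen_univ
      exact Set.mem_iUnion.mpr ⟨⟨V, hV⟩, hxV⟩)
  refine ⟨t.sup c, fun n hn => ?_⟩
  rw [eq_bot_iff]
  intro W s hs'
  refine res_ext H W (fun V : t => W ⊓ V.1.1) (fun _ => inf_le_left) ?_ s 0 fun V => ?_
  · intro x hx
    obtain ⟨V, hV⟩ := Set.mem_iUnion.mp (ht (Set.mem_univ x))
    obtain ⟨hVt, hxV⟩ := Set.mem_iUnion.mp hV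
    exact Opens.mem_iSup.mpr ⟨⟨V, hVt⟩, hx, hxV⟩
  · rw [res_zero]
    have hle : (powSub I H n).obj V.1.1 ≤ (bot H).obj V.1.1 := by
      rw [powSub_obj]
      have h1 : (I.ideal V.1) ^ n ≤ (⊤ : Submodule Γ(X, V.1.1) Γ(H, V.1.1)).annihilator :=
        (Ideal.pow_le_pow_right ((Finset.le_sup V.2).trans hn)).trans (hc V.1)
      calc (I.ideal V.1) ^ n • (⊤ : Submodule Γ(X, V.1.1) Γ(H, V.1.1))
          ≤ (⊤ : Submodule Γ(X, V.1.1) Γ(H, V.1.1)).annihilator • ⊤ := Submodule.smul_mono_left h1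
        _ = ⊥ := Submodule.annihilator_smul _
        _ ≤ _ := bot_le
    have := SubSh.obj_le_of_obj_le _ (bot H) V.1.2 (qc_powSub I H n _ V.1.2) hle
      (inf_le_right : W ⊓ V.1.1 ≤ V.1.1)
      (SubSh.res_mem _ (inf_le_left : W ⊓ V.1.1 ≤ W) hs')
    exact (mem_bot_iff _ _).mp this

/-- **Powers of `I` kill coherent modules supported on `V(I)`.** -/
theorem exists_idealMulι_pow_eq_zero [AlgebraicGeometry.IsNoetherian X] (hH : Coh.IsCoh H) {U : X.Opens}
    (hU : (U : Set X) = (I.support : Set X)ᶜ) (hs : CohB1.support H ⊆ (U : Set X)ᶜ) :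
    ∃ m : ℕ, ∀ n ≥ m, Dual3.idealMulι (I ^ n) H = 0 := by
  obtain ⟨m, hm⟩ := exists_powSub_eq_bot I H hH hU hs
  refine ⟨m, fun n hn => ?_⟩
  ext V s
  have h1 : (Dual3.idealMulι (I ^ n) H).app V s ∈ (powSub I H n).obj V := by
    rw [powSub, SubSh.mem_ofMono_iff]
    exact ⟨s, rfl⟩
  rw [hm n hn] at h1
  exact (mem_bot_iff _ _).mp h1

/-- if `J` kills `M/E`, then `J·M ⊆ E` -/
theorem exists_lift_idealMul {E M : X.Modules} (b : E ⟶ M) [Mono b] (J : X.IdealSheafData)
    (h : Dual3.idealMulι J (cokernel b) = 0) :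
    ∃ l : (Dual3.idealMul J).obj M ⟶ E, l ≫ b = Dual3.idealMulι J M := by
  have h0 : Dual3.idealMulι J M ≫ cokernel.π b = 0 := by
    rw [← Dual3.idealMul_map_ι, h, comp_zero]
  exact ⟨Abelian.monoLift b _ h0, Abelian.monoLift_comp b _ h0⟩

end Groth.Agent.Lib.H90IdealKill
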