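/-
helper90: splitting the support (Stacks 01YC): on a Noetherian scheme, a coherent `M` with `Supp M ⊆ Z ∪ Z'` sits in a short exact
sequence `0 → G' → M → G → 0` of coherent modules with `Supp G' ⊆ Z'`, `Supp G ⊆ Z` (`G'` = sections supported in `Z'`).
-/
import Mathlib
import Groth.Agent.Lib.H90IdealKill

set_option autoImplicit false
set_option linter.style.haveILetI false
universe u

open CategoryTheory CategoryTheory.Limits AlgebraicGeometry TopologicalSpace Opposite

namespace Groth.Agent.Lib.H90SplitSupport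

open Groth.Agent.Lib.QCohStalk Groth.Agent.Lib.AssPush Groth.Agent.Lib.H90OXModQcqs
  Groth.Agent.Lib.H90OXModSections Groth.Agent.Lib.H90OXModExt Groth.Agent.Lib.H90SubSh
  Groth.Agent.Lib.H90DevSub Scheme.Modules Groth.Agent.Lib.H90ArtinRees Groth.Agent.Lib.H90IdealKill
  Groth.Agent.Lib.ModStalkLin Groth.Agent.Lib.ModStalk Groth.Agent.Lib.H90DevHub2 Groth.Agent.Lib.H90DevTwo

variable {X : Scheme.{u}}

/-- if the stalk map of a monomorphism is surjective at `x`, then `x` is not in the support of the cokernel -/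
theorem notMem_support_cokernel_of_surjective {A B : X.Modules} (p : A ⟶ B) [Mono p] (x : X)
    (h : Function.Surjective (stalkLin p x)) : x ∉ CohB1.support (cokernel p) := by
  rw [notMem_support_iff]
  have hS := stalkLin_exact (shortExact_cokernel p) x
  refine ⟨fun a b => ?_⟩
  have key : ∀ w : ↑((cokernel p).presheaf.stalk x), w = 0 := by
    intro w
    obtain ⟨v, rfl⟩ := hS.2.2 w
    obtain ⟨g, rfl⟩ := h v
    exact (hS.2.1 _).mpr ⟨g, rfl⟩
  rw [key a, key b]

set_option backward.isDefEq.respectTransparency false in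
theorem exists_split_support [AlgebraicGeometry.IsNoetherian X] (M : X.Modules) (hM : Coh.IsCoh M)
    (Z Z' : Set X) (hZ : IsClosed Z) (hZ' : IsClosed Z') (h : CohB1.support M ⊆ Z ∪ Z') :
    ∃ (G' : X.Modules) (j : G' ⟶ M), Mono j ∧ Coh.IsCoh G' ∧ Coh.IsCoh (cokernel j) ∧
      CohB1.support G' ⊆ Z' ∧ CohB1.support (cokernel j) ⊆ Z := by
  haveI : M.IsQuasicoherent := hM.1
  let U' : X.Opens := ⟨Z'ᶜ, hZ'.isOpen_compl⟩
  let T : SubSh M := vanishOn M U'
  have hTc : Coh.IsCoh T.toModules := isCoh_toModules_of_qc hM (qc_vanishOn U')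
  haveI : T.toModules.IsQuasicoherent := hTc.1
  refine ⟨T.toModules, T.ι, inferInstance, hTc,
    Groth.Agent.Lib.H90OXModExact.isCoh_cokernel T.ι hM, ?_, ?_⟩
  · -- the sub-module is supported in `Z'`
    intro x hx
    by_contra hxZ'
    rw [mem_support_iff] at hx
    obtain ⟨a, b, hab⟩ := hx
    apply hab
    have key : ∀ w : ↑(T.toModules.presheaf.stalk x), w = 0 := by
      intro w
      obtain ⟨V, hxV, g, rfl⟩ := TopCat.Presheaf.exists_germ_eq T.toModules.presheaf w
      have hxVU : x ∈ V ⊓ U' := ⟨hxV, hxZ'⟩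
      rw [← TopCat.Presheaf.germ_res_apply T.toModules.presheaf (homOfLE (inf_le_left : V ⊓ U' ≤ V)) x hxVU g]
      have h0 : res T.toModules (inf_le_left : V ⊓ U' ≤ V) g = 0 := by
        apply injective_appLin_of_mono T.ι
        rw [map_zero, appLin_res]
        have hmem : appLin T.ι V g ∈ T.obj V := (T.mem_range_ι V _).mp ⟨g, rfl⟩
        exact (mem_vanishOn_iff U' V _).mp hmem
      change T.toModules.presheaf.germ (V ⊓ U') x hxVU (res T.toModules _ g) = 0
      rw [h0, map_zero]
    rw [key a, key b]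
  · -- the quotient is supported in `Z`
    intro x hx
    by_contra hxZ
    revert hx
    change x ∉ CohB1.support (cokernel T.ι)
    apply notMem_support_cokernel_of_surjective T.ι x
    intro v
    obtain ⟨V, hxV, s, rfl⟩ := TopCat.Presheaf.exists_germ_eq M.presheaf v
    let W : X.Opens := V ⊓ ⟨Zᶜ, hZ.isOpen_compl⟩
    have hxW : x ∈ W := ⟨hxV, hxZ⟩
    have hsW : res M (inf_le_left : W ≤ V) s ∈ T.obj W := by
      rw [mem_vanishOn_iff]
      -- `M` has no support on `W ⊓ U'`
      let O : X.Opens := W ⊓ U'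
      have hO : CohB1.support M ⊆ (O : Set X)ᶜ := by
        intro y hy hyO
        rcases h hy with hyZ | hyZ'
        · exact hyO.1.2 hyZ
        · exact hyO.2 hyZ'
      exact eq_zero_of_support_subset_compl hO le_rfl _
    obtain ⟨g, hg⟩ := (T.mem_range_ι W _).mpr hsW
    refine ⟨T.toModules.presheaf.germ W x hxW g, ?_⟩
    rw [stalkLin_germ]
    have : (T.ι.app W) g = res M (inf_le_left : W ≤ V) s := hg
    rw [this]
    exact TopCat.Presheaf.germ_res_apply M.presheaf (homOfLE (inf_le_left : W ≤ V)) x hxW s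

end Groth.Agent.Lib.H90SplitSupport
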