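import Groth.Agent.Lib.H90DevOneSidedIrr
import Groth.Agent.Lib.H90DevTwo2
import Groth.Agent.Lib.H90QCohLocalization
import Groth.Agent.S0049
import Groth.Agent.Lib.H90CohRestrict
import Groth.Agent.Lib.ModStalk

/-!
# Global one-sided dévissage (Stacks 01YM) (helper10)

`devissage_ext_roots` : `X` Noetherian, `P` an isomorphism-invariant property of `O_X`-modules,
holding for zero modules, closed under extensions of coherent modules and under roots
(`P (F^{⊕ r}) → P F`), and such that for every irreducible closed `Z₀ ⊆ X` with generic point `ξ`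
there is a coherent `G` with support `Z₀`, stalk at `ξ` killed by `𝔪_ξ`, and for every ideal sheaf
`J` with `ξ ∉ V(J)` a quasi-coherent `G' ⊆ J G`, isomorphic to `G` at `ξ`, with `P G'`.
Then `P` holds for all coherent modules.

Built on helper90's irreducible version (`H90DevOneSidedIrr.devissage_one_sided_irreducible`,
= S9522) by Noetherian induction on closed subsets, using the splitting S0049 for reducible
supports.
-/

set_option autoImplicit false
universe u
open CategoryTheory CategoryTheory.Limits AlgebraicGeometry TopologicalSpace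

namespace Groth.Agent.Lib.Dev01YM

theorem devissage_ext_roots (X : Scheme.{u}) [AlgebraicGeometry.IsNoetherian X]
    (P : X.Modules → Prop) (hP : ∀ M N : X.Modules, Nonempty (M ≅ N) → P M → P N)
    (h₀ : ∀ M : X.Modules, IsZero M → P M)
    (h₁ : ∀ S : ShortComplex X.Modules, S.ShortExact → Coh.IsCoh S.X₁ → Coh.IsCoh S.X₂ →
      Coh.IsCoh S.X₃ → P S.X₁ → P S.X₃ → P S.X₂)
    (h₂ : ∀ (F : X.Modules) (r : ℕ), Coh.IsCoh F → 1 ≤ r → P (∐ fun _ : Fin r => F) → P F)
    (h₄ : ∀ (Z₀ : Set X), IsClosed Z₀ → IsIrreducible Z₀ → ∀ ξ : X, ξ ∈ Z₀ ∧ closure {ξ} = Z₀ →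
      ∃ G : X.Modules, Coh.IsCoh G ∧ CohB1.support G = Z₀ ∧
      (∀ a ∈ IsLocalRing.maximalIdeal (X.presheaf.stalk ξ), ∀ m : ↑(G.presheaf.stalk ξ), a • m = 0) ∧
      ∀ J : X.IdealSheafData, ξ ∉ (J.support : Set X) →
        ∃ (G' : X.Modules) (ι' : G' ⟶ (Dual3.idealMul J).obj G), Mono ι' ∧ Coh.IsQCoh G' ∧
          IsIso ((TopCat.Presheaf.stalkFunctor _ ξ).map
            (ι' ≫ Dual3.idealMulι J G).mapPresheaf) ∧ P G')
    (F : X.Modules) (hF : Coh.IsCoh F) : P F := by
  have key : ∀ T : Closeds X, ∀ M : X.Modules, Coh.IsCoh M →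
      CohB1.support M ⊆ (T : Set X) → P M := by
    intro T
    induction T using WellFoundedLT.induction with
    | ind T IH =>
      intro M hM hsM
      by_cases hpre : IsPreirreducible (T : Set X)
      · by_cases hne : (T : Set X).Nonempty
        · -- irreducible case
          have hirr : IsIrreducible (T : Set X) := ⟨hne, hpre⟩
          have hgen : IsGenericPoint hirr.genericPoint (T : Set X) :=
            hirr.isGenericPoint_genericPoint T.isClosed
          have hξ : hirr.genericPoint ∈ (T : Set X) ∧ closure {hirr.genericPoint} = (T : Set X) :=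
            ⟨hgen.mem, hgen.def⟩
          refine Groth.Agent.Lib.H90DevOneSidedIrr.devissage_one_sided_irreducible X (T : Set X)
            T.isClosed hirr _ hξ P hP h₀ h₁ h₂ ?_ (h₄ _ T.isClosed hirr _ hξ) M hM hsM
          intro Z i hi hZ hsub hneq I ι hmono hI
          have hcl : IsClosed (Set.range ⇑i) := i.isClosedEmbedding.isClosed_range
          have hlt : (⟨Set.range ⇑i, hcl⟩ : Closeds X) < T := by
            refine lt_of_le_of_ne hsub ?_
            intro h
            exact hneq (congrArg (fun C : Closeds X => (C : Set X)) h)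
          exact IH _ hlt _ (Groth.Agent.Lib.H90DevTwo2.isCoh_push_ideal i I ι hI)
            (Groth.Agent.Lib.H90DevTwo2.support_push_subset i I)
        · -- empty support: the zero module
          apply h₀
          apply Groth.Agent.Lib.H90QCohLocalization.isZero_of_stalks
          intro x
          rw [← Groth.Agent.Lib.H90DevHub2.notMem_support_iff]
          intro hx
          exact hne ⟨x, hsM hx⟩
      · -- reducible case: split the support
        rw [isPreirreducible_iff_isClosed_union_isClosed] at hpre
        push Not at hpre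
        obtain ⟨z₁, z₂, hz₁, hz₂, hsub, hn₁, hn₂⟩ := hpre
        have hsc : IsClosed (CohB1.support M) :=
          Groth.Agent.Lib.ModStalk.isClosed_support_of_isFT M hM.2
        obtain ⟨S, hS, ⟨e⟩, c₁, c₃, s₁, s₃⟩ := Groth.Agent.S0049.result X M hM
          (CohB1.support M ∩ z₁) (CohB1.support M ∩ z₂) (hsc.inter hz₁) (hsc.inter hz₂) (by
            ext x
            constructor
            · intro hx
              rcases hsub (hsM hx) with h | h
              · exact Or.inl ⟨hx, h⟩
              · exact Or.inr ⟨hx, h⟩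
            · rintro (h | h)
              · exact h.1
              · exact h.1)
        have hlt₁ : (⟨(T : Set X) ∩ z₁, T.isClosed.inter hz₁⟩ : Closeds X) < T := by
          refine lt_of_le_of_ne (fun x hx => hx.1) ?_
          intro h
          apply hn₁
          intro x hx
          have : x ∈ ((⟨(T : Set X) ∩ z₁, T.isClosed.inter hz₁⟩ : Closeds X) : Set X) := by
            rw [h]; exact hx
          exact this.2
        have hlt₂ : (⟨(T : Set X) ∩ z₂, T.isClosed.inter hz₂⟩ : Closeds X) < T := by
          refine lt_of_le_of_ne (fun x hx => hx.1) ?_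
          intro h
          apply hn₂
          intro x hx
          have : x ∈ ((⟨(T : Set X) ∩ z₂, T.isClosed.inter hz₂⟩ : Closeds X) : Set X) := by
            rw [h]; exact hx
          exact this.2
        have hc₂ : Coh.IsCoh S.X₂ := Groth.Agent.Lib.H90CohRestrict.isCoh_of_iso e.symm hM
        have p₁ : P S.X₁ := IH _ hlt₂ _ c₁ (fun x hx => ⟨hsM (s₁ hx).1, (s₁ hx).2⟩)
        have p₃ : P S.X₃ := IH _ hlt₁ _ c₃ (fun x hx => ⟨hsM (s₃ hx).1, (s₃ hx).2⟩)
        exact hP _ _ ⟨e⟩ (h₁ S hS c₁ hc₂ c₃ p₁ p₃)
  exact key ⊤ F hF (fun x _ => trivial)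

end Groth.Agent.Lib.Dev01YM
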