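import Groth.Agent.Lib.HilbPos48c

/-!
# Dévissage for additive functions on coherent modules: positivity (helper13)

`X` a Noetherian scheme, `φ : X.Modules → ℤ` additive on short exact sequences of coherent modules, vanishing on
coherent modules with support of dimension `< r`.

* `nonneg_of_hub` : if `0 ≤ φ (i_* O_Z)` for every irreducible closed `Z` of dimension `r`, then `0 ≤ φ E` for every
  coherent `E` with `dim Supp E ≤ r`.
* `pos_of_hub` : if `0 < φ (i_* O_Z)` for every such `Z`, then moreover `0 < φ E` when `dim Supp E = r`.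
(Abstracted from helper48's `HilbPos48c.posAt_succ_aux`; uses helper90's canonical dévissage filtration.)
-/

set_option autoImplicit false
set_option linter.style.haveILetI false
universe u
open CategoryTheory CategoryTheory.Limits AlgebraicGeometry TopologicalSpace

namespace Groth.Agent.Lib.DevPos13

open Groth.Agent.Lib Groth.Agent.Lib.H90DevCanon Groth.Agent.Lib.H90DevHub
  Groth.Agent.Lib.H90DevHub2 Groth.Agent.Lib.H90DevAtom Groth.Agent.Lib.H90DevFilt
  Groth.Agent.Lib.H90DevFiltP Groth.Agent.Lib.HilbPoly48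

theorem lt_of_add_one_le {x y : WithBot ℕ∞} {r : ℕ} (h : x + 1 ≤ y) (hy : y ≤ (r : WithBot ℕ∞)) :
    x < (r : WithBot ℕ∞) := by
  have h' : x + 1 ≤ (r : WithBot ℕ∞) := h.trans hy
  induction x using WithBot.recBotCoe with
  | bot => exact WithBot.bot_lt_coe _
  | coe x =>
    induction x using ENat.recTopCoe with
    | top =>
      exfalso
      have h1 : (((⊤ : ℕ∞) + 1 : ℕ∞) : WithBot ℕ∞) ≤ (((r : ℕ) : ℕ∞) : WithBot ℕ∞) := by exact_mod_cast h'
      rw [WithBot.coe_le_coe] at h1
      simp at h1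
    | coe n =>
      have h1 : ((((n : ℕ) : ℕ∞) + 1 : ℕ∞) : WithBot ℕ∞) ≤ (((r : ℕ) : ℕ∞) : WithBot ℕ∞) := by
        exact_mod_cast h'
      rw [WithBot.coe_le_coe] at h1
      have h2 : n + 1 ≤ r := by exact_mod_cast h1
      change (((n : ℕ) : ℕ∞) : WithBot ℕ∞) < (((r : ℕ) : ℕ∞) : WithBot ℕ∞)
      rw [WithBot.coe_lt_coe, Nat.cast_lt]
      omega

variable {X : Scheme.{u}} [AlgebraicGeometry.IsNoetherian X]

/-- value of an additive function on a canonical atom on `Zc` -/
theorem atom_eq_hub (φ : X.Modules → ℤ) (r : ℕ)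
    (hadd : ∀ S : ShortComplex X.Modules, S.ShortExact → Coh.IsCoh S.X₁ → Coh.IsCoh S.X₂ → Coh.IsCoh S.X₃ →
      φ S.X₂ = φ S.X₁ + φ S.X₃)
    (hvan : ∀ E : X.Modules, Coh.IsCoh E → topologicalKrullDim (CohB1.support E) < (r : WithBot ℕ∞) → φ E = 0)
    {Zc : Closeds X} {C : X.Modules} (hC : Coh.IsCoh C) (hat : IsAtomC Zc C)
    (hZ : topologicalKrullDim (Zc : Set X) ≤ (r : WithBot ℕ∞)) : φ C = φ (hub Zc) := by
  obtain ⟨p, hp⟩ := exists_mono_hub hat
  haveI := hp
  haveI : C.IsQuasicoherent := hC.1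
  have hdrop := H90SnapGeom.dim_support_cokernel_hub hat.1 p (not_isZero_of_isAtom hat.isAtom)
  have hcK : Coh.IsCoh (cokernel p) := H90OXModExact.isCoh_cokernel p (isCoh_hub Zc)
  have hlt : topologicalKrullDim (CohB1.support (cokernel p)) < (r : WithBot ℕ∞) :=
    lt_of_add_one_le hdrop hZ
  have h := hadd _ (H90DevTwo.shortExact_cokernel p) hC (isCoh_hub Zc) hcK
  simp only at h
  rw [h, hvan _ hcK hlt, add_zero]

theorem nonneg_pos_aux (φ : X.Modules → ℤ) (r : ℕ)
    (hadd : ∀ S : ShortComplex X.Modules, S.ShortExact → Coh.IsCoh S.X₁ → Coh.IsCoh S.X₂ → Coh.IsCoh S.X₃ →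
      φ S.X₂ = φ S.X₁ + φ S.X₃)
    (hvan : ∀ E : X.Modules, Coh.IsCoh E → topologicalKrullDim (CohB1.support E) < (r : WithBot ℕ∞) → φ E = 0)
    (hhub : ∀ Zc : Closeds X, IsIrreducible (Zc : Set X) →
      topologicalKrullDim (Zc : Set X) = (r : WithBot ℕ∞) → 0 ≤ φ (hub Zc))
    {E : X.Modules} (hfilt : Filt IsAtomC' E) :
    Coh.IsCoh E → topologicalKrullDim (CohB1.support E) ≤ (r : WithBot ℕ∞) → 0 ≤ φ E ∧
      ((∀ Zc : Closeds X, IsIrreducible (Zc : Set X) →
        topologicalKrullDim (Zc : Set X) = (r : WithBot ℕ∞) → 0 < φ (hub Zc)) →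
        topologicalKrullDim (CohB1.support E) = (r : WithBot ℕ∞) → 0 < φ E) := by
  induction hfilt with
  | zero M hz =>
    intro hM hd
    have h0 : φ M = 0 := by
      refine hvan M hM ?_
      rw [support_eq_empty_of_isZero hz]
      have h1 : topologicalKrullDim ((∅ : Set X) : Type u) = ⊥ := by
        unfold topologicalKrullDim
        rw [Order.krullDim_eq_bot_iff]
        exact ⟨fun c => c.isIrreducible.nonempty.some.2⟩
      rw [h1]; exact WithBot.bot_lt_coe _
    exact ⟨h0.ge, fun _ hd' => absurd hz (not_isZero_of_dim_eq hd')⟩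
  | step A B f hf hA hAc hB hat ih =>
    intro _ hd
    haveI := hf
    haveI : A.IsQuasicoherent := hAc.1
    obtain ⟨Zc, hat⟩ := hat
    have hcC : Coh.IsCoh (cokernel f) := H90OXModExact.isCoh_cokernel f hB
    have hsA : CohB1.support A ⊆ CohB1.support B := support_subset_of_mono f
    have hsC : CohB1.support (cokernel f) ⊆ CohB1.support B := support_subset_of_epi (cokernel.π f)
    have hdA : topologicalKrullDim (CohB1.support A) ≤ (r : WithBot ℕ∞) :=
      (DimDrop.topologicalKrullDim_mono hsA).trans hd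
    have hZle : (Zc : Set X) ⊆ CohB1.support B :=
      atomC_subset_of_support_subset hat (ModStalk.isClosed_support_of_isFT _ hB.2) hsC
    have hdZ : topologicalKrullDim (Zc : Set X) ≤ (r : WithBot ℕ∞) :=
      (DimDrop.topologicalKrullDim_mono hZle).trans hd
    have hdC : topologicalKrullDim (CohB1.support (cokernel f)) ≤ topologicalKrullDim (Zc : Set X) :=
      DimDrop.topologicalKrullDim_mono (support_atomC_subset hat)
    have hadd' := hadd _ (H90DevTwo.shortExact_cokernel f) hAc hB hcC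
    simp only at hadd'
    have hCeq : φ (cokernel f) = φ (hub Zc) := atom_eq_hub φ r hadd hvan hcC hat hdZ
    obtain ⟨ihA0, ihA1⟩ := ih hAc hdA
    have hC0 : 0 ≤ φ (cokernel f) := by
      rcases hdZ.lt_or_eq with h | h
      · rw [hvan _ hcC (lt_of_le_of_lt hdC h)]
      · rw [hCeq]; exact hhub Zc hat.1 h
    refine ⟨by rw [hadd']; exact add_nonneg ihA0 hC0, fun hpos hd' => ?_⟩
    rw [hadd']
    by_cases hA1 : topologicalKrullDim (CohB1.support A) = (r : WithBot ℕ∞)
    · have := ihA1 hpos hA1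
      linarith
    · by_cases hZ1 : topologicalKrullDim (Zc : Set X) = (r : WithBot ℕ∞)
      · have := hpos Zc hat.1 hZ1
        rw [hCeq]
        linarith
      · exfalso
        have h1 := lt_of_le_of_ne hdA hA1
        have h2 := lt_of_le_of_ne hdZ hZ1
        have h3 := DimChain48.dim_lt_of_subset_union (S := CohB1.support B)
          (ModStalk.isClosed_support_of_isFT _ hAc.2) Zc.isClosed
          ((support_subset_union X f).trans
            (Set.union_subset_union_right _ (support_atomC_subset hat))) h1 h2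
        rw [hd'] at h3
        exact lt_irrefl _ h3

/-- **Dévissage, nonnegativity.** -/
theorem nonneg_of_hub (φ : X.Modules → ℤ) (r : ℕ)
    (hadd : ∀ S : ShortComplex X.Modules, S.ShortExact → Coh.IsCoh S.X₁ → Coh.IsCoh S.X₂ → Coh.IsCoh S.X₃ →
      φ S.X₂ = φ S.X₁ + φ S.X₃)
    (hvan : ∀ E : X.Modules, Coh.IsCoh E → topologicalKrullDim (CohB1.support E) < (r : WithBot ℕ∞) → φ E = 0)
    (hhub : ∀ Zc : Closeds X, IsIrreducible (Zc : Set X) →
      topologicalKrullDim (Zc : Set X) = (r : WithBot ℕ∞) → 0 ≤ φ (hub Zc))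
    {E : X.Modules} (hE : Coh.IsCoh E) (hd : topologicalKrullDim (CohB1.support E) ≤ (r : WithBot ℕ∞)) :
    0 ≤ φ E :=
  (nonneg_pos_aux φ r hadd hvan hhub (filt_atomC_of_isCoh hE) hE hd).1

/-- **Dévissage, positivity.** -/
theorem pos_of_hub (φ : X.Modules → ℤ) (r : ℕ)
    (hadd : ∀ S : ShortComplex X.Modules, S.ShortExact → Coh.IsCoh S.X₁ → Coh.IsCoh S.X₂ → Coh.IsCoh S.X₃ →
      φ S.X₂ = φ S.X₁ + φ S.X₃)
    (hvan : ∀ E : X.Modules, Coh.IsCoh E → topologicalKrullDim (CohB1.support E) < (r : WithBot ℕ∞) → φ E = 0)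
    (hhub : ∀ Zc : Closeds X, IsIrreducible (Zc : Set X) →
      topologicalKrullDim (Zc : Set X) = (r : WithBot ℕ∞) → 0 < φ (hub Zc))
    {E : X.Modules} (hE : Coh.IsCoh E) (hd : topologicalKrullDim (CohB1.support E) = (r : WithBot ℕ∞)) :
    0 < φ E :=
  (nonneg_pos_aux φ r hadd hvan (fun Zc h1 h2 => (hhub Zc h1 h2).le) (filt_atomC_of_isCoh hE) hE hd.le).2
    hhub hd

end Groth.Agent.Lib.DevPos13
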