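import Groth.Agent.Lib.H15HomologyFiltered
import Mathlib.Algebra.Category.ModuleCat.Monoidal.Closed
import Mathlib.Algebra.Category.ModuleCat.Monoidal.Symmetric
import Mathlib.Algebra.Category.ModuleCat.Projective
import Mathlib.CategoryTheory.Monoidal.Limits.Preserves
import Mathlib.CategoryTheory.Monoidal.Tor
import Mathlib.CategoryTheory.Adjunction.Limits

/-!
# `Tor_p(-, N)` (Mathlib's `Tor`, left-derived in the second variable) preserves filtered colimits

`Tor_p(M, N) = H_p(M ⊗ P_•)` for a fixed projective resolution `P_• → N`; `M ↦ M ⊗ P_•` preserves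
all colimits and `H_p` preserves filtered colimits (`Lib/H15HomologyFiltered`).
-/

set_option autoImplicit false
universe u

namespace Groth.Agent.Lib.H15TorFiltered

open CategoryTheory CategoryTheory.Limits MonoidalCategory

variable {A : Type u} [CommRing A] {N : ModuleCat.{u} A} (P : ProjectiveResolution N)

/-- M ↦ M ⊗ P_• as a functor to chain complexes. -/
noncomputable def Φ : ModuleCat.{u} A ⥤ ChainComplex (ModuleCat.{u} A) ℕ where
  obj M := (((tensoringLeft (ModuleCat.{u} A)).obj M).mapHomologicalComplex _).obj P.complex
  map f := (NatTrans.mapHomologicalComplex ((tensoringLeft (ModuleCat.{u} A)).map f) _).app P.complex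
  map_id M := by
    rw [(tensoringLeft (ModuleCat.{u} A)).map_id, NatTrans.mapHomologicalComplex_id]; rfl
  map_comp f g := by
    rw [(tensoringLeft (ModuleCat.{u} A)).map_comp, NatTrans.mapHomologicalComplex_comp]; rfl

/-- `Tor_p(-, N) ≅ H_p(- ⊗ P_•)` naturally, for a projective resolution `P_•` of `N`. -/
noncomputable def torIso (p : ℕ) :
    (CategoryTheory.Tor (ModuleCat.{u} A) p).flip.obj N ≅
      Φ P ⋙ HomologicalComplex.homologyFunctor (ModuleCat.{u} A) _ p :=
  NatIso.ofComponents (fun M => P.isoLeftDerivedObj ((tensoringLeft (ModuleCat.{u} A)).obj M) p)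
    (fun {M M'} f => by
      change (NatTrans.leftDerived ((tensoringLeft (ModuleCat.{u} A)).map f) p).app N ≫ _ = _ ≫
        (HomologicalComplex.homologyFunctor _ _ p).map
          ((NatTrans.mapHomologicalComplex ((tensoringLeft (ModuleCat.{u} A)).map f) _).app P.complex)
      rw [ProjectiveResolution.leftDerived_app_eq _ P, Category.assoc, Category.assoc,
        Iso.inv_hom_id, Category.comp_id])

instance (J : Type u) [SmallCategory J] : PreservesColimitsOfShape J (Φ P) := by
  apply HomologicalComplex.preservesColimitsOfShape_of_eval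
  intro n
  have : PreservesColimitsOfShape J (tensorRight (P.complex.X n)) := ⟨inferInstance⟩
  exact this

/-- `M ↦ Tor_p(M, N)` preserves filtered colimits. -/
theorem tor_flip_preservesColimitsOfShape (A : Type u) [CommRing A] (p : ℕ) (N : ModuleCat.{u} A)
    (J : Type u) [SmallCategory J] [IsFiltered J] :
    PreservesColimitsOfShape J ((CategoryTheory.Tor (ModuleCat.{u} A) p).flip.obj N) :=
  preservesColimitsOfShape_of_natIso (torIso (ProjectiveResolution.of N) p).symm

theorem tor_flip_preservesFilteredColimits (A : Type u) [CommRing A] (p : ℕ) (N : ModuleCat.{u} A) :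
    PreservesFilteredColimits ((CategoryTheory.Tor (ModuleCat.{u} A) p).flip.obj N) :=
  ⟨fun J _ _ => tor_flip_preservesColimitsOfShape A p N J⟩

end Groth.Agent.Lib.H15TorFiltered
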