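import Groth.Agent.Lib.TorBalance
import Mathlib.Algebra.Homology.HomologySequenceLemmas

/-!
# Naturality of the first-variable `Tor` sequence (helper35)

* `δ_naturality_left`: the connecting map `δ` of `Lib/TorLES` is natural in the short exact
  sequence;
* `δ_naturality_right`, `δNat`: it is natural in the second variable `N`.
-/

set_option autoImplicit false

universe u

open CategoryTheory MonoidalCategory Limits

namespace Groth.Agent.Lib.TorNat

open Groth.Agent.Lib.TorLES Groth.Agent.Lib.TorBalance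

variable {R : Type u} [CommRing R]

/-- `tensorCx` is functorial in the complex. -/
noncomputable def tensorCxMap {K K' : ChainComplex (ModuleCat.{u} R) ℕ} (φ : K ⟶ K') :
    tensorCx K ⟶ tensorCx K' where
  app M := ((tensorLeft M).mapHomologicalComplex _).map φ
  naturality M M' f := by
    ext i : 1
    exact (whisker_exchange f (φ.f i)).symm

@[simp]
lemma tensorCxMap_app_f {K K' : ChainComplex (ModuleCat.{u} R) ℕ} (φ : K ⟶ K')
    (M : ModuleCat.{u} R) (i : ℕ) : ((tensorCxMap φ).app M).f i = M ◁ φ.f i := rfl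

section right

variable {N N' : ModuleCat.{u} R} (g : N ⟶ N') (P : ProjectiveResolution N)
  (P' : ProjectiveResolution N') (φ : P.complex ⟶ P'.complex)
  (comm : φ.f 0 ≫ P'.π.f 0 = P.π.f 0 ≫ g)

include comm in
lemma torIso_hom_naturality_right (M : ModuleCat.{u} R) (n : ℕ) :
    ((Tor (ModuleCat.{u} R) n).obj M).map g ≫ (torIso P' M n).hom =
      (torIso P M n).hom ≫ HomologicalComplex.homologyMap ((tensorCxMap φ).app M) n :=
  ProjectiveResolution.isoLeftDerivedObj_hom_naturality g P P' φ comm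
    ((tensoringLeft (ModuleCat.{u} R)).obj M) n

include comm in
lemma torIso_inv_naturality_right (M : ModuleCat.{u} R) (n : ℕ) :
    (torIso P M n).inv ≫ ((Tor (ModuleCat.{u} R) n).obj M).map g =
      HomologicalComplex.homologyMap ((tensorCxMap φ).app M) n ≫ (torIso P' M n).inv := by
  rw [Iso.inv_comp_eq, ← Category.assoc, Iso.eq_comp_inv,
    torIso_hom_naturality_right g P P' φ comm]

variable {S : ShortComplex (ModuleCat.{u} R)} (hS : S.ShortExact)

lemma δH_naturality_right (n : ℕ) :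
    δH P hS n ≫ HomologicalComplex.homologyMap ((tensorCxMap φ).app S.X₁) n =
      HomologicalComplex.homologyMap ((tensorCxMap φ).app S.X₃) (n + 1) ≫ δH P' hS n :=
  HomologicalComplex.HomologySequence.δ_naturality (S.mapNatTrans (tensorCxMap φ))
    (shortExact_map_tensorCx P hS) (shortExact_map_tensorCx P' hS) (n + 1) n (rel_succ n)

include comm in
lemma δ_naturality_right (n : ℕ) :
    δ P hS n ≫ ((Tor (ModuleCat.{u} R) n).obj S.X₁).map g =
      ((Tor (ModuleCat.{u} R) (n + 1)).obj S.X₃).map g ≫ δ P' hS n := by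
  rw [δ, δ, Category.assoc, Category.assoc, torIso_inv_naturality_right g P P' φ comm,
    reassoc_of% (δH_naturality_right P P' φ hS n), ← Category.assoc, ← Category.assoc,
    ← Category.assoc, torIso_hom_naturality_right g P P' φ comm]
  simp only [Category.assoc]

end right

section left

variable {N : ModuleCat.{u} R} (P : ProjectiveResolution N)
  {S S' : ShortComplex (ModuleCat.{u} R)} (ψ : S ⟶ S') (hS : S.ShortExact) (hS' : S'.ShortExact)

lemma δH_naturality_left (n : ℕ) :
    δH P hS n ≫ HomologicalComplex.homologyMap ((tensorCx P.complex).map ψ.τ₁) n =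
      HomologicalComplex.homologyMap ((tensorCx P.complex).map ψ.τ₃) (n + 1) ≫ δH P hS' n :=
  HomologicalComplex.HomologySequence.δ_naturality
    ((tensorCx P.complex).mapShortComplex.map ψ)
    (shortExact_map_tensorCx P hS) (shortExact_map_tensorCx P hS') (n + 1) n (rel_succ n)

/-- The connecting map is natural in the short exact sequence. -/
lemma δ_naturality_left (n : ℕ) :
    δ P hS n ≫ ((Tor (ModuleCat.{u} R) n).map ψ.τ₁).app N =
      ((Tor (ModuleCat.{u} R) (n + 1)).map ψ.τ₃).app N ≫ δ P hS' n := by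
  rw [δ, δ, Category.assoc, Category.assoc, torIso_inv_naturality,
    reassoc_of% (δH_naturality_left P ψ hS hS' n), ← Category.assoc, ← Category.assoc,
    ← Category.assoc, torIso_hom_naturality]
  simp only [Category.assoc]

end left

section nat

variable {S : ShortComplex (ModuleCat.{u} R)} (hS : S.ShortExact)

/-- The connecting map as a natural transformation in the second variable. -/
noncomputable def δNat (n : ℕ) :
    (Tor (ModuleCat.{u} R) (n + 1)).obj S.X₃ ⟶ (Tor (ModuleCat.{u} R) n).obj S.X₁ where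
  app N := δ (ProjectiveResolution.of N) hS n
  naturality N N' g :=
    (δ_naturality_right g (ProjectiveResolution.of N) (ProjectiveResolution.of N')
      (ProjectiveResolution.lift g _ _) (ProjectiveResolution.lift_commutes_zero g _ _) hS n).symm

@[simp]
lemma δNat_app (n : ℕ) (N : ModuleCat.{u} R) :
    (δNat hS n).app N = δ (ProjectiveResolution.of N) hS n := rfl

/-- `δ` does not depend on the resolution. -/
lemma δ_eq {N : ModuleCat.{u} R} (P P' : ProjectiveResolution N) (n : ℕ) :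
    δ P hS n = δ P' hS n := by
  have h := δ_naturality_right (𝟙 N) P P' (ProjectiveResolution.lift (𝟙 N) _ _)
    (ProjectiveResolution.lift_commutes_zero (𝟙 N) _ _) hS n
  simpa using h

end nat

section natIso

variable {S : ShortComplex (ModuleCat.{u} R)} (hS : S.ShortExact)

/-- Natural isomorphism `Tor_{n+2}(X₃, -) ≅ Tor_{n+1}(X₁, -)` when the middle term is flat. -/
noncomputable def δNatIso [Module.Flat R S.X₂] (n : ℕ) :
    (Tor (ModuleCat.{u} R) (n + 1 + 1)).obj S.X₃ ≅ (Tor (ModuleCat.{u} R) (n + 1)).obj S.X₁ :=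
  haveI : ∀ N, IsIso ((δNat hS (n + 1)).app N) := fun N => isIso_δ_of_flat hS N n
  haveI := NatIso.isIso_of_isIso_app (δNat hS (n + 1))
  asIso (δNat hS (n + 1))

/-- `Tor_0(M, -) ≅ M ⊗ -`. -/
noncomputable def torZeroNatIso (M : ModuleCat.{u} R) :
    (Tor (ModuleCat.{u} R) 0).obj M ≅ tensorLeft M :=
  Functor.leftDerivedZeroIsoSelf ((tensoringLeft (ModuleCat.{u} R)).obj M)

lemma torZeroNatIso_hom_app (M N : ModuleCat.{u} R) :
    (torZeroNatIso M).hom.app N = (torZeroIso M N).hom := rfl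

/-- Two functors which are pointwise kernels of the same natural transformation are
isomorphic. -/
noncomputable def natIsoOfKernel {A : Type*} [Category A] {F₁ F₂ U V : A ⥤ ModuleCat.{u} R}
    (ι₁ : F₁ ⟶ U) (ι₂ : F₂ ⟶ U) (β : U ⟶ V)
    (w₁ : ∀ X, ι₁.app X ≫ β.app X = 0) (w₂ : ∀ X, ι₂.app X ≫ β.app X = 0)
    (h₁ : ∀ X, (ShortComplex.mk _ _ (w₁ X)).Exact) (h₂ : ∀ X, (ShortComplex.mk _ _ (w₂ X)).Exact)
    (m₁ : ∀ X, Mono (ι₁.app X)) (m₂ : ∀ X, Mono (ι₂.app X)) : F₁ ≅ F₂ :=
  NatIso.ofComponents (fun X =>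
    haveI : Mono (ShortComplex.mk _ _ (w₁ X)).f := m₁ X
    haveI : Mono (ShortComplex.mk _ _ (w₂ X)).f := m₂ X
    IsLimit.conePointUniqueUpToIso (h₁ X).fIsKernel (h₂ X).fIsKernel) (by
    intro X Y f
    have hX : ∀ Z, (haveI : Mono (ShortComplex.mk _ _ (w₁ Z)).f := m₁ Z
        haveI : Mono (ShortComplex.mk _ _ (w₂ Z)).f := m₂ Z
        (IsLimit.conePointUniqueUpToIso (h₁ Z).fIsKernel (h₂ Z).fIsKernel).hom) ≫ ι₂.app Z =
          ι₁.app Z := fun Z =>
      haveI : Mono (ShortComplex.mk _ _ (w₁ Z)).f := m₁ Z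
      haveI : Mono (ShortComplex.mk _ _ (w₂ Z)).f := m₂ Z
      IsLimit.conePointUniqueUpToIso_hom_comp (h₁ Z).fIsKernel (h₂ Z).fIsKernel
        WalkingParallelPair.zero
    have := m₂ Y
    rw [← cancel_mono (ι₂.app Y), Category.assoc, Category.assoc, hX Y, ι₂.naturality,
      reassoc_of% (hX X), ι₁.naturality])

end natIso

section tensorCxR

variable (Q : ChainComplex (ModuleCat.{u} R) ℕ)

/-- `N ↦ Q ⊗ N` for a fixed chain complex `Q`. -/
noncomputable def tensorCxR : ModuleCat.{u} R ⥤ ChainComplex (ModuleCat.{u} R) ℕ where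
  obj N := QN Q N
  map g := (NatTrans.mapHomologicalComplex ((tensoringRight (ModuleCat.{u} R)).map g) _).app Q
  map_id N := by
    ext i : 1
    simp
  map_comp f g := by
    ext i : 1
    simp

@[simp]
lemma tensorCxR_obj (N : ModuleCat.{u} R) : (tensorCxR Q).obj N = QN Q N := rfl

@[simp]
lemma tensorCxR_map_f {N N' : ModuleCat.{u} R} (g : N ⟶ N') (i : ℕ) :
    ((tensorCxR Q).map g).f i = Q.X i ◁ g := rfl

instance : (tensorCxR Q).Additive where
  map_add {N N' f g} := by
    ext i : 1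
    simp only [tensorCxR_map_f, HomologicalComplex.add_f_apply]
    exact MonoidalPreadditive.whiskerLeft_add _ _

/-- `N ↦ H_n(Q ⊗ N)`. -/
noncomputable abbrev HQ (n : ℕ) : ModuleCat.{u} R ⥤ ModuleCat.{u} R :=
  tensorCxR Q ⋙ HomologicalComplex.homologyFunctor _ _ n

lemma opcyclesTensorIso_naturality {N N' : ModuleCat.{u} R} (g : N ⟶ N') (n : ℕ) :
    HomologicalComplex.opcyclesMap ((tensorCxR Q).map g) n ≫ (opcyclesTensorIso Q N' n).hom =
      (opcyclesTensorIso Q N n).hom ≫ Q.opcycles n ◁ g := by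
  apply (cancel_epi ((QN Q N).pOpcycles n)).mp
  have h1 : (QN Q N).pOpcycles n ≫ HomologicalComplex.opcyclesMap ((tensorCxR Q).map g) n =
      ((tensorCxR Q).map g).f n ≫ (QN Q N').pOpcycles n :=
    HomologicalComplex.p_opcyclesMap _ _
  have h2 : Q.X n ◁ g ≫ Q.pOpcycles n ▷ N' = Q.pOpcycles n ▷ N ≫ Q.opcycles n ◁ g :=
    whisker_exchange _ _
  refine (Category.assoc _ _ _).symm.trans ?_
  refine (congrArg (· ≫ (opcyclesTensorIso Q N' n).hom) h1).trans ?_
  refine (Category.assoc _ _ _).trans ?_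
  refine (congrArg (((tensorCxR Q).map g).f n ≫ ·)
    (pOpcycles_opcyclesTensorIso_hom Q N' n)).trans ?_
  refine Eq.trans ?_ (Category.assoc _ _ _)
  refine Eq.trans ?_ (congrArg (· ≫ Q.opcycles n ◁ g)
    (pOpcycles_opcyclesTensorIso_hom Q N n)).symm
  exact h2

end tensorCxR

section compare

variable (Q : ChainComplex (ModuleCat.{u} R) ℕ)

/-- The natural transformation `(C_{n+1} ⊗ -) ⟶ (Q_n ⊗ -)`. -/
noncomputable def βNat (n : ℕ) : tensorLeft (Q.opcycles (n + 1)) ⟶ tensorLeft (Q.X n) :=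
  (tensoringLeft (ModuleCat.{u} R)).map (Q.fromOpcycles (n + 1) n)

@[simp]
lemma βNat_app (n : ℕ) (N : ModuleCat.{u} R) :
    (βNat Q n).app N = Q.fromOpcycles (n + 1) n ▷ N := rfl

/-- `H_m(Q ⊗ -) ⟶ C_m ⊗ -`. -/
noncomputable def ι₂ (m : ℕ) : HQ Q m ⟶ tensorLeft (Q.opcycles m) where
  app N := (QN Q N).homologyι m ≫ (opcyclesTensorIso Q N m).hom
  naturality N N' g := by
    have h1 : HomologicalComplex.homologyMap ((tensorCxR Q).map g) m ≫ (QN Q N').homologyι m =
        (QN Q N).homologyι m ≫ HomologicalComplex.opcyclesMap ((tensorCxR Q).map g) m :=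
      HomologicalComplex.homologyι_naturality _ _
    change HomologicalComplex.homologyMap ((tensorCxR Q).map g) m ≫
      (QN Q N').homologyι m ≫ (opcyclesTensorIso Q N' m).hom =
      ((QN Q N).homologyι m ≫ (opcyclesTensorIso Q N m).hom) ≫ Q.opcycles m ◁ g
    refine (Category.assoc _ _ _).symm.trans ?_
    refine (congrArg (· ≫ (opcyclesTensorIso Q N' m).hom) h1).trans ?_
    refine (Category.assoc _ _ _).trans ?_
    refine (congrArg ((QN Q N).homologyι m ≫ ·) (opcyclesTensorIso_naturality Q g m)).trans ?_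
    exact (Category.assoc _ _ _).symm

@[simp]
lemma ι₂_app (m : ℕ) (N : ModuleCat.{u} R) :
    (ι₂ Q m).app N = (QN Q N).homologyι m ≫ (opcyclesTensorIso Q N m).hom := rfl

lemma ι₂_mono (m : ℕ) (N : ModuleCat.{u} R) : Mono ((ι₂ Q m).app N) :=
  mono_comp ((QN Q N).homologyι m) (opcyclesTensorIso Q N m).hom

lemma ι₂_βNat (n : ℕ) (N : ModuleCat.{u} R) :
    (ι₂ Q (n + 1)).app N ≫ (βNat Q n).app N = 0 := by
  refine (Category.assoc _ _ _).trans ?_
  refine (congrArg ((QN Q N).homologyι (n + 1) ≫ ·)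
    (opcyclesTensorIso_hom_fromOpcycles Q N (n + 1) n)).trans ?_
  exact HomologicalComplex.homologyι_comp_fromOpcycles _ _ _

lemma ι₂_exact (n : ℕ) (N : ModuleCat.{u} R) :
    (ShortComplex.mk _ _ (ι₂_βNat Q n N)).Exact := by
  have h0 : (ShortComplex.mk _ _
      ((QN Q N).homologyι_comp_fromOpcycles (n + 1) n)).Exact :=
    ShortComplex.exact_of_f_is_kernel _ ((QN Q N).homologyIsKernel (n + 1) n (next_succ n))
  refine ShortComplex.exact_of_iso ?_ h0
  refine ShortComplex.isoMk (Iso.refl _) (opcyclesTensorIso Q N (n + 1)) (Iso.refl _) ?_ ?_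
  · exact Category.id_comp _
  · dsimp only [Iso.refl_hom]
    refine Eq.trans ?_ (Category.comp_id _).symm
    exact opcyclesTensorIso_hom_fromOpcycles Q N (n + 1) n

end compare

section compare₁

variable {S : ShortComplex (ModuleCat.{u} R)} (hS : S.ShortExact)

/-- `Tor_1(X₃, -) ⟶ X₁ ⊗ -`. -/
noncomputable def ι₁ : (Tor (ModuleCat.{u} R) (0 + 1)).obj S.X₃ ⟶ tensorLeft S.X₁ :=
  δNat hS 0 ≫ (torZeroNatIso S.X₁).hom

lemma ι₁_app (N : ModuleCat.{u} R) :
    (ι₁ hS).app N = δ (ProjectiveResolution.of N) hS 0 ≫ (torZeroIso S.X₁ N).hom := rfl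

lemma ι₁_comp (N : ModuleCat.{u} R) : (ι₁ hS).app N ≫ S.f ▷ N = 0 := by
  rw [ι₁_app, Category.assoc, ← torZeroIso_hom_naturality, reassoc_of% (δ_comp _ hS 0),
    zero_comp]

lemma ι₁_exact (N : ModuleCat.{u} R) : (ShortComplex.mk _ _ (ι₁_comp hS N)).Exact := by
  refine ShortComplex.exact_of_iso ?_ (exact₁ (ProjectiveResolution.of N) hS 0)
  refine ShortComplex.isoMk (Iso.refl _) (torZeroIso S.X₁ N) (torZeroIso S.X₂ N) ?_ ?_
  · exact (Category.id_comp _).trans (ι₁_app hS N)
  · exact (torZeroIso_hom_naturality S.f N).symm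

lemma ι₁_mono [Module.Flat R S.X₂] (N : ModuleCat.{u} R) : Mono ((ι₁ hS).app N) := by
  have h2 : IsZero (((Tor (ModuleCat.{u} R) (0 + 1)).obj S.X₂).obj N) :=
    isZero_tor_succ_of_flat_left _ _ 0
  have hm : Mono (δ (ProjectiveResolution.of N) hS 0) :=
    (exact₃ (ProjectiveResolution.of N) hS 0).mono_g (h2.eq_of_src _ _)
  rw [ι₁_app]
  infer_instance

end compare₁

section mainNat

variable (Q : ChainComplex (ModuleCat.{u} R) ℕ) (hflat : ∀ i, Module.Flat R (Q.X i))
  (hex : ∀ j, Q.ExactAt (j + 1))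

include hflat hex in
lemma torShiftNat (k : ℕ) : ∀ (j m : ℕ), m = j + k →
    Nonempty ((Tor (ModuleCat.{u} R) (k + 1)).obj (Q.opcycles j) ≅
      (Tor (ModuleCat.{u} R) (0 + 1)).obj (Q.opcycles m)) := by
  induction k with
  | zero =>
    intro j m hm
    obtain rfl : m = j := by omega
    exact ⟨Iso.refl _⟩
  | succ k ih =>
    intro j m hm
    obtain ⟨e⟩ := ih (j + 1) m (by omega)
    have hS := syz_shortExact Q j (hex j)
    have : Module.Flat R (syz Q j).X₂ := hflat j
    exact ⟨δNatIso hS k ≪≫ e⟩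

include hflat hex in
/-- `Tor_1(C_n, -) ≅ H_{n+1}(Q ⊗ -)` naturally. -/
lemma torOneNatIso (n : ℕ) :
    Nonempty ((Tor (ModuleCat.{u} R) (0 + 1)).obj (Q.opcycles n) ≅ HQ Q (n + 1)) := by
  have hS := syz_shortExact Q n (hex n)
  have : Module.Flat R (syz Q n).X₂ := hflat n
  exact ⟨natIsoOfKernel (ι₁ hS) (ι₂ Q (n + 1)) (βNat Q n) (ι₁_comp hS) (ι₂_βNat Q n)
    (ι₁_exact hS) (ι₂_exact Q n) (ι₁_mono hS) (ι₂_mono Q (n + 1))⟩

/-- `C_0 ⊗ - ≅ H_0(Q ⊗ -)`. -/
noncomputable def tensorLeftIsoHQZero : tensorLeft (Q.opcycles 0) ≅ HQ Q 0 :=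
  (NatIso.ofComponents (fun N => homologyZeroIso Q N) (by
    intro N N' g
    have h1 : HomologicalComplex.homologyMap ((tensorCxR Q).map g) 0 ≫ (QN Q N').homologyι 0 =
        (QN Q N).homologyι 0 ≫ HomologicalComplex.opcyclesMap ((tensorCxR Q).map g) 0 :=
      HomologicalComplex.homologyι_naturality _ _
    change HomologicalComplex.homologyMap ((tensorCxR Q).map g) 0 ≫
      (QN Q N').homologyι 0 ≫ (opcyclesTensorIso Q N' 0).hom =
      ((QN Q N).homologyι 0 ≫ (opcyclesTensorIso Q N 0).hom) ≫ Q.opcycles 0 ◁ g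
    refine (Category.assoc _ _ _).symm.trans ?_
    refine (congrArg (· ≫ (opcyclesTensorIso Q N' 0).hom) h1).trans ?_
    refine (Category.assoc _ _ _).trans ?_
    refine (congrArg ((QN Q N).homologyι 0 ≫ ·) (opcyclesTensorIso_naturality Q g 0)).trans ?_
    exact (Category.assoc _ _ _).symm)).symm

include hflat hex in
/-- For an exact-in-positive-degrees complex `Q` of flat modules, `Tor_n(coker(Q₁ ⟶ Q₀), -)` is
naturally isomorphic to `H_n(Q ⊗ -)`. -/
theorem tor_opcycles_zero_natIso (n : ℕ) :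
    Nonempty ((Tor (ModuleCat.{u} R) n).obj (Q.opcycles 0) ≅ HQ Q n) := by
  cases n with
  | zero => exact ⟨torZeroNatIso _ ≪≫ tensorLeftIsoHQZero Q⟩
  | succ n =>
    obtain ⟨e⟩ := torShiftNat Q hflat hex n 0 n (by omega)
    obtain ⟨e'⟩ := torOneNatIso Q hflat hex n
    exact ⟨e ≪≫ e'⟩

variable {M : ModuleCat.{u} R} (φ : Q ⟶ (ChainComplex.single₀ (ModuleCat.{u} R)).obj M)
  [QuasiIso φ]

include φ hflat in
/-- **Flat resolutions of the first variable compute `Tor`, naturally in the second variable.** -/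
theorem tor_natIso_of_flatResolution (n : ℕ) :
    Nonempty ((Tor (ModuleCat.{u} R) n).obj M ≅ HQ Q n) := by
  obtain ⟨e⟩ := tor_opcycles_zero_natIso Q hflat (exactAt_succ_of_quasiIso Q φ) n
  exact ⟨((Tor (ModuleCat.{u} R) n).mapIso (opcyclesZeroIso Q φ)).symm ≪≫ e⟩

end mainNat

section LES2

variable {T : ShortComplex (ModuleCat.{u} R)} (hT : T.ShortExact)

include hT in
lemma shortExact_map_tensorCxR (Q : ChainComplex (ModuleCat.{u} R) ℕ)
    (hflat : ∀ i, Module.Flat R (Q.X i)) : (T.map (tensorCxR Q)).ShortExact := by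
  apply HomologicalComplex.shortExact_of_degreewise_shortExact
  intro i
  have : Module.Flat R (Q.X i) := hflat i
  exact hT.map_of_exact (tensorLeft (Q.X i))

section HR

variable (Q : ChainComplex (ModuleCat.{u} R) ℕ) (hflat : ∀ i, Module.Flat R (Q.X i))

/-- The connecting homomorphism on `H_n(Q ⊗ -)`. -/
noncomputable def δHR (n : ℕ) : (HQ Q (n + 1)).obj T.X₃ ⟶ (HQ Q n).obj T.X₁ :=
  (shortExact_map_tensorCxR hT Q hflat).δ (n + 1) n (rel_succ n)

lemma δHR_comp (n : ℕ) : δHR hT Q hflat n ≫ (HQ Q n).map T.f = 0 :=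
  (shortExact_map_tensorCxR hT Q hflat).δ_comp (n + 1) n (rel_succ n)

lemma comp_δHR (n : ℕ) : (HQ Q (n + 1)).map T.g ≫ δHR hT Q hflat n = 0 :=
  (shortExact_map_tensorCxR hT Q hflat).comp_δ (n + 1) n (rel_succ n)

lemma HQ_map_comp_zero (n : ℕ) : (HQ Q n).map T.f ≫ (HQ Q n).map T.g = 0 := by
  rw [← Functor.map_comp, T.zero, Functor.map_zero]

lemma exactHR₁ (n : ℕ) : (ShortComplex.mk _ _ (δHR_comp hT Q hflat n)).Exact :=
  (shortExact_map_tensorCxR hT Q hflat).homology_exact₁ (n + 1) n (rel_succ n)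

include hT hflat in
lemma exactHR₂ (n : ℕ) : (ShortComplex.mk _ _ (HQ_map_comp_zero (T := T) Q n)).Exact :=
  (shortExact_map_tensorCxR hT Q hflat).homology_exact₂ n

lemma exactHR₃ (n : ℕ) : (ShortComplex.mk _ _ (comp_δHR hT Q hflat n)).Exact :=
  (shortExact_map_tensorCxR hT Q hflat).homology_exact₃ (n + 1) n (rel_succ n)

end HR

variable (M : ModuleCat.{u} R)

lemma tor_obj_map_zero (N N' : ModuleCat.{u} R) (n : ℕ) :
    ((Tor (ModuleCat.{u} R) n).obj M).map (0 : N ⟶ N') = 0 := by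
  have h := torIso_hom_naturality_right (0 : N ⟶ N') (ProjectiveResolution.of N)
    (ProjectiveResolution.of N') 0 (by simp) M n
  have h0 : (tensorCxMap (0 : (ProjectiveResolution.of N).complex ⟶
      (ProjectiveResolution.of N').complex)).app M = 0 := by
    ext i : 1
    exact MonoidalPreadditive.whiskerLeft_zero
  rw [h0, HomologicalComplex.homologyMap_zero, comp_zero] at h
  rw [← cancel_mono (torIso (ProjectiveResolution.of N') M n).hom, h, zero_comp]

lemma tor_map_comp_zero_right (n : ℕ) :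
    ((Tor (ModuleCat.{u} R) n).obj M).map T.f ≫ ((Tor (ModuleCat.{u} R) n).obj M).map T.g = 0 := by
  rw [← Functor.map_comp, T.zero, tor_obj_map_zero]

include hT in
/-- Exactness of `Tor_n(M,X₁) ⟶ Tor_n(M,X₂) ⟶ Tor_n(M,X₃)` (second variable). -/
theorem exact₂_right (n : ℕ) :
    (ShortComplex.mk _ _ (tor_map_comp_zero_right (T := T) M n)).Exact := by
  let P := ProjectiveResolution.of M
  have hflat : ∀ i, Module.Flat R (P.complex.X i) := fun _ => flat_of_projective _
  obtain ⟨α⟩ := tor_natIso_of_flatResolution P.complex hflat P.π n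
  refine ShortComplex.exact_of_iso ?_ (exactHR₂ hT P.complex hflat n)
  exact (ShortComplex.isoMk (α.app T.X₁) (α.app T.X₂) (α.app T.X₃)
    (α.hom.naturality T.f).symm (α.hom.naturality T.g).symm).symm

include hT in
/-- The connecting homomorphism in the second variable and its exactness properties. -/
theorem exists_δ_right (n : ℕ) :
    ∃ (δ : ((Tor (ModuleCat.{u} R) (n + 1)).obj M).obj T.X₃ ⟶
        ((Tor (ModuleCat.{u} R) n).obj M).obj T.X₁)
      (w₁ : ((Tor (ModuleCat.{u} R) (n + 1)).obj M).map T.g ≫ δ = 0)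
      (w₂ : δ ≫ ((Tor (ModuleCat.{u} R) n).obj M).map T.f = 0),
      (ShortComplex.mk _ _ w₁).Exact ∧ (ShortComplex.mk _ _ w₂).Exact := by
  let P := ProjectiveResolution.of M
  have hflat : ∀ i, Module.Flat R (P.complex.X i) := fun _ => flat_of_projective _
  obtain ⟨α⟩ := tor_natIso_of_flatResolution P.complex hflat P.π n
  obtain ⟨α'⟩ := tor_natIso_of_flatResolution P.complex hflat P.π (n + 1)
  have w₁ : ((Tor (ModuleCat.{u} R) (n + 1)).obj M).map T.g ≫
      (α'.hom.app T.X₃ ≫ δHR hT P.complex hflat n ≫ α.inv.app T.X₁) = 0 := by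
    rw [← Category.assoc, α'.hom.naturality, Category.assoc,
      ← Category.assoc ((HQ P.complex (n + 1)).map T.g), comp_δHR, zero_comp, comp_zero]
  have w₂ : (α'.hom.app T.X₃ ≫ δHR hT P.complex hflat n ≫ α.inv.app T.X₁) ≫
      ((Tor (ModuleCat.{u} R) n).obj M).map T.f = 0 := by
    rw [Category.assoc, Category.assoc, ← α.inv.naturality,
      ← Category.assoc (δHR hT P.complex hflat n), δHR_comp, zero_comp, comp_zero]
  refine ⟨α'.hom.app T.X₃ ≫ δHR hT P.complex hflat n ≫ α.inv.app T.X₁, w₁, w₂, ?_, ?_⟩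
  · refine ShortComplex.exact_of_iso ?_ (exactHR₃ hT P.complex hflat n)
    refine (ShortComplex.isoMk (α'.app T.X₂) (α'.app T.X₃) (α.app T.X₁)
      (α'.hom.naturality T.g).symm ?_).symm
    dsimp only [Iso.app_hom]
    rw [Category.assoc, Category.assoc, Iso.inv_hom_id_app, Category.comp_id]
  · refine ShortComplex.exact_of_iso ?_ (exactHR₁ hT P.complex hflat n)
    refine (ShortComplex.isoMk (α'.app T.X₃) (α.app T.X₁) (α.app T.X₂)
      ?_ (α.hom.naturality T.f).symm).symm
    dsimp only [Iso.app_hom]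
    rw [Category.assoc, Category.assoc, Iso.inv_hom_id_app, Category.comp_id]

/-- `Tor_0(M, -)` preserves epimorphisms. -/
lemma epi_tor_zero_map {N N' : ModuleCat.{u} R} (g : N ⟶ N') [Epi g] :
    Epi (((Tor (ModuleCat.{u} R) 0).obj M).map g) := by
  have h : ((Tor (ModuleCat.{u} R) 0).obj M).map g =
      (torZeroNatIso M).hom.app N ≫ (tensorLeft M).map g ≫ (torZeroNatIso M).inv.app N' := by
    rw [← Category.assoc, ← (torZeroNatIso M).hom.naturality, Category.assoc,
      Iso.hom_inv_id_app, Category.comp_id]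
  rw [h]
  have : PreservesColimitsOfShape WalkingSpan (tensorLeft M) := inferInstance
  have : (tensorLeft M).PreservesEpimorphisms :=
    preservesEpimorphisms_of_preservesColimitsOfShape _
  have h1 : Epi ((tensorLeft M).map g) := (tensorLeft M).map_epi g
  have h2 : Epi ((tensorLeft M).map g ≫ (torZeroNatIso M).inv.app N') := epi_comp _ _
  exact epi_comp _ _

end LES2

section additive

/-- `Tor_n(M, -)` is additive. -/
instance tor_obj_additive (M : ModuleCat.{u} R) (n : ℕ) :
    ((Tor (ModuleCat.{u} R) n).obj M).Additive := by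
  let P := ProjectiveResolution.of M
  have hflat : ∀ i, Module.Flat R (P.complex.X i) := fun _ => flat_of_projective _
  obtain ⟨α⟩ := tor_natIso_of_flatResolution P.complex hflat P.π n
  exact Functor.additive_of_iso α.symm

end additive

section torZeroMono

/-- `Tor_0(M, f)` is a monomorphism iff `M ⊗ f` is injective. -/
lemma mono_torZero_map_iff_injective_lTensor (M : ModuleCat.{u} R) {X Y : ModuleCat.{u} R}
    (f : X ⟶ Y) :
    Mono (((Tor (ModuleCat.{u} R) 0).obj M).map f) ↔
      Function.Injective (LinearMap.lTensor M f.hom) := by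
  have hnat := (torZeroNatIso M).hom.naturality f
  have hw : (M ◁ f).hom = LinearMap.lTensor M f.hom := rfl
  rw [← hw, ← ModuleCat.mono_iff_injective]
  constructor
  · intro h
    have h1 : M ◁ f = (torZeroNatIso M).inv.app X ≫
        ((Tor (ModuleCat.{u} R) 0).obj M).map f ≫ (torZeroNatIso M).hom.app Y := by
      rw [hnat, Iso.inv_hom_id_app_assoc]
      rfl
    rw [h1]
    infer_instance
  · intro h
    have h1 : ((Tor (ModuleCat.{u} R) 0).obj M).map f = (torZeroNatIso M).hom.app X ≫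
        (M ◁ f) ≫ (torZeroNatIso M).inv.app Y := by
      rw [← Category.assoc]
      erw [← hnat]
      rw [Category.assoc, Iso.hom_inv_id_app, Category.comp_id]
    rw [h1]
    infer_instance

variable {T : ShortComplex (ModuleCat.{u} R)} (hT : T.ShortExact)

include hT in
/-- If `Tor_{n+1}(M, X₁) = 0` and `Tor_n(M, X₁) ⟶ Tor_n(M, X₂)` is mono, then
`Tor_{n+1}(M, X₂) ≅ Tor_{n+1}(M, X₃)`. -/
lemma isIso_tor_map_g_of_isZero_of_mono (M : ModuleCat.{u} R) (n : ℕ)
    (h1 : IsZero (((Tor (ModuleCat.{u} R) (n + 1)).obj M).obj T.X₁))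
    (h2 : Mono (((Tor (ModuleCat.{u} R) n).obj M).map T.f)) :
    IsIso (((Tor (ModuleCat.{u} R) (n + 1)).obj M).map T.g) := by
  obtain ⟨δ, w₁, w₂, hex₃, hex₁⟩ := exists_δ_right hT M n
  have hδ : δ = 0 := by
    rw [← cancel_mono (((Tor (ModuleCat.{u} R) n).obj M).map T.f), w₂, zero_comp]
  have hepi : Epi (((Tor (ModuleCat.{u} R) (n + 1)).obj M).map T.g) := hex₃.epi_f hδ
  have hmono : Mono (((Tor (ModuleCat.{u} R) (n + 1)).obj M).map T.g) :=
    (exact₂_right hT M (n + 1)).mono_g (h1.eq_of_src _ _)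
  exact isIso_of_mono_of_epi _

end torZeroMono

end Groth.Agent.Lib.TorNat
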