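import Groth.Agent.Lib.Devissage
import Groth.Agent.Lib.TorNat
import Groth.Agent.Lib.H15TorFiltered
import Mathlib.Algebra.Colimit.Finiteness
import Mathlib.Algebra.Category.ModuleCat.Limits

set_option autoImplicit false
universe u

namespace Groth.Agent.Lib.DevTor

open CategoryTheory Limits MonoidalCategory
open Groth.Agent.Lib.Devissage Groth.Agent.Lib.TorLES Groth.Agent.Lib.TorNat

variable {A : Type u} [CommRing A]

section fg

variable (N : ModuleCat.{u} A)

/-- the index category of f.g. submodules -/
abbrev FGSub : Type u := {N' : Submodule A N // N'.FG}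

open Classical in
/-- the diagram of f.g. submodules -/
noncomputable abbrev fgDiagram : FGSub N ⥤ ModuleCat.{u} A :=
  ModuleCat.directLimitDiagram (fun α : FGSub N => ↥α.1) (Module.fgSystem A N)

open Classical in
/-- the colimit cocone with point `N` -/
noncomputable def fgCocone : Cocone (fgDiagram N) where
  pt := N
  ι :=
    { app := fun α => ModuleCat.ofHom α.1.subtype
      naturality := fun _ _ _ => rfl }

open Classical in
/-- `N` is the colimit of its f.g. submodules -/
noncomputable def fgIsColimit : IsColimit (fgCocone N) :=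
  IsColimit.ofIsoColimit
    (ModuleCat.directLimitIsColimit (fun α : FGSub N => ↥α.1) (Module.fgSystem A N))
    (Cocone.ext (Module.fgSystem.equiv A N).toModuleIso (fun α => by
      apply ModuleCat.hom_ext
      exact Module.fgSystem.equiv_comp_of α))

instance : IsFiltered (FGSub N) := inferInstance

/-- a functor preserving filtered colimits vanishing on f.g. submodules vanishes -/
lemma isZero_of_fg (T : ModuleCat.{u} A ⥤ ModuleCat.{u} A)
    [PreservesColimitsOfShape (FGSub N) T]
    (h : ∀ N' : Submodule A N, N'.FG → IsZero (T.obj (ModuleCat.of A N'))) :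
    IsZero (T.obj N) := by
  have hc := isColimitOfPreserves T (fgIsColimit N)
  rw [IsZero.iff_id_eq_zero]
  apply hc.hom_ext
  intro α
  exact (h α.1 α.2).eq_of_src _ _

/-- a natural transformation between functors preserving filtered colimits which is an
isomorphism on f.g. submodules is an isomorphism -/
lemma isIso_of_fg {T₁ T₂ : ModuleCat.{u} A ⥤ ModuleCat.{u} A}
    [PreservesColimitsOfShape (FGSub N) T₁] [PreservesColimitsOfShape (FGSub N) T₂]
    (τ : T₁ ⟶ T₂)
    (h : ∀ N' : Submodule A N, N'.FG → IsIso (τ.app (ModuleCat.of A N'))) :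
    IsIso (τ.app N) := by
  have hc₁ := isColimitOfPreserves T₁ (fgIsColimit N)
  have hc₂ := isColimitOfPreserves T₂ (fgIsColimit N)
  have hiso : ∀ α : FGSub N, IsIso ((Functor.whiskerLeft (fgDiagram N) τ).app α) :=
    fun α => h α.1 α.2
  have : IsIso (Functor.whiskerLeft (fgDiagram N) τ) := NatIso.isIso_of_isIso_app _
  let w : fgDiagram N ⋙ T₁ ≅ fgDiagram N ⋙ T₂ := asIso (Functor.whiskerLeft (fgDiagram N) τ)
  let e := hc₁.coconePointsIsoOfNatIso hc₂ w
  have he : e.hom = τ.app N := by
    apply hc₁.hom_ext
    intro α
    rw [IsColimit.comp_coconePointsIsoOfNatIso_hom]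
    exact (τ.naturality ((fgCocone N).ι.app α)).symm
  rw [← he]
  infer_instance

end fg

end Groth.Agent.Lib.DevTor
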