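import Mathlib.RingTheory.Ideal.AssociatedPrime.Finiteness
import Mathlib.RingTheory.LocalRing.ResidueField.Ideal
import Mathlib.Algebra.Homology.ShortComplex.ModuleCat
import Mathlib.Algebra.Category.ModuleCat.Abelian
import Mathlib.RingTheory.Ideal.Colon

set_option autoImplicit false
universe u

namespace Groth.Agent.Lib.Devissage

open CategoryTheory Limits

variable {A : Type u} [CommRing A]

/-- A class of modules closed under isomorphisms, extensions, kernels of epimorphisms and unions
of finitely generated submodules. -/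
structure DevClass (C : ModuleCat.{u} A → Prop) : Prop where
  iso : ∀ {X Y : ModuleCat.{u} A}, (X ≅ Y) → C X → C Y
  zero : ∀ X : ModuleCat.{u} A, IsZero X → C X
  ext : ∀ S : ShortComplex (ModuleCat.{u} A), S.ShortExact → C S.X₁ → C S.X₃ → C S.X₂
  ker : ∀ S : ShortComplex (ModuleCat.{u} A), S.ShortExact → C S.X₂ → C S.X₃ → C S.X₁
  fg : ∀ N : ModuleCat.{u} A,
    (∀ N' : Submodule A N, N'.FG → C (ModuleCat.of A N')) → C N

variable {C : ModuleCat.{u} A → Prop} (hC : DevClass C)

include hC in
/-- finitely generated modules killed by `J` are in the class if all `A ⧸ q`, `q ⊇ J` prime are -/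
theorem of_finite_of_primes [IsNoetherianRing A] (J : Ideal A)
    (hq : ∀ q : Ideal A, q.IsPrime → J ≤ q → C (ModuleCat.of A (A ⧸ q)))
    (N : Type u) [AddCommGroup N] [Module A N] [hN : Module.Finite A N]
    (hJ : J ≤ Module.annihilator A N) : C (ModuleCat.of A N) := by
  revert hJ
  induction hN using IsNoetherianRing.induction_on_isQuotientEquivQuotientPrime A with
  | subsingleton N =>
    intro _
    exact hC.zero _ (ModuleCat.isZero_of_subsingleton _)
  | quotient N p e =>
    intro hJ
    rw [e.annihilator_eq, Ideal.annihilator_quotient] at hJ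
    exact hC.iso e.toModuleIso.symm (hq p.1 p.2 hJ)
  | exact N₁ N₂ N₃ f g hf hg hfg h₁ h₃ =>
    intro hJ
    have h1 := h₁ (hJ.trans (f.annihilator_le_of_injective hf))
    have h3 := h₃ (hJ.trans (g.annihilator_le_of_surjective hg))
    let S : ShortComplex (ModuleCat.{u} A) :=
      ShortComplex.mk (ModuleCat.ofHom f) (ModuleCat.ofHom g) (by
        rw [← ModuleCat.ofHom_comp, hfg.linearMap_comp_eq_zero]
        rfl)
    exact hC.ext S (ModuleCat.shortComplex_shortExact S hfg hf hg) h1 h3

section prime

variable (p : Ideal A) [p.IsPrime]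

/-- the inclusion `A ⧸ p → κ(p)` as an `A`-linear map -/
noncomputable def iotaRes : (A ⧸ p) →ₗ[A] p.ResidueField :=
  (IsScalarTower.toAlgHom A (A ⧸ p) p.ResidueField).toLinearMap

lemma iotaRes_apply (x : A ⧸ p) : iotaRes p x = algebraMap (A ⧸ p) p.ResidueField x := rfl

lemma iotaRes_injective : Function.Injective (iotaRes p) :=
  p.injective_algebraMap_quotient_residueField

/-- every element of `κ(p)` is moved into `A ⧸ p` by some `f ∉ p` -/
lemma exists_smul_mem_range (z : p.ResidueField) :
    ∃ f : A, f ∉ p ∧ f • z ∈ LinearMap.range (iotaRes p) := by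
  obtain ⟨⟨x, s⟩, hx⟩ := IsLocalization.surj (nonZeroDivisors (A ⧸ p)) z
  obtain ⟨f, hf⟩ := Ideal.Quotient.mk_surjective s.1
  refine ⟨f, ?_, x, ?_⟩
  · intro hfp
    have : s.1 = 0 := by rw [← hf]; exact Ideal.Quotient.eq_zero_iff_mem.mpr hfp
    exact nonZeroDivisors.coe_ne_zero s this
  · rw [iotaRes_apply, ← hx, Algebra.smul_def, mul_comm]
    congr 1
    rw [← hf]
    rfl

lemma smul_residueField_eq_zero {a : A} (ha : a ∈ p) (z : p.ResidueField) : a • z = 0 := by
  rw [Algebra.smul_def, Ideal.algebraMap_residueField_eq_zero.mpr ha, zero_mul]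

/-- every f.g. submodule of `κ(p) / (A ⧸ p)` is killed by `p + (f)` for some `f ∉ p` -/
lemma exists_annihilator (N' : Submodule A (p.ResidueField ⧸ LinearMap.range (iotaRes p)))
    (hN' : N'.FG) : ∃ f : A, f ∉ p ∧ p ⊔ Ideal.span {f} ≤ Module.annihilator A N' := by
  classical
  obtain ⟨S, rfl⟩ := hN'
  have h1 : ∀ z : p.ResidueField ⧸ LinearMap.range (iotaRes p), ∃ f : A, f ∉ p ∧ f • z = 0 := by
    intro z
    obtain ⟨y, rfl⟩ := Submodule.Quotient.mk_surjective _ z
    obtain ⟨f, hf, hfy⟩ := exists_smul_mem_range p y
    refine ⟨f, hf, ?_⟩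
    rw [← Submodule.Quotient.mk_smul, Submodule.Quotient.mk_eq_zero]
    exact hfy
  choose g hg hgz using h1
  refine ⟨∏ z ∈ S, g z, ?_, ?_⟩
  · intro h
    obtain ⟨z, _, hz⟩ := (Ideal.IsPrime.prod_mem_iff (p := p)).mp h
    exact hg z hz
  · rw [sup_le_iff, Ideal.span_le, Set.singleton_subset_iff]
    constructor
    · intro a ha
      rw [Module.mem_annihilator]
      rintro ⟨z, _⟩
      apply Subtype.ext
      obtain ⟨y, rfl⟩ := Submodule.Quotient.mk_surjective _ z
      change a • Submodule.Quotient.mk y = 0
      rw [← Submodule.Quotient.mk_smul, smul_residueField_eq_zero p ha, Submodule.Quotient.mk_zero]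
    · rw [SetLike.mem_coe, Module.mem_annihilator]
      rintro ⟨z, hz⟩
      apply Subtype.ext
      change (∏ z ∈ S, g z) • z = 0
      induction hz using Submodule.span_induction with
      | mem z hzS =>
        rw [← Finset.mul_prod_erase S g hzS, mul_comm, mul_smul, hgz, smul_zero]
      | zero => rw [smul_zero]
      | add x y _ _ hx hy => rw [smul_add, hx, hy, add_zero]
      | smul a x _ hx => rw [smul_comm, hx, smul_zero]

end prime

section main

variable [IsNoetherianRing A]
  (hres : ∀ (p : Ideal A) [p.IsPrime], C (ModuleCat.of A p.ResidueField))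

include hC hres in
/-- all `A ⧸ p` are in the class -/
theorem quotient_prime : ∀ (p : Ideal A), p.IsPrime → C (ModuleCat.of A (A ⧸ p)) := by
  intro p
  induction p using WellFoundedGT.induction with
  | ind p IH =>
    intro hp
    -- the cokernel `κ(p) / (A ⧸ p)`
    have hQ : C (ModuleCat.of A (p.ResidueField ⧸ LinearMap.range (iotaRes p))) := by
      apply hC.fg
      intro N' hN'
      obtain ⟨f, hf, hann⟩ := exists_annihilator p N' hN'
      have : Module.Finite A N' := Module.Finite.iff_fg.mpr hN'
      refine of_finite_of_primes hC (p ⊔ Ideal.span {f}) ?_ N' hann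
      intro q hq hle
      refine IH q ?_ hq
      refine lt_of_le_of_ne (le_sup_left.trans hle) ?_
      rintro rfl
      exact hf (hle (Ideal.mem_sup_right (Ideal.subset_span rfl)))
    let S : ShortComplex (ModuleCat.{u} A) :=
      ShortComplex.mk (ModuleCat.ofHom (iotaRes p))
        (ModuleCat.ofHom (LinearMap.range (iotaRes p)).mkQ) (by
        rw [← ModuleCat.ofHom_comp, LinearMap.range_mkQ_comp]
        rfl)
    have hS : S.ShortExact :=
      ModuleCat.shortComplex_shortExact S (LinearMap.exact_map_mkQ_range _)
        (iotaRes_injective p) (Submodule.mkQ_surjective _)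
    exact hC.ker S hS (hres p) hQ

include hC hres in
/-- **Devissage**: a class of modules over a Noetherian ring closed under isomorphisms,
extensions, kernels of epimorphisms and unions of f.g. submodules, and containing all residue
fields `κ(p)`, contains every module. -/
theorem devissage (N : ModuleCat.{u} A) : C N := by
  apply hC.fg
  intro N' hN'
  have : Module.Finite A N' := Module.Finite.iff_fg.mpr hN'
  exact of_finite_of_primes hC ⊥ (fun q hq _ => quotient_prime hC hres q hq) N' bot_le

end main

end Groth.Agent.Lib.Devissage
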