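import Groth.Agent.Lib.ComodHom
import Mathlib.RingTheory.Bialgebra.MonoidAlgebra

/-!
# Comodules over the group algebra `k[M]` of a commutative group (multiplicative version of Lib/TorusComod)

For a comodule `V` over `MonoidAlgebra k Λ`: the weight projections `proj w = (id ⊗ e_w) ∘ ρ`, where `e_w` is the
coefficient functional; `proj k w v` is an eigenvector of weight `w`, every `v` is the finite sum of its projections, and for
a multiplicative coaction `proj 0 (a * f) = proj (-w) a * f` for `f` of weight `w`.
-/

set_option autoImplicit false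
universe u v w

open TensorProduct

namespace Groth.Agent.Lib.DiagComod97

open Groth.Agent.Lib.Comod

variable {k : Type u} [CommRing k] {Λ : Type v} [CommGroup Λ]

/-- the coefficient functional -/
noncomputable def ev (w : Λ) : MonoidAlgebra k Λ →ₗ[k] k :=
  Finsupp.lapply w ∘ₗ (MonoidAlgebra.coeffLinearEquiv k).toLinearMap

omit [CommGroup Λ] in
theorem ev_apply (w : Λ) (a : MonoidAlgebra k Λ) : ev w a = a.coeff w := rfl

omit [CommGroup Λ] in
theorem ev_single [DecidableEq Λ] (w u : Λ) (c : k) :
    ev w (MonoidAlgebra.single u c) = if u = w then c else 0 := by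
  rw [ev_apply, MonoidAlgebra.coeff_single]
  exact Finsupp.single_apply

theorem comul_single' (u : Λ) (c : k) :
    CoalgebraStruct.comul (R := k) (MonoidAlgebra.single u c : MonoidAlgebra k Λ) =
      MonoidAlgebra.single u c ⊗ₜ[k] MonoidAlgebra.single u 1 := by
  rw [MonoidAlgebra.comul_single]
  simp only [CommSemiring.comul_apply, TensorProduct.map_tmul, MonoidAlgebra.lsingle_apply]
  have h : (MonoidAlgebra.single u c : MonoidAlgebra k Λ) = c • MonoidAlgebra.single u 1 := by
    rw [MonoidAlgebra.smul_single, smul_eq_mul, mul_one]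
  rw [h, TensorProduct.tmul_smul, TensorProduct.smul_tmul']

theorem slice_ev (w : Λ) (a : MonoidAlgebra k Λ) :
    slice (ev w) a = MonoidAlgebra.single w (a.coeff w) := by
  classical
  induction a using MonoidAlgebra.induction_linear with
  | zero => simp
  | add a b ha hb =>
    rw [map_add, ha, hb, MonoidAlgebra.coeff_add, Finsupp.add_apply, MonoidAlgebra.single_add]
  | single u c =>
    rw [slice, LinearMap.comp_apply, comul_single', contr_tmul, ev_single,
      MonoidAlgebra.coeff_single, Finsupp.single_apply]
    by_cases h : u = w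
    · subst h
      rw [if_pos rfl, one_smul, if_pos rfl]
    · rw [if_neg h, zero_smul, if_neg h, MonoidAlgebra.single_zero]

section Comod

variable {V : Type w} [AddCommGroup V] [Module k V] [HopfRep.Comod k (MonoidAlgebra k Λ) V]

variable (k) in
/-- the projection onto the vectors of weight `w` -/
noncomputable def proj (w : Λ) : V →ₗ[k] V := act V (ev w)

omit [HopfRep.Comod k (MonoidAlgebra k Λ) V] in
theorem lTensor_slice_ev (w : Λ) (x : V ⊗[k] MonoidAlgebra k Λ) :
    (slice (ev w)).lTensor V x = contr V (ev w) x ⊗ₜ[k] MonoidAlgebra.single w 1 := by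
  induction x using TensorProduct.induction_on with
  | zero => simp
  | add x y hx hy => rw [map_add, map_add, hx, hy, TensorProduct.add_tmul]
  | tmul v a =>
    rw [LinearMap.lTensor_tmul, slice_ev, contr_tmul, ev_apply, TensorProduct.smul_tmul,
      MonoidAlgebra.smul_single, smul_eq_mul, mul_one]

theorem coact_proj (w : Λ) (v : V) :
    HopfRep.Comod.coact (k := k) (A := MonoidAlgebra k Λ) (proj k w v) =
      proj k w v ⊗ₜ[k] MonoidAlgebra.single w 1 := by
  rw [proj, act_apply, coact_contr_coact, lTensor_slice_ev]

theorem proj_mem_eigenspace (w : Λ) (v : V) :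
    proj k w v ∈ HopfRep.eigenspace k (MonoidAlgebra k Λ) V (MonoidAlgebra.single w 1) :=
  coact_proj w v

theorem proj_of_mem_eigenspace [DecidableEq Λ] {v : V} {u : Λ}
    (hv : v ∈ HopfRep.eigenspace k (MonoidAlgebra k Λ) V (MonoidAlgebra.single u 1)) (w : Λ) :
    proj k w v = if u = w then v else 0 := by
  have hv' : HopfRep.Comod.coact (k := k) (A := MonoidAlgebra k Λ) v =
      v ⊗ₜ[k] MonoidAlgebra.single u 1 := hv
  rw [proj, act_apply, hv', contr_tmul, ev_single]
  split_ifs
  · rw [one_smul]
  · rw [zero_smul]

omit [HopfRep.Comod k (MonoidAlgebra k Λ) V] in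
/-- the counit is the (locally finite) sum of the coefficient functionals -/
theorem exists_contr_counit_eq_sum (x : V ⊗[k] MonoidAlgebra k Λ) :
    ∃ S : Finset Λ, ∀ T : Finset Λ, S ⊆ T →
      contr V (CoalgebraStruct.counit (R := k) (A := MonoidAlgebra k Λ)) x =
        ∑ w ∈ T, contr V (ev w) x := by
  classical
  induction x using TensorProduct.induction_on with
  | zero => exact ⟨∅, fun T _ => by simp⟩
  | add x y hx hy =>
    obtain ⟨S₁, h₁⟩ := hx
    obtain ⟨S₂, h₂⟩ := hy
    refine ⟨S₁ ∪ S₂, fun T hT => ?_⟩
    rw [map_add, h₁ T (Finset.union_subset_left hT), h₂ T (Finset.union_subset_right hT),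
      ← Finset.sum_add_distrib]
    simp only [map_add]
  | tmul v a =>
    refine ⟨a.coeff.support, fun T hT => ?_⟩
    simp only [contr_tmul, ev_apply]
    rw [← Finset.sum_smul]
    congr 1
    have h1 : ∀ a : MonoidAlgebra k Λ,
        CoalgebraStruct.counit (R := k) (A := MonoidAlgebra k Λ) a =
          ∑ w ∈ a.coeff.support, a.coeff w := by
      intro a
      induction a using MonoidAlgebra.induction_linear with
      | zero => simp
      | add a b ha hb =>
        rw [map_add, ha, hb]
        have e1 : ∑ w ∈ a.coeff.support, a.coeff w =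
            ∑ w ∈ a.coeff.support ∪ b.coeff.support, a.coeff w :=
          Finset.sum_subset Finset.subset_union_left
            (fun x _ hx => Finsupp.notMem_support_iff.mp hx)
        have e2 : ∑ w ∈ b.coeff.support, b.coeff w =
            ∑ w ∈ a.coeff.support ∪ b.coeff.support, b.coeff w :=
          Finset.sum_subset Finset.subset_union_right
            (fun x _ hx => Finsupp.notMem_support_iff.mp hx)
        have e3 : ∑ w ∈ (a + b).coeff.support, (a + b).coeff w =
            ∑ w ∈ a.coeff.support ∪ b.coeff.support, (a + b).coeff w :=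
          Finset.sum_subset (Finsupp.support_add (g₁ := a.coeff) (g₂ := b.coeff))
            (fun x _ hx => Finsupp.notMem_support_iff.mp hx)
        rw [e1, e2, e3, ← Finset.sum_add_distrib]
        rfl
      | single u c =>
        rw [MonoidAlgebra.counit_single, MonoidAlgebra.coeff_single]
        by_cases hc : c = 0
        · subst hc
          simp
        · rw [Finsupp.support_single _ hc, Finset.sum_singleton, Finsupp.single_eq_same]
          rfl
    rw [h1]
    exact Finset.sum_subset hT (fun x _ hx => Finsupp.notMem_support_iff.mp hx)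

/-- every vector is the finite sum of its weight components -/
theorem exists_eq_sum_proj (v : V) :
    ∃ S : Finset Λ, ∀ T : Finset Λ, S ⊆ T → v = ∑ w ∈ T, proj k w v := by
  obtain ⟨S, hS⟩ := exists_contr_counit_eq_sum
    (HopfRep.Comod.coact (k := k) (A := MonoidAlgebra k Λ) v)
  refine ⟨S, fun T hT => ?_⟩
  have h := hS T hT
  have hv : act V (CoalgebraStruct.counit (R := k) (A := MonoidAlgebra k Λ)) v = v := act_counit v
  rw [act_apply] at hv
  rw [hv] at h
  exact h

end Comod


section Stable

variable {V : Type w} [AddCommGroup V] [Module k V] [HopfRep.Comod k (MonoidAlgebra k Λ) V]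

theorem proj_proj [DecidableEq Λ] (m n : Λ) (v : V) :
    proj k m (proj k n v) = if n = m then proj k n v else 0 :=
  proj_of_mem_eigenspace (proj_mem_eigenspace n v) m

/-- outside a finite set, the weight components vanish; inside, they sum to `v`. -/
theorem exists_finset_proj (v : V) :
    ∃ S : Finset Λ, (v = ∑ w ∈ S, proj k w v) ∧ ∀ n, n ∉ S → proj k n v = 0 := by
  classical
  obtain ⟨S, hS⟩ := exists_eq_sum_proj (k := k) (Λ := Λ) v
  refine ⟨S, hS S subset_rfl, fun n hn => ?_⟩
  have h1 := hS S subset_rfl
  have h2 := hS (insert n S) (Finset.subset_insert n S)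
  rw [Finset.sum_insert hn] at h2
  have : v = proj k n v + v := by
    conv_lhs => rw [h2]
    rw [← h1]
  have h3 : proj k n v + v = 0 + v := by rw [zero_add]; exact this.symm
  exact add_right_cancel h3

theorem proj_mem_of_isSubcomod {W : Submodule k V}
    (hW : HopfRep.IsSubcomod (k := k) (A := MonoidAlgebra k Λ) W) (m : Λ) {w : V} (hw : w ∈ W) :
    proj k m w ∈ W := by
  obtain ⟨y, hy⟩ := hW w hw
  rw [proj, act_apply, ← hy, contr_rTensor]
  exact Submodule.coe_mem _

theorem isSubcomod_of_proj_mem {W : Submodule k V} (h : ∀ m : Λ, ∀ w ∈ W, proj k m w ∈ W) :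
    HopfRep.IsSubcomod (k := k) (A := MonoidAlgebra k Λ) W := by
  intro w hw
  obtain ⟨S, hS, -⟩ := exists_finset_proj (k := k) (Λ := Λ) w
  have e : HopfRep.Comod.coact (k := k) (A := MonoidAlgebra k Λ) w =
      ∑ m ∈ S, HopfRep.Comod.coact (k := k) (A := MonoidAlgebra k Λ) (proj k m w) := by
    rw [← map_sum, ← hS]
  rw [e]
  apply Submodule.sum_mem
  intro m _
  rw [coact_proj]
  exact ⟨(⟨proj k m w, h m w hw⟩ : W) ⊗ₜ[k] MonoidAlgebra.single m 1, by simp⟩

/-- A subcomodule which is a direct summand as a module has a complementary subcomodule. -/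
theorem exists_isCompl_subcomod (W : Submodule k V)
    (hW : HopfRep.IsSubcomod (k := k) (A := MonoidAlgebra k Λ) W)
    (hsplit : ∃ W' : Submodule k V, IsCompl W W') :
    ∃ W'' : Submodule k V, HopfRep.IsSubcomod (k := k) (A := MonoidAlgebra k Λ) W'' ∧
      IsCompl W W'' := by
  classical
  obtain ⟨W', hc⟩ := hsplit
  set π : V →ₗ[k] V := W.subtype ∘ₗ Submodule.projectionOnto W W' hc with hπ
  have hπW : ∀ v, π v ∈ W := fun v => Submodule.coe_mem _
  have hπid : ∀ w ∈ W, π w = w := by
    intro w hw
    have := Submodule.projectionOnto_apply_left hc ⟨w, hw⟩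
    simp only [hπ, LinearMap.comp_apply, Submodule.subtype_apply]
    exact congrArg Subtype.val this
  set W'' : Submodule k V := ⨅ m : Λ, LinearMap.ker (proj k m ∘ₗ π ∘ₗ proj k m) with hW''
  have hmem : ∀ v, v ∈ W'' ↔ ∀ m : Λ, proj k m (π (proj k m v)) = 0 := by
    intro v
    simp only [hW'', Submodule.mem_iInf, LinearMap.mem_ker, LinearMap.comp_apply]
  refine ⟨W'', ?_, ?_⟩
  · apply isSubcomod_of_proj_mem
    intro n v hv
    rw [hmem] at hv ⊢
    intro m
    rw [proj_proj]
    split_ifs with h
    · subst h
      exact hv n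
    · simp
  · rw [isCompl_iff, disjoint_iff, codisjoint_iff]
    constructor
    · rw [eq_bot_iff]
      rintro w ⟨hw1, hw2⟩
      rw [SetLike.mem_coe, hmem] at hw2
      obtain ⟨S, hS, -⟩ := exists_finset_proj (k := k) (Λ := Λ) w
      rw [Submodule.mem_bot, hS]
      apply Finset.sum_eq_zero
      intro m _
      have h1 := hw2 m
      rw [hπid _ (proj_mem_of_isSubcomod hW m hw1), proj_proj, if_pos rfl] at h1
      exact h1
    · rw [eq_top_iff]
      intro v _
      obtain ⟨T, hT, hT0⟩ := exists_finset_proj (k := k) (Λ := Λ) v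
      set u : V := ∑ m ∈ T, proj k m (π (proj k m v)) with hu
      have huW : u ∈ W := Submodule.sum_mem _ (fun m _ => proj_mem_of_isSubcomod hW m (hπW _))
      have hvu : v - u ∈ W'' := by
        rw [hmem]
        intro n
        rw [map_sub, map_sub, map_sub, sub_eq_zero]
        have hpu : proj k n u = if n ∈ T then proj k n (π (proj k n v)) else 0 := by
          rw [hu, map_sum]
          simp only [proj_proj]
          rw [Finset.sum_ite_eq' T n]
        by_cases hn : n ∈ T
        · rw [hpu, if_pos hn]
          have hmemW : proj k n (π (proj k n v)) ∈ W := proj_mem_of_isSubcomod hW n (hπW _)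
          rw [hπid _ hmemW, proj_proj, if_pos rfl]
        · rw [hpu, if_neg hn, hT0 n hn]
      have : v = u + (v - u) := by abel
      rw [this]
      exact Submodule.add_mem_sup huW hvu

end Stable

end Groth.Agent.Lib.DiagComod97
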