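import Mathlib
import Groth.Prelude.Def_Magnet2

/-!
# fpqc descent along `D(M) ⟶ D(Z)` for diagonalizable group schemes (helper27)

* `faithfullyFlat_of_single` : for an injective hom `j : H →* G` from a commutative monoid to a
  commutative group whose image is a subgroup, `R[H] ⟶ R[G]` is faithfully flat (free).
* `isPushout_quot` : `R[Y] = R[N] ⊗_{R[K]} R` for `K → N → Y` "exact" (monoids).
* `isPullback_AMonS_ker` : `A(M/Z)_S` is the kernel of `A(M)_S ⟶ A(Z)_S`.
* `exists_desc_of_effectiveEpi` : descent of morphisms in `Over S` along a morphism whose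
  underlying morphism of schemes is an effective epimorphism.
-/

set_option autoImplicit false
universe u
open CategoryTheory CategoryTheory.Limits

namespace Groth.Agent.Lib.DiagDescent27

section Free

variable (R : Type u) [CommRing R] {H G : Type} [CommMonoid H] [CommGroup G]
  (j : H →* G) (hj : Function.Injective j) (P : Subgroup G) (hP : ∀ g, g ∈ P ↔ ∃ h, j h = g)

/-- a set-theoretic section of `G → G ⧸ range j` -/
noncomputable def sec (c : G ⧸ P) : G := Quotient.out c

lemma mk_sec (c : G ⧸ P) : (QuotientGroup.mk (sec P c) : G ⧸ P) = c :=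
  Quotient.out_eq c

/-- `(c, h) ↦ j h * sec c` -/
noncomputable def beta : (G ⧸ P) × H → G := fun p => j p.2 * sec P p.1

include hj hP in
lemma beta_bijective : Function.Bijective (beta j P) := by
  constructor
  · rintro ⟨c, h⟩ ⟨c', h'⟩ hcc
    simp only [beta] at hcc
    have hc : c = c' := by
      have h1 := congrArg (QuotientGroup.mk (s := P)) hcc
      have e1 : (QuotientGroup.mk (j h) : G ⧸ P) = 1 :=
        (QuotientGroup.eq_one_iff (j h)).mpr ((hP _).mpr ⟨h, rfl⟩)
      have e2 : (QuotientGroup.mk (j h') : G ⧸ P) = 1 :=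
        (QuotientGroup.eq_one_iff (j h')).mpr ((hP _).mpr ⟨h', rfl⟩)
      rw [QuotientGroup.mk_mul, QuotientGroup.mk_mul, mk_sec, mk_sec, e1, e2, one_mul, one_mul] at h1
      exact h1
    subst hc
    have := mul_right_cancel hcc
    rw [hj this]
  · intro g
    have hmem : g * (sec P (QuotientGroup.mk g))⁻¹ ∈ P := by
      rw [← QuotientGroup.eq_one_iff, QuotientGroup.mk_mul, QuotientGroup.mk_inv, mk_sec,
        mul_inv_cancel]
    obtain ⟨h, hh⟩ := (hP _).mp hmem
    refine ⟨(QuotientGroup.mk g, h), ?_⟩
    simp only [beta]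
    rw [hh, inv_mul_cancel_right]


include hj hP in
theorem faithfullyFlat_of_single (φ : MonoidAlgebra R H →+* MonoidAlgebra R G)
    (hφ : ∀ h r, φ (MonoidAlgebra.single h r) = MonoidAlgebra.single (j h) r) :
    φ.FaithfullyFlat := by
  let alg : Algebra (MonoidAlgebra R H) (MonoidAlgebra R G) := φ.toAlgebra
  change Module.FaithfullyFlat (MonoidAlgebra R H) (MonoidAlgebra R G)
  let F : ((G ⧸ P) →₀ MonoidAlgebra R H) →ₗ[MonoidAlgebra R H] MonoidAlgebra R G :=
    Finsupp.linearCombination _ (fun c => MonoidAlgebra.single (sec P c) (1:R))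
  let βe : (G ⧸ P) × H ≃ G := Equiv.ofBijective _ (beta_bijective j hj P hP)
  let E : ((G ⧸ P) →₀ MonoidAlgebra R H) ≃+ MonoidAlgebra R G :=
    ((Finsupp.mapRange.addEquiv (MonoidAlgebra.coeffAddEquiv)).trans
      ((Finsupp.curryLinearEquiv R).symm.toAddEquiv)).trans
        ((Finsupp.domCongr βe).trans MonoidAlgebra.coeffAddEquiv.symm)
  have hFE : ∀ ξ, F ξ = E ξ := by
    intro ξ
    induction ξ using Finsupp.induction_linear with
    | zero => simp
    | add f g hf hg => rw [map_add, map_add, hf, hg]
    | single c x =>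
      induction x using MonoidAlgebra.induction_linear with
      | zero => simp
      | add f g hf hg => rw [Finsupp.single_add, map_add, map_add, hf, hg]
      | single h r =>
        have h1 : F (Finsupp.single c (MonoidAlgebra.single h r)) =
            MonoidAlgebra.single (j h * sec P c) r := by
          simp only [F, Finsupp.linearCombination_single]
          change φ (MonoidAlgebra.single h r) * _ = _
          rw [hφ, MonoidAlgebra.single_mul_single, mul_one]
        rw [h1]
        simp [E, βe, beta]
  have hbij : Function.Bijective F := by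
    have : (F : _ → _) = E := funext hFE
    rw [this]; exact E.bijective
  exact Module.FaithfullyFlat.of_linearEquiv _ _ (LinearEquiv.ofBijective F hbij).symm

end Free


section Pushout

variable {R : Type u} [CommRing R] {K N Y : Type} [CommMonoid K] [CommMonoid N] [CommMonoid Y]
  (ι : K →* N) (g : N →* Y) (hg : Function.Surjective g)
  (hker : ∀ n n', g n = g n' → ∃ k, n' = n * ι k)
  (φι : MonoidAlgebra R K →+* MonoidAlgebra R N)
  (hφι : ∀ k r, φι (MonoidAlgebra.single k r) = MonoidAlgebra.single (ι k) r)
  (φg : MonoidAlgebra R N →+* MonoidAlgebra R Y)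
  (hφg : ∀ n r, φg (MonoidAlgebra.single n r) = MonoidAlgebra.single (g n) r)
  (ε : MonoidAlgebra R K →+* R) (hε : ∀ k r, ε (MonoidAlgebra.single k r) = r)

section Desc

variable {T : Type u} [CommRing T] (a : MonoidAlgebra R N →+* T) (b : R →+* T)
  (hab : a.comp φι = b.comp ε)

include hφι hε hab in
lemma a_single_one (r : R) : a (MonoidAlgebra.single 1 r) = b r := by
  have h := congrArg (fun f => f (MonoidAlgebra.single 1 r)) hab
  simpa [hφι, hε] using h

include hφι hε hab in
lemma a_single_ι (k : K) : a (MonoidAlgebra.single (ι k) 1) = 1 := by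
  have h := congrArg (fun f => f (MonoidAlgebra.single k 1)) hab
  simpa [hφι, hε] using h

/-- the character `n ↦ a (e^n)` -/
noncomputable def chr : N →* T := a.toMonoidHom.comp (MonoidAlgebra.of R N)

lemma chr_apply (n : N) : chr a n = a (MonoidAlgebra.single n 1) := rfl

include hφι hε hab hker in
lemma chr_eq_of_eq {n n' : N} (h : g n = g n') : chr a n = chr a n' := by
  obtain ⟨k, rfl⟩ := hker n n' h
  rw [map_mul, chr_apply a (ι k), a_single_ι ι φι hφι ε hε a b hab, mul_one]

/-- the induced character of `Y` -/
noncomputable def chrY : Y →* T where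
  toFun y := chr a (Classical.choose (hg y))
  map_one' := by
    have h1 : g (Classical.choose (hg 1)) = g 1 := by rw [Classical.choose_spec (hg 1), map_one]
    rw [chr_eq_of_eq ι g hker φι hφι ε hε a b hab h1, map_one]
  map_mul' y y' := by
    have h1 : g (Classical.choose (hg (y * y'))) =
        g (Classical.choose (hg y) * Classical.choose (hg y')) := by
      rw [Classical.choose_spec (hg (y * y')), map_mul, Classical.choose_spec (hg y),
        Classical.choose_spec (hg y')]
    rw [chr_eq_of_eq ι g hker φι hφι ε hε a b hab h1, map_mul]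

lemma chrY_g (n : N) : chrY ι g hg hker φι hφι ε hε a b hab (g n) = chr a n := by
  change chr a (Classical.choose (hg (g n))) = chr a n
  exact chr_eq_of_eq ι g hker φι hφι ε hε a b hab (Classical.choose_spec (hg (g n)))

/-- the map out of `R[Y]` -/
noncomputable def descHom : MonoidAlgebra R Y →+* T :=
  MonoidAlgebra.liftNCRingHom b (chrY ι g hg hker φι hφι ε hε a b hab) (fun _ _ => Commute.all _ _)

lemma descHom_single (y : Y) (r : R) :
    descHom ι g hg hker φι hφι ε hε a b hab (MonoidAlgebra.single y r) =
      b r * chrY ι g hg hker φι hφι ε hε a b hab y := by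
  simp [descHom, MonoidAlgebra.liftNCRingHom, MonoidAlgebra.liftNC_single]

include hφg in
lemma descHom_comp_φg : (descHom ι g hg hker φι hφι ε hε a b hab).comp φg = a := by
  apply MonoidAlgebra.ringHom_ext
  · intro r
    rw [RingHom.comp_apply, hφg, descHom_single, map_one, map_one, mul_one,
      a_single_one ι φι hφι ε hε a b hab]
  · intro n
    rw [RingHom.comp_apply, hφg, descHom_single, map_one, one_mul, chrY_g, chr_apply]

lemma descHom_comp_algebraMap :
    (descHom ι g hg hker φι hφι ε hε a b hab).comp (algebraMap R (MonoidAlgebra R Y)) = b := by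
  ext r
  rw [RingHom.comp_apply, MonoidAlgebra.coe_algebraMap, Function.comp_apply,
    Algebra.algebraMap_self, RingHom.id_apply, descHom_single, map_one, mul_one]

include hg hφg in
lemma hom_ext_φg {h₁ h₂ : MonoidAlgebra R Y →+* T}
    (ha : h₁.comp φg = h₂.comp φg)
    (hb : h₁.comp (algebraMap R _) = h₂.comp (algebraMap R _)) : h₁ = h₂ := by
  apply MonoidAlgebra.ringHom_ext
  · intro r
    have := congrArg (fun f => f r) hb
    simpa [MonoidAlgebra.coe_algebraMap] using this
  · intro y
    obtain ⟨n, rfl⟩ := hg y
    have := congrArg (fun f => f (MonoidAlgebra.single n 1)) ha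
    simpa [hφg] using this

end Desc

include hg hker hφι hφg hε in
theorem isPushout_quot (hgι : ∀ k, g (ι k) = 1) :
    IsPushout (CommRingCat.ofHom φι) (CommRingCat.ofHom ε) (CommRingCat.ofHom φg)
      (CommRingCat.ofHom (algebraMap R (MonoidAlgebra R Y))) := by
  have hw : CommRingCat.ofHom φι ≫ CommRingCat.ofHom φg =
      CommRingCat.ofHom ε ≫ CommRingCat.ofHom (algebraMap R (MonoidAlgebra R Y)) := by
    ext1
    apply MonoidAlgebra.ringHom_ext
    · intro r
      simp [hφι, hφg, hε, MonoidAlgebra.coe_algebraMap]
    · intro k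
      simp [hφι, hφg, hε, hgι, MonoidAlgebra.coe_algebraMap]
  have hcond : ∀ s : PushoutCocone (CommRingCat.ofHom φι) (CommRingCat.ofHom ε),
      s.inl.hom.comp φι = s.inr.hom.comp ε := by
    intro s
    have := congrArg (fun f => f.hom) s.condition
    simpa using this
  refine ⟨⟨hw⟩, ⟨PushoutCocone.IsColimit.mk _
    (fun s => CommRingCat.ofHom (descHom ι g hg hker φι hφι ε hε s.inl.hom s.inr.hom (hcond s)))
    ?_ ?_ ?_⟩⟩
  · intro s
    ext1
    exact descHom_comp_φg ι g hg hker φι hφι φg hφg ε hε _ _ (hcond s)
  · intro s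
    ext1
    exact descHom_comp_algebraMap ι g hg hker φι hφι ε hε _ _ (hcond s)
  · intro s m h1 h2
    ext1
    apply hom_ext_φg g hg φg hφg
    · rw [show (CommRingCat.ofHom (descHom ι g hg hker φι hφι ε hε s.inl.hom s.inr.hom
        (hcond s))).hom = descHom ι g hg hker φι hφι ε hε s.inl.hom s.inr.hom (hcond s) from rfl,
        descHom_comp_φg ι g hg hker φι hφι φg hφg ε hε _ _ (hcond s)]
      exact congrArg (fun f => f.hom) h1
    · rw [show (CommRingCat.ofHom (descHom ι g hg hker φι hφι ε hε s.inl.hom s.inr.hom
        (hcond s))).hom = descHom ι g hg hker φι hφι ε hε s.inl.hom s.inr.hom (hcond s) from rfl,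
        descHom_comp_algebraMap]
      exact congrArg (fun f => f.hom) h2

end Pushout


end Groth.Agent.Lib.DiagDescent27
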