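import Mathlib
import Groth.Agent.Lib.DiagDescent27

set_option autoImplicit false
universe u
open CategoryTheory CategoryTheory.Limits AlgebraicGeometry MonoidalCategory
  CartesianMonoidalCategory MonObj Magnet

namespace Groth.Agent.Lib.DiagDescent27

section Schemes

variable (R : Type u) [CommRing R] {M : Type} [AddCommGroup M] (Z : AddSubgroup M)

theorem faithfullyFlat_AMon_subtype :
    ((MonoidAlgebra.mapDomainBialgHom R
      (AddMonoidHom.toMultiplicative Z.toAddSubmonoid.subtype)).toAlgHom.toRingHom).FaithfullyFlat := by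
  refine faithfullyFlat_of_single R (AddMonoidHom.toMultiplicative Z.toAddSubmonoid.subtype) ?_
    (AddSubgroup.toSubgroup Z) ?_ _ ?_
  · intro x y h
    exact Subtype.ext h
  · intro g
    constructor
    · intro hg
      exact ⟨Multiplicative.ofAdd ⟨g.toAdd, hg⟩, rfl⟩
    · rintro ⟨h, rfl⟩
      exact h.toAdd.2
  · intro h r
    simp

instance flat_AMon_map_subtype : Flat (AMon.map R Z.toAddSubmonoid.subtype).left := by
  rw [AMon.map_left]
  exact ((flat_and_surjective_SpecMap_iff _).mpr (faithfullyFlat_AMon_subtype R Z)).1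

instance surjective_AMon_map_subtype : Surjective (AMon.map R Z.toAddSubmonoid.subtype).left := by
  rw [AMon.map_left]
  exact ((flat_and_surjective_SpecMap_iff _).mpr (faithfullyFlat_AMon_subtype R Z)).2

theorem isPullback_AMon_ker :
    IsPullback (AMon.map R (QuotientAddGroup.mk' Z)) (toUnit (AMon R (M ⧸ Z)))
      (AMon.map R Z.toAddSubmonoid.subtype) η[AMon R Z.toAddSubmonoid] := by
  have hpo := isPushout_quot (R := R)
    (AddMonoidHom.toMultiplicative Z.toAddSubmonoid.subtype)
    (AddMonoidHom.toMultiplicative (QuotientAddGroup.mk' Z))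
    (fun y => by
      obtain ⟨m, hm⟩ := QuotientAddGroup.mk'_surjective Z y.toAdd
      exact ⟨Multiplicative.ofAdd m, congrArg Multiplicative.ofAdd hm⟩)
    (fun n n' h => by
      have h' : (QuotientAddGroup.mk' Z) n.toAdd = (QuotientAddGroup.mk' Z) n'.toAdd :=
        congrArg Multiplicative.toAdd h
      rw [QuotientAddGroup.mk'_eq_mk'] at h'
      obtain ⟨z, hz, hz'⟩ := h'
      exact ⟨Multiplicative.ofAdd ⟨z, hz⟩, congrArg Multiplicative.ofAdd hz'.symm⟩)
    ((MonoidAlgebra.mapDomainBialgHom R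
      (AddMonoidHom.toMultiplicative Z.toAddSubmonoid.subtype)).toAlgHom.toRingHom)
    (fun k r => by simp)
    ((MonoidAlgebra.mapDomainBialgHom R
      (AddMonoidHom.toMultiplicative (QuotientAddGroup.mk' Z))).toAlgHom.toRingHom)
    (fun k r => by simp)
    (Bialgebra.counitAlgHom R (MonoidAlgebra R (Multiplicative Z.toAddSubmonoid)) : _ →+* R)
    (fun k r => by simp)
    (fun k => by
      have : (QuotientAddGroup.mk' Z) (k.toAdd : M) = 0 :=
        (QuotientAddGroup.eq_zero_iff _).mpr k.toAdd.2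
      exact congrArg Multiplicative.ofAdd this)
  have H := isPullback_SpecMap_of_isPushout _ _ _ _ hpo
  have hw : AMon.map R (QuotientAddGroup.mk' Z) ≫ AMon.map R Z.toAddSubmonoid.subtype =
      toUnit (AMon R (M ⧸ Z)) ≫ η[AMon R Z.toAddSubmonoid] := by
    ext1
    exact H.w
  exact IsPullback.of_map (Over.forget _) hw H

end Schemes

section OverS

variable (S : Scheme.{u}) {M : Type} [AddCommGroup M] (Z : AddSubgroup M)

theorem isPullback_AMonS_ker :
    IsPullback (AMonS.map S (QuotientAddGroup.mk' Z)) (toUnit (AMonS S (M ⧸ Z)))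
      (AMonS.map S Z.toAddSubmonoid.subtype) η[AMonS S Z.toAddSubmonoid] := by
  have H := (isPullback_AMon_ker (ULift.{u} ℤ) Z).map
    (Over.pullback (Limits.IsTerminal.from specULiftZIsTerminal S))
  refine IsPullback.of_iso H (Iso.refl _) (Iso.refl _)
    (asIso (Functor.LaxMonoidal.ε
      (Over.pullback (Limits.IsTerminal.from specULiftZIsTerminal S)))).symm (Iso.refl _)
    ?_ ?_ ?_ ?_
  · simp [AMonS.map]
  · exact toUnit_unique _ _
  · simp [AMonS.map]
  · rw [Functor.obj.η_def]
    simp

/-- base change of a morphism over `T` along `q : T' ⟶ T` is a base change of the underlying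
morphism of schemes -/
theorem isPullback_pullback_map_left {T T' : Scheme.{u}} (q : T' ⟶ T) {A B : Over T} (k : A ⟶ B) :
    IsPullback ((Over.pullback q).map k).left (pullback.fst A.hom q) (pullback.fst B.hom q)
      k.left := by
  have hk : ((Over.pullback q).map k).left ≫ pullback.fst B.hom q = pullback.fst A.hom q ≫ k.left := by
    dsimp only [Over.pullback]; exact pullback.lift_fst _ _ _
  have hk2 : ((Over.pullback q).map k).left ≫ pullback.snd B.hom q = pullback.snd A.hom q := by
    dsimp only [Over.pullback]; exact pullback.lift_snd _ _ _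
  refine IsPullback.of_right ?_ hk (IsPullback.of_hasPullback B.hom q).flip
  rw [hk2, Over.w k]
  exact (IsPullback.of_hasPullback A.hom q).flip

theorem isPullback_whiskerRight_left {P Q : Over S} (q : P ⟶ Q) (T : Over S) :
    IsPullback (q ▷ T).left (pullback.fst P.hom T.hom) (pullback.fst Q.hom T.hom) q.left := by
  refine IsPullback.flip (IsPullback.of_bot ?_ (Over.whiskerRight_left_fst q).symm
    (IsPullback.of_hasPullback Q.hom T.hom))
  rw [Over.whiskerRight_left_snd, Over.w q]
  exact IsPullback.of_hasPullback P.hom T.hom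

theorem isPullback_whiskerLeft_left (A : Over S) {P Q : Over S} (q : P ⟶ Q) :
    IsPullback (A ◁ q).left (pullback.snd A.hom P.hom) (pullback.snd A.hom Q.hom) q.left := by
  refine IsPullback.flip (IsPullback.of_bot ?_ (Over.whiskerLeft_left_snd q).symm
    (IsPullback.of_hasPullback A.hom Q.hom).flip)
  rw [Over.whiskerLeft_left_fst, Over.w q]
  exact (IsPullback.of_hasPullback A.hom P.hom).flip

/-- a class of "fpqc covers" -/
structure IsFpqc {X Y : Scheme.{u}} (f : X ⟶ Y) : Prop where
  flat : Flat f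
  surj : Surjective f
  qc : QuasiCompact f

theorem IsFpqc.of_isPullback {X Y X' Y' : Scheme.{u}} {f : X ⟶ Y} {f' : X' ⟶ Y'} {a : X' ⟶ X}
    {b : Y' ⟶ Y} (sq : IsPullback f' a b f) (hf : IsFpqc f) : IsFpqc f' :=
  ⟨MorphismProperty.of_isPullback sq.flip hf.flat, MorphismProperty.of_isPullback sq.flip hf.surj,
    MorphismProperty.of_isPullback sq.flip hf.qc⟩

theorem IsFpqc.effectiveEpi {X Y : Scheme.{u}} {f : X ⟶ Y} (hf : IsFpqc f) : EffectiveEpi f := by
  have := hf.flat
  have := hf.surj
  have := hf.qc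
  infer_instance

theorem isFpqc_AMonS_map_subtype : IsFpqc (AMonS.map S Z.toAddSubmonoid.subtype).left := by
  refine IsFpqc.of_isPullback (isPullback_pullback_map_left _ _) ⟨inferInstance, inferInstance, ?_⟩
  have h1 : IsAffine (AMon (ULift.{u} ℤ) M).left :=
    inferInstanceAs (IsAffine (Spec _))
  have h2 : IsAffine (AMon (ULift.{u} ℤ) Z.toAddSubmonoid).left :=
    inferInstanceAs (IsAffine (Spec _))
  have : IsAffineHom (AMon.map (ULift.{u} ℤ) Z.toAddSubmonoid.subtype).left :=
    isAffineHom_of_isAffine _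
  infer_instance

theorem IsFpqc.whiskerRight {P Q : Over S} {q : P ⟶ Q} (hq : IsFpqc q.left) (T : Over S) :
    IsFpqc (q ▷ T).left :=
  IsFpqc.of_isPullback (isPullback_whiskerRight_left S q T) hq

theorem IsFpqc.whiskerLeft (A : Over S) {P Q : Over S} {q : P ⟶ Q} (hq : IsFpqc q.left) :
    IsFpqc (A ◁ q).left :=
  IsFpqc.of_isPullback (isPullback_whiskerLeft_left S A q) hq

theorem IsFpqc.epi {P Q : Over S} {q : P ⟶ Q} (hq : IsFpqc q.left) : Epi q := by
  have := hq.effectiveEpi
  have : Epi q.left := inferInstance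
  exact Over.epi_of_epi_left q

/-- descent of morphisms in `Over S` along an fpqc cover -/
theorem exists_desc_of_isFpqc {P Q X : Over S} (q : P ⟶ Q) (hq : IsFpqc q.left) (u : P ⟶ X)
    (h : ∀ (W : Over S) (g₁ g₂ : W ⟶ P), g₁ ≫ q = g₂ ≫ q → g₁ ≫ u = g₂ ≫ u) :
    ∃ v : Q ⟶ X, q ≫ v = u := by
  have := hq.effectiveEpi
  have h' : ∀ {W₀ : Scheme.{u}} (g₁ g₂ : W₀ ⟶ P.left), g₁ ≫ q.left = g₂ ≫ q.left →
      g₁ ≫ u.left = g₂ ≫ u.left := by
    intro W₀ g₁ g₂ hg
    have e : g₂ ≫ P.hom = g₁ ≫ P.hom := by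
      rw [← Over.w q, ← Category.assoc, ← hg, Category.assoc]
    have := h (Over.mk (g₁ ≫ P.hom)) (Over.homMk g₁ rfl) (Over.homMk g₂ e)
      (Over.OverMorphism.ext hg)
    exact congrArg (fun f => f.left) this
  have hv₀ : q.left ≫ EffectiveEpi.desc q.left u.left h' = u.left := EffectiveEpi.fac _ _ _
  have hepi : Epi q.left := inferInstance
  refine ⟨Over.homMk (EffectiveEpi.desc q.left u.left h') ?_, Over.OverMorphism.ext hv₀⟩
  rw [← cancel_epi q.left, ← Category.assoc, hv₀, Over.w, Over.w]

end OverS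


end Groth.Agent.Lib.DiagDescent27
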