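import Mathlib
import Groth.Agent.Lib.DiagDescent27b

set_option autoImplicit false
universe u
open CategoryTheory CategoryTheory.Limits AlgebraicGeometry MonoidalCategory
  CartesianMonoidalCategory MonObj Magnet

namespace Groth.Agent.Lib.DiagDescent27

section General

variable (R : Type u) [CommRing R]

/-- kernel square for monoids over `Spec R` -/
theorem isPullback_AMon_ker' {K N Y : Type} [AddCommMonoid K] [AddCommMonoid N] [AddCommMonoid Y]
    (i₀ : K →+ N) (g : N →+ Y) (hg : Function.Surjective g)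
    (hker : ∀ n n', g n = g n' → ∃ k, n' = n + i₀ k) (hgι : ∀ k, g (i₀ k) = 0) :
    IsPullback (AMon.map R g) (toUnit (AMon R Y)) (AMon.map R i₀) η[AMon R K] := by
  have hpo := isPushout_quot (R := R)
    (AddMonoidHom.toMultiplicative i₀) (AddMonoidHom.toMultiplicative g)
    (fun y => by
      obtain ⟨m, hm⟩ := hg y.toAdd
      exact ⟨Multiplicative.ofAdd m, congrArg Multiplicative.ofAdd hm⟩)
    (fun n n' h => by
      obtain ⟨k, hk⟩ := hker n.toAdd n'.toAdd (congrArg Multiplicative.toAdd h)
      exact ⟨Multiplicative.ofAdd k, congrArg Multiplicative.ofAdd hk⟩)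
    ((MonoidAlgebra.mapDomainBialgHom R (AddMonoidHom.toMultiplicative i₀)).toAlgHom.toRingHom)
    (fun k r => by simp)
    ((MonoidAlgebra.mapDomainBialgHom R (AddMonoidHom.toMultiplicative g)).toAlgHom.toRingHom)
    (fun k r => by simp)
    (Bialgebra.counitAlgHom R (MonoidAlgebra R (Multiplicative K)) : _ →+* R)
    (fun k r => by simp)
    (fun k => congrArg Multiplicative.ofAdd (hgι k.toAdd))
  have H := isPullback_SpecMap_of_isPushout _ _ _ _ hpo
  have hw : AMon.map R g ≫ AMon.map R i₀ = toUnit (AMon R Y) ≫ η[AMon R K] := by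
    ext1
    exact H.w
  exact IsPullback.of_map (Over.forget _) hw H

theorem faithfullyFlat_AMon_of_injective {A B : Type} [AddCommGroup A] [AddCommGroup B]
    (j : A →+ B) (hj : Function.Injective j) :
    ((MonoidAlgebra.mapDomainBialgHom R (AddMonoidHom.toMultiplicative j)).toAlgHom.toRingHom).FaithfullyFlat := by
  refine faithfullyFlat_of_single R (AddMonoidHom.toMultiplicative j) ?_
    (AddSubgroup.toSubgroup j.range) ?_ _ ?_
  · intro x y h
    exact hj h
  · intro g
    constructor
    · rintro ⟨a, ha⟩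
      exact ⟨Multiplicative.ofAdd a, congrArg Multiplicative.ofAdd ha⟩
    · rintro ⟨h, rfl⟩
      exact ⟨h.toAdd, rfl⟩
  · intro h r
    simp

end General

section OverS

variable (S : Scheme.{u})

theorem isPullback_AMonS_ker' {K N Y : Type} [AddCommMonoid K] [AddCommMonoid N] [AddCommMonoid Y]
    (i₀ : K →+ N) (g : N →+ Y) (hg : Function.Surjective g)
    (hker : ∀ n n', g n = g n' → ∃ k, n' = n + i₀ k) (hgι : ∀ k, g (i₀ k) = 0) :
    IsPullback (AMonS.map S g) (toUnit (AMonS S Y)) (AMonS.map S i₀) η[AMonS S K] := by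
  have H := (isPullback_AMon_ker' (ULift.{u} ℤ) i₀ g hg hker hgι).map
    (Over.pullback (Limits.IsTerminal.from specULiftZIsTerminal S))
  refine IsPullback.of_iso H (Iso.refl _) (Iso.refl _)
    (asIso (Functor.LaxMonoidal.ε
      (Over.pullback (Limits.IsTerminal.from specULiftZIsTerminal S)))).symm (Iso.refl _)
    ?_ ?_ ?_ ?_
  · simp [AMonS.map]
  · exact toUnit_unique _ _
  · simp [AMonS.map]
  · rw [Functor.obj.η_def]
    simp

theorem isFpqc_AMonS_map_of_injective {A B : Type} [AddCommGroup A] [AddCommGroup B]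
    (j : A →+ B) (hj : Function.Injective j) : IsFpqc (AMonS.map S j).left := by
  have hff : Flat (Spec.map (CommRingCat.ofHom (MonoidAlgebra.mapDomainBialgHom (ULift.{u} ℤ)
      (AddMonoidHom.toMultiplicative j)).toAlgHom.toRingHom)) ∧
      Surjective (Spec.map (CommRingCat.ofHom (MonoidAlgebra.mapDomainBialgHom (ULift.{u} ℤ)
      (AddMonoidHom.toMultiplicative j)).toAlgHom.toRingHom)) :=
    (flat_and_surjective_SpecMap_iff _).mpr
      (faithfullyFlat_AMon_of_injective (ULift.{u} ℤ) j hj)
  have h1 : IsAffine (AMon (ULift.{u} ℤ) B).left := inferInstanceAs (IsAffine (Spec _))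
  have h2 : IsAffine (AMon (ULift.{u} ℤ) A).left := inferInstanceAs (IsAffine (Spec _))
  have h3 : IsAffineHom (AMon.map (ULift.{u} ℤ) j).left := isAffineHom_of_isAffine _
  refine IsFpqc.of_isPullback (isPullback_pullback_map_left _ _) ⟨?_, ?_, inferInstance⟩
  · rw [AMon.map_left]; exact hff.1
  · rw [AMon.map_left]; exact hff.2

theorem IsFpqc.of_isPullback_over {P Q P' Q' : Over S} {f : P ⟶ Q} {f' : P' ⟶ Q'} {a : P' ⟶ P}
    {b : Q' ⟶ Q} (sq : IsPullback f' a b f) (hf : IsFpqc f.left) : IsFpqc f'.left :=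
  IsFpqc.of_isPullback (sq.map (Over.forget S)) hf

end OverS

end Groth.Agent.Lib.DiagDescent27
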