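import Mathlib
import Groth.Agent.Lib.DiagDescent27c

set_option autoImplicit false
universe u
open CategoryTheory CategoryTheory.Limits AlgebraicGeometry MonoidalCategory
  CartesianMonoidalCategory MonObj Magnet

namespace Groth.Agent.Lib.DiagDescent27

section Induction

variable (S : Scheme.{u}) {M : Type} [AddCommGroup M] (N : AddSubmonoid M) (K : AddSubgroup M)
  (hKN : K.toAddSubmonoid ≤ N) {Y : Type} [AddCommMonoid Y] (g : N →+ Y)
  (hg : Function.Surjective g)
  (hker : ∀ n n' : N, g n = g n' → ∃ k : K.toAddSubmonoid, n' = n + AddSubmonoid.inclusion hKN k)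
  (hgK : ∀ k : K.toAddSubmonoid, g (AddSubmonoid.inclusion hKN k) = 0)

/-- the "induction" map `D(M) ⊗ (A(Y) ⊗ T) ⟶ A(N) ⊗ T`, `(d, y, t) ↦ (d|_N · g^*(y), t)` -/
noncomputable def indMap (T : Over S) : AMonS S M ⊗ (AMonS S Y ⊗ T) ⟶ AMonS S N ⊗ T :=
  (AMonS S M ◁ (AMonS.map S g ▷ T)) ≫
    ((subAct S M N).prod (MonAct.trivial (AMonS S M) T)).act

@[reassoc]
theorem lift_indMap (T : Over S) {W : Over S} (d : W ⟶ AMonS S M) (y : W ⟶ AMonS S Y)
    (t : W ⟶ T) :
    lift d (lift y t) ≫ indMap S N g T =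
      lift ((d ≫ AMonS.map S N.subtype) * (y ≫ AMonS.map S g)) t := by
  unfold indMap
  rw [lift_whiskerLeft_assoc, lift_whiskerRight, MonAct.lift_prod_act, MonAct.lift_trivial_act]
  congr 1
  unfold subAct
  rw [MonAct.lift_restrict_act, MonAct.lift_regular_act]


include hg hker hgK in
theorem isPullback_indMap (T : Over S) :
    IsPullback (indMap S N g T) (fst (AMonS S M) (AMonS S Y ⊗ T))
      (fst (AMonS S N) T ≫ AMonS.map S (AddSubmonoid.inclusion hKN))
      (AMonS.map S K.toAddSubmonoid.subtype) := by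
  have hKer := isPullback_AMonS_ker' S (AddSubmonoid.inclusion hKN) g hg hker hgK
  have hres : AMonS.map S N.subtype ≫ AMonS.map S (AddSubmonoid.inclusion hKN) =
      AMonS.map S K.toAddSubmonoid.subtype := by
    rw [← AMonS.map_comp]; rfl
  have hgr : ∀ {W : Over S} (y : W ⟶ AMonS S Y),
      (y ≫ AMonS.map S g) ≫ AMonS.map S (AddSubmonoid.inclusion hKN) = 1 := by
    intro W y
    rw [Category.assoc, hKer.w, ← Category.assoc, toUnit_unique (y ≫ toUnit _) (toUnit W),
      Hom.one_def]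
  have hw : indMap S N g T ≫ fst (AMonS S N) T ≫ AMonS.map S (AddSubmonoid.inclusion hKN) =
      fst (AMonS S M) (AMonS S Y ⊗ T) ≫ AMonS.map S K.toAddSubmonoid.subtype := by
    apply Magnet.hom_ext_lift₂
    intro W d w
    have hw' : w = lift (w ≫ fst _ _) (w ≫ snd _ _) := (lift_comp_fst_snd w).symm
    generalize w ≫ fst _ _ = y at hw'
    generalize w ≫ snd _ _ = t at hw'
    subst hw'
    rw [lift_indMap_assoc, lift_fst_assoc, lift_fst_assoc, MonObj.mul_comp, hgr, _root_.mul_one,
      Category.assoc, hres]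
  refine ⟨⟨hw⟩, ⟨PullbackCone.IsLimit.mk _
    (fun s => lift s.snd (lift (hKer.lift (((s.snd)⁻¹ ≫ AMonS.map S N.subtype) * (s.fst ≫ fst _ _))
      (toUnit s.pt) (by
        rw [MonObj.mul_comp, Category.assoc, hres, Category.assoc, s.condition, ← MonObj.mul_comp,
          inv_mul_cancel, MonObj.one_comp, Hom.one_def])) (s.fst ≫ snd _ _))) ?_ ?_ ?_⟩⟩
  · intro s
    rw [lift_indMap, hKer.lift_fst, ← _root_.mul_assoc, ← MonObj.mul_comp, mul_inv_cancel,
      MonObj.one_comp, _root_.one_mul, lift_comp_fst_snd]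
  · intro s
    exact lift_fst _ _
  · intro s m h1 h2
    have hm' : m = lift (m ≫ fst _ _) (lift ((m ≫ snd _ _) ≫ fst _ _) ((m ≫ snd _ _) ≫ snd _ _)) := by
      rw [lift_comp_fst_snd, lift_comp_fst_snd]
    generalize m ≫ fst _ _ = d at hm' h2
    generalize (m ≫ snd _ _) ≫ fst _ _ = y at hm'
    generalize (m ≫ snd _ _) ≫ snd _ _ = t at hm'
    subst hm'
    subst h2
    rw [lift_indMap] at h1
    have h1a := congrArg (fun f => f ≫ fst _ _) h1
    have h1b := congrArg (fun f => f ≫ snd _ _) h1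
    simp only [lift_fst, lift_snd] at h1a h1b
    congr 1
    apply CartesianMonoidalCategory.hom_ext
    · rw [lift_fst, lift_fst]
      apply hKer.hom_ext
      · rw [hKer.lift_fst, ← h1a, ← _root_.mul_assoc, ← MonObj.mul_comp, inv_mul_cancel,
          MonObj.one_comp, _root_.one_mul]
      · exact toUnit_unique _ _
    · rw [lift_snd, lift_snd, h1b]

include K hKN hg hker hgK in
theorem isFpqc_indMap (T : Over S) : IsFpqc (indMap S N g T).left :=
  IsFpqc.of_isPullback_over S (isPullback_indMap S N K hKN g hg hker hgK T)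
    (isFpqc_AMonS_map_subtype S K)

end Induction

section Lift

variable (S : Scheme.{u}) {M Z' : Type} [AddCommGroup M] [AddCommGroup Z'] (f : M →+ Z')

/-- a point of `D(M)` trivial on `ker f` lifts fpqc-locally to `D(Z')` -/
theorem exists_fpqc_lift {W : Over S} (d : W ⟶ AMonS S M)
    (hd : d ≫ AMonS.map S f.ker.toAddSubmonoid.subtype = 1) :
    ∃ (W' : Over S) (c : W' ⟶ W) (z : W' ⟶ AMonS S Z'),
      IsFpqc c.left ∧ c ≫ d = z ≫ AMonS.map S f := by
  have hKer := isPullback_AMonS_ker S f.ker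
  have hcond : d ≫ AMonS.map S f.ker.toAddSubmonoid.subtype =
      toUnit W ≫ η[AMonS S f.ker.toAddSubmonoid] := by rw [hd, Hom.one_def]
  have hk : hKer.lift d (toUnit W) hcond ≫ AMonS.map S (QuotientAddGroup.mk' f.ker) = d :=
    hKer.lift_fst _ _ _
  have hF : AMonS.map S f = AMonS.map S (QuotientAddGroup.kerLift f) ≫
      AMonS.map S (QuotientAddGroup.mk' f.ker) := by
    rw [← AMonS.map_comp]
    congr 1
  refine ⟨pullback (hKer.lift d (toUnit W) hcond) (AMonS.map S (QuotientAddGroup.kerLift f)),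
    pullback.fst _ _, pullback.snd _ _, ?_, ?_⟩
  · exact IsFpqc.of_isPullback_over S (IsPullback.of_hasPullback _ _)
      (isFpqc_AMonS_map_of_injective S _ (QuotientAddGroup.kerLift_injective f))
  · rw [hF, ← Category.assoc, ← pullback.condition, Category.assoc, hk]

end Lift

end Groth.Agent.Lib.DiagDescent27
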