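import Mathlib

/-!
# Diagonal idempotent for a finite algebra étale away from `h` (helper75)

`C` a finite `A`-algebra, `L = C_h` unramified over `A`.  Then there is `e : L ⊗[A] C`
with `μ e = 1` and `(c/1 ⊗ 1 - 1 ⊗ c) * e = 0` for all `c : C`.
-/

set_option autoImplicit false

open TensorProduct

namespace Groth.Agent.Lib.DiagIdem75

variable {A C L : Type*} [CommRing A] [CommRing C] [CommRing L] [Algebra A C] [Algebra C L]
  [Algebra A L] [IsScalarTower A C L]

/-- the map `C ⊗ L → L ⊗ L` -/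
noncomputable def rho : C ⊗[A] L →ₐ[A] L ⊗[A] L :=
  Algebra.TensorProduct.map (IsScalarTower.toAlgHom A C L) (AlgHom.id A L)

/-- the multiplication map `C ⊗ L → L` -/
noncomputable def mu' : C ⊗[A] L →ₐ[A] L :=
  Algebra.TensorProduct.productMap (IsScalarTower.toAlgHom A C L) (AlgHom.id A L)

/-- the multiplication map `L ⊗ C → L` -/
noncomputable def mu : L ⊗[A] C →ₐ[A] L :=
  Algebra.TensorProduct.productMap (AlgHom.id A L) (IsScalarTower.toAlgHom A C L)

@[simp] lemma rho_tmul (c : C) (x : L) : rho (A := A) (c ⊗ₜ[A] x) = algebraMap C L c ⊗ₜ[A] x := by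
  simp [rho]

@[simp] lemma mu'_tmul (c : C) (x : L) : mu' (A := A) (c ⊗ₜ[A] x) = algebraMap C L c * x := by
  simp [mu']

@[simp] lemma mu_tmul (x : L) (c : C) : mu (A := A) (x ⊗ₜ[A] c) = x * algebraMap C L c := by
  simp [mu]

lemma lmul'_rho (b : C ⊗[A] L) : Algebra.TensorProduct.lmul' A (rho b) = mu' b := by
  induction b with
  | zero => simp
  | tmul c x => simp
  | add x y hx hy => simp [hx, hy]

lemma rTensor_eq_rho (b : C ⊗[A] L) :
    AlgebraTensorModule.rTensor A L (Algebra.linearMap C L) b = rho b := by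
  induction b with
  | zero => simp
  | tmul c x => simp
  | add x y hx hy => simp only [map_add, hx, hy]

lemma smul_eq_mul_tmul (c : C) (t : L ⊗[A] L) :
    c • t = (algebraMap C L c ⊗ₜ[A] (1 : L)) * t := by
  induction t with
  | zero => simp
  | tmul x y => simp [TensorProduct.smul_tmul', Algebra.smul_def]
  | add x y hx hy => simp only [smul_add, mul_add, hx, hy]

lemma smul_eq_mul_tmul' (c : C) (t : C ⊗[A] L) :
    c • t = (c ⊗ₜ[A] (1 : L)) * t := by
  induction t with
  | zero => simp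
  | tmul x y => simp [TensorProduct.smul_tmul']
  | add x y hx hy => simp only [smul_add, mul_add, hx, hy]


/-- the element `c ⊗ 1 - 1 ⊗ c/1` of `C ⊗ L`, as an `A`-linear function of `c`. -/
noncomputable def kk : C →ₗ[A] C ⊗[A] L :=
  (TensorProduct.mk A C L).flip 1 - (TensorProduct.mk A C L 1) ∘ₗ (IsScalarTower.toAlgHom A C L).toLinearMap

@[simp] lemma kk_apply (c : C) : kk (A := A) (L := L) c = c ⊗ₜ[A] (1 : L) - (1 : C) ⊗ₜ[A] algebraMap C L c := by
  simp [kk]

theorem exists_diag' [Module.Finite A C] (h : C) [IsLocalization.Away h L]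
    [Algebra.FormallyUnramified A L] [Algebra.EssFiniteType A L] :
    ∃ e : C ⊗[A] L, mu' e = 1 ∧
      ∀ c : C, (c ⊗ₜ[A] (1 : L) - (1 : C) ⊗ₜ[A] algebraMap C L c) * e = 0 := by
  classical
  obtain ⟨t, ht, ht1⟩ :=
    (Algebra.FormallyUnramified.iff_exists_tensorProduct (R := A) (S := L)).mp inferInstance
  have : IsLocalizedModule (Submonoid.powers h) (Algebra.linearMap C L) := inferInstance
  set G := AlgebraTensorModule.rTensor A L (Algebra.linearMap C L) with hGdef
  have hG : ∀ b, G b = rho b := rTensor_eq_rho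
  obtain ⟨⟨t₀, s⟩, hs⟩ := IsLocalizedModule.surj (Submonoid.powers h) G t
  obtain ⟨n, hn⟩ := s.2
  have hn' : (s : C) = h ^ n := hn.symm
  -- hs : s • t = G t₀
  have hs' : rho t₀ = (algebraMap C L (h ^ n) ⊗ₜ[A] (1 : L)) * t := by
    rw [← hG, ← smul_eq_mul_tmul, ← hn']; exact hs.symm
  -- each kk c * t₀ is killed by a power of h
  have key : ∀ c : C, ∃ N : ℕ, (h ^ N) • (kk (A := A) (L := L) c * t₀) = 0 := by
    intro c
    have h0 : G (kk (A := A) (L := L) c * t₀) = G 0 := by
      rw [hG, hG, map_mul, hs', map_zero, kk_apply, map_sub, rho_tmul, rho_tmul, map_one]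
      have := ht (algebraMap C L c)
      calc (algebraMap C L c ⊗ₜ[A] (1 : L) - (1 : L) ⊗ₜ[A] algebraMap C L c) *
            ((algebraMap C L (h ^ n) ⊗ₜ[A] (1 : L)) * t)
          = - ((algebraMap C L (h ^ n) ⊗ₜ[A] (1 : L)) *
              (((1 : L) ⊗ₜ[A] algebraMap C L c - algebraMap C L c ⊗ₜ[A] (1 : L)) * t)) := by ring
        _ = 0 := by rw [this]; simp
    obtain ⟨s', hs'⟩ := IsLocalizedModule.exists_of_eq (S := Submonoid.powers h) (f := G) h0
    obtain ⟨N, hN⟩ := s'.2
    have hN' : (s' : C) = h ^ N := hN.symm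
    refine ⟨N, ?_⟩
    rw [← hN']
    simpa [Submonoid.smul_def] using hs'
  obtain ⟨S, hS⟩ := (Module.finite_def (R := A) (M := C)).mp inferInstance
  choose Nf hNf using key
  set N := S.sup Nf with hNdef
  have hkill : ∀ c : C, kk (A := A) (L := L) c * ((h ^ N) • t₀) = 0 := by
    intro c
    have hc : c ∈ Submodule.span A (S : Set C) := by rw [hS]; trivial
    induction hc using Submodule.span_induction with
    | mem x hx =>
      have hle : Nf x ≤ N := Finset.le_sup hx
      obtain ⟨k, hk⟩ := Nat.exists_eq_add_of_le hle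
      have := hNf x
      rw [mul_smul_comm, hk, add_comm, pow_add, mul_smul, this, smul_zero]
    | zero => simp
    | add x y _ _ hx hy => rw [map_add, add_mul, hx, hy, add_zero]
    | smul a x _ hx => rw [map_smul, smul_mul_assoc, hx, smul_zero]
  -- the unit
  have hmu0 : mu' t₀ = algebraMap C L (h ^ n) := by
    rw [← lmul'_rho, hs', map_mul, ht1, mul_one]
    simp
  have hunit : IsUnit (algebraMap C L (h ^ (N + n))) := by
    rw [map_pow]
    exact (IsLocalization.Away.algebraMap_isUnit h).pow _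
  obtain ⟨u, hu⟩ := hunit
  refine ⟨((h ^ N) • t₀) * ((1 : C) ⊗ₜ[A] (↑u⁻¹ : L)), ?_, ?_⟩
  · rw [map_mul, smul_eq_mul_tmul', map_mul, hmu0, mu'_tmul, mu'_tmul, mul_one, map_one, one_mul,
      ← map_mul, ← pow_add, ← hu]
    simp
  · intro c
    rw [← mul_assoc, ← kk_apply, hkill, zero_mul]


lemma mu_comm (b : C ⊗[A] L) : mu (Algebra.TensorProduct.comm A C L b) = mu' b := by
  induction b with
  | zero => simp
  | tmul c x => simp [mul_comm]
  | add x y hx hy => simp only [map_add, hx, hy]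

theorem exists_diag [Module.Finite A C] (h : C) [IsLocalization.Away h L]
    [Algebra.FormallyUnramified A L] [Algebra.EssFiniteType A L] :
    ∃ e : L ⊗[A] C, mu e = 1 ∧
      ∀ c : C, (algebraMap C L c ⊗ₜ[A] (1 : C)) * e = ((1 : L) ⊗ₜ[A] c) * e := by
  obtain ⟨e', h1, h2⟩ := exists_diag' (A := A) (L := L) h
  refine ⟨Algebra.TensorProduct.comm A C L e', ?_, ?_⟩
  · rw [mu_comm, h1]
  · intro c
    have := congrArg (Algebra.TensorProduct.comm A C L) (h2 c)
    rw [map_mul, map_sub, map_zero, Algebra.TensorProduct.comm_tmul,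
      Algebra.TensorProduct.comm_tmul, sub_mul, sub_eq_zero] at this
    exact this.symm

section split

variable {R M Q : Type*} [CommRing R] [AddCommGroup M] [Module R M] [AddCommGroup Q] [Module R Q]

/-- A split surjection decomposes the source. -/
noncomputable def splitEquiv (π : M →ₗ[R] Q) (σ : Q →ₗ[R] M) (hπσ : ∀ a, π (σ a) = a) :
    M ≃ₗ[R] Q × LinearMap.ker π :=
  LinearEquiv.ofLinearMap
    (LinearMap.prod π ((LinearMap.id - σ ∘ₗ π).codRestrict (LinearMap.ker π) (fun x => by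
      simp [hπσ])))
    (LinearMap.coprod σ (LinearMap.ker π).subtype)
    (by
      apply LinearMap.ext
      rintro ⟨a, k⟩
      apply Prod.ext
      · simp [hπσ]
      · apply Subtype.ext
        simp [hπσ])
    (by
      apply LinearMap.ext
      intro x
      simp)

lemma splitEquiv_apply_fst (π : M →ₗ[R] Q) (σ : Q →ₗ[R] M) (hπσ : ∀ a, π (σ a) = a) (x : M) :
    (splitEquiv π σ hπσ x).1 = π x := rfl

lemma splitEquiv_apply_snd (π : M →ₗ[R] Q) (σ : Q →ₗ[R] M) (hπσ : ∀ a, π (σ a) = a) (x : M) :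
    ((splitEquiv π σ hπσ x).2 : M) = x - σ (π x) := rfl

lemma ker_snd_splitEquiv (π : M →ₗ[R] Q) (σ : Q →ₗ[R] M) (hπσ : ∀ a, π (σ a) = a) :
    LinearMap.ker ((LinearMap.snd R Q (LinearMap.ker π)) ∘ₗ (splitEquiv π σ hπσ).toLinearMap) =
      LinearMap.range σ := by
  ext x
  rw [LinearMap.mem_ker, LinearMap.mem_range, LinearMap.comp_apply, LinearMap.snd_apply,
    LinearEquiv.coe_coe, ← Submodule.coe_eq_zero, splitEquiv_apply_snd, sub_eq_zero]
  constructor
  · intro hx
    exact ⟨π x, hx.symm⟩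
  · rintro ⟨a, rfl⟩
    rw [hπσ]

end split


section main

variable (J : Ideal C)

/-- the quotient map `L ⊗ C → L ⊗ C/J` -/
noncomputable def qq : L ⊗[A] C →ₗ[L] L ⊗[A] (C ⧸ J) :=
  LinearMap.baseChange L (Ideal.Quotient.mkₐ A J).toLinearMap

variable (A L) in
/-- the map `L ⊗ C/J → L/JL` -/
noncomputable def pp : L ⊗[A] (C ⧸ J) →ₗ[L] L ⧸ J.map (algebraMap C L) :=
  LinearMap.liftBaseChange L
    (Ideal.quotientMapₐ (J.map (algebraMap C L)) (IsScalarTower.toAlgHom A C L)
      Ideal.le_comap_map).toLinearMap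

lemma qq_tmul (x : L) (c : C) : qq (A := A) J (x ⊗ₜ[A] c) = x ⊗ₜ[A] Ideal.Quotient.mk J c := by
  simp [qq]

lemma pp_tmul (x : L) (c : C) :
    pp A L J (x ⊗ₜ[A] Ideal.Quotient.mk J c) =
      Ideal.Quotient.mk (J.map (algebraMap C L)) (x * algebraMap C L c) := by
  rw [pp, LinearMap.liftBaseChange_tmul, AlgHom.toLinearMap_apply]
  have : (Ideal.quotientMapₐ (J.map (algebraMap C L)) (IsScalarTower.toAlgHom A C L)
      Ideal.le_comap_map) (Ideal.Quotient.mk J c) =
      Ideal.Quotient.mk (J.map (algebraMap C L)) (algebraMap C L c) := rfl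
  rw [this, Algebra.smul_def, map_mul]
  rfl

lemma pp_qq (b : L ⊗[A] C) :
    pp A L J (qq J b) = Ideal.Quotient.mk (J.map (algebraMap C L)) (mu b) := by
  induction b with
  | zero => simp
  | tmul x c => rw [qq_tmul, pp_tmul, mu_tmul]
  | add x y hx hy => simp only [map_add, hx, hy]

lemma qq_mul_of_mem {j : C} (hj : j ∈ J) (b : L ⊗[A] C) :
    qq (A := A) (L := L) J (((1 : L) ⊗ₜ[A] j) * b) = 0 := by
  induction b with
  | zero => simp
  | tmul x c =>
    rw [Algebra.TensorProduct.tmul_mul_tmul, qq_tmul]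
    have : Ideal.Quotient.mk J (j * c) = 0 :=
      Ideal.Quotient.eq_zero_iff_mem.mpr (J.mul_mem_right c hj)
    rw [this, TensorProduct.tmul_zero]
  | add x y hx hy => rw [mul_add, map_add, hx, hy, add_zero]

lemma smul_eq_tmul_mul (y : L) (b : L ⊗[A] C) : y • b = (y ⊗ₜ[A] (1 : C)) * b := by
  induction b with
  | zero => simp
  | tmul x c => simp [TensorProduct.smul_tmul']
  | add x y hx hy => simp only [smul_add, mul_add, hx, hy]

theorem exists_section [Module.Finite A C] (h : C) [IsLocalization.Away h L]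
    [Algebra.FormallyUnramified A L] [Algebra.EssFiniteType A L] :
    ∃ σ : (L ⧸ J.map (algebraMap C L)) →ₗ[L] L ⊗[A] (C ⧸ J), ∀ a, pp A L J (σ a) = a := by
  obtain ⟨e, he1, he2⟩ := exists_diag (A := A) (L := L) h
  set ε := qq (A := A) (L := L) J e with hε
  have hann : J.map (algebraMap C L) ≤ LinearMap.ker (LinearMap.toSpanSingleton L _ ε) := by
    rw [Ideal.map_le_iff_le_comap]
    intro j hj
    rw [Ideal.mem_comap, LinearMap.mem_ker, LinearMap.toSpanSingleton_apply, hε, ← map_smul,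
      smul_eq_tmul_mul, he2, qq_mul_of_mem J hj]
  refine ⟨Submodule.liftQ _ (LinearMap.toSpanSingleton L _ ε) hann, ?_⟩
  intro a
  obtain ⟨x, rfl⟩ := Ideal.Quotient.mk_surjective a
  have : (Ideal.Quotient.mk (J.map (algebraMap C L)) x) = Submodule.Quotient.mk x := rfl
  rw [this, Submodule.liftQ_apply, LinearMap.toSpanSingleton_apply, map_smul, hε, pp_qq, he1]
  rw [← this, map_one, ← Ideal.Quotient.mk_eq_mk, ← this]
  simp [Algebra.smul_def]

end main

end Groth.Agent.Lib.DiagIdem75
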