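import Groth.Agent.Lib.MultType58e

/-!
# Closed subgroups of multiplicative type of diagonalisable groups over a connected base (helper41)

SGA3 IX 2.11-type statement in Hopf-algebra form (S2983).

* `annEl R x`: annihilator of an element; `annEl_baseChange`: flat base change.
* `exists_idem_of_family`: an ideal generated by an idempotent in each member of a finite
  ideal-detecting family of algebras is generated by an idempotent (`hdet_faithfullyFlat`,
  `hdet_zariski`).
* group-likes of `R[M]`: `coeff_idem`, `coeff_orth`, `sum_coeff`, `annIdem_monoidAlgebra`,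
  `indep_monoidAlgebra`.
* `AnnIdem`, `IndepMod` with descent to `IsMultType`.
* `linearIndependent_groupLike`: over a connected base the group-likes of a group of multiplicative
  type are linearly independent; `isDiag_of_GLSpan_of_connected`; `main` = S2983.
-/

set_option autoImplicit false
set_option linter.unusedSectionVars false

universe u v

open TensorProduct

namespace Groth.Agent.Lib.DiagSub41

open Groth.Agent.Lib.MultType58



section Ann

variable (R : Type u) [CommRing R] {B : Type v} [AddCommGroup B] [Module R B]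

/-- The annihilator of an element, as an ideal. -/
def annEl (x : B) : Ideal R := LinearMap.ker (LinearMap.toSpanSingleton R B x)

variable {R}

theorem mem_annEl {x : B} {r : R} : r ∈ annEl R x ↔ r • x = 0 := by
  rw [annEl, LinearMap.mem_ker, LinearMap.toSpanSingleton_apply]

/-- Flat base change of the annihilator of an element. -/
theorem annEl_baseChange (S : Type u) [CommRing S] [Algebra R S] [Module.Flat R S] (x : B) :
    annEl S ((1 : S) ⊗ₜ[R] x) = Ideal.map (algebraMap R S) (annEl R x) := by
  apply le_antisymm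
  · intro s hs
    rw [mem_annEl, TensorProduct.smul_tmul', smul_eq_mul, mul_one] at hs
    have hex := Module.Flat.lTensor_exact S
      (LinearMap.exact_subtype_ker_map (LinearMap.toSpanSingleton R B x))
    have h1 : (LinearMap.toSpanSingleton R B x).lTensor S (s ⊗ₜ[R] (1 : R)) = 0 := by
      rw [LinearMap.lTensor_tmul, LinearMap.toSpanSingleton_apply, one_smul, hs]
    obtain ⟨z, hz⟩ := (hex _).1 h1
    -- apply multiplication `S ⊗ R → S`
    have key : ∀ z : S ⊗[R] (LinearMap.ker (LinearMap.toSpanSingleton R B x)),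
        (TensorProduct.rid R S) ((LinearMap.ker (LinearMap.toSpanSingleton R B x)).subtype.lTensor S z)
          ∈ Ideal.map (algebraMap R S) (annEl R x) := by
      intro z
      induction z using TensorProduct.induction_on with
      | zero => simp
      | add a b ha hb => rw [map_add, map_add]; exact Ideal.add_mem _ ha hb
      | tmul s' a =>
        rw [LinearMap.lTensor_tmul, TensorProduct.rid_tmul, Submodule.subtype_apply,
          Algebra.smul_def]
        exact Ideal.mul_mem_right _ _ (Ideal.mem_map_of_mem _ a.2)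
    have := key z
    rwa [hz, TensorProduct.rid_tmul, one_smul] at this
  · rw [Ideal.map_le_iff_le_comap]
    intro r hr
    rw [mem_annEl] at hr
    rw [Ideal.mem_comap, mem_annEl, Algebra.algebraMap_eq_smul_one, smul_assoc, one_smul,
      ← TensorProduct.tmul_smul, hr, TensorProduct.tmul_zero]

end Ann

section Family

variable {R : Type u} [CommRing R]

/-- An ideal which becomes generated by an idempotent in each member of a finite ideal-detecting
family of algebras is generated by an idempotent. -/
theorem exists_idem_of_family {ι : Type*} [Finite ι] (S : ι → Type u) [∀ i, CommRing (S i)]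
    [∀ i, Algebra R (S i)]
    (hdet : ∀ I I' : Ideal R, I ≤ I' →
      (∀ i, I'.map (algebraMap R (S i)) ≤ I.map (algebraMap R (S i))) → I' ≤ I)
    (𝔞 : Ideal R)
    (h : ∀ i, ∃ e : S i, IsIdempotentElem e ∧ 𝔞.map (algebraMap R (S i)) = Ideal.span {e}) :
    ∃ e : R, IsIdempotentElem e ∧ 𝔞 = Ideal.span {e} := by
  classical
  have := Fintype.ofFinite ι
  choose e he hmap using h
  -- finite generation
  have hfin : ∀ i, ∃ T : Finset R, (T : Set R) ⊆ 𝔞 ∧
      e i ∈ Ideal.map (algebraMap R (S i)) (Ideal.span (T : Set R)) := by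
    intro i
    have h1 : e i ∈ 𝔞.map (algebraMap R (S i)) := by
      rw [hmap]; exact Ideal.mem_span_singleton_self _
    rw [Ideal.map] at h1
    obtain ⟨T', hT', hmem⟩ := Submodule.mem_span_finite_of_mem_span h1
    have hch : ∀ y : S i, ∃ a : R, y ∈ (T' : Set (S i)) → a ∈ 𝔞 ∧ algebraMap R (S i) a = y := by
      intro y
      by_cases hy : y ∈ (T' : Set (S i))
      · obtain ⟨a, ha, rfl⟩ := hT' hy
        exact ⟨a, fun _ => ⟨ha, rfl⟩⟩
      · exact ⟨0, fun h => absurd h hy⟩
    choose pre hpre using hch
    refine ⟨T'.image pre, ?_, ?_⟩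
    · intro a ha
      obtain ⟨y, hy, rfl⟩ := Finset.mem_image.1 (Finset.mem_coe.1 ha)
      exact (hpre y hy).1
    · rw [Ideal.map_span]
      refine (Submodule.span_mono ?_) hmem
      intro y hy
      refine ⟨pre y, ?_, (hpre y hy).2⟩
      exact Finset.mem_coe.2 (Finset.mem_image_of_mem _ hy)
  choose T hT𝔞 hTe using hfin
  set 𝔞₀ : Ideal R := Ideal.span ((Finset.univ.biUnion T : Finset R) : Set R) with h𝔞₀
  have h𝔞₀le : 𝔞₀ ≤ 𝔞 := by
    rw [h𝔞₀, Ideal.span_le]
    intro a ha
    obtain ⟨i, -, hai⟩ := Finset.mem_biUnion.1 (Finset.mem_coe.1 ha)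
    exact hT𝔞 i hai
  have h𝔞le : 𝔞 ≤ 𝔞₀ := by
    apply hdet _ _ h𝔞₀le
    intro i
    rw [hmap, Ideal.span_le, Set.singleton_subset_iff]
    refine (Ideal.map_mono ?_) (hTe i)
    apply Ideal.span_mono
    intro a ha
    exact Finset.mem_coe.2 (Finset.mem_biUnion.2 ⟨i, Finset.mem_univ _, ha⟩)
  have hfg : 𝔞.FG := by
    rw [le_antisymm h𝔞le h𝔞₀le]
    exact ⟨_, rfl⟩
  have hidem : IsIdempotentElem 𝔞 := by
    apply le_antisymm Ideal.mul_le_right
    apply hdet _ _ Ideal.mul_le_right
    intro i
    rw [Ideal.map_mul, hmap, Ideal.span_singleton_mul_span_singleton, (he i).eq]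
  exact (Ideal.isIdempotentElem_iff_of_fg 𝔞 hfg).1 hidem

theorem hdet_faithfullyFlat (S : Type u) [CommRing S] [Algebra R S] [Module.FaithfullyFlat R S]
    (I I' : Ideal R) (_ : I ≤ I')
    (h : ∀ _ : Unit, I'.map (algebraMap R S) ≤ I.map (algebraMap R S)) : I' ≤ I := by
  rw [← Ideal.comap_map_eq_self_of_faithfullyFlat (B := S) I,
    ← Ideal.comap_map_eq_self_of_faithfullyFlat (B := S) I']
  exact Ideal.comap_mono (h ())

theorem hdet_zariski (t : Finset R) (ht : Ideal.span (t : Set R) = ⊤)
    (I I' : Ideal R) (_ : I ≤ I')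
    (h : ∀ f : t, I'.map (algebraMap R (Localization.Away (f : R))) ≤
      I.map (algebraMap R (Localization.Away (f : R)))) : I' ≤ I := by
  intro x hx
  refine Submodule.mem_of_span_eq_top_of_smul_pow_mem I (t : Set R) ht x fun f => ?_
  have h1 : algebraMap R (Localization.Away (f : R)) x ∈
      I.map (algebraMap R (Localization.Away (f : R))) :=
    h ⟨f.1, Finset.mem_coe.1 f.2⟩ (Ideal.mem_map_of_mem _ hx)
  rw [IsLocalization.algebraMap_mem_map_algebraMap_iff (Submonoid.powers (f : R))] at h1
  obtain ⟨m, ⟨n, rfl⟩, hm⟩ := h1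
  exact ⟨n, hm⟩

end Family




section GroupAlg

variable {R : Type u} [CommRing R] {M : Type u} [CommGroup M]

theorem coefLin_comul_ne (m m' : M) (h : m ≠ m') (x : MonoidAlgebra R M) :
    LinearMap.mul' R R (TensorProduct.map (coefLin m) (coefLin m') (Coalgebra.comul x)) = 0 := by
  induction x using MonoidAlgebra.induction_linear with
  | zero => simp
  | add f g hf hg => simp only [map_add, hf, hg, add_zero]
  | single g r =>
    rw [MonoidAlgebra.comul_single]
    simp only [CommSemiring.comul_apply, TensorProduct.map_tmul, MonoidAlgebra.lsingle_apply,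
      LinearMap.mul'_apply, coefLin_single]
    split_ifs with h1 h2
    · exact absurd (h1.symm.trans h2) h
    · simp
    · simp
    · simp

theorem coeff_idem {g : MonoidAlgebra R M} (hg : IsGroupLikeElem R g) (m : M) :
    g.coeff m * g.coeff m = g.coeff m := by
  have := coefLin_comul m g
  rw [hg.comul_eq_tmul_self, TensorProduct.map_tmul, LinearMap.mul'_apply] at this
  exact this

theorem coeff_orth {g : MonoidAlgebra R M} (hg : IsGroupLikeElem R g) {m m' : M} (h : m ≠ m') :
    g.coeff m * g.coeff m' = 0 := by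
  have := coefLin_comul_ne m m' h g
  rw [hg.comul_eq_tmul_self, TensorProduct.map_tmul, LinearMap.mul'_apply] at this
  exact this

theorem sum_coeff {g : MonoidAlgebra R M} (hg : IsGroupLikeElem R g) (T : Finset M)
    (hT : g.coeff.support ⊆ T) : ∑ m ∈ T, g.coeff m = 1 := by
  have h1 := counit_eq_sum g
  rw [hg.counit_eq_one, Finsupp.sum] at h1
  rw [h1]
  symm
  apply Finset.sum_subset hT
  intro m _ hm
  exact Finsupp.notMem_support_iff.1 hm

theorem eps_mul_left {g h : MonoidAlgebra R M} (hg : IsGroupLikeElem R g) (T : Finset M)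
    (hT : g.coeff.support ⊆ T) (m' : M) :
    (∑ m ∈ T, g.coeff m * h.coeff m) * g.coeff m' = g.coeff m' * h.coeff m' := by
  classical
  rw [Finset.sum_mul]
  by_cases hm' : m' ∈ T
  · rw [Finset.sum_eq_single m']
    · rw [mul_right_comm, coeff_idem hg]
    · intro m _ hne
      rw [mul_right_comm, coeff_orth hg hne, zero_mul]
    · intro h; exact absurd hm' h
  · have h0 : g.coeff m' = 0 := Finsupp.notMem_support_iff.1 (fun h => hm' (hT h))
    rw [h0, zero_mul]
    apply Finset.sum_eq_zero
    intro m _
    rw [mul_zero]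

theorem eps_mem_annEl {g h : MonoidAlgebra R M} (hg : IsGroupLikeElem R g)
    (hh : IsGroupLikeElem R h) (T : Finset M) (hTg : g.coeff.support ⊆ T)
    (hTh : h.coeff.support ⊆ T) :
    (∑ m ∈ T, g.coeff m * h.coeff m) ∈ annEl R (g - h) := by
  rw [mem_annEl]
  apply MonoidAlgebra.coeff_injective
  ext m'
  rw [MonoidAlgebra.coeff_smul, Finsupp.smul_apply, MonoidAlgebra.coeff_sub, Finsupp.sub_apply,
    smul_eq_mul, mul_sub, eps_mul_left hg T hTg m']
  have h2 : (∑ m ∈ T, g.coeff m * h.coeff m) = ∑ m ∈ T, h.coeff m * g.coeff m :=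
    Finset.sum_congr rfl fun m _ => mul_comm _ _
  rw [h2, eps_mul_left hh T hTh m', mul_comm, sub_self]
  rfl

theorem annIdem_monoidAlgebra (g h : MonoidAlgebra R M) (hg : IsGroupLikeElem R g)
    (hh : IsGroupLikeElem R h) :
    ∃ e : R, IsIdempotentElem e ∧ annEl R (g - h) = Ideal.span {e} := by
  classical
  set T := g.coeff.support ∪ h.coeff.support with hT
  have hTg : g.coeff.support ⊆ T := Finset.subset_union_left
  have hTh : h.coeff.support ⊆ T := Finset.subset_union_right
  set ε := ∑ m ∈ T, g.coeff m * h.coeff m with hε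
  have hmem : ε ∈ annEl R (g - h) := eps_mem_annEl hg hh T hTg hTh
  have hsub : ∀ r ∈ annEl R (g - h), r = r * ε := by
    intro r hr
    rw [mem_annEl] at hr
    have h1 : ∀ m, r * g.coeff m = r * h.coeff m := by
      intro m
      have := congrArg (fun z => z.coeff m) hr
      simp only [MonoidAlgebra.coeff_smul, Finsupp.smul_apply, MonoidAlgebra.coeff_sub,
        Finsupp.sub_apply, smul_eq_mul, mul_sub] at this
      exact sub_eq_zero.1 this
    calc r = r * ∑ m ∈ T, g.coeff m := by rw [sum_coeff hg T hTg, mul_one]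
      _ = ∑ m ∈ T, r * (g.coeff m * g.coeff m) := by
          rw [Finset.mul_sum]
          exact Finset.sum_congr rfl fun m _ => by rw [coeff_idem hg]
      _ = ∑ m ∈ T, r * (g.coeff m * h.coeff m) := by
          refine Finset.sum_congr rfl fun m _ => ?_
          rw [← mul_assoc, mul_comm (r * g.coeff m), ← mul_assoc, mul_comm (g.coeff m), h1 m]
          ring
      _ = r * ε := by rw [hε, Finset.mul_sum]
  refine ⟨ε, ?_, ?_⟩
  · have := hsub ε hmem
    exact this.symm
  · apply le_antisymm
    · intro r hr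
      rw [Ideal.mem_span_singleton']
      exact ⟨r, (hsub r hr).symm⟩
    · rw [Ideal.span_le, Set.singleton_subset_iff]
      exact hmem

theorem indep_monoidAlgebra {ι : Type u} [DecidableEq ι] (s : Finset ι) (g : ι → MonoidAlgebra R M)
    (hg : ∀ i, IsGroupLikeElem R (g i)) (r : ι → R) (h0 : ∑ i ∈ s, r i • g i = 0)
    (k : ι) (hk : k ∈ s) : r k ∈ ⨆ i ∈ s.erase k, annEl R (g i - g k) := by
  classical
  set T := s.biUnion (fun i => (g i).coeff.support) with hT
  have hTi : ∀ i ∈ s, (g i).coeff.support ⊆ T := fun i hi =>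
    Finset.subset_biUnion_of_mem (fun i => (g i).coeff.support) hi
  have h1 : ∀ m, r k * (g k).coeff m = - ∑ i ∈ s.erase k, r i * (g i).coeff m := by
    intro m
    have := congrArg (fun z => z.coeff m) h0
    simp only [MonoidAlgebra.coeff_sum, Finsupp.finsetSum_apply, MonoidAlgebra.coeff_smul,
      Finsupp.smul_apply, smul_eq_mul, MonoidAlgebra.coeff_zero, Finsupp.zero_apply] at this
    rw [← Finset.add_sum_erase s _ hk] at this
    exact eq_neg_of_add_eq_zero_left this
  have h2 : r k = - ∑ i ∈ s.erase k, r i * ∑ m ∈ T, (g i).coeff m * (g k).coeff m := by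
    calc r k = r k * ∑ m ∈ T, (g k).coeff m := by rw [sum_coeff (hg k) T (hTi k hk), mul_one]
      _ = ∑ m ∈ T, (r k * (g k).coeff m) * (g k).coeff m := by
          rw [Finset.mul_sum]
          exact Finset.sum_congr rfl fun m _ => by rw [mul_assoc, coeff_idem (hg k)]
      _ = ∑ m ∈ T, (- ∑ i ∈ s.erase k, r i * (g i).coeff m) * (g k).coeff m := by
          exact Finset.sum_congr rfl fun m _ => by rw [h1 m]
      _ = - ∑ i ∈ s.erase k, r i * ∑ m ∈ T, (g i).coeff m * (g k).coeff m := by
          simp only [neg_mul, Finset.sum_neg_distrib, Finset.sum_mul, Finset.mul_sum]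
          rw [Finset.sum_comm]
          congr 1
          refine Finset.sum_congr rfl fun i _ => Finset.sum_congr rfl fun m _ => ?_
          ring
  rw [h2]
  apply Ideal.neg_mem_iff _ |>.mpr
  refine Ideal.sum_mem _ fun i hi => ?_
  have hi' : i ∈ s := Finset.mem_of_mem_erase hi
  have h3 : (∑ m ∈ T, (g i).coeff m * (g k).coeff m) ∈ annEl R (g i - g k) :=
    eps_mem_annEl (hg i) (hg k) T (hTi i hi') (hTi k hk)
  have h4 : annEl R (g i - g k) ≤ ⨆ i ∈ s.erase k, annEl R (g i - g k) :=
    le_iSup₂ (f := fun i (_ : i ∈ s.erase k) => annEl R (g i - g k)) i hi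
  exact Ideal.mul_mem_left _ _ (h4 h3)

end GroupAlg




section Descent

variable (R : Type u) [CommRing R] (B : Type u) [CommRing B] [HopfAlgebra R B]

/-- The annihilator of the difference of two group-likes is generated by an idempotent. -/
def AnnIdem : Prop :=
  ∀ g h : B, IsGroupLikeElem R g → IsGroupLikeElem R h →
    ∃ e : R, IsIdempotentElem e ∧ annEl R (g - h) = Ideal.span {e}

/-- Linear relations between group-likes have coefficients in the annihilators of differences. -/
def IndepMod : Prop :=
  ∀ (ι : Type u) [DecidableEq ι] (s : Finset ι) (g : ι → B), (∀ i, IsGroupLikeElem R (g i)) →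
    ∀ r : ι → R, ∑ i ∈ s, r i • g i = 0 →
      ∀ k ∈ s, r k ∈ ⨆ i ∈ s.erase k, annEl R (g i - g k)

variable {R B}

theorem annEl_equiv {B' : Type u} [CommRing B'] [HopfAlgebra R B'] (e : B ≃ₐc[R] B') (x : B) :
    annEl R (e x) = annEl R x := by
  ext r
  rw [mem_annEl, mem_annEl]
  constructor
  · intro h
    apply e.injective
    have : e (r • x) = r • e x := map_smul e r x
    change e (r • x) = e 0
    rw [this, h, map_zero]
  · intro h
    have : e (r • x) = r • e x := map_smul e r x
    rw [← this, h, map_zero]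

theorem annIdem_of_equiv {B' : Type u} [CommRing B'] [HopfAlgebra R B'] (e : B ≃ₐc[R] B')
    (h : AnnIdem R B') : AnnIdem R B := by
  intro g g' hg hg'
  obtain ⟨ε, hε, hann⟩ := h (e g) (e g') (hg.map e) (hg'.map e)
  refine ⟨ε, hε, ?_⟩
  rw [← hann, ← map_sub, annEl_equiv]

theorem indepMod_of_equiv {B' : Type u} [CommRing B'] [HopfAlgebra R B'] (e : B ≃ₐc[R] B')
    (h : IndepMod R B') : IndepMod R B := by
  intro ι _ s g hg r h0 k hk
  have h1 := h ι s (fun i => e (g i)) (fun i => (hg i).map e) r (by
    have := congrArg e h0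
    rw [map_sum, map_zero] at this
    rw [← this]
    exact Finset.sum_congr rfl fun i _ => (map_smul e (r i) (g i)).symm) k hk
  have h2 : ∀ i, annEl R (e (g i) - e (g k)) = annEl R (g i - g k) := by
    intro i
    rw [← map_sub, annEl_equiv]
  simpa only [h2] using h1

theorem annIdem_of_isDiag (h : SGA3b.IsDiag R B) : AnnIdem R B := by
  obtain ⟨M, _, ⟨e⟩⟩ := h
  exact annIdem_of_equiv e fun g h hg hh => annIdem_monoidAlgebra g h hg hh

theorem indepMod_of_isDiag (h : SGA3b.IsDiag R B) : IndepMod R B := by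
  obtain ⟨M, _, ⟨e⟩⟩ := h
  exact indepMod_of_equiv e fun ι _ s g hg r h0 k hk => indep_monoidAlgebra s g hg r h0 k hk

theorem mem_of_family {ι : Type*} (S : ι → Type u) [∀ i, CommRing (S i)]
    [∀ i, Algebra R (S i)]
    (hdet : ∀ I I' : Ideal R, I ≤ I' →
      (∀ i, I'.map (algebraMap R (S i)) ≤ I.map (algebraMap R (S i))) → I' ≤ I)
    (I : Ideal R) (x : R) (h : ∀ i, algebraMap R (S i) x ∈ I.map (algebraMap R (S i))) :
    x ∈ I := by
  have h1 : I ⊔ Ideal.span {x} ≤ I := by
    apply hdet _ _ le_sup_left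
    intro i
    rw [Ideal.map_sup, Ideal.map_span, Set.image_singleton, sup_le_iff]
    refine ⟨le_rfl, ?_⟩
    rw [Ideal.span_le, Set.singleton_subset_iff]
    exact h i
  exact h1 (Ideal.mem_sup_right (Ideal.mem_span_singleton_self x))

theorem annIdem_of_family {ι : Type*} [Finite ι] (S : ι → Type u) [∀ i, CommRing (S i)]
    [∀ i, Algebra R (S i)] [∀ i, Module.Flat R (S i)]
    (hdet : ∀ I I' : Ideal R, I ≤ I' →
      (∀ i, I'.map (algebraMap R (S i)) ≤ I.map (algebraMap R (S i))) → I' ≤ I)
    (h : ∀ i, AnnIdem (S i) (S i ⊗[R] B)) : AnnIdem R B := by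
  intro g g' hg hg'
  apply exists_idem_of_family S hdet
  intro i
  obtain ⟨ε, hε, hann⟩ := h i ((1 : S i) ⊗ₜ[R] g) ((1 : S i) ⊗ₜ[R] g')
    (isGroupLikeElem_one_tmul (S i) hg) (isGroupLikeElem_one_tmul (S i) hg')
  refine ⟨ε, hε, ?_⟩
  rw [← hann, ← TensorProduct.tmul_sub, annEl_baseChange]

theorem indepMod_of_family {ι : Type*} (S : ι → Type u) [∀ i, CommRing (S i)]
    [∀ i, Algebra R (S i)] [∀ i, Module.Flat R (S i)]
    (hdet : ∀ I I' : Ideal R, I ≤ I' →
      (∀ i, I'.map (algebraMap R (S i)) ≤ I.map (algebraMap R (S i))) → I' ≤ I)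
    (h : ∀ i, IndepMod (S i) (S i ⊗[R] B)) : IndepMod R B := by
  intro κ _ s g hg r h0 k hk
  apply mem_of_family S hdet
  intro i
  have h1 := h i κ s (fun j => (1 : S i) ⊗ₜ[R] g j)
    (fun j => isGroupLikeElem_one_tmul (S i) (hg j)) (fun j => algebraMap R (S i) (r j)) (by
      have h2 : ∀ j, algebraMap R (S i) (r j) • ((1 : S i) ⊗ₜ[R] g j) =
          (1 : S i) ⊗ₜ[R] (r j • g j) := by
        intro j
        rw [TensorProduct.smul_tmul', smul_eq_mul, mul_one, Algebra.algebraMap_eq_smul_one,
          TensorProduct.smul_tmul]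
      simp only [h2]
      rw [← TensorProduct.tmul_sum, h0, TensorProduct.tmul_zero]) k hk
  simp only [← TensorProduct.tmul_sub, annEl_baseChange] at h1
  rw [Ideal.map_iSup]
  simpa only [Ideal.map_iSup] using h1

theorem annIdem_of_isMultTypeConst (h : SGA3b.IsMultTypeConst R B) : AnnIdem R B := by
  obtain ⟨R', _, _, hff, hd⟩ := h
  exact annIdem_of_family (fun _ : Unit => R') (hdet_faithfullyFlat R')
    (fun _ => annIdem_of_isDiag hd)

theorem indepMod_of_isMultTypeConst (h : SGA3b.IsMultTypeConst R B) : IndepMod R B := by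
  obtain ⟨R', _, _, hff, hd⟩ := h
  exact indepMod_of_family (fun _ : Unit => R') (hdet_faithfullyFlat R')
    (fun _ => indepMod_of_isDiag hd)

theorem annIdem_of_isMultType (h : SGA3b.IsMultType R B) : AnnIdem R B := by
  obtain ⟨s, hs, hf⟩ := h
  obtain ⟨t, hts, ht⟩ := (Ideal.span_eq_top_iff_finite s).mp hs
  exact annIdem_of_family (fun f : t => Localization.Away (f : R)) (hdet_zariski t ht)
    (fun f => annIdem_of_isMultTypeConst (hf f (hts f.2)))

theorem indepMod_of_isMultType (h : SGA3b.IsMultType R B) : IndepMod R B := by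
  obtain ⟨s, hs, hf⟩ := h
  obtain ⟨t, hts, ht⟩ := (Ideal.span_eq_top_iff_finite s).mp hs
  exact indepMod_of_family (fun f : t => Localization.Away (f : R)) (hdet_zariski t ht)
    (fun f => indepMod_of_isMultTypeConst (hf f (hts f.2)))

end Descent




section Final

variable {R : Type u} [CommRing R] {B : Type u} [CommRing B] [HopfAlgebra R B]

theorem linearIndependent_groupLike [Nontrivial R]
    (hconn : ∀ e : R, IsIdempotentElem e → e = 0 ∨ e = 1) (hmt : SGA3b.IsMultType R B) :
    LinearIndependent R (GroupLike.val (R := R) (A := B)) := by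
  classical
  rw [linearIndependent_iff']
  intro s r h0 k hk
  have h1 := indepMod_of_isMultType hmt (GroupLike R B) s GroupLike.val
    (fun i => i.isGroupLikeElem_val) r h0 k hk
  have h2 : (⨆ i ∈ s.erase k, annEl R ((i : GroupLike R B).val - k.val)) = ⊥ := by
    rw [eq_bot_iff]
    refine iSup₂_le fun i hi => ?_
    obtain ⟨e, he, hann⟩ := annIdem_of_isMultType hmt i.val k.val i.isGroupLikeElem_val
      k.isGroupLikeElem_val
    rcases hconn e he with rfl | rfl
    · rw [hann, Ideal.span_singleton_eq_bot.2 rfl]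
    · exfalso
      have h3 : (1 : R) ∈ annEl R (i.val - k.val) := by
        rw [hann]; exact Ideal.mem_span_singleton_self _
      rw [mem_annEl, one_smul, sub_eq_zero] at h3
      exact Finset.ne_of_mem_erase hi (GroupLike.val_injective h3)
  rw [h2] at h1
  exact (Submodule.mem_bot R).1 h1

theorem bijective_liftGroupLike [Nontrivial R]
    (hconn : ∀ e : R, IsIdempotentElem e → e = 0 ∨ e = 1) (hmt : SGA3b.IsMultType R B)
    (h : GLSpan R B) : Function.Bijective
      (MonoidAlgebra.liftGroupLikeBialgHom : MonoidAlgebra R (GroupLike R B) →ₐc[R] B) := by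
  have hli := linearIndependent_groupLike hconn hmt
  have happ : ∀ x : MonoidAlgebra R (GroupLike R B),
      (MonoidAlgebra.liftGroupLikeBialgHom : MonoidAlgebra R (GroupLike R B) →ₐc[R] B) x =
        Finsupp.linearCombination R (GroupLike.val (R := R) (A := B)) x.coeff := by
    intro x
    rw [Finsupp.linearCombination_apply]
    show MonoidAlgebra.lift R B (GroupLike R B) _ x = _
    rw [MonoidAlgebra.lift_apply]
    rfl
  constructor
  · rw [injective_iff_map_eq_zero]
    intro x hx
    rw [happ] at hx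
    have := (linearIndependent_iff.mp hli) x.coeff hx
    apply MonoidAlgebra.ext
    rw [this]
    rfl
  · intro y
    have hy : y ∈ Submodule.span R {a : B | IsGroupLikeElem R a} := by
      unfold GLSpan at h
      rw [h]; trivial
    clear h
    induction hy using Submodule.span_induction with
    | mem a ha =>
      refine ⟨MonoidAlgebra.single ⟨a, ha⟩ 1, ?_⟩
      rw [happ, MonoidAlgebra.coeff_single, Finsupp.linearCombination_single, one_smul]
    | zero => exact ⟨0, map_zero _⟩
    | add a b _ _ ha hb =>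
      obtain ⟨x, hx⟩ := ha
      obtain ⟨z, hz⟩ := hb
      exact ⟨x + z, by rw [map_add, hx, hz]⟩
    | smul r a _ ha =>
      obtain ⟨x, hx⟩ := ha
      exact ⟨r • x, by rw [map_smul, hx]⟩

/-- Over a connected base, a group of multiplicative type spanned by its characters is
diagonalisable. -/
theorem isDiag_of_GLSpan_of_connected [Nontrivial R]
    (hconn : ∀ e : R, IsIdempotentElem e → e = 0 ∨ e = 1) (hmt : SGA3b.IsMultType R B)
    (h : GLSpan R B) : SGA3b.IsDiag R B := by
  refine ⟨GroupLike R B, inferInstance, ⟨?_⟩⟩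
  exact (BialgEquiv.ofBijective _ (bijective_liftGroupLike hconn hmt h)).symm

/-- S2983 in library form. -/
theorem main (A : Type u) [CommRing A] [HopfAlgebra R A] [Nontrivial R]
    (hconn : ∀ e : R, IsIdempotentElem e → e = 0 ∨ e = 1)
    (hG : SGA3b.IsDiag R A) (J : Ideal A) [J.IsHopfIdeal R] (hH : SGA3b.IsMultType R (A ⧸ J)) :
    SGA3b.IsDiag R (A ⧸ J) :=
  isDiag_of_GLSpan_of_connected hconn hH
    (GLSpan.of_surjective (Bialgebra.Quotient.mkBialgHom J) Ideal.Quotient.mk_surjective
      (GLSpan.of_isDiag hG))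

end Final


end Groth.Agent.Lib.DiagSub41
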