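import Mathlib.RingTheory.Spectrum.Prime.FreeLocus
import Mathlib.RingTheory.LocalRing.Module
import Mathlib.LinearAlgebra.TensorProduct.RightExactness
import Mathlib.LinearAlgebra.TensorProduct.Tower
import Mathlib.RingTheory.LocalRing.ResidueField.Ideal
import Mathlib.Algebra.Exact.Basic
import Mathlib.RingTheory.Flat.Localization

/-!
# Projectivity of the cokernel of a map of finite projective modules, pointwise criterion
-/

set_option autoImplicit false
universe u v w

namespace Groth.Agent.Lib.H71CokerProj

open TensorProduct

section StepA

variable {R : Type u} [CommRing R] {M : Type v} {N : Type w} [AddCommGroup M] [Module R M]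
  [AddCommGroup N] [Module R N]

/-- The kernel of the base change of `d` is the image of the base change of `ker d` iff the base
change of the inclusion of the range of `d` is injective. -/
theorem ker_baseChange_le_iff (κ : Type*) [CommRing κ] [Algebra R κ] (d : M →ₗ[R] N) :
    LinearMap.ker (d.baseChange κ) ≤ LinearMap.range ((LinearMap.ker d).subtype.baseChange κ) ↔
      Function.Injective ((LinearMap.range d).subtype.baseChange κ) := by
  have hcomp : d = (LinearMap.range d).subtype ∘ₗ d.rangeRestrict := by
    ext x; rfl
  have hexact : Function.Exact (LinearMap.ker d).subtype d.rangeRestrict := by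
    rw [LinearMap.exact_iff, LinearMap.ker_rangeRestrict, Submodule.range_subtype]
  have hsurj : Function.Surjective d.rangeRestrict := d.surjective_rangeRestrict
  have hexact' := lTensor_exact κ hexact hsurj
  have hsurj' : Function.Surjective (d.rangeRestrict.baseChange κ) := by
    rw [LinearMap.baseChange_eq_ltensor]
    exact LinearMap.lTensor_surjective κ hsurj
  have hd : ∀ x, d.baseChange κ x =
      (LinearMap.range d).subtype.baseChange κ (d.rangeRestrict.baseChange κ x) := by
    intro x
    conv_lhs => rw [hcomp, LinearMap.baseChange_comp]
    rfl
  have hker : ∀ x, d.rangeRestrict.baseChange κ x = 0 ↔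
      x ∈ LinearMap.range ((LinearMap.ker d).subtype.baseChange κ) := by
    intro x
    have := hexact' x
    rw [← LinearMap.baseChange_eq_ltensor] at this
    rw [this]
    constructor
    · rintro ⟨y, hy⟩
      exact ⟨y, by rw [LinearMap.baseChange_eq_ltensor]; exact hy⟩
    · rintro ⟨y, hy⟩
      exact ⟨y, by rw [← LinearMap.baseChange_eq_ltensor]; exact hy⟩
  constructor
  · intro H
    rw [injective_iff_map_eq_zero]
    intro y hy
    obtain ⟨x, rfl⟩ := hsurj' y
    rw [hker]
    apply H
    rw [LinearMap.mem_ker, hd, hy]
  · intro H x hx
    rw [LinearMap.mem_ker, hd] at hx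
    rw [← hker]
    exact H (by rw [hx, map_zero])

end StepA

section StepB

variable {R : Type u} [CommRing R]

theorem cancelBaseChange_naturality (A : Type*) [CommRing A] [Algebra R A] (k : Type*) [CommRing k]
    [Algebra A k] [Algebra R k] [IsScalarTower R A k]
    {X Y : Type*} [AddCommGroup X] [Module R X] [AddCommGroup Y] [Module R Y] (h : X →ₗ[R] Y)
    (t : k ⊗[A] (A ⊗[R] X)) :
    AlgebraTensorModule.cancelBaseChange R A k k Y ((h.baseChange A).lTensor k t) =
      h.baseChange k (AlgebraTensorModule.cancelBaseChange R A k k X t) := by
  induction t using TensorProduct.induction_on with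
  | zero => simp
  | tmul x y =>
    induction y using TensorProduct.induction_on with
    | zero => simp
    | tmul a m => simp
    | add y₁ y₂ h₁ h₂ => simp only [tmul_add, map_add, h₁, h₂]
  | add t₁ t₂ h₁ h₂ => simp only [map_add, h₁, h₂]

theorem injective_lTensor_baseChange_iff (A : Type*) [CommRing A] [Algebra R A] (k : Type*)
    [CommRing k] [Algebra A k] [Algebra R k] [IsScalarTower R A k]
    {X Y : Type*} [AddCommGroup X] [Module R X] [AddCommGroup Y] [Module R Y] (h : X →ₗ[R] Y) :
    Function.Injective ((h.baseChange A).lTensor k) ↔ Function.Injective (h.baseChange k) := by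
  let eX := AlgebraTensorModule.cancelBaseChange R A k k X
  let eY := AlgebraTensorModule.cancelBaseChange R A k k Y
  have hnat : ∀ t, eY ((h.baseChange A).lTensor k t) = h.baseChange k (eX t) :=
    cancelBaseChange_naturality A k h
  constructor
  · intro H a b hab
    obtain ⟨a', rfl⟩ := eX.surjective a
    obtain ⟨b', rfl⟩ := eX.surjective b
    rw [← hnat, ← hnat] at hab
    rw [H (eY.injective hab)]
  · intro H a b hab
    apply eX.injective
    apply H
    rw [← hnat, ← hnat, hab]

variable {N : Type w} [AddCommGroup N] [Module R N] [Module.Finite R N] [Module.Projective R N]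

theorem injective_baseChange_residueField_iff (I : Submodule R N) [Module.Finite R I]
    (p : PrimeSpectrum R) :
    Function.Injective (I.subtype.baseChange p.asIdeal.ResidueField) ↔
      p ∈ Module.freeLocus R (N ⧸ I) := by
  let A := Localization.AtPrime p.asIdeal
  rw [← injective_lTensor_baseChange_iff A p.asIdeal.ResidueField,
    Module.mem_freeLocus_iff_tensor p A]
  let f : A ⊗[R] I →ₗ[A] A ⊗[R] N := I.subtype.baseChange A
  let g : A ⊗[R] N →ₗ[A] A ⊗[R] (N ⧸ I) := I.mkQ.baseChange A
  have hexact : Function.Exact f g := by
    have := lTensor_exact A (LinearMap.exact_subtype_mkQ I) (Submodule.mkQ_surjective I)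
    intro x
    have h2 := this x
    simpa [f, g, LinearMap.baseChange_eq_ltensor] using h2
  have hg : Function.Surjective g := by
    show Function.Surjective (I.mkQ.baseChange A)
    rw [LinearMap.baseChange_eq_ltensor]
    exact LinearMap.lTensor_surjective A (Submodule.mkQ_surjective I)
  have hflat : Module.Flat R A := IsLocalization.flat A p.asIdeal.primeCompl
  have hf : Function.Injective f := by
    show Function.Injective (I.subtype.baseChange A)
    rw [LinearMap.baseChange_eq_ltensor]
    exact Module.Flat.lTensor_preserves_injective_linearMap _ I.injective_subtype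
  have hfreeN : Module.Free A (A ⊗[R] N) := Module.free_of_flat_of_isLocalRing
  constructor
  · intro H
    exact Module.free_of_lTensor_residueField_injective f g hg hexact H
  · intro H
    have hproj : Module.Projective A (A ⊗[R] (N ⧸ I)) := inferInstance
    have hsec : ∃ l, g ∘ₗ l = LinearMap.id :=
      Module.projective_lifting_property g LinearMap.id hg
    obtain ⟨l', hl'⟩ := ((Function.Exact.split_tfae hexact hf hg).out 0 1).mp hsec
    have : (l'.lTensor (IsLocalRing.ResidueField A)) ∘ₗ (f.lTensor (IsLocalRing.ResidueField A)) =
        LinearMap.id := by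
      rw [← LinearMap.lTensor_comp, hl', LinearMap.lTensor_id]
    exact Function.HasLeftInverse.injective ⟨_, LinearMap.congr_fun this⟩

end StepB

section Main

variable {R : Type u} [CommRing R] {M : Type v} {N : Type w} [AddCommGroup M] [Module R M]
  [AddCommGroup N] [Module R N] [Module.Finite R M] [Module.Finite R N] [Module.Projective R N]

/-- Pointwise criterion: the cokernel of `d` is free at `p` iff the formation of the kernel of `d`
commutes with base change to the residue field at `p` (surjectivity form). -/
theorem ker_baseChange_le_iff_mem_freeLocus (d : M →ₗ[R] N) (p : PrimeSpectrum R) :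
    LinearMap.ker (d.baseChange p.asIdeal.ResidueField) ≤
        LinearMap.range ((LinearMap.ker d).subtype.baseChange p.asIdeal.ResidueField) ↔
      p ∈ Module.freeLocus R (N ⧸ LinearMap.range d) := by
  rw [ker_baseChange_le_iff]
  exact injective_baseChange_residueField_iff (LinearMap.range d) p

instance finitePresentation_coker (d : M →ₗ[R] N) :
    Module.FinitePresentation R (N ⧸ LinearMap.range d) :=
  have : Module.FinitePresentation R N := Module.finitePresentation_of_projective R N
  Module.finitePresentation_of_surjective (LinearMap.range d).mkQ (Submodule.mkQ_surjective _)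
    (by rw [Submodule.ker_mkQ, LinearMap.range_eq_map]; exact (Module.Finite.fg_top).map d)

end Main

end Groth.Agent.Lib.H71CokerProj
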