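import Mathlib
import Groth.Agent.Lib.H71CokerProj

/-!
# Dieudonné modules over a perfect ring: level-one exactness and projectivity of `M/VM`

* `projective_quotient_of_inf_le`: for `N` finite projective and `I ≤ N` finitely generated, `N/I` is
  projective as soon as `I ⊓ 𝔭N ≤ 𝔭I` for every prime `𝔭` (fibrewise vanishing of `Tor₁`).
* `mem_smul_of_smul_mem`: relative torsion-freeness of `M/𝔞M` for a projective module.
* `exists_sub_mem`, `V_mem_of_mem`: the abstract Dieudonné argument (`FV = VF = c`).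
* `coeffIdeal q`: Witt vectors with all coefficients in `q`.
* `comap_eq_of_projective`, `projective_quotient_range_V`: the two main results.
-/

set_option autoImplicit false
set_option linter.unusedSectionVars false
universe u v

namespace Groth.Agent.Lib.DieudonneFiber58

open TensorProduct

section Criterion

variable {A : Type u} [CommRing A] {N : Type v} [AddCommGroup N] [Module A N]

/-- Base change of the inclusion `I ⊆ N` to `A ⧸ p` is injective as soon as `I ⊓ pN ≤ pI`. -/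
theorem injective_baseChange_quotient (I : Submodule A N) (p : Ideal A)
    (h : I ⊓ p • (⊤ : Submodule A N) ≤ p • I) :
    Function.Injective (I.subtype.baseChange (A ⧸ p)) := by
  let eI := quotTensorEquivQuotSMul I p
  let eN := quotTensorEquivQuotSMul N p
  have hle : p • (⊤ : Submodule A I) ≤ (p • (⊤ : Submodule A N)).comap I.subtype := by
    rw [← Submodule.map_le_iff_le_comap, Submodule.map_smul'']
    exact Submodule.smul_mono le_rfl le_top
  let g : (I ⧸ p • (⊤ : Submodule A I)) →ₗ[A] (N ⧸ p • (⊤ : Submodule A N)) :=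
    Submodule.mapQ _ _ I.subtype hle
  have hcomm : ∀ t, eN (I.subtype.baseChange (A ⧸ p) t) = g (eI t) := by
    intro t
    induction t using TensorProduct.induction_on with
    | zero => simp
    | tmul a x =>
      obtain ⟨a, rfl⟩ := Ideal.Quotient.mk_surjective a
      simp [eI, eN, g, quotTensorEquivQuotSMul_mk_tmul]
    | add t₁ t₂ h₁ h₂ => simp only [map_add, h₁, h₂]
  have hg : Function.Injective g := by
    rw [injective_iff_map_eq_zero]
    intro y hy
    obtain ⟨x, rfl⟩ := Submodule.Quotient.mk_surjective _ y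
    simp only [g, Submodule.mapQ_apply, Submodule.Quotient.mk_eq_zero] at hy ⊢
    rw [Submodule.mem_smul_top_iff]
    exact h ⟨x.2, hy⟩
  intro t₁ t₂ ht
  apply eI.injective
  apply hg
  rw [← hcomm, ← hcomm, ht]


theorem projective_quotient_of_inf_le [Module.Finite A N] [Module.Projective A N]
    (I : Submodule A N) (hI : I.FG)
    (h : ∀ p : Ideal A, p.IsPrime → I ⊓ p • (⊤ : Submodule A N) ≤ p • I) :
    Module.Projective A (N ⧸ I) := by
  have : Module.Finite A I := Module.Finite.iff_fg.mpr hI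
  have hfpN : Module.FinitePresentation A N := Module.finitePresentation_of_projective A N
  have : Module.FinitePresentation A (N ⧸ I) :=
    Module.finitePresentation_of_surjective I.mkQ (Submodule.mkQ_surjective _)
      (by rw [Submodule.ker_mkQ]; exact hI)
  rw [← Module.freeLocus_eq_univ_iff, Set.eq_univ_iff_forall]
  intro p
  rw [← Groth.Agent.Lib.H71CokerProj.injective_baseChange_residueField_iff I p,
    ← Groth.Agent.Lib.H71CokerProj.injective_lTensor_baseChange_iff (A ⧸ p.asIdeal)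
      p.asIdeal.ResidueField]
  have hflat : Module.Flat (A ⧸ p.asIdeal) p.asIdeal.ResidueField :=
    IsLocalization.flat _ (nonZeroDivisors (A ⧸ p.asIdeal))
  exact Module.Flat.lTensor_preserves_injective_linearMap _
    (injective_baseChange_quotient I p.asIdeal (h p.asIdeal p.2))

end Criterion


section Torsion

variable {W S M : Type*} [CommRing W] [CommRing S] [Algebra W S] [AddCommGroup M] [Module W M]
  [Module S M] [IsScalarTower W S M]

/-- Torsion-freeness of `M/𝔞M` relative to `c`, for `M` projective over a quotient `S` of `W`. -/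
theorem mem_smul_of_smul_mem (hs : Function.Surjective (algebraMap W S)) [Module.Projective S M]
    (𝔞 𝔢 : Ideal W) (c : W)
    (H : ∀ w : W, algebraMap W S (c * w) ∈ 𝔞.map (algebraMap W S) → w ∈ 𝔞 ⊔ 𝔢) (u : M)
    (hu : c • u ∈ 𝔞 • (⊤ : Submodule W M)) : u ∈ (𝔞 ⊔ 𝔢) • (⊤ : Submodule W M) := by
  obtain ⟨s, hs'⟩ := (Module.projective_def' (R := S) (P := M)).mp inferInstance
  have h1 : ∀ x ∈ 𝔞 • (⊤ : Submodule W M), ∀ i, (s x) i ∈ 𝔞.map (algebraMap W S) := by
    intro x hx
    refine Submodule.smul_induction_on hx (fun a ha m _ => ?_) (fun x y hx hy => ?_)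
    · intro i
      rw [← algebraMap_smul S a m, map_smul, Finsupp.smul_apply, smul_eq_mul]
      exact Ideal.mul_mem_right _ _ (Ideal.mem_map_of_mem _ ha)
    · intro i
      rw [map_add, Finsupp.add_apply]
      exact Ideal.add_mem _ (hx i) (hy i)
  have h2 : ∀ i, ∃ w : W, algebraMap W S w = (s u) i ∧ w ∈ 𝔞 ⊔ 𝔢 := by
    intro i
    obtain ⟨w, hw⟩ := hs ((s u) i)
    refine ⟨w, hw, H w ?_⟩
    have := h1 _ hu i
    rw [← algebraMap_smul S c u, map_smul, Finsupp.smul_apply, smul_eq_mul, ← hw, ← map_mul] at this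
    exact this
  choose w hw1 hw2 using h2
  have hu' : u = Finsupp.linearCombination S id (s u) := by
    have := LinearMap.congr_fun hs' u
    simpa using this.symm
  rw [hu', Finsupp.linearCombination_apply, Finsupp.sum]
  refine Submodule.sum_mem _ fun i _ => ?_
  rw [← hw1 i, algebraMap_smul]
  exact Submodule.smul_mem_smul (hw2 i) Submodule.mem_top

end Torsion

section Abstract

variable {W : Type*} [CommRing W] {σ τ : W →+* W} {M : Type*} [AddCommGroup M] [Module W M]

theorem semilinear_mem_smul_top (F : M →ₛₗ[σ] M) (𝔞 : Ideal W) (hσ : ∀ a ∈ 𝔞, σ a ∈ 𝔞) (x : M)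
    (hx : x ∈ 𝔞 • (⊤ : Submodule W M)) : F x ∈ 𝔞 • (⊤ : Submodule W M) := by
  refine Submodule.smul_induction_on hx (fun a ha m _ => ?_) (fun x y hx hy => ?_)
  · rw [F.map_smulₛₗ]
    exact Submodule.smul_mem_smul (hσ a ha) Submodule.mem_top
  · rw [map_add]
    exact Submodule.add_mem _ hx hy

theorem semilinear_mem_smul_span_range (V : M →ₛₗ[τ] M) (𝔞 𝔟 : Ideal W) (hτ : ∀ a ∈ 𝔞, τ a ∈ 𝔟)
    (x : M) (hx : x ∈ 𝔞 • (⊤ : Submodule W M)) :
    V x ∈ 𝔟 • Submodule.span W (Set.range V) := by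
  refine Submodule.smul_induction_on hx (fun a ha m _ => ?_) (fun x y hx hy => ?_)
  · rw [V.map_smulₛₗ]
    exact Submodule.smul_mem_smul (hτ a ha) (Submodule.subset_span ⟨m, rfl⟩)
  · rw [map_add]
    exact Submodule.add_mem _ hx hy

theorem mem_span_singleton_smul_top {c : W} {x : M}
    (hx : x ∈ Ideal.span {c} • (⊤ : Submodule W M)) : ∃ z : M, x = c • z := by
  refine Submodule.smul_induction_on hx (fun a ha m _ => ?_) (fun x y hx hy => ?_)
  · obtain ⟨b, rfl⟩ := Ideal.mem_span_singleton'.mp ha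
    exact ⟨b • m, by rw [smul_smul, mul_comm]⟩
  · obtain ⟨z₁, rfl⟩ := hx
    obtain ⟨z₂, rfl⟩ := hy
    exact ⟨z₁ + z₂, by rw [smul_add]⟩

/-- Key step: fibrewise exactness. -/
theorem exists_sub_mem (F : M →ₛₗ[σ] M) (V : M →ₛₗ[τ] M) (c : W) (hσc : σ c = c)
    (hFV : ∀ m, F (V m) = c • m) (𝔞 𝔢 : Ideal W) (hσ : ∀ a ∈ 𝔞, σ a ∈ 𝔞)
    (T : ∀ u : M, c • u ∈ 𝔞 • (⊤ : Submodule W M) → u ∈ (𝔞 ⊔ 𝔢) • (⊤ : Submodule W M))
    (y : M) (hy : V y ∈ (𝔞 ⊔ Ideal.span {c}) • (⊤ : Submodule W M)) :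
    ∃ z, y - F z ∈ (𝔞 ⊔ 𝔢) • (⊤ : Submodule W M) := by
  rw [Submodule.sup_smul, Submodule.mem_sup] at hy
  obtain ⟨t, ht, q, hq, htq⟩ := hy
  obtain ⟨z, rfl⟩ := mem_span_singleton_smul_top hq
  refine ⟨z, T _ ?_⟩
  have h1 : F (V y) = F t + c • F z := by
    rw [← htq, map_add, F.map_smulₛₗ, hσc]
  rw [hFV] at h1
  have : c • (y - F z) = F t := by
    rw [smul_sub, h1]; abel
  rw [this]
  exact semilinear_mem_smul_top F 𝔞 hσ t ht

theorem V_mem_of_mem (F : M →ₛₗ[σ] M) (V : M →ₛₗ[τ] M) (c : W) (hσc : σ c = c)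
    (hFV : ∀ m, F (V m) = c • m) (hVF : ∀ m, V (F m) = c • m) (𝔞 𝔢 : Ideal W)
    (hσ : ∀ a ∈ 𝔞, σ a ∈ 𝔞) (hτ : ∀ a ∈ 𝔞, τ a ∈ 𝔞) (hτe : ∀ e ∈ 𝔢, τ e ∈ Ideal.span {c})
    (T : ∀ u : M, c • u ∈ 𝔞 • (⊤ : Submodule W M) → u ∈ (𝔞 ⊔ 𝔢) • (⊤ : Submodule W M))
    (y : M) (hy : V y ∈ (𝔞 ⊔ Ideal.span {c}) • (⊤ : Submodule W M)) :
    V y ∈ Ideal.span {c} • (⊤ : Submodule W M) ⊔ 𝔞 • Submodule.span W (Set.range V) := by
  obtain ⟨z, hz⟩ := exists_sub_mem F V c hσc hFV 𝔞 𝔢 hσ T y hy
  rw [Submodule.sup_smul, Submodule.mem_sup] at hz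
  obtain ⟨r₁, hr₁, r₂, hr₂, hr⟩ := hz
  have hy' : V y = c • z + V r₂ + V r₁ := by
    have : y = F z + (r₁ + r₂) := by rw [hr]; abel
    conv_lhs => rw [this]
    rw [map_add, map_add, hVF]; abel
  rw [hy']
  refine Submodule.add_mem_sup (Submodule.add_mem _ ?_ ?_) ?_
  · exact Submodule.smul_mem_smul (Ideal.mem_span_singleton_self c) Submodule.mem_top
  · have := semilinear_mem_smul_span_range V 𝔢 (Ideal.span {c}) hτe r₂ hr₂
    exact Submodule.smul_mono le_rfl le_top this
  · exact semilinear_mem_smul_span_range V 𝔞 𝔞 hτ r₁ hr₁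

end Abstract



section Witt

variable {p : ℕ} [hp : Fact p.Prime] {k : Type u} [CommRing k] [CharP k p] [PerfectRing k p]

local notation "𝕎" => WittVector p

/-- Witt vectors all of whose coefficients lie in the ideal `q`. -/
noncomputable def coeffIdeal (q : Ideal k) : Ideal (𝕎 k) :=
  RingHom.ker (WittVector.map (Ideal.Quotient.mk q) : 𝕎 k →+* 𝕎 (k ⧸ q))

theorem mem_coeffIdeal {q : Ideal k} {x : 𝕎 k} : x ∈ coeffIdeal q ↔ ∀ n, x.coeff n ∈ q := by
  simp only [coeffIdeal, RingHom.mem_ker, WittVector.ext_iff, WittVector.map_coeff,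
    WittVector.zero_coeff, Ideal.Quotient.eq_zero_iff_mem]

theorem frobenius_mem_coeffIdeal {q : Ideal k} {x : 𝕎 k} (hx : x ∈ coeffIdeal q) :
    WittVector.frobenius x ∈ coeffIdeal q := by
  rw [mem_coeffIdeal] at hx ⊢
  intro n
  rw [WittVector.coeff_frobenius_charP]
  exact Ideal.pow_mem_of_mem _ (hx n) _ hp.out.pos

theorem frobeniusEquiv_symm_mem_coeffIdeal {q : Ideal k} [q.IsPrime] {x : 𝕎 k}
    (hx : x ∈ coeffIdeal q) : (WittVector.frobeniusEquiv p k).symm x ∈ coeffIdeal q := by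
  rw [mem_coeffIdeal] at hx ⊢
  intro n
  have h := hx n
  have hx' : x = WittVector.frobenius ((WittVector.frobeniusEquiv p k).symm x) :=
    ((WittVector.frobeniusEquiv p k).apply_symm_apply x).symm
  rw [hx', WittVector.coeff_frobenius_charP] at h
  exact Ideal.IsPrime.mem_of_pow_mem inferInstance _ h

theorem of_p_mul_mem_coeffIdeal {q : Ideal k} [q.IsPrime] (w : 𝕎 k)
    (h : (p : 𝕎 k) * w ∈ coeffIdeal q) : w ∈ coeffIdeal q := by
  rw [mem_coeffIdeal] at h ⊢
  intro n
  have := h (n + 1)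
  rw [mul_comm, WittVector.mul_charP_coeff_succ] at this
  exact Ideal.IsPrime.mem_of_pow_mem inferInstance _ this

theorem of_p_mul_mem_bot (w : 𝕎 k) (h : (p : 𝕎 k) * w ∈ (⊥ : Ideal (𝕎 k))) :
    w ∈ (⊥ : Ideal (𝕎 k)) := by
  rw [Ideal.mem_bot] at h ⊢
  rw [mul_comm] at h
  exact WittVector.eq_zero_of_p_mul_eq_zero w h

/-- The prime of `k` below a prime of `𝕎 k ⧸ p`. -/
noncomputable def primeBelow (𝔭 : Ideal (𝕎 k ⧸ Ideal.span {(p : 𝕎 k)})) : Ideal k :=
  𝔭.comap (WittVector.quotientPEquiv (p := p) (k := k)).symm.toRingHom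

instance (𝔭 : Ideal (𝕎 k ⧸ Ideal.span {(p : 𝕎 k)})) [𝔭.IsPrime] : (primeBelow 𝔭).IsPrime :=
  Ideal.comap_isPrime _ _

theorem quotientPEquiv_symm_coeff_zero (x : 𝕎 k) :
    (WittVector.quotientPEquiv (p := p) (k := k)).symm (x.coeff 0) =
      Ideal.Quotient.mk (Ideal.span {(p : 𝕎 k)}) x := by
  rw [RingEquiv.symm_apply_eq]
  rfl

theorem coeff_zero_mem_primeBelow_iff (𝔭 : Ideal (𝕎 k ⧸ Ideal.span {(p : 𝕎 k)})) (x : 𝕎 k) :
    x.coeff 0 ∈ primeBelow 𝔭 ↔ Ideal.Quotient.mk (Ideal.span {(p : 𝕎 k)}) x ∈ 𝔭 := by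
  rw [primeBelow, Ideal.mem_comap]
  show (WittVector.quotientPEquiv (p := p) (k := k)).symm (x.coeff 0) ∈ 𝔭 ↔ _
  rw [quotientPEquiv_symm_coeff_zero]

theorem coeffIdeal_le_comap (𝔭 : Ideal (𝕎 k ⧸ Ideal.span {(p : 𝕎 k)})) :
    coeffIdeal (primeBelow 𝔭) ≤ 𝔭.comap (Ideal.Quotient.mk (Ideal.span {(p : 𝕎 k)})) := by
  intro x hx
  rw [Ideal.mem_comap, ← coeff_zero_mem_primeBelow_iff]
  exact (mem_coeffIdeal.mp hx) 0

theorem comap_le_sup (𝔭 : Ideal (𝕎 k ⧸ Ideal.span {(p : 𝕎 k)})) :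
    𝔭.comap (Ideal.Quotient.mk (Ideal.span {(p : 𝕎 k)})) ≤
      coeffIdeal (primeBelow 𝔭) ⊔ Ideal.span {(p : 𝕎 k)} := by
  intro x hx
  rw [Ideal.mem_comap, ← coeff_zero_mem_primeBelow_iff] at hx
  have h1 : WittVector.teichmuller p (x.coeff 0) ∈ coeffIdeal (primeBelow 𝔭) := by
    rw [mem_coeffIdeal]
    intro n
    rcases Nat.eq_zero_or_pos n with rfl | hn
    · rw [WittVector.teichmuller_coeff_zero]; exact hx
    · rw [WittVector.teichmuller_coeff_pos p _ n hn]; exact Ideal.zero_mem _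
  have h2 : x - WittVector.teichmuller p (x.coeff 0) ∈ Ideal.span {(p : 𝕎 k)} := by
    rw [WittVector.mem_span_p_iff_coeff_zero_eq_zero]
    have : (x - WittVector.teichmuller p (x.coeff 0)).coeff 0 =
        WittVector.constantCoeff (x - WittVector.teichmuller p (x.coeff 0)) := rfl
    rw [this, map_sub]
    simp [WittVector.constantCoeff, WittVector.teichmuller_coeff_zero]
  have : x = WittVector.teichmuller p (x.coeff 0) + (x - WittVector.teichmuller p (x.coeff 0)) := by
    ring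
  rw [this]
  exact Ideal.add_mem _ (Ideal.mem_sup_left h1) (Ideal.mem_sup_right h2)

/-- The arithmetic input for modules over `𝕎 k` itself. -/
theorem H_full (𝔞 : Ideal (𝕎 k)) (h𝔞 : ∀ w, (p : 𝕎 k) * w ∈ 𝔞 → w ∈ 𝔞) (w : 𝕎 k)
    (h : algebraMap (𝕎 k) (𝕎 k) ((p : 𝕎 k) * w) ∈ 𝔞.map (algebraMap (𝕎 k) (𝕎 k))) :
    w ∈ 𝔞 ⊔ (⊥ : Ideal (𝕎 k)) := by
  rw [sup_bot_eq]
  apply h𝔞
  simpa [Algebra.algebraMap_self, Ideal.map_id] using h

/-- The arithmetic input for modules over `𝕎 k ⧸ p ^ n`. -/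
theorem H_trunc (n : ℕ) (hn : 1 ≤ n) (𝔞 : Ideal (𝕎 k)) (h𝔞 : ∀ w, (p : 𝕎 k) * w ∈ 𝔞 → w ∈ 𝔞)
    (w : 𝕎 k)
    (h : algebraMap (𝕎 k) (𝕎 k ⧸ Ideal.span {(p : 𝕎 k) ^ n}) ((p : 𝕎 k) * w) ∈
      𝔞.map (algebraMap (𝕎 k) (𝕎 k ⧸ Ideal.span {(p : 𝕎 k) ^ n}))) :
    w ∈ 𝔞 ⊔ Ideal.span {(p : 𝕎 k) ^ (n - 1)} := by
  rw [Ideal.Quotient.algebraMap_eq, Ideal.mem_quotient_iff_mem_sup, Submodule.mem_sup] at h
  obtain ⟨a, ha, b, hb, hab⟩ := h
  obtain ⟨v, rfl⟩ := Ideal.mem_span_singleton'.mp hb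
  have hpow : (p : 𝕎 k) ^ n = (p : 𝕎 k) * (p : 𝕎 k) ^ (n - 1) := by
    rw [← pow_succ', Nat.sub_add_cancel hn]
  have h1 : w - v * (p : 𝕎 k) ^ (n - 1) ∈ 𝔞 := by
    apply h𝔞
    have : (p : 𝕎 k) * (w - v * (p : 𝕎 k) ^ (n - 1)) = a := by
      rw [mul_sub, ← hab, hpow]; ring
    rw [this]; exact ha
  have : w = (w - v * (p : 𝕎 k) ^ (n - 1)) + v * (p : 𝕎 k) ^ (n - 1) := by ring
  rw [this]
  exact Ideal.add_mem _ (Ideal.mem_sup_left h1)
    (Ideal.mem_sup_right (Ideal.mul_mem_left _ _ (Ideal.mem_span_singleton_self _)))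

end Witt


section ModP

variable {W S M : Type*} [CommRing W] [CommRing S] [Algebra W S] [AddCommGroup M] [Module W M]
  [Module S M] [IsScalarTower W S M]

theorem finite_of_surjective_algebraMap (hs : Function.Surjective (algebraMap W S))
    [Module.Finite S M] : Module.Finite W M := by
  have : Module.Finite W S := Module.Finite.of_surjective (Algebra.linearMap W S) hs
  exact Module.Finite.trans S M

theorem finite_quotient_smul_top (hs : Function.Surjective (algebraMap W S)) [Module.Finite S M]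
    (P : Ideal W) : Module.Finite (W ⧸ P) (M ⧸ (P • ⊤ : Submodule W M)) := by
  have : Module.Finite W M := finite_of_surjective_algebraMap (S := S) hs
  have : Module.Finite W (M ⧸ (P • ⊤ : Submodule W M)) := inferInstance
  exact Module.Finite.of_restrictScalars_finite W _ _

theorem projective_quotient_smul_top (hs : Function.Surjective (algebraMap W S))
    [Module.Projective S M] (P : Ideal W) (hP : RingHom.ker (algebraMap W S) ≤ P) :
    Module.Projective (W ⧸ P) (M ⧸ (P • ⊤ : Submodule W M)) := by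
  obtain ⟨s, hs'⟩ := (Module.projective_def' (R := S) (P := M)).mp inferInstance
  let ρ : S →+* W ⧸ P := RingHom.liftOfSurjective (algebraMap W S) hs
    ⟨Ideal.Quotient.mk P, by rwa [Ideal.mk_ker]⟩
  have hρ : ∀ w, ρ (algebraMap W S w) = Ideal.Quotient.mk P w := fun w =>
    RingHom.liftOfSurjective_comp_apply (algebraMap W S) hs _ w
  let ρl : S →ₗ[W] W ⧸ P :=
    { toFun := ρ
      map_add' := map_add ρ
      map_smul' := fun w x => by
        simp only [Algebra.smul_def, map_mul, hρ, RingHom.id_apply, Ideal.Quotient.algebraMap_eq] }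
  let i₀ : M →ₗ[W] (M →₀ W ⧸ P) := (Finsupp.mapRange.linearMap ρl) ∘ₗ (s.restrictScalars W)
  have hi₀ : (P • ⊤ : Submodule W M) ≤ LinearMap.ker i₀ := by
    rw [Submodule.smul_le]
    intro w hw m _
    rw [LinearMap.mem_ker, map_smul]
    ext x
    simp only [Finsupp.smul_apply, Finsupp.zero_apply, Algebra.smul_def,
      Ideal.Quotient.algebraMap_eq, Ideal.Quotient.eq_zero_iff_mem.mpr hw, zero_mul]
  let i₁ : (M ⧸ (P • ⊤ : Submodule W M)) →ₗ[W] (M →₀ W ⧸ P) := Submodule.liftQ _ i₀ hi₀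
  let i : (M ⧸ (P • ⊤ : Submodule W M)) →ₗ[W ⧸ P] (M →₀ W ⧸ P) :=
    i₁.extendScalarsOfSurjective Ideal.Quotient.mk_surjective
  let π : (M →₀ W ⧸ P) →ₗ[W ⧸ P] (M ⧸ (P • ⊤ : Submodule W M)) :=
    Finsupp.linearCombination (W ⧸ P) (fun m => Submodule.Quotient.mk m)
  refine Module.Projective.of_split i π ?_
  apply LinearMap.ext
  intro x
  obtain ⟨m, rfl⟩ := Submodule.Quotient.mk_surjective _ x
  have h1 : i (Submodule.Quotient.mk m) = (s m).mapRange ρ (map_zero ρ) := rfl
  rw [LinearMap.comp_apply, h1, LinearMap.id_apply]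
  have hm : m = Finsupp.linearCombination S id (s m) := by
    have := LinearMap.congr_fun hs' m
    simpa using this.symm
  conv_rhs => rw [hm]
  simp only [π, Finsupp.linearCombination_apply]
  rw [Finsupp.sum_mapRange_index (by simp)]
  simp only [Finsupp.sum, id_eq]
  rw [← Submodule.mkQ_apply, map_sum]
  refine Finset.sum_congr rfl fun x _ => ?_
  obtain ⟨w, hw⟩ := hs ((s m) x)
  rw [← hw, hρ, algebraMap_smul, Submodule.mkQ_apply, Submodule.Quotient.mk_smul]
  rfl

end ModP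



section AbstractComap

variable {W : Type*} [CommRing W] {σ τ : W →+* W} {M : Type*} [AddCommGroup M] [Module W M]

theorem semilinear_span_range_le (F : M →ₛₗ[σ] M) (V : M →ₛₗ[τ] M) (c : W)
    (hVF : ∀ m, V (F m) = c • m) (a : M) (ha : a ∈ Submodule.span W (Set.range F)) :
    V a ∈ Ideal.span {c} • (⊤ : Submodule W M) := by
  induction ha using Submodule.span_induction with
  | mem x hx =>
    obtain ⟨m, rfl⟩ := hx
    rw [hVF]
    exact Submodule.smul_mem_smul (Ideal.mem_span_singleton_self c) Submodule.mem_top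
  | zero => rw [map_zero]; exact Submodule.zero_mem _
  | add x y _ _ hx hy => rw [map_add]; exact Submodule.add_mem _ hx hy
  | smul w x _ hx => rw [V.map_smulₛₗ]; exact Submodule.smul_mem _ _ hx

theorem comap_eq (F : M →ₛₗ[σ] M) (V : M →ₛₗ[τ] M) (c : W) (hσc : σ c = c) (hτc : τ c = c)
    (hFV : ∀ m, F (V m) = c • m) (hVF : ∀ m, V (F m) = c • m) (𝔢 : Ideal W)
    (h𝔢 : 𝔢 ≤ Ideal.span {c})
    (T : ∀ u : M, c • u ∈ (⊥ : Ideal W) • (⊤ : Submodule W M) →
      u ∈ ((⊥ : Ideal W) ⊔ 𝔢) • (⊤ : Submodule W M)) :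
    (Ideal.span {c} • (⊤ : Submodule W M)).comap V =
      Submodule.span W (Set.range F) ⊔ Ideal.span {c} • (⊤ : Submodule W M) := by
  ext y
  rw [Submodule.mem_comap]
  constructor
  · intro hy
    have hy' : V y ∈ ((⊥ : Ideal W) ⊔ Ideal.span {c}) • (⊤ : Submodule W M) := by
      rwa [bot_sup_eq]
    obtain ⟨z, hz⟩ := exists_sub_mem F V c hσc hFV ⊥ 𝔢
      (fun a ha => by rw [Ideal.mem_bot] at ha; rw [ha, map_zero]; exact Ideal.zero_mem _) T y hy'
    rw [bot_sup_eq] at hz
    have : y = F z + (y - F z) := by abel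
    rw [this]
    exact Submodule.add_mem_sup (Submodule.subset_span ⟨z, rfl⟩)
      (Submodule.smul_mono h𝔢 le_rfl hz)
  · intro hy
    rw [Submodule.mem_sup] at hy
    obtain ⟨a, ha, b, hb, rfl⟩ := hy
    rw [map_add]
    refine Submodule.add_mem _ (semilinear_span_range_le F V c hVF a ha) ?_
    refine semilinear_mem_smul_top V _ ?_ b hb
    intro a ha
    obtain ⟨b, rfl⟩ := Ideal.mem_span_singleton'.mp ha
    rw [map_mul, hτc]
    exact Ideal.mul_mem_left _ _ (Ideal.mem_span_singleton_self c)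

end AbstractComap

section QuotTranslate

variable {W : Type*} [CommRing W] {P : Ideal W} {M : Type*} [AddCommGroup M] [Module W M]

theorem exists_of_mem_smul_top (𝔭 : Ideal (W ⧸ P)) (x : M ⧸ (P • ⊤ : Submodule W M))
    (hx : x ∈ 𝔭 • (⊤ : Submodule (W ⧸ P) (M ⧸ (P • ⊤ : Submodule W M)))) :
    ∃ m ∈ (𝔭.comap (Ideal.Quotient.mk P)) • (⊤ : Submodule W M),
      (Submodule.Quotient.mk m : M ⧸ (P • ⊤ : Submodule W M)) = x := by
  refine Submodule.smul_induction_on hx (fun a ha n _ => ?_) (fun x y hx hy => ?_)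
  · obtain ⟨w, rfl⟩ := Ideal.Quotient.mk_surjective a
    obtain ⟨m', rfl⟩ := Submodule.Quotient.mk_surjective _ n
    exact ⟨w • m', Submodule.smul_mem_smul (Ideal.mem_comap.mpr ha) Submodule.mem_top, rfl⟩
  · obtain ⟨m₁, h₁, rfl⟩ := hx
    obtain ⟨m₂, h₂, rfl⟩ := hy
    exact ⟨m₁ + m₂, Submodule.add_mem _ h₁ h₂, rfl⟩

theorem mk_mem_smul (𝔞 : Ideal W) (𝔭 : Ideal (W ⧸ P)) (h𝔞 : 𝔞 ≤ 𝔭.comap (Ideal.Quotient.mk P))
    (U : Submodule W M) (I : Submodule (W ⧸ P) (M ⧸ (P • ⊤ : Submodule W M)))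
    (hUI : ∀ u ∈ U, (Submodule.Quotient.mk u : M ⧸ (P • ⊤ : Submodule W M)) ∈ I) (m : M)
    (hm : m ∈ 𝔞 • U) : (Submodule.Quotient.mk m : M ⧸ (P • ⊤ : Submodule W M)) ∈ 𝔭 • I := by
  refine Submodule.smul_induction_on hm (fun a ha u hu => ?_) (fun x y hx hy => ?_)
  · have : (Submodule.Quotient.mk (a • u) : M ⧸ (P • ⊤ : Submodule W M)) =
        Ideal.Quotient.mk P a • (Submodule.Quotient.mk u : M ⧸ (P • ⊤ : Submodule W M)) := rfl
    rw [this]
    exact Submodule.smul_mem_smul (h𝔞 ha) (hUI u hu)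
  · rw [Submodule.Quotient.mk_add]
    exact Submodule.add_mem _ hx hy

end QuotTranslate


section Main

variable {p : ℕ} [hp : Fact p.Prime] {k : Type u} [CommRing k] [CharP k p] [PerfectRing k p]

variable {S : Type*} [CommRing S] [Algebra (WittVector p k) S]
  {M : Type v} [AddCommGroup M] [Module (WittVector p k) M] [Module S M] [IsScalarTower (WittVector p k) S M]

/-- Level-one exactness for a (possibly truncated) Dieudonné module over a perfect ring. -/
theorem comap_eq_of_projective (hs : Function.Surjective (algebraMap (WittVector p k) S))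
    [Module.Projective S M] (𝔢 : Ideal (WittVector p k)) (h𝔢 : 𝔢 ≤ Ideal.span {(p : WittVector p k)})
    (H : ∀ 𝔞 : Ideal (WittVector p k), (∀ w, (p : WittVector p k) * w ∈ 𝔞 → w ∈ 𝔞) → ∀ w : WittVector p k,
      algebraMap (WittVector p k) S ((p : WittVector p k) * w) ∈ 𝔞.map (algebraMap (WittVector p k) S) → w ∈ 𝔞 ⊔ 𝔢)
    (F : M →ₛₗ[(WittVector.frobenius : WittVector p k →+* WittVector p k)] M)
    (V : M →ₛₗ[((WittVector.frobeniusEquiv p k).symm : WittVector p k →+* WittVector p k)] M)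
    (hFV : ∀ m : M, F (V m) = (p : WittVector p k) • m) (hVF : ∀ m : M, V (F m) = (p : WittVector p k) • m) :
    (Ideal.span {(p : WittVector p k)} • (⊤ : Submodule (WittVector p k) M)).comap F =
        Submodule.span (WittVector p k) (Set.range V) ⊔ Ideal.span {(p : WittVector p k)} • (⊤ : Submodule (WittVector p k) M) ∧
      (Ideal.span {(p : WittVector p k)} • (⊤ : Submodule (WittVector p k) M)).comap V =
        Submodule.span (WittVector p k) (Set.range F) ⊔
          Ideal.span {(p : WittVector p k)} • (⊤ : Submodule (WittVector p k) M) := by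
  have T : ∀ u : M, (p : WittVector p k) • u ∈ (⊥ : Ideal (WittVector p k)) • (⊤ : Submodule (WittVector p k) M) →
      u ∈ ((⊥ : Ideal (WittVector p k)) ⊔ 𝔢) • (⊤ : Submodule (WittVector p k) M) := fun u hu =>
    mem_smul_of_smul_mem hs ⊥ 𝔢 (p : WittVector p k) (H ⊥ of_p_mul_mem_bot) u hu
  have hσ : (WittVector.frobenius : WittVector p k →+* WittVector p k) (p : WittVector p k) = (p : WittVector p k) := map_natCast _ _
  have hτ : ((WittVector.frobeniusEquiv p k).symm : WittVector p k →+* WittVector p k) (p : WittVector p k) = (p : WittVector p k) :=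
    map_natCast _ _
  exact ⟨comap_eq V F (p : WittVector p k) hτ hσ hVF hFV 𝔢 h𝔢 T, comap_eq F V (p : WittVector p k) hσ hτ hFV hVF 𝔢 h𝔢 T⟩

/-- `M/VM` is projective over `WittVector p k ⧸ p ≃ k`. -/
theorem projective_quotient_range_V (hs : Function.Surjective (algebraMap (WittVector p k) S))
    (hker : RingHom.ker (algebraMap (WittVector p k) S) ≤ Ideal.span {(p : WittVector p k)})
    [Module.Finite S M] [Module.Projective S M] (𝔢 : Ideal (WittVector p k))
    (h𝔢 : 𝔢 ≤ Ideal.span {(p : WittVector p k)})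
    (H : ∀ 𝔞 : Ideal (WittVector p k), (∀ w, (p : WittVector p k) * w ∈ 𝔞 → w ∈ 𝔞) → ∀ w : WittVector p k,
      algebraMap (WittVector p k) S ((p : WittVector p k) * w) ∈ 𝔞.map (algebraMap (WittVector p k) S) → w ∈ 𝔞 ⊔ 𝔢)
    (F : M →ₛₗ[(WittVector.frobenius : WittVector p k →+* WittVector p k)] M)
    (V : M →ₛₗ[((WittVector.frobeniusEquiv p k).symm : WittVector p k →+* WittVector p k)] M)
    (hFV : ∀ m : M, F (V m) = (p : WittVector p k) • m) (hVF : ∀ m : M, V (F m) = (p : WittVector p k) • m) :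
    Module.Projective (WittVector p k ⧸ Ideal.span {(p : WittVector p k)})
      ((M ⧸ (Ideal.span {(p : WittVector p k)} • (⊤ : Submodule (WittVector p k) M))) ⧸
        Submodule.span (WittVector p k ⧸ Ideal.span {(p : WittVector p k)})
          (Set.range fun m : M =>
            (Ideal.span {(p : WittVector p k)} • (⊤ : Submodule (WittVector p k) M)).mkQ (V m))) := by
  set P : Ideal (WittVector p k) := Ideal.span {(p : WittVector p k)} with hP
  have hfin : Module.Finite (WittVector p k ⧸ P) (M ⧸ (P • ⊤ : Submodule (WittVector p k) M)) :=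
    finite_quotient_smul_top (S := S) hs P
  have hproj : Module.Projective (WittVector p k ⧸ P) (M ⧸ (P • ⊤ : Submodule (WittVector p k) M)) :=
    projective_quotient_smul_top (S := S) hs P hker
  set I : Submodule (WittVector p k ⧸ P) (M ⧸ (P • ⊤ : Submodule (WittVector p k) M)) :=
    Submodule.span (WittVector p k ⧸ P) (Set.range fun m : M => (P • (⊤ : Submodule (WittVector p k) M)).mkQ (V m))
    with hI
  have hτσ : ∀ w : WittVector p k, ((WittVector.frobeniusEquiv p k).symm : WittVector p k →+* WittVector p k)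
      (WittVector.frobenius w) = w := fun w => (WittVector.frobeniusEquiv p k).symm_apply_apply w
  -- every element of `I` is of the form `mk (V y)`
  have hIrange : ∀ x ∈ I, ∃ y : M,
      (Submodule.Quotient.mk (V y) : M ⧸ (P • ⊤ : Submodule (WittVector p k) M)) = x := by
    intro x hx
    induction hx using Submodule.span_induction with
    | mem x hx => obtain ⟨m, rfl⟩ := hx; exact ⟨m, rfl⟩
    | zero => exact ⟨0, by rw [map_zero]; rfl⟩
    | add x y _ _ hx hy =>
      obtain ⟨y₁, rfl⟩ := hx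
      obtain ⟨y₂, rfl⟩ := hy
      exact ⟨y₁ + y₂, by rw [map_add]; rfl⟩
    | smul a x _ hx =>
      obtain ⟨y, rfl⟩ := hx
      obtain ⟨w, rfl⟩ := Ideal.Quotient.mk_surjective a
      refine ⟨WittVector.frobenius w • y, ?_⟩
      rw [V.map_smulₛₗ, hτσ]
      rfl
  -- `I` is finitely generated
  have hMfin : Module.Finite (WittVector p k) M := finite_of_surjective_algebraMap (S := S) hs
  obtain ⟨s, hs_top⟩ := hMfin.fg_top
  have hIeq : I = Submodule.span (WittVector p k ⧸ P)
      ((fun m : M => (P • (⊤ : Submodule (WittVector p k) M)).mkQ (V m)) '' (s : Set M)) := by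
    apply le_antisymm
    · rw [hI, Submodule.span_le]
      rintro _ ⟨m, rfl⟩
      have hm : m ∈ Submodule.span (WittVector p k) (s : Set M) := by rw [hs_top]; exact Submodule.mem_top
      induction hm using Submodule.span_induction with
      | mem x hx => exact Submodule.subset_span ⟨x, hx, rfl⟩
      | zero => simp only [map_zero]; exact Submodule.zero_mem _
      | add x y _ _ hx hy => simp only [map_add]; exact Submodule.add_mem _ hx hy
      | smul w x _ hx =>
        simp only [V.map_smulₛₗ]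
        have : (P • (⊤ : Submodule (WittVector p k) M)).mkQ
            ((((WittVector.frobeniusEquiv p k).symm : WittVector p k →+* WittVector p k) w) • V x) =
            Ideal.Quotient.mk P (((WittVector.frobeniusEquiv p k).symm : WittVector p k →+* WittVector p k) w) •
              (P • (⊤ : Submodule (WittVector p k) M)).mkQ (V x) := rfl
        rw [this]
        exact Submodule.smul_mem _ _ hx
    · exact Submodule.span_mono (Set.image_subset_range _ _)
  have hIFG : I.FG := by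
    rw [hIeq]
    exact Submodule.fg_span (Set.Finite.image _ s.finite_toSet)
  refine projective_quotient_of_inf_le I hIFG ?_
  intro 𝔭 h𝔭 x hx
  obtain ⟨hxI, hx𝔭⟩ := hx
  have hq : (primeBelow 𝔭).IsPrime := inferInstance
  set 𝔞 : Ideal (WittVector p k) := coeffIdeal (primeBelow 𝔭) with h𝔞
  obtain ⟨y, rfl⟩ := hIrange x hxI
  obtain ⟨m, hm, hmx⟩ := exists_of_mem_smul_top 𝔭 _ hx𝔭
  have h1 : V y - m ∈ P • (⊤ : Submodule (WittVector p k) M) := (Submodule.Quotient.eq _).mp hmx.symm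
  have h2 : V y ∈ (𝔞 ⊔ P) • (⊤ : Submodule (WittVector p k) M) := by
    have : V y = m + (V y - m) := by abel
    rw [this]
    exact Submodule.add_mem _ (Submodule.smul_mono (comap_le_sup 𝔭) le_rfl hm)
      (Submodule.smul_mono le_sup_right le_rfl h1)
  have hσp : (WittVector.frobenius : WittVector p k →+* WittVector p k) (p : WittVector p k) = (p : WittVector p k) := map_natCast _ _
  have hτe : ∀ e ∈ 𝔢, ((WittVector.frobeniusEquiv p k).symm : WittVector p k →+* WittVector p k) e ∈ P := by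
    intro e he
    obtain ⟨b, rfl⟩ := Ideal.mem_span_singleton'.mp (h𝔢 he)
    rw [map_mul, map_natCast]
    exact Ideal.mul_mem_left _ _ (Ideal.mem_span_singleton_self _)
  have T : ∀ u : M, (p : WittVector p k) • u ∈ 𝔞 • (⊤ : Submodule (WittVector p k) M) →
      u ∈ (𝔞 ⊔ 𝔢) • (⊤ : Submodule (WittVector p k) M) := fun u hu =>
    mem_smul_of_smul_mem hs 𝔞 𝔢 (p : WittVector p k) (H 𝔞 of_p_mul_mem_coeffIdeal) u hu
  have h3 := V_mem_of_mem F V (p : WittVector p k) hσp hFV hVF 𝔞 𝔢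
    (fun a ha => frobenius_mem_coeffIdeal ha) (fun a ha => frobeniusEquiv_symm_mem_coeffIdeal ha)
    hτe T y h2
  rw [Submodule.mem_sup] at h3
  obtain ⟨a, ha, b, hb, hab⟩ := h3
  have h4 : (Submodule.Quotient.mk (V y) : M ⧸ (P • ⊤ : Submodule (WittVector p k) M)) =
      Submodule.Quotient.mk b := by
    rw [← hab, Submodule.Quotient.mk_add, (Submodule.Quotient.mk_eq_zero _).mpr ha, zero_add]
  rw [h4]
  refine mk_mem_smul 𝔞 𝔭 (coeffIdeal_le_comap 𝔭) (Submodule.span (WittVector p k) (Set.range V)) I ?_ b hb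
  intro u hu
  induction hu using Submodule.span_induction with
  | mem x hx => obtain ⟨m, rfl⟩ := hx; exact Submodule.subset_span ⟨m, rfl⟩
  | zero => rw [Submodule.Quotient.mk_zero]; exact Submodule.zero_mem _
  | add x y _ _ hx hy => rw [Submodule.Quotient.mk_add]; exact Submodule.add_mem _ hx hy
  | smul w x _ hx =>
    have : (Submodule.Quotient.mk (w • x) : M ⧸ (P • ⊤ : Submodule (WittVector p k) M)) =
        Ideal.Quotient.mk P w • (Submodule.Quotient.mk x : M ⧸ (P • ⊤ : Submodule (WittVector p k) M)) := rfl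
    rw [this]
    exact Submodule.smul_mem _ _ hx

end Main

end Groth.Agent.Lib.DieudonneFiber58
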