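import Groth.Agent.Lib.JetLift50
import Groth.Agent.Lib.DiffOpComm

set_option autoImplicit false
universe u

namespace Groth.Agent.Lib.DiffOpExt50

open TensorProduct Groth.Agent.Lib.JetLift50

section Theta

variable (R : Type u) [CommRing R] {B A : Type u} [CommRing B] [CommRing A] [Algebra R B]
  [Algebra R A]
variable (M N : Type u) [AddCommGroup M] [Module R M] [Module A M] [IsScalarTower R A M]
  [AddCommGroup N] [Module R N] [Module B N] [IsScalarTower R B N]

/-- postcomposition with scalars of `B`. -/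
noncomputable def Lh : B →ₐ[R] Module.End R (M →ₗ[R] N) := Algebra.lsmul R R (M →ₗ[R] N)

/-- precomposition with scalars of `A`. -/
noncomputable def Rh : A →ₐ[R] Module.End R (M →ₗ[R] N) where
  toFun a := LinearMap.lcomp R N ((Algebra.lsmul R R M a : Module.End R M))
  map_one' := by ext E m; simp
  map_mul' a a' := by
    ext E m
    simp
    rw [smul_comm]
  map_zero' := by ext E m; simp
  map_add' a a' := by ext E m; simp
  commutes' r := by ext E m; simp

variable {M N}

@[simp] lemma Lh_apply (b : B) (E : M →ₗ[R] N) (m : M) : Lh R M N b E m = b • E m := rfl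

@[simp] lemma Rh_apply (a : A) (E : M →ₗ[R] N) (m : M) :
    Rh R M N a E m = E (a • m) := rfl

lemma Lh_Rh_commute (b : B) (a : A) : Commute (Lh R M N b) (Rh R M N a) := by
  ext E m
  simp [Module.End.mul_apply]

variable (M N)

/-- the action of `B ⊗[R] A` on `Hom_R(M, N)`. -/
noncomputable def Theta : B ⊗[R] A →ₐ[R] Module.End R (M →ₗ[R] N) :=
  Algebra.TensorProduct.lift (Lh R M N) (Rh R M N) (Lh_Rh_commute R)

variable {M N}

@[simp] lemma Theta_tmul (b : B) (a : A) (E : M →ₗ[R] N) (m : M) :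
    Theta R M N (b ⊗ₜ[R] a) E m = b • E (a • m) := by
  simp [Theta, Module.End.mul_apply]

lemma Theta_mul (x y : B ⊗[R] A) (E : M →ₗ[R] N) :
    Theta R M N (x * y) E = Theta R M N x (Theta R M N y E) := by
  rw [map_mul]; rfl

lemma Theta_gen (ι : A →ₐ[R] B) (a : A) (E : M →ₗ[R] N) (m : M) :
    Theta R M N (gen R ι a) E m = E (a • m) - ι a • E m := by
  simp [gen]

/-- the annihilator of `E` in `B ⊗[R] A`. -/
noncomputable def ann (E : M →ₗ[R] N) : Ideal (B ⊗[R] A) where
  carrier := {x | Theta R M N x E = 0}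
  add_mem' {x y} hx hy := by
    simp only [Set.mem_ofPred_eq] at hx hy ⊢
    rw [map_add, LinearMap.add_apply, hx, hy, add_zero]
  zero_mem' := by simp
  smul_mem' c x hx := by
    simp only [Set.mem_ofPred_eq, smul_eq_mul] at hx ⊢
    rw [Theta_mul, hx, map_zero]

lemma mem_ann (E : M →ₗ[R] N) (x : B ⊗[R] A) : x ∈ ann R E ↔ Theta R M N x E = 0 := Iff.rfl

end Theta

section Ann

variable (R : Type u) [CommRing R] {B A : Type u} [CommRing B] [CommRing A] [Algebra R B]
  [Algebra R A] (ι : A →ₐ[R] B)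
variable {M N₀ N : Type u} [AddCommGroup M] [Module R M] [Module A M] [IsScalarTower R A M]
  [AddCommGroup N₀] [Module R N₀] [Module A N₀] [IsScalarTower R A N₀]
  [AddCommGroup N] [Module R N] [Module B N] [IsScalarTower R B N]

open Groth.Agent.Lib.DiffOpComm in
lemma Theta_gen_comp (j : N₀ →ₗ[R] N) (hj : ∀ (a : A) (n : N₀), j (a • n) = ι a • j n)
    (D : M →ₗ[R] N₀) (a : A) :
    Theta R M N (gen R ι a) (j ∘ₗ D) = j ∘ₗ Diff16.commutator R A M N₀ D a := by
  ext m
  rw [Theta_gen]
  simp [hj]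

/-- a differential operator of order `≤ k` is killed by the `(k+1)`-st power of the kernel of
`B ⊗[R] A → B`. -/
theorem pow_le_ann (j : N₀ →ₗ[R] N) (hj : ∀ (a : A) (n : N₀), j (a • n) = ι a • j n)
    (k : ℕ) (D : M →ₗ[R] N₀) (hD : Diff16.IsDiffOpLE R A M N₀ k D) :
    (RingHom.ker (mu R ι)) ^ (k + 1) ≤ ann R (j ∘ₗ D) := by
  induction k generalizing D with
  | zero =>
    rw [zero_add, pow_one, ker_mu, Ideal.span_le]
    rintro _ ⟨a, rfl⟩
    change Theta R M N (gen R ι a) (j ∘ₗ D) = 0
    rw [Theta_gen_comp R ι j hj]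
    ext m
    have := hD a m
    simp [Groth.Agent.Lib.DiffOpComm.commutator_apply, this]
  | succ k ih =>
    rw [pow_succ, Ideal.mul_le]
    intro y hy z hz
    rw [ker_mu] at hz
    induction hz using Submodule.span_induction with
    | mem z hz =>
      obtain ⟨a, rfl⟩ := hz
      rw [mem_ann, Theta_mul, Theta_gen_comp R ι j hj]
      exact ih _ (hD a) hy
    | zero => simp
    | add z w _ _ hz hw =>
      rw [mul_add]
      exact add_mem hz hw
    | smul c z _ hz =>
      rw [smul_eq_mul, mul_left_comm]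
      exact Ideal.mul_mem_left _ _ hz

end Ann

section EvQ

variable (R : Type u) [CommRing R] {B A : Type u} [CommRing B] [CommRing A] [Algebra R B]
  [Algebra R A]
variable {M N : Type u} [AddCommGroup M] [Module R M] [Module A M] [IsScalarTower R A M]
  [AddCommGroup N] [Module R N] [Module B N] [IsScalarTower R B N]

/-- evaluation at `E`, descended to the quotient by an ideal killing `E`. -/
noncomputable def evQ (I : Ideal (B ⊗[R] A)) (E : M →ₗ[R] N) (hE : I ≤ ann R E) :
    (B ⊗[R] A) ⧸ I →ₗ[R] (M →ₗ[R] N) :=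
  (Submodule.liftQ (I.restrictScalars R) ((LinearMap.applyₗ E) ∘ₗ (Theta R M N).toLinearMap)
    (fun x hx => hE hx)) ∘ₗ (Submodule.Quotient.restrictScalarsEquiv R I).symm.toLinearMap

@[simp] lemma evQ_mk (I : Ideal (B ⊗[R] A)) (E : M →ₗ[R] N) (hE : I ≤ ann R E)
    (x : B ⊗[R] A) : evQ R I E hE (Ideal.Quotient.mk I x) = Theta R M N x E := by
  simp only [evQ, LinearMap.coe_comp, Function.comp_apply, LinearEquiv.coe_coe]
  have : (Submodule.Quotient.restrictScalarsEquiv R I).symm (Ideal.Quotient.mk I x) =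
      (Submodule.Quotient.mk x : (B ⊗[R] A) ⧸ I.restrictScalars R) := rfl
  rw [this]
  rfl

lemma evQ_mk_mul (I : Ideal (B ⊗[R] A)) (E : M →ₗ[R] N) (hE : I ≤ ann R E)
    (x : B ⊗[R] A) (c : (B ⊗[R] A) ⧸ I) :
    evQ R I E hE (Ideal.Quotient.mk I x * c) = Theta R M N x (evQ R I E hE c) := by
  obtain ⟨y, rfl⟩ := Ideal.Quotient.mk_surjective c
  rw [← map_mul, evQ_mk, evQ_mk, Theta_mul]

end EvQ

section Exist

variable (R : Type u) [CommRing R] (S S' : Type u) [CommRing S] [CommRing S'] [Algebra R S]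
  [Algebra R S'] [Algebra S S'] [IsScalarTower R S S']
variable {M N' : Type u} [AddCommGroup M] [Module R M] [Module S M] [IsScalarTower R S M]
  [AddCommGroup N'] [Module R N'] [Module S' N'] [IsScalarTower R S' N']

/-- the jet algebra `(S' ⊗[R] S) ⧸ J0^(k+1)`. -/
abbrev Jet (k : ℕ) : Type u := (S' ⊗[R] S) ⧸ (J0 R S S') ^ (k + 1)

variable {R S S'} (k : ℕ) (φ : S' →+* Jet R S S' k)
  (hφa : ∀ s : S, φ (algebraMap S S' s) = Ideal.Quotient.mk _ ((1 : S') ⊗ₜ[R] s))
  (E : M →ₗ[R] N') (hE : (J0 R S S') ^ (k + 1) ≤ ann R E)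

include hφa in
lemma phi_algebraMap (r : R) : φ (algebraMap R S' r) = algebraMap R (Jet R S S' k) r := by
  rw [IsScalarTower.algebraMap_apply R S S', hφa]
  rw [Algebra.algebraMap_eq_smul_one r, TensorProduct.tmul_smul, Algebra.algebraMap_eq_smul_one r]
  rfl

/-- the additive version of the extended operator. -/
noncomputable def DcAdd (c : Jet R S S' k) : S' ⊗[S] M →+ N' :=
  TensorProduct.liftAddHom
    { toFun := fun t => ((evQ R _ E hE (c * φ t)) : M →ₗ[R] N').toAddMonoidHom
      map_zero' := by ext m; simp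
      map_add' := fun t t' => by ext m; simp [mul_add] }
    (by
      intro s t m
      simp only [AddMonoidHom.coe_mk, ZeroHom.coe_mk, LinearMap.toAddMonoidHom_coe]
      rw [Algebra.smul_def, φ.map_mul, hφa, mul_left_comm, evQ_mk_mul, Theta_tmul, one_smul])

lemma DcAdd_tmul (c : Jet R S S' k) (t : S') (m : M) :
    DcAdd k φ hφa E hE c (t ⊗ₜ[S] m) = evQ R _ E hE (c * φ t) m := by
  simp [DcAdd]

/-- the extended operator, twisted by `c`. -/
noncomputable def Dc (c : Jet R S S' k) : S' ⊗[S] M →ₗ[R] N' where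
  toFun := DcAdd k φ hφa E hE c
  map_add' := map_add _
  map_smul' r x := by
    simp only [RingHom.id_apply]
    induction x with
    | zero => simp
    | add x y hx hy => rw [smul_add, map_add, map_add, hx, hy, smul_add]
    | tmul t m =>
      rw [TensorProduct.smul_tmul', DcAdd_tmul, DcAdd_tmul, Algebra.smul_def, φ.map_mul,
        phi_algebraMap k φ hφa, mul_left_comm, ← Algebra.smul_def, map_smul, LinearMap.smul_apply]

lemma Dc_tmul (c : Jet R S S' k) (t : S') (m : M) :
    Dc k φ hφa E hE c (t ⊗ₜ[S] m) = evQ R _ E hE (c * φ t) m :=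
  DcAdd_tmul k φ hφa E hE c t m

lemma Dc_zero : Dc k φ hφa E hE 0 = 0 := by
  ext x
  induction x with
  | zero => simp
  | add x y hx hy => rw [map_add, hx, hy]; simp
  | tmul t m => rw [Dc_tmul]; simp

open Groth.Agent.Lib.DiffOpComm in
lemma commutator_Dc (c : Jet R S S' k) (b : S') :
    Diff16.commutator R S' (S' ⊗[S] M) N' (Dc k φ hφa E hE c) b =
      Dc k φ hφa E hE (c * (φ b - Ideal.Quotient.mk _ (b ⊗ₜ[R] (1 : S)))) := by
  ext x
  induction x with
  | zero => simp
  | add x y hx hy => rw [map_add, map_add, hx, hy]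
  | tmul t m =>
    rw [commutator_apply, TensorProduct.smul_tmul', smul_eq_mul, Dc_tmul, Dc_tmul, Dc_tmul]
    have h1 : c * (φ b - Ideal.Quotient.mk _ (b ⊗ₜ[R] (1 : S))) * φ t =
        c * φ (b * t) - Ideal.Quotient.mk _ (b ⊗ₜ[R] (1 : S)) * (c * φ t) := by
      rw [φ.map_mul]; ring
    rw [h1, map_sub, LinearMap.sub_apply, evQ_mk_mul, Theta_tmul, one_smul]

include hφa in
open Groth.Agent.Lib.DiffOpComm in
theorem isDiffOpLE_Dc
    (hφb : ∀ t : S', φ t - Ideal.Quotient.mk _ (t ⊗ₜ[R] (1 : S)) ∈ K0 R S S' k)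
    (n j : ℕ) (hnj : n + j = k) (c : Jet R S S' k) (hc : c ∈ (K0 R S S' k) ^ j) :
    Diff16.IsDiffOpLE R S' (S' ⊗[S] M) N' n (Dc k φ hφa E hE c) := by
  induction n generalizing j c with
  | zero =>
    rw [isDiffOpLE_zero_iff]
    intro b x
    have h0 : c * (φ b - Ideal.Quotient.mk _ (b ⊗ₜ[R] (1 : S))) = 0 := by
      have hj : j = k := by omega
      have hmem : c * (φ b - Ideal.Quotient.mk _ (b ⊗ₜ[R] (1 : S))) ∈ (K0 R S S' k) ^ (j + 1) := by
        rw [pow_succ (K0 R S S' k) j]
        exact Ideal.mul_mem_mul hc (hφb b)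
      rw [hj, K0_pow, Ideal.mem_bot] at hmem
      exact hmem
    have h1 := commutator_Dc k φ hφa E hE c b
    rw [h0, Dc_zero] at h1
    have h2 := LinearMap.congr_fun h1 x
    rw [commutator_apply, LinearMap.zero_apply, sub_eq_zero] at h2
    exact h2
  | succ n ih =>
    rw [isDiffOpLE_succ_iff]
    intro b
    rw [commutator_Dc]
    refine ih (j + 1) (by omega) _ ?_
    rw [pow_succ (K0 R S S' k) j]
    exact Ideal.mul_mem_mul hc (hφb b)

lemma Dc_one_tmul (m : M) : Dc k φ hφa E hE 1 ((1 : S') ⊗ₜ[S] m) = E m := by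
  rw [Dc_tmul, one_mul, map_one, ← map_one (Ideal.Quotient.mk _), evQ_mk,
    Algebra.TensorProduct.one_def, Theta_tmul, one_smul, one_smul]

end Exist

section Main

variable (R S S' : Type u) [CommRing R] [CommRing S] [CommRing S'] [Algebra R S]
  [Algebra R S'] [Algebra S S'] [IsScalarTower R S S']
variable {M N' : Type u} [AddCommGroup M] [Module R M] [Module S M] [IsScalarTower R S M]
  [AddCommGroup N'] [Module R N'] [Module S' N'] [IsScalarTower R S' N']

/-- existence of an extension of an operator killed by `J0^(k+1)`. -/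
theorem exists_extension [Algebra.FormallySmooth S S'] (k : ℕ) (E : M →ₗ[R] N')
    (hE : (J0 R S S') ^ (k + 1) ≤ ann R E) :
    ∃ D' : S' ⊗[S] M →ₗ[R] N', Diff16.IsDiffOpLE R S' (S' ⊗[S] M) N' k D' ∧
      ∀ m, D' ((1 : S') ⊗ₜ[S] m) = E m := by
  obtain ⟨φ, hφa, hφb⟩ := exists_jet_lift R S S' k
  refine ⟨Dc k φ hφa E hE 1, ?_, Dc_one_tmul k φ hφa E hE⟩
  exact isDiffOpLE_Dc k φ hφa E hE hφb k 0 (by omega) 1 (by simp)

end Main

section Unique

variable (R S S' : Type u) [CommRing R] [CommRing S] [CommRing S'] [Algebra R S]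
  [Algebra R S'] [Algebra S S'] [IsScalarTower R S S']
variable {M' N' : Type u} [AddCommGroup M'] [Module R M'] [Module S' M'] [IsScalarTower R S' M']
  [AddCommGroup N'] [Module R N'] [Module S' N'] [IsScalarTower R S' N']

/-- an `S`-linear differential operator of finite order over `S'` is `S'`-linear when `S → S'`
is formally unramified. -/
theorem linear_of_isDiffOpLE [Algebra.FormallyUnramified S S'] (k : ℕ) (E : M' →ₗ[R] N')
    (hE : Diff16.IsDiffOpLE R S' M' N' k E)
    (hS : ∀ (s : S) (m : M'), E (algebraMap S S' s • m) = algebraMap S S' s • E m) :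
    ∀ (t : S') (m : M'), E (t • m) = t • E m := by
  have hI : (I1 R S') ^ (k + 1) ≤ ann R E := by
    have := pow_le_ann R (AlgHom.id R S') (LinearMap.id : N' →ₗ[R] N') (by simp) k E hE
    rwa [LinearMap.id_comp] at this
  have hJ : J1 R S S' ≤ ann R E := by
    rw [Ideal.span_le]
    rintro _ ⟨s, rfl⟩
    change Theta R M' N' _ E = 0
    ext m
    rw [map_sub, LinearMap.sub_apply, LinearMap.sub_apply, Theta_tmul, Theta_tmul]
    simp [hS]
  intro t m
  have h := (sup_le hI hJ) (tmul_sub_tmul_mem R S S' k t)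
  have h2 : Theta R M' N' (t ⊗ₜ[R] (1 : S') - (1 : S') ⊗ₜ[R] t) E m = 0 := by
    rw [(mem_ann R E _).mp h]; rfl
  rw [map_sub, LinearMap.sub_apply, LinearMap.sub_apply, Theta_tmul, Theta_tmul] at h2
  simp only [one_smul] at h2
  exact (sub_eq_zero.mp h2).symm

omit [Algebra R S] [IsScalarTower R S S'] in
lemma eq_zero_of_linear {M : Type u} (j : M → M')
    (hspan : Submodule.span S' (Set.range j) = ⊤) (E : M' →ₗ[R] N')
    (hlin : ∀ (t : S') (m : M'), E (t • m) = t • E m) (h0 : ∀ m, E (j m) = 0) : E = 0 := by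
  ext x
  have hx : x ∈ Submodule.span S' (Set.range j) := hspan ▸ Submodule.mem_top
  induction hx using Submodule.span_induction with
  | mem x hx => obtain ⟨m, rfl⟩ := hx; simpa using h0 m
  | zero => simp
  | add x y _ _ hx hy => rw [map_add, hx, hy]; simp
  | smul t x _ hx => rw [hlin, hx]; simp

open Groth.Agent.Lib.DiffOpComm in
/-- a differential operator over `S'` (formally unramified over `S`) vanishing on an `S`-module
of generators is zero. -/
theorem eq_zero_of_vanish [Algebra.FormallyUnramified S S'] {M : Type u} [AddCommGroup M]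
    [Module S M] (j : M → M') (hj : ∀ (s : S) (m : M), j (s • m) = algebraMap S S' s • j m)
    (hspan : Submodule.span S' (Set.range j) = ⊤) (k : ℕ) (E : M' →ₗ[R] N')
    (hE : Diff16.IsDiffOpLE R S' M' N' k E) (h0 : ∀ m, E (j m) = 0) : E = 0 := by
  induction k generalizing E with
  | zero =>
    exact eq_zero_of_linear R S' j hspan E ((isDiffOpLE_zero_iff E).mp hE) h0
  | succ k ih =>
    have hS : ∀ (s : S) (m : M'), E (algebraMap S S' s • m) = algebraMap S S' s • E m := by
      intro s m
      have hc := ih (Diff16.commutator R S' M' N' E (algebraMap S S' s))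
        ((isDiffOpLE_succ_iff k E).mp hE _) (by
          intro m
          rw [commutator_apply, ← hj, h0, h0, smul_zero, sub_zero])
      have := LinearMap.congr_fun hc m
      rwa [commutator_apply, LinearMap.zero_apply, sub_eq_zero] at this
    exact eq_zero_of_linear R S' j hspan E (linear_of_isDiffOpLE R S S' (k + 1) E hE hS) h0

end Unique

section Misc

variable {A B : Type u} [CommRing A] [CommRing B] [Algebra A B]
variable {M N : Type u} [AddCommGroup M] [Module A M] [Module B M] [IsScalarTower A B M]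
  [AddCommGroup N] [Module A N] [Module B N] [IsScalarTower A B N]

open Groth.Agent.Lib.DiffOpComm in
lemma isDiffOpLE_neg {n : ℕ} {D : M →ₗ[A] N} (hD : Diff16.IsDiffOpLE A B M N n D) :
    Diff16.IsDiffOpLE A B M N n (-D) := by
  induction n generalizing D with
  | zero =>
    rw [isDiffOpLE_zero_iff] at *
    intro b m
    simp [hD b m]
  | succ n ih =>
    rw [isDiffOpLE_succ_iff] at *
    intro b
    have : Diff16.commutator A B M N (-D) b = -Diff16.commutator A B M N D b := by
      ext m; simp; abel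
    rw [this]
    exact ih (hD b)

lemma isDiffOpLE_sub {n : ℕ} {D E : M →ₗ[A] N} (hD : Diff16.IsDiffOpLE A B M N n D)
    (hE : Diff16.IsDiffOpLE A B M N n E) : Diff16.IsDiffOpLE A B M N n (D - E) := by
  rw [sub_eq_add_neg]
  exact Groth.Agent.Lib.DiffOpComm.IsDiffOpLE.add hD (isDiffOpLE_neg hE)

end Misc

section Span

variable (S S' : Type u) [CommRing S] [CommRing S'] [Algebra S S']
  (M : Type u) [AddCommGroup M] [Module S M]

lemma span_one_tmul :
    Submodule.span S' (Set.range fun m : M => (1 : S') ⊗ₜ[S] m) = ⊤ := by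
  rw [eq_top_iff]
  rintro x -
  induction x with
  | zero => simp
  | add x y hx hy => exact add_mem hx hy
  | tmul t m =>
    have : t ⊗ₜ[S] m = t • ((1 : S') ⊗ₜ[S] m) := by
      rw [TensorProduct.smul_tmul', smul_eq_mul, mul_one]
    rw [this]
    exact Submodule.smul_mem _ _ (Submodule.subset_span ⟨m, rfl⟩)

end Span

end Groth.Agent.Lib.DiffOpExt50
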