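/-
The `p`-adic dilatation algebra: the universal `p`-adically complete, `p`-torsion-free `A`-algebra
in which given elements `a_1, …, a_n` become divisible by `p`.
Author: helper89
-/
import Mathlib
import Groth.Agent.Lib.CompleteFlat89b

set_option autoImplicit false
universe u

namespace Groth.Agent.Lib.Dilatation89

open MvPolynomial

section Construction

variable (p : ℕ) {A : Type u} [CommRing A] {n : ℕ} (a : Fin n → A)

/-- The ideal generated by the relations `p X_i - a_i`. -/
noncomputable def rel : Ideal (MvPolynomial (Fin n) A) :=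
  Ideal.span (Set.range fun i => C (p : A) * X i - C (a i))

/-- The `p`-saturation of `rel`. -/
noncomputable def sat : Ideal (MvPolynomial (Fin n) A) where
  carrier := {f | ∃ k : ℕ, (p : MvPolynomial (Fin n) A) ^ k * f ∈ rel p a}
  add_mem' := by
    rintro f g ⟨k, hk⟩ ⟨l, hl⟩
    refine ⟨k + l, ?_⟩
    have h1 : (p : MvPolynomial (Fin n) A) ^ (k + l) * (f + g) =
        (p : MvPolynomial (Fin n) A) ^ l * ((p : MvPolynomial (Fin n) A) ^ k * f) +
          (p : MvPolynomial (Fin n) A) ^ k * ((p : MvPolynomial (Fin n) A) ^ l * g) := by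
      ring
    rw [h1]
    exact add_mem (Ideal.mul_mem_left _ _ hk) (Ideal.mul_mem_left _ _ hl)
  zero_mem' := ⟨0, by simp⟩
  smul_mem' := by
    rintro c f ⟨k, hk⟩
    refine ⟨k, ?_⟩
    rw [smul_eq_mul, mul_left_comm]
    exact Ideal.mul_mem_left _ _ hk

theorem mem_sat {f : MvPolynomial (Fin n) A} :
    f ∈ sat p a ↔ ∃ k : ℕ, (p : MvPolynomial (Fin n) A) ^ k * f ∈ rel p a := Iff.rfl

theorem rel_le_sat : rel p a ≤ sat p a := fun f hf => ⟨0, by simpa using hf⟩

/-- The uncompleted dilatation algebra `A[a_i / p]`, `p`-torsion killed. -/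
abbrev D0 : Type u := MvPolynomial (Fin n) A ⧸ sat p a

theorem isSMulRegular_D0 : IsSMulRegular (D0 p a) ((p : ℕ) : D0 p a) := by
  rw [isSMulRegular_iff_right_eq_zero_of_smul]
  intro x hx
  obtain ⟨f, rfl⟩ := Ideal.Quotient.mk_surjective x
  rw [smul_eq_mul, ← map_natCast (Ideal.Quotient.mk (sat p a)), ← map_mul,
    Ideal.Quotient.eq_zero_iff_mem] at hx
  obtain ⟨k, hk⟩ := hx
  rw [Ideal.Quotient.eq_zero_iff_mem]
  refine ⟨k + 1, ?_⟩
  rwa [pow_succ, mul_assoc]

theorem algebraMap_D0_eq (i : Fin n) :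
    algebraMap A (D0 p a) (a i) = (p : D0 p a) * Ideal.Quotient.mk (sat p a) (X i) := by
  have h1 : C (p : A) * X i - C (a i) ∈ sat p a :=
    rel_le_sat p a (Ideal.subset_span ⟨i, rfl⟩)
  have h2 := (Ideal.Quotient.eq_zero_iff_mem).mpr h1
  rw [map_sub, map_mul, sub_eq_zero] at h2
  have h3 : algebraMap A (D0 p a) (a i) = Ideal.Quotient.mk (sat p a) (C (a i)) := rfl
  have h4 : Ideal.Quotient.mk (sat p a) (C (p : A)) = (p : D0 p a) := by
    rw [map_natCast, map_natCast]
  rw [h3, ← h2, h4]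

end Construction

section ComplLift

variable {S T : Type*} [CommRing S] [CommRing T] (I : Ideal S) (K : Ideal T)
  (g : S →+* T) (h : I.map g ≤ K)

include h in
theorem pow_le_comap_pow (n : ℕ) : I ^ n ≤ (K ^ n).comap g :=
  (Ideal.pow_right_mono (Ideal.map_le_iff_le_comap.mp h) n).trans (Ideal.le_comap_pow g n)

theorem eq_of_mk_eq [IsHausdorff K T] {x y : T}
    (hxy : ∀ n, Ideal.Quotient.mk (K ^ n) x = Ideal.Quotient.mk (K ^ n) y) : x = y := by
  rw [← sub_eq_zero]
  apply IsHausdorff.haus (I := K) inferInstance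
  intro n
  rw [SModEq.zero, smul_eq_mul, Ideal.mul_top]
  exact Ideal.Quotient.eq.mp (hxy n)

include h in
theorem compat {m n : ℕ} (hle : m ≤ n) :
    (Ideal.Quotient.factorPow K hle).comp
      ((Ideal.quotientMap (K ^ n) g (pow_le_comap_pow I K g h n)).comp
        (AdicCompletion.evalₐ I n).toRingHom) =
    (Ideal.quotientMap (K ^ m) g (pow_le_comap_pow I K g h m)).comp
        (AdicCompletion.evalₐ I m).toRingHom := by
  apply RingHom.ext
  intro x
  obtain ⟨y, rfl⟩ := AdicCompletion.mk_surjective I S x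
  simp only [RingHom.coe_comp, Function.comp_apply, AlgHom.toRingHom_eq_coe,
    AlgHom.coe_toRingHom, AdicCompletion.evalₐ_mk, Ideal.quotientMap_mk,
    Ideal.Quotient.factorPow, Ideal.Quotient.factor_mk]
  rw [Ideal.Quotient.eq]
  have hy := y.2 hle
  rw [SModEq.sub_mem] at hy
  simp only [smul_eq_mul, Ideal.mul_top] at hy
  rw [← map_sub]
  have hy' : (y : ℕ → S) n - (y : ℕ → S) m ∈ I ^ m := by
    rw [← neg_sub]; exact (I ^ m).neg_mem hy
  exact pow_le_comap_pow I K g h m hy'

variable [IsAdicComplete K T]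

/-- A ring map `g : S → T` with `g I ⊆ K` and `T` `K`-adically complete extends to the `I`-adic
completion of `S`. -/
noncomputable def complLift : AdicCompletion I S →+* T :=
  IsAdicComplete.liftRingHom K
    (fun n => (Ideal.quotientMap (K ^ n) g (pow_le_comap_pow I K g h n)).comp
      (AdicCompletion.evalₐ I n).toRingHom)
    (fun hle => compat I K g h hle)

theorem mk_complLift (n : ℕ) (x : AdicCompletion I S) :
    Ideal.Quotient.mk (K ^ n) (complLift I K g h x) =
      Ideal.quotientMap (K ^ n) g (pow_le_comap_pow I K g h n) (AdicCompletion.evalₐ I n x) :=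
  IsAdicComplete.mk_liftRingHom K _ (fun hle => compat I K g h hle) n x

theorem complLift_of (s : S) : complLift I K g h (AdicCompletion.of I S s) = g s := by
  refine eq_of_mk_eq K fun n => ?_
  rw [mk_complLift, AdicCompletion.evalₐ_of, Ideal.quotientMap_mk]

end ComplLift

section Main

variable (p : ℕ) {A : Type u} [CommRing A] {n : ℕ} (a : Fin n → A)

/-- The ideal `(p)` of `D0`. -/
noncomputable abbrev I0 : Ideal (D0 p a) := Ideal.span {((p : ℕ) : D0 p a)}

/-- The dilatation algebra: the `p`-adic completion of `D0`. -/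
abbrev D : Type u := AdicCompletion (I0 p a) (D0 p a)

theorem I0_fg : (I0 p a).FG := ⟨{((p : ℕ) : D0 p a)}, by simp⟩

theorem map_I0 :
    (I0 p a).map (algebraMap (D0 p a) (D p a)) = Ideal.span {((p : ℕ) : D p a)} := by
  rw [Ideal.map_span, Set.image_singleton, map_natCast]

theorem isAdicComplete_D : IsAdicComplete (Ideal.span {((p : ℕ) : D p a)}) (D p a) := by
  have h1 : IsAdicComplete (I0 p a) (D p a) := AdicCompletion.isAdicComplete (I0_fg p a)
  have h2 := Groth.Agent.Lib.CompleteFlat89.isAdicComplete_map (R := D0 p a) (S := D p a)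
    (I0 p a) (N := D p a)
  rwa [map_I0] at h2

theorem mem_I0_pow {k : ℕ} {x : D0 p a} :
    x ∈ I0 p a ^ k ↔ ∃ z, z * ((p : ℕ) : D0 p a) ^ k = x := by
  rw [Ideal.span_singleton_pow, Ideal.mem_span_singleton']

theorem isSMulRegular_D : IsSMulRegular (D p a) ((p : ℕ) : D p a) := by
  rw [isSMulRegular_iff_right_eq_zero_of_smul]
  intro x hx
  obtain ⟨s, rfl⟩ := AdicCompletion.mk_surjective (I0 p a) (D0 p a) x
  refine AdicCompletion.ext_evalₐ fun k => ?_
  rw [map_zero, AdicCompletion.evalₐ_mk, Ideal.Quotient.eq_zero_iff_mem]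
  have h1 := congrArg (AdicCompletion.evalₐ (I0 p a) (k + 1)) hx
  rw [smul_eq_mul, map_mul, map_natCast, AdicCompletion.evalₐ_mk, map_zero,
    ← map_natCast (Ideal.Quotient.mk (I0 p a ^ (k + 1))), ← map_mul,
    Ideal.Quotient.eq_zero_iff_mem, mem_I0_pow] at h1
  obtain ⟨z, hz⟩ := h1
  have h2 : s.val (k + 1) = z * ((p : ℕ) : D0 p a) ^ k := by
    refine isSMulRegular_D0 p a ?_
    simp only [smul_eq_mul]
    rw [← hz]
    ring
  have h3 : s.val (k + 1) ∈ I0 p a ^ k := (mem_I0_pow p a).mpr ⟨z, h2.symm⟩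
  have h4 := s.2 (Nat.le_succ k)
  rw [SModEq.sub_mem, smul_eq_mul, Ideal.mul_top] at h4
  have h5 : s.val k = (s.val k - s.val (k + 1)) + s.val (k + 1) := by ring
  rw [h5]
  exact add_mem h4 h3

theorem algebraMap_D_mem (i : Fin n) :
    algebraMap A (D p a) (a i) ∈ Ideal.span {((p : ℕ) : D p a)} := by
  rw [Ideal.mem_span_singleton']
  refine ⟨AdicCompletion.of (I0 p a) (D0 p a) (Ideal.Quotient.mk (sat p a) (X i)), ?_⟩
  have hof : ∀ y : D0 p a, AdicCompletion.of (I0 p a) (D0 p a) y =
      algebraMap (D0 p a) (D p a) y := fun y => rfl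
  rw [AdicCompletion.algebraMap_apply, algebraMap_D0_eq, hof, hof, map_mul, map_natCast,
    mul_comm]

end Main

section Univ

variable (p : ℕ) {A : Type u} [CommRing A] {n : ℕ} (a : Fin n → A)
  {B : Type*} [CommRing B] [Algebra A B]

/-- The map `D0 → B` sending `X_i` to `b_i` where `a_i = p b_i` in the `p`-torsion-free `B`. -/
noncomputable def toB (hB : IsSMulRegular B ((p : ℕ) : B)) (b : Fin n → B)
    (hb : ∀ i, algebraMap A B (a i) = ((p : ℕ) : B) * b i) : D0 p a →ₐ[A] B :=
  Ideal.Quotient.liftₐ (sat p a) (aeval b) (by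
    intro f hf
    obtain ⟨k, hk⟩ := hf
    have hle : rel p a ≤ RingHom.ker (aeval b : MvPolynomial (Fin n) A →ₐ[A] B).toRingHom := by
      rw [rel, Ideal.span_le]
      rintro _ ⟨i, rfl⟩
      simp [hb i]
    have h1 := hle hk
    rw [RingHom.mem_ker] at h1
    have h2 : ((p : ℕ) : B) ^ k • (aeval b f) = 0 := by
      rw [smul_eq_mul, ← h1]
      simp
    exact isSMulRegular_iff_right_eq_zero_of_smul.mp (hB.pow k) _ h2)

theorem toB_mk (hB : IsSMulRegular B ((p : ℕ) : B)) (b : Fin n → B)
    (hb : ∀ i, algebraMap A B (a i) = ((p : ℕ) : B) * b i) (f : MvPolynomial (Fin n) A) :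
    toB p a hB b hb (Ideal.Quotient.mk (sat p a) f) = aeval b f := rfl

theorem map_toB_le (hB : IsSMulRegular B ((p : ℕ) : B)) (b : Fin n → B)
    (hb : ∀ i, algebraMap A B (a i) = ((p : ℕ) : B) * b i) :
    (I0 p a).map (toB p a hB b hb).toRingHom ≤ Ideal.span {((p : ℕ) : B)} := by
  rw [Ideal.map_span, Set.image_singleton, map_natCast]

variable [IsAdicComplete (Ideal.span {((p : ℕ) : B)}) B]

/-- Existence of the map from the dilatation algebra. -/
theorem nonempty_algHom (hB : IsSMulRegular B ((p : ℕ) : B))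
    (ha : ∀ i, algebraMap A B (a i) ∈ Ideal.span {((p : ℕ) : B)}) :
    Nonempty (D p a →ₐ[A] B) := by
  have hb : ∀ i, ∃ b : B, algebraMap A B (a i) = ((p : ℕ) : B) * b := by
    intro i
    obtain ⟨b, hb⟩ := Ideal.mem_span_singleton'.mp (ha i)
    exact ⟨b, by rw [← hb, mul_comm]⟩
  choose b hb using hb
  let ψ := toB p a hB b hb
  let φ : D p a →+* B := complLift (I0 p a) (Ideal.span {((p : ℕ) : B)}) ψ.toRingHom
    (map_toB_le p a hB b hb)
  refine ⟨{ φ with commutes' := fun r => ?_ }⟩
  change φ (algebraMap A (D p a) r) = _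
  rw [AdicCompletion.algebraMap_apply, complLift_of]
  exact ψ.commutes r

omit [IsAdicComplete (Ideal.span {((p : ℕ) : B)}) B] in
/-- Uniqueness of the map from the dilatation algebra. -/
theorem algHom_ext [IsHausdorff (Ideal.span {((p : ℕ) : B)}) B]
    (hB : IsSMulRegular B ((p : ℕ) : B)) (f g : D p a →ₐ[A] B) : f = g := by
  have hof : ∀ y : D0 p a, AdicCompletion.of (I0 p a) (D0 p a) y =
      algebraMap (D0 p a) (D p a) y := fun y => rfl
  -- the two maps agree on the image of the polynomial ring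
  have hX : ∀ i, f (algebraMap (D0 p a) (D p a) (Ideal.Quotient.mk (sat p a) (X i))) =
      g (algebraMap (D0 p a) (D p a) (Ideal.Quotient.mk (sat p a) (X i))) := by
    intro i
    refine hB ?_
    simp only [smul_eq_mul]
    have h1 : ∀ h : D p a →ₐ[A] B,
        ((p : ℕ) : B) * h (algebraMap (D0 p a) (D p a) (Ideal.Quotient.mk (sat p a) (X i))) =
          algebraMap A B (a i) := by
      intro h
      have h0 : algebraMap A (D p a) (a i) =
          algebraMap (D0 p a) (D p a) (algebraMap A (D0 p a) (a i)) := rfl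
      rw [← h.commutes, h0, algebraMap_D0_eq, map_mul, map_natCast, map_mul, map_natCast]
    rw [h1 f, h1 g]
  have hpoly : ∀ q : MvPolynomial (Fin n) A,
      f (algebraMap (D0 p a) (D p a) (Ideal.Quotient.mk (sat p a) q)) =
        g (algebraMap (D0 p a) (D p a) (Ideal.Quotient.mk (sat p a) q)) := by
    intro q
    induction q using MvPolynomial.induction_on with
    | C r =>
      have h1 : algebraMap (D0 p a) (D p a) (Ideal.Quotient.mk (sat p a) (C r)) =
          algebraMap A (D p a) r := rfl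
      rw [h1, f.commutes, g.commutes]
    | add q q' hq hq' => simp only [map_add, hq, hq']
    | mul_X q i hq => simp only [map_mul, hq, hX i]
  refine AlgHom.ext fun x => eq_of_mk_eq (Ideal.span {((p : ℕ) : B)}) fun k => ?_
  -- approximate `x` by an element of `D0` modulo `p ^ k`
  obtain ⟨y, hy⟩ := Ideal.Quotient.mk_surjective (AdicCompletion.evalₐ (I0 p a) k x)
  obtain ⟨q, rfl⟩ := Ideal.Quotient.mk_surjective y
  have h1 : x - algebraMap (D0 p a) (D p a) (Ideal.Quotient.mk (sat p a) q) ∈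
      RingHom.ker (AdicCompletion.evalₐ (I0 p a) k).toRingHom := by
    rw [RingHom.mem_ker]
    change AdicCompletion.evalₐ (I0 p a) k _ = 0
    rw [map_sub, ← hof, AdicCompletion.evalₐ_of, hy, sub_self]
  rw [Groth.Agent.Lib.ComplFlat.ker_evalₐ_eq_map _ (I0_fg p a) k, Ideal.map_pow, map_I0,
    Ideal.span_singleton_pow, Ideal.mem_span_singleton'] at h1
  obtain ⟨d, hd⟩ := h1
  have h2 : x = algebraMap (D0 p a) (D p a) (Ideal.Quotient.mk (sat p a) q) +
      d * ((p : ℕ) : D p a) ^ k := by
    rw [hd]; ring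
  rw [Ideal.Quotient.eq, h2, map_add, map_add, hpoly q, add_sub_add_left_eq_sub, map_mul,
    map_mul, map_pow, map_natCast, map_pow, map_natCast, ← sub_mul, Ideal.span_singleton_pow]
  exact Ideal.mem_span_singleton'.mpr ⟨_, rfl⟩

end Univ

end Groth.Agent.Lib.Dilatation89
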