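import Mathlib
import Groth.Agent.S2680
import Groth.Agent.Lib.TopKrullDim

set_option autoImplicit false
universe u

namespace Groth.Agent.Lib.DimDominant97

/-- dimension of a f.t. domain over a field is monotone under injective algebra maps. -/
theorem ringKrullDim_le_of_injective_domains (k D E : Type u) [Field k] [CommRing D] [IsDomain D]
    [CommRing E] [IsDomain E] [Algebra k D] [Algebra k E] [Algebra.FiniteType k D]
    [Algebra.FiniteType k E] (g : D →ₐ[k] E) (hg : Function.Injective g) :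
    ringKrullDim D ≤ ringKrullDim E := by
  obtain ⟨n, hn1, hn2, -⟩ := Groth.Agent.S2680.result k D
  obtain ⟨m, hm1, hm2, -⟩ := Groth.Agent.S2680.result k E
  rw [hn2, hm2]
  let g' : D →ₐ[k] FractionRing E := (IsScalarTower.toAlgHom k E (FractionRing E)).comp g
  have hg' : Function.Injective g' :=
    (IsFractionRing.injective E (FractionRing E)).comp hg
  let G : FractionRing D →ₐ[k] FractionRing E := IsFractionRing.liftAlgHom hg'
  have hle := trdeg_le_of_injective G G.toRingHom.injective
  rw [hn1, hm1] at hle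
  exact_mod_cast hle

/-- if `I` is contained in every prime then `R ⧸ I` has the same dimension as `R`. -/
theorem ringKrullDim_quotient_of_le_all (R : Type u) [CommRing R] (I : Ideal R)
    (h : ∀ p : PrimeSpectrum R, I ≤ p.asIdeal) : ringKrullDim (R ⧸ I) = ringKrullDim R := by
  rw [ringKrullDim_quotient]
  have : PrimeSpectrum.zeroLocus (I : Set R) = Set.univ := by
    ext p
    simpa using h p
  rw [this]
  exact Order.krullDim_eq_of_orderIso (OrderIso.Set.univ)

theorem ringKrullDim_le_of_dominant (k A B : Type u) [Field k] [CommRing A] [CommRing B]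
    (φA : k →+* A) (hA : φA.FiniteType) (φB : k →+* B) (hB : φB.FiniteType) (ψ : A →+* B)
    (hψ : ψ.comp φA = φB) (p0 : Ideal A) [p0.IsPrime] (hp0 : ∀ p : PrimeSpectrum A, p0 ≤ p.asIdeal)
    (q0 : Ideal B) [q0.IsPrime] (hq0 : q0.comap ψ = p0) : ringKrullDim A ≤ ringKrullDim B := by
  let _ : Algebra k A := φA.toAlgebra
  let _ : Algebra k B := φB.toAlgebra
  have hftA : Algebra.FiniteType k A := hA
  have hftB : Algebra.FiniteType k B := hB
  have hftA' : Algebra.FiniteType k (A ⧸ p0) :=
    Algebra.FiniteType.of_surjective (Ideal.Quotient.mkₐ k p0) (Ideal.Quotient.mkₐ_surjective k p0)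
  have hftB' : Algebra.FiniteType k (B ⧸ q0) :=
    Algebra.FiniteType.of_surjective (Ideal.Quotient.mkₐ k q0) (Ideal.Quotient.mkₐ_surjective k q0)
  let ψ' : A →ₐ[k] B := { ψ with commutes' := fun c => congrArg (fun h : k →+* B => h c) hψ }
  let g : A ⧸ p0 →ₐ[k] B ⧸ q0 := Ideal.quotientMapₐ q0 ψ' (le_of_eq hq0.symm)
  have hg : Function.Injective g :=
    Ideal.quotientMap_injective' (f := ψ) (H := le_of_eq hq0.symm) (le_of_eq hq0)
  calc ringKrullDim A = ringKrullDim (A ⧸ p0) := (ringKrullDim_quotient_of_le_all A p0 hp0).symm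
    _ ≤ ringKrullDim (B ⧸ q0) := ringKrullDim_le_of_injective_domains k _ _ g hg
    _ ≤ ringKrullDim B := ringKrullDim_le_of_surjective _ Ideal.Quotient.mk_surjective

open AlgebraicGeometry CategoryTheory TopologicalSpace

/-- dimension of an affine open as a subspace equals the Krull dimension of its ring. -/
theorem topologicalKrullDim_affineOpen {X : Scheme.{u}} (U : X.Opens) (hU : IsAffineOpen U) :
    topologicalKrullDim ↥U = ringKrullDim Γ(X, U) := by
  rw [← PrimeSpectrum.topologicalKrullDim_eq_ringKrullDim]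
  have e := TopCat.homeoOfIso (Scheme.forgetToTop.mapIso hU.isoSpec)
  exact IsHomeomorph.topologicalKrullDim_eq e e.isHomeomorph

theorem dim_le_of_dominant (k : Type u) [Field k] {X Y : Scheme.{u}}
    (p : X ⟶ Spec (CommRingCat.of k)) (q : Y ⟶ Spec (CommRingCat.of k))
    [LocallyOfFiniteType p] [LocallyOfFiniteType q]
    [IrreducibleSpace ↥X] (f : Y ⟶ X) (hf : f ≫ p = q)
    (hη : genericPoint ↥X ∈ Set.range f.base) :
    topologicalKrullDim ↥X ≤ topologicalKrullDim ↥Y := by
  obtain ⟨y, hy⟩ := hη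
  rw [topologicalKrullDim, Order.krullDim]
  refine iSup_le fun c => ?_
  obtain ⟨x, hx⟩ := c.head.isIrreducible.nonempty
  obtain ⟨U, hU, hxU, -⟩ := (Opens.isBasis_iff_nbhd.mp X.isBasis_affineOpens)
    (show x ∈ (⊤ : Opens X) from trivial)
  have hU : IsAffineOpen U := hU
  have h1 := Groth.Agent.Lib.TopKrullDim.length_le_dim_of_head_meets_open c (U : Set X)
    U.isOpen x hx hxU
  refine h1.trans ?_
  -- generic point in U
  have hηU : genericPoint ↥X ∈ U :=
    (genericPoint_specializes x).mem_open U.isOpen hxU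
  have hyU : y ∈ f ⁻¹ᵁ U := by
    change f.base y ∈ U
    rw [hy]; exact hηU
  obtain ⟨V, hV, hyV, hVU⟩ := (Opens.isBasis_iff_nbhd.mp Y.isBasis_affineOpens) hyU
  have hV : IsAffineOpen V := hV
  have h2 : topologicalKrullDim ↥V ≤ topologicalKrullDim ↥Y :=
    topologicalKrullDim_subspace_le Y (V : Set Y)
  refine le_trans ?_ h2
  change topologicalKrullDim ↥U ≤ topologicalKrullDim ↥V
  rw [topologicalKrullDim_affineOpen U hU, topologicalKrullDim_affineOpen V hV]
  let φA : k →+* Γ(X, U) := (p.appLE ⊤ U le_top).hom.comp (Scheme.ΓSpecIso (.of k)).inv.hom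
  let φB : k →+* Γ(Y, V) := (q.appLE ⊤ V le_top).hom.comp (Scheme.ΓSpecIso (.of k)).inv.hom
  have hφ : ∀ {Z : Scheme.{u}} (r : Z ⟶ Spec (CommRingCat.of k)) [LocallyOfFiniteType r]
      (W : Z.Opens) (hW : IsAffineOpen W),
      ((r.appLE ⊤ W le_top).hom.comp (Scheme.ΓSpecIso (.of k)).inv.hom).FiniteType := by
    intro Z r _ W hW
    refine RingHom.FiniteType.comp
      (LocallyOfFiniteType.finiteType_appLE r (isAffineOpen_top _) hW le_top) ?_
    exact RingHom.FiniteType.of_surjective _
      (ConcreteCategory.bijective_of_isIso (Scheme.ΓSpecIso (.of k)).inv).2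
  let ψ : Γ(X, U) →+* Γ(Y, V) := (f.appLE U V hVU).hom
  have hψ : ψ.comp φA = φB := by
    have := Scheme.Hom.appLE_comp_appLE f p ⊤ U V le_top hVU
    simp only [φA, φB, ψ, ← RingHom.comp_assoc, ← CommRingCat.hom_comp, this]
    subst hf
    rfl
  let P0 := hU.primeIdealOf ⟨genericPoint ↥X, hηU⟩
  let Q0 := hV.primeIdealOf ⟨y, hyV⟩
  have hQP : Q0.comap ψ = P0 := by
    have := IsAffineOpen.comap_primeIdealOf_appLE U hU V hV hVU hyV (f := f)
    simp only [hy] at this
    convert this using 2
  refine ringKrullDim_le_of_dominant k _ _ φA (hφ p U hU) φB (hφ q V hV) ψ hψ P0.asIdeal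
    (fun P => ?_) Q0.asIdeal (congrArg PrimeSpectrum.asIdeal hQP)
  rw [PrimeSpectrum.asIdeal_le_asIdeal, PrimeSpectrum.le_iff_specializes]
  have hsp : hU.fromSpec P0 ⤳ hU.fromSpec P := by
    rw [hU.fromSpec_primeIdealOf]
    exact genericPoint_specializes _
  exact (hU.fromSpec.isOpenEmbedding.isInducing.specializes_iff).mp hsp

end Groth.Agent.Lib.DimDominant97
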