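/-
helper56: the dimension formula under a local catenarity hypothesis (EGA IV 5.6.1-type).
-/
import Mathlib
import Groth.Agent.Lib.H56DimFormula2
import Groth.Agent.Lib.Catenary

set_option autoImplicit false
universe u

open Polynomial Ideal

namespace Groth.Agent.Lib.H56DimFormula

/-- Catenarity hypothesis relative to a base `(R, p)`: every finite type `R`-algebra `B` embedded in
`S[X]` is catenary at the primes over `p`. -/
def CatHyp (R : Type u) [CommRing R] (p : Ideal R) (S : Type u) [CommRing S] [Algebra R S] : Prop :=
  ∀ (B : Type u) [CommRing B] [Algebra R B] [Algebra.FiniteType R B] (f : B →ₐ[R] S[X]),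
    Function.Injective f → ∀ (P : Ideal B) [P.IsPrime], P.under R = p →
      CAlg.IsCatenary (Localization.AtPrime P)

section Induction3

variable (R : Type u) [CommRing R] [IsDomain R] [IsNoetherianRing R] (p : Ideal R) [p.IsPrime]

theorem dimension_formula_of_catHyp_aux (n : ℕ) : ∀ (S : Type u) [CommRing S] [IsDomain S]
    [Algebra R S] [FaithfulSMul R S] (_ : CatHyp R p S)
    (s : Fin n → S) (_ : Algebra.adjoin R (Set.range s) = ⊤)
    (q : Ideal S) [q.IsPrime] [q.LiesOver p],
    (q.height : Cardinal.{u}) + Algebra.trdeg (R ⧸ p) (S ⧸ q) =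
      (p.height : Cardinal.{u}) + Algebra.trdeg R S := by
  induction n with
  | zero =>
    intro S _ _ _ _ hH s hs q _ _
    have hx : Algebra.adjoin R {(0 : S)} = ⊤ := by
      rw [← hs, Set.range_eq_empty s, Algebra.adjoin_empty]
      refine le_antisymm (Algebra.adjoin_le ?_) bot_le
      rintro _ rfl
      exact Subalgebra.zero_mem _
    refine one_gen_eq_of_isCatenary R S 0 p q hx ?_
    have hq' : (q.comap (aeval (R := R) (0 : S))).IsPrime := Ideal.comap_isPrime _ _
    refine hH R[X] (Polynomial.mapAlgHom (Algebra.ofId R S)) ?_ _ ?_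
    · rw [Polynomial.coe_mapAlgHom]
      exact Polynomial.map_injective _ (FaithfulSMul.algebraMap_injective R S)
    · exact (LiesOver.over (P := q.comap (aeval (R := R) (0 : S))) (p := p)).symm
  | succ n ih =>
    intro S _ _ _ _ hH s hs q _ _
    obtain ⟨R', hR'⟩ : ∃ R' : Subalgebra R S, R' = Algebra.adjoin R (Set.range (s ∘ Fin.castSucc)) :=
      ⟨_, rfl⟩
    have hfg : R'.FG := by
      rw [hR']
      exact Subalgebra.fg_def.mpr ⟨_, Set.finite_range _, rfl⟩
    have hft : Algebra.FiniteType R R' := (Subalgebra.fg_iff_finiteType R').mp hfg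
    have hN : IsNoetherianRing R' := Algebra.FiniteType.isNoetherianRing R R'
    have hinj : Function.Injective (algebraMap R R') := by
      intro a b hab
      apply FaithfulSMul.algebraMap_injective R S
      exact congrArg Subtype.val hab
    have hF1 : FaithfulSMul R R' := (faithfulSMul_iff_algebraMap_injective R R').mpr hinj
    have hF2 : FaithfulSMul R' S :=
      (faithfulSMul_iff_algebraMap_injective R' S).mpr Subtype.val_injective
    have hmem : ∀ j : Fin n, s (Fin.castSucc j) ∈ R' := by
      intro j
      rw [hR']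
      exact Algebra.subset_adjoin ⟨j, rfl⟩
    let t : Fin n → R' := fun j => ⟨s (Fin.castSucc j), hmem j⟩
    have ht : Algebra.adjoin R (Set.range t) = ⊤ := by
      have h1 : Set.range t = ((↑) : R' → S) ⁻¹' (Set.range (s ∘ Fin.castSucc)) := by
        ext ⟨y, hy⟩
        simp only [Set.mem_range, Set.mem_preimage, Function.comp_apply, t, Subtype.mk.injEq]
      rw [h1]
      subst hR'
      exact Algebra.adjoin_adjoin_coe_preimage
    have hx : Algebra.adjoin R' {s (Fin.last n)} = ⊤ := by
      have h1 : Algebra.adjoin R (Set.range s) ≤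
          (Algebra.adjoin R' {s (Fin.last n)}).restrictScalars R := by
        apply Algebra.adjoin_le
        rintro _ ⟨i, rfl⟩
        change s i ∈ Algebra.adjoin R' {s (Fin.last n)}
        refine Fin.lastCases ?_ (fun j => ?_) i
        · exact Algebra.subset_adjoin rfl
        · exact (Algebra.adjoin R' {s (Fin.last n)}).algebraMap_mem (t j)
      rw [eq_top_iff]
      intro y _
      exact h1 (hs ▸ Algebra.mem_top)
    have hp' : (q.under R').IsPrime := Ideal.comap_isPrime _ _
    have hlo : (q.under R').LiesOver p := inferInstance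
    have hιinj : Function.Injective (Polynomial.mapAlgHom (R'.val : R' →ₐ[R] S)) := by
      rw [Polynomial.coe_mapAlgHom]
      exact Polynomial.map_injective _ Subtype.val_injective
    -- the hypothesis for `R'`
    have hH' : CatHyp R p R' := by
      intro B _ _ _ f hf P _ hP
      exact hH B ((Polynomial.mapAlgHom (R'.val : R' →ₐ[R] S)).comp f)
        (hιinj.comp hf) P hP
    have h1 := ih R' hH' t ht (q.under R')
    -- the one generator step
    have hcat : haveI : (q.comap (aeval (R := R') (s (Fin.last n)))).IsPrime :=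
        Ideal.comap_isPrime _ _
        CAlg.IsCatenary (Localization.AtPrime (q.comap (aeval (R := R') (s (Fin.last n))))) := by
      have hq' : (q.comap (aeval (R := R') (s (Fin.last n)))).IsPrime := Ideal.comap_isPrime _ _
      have hftp : Algebra.FiniteType R R'[X] :=
        Algebra.FiniteType.trans hft (inferInstance : Algebra.FiniteType R' R'[X])
      refine hH R'[X] (Polynomial.mapAlgHom (R'.val : R' →ₐ[R] S)) hιinj _ ?_
      have h2 : (q.comap (aeval (R := R') (s (Fin.last n)))).under R' = q.under R' :=
        (LiesOver.over (P := q.comap (aeval (R := R') (s (Fin.last n)))) (p := q.under R')).symm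
      rw [← Ideal.under_under (B := R'), h2]
      exact (LiesOver.over (P := q.under R') (p := p)).symm
    have h2 := one_gen_eq_of_isCatenary R' S (s (Fin.last n)) (q.under R') q hx hcat
    have hT : Algebra.trdeg R R' + Algebra.trdeg R' S = Algebra.trdeg R S := trdeg_add_eq R R'
    have htower := isScalarTower_quotients R R' S p (q.under R') q
    have hdq : IsDomain (S ⧸ q) := Ideal.Quotient.isDomain q
    have hdp : IsDomain (R ⧸ p) := Ideal.Quotient.isDomain p
    have ht' : Algebra.trdeg (R ⧸ p) (R' ⧸ q.under R') + Algebra.trdeg (R' ⧸ q.under R') (S ⧸ q) =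
        Algebra.trdeg (R ⧸ p) (S ⧸ q) := trdeg_add_eq (R ⧸ p) (R' ⧸ q.under R')
    rw [← hT, ← ht']
    exact add_step_eq h1 h2

/-- The dimension formula under the catenarity hypothesis `CatHyp`. -/
theorem dimension_formula_of_catHyp (S : Type u) [CommRing S] [IsDomain S] [Algebra R S]
    [FaithfulSMul R S] [Algebra.FiniteType R S] (hH : CatHyp R p S) (q : Ideal S) [q.IsPrime]
    [q.LiesOver p] :
    (q.height : Cardinal.{u}) + Algebra.trdeg (R ⧸ p) (S ⧸ q) =
      (p.height : Cardinal.{u}) + Algebra.trdeg R S := by
  obtain ⟨t, ht⟩ := (‹Algebra.FiniteType R S›).out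
  obtain ⟨n, s, hs⟩ : ∃ (n : ℕ) (s : Fin n → S), Set.range s = (t : Set S) := by
    refine ⟨t.card, fun i => (t.equivFin.symm i : S), ?_⟩
    ext y
    simp only [Set.mem_range, Finset.mem_coe]
    constructor
    · rintro ⟨i, rfl⟩
      exact (t.equivFin.symm i).2
    · intro hy
      exact ⟨t.equivFin ⟨y, hy⟩, by simp⟩
  exact dimension_formula_of_catHyp_aux R p n S hH s (hs ▸ ht) q

end Induction3


section FromSubalgebras

open IsLocalRing

/-- The hypothesis of EGA IV 5.6.1-type statements (catenarity of the localizations of finitely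
generated subalgebras of `S[T]` at maximal ideals over `𝔪`) implies `CatHyp`. -/
theorem catHyp_of_subalgebras (R : Type u) [CommRing R] [IsLocalRing R] (S : Type u) [CommRing S]
    [Algebra R S]
    (hcat : ∀ A' : Subalgebra R (Polynomial S), A'.FG →
      ∀ (m' : Ideal A') [m'.IsMaximal], m'.LiesOver (maximalIdeal R) →
        CAlg.IsCatenary (Localization.AtPrime m')) :
    CatHyp R (maximalIdeal R) S := by
  intro B _ _ _ f hf P _ hP
  let e : B ≃ₐ[R] f.range := AlgEquiv.ofInjective f hf
  have hFG : f.range.FG := by
    rw [← Algebra.map_top]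
    exact Subalgebra.FG.map f (Algebra.FiniteType.out)
  obtain ⟨P', hP'⟩ : ∃ P' : Ideal f.range, P' = P.map e := ⟨_, rfl⟩
  have hP'prime : P'.IsPrime := by
    rw [hP']
    exact Ideal.map_isPrime_of_equiv e
  have hmemP' : ∀ b : B, e b ∈ P' ↔ b ∈ P := by
    intro b
    rw [hP', Ideal.mem_map_of_equiv]
    constructor
    · rintro ⟨y, hy, hyb⟩
      rwa [← e.injective hyb]
    · intro hb
      exact ⟨b, hb, rfl⟩
  obtain ⟨m', hm', hle⟩ := Ideal.exists_le_maximal P' hP'prime.ne_top
  have hlo : m'.LiesOver (maximalIdeal R) := by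
    constructor
    refine (maximalIdeal.isMaximal R).eq_of_le (Ideal.comap_isPrime _ m').ne_top ?_
    intro r hr
    rw [← hP, Ideal.under_def, Ideal.mem_comap] at hr
    rw [Ideal.under_def, Ideal.mem_comap]
    apply hle
    rw [← e.commutes r]
    exact (hmemP' _).mpr hr
  have hcat' := hcat f.range hFG m' hlo
  have hle' : m'.primeCompl ≤ P'.primeCompl := fun x hx hxP => hx (hle hxP)
  let _ : Algebra (Localization.AtPrime m') (Localization.AtPrime P') :=
    IsLocalization.localizationAlgebraOfSubmonoidLe _ _ m'.primeCompl P'.primeCompl hle'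
  have : IsScalarTower f.range (Localization.AtPrime m') (Localization.AtPrime P') :=
    IsLocalization.localization_isScalarTower_of_submonoid_le _ _ _ _ hle'
  have hloc : IsLocalization (P'.primeCompl.map (algebraMap f.range (Localization.AtPrime m')))
      (Localization.AtPrime P') :=
    IsLocalization.isLocalization_of_submonoid_le _ _ m'.primeCompl P'.primeCompl hle'
  have hcatP' : CAlg.IsCatenary (Localization.AtPrime P') :=
    @Catenary.isCatenary_of_isLocalization _ _ _ _ _ _ hloc hcat'
  have H : P.primeCompl.map e.toRingEquiv.toMonoidHom = P'.primeCompl := by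
    ext x
    constructor
    · rintro ⟨b, hb, rfl⟩
      intro hx
      exact hb ((hmemP' b).mp hx)
    · intro hx
      refine ⟨e.symm x, ?_, ?_⟩
      · intro hb
        apply hx
        have := (hmemP' (e.symm x)).mpr hb
        rwa [AlgEquiv.apply_symm_apply] at this
      · exact e.apply_symm_apply x
  let ε : Localization.AtPrime P ≃+* Localization.AtPrime P' :=
    IsLocalization.ringEquivOfRingEquiv _ _ e.toRingEquiv H
  exact Catenary.isCatenary_of_surjective (ε.symm : _ →+* _) ε.symm.surjective hcatP'

end FromSubalgebras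

end Groth.Agent.Lib.H56DimFormula
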