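import Groth.Agent.Lib.DimFormulaScheme
import Groth.Agent.Lib.H56DimFormula3
import Mathlib.RingTheory.RingHom.Surjective
import Mathlib.RingTheory.Localization.LocalizationLocalization

/-!
# The dimension formula with a universally catenary local ring at one point (helper63)

`Lib/DimFormulaScheme.stalk_formula` assumes all local rings of the base universally catenary.  Here
only the local ring at `f x` is assumed universally catenary (as in EGA IV 5.6.5, 13.3.x), using
helper56's `dimension_formula_of_catHyp`.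
-/

set_option autoImplicit false
universe u

namespace Groth.Agent.Lib.DimFormulaLocal

open Cardinal AlgebraicGeometry Groth.Agent.Lib.TrdegTransfer Groth.Agent.Lib.DimIneqCore
  Groth.Agent.Lib.DimIneqScheme Groth.Agent.Lib.H56DimFormula Groth.Agent.Lib.DimFormulaScheme

section Alg

theorem uc_atPrime_of_eq {R : Type u} [CommRing R] (p q : Ideal R) [hp : p.IsPrime]
    [hq : q.IsPrime] (h : p = q) (hUC : CAlg.IsUniversallyCatenary (Localization.AtPrime p)) :
    CAlg.IsUniversallyCatenary (Localization.AtPrime q) := by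
  subst h
  exact hUC

/-- Universal catenarity of `R_p` passes to `(R/I)_{p/I}`. -/
theorem uc_atPrime_quotient {R : Type u} [CommRing R] (I p : Ideal R) [hp : p.IsPrime] (hI : I ≤ p)
    (hUC : CAlg.IsUniversallyCatenary (Localization.AtPrime p)) :
    haveI := isPrime_map_mk I p hI
    CAlg.IsUniversallyCatenary (Localization.AtPrime (p.map (Ideal.Quotient.mk I))) := by
  haveI := isPrime_map_mk I p hI
  have h1 := RingHom.surjective_localRingHom_of_surjective (Ideal.Quotient.mk I)
    Ideal.Quotient.mk_surjective (p.map (Ideal.Quotient.mk I))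
  have h2 : CAlg.IsUniversallyCatenary (Localization.AtPrime
      ((p.map (Ideal.Quotient.mk I)).comap (Ideal.Quotient.mk I))) :=
    uc_atPrime_of_eq p _ (comap_map_mk_eq I p hI).symm hUC
  exact Groth.Agent.Lib.ComplUC33.isUniversallyCatenary_of_surjective _ h1 h2

/-- If `R_p` is universally catenary then every finite type `R`-algebra is catenary at the primes
over `p`. -/
theorem catHyp_of_uc_atPrime (R : Type u) [CommRing R] (p : Ideal R) [p.IsPrime] (S : Type u)
    [CommRing S] [Algebra R S] (hUC : CAlg.IsUniversallyCatenary (Localization.AtPrime p)) :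
    CatHyp R p S := by
  intro B _ _ hB _ _ P hP hPp
  let M := Algebra.algebraMapSubmonoid B p.primeCompl
  let B' := Localization M
  have hfin : Algebra.FiniteType (Localization.AtPrime p) B' := by
    rw [← RingHom.finiteType_algebraMap]
    have hfin : (algebraMap R B).FiniteType := RingHom.finiteType_algebraMap.2 hB
    have hloc : IsLocalization (Submonoid.map (algebraMap R B) p.primeCompl) B' :=
      inferInstanceAs (IsLocalization (Algebra.algebraMapSubmonoid B p.primeCompl) _)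
    exact RingHom.finiteType_localizationPreserves (algebraMap R B) p.primeCompl
      (Localization.AtPrime p) B' hfin
  have hcat : CAlg.IsCatenary B' := hUC.2 B' hfin
  have hMP : M ≤ P.primeCompl := by
    rintro _ ⟨r, hr, rfl⟩ hmem
    apply hr
    rw [← hPp]
    exact hmem
  letI : Algebra B' (Localization.AtPrime P) :=
    (IsLocalization.lift (M := M) (g := algebraMap B (Localization.AtPrime P))
      (fun y => IsLocalization.map_units (Localization.AtPrime P) ⟨y.1, hMP y.2⟩)).toAlgebra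
  haveI : IsScalarTower B B' (Localization.AtPrime P) :=
    IsScalarTower.of_algebraMap_eq (fun b => (IsLocalization.lift_eq _ b).symm)
  haveI := IsLocalization.isLocalization_of_submonoid_le B' (Localization.AtPrime P) M
    P.primeCompl hMP
  exact Groth.Agent.Lib.Catenary.isCatenary_of_isLocalization
    (P.primeCompl.map (algebraMap B B')) (Localization.AtPrime P) hcat

variable {R B : Type u} [CommRing R] [CommRing B] [Algebra R B]

/-- The dimension formula for the quotient by a prime `Q₀ ≤ q` of `B`, assuming only that the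
localization of `R` at `q ∩ R` is universally catenary. -/
theorem eq_of_prime_le_local [IsNoetherianRing R] [Algebra.FiniteType R B]
    (q : Ideal B) [q.IsPrime] (hR : CAlg.IsUniversallyCatenary (Localization.AtPrime (q.under R)))
    (Q₀ : Ideal B) [Q₀.IsPrime] (hle : Q₀ ≤ q) :
    ((q.map (Ideal.Quotient.mk Q₀)).height : Cardinal.{u}) +
        Algebra.trdeg (R ⧸ q.under R) (B ⧸ q) =
      (((q.under R).map (Ideal.Quotient.mk (Q₀.under R))).height : Cardinal.{u}) +
        Algebra.trdeg (R ⧸ Q₀.under R) (B ⧸ Q₀) := by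
  have hPle : Q₀.under R ≤ q.under R := Ideal.comap_mono hle
  haveI hp' : ((q.under R).map (Ideal.Quotient.mk (Q₀.under R))).IsPrime :=
    isPrime_map_mk (Q₀.under R) (q.under R) hPle
  haveI hq' : (q.map (Ideal.Quotient.mk Q₀)).IsPrime := isPrime_map_mk Q₀ q hle
  haveI : (q.map (Ideal.Quotient.mk Q₀)).LiesOver
      ((q.under R).map (Ideal.Quotient.mk (Q₀.under R))) := by
    constructor
    ext x
    obtain ⟨r, rfl⟩ := Ideal.Quotient.mk_surjective x
    have h1 : Ideal.Quotient.mk (Q₀.under R) r ∈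
        (q.under R).map (Ideal.Quotient.mk (Q₀.under R)) ↔ r ∈ q.under R :=
      Ideal.mem_quotient_iff_mem hPle
    have h2 : Ideal.Quotient.mk (Q₀.under R) r ∈
        (q.map (Ideal.Quotient.mk Q₀)).under (R ⧸ Q₀.under R) ↔ algebraMap R B r ∈ q := by
      change Ideal.Quotient.mk Q₀ (algebraMap R B r) ∈ q.map (Ideal.Quotient.mk Q₀) ↔ _
      exact Ideal.mem_quotient_iff_mem hle
    rw [h1, h2]
    rfl
  haveI : Algebra.FiniteType R (B ⧸ Q₀) :=
    Algebra.FiniteType.of_surjective (Ideal.Quotient.mkₐ R Q₀) Ideal.Quotient.mk_surjective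
  haveI : Algebra.FiniteType (R ⧸ Q₀.under R) (B ⧸ Q₀) :=
    Algebra.FiniteType.of_restrictScalars_finiteType R (R ⧸ Q₀.under R) (B ⧸ Q₀)
  have hH : CatHyp (R ⧸ Q₀.under R) ((q.under R).map (Ideal.Quotient.mk (Q₀.under R)))
      (B ⧸ Q₀) :=
    catHyp_of_uc_atPrime _ _ _ (uc_atPrime_quotient (Q₀.under R) (q.under R) hPle hR)
  have h1 := dimension_formula_of_catHyp (R ⧸ Q₀.under R)
    ((q.under R).map (Ideal.Quotient.mk (Q₀.under R))) (B ⧸ Q₀) hH (q.map (Ideal.Quotient.mk Q₀))
  have h3 : Algebra.trdeg ((R ⧸ Q₀.under R) ⧸ (q.under R).map (Ideal.Quotient.mk (Q₀.under R)))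
      ((B ⧸ Q₀) ⧸ q.map (Ideal.Quotient.mk Q₀)) = Algebra.trdeg (R ⧸ q.under R) (B ⧸ q) := by
    refine trdeg_eq_of_ringEquiv (DoubleQuot.quotQuotEquivQuotOfLE hPle)
      (DoubleQuot.quotQuotEquivQuotOfLE hle) (fun a => ?_)
    obtain ⟨a', rfl⟩ := Ideal.Quotient.mk_surjective a
    obtain ⟨r, rfl⟩ := Ideal.Quotient.mk_surjective a'
    rfl
  rw [h3] at h1
  exact h1

end Alg

section Sch

variable {X S : Scheme.{u}}

/-- **The dimension formula** (EGA IV 5.6.5.1), local form: only the local ring of the base at `f x`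
is assumed universally catenary. -/
theorem stalk_formula_local (f : X ⟶ S) [IsLocallyNoetherian S] [LocallyOfFiniteType f] (x : X)
    (hUC : CAlg.IsUniversallyCatenary (S.presheaf.stalk (f x)))
    (ξ : X) (hξ : ∀ x : X, ξ ⤳ x) (hfξ : ∀ y : S, f ξ ⤳ y) :
    ∃ a b : ℕ, ringKrullDim (X.presheaf.stalk x) = a ∧
      ringKrullDim (S.presheaf.stalk (f x)) = b ∧
      (letI := (f.residueFieldMap x).hom.toAlgebra;
       letI := (f.residueFieldMap ξ).hom.toAlgebra;
      (a : Cardinal.{u}) + Algebra.trdeg (S.residueField (f x)) (X.residueField x) =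
        b + Algebra.trdeg (S.residueField (f ξ)) (X.residueField ξ)) := by
  obtain ⟨V, hV, hfxV⟩ : ∃ V : S.Opens, IsAffineOpen V ∧ f x ∈ V := by
    obtain ⟨_, ⟨V, hV, rfl⟩, hxV, -⟩ := S.isBasis_affineOpens.exists_subset_of_mem_open
      (Set.mem_univ (f x)) isOpen_univ
    exact ⟨V, hV, hxV⟩
  obtain ⟨U, hU, hx, e⟩ : ∃ U : X.Opens, IsAffineOpen U ∧ x ∈ U ∧ U ≤ f ⁻¹ᵁ V := by
    obtain ⟨_, ⟨U, hU, rfl⟩, hxU, hUV⟩ := X.isBasis_affineOpens.exists_subset_of_mem_open
      (show x ∈ ((f ⁻¹ᵁ V : X.Opens) : Set X) from hfxV) (f ⁻¹ᵁ V).isOpen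
    exact ⟨U, hU, hxU, hUV⟩
  have hξU : ξ ∈ U := (hξ x).mem_open U.isOpen hx
  letI alg := (f.appLE V U e).hom.toAlgebra
  haveI : IsNoetherianRing Γ(S, V) := IsLocallyNoetherian.component_noetherian ⟨V, hV⟩
  haveI : Algebra.FiniteType Γ(S, V) Γ(X, U) := f.finiteType_appLE hV hU e
  have hunder : (hU.primeIdealOf ⟨x, hx⟩).asIdeal.under Γ(S, V) =
      (hV.primeIdealOf ⟨f x, e hx⟩).asIdeal :=
    congrArg PrimeSpectrum.asIdeal (IsAffineOpen.comap_primeIdealOf_appLE V hV U hU e hx)
  have hR : CAlg.IsUniversallyCatenary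
      (Localization.AtPrime ((hU.primeIdealOf ⟨x, hx⟩).asIdeal.under Γ(S, V))) := by
    refine uc_atPrime_of_eq _ _ hunder.symm ?_
    letI := S.presheaf.algebra_section_stalk ⟨f x, e hx⟩
    haveI := hV.isLocalization_stalk ⟨f x, e hx⟩
    let E : S.presheaf.stalk (f x) ≃ₐ[Γ(S, V)]
        Localization.AtPrime (hV.primeIdealOf ⟨f x, e hx⟩).asIdeal :=
      IsLocalization.algEquiv (hV.primeIdealOf ⟨f x, e hx⟩).asIdeal.primeCompl _ _
    exact Groth.Agent.Lib.ComplUC33.isUniversallyCatenary_of_surjective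
      (E : S.presheaf.stalk (f x) →+* _) E.surjective hUC
  have hle : (hU.primeIdealOf ⟨ξ, hξU⟩).asIdeal ≤ (hU.primeIdealOf ⟨x, hx⟩).asIdeal :=
    primeIdealOf_le_of_forall_specializes hU ξ hξU hξ _ (hU.primeIdealOf ⟨x, hx⟩).isPrime
  have hmain := eq_of_prime_le_local (hU.primeIdealOf ⟨x, hx⟩).asIdeal hR
    (hU.primeIdealOf ⟨ξ, hξU⟩).asIdeal hle
  rw [← trdeg_residueField_eq f hU hV e x hx, ← trdeg_residueField_eq f hU hV e ξ hξU] at hmain
  have hunderξ : (hU.primeIdealOf ⟨ξ, hξU⟩).asIdeal.under Γ(S, V) =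
      (hV.primeIdealOf ⟨f ξ, e hξU⟩).asIdeal :=
    congrArg PrimeSpectrum.asIdeal (IsAffineOpen.comap_primeIdealOf_appLE V hV U hU e hξU)
  have hh1 : ((hU.primeIdealOf ⟨x, hx⟩).asIdeal.map
      (Ideal.Quotient.mk (hU.primeIdealOf ⟨ξ, hξU⟩).asIdeal)).height =
      (hU.primeIdealOf ⟨x, hx⟩).asIdeal.height :=
    height_map_mk_eq _ _ (fun P hP => primeIdealOf_le_of_forall_specializes hU ξ hξU hξ P hP)
  have hh2 : (((hU.primeIdealOf ⟨x, hx⟩).asIdeal.under Γ(S, V)).map
      (Ideal.Quotient.mk ((hU.primeIdealOf ⟨ξ, hξU⟩).asIdeal.under Γ(S, V)))).height =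
      (hV.primeIdealOf ⟨f x, e hx⟩).asIdeal.height := by
    rw [hunder, hunderξ]
    exact height_map_mk_eq _ _
      (fun P hP => primeIdealOf_le_of_forall_specializes hV (f ξ) (e hξU) hfξ P hP)
  rw [hh1, hh2] at hmain
  have hdimX : ringKrullDim (X.presheaf.stalk x) = (hU.primeIdealOf ⟨x, hx⟩).asIdeal.height := by
    letI := X.presheaf.algebra_section_stalk ⟨x, hx⟩
    haveI := hU.isLocalization_stalk ⟨x, hx⟩
    exact IsLocalization.AtPrime.ringKrullDim_eq_height _ _
  have hdimS : ringKrullDim (S.presheaf.stalk (f x)) =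
      (hV.primeIdealOf ⟨f x, e hx⟩).asIdeal.height := by
    letI := S.presheaf.algebra_section_stalk ⟨f x, e hx⟩
    haveI := hV.isLocalization_stalk ⟨f x, e hx⟩
    exact IsLocalization.AtPrime.ringKrullDim_eq_height _ _
  haveI : IsNoetherianRing Γ(X, U) := Algebra.FiniteType.isNoetherianRing Γ(S, V) Γ(X, U)
  obtain ⟨a, ha⟩ := ENat.ne_top_iff_exists.mp
    (Ideal.height_ne_top_of_isPrime (I := (hU.primeIdealOf ⟨x, hx⟩).asIdeal))
  obtain ⟨b, hb⟩ := ENat.ne_top_iff_exists.mp
    (Ideal.height_ne_top_of_isPrime (I := (hV.primeIdealOf ⟨f x, e hx⟩).asIdeal))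
  refine ⟨a, b, ?_, ?_, ?_⟩
  · rw [hdimX, ← ha]; rfl
  · rw [hdimS, ← hb]; rfl
  · rw [← ha, ← hb] at hmain
    simpa using hmain

end Sch

end Groth.Agent.Lib.DimFormulaLocal
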