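import Groth.Agent.S9684
import Groth.Agent.Lib.UCatenary
import Groth.Agent.Lib.ComplUC33
import Groth.Agent.Lib.GenericFibrePoint2

/-!
# The dimension formula for morphisms of irreducible schemes (helper63)

EGA IV 5.6.5: for `f : X ⟶ S` dominant, locally of finite type, `X`, `S` irreducible, `S` locally
Noetherian with universally catenary local rings, and `x : X`:
`dim O_{X,x} + trdeg κ(x)/κ(f x) = dim O_{S,f x} + trdeg κ(ξ)/κ(f ξ)` (`ξ` the generic point of `X`).
-/

set_option autoImplicit false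
universe u

namespace Groth.Agent.Lib.DimFormulaScheme

open Cardinal AlgebraicGeometry Groth.Agent.Lib.TrdegTransfer Groth.Agent.Lib.DimIneqCore
  Groth.Agent.Lib.DimIneqScheme

section Alg

variable {R : Type*} [CommRing R]

/-- Quotienting by an ideal contained in every prime does not change heights. -/
theorem height_map_mk_eq (I p : Ideal R) [hp : p.IsPrime]
    (hI : ∀ P : Ideal R, P.IsPrime → I ≤ P) :
    (p.map (Ideal.Quotient.mk I)).height = p.height := by
  refine le_antisymm (height_map_mk_le I p (hI p hp)) ?_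
  haveI hp' := isPrime_map_mk I p (hI p hp)
  let g : PrimeSpectrum R → PrimeSpectrum (R ⧸ I) := fun P =>
    ⟨P.asIdeal.map (Ideal.Quotient.mk I), isPrime_map_mk I P.asIdeal (hI _ P.2)⟩
  have hg : StrictMono g := by
    intro a b hab
    exact map_mk_lt_map_mk I a.asIdeal b.asIdeal (hI _ a.2) hab
  have h1 := Order.height_le_height_apply_of_strictMono g hg ⟨p, hp⟩
  rw [← PrimeSpectrum.height_eq_orderHeight, ← PrimeSpectrum.height_eq_orderHeight] at h1
  exact h1

end Alg

section Sch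

variable {X S : Scheme.{u}}

/-- If all local rings of a locally Noetherian scheme are universally catenary, so are the rings of
sections over affine opens. -/
theorem isUniversallyCatenary_of_stalks [IsLocallyNoetherian S]
    (hUC : ∀ y : S, CAlg.IsUniversallyCatenary (S.presheaf.stalk y)) {V : S.Opens}
    (hV : IsAffineOpen V) : CAlg.IsUniversallyCatenary Γ(S, V) := by
  haveI : IsNoetherianRing Γ(S, V) := IsLocallyNoetherian.component_noetherian ⟨V, hV⟩
  rw [Groth.Agent.Lib.UCatenary.isUniversallyCatenary_iff_localization_maximal]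
  intro m hm
  let P : Spec Γ(S, V) := ⟨m, hm.isPrime⟩
  have hyV : hV.fromSpec P ∈ V := by
    have : hV.fromSpec P ∈ Set.range hV.fromSpec := Set.mem_range_self P
    rwa [hV.range_fromSpec] at this
  have hP : hV.primeIdealOf ⟨hV.fromSpec P, hyV⟩ = P :=
    hV.fromSpec.isOpenEmbedding.injective (hV.fromSpec_primeIdealOf ⟨_, hyV⟩)
  letI := S.presheaf.algebra_section_stalk ⟨hV.fromSpec P, hyV⟩
  haveI hloc := hV.isLocalization_stalk ⟨hV.fromSpec P, hyV⟩
  rw [hP] at hloc
  haveI : IsLocalization.AtPrime (S.presheaf.stalk (hV.fromSpec P)) m := hloc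
  let e : S.presheaf.stalk (hV.fromSpec P) ≃ₐ[Γ(S, V)] Localization.AtPrime m :=
    IsLocalization.algEquiv m.primeCompl _ _
  exact Groth.Agent.Lib.ComplUC33.isUniversallyCatenary_of_surjective
    (e : S.presheaf.stalk (hV.fromSpec P) →+* Localization.AtPrime m) e.surjective (hUC _)

/-- The prime of a point which specializes to every point is contained in every prime. -/
theorem primeIdealOf_le_of_forall_specializes {U : X.Opens} (hU : IsAffineOpen U) (g : X)
    (hg : g ∈ U) (hgen : ∀ y : X, g ⤳ y) (P : Ideal Γ(X, U)) (hP : P.IsPrime) :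
    (hU.primeIdealOf ⟨g, hg⟩).asIdeal ≤ P := by
  let P' : Spec Γ(X, U) := ⟨P, hP⟩
  have hzU : hU.fromSpec P' ∈ U := by
    have : hU.fromSpec P' ∈ Set.range hU.fromSpec := Set.mem_range_self P'
    rwa [hU.range_fromSpec] at this
  have h1 : hU.fromSpec (hU.primeIdealOf ⟨g, hg⟩) = g := hU.fromSpec_primeIdealOf ⟨g, hg⟩
  have h2 : (hU.primeIdealOf ⟨g, hg⟩ : Spec Γ(X, U)) ⤳ P' :=
    hU.fromSpec.isOpenEmbedding.isInducing.specializes_iff.mp (by rw [h1]; exact hgen _)
  exact (PrimeSpectrum.le_iff_specializes _ P').mpr h2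

/-- **The dimension formula** (EGA IV 5.6.5.1) for a morphism locally of finite type to a locally
Noetherian scheme with universally catenary local rings: if `ξ` specializes to every point of `X`
and `f ξ` to every point of `S`, then
`dim O_{X,x} + trdeg κ(x)/κ(f x) = dim O_{S,f x} + trdeg κ(ξ)/κ(f ξ)`. -/
theorem stalk_formula (f : X ⟶ S) [IsLocallyNoetherian S] [LocallyOfFiniteType f]
    (hUC : ∀ y : S, CAlg.IsUniversallyCatenary (S.presheaf.stalk y))
    (ξ : X) (hξ : ∀ x : X, ξ ⤳ x) (hfξ : ∀ y : S, f ξ ⤳ y) (x : X) :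
    ∃ a b : ℕ, ringKrullDim (X.presheaf.stalk x) = a ∧
      ringKrullDim (S.presheaf.stalk (f x)) = b ∧
      (letI := (f.residueFieldMap x).hom.toAlgebra;
       letI := (f.residueFieldMap ξ).hom.toAlgebra;
      (a : Cardinal.{u}) + Algebra.trdeg (S.residueField (f x)) (X.residueField x) =
        b + Algebra.trdeg (S.residueField (f ξ)) (X.residueField ξ)) := by
  obtain ⟨V, hV, hfxV⟩ : ∃ V : S.Opens, IsAffineOpen V ∧ f x ∈ V := by
    obtain ⟨_, ⟨V, hV, rfl⟩, hxV, -⟩ := S.isBasis_affineOpens.exists_subset_of_mem_open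
      (Set.mem_univ (f x)) isOpen_univ
    exact ⟨V, hV, hxV⟩
  obtain ⟨U, hU, hx, e⟩ : ∃ U : X.Opens, IsAffineOpen U ∧ x ∈ U ∧ U ≤ f ⁻¹ᵁ V := by
    obtain ⟨_, ⟨U, hU, rfl⟩, hxU, hUV⟩ := X.isBasis_affineOpens.exists_subset_of_mem_open
      (show x ∈ ((f ⁻¹ᵁ V : X.Opens) : Set X) from hfxV) (f ⁻¹ᵁ V).isOpen
    exact ⟨U, hU, hxU, hUV⟩
  have hξU : ξ ∈ U := (hξ x).mem_open U.isOpen hx
  letI alg := (f.appLE V U e).hom.toAlgebra
  haveI : IsNoetherianRing Γ(S, V) := IsLocallyNoetherian.component_noetherian ⟨V, hV⟩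
  haveI : Algebra.FiniteType Γ(S, V) Γ(X, U) := f.finiteType_appLE hV hU e
  have hR : CAlg.IsUniversallyCatenary Γ(S, V) := isUniversallyCatenary_of_stalks hUC hV
  have hle : (hU.primeIdealOf ⟨ξ, hξU⟩).asIdeal ≤ (hU.primeIdealOf ⟨x, hx⟩).asIdeal :=
    primeIdealOf_le_of_forall_specializes hU ξ hξU hξ _ (hU.primeIdealOf ⟨x, hx⟩).isPrime
  have hmain := Groth.Agent.S9684.eq_of_prime_le hR (hU.primeIdealOf ⟨x, hx⟩).asIdeal
    (hU.primeIdealOf ⟨ξ, hξU⟩).asIdeal hle
  rw [← trdeg_residueField_eq f hU hV e x hx, ← trdeg_residueField_eq f hU hV e ξ hξU] at hmain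
  have hunder : (hU.primeIdealOf ⟨x, hx⟩).asIdeal.under Γ(S, V) =
      (hV.primeIdealOf ⟨f x, e hx⟩).asIdeal :=
    congrArg PrimeSpectrum.asIdeal (IsAffineOpen.comap_primeIdealOf_appLE V hV U hU e hx)
  have hunderξ : (hU.primeIdealOf ⟨ξ, hξU⟩).asIdeal.under Γ(S, V) =
      (hV.primeIdealOf ⟨f ξ, e hξU⟩).asIdeal :=
    congrArg PrimeSpectrum.asIdeal (IsAffineOpen.comap_primeIdealOf_appLE V hV U hU e hξU)
  have hh1 : ((hU.primeIdealOf ⟨x, hx⟩).asIdeal.map
      (Ideal.Quotient.mk (hU.primeIdealOf ⟨ξ, hξU⟩).asIdeal)).height =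
      (hU.primeIdealOf ⟨x, hx⟩).asIdeal.height :=
    height_map_mk_eq _ _ (fun P hP => primeIdealOf_le_of_forall_specializes hU ξ hξU hξ P hP)
  have hh2 : (((hU.primeIdealOf ⟨x, hx⟩).asIdeal.under Γ(S, V)).map
      (Ideal.Quotient.mk ((hU.primeIdealOf ⟨ξ, hξU⟩).asIdeal.under Γ(S, V)))).height =
      (hV.primeIdealOf ⟨f x, e hx⟩).asIdeal.height := by
    rw [hunder, hunderξ]
    exact height_map_mk_eq _ _
      (fun P hP => primeIdealOf_le_of_forall_specializes hV (f ξ) (e hξU) hfξ P hP)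
  rw [hh1, hh2] at hmain
  have hdimX : ringKrullDim (X.presheaf.stalk x) = (hU.primeIdealOf ⟨x, hx⟩).asIdeal.height := by
    letI := X.presheaf.algebra_section_stalk ⟨x, hx⟩
    haveI := hU.isLocalization_stalk ⟨x, hx⟩
    exact IsLocalization.AtPrime.ringKrullDim_eq_height _ _
  have hdimS : ringKrullDim (S.presheaf.stalk (f x)) =
      (hV.primeIdealOf ⟨f x, e hx⟩).asIdeal.height := by
    letI := S.presheaf.algebra_section_stalk ⟨f x, e hx⟩
    haveI := hV.isLocalization_stalk ⟨f x, e hx⟩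
    exact IsLocalization.AtPrime.ringKrullDim_eq_height _ _
  haveI : IsNoetherianRing Γ(X, U) := Algebra.FiniteType.isNoetherianRing Γ(S, V) Γ(X, U)
  obtain ⟨a, ha⟩ := ENat.ne_top_iff_exists.mp
    (Ideal.height_ne_top_of_isPrime (I := (hU.primeIdealOf ⟨x, hx⟩).asIdeal))
  obtain ⟨b, hb⟩ := ENat.ne_top_iff_exists.mp
    (Ideal.height_ne_top_of_isPrime (I := (hV.primeIdealOf ⟨f x, e hx⟩).asIdeal))
  refine ⟨a, b, ?_, ?_, ?_⟩
  · rw [hdimX, ← ha]; rfl
  · rw [hdimS, ← hb]; rfl
  · rw [← ha, ← hb] at hmain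
    simpa using hmain

end Sch

end Groth.Agent.Lib.DimFormulaScheme
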