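import Mathlib.RingTheory.KrullDimension.Basic
import Mathlib.RingTheory.Ideal.MinimalPrime.Noetherian
import Mathlib.RingTheory.Localization.AtPrime.Basic
import Mathlib.RingTheory.Localization.Ideal
import Mathlib.RingTheory.Ideal.Operations
import Mathlib.Tactic.LinearCombination
import Mathlib.Tactic.Ring

/-!
# A finitely generated ideal is "locally principal up to radical" at primes of height ≤ 1 (helper13)

`exists_local_principal`: if `B = A_p` is Noetherian of dimension `≤ 1` and `s` is a finite subset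
of `A`, there are `g ∉ p` and `t` such that on `D(g)` the open `⋃_{f ∈ s} D(f)` equals `D(t)`:
`g t^N ∈ (s)` and `g f^M ∈ (t)` for all `f ∈ s`.
-/

set_option autoImplicit false
universe u

namespace Groth.Agent.Lib.DimOneAff13

theorem exists_local_principal {A B : Type*} [CommRing A] [CommRing B] [Algebra A B] (p : Ideal A)
    [p.IsPrime] [IsLocalization.AtPrime B p] [IsNoetherianRing B] (hdim : ringKrullDim B ≤ 1)
    (s : Finset A) :
    ∃ g t : A, g ∉ p ∧ (∃ N : ℕ, g * t ^ N ∈ Ideal.span (s : Set A)) ∧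
      ∀ f ∈ s, ∃ (M : ℕ) (a : A), g * f ^ M = a * t := by
  classical
  by_cases hs : ∃ f ∈ s, f ∉ p
  · obtain ⟨f, hf, hfp⟩ := hs
    exact ⟨f, 1, hfp, ⟨0, by simpa using Ideal.subset_span hf⟩, fun f' _ => ⟨0, f, by ring⟩⟩
  push Not at hs
  have hloc : IsLocalRing B := IsLocalization.AtPrime.isLocalRing B p
  set J : Ideal B := (Ideal.span (s : Set A)).map (algebraMap A B) with hJ
  have hJm : J ≤ IsLocalRing.maximalIdeal B := by
    rw [← IsLocalization.AtPrime.map_eq_maximalIdeal p B]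
    exact Ideal.map_mono (Ideal.span_le.mpr fun f hf => hs f hf)
  have hdim' : Ring.KrullDimLE 1 B := Ring.krullDimLE_iff.mpr hdim
  have hfin : (minimalPrimes B).Finite := minimalPrimes.finite_of_isNoetherianRing B
  let Q : Finset (Ideal B) := hfin.toFinset.filter (fun q => ¬ J ≤ q)
  have hQprime : ∀ q ∈ Q, q.IsPrime := by
    intro q hq
    have := (Finset.mem_filter.mp hq).1
    rw [Set.Finite.mem_toFinset] at this
    exact this.1.1
  have hav : ¬ ((J.radical : Set B) ⊆ ⋃ q ∈ (Q : Set (Ideal B)), (q : Set B)) := by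
    intro hsub
    obtain ⟨q, hq, hle⟩ := (Ideal.subset_union_prime (f := fun q : Ideal B => q) ⊥ ⊥
      (fun q hq _ _ => hQprime q hq)).mp hsub
    exact (Finset.mem_filter.mp hq).2 (Ideal.le_radical.trans hle)
  obtain ⟨t₀, ht₀rad, ht₀Q⟩ := Set.not_subset.mp hav
  obtain ⟨t, σ, rfl⟩ := IsLocalization.exists_mk'_eq p.primeCompl t₀
  have hspec : IsLocalization.mk' B t σ * algebraMap A B σ = algebraMap A B t :=
    IsLocalization.mk'_spec B t σ
  have ht₁rad : algebraMap A B t ∈ J.radical := by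
    rw [← hspec]; exact Ideal.mul_mem_right _ _ ht₀rad
  have ht₁Q : ∀ q ∈ Q, algebraMap A B t ∉ q := by
    intro q hq hmem
    have hqp := hQprime q hq
    rw [← hspec] at hmem
    rcases hqp.mem_or_mem hmem with h | h
    · apply ht₀Q
      simp only [Set.mem_iUnion, SetLike.mem_coe, exists_prop]
      exact ⟨q, hq, h⟩
    · exact hqp.ne_top (Ideal.eq_top_of_isUnit_mem _ h (IsLocalization.map_units B σ))
  have hJrad : J ≤ (Ideal.span {algebraMap A B t}).radical := by
    rw [Ideal.radical_eq_sInf]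
    refine le_sInf ?_
    rintro P ⟨hP, hPprime⟩
    have ht₁P : algebraMap A B t ∈ P := hP (Ideal.mem_span_singleton_self _)
    rcases (Ring.krullDimLE_one_iff.mp hdim') P hPprime with hmin | hmax
    · by_contra hJP
      exact ht₁Q P (Finset.mem_filter.mpr ⟨by rw [Set.Finite.mem_toFinset]; exact hmin, hJP⟩) ht₁P
    · rw [IsLocalRing.eq_maximalIdeal hmax]; exact hJm
  obtain ⟨N, hN⟩ := ht₁rad
  rw [← map_pow] at hN
  obtain ⟨g₁, hg₁, hg₁N⟩ :=
    (IsLocalization.algebraMap_mem_map_algebraMap_iff p.primeCompl B _ _).mp hN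
  have hf : ∀ f ∈ s, ∃ g ∈ p.primeCompl, ∃ (M : ℕ) (a : A), g * f ^ M = a * t := by
    intro f hf
    have hfJ : algebraMap A B f ∈ J := Ideal.mem_map_of_mem _ (Ideal.subset_span hf)
    obtain ⟨M, hM⟩ := hJrad hfJ
    rw [← map_pow, ← Set.image_singleton, ← Ideal.map_span] at hM
    obtain ⟨g, hg, hgM⟩ :=
      (IsLocalization.algebraMap_mem_map_algebraMap_iff p.primeCompl B _ _).mp hM
    obtain ⟨a, ha⟩ := Ideal.mem_span_singleton'.mp hgM
    exact ⟨g, hg, M, a, ha.symm⟩
  choose! gf hgf Mf af haf using hf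
  refine ⟨g₁ * ∏ f ∈ s, gf f, t, ?_, ⟨N, ?_⟩, ?_⟩
  · exact p.primeCompl.mul_mem hg₁ (p.primeCompl.prod_mem fun f hf => hgf f hf)
  · have : (g₁ * ∏ f ∈ s, gf f) * t ^ N = (∏ f ∈ s, gf f) * (g₁ * t ^ N) := by ring
    rw [this]
    exact Ideal.mul_mem_left _ _ hg₁N
  · intro f hf
    refine ⟨Mf f, g₁ * (∏ f' ∈ s.erase f, gf f') * af f, ?_⟩
    rw [← Finset.mul_prod_erase s gf hf]
    linear_combination (g₁ * ∏ f' ∈ s.erase f, gf f') * haf f hf

end Groth.Agent.Lib.DimOneAff13
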