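import Groth.Agent.Lib.DimOneAff13a
import Groth.Agent.Lib.AffComp13a
import Mathlib.AlgebraicGeometry.Morphisms.Affine
import Mathlib.AlgebraicGeometry.Morphisms.QuasiCompact

/-!
# Retrocompact opens are affine over points of codimension ≤ 1 (helper13)

* `exists_basicOpen_inf_eq`: if `x` lies in an affine open `W`, `O_{X,x}` is Noetherian of
  dimension `≤ 1` and `U ⊓ W` is quasi-compact, then `U ⊓ D(g) = D(g t)` for some `g, t ∈ Γ(X, W)`
  with `x ∈ D(g)`.
* `isAffineHom_ι_of_dim_le_one`: if all local rings of `X` are Noetherian of dimension `≤ 1`, every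
  quasi-compact open immersion `U → X` is affine.
-/

set_option autoImplicit false
universe u

namespace Groth.Agent.Lib.DimOneAff13

open AlgebraicGeometry CategoryTheory TopologicalSpace Opposite
open Groth.Agent.Lib.AffComp13a

theorem exists_basicOpen_inf_eq {X : Scheme.{u}} {W : X.Opens} (hW : IsAffineOpen W) (x : X)
    (hx : x ∈ W) [IsNoetherianRing (X.presheaf.stalk x)]
    (hdim : ringKrullDim (X.presheaf.stalk x) ≤ 1)
    (U : X.Opens) (hUW : IsCompact ((U ⊓ W : X.Opens) : Set X)) :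
    ∃ g t : Γ(X, W), x ∈ X.basicOpen g ∧ U ⊓ X.basicOpen g = X.basicOpen (g * t) := by
  classical
  -- cover `U ⊓ W` by finitely many basic opens
  have hcov : ∀ y : (U ⊓ W : X.Opens), ∃ f : Γ(X, W),
      y.1 ∈ X.basicOpen f ∧ X.basicOpen f ≤ U ⊓ W := fun y => by
    obtain ⟨f, hf1, hf2⟩ := hW.exists_basicOpen_le ⟨y.1, y.2⟩ y.2.2
    exact ⟨f, hf2, hf1⟩
  choose F hF1 hF2 using hcov
  obtain ⟨s', hs'⟩ := hUW.elim_finite_subcover
    (fun y : (U ⊓ W : X.Opens) => (X.basicOpen (F y) : Set X))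
    (fun y => (X.basicOpen (F y)).2) (fun z hz => Set.mem_iUnion.mpr ⟨⟨z, hz⟩, hF1 _⟩)
  let s : Finset Γ(X, W) := s'.image F
  have hs1 : ∀ f ∈ s, X.basicOpen f ≤ U ⊓ W := by
    intro f hf
    obtain ⟨y, -, rfl⟩ := Finset.mem_image.mp hf
    exact hF2 y
  have hs2 : ∀ z ∈ (U ⊓ W : X.Opens), ∃ f ∈ s, z ∈ X.basicOpen f := by
    intro z hz
    obtain ⟨y, hy⟩ := Set.mem_iUnion.mp (hs' hz)
    obtain ⟨hy', hz'⟩ := Set.mem_iUnion.mp hy
    exact ⟨F y, Finset.mem_image_of_mem F hy', hz'⟩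
  -- the ring lemma
  let _ := X.presheaf.algebra_section_stalk ⟨x, hx⟩
  have hloc := hW.isLocalization_stalk ⟨x, hx⟩
  obtain ⟨g, t, hgp, ⟨N, hN⟩, hft⟩ := exists_local_principal
    (B := X.presheaf.stalk x) (hW.primeIdealOf ⟨x, hx⟩).asIdeal hdim s
  refine ⟨g, t, ?_, ?_⟩
  · rw [Scheme.mem_basicOpen _ _ _ hx]
    exact (IsLocalization.AtPrime.isUnit_to_map_iff (X.presheaf.stalk x)
      (hW.primeIdealOf ⟨x, hx⟩).asIdeal g).mpr hgp
  · ext y
    constructor
    · rintro ⟨hyU, hyg⟩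
      have hyW : y ∈ W := X.basicOpen_le g hyg
      obtain ⟨f, hf, hyf⟩ := hs2 y ⟨hyU, hyW⟩
      obtain ⟨M, a, hM⟩ := hft f hf
      change y ∈ X.basicOpen (g * t)
      replace hyg : y ∈ X.basicOpen g := hyg
      rw [← notMem_primeAt_iff W y hyW] at hyg hyf ⊢
      intro hmem
      rcases (inferInstance : (primeAt W y hyW).IsPrime).mem_or_mem hmem with h | h
      · exact hyg h
      · have : g * f ^ M ∈ primeAt W y hyW := by
          rw [hM]; exact Ideal.mul_mem_left _ _ h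
        rcases (inferInstance : (primeAt W y hyW).IsPrime).mem_or_mem this with h' | h'
        · exact hyg h'
        · exact hyf ((inferInstance : (primeAt W y hyW).IsPrime).mem_of_pow_mem M h')
    · intro hy
      have hyW : y ∈ W := X.basicOpen_le _ hy
      replace hy : y ∈ X.basicOpen (g * t) := hy
      rw [← notMem_primeAt_iff W y hyW] at hy
      have hyg : g ∉ primeAt W y hyW := fun h => hy (Ideal.mul_mem_right _ _ h)
      have hyt : t ∉ primeAt W y hyW := fun h => hy (Ideal.mul_mem_left _ _ h)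
      have hgt : g * t ^ N ∉ primeAt W y hyW := by
        intro hmem
        rcases (inferInstance : (primeAt W y hyW).IsPrime).mem_or_mem hmem with h | h
        · exact hyg h
        · exact hyt ((inferInstance : (primeAt W y hyW).IsPrime).mem_of_pow_mem N h)
      have : ∃ f ∈ s, f ∉ primeAt W y hyW := by
        by_contra hcon
        push Not at hcon
        exact hgt ((Ideal.span_le.mpr fun f hf => hcon f hf) hN)
      obtain ⟨f, hf, hyf⟩ := this
      rw [notMem_primeAt_iff] at hyf hyg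
      exact ⟨(hs1 f hf hyf).1, hyg⟩

theorem isCompact_inf_of_quasiCompact {X : Scheme.{u}} (U : X.Opens) [QuasiCompact U.ι]
    {W : X.Opens} (hW : IsAffineOpen W) : IsCompact ((U ⊓ W : X.Opens) : Set X) := by
  have h1 := QuasiCompact.isCompact_preimage (f := U.ι) W.1 W.2 hW.isCompact
  have h2 := h1.image U.ι.continuous
  convert h2 using 1
  ext y
  constructor
  · rintro ⟨hyU, hyW⟩
    exact ⟨⟨y, hyU⟩, hyW, rfl⟩
  · rintro ⟨z, hz, rfl⟩
    exact ⟨z.2, hz⟩

/-- A retrocompact open is affine in a neighbourhood of any point whose local ring is Noetherian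
of dimension `≤ 1`. -/
theorem exists_nhd_isAffineOpen_inf {X : Scheme.{u}} (U : X.Opens) [QuasiCompact U.ι] (x : X)
    [IsNoetherianRing (X.presheaf.stalk x)] (hx : ringKrullDim (X.presheaf.stalk x) ≤ 1) :
    ∃ W : X.Opens, x ∈ W ∧ IsAffineOpen W ∧ IsAffineOpen (U ⊓ W) := by
  obtain ⟨_, ⟨W, hW, rfl⟩, hxW, -⟩ :=
    X.isBasis_affineOpens.exists_subset_of_mem_open (Set.mem_univ x) isOpen_univ
  obtain ⟨g, t, hxg, he⟩ := exists_basicOpen_inf_eq hW x hxW hx U
    (isCompact_inf_of_quasiCompact U hW)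
  exact ⟨X.basicOpen g, hxg, hW.basicOpen g, he ▸ hW.basicOpen (g * t)⟩

theorem isAffineHom_ι_of_dim_le_one {X : Scheme.{u}}
    (hX : ∀ x : X, IsNoetherianRing (X.presheaf.stalk x) ∧ ringKrullDim (X.presheaf.stalk x) ≤ 1)
    (U : X.Opens) [QuasiCompact U.ι] : IsAffineHom U.ι := by
  apply isAffineHom_of_forall_exists_isAffineOpen
  intro x
  have := (hX x).1
  obtain ⟨W, hxW, hW, hUW⟩ := exists_nhd_isAffineOpen_inf U x (hX x).2
  refine ⟨W, hxW, hW, ?_⟩
  rw [← Scheme.Hom.isAffineOpen_iff_of_isOpenImmersion U.ι,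
    Scheme.Hom.image_preimage_eq_opensRange_inf, Scheme.Opens.opensRange_ι]
  exact hUW

end Groth.Agent.Lib.DimOneAff13
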