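import Groth.Agent.Lib.TotalFrac

/-!
# Total ring of fractions of a reduced ring with finitely many minimal primes

Generalisation of `Groth.Agent.Lib.TotalFrac` from Noetherian rings to rings with finitely many
minimal primes.  (owner: helper98)
-/

set_option autoImplicit false
set_option maxHeartbeats 400000
universe u

namespace Groth.Agent.Lib.TotalFracFin98

open scoped nonZeroDivisors
open Groth.Agent.Lib.TotalFrac

variable {A : Type u} [CommRing A]

section Fin

variable [Finite (MinPrime A)]

omit [Finite (MinPrime A)] in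
lemma finite_minimalPrimes [Finite (MinPrime A)] : (minimalPrimes A).Finite :=
  Set.finite_coe_iff.mp (inferInstanceAs (Finite (MinPrime A)))

/-- For each minimal prime `p` an element outside `p` lying in all other minimal primes. -/
lemma exists_u (p : MinPrime A) : ∃ u : A, u ∉ p.1 ∧ ∀ q : MinPrime A, q ≠ p → u ∈ q.1 := by
  classical
  have hfin : (minimalPrimes A).Finite := finite_minimalPrimes
  set T : Finset (Ideal A) := hfin.toFinset.erase p.1 with hT
  have hTmem : ∀ q, q ∈ T ↔ q ∈ minimalPrimes A ∧ q ≠ p.1 := by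
    intro q; simp [hT, and_comm]
  by_contra hcon
  push Not at hcon
  have hle : T.inf id ≤ p.1 := by
    intro x hx
    by_contra hxp
    obtain ⟨q, hqp, hxq⟩ := hcon x hxp
    have hqT : q.1 ∈ T := (hTmem q.1).2 ⟨q.2, fun h => hqp (Subtype.ext h)⟩
    exact hxq ((Finset.inf_le (f := id) hqT) hx)
  obtain ⟨q, hqT, hqp⟩ := (Ideal.IsPrime.inf_le' p.2.1.1).1 hle
  obtain ⟨hqmin, hqne⟩ := (hTmem q).1 hqT
  exact hqne (le_antisymm hqp (p.2.2 hqmin.1 hqp))

/-- For each minimal prime `p` an element of `p` lying in no other minimal prime. -/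
lemma exists_v (p : MinPrime A) : ∃ v : A, v ∈ p.1 ∧ ∀ q : MinPrime A, q ≠ p → v ∉ q.1 := by
  classical
  have hfin : (minimalPrimes A).Finite := finite_minimalPrimes
  set T : Finset (Ideal A) := hfin.toFinset.erase p.1 with hT
  have hTmem : ∀ q, q ∈ T ↔ q ∈ minimalPrimes A ∧ q ≠ p.1 := by
    intro q; simp [hT, and_comm]
  by_contra hcon
  push Not at hcon
  have hsub : (p.1 : Set A) ⊆ ⋃ q ∈ (T : Set (Ideal A)), (q : Set A) := by
    intro y hy
    obtain ⟨q, hqp, hyq⟩ := hcon y hy
    have hqT : q.1 ∈ T := (hTmem q.1).2 ⟨q.2, fun h => hqp (Subtype.ext h)⟩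
    exact Set.mem_biUnion hqT hyq
  rw [Ideal.subset_union_prime p.1 p.1 (fun q hq _ _ => ((hTmem q).1 hq).1.1.1)] at hsub
  obtain ⟨q, hqT, hpq⟩ := hsub
  obtain ⟨hqmin, hqp⟩ := (hTmem q).1 hqT
  exact hqp (le_antisymm (hqmin.2 p.2.1 hpq) hpq)

lemma toPi_surjective [IsReduced A] : Function.Surjective (toPi A) := by
  classical
  have : Fintype (MinPrime A) := Fintype.ofFinite _
  intro z
  have hz : ∀ p : MinPrime A, ∃ a s : A, s ∉ p.1 ∧
      z p * algebraMap A (Lq A p) s = algebraMap A (Lq A p) a := by
    intro p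
    obtain ⟨a', s', h⟩ := IsLocalization.exists_mk'_eq (A ⧸ p.1)⁰ (z p)
    obtain ⟨a, rfl⟩ := Ideal.Quotient.mk_surjective a'
    obtain ⟨s, hs⟩ := Ideal.Quotient.mk_surjective s'.1
    refine ⟨a, s, ?_, ?_⟩
    · intro hmem
      have : (s'.1 : A ⧸ p.1) = 0 := by
        rw [← hs]; exact Ideal.Quotient.eq_zero_iff_mem.2 hmem
      exact nonZeroDivisors.coe_ne_zero s' this
    · rw [← h, IsScalarTower.algebraMap_apply A (A ⧸ p.1) (Lq A p),
        IsScalarTower.algebraMap_apply A (A ⧸ p.1) (Lq A p) a, Ideal.Quotient.algebraMap_eq, hs,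
        IsLocalization.mk'_spec]
  choose a s hs hz using hz
  choose u hu hu' using exists_u (A := A)
  choose v hv hv' using exists_v (A := A)
  have hs' : ∀ p, s p * u p + v p ∈ A⁰ := by
    intro p
    rw [mem_nonZeroDivisors_iff_forall_notMem]
    intro q hmem
    by_cases hqp : q = p
    · subst hqp
      have h1 : s q * u q ∈ q.1 := by simpa using Ideal.sub_mem _ hmem (hv q)
      rcases q.2.1.1.mem_or_mem h1 with h | h
      · exact hs q h
      · exact hu q h
    · have h1 : v p ∈ q.1 := by
        simpa using Ideal.sub_mem _ hmem (Ideal.mul_mem_left _ (s p) (hu' p q hqp))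
      exact hv' p q hqp h1
  refine ⟨∑ p, IsLocalization.mk' (FractionRing A) (a p * u p) ⟨s p * u p + v p, hs' p⟩, ?_⟩
  funext q
  rw [map_sum, Finset.sum_apply, Finset.sum_eq_single q]
  · have key := toPi_mk'_mul (a q * u q) ⟨s q * u q + v q, hs' q⟩ q
    simp only [map_add, map_mul] at key
    rw [(algebraMap_Lq_eq_zero_iff q (v q)).2 (hv q), add_zero] at key
    have h1 : algebraMap A (Lq A q) (s q) ≠ 0 := fun h =>
      hs q ((algebraMap_Lq_eq_zero_iff q _).1 h)
    have h2 : algebraMap A (Lq A q) (u q) ≠ 0 := fun h =>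
      hu q ((algebraMap_Lq_eq_zero_iff q _).1 h)
    have h3 := hz q
    apply mul_right_cancel₀ (mul_ne_zero h1 h2)
    rw [key, ← mul_assoc, h3]
  · intro p _ hpq
    have key := toPi_mk'_mul (a p * u p) ⟨s p * u p + v p, hs' p⟩ q
    simp only [map_mul] at key
    rw [(algebraMap_Lq_eq_zero_iff q (u p)).2 (hu' p q (Ne.symm hpq)), mul_zero] at key
    have h1 : algebraMap A (Lq A q) (s p * u p + v p) ≠ 0 := fun h =>
      mem_nonZeroDivisors_iff_forall_notMem.1 (hs' p) q ((algebraMap_Lq_eq_zero_iff q _).1 h)
    exact (mul_eq_zero.1 key).resolve_right h1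
  · intro h; exact absurd (Finset.mem_univ q) h

variable (A) in
/-- The total ring of fractions of a reduced ring with finitely many minimal primes is the product
of the fraction fields of the quotients by the minimal primes. -/
noncomputable def equivPi [IsReduced A] : FractionRing A ≃ₐ[A] (∀ q : MinPrime A, Lq A q) :=
  AlgEquiv.ofBijective (toPi A) ⟨toPi_injective, toPi_surjective⟩

variable (A) in
/-- The integral closure of `A` in the product of the `Lq` is the product of the integral
closures. -/
noncomputable def piEquiv :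
    integralClosure A (∀ p : MinPrime A, Lq A p) ≃ₐ[A] (∀ p : MinPrime A, Cq A p) where
  toFun x p := ⟨x.1 p, (x.2.map (Pi.evalAlgHom A (fun p => Lq A p) p)).tower_top⟩
  invFun y := ⟨fun p => (y p).1, isIntegral_pi _ fun p => isIntegral_trans _ (y p).2⟩
  left_inv _ := rfl
  right_inv _ := rfl
  map_mul' _ _ := rfl
  map_add' _ _ := rfl
  commutes' _ := rfl

variable (A) in
/-- The integral closure of a reduced ring with finitely many minimal primes in its total ring of
fractions is the product of the integral closures of the quotients by the minimal primes. -/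
noncomputable def integralClosureEquivPi [IsReduced A] :
    integralClosure A (FractionRing A) ≃ₐ[A] (∀ p : MinPrime A, Cq A p) :=
  (equivPi A).mapIntegralClosure.trans (piEquiv A)

end Fin

instance (p : MinPrime A) : IsIntegrallyClosed (Cq A p) :=
  integralClosure.isIntegrallyClosedOfFiniteExtension (FractionRing (A ⧸ p.1))

end Groth.Agent.Lib.TotalFracFin98
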