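import Groth.Agent.Lib.FinModifPic42

/-!
# helper42: descending an invertible module along a morphism from a lifted cocycle
(namespace `Groth.Agent.Lib.StarDescent42`)

* `exists_descent_of_cocycle`: `f : X ⟶ Y`, an open cover `W i` of `Y`, free generators `e i` of `L` over the
  `f⁻¹(W i)` and a cocycle `η i j ∈ Γ(Y, W i ⊓ W j)` with `f^♯ (η i j) = u i j` (the transition functions of the
  `e i`): then `L ≅ f^* N` for the invertible module `N` glued from `η`.
* `exists_descent_of_star`: the same when the cocycle is only known to be a liftable coboundary over an open `V'`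
  containing all the double intersections: there are a section `e0` of `L` over `f⁻¹ V'` and units `b i` on
  `V' ⊓ W i` with `e i = f^♯ (b i) • e0` over `f⁻¹(V' ⊓ W i)`.
-/

set_option autoImplicit false
universe u
open CategoryTheory CategoryTheory.Limits AlgebraicGeometry TopologicalSpace Opposite
open Groth.Agent.Lib.H90Invertible Groth.Agent.Lib.H78TensorGen Groth.Agent.Lib.H78SecCoord
open Groth.Agent.Lib.H78Atlas Groth.Agent.Lib.InvGlue42 Groth.Agent.Lib.H78PullSec
open Groth.Agent.Lib.FinModifPic42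

namespace Groth.Agent.Lib.StarDescent42

variable {X Y : Scheme.{u}}

section Cocycle

variable (f : X ⟶ Y) {ι : Type u} (W : ι → Y.Opens)
  (L : X.Modules) (e : ∀ i, Γ(L, f ⁻¹ᵁ W i)) (he : ∀ i, IsGen L (f ⁻¹ᵁ W i) (e i))
  (η : ∀ i j, Γ(Y, W i ⊓ W j))
  (happ : ∀ i j, f.app (W i ⊓ W j) (η i j) = u f W L e he i j)
  (hc : ∀ i j k,
    rf (inf_le_inf_right (W k) inf_le_left : W i ⊓ W j ⊓ W k ≤ W i ⊓ W k) (η i k) =
      rf (inf_le_left : W i ⊓ W j ⊓ W k ≤ W i ⊓ W j) (η i j) *
        rf (inf_le_inf_right (W k) inf_le_right : W i ⊓ W j ⊓ W k ≤ W j ⊓ W k) (η j k))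
  (h1 : ∀ i, η i i = 1)

include happ hc h1 in
/-- **Descent of an invertible module along `f` from a lifted cocycle.** -/
theorem exists_descent_of_cocycle (hW : ⨆ i, W i = ⊤) :
    ∃ N : Y.Modules, PicF.IsInvertible N ∧ Nonempty ((Scheme.Modules.pullback f).obj N ≅ L) := by
  let N : Y.Modules := glue W η
  refine ⟨N, isInvertible_glue hc hW h1, ?_⟩
  let t : ∀ i, Γ((Scheme.Modules.pullback f).obj N, f ⁻¹ᵁ W i) := fun i => pb f N (gen hc i)
  have ht : ∀ i, IsGen ((Scheme.Modules.pullback f).obj N) (f ⁻¹ᵁ W i) (t i) := fun i =>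
    isGen_pb f (isGen_gen hc h1 i)
  have hsw : ∀ i j, f ⁻¹ᵁ W i ⊓ f ⁻¹ᵁ W j ≤ f ⁻¹ᵁ (W j ⊓ W i) := fun i j x hx => ⟨hx.2, hx.1⟩
  have hcov : ⨆ i, f ⁻¹ᵁ W i = ⊤ := by
    rw [eq_top_iff]
    intro x _
    have hx : f x ∈ ⨆ i, W i := by rw [hW]; trivial
    obtain ⟨i, hi⟩ := Opens.mem_iSup.mp hx
    exact Opens.mem_iSup.mpr ⟨i, hi⟩
  obtain ⟨φ, -⟩ := Groth.Agent.Lib.ModIsoGlueH3.exists_iso_of_atlas
    (L' := (Scheme.Modules.pullback f).obj N) (L := L) (U := fun i => f ⁻¹ᵁ W i)
    (t := t) ht (e := e) he (g := fun i j => rf (hsw i j) (u f W L e he j i))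
    (fun i j => by
      have h0 := gen_transition hc j i
      have h2 := congrArg (pb f N) h0
      rw [pb_rs, pb_smul, pb_rs, happ] at h2
      have h3 := congrArg (rs ((Scheme.Modules.pullback f).obj N) (hsw i j)) h2
      rw [rs_rs, rs_smul, rs_rs] at h3
      exact h3)
    (fun i j => (u_spec' f W L e he j i (hsw i j)).symm)
    hcov
  exact ⟨φ⟩

end Cocycle

section Star

variable (f : X ⟶ Y) (V' : Y.Opens) {ι : Type u} (W : ι → Y.Opens)
  (hpair : ∀ i j, i ≠ j → W i ⊓ W j ≤ V')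
  (L : X.Modules) (e : ∀ i, Γ(L, f ⁻¹ᵁ W i)) (he : ∀ i, IsGen L (f ⁻¹ᵁ W i) (e i))
  (e0 : Γ(L, f ⁻¹ᵁ V')) (b binv : ∀ i, Γ(Y, V' ⊓ W i)) (hb : ∀ i, b i * binv i = 1)
  (hbe : ∀ i, rs L (f.preimage_mono (inf_le_right : V' ⊓ W i ≤ W i)) (e i) =
    f.app (V' ⊓ W i) (b i) • rs L (f.preimage_mono (inf_le_left : V' ⊓ W i ≤ V')) e0)

open Classical in
/-- the cocycle attached to the cochain `b` -/
noncomputable def etaS (i j : ι) : Γ(Y, W i ⊓ W j) :=
  if h : W i ⊓ W j ≤ V' then
    rf (le_inf h inf_le_left) (b i) * rf (le_inf h inf_le_right) (binv j)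
  else 1

include hb in
lemma etaS_self (i : ι) : etaS V' W b binv i i = 1 := by
  unfold etaS
  split_ifs with h
  · rw [← rf_mul, hb i, rf_one]
  · rfl

include hpair hb in
/-- uniform description of the cocycle on opens inside `V'` -/
lemma rf_etaS (i j : ι) {G : Y.Opens} (hG : G ≤ W i ⊓ W j) (hGV : G ≤ V') :
    rf hG (etaS V' W b binv i j) =
      rf (le_inf hGV (hG.trans inf_le_left)) (b i) * rf (le_inf hGV (hG.trans inf_le_right)) (binv j) := by
  by_cases h : W i ⊓ W j ≤ V'
  · unfold etaS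
    rw [dif_pos h, rf_mul, rf_rf, rf_rf]
  · have hij : i = j := by
      by_contra hne
      exact h (hpair i j hne)
    subst hij
    rw [etaS_self V' W b binv hb, rf_one, ← rf_mul, hb i, rf_one]

include hbe in
/-- the generators in terms of `e0` on opens inside `V'` -/
lemma rs_e (i : ι) {G : Y.Opens} (hGW : G ≤ W i) (hGV : G ≤ V') :
    rs L (f.preimage_mono hGW) (e i) =
      f.app G (rf (le_inf hGV hGW) (b i)) • rs L (f.preimage_mono hGV) e0 := by
  have h := congrArg (rs L (f.preimage_mono (le_inf hGV hGW))) (hbe i)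
  rw [rs_rs, rs_smul, rs_rs, ← app_rf f (le_inf hGV hGW)] at h
  exact h

include hpair hb hbe in
lemma app_etaS (i j : ι) :
    f.app (W i ⊓ W j) (etaS V' W b binv i j) = u f W L e he i j := by
  by_cases h : W i ⊓ W j ≤ V'
  · refine coord_unique (he j) _ ?_
    have hi := rs_e f V' W L e e0 b hbe i (G := W i ⊓ W j) inf_le_left h
    have hj := rs_e f V' W L e e0 b hbe j (G := W i ⊓ W j) inf_le_right h
    have h0 := rf_etaS V' W hpair b binv hb i j (G := W i ⊓ W j) le_rfl h
    rw [rf_self] at h0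
    rw [hi, hj, h0, ← mul_smul, ← map_mul, mul_assoc, ← rf_mul, mul_comm (binv j), hb j, rf_one, mul_one]
  · have hij : i = j := by
      by_contra hne
      exact h (hpair i j hne)
    subst hij
    rw [etaS_self V' W b binv hb, map_one, u_self]

include hpair hb in
lemma etaS_cocycle (i j k : ι) :
    rf (inf_le_inf_right (W k) inf_le_left : W i ⊓ W j ⊓ W k ≤ W i ⊓ W k) (etaS V' W b binv i k) =
      rf (inf_le_left : W i ⊓ W j ⊓ W k ≤ W i ⊓ W j) (etaS V' W b binv i j) *
        rf (inf_le_inf_right (W k) inf_le_right : W i ⊓ W j ⊓ W k ≤ W j ⊓ W k) (etaS V' W b binv j k) := by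
  by_cases hT : W i ⊓ W j ⊓ W k ≤ V'
  · rw [rf_etaS V' W hpair b binv hb i k _ hT, rf_etaS V' W hpair b binv hb i j _ hT,
      rf_etaS V' W hpair b binv hb j k _ hT]
    have hj : rf (le_inf hT (inf_le_left.trans inf_le_right) : W i ⊓ W j ⊓ W k ≤ V' ⊓ W j) (binv j) *
        rf (le_inf hT (inf_le_left.trans inf_le_right) : W i ⊓ W j ⊓ W k ≤ V' ⊓ W j) (b j) = 1 := by
      rw [← rf_mul, mul_comm, hb j, rf_one]
    calc _ = rf _ (b i) * (rf (le_inf hT (inf_le_left.trans inf_le_right) :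
          W i ⊓ W j ⊓ W k ≤ V' ⊓ W j) (binv j) *
        rf (le_inf hT (inf_le_left.trans inf_le_right) : W i ⊓ W j ⊓ W k ≤ V' ⊓ W j) (b j)) *
          rf _ (binv k) := by rw [hj, mul_one]
      _ = _ := by ring
  · have hij : i = j := by
      by_contra hne
      exact hT (inf_le_left.trans (hpair i j hne))
    have hjk : j = k := by
      by_contra hne
      exact hT ((inf_le_inf_right (W k) inf_le_right).trans (hpair j k hne))
    subst hij hjk
    rw [etaS_self V' W b binv hb, rf_one, mul_one]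

include hpair he hb hbe in
/-- **Descent of an invertible module whose transition cocycle is a liftable coboundary over `V'`.** -/
theorem exists_descent_of_star (hW : ⨆ i, W i = ⊤) :
    ∃ N : Y.Modules, PicF.IsInvertible N ∧ Nonempty ((Scheme.Modules.pullback f).obj N ≅ L) :=
  exists_descent_of_cocycle f W L e he (etaS V' W b binv)
    (app_etaS f V' W hpair L e he e0 b binv hb hbe)
    (etaS_cocycle V' W hpair b binv hb) (etaS_self V' W b binv hb) hW

end Star

end Groth.Agent.Lib.StarDescent42
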