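import Groth.Agent.Lib.DimOneTop42
import Groth.Agent.Lib.StarDescent42
import Groth.Agent.Lib.CosetAvoid42
import Groth.Agent.Lib.ClosedCoverPic42

/-!
# helper42: Picard groups and finite morphisms in dimension one (namespace `Groth.Agent.Lib.DimOnePic42`)

* `exists_isGen_sup`: free generators over two disjoint opens glue.
* `app_surjective_of_isClosedImmersion_morphismRestrict`: if `f` is a closed immersion over `V`, then `f^♯` is
  surjective on affine opens inside `V`.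
* `exists_open_gen_genericPoints`: `f` finite, `Y` Noetherian, `V` dense open, `L` invertible on `X`: there is an open
  `V₁ ≤ V` containing all generic points of `Y` with `L` free over `f⁻¹ V₁`.
* `exists_local_star`: the local step (dimension `≤ 1`, coset prime avoidance).
* `exists_descent_dim_one`: `f : X ⟶ Y` finite, `Y` Noetherian of dimension `≤ 1`, `f` a closed immersion over a dense
  open: every invertible module on `X` is a pullback of an invertible module on `Y`.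
-/

set_option autoImplicit false
universe u
open CategoryTheory CategoryTheory.Limits AlgebraicGeometry TopologicalSpace Opposite
open Groth.Agent.Lib.H90Invertible Groth.Agent.Lib.H78TensorGen Groth.Agent.Lib.H78SecCoord
open Groth.Agent.Lib.H78Atlas Groth.Agent.Lib.InvGlue42 Groth.Agent.Lib.H78PullSec
open Groth.Agent.Lib.FinModifPic42 Groth.Agent.Lib.StarDescent42

namespace Groth.Agent.Lib.DimOnePic42

variable {X Y : Scheme.{u}}

/-- free generators over two disjoint opens glue -/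
lemma exists_isGen_sup (L : X.Modules) (A B : X.Opens) (hAB : A ⊓ B = ⊥)
    (eA : Γ(L, A)) (heA : IsGen L A eA) (eB : Γ(L, B)) (heB : IsGen L B eB) :
    ∃ e : Γ(L, A ⊔ B), IsGen L (A ⊔ B) e := by
  let U : Bool → X.Opens := fun b => cond b A B
  have hU : ∀ b, U b ≤ A ⊔ B := fun b => by
    cases b
    · exact le_sup_right
    · exact le_sup_left
  have hcov : A ⊔ B ≤ iSup U := by
    apply sup_le
    · exact le_iSup U true
    · exact le_iSup U false
  let sf : ∀ b, Γ(L, U b) := fun b => match b with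
    | true => eA
    | false => eB
  have hsub : Subsingleton Γ(L, A ⊓ B) := by
    rw [hAB]
    exact Module.subsingleton Γ(X, (⊥ : X.Opens)) _
  have hsub' : Subsingleton Γ(L, B ⊓ A) := by
    rw [inf_comm, hAB]
    exact Module.subsingleton Γ(X, (⊥ : X.Opens)) _
  obtain ⟨σ, hσ⟩ := sec_glue L U hU hcov sf (fun i j => by
    cases i <;> cases j
    · rfl
    · exact hsub'.elim _ _
    · exact hsub.elim _ _
    · rfl)
  refine ⟨σ, isGen_of_cover σ U hU hcov (fun b => ?_)⟩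
  rw [hσ b]
  cases b
  · exact heB
  · exact heA

set_option backward.isDefEq.respectTransparency false in
/-- if `f` is a closed immersion over `V` then `f^♯` is surjective on affine opens inside `V` -/
theorem app_surjective_of_isClosedImmersion_morphismRestrict (f : X ⟶ Y) (V : Y.Opens)
    [IsClosedImmersion (f ∣_ V)] (D : Y.Opens) (hD : IsAffineOpen D) (hDV : D ≤ V) :
    Function.Surjective (f.app D) := by
  have hD' : V.ι ''ᵁ (V.ι ⁻¹ᵁ D) = D := by
    rw [Scheme.Hom.image_preimage_eq_opensRange_inf, Scheme.Opens.opensRange_ι]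
    exact inf_eq_right.mpr hDV
  have haff : IsAffineOpen (V.ι ⁻¹ᵁ D) := by
    rw [← Scheme.Hom.isAffineOpen_iff_of_isOpenImmersion V.ι, hD']
    exact hD
  have h1 := morphismRestrict_app f V (V.ι ⁻¹ᵁ D)
  have h2 : Function.Surjective ((f ∣_ V).app (V.ι ⁻¹ᵁ D)) := (f ∣_ V).app_surjective _ haff
  have h3 : Function.Surjective (f.app (V.ι ''ᵁ (V.ι ⁻¹ᵁ D))) := by
    intro y
    have hiso : IsIso (X.presheaf.map
        (eqToHom (image_morphismRestrict_preimage f V (V.ι ⁻¹ᵁ D))).op) := inferInstance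
    have hbij := (ConcreteCategory.isIso_iff_bijective _).mp hiso
    obtain ⟨x, hx⟩ := h2 (X.presheaf.map
        (eqToHom (image_morphismRestrict_preimage f V (V.ι ⁻¹ᵁ D))).op y)
    refine ⟨x, hbij.1 ?_⟩
    rw [← hx, h1]
    rfl
  rw [hD'] at h3
  exact h3

/-- **Step 1**: a trivialising open containing all generic points -/
theorem exists_open_gen_genericPoints (f : X ⟶ Y) [IsFinite f] [NoetherianSpace Y] (V : Y.Opens)
    (hV : Dense (V : Set Y)) (L : X.Modules) (hL : PicF.IsInvertible L) :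
    ∃ V₁ : Y.Opens, V₁ ≤ V ∧ genericPoints Y ⊆ (V₁ : Set Y) ∧ ∃ e : Γ(L, f ⁻¹ᵁ V₁), IsGen L (f ⁻¹ᵁ V₁) e := by
  let S : Set Y.Opens := {V₁ | V₁ ≤ V ∧ ∃ e : Γ(L, f ⁻¹ᵁ V₁), IsGen L (f ⁻¹ᵁ V₁) e}
  have hS : S.Nonempty := ⟨⊥, bot_le, 0, Groth.Agent.Lib.ClosedCoverPic42.isGen_of_eq_bot L _ (by
    rw [eq_bot_iff]
    intro x hx
    exact hx.elim) _⟩
  have hwf : WellFoundedGT Y.Opens := inferInstanceAs (NoetherianSpace Y)
  obtain ⟨V₁, ⟨hV₁V, e₁, he₁⟩, hmax⟩ := hwf.wf.has_min S hS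
  refine ⟨V₁, hV₁V, fun ξ hξ => ?_, e₁, he₁⟩
  by_contra hξV
  obtain ⟨o, ho, hone, hoC⟩ :=
    NoetherianSpace.exists_isOpen_nonempty_subset_irreducibleComponent (closure {ξ}) hξ
  have hgen : IsGenericPoint ξ (closure {ξ}) := rfl
  have hξo : ξ ∈ o := (hgen.mem_open_set_iff ho).mpr (by
    rw [Set.inter_eq_right.mpr hoC]
    exact hone)
  have hspec : ∀ z ∈ o, ξ ⤳ z := fun z hz => specializes_iff_mem_closure.mpr (hoC hz)
  have hξV' : ξ ∈ V := by
    obtain ⟨z, hzo, hzV⟩ := hV.inter_open_nonempty o ho ⟨ξ, hξo⟩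
    exact (hspec z hzo).mem_open V.2 hzV
  obtain ⟨W, hξW, eW, heW⟩ := exists_nhd_gen f L hL ξ
  let O' : Y.Opens := W ⊓ ⟨o, ho⟩ ⊓ V
  have hξO' : ξ ∈ O' := ⟨⟨hξW, hξo⟩, hξV'⟩
  have hdisj : V₁ ⊓ O' = ⊥ := by
    rw [eq_bot_iff]
    rintro z ⟨hz1, ⟨⟨-, hzo⟩, -⟩⟩
    exact hξV ((hspec z hzo).mem_open V₁.2 hz1)
  have hdisj' : f ⁻¹ᵁ V₁ ⊓ f ⁻¹ᵁ O' = ⊥ := by
    rw [eq_bot_iff]
    rintro x ⟨hx1, hx2⟩
    have : f x ∈ V₁ ⊓ O' := ⟨hx1, hx2⟩
    rw [hdisj] at this
    exact this.elim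
  have hO'W : f ⁻¹ᵁ O' ≤ f ⁻¹ᵁ W := f.preimage_mono (inf_le_left.trans inf_le_left)
  obtain ⟨e₂, he₂⟩ := exists_isGen_sup L (f ⁻¹ᵁ V₁) (f ⁻¹ᵁ O') hdisj' e₁ he₁
    (rs L hO'W eW) (heW.mono hO'W)
  have heq : f ⁻¹ᵁ (V₁ ⊔ O') = f ⁻¹ᵁ V₁ ⊔ f ⁻¹ᵁ O' := by
    ext x
    rfl
  have hmem : V₁ ⊔ O' ∈ S := ⟨sup_le hV₁V inf_le_right, _, he₂.of_eq heq⟩
  exact hmax _ hmem (lt_of_le_of_ne le_sup_left (fun h => hξV (h ▸ Or.inr hξO')))

/-- the prime ideal of functions on `D` vanishing at `y` -/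
noncomputable def primeAt (D : Y.Opens) (y : Y) (hy : y ∈ D) : Ideal Γ(Y, D) :=
  Ideal.comap (Y.presheaf.germ D y hy).hom (IsLocalRing.maximalIdeal (Y.presheaf.stalk y))

instance (D : Y.Opens) (y : Y) (hy : y ∈ D) : (primeAt D y hy).IsPrime :=
  Ideal.comap_isPrime _ _

lemma notMem_primeAt_iff (D : Y.Opens) (y : Y) (hy : y ∈ D) (a : Γ(Y, D)) :
    a ∉ primeAt D y hy ↔ y ∈ Y.basicOpen a := by
  rw [Scheme.mem_basicOpen _ _ y hy, primeAt, Ideal.mem_comap, IsLocalRing.notMem_maximalIdeal]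

/-- **Local step**: near a closed point `t` outside `V₁`, a generator of `L` whose ratio to `e₁` lifts to a unit -/
theorem exists_local_star (f : X ⟶ Y) [IsFinite f] [NoetherianSpace Y] (hdim : topologicalKrullDim Y ≤ 1)
    (V : Y.Opens) [IsClosedImmersion (f ∣_ V)] (L : X.Modules) (hL : PicF.IsInvertible L)
    (V₁ : Y.Opens) (hV₁V : V₁ ≤ V) (hG : genericPoints Y ⊆ (V₁ : Set Y))
    (e₁ : Γ(L, f ⁻¹ᵁ V₁)) (he₁ : IsGen L (f ⁻¹ᵁ V₁) e₁)
    (t : Y) (O : Y.Opens) (htO : t ∈ O) (htV : t ∉ V₁) (hO : ∀ z ∈ O, z ∉ V₁ → z = t) :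
    ∃ W : Y.Opens, t ∈ W ∧ W ≤ O ∧ ∃ e : Γ(L, f ⁻¹ᵁ W), IsGen L (f ⁻¹ᵁ W) e ∧
      ∃ b binv : Γ(Y, V₁ ⊓ W), b * binv = 1 ∧
        rs L (f.preimage_mono (inf_le_right : V₁ ⊓ W ≤ W)) e =
          f.app (V₁ ⊓ W) b • rs L (f.preimage_mono (inf_le_left : V₁ ⊓ W ≤ V₁)) e₁ := by
  classical
  have htcl : IsClosed ({t} : Set Y) :=
    Groth.Agent.Lib.DimOneTop42.isClosed_singleton_of_notMem_genericPoints hdim t (fun h => htV (hG h))
  obtain ⟨W₀, htW₀, e₀, he₀⟩ := exists_nhd_gen f L hL t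
  obtain ⟨W₁, hW₁aff, htW₁, hW₁le⟩ := Opens.isBasis_iff_nbhd.1 Y.isBasis_affineOpens
    (show t ∈ W₀ ⊓ O from ⟨htW₀, htO⟩)
  have hGfin : (genericPoints Y).Finite := genericPoints.finite NoetherianSpace.finite_irreducibleComponents
  -- a function vanishing at `t` and at no generic point
  obtain ⟨h, hht, hhG⟩ : ∃ h : Γ(Y, W₁), t ∉ Y.basicOpen h ∧
      ∀ y ∈ genericPoints Y, y ∈ W₁ → y ∈ Y.basicOpen h := by
    have hfin : (genericPoints Y ∩ (W₁ : Set Y)).Finite := hGfin.inter_of_left _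
    let P : Finset (Ideal Γ(Y, W₁)) :=
      hfin.toFinset.attach.image (fun y => primeAt W₁ y.1 (hfin.mem_toFinset.mp y.2).2)
    have hnot : ¬ ((primeAt W₁ t htW₁ : Set Γ(Y, W₁)) ⊆ ⋃ p ∈ (P : Set (Ideal Γ(Y, W₁))), (p : Set Γ(Y, W₁))) := by
      rw [Ideal.subset_union_prime (f := fun p : Ideal Γ(Y, W₁) => p) ⊥ ⊥ (fun p hp _ _ => by
        obtain ⟨y, -, rfl⟩ := Finset.mem_image.mp hp
        infer_instance)]
      rintro ⟨p, hp, hle⟩
      obtain ⟨⟨y, hy⟩, -, rfl⟩ := Finset.mem_image.mp hp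
      have hyG : y ∈ genericPoints Y := (hfin.mem_toFinset.mp hy).1
      have hyW : y ∈ W₁ := (hfin.mem_toFinset.mp hy).2
      have hyt : y ≠ t := fun h => htV (h ▸ hG hyG)
      obtain ⟨g, hgle, hyg⟩ := hW₁aff.exists_basicOpen_le
        (V := W₁ ⊓ ⟨({t} : Set Y)ᶜ, htcl.isOpen_compl⟩) ⟨y, ⟨hyW, hyt⟩⟩ hyW
      have h1 : g ∈ primeAt W₁ t htW₁ := by
        by_contra hcon
        rw [notMem_primeAt_iff] at hcon
        exact (hgle hcon).2 rfl
      have h2 : g ∉ primeAt W₁ y hyW := (notMem_primeAt_iff W₁ y hyW g).mpr hyg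
      exact h2 (hle h1)
    obtain ⟨h, hhp, hh⟩ := Set.not_subset.mp hnot
    refine ⟨h, fun hcon => ?_, fun y hyG hyW => ?_⟩
    · exact ((notMem_primeAt_iff W₁ t htW₁ h).mpr hcon) hhp
    · rw [← notMem_primeAt_iff W₁ y hyW h]
      intro hmem
      apply hh
      have hP : primeAt W₁ y hyW ∈ P := Finset.mem_image.mpr
        ⟨⟨y, hfin.mem_toFinset.mpr ⟨hyG, hyW⟩⟩, Finset.mem_attach _ _, rfl⟩
      exact Set.mem_biUnion (show primeAt W₁ y hyW ∈ (P : Set (Ideal Γ(Y, W₁))) from hP) hmem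
  -- remove the other zeros of `h`
  have hFcl : IsClosed (((Y.basicOpen h : Set Y)ᶜ) ∩ ((W₁ : Set Y) ∩ ({t} : Set Y)ᶜ)) :=
    Groth.Agent.Lib.DimOneTop42.isClosed_of_disjoint_genericPoints hdim _ _
      (Y.basicOpen h).2.isClosed_compl (W₁.2.inter htcl.isOpen_compl)
      (fun y hy hyG => hy.1 (hhG y hyG hy.2.1))
  let W₂ : Y.Opens := W₁ ⊓ ⟨(((Y.basicOpen h : Set Y)ᶜ) ∩ ((W₁ : Set Y) ∩ ({t} : Set Y)ᶜ))ᶜ, hFcl.isOpen_compl⟩
  have htW₂ : t ∈ W₂ := ⟨htW₁, fun hcon => hcon.2.2 rfl⟩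
  let D : Y.Opens := Y.basicOpen h
  have hDaff : IsAffineOpen D := hW₁aff.basicOpen h
  have hDW₁ : D ≤ W₁ := Y.basicOpen_le h
  have hDV₁ : D ≤ V₁ := by
    intro z hz
    by_contra hzV
    have := hO z (hW₁le (hDW₁ hz)).2 hzV
    exact hht (this ▸ hz)
  have hDW₀ : D ≤ W₀ := hDW₁.trans (hW₁le.trans inf_le_left)
  have hV₁W₂ : V₁ ⊓ W₂ ≤ D := by
    rintro z ⟨hz1, hz2, hz3⟩
    by_contra hzD
    exact hz3 ⟨hzD, hz2, fun hzt => htV (hzt ▸ hz1)⟩
  -- the ratio
  let β : Γ(X, f ⁻¹ᵁ D) := coord he₁ (f.preimage_mono hDV₁) (rs L (f.preimage_mono hDW₀) e₀)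
  have hβspec : β • rs L (f.preimage_mono hDV₁) e₁ = rs L (f.preimage_mono hDW₀) e₀ :=
    coord_spec he₁ _ _
  have hβ : IsUnit β := by
    rw [← isGen_smul_iff (he₁.mono (f.preimage_mono hDV₁)) β]
    have h0 : IsGen L (f ⁻¹ᵁ D) (rs L (f.preimage_mono hDW₀) e₀) := he₀.mono (f.preimage_mono hDW₀)
    rw [← hβspec] at h0
    exact h0
  have hsurj : Function.Surjective (f.app D).hom :=
    app_surjective_of_isClosedImmersion_morphismRestrict f V D hDaff (hDV₁.trans hV₁V)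
  -- the primes of the generic points
  have hfin : (genericPoints Y ∩ (D : Set Y)).Finite := hGfin.inter_of_left _
  let P : Finset (Ideal Γ(Y, D)) :=
    hfin.toFinset.attach.image (fun y => primeAt D y.1 (hfin.mem_toFinset.mp y.2).2)
  have hP : ∀ p ∈ P, p.IsPrime := by
    intro p hp
    obtain ⟨y, -, rfl⟩ := Finset.mem_image.mp hp
    infer_instance
  obtain ⟨a, haβ, haP⟩ := Groth.Agent.Lib.CosetAvoid42.exists_lift_notMem (f.app D).hom hsurj β hβ P hP
  have hGa : ∀ y ∈ genericPoints Y, y ∈ D → y ∈ Y.basicOpen a := by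
    intro y hyG hyD
    rw [← notMem_primeAt_iff D y hyD a]
    exact haP _ (Finset.mem_image.mpr
      ⟨⟨y, hfin.mem_toFinset.mpr ⟨hyG, hyD⟩⟩, Finset.mem_attach _ _, rfl⟩)
  -- the bad set is closed
  have hcl : IsClosed (((Y.basicOpen a : Set Y)ᶜ) ∩ (D : Set Y)) :=
    Groth.Agent.Lib.DimOneTop42.isClosed_of_disjoint_genericPoints hdim _ _
      (Y.basicOpen a).2.isClosed_compl D.2 (fun y hy hyG => hy.1 (hGa y hyG hy.2))
  let W : Y.Opens := W₂ ⊓ ⟨(((Y.basicOpen a : Set Y)ᶜ) ∩ (D : Set Y))ᶜ, hcl.isOpen_compl⟩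
  have htW : t ∈ W := ⟨htW₂, fun hcon => htV (hDV₁ hcon.2)⟩
  have hWO : W ≤ O := inf_le_left.trans (inf_le_left.trans (hW₁le.trans inf_le_right))
  have hWW₀ : W ≤ W₀ := inf_le_left.trans (inf_le_left.trans (hW₁le.trans inf_le_left))
  have hle : V₁ ⊓ W ≤ D := (inf_le_inf_left V₁ inf_le_left).trans hV₁W₂
  have hle' : V₁ ⊓ W ≤ Y.basicOpen a := by
    intro z hz
    by_contra hza
    exact hz.2.2 ⟨hza, hle hz⟩
  let b : Γ(Y, V₁ ⊓ W) := rf hle a
  have hbu : IsUnit b := by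
    have h1 := Y.toRingedSpace.isUnit_res_basicOpen a
    have h2 := h1.map (Y.presheaf.map (homOfLE hle').op).hom
    have h3 : b = (Y.presheaf.map (homOfLE hle').op).hom
        ((Y.presheaf.map (homOfLE (Y.basicOpen_le a)).op).hom a) := (rf_rf _ hle' a).symm
    rw [h3]
    exact h2
  obtain ⟨binv, hbinv⟩ := hbu.exists_right_inv
  refine ⟨W, htW, hWO, rs L (f.preimage_mono hWW₀) e₀, he₀.mono (f.preimage_mono hWW₀), b, binv, hbinv, ?_⟩
  have h4 := congrArg (rs L (f.preimage_mono hle)) hβspec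
  rw [rs_smul, rs_rs, rs_rs] at h4
  rw [rs_rs, ← h4]
  congr 1
  change _ = f.app (V₁ ⊓ W) (rf hle a)
  rw [app_rf, ← haβ]

/-- **Invertible modules descend along a finite morphism which is generically a closed immersion, over a
Noetherian base of dimension `≤ 1`.** -/
theorem exists_descent_dim_one (f : X ⟶ Y) [IsFinite f] [NoetherianSpace Y]
    (hdim : topologicalKrullDim Y ≤ 1) (V : Y.Opens) (hV : Dense (V : Set Y))
    [IsClosedImmersion (f ∣_ V)] (L : X.Modules) (hL : PicF.IsInvertible L) :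
    ∃ N : Y.Modules, PicF.IsInvertible N ∧ Nonempty ((Scheme.Modules.pullback f).obj N ≅ L) := by
  classical
  obtain ⟨V₁, hV₁V, hG, e₁, he₁⟩ := exists_open_gen_genericPoints f V hV L hL
  have hTfin : ((V₁ : Set Y)ᶜ).Finite := by
    have := Groth.Agent.Lib.DimOneTop42.finite_of_disjoint_genericPoints hdim ((V₁ : Set Y)ᶜ) Set.univ
      V₁.2.isClosed_compl isOpen_univ (fun y hy hyG => hy.1 (hG hyG))
    rwa [Set.inter_univ] at this
  have hTcl : ∀ t : Y, t ∉ V₁ → IsClosed ({t} : Set Y) := fun t ht =>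
    Groth.Agent.Lib.DimOneTop42.isClosed_singleton_of_notMem_genericPoints hdim t (fun h => ht (hG h))
  have hOcl : ∀ t : Y, IsClosed (((V₁ : Set Y)ᶜ) \ {t}) := by
    intro t
    have h1 : (((V₁ : Set Y)ᶜ) \ {t}).Finite := hTfin.subset Set.sdiff_subset
    have h2 : ((V₁ : Set Y)ᶜ) \ {t} = ⋃ y ∈ ((V₁ : Set Y)ᶜ) \ {t}, {y} :=
      (Set.biUnion_of_singleton _).symm
    rw [h2]
    exact h1.isClosed_biUnion fun y hy => hTcl y hy.1
  let T := {t : Y // t ∉ V₁}
  let O : T → Y.Opens := fun t => ⟨(((V₁ : Set Y)ᶜ) \ {t.1})ᶜ, (hOcl t.1).isOpen_compl⟩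
  have htO : ∀ t : T, t.1 ∈ O t := fun t h => h.2 rfl
  have hO : ∀ (t : T) (z : Y), z ∈ O t → z ∉ V₁ → z = t.1 := by
    intro t z hz hzV
    by_contra hne
    exact hz ⟨hzV, hne⟩
  choose W htW hWO e he b binv hb hbe using fun t : T =>
    exists_local_star f hdim V L hL V₁ hV₁V hG e₁ he₁ t.1 (O t) (htO t) t.2 (hO t)
  let W' : Option T → Y.Opens := fun i => match i with
    | none => V₁
    | some t => W t
  let e' : ∀ i, Γ(L, f ⁻¹ᵁ W' i) := fun i => match i with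
    | none => e₁
    | some t => e t
  let b' : ∀ i, Γ(Y, V₁ ⊓ W' i) := fun i => match i with
    | none => 1
    | some t => b t
  let binv' : ∀ i, Γ(Y, V₁ ⊓ W' i) := fun i => match i with
    | none => 1
    | some t => binv t
  refine exists_descent_of_star f V₁ W' ?_ L e' ?_ e₁ b' binv' ?_ ?_ ?_
  · intro i j hij
    match i, j with
    | none, none => exact absurd rfl hij
    | none, some t => exact inf_le_left
    | some t, none => exact inf_le_right
    | some t, some s =>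
      intro z hz
      by_contra hzV
      have h1 := hO t z (hWO t hz.1) hzV
      have h2 := hO s z (hWO s hz.2) hzV
      exact hij (congrArg some (Subtype.ext (h1.symm.trans h2)))
  · intro i
    match i with
    | none => exact he₁
    | some t => exact he t
  · intro i
    match i with
    | none => exact mul_one 1
    | some t => exact hb t
  · intro i
    match i with
    | none =>
      change rs L _ e₁ = f.app (V₁ ⊓ V₁) 1 • rs L _ e₁
      rw [map_one, one_smul]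
    | some t => exact hbe t
  · rw [eq_top_iff]
    intro z _
    by_cases hz : z ∈ V₁
    · exact Opens.mem_iSup.mpr ⟨none, hz⟩
    · exact Opens.mem_iSup.mpr ⟨some ⟨z, hz⟩, htW ⟨z, hz⟩⟩

end Groth.Agent.Lib.DimOnePic42
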