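import Mathlib
import Groth.Prelude.Def_Magnet2

set_option autoImplicit false
universe u
open CategoryTheory CategoryTheory.Limits

namespace Groth.Agent.Lib.DirLim27

section Ring

variable (R : Type u) [CommRing R] {M : Type} [AddCommMonoid M]
  {I : Type u} [Preorder I] [IsDirected I (· ≤ ·)] [Nonempty I]
  (N : I → AddSubmonoid M) (hN : Monotone N)

/-- the ring map `R[N₁] → R[N₂]` for `N₁ ≤ N₂` -/
noncomputable abbrev incl {N₁ N₂ : AddSubmonoid M} (h : N₁ ≤ N₂) :
    MonoidAlgebra R (Multiplicative N₁) →+* MonoidAlgebra R (Multiplicative N₂) :=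
  (MonoidAlgebra.mapDomainBialgHom R
    (AddMonoidHom.toMultiplicative (AddSubmonoid.inclusion h))).toAlgHom.toRingHom

lemma incl_single {N₁ N₂ : AddSubmonoid M} (h : N₁ ≤ N₂) (n : Multiplicative N₁) (r : R) :
    incl R h (MonoidAlgebra.single n r) =
      MonoidAlgebra.single (Multiplicative.ofAdd (AddSubmonoid.inclusion h n.toAdd)) r := by
  simp [incl]

lemma incl_comp {N₁ N₂ N₃ : AddSubmonoid M} (h : N₁ ≤ N₂) (h' : N₂ ≤ N₃) :
    (incl R h').comp (incl R h) = incl R (h.trans h') := by
  apply MonoidAlgebra.ringHom_ext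
  · intro r; simp
  · intro n; simp; rfl

lemma incl_refl (N₁ : AddSubmonoid M) : incl R (le_refl N₁) = RingHom.id _ := by
  apply MonoidAlgebra.ringHom_ext
  · intro r; simp
  · intro n; simp; rfl

/-- the diagram `i ↦ R[N i]` -/
noncomputable def ringDiagram : I ⥤ CommRingCat.{u} where
  obj i := CommRingCat.of (MonoidAlgebra R (Multiplicative (N i)))
  map {i j} h := CommRingCat.ofHom (incl R (hN h.le))
  map_id i := by
    ext1
    exact incl_refl R (N i)
  map_comp {i j k} h h' := by
    ext1
    exact (incl_comp R (hN h.le) (hN h'.le)).symm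

/-- the cocone with point `R[⨆ N i]` -/
noncomputable def ringCocone : Cocone (ringDiagram R N hN) where
  pt := CommRingCat.of (MonoidAlgebra R (Multiplicative (⨆ i, N i : AddSubmonoid M)))
  ι :=
    { app := fun i => CommRingCat.ofHom (incl R (le_iSup N i))
      naturality := fun i j h => by
        ext1
        change (incl R (le_iSup N j)).comp (incl R (hN h.le)) = (RingHom.id _).comp (incl R (le_iSup N i))
        rw [incl_comp, RingHom.id_comp] }

section Desc

variable {R N hN}
variable (s : Cocone (ringDiagram R N hN))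

/-- the leg of the cocone as a ring hom with explicit source -/
noncomputable def sig (i : I) : MonoidAlgebra R (Multiplicative (N i)) →+* s.pt := (s.ι.app i).hom

omit [IsDirected I (· ≤ ·)] [Nonempty I] in
lemma s_w {i j : I} (h : i ≤ j) (x : MonoidAlgebra R (Multiplicative (N i))) :
    sig s j (incl R (hN h) x) = sig s i x :=
  congrArg (fun f => f.hom x) (s.w (homOfLE h))

include hN in
lemma mem_iSup_iff (m : M) : m ∈ (⨆ i, N i) ↔ ∃ i, m ∈ N i :=
  AddSubmonoid.mem_iSup_of_directed hN.directed_le

/-- the value of the limit character -/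
noncomputable def chrVal (n : (⨆ i, N i : AddSubmonoid M)) : s.pt :=
  sig s (Classical.choose ((mem_iSup_iff (hN := hN) n.1).mp n.2))
    (MonoidAlgebra.single (Multiplicative.ofAdd
      ⟨n.1, Classical.choose_spec ((mem_iSup_iff (hN := hN) n.1).mp n.2)⟩) 1)

lemma chrVal_eq (n : (⨆ i, N i : AddSubmonoid M)) (i : I) (hi : n.1 ∈ N i) :
    chrVal s n = sig s i (MonoidAlgebra.single (Multiplicative.ofAdd ⟨n.1, hi⟩) 1) := by
  obtain ⟨k, hik, hi0k⟩ := exists_ge_ge i
    (Classical.choose ((mem_iSup_iff (hN := hN) n.1).mp n.2))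
  unfold chrVal
  rw [← s_w s hik, ← s_w s hi0k, incl_single, incl_single]
  rfl

lemma chrVal_zero : chrVal s 0 = 1 := by
  obtain ⟨i⟩ := ‹Nonempty I›
  rw [chrVal_eq s 0 i (N i).zero_mem]
  exact map_one (sig s i)

lemma chrVal_add (n n' : (⨆ i, N i : AddSubmonoid M)) :
    chrVal s (n + n') = chrVal s n * chrVal s n' := by
  obtain ⟨i, hi⟩ := (mem_iSup_iff (hN := hN) n.1).mp n.2
  obtain ⟨i', hi'⟩ := (mem_iSup_iff (hN := hN) n'.1).mp n'.2
  obtain ⟨k, hik, hi'k⟩ := exists_ge_ge i i'
  rw [chrVal_eq s n k (hN hik hi), chrVal_eq s n' k (hN hi'k hi'),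
    chrVal_eq s (n + n') k ((N k).add_mem (hN hik hi) (hN hi'k hi'))]
  refine Eq.trans ?_ (map_mul (sig s k) _ _)
  congr 1
  rw [MonoidAlgebra.single_mul_single, mul_one]
  rfl

/-- the limit character -/
noncomputable def chrLim : Multiplicative (⨆ i, N i : AddSubmonoid M) →* s.pt where
  toFun n := chrVal s n.toAdd
  map_one' := chrVal_zero s
  map_mul' n n' := chrVal_add s n.toAdd n'.toAdd

/-- the structure map `R → s.pt` -/
noncomputable def baseHom : R →+* s.pt :=
  (sig s (Classical.arbitrary I)).comp
    (algebraMap R (MonoidAlgebra R (Multiplicative (N (Classical.arbitrary I)))))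

lemma baseHom_eq (i : I) (r : R) :
    baseHom s r = sig s i (MonoidAlgebra.single 1 r) := by
  obtain ⟨k, hik, hi0k⟩ := exists_ge_ge i (Classical.arbitrary I)
  unfold baseHom
  rw [RingHom.comp_apply, MonoidAlgebra.coe_algebraMap, Function.comp_apply,
    Algebra.algebraMap_self, RingHom.id_apply, ← s_w s hik, ← s_w s hi0k, incl_single, incl_single]
  rfl

/-- the induced map out of `R[⨆ N i]` -/
noncomputable def descHom : MonoidAlgebra R (Multiplicative (⨆ i, N i : AddSubmonoid M)) →+* s.pt :=
  MonoidAlgebra.liftNCRingHom (baseHom s) (chrLim s) (fun _ _ => Commute.all _ _)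

lemma descHom_single (n : Multiplicative (⨆ i, N i : AddSubmonoid M)) (r : R) :
    descHom s (MonoidAlgebra.single n r) = baseHom s r * chrVal s n.toAdd := by
  simp [descHom, MonoidAlgebra.liftNCRingHom, MonoidAlgebra.liftNC_single, chrLim]

lemma descHom_comp_incl (i : I) : (descHom s).comp (incl R (le_iSup N i)) = sig s i := by
  apply MonoidAlgebra.ringHom_ext
  · intro r
    rw [RingHom.comp_apply, incl_single, descHom_single, baseHom_eq s i]
    have : chrVal s (Multiplicative.toAdd (Multiplicative.ofAdd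
        ((AddSubmonoid.inclusion (le_iSup N i)) (Multiplicative.toAdd (1 : Multiplicative (N i)))))) = 1 :=
      chrVal_zero s
    rw [this, mul_one]
  · intro n
    rw [RingHom.comp_apply, incl_single, descHom_single, map_one, one_mul]
    exact chrVal_eq s _ i n.toAdd.2

end Desc

include hN in
/-- `R[⨆ N i]` is the colimit of the `R[N i]` -/
noncomputable def isColimitRingCocone : IsColimit (ringCocone R N hN) where
  desc s := CommRingCat.ofHom (descHom s)
  fac s i := by
    ext1
    exact descHom_comp_incl s i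
  uniq s m hm := by
    ext1
    apply MonoidAlgebra.ringHom_ext
    · intro r
      obtain ⟨i⟩ := ‹Nonempty I›
      have h1 := congrArg (fun f => f.hom (MonoidAlgebra.single 1 r)) (hm i)
      have h2 := congrArg (fun f => f (MonoidAlgebra.single 1 r)) (descHom_comp_incl s i)
      simp only [RingHom.comp_apply] at h2
      change m.hom (incl R (le_iSup N i) (MonoidAlgebra.single 1 r)) = _ at h1
      rw [incl_single] at h1 h2
      exact h1.trans h2.symm
    · intro n
      obtain ⟨i, hi⟩ := (mem_iSup_iff (hN := hN) n.toAdd.1).mp n.toAdd.2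
      have h1 := congrArg (fun f => f.hom (MonoidAlgebra.single (Multiplicative.ofAdd ⟨n.toAdd.1, hi⟩) 1)) (hm i)
      have h2 := congrArg (fun f => f (MonoidAlgebra.single (Multiplicative.ofAdd ⟨n.toAdd.1, hi⟩) 1))
        (descHom_comp_incl s i)
      simp only [RingHom.comp_apply] at h2
      change m.hom (incl R (le_iSup N i) (MonoidAlgebra.single _ 1)) = _ at h1
      rw [incl_single] at h1 h2
      exact h1.trans h2.symm

end Ring

end Groth.Agent.Lib.DirLim27
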