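import Mathlib
import Groth.Agent.Lib.DirLim27

set_option autoImplicit false
universe u
open CategoryTheory CategoryTheory.Limits AlgebraicGeometry Magnet

namespace Groth.Agent.Lib.DirLim27

section Sch

variable (R : Type u) [CommRing R] {M : Type} [AddCommMonoid M]
  {I : Type u} [Preorder I] [IsDirected I (· ≤ ·)] [Nonempty I]
  (N : I → AddSubmonoid M) (hN : Monotone N)

theorem AMon_map_inclusion_refl (N₁ : AddSubmonoid M) :
    AMon.map R (AddSubmonoid.inclusion (le_refl N₁)) = 𝟙 _ := by
  ext : 1
  rw [AMon.map_left]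
  change Spec.map _ = 𝟙 _
  rw [← Spec.map_id]
  congr 1
  apply CommRingCat.hom_ext
  exact incl_refl R N₁

theorem AMon_map_inclusion_comp {N₁ N₂ N₃ : AddSubmonoid M} (h : N₁ ≤ N₂) (h' : N₂ ≤ N₃) :
    AMon.map R (AddSubmonoid.inclusion h') ≫ AMon.map R (AddSubmonoid.inclusion h) =
      AMon.map R (AddSubmonoid.inclusion (h.trans h')) := by
  rw [← AMon.map_comp]
  rfl

/-- the diagram `i ↦ A(N i)` over `Spec R` -/
noncomputable def amonDiagram : Iᵒᵖ ⥤ Over (Spec (CommRingCat.of R)) where
  obj i := AMon R (N i.unop)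
  map h := AMon.map R (AddSubmonoid.inclusion (hN h.unop.le))
  map_id i := AMon_map_inclusion_refl R (N i.unop)
  map_comp h h' := (AMon_map_inclusion_comp R (hN h'.unop.le) (hN h.unop.le)).symm

/-- the cone with point `A(⨆ N i)` -/
noncomputable def amonCone : Cone (amonDiagram R N hN) where
  pt := AMon R (⨆ i, N i : AddSubmonoid M)
  π :=
    { app := fun i => AMon.map R (AddSubmonoid.inclusion (le_iSup N i.unop))
      naturality := fun i j h => by
        change 𝟙 _ ≫ _ = _ ≫ AMon.map R (AddSubmonoid.inclusion (hN h.unop.le))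
        rw [Category.id_comp, AMon_map_inclusion_comp] }

attribute [local instance] IsCofiltered.isConnected in
noncomputable def isLimitAmonCone : IsLimit (amonCone R N hN) := by
  have h1 : IsLimit (Scheme.Spec.mapCone (ringCocone R N hN).op) :=
    isLimitOfPreserves Scheme.Spec (isColimitRingCocone R N hN).op
  have h2 : IsLimit ((Over.forget _).mapCone (amonCone R N hN)) := h1
  exact isLimitOfReflects (Over.forget _) h2

end Sch

end Groth.Agent.Lib.DirLim27
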