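import Mathlib

/-!
# Scheme-theoretically dominant morphisms: extension lemmas (helper27)

* `Groth.Agent.Lib.StDominant27.ext_of_isSchemeTheoreticallyDominant_of_isSeparated`:
  two morphisms `f g : X ⟶ Y` over a separated `s : Y ⟶ Z` which agree after precomposition with a
  scheme-theoretically dominant `ι : W ⟶ X` are equal.
* `isSchemeTheoreticallyDominant_SpecMap`: `Spec.map φ` is scheme-theoretically dominant for `φ`
  injective.
* `injective_of_isPushout_of_split`: in `CommRingCat`, the map between pushouts induced by an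
  `R₀`-linearly split injection `A ⟶ B` is injective.
* `isSchemeTheoreticallyDominant_of_split`: base change over `Spec R₀` of `Spec` of a split injection
  along an ARBITRARY (not nec. flat) `T ⟶ Spec R₀` is scheme-theoretically dominant.
-/

set_option autoImplicit false
universe u

open CategoryTheory CategoryTheory.Limits AlgebraicGeometry TensorProduct

namespace Groth.Agent.Lib.StDominant27

/-- A closed immersion through which a scheme-theoretically dominant morphism factors is an iso. -/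
theorem isIso_of_isClosedImmersion_of_comp {W E X : Scheme.{u}} (l : W ⟶ E) (e : E ⟶ X)
    [IsClosedImmersion e] [IsSchemeTheoreticallyDominant (l ≫ e)] : IsIso e := by
  rw [IsClosedImmersion.isIso_iff_ker_eq_bot, ← le_bot_iff]
  exact (Scheme.Hom.le_ker_comp l e).trans_eq (l ≫ e).ker_eq_bot

/-- Two morphisms `f g : X ⟶ Y` over a separated `s : Y ⟶ Z` which agree after precomposition with a
scheme-theoretically dominant `ι : W ⟶ X` are equal. -/
theorem ext_of_isSchemeTheoreticallyDominant_of_isSeparated {W X Y Z : Scheme.{u}} {f g : X ⟶ Y}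
    (s : Y ⟶ Z) [IsSeparated s] (h : f ≫ s = g ≫ s)
    (ι : W ⟶ X) [IsSchemeTheoreticallyDominant ι] (hU : ι ≫ f = ι ≫ g) : f = g := by
  let X' : Over Z := Over.mk (f ≫ s)
  let Y' : Over Z := Over.mk s
  let U' : Over Z := Over.mk (ι ≫ f ≫ s)
  let f' : X' ⟶ Y' := Over.homMk f
  let g' : X' ⟶ Y' := Over.homMk g
  let ι' : U' ⟶ X' := Over.homMk ι
  have : IsSeparated Y'.hom := ‹_›
  have hι : ι' ≫ f' = ι' ≫ g' := by ext1; exact hU
  have hfac : (equalizer.lift ι' hι).left ≫ (equalizer.ι f' g').left = ι := by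
    rw [← Over.comp_left, equalizer.lift_ι]; rfl
  have : IsSchemeTheoreticallyDominant
      ((equalizer.lift ι' hι).left ≫ (equalizer.ι f' g').left) := by rw [hfac]; infer_instance
  have := isIso_of_isClosedImmersion_of_comp (equalizer.lift ι' hι).left (equalizer.ι f' g').left
  rw [← cancel_epi (equalizer.ι f' g').left]
  exact congr($(equalizer.condition f' g').left)

/-- Version in `Over S` with separated target. -/
theorem over_ext_of_isSchemeTheoreticallyDominant {S : Scheme.{u}} {W X Y : Over S}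
    [IsSeparated Y.hom] {f g : X ⟶ Y} (ι : W ⟶ X) [IsSchemeTheoreticallyDominant ι.left]
    (hU : ι ≫ f = ι ≫ g) : f = g := by
  ext1
  refine ext_of_isSchemeTheoreticallyDominant_of_isSeparated Y.hom ?_ ι.left ?_
  · rw [Over.w, Over.w]
  · rw [← Over.comp_left, hU, Over.comp_left]

/-- `Spec.map φ` is scheme-theoretically dominant for `φ` injective. -/
theorem isSchemeTheoreticallyDominant_SpecMap {R S : CommRingCat.{u}} (φ : R ⟶ S)
    (h : Function.Injective φ.hom) : IsSchemeTheoreticallyDominant (Spec.map φ) := by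
  constructor
  rw [Scheme.ker_of_isAffine]
  have hinj : Function.Injective (Spec.map φ).appTop.hom := by
    have e : (Spec.map φ).appTop = (Scheme.ΓSpecIso R).hom ≫ φ ≫ (Scheme.ΓSpecIso S).inv := by
      rw [← Category.assoc, ← Scheme.ΓSpecIso_naturality, Category.assoc, Iso.hom_inv_id,
        Category.comp_id]
    rw [e]
    simp only [CommRingCat.hom_comp, RingHom.coe_comp]
    exact ((ConcreteCategory.bijective_of_isIso (Scheme.ΓSpecIso S).inv).1.comp h).comp
      (ConcreteCategory.bijective_of_isIso (Scheme.ΓSpecIso R).hom).1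
  rw [(RingHom.injective_iff_ker_eq_bot _).mp hinj]
  refine Scheme.IdealSheafData.ext_of_isAffine ?_
  simp

/-- Pushouts of a split injection stay injective (categorical form in `CommRingCat`). -/
theorem injective_of_isPushout_of_split {R₀ A B C PA PB : CommRingCat.{u}}
    (a : R₀ ⟶ A) (b : R₀ ⟶ B) (c : R₀ ⟶ C) (φ : A ⟶ B) (hφ : a ≫ φ = b)
    {inlA : A ⟶ PA} {inrA : C ⟶ PA} {inlB : B ⟶ PB} {inrB : C ⟶ PB}
    (HA : IsPushout a c inlA inrA) (HB : IsPushout b c inlB inrB)
    (θ : PA ⟶ PB) (h1 : inlA ≫ θ = φ ≫ inlB) (h2 : inrA ≫ θ = inrB)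
    (r : B →+ A) (hr1 : ∀ (s : R₀) (x : B), r (b.hom s * x) = a.hom s * r x)
    (hr2 : ∀ x : A, r (φ.hom x) = x) :
    Function.Injective θ.hom := by
  algebraize [a.hom, b.hom, c.hom]
  let eA := (CommRingCat.isPushout_tensorProduct R₀ A C).isoIsPushout A C HA
  let eB := (CommRingCat.isPushout_tensorProduct R₀ B C).isoIsPushout B C HB
  let φAlg : A →ₐ[R₀] B :=
    { φ.hom with
      commutes' := fun s => by
        change φ.hom (a.hom s) = b.hom s
        rw [← hφ]; rfl }
  let ψ : A ⊗[R₀] C →ₐ[R₀] B ⊗[R₀] C := Algebra.TensorProduct.map φAlg (AlgHom.id R₀ C)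
  let rLin : B →ₗ[R₀] A :=
    { toFun := r
      map_add' := r.map_add
      map_smul' := fun s x => by
        rw [Algebra.smul_def, Algebra.smul_def]
        exact hr1 s x }
  have hψinj : Function.Injective ψ := by
    have hleft : Function.LeftInverse (LinearMap.rTensor C rLin) ψ := by
      intro z
      induction z using TensorProduct.induction_on with
      | zero => simp
      | tmul x y =>
        simp only [ψ, Algebra.TensorProduct.map_tmul, LinearMap.rTensor_tmul, AlgHom.coe_id, id_eq]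
        congr 1
        exact hr2 x
      | add x y hx hy => rw [map_add, map_add, hx, hy]
    exact hleft.injective
  have eAl : CommRingCat.ofHom (Algebra.TensorProduct.includeLeftRingHom (R := R₀) (A := A) (B := C))
      ≫ eA.hom = inlA := IsPushout.inl_isoIsPushout_hom _ _ _ _
  have eAr : CommRingCat.ofHom ((Algebra.TensorProduct.includeRight : C →ₐ[R₀] A ⊗[R₀] C).toRingHom)
      ≫ eA.hom = inrA := IsPushout.inr_isoIsPushout_hom _ _ _ _
  have eBl : CommRingCat.ofHom (Algebra.TensorProduct.includeLeftRingHom (R := R₀) (A := B) (B := C))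
      ≫ eB.hom = inlB := IsPushout.inl_isoIsPushout_hom _ _ _ _
  have eBr : CommRingCat.ofHom ((Algebra.TensorProduct.includeRight : C →ₐ[R₀] B ⊗[R₀] C).toRingHom)
      ≫ eB.hom = inrB := IsPushout.inr_isoIsPushout_hom _ _ _ _
  have hcomm : eA.hom ≫ θ = CommRingCat.ofHom ψ.toRingHom ≫ eB.hom := by
    apply (CommRingCat.isPushout_tensorProduct R₀ A C).hom_ext
    · rw [← Category.assoc, eAl, h1]
      have : CommRingCat.ofHom (Algebra.TensorProduct.includeLeftRingHom (R := R₀) (A := A) (B := C))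
          ≫ CommRingCat.ofHom ψ.toRingHom =
          φ ≫ CommRingCat.ofHom (Algebra.TensorProduct.includeLeftRingHom (R := R₀) (A := B) (B := C)) := by
        ext x
        simp [ψ, φAlg]
      rw [← Category.assoc, this, Category.assoc, eBl]
    · rw [← Category.assoc, eAr, h2]
      have : CommRingCat.ofHom ((Algebra.TensorProduct.includeRight : C →ₐ[R₀] A ⊗[R₀] C).toRingHom)
          ≫ CommRingCat.ofHom ψ.toRingHom =
          CommRingCat.ofHom ((Algebra.TensorProduct.includeRight : C →ₐ[R₀] B ⊗[R₀] C).toRingHom) := by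
        ext x
        simp [ψ]
      rw [← Category.assoc, this, eBr]
  have hθ : θ = eA.inv ≫ CommRingCat.ofHom ψ.toRingHom ≫ eB.hom := by
    rw [← hcomm, Iso.inv_hom_id_assoc]
  rw [hθ]
  simp only [CommRingCat.hom_comp, RingHom.coe_comp]
  exact ((ConcreteCategory.bijective_of_isIso eB.hom).1.comp hψinj).comp
    (ConcreteCategory.bijective_of_isIso eA.inv).1

theorem appLE_congr_hom {X Y : Scheme.{u}} {f g : X ⟶ Y} (h : f = g) (U : Y.Opens) (V : X.Opens)
    (e : V ≤ f ⁻¹ᵁ U) (e' : V ≤ g ⁻¹ᵁ U) : f.appLE U V e = g.appLE U V e' := by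
  subst h; rfl

theorem appLE_top_top {X Y : Scheme.{u}} (f : X ⟶ Y) (e : (⊤ : X.Opens) ≤ f ⁻¹ᵁ ⊤) :
    f.appLE ⊤ ⊤ e = f.appTop := by
  have h : homOfLE e = 𝟙 (⊤ : X.Opens) := Subsingleton.elim _ _
  rw [Scheme.Hom.appLE, h]
  erw [op_id, X.presheaf.map_id, Category.comp_id]

/-- **Density lemma.** Base change (over `Spec R₀`) of `Spec` of an `R₀`-linearly split injection
`φ : A ⟶ B` along an arbitrary `T ⟶ Spec R₀` is scheme-theoretically dominant. -/
theorem isSchemeTheoreticallyDominant_of_split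
    {R₀ A B : CommRingCat.{u}} (a : R₀ ⟶ A) (φ : A ⟶ B)
    (r : B →+ A) (hr1 : ∀ (s : R₀) (x : B), r ((a ≫ φ).hom s * x) = a.hom s * r x)
    (hr2 : ∀ x : A, r (φ.hom x) = x)
    {T P P' : Scheme.{u}} (f : T ⟶ Spec R₀)
    (gA : P' ⟶ Spec A) (iA : P' ⟶ T) (HA : IsPullback gA iA (Spec.map a) f)
    (gB : P ⟶ Spec B) (iB : P ⟶ T) (HB : IsPullback gB iB (Spec.map (a ≫ φ)) f)
    (q : P ⟶ P') (hq1 : q ≫ gA = gB ≫ Spec.map φ) (hq2 : q ≫ iA = iB) :
    IsSchemeTheoreticallyDominant q := by
  have hiA : IsAffineHom iA :=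
    MorphismProperty.of_isPullback (P := @IsAffineHom) HA inferInstance
  have hiB : IsAffineHom iB :=
    MorphismProperty.of_isPullback (P := @IsAffineHom) HB inferInstance
  have hq : IsAffineHom q := by
    have : IsAffineHom (q ≫ iA) := by rw [hq2]; exact hiB
    exact IsAffineHom.of_comp q iA
  constructor
  refine Scheme.IdealSheafData.ext_of_iSup_eq_top
    (fun W : T.affineOpens => ⟨iA ⁻¹ᵁ W.1, W.2.preimage iA⟩) ?_ ?_
  · change ⨆ W : T.affineOpens, iA ⁻¹ᵁ W.1 = ⊤
    rw [← Scheme.Hom.preimage_iSup, iSup_affineOpens_eq_top]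
    rfl
  · intro W
    rw [Scheme.Hom.ker_apply]
    change RingHom.ker (q.app (iA ⁻¹ᵁ W.1)).hom = ⊥
    rw [← RingHom.injective_iff_ker_eq_bot]
    -- the two pushout squares
    have hUA : iA ⁻¹ᵁ W.1 = gA ⁻¹ᵁ ⊤ ⊓ iA ⁻¹ᵁ W.1 := by simp
    have hUB : q ⁻¹ᵁ (iA ⁻¹ᵁ W.1) = gB ⁻¹ᵁ ⊤ ⊓ iB ⁻¹ᵁ W.1 := by
      rw [← Scheme.Hom.comp_preimage, hq2]; simp
    have hWT : W.1 ≤ f ⁻¹ᵁ ⊤ := le_top
    have hA0 : (⊤ : (Spec A).Opens) ≤ (Spec.map a) ⁻¹ᵁ ⊤ := by simp
    have hB0 : (⊤ : (Spec B).Opens) ≤ (Spec.map (a ≫ φ)) ⁻¹ᵁ ⊤ := by simp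
    have hφ0 : (⊤ : (Spec B).Opens) ≤ (Spec.map φ) ⁻¹ᵁ ⊤ := by simp
    have PA := (isIso_pushoutSection_iff HA hWT hA0 hUA).mp
      (isIso_pushoutSection_of_isAffineOpen HA hWT hA0 hUA (isAffineOpen_top _) W.2
        (isAffineOpen_top _))
    have PB := (isIso_pushoutSection_iff HB hWT hB0 hUB).mp
      (isIso_pushoutSection_of_isAffineOpen HB hWT hB0 hUB (isAffineOpen_top _) W.2
        (isAffineOpen_top _))
    -- the retraction on global sections
    let r' : Γ(Spec B, ⊤) →+ Γ(Spec A, ⊤) :=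
      ((Scheme.ΓSpecIso A).inv.hom : A →+* Γ(Spec A, ⊤)).toAddMonoidHom.comp
        (r.comp ((Scheme.ΓSpecIso B).hom.hom : Γ(Spec B, ⊤) →+* B).toAddMonoidHom)
    have nat : ∀ {R S : CommRingCat.{u}} (ψ : R ⟶ S) (x : Γ(Spec R, ⊤)),
        (Scheme.ΓSpecIso S).hom.hom ((Spec.map ψ).appTop.hom x) =
          ψ.hom ((Scheme.ΓSpecIso R).hom.hom x) := by
      intro R S ψ x
      exact congrArg (fun m => m.hom x) (Scheme.ΓSpecIso_naturality ψ)
    have invhom : ∀ {R : CommRingCat.{u}} (x : Γ(Spec R, ⊤)),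
        (Scheme.ΓSpecIso R).inv.hom ((Scheme.ΓSpecIso R).hom.hom x) = x := by
      intro R x
      exact congrArg (fun m => m.hom x) (Scheme.ΓSpecIso R).hom_inv_id
    refine injective_of_isPushout_of_split _ _ _ ((Spec.map φ).appLE ⊤ ⊤ hφ0) ?_ PA PB
      (q.app (iA ⁻¹ᵁ W.1)) ?_ ?_ r' ?_ ?_
    · exact (Scheme.Hom.appLE_comp_appLE _ _ _ _ _ _ _).trans
        (appLE_congr_hom (Spec.map_comp a φ).symm _ _ _ _)
    · rw [Scheme.Hom.app_eq_appLE]
      refine (Scheme.Hom.appLE_comp_appLE _ _ _ _ _ _ _).trans ?_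
      refine Eq.trans ?_ (Scheme.Hom.appLE_comp_appLE _ _ _ _ _ _ _).symm
      exact appLE_congr_hom hq1 _ _ _ _
    · rw [Scheme.Hom.app_eq_appLE]
      refine (Scheme.Hom.appLE_comp_appLE _ _ _ _ _ _ _).trans ?_
      exact appLE_congr_hom hq2 _ _ _ _
    · intro s x
      rw [appLE_top_top, appLE_top_top]
      simp only [r', AddMonoidHom.coe_comp, Function.comp_apply, RingHom.toAddMonoidHom_eq_coe,
        AddMonoidHom.coe_coe]
      rw [map_mul, nat, hr1, map_mul, ← nat a, invhom]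
    · intro x
      rw [appLE_top_top]
      simp only [r', AddMonoidHom.coe_comp, Function.comp_apply, RingHom.toAddMonoidHom_eq_coe,
        AddMonoidHom.coe_coe]
      rw [nat, hr2, invhom]

/-- Variant of `isSchemeTheoreticallyDominant_of_split` with the structure map `b` of `B` given
separately (`a ≫ φ = b` propositionally). -/
theorem isSchemeTheoreticallyDominant_of_split'
    {R₀ A B : CommRingCat.{u}} (a : R₀ ⟶ A) (b : R₀ ⟶ B) (φ : A ⟶ B) (hb : a ≫ φ = b)
    (r : B →+ A) (hr1 : ∀ (s : R₀) (x : B), r (b.hom s * x) = a.hom s * r x)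
    (hr2 : ∀ x : A, r (φ.hom x) = x)
    {T P P' : Scheme.{u}} (f : T ⟶ Spec R₀)
    (gA : P' ⟶ Spec A) (iA : P' ⟶ T) (HA : IsPullback gA iA (Spec.map a) f)
    (gB : P ⟶ Spec B) (iB : P ⟶ T) (HB : IsPullback gB iB (Spec.map b) f)
    (q : P ⟶ P') (hq1 : q ≫ gA = gB ≫ Spec.map φ) (hq2 : q ≫ iA = iB) :
    IsSchemeTheoreticallyDominant q := by
  subst hb
  exact isSchemeTheoreticallyDominant_of_split a φ r hr1 hr2 f gA iA HA gB iB HB q hq1 hq2

/-- Monoid algebras: `R[N] → R[M]` induced by an injective monoid hom, base-changed over `Spec R`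
along an arbitrary `T ⟶ Spec R`, is scheme-theoretically dominant. -/
theorem isSchemeTheoreticallyDominant_monoidAlgebra (R : Type u) [CommRing R] {N M : Type}
    [CommMonoid N] [CommMonoid M] (f : N →* M) (hf : Function.Injective f)
    {T P P' : Scheme.{u}} (t : T ⟶ Spec (CommRingCat.of R))
    (gA : P' ⟶ Spec (CommRingCat.of (MonoidAlgebra R N))) (iA : P' ⟶ T)
    (HA : IsPullback gA iA
      (Spec.map (CommRingCat.ofHom (algebraMap R (MonoidAlgebra R N)))) t)
    (gB : P ⟶ Spec (CommRingCat.of (MonoidAlgebra R M))) (iB : P ⟶ T)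
    (HB : IsPullback gB iB
      (Spec.map (CommRingCat.ofHom (algebraMap R (MonoidAlgebra R M)))) t)
    (q : P ⟶ P')
    (hq1 : q ≫ gA = gB ≫ Spec.map (CommRingCat.ofHom
      (MonoidAlgebra.mapDomainBialgHom R f).toAlgHom.toRingHom))
    (hq2 : q ≫ iA = iB) :
    IsSchemeTheoreticallyDominant q := by
  refine isSchemeTheoreticallyDominant_of_split'
    (CommRingCat.ofHom (algebraMap R (MonoidAlgebra R N)))
    (CommRingCat.ofHom (algebraMap R (MonoidAlgebra R M)))
    (CommRingCat.ofHom (MonoidAlgebra.mapDomainBialgHom R f).toAlgHom.toRingHom) ?_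
    (MonoidAlgebra.comapDomainAddMonoidHom f hf) ?_ ?_ t gA iA HA gB iB HB q hq1 hq2
  · refine CommRingCat.hom_ext (RingHom.ext fun x => ?_)
    exact (MonoidAlgebra.mapDomainBialgHom R f).toAlgHom.commutes x
  · intro s x
    change MonoidAlgebra.comapDomain f hf (algebraMap R (MonoidAlgebra R M) s * x) =
      algebraMap R (MonoidAlgebra R N) s * MonoidAlgebra.comapDomain f hf x
    rw [← Algebra.smul_def, ← Algebra.smul_def]
    ext n
    simp [MonoidAlgebra.coeff_comapDomain, Finsupp.comapDomain_apply]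
  · intro x
    change MonoidAlgebra.comapDomain f hf (MonoidAlgebra.mapDomain f x) = x
    ext n
    simp [MonoidAlgebra.coeff_comapDomain, MonoidAlgebra.mapDomain, Finsupp.comapDomain_apply,
      Finsupp.mapDomain_apply hf]

end Groth.Agent.Lib.StDominant27
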