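import Mathlib
import Groth.Agent.Lib.StDominant27
import Groth.Prelude.Def_Magnet2

/-!
# Scheme-theoretic density of `A(M)_T ⟶ A(N)_T` (helper27)

For an injective monoid hom `f : N →+ M`, the morphism `(AMonS.map S f ▷ T).left`
(`A(M)_S ×_S T ⟶ A(N)_S ×_S T`) is scheme-theoretically dominant, for every `T : Over S`.
Consequently two morphisms out of `A(N)_S ⊗ T` to a separated `X` that agree on `A(M)_S ⊗ T` are
equal (`hom_ext_of_whiskerRight_map`).
-/

set_option autoImplicit false
universe u

open CategoryTheory CategoryTheory.Limits AlgebraicGeometry MonoidalCategory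
  CartesianMonoidalCategory Magnet

namespace Groth.Agent.Lib.MagnetDense27

variable (S : Scheme.{u}) {N M : Type} [AddCommMonoid N] [AddCommMonoid M]

theorem pullback_map_left_fst {T T' : Scheme.{u}} (q : T' ⟶ T) {A B : Over T} (k : A ⟶ B) :
    ((Over.pullback q).map k).left ≫ pullback.fst B.hom q = pullback.fst A.hom q ≫ k.left := by
  dsimp only [Over.pullback]; exact pullback.lift_fst _ _ _

/-- the pullback square exhibiting `(A(M)_S ⊗ T).left` as `Spec ℤ[M] ×_{Spec ℤ} T`. -/
theorem isPullback_AMonS_tensor (M : Type) [AddCommMonoid M] (T : Over S) :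
    IsPullback
      (pullback.fst (AMonS S M).hom T.hom ≫
        pullback.fst (AMon (ULift.{u} ℤ) M).hom (IsTerminal.from specULiftZIsTerminal S))
      (pullback.snd (AMonS S M).hom T.hom)
      (AMon (ULift.{u} ℤ) M).hom
      (T.hom ≫ IsTerminal.from specULiftZIsTerminal S) :=
  IsPullback.paste_horiz (IsPullback.of_hasPullback (AMonS S M).hom T.hom)
    (IsPullback.of_hasPullback (AMon (ULift.{u} ℤ) M).hom (IsTerminal.from specULiftZIsTerminal S))

theorem whiskerRight_map_left_fst_fst (f : N →+ M) (T : Over S) :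
    (AMonS.map S f ▷ T).left ≫ pullback.fst (AMonS S N).hom T.hom ≫
        pullback.fst (AMon (ULift.{u} ℤ) N).hom (IsTerminal.from specULiftZIsTerminal S) =
      (pullback.fst (AMonS S M).hom T.hom ≫
        pullback.fst (AMon (ULift.{u} ℤ) M).hom (IsTerminal.from specULiftZIsTerminal S)) ≫
        (AMon.map (ULift.{u} ℤ) f).left := by
  rw [← Category.assoc, Over.whiskerRight_left_fst, Category.assoc, Category.assoc]
  congr 1
  exact pullback_map_left_fst _ _

theorem isSchemeTheoreticallyDominant_whiskerRight_map (f : N →+ M) (hf : Function.Injective f)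
    (T : Over S) : IsSchemeTheoreticallyDominant (AMonS.map S f ▷ T).left := by
  refine Groth.Agent.Lib.StDominant27.isSchemeTheoreticallyDominant_monoidAlgebra (ULift.{u} ℤ)
    (AddMonoidHom.toMultiplicative f) hf (T.hom ≫ IsTerminal.from specULiftZIsTerminal S)
    _ _ (isPullback_AMonS_tensor S N T) _ _ (isPullback_AMonS_tensor S M T) _ ?_ ?_
  · exact whiskerRight_map_left_fst_fst S f T
  · exact Over.whiskerRight_left_snd _

/-- Two morphisms `A(N)_S ⊗ T ⟶ X` into a separated `X` agreeing after restriction along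
`A(M)_S ⊗ T ⟶ A(N)_S ⊗ T` (for `N →+ M` injective) are equal. -/
theorem hom_ext_of_whiskerRight_map (f : N →+ M) (hf : Function.Injective f)
    {T X : Over S} [IsSeparated X.hom] {φ₁ φ₂ : AMonS S N ⊗ T ⟶ X}
    (h : (AMonS.map S f ▷ T) ≫ φ₁ = (AMonS.map S f ▷ T) ≫ φ₂) : φ₁ = φ₂ := by
  have := isSchemeTheoreticallyDominant_whiskerRight_map S f hf T
  exact Groth.Agent.Lib.StDominant27.over_ext_of_isSchemeTheoreticallyDominant
    (AMonS.map S f ▷ T) h

end Groth.Agent.Lib.MagnetDense27
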