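import Mathlib
import Groth.Agent.Lib.DirLim27b
import Groth.Agent.Lib.MagnetDense27
import Groth.Agent.Lib.DiagDescent27b

set_option autoImplicit false
universe u
open CategoryTheory CategoryTheory.Limits AlgebraicGeometry Magnet MonoidalCategory
  CartesianMonoidalCategory

namespace Groth.Agent.Lib.DirLim27

section Factor

variable (S : Scheme.{u}) {M : Type} [AddCommMonoid M]
  {I : Type u} [Preorder I] [IsDirected I (· ≤ ·)] [Nonempty I]
  (N : I → AddSubmonoid M) (hN : Monotone N)

/-- the comparison iso `(A(N)_S ⊗ T).left ≅ Spec ℤ[N] ×_{Spec ℤ} T` -/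
noncomputable def tensorIso (N₁ : AddSubmonoid M) (T : Over S) :
    (AMonS S N₁ ⊗ T).left ≅
      pullback (AMon (ULift.{u} ℤ) N₁).hom (T.hom ≫ IsTerminal.from specULiftZIsTerminal S) :=
  (Groth.Agent.Lib.MagnetDense27.isPullback_AMonS_tensor S N₁ T).isoPullback

theorem tensorIso_naturality {N₁ N₂ : AddSubmonoid M} (h : N₁ ≤ N₂) (T : Over S) :
    (AMonS.map S (AddSubmonoid.inclusion h) ▷ T).left ≫ (tensorIso S N₁ T).hom =
      (tensorIso S N₂ T).hom ≫
        ((Over.pullback (T.hom ≫ IsTerminal.from specULiftZIsTerminal S)).map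
          (AMon.map (ULift.{u} ℤ) (AddSubmonoid.inclusion h))).left := by
  apply pullback.hom_ext
  · rw [Category.assoc, Category.assoc, tensorIso, tensorIso, IsPullback.isoPullback_hom_fst,
      Groth.Agent.Lib.MagnetDense27.pullback_map_left_fst, IsPullback.isoPullback_hom_fst_assoc]
    exact Groth.Agent.Lib.MagnetDense27.whiskerRight_map_left_fst_fst S _ T
  · have h2 : ((Over.pullback (T.hom ≫ IsTerminal.from specULiftZIsTerminal S)).map
        (AMon.map (ULift.{u} ℤ) (AddSubmonoid.inclusion h))).left ≫ pullback.snd _ _ =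
        pullback.snd _ _ := by
      dsimp only [Over.pullback]; exact pullback.lift_snd _ _ _
    rw [Category.assoc, Category.assoc, h2, tensorIso, tensorIso, IsPullback.isoPullback_hom_snd,
      IsPullback.isoPullback_hom_snd]
    exact Over.whiskerRight_left_snd _

include hN in
attribute [local instance] IsCofiltered.isConnected in
theorem exists_factor (T X : Over S) [IsAffine T.left] [LocallyOfFinitePresentation X.hom]
    (φ : AMonS S (⨆ i, N i : AddSubmonoid M) ⊗ T ⟶ X) :
    ∃ (i : I) (ψ : AMonS S (N i) ⊗ T ⟶ X),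
      (AMonS.map S (AddSubmonoid.inclusion (le_iSup N i)) ▷ T) ≫ ψ = φ := by
  let τ := T.hom ≫ IsTerminal.from specULiftZIsTerminal S
  let Φ := Over.pullback τ ⋙ Over.forget T.left
  let D := amonDiagram (ULift.{u} ℤ) N hN ⋙ Φ
  let c : Cone D := Φ.mapCone (amonCone (ULift.{u} ℤ) N hN)
  have hc : IsLimit c := isLimitOfPreserves Φ (isLimitAmonCone (ULift.{u} ℤ) N hN)
  let t : D ⟶ (Functor.const Iᵒᵖ).obj S :=
    { app := fun i => pullback.snd (AMon (ULift.{u} ℤ) (N i.unop)).hom τ ≫ T.hom
      naturality := fun i j h => by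
        change ((Over.pullback τ).map (AMon.map (ULift.{u} ℤ)
          (AddSubmonoid.inclusion (hN h.unop.le)))).left ≫ pullback.snd _ τ ≫ T.hom =
          (pullback.snd _ τ ≫ T.hom) ≫ 𝟙 S
        rw [Category.comp_id, ← Category.assoc]
        congr 1
        dsimp only [Over.pullback]
        exact pullback.lift_snd _ _ _ }
  have hDobj : ∀ i, IsAffine (D.obj i) := by
    intro i
    change IsAffine (pullback (AMon (ULift.{u} ℤ) (N i.unop)).hom τ)
    have h1 : IsAffine (AMon (ULift.{u} ℤ) (N i.unop)).left := inferInstanceAs (IsAffine (Spec _))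
    have h2 : IsAffineHom (AMon (ULift.{u} ℤ) (N i.unop)).hom := isAffineHom_of_isAffine _
    exact isAffine_of_isAffineHom (pullback.snd (AMon (ULift.{u} ℤ) (N i.unop)).hom τ)
  have hDmap : ∀ {i j : Iᵒᵖ} (f : i ⟶ j), IsAffineHom (D.map f) := by
    intro i j f
    exact isAffineHom_of_isAffine _
  have hT : (tensorIso S (⨆ i, N i : AddSubmonoid M) T).inv ≫ (AMonS S (⨆ i, N i : AddSubmonoid M) ⊗ T).hom =
      pullback.snd _ τ ≫ T.hom := by
    rw [Over.tensorObj_hom, pullback.condition, tensorIso, IsPullback.isoPullback_inv_snd_assoc]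
  obtain ⟨i, g, hg, hg'⟩ := Scheme.exists_π_app_comp_eq_of_locallyOfFinitePresentation D t X.hom c hc
    ((tensorIso S (⨆ i, N i : AddSubmonoid M) T).inv ≫ φ.left) (by
      ext i
      change ((Over.pullback τ).map (AMon.map (ULift.{u} ℤ)
          (AddSubmonoid.inclusion (le_iSup N i.unop)))).left ≫ pullback.snd _ τ ≫ T.hom =
        ((tensorIso S (⨆ i, N i : AddSubmonoid M) T).inv ≫ φ.left) ≫ X.hom
      rw [Category.assoc, Over.w φ, hT, ← Category.assoc]
      congr 1
      dsimp only [Over.pullback]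
      exact pullback.lift_snd _ _ _)
  obtain ⟨g', hg1, hg2⟩ : ∃ g' : pullback (AMon (ULift.{u} ℤ) (N i.unop)).hom τ ⟶ X.left,
      ((Over.pullback τ).map (AMon.map (ULift.{u} ℤ)
        (AddSubmonoid.inclusion (le_iSup N i.unop)))).left ≫ g' =
        (tensorIso S (⨆ i, N i : AddSubmonoid M) T).inv ≫ φ.left ∧
      g' ≫ X.hom = pullback.snd (AMon (ULift.{u} ℤ) (N i.unop)).hom τ ≫ T.hom :=
    ⟨g, hg, hg'⟩
  have hw : ((tensorIso S (N i.unop) T).hom ≫ g') ≫ X.hom = (AMonS S (N i.unop) ⊗ T).hom := by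
    rw [Category.assoc, hg2, Over.tensorObj_hom, pullback.condition, tensorIso,
      IsPullback.isoPullback_hom_snd_assoc]
  refine ⟨i.unop, Over.homMk ((tensorIso S (N i.unop) T).hom ≫ g') hw, ?_⟩
  ext1
  change (AMonS.map S (AddSubmonoid.inclusion (le_iSup N i.unop)) ▷ T).left ≫
    (tensorIso S (N i.unop) T).hom ≫ g' = φ.left
  rw [← Category.assoc, tensorIso_naturality, Category.assoc, hg1, Iso.hom_inv_id_assoc]


include hN in
theorem exists_factor' (Ninf : AddSubmonoid M) (hsup : Ninf = ⨆ i, N i)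
    (T X : Over S) [IsAffine T.left] [LocallyOfFinitePresentation X.hom]
    (φ : AMonS S Ninf ⊗ T ⟶ X) :
    ∃ (i : I) (h : N i ≤ Ninf) (ψ : AMonS S (N i) ⊗ T ⟶ X),
      (AMonS.map S (AddSubmonoid.inclusion h) ▷ T) ≫ ψ = φ := by
  subst hsup
  obtain ⟨i, ψ, h⟩ := exists_factor S N hN T X φ
  exact ⟨i, le_iSup N i, ψ, h⟩

end Factor

section Equivariant

open MonObj Groth.Agent.Lib.DiagDescent27

variable (S : Scheme.{u}) {M : Type} [AddCommMonoid M]

theorem flat_AMonS_hom : Flat (AMonS S M).hom := by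
  have h1 : Flat (AMon (ULift.{u} ℤ) M).hom := by
    change Flat (Spec.map (CommRingCat.ofHom (algebraMap (ULift.{u} ℤ)
      (MonoidAlgebra (ULift.{u} ℤ) (Multiplicative M)))))
    rw [Flat.SpecMap_iff]
    change (algebraMap (ULift.{u} ℤ) (MonoidAlgebra (ULift.{u} ℤ) (Multiplicative M))).Flat
    rw [RingHom.flat_algebraMap_iff]
    infer_instance
  change Flat (pullback.snd (AMon (ULift.{u} ℤ) M).hom (IsTerminal.from specULiftZIsTerminal S))
  infer_instance

theorem isEquivariant_of_comp {N₁ N₂ : AddSubmonoid M} (h : N₁ ≤ N₂) (T X : Over S)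
    [IsSeparated X.hom] (a : MonAct (AMonS S M) X) (ψ : AMonS S N₁ ⊗ T ⟶ X)
    (hφ : MonAct.IsEquivariant ((subAct S M N₂).prod (MonAct.trivial (AMonS S M) T)) a
      ((AMonS.map S (AddSubmonoid.inclusion h) ▷ T) ≫ ψ)) :
    MonAct.IsEquivariant ((subAct S M N₁).prod (MonAct.trivial (AMonS S M) T)) a ψ := by
  have hdom : IsSchemeTheoreticallyDominant (AMonS.map S (AddSubmonoid.inclusion h) ▷ T).left :=
    Groth.Agent.Lib.MagnetDense27.isSchemeTheoreticallyDominant_whiskerRight_map S
      (AddSubmonoid.inclusion h) (AddSubmonoid.inclusion_injective h) T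
  have hqc : QuasiCompact (AMonS.map S (AddSubmonoid.inclusion h) ▷ T).left := by
    have h1 : IsAffine (AMon (ULift.{u} ℤ) N₁).left := inferInstanceAs (IsAffine (Spec _))
    have h2 : IsAffine (AMon (ULift.{u} ℤ) N₂).left := inferInstanceAs (IsAffine (Spec _))
    have h3 : IsAffineHom (AMon.map (ULift.{u} ℤ) (AddSubmonoid.inclusion h)).left :=
      isAffineHom_of_isAffine _
    have h4 : QuasiCompact (AMon.map (ULift.{u} ℤ) (AddSubmonoid.inclusion h)).left := inferInstance
    have h5 : QuasiCompact (AMonS.map S (AddSubmonoid.inclusion h)).left :=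
      MorphismProperty.of_isPullback (isPullback_pullback_map_left _ _).flip h4
    exact MorphismProperty.of_isPullback (isPullback_whiskerRight_left S _ T).flip h5
  have hflat : Flat (pullback.snd (AMonS S M).hom (AMonS S N₁ ⊗ T).hom) := by
    have := flat_AMonS_hom S (M := M)
    infer_instance
  have hdom2 : IsSchemeTheoreticallyDominant
      (AMonS S M ◁ (AMonS.map S (AddSubmonoid.inclusion h) ▷ T)).left :=
    IsSchemeTheoreticallyDominant.of_isPullback
      (isPullback_whiskerLeft_left S (AMonS S M) (AMonS.map S (AddSubmonoid.inclusion h) ▷ T)).flip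
  have hres : AMonS.map S N₂.subtype ≫ AMonS.map S (AddSubmonoid.inclusion h) =
      AMonS.map S N₁.subtype := by
    rw [← AMonS.map_comp]; rfl
  have hδ : (AMonS S M ◁ (AMonS.map S (AddSubmonoid.inclusion h) ▷ T)) ≫
      ((subAct S M N₁).prod (MonAct.trivial (AMonS S M) T)).act =
      ((subAct S M N₂).prod (MonAct.trivial (AMonS S M) T)).act ≫
        (AMonS.map S (AddSubmonoid.inclusion h) ▷ T) := by
    apply Magnet.hom_ext_lift₂
    intro T' g w
    have hw : w = lift (w ≫ fst _ _) (w ≫ snd _ _) := (lift_comp_fst_snd w).symm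
    generalize w ≫ fst _ _ = n at hw
    generalize w ≫ snd _ _ = t at hw
    subst hw
    rw [lift_whiskerLeft_assoc, lift_whiskerRight, MonAct.lift_prod_act, MonAct.lift_trivial_act,
      MonAct.lift_prod_act_assoc, MonAct.lift_trivial_act, lift_whiskerRight]
    congr 1
    unfold subAct
    rw [MonAct.lift_restrict_act, MonAct.lift_regular_act, MonAct.lift_restrict_act,
      MonAct.lift_regular_act, MonObj.mul_comp, Category.assoc, hres]
  unfold MonAct.IsEquivariant at hφ ⊢
  apply Groth.Agent.Lib.StDominant27.over_ext_of_isSchemeTheoreticallyDominant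
    (AMonS S M ◁ (AMonS.map S (AddSubmonoid.inclusion h) ▷ T))
  rw [← Category.assoc, hδ, Category.assoc, hφ, MonoidalCategory.whiskerLeft_comp, Category.assoc]

end Equivariant

end Groth.Agent.Lib.DirLim27
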