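import Mathlib.Algebra.Colimit.Module
import Mathlib.Algebra.Module.FinitePresentation
import Mathlib.LinearAlgebra.Finsupp.Supported
import Mathlib.LinearAlgebra.Finsupp.LinearCombination

/-!
# Every module is a direct limit of finitely presented modules (helper35)

Index set: pairs `(S, T)` of a finite subset `S ⊆ M` and a finite subset `T` of the kernel of
`R^(M) → M`; the module attached to `(S, T)` is `R^(S ∪ supp T) / ⟨T⟩`.
-/

set_option autoImplicit false

universe u

namespace Groth.Agent.Lib.DirLimFP35

open Module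

section general

variable {R : Type*} [CommRing R] {ι : Type*} [Preorder ι] [DecidableEq ι] [Nonempty ι]
  [IsDirectedOrder ι] {G : ι → Type*} [∀ i, AddCommGroup (G i)] [∀ i, Module R (G i)]
  (f : ∀ i j, i ≤ j → G i →ₗ[R] G j) {M : Type*} [AddCommGroup M] [Module R M]
  (g : ∀ i, G i →ₗ[R] M) (Hg : ∀ i j hij x, g j (f i j hij x) = g i x)

/-- A criterion for `DirectLimit G f ≃ M`. -/
theorem lift_bijective (hsurj : ∀ m : M, ∃ i x, g i x = m)
    (hinj : ∀ i x, g i x = 0 → ∃ j, ∃ hij : i ≤ j, f i j hij x = 0) :
    Function.Bijective (Module.DirectLimit.lift R ι G f g Hg) := by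
  constructor
  · rw [← LinearMap.ker_eq_bot, eq_bot_iff]
    intro z hz
    obtain ⟨i, x, rfl⟩ := Module.DirectLimit.exists_of z
    rw [LinearMap.mem_ker, Module.DirectLimit.lift_of] at hz
    obtain ⟨j, hij, hx⟩ := hinj i x hz
    rw [Submodule.mem_bot, ← Module.DirectLimit.of_f (hij := hij), hx, map_zero]
  · intro m
    obtain ⟨i, x, rfl⟩ := hsurj m
    exact ⟨Module.DirectLimit.of R ι G f i x, Module.DirectLimit.lift_of _ _ _⟩

end general

section construction

open Classical

set_option maxSynthPendingDepth 3

variable (R : Type u) [CommRing R] (M : Type u) [AddCommGroup M] [Module R M]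

/-- The canonical presentation `R^(M) → M`. -/
noncomputable def pres : (M →₀ R) →ₗ[R] M := Finsupp.linearCombination R id

/-- The index set. -/
abbrev Idx := Finset M × Finset (LinearMap.ker (pres R M))

variable {R M}

/-- The finite set of variables used at stage `i`. -/
noncomputable def vars (i : Idx R M) : Finset M := i.1 ∪ i.2.biUnion (fun t => t.1.support)

lemma vars_mono {i j : Idx R M} (h : i ≤ j) : vars i ⊆ vars j := by
  intro m hm
  rw [vars, Finset.mem_union, Finset.mem_biUnion] at hm ⊢
  rcases hm with hm | ⟨t, ht, hm⟩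
  · exact Or.inl (h.1 hm)
  · exact Or.inr ⟨t, h.2 ht, hm⟩

/-- The free module at stage `i`. -/
noncomputable abbrev FS (i : Idx R M) : Submodule R (M →₀ R) :=
  Finsupp.supported R R (vars i : Set M)

lemma mem_FS {i : Idx R M} (t : LinearMap.ker (pres R M)) (ht : t ∈ i.2) : t.1 ∈ FS i := by
  rw [Finsupp.mem_supported]
  intro m hm
  rw [Finset.mem_coe, vars, Finset.mem_union, Finset.mem_biUnion]
  exact Or.inr ⟨t, ht, hm⟩

/-- The relations at stage `i`, as elements of `FS i`. -/
noncomputable def rel (i : Idx R M) (t : i.2) : FS i := ⟨t.1.1, mem_FS t.1 t.2⟩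

/-- The relation submodule at stage `i`. -/
noncomputable def NT (i : Idx R M) : Submodule R (FS i) := Submodule.span R (Set.range (rel i))

/-- The finitely presented module at stage `i`. -/
abbrev G (i : Idx R M) : Type u := FS i ⧸ NT i

lemma inclusion_mem {i j : Idx R M} (h : i ≤ j) :
    NT i ≤ (NT j).comap (Submodule.inclusion (Finsupp.supported_mono (Finset.coe_subset.mpr (vars_mono h)))) := by
  rw [NT, Submodule.span_le]
  rintro _ ⟨t, rfl⟩
  exact Submodule.subset_span ⟨⟨t.1, h.2 t.2⟩, rfl⟩

/-- The transition maps. -/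
noncomputable def tr (i j : Idx R M) (h : i ≤ j) : G i →ₗ[R] G j :=
  Submodule.mapQ (NT i) (NT j)
    (Submodule.inclusion (Finsupp.supported_mono (Finset.coe_subset.mpr (vars_mono h))))
    (inclusion_mem h)

instance : DirectedSystem (G (R := R) (M := M)) (fun i j h => tr i j h) where
  map_self i x := by
    induction x using Submodule.Quotient.induction_on with
    | _ x => rfl
  map_map i j k hij hjk x := by
    induction x using Submodule.Quotient.induction_on with
    | _ x => rfl

instance (i : Idx R M) : Module.FinitePresentation R (G i) := by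
  have e : FS i ≃ₗ[R] ((vars i : Set M) →₀ R) := Finsupp.supportedEquivFinsupp _
  have : Module.Free R (FS i) := Module.Free.of_equiv e.symm
  have : Module.Finite R (FS i) := Module.Finite.equiv e.symm
  refine Module.finitePresentation_of_free_of_surjective (NT i).mkQ (Submodule.mkQ_surjective _) ?_
  rw [Submodule.ker_mkQ]
  exact Submodule.fg_span (Set.finite_range _)

/-- The map to `M` at stage `i`. -/
noncomputable def toM (i : Idx R M) : G i →ₗ[R] M :=
  Submodule.liftQ (NT i) ((pres R M).comp (FS i).subtype) (by
    rw [NT, Submodule.span_le]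
    rintro _ ⟨t, rfl⟩
    exact t.1.2)

lemma toM_tr (i j : Idx R M) (h : i ≤ j) (x : G i) : toM j (tr i j h x) = toM i x := by
  induction x using Submodule.Quotient.induction_on with
  | _ x => rfl

lemma toM_surj (m : M) : ∃ (i : Idx R M) (x : G i), toM i x = m := by
  refine ⟨(({m} : Finset M), ∅), Submodule.Quotient.mk ⟨Finsupp.single m 1, ?_⟩, ?_⟩
  · rw [Finsupp.mem_supported]
    intro a ha
    have := Finsupp.support_single_subset ha
    rw [Finset.mem_singleton] at this
    rw [this, Finset.mem_coe, vars, Finset.mem_union]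
    exact Or.inl (Finset.mem_singleton_self m)
  · change pres R M (Finsupp.single m 1) = m
    simp [pres]

lemma toM_inj (i : Idx R M) (x : G i) (hx : toM i x = 0) :
    ∃ j, ∃ hij : i ≤ j, tr i j hij x = 0 := by
  induction x using Submodule.Quotient.induction_on with
  | _ p =>
    have hp : p.1 ∈ LinearMap.ker (pres R M) := hx
    let j : Idx R M := (i.1, insert ⟨p.1, hp⟩ i.2)
    have hij : i ≤ j := ⟨le_refl _, Finset.subset_insert _ _⟩
    refine ⟨j, hij, ?_⟩
    change Submodule.Quotient.mk (Submodule.inclusion _ p) = 0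
    rw [Submodule.Quotient.mk_eq_zero]
    exact Submodule.subset_span ⟨⟨⟨p.1, hp⟩, Finset.mem_insert_self _ _⟩, rfl⟩

variable (R M)

/-- **Every module is a direct limit of finitely presented modules.** -/
noncomputable def equiv :
    Module.DirectLimit (G (R := R) (M := M)) (fun i j h => tr i j h) ≃ₗ[R] M :=
  LinearEquiv.ofBijective (Module.DirectLimit.lift R (Idx R M) G (fun i j h => tr i j h) toM toM_tr)
    (lift_bijective _ _ _ toM_surj toM_inj)

/-- The statement in existential form. -/
theorem main : ∃ (ι : Type u) (_ : Preorder ι) (_ : IsDirected ι (· ≤ ·)) (_ : Nonempty ι)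
    (_ : DecidableEq ι) (G : ι → Type u) (_ : ∀ i, AddCommGroup (G i)) (_ : ∀ i, Module R (G i))
    (f : ∀ i j, i ≤ j → G i →ₗ[R] G j) (_ : DirectedSystem G fun i j h => f i j h),
    (∀ i, Module.FinitePresentation R (G i)) ∧ Nonempty (Module.DirectLimit G f ≃ₗ[R] M) :=
  ⟨Idx R M, inferInstance, inferInstance, inferInstance, inferInstance, G, inferInstance,
    inferInstance, fun i j h => tr i j h, inferInstance, fun i => inferInstance, ⟨equiv R M⟩⟩

end construction

end Groth.Agent.Lib.DirLimFP35
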