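import Mathlib.Algebra.Colimit.DirectLimit
import Mathlib.Order.DirectedInverseSystem
import Mathlib.RingTheory.Henselian
import Mathlib.Algebra.Polynomial.Lifts

/-!
# Direct limits of rings (the unbundled `DirectLimit` of `Mathlib.Order.DirectedInverseSystem`)
and henselian pairs

* `of_eq_of`, `exists_of`, `polynomial_exists_of`: elements/polynomials come from a finite stage.
* `imageIdeal`, `iSup_map_eq`, `exists_ge_mem`: the ideal generated by a compatible family of ideals
  is the union of the images.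
* `henselianRing_directLimit`: a directed colimit of henselian pairs is a henselian pair.
(helper50; port of helper93's S1998 to the new `DirectLimit`.)
-/

set_option autoImplicit false
universe u v

namespace Groth.Agent.Lib.DirLimHens50

open Polynomial

section

variable {ι : Type v} [Preorder ι] [IsDirectedOrder ι] [Nonempty ι]
    (G : ι → Type u) [∀ i, CommRing (G i)] (f : ∀ i j : ι, i ≤ j → (G i →+* G j))
    [DirectedSystem G (fun i j h => f i j h)]

local notation "A∞" => DirectLimit G f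
local notation "ofA" => DirectLimit.Ring.of G f

lemma of_f {i j : ι} (h : i ≤ j) (x : G i) : ofA j (f i j h x) = ofA i x := by
  simp [DirectLimit.Ring.of]

lemma exists_of (z : A∞) : ∃ i x, ofA i x = z := by
  obtain ⟨i, x, rfl⟩ := DirectLimit.exists_eq_mk f z
  exact ⟨i, x, rfl⟩

lemma of_eq_of {i j : ι} {x : G i} {y : G j} (h : ofA i x = ofA j y) :
    ∃ (k : ι) (hik : i ≤ k) (hjk : j ≤ k), f i k hik x = f j k hjk y := by
  have h' : (⟦⟨i, x⟩⟧ : A∞) = ⟦⟨j, y⟩⟧ := h
  exact Quotient.exact h'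

lemma polynomial_exists_of (q : Polynomial A∞) : ∃ i p, Polynomial.map (ofA i) p = q :=
  Polynomial.induction_on q
    (fun z ↦
      let ⟨i, x, h⟩ := exists_of G f z
      ⟨i, C x, by rw [map_C, h]⟩)
    (fun q₁ q₂ ⟨i₁, p₁, ih₁⟩ ⟨i₂, p₂, ih₂⟩ ↦
      let ⟨i, h1, h2⟩ := exists_ge_ge i₁ i₂
      ⟨i, p₁.map (f i₁ i h1) + p₂.map (f i₂ i h2), by
        rw [Polynomial.map_add, map_map, map_map, ← ih₁, ← ih₂]
        congr 2 <;> ext x <;> simp_rw [RingHom.comp_apply, of_f]⟩)
    fun n z _ ↦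
    let ⟨i, x, h⟩ := exists_of G f z
    ⟨i, C x * X ^ (n + 1), by rw [Polynomial.map_mul, map_C, h, Polynomial.map_pow, map_X]⟩

variable (I : ∀ i, Ideal (G i)) (hI : ∀ (i j : ι) (h : i ≤ j), (I i).map (f i j h) ≤ I j)

omit [IsDirectedOrder ι] [Nonempty ι] [DirectedSystem G (fun i j h => f i j h)] in
include hI in
lemma map_mem {i j : ι} (h : i ≤ j) {y : G i} (hy : y ∈ I i) : f i j h y ∈ I j :=
  hI i j h (Ideal.mem_map_of_mem _ hy)

/-- The ideal of the colimit consisting of images of elements of the `I i`. -/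
def imageIdeal : Ideal A∞ where
  carrier := {x | ∃ i, ∃ y ∈ I i, ofA i y = x}
  add_mem' := by
    rintro _ _ ⟨i, y, hy, rfl⟩ ⟨j, z, hz, rfl⟩
    obtain ⟨k, hik, hjk⟩ := exists_ge_ge i j
    refine ⟨k, f i k hik y + f j k hjk z,
      (I k).add_mem (map_mem G f I hI hik hy) (map_mem G f I hI hjk hz), ?_⟩
    rw [map_add, of_f, of_f]
  zero_mem' := ⟨Classical.arbitrary ι, 0, (I _).zero_mem, map_zero _⟩
  smul_mem' := by
    rintro c _ ⟨i, y, hy, rfl⟩
    obtain ⟨j, z, rfl⟩ := exists_of G f c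
    obtain ⟨k, hik, hjk⟩ := exists_ge_ge i j
    refine ⟨k, f j k hjk z * f i k hik y, (I k).mul_mem_left _ (map_mem G f I hI hik hy), ?_⟩
    rw [map_mul, of_f, of_f, smul_eq_mul]

lemma mem_imageIdeal {x : A∞} : x ∈ imageIdeal G f I hI ↔ ∃ i, ∃ y ∈ I i, ofA i y = x := Iff.rfl

lemma iSup_map_eq : (⨆ i, (I i).map (ofA i)) = imageIdeal G f I hI := by
  apply le_antisymm
  · refine iSup_le fun i => ?_
    rw [Ideal.map_le_iff_le_comap]
    intro y hy
    exact ⟨i, y, hy, rfl⟩
  · rintro _ ⟨i, y, hy, rfl⟩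
    exact (le_iSup (fun i => (I i).map (ofA i)) i) (Ideal.mem_map_of_mem _ hy)

include hI in
lemma exists_ge_mem {i : ι} {x : G i} (hx : ofA i x ∈ (⨆ i, (I i).map (ofA i))) :
    ∃ (l : ι) (hil : i ≤ l), f i l hil x ∈ I l := by
  rw [iSup_map_eq G f I hI] at hx
  obtain ⟨j, y, hy, hxy⟩ := hx
  obtain ⟨k, hjk, hik, hk⟩ := of_eq_of G f hxy
  exact ⟨k, hik, hk ▸ map_mem G f I hI hjk hy⟩

omit [IsDirectedOrder ι] [Nonempty ι] in
include hI in
lemma mem_of_ge {i k l : ι} (hik : i ≤ k) (hkl : k ≤ l) {x : G i} (hx : f i k hik x ∈ I k) :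
    f i l (hik.trans hkl) x ∈ I l := by
  rw [← DirectedSystem.map_map' (f := f) hik hkl]
  exact map_mem G f I hI hkl hx

include hI in
/-- A directed colimit of henselian pairs is a henselian pair. -/
theorem henselianRing_directLimit (hh : ∀ i, HenselianRing (G i) (I i)) :
    HenselianRing (DirectLimit G f) (⨆ i, (I i).map (DirectLimit.Ring.of G f i)) := by
  constructor
  · -- contained in the Jacobson radical
    intro x hx
    rw [iSup_map_eq G f I hI] at hx
    obtain ⟨i, y, hy, rfl⟩ := hx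
    rw [Ideal.mem_jacobson_bot]
    intro c
    obtain ⟨j, z, rfl⟩ := exists_of G f c
    obtain ⟨k, hik, hjk⟩ := exists_ge_ge i j
    have hmem : f i k hik y ∈ I k := map_mem G f I hI hik hy
    have hjac := (hh k).jac hmem
    rw [Ideal.mem_jacobson_bot] at hjac
    have hu := (hjac (f j k hjk z)).map (ofA k)
    rw [map_add, map_mul, map_one, of_f, of_f] at hu
    exact hu
  · intro F hF a₀ hFa hFu
    obtain ⟨c, hc⟩ := isUnit_iff_exists_inv.mp hFu
    obtain ⟨c, rfl⟩ := Ideal.Quotient.mk_surjective c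
    rw [← map_mul, ← map_one (Ideal.Quotient.mk _), Ideal.Quotient.eq] at hc
    -- everything at a common stage i
    obtain ⟨i, p, b, d, hpm, hpF, hba, hdc⟩ : ∃ (i : ι) (p : (G i)[X]) (b d : G i), p.Monic ∧
        p.map (ofA i) = F ∧ ofA i b = a₀ ∧ ofA i d = c := by
      obtain ⟨i₁, p₁, hp₁⟩ := polynomial_exists_of G f F
      obtain ⟨p₁', hp₁', -, hp₁m⟩ := Polynomial.lifts_and_natDegree_eq_and_monic
        (f := ofA i₁) (p := F) ((Polynomial.mem_lifts _).mpr ⟨p₁, hp₁⟩) hF
      obtain ⟨i₂, b₂, hb₂⟩ := exists_of G f a₀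
      obtain ⟨i₃, c₃, hc₃⟩ := exists_of G f c
      obtain ⟨i₁₂, h1, h2⟩ := exists_ge_ge i₁ i₂
      obtain ⟨i, h12, h3⟩ := exists_ge_ge i₁₂ i₃
      refine ⟨i, p₁'.map (f i₁ i (h1.trans h12)), f i₂ i (h2.trans h12) b₂, f i₃ i h3 c₃,
        hp₁m.map _, ?_, ?_, ?_⟩
      · rw [Polynomial.map_map, ← hp₁']
        congr 1
        ext x
        simp
      · rw [of_f, hb₂]
      · rw [of_f, hc₃]
    have e1 : ofA i (p.eval b) = F.eval a₀ := by
      rw [← hpF, ← hba, Polynomial.eval_map_apply]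
    have e2 : ofA i ((derivative p).eval b * d - 1) = (derivative F).eval a₀ * c - 1 := by
      rw [← hpF, ← hba, ← hdc, map_sub, map_mul, map_one, Polynomial.derivative_map,
        Polynomial.eval_map_apply]
    rw [← e1] at hFa
    rw [← e2] at hc
    obtain ⟨k₁, hik₁, hk₁⟩ := exists_ge_mem G f I hI hFa
    obtain ⟨k₂, hik₂, hk₂⟩ := exists_ge_mem G f I hI hc
    obtain ⟨l, hl₁, hl₂⟩ := exists_ge_ge k₁ k₂
    have hil : i ≤ l := hik₁.trans hl₁
    have m1 : f i l hil (p.eval b) ∈ I l := mem_of_ge G f I hI hik₁ hl₁ hk₁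
    have m2 : f i l hil ((derivative p).eval b * d - 1) ∈ I l := mem_of_ge G f I hI hik₂ hl₂ hk₂
    -- Henselian property at stage l
    have hroot := (hh l).is_henselian (p.map (f i l hil)) (hpm.map _) (f i l hil b)
      (by rw [Polynomial.eval_map_apply]; exact m1)
      (by
        rw [isUnit_iff_exists_inv]
        refine ⟨Ideal.Quotient.mk _ (f i l hil d), ?_⟩
        rw [← map_mul, ← map_one (Ideal.Quotient.mk _), Ideal.Quotient.eq,
          Polynomial.derivative_map, Polynomial.eval_map_apply]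
        rw [map_sub, map_mul, map_one] at m2
        exact m2)
    obtain ⟨a, ha, haI⟩ := hroot
    refine ⟨ofA l a, ?_, ?_⟩
    · have hFl : (p.map (f i l hil)).map (ofA l) = F := by
        rw [Polynomial.map_map, ← hpF]
        congr 1
        ext x
        simp
      rw [Polynomial.IsRoot.def] at ha ⊢
      rw [← hFl, Polynomial.eval_map_apply, ha, map_zero]
    · rw [← hba, ← of_f G f hil b, ← map_sub]
      exact (le_iSup (fun i => (I i).map (ofA i)) l) (Ideal.mem_map_of_mem _ haI)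

end

end Groth.Agent.Lib.DirLimHens50
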