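import Mathlib.RingTheory.KrullDimension.Basic
import Mathlib.RingTheory.Ideal.MinimalPrime.Noetherian
import Mathlib.RingTheory.Localization.AtPrime.Basic
import Mathlib.RingTheory.Localization.Ideal

/-!
# helper42: two algebra lemmas on local rings of dimension `≤ 1` (namespace `Groth.Agent.Lib.DiscExtAlg42`)

* `finite_primeSpectrum_of_dim_le_one`: a Noetherian local ring of dimension `≤ 1` has finitely many primes.
* `exists_mul_pow_eq_mul`: `B = A_p`, `t ∈ p` and `u ∈ A` lying in no prime strictly below `p`: then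
  `s t^n = a u` for some `s ∉ p` (`t` is in the radical of `u` near `p`).
-/

set_option autoImplicit false

namespace Groth.Agent.Lib.DiscExtAlg42

theorem finite_primeSpectrum_of_dim_le_one (B : Type*) [CommRing B] [IsNoetherianRing B] [IsLocalRing B]
    (h : ringKrullDim B ≤ 1) : Finite (PrimeSpectrum B) := by
  have h1 : Ring.KrullDimLE 1 B := Ring.krullDimLE_iff.mpr (by exact_mod_cast h)
  have h2 := Ring.krullDimLE_one_iff.mp h1
  have hfin : (minimalPrimes B ∪ {IsLocalRing.maximalIdeal B}).Finite :=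
    (minimalPrimes.finite_of_isNoetherianRing B).union (Set.finite_singleton _)
  have : Finite ↥(minimalPrimes B ∪ {IsLocalRing.maximalIdeal B}) := hfin.to_subtype
  refine Finite.of_injective
    (fun P : PrimeSpectrum B => (⟨P.asIdeal, ?_⟩ : ↥(minimalPrimes B ∪ {IsLocalRing.maximalIdeal B}))) ?_
  · rcases h2 P.asIdeal P.isPrime with h | h
    · exact Or.inl h
    · exact Or.inr (IsLocalRing.eq_maximalIdeal h)
  · intro P Q hPQ
    exact PrimeSpectrum.ext (congrArg Subtype.val hPQ)

theorem exists_mul_pow_eq_mul {A B : Type*} [CommRing A] [CommRing B] [Algebra A B] (p : Ideal A)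
    [p.IsPrime] [IsLocalization.AtPrime B p] (t u : A) (ht : t ∈ p)
    (hu : ∀ q : Ideal A, q.IsPrime → q < p → u ∉ q) :
    ∃ s : A, s ∉ p ∧ ∃ (n : ℕ) (a : A), s * t ^ n = a * u := by
  have hrad : algebraMap A B t ∈ (Ideal.span {algebraMap A B u}).radical := by
    rw [Ideal.radical_eq_sInf, Ideal.mem_sInf]
    rintro Q ⟨hQu, hQ⟩
    have hq : (Q.comap (algebraMap A B)).IsPrime := Ideal.comap_isPrime _ _
    have hqp : Q.comap (algebraMap A B) ≤ p := by
      intro a ha
      by_contra hap
      have hunit : IsUnit (algebraMap A B a) := IsLocalization.map_units B (⟨a, hap⟩ : p.primeCompl)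
      exact hQ.ne_top (Ideal.eq_top_of_isUnit_mem _ ha hunit)
    have huQ : u ∈ Q.comap (algebraMap A B) := hQu (Ideal.subset_span rfl)
    rcases hqp.lt_or_eq with hlt | heq
    · exact absurd huQ (hu _ hq hlt)
    · have : t ∈ Q.comap (algebraMap A B) := heq ▸ ht
      exact this
  obtain ⟨n, hn⟩ := hrad
  obtain ⟨c, hc⟩ := Ideal.mem_span_singleton'.mp hn
  obtain ⟨a, s₁, rfl⟩ := IsLocalization.exists_mk'_eq p.primeCompl c
  have h1 : algebraMap A B (a * u) = algebraMap A B (t ^ n * s₁) := by
    rw [map_mul, map_mul, map_pow, ← hc, mul_comm (IsLocalization.mk' B a s₁), mul_assoc,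
      IsLocalization.mk'_spec, mul_comm]
  obtain ⟨s₂, hs₂⟩ := (IsLocalization.eq_iff_exists p.primeCompl B).mp h1
  refine ⟨s₂ * s₁, fun h => ?_, n, s₂ * a, ?_⟩
  · rcases (inferInstance : p.IsPrime).mem_or_mem h with h | h
    · exact s₂.2 h
    · exact s₁.2 h
  · calc (s₂ : A) * s₁ * t ^ n = s₂ * (t ^ n * s₁) := by ring
      _ = s₂ * (a * u) := hs₂.symm
      _ = s₂ * a * u := by ring

end Groth.Agent.Lib.DiscExtAlg42
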