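import Groth.Agent.Lib.StarDescent42
import Groth.Agent.Lib.DimOneAff13b
import Groth.Agent.Lib.DiscExtAlg42
import Groth.Agent.Lib.SemilocalFree
import Mathlib.AlgebraicGeometry.Stalk

/-!
# helper42: invertible modules and opens with discrete complement (namespace `Groth.Agent.Lib.DiscExt42`)

`U ⊆ X` a retrocompact open with `X ∖ U` discrete and `O_{X,x}` Noetherian of dimension `≤ 1` for `x ∉ U`.

* `exists_local_equation`: near `x ∉ U`, `U` is a basic open `D(t)` of an affine neighbourhood.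
* `exists_invertible_genLocus_eq`: `U = X_s` for a section `s` of an invertible module.
* `exists_nhd_gen_of_open`: an invertible module on `U` is free on `U ∩ W` for a small neighbourhood `W` of `x ∉ U`.
* `exists_extension`: every invertible module on `U` extends to `X`.
-/

set_option autoImplicit false
universe u
open CategoryTheory CategoryTheory.Limits AlgebraicGeometry TopologicalSpace Opposite
open Groth.Agent.Lib.H90Invertible Groth.Agent.Lib.H78TensorGen Groth.Agent.Lib.H78SecCoord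
open Groth.Agent.Lib.H78Atlas Groth.Agent.Lib.InvGlue42 Groth.Agent.Lib.H78PullSec
open Groth.Agent.Lib.FinModifPic42 Groth.Agent.Lib.StarDescent42

namespace Groth.Agent.Lib.DiscExt42

variable {X : Scheme.{u}}

lemma mem_basicOpen_iff_notMem_primeIdealOf {W : X.Opens} (hW : IsAffineOpen W) (z : X) (hz : z ∈ W)
    (a : Γ(X, W)) : z ∈ X.basicOpen a ↔ a ∉ (hW.primeIdealOf ⟨z, hz⟩).asIdeal := by
  have h1 : hW.fromSpec (hW.primeIdealOf ⟨z, hz⟩) = z := hW.fromSpec_primeIdealOf ⟨z, hz⟩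
  have h2 : z ∈ X.basicOpen a ↔ hW.primeIdealOf ⟨z, hz⟩ ∈ hW.fromSpec ⁻¹ᵁ X.basicOpen a := by
    constructor
    · intro h
      change hW.fromSpec (hW.primeIdealOf ⟨z, hz⟩) ∈ X.basicOpen a
      rwa [h1]
    · intro h
      have h' : hW.fromSpec (hW.primeIdealOf ⟨z, hz⟩) ∈ X.basicOpen a := h
      rwa [h1] at h'
  rw [h2, hW.fromSpec_preimage_basicOpen]
  rfl

/-- the proper generizations of a point with Noetherian local ring of dimension `≤ 1` are finite in number -/
lemma finite_generizations (x : X) [IsNoetherianRing (X.presheaf.stalk x)]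
    (hdim : ringKrullDim (X.presheaf.stalk x) ≤ 1) : {y : X | y ⤳ x}.Finite := by
  rw [← Scheme.range_fromSpecStalk]
  have : Finite (PrimeSpectrum (X.presheaf.stalk x)) :=
    Groth.Agent.Lib.DiscExtAlg42.finite_primeSpectrum_of_dim_le_one _ hdim
  have : Finite ↥(Spec (X.presheaf.stalk x)) := this
  exact Set.finite_range _
/-- separating neighbourhoods for a closed discrete complement -/
lemma exists_sep_open (U : X.Opens) (hdisc : DiscreteTopology ↥((U : Set X)ᶜ)) (x : X) (hx : x ∉ U) :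
    ∃ O : X.Opens, x ∈ O ∧ ∀ z ∈ O, z ∉ U → z = x := by
  have hopen : IsOpen ({⟨x, hx⟩} : Set ((U : Set X)ᶜ : Set X)) := isOpen_discrete _
  obtain ⟨O, hOo, hOeq⟩ := isOpen_induced_iff.mp hopen
  refine ⟨⟨O, hOo⟩, ?_, fun z hz hzU => ?_⟩
  · have : (⟨x, hx⟩ : ((U : Set X)ᶜ : Set X)) ∈ Subtype.val ⁻¹' O := by rw [hOeq]; rfl
    exact this
  · have : (⟨z, hzU⟩ : ((U : Set X)ᶜ : Set X)) ∈ Subtype.val ⁻¹' O := hz
    rw [hOeq] at this
    exact congrArg Subtype.val this

/-- a local equation for the complement of `U` at a point with Noetherian local ring of dimension `≤ 1` -/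
lemma exists_local_equation (U : X.Opens) [QuasiCompact U.ι] (hdisc : DiscreteTopology ↥((U : Set X)ᶜ))
    (x : X) (hx : x ∉ U) [IsNoetherianRing (X.presheaf.stalk x)]
    (hdim : ringKrullDim (X.presheaf.stalk x) ≤ 1) :
    ∃ W : X.Opens, x ∈ W ∧ (∀ z ∈ W, z ∉ U → z = x) ∧ IsAffineOpen W ∧ ∃ t : Γ(X, W), U ⊓ W = X.basicOpen t := by
  obtain ⟨O, hxO, hO⟩ := exists_sep_open U hdisc x hx
  obtain ⟨W₀, hW₀, hxW₀, hW₀O⟩ := Opens.isBasis_iff_nbhd.1 X.isBasis_affineOpens hxO
  obtain ⟨g, t₀, hxg, hgt⟩ := Groth.Agent.Lib.DimOneAff13.exists_basicOpen_inf_eq hW₀ x hxW₀ hdim U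
    (Groth.Agent.Lib.DimOneAff13.isCompact_inf_of_quasiCompact U hW₀)
  refine ⟨X.basicOpen g, hxg, fun z hz hzU => hO z (hW₀O (X.basicOpen_le g hz)) hzU, hW₀.basicOpen g,
    X.presheaf.map (homOfLE (X.basicOpen_le g)).op t₀, ?_⟩
  rw [Scheme.basicOpen_res, hgt, Scheme.basicOpen_mul]


/-- **Local triviality**: an invertible module on `U` is free on `U ∩ W` for a small neighbourhood `W` of a
point `x ∉ U` with Noetherian local ring of dimension `≤ 1`. -/
theorem exists_nhd_gen_of_open (U : X.Opens) [QuasiCompact U.ι] (hdisc : DiscreteTopology ↥((U : Set X)ᶜ))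
    (x : X) (hx : x ∉ U) [IsNoetherianRing (X.presheaf.stalk x)]
    (hdim : ringKrullDim (X.presheaf.stalk x) ≤ 1)
    (N : (↑U : Scheme.{u}).Modules) (hN : PicF.IsInvertible N) :
    ∃ W : X.Opens, x ∈ W ∧ (∀ z ∈ W, z ∉ U → z = x) ∧
      ∃ e : Γ(N, U.ι ⁻¹ᵁ W), IsGen N (U.ι ⁻¹ᵁ W) e := by
  obtain ⟨W, hxW, hWsep, hWaff, t, ht⟩ := exists_local_equation U hdisc x hx hdim
  -- the proper generizations of `x`
  let Z : Set X := {y | y ⤳ x ∧ y ≠ x}
  have hZfin : Z.Finite := (finite_generizations x hdim).subset fun y hy => hy.1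
  have hZW : Z ⊆ W := fun y hy => hy.1.mem_open W.2 hxW
  have hZU : Z ⊆ U := fun y hy => by
    by_contra hyU
    exact hy.2 (hWsep y (hZW hy) hyU)
  -- trivialise `N` near `Z`
  let D' : (↑U : Scheme.{u}).Opens := U.ι ⁻¹ᵁ W
  have hD'img : U.ι ''ᵁ D' = X.basicOpen t := by
    rw [Scheme.Hom.image_preimage_eq_opensRange_inf, Scheme.Opens.opensRange_ι, ht]
  have hD'aff : IsAffineOpen D' := by
    rw [← Scheme.Hom.isAffineOpen_iff_of_isOpenImmersion U.ι, hD'img]
    exact hWaff.basicOpen t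
  let Z' : Set (↑U : Scheme.{u}) := U.ι ⁻¹' Z
  have hZ'fin : Z'.Finite := hZfin.preimage U.ι.isOpenEmbedding.injective.injOn
  have hZ'D' : Z' ⊆ D' := fun y hy => hZW hy
  have hN1 := (isInvertible_iff_isFinLocFreeOfRank_one N).1 hN
  obtain ⟨U', hZU', -, ⟨iso⟩⟩ := Groth.Agent.Lib.SemilocalFree.exists_open_free_of_finite 1 N hN1
    Z' hZ'fin D' hD'aff hZ'D'
  obtain ⟨e, he⟩ := (nonempty_restrict_ι_iso_iff N U').1 ⟨iso ≪≫ freeModOneIso _⟩
  let O' : X.Opens := U.ι ''ᵁ U'
  have hZO' : Z ⊆ O' := fun y hy => ⟨⟨y, hZU hy⟩, hZU' (show (⟨y, hZU hy⟩ : U) ∈ Z' from hy), rfl⟩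
  obtain ⟨u, hZu, huO'⟩ := Groth.Agent.Lib.AffComp13a.exists_basicOpen_of_finite_of_isAffineOpen hWaff O' Z
    hZfin hZW hZO'
  -- the algebra
  let _ := X.presheaf.algebra_section_stalk ⟨x, hxW⟩
  have hloc := hWaff.isLocalization_stalk ⟨x, hxW⟩
  have htp : t ∈ (hWaff.primeIdealOf ⟨x, hxW⟩).asIdeal := by
    by_contra hcon
    have := (mem_basicOpen_iff_notMem_primeIdealOf hWaff x hxW t).2 hcon
    rw [← ht] at this
    exact hx this.1
  have hup : ∀ q : Ideal Γ(X, W), q.IsPrime → q < (hWaff.primeIdealOf ⟨x, hxW⟩).asIdeal → u ∉ q := by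
    intro q hq hlt
    let Q : PrimeSpectrum Γ(X, W) := ⟨q, hq⟩
    let y : X := hWaff.fromSpec Q
    have hyW : y ∈ W := by
      have : y ∈ Set.range hWaff.fromSpec := ⟨Q, rfl⟩
      rwa [hWaff.range_fromSpec] at this
    have hspec : y ⤳ x := by
      have h1 : Q ⤳ hWaff.primeIdealOf ⟨x, hxW⟩ := (PrimeSpectrum.le_iff_specializes _ _).1 hlt.le
      have h2 := h1.map hWaff.fromSpec.continuous
      rwa [hWaff.fromSpec_primeIdealOf ⟨x, hxW⟩] at h2
    have hne : y ≠ x := by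
      intro h
      have h1 : hWaff.fromSpec Q = hWaff.fromSpec (hWaff.primeIdealOf ⟨x, hxW⟩) := by
        rw [hWaff.fromSpec_primeIdealOf ⟨x, hxW⟩]
        exact h
      have h2 := hWaff.fromSpec.isOpenEmbedding.injective h1
      exact hlt.ne (congrArg PrimeSpectrum.asIdeal h2)
    have hyu : y ∈ X.basicOpen u := hZu ⟨hspec, hne⟩
    have h3 : Q ∈ hWaff.fromSpec ⁻¹ᵁ X.basicOpen u := hyu
    rw [hWaff.fromSpec_preimage_basicOpen] at h3
    exact h3
  obtain ⟨s, hsp, n, a, hsa⟩ := Groth.Agent.Lib.DiscExtAlg42.exists_mul_pow_eq_mul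
    (B := X.presheaf.stalk x) (hWaff.primeIdealOf ⟨x, hxW⟩).asIdeal t u htp hup
  -- the smaller neighbourhood
  have hxs : x ∈ X.basicOpen s := (mem_basicOpen_iff_notMem_primeIdealOf hWaff x hxW s).2 hsp
  have hsW : X.basicOpen s ≤ W := X.basicOpen_le s
  have hle : U ⊓ X.basicOpen s ≤ O' := by
    rintro z ⟨hzU, hzs⟩
    replace hzs : z ∈ X.basicOpen s := hzs
    apply huO'
    have hzW : z ∈ W := hsW hzs
    have hzt : z ∈ X.basicOpen t := by rw [← ht]; exact ⟨hzU, hzW⟩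
    rw [mem_basicOpen_iff_notMem_primeIdealOf hWaff z hzW] at hzs hzt ⊢
    intro hcon
    have hP := (hWaff.primeIdealOf ⟨z, hzW⟩).isPrime
    have h1 : s * t ^ n ∈ (hWaff.primeIdealOf ⟨z, hzW⟩).asIdeal := by
      rw [hsa]
      exact Ideal.mul_mem_left _ _ hcon
    rcases hP.mem_or_mem h1 with h | h
    · exact hzs h
    · exact hzt (hP.mem_of_pow_mem n h)
  have hle' : U.ι ⁻¹ᵁ X.basicOpen s ≤ U' := by
    intro z hz
    obtain ⟨z', hz', hzz'⟩ := hle ⟨z.2, hz⟩
    have : z' = z := U.ι.isOpenEmbedding.injective hzz'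
    rwa [this] at hz'
  exact ⟨X.basicOpen s, hxs, fun z hz hzU => hWsep z (hsW hz) hzU, rs N hle' e, he.mono hle'⟩

/-- `U.ι^♯` is bijective on opens inside `U` -/
lemma bijective_ι_app (U : X.Opens) (G : X.Opens) (hG : G ≤ U) : Function.Bijective (U.ι.app G) := by
  have heq : U.ι ''ᵁ (U.ι ⁻¹ᵁ G) = G := by
    rw [Scheme.Hom.image_preimage_eq_opensRange_inf, Scheme.Opens.opensRange_ι]
    exact inf_eq_right.mpr hG
  rw [Scheme.Opens.ι_app]
  have : IsIso (X.presheaf.map (homOfLE (x := U.ι ''ᵁ U.ι ⁻¹ᵁ G) (Set.image_preimage_subset _ _)).op) := by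
    have h1 : IsIso (homOfLE (x := U.ι ''ᵁ U.ι ⁻¹ᵁ G) (y := G) (Set.image_preimage_subset _ _)) :=
      ⟨homOfLE heq.ge, Subsingleton.elim _ _, Subsingleton.elim _ _⟩
    infer_instance
  exact (ConcreteCategory.isIso_iff_bijective _).mp this

/-- **Part (2)**: invertible modules extend from `U` to `X` -/
theorem exists_extension (U : X.Opens) [QuasiCompact U.ι]
    (hdisc : DiscreteTopology ↥((U : Set X)ᶜ))
    (hloc : ∀ x : X, x ∉ U → IsNoetherianRing (X.presheaf.stalk x) ∧ ringKrullDim (X.presheaf.stalk x) ≤ 1)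
    (N : (↑U : Scheme.{u}).Modules) (hN : PicF.IsInvertible N) :
    ∃ L : X.Modules, PicF.IsInvertible L ∧ Nonempty (L.restrict U.ι ≅ N) := by
  have hex : ∀ y : X, ∃ W : X.Opens, y ∈ W ∧ (∀ z ∈ W, z ∉ U → z = y) ∧
      ∃ e : Γ(N, U.ι ⁻¹ᵁ W), IsGen N (U.ι ⁻¹ᵁ W) e := by
    intro y
    by_cases hy : y ∈ U
    · obtain ⟨V, hyV, s, hs⟩ := (isInvertible_iff_exists_isGen N).1 hN ⟨y, hy⟩
      have heq : U.ι ⁻¹ᵁ (U.ι ''ᵁ V) = V := U.ι.preimage_image_eq V
      refine ⟨U.ι ''ᵁ V, ⟨⟨y, hy⟩, hyV, rfl⟩, fun z hz hzU => ?_, _, hs.of_eq heq⟩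
      obtain ⟨z', -, rfl⟩ := hz
      exact absurd z'.2 hzU
    · have := (hloc y hy).1
      exact exists_nhd_gen_of_open U hdisc y hy (hloc y hy).2 N hN
  choose W hyW hWsep e he using hex
  have hpair : ∀ y y' : X, y ≠ y' → W y ⊓ W y' ≤ U := by
    intro y y' hne z hz
    by_contra hzU
    exact hne ((hWsep y z hz.1 hzU).symm.trans (hWsep y' z hz.2 hzU))
  have hW : ⨆ y, W y = ⊤ := by
    rw [eq_top_iff]
    intro y _
    exact Opens.mem_iSup.mpr ⟨y, hyW y⟩
  obtain ⟨L, hL, ⟨φ⟩⟩ := exists_descent_of_atlas U.ι U (fun G hG => bijective_ι_app U G hG) W hpair N e he hW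
  exact ⟨L, hL, ⟨(Scheme.Modules.restrictFunctorIsoPullback U.ι).app L ≪≫ φ⟩⟩

/-- **Part (1)**: `U` is the non-vanishing locus of a section of an invertible module -/
theorem exists_invertible_genLocus_eq (U : X.Opens) [QuasiCompact U.ι]
    (hdisc : DiscreteTopology ↥((U : Set X)ᶜ))
    (hloc : ∀ x : X, x ∉ U → IsNoetherianRing (X.presheaf.stalk x) ∧ ringKrullDim (X.presheaf.stalk x) ≤ 1) :
    ∃ (L : X.Modules) (s : Coh.structureModule X ⟶ L), PicF.IsInvertible L ∧ CohB1.genLocus L s = U := by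
  classical
  let T := {x : X // x ∉ U}
  have hex : ∀ x : T, ∃ W : X.Opens, x.1 ∈ W ∧ (∀ z ∈ W, z ∉ U → z = x.1) ∧ IsAffineOpen W ∧
      ∃ t : Γ(X, W), U ⊓ W = X.basicOpen t := fun x => by
    have := (hloc x.1 x.2).1
    exact exists_local_equation U hdisc x.1 x.2 (hloc x.1 x.2).2
  choose W hxW hWsep _ t ht using hex
  let Wc : Option T → X.Opens := fun i => match i with
    | none => U
    | some x => W x
  have htu : ∀ x : T, IsUnit (rf (inf_le_right : U ⊓ W x ≤ W x) (t x)) := fun x =>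
    (isUnit_map_iff inf_le_right (t x)).2 (ht x).le
  choose tinv htinv using fun x => (htu x).exists_right_inv
  let b : ∀ i, Γ(X, U ⊓ Wc i) := fun i => match i with
    | none => 1
    | some x => tinv x
  let binv : ∀ i, Γ(X, U ⊓ Wc i) := fun i => match i with
    | none => 1
    | some x => rf (inf_le_right : U ⊓ W x ≤ W x) (t x)
  have hb : ∀ i, b i * binv i = 1 := fun i => by
    match i with
    | none => exact mul_one 1
    | some x => exact (mul_comm _ _).trans (htinv x)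
  have hpair : ∀ i j, i ≠ j → Wc i ⊓ Wc j ≤ U := by
    intro i j hij
    match i, j with
    | none, none => exact absurd rfl hij
    | none, some x => exact inf_le_left
    | some x, none => exact inf_le_right
    | some x, some y =>
      intro z hz
      by_contra hzU
      have h1 := hWsep x z hz.1 hzU
      have h2 := hWsep y z hz.2 hzU
      exact hij (congrArg some (Subtype.ext (h1.symm.trans h2)))
  have hc := etaS_cocycle U Wc hpair b binv hb
  have h1 := etaS_self U Wc b binv hb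
  have hcov : ⨆ i, Wc i = ⊤ := by
    rw [eq_top_iff]
    intro z _
    by_cases hz : z ∈ U
    · exact Opens.mem_iSup.mpr ⟨none, hz⟩
    · exact Opens.mem_iSup.mpr ⟨some ⟨z, hz⟩, hxW ⟨z, hz⟩⟩
  let N : X.Modules := glue Wc (etaS U Wc b binv)
  have hNinv : PicF.IsInvertible N := isInvertible_glue hc hcov h1
  -- the local sections
  let σ : ∀ i, Γ(N, Wc i) := fun i => match i with
    | none => gen hc none
    | some x => t x • gen hc (some x)
  have key : ∀ (i : Option T) (G : X.Opens) (hGW : G ≤ Wc i) (hGU : G ≤ U),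
      rs N hGW (σ i) = rs N (show G ≤ Wc none from hGU) (gen hc none) := by
    intro i G hGW hGU
    match i with
    | none => rfl
    | some x =>
      have h0 := gen_transition hc none (some x)
      have h2 := rf_etaS U Wc hpair b binv hb none (some x) (G := Wc none ⊓ Wc (some x)) le_rfl inf_le_left
      rw [rf_self] at h2
      have h3 : etaS U Wc b binv none (some x) = rf (inf_le_right : U ⊓ W x ≤ W x) (t x) := by
        rw [h2]
        change rf _ (1 : Γ(X, U ⊓ U)) * rf _ (rf (inf_le_right : U ⊓ W x ≤ W x) (t x)) = _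
        rw [rf_one, one_mul, rf_rf]
      rw [h3] at h0
      have h4 := congrArg (rs N (le_inf hGU hGW : G ≤ Wc none ⊓ Wc (some x))) h0
      rw [rs_rs, rs_smul, rs_rs, rf_rf] at h4
      change rs N hGW (t x • gen hc (some x)) = _
      rw [rs_smul, h4]
  obtain ⟨τ, hτ⟩ := sec_glue N Wc (fun i => le_top) (by rw [hcov]) σ (fun i j => by
    by_cases hij : i = j
    · subst hij
      rfl
    · rw [key i _ inf_le_left (hpair i j hij), key j _ inf_le_right (hpair i j hij)])
  refine ⟨N, ofSection τ, hNinv, ?_⟩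
  have hsec : sec (ofSection τ) = τ := sec_ofSection τ
  ext z
  constructor
  · intro hz
    by_contra hzU
    have h5 := genLocus_inf_eq (isGen_gen hc h1 (some ⟨z, hzU⟩)) (ofSection τ)
    rw [hsec, hτ (some ⟨z, hzU⟩)] at h5
    have h6 : coord (isGen_gen hc h1 (some ⟨z, hzU⟩)) le_rfl (σ (some ⟨z, hzU⟩)) = t ⟨z, hzU⟩ := by
      refine (coord_unique (isGen_gen hc h1 (some ⟨z, hzU⟩)) le_rfl ?_).symm
      rw [rs_self]
    rw [h6, ← ht ⟨z, hzU⟩] at h5
    have h7 : z ∈ CohB1.genLocus N (ofSection τ) ⊓ W ⟨z, hzU⟩ := ⟨hz, hxW ⟨z, hzU⟩⟩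
    rw [h5] at h7
    exact hzU h7.1
  · intro hz
    have h5 := genLocus_inf_eq (isGen_gen hc h1 none) (ofSection τ)
    rw [hsec, hτ none] at h5
    have h6 : coord (isGen_gen hc h1 none) le_rfl (σ none) = 1 := by
      refine (coord_unique (isGen_gen hc h1 none) le_rfl ?_).symm
      rw [rs_self, one_smul]
    rw [h6] at h5
    have h7 : z ∈ X.basicOpen (1 : Γ(X, U)) := by
      rw [Scheme.basicOpen_of_isUnit X isUnit_one]
      exact hz
    rw [← h5] at h7
    exact h7.1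

end Groth.Agent.Lib.DiscExt42
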