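import Groth.Prelude.Def_Disc
import Mathlib.RingTheory.Kaehler.Basic
import Mathlib.LinearAlgebra.TensorProduct.Basis
import Mathlib.RingTheory.Trace.Basic

set_option autoImplicit false
universe u v

namespace Groth.Agent.Lib.DiscFree

open TensorProduct

variable {A : Type u} {B : Type v} [CommRing A] [CommRing B] [Algebra A B]

/-- The pairing of a tensor with a functional: `x ⊗ y ↦ l x • y`. -/
noncomputable def pair (l : Disc.Omega A B) : B ⊗[A] B →ₗ[A] B :=
  TensorProduct.lift ((LinearMap.lsmul A B).comp l.toLinearMap)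

@[simp] theorem pair_tmul (l : Disc.Omega A B) (x y : B) :
    pair l (x ⊗ₜ[A] y) = l.toLinearMap x • y := by
  simp [pair]

theorem pair_left_mul (l : Disc.Omega A B) (s : B) (ξ : B ⊗[A] B) :
    pair l ((s ⊗ₜ[A] (1 : B)) * ξ) = pair (s • l) ξ := by
  induction ξ with
  | zero => simp
  | tmul x y => simp [Algebra.TensorProduct.tmul_mul_tmul]
  | add x y hx hy => rw [mul_add, map_add, map_add, hx, hy]

theorem pair_right_mul (l : Disc.Omega A B) (s : B) (ξ : B ⊗[A] B) :
    pair l (((1 : B) ⊗ₜ[A] s) * ξ) = s * pair l ξ := by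
  induction ξ with
  | zero => simp
  | tmul x y => simp [Algebra.TensorProduct.tmul_mul_tmul]
  | add x y hx hy => rw [mul_add, map_add, map_add, hx, hy, mul_add]

theorem pair_add (l l' : Disc.Omega A B) (ξ : B ⊗[A] B) :
    pair (l + l') ξ = pair l ξ + pair l' ξ := by
  induction ξ with
  | zero => simp
  | tmul x y => simp [add_smul]
  | add x y hx hy => rw [map_add, map_add, map_add, hx, hy]; abel

/-- the coordinate functional as an element of omega -/
noncomputable def coordOmega {ι : Type*} (b : Module.Basis ι A B) (i : ι) : Disc.Omega A B :=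
  ⟨b.coord i⟩

theorem pair_coord {ι : Type*} [DecidableEq ι] (b : Module.Basis ι A B) (i : ι)
    (ξ : B ⊗[A] B) :
    pair (coordOmega b i) ξ = TensorProduct.equivFinsuppOfBasisLeft b ξ i := by
  induction ξ with
  | zero => simp
  | tmul x y =>
    rw [TensorProduct.equivFinsuppOfBasisLeft_apply_tmul_apply]
    simp [coordOmega]
  | add x y hx hy => rw [map_add, map_add, hx, hy, Finsupp.add_apply]

theorem pair_injective {ι : Type*} (b : Module.Basis ι A B) (ξ ξ' : B ⊗[A] B)
    (h : ∀ l : Disc.Omega A B, pair l ξ = pair l ξ') : ξ = ξ' := by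
  classical
  apply (TensorProduct.equivFinsuppOfBasisLeft b).injective
  ext i
  rw [← pair_coord, ← pair_coord, h]

theorem omega_eq_sum {ι : Type*} [Fintype ι] (b : Module.Basis ι A B) (l : Disc.Omega A B) :
    l = ∑ i, algebraMap A B (l.toLinearMap (b i)) • coordOmega b i := by
  apply Disc.Omega.ext
  apply b.ext
  intro j
  have hsum : ∀ (s : Finset ι) (f : ι → Disc.Omega A B),
      (∑ i ∈ s, f i).toLinearMap = ∑ i ∈ s, (f i).toLinearMap := by
    intro s f
    classical
    induction s using Finset.induction_on with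
    | empty => simp
    | insert a s ha ih => rw [Finset.sum_insert ha, Finset.sum_insert ha, ← ih]; rfl
  rw [hsum, LinearMap.sum_apply]
  classical
  rw [Finset.sum_eq_single j]
  · simp [coordOmega, ← Algebra.smul_def]
  · intro i _ hij
    simp [coordOmega, ← Algebra.smul_def, Ne.symm hij]
  · intro h; exact absurd (Finset.mem_univ j) h

/-- the tensor attached to a `B`-linear map on omega -/
noncomputable def xiOf {ι : Type*} [Fintype ι] (b : Module.Basis ι A B)
    (Φ : Disc.Omega A B →ₗ[B] B) : B ⊗[A] B :=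
  ∑ i, b i ⊗ₜ[A] Φ (coordOmega b i)

theorem pair_xiOf {ι : Type*} [Fintype ι] (b : Module.Basis ι A B)
    (Φ : Disc.Omega A B →ₗ[B] B) (l : Disc.Omega A B) :
    pair l (xiOf b Φ) = Φ l := by
  conv_rhs => rw [omega_eq_sum b l]
  rw [xiOf, map_sum, map_sum]
  refine Finset.sum_congr rfl fun i _ => ?_
  rw [pair_tmul, map_smul, Algebra.smul_def, smul_eq_mul]

theorem mem_annihilator_iff (ξ : B ⊗[A] B) :
    ξ ∈ Submodule.annihilator (RingHom.ker (Algebra.TensorProduct.lmul' (S := B) A)) ↔
      ∀ s : B, (s ⊗ₜ[A] (1 : B)) * ξ = ((1 : B) ⊗ₜ[A] s) * ξ := by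
  have h := KaehlerDifferential.span_range_eq_ideal A B
  unfold KaehlerDifferential.ideal at h
  rw [← h, Ideal.span, Submodule.mem_annihilator_span]
  constructor
  · intro H s
    have := H ⟨_, ⟨s, rfl⟩⟩
    simp only [smul_eq_mul] at this
    rw [mul_comm, sub_mul, sub_eq_zero] at this
    exact this.symm
  · rintro H ⟨_, ⟨s, rfl⟩⟩
    simp only [smul_eq_mul]
    rw [mul_comm, sub_mul, sub_eq_zero]
    exact (H s).symm

theorem mem_annihilator_iff_pair {ι : Type*} (b : Module.Basis ι A B) (ξ : B ⊗[A] B) :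
    ξ ∈ Submodule.annihilator (RingHom.ker (Algebra.TensorProduct.lmul' (S := B) A)) ↔
      ∀ (s : B) (l : Disc.Omega A B), pair (s • l) ξ = s * pair l ξ := by
  rw [mem_annihilator_iff]
  constructor
  · intro H s l
    rw [← pair_left_mul, ← pair_right_mul, H]
  · intro H s
    apply pair_injective b
    intro l
    rw [pair_left_mul, pair_right_mul, H]

/-- The `B`-linear map on omega attached to an element of the annihilator. -/
noncomputable def toHom {ι : Type*} (b : Module.Basis ι A B) (ξ : B ⊗[A] B)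
    (hξ : ξ ∈ Submodule.annihilator (RingHom.ker (Algebra.TensorProduct.lmul' (S := B) A))) :
    Disc.Omega A B →ₗ[B] B where
  toFun l := pair l ξ
  map_add' l l' := pair_add l l' ξ
  map_smul' s l := by
    rw [RingHom.id_apply, smul_eq_mul]
    exact (mem_annihilator_iff_pair b ξ).mp hξ s l

@[simp] theorem toHom_apply {ι : Type*} (b : Module.Basis ι A B) (ξ : B ⊗[A] B)
    (hξ : ξ ∈ Submodule.annihilator (RingHom.ker (Algebra.TensorProduct.lmul' (S := B) A)))
    (l : Disc.Omega A B) : toHom b ξ hξ l = pair l ξ := rfl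

theorem xiOf_mem_annihilator {ι : Type*} [Fintype ι] (b : Module.Basis ι A B)
    (Φ : Disc.Omega A B →ₗ[B] B) :
    xiOf b Φ ∈ Submodule.annihilator (RingHom.ker (Algebra.TensorProduct.lmul' (S := B) A)) := by
  rw [mem_annihilator_iff_pair b]
  intro s l
  rw [pair_xiOf, pair_xiOf, map_smul, smul_eq_mul]

theorem xiOf_toHom {ι : Type*} [Fintype ι] (b : Module.Basis ι A B) (ξ : B ⊗[A] B)
    (hξ : ξ ∈ Submodule.annihilator (RingHom.ker (Algebra.TensorProduct.lmul' (S := B) A))) :
    xiOf b (toHom b ξ hξ) = ξ := by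
  apply pair_injective b
  intro l
  rw [pair_xiOf, toHom_apply]

theorem trace_eq_sum {ι : Type*} [Fintype ι] [Module.Free A B] [Module.Finite A B]
    (b : Module.Basis ι A B) :
    Disc.Omega.trace A B = ∑ i, b i • coordOmega b i := by
  classical
  apply Disc.Omega.ext
  apply LinearMap.ext
  intro x
  have hsum : ∀ (s : Finset ι) (f : ι → Disc.Omega A B),
      (∑ i ∈ s, f i).toLinearMap = ∑ i ∈ s, (f i).toLinearMap := by
    intro s f
    induction s using Finset.induction_on with
    | empty => simp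
    | insert a s ha ih => rw [Finset.sum_insert ha, Finset.sum_insert ha, ← ih]; rfl
  rw [hsum, LinearMap.sum_apply]
  change Algebra.trace A B x = _
  rw [Algebra.trace_eq_matrix_trace b, Matrix.trace]
  refine Finset.sum_congr rfl fun i _ => ?_
  rw [Matrix.diag_apply, Algebra.leftMulMatrix_eq_repr_mul, Disc.Omega.smul_toLinearMap_apply,
    mul_comm]
  rfl

theorem lmul'_xiOf {ι : Type*} [Fintype ι] [Module.Free A B] [Module.Finite A B]
    (b : Module.Basis ι A B) (Φ : Disc.Omega A B →ₗ[B] B) :
    Algebra.TensorProduct.lmul' (S := B) A (xiOf b Φ) = Φ (Disc.Omega.trace A B) := by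
  rw [trace_eq_sum b, xiOf, map_sum, map_sum]
  refine Finset.sum_congr rfl fun i _ => ?_
  rw [Algebra.TensorProduct.lmul'_apply_tmul, map_smul, smul_eq_mul]

theorem lmul'_eq_pair_trace {ι : Type*} [Fintype ι] [Module.Free A B] [Module.Finite A B]
    (b : Module.Basis ι A B) (ξ : B ⊗[A] B)
    (hξ : ξ ∈ Submodule.annihilator (RingHom.ker (Algebra.TensorProduct.lmul' (S := B) A))) :
    Algebra.TensorProduct.lmul' (S := B) A ξ = pair (Disc.Omega.trace A B) ξ := by
  conv_lhs => rw [← xiOf_toHom b ξ hξ]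
  rw [lmul'_xiOf, toHom_apply]

end Groth.Agent.Lib.DiscFree
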