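import Groth.Agent.Lib.KoszulSamuel
import Mathlib.Analysis.Asymptotics.SpecificAsymptotics
import Mathlib.Analysis.SpecificLimits.Basic

/-!
# Discrete calculus: from an eventually constant iterated difference to a limit (helper25)

`tendsto_of_iterDiff_eventually_eq`: if `(Δ^r f)(p) = c` for `p ≫ 0` then `r! f(t)/t^r → c`.
-/

set_option autoImplicit false

open Filter Topology Finset Asymptotics
open Groth.Agent.Lib.KoszulSamuel

namespace Groth.Agent.Lib.DiscreteDiff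

/-- `((t+1)^{k+1} - t^{k+1}) / (t+1)^k → k+1`. -/
lemma tendsto_pow_succ_sub_div (k : ℕ) :
    Tendsto (fun t : ℕ => (((t : ℝ) + 1) ^ (k + 1) - (t : ℝ) ^ (k + 1)) / ((t : ℝ) + 1) ^ k)
      atTop (𝓝 ((k : ℝ) + 1)) := by
  have h1 : ∀ t : ℕ, (((t : ℝ) + 1) ^ (k + 1) - (t : ℝ) ^ (k + 1)) / ((t : ℝ) + 1) ^ k =
      ∑ i ∈ range (k + 1), ((t : ℝ) / ((t : ℝ) + 1)) ^ (k - i) := by
    intro t
    have hpos : ((t : ℝ) + 1) ≠ 0 := by positivity
    have := geom_sum₂_mul ((t : ℝ) + 1) (t : ℝ) (k + 1)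
    rw [add_sub_cancel_left, mul_one] at this
    rw [← this, Finset.sum_div]
    apply Finset.sum_congr rfl
    intro i hi
    have hi' : i ≤ k := Nat.lt_succ_iff.mp (Finset.mem_range.mp hi)
    have e1 : k + 1 - 1 - i = k - i := by omega
    have e2 : ((t : ℝ) + 1) ^ k = ((t : ℝ) + 1) ^ i * ((t : ℝ) + 1) ^ (k - i) := by
      rw [← pow_add]
      congr 1
      omega
    rw [e1, e2, div_pow]
    field_simp
  have h2 : Tendsto (fun t : ℕ => ∑ i ∈ range (k + 1), ((t : ℝ) / ((t : ℝ) + 1)) ^ (k - i))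
      atTop (𝓝 (∑ _i ∈ range (k + 1), (1 : ℝ))) := by
    apply tendsto_finsetSum
    intro i _
    have := (tendsto_natCast_div_add_atTop (1 : ℝ)).pow (k - i)
    rwa [one_pow] at this
  simp only [sum_const, card_range, nsmul_eq_mul, mul_one] at h2
  push_cast at h2
  exact h2.congr (fun t => (h1 t).symm)

/-- Stolz–Cesàro for the denominators `t^k`, `k ≥ 1`. -/
lemma tendsto_div_pow_of_tendsto_diff (u : ℕ → ℝ) (L : ℝ) (k : ℕ) (hk : 1 ≤ k)
    (h : Tendsto (fun t : ℕ => (u (t + 1) - u t) / (((t : ℝ) + 1) ^ k - (t : ℝ) ^ k)) atTop (𝓝 L)) :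
    Tendsto (fun t : ℕ => u t / (t : ℝ) ^ k) atTop (𝓝 L) := by
  let b : ℕ → ℝ := fun t => ((t : ℝ) + 1) ^ k - (t : ℝ) ^ k
  have hbpos : ∀ t, 0 < b t := by
    intro t
    have : (t : ℝ) ^ k < ((t : ℝ) + 1) ^ k :=
      pow_lt_pow_left₀ (by linarith) (by positivity) (by omega)
    exact sub_pos.mpr this
  let a : ℕ → ℝ := fun t => u (t + 1) - u t - L * b t
  have hab : a =o[atTop] b := by
    rw [isLittleO_iff_tendsto (fun t ht => absurd ht (hbpos t).ne')]
    have : ∀ t, a t / b t = (u (t + 1) - u t) / b t - L := by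
      intro t
      have := (hbpos t).ne'
      simp only [a]
      field_simp
    simp_rw [this]
    have := h.sub_const L
    rwa [sub_self] at this
  have hsumb : ∀ n : ℕ, ∑ i ∈ range n, b i = (n : ℝ) ^ k := by
    intro n
    have := Finset.sum_range_sub (fun i : ℕ => (i : ℝ) ^ k) n
    simp only [Nat.cast_add, Nat.cast_one, Nat.cast_zero] at this
    rw [zero_pow (by omega), sub_zero] at this
    exact this
  have hsuma : ∀ n : ℕ, ∑ i ∈ range n, a i = u n - u 0 - L * (n : ℝ) ^ k := by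
    intro n
    simp only [a]
    rw [Finset.sum_sub_distrib, Finset.sum_range_sub, ← Finset.mul_sum, hsumb]
  have htop : Tendsto (fun n : ℕ => ∑ i ∈ range n, b i) atTop atTop := by
    simp_rw [hsumb]
    exact (tendsto_pow_atTop (by omega)).comp tendsto_natCast_atTop_atTop
  have hlo := hab.sum_range (fun t => (hbpos t).le) htop
  simp_rw [hsumb, hsuma] at hlo
  have h0 := hlo.tendsto_div_nhds_zero
  have h1 : Tendsto (fun n : ℕ => u 0 / (n : ℝ) ^ k) atTop (𝓝 0) :=
    Tendsto.div_atTop tendsto_const_nhds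
      ((tendsto_pow_atTop (by omega)).comp tendsto_natCast_atTop_atTop)
  have h2 := (h0.add h1).add_const L
  rw [add_zero, zero_add] at h2
  refine h2.congr' ?_
  filter_upwards [eventually_ge_atTop 1] with n hn
  have hn' : ((n : ℝ) ^ k) ≠ 0 := by positivity
  field_simp
  ring

lemma bdiff_iterDiff_comm (r : ℕ) (f : ℤ → ℤ) : iterDiff r (bdiff f) = bdiff (iterDiff r f) := by
  induction r with
  | zero => rfl
  | succ r ih =>
    change bdiff (iterDiff r (bdiff f)) = bdiff (bdiff (iterDiff r f))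
    rw [ih]

/-- if `(Δ^r f)(p) = c` for `p ≫ 0` then `r! f(t)/t^r → c`. -/
theorem tendsto_of_iterDiff_eventually_eq : ∀ (r : ℕ) (f : ℤ → ℤ) (c : ℤ),
    (∃ p₀ : ℤ, ∀ p : ℤ, p₀ ≤ p → iterDiff r f p = c) →
    Tendsto (fun t : ℕ => (r.factorial : ℝ) * ((f (t : ℤ) : ℤ) : ℝ) / (t : ℝ) ^ r) atTop (𝓝 (c : ℝ))
  | 0, f, c, ⟨p₀, hp₀⟩ => by
    refine tendsto_const_nhds.congr' ?_
    filter_upwards [eventually_ge_atTop p₀.toNat] with t ht
    have : p₀ ≤ (t : ℤ) := by omega
    have h := hp₀ t this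
    change f t = c at h
    simp [h]
  | r + 1, f, c, ⟨p₀, hp₀⟩ => by
    have IH := tendsto_of_iterDiff_eventually_eq r (bdiff f) c ⟨p₀, fun p hp => by
      rw [bdiff_iterDiff_comm]
      exact hp₀ p hp⟩
    apply tendsto_div_pow_of_tendsto_diff (fun t => ((r + 1).factorial : ℝ) * ((f (t : ℤ) : ℤ) : ℝ))
      (c : ℝ) (r + 1) (by omega)
    have IH' := (tendsto_add_atTop_iff_nat 1).mpr IH
    have h3 := (tendsto_pow_succ_sub_div r).inv₀ (by positivity)
    have h4 := (IH'.mul h3).mul_const ((r : ℝ) + 1)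
    have hc : (c : ℝ) * ((r : ℝ) + 1)⁻¹ * ((r : ℝ) + 1) = c := by
      have : ((r : ℝ) + 1) ≠ 0 := by positivity
      field_simp
    rw [hc] at h4
    refine h4.congr ?_
    intro t
    have hb : bdiff f ((t + 1 : ℕ) : ℤ) = f ((t + 1 : ℕ) : ℤ) - f (t : ℤ) := by
      unfold bdiff
      congr 2
      push_cast
      ring
    rw [hb]
    have hpos1 : ((t : ℝ) + 1) ^ r ≠ 0 := by positivity
    have hpos2 : ((t : ℝ) + 1) ^ (r + 1) - (t : ℝ) ^ (r + 1) ≠ 0 := by
      have : (t : ℝ) ^ (r + 1) < ((t : ℝ) + 1) ^ (r + 1) :=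
        pow_lt_pow_left₀ (by linarith) (by positivity) (by omega)
      exact (sub_pos.mpr this).ne'
    rw [Nat.factorial_succ]
    push_cast
    field_simp

end Groth.Agent.Lib.DiscreteDiff
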