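import Groth.Agent.Lib.SepLqfRep46
import Groth.Agent.Lib.FinEtQuot46
import Groth.Agent.Lib.AlgSpQC
import Groth.Agent.Lib.H69AlgSpMor

/-!
# Open subschemes of a separated locally quasi-finite algebraic space from finite charts (helper46)

`exists_open_subscheme_of_finite_chart`: let `X ⟶ h_T` be separated and locally quasi-finite, `q : T' ⟶ T` with
`ImgRep q`, `P = X ×_T T'`, and `b : h_{U'} ⟶ P` etale with `U'` affine and `U' ⟶ T'` finite.  Then the image of
`U'` in `X` is an open subspace which is a scheme.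
-/

set_option autoImplicit false
universe u

open CategoryTheory CategoryTheory.Limits AlgebraicGeometry Opposite

namespace Groth.Agent.Lib.SepLqfRep46

open AlgSp Groth.Agent.Lib.SepLqfImg46 Groth.Agent.Lib.H69AlgSp Groth.Agent.Lib.AlgSpPoints
open Groth.Agent.Lib.H86AlgSpOpen Groth.Agent.Lib.H86AlgSpSub

variable {S : Scheme.{u}}

/-- For `p1 : P ⟶ h_{T'}` separated, two charts `b : h_{U'} ⟶ P` and a finite `ζ : U' ⟶ T'` with `h_ζ = b ≫ p1`, the
projection `U' ×_P U' ⟶ U'` is finite. -/
theorem isFinite_snd_of_isSeparatedMor {T' U' R' : Over S} {P : Sp S} (p1 : P ⟶ (yon S).obj T')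
    (hp1 : IsSeparatedMor p1) (b : (yon S).obj U' ⟶ P) (ζ : U' ⟶ T') [IsFinite ζ.left]
    (hζ : (yon S).map ζ = b ≫ p1) (s t : R' ⟶ U')
    (hR : IsPullback ((yon S).map t) ((yon S).map s) b b) : IsFinite s.left := by
  have hts : t ≫ ζ = s ≫ ζ := by
    apply (yon S).map_injective
    rw [Functor.map_comp, Functor.map_comp, hζ, ← Category.assoc, hR.w, Category.assoc]
  let m : R' ⟶ pullback ζ ζ := pullback.lift t s hts
  have hm1 : m ≫ pullback.fst ζ ζ = t := pullback.lift_fst _ _ _
  have hm2 : m ≫ pullback.snd ζ ζ = s := pullback.lift_snd _ _ _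
  have sqE : IsPullback ((yon S).map (pullback.fst ζ ζ)) ((yon S).map (pullback.snd ζ ζ)) (b ≫ p1) (b ≫ p1) := by
    rw [← hζ]
    exact (IsPullback.of_hasPullback ζ ζ).map (yon S)
  have hcl : RepWith @IsClosedImmersion (pullback.mapDesc b b p1) :=
    Groth.Agent.Lib.H69AlgSpMor.repWith_mapDesc_of_diagonal b b p1 hp1
  have hw : hR.isoPullback.hom ≫ pullback.mapDesc b b p1 = (yon S).map m ≫ sqE.isoPullback.hom := by
    apply pullback.hom_ext
    · rw [Category.assoc, Category.assoc, IsPullback.isoPullback_hom_fst, ← Functor.map_comp, hm1]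
      erw [pullback.lift_fst]
      rw [Category.comp_id, IsPullback.isoPullback_hom_fst]
    · rw [Category.assoc, Category.assoc, IsPullback.isoPullback_hom_snd, ← Functor.map_comp, hm2]
      erw [pullback.lift_snd]
      rw [Category.comp_id, IsPullback.isoPullback_hom_snd]
  have hmcl : IsClosedImmersion m.left :=
    hcl.property sqE.isoPullback.hom hR.isoPullback.hom m (IsPullback.of_horiz_isIso ⟨hw⟩)
  have hpr2 : IsFinite (pullback.snd ζ ζ).left :=
    MorphismProperty.of_isPullback (P := @IsFinite)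
      ((IsPullback.of_hasPullback ζ ζ).map (Over.forget S)) (inferInstance : IsFinite ζ.left)
  have : s.left = m.left ≫ (pullback.snd ζ ζ).left := by rw [← Over.comp_left, hm2]
  rw [this]
  infer_instance

/-- The image in `X` of a finite etale chart of `P = X ×_T T'` is an open subscheme. -/
theorem exists_open_subscheme_of_finite_chart {T T' : Over S} (q : T' ⟶ T) (hq : ImgRep q)
    {X : Sp S} (hX : IsAlgSpace X) (f : X ⟶ (yon S).obj T) (hsep : IsSeparatedMor f)
    (hqf : LocP (@LocallyQuasiFinite ⊓ @LocallyOfFiniteType) f)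
    {P : Sp S} {p1 : P ⟶ (yon S).obj T'} {p2 : P ⟶ X} (sq : IsPullback p2 p1 f ((yon S).map q))
    {U' : Over S} [IsAffine U'.left] (b : (yon S).obj U' ⟶ P) (hb : RepWith @Etale b)
    (ζ : U' ⟶ T') [IsFinite ζ.left] (hζ : (yon S).map ζ = b ≫ p1) :
    ∃ (W : Over S) (i : (yon S).obj W ⟶ X), RepWith @IsOpenImmersion i ∧
      Set.range (Points.map i) = Set.range (Points.map (b ≫ p2)) := by
  have hT' : IsAlgSpace ((yon S).obj T') := IsAlgSpace.yon_obj _
  have hP : IsAlgSpace P :=
    Groth.Agent.Lib.AlgSpBasic.isAlgSpace_of_isPullback hX hT' (fun U a => representable_of_yon a) sq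
  have hp1sep : IsSeparatedMor p1 := Groth.Agent.Lib.AlgSpProper.isSeparatedMor_of_isPullback sq hsep
  -- the open image `V'` of `b`
  have hopen : IsOpen (Set.range (Points.map b)) :=
    (Groth.Agent.Lib.AlgSpQC.isOpenMap_map_of_repWith_etale hb).isOpen_range
  let V' := openSub P (Set.range (Points.map b))
  let ιV : V' ⟶ P := openSubι P (Set.range (Points.map b))
  have hιV : RepWith @IsOpenImmersion ιV := openSubι_repWith hopen
  have hιVr : Set.range (Points.map ιV) = Set.range (Points.map b) := range_map_openSubι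
  have : Mono ιV := Groth.Agent.Lib.SepLqfImg46.mono_of_repWith_isOpenImmersion hιV
  obtain ⟨b', hb'⟩ := exists_factor_of_range_subset hιV b (by rw [hιVr])
  have hb'et : RepWith @Etale b' :=
    Groth.Agent.Lib.H86AlgSpOpen.repWith_of_comp_mono ιV (by rw [hb']; exact hb)
  have hb'surj : RepWith @Surjective b' :=
    Groth.Agent.Lib.AlgSpQC.repWith_surjective_of_isSurjectiveMor hb'et.rep (by
      intro v
      obtain ⟨μ, hμ⟩ : Points.map ιV v ∈ Set.range (Points.map b) := by rw [← hιVr]; exact ⟨v, rfl⟩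
      refine ⟨μ, map_injective_of_mono ιV ?_⟩
      rw [← Points.map_comp, hb', hμ])
  -- the relation
  have hbrep : Representable b := hP.representable_from_yon b
  have hR : IsPullback ((yon S).map (hbrep.fst' b)) ((yon S).map (hbrep.snd b)) b b := hbrep.isPullback' b
  have hR' : IsPullback ((yon S).map (hbrep.fst' b)) ((yon S).map (hbrep.snd b)) b' b' := by
    apply Groth.Agent.Lib.H86AlgSpOpen.isPullback_of_comp_mono ιV
    rw [hb']; exact hR
  have hsfin : IsFinite (hbrep.snd b).left :=
    isFinite_snd_of_isSeparatedMor p1 hp1sep b ζ hζ (hbrep.snd b) (hbrep.fst' b) hR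
  obtain ⟨M, e, -, -, -⟩ := Groth.Agent.Lib.FinEtQuot46.exists_iso_of_chart b' hb'et hb'surj hR'
  have hj : RepWith @IsOpenImmersion (e.hom ≫ ιV) :=
    (RepWith @IsOpenImmersion).comp_mem _ _
      (MorphismProperty.of_isIso (RepWith (S := S) @IsOpenImmersion) _) hιV
  obtain ⟨W, i, c, hi, hc, hci⟩ := hq X hX f hsep hqf P p1 p2 sq M (e.hom ≫ ιV) hj
  have : Surjective c.left := hc
  refine ⟨W, i, hi, ?_⟩
  have hsurj := surjective_map_yon_of_surjective c
  ext x
  constructor
  · rintro ⟨w, rfl⟩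
    obtain ⟨μ, rfl⟩ := hsurj w
    obtain ⟨ν, hν⟩ : Points.map ιV (Points.map e.hom μ) ∈ Set.range (Points.map b) := by
      rw [← hιVr]; exact ⟨_, rfl⟩
    refine ⟨ν, ?_⟩
    rw [Points.map_comp, hν, ← Points.map_comp, ← Points.map_comp, ← Points.map_comp, hci, Category.assoc]
  · rintro ⟨ν, rfl⟩
    refine ⟨Points.map ((yon S).map c) (Points.map e.inv (Points.map b' ν)), ?_⟩
    rw [← Points.map_comp, ← Points.map_comp, ← Points.map_comp, hci, ← hb']
    simp only [Category.assoc, Iso.inv_hom_id_assoc]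

end Groth.Agent.Lib.SepLqfRep46
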