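import Groth.Agent.Lib.ProperLqfFinite46
import Groth.Agent.Lib.SepLqfRep46b

/-!
# Finite fibres of etale charts of separated algebraic spaces; locally finite point spaces give quasi-finiteness
(helper46)

* `finite_fibre_ofPt`: for `g : Z ⟶ h_B` separated and an etale chart `a : h_A ⟶ Z` with `A ⟶ B` quasi-compact, the
  map `A ⟶ |Z|` has finite fibres.
* `locP_lqf_of_locally_finite_points`: if moreover `g` is locally of finite type, `B` is affine and every point of `|Z|`
  has a finite open neighbourhood, then `g` is locally quasi-finite.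
-/

set_option autoImplicit false
universe u

open CategoryTheory CategoryTheory.Limits AlgebraicGeometry Opposite

namespace Groth.Agent.Lib.DiscreteFibreLqf46

open AlgSp Groth.Agent.Lib.AlgSpPoints Groth.Agent.Lib.H86AlgSpOpen Groth.Agent.Lib.H86AlgSpSub
open Groth.Agent.Lib.ProperLqfFinite46

variable {S : Scheme.{u}}

/-- For `p1 : P ⟶ h_{T'}` separated, a chart `b : h_{U'} ⟶ P` and a quasi-compact `ζ : U' ⟶ T'` with `h_ζ = b ≫ p1`, the
projection `U' ×_P U' ⟶ U'` is quasi-compact. -/
theorem quasiCompact_snd_of_isSeparatedMor {T' U' R' : Over S} {P : Sp S} (p1 : P ⟶ (yon S).obj T')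
    (hp1 : IsSeparatedMor p1) (b : (yon S).obj U' ⟶ P) (ζ : U' ⟶ T') [QuasiCompact ζ.left]
    (hζ : (yon S).map ζ = b ≫ p1) (s t : R' ⟶ U')
    (hR : IsPullback ((yon S).map t) ((yon S).map s) b b) : QuasiCompact s.left := by
  have hts : t ≫ ζ = s ≫ ζ := by
    apply (yon S).map_injective
    rw [Functor.map_comp, Functor.map_comp, hζ, ← Category.assoc, hR.w, Category.assoc]
  let m : R' ⟶ pullback ζ ζ := pullback.lift t s hts
  have hm1 : m ≫ pullback.fst ζ ζ = t := pullback.lift_fst _ _ _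
  have hm2 : m ≫ pullback.snd ζ ζ = s := pullback.lift_snd _ _ _
  have sqE : IsPullback ((yon S).map (pullback.fst ζ ζ)) ((yon S).map (pullback.snd ζ ζ)) (b ≫ p1) (b ≫ p1) := by
    rw [← hζ]
    exact (IsPullback.of_hasPullback ζ ζ).map (yon S)
  have hcl : RepWith @IsClosedImmersion (pullback.mapDesc b b p1) :=
    Groth.Agent.Lib.H69AlgSpMor.repWith_mapDesc_of_diagonal b b p1 hp1
  have hw : hR.isoPullback.hom ≫ pullback.mapDesc b b p1 = (yon S).map m ≫ sqE.isoPullback.hom := by
    apply pullback.hom_ext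
    · rw [Category.assoc, Category.assoc, IsPullback.isoPullback_hom_fst, ← Functor.map_comp, hm1]
      erw [pullback.lift_fst]
      rw [Category.comp_id, IsPullback.isoPullback_hom_fst]
    · rw [Category.assoc, Category.assoc, IsPullback.isoPullback_hom_snd, ← Functor.map_comp, hm2]
      erw [pullback.lift_snd]
      rw [Category.comp_id, IsPullback.isoPullback_hom_snd]
  have hmcl : IsClosedImmersion m.left :=
    hcl.property sqE.isoPullback.hom hR.isoPullback.hom m (IsPullback.of_horiz_isIso ⟨hw⟩)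
  have hpr2 : QuasiCompact (pullback.snd ζ ζ).left :=
    MorphismProperty.of_isPullback (P := @QuasiCompact)
      ((IsPullback.of_hasPullback ζ ζ).map (Over.forget S)) (inferInstance : QuasiCompact ζ.left)
  have : s.left = m.left ≫ (pullback.snd ζ ζ).left := by rw [← Over.comp_left, hm2]
  rw [this]
  infer_instance

/-- Finite fibres of etale charts of separated algebraic spaces. -/
theorem finite_fibre_ofPt {Z : Sp S} (hZ : IsAlgSpace Z) {B : Over S} (g : Z ⟶ (yon S).obj B)
    (hsep : IsSeparatedMor g) {A : Over S} (a : (yon S).obj A ⟶ Z) (ha : RepWith @Etale a)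
    (ζ : A ⟶ B) [QuasiCompact ζ.left] (hζ : (yon S).map ζ = a ≫ g) (a₀ : ↥A.left) :
    {a' : ↥A.left | Points.ofPt a a' = Points.ofPt a a₀}.Finite := by
  have hrep : Representable a := hZ.representable_from_yon a
  have hR : IsPullback ((yon S).map (hrep.fst' a)) ((yon S).map (hrep.snd a)) a a := hrep.isPullback' a
  have hse : Etale (hrep.snd a).left := ha.property _ _ _ hR
  have hqc : QuasiCompact (hrep.snd a).left :=
    quasiCompact_snd_of_isSeparatedMor g hsep a ζ hζ (hrep.snd a) (hrep.fst' a) hR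
  have : LocallyQuasiFinite (hrep.snd a).left :=
    Groth.Agent.Lib.AlgSpBasic.locallyQuasiFinite_of_etale _
  have hfin : ((hrep.snd a).left ⁻¹' {a₀}).Finite := (hrep.snd a).left.finite_preimage_singleton a₀
  refine (hfin.image (hrep.fst' a).left).subset ?_
  intro a' ha'
  have h : Points.map a (Points.ofScheme A a') = Points.map a (Points.ofScheme A a₀) := by
    rw [← Points.ofPt_eq_map_ofScheme, ← Points.ofPt_eq_map_ofScheme]; exact ha'
  obtain ⟨ρ, hρ1, hρ2⟩ := exists_of_isPullback hR (Points.ofScheme A a') (Points.ofScheme A a₀) h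
  refine ⟨Points.toScheme _ ρ, ?_, ?_⟩
  · have := Points.map_yon_map_apply (hrep.snd a) (Points.toScheme _ ρ)
    change Points.map _ (Points.ofScheme _ _) = Points.ofScheme _ _ at this
    rw [Points.ofScheme_toScheme, hρ2] at this
    exact ((Points.schemeEquiv A).injective this).symm
  · have := Points.map_yon_map_apply (hrep.fst' a) (Points.toScheme _ ρ)
    change Points.map _ (Points.ofScheme _ _) = Points.ofScheme _ _ at this
    rw [Points.ofScheme_toScheme, hρ1] at this
    exact ((Points.schemeEquiv A).injective this).symm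

/-- If every point of `|Z|` has a finite open neighbourhood then `Z ⟶ h_B` (separated, locally of finite type, `B`
affine) is locally quasi-finite. -/
theorem locP_lqf_of_locally_finite_points {Z : Sp S} (hZ : IsAlgSpace Z) {B : Over S} [IsAffine B.left]
    (g : Z ⟶ (yon S).obj B) (hsep : IsSeparatedMor g) (hlft : LocP @LocallyOfFiniteType g)
    (hloc : ∀ z : Points Z, ∃ O : Set (Points Z), IsOpen O ∧ z ∈ O ∧ O.Finite) :
    LocP (@LocallyQuasiFinite ⊓ @LocallyOfFiniteType) g := by
  have hB : IsAlgSpace ((yon S).obj B) := IsAlgSpace.yon_obj B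
  rw [Groth.Agent.Lib.AlgSpPtwise91.pointwiseBC_lqf.locP_iff hZ hB g hlft]
  intro z
  obtain ⟨O, hOo, hzO, hOf⟩ := hloc z
  obtain ⟨U, a, hae, has⟩ := hZ.atlas
  obtain ⟨u, rfl⟩ := Groth.Agent.Lib.H86AlgSpPoints.ofPt_surjective has z
  obtain ⟨A₀, hA₀, hu⟩ : ∃ A₀ : U.left.Opens, IsAffineOpen A₀ ∧ u ∈ A₀ := by
    obtain ⟨_, ⟨A₀, hA₀, rfl⟩, hu, -⟩ :=
      U.left.isBasis_affineOpens.exists_subset_of_mem_open (Set.mem_univ u) isOpen_univ
    exact ⟨A₀, hA₀, hu⟩
  have : IsAffine (A₀ : Scheme.{u}) := hA₀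
  let A : Over S := Over.mk (A₀.ι ≫ U.hom)
  let ιA : A ⟶ U := Over.homMk A₀.ι rfl
  have : IsOpenImmersion ιA.left := inferInstanceAs (IsOpenImmersion A₀.ι)
  have : IsAffine A.left := hA₀
  have ha' : RepWith @Etale ((yon S).map ιA ≫ a) :=
    (RepWith @Etale).comp_mem _ _ ((repWith_yon_map_iff _ ιA).2 inferInstance) hae
  obtain ⟨h, hh⟩ := (yon S).map_surjective (((yon S).map ιA ≫ a) ≫ g)
  have hhl : LocallyOfFiniteType h.left :=
    hlft ((yon S).map ιA ≫ a) (𝟙 _) h ha' (repWith_id _ B) (by rw [hh, Category.comp_id])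
  have hpt : Points.ofPt ((yon S).map ιA ≫ a) (⟨u, hu⟩ : ↥A.left) = Points.ofPt a u := by
    rw [Points.ofPt_eq_map_ofScheme, Points.map_comp, Points.ofPt_eq_map_ofScheme]
    congr 1
    exact Points.map_yon_map_apply ιA ⟨u, hu⟩
  refine ⟨A, B, (yon S).map ιA ≫ a, 𝟙 _, h, ⟨u, hu⟩, ha', repWith_id _ B, by rw [hh, Category.comp_id],
    hpt, ?_⟩
  -- the open `W`
  let W : A.left.Opens := ⟨Points.ofPt ((yon S).map ιA ≫ a) ⁻¹' O,
    hOo.preimage (Points.continuous_ofPt _)⟩
  have hWfin : (W : Set ↥A.left).Finite := by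
    have h1 : (W : Set ↥A.left) ⊆ ⋃ z' ∈ O, Points.ofPt ((yon S).map ιA ≫ a) ⁻¹' {z'} := by
      intro a' ha'
      exact Set.mem_biUnion ha' rfl
    refine (Set.Finite.biUnion hOf fun z' _ => ?_).subset h1
    by_cases hne : ∃ a₁, Points.ofPt ((yon S).map ιA ≫ a) a₁ = z'
    · obtain ⟨a₁, rfl⟩ := hne
      exact finite_fibre_ofPt hZ g hsep ((yon S).map ιA ≫ a) ha' h hh a₁
    · convert Set.finite_empty
      ext a₁
      simp only [Set.mem_preimage, Set.mem_singleton_iff, Set.mem_empty_iff_false, iff_false]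
      exact fun h' => hne ⟨a₁, h'⟩
  have : Finite ↥(W : Scheme.{u}) := hWfin.to_subtype
  refine ⟨W, ?_, LocallyQuasiFinite.of_finite_preimage_singleton _ (fun _ => Set.toFinite _), inferInstance⟩
  change Points.ofPt ((yon S).map ιA ≫ a) ⟨u, hu⟩ ∈ O
  rw [hpt]
  exact hzO

end Groth.Agent.Lib.DiscreteFibreLqf46
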