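import Mathlib
import Groth.Prelude.Def_Dieu
import Groth.Prelude.Def_Disp2

/-!
# Composition law for the iterates `V^{N#}` and Zink's lemma on the nilpotence condition

* `star`, `Psi`, `star_assoc`, `star_mem` : composition of twisted linear maps `P → W ⊗_{g} P`.
* `vSharpPow_add` : `V^{(a+1+b+1)#} = (σ^(a+1))^*(V^{(b+1)#}) ∘ V^{(a+1)#}` (up to `BC.castHom`).
* `Img.add` : image ideals multiply along compositions.
* `pow_mem_ker_truncate` : `p^c = 0` in `R` ⇒ `p^(c*j) ∈ ker (W(R) → W_j(R))`.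
* `exists_img_ker_truncate` : V-nilpotent ⇒ some iterate has image in `I_n • (…)`.
-/

set_option autoImplicit false
universe u v

noncomputable section
namespace Groth.Agent.Lib.VSharpComp76
open Dieu

section General
variable {A : Type u} [CommRing A] {P : Type v} [AddCommGroup P] [Module A P]

/-- `h^*ψ` followed by transitivity: `w ⊗ y ↦ w • push (ψ y)`. -/
def Psi {g : A →+* A} (h : A →+* A) (ψ : P →ₗ[A] BC g P) : BC h P →ₗ[A] BC (h.comp g) P :=
  (BC.lift h (BC.push g h)).comp (BC.map h ψ)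

theorem Psi_tmul {g : A →+* A} (h : A →+* A) (ψ : P →ₗ[A] BC g P) (w : A) (y : P) :
    Psi h ψ (BC.tmul h w y) = w • BC.push g h (ψ y) := by
  rw [Psi, LinearMap.comp_apply, BC.map_tmul, BC.lift_tmul]

/-- first `φ`, then `h^*ψ`. -/
def star {g h : A →+* A} (ψ : P →ₗ[A] BC g P) (φ : P →ₗ[A] BC h P) : P →ₗ[A] BC (h.comp g) P :=
  (Psi h ψ).comp φ

theorem star_apply {g h : A →+* A} (ψ : P →ₗ[A] BC g P) (φ : P →ₗ[A] BC h P) (x : P) :
    star ψ φ x = Psi h ψ (φ x) := rfl

theorem castHom_self {g : A →+* A} (e : g = g) (z : BC g P) : BC.castHom e z = z := rfl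

theorem castHom_castHom {g g' g'' : A →+* A} (e : g = g') (e' : g' = g'') (z : BC g P) :
    BC.castHom e' (BC.castHom e z) = BC.castHom (e.trans e') z := by
  subst e; subst e'; rfl

theorem push_push {k : A →+* A} (g h : A →+* A) (s : BC k P) :
    BC.push (g.comp k) h (BC.push k g s) = BC.push k (h.comp g) s := by
  induction s using BC.induction_on k with
  | zero => rw [map_zero, map_zero, map_zero]
  | tmul r q => rw [BC.push_tmul, BC.push_tmul, BC.push_tmul]; rfl
  | add z₁ z₂ h₁ h₂ => rw [map_add, map_add, map_add, h₁, h₂]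

theorem push_Psi {g k : A →+* A} (h : A →+* A) (χ : P →ₗ[A] BC k P) (u : BC g P) :
    BC.push (g.comp k) h (Psi g χ u) = Psi (h.comp g) χ (BC.push g h u) := by
  induction u using BC.induction_on g with
  | zero => rw [map_zero, map_zero, map_zero, map_zero]
  | tmul v t =>
    rw [Psi_tmul, BC.push_tmul, Psi_tmul, map_smulₛₗ, push_push]
  | add z₁ z₂ h₁ h₂ => rw [map_add, map_add, map_add, map_add, h₁, h₂]

theorem Psi_star {g k : A →+* A} (h : A →+* A) (χ : P →ₗ[A] BC k P) (ψ : P →ₗ[A] BC g P)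
    (z : BC h P) :
    Psi h (star χ ψ) z = Psi (h.comp g) χ (Psi h ψ z) := by
  induction z using BC.induction_on h with
  | zero => rw [map_zero, map_zero, map_zero]
  | tmul w y =>
    rw [Psi_tmul, Psi_tmul, star_apply, push_Psi, map_smul]
  | add z₁ z₂ h₁ h₂ => rw [map_add, map_add, map_add, h₁, h₂]

theorem star_assoc {g h k : A →+* A} (χ : P →ₗ[A] BC k P) (ψ : P →ₗ[A] BC g P)
    (φ : P →ₗ[A] BC h P) (x : P) :
    star (star χ ψ) φ x = star χ (star ψ φ) x := by
  rw [star_apply, star_apply, star_apply, Psi_star]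

theorem Psi_castHom_left {g g' : A →+* A} (h : A →+* A) (e : g = g') (ψ : P →ₗ[A] BC g P)
    (e' : h.comp g = h.comp g') (z : BC h P) :
    Psi h ((BC.castHom e).comp ψ) z = BC.castHom e' (Psi h ψ z) := by
  subst e; rfl

theorem star_castHom_left {g g' h : A →+* A} (e : g = g') (ψ : P →ₗ[A] BC g P)
    (φ : P →ₗ[A] BC h P) (e' : h.comp g = h.comp g') (x : P) :
    star ((BC.castHom e).comp ψ) φ x = BC.castHom e' (star ψ φ x) := by
  subst e; rfl

theorem star_castHom_right {g h h' : A →+* A} (e : h = h') (ψ : P →ₗ[A] BC g P)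
    (φ : P →ₗ[A] BC h P) (e' : h.comp g = h'.comp g) (x : P) :
    star ψ ((BC.castHom e).comp φ) x = BC.castHom e' (star ψ φ x) := by
  subst e; rfl

theorem castHom_mem {g g' : A →+* A} (e : g = g') (J : Ideal A) (z : BC g P)
    (hz : z ∈ J • (⊤ : Submodule A (BC g P))) :
    BC.castHom e z ∈ J • (⊤ : Submodule A (BC g' P)) := by
  subst e; exact hz

theorem push_mem {g : A →+* A} (h : A →+* A) (J : Ideal A) (z : BC g P)
    (hz : z ∈ J • (⊤ : Submodule A (BC g P))) :
    BC.push g h z ∈ (J.map h) • (⊤ : Submodule A (BC (h.comp g) P)) := by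
  refine Submodule.smul_induction_on hz (fun c hc y _ => ?_) (fun y₁ y₂ h₁ h₂ => ?_)
  · rw [map_smulₛₗ]
    exact Submodule.smul_mem_smul (Ideal.mem_map_of_mem h hc) Submodule.mem_top
  · rw [map_add]; exact add_mem h₁ h₂

theorem Psi_mem {g : A →+* A} (h : A →+* A) (ψ : P →ₗ[A] BC g P) (J : Ideal A)
    (hψ : ∀ y, ψ y ∈ J • (⊤ : Submodule A (BC g P))) (z : BC h P) :
    Psi h ψ z ∈ (J.map h) • (⊤ : Submodule A (BC (h.comp g) P)) := by
  induction z using BC.induction_on h with
  | zero => rw [map_zero]; exact zero_mem _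
  | tmul w y =>
    rw [Psi_tmul]
    exact Submodule.smul_mem _ _ (push_mem h J _ (hψ y))
  | add z₁ z₂ h₁ h₂ => rw [map_add]; exact add_mem h₁ h₂

theorem smul_mem_mul_smul {M : Type*} [AddCommGroup M] [Module A M] (I J : Ideal A) (c : A)
    (hc : c ∈ I) (t : M) (ht : t ∈ J • (⊤ : Submodule A M)) :
    c • t ∈ (I * J) • (⊤ : Submodule A M) := by
  refine Submodule.smul_induction_on ht (fun d hd y _ => ?_) (fun y₁ y₂ h₁ h₂ => ?_)
  · rw [← mul_smul]
    exact Submodule.smul_mem_smul (Ideal.mul_mem_mul hc hd) Submodule.mem_top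
  · rw [smul_add]; exact add_mem h₁ h₂

theorem star_mem {g h : A →+* A} (ψ : P →ₗ[A] BC g P) (φ : P →ₗ[A] BC h P) (I J : Ideal A)
    (hφ : ∀ x, φ x ∈ I • (⊤ : Submodule A (BC h P)))
    (hψ : ∀ y, ψ y ∈ J • (⊤ : Submodule A (BC g P))) (x : P) :
    star ψ φ x ∈ (I * J.map h) • (⊤ : Submodule A (BC (h.comp g) P)) := by
  rw [star_apply]
  refine Submodule.smul_induction_on (hφ x) (fun c hc z _ => ?_) (fun y₁ y₂ h₁ h₂ => ?_)
  · rw [map_smul]
    exact smul_mem_mul_smul I (J.map h) c hc _ (Psi_mem h ψ J hψ z)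
  · rw [map_add]; exact add_mem h₁ h₂

end General
section Witt

variable {p : ℕ} [Fact p.Prime] {R : Type u} [CommRing R]
variable {P : Type v} [AddCommGroup P] [Module (WittVector p R) P]

local notation "σ" => (WittVector.frobenius : WittVector p R →+* WittVector p R)

theorem vSharpPow_succ_eq (Vs : P →ₗ[WittVector p R] BC σ P) (n : ℕ) (x : P) :
    vSharpPow Vs (n + 1) x =
      BC.castHom (comp_pow_eq_pow_succ σ (n + 1)) (star (vSharpPow Vs n) Vs x) := rfl

theorem vSharpPow_zero_eq (Vs : P →ₗ[WittVector p R] BC σ P) :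
    vSharpPow Vs 0 = (BC.castHom (pow_one σ).symm).comp Vs := rfl

/-- The composition law `V^{(a+1+b+1)#} = (σ^(a+1))^*(V^{(b+1)#}) ∘ V^{(a+1)#}`. -/
theorem vSharpPow_add (Vs : P →ₗ[WittVector p R] BC σ P) (b : ℕ) :
    ∀ (a n : ℕ) (_ : n = a + b + 1) (e : (σ ^ (a + 1)).comp (σ ^ (b + 1)) = σ ^ (n + 1)) (x : P),
      vSharpPow Vs n x = BC.castHom e (star (vSharpPow Vs b) (vSharpPow Vs a) x) := by
  intro a
  induction a with
  | zero =>
    intro n hn e x
    obtain rfl : n = b + 1 := by omega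
    rw [vSharpPow_succ_eq, vSharpPow_zero_eq]
    have e' : RingHom.comp σ (σ ^ (b + 1)) = (σ ^ (0 + 1)).comp (σ ^ (b + 1)) := by rw [zero_add, pow_one]
    rw [star_castHom_right (pow_one σ).symm (vSharpPow Vs b) Vs e' x, castHom_castHom]
  | succ a ih =>
    intro n hn e x
    obtain ⟨m, rfl, hm⟩ : ∃ m, n = m + 1 ∧ m = a + b + 1 := ⟨a + b + 1, by omega, rfl⟩
    have e₂ : (σ ^ (a + 1)).comp (σ ^ (b + 1)) = σ ^ (m + 1) := by
      rw [hm, ← RingHom.mul_def, ← pow_add]; congr 1; omega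
    have hV : vSharpPow Vs m = (BC.castHom e₂).comp (star (vSharpPow Vs b) (vSharpPow Vs a)) :=
      LinearMap.ext fun y => ih m hm e₂ y
    have hV' : vSharpPow Vs (a + 1) =
        (BC.castHom (comp_pow_eq_pow_succ σ (a + 1))).comp (star (vSharpPow Vs a) Vs) :=
      LinearMap.ext fun y => vSharpPow_succ_eq Vs a y
    rw [vSharpPow_succ_eq, hV, hV']
    have e₃ : RingHom.comp σ ((σ ^ (a + 1)).comp (σ ^ (b + 1))) = RingHom.comp σ (σ ^ (m + 1)) := by rw [e₂]
    have e₄ : (RingHom.comp σ (σ ^ (a + 1))).comp (σ ^ (b + 1)) = (σ ^ (a + 1 + 1)).comp (σ ^ (b + 1)) := by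
      rw [comp_pow_eq_pow_succ]
    rw [star_castHom_left e₂ _ Vs e₃ x, star_castHom_right _ (vSharpPow Vs b) _ e₄ x,
      castHom_castHom, castHom_castHom, star_assoc]

/-- `Img Vs n J`: the iterate `V^{(n+1)#}` has image in `J • (W ⊗_{σ^(n+1)} P)`. -/
def Img (Vs : P →ₗ[WittVector p R] BC σ P) (n : ℕ) (J : Ideal (WittVector p R)) : Prop :=
  ∀ x : P, vSharpPow Vs n x ∈
    J • (⊤ : Submodule (WittVector p R) (BC (σ ^ (n + 1)) P))

theorem Img.mono {Vs : P →ₗ[WittVector p R] BC σ P} {n : ℕ} {J J' : Ideal (WittVector p R)}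
    (h : Img Vs n J) (hJ : J ≤ J') : Img Vs n J' :=
  fun x => Submodule.smul_mono_left hJ (h x)

theorem Img.add {Vs : P →ₗ[WittVector p R] BC σ P} {a b : ℕ} {I J : Ideal (WittVector p R)}
    (ha : Img Vs a I) (hb : Img Vs b J) : Img Vs (a + b + 1) (I * J.map (σ ^ (a + 1))) := by
  intro x
  have e : (σ ^ (a + 1)).comp (σ ^ (b + 1)) = σ ^ (a + b + 1 + 1) := by
    rw [← RingHom.mul_def, ← pow_add]; congr 1; omega
  rw [vSharpPow_add Vs b a (a + b + 1) rfl e x]
  exact castHom_mem e _ _ (star_mem (vSharpPow Vs b) (vSharpPow Vs a) I J ha hb x)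

theorem frobPow_succ_apply (m : ℕ) (w : WittVector p R) :
    (σ ^ (m + 1)) w = (σ ^ m) (σ w) := by
  rw [pow_succ]; rfl

theorem map_frobPow_le (m : ℕ) :
    (W4c1extbt610.IV p R ⊔ Ideal.span {(p : WittVector p R)}).map (σ ^ (m + 1)) ≤
      Ideal.span {(p : WittVector p R)} := by
  rw [Ideal.map_le_iff_le_comap]
  refine sup_le ?_ ?_
  · rw [W4c1extbt610.IV, Ideal.span_le]
    rintro _ ⟨w, rfl⟩
    change (σ ^ (m + 1)) (WittVector.verschiebung w) ∈ Ideal.span {(p : WittVector p R)}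
    rw [frobPow_succ_apply, WittVector.frobenius_verschiebung, map_mul, map_natCast]
    exact Ideal.mem_span_singleton.mpr ⟨(σ ^ m) w, mul_comm _ _⟩
  · rw [Ideal.span_le]
    rintro _ rfl
    change (σ ^ (m + 1)) (p : WittVector p R) ∈ Ideal.span {(p : WittVector p R)}
    rw [map_natCast]
    exact Ideal.mem_span_singleton_self _

theorem pow_mul_mem_ker_truncate_succ (c : ℕ) (hc : (p : R) ^ c = 0) (j : ℕ) (w : WittVector p R)
    (hw : w ∈ RingHom.ker (WittVector.truncate (p := p) (R := R) j)) :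
    (p : WittVector p R) ^ c * w ∈ RingHom.ker (WittVector.truncate (p := p) (R := R) (j + 1)) := by
  rw [WittVector.mem_ker_truncate] at hw ⊢
  have hw' := WittVector.eq_iterate_verschiebung hw
  have key : (p : WittVector p R) ^ c * w =
      WittVector.verschiebung^[j] (w.shift j * (p : WittVector p R) ^ c) := by
    conv_lhs => rw [hw', mul_comm, WittVector.iterate_verschiebung_mul_left]
    congr 2
    have : ∀ i : ℕ, (⇑σ)^[i] ((p : WittVector p R) ^ c) = (p : WittVector p R) ^ c := by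
      intro i
      induction i with
      | zero => rfl
      | succ i ih => rw [Function.iterate_succ_apply', ih, map_pow, map_natCast]
    exact this j
  intro i hi
  rw [key]
  rcases Nat.lt_succ_iff_lt_or_eq.mp hi with h | rfl
  · exact WittVector.iterate_verschiebung_coeff_eq_zero _ h
  · have := WittVector.iterate_verschiebung_coeff (w.shift i * (p : WittVector p R) ^ c) i 0
    rw [zero_add] at this
    have h0 : ((p : WittVector p R) ^ c).coeff 0 = 0 := by
      change WittVector.constantCoeff ((p : WittVector p R) ^ c) = 0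
      rw [map_pow, map_natCast, hc]
    rw [this, WittVector.mul_coeff_zero, h0, mul_zero]

theorem pow_mem_ker_truncate (c : ℕ) (hc : (p : R) ^ c = 0) (j : ℕ) :
    (p : WittVector p R) ^ (c * j) ∈ RingHom.ker (WittVector.truncate (p := p) (R := R) j) := by
  induction j with
  | zero =>
    rw [WittVector.mem_ker_truncate]
    intro i hi
    exact absurd hi (Nat.not_lt_zero i)
  | succ j ih =>
    rw [Nat.mul_succ, pow_add, mul_comm]
    exact pow_mul_mem_ker_truncate_succ c hc j _ ih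

theorem exists_img_pow (Vs : P →ₗ[WittVector p R] BC σ P) (hnil : IsVNilpotent Vs) (k : ℕ) :
    ∃ N : ℕ, Img Vs N (Ideal.span {(p : WittVector p R) ^ k}) := by
  obtain ⟨n₀, h₀⟩ := hnil
  induction k with
  | zero =>
    refine ⟨0, fun x => ?_⟩
    rw [pow_zero, Ideal.span_singleton_one, Submodule.top_smul]
    exact Submodule.mem_top
  | succ k ih =>
    obtain ⟨N, hN⟩ := ih
    refine ⟨N + n₀ + 1, (Img.add hN h₀).mono ?_⟩
    rw [pow_succ (p : WittVector p R) k, ← Ideal.span_singleton_mul_span_singleton]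
    exact Ideal.mul_mono_right (map_frobPow_le N)

theorem exists_img_ker_truncate (hp : IsNilpotent (p : R)) (Vs : P →ₗ[WittVector p R] BC σ P)
    (hnil : IsVNilpotent Vs) (n : ℕ) :
    ∃ N : ℕ, Img Vs N (RingHom.ker (WittVector.truncate (p := p) (R := R) n)) := by
  obtain ⟨c, hc⟩ := hp
  obtain ⟨N, hN⟩ := exists_img_pow Vs hnil (c * n)
  refine ⟨N, hN.mono ?_⟩
  rw [Ideal.span_le, Set.singleton_subset_iff]
  exact pow_mem_ker_truncate c hc n

end Witt

end Groth.Agent.Lib.VSharpComp76
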