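import Mathlib
import Groth.Prelude.Def_Dieu
import Groth.Prelude.Def_Disp2
import Groth.Agent.Lib.VSharpComp76

/-!
# Base change of the operator `V^#` of a display

* `bcTw φ gA gB hc : A ⊗_{gA} P →+ B ⊗_{gB} (B ⊗_φ P)`, `u ⊗ x ↦ φ u ⊗ (1 ⊗ x)`; `bcMapTw`.
* `VsR f Vs` : the base change of `Vs : P → W(S) ⊗_σ P` along `W(f)`; `vSharpPow_VsR` (iterates
  commute with base change); `isVNilpotent_VsR`.
* `ker_induction` : generators of `ker (B ⊗_φ P → C ⊗_{hφ} P/Q)` (right exactness of `⊗`);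
  `mem_Q_induction` : `Q_R` is generated by `w ⊗ y` (`y ∈ Q`) and `V w ⊗ x`.
* `isVSharp_VsR`, `isDisplay_baseChange`.
-/

set_option autoImplicit false
universe u v

noncomputable section
namespace Groth.Agent.Lib.DispBC76
open Dieu Groth.Agent.Lib.VSharpComp76 TensorProduct

section General
variable {A B : Type u} [CommRing A] [CommRing B] (φ : A →+* B)
variable {P : Type v} [AddCommGroup P] [Module A P]

/-- `x ↦ 1 ⊗ (1 ⊗ x)`, semilinear along `gB ∘ φ`. -/
def iota2 (gB : B →+* B) : P →ₛₗ[gB.comp φ] BC gB (BC φ P) where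
  toFun x := BC.tmul gB 1 (BC.tmul φ 1 x)
  map_add' x y := by rw [BC.tmul_add, BC.tmul_add]
  map_smul' a x := by
    rw [← BC.tmul_mul_apply, one_mul, BC.tmul_eq_smul_tmul_one φ (φ a) x, ← BC.tmul_mul_apply,
      one_mul, BC.tmul_eq_smul_tmul_one gB (gB (φ a))]
    rfl

theorem iota2_apply (gB : B →+* B) (x : P) :
    iota2 φ gB x = BC.tmul gB 1 (BC.tmul φ 1 x) := rfl

/-- The comparison `A ⊗_{gA} P → B ⊗_{gB} (B ⊗_φ P)`, `u ⊗ x ↦ φ u ⊗ (1 ⊗ x)`, as an additive map. -/
def bcTw (gA : A →+* A) (gB : B →+* B) (hc : φ.comp gA = gB.comp φ) :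
    BC gA P →+ BC gB (BC φ P) :=
  ((BC.lift (gB.comp φ) (iota2 φ gB)).toAddMonoidHom.comp
    (BC.castHom (P := P) hc).toAddMonoidHom).comp (BC.push gA φ).toAddMonoidHom

theorem bcTw_tmul (gA : A →+* A) (gB : B →+* B) (hc : φ.comp gA = gB.comp φ) (u : A) (x : P) :
    bcTw φ gA gB hc (BC.tmul gA u x) = BC.tmul gB (φ u) (BC.tmul φ 1 x) := by
  change BC.lift (gB.comp φ) (iota2 φ gB) (BC.castHom hc (BC.push gA φ (BC.tmul gA u x))) = _
  rw [BC.push_tmul, BC.castHom_tmul, BC.lift_tmul, iota2_apply, BC.smul_tmul, mul_one]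

theorem bcTw_smul (gA : A →+* A) (gB : B →+* B) (hc : φ.comp gA = gB.comp φ) (a : A)
    (z : BC gA P) : bcTw φ gA gB hc (a • z) = φ a • bcTw φ gA gB hc z := by
  change BC.lift (gB.comp φ) (iota2 φ gB) (BC.castHom hc (BC.push gA φ (a • z))) =
    φ a • BC.lift (gB.comp φ) (iota2 φ gB) (BC.castHom hc (BC.push gA φ z))
  rw [map_smulₛₗ, map_smul, map_smul]

theorem bcTw_castHom {gA gA' : A →+* A} {gB gB' : B →+* B} (eA : gA = gA') (eB : gB = gB')
    (hc : φ.comp gA = gB.comp φ) (hc' : φ.comp gA' = gB'.comp φ) (z : BC gA P) :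
    bcTw φ gA' gB' hc' (BC.castHom eA z) = BC.castHom eB (bcTw φ gA gB hc z) := by
  subst eA; subst eB; rfl

theorem bcTw_mem (gA : A →+* A) (gB : B →+* B) (hc : φ.comp gA = gB.comp φ) (J : Ideal A)
    (z : BC gA P) (hz : z ∈ J • (⊤ : Submodule A (BC gA P))) :
    bcTw φ gA gB hc z ∈ (J.map φ) • (⊤ : Submodule B (BC gB (BC φ P))) := by
  refine Submodule.smul_induction_on hz (fun c hc' y _ => ?_) (fun y₁ y₂ h₁ h₂ => ?_)
  · rw [bcTw_smul]
    exact Submodule.smul_mem_smul (Ideal.mem_map_of_mem φ hc') Submodule.mem_top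
  · rw [map_add]; exact add_mem h₁ h₂

theorem push_bcTw (gA hA : A →+* A) (gB hB : B →+* B) (hc : φ.comp gA = gB.comp φ)
    (hc' : φ.comp hA = hB.comp φ) (hc'' : φ.comp (hA.comp gA) = (hB.comp gB).comp φ)
    (t : BC gA P) :
    BC.push gB hB (bcTw φ gA gB hc t) = bcTw φ (hA.comp gA) (hB.comp gB) hc'' (BC.push gA hA t) := by
  induction t using BC.induction_on gA with
  | zero => rw [map_zero, map_zero, map_zero, map_zero]
  | tmul v q =>
    rw [bcTw_tmul, BC.push_tmul, BC.push_tmul, bcTw_tmul]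
    have : hB (φ v) = φ (hA v) := by
      have := congrArg (fun r : A →+* B => r v) hc'
      exact this.symm
    rw [this]
  | add z₁ z₂ h₁ h₂ => rw [map_add, map_add, map_add, map_add, h₁, h₂]

theorem Psi_bcTw (gA hA : A →+* A) (gB hB : B →+* B) (hc : φ.comp gA = gB.comp φ)
    (hc' : φ.comp hA = hB.comp φ) (hc'' : φ.comp (hA.comp gA) = (hB.comp gB).comp φ)
    (ψA : P →ₗ[A] BC gA P) (ψB : BC φ P →ₗ[B] BC gB (BC φ P))
    (hψ : ∀ y, ψB (BC.tmul φ 1 y) = bcTw φ gA gB hc (ψA y)) (z : BC hA P) :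
    Psi hB ψB (bcTw φ hA hB hc' z) =
      bcTw φ (hA.comp gA) (hB.comp gB) hc'' (Psi hA ψA z) := by
  induction z using BC.induction_on hA with
  | zero => rw [map_zero, map_zero, map_zero, map_zero]
  | tmul u y =>
    rw [bcTw_tmul, Psi_tmul, Psi_tmul, hψ, bcTw_smul, push_bcTw φ gA hA gB hB hc hc' hc'']
  | add z₁ z₂ h₁ h₂ => rw [map_add, map_add, map_add, map_add, h₁, h₂]

/-- base change of a twisted linear map `ψA : P → A ⊗_{gA} P` to `B ⊗_φ P → B ⊗_{gB} (B ⊗_φ P)`. -/
def bcMapTw (gA : A →+* A) (gB : B →+* B) (hc : φ.comp gA = gB.comp φ) (ψA : P →ₗ[A] BC gA P) :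
    BC φ P →ₗ[B] BC gB (BC φ P) :=
  BC.lift φ
    { toFun := fun x => bcTw φ gA gB hc (ψA x)
      map_add' := fun x y => by rw [map_add, map_add]
      map_smul' := fun a x => by rw [map_smul, bcTw_smul] }

theorem bcMapTw_tmul (gA : A →+* A) (gB : B →+* B) (hc : φ.comp gA = gB.comp φ)
    (ψA : P →ₗ[A] BC gA P) (w : B) (x : P) :
    bcMapTw φ gA gB hc ψA (BC.tmul φ w x) = w • bcTw φ gA gB hc (ψA x) := by
  rw [bcMapTw, BC.lift_tmul]; rfl

end General

section Witt

variable {p : ℕ} [Fact p.Prime] {S R : Type u} [CommRing S] [CommRing R] (f : S →+* R)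
variable {P : Type v} [AddCommGroup P] [Module (WittVector p S) P]

local notation "σS" => (WittVector.frobenius : WittVector p S →+* WittVector p S)
local notation "σR" => (WittVector.frobenius : WittVector p R →+* WittVector p R)
local notation "φ" => (WittVector.map f : WittVector p S →+* WittVector p R)

theorem map_comp_frobenius : RingHom.comp φ σS = RingHom.comp σR φ := by
  ext1 x
  exact (WittVector.frobenius_isPoly p).map f x

theorem map_comp_frobenius_pow (n : ℕ) : RingHom.comp φ (σS ^ n) = RingHom.comp (σR ^ n) φ := by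
  induction n with
  | zero => rfl
  | succ n ih =>
    rw [pow_succ, pow_succ, RingHom.mul_def, RingHom.mul_def, ← RingHom.comp_assoc, ih,
      RingHom.comp_assoc, map_comp_frobenius, RingHom.comp_assoc]

/-- the base change of `V^#`. -/
def VsR (Vs : P →ₗ[WittVector p S] BC σS P) :
    BC φ P →ₗ[WittVector p R] BC σR (BC φ P) :=
  bcMapTw φ σS σR (map_comp_frobenius f) Vs

theorem VsR_tmul (Vs : P →ₗ[WittVector p S] BC σS P) (w : WittVector p R) (x : P) :
    VsR f Vs (BC.tmul φ w x) = w • bcTw φ σS σR (map_comp_frobenius f) (Vs x) :=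
  bcMapTw_tmul _ _ _ _ _ _ _

theorem vSharpPow_VsR (Vs : P →ₗ[WittVector p S] BC σS P) (n : ℕ) (y : P) :
    vSharpPow (VsR f Vs) n (BC.tmul φ 1 y) =
      bcTw φ (σS ^ (n + 1)) (σR ^ (n + 1)) (map_comp_frobenius_pow f (n + 1))
        (vSharpPow Vs n y) := by
  induction n generalizing y with
  | zero =>
    rw [vSharpPow_zero_apply, vSharpPow_zero_apply, VsR_tmul, one_smul]
    exact (bcTw_castHom φ (pow_one σS).symm (pow_one σR).symm (map_comp_frobenius f) _ _).symm
  | succ n ih =>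
    rw [vSharpPow_succ_eq, vSharpPow_succ_eq, star_apply, star_apply, VsR_tmul, one_smul]
    have hc'' : RingHom.comp φ (RingHom.comp σS (σS ^ (n + 1))) =
        RingHom.comp (RingHom.comp σR (σR ^ (n + 1))) φ := by
      rw [comp_pow_eq_pow_succ, comp_pow_eq_pow_succ]; exact map_comp_frobenius_pow f (n + 1 + 1)
    rw [Psi_bcTw φ (σS ^ (n + 1)) σS (σR ^ (n + 1)) σR (map_comp_frobenius_pow f (n + 1))
      (map_comp_frobenius f) hc'' (vSharpPow Vs n) (vSharpPow (VsR f Vs) n) ih]
    exact (bcTw_castHom φ (comp_pow_eq_pow_succ σS (n + 1)) (comp_pow_eq_pow_succ σR (n + 1))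
      hc'' _ _).symm

theorem map_IV_sup_le :
    (W4c1extbt610.IV p S ⊔ Ideal.span {(p : WittVector p S)}).map φ ≤
      W4c1extbt610.IV p R ⊔ Ideal.span {(p : WittVector p R)} := by
  rw [Ideal.map_le_iff_le_comap]
  refine sup_le ?_ ?_
  · rw [W4c1extbt610.IV, Ideal.span_le]
    rintro _ ⟨w, rfl⟩
    change φ (WittVector.verschiebung w) ∈
      W4c1extbt610.IV p R ⊔ Ideal.span {(p : WittVector p R)}
    rw [WittVector.map_verschiebung]
    exact Ideal.mem_sup_left (W4c1extbt610.verschiebung_mem_IV p R _)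
  · rw [Ideal.span_le]
    rintro _ rfl
    change φ (p : WittVector p S) ∈
      W4c1extbt610.IV p R ⊔ Ideal.span {(p : WittVector p R)}
    rw [map_natCast]
    exact Ideal.mem_sup_right (Ideal.mem_span_singleton_self _)

theorem isVNilpotent_VsR (Vs : P →ₗ[WittVector p S] BC σS P) (h : IsVNilpotent Vs) :
    IsVNilpotent (VsR f Vs) := by
  obtain ⟨n, hn⟩ := h
  refine ⟨n, fun z => ?_⟩
  induction z using BC.induction_on φ with
  | zero => rw [map_zero]; exact zero_mem _
  | tmul w y =>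
    rw [BC.tmul_eq_smul_tmul_one, map_smul, vSharpPow_VsR]
    exact Submodule.smul_mem _ _
      (Submodule.smul_mono_left (map_IV_sup_le f) (bcTw_mem φ _ _ _ _ _ (hn y)))
  | add z₁ z₂ h₁ h₂ => rw [map_add]; exact add_mem h₁ h₂

end Witt
section Gen
variable {A B C : Type u} [CommRing A] [CommRing B] [CommRing C] (φ : A →+* B) (h : B →+* C)
variable {P : Type v} [AddCommGroup P] [Module A P]

/-- `h` as an `A`-linear map `Res φ → Res (h ∘ φ)`. -/
def resMap : Res φ →ₗ[A] Res (h.comp φ) where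
  toFun t := Res.mk (h.comp φ) (h t.val)
  map_add' s t := by apply Res.ext; simp
  map_smul' a t := by apply Res.ext; simp

theorem push_eq_rTensor (z : BC φ P) :
    BC.push φ h z = (LinearMap.rTensor P (resMap φ h)) z := by
  induction z using BC.induction_on φ with
  | zero => rw [map_zero]; exact (map_zero _).symm
  | tmul b x =>
    rw [BC.push_tmul]
    change _ = (LinearMap.rTensor P (resMap φ h)) ((Res.mk φ b) ⊗ₜ[A] x)
    rw [LinearMap.rTensor_tmul]
    rfl
  | add z₁ z₂ h₁ h₂ =>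
    rw [map_add, h₁, h₂]
    exact (map_add (LinearMap.rTensor P (resMap φ h)) z₁ z₂).symm

theorem map_eq_lTensor {P' : Type v} [AddCommGroup P'] [Module A P'] (ψ : P →ₗ[A] P')
    (z : BC φ P) :
    BC.map φ ψ z = (LinearMap.lTensor (Res φ) ψ) z := by
  induction z using BC.induction_on φ with
  | zero => rw [map_zero]; exact (map_zero _).symm
  | tmul b x =>
    rw [BC.map_tmul]
    change _ = (LinearMap.lTensor (Res φ) ψ) ((Res.mk φ b) ⊗ₜ[A] x)
    rw [LinearMap.lTensor_tmul]
    rfl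
  | add z₁ z₂ h₁ h₂ =>
    rw [map_add, h₁, h₂]
    exact (map_add (LinearMap.lTensor (Res φ) ψ) z₁ z₂).symm

/-- Tensor-level version of `ker_induction`. -/
theorem ker_induction_aux (hh : Function.Surjective h) (Q : Submodule A P)
    {motive : Res φ ⊗[A] P → Prop}
    (z : Res φ ⊗[A] P)
    (hz : (LinearMap.rTensor (P ⧸ Q) (resMap φ h)) ((LinearMap.lTensor (Res φ) Q.mkQ) z) = 0)
    (h0 : motive 0) (hadd : ∀ a b, motive a → motive b → motive (a + b))
    (h1 : ∀ (b : Res φ) (y : P), y ∈ Q → motive (b ⊗ₜ[A] y))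
    (h2 : ∀ (v : Res φ) (x : P), h v.val = 0 → motive (v ⊗ₜ[A] x)) : motive z := by
  have hℓ : Function.Surjective (resMap φ h) := by
    intro t
    obtain ⟨b, hb⟩ := hh t.val
    exact ⟨Res.mk φ b, Res.ext (h.comp φ) hb⟩
  have key1 : ∀ t' : (LinearMap.ker (resMap φ h)) ⊗[A] P,
      motive ((LinearMap.rTensor P (LinearMap.ker (resMap φ h)).subtype) t') := by
    intro t'
    induction t' using TensorProduct.induction_on with
    | zero => rw [map_zero]; exact h0
    | tmul v x =>
      rw [LinearMap.rTensor_tmul]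
      refine h2 v.1 x ?_
      have := v.2
      rw [LinearMap.mem_ker] at this
      exact this
    | add a b ha hb => rw [map_add]; exact hadd _ _ ha hb
  have key2 : ∀ q' : Res φ ⊗[A] Q, motive ((LinearMap.lTensor (Res φ) Q.subtype) q') := by
    intro q'
    induction q' using TensorProduct.induction_on with
    | zero => rw [map_zero]; exact h0
    | tmul m y =>
      rw [LinearMap.lTensor_tmul]
      exact h1 m y.1 y.2
    | add a b ha hb => rw [map_add]; exact hadd _ _ ha hb
  have ex1 := rTensor_exact (P ⧸ Q) (LinearMap.exact_subtype_ker_map (resMap φ h)) hℓ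
  have ex2 := lTensor_exact (Res φ) (LinearMap.exact_subtype_mkQ Q) (Submodule.mkQ_surjective Q)
  obtain ⟨t, ht⟩ := (ex1 _).mp hz
  obtain ⟨t', rfl⟩ := LinearMap.lTensor_surjective (LinearMap.ker (resMap φ h))
    (Submodule.mkQ_surjective Q) t
  have hcomm : (LinearMap.rTensor (P ⧸ Q) (LinearMap.ker (resMap φ h)).subtype)
      ((LinearMap.lTensor (LinearMap.ker (resMap φ h)) Q.mkQ) t') =
      (LinearMap.lTensor (Res φ) Q.mkQ)
        ((LinearMap.rTensor P (LinearMap.ker (resMap φ h)).subtype) t') := by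
    rw [← LinearMap.comp_apply, ← LinearMap.comp_apply, LinearMap.rTensor_comp_lTensor,
      LinearMap.lTensor_comp_rTensor]
  rw [hcomm] at ht
  have hz2 : (LinearMap.lTensor (Res φ) Q.mkQ)
      (z - (LinearMap.rTensor P (LinearMap.ker (resMap φ h)).subtype) t') = 0 := by
    rw [map_sub, ht, sub_self]
  obtain ⟨q', hq'⟩ := (ex2 _).mp hz2
  have hzeq : z = (LinearMap.rTensor P (LinearMap.ker (resMap φ h)).subtype) t' +
      (LinearMap.lTensor (Res φ) Q.subtype) q' := by
    rw [hq']; abel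
  rw [hzeq]
  exact hadd _ _ (key1 t') (key2 q')

/-- Generation of the kernel of `B ⊗_φ P → C ⊗_{hφ} (P/Q)` (`h` surjective): it is generated by
`b ⊗ y` (`y ∈ Q`) and `v ⊗ x` (`h v = 0`). -/
theorem ker_induction (hh : Function.Surjective h) (Q : Submodule A P) {motive : BC φ P → Prop}
    (z : BC φ P) (hz : BC.push φ h (BC.map φ Q.mkQ z) = 0)
    (h0 : motive 0) (hadd : ∀ a b, motive a → motive b → motive (a + b))
    (h1 : ∀ (b : B) (y : P), y ∈ Q → motive (BC.tmul φ b y))
    (h2 : ∀ (v : B) (x : P), h v = 0 → motive (BC.tmul φ v x)) : motive z := by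
  rw [push_eq_rTensor, map_eq_lTensor] at hz
  exact ker_induction_aux φ h hh Q (motive := motive) z hz h0 hadd
    (fun b y hy => h1 b.val y hy) (fun v x hv => h2 v.val x hv)

end Gen

section WittB

variable {p : ℕ} [Fact p.Prime] {S R : Type u} [CommRing S] [CommRing R] (f : S →+* R)
variable {P : Type v} [AddCommGroup P] [Module (WittVector p S) P]

local notation "σS" => (WittVector.frobenius : WittVector p S →+* WittVector p S)
local notation "σR" => (WittVector.frobenius : WittVector p R →+* WittVector p R)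
local notation "φ" => (WittVector.map f : WittVector p S →+* WittVector p R)

theorem exists_verschiebung_of_constantCoeff_eq_zero (v : WittVector p R)
    (hv : WittVector.constantCoeff v = 0) : ∃ w, v = WittVector.verschiebung w :=
  ⟨v.shift 1, WittVector.eq_iterate_verschiebung (n := 1) (by
    intro i hi
    obtain rfl : i = 0 := by omega
    exact hv)⟩

variable {f}

theorem tmul_mem_Q {D : W4c1extbt610.Display3n p S P}
    {DR : W4c1extbt610.Display3n p R (BC (WittVector.map f : WittVector p S →+* WittVector p R) P)}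
    (hDR : IsDispBaseChange f D DR) (w : WittVector p R) (y : P) (hy : y ∈ D.Q) :
    BC.tmul φ w y ∈ DR.Q := by
  have h0 : D.Q.mkQ y = 0 := by
    rw [Submodule.mkQ_apply]; exact (Submodule.Quotient.mk_eq_zero D.Q).mpr hy
  rw [hDR.Q_eq, LinearMap.mem_ker, bcQuotMap_tmul, h0, BC.tmul_zero]

theorem verschiebung_tmul_mem_Q {D : W4c1extbt610.Display3n p S P}
    {DR : W4c1extbt610.Display3n p R (BC (WittVector.map f : WittVector p S →+* WittVector p R) P)}
    (hDR : IsDispBaseChange f D DR) (w : WittVector p R) (x : P) :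
    BC.tmul φ (WittVector.verschiebung w) x ∈ DR.Q := by
  rw [hDR.Q_eq, LinearMap.mem_ker, bcQuotMap_tmul]
  have : WittVector.constantCoeff (WittVector.verschiebung w) = 0 :=
    WittVector.verschiebung_coeff_zero w
  rw [this, BC.zero_tmul]

theorem mem_Q_induction {D : W4c1extbt610.Display3n p S P}
    {DR : W4c1extbt610.Display3n p R (BC (WittVector.map f : WittVector p S →+* WittVector p R) P)}
    (hDR : IsDispBaseChange f D DR) {motive : BC φ P → Prop}
    (z : BC φ P) (hz : z ∈ DR.Q)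
    (h0 : motive 0) (hadd : ∀ a b, motive a → motive b → motive (a + b))
    (h1 : ∀ (w : WittVector p R) (y : P), y ∈ D.Q → motive (BC.tmul φ w y))
    (h2 : ∀ (w : WittVector p R) (x : P), motive (BC.tmul φ (WittVector.verschiebung w) x)) :
    motive z := by
  rw [hDR.Q_eq, LinearMap.mem_ker] at hz
  refine ker_induction φ (WittVector.constantCoeff : WittVector p R →+* R)
    (WittVector.constantCoeff_surjective p) D.Q z hz h0 hadd h1 (fun v x hv => ?_)
  obtain ⟨w, rfl⟩ := exists_verschiebung_of_constantCoeff_eq_zero v hv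
  exact h2 w x

theorem isVSharp_VsR {D : W4c1extbt610.Display3n p S P}
    {DR : W4c1extbt610.Display3n p R (BC (WittVector.map f : WittVector p S →+* WittVector p R) P)}
    {Vs : P →ₗ[WittVector p S] BC σS P} (hVs : IsVSharp D Vs)
    (hDR : IsDispBaseChange f D DR) : IsVSharp DR (VsR f Vs) := by
  have hF : ∀ x : P, Vs (D.F x) = (p : WittVector p S) • BC.tmul σS 1 x := by
    intro x
    have := hVs.app_smul_F 1 x
    rwa [one_smul] at this
  have hV : ∀ y : D.Q, Vs (D.Vinv y) = BC.tmul σS 1 (y : P) := by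
    intro y
    have := hVs.app_smul_Vinv 1 y
    rwa [one_smul] at this
  constructor
  · intro w z
    induction z using BC.induction_on φ with
    | zero => rw [map_zero, smul_zero, map_zero, BC.tmul_zero, smul_zero]
    | tmul u x =>
      rw [hDR.F_tmul, BC.smul_tmul, VsR_tmul, hF, bcTw_smul, bcTw_tmul, map_natCast, map_one,
        smul_comm, BC.tmul_eq_smul_tmul_one φ u x, ← BC.tmul_mul_apply,
        BC.tmul_eq_smul_tmul_one σR (w * σR u)]
    | add z₁ z₂ h₁ h₂ =>
      rw [map_add, smul_add, map_add, h₁, h₂, BC.tmul_add, smul_add]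
  · rintro w ⟨z, hz⟩
    have key : ∃ hz' : z ∈ DR.Q, VsR f Vs (w • DR.Vinv ⟨z, hz'⟩) = BC.tmul σR w z := by
      refine mem_Q_induction hDR (motive := fun z => ∃ hz' : z ∈ DR.Q,
        VsR f Vs (w • DR.Vinv ⟨z, hz'⟩) = BC.tmul σR w z) z hz ?_ ?_ ?_ ?_
      · refine ⟨zero_mem _, ?_⟩
        have : (⟨0, zero_mem _⟩ : DR.Q) = 0 := rfl
        rw [this, map_zero, smul_zero, map_zero, BC.tmul_zero]
      · rintro a b ⟨ha, ea⟩ ⟨hb, eb⟩
        refine ⟨add_mem ha hb, ?_⟩
        have : (⟨a + b, add_mem ha hb⟩ : DR.Q) = ⟨a, ha⟩ + ⟨b, hb⟩ := rfl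
        rw [this, map_add, smul_add, map_add, ea, eb, BC.tmul_add]
      · intro u y hy
        refine ⟨tmul_mem_Q hDR u y hy, ?_⟩
        rw [hDR.Vinv_tmul u ⟨y, hy⟩ (tmul_mem_Q hDR u y hy), BC.smul_tmul, VsR_tmul, hV, bcTw_tmul,
          map_one, BC.smul_tmul, mul_one, BC.tmul_mul_apply, BC.smul_tmul, mul_one]
      · intro u x
        refine ⟨verschiebung_tmul_mem_Q hDR u x, ?_⟩
        rw [hDR.Vinv_verschiebung_tmul u x (verschiebung_tmul_mem_Q hDR u x), BC.smul_tmul,
          VsR_tmul, hF, bcTw_smul, bcTw_tmul, map_natCast, map_one, BC.smul_tmul, BC.smul_tmul,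
          mul_one, BC.tmul_eq_smul_tmul_one φ (WittVector.verschiebung u) x,
          ← BC.tmul_mul_apply, WittVector.frobenius_verschiebung]
        congr 1
        ring
    obtain ⟨_, e⟩ := key
    exact e

theorem isDisplay_baseChange {D : W4c1extbt610.Display3n p S P}
    {DR : W4c1extbt610.Display3n p R (BC (WittVector.map f : WittVector p S →+* WittVector p R) P)}
    (hD : IsDisplay D) (hDR : IsDispBaseChange f D DR) : IsDisplay DR := by
  obtain ⟨Vs, hVs, hnil⟩ := hD
  exact ⟨VsR f Vs, isVSharp_VsR hVs hDR, isVNilpotent_VsR f Vs hnil⟩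

end WittB

end Groth.Agent.Lib.DispBC76
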