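import Mathlib
import Groth.Prelude.Def_Dieu

/-!
# Ranks of finite projective modules, ring endomorphisms fixing idempotents, twisted base change

* `rankAtStalk_comap_eq` : if `σ : A →+* A` fixes every idempotent then the rank function of a
  finite projective module is invariant under `Spec σ`.
* `injective_of_surjective_of_rankAtStalk_eq` : a surjective linear map between finite projective
  modules with equal rank functions is injective.
* `bcEquiv` : `Dieu.BC (algebraMap A B) P ≃ₗ[B] B ⊗[A] P`; `finite_BC`, `projective_BC`,
  `rankAtStalk_BC`.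
* `bijective_of_surjective_BC` : for `σ : A →+* A` fixing idempotents and `P` finite projective,
  a surjective `A`-linear map `A ⊗_{σ,A} P → P` is bijective.
-/

set_option autoImplicit false
universe u v w

noncomputable section
namespace Groth.Agent.Lib.RankFix76

open Dieu TensorProduct

section Rank

variable {A : Type u} [CommRing A]

theorem rankAtStalk_comap_eq (σ : A →+* A) (hσ : ∀ e : A, IsIdempotentElem e → σ e = e)
    (M : Type v) [AddCommGroup M] [Module A M] [Module.Finite A M] [Module.Projective A M]
    (𝔭 : PrimeSpectrum A) :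
    Module.rankAtStalk M (𝔭.comap σ) = Module.rankAtStalk M 𝔭 := by
  have := Module.finitePresentation_of_projective A M
  have hlc := Module.isLocallyConstant_rankAtStalk (R := A) (M := M)
  have hcl : IsClopen (Module.rankAtStalk (R := A) M ⁻¹' {Module.rankAtStalk M 𝔭}) :=
    hlc.isClopen_fiber _
  obtain ⟨e, he, hs⟩ := PrimeSpectrum.isClopen_iff.mp hcl
  have h1 : 𝔭 ∈ Module.rankAtStalk (R := A) M ⁻¹' {Module.rankAtStalk M 𝔭} := rfl
  rw [hs] at h1
  have h2 : 𝔭.comap σ ∈ (PrimeSpectrum.basicOpen e : Set (PrimeSpectrum A)) := by
    change e ∉ 𝔭.asIdeal at h1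
    change σ e ∉ 𝔭.asIdeal
    rwa [hσ e he]
  rw [← hs] at h2
  exact h2

theorem injective_of_surjective_of_rankAtStalk_eq
    {M : Type v} {N : Type w} [AddCommGroup M] [Module A M] [AddCommGroup N] [Module A N]
    [Module.Finite A M] [Module.Projective A M] [Module.Finite A N] [Module.Projective A N]
    (f : M →ₗ[A] N) (hf : Function.Surjective f)
    (hr : Module.rankAtStalk (R := A) M = Module.rankAtStalk N) : Function.Injective f := by
  obtain ⟨g, hg⟩ := Module.projective_lifting_property f LinearMap.id hf
  have hg' : ∀ n, f (g n) = n := fun n => LinearMap.congr_fun hg n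
  let K := LinearMap.ker f
  let s : M →ₗ[A] K := (LinearMap.id - g ∘ₗ f).codRestrict K (by
    intro x
    rw [LinearMap.mem_ker, LinearMap.sub_apply, LinearMap.id_apply, LinearMap.comp_apply,
      map_sub, hg', sub_self])
  have hs : ∀ k : K, s k = k := by
    intro k
    apply Subtype.ext
    change (k : M) - g (f k) = k
    rw [LinearMap.mem_ker.mp k.2, map_zero, sub_zero]
  have : Module.Projective A K :=
    Module.Projective.of_split K.subtype s (LinearMap.ext hs)
  have : Module.Finite A K := Module.Finite.of_surjective s (fun k => ⟨k, hs k⟩)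
  let e : M ≃ₗ[A] N × K :=
    { toFun := fun x => (f x, s x)
      map_add' := fun x y => by rw [map_add, map_add]; rfl
      map_smul' := fun a x => by rw [map_smul, map_smul]; rfl
      invFun := fun nk => g nk.1 + nk.2
      left_inv := fun x => by
        change g (f x) + (x - g (f x)) = x
        abel
      right_inv := fun nk => by
        obtain ⟨n, k⟩ := nk
        have h1 : f (g n + (k : M)) = n := by
          rw [map_add, hg', LinearMap.mem_ker.mp k.2, add_zero]
        have h2 : s (g n + (k : M)) = k := by
          apply Subtype.ext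
          change (g n + (k : M)) - g (f (g n + (k : M))) = k
          rw [h1]; abel
        exact Prod.ext h1 h2 }
  have h1 := Module.rankAtStalk_eq_of_equiv e
  rw [Module.rankAtStalk_prod, hr] at h1
  have h2 : Module.rankAtStalk (R := A) K = 0 := by
    ext 𝔭
    have := congrFun h1 𝔭
    simp only [Pi.add_apply] at this
    simp only [Pi.zero_apply]
    omega
  have h3 : Subsingleton K := Module.rankAtStalk_eq_zero_iff_subsingleton.mp h2
  rw [← LinearMap.ker_eq_bot]
  exact Submodule.eq_bot_of_subsingleton

end Rank

section BCAlg

variable {A : Type u} {B : Type v} [CommRing A] [CommRing B] [Algebra A B]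
variable (P : Type w) [AddCommGroup P] [Module A P]

/-- `x ↦ 1 ⊗ x`, semilinear along `algebraMap A B`. -/
def oneTmul : P →ₛₗ[algebraMap A B] B ⊗[A] P where
  toFun x := (1 : B) ⊗ₜ[A] x
  map_add' x y := TensorProduct.tmul_add _ _ _
  map_smul' a x := by
    rw [TensorProduct.tmul_smul, algebraMap_smul]

/-- The inverse of `bcEquiv` as an additive map. -/
def bcInv : B ⊗[A] P →+ BC (algebraMap A B) P :=
  TensorProduct.liftAddHom
    { toFun := fun b =>
        { toFun := fun x => BC.tmul (algebraMap A B) b x
          map_zero' := BC.tmul_zero _ _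
          map_add' := fun x y => BC.tmul_add _ _ _ _ }
      map_zero' := by ext x; exact BC.zero_tmul _ _
      map_add' := fun b c => by ext x; exact BC.add_tmul _ _ _ _ }
    (fun a b x => by
      change BC.tmul (algebraMap A B) (a • b) x = BC.tmul (algebraMap A B) b (a • x)
      rw [← BC.tmul_mul_apply, Algebra.smul_def, mul_comm])

theorem bcInv_tmul (b : B) (x : P) : bcInv P (b ⊗ₜ[A] x) = BC.tmul (algebraMap A B) b x := rfl

/-- The twisted base change `Dieu.BC (algebraMap A B) P` is the usual base change. -/
def bcEquiv : BC (algebraMap A B) P ≃ₗ[B] B ⊗[A] P :=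
  { BC.lift (algebraMap A B) (oneTmul P) with
    invFun := bcInv P
    left_inv := fun z => by
      change bcInv P (BC.lift (algebraMap A B) (oneTmul P) z) = z
      induction z using BC.induction_on (algebraMap A B) with
      | zero => rw [map_zero, map_zero]
      | tmul b x =>
        rw [BC.lift_tmul]
        change bcInv P (b • ((1 : B) ⊗ₜ[A] x)) = _
        rw [TensorProduct.smul_tmul', smul_eq_mul, mul_one, bcInv_tmul]
      | add z₁ z₂ h₁ h₂ => rw [map_add, map_add, h₁, h₂]
    right_inv := fun y => by
      change BC.lift (algebraMap A B) (oneTmul P) (bcInv P y) = y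
      induction y using TensorProduct.induction_on with
      | zero => rw [map_zero, map_zero]
      | tmul b x =>
        rw [bcInv_tmul, BC.lift_tmul]
        change b • ((1 : B) ⊗ₜ[A] x) = _
        rw [TensorProduct.smul_tmul', smul_eq_mul, mul_one]
      | add y₁ y₂ h₁ h₂ => rw [map_add, map_add, h₁, h₂] }

theorem finite_BC [Module.Finite A P] : Module.Finite B (BC (algebraMap A B) P) :=
  Module.Finite.equiv (bcEquiv P).symm

theorem projective_BC [Module.Projective A P] : Module.Projective B (BC (algebraMap A B) P) :=
  Module.Projective.of_equiv (bcEquiv P).symm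

theorem rankAtStalk_BC [Module.Finite A P] [Module.Flat A P] (𝔭 : PrimeSpectrum B) :
    Module.rankAtStalk (BC (algebraMap A B) P) 𝔭 =
      Module.rankAtStalk P (𝔭.comap (algebraMap A B)) := by
  rw [Module.rankAtStalk_eq_of_equiv (bcEquiv P), Module.rankAtStalk_baseChange]

end BCAlg

section Endo

variable {A : Type u} [CommRing A] (σ : A →+* A)
variable (P : Type w) [AddCommGroup P] [Module A P]

theorem finite_BC_endo [Module.Finite A P] : Module.Finite A (BC σ P) :=
  @finite_BC A A _ _ σ.toAlgebra P _ _ _

theorem projective_BC_endo [Module.Projective A P] : Module.Projective A (BC σ P) :=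
  @projective_BC A A _ _ σ.toAlgebra P _ _ _

theorem rankAtStalk_BC_endo [Module.Finite A P] [Module.Flat A P] (𝔭 : PrimeSpectrum A) :
    Module.rankAtStalk (BC σ P) 𝔭 = Module.rankAtStalk P (𝔭.comap σ) :=
  @rankAtStalk_BC A A _ _ σ.toAlgebra P _ _ _ _ 𝔭

/-- For `σ` fixing the idempotents of `A` and `P` finite projective, every surjective `A`-linear
map `A ⊗_{σ,A} P → P` is bijective (comparison of ranks). -/
theorem bijective_of_surjective_BC (hσ : ∀ e : A, IsIdempotentElem e → σ e = e)
    [Module.Finite A P] [Module.Projective A P]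
    (Φ : BC σ P →ₗ[A] P) (hΦ : Function.Surjective Φ) : Function.Bijective Φ := by
  have := finite_BC_endo σ P
  have := projective_BC_endo σ P
  refine ⟨injective_of_surjective_of_rankAtStalk_eq Φ hΦ ?_, hΦ⟩
  ext 𝔭
  rw [rankAtStalk_BC_endo, rankAtStalk_comap_eq σ hσ]

end Endo

end Groth.Agent.Lib.RankFix76
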