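import Mathlib
import Groth.Agent.Lib.VSharpComp76

/-!
# Witt vectors of a ring in which `p` is nilpotent: Frobenius fixes the idempotents

* `frobenius_teichmuller` : `F [a] = [a ^ p]` over any commutative ring.
* `eq_zero_of_cube_eq_self` : `d ∈ V W(R)` with `d ^ 3 = d` vanishes when `p` is nilpotent in `R`.
* `eq_teichmuller_of_isIdempotentElem` : an idempotent of `W(R)` is the Teichmüller lift of its
  zeroth component (`p` nilpotent in `R`).
* `frobenius_eq_self_of_isIdempotentElem` : `F e = e` for idempotents (`p` nilpotent in `R`).
-/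

set_option autoImplicit false
universe u

noncomputable section
namespace Groth.Agent.Lib.WittNilp76

open WittVector

variable {p : ℕ} [hp : Fact p.Prime] {R : Type u} [CommRing R]

theorem frobenius_teichmuller_aux₁ {σ : Type*} (x : MvPolynomial σ ℚ) :
    frobenius (teichmuller p x) = teichmuller p (x ^ p) := by
  apply (ghostMap.bijective_of_invertible p (MvPolynomial σ ℚ)).1
  ext1 n
  simp only [ghostMap_apply, ghostComponent_frobenius, ghostComponent_teichmuller, ← pow_mul,
    pow_succ']

theorem frobenius_teichmuller_aux₂ {σ : Type*} (x : MvPolynomial σ ℤ) :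
    frobenius (teichmuller p x) = teichmuller p (x ^ p) := by
  refine map_injective (MvPolynomial.map (Int.castRingHom ℚ))
    (MvPolynomial.map_injective _ Int.cast_injective) ?_
  rw [(WittVector.frobenius_isPoly p).map, map_teichmuller, map_teichmuller, map_pow,
    frobenius_teichmuller_aux₁]

/-- `F [a] = [a ^ p]`. -/
theorem frobenius_teichmuller (a : R) :
    frobenius (teichmuller p a) = teichmuller p (a ^ p) := by
  rcases MvPolynomial.counit_surjective R a with ⟨x, rfl⟩
  rw [← map_teichmuller, ← (WittVector.frobenius_isPoly p).map, frobenius_teichmuller_aux₂,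
    map_teichmuller, map_pow]

theorem eq_zero_of_forall_mem_ker_truncate (x : WittVector p R)
    (hx : ∀ n, x ∈ RingHom.ker (WittVector.truncate (p := p) (R := R) n)) : x = 0 := by
  ext i
  rw [WittVector.zero_coeff]
  exact (WittVector.mem_ker_truncate _ _).mp (hx (i + 1)) i (Nat.lt_succ_self i)

theorem verschiebung_mul_verschiebung (x y : WittVector p R) :
    verschiebung x * verschiebung y = (p : WittVector p R) * verschiebung (x * y) := by
  rw [← verschiebung_mul_frobenius, frobenius_verschiebung, ← mul_assoc,
    ← nsmul_eq_mul' (x * y) p, map_nsmul, nsmul_eq_mul]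

variable (hp' : IsNilpotent (p : R))
include hp'

theorem eq_zero_of_cube_eq_self (d : WittVector p R) (h0 : constantCoeff d = 0)
    (h3 : d * (d * d) = d) : d = 0 := by
  obtain ⟨N, hN⟩ := hp'
  obtain ⟨z, hz⟩ : ∃ z, d = verschiebung z :=
    ⟨d.shift 1, eq_iterate_verschiebung (n := 1) (by
      intro i hi
      obtain rfl : i = 0 := by omega
      exact h0)⟩
  have hsq : d * d = (p : WittVector p R) * verschiebung (z * z) := by
    rw [hz, verschiebung_mul_verschiebung]
  have hk : ∀ k : ℕ, d = d * (d * d) ^ k := by
    intro k
    induction k with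
    | zero => rw [pow_zero, mul_one]
    | succ k ih => rw [pow_succ, ← mul_assoc, ← ih, h3]
  apply eq_zero_of_forall_mem_ker_truncate
  intro n
  rw [hk (N * n), hsq, mul_pow, mul_comm, mul_assoc]
  exact Ideal.mul_mem_right _ _ (Groth.Agent.Lib.VSharpComp76.pow_mem_ker_truncate N hN n)

theorem eq_teichmuller_of_isIdempotentElem (e : WittVector p R) (he : IsIdempotentElem e) :
    e = teichmuller p (constantCoeff e) := by
  have he₀ : IsIdempotentElem (constantCoeff e) := he.map constantCoeff
  have ht : IsIdempotentElem (teichmuller p (constantCoeff e)) := he₀.map (teichmuller p)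
  set t := teichmuller p (constantCoeff e) with htdef
  have h0 : constantCoeff (e - t) = 0 := by
    rw [map_sub, htdef]
    change constantCoeff e - (teichmuller p (constantCoeff e)).coeff 0 = 0
    rw [teichmuller_coeff_zero, sub_self]
  have h3 : (e - t) * ((e - t) * (e - t)) = e - t := by
    have h1 : e * e = e := he
    have h2 : t * t = t := ht
    have : (e - t) * ((e - t) * (e - t)) =
      e * e * e - 3 * (e * e) * t + 3 * e * (t * t) - t * t * t := by ring
    rw [this, h1, h1, h2, h2]; ring
  exact sub_eq_zero.mp (eq_zero_of_cube_eq_self hp' _ h0 h3)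

/-- If `p` is nilpotent in `R` then the Frobenius of `W(R)` fixes every idempotent. -/
theorem frobenius_eq_self_of_isIdempotentElem (e : WittVector p R) (he : IsIdempotentElem e) :
    frobenius e = e := by
  have he₀ : IsIdempotentElem (constantCoeff e) := he.map constantCoeff
  rw [eq_teichmuller_of_isIdempotentElem hp' e he, frobenius_teichmuller]
  congr 1
  exact he₀.pow_succ_eq (p - 1) |> fun h => by
    rwa [Nat.sub_add_cancel hp.1.one_le] at h

end Groth.Agent.Lib.WittNilp76
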