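import Mathlib
import Groth.Prelude.Def_Dieu
import Groth.Prelude.Def_Disp2
import Groth.Agent.Lib.WittNilp76
import Groth.Agent.Lib.RankFix76

/-!
# Existence and uniqueness of `V^#` for a 3n-display over a ring in which `p` is nilpotent

Zink, *The display of a formal p-divisible group*, Lemma 10.

* `mem_IV_iff` : `I_R = V W(R)`.
* `Q_induction` : `Q = L ⊕ I_R T` is generated by `L` and the `V w • t`.
* `phi`, `Phi` : the `σ`-linear map `V⁻¹ ⊕ F` on `L ⊕ T` and its linearisation (surjective, hence
  bijective by comparison of ranks).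
* `existsUnique_vSharp`.
-/

set_option autoImplicit false
universe u v

noncomputable section
namespace Groth.Agent.Lib.VSharpExist76

open Dieu W4c1extbt610 WittVector

variable {p : ℕ} [Fact p.Prime] {R : Type u} [CommRing R]
variable {P : Type v} [AddCommGroup P] [Module (WittVector p R) P]

local notation "σ" => (WittVector.frobenius : WittVector p R →+* WittVector p R)

theorem mem_IV_iff (a : WittVector p R) : a ∈ IV p R ↔ ∃ w, a = verschiebung w := by
  constructor
  · intro ha
    have h0 : constantCoeff a = 0 := by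
      have hle : IV p R ≤ RingHom.ker (constantCoeff : WittVector p R →+* R) := by
        rw [IV, Ideal.span_le]
        rintro _ ⟨w, rfl⟩
        exact verschiebung_coeff_zero w
      exact hle ha
    exact ⟨a.shift 1, eq_iterate_verschiebung (n := 1) (by
      intro i hi
      obtain rfl : i = 0 := by omega
      exact h0)⟩
  · rintro ⟨w, rfl⟩
    exact verschiebung_mem_IV p R w

theorem frobenius_verschiebung' (w : WittVector p R) :
    σ (verschiebung w) = w * (p : WittVector p R) := frobenius_verschiebung w

theorem Q_induction {D : Display3n p R P} {L T : Submodule (WittVector p R) P}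
    (hQ : D.Q = L ⊔ IV p R • T) (E : Submodule (WittVector p R) D.Q)
    (hL : ∀ y : D.Q, (y : P) ∈ L → y ∈ E)
    (hT : ∀ (y : D.Q) (w : WittVector p R) (t : P), t ∈ T → (y : P) = verschiebung w • t → y ∈ E)
    (y : D.Q) : y ∈ E := by
  have key : L ⊔ IV p R • T ≤ Submodule.map D.Q.subtype E := by
    refine sup_le ?_ ?_
    · intro l hl
      have hlQ : l ∈ D.Q := by rw [hQ]; exact Submodule.mem_sup_left hl
      exact ⟨⟨l, hlQ⟩, hL ⟨l, hlQ⟩ hl, rfl⟩
    · rw [Submodule.smul_le]
      intro a ha t ht
      obtain ⟨w, rfl⟩ := (mem_IV_iff a).mp ha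
      have hq : verschiebung w • t ∈ D.Q :=
        D.IV_smul_le (Submodule.smul_mem_smul ha Submodule.mem_top)
      exact ⟨⟨_, hq⟩, hT ⟨_, hq⟩ w t ht rfl, rfl⟩
  have hy : (y : P) ∈ L ⊔ IV p R • T := hQ ▸ y.2
  obtain ⟨y', hy', hyy'⟩ := key hy
  have : y' = y := Subtype.ext hyy'
  exact this ▸ hy'

/-- `F y = p • V⁻¹ y` for `y ∈ Q`. -/
theorem F_eq_p_smul_Vinv (D : Display3n p R P) (y : D.Q) :
    D.F (y : P) = (p : WittVector p R) • D.Vinv y := by
  have h1 := D.Vinv_verschiebung_smul 1 (y : P)
  rw [one_smul] at h1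
  rw [← h1]
  have : (⟨verschiebung (1 : WittVector p R) • (y : P),
      D.IV_smul_le (Submodule.smul_mem_smul (verschiebung_mem_IV p R 1) Submodule.mem_top)⟩ : D.Q)
      = verschiebung (1 : WittVector p R) • y := Subtype.ext rfl
  rw [this, LinearMap.map_smulₛₗ, frobenius_verschiebung', one_mul]

section Construction

variable (D : Display3n p R P) {L T : Submodule (WittVector p R) P} (h : IsCompl L T)
  (hLQ : L ≤ D.Q)

/-- The `σ`-linear map `V⁻¹ ∘ pr_L + F ∘ pr_T`. -/
def phi : P →ₛₗ[σ] P :=
  D.Vinv.comp ((Submodule.inclusion hLQ).comp (L.projectionOnto T h)) +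
    D.F.comp (T.projection L h.symm)

theorem phi_apply (x : P) :
    phi D h hLQ x = D.Vinv (Submodule.inclusion hLQ (L.projectionOnto T h x)) +
      D.F (T.projection L h.symm x) := rfl

theorem phi_of_mem_L {l : P} (hl : l ∈ L) : phi D h hLQ l = D.Vinv ⟨l, hLQ hl⟩ := by
  rw [phi_apply, Submodule.projectionOnto_apply_of_mem_left h hl,
    Submodule.projection_apply_of_mem_right h.symm hl, map_zero, add_zero]
  rfl

theorem phi_of_mem_T {t : P} (ht : t ∈ T) : phi D h hLQ t = D.F t := by
  rw [phi_apply, Submodule.projectionOnto_apply_of_mem_right h ht,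
    Submodule.projection_apply_of_mem_left h.symm ht, map_zero, map_zero, zero_add]

/-- `pr_L + p • pr_T`. -/
def psi : P →ₗ[WittVector p R] P :=
  L.projection T h + (p : WittVector p R) • T.projection L h.symm

theorem psi_of_mem_L {l : P} (hl : l ∈ L) : psi (p := p) h l = l := by
  rw [psi, LinearMap.add_apply, LinearMap.smul_apply, Submodule.projection_apply_of_mem_left h hl,
    Submodule.projection_apply_of_mem_right h.symm hl, smul_zero, add_zero]

theorem psi_of_mem_T {t : P} (ht : t ∈ T) : psi (p := p) h t = (p : WittVector p R) • t := by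
  rw [psi, LinearMap.add_apply, LinearMap.smul_apply, Submodule.projection_apply_of_mem_right h ht,
    Submodule.projection_apply_of_mem_left h.symm ht, zero_add]

theorem surjective_lift_phi (hQ : D.Q = L ⊔ IV p R • T) :
    Function.Surjective (BC.lift σ (phi D h hLQ)) := by
  rw [← LinearMap.range_eq_top, eq_top_iff, ← D.span_range_Vinv, Submodule.span_le]
  rintro _ ⟨y, rfl⟩
  let E : Submodule (WittVector p R) D.Q :=
    { carrier := {y | D.Vinv y ∈ LinearMap.range (BC.lift σ (phi D h hLQ))}
      add_mem' := by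
        intro a b ha hb
        simp only [Set.mem_ofPred_eq] at ha hb ⊢
        rw [map_add]
        exact add_mem ha hb
      zero_mem' := by
        simp only [Set.mem_ofPred_eq]
        rw [map_zero]
        exact zero_mem _
      smul_mem' := by
        intro c y hy
        simp only [Set.mem_ofPred_eq] at hy ⊢
        rw [LinearMap.map_smulₛₗ]
        exact Submodule.smul_mem _ _ hy }
  refine Q_induction hQ E ?_ ?_ y
  · intro y hy
    refine ⟨BC.tmul σ 1 (y : P), ?_⟩
    rw [BC.lift_tmul, one_smul, phi_of_mem_L D h hLQ hy]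
  · intro y w t ht hyt
    refine ⟨BC.tmul σ w t, ?_⟩
    rw [BC.lift_tmul, phi_of_mem_T D h hLQ ht, ← D.Vinv_verschiebung_smul]
    congr 1
    exact Subtype.ext hyt.symm

end Construction

theorem existsUnique_vSharp (hp : IsNilpotent (p : R)) (D : Display3n p R P) :
    ∃! Vs : P →ₗ[WittVector p R] BC σ P, IsVSharp D Vs := by
  obtain ⟨L, T, h, hQ⟩ := D.exists_normal
  have hLQ : L ≤ D.Q := by rw [hQ]; exact le_sup_left
  have := D.finite
  have := D.projective
  have hfix : ∀ e : WittVector p R, IsIdempotentElem e → σ e = e := fun e he =>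
    Groth.Agent.Lib.WittNilp76.frobenius_eq_self_of_isIdempotentElem hp e he
  have hsurj := surjective_lift_phi D h hLQ hQ
  have hbij := Groth.Agent.Lib.RankFix76.bijective_of_surjective_BC σ P hfix _ hsurj
  let Φ : BC σ P ≃ₗ[WittVector p R] P := LinearEquiv.ofBijective (BC.lift σ (phi D h hLQ)) hbij
  have hΦ : ∀ (w : WittVector p R) (x : P), Φ (BC.tmul σ w x) = w • phi D h hLQ x := fun w x =>
    BC.lift_tmul σ _ w x
  let Vs : P →ₗ[WittVector p R] BC σ P := (BC.map σ (psi (p := p) h)).comp Φ.symm.toLinearMap
  have hVs : ∀ (w : WittVector p R) (x : P), Vs (w • phi D h hLQ x) =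
      BC.tmul σ w (psi (p := p) h x) := by
    intro w x
    change BC.map σ (psi (p := p) h) (Φ.symm (w • phi D h hLQ x)) = _
    rw [← hΦ, LinearEquiv.symm_apply_apply, BC.map_tmul]
  have hp' : σ (p : WittVector p R) = (p : WittVector p R) := map_natCast σ p
  -- the second equation on generators
  have hV1 : ∀ y : D.Q, Vs (D.Vinv y) = BC.tmul σ 1 (y : P) := by
    let E : Submodule (WittVector p R) D.Q :=
      { carrier := {y | Vs (D.Vinv y) = BC.tmul σ 1 (y : P)}
        add_mem' := by
          intro a b ha hb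
          simp only [Set.mem_ofPred_eq] at ha hb ⊢
          rw [map_add, map_add, ha, hb, Submodule.coe_add, BC.tmul_add]
        zero_mem' := by
          simp only [Set.mem_ofPred_eq]
          rw [map_zero, map_zero, Submodule.coe_zero, BC.tmul_zero]
        smul_mem' := by
          intro c y hy
          simp only [Set.mem_ofPred_eq] at hy ⊢
          rw [LinearMap.map_smulₛₗ, map_smul, hy, BC.smul_tmul, mul_one, Submodule.coe_smul,
            BC.tmul_apply_eq] }
    refine Q_induction hQ E ?_ ?_
    · intro y hy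
      change Vs (D.Vinv y) = BC.tmul σ 1 (y : P)
      have := hVs 1 (y : P)
      rw [one_smul, phi_of_mem_L D h hLQ hy, psi_of_mem_L h hy] at this
      exact this
    · intro y w t ht hyt
      change Vs (D.Vinv y) = BC.tmul σ 1 (y : P)
      have h1 := hVs w t
      rw [phi_of_mem_T D h hLQ ht, psi_of_mem_T h ht, ← D.Vinv_verschiebung_smul] at h1
      have h2 : y = ⟨verschiebung w • t,
          D.IV_smul_le (Submodule.smul_mem_smul (verschiebung_mem_IV p R w) Submodule.mem_top)⟩ :=
        Subtype.ext hyt
      rw [h2, h1, ← BC.tmul_mul_apply, ← BC.tmul_mul_apply, hp', frobenius_verschiebung', one_mul]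
  have hF1 : ∀ x : P, Vs (D.F x) = (p : WittVector p R) • BC.tmul σ 1 x := by
    intro x
    have hx := Submodule.projection_add_projection_eq_self h x
    set l := L.projection T h x with hl
    set t := T.projection L h.symm x with ht
    have hlL : l ∈ L := Submodule.projection_apply_mem h x
    have htT : t ∈ T := Submodule.projection_apply_mem h.symm x
    have e1 : Vs (D.F l) = (p : WittVector p R) • BC.tmul σ 1 l := by
      have := F_eq_p_smul_Vinv D ⟨l, hLQ hlL⟩
      rw [show ((⟨l, hLQ hlL⟩ : D.Q) : P) = l from rfl] at this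
      rw [this, map_smul, hV1]
    have e2 : Vs (D.F t) = (p : WittVector p R) • BC.tmul σ 1 t := by
      have := hVs 1 t
      rw [one_smul, phi_of_mem_T D h hLQ htT, psi_of_mem_T h htT] at this
      rw [this, ← BC.tmul_mul_apply, hp', BC.smul_tmul, mul_comm]
    rw [← hx, map_add, map_add, e1, e2, BC.tmul_add, smul_add]
  have hIs : IsVSharp D Vs :=
    { app_smul_F := fun w x => by
        rw [map_smul, hF1, smul_comm, BC.smul_tmul, mul_one]
      app_smul_Vinv := fun w y => by
        rw [map_smul, hV1, BC.smul_tmul, mul_one] }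
  refine ⟨Vs, hIs, fun Vs' h' => ?_⟩
  refine LinearMap.ext_on D.span_range_Vinv ?_
  rintro _ ⟨y, rfl⟩
  have h1 := h'.app_smul_Vinv 1 y
  have h2 := hIs.app_smul_Vinv 1 y
  rw [one_smul] at h1 h2
  rw [h1, h2]

end Groth.Agent.Lib.VSharpExist76
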