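import Mathlib
import Groth.Prelude.Def_Dieu
import Groth.Prelude.Def_Disp2
import Groth.Agent.Lib.VSharpExist76

/-!
# The operator `V⁻¹ ⊗ G` on `I_R • N` for a flat `W(R)`-module `N`

For a `σ`-semilinear `G : N → N'` and `N` flat over `W = W(R)`, there is a well-defined map
`I_R • N → N'`, `V w • z ↦ w • G z` (because `V : W_σ → W` is an injective `W`-linear map, so
`W ⊗_σ N → N`, `w ⊗ z ↦ V w • z`, is injective).  We package it as a total function `Kfun G : N → N'`
which is additive and `σ`-semilinear on `I_R • N`.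
-/

set_option autoImplicit false
universe u v v'

noncomputable section
namespace Groth.Agent.Lib.DispBCExist76

open Dieu W4c1extbt610 WittVector TensorProduct

section VInv

variable {p : ℕ} [hp : Fact p.Prime] {R : Type u} [CommRing R]
variable {N : Type v} [AddCommGroup N] [Module (WittVector p R) N]
variable {N' : Type v'} [AddCommGroup N'] [Module (WittVector p R) N']

local notation "σ" => (WittVector.frobenius : WittVector p R →+* WittVector p R)

/-- The Verschiebung as a `W`-linear map `W_σ → W`. -/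
def Vlin : Res σ →ₗ[WittVector p R] WittVector p R where
  toFun t := verschiebung t.val
  map_add' s t := by rw [Res.val_add, map_add]
  map_smul' a t := by
    rw [Res.val_smul, RingHom.id_apply, smul_eq_mul, mul_comm (σ a), verschiebung_mul_frobenius,
      mul_comm]

theorem Vlin_apply (t : Res σ) : Vlin t = verschiebung t.val := rfl

theorem Vlin_injective : Function.Injective (Vlin : Res σ →ₗ[WittVector p R] WittVector p R) := by
  intro s t h
  exact Res.ext σ (verschiebung_injective p R h)

variable (N) in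
/-- `w ⊗ z ↦ V w • z`. -/
def kap : Res σ ⊗[WittVector p R] N →ₗ[WittVector p R] N :=
  (TensorProduct.lid (WittVector p R) N).toLinearMap ∘ₗ (Vlin.rTensor N)

theorem kap_tmul (t : Res σ) (z : N) : kap N (t ⊗ₜ[WittVector p R] z) = verschiebung t.val • z := by
  rw [kap, LinearMap.comp_apply, LinearMap.rTensor_tmul]
  exact TensorProduct.lid_tmul _ _

theorem kap_injective [Module.Flat (WittVector p R) N] :
    Function.Injective (kap (p := p) (R := R) N) := by
  rw [kap]
  exact (TensorProduct.lid (WittVector p R) N).injective.comp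
    (Module.Flat.rTensor_preserves_injective_linearMap Vlin Vlin_injective)

theorem range_kap : LinearMap.range (kap N) = IV p R • (⊤ : Submodule (WittVector p R) N) := by
  apply le_antisymm
  · rintro _ ⟨u, rfl⟩
    induction u using TensorProduct.induction_on with
    | zero => rw [map_zero]; exact zero_mem _
    | tmul t z =>
      rw [kap_tmul]
      exact Submodule.smul_mem_smul (verschiebung_mem_IV p R _) Submodule.mem_top
    | add a b ha hb => rw [map_add]; exact add_mem ha hb
  · rw [Submodule.smul_le]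
    intro a ha z _
    obtain ⟨w, rfl⟩ := (Groth.Agent.Lib.VSharpExist76.mem_IV_iff a).mp ha
    exact ⟨(Res.mk σ w) ⊗ₜ[WittVector p R] z, kap_tmul _ _⟩

/-- The linearisation of `G` as a `σ`-semilinear map on `W_σ ⊗ N` with its left `W`-structure. -/
def Gsharp (G : N →ₛₗ[σ] N') : Res σ ⊗[WittVector p R] N →ₛₗ[σ] N' :=
  TensorProduct.lift (BC.liftBil σ G)

theorem Gsharp_tmul (G : N →ₛₗ[σ] N') (t : Res σ) (z : N) :
    Gsharp G (t ⊗ₜ[WittVector p R] z) = t.val • G z :=
  TensorProduct.lift.tmul _ _

open Classical in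
/-- `V w • z ↦ w • G z` on `I_R • N`, zero elsewhere. -/
def Kfun (G : N →ₛₗ[σ] N') (ξ : N) : N' :=
  if h : ∃ u, kap N u = ξ then Gsharp G (Classical.choose h) else 0

variable [Module.Flat (WittVector p R) N]

theorem Kfun_kap (G : N →ₛₗ[σ] N') (u : Res σ ⊗[WittVector p R] N) :
    Kfun G (kap N u) = Gsharp G u := by
  have h : ∃ u', kap N u' = kap N u := ⟨u, rfl⟩
  rw [Kfun, dif_pos h]
  congr 1
  exact kap_injective (Classical.choose_spec h)

theorem Kfun_verschiebung_smul (G : N →ₛₗ[σ] N') (w : WittVector p R) (z : N) :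
    Kfun G (verschiebung w • z) = w • G z := by
  have : verschiebung w • z = kap N ((Res.mk σ w) ⊗ₜ[WittVector p R] z) := (kap_tmul _ _).symm
  rw [this, Kfun_kap, Gsharp_tmul]
  rfl

theorem Kfun_zero (G : N →ₛₗ[σ] N') : Kfun G (0 : N) = 0 := by
  have : (0 : N) = kap (p := p) (R := R) N 0 := (map_zero _).symm
  rw [this, Kfun_kap, map_zero]

theorem Kfun_add (G : N →ₛₗ[σ] N') {ξ η : N}
    (hξ : ξ ∈ IV p R • (⊤ : Submodule (WittVector p R) N))
    (hη : η ∈ IV p R • (⊤ : Submodule (WittVector p R) N)) :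
    Kfun G (ξ + η) = Kfun G ξ + Kfun G η := by
  rw [← range_kap] at hξ hη
  obtain ⟨u, rfl⟩ := hξ
  obtain ⟨v, rfl⟩ := hη
  rw [← map_add, Kfun_kap, Kfun_kap, Kfun_kap, map_add]

theorem Kfun_smul (G : N →ₛₗ[σ] N') (c : WittVector p R) {ξ : N}
    (hξ : ξ ∈ IV p R • (⊤ : Submodule (WittVector p R) N)) :
    Kfun G (c • ξ) = σ c • Kfun G ξ := by
  rw [← range_kap] at hξ
  obtain ⟨u, rfl⟩ := hξ
  rw [← map_smul, Kfun_kap, Kfun_kap, LinearMap.map_smulₛₗ]

end VInv

end Groth.Agent.Lib.DispBCExist76
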