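import Mathlib
import Groth.Prelude.Def_Dieu
import Groth.Prelude.Def_Disp2
import Groth.Agent.Lib.VSharpExist76
import Groth.Agent.Lib.RankFix76
import Groth.Agent.Lib.DispBC76
import Groth.Agent.Lib.DispBCExist76A

/-!
# Base change of a 3n-display: construction of `Q_R`, `F_R`, `V_R⁻¹`

* `twist f G` : `w ⊗ x ↦ σ w ⊗ G x` for a `σ`-semilinear `G : P → P`.
* `QR f Q` : the kernel of `P_R → R ⊗_S P/Q`; `QR_induction`.
* `Vfun` : `A + (V⁻¹ ⊗ F_R) ∘ pr_T`; additive and `σ`-semilinear on `Q_R`;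
  `Vfun_verschiebung_tmul`, `Vfun_tmul` (relations (26) of Zink).
-/

set_option autoImplicit false
universe u v

noncomputable section
namespace Groth.Agent.Lib.DispBCExist76

open Dieu W4c1extbt610 WittVector

variable {p : ℕ} [hp : Fact p.Prime] {S R : Type u} [CommRing S] [CommRing R] (f : S →+* R)
variable {P : Type v} [AddCommGroup P] [Module (WittVector p S) P]

local notation "σS" => (WittVector.frobenius : WittVector p S →+* WittVector p S)
local notation "σR" => (WittVector.frobenius : WittVector p R →+* WittVector p R)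
local notation "φ" => (WittVector.map f : WittVector p S →+* WittVector p R)

theorem phi_frobenius (a : WittVector p S) : φ (σS a) = σR (φ a) :=
  (WittVector.frobenius_isPoly p).map f a

theorem phi_verschiebung (a : WittVector p S) : φ (verschiebung a) = verschiebung (φ a) :=
  WittVector.map_verschiebung f a

theorem phi_mem_IV {a : WittVector p S} (ha : a ∈ IV p S) : φ a ∈ IV p R := by
  obtain ⟨s, rfl⟩ := (Groth.Agent.Lib.VSharpExist76.mem_IV_iff a).mp ha
  rw [phi_verschiebung]
  exact verschiebung_mem_IV p R _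

/-- `x ↦ 1 ⊗ G x`. -/
def twistAux (G : P →ₛₗ[σS] P) : P →ₛₗ[RingHom.comp σR φ] BC φ P where
  toFun x := BC.tmul φ 1 (G x)
  map_add' x y := by rw [map_add, BC.tmul_add]
  map_smul' a x := by
    rw [LinearMap.map_smulₛₗ, ← BC.tmul_apply_eq, phi_frobenius, BC.tmul_eq_smul_tmul_one]
    rfl

/-- `w ⊗ x ↦ σ w ⊗ G x`. -/
def twist (G : P →ₛₗ[σS] P) : BC φ P →ₛₗ[σR] BC φ P :=
  (BC.lift (RingHom.comp σR φ) (twistAux f G)).comp (BC.push φ σR)

theorem twist_tmul (G : P →ₛₗ[σS] P) (w : WittVector p R) (x : P) :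
    twist f G (BC.tmul φ w x) = BC.tmul φ (σR w) (G x) := by
  rw [twist, LinearMap.comp_apply, BC.push_tmul, BC.lift_tmul]
  change σR w • BC.tmul φ 1 (G x) = _
  rw [BC.smul_tmul, mul_one]

/-- `Q_R = ker (P_R → R ⊗_S P/Q)`. -/
def QR (Q : Submodule (WittVector p S) P) : Submodule (WittVector p R) (BC φ P) :=
  LinearMap.ker (bcQuotMap f Q)

theorem tmul_mem_QR {Q : Submodule (WittVector p S) P} (w : WittVector p R) {y : P} (hy : y ∈ Q) :
    BC.tmul φ w y ∈ QR f Q := by
  have h0 : Q.mkQ y = 0 := by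
    rw [Submodule.mkQ_apply]; exact (Submodule.Quotient.mk_eq_zero Q).mpr hy
  rw [QR, LinearMap.mem_ker, bcQuotMap_tmul, h0, BC.tmul_zero]

theorem verschiebung_tmul_mem_QR (Q : Submodule (WittVector p S) P) (w : WittVector p R) (x : P) :
    BC.tmul φ (verschiebung w) x ∈ QR f Q := by
  rw [QR, LinearMap.mem_ker, bcQuotMap_tmul]
  have : WittVector.constantCoeff (verschiebung w) = 0 := verschiebung_coeff_zero w
  rw [this, BC.zero_tmul]

theorem IV_smul_le_QR (Q : Submodule (WittVector p S) P) :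
    IV p R • (⊤ : Submodule (WittVector p R) (BC φ P)) ≤ QR f Q := by
  rw [Submodule.smul_le]
  intro a ha z hz
  clear hz
  obtain ⟨w, rfl⟩ := (Groth.Agent.Lib.VSharpExist76.mem_IV_iff a).mp ha
  induction z using BC.induction_on φ with
  | zero => rw [smul_zero]; exact zero_mem _
  | tmul u x =>
    rw [BC.smul_tmul, ← verschiebung_mul_frobenius]
    exact verschiebung_tmul_mem_QR f Q _ x
  | add z₁ z₂ h₁ h₂ => rw [smul_add]; exact add_mem h₁ h₂

theorem QR_induction {Q : Submodule (WittVector p S) P} {motive : BC φ P → Prop}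
    (z : BC φ P) (hz : z ∈ QR f Q)
    (h0 : motive 0) (hadd : ∀ a b, motive a → motive b → motive (a + b))
    (h1 : ∀ (w : WittVector p R) (y : P), y ∈ Q → motive (BC.tmul φ w y))
    (h2 : ∀ (w : WittVector p R) (x : P), motive (BC.tmul φ (verschiebung w) x)) :
    motive z := by
  rw [QR, LinearMap.mem_ker] at hz
  refine Groth.Agent.Lib.DispBC76.ker_induction φ
    (WittVector.constantCoeff : WittVector p R →+* R)
    (WittVector.constantCoeff_surjective p) Q z hz h0 hadd h1 (fun v x hv => ?_)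
  obtain ⟨w, rfl⟩ := Groth.Agent.Lib.DispBC76.exists_verschiebung_of_constantCoeff_eq_zero v hv
  exact h2 w x

theorem tmul_mem_IV_smul_top (w : WittVector p R) {x : P}
    (hx : x ∈ IV p S • (⊤ : Submodule (WittVector p S) P)) :
    BC.tmul φ w x ∈ IV p R • (⊤ : Submodule (WittVector p R) (BC φ P)) := by
  refine Submodule.smul_induction_on hx (fun a ha x' _ => ?_) (fun x₁ x₂ h₁ h₂ => ?_)
  · rw [← BC.tmul_mul_apply, mul_comm, ← BC.smul_tmul]
    exact Submodule.smul_mem_smul (phi_mem_IV f ha) Submodule.mem_top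
  · rw [BC.tmul_add]; exact add_mem h₁ h₂

section Normal

variable (D : Display3n p S P) {L T : Submodule (WittVector p S) P} (h : IsCompl L T)
  (hQ : D.Q = L ⊔ IV p S • T)

include hQ in
theorem L_le_Q : L ≤ D.Q := by rw [hQ]; exact le_sup_left

include hQ in
theorem projT_mem_of_mem_Q {y : P} (hy : y ∈ D.Q) :
    T.projection L h.symm y ∈ IV p S • (⊤ : Submodule (WittVector p S) P) := by
  rw [hQ] at hy
  obtain ⟨l, hl, z, hz, rfl⟩ := Submodule.mem_sup.mp hy
  have hzT : z ∈ T := Submodule.smul_le_right hz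
  rw [map_add, Submodule.projection_apply_of_mem_right h.symm hl,
    Submodule.projection_apply_of_mem_left h.symm hzT, zero_add]
  exact Submodule.smul_mono le_rfl le_top hz

include hQ in
theorem mapT_mem_of_mem_QR {z : BC φ P} (hz : z ∈ QR f D.Q) :
    BC.map φ (T.projection L h.symm) z ∈ IV p R • (⊤ : Submodule (WittVector p R) (BC φ P)) := by
  refine QR_induction f (motive := fun z => BC.map φ (T.projection L h.symm) z ∈
    IV p R • (⊤ : Submodule (WittVector p R) (BC φ P))) z hz ?_ ?_ ?_ ?_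
  · rw [map_zero]; exact zero_mem _
  · intro a b ha hb; rw [map_add]; exact add_mem ha hb
  · intro w y hy
    rw [BC.map_tmul]
    exact tmul_mem_IV_smul_top f w (projT_mem_of_mem_Q D h hQ hy)
  · intro w x
    rw [BC.map_tmul, BC.tmul_eq_smul_tmul_one]
    exact Submodule.smul_mem_smul (verschiebung_mem_IV p R w) Submodule.mem_top

/-- `V⁻¹ ∘ pr_L`, `σ`-semilinear on `P`. -/
def VL (hLQ : L ≤ D.Q) : P →ₛₗ[σS] P :=
  D.Vinv.comp ((Submodule.inclusion hLQ).comp (L.projectionOnto T h))

theorem VL_of_mem_L (hLQ : L ≤ D.Q) {l : P} (hl : l ∈ L) : VL D h hLQ l = D.Vinv ⟨l, hLQ hl⟩ := by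
  rw [VL, LinearMap.comp_apply, LinearMap.comp_apply,
    Submodule.projectionOnto_apply_of_mem_left h hl]
  rfl

theorem VL_of_mem_T (hLQ : L ≤ D.Q) {t : P} (ht : t ∈ T) : VL D h hLQ t = 0 := by
  rw [VL, LinearMap.comp_apply, LinearMap.comp_apply,
    Submodule.projectionOnto_apply_of_mem_right h ht, map_zero, map_zero]

theorem p_smul_VL (hLQ : L ≤ D.Q) (x : P) :
    (p : WittVector p S) • VL D h hLQ x = D.F (L.projection T h x) := by
  have hl : L.projection T h x ∈ L := Submodule.projection_apply_mem h x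
  have := Groth.Agent.Lib.VSharpExist76.F_eq_p_smul_Vinv D ⟨L.projection T h x, hLQ hl⟩
  rw [show ((⟨L.projection T h x, hLQ hl⟩ : D.Q) : P) = L.projection T h x from rfl] at this
  rw [this]
  rfl

variable [Module.Flat (WittVector p R)
  (BC (WittVector.map f : WittVector p S →+* WittVector p R) P)]

/-- The function underlying `V_R⁻¹`. -/
def Vfun (hLQ : L ≤ D.Q) (z : BC φ P) : BC φ P :=
  twist f (VL D h hLQ) z + Kfun (twist f D.F) (BC.map φ (T.projection L h.symm) z)

include hQ in
theorem Vfun_add (hLQ : L ≤ D.Q) {a b : BC φ P} (ha : a ∈ QR f D.Q) (hb : b ∈ QR f D.Q) :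
    Vfun f D h hLQ (a + b) = Vfun f D h hLQ a + Vfun f D h hLQ b := by
  rw [Vfun, Vfun, Vfun, map_add, map_add,
    Kfun_add _ (mapT_mem_of_mem_QR f D h hQ ha) (mapT_mem_of_mem_QR f D h hQ hb)]
  abel

include hQ in
theorem Vfun_smul (hLQ : L ≤ D.Q) (c : WittVector p R) {a : BC φ P} (ha : a ∈ QR f D.Q) :
    Vfun f D h hLQ (c • a) = σR c • Vfun f D h hLQ a := by
  rw [Vfun, Vfun, LinearMap.map_smulₛₗ, map_smul,
    Kfun_smul _ c (mapT_mem_of_mem_QR f D h hQ ha), smul_add]

theorem Vfun_zero (hLQ : L ≤ D.Q) : Vfun f D h hLQ 0 = 0 := by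
  rw [Vfun, map_zero, map_zero, Kfun_zero, add_zero]

theorem Vfun_verschiebung_tmul (hLQ : L ≤ D.Q) (w : WittVector p R) (x : P) :
    Vfun f D h hLQ (BC.tmul φ (verschiebung w) x) = BC.tmul φ w (D.F x) := by
  have e1 : twist f (VL D h hLQ) (BC.tmul φ (verschiebung w) x) =
      BC.tmul φ w (D.F (L.projection T h x)) := by
    rw [twist_tmul, ← p_smul_VL D h hLQ x, ← BC.tmul_mul_apply, map_natCast]
    congr 1
    exact frobenius_verschiebung w
  have e2 : Kfun (twist f D.F) (BC.map φ (T.projection L h.symm) (BC.tmul φ (verschiebung w) x)) =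
      BC.tmul φ w (D.F (T.projection L h.symm x)) := by
    rw [BC.map_tmul, BC.tmul_eq_smul_tmul_one, Kfun_verschiebung_smul, twist_tmul, map_one,
      BC.smul_tmul, mul_one]
  rw [Vfun, e1, e2, ← BC.tmul_add, ← map_add, Submodule.projection_add_projection_eq_self]

include hQ in
theorem Vfun_tmul (hLQ : L ≤ D.Q) (w : WittVector p R) (y : D.Q) :
    Vfun f D h hLQ (BC.tmul φ w (y : P)) = BC.tmul φ (σR w) (D.Vinv y) := by
  let E : Submodule (WittVector p S) D.Q :=
    { carrier := {y | ∀ w : WittVector p R,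
        Vfun f D h hLQ (BC.tmul φ w (y : P)) = BC.tmul φ (σR w) (D.Vinv y)}
      add_mem' := by
        intro a b ha hb w
        rw [Submodule.coe_add, BC.tmul_add,
          Vfun_add f D h hQ hLQ (tmul_mem_QR f w a.2) (tmul_mem_QR f w b.2), ha w, hb w, map_add,
          BC.tmul_add]
      zero_mem' := by
        intro w
        rw [Submodule.coe_zero, BC.tmul_zero, Vfun_zero, map_zero, BC.tmul_zero]
      smul_mem' := by
        intro s y hy w
        rw [Submodule.coe_smul, ← BC.tmul_mul_apply, hy, map_mul, ← phi_frobenius,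
          BC.tmul_mul_apply, LinearMap.map_smulₛₗ] }
  refine Groth.Agent.Lib.VSharpExist76.Q_induction hQ E ?_ ?_ y w
  · intro y hy w
    rw [Vfun, twist_tmul, VL_of_mem_L D h hLQ hy, BC.map_tmul,
      Submodule.projection_apply_of_mem_right h.symm hy, BC.tmul_zero, Kfun_zero, add_zero]
  · intro y s t ht hyt w
    have hyT : (y : P) ∈ T := by rw [hyt]; exact T.smul_mem _ ht
    have e1 : twist f (VL D h hLQ) (BC.tmul φ w (y : P)) = 0 := by
      rw [twist_tmul, VL_of_mem_T D h hLQ hyT, BC.tmul_zero]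
    have e2 : BC.map φ (T.projection L h.symm) (BC.tmul φ w (y : P)) =
        verschiebung (φ s * σR w) • BC.tmul φ 1 t := by
      rw [BC.map_tmul, Submodule.projection_apply_of_mem_left h.symm hyT, hyt, ← BC.tmul_mul_apply,
        phi_verschiebung, BC.smul_tmul, mul_one, verschiebung_mul_frobenius, mul_comm]
    have e3 : y = ⟨verschiebung s • t,
        D.IV_smul_le (Submodule.smul_mem_smul (verschiebung_mem_IV p S s) Submodule.mem_top)⟩ :=
      Subtype.ext hyt
    rw [Vfun, e1, e2, Kfun_verschiebung_smul, twist_tmul, map_one, BC.smul_tmul, mul_one, zero_add,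
      e3, D.Vinv_verschiebung_smul, mul_comm, BC.tmul_mul_apply]

end Normal

end Groth.Agent.Lib.DispBCExist76
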