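import Mathlib
import Groth.Prelude.Def_Dieu
import Groth.Prelude.Def_Disp2
import Groth.Agent.Lib.DispBCExist76B

/-!
# Base change of a 3n-display: existence and uniqueness

`existsUnique_baseChange` : for a 3n-display `D` over `S` and `f : S → R` there is exactly one
3n-display structure `DR` on `W(R) ⊗_{W(S)} P` with `IsDispBaseChange f D DR`.
-/

set_option autoImplicit false
universe u v

noncomputable section
namespace Groth.Agent.Lib.DispBCExist76

open Dieu W4c1extbt610 WittVector

variable {p : ℕ} [hp : Fact p.Prime] {S R : Type u} [CommRing S] [CommRing R] (f : S →+* R)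
variable {P : Type v} [AddCommGroup P] [Module (WittVector p S) P]

local notation "σS" => (WittVector.frobenius : WittVector p S →+* WittVector p S)
local notation "σR" => (WittVector.frobenius : WittVector p R →+* WittVector p R)
local notation "φ" => (WittVector.map f : WittVector p S →+* WittVector p R)

theorem map_map (ψ₁ ψ₂ : P →ₗ[WittVector p S] P) (z : BC φ P) :
    BC.map φ ψ₁ (BC.map φ ψ₂ z) = BC.map φ (ψ₁ ∘ₗ ψ₂) z := by
  induction z using BC.induction_on φ with
  | zero => rw [map_zero, map_zero, map_zero]
  | tmul w x => rw [BC.map_tmul, BC.map_tmul, BC.map_tmul, LinearMap.comp_apply]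
  | add z₁ z₂ h₁ h₂ => rw [map_add, map_add, map_add, h₁, h₂]

theorem map_zero' (z : BC φ P) : BC.map φ (0 : P →ₗ[WittVector p S] P) z = 0 := by
  induction z using BC.induction_on φ with
  | zero => rw [map_zero]
  | tmul w x => rw [BC.map_tmul, LinearMap.zero_apply, BC.tmul_zero]
  | add z₁ z₂ h₁ h₂ => rw [map_add, h₁, h₂, add_zero]

section Normal

variable {L T : Submodule (WittVector p S) P} (h : IsCompl L T)

theorem mapL_add_mapT (z : BC φ P) :
    BC.map φ (L.projection T h) z + BC.map φ (T.projection L h.symm) z = z := by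
  induction z using BC.induction_on φ with
  | zero => rw [map_zero, map_zero, add_zero]
  | tmul w x =>
    rw [BC.map_tmul, BC.map_tmul, ← BC.tmul_add, Submodule.projection_add_projection_eq_self]
  | add z₁ z₂ h₁ h₂ =>
    rw [map_add, map_add]
    conv_rhs => rw [← h₁, ← h₂]
    abel

theorem mapL_mapT (z : BC φ P) :
    BC.map φ (L.projection T h) (BC.map φ (T.projection L h.symm) z) = 0 := by
  rw [map_map]
  have : (L.projection T h) ∘ₗ (T.projection L h.symm) = 0 := by
    ext x
    exact Submodule.projection_apply_of_mem_right h (Submodule.projection_apply_mem h.symm x)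
  rw [this, map_zero']

theorem mapT_mapL (z : BC φ P) :
    BC.map φ (T.projection L h.symm) (BC.map φ (L.projection T h) z) = 0 := by
  rw [map_map]
  have : (T.projection L h.symm) ∘ₗ (L.projection T h) = 0 := by
    ext x
    exact Submodule.projection_apply_of_mem_right h.symm (Submodule.projection_apply_mem h x)
  rw [this, map_zero']

theorem mapL_mapL (z : BC φ P) :
    BC.map φ (L.projection T h) (BC.map φ (L.projection T h) z) = BC.map φ (L.projection T h) z := by
  rw [map_map]
  congr 2
  ext x
  exact Submodule.projection_apply_of_mem_left h (Submodule.projection_apply_mem h x)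

theorem mapT_mapT (z : BC φ P) :
    BC.map φ (T.projection L h.symm) (BC.map φ (T.projection L h.symm) z) =
      BC.map φ (T.projection L h.symm) z := by
  rw [map_map]
  congr 2
  ext x
  exact Submodule.projection_apply_of_mem_left h.symm (Submodule.projection_apply_mem h.symm x)

theorem isCompl_range :
    IsCompl (LinearMap.range (BC.map φ (L.projection T h)))
      (LinearMap.range (BC.map φ (T.projection L h.symm))) := by
  constructor
  · rw [Submodule.disjoint_def]
    rintro z ⟨a, rfl⟩ ⟨b, hb⟩
    have h1 := congrArg (BC.map φ (L.projection T h)) hb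
    rw [mapL_mapT, mapL_mapL] at h1
    exact h1.symm
  · rw [codisjoint_iff, eq_top_iff]
    intro z _
    rw [← mapL_add_mapT f h z]
    exact Submodule.add_mem_sup ⟨z, rfl⟩ ⟨z, rfl⟩

variable (D : Display3n p S P) (hQ : D.Q = L ⊔ IV p S • T)

include hQ in
theorem QR_eq_sup :
    QR f D.Q = LinearMap.range (BC.map φ (L.projection T h)) ⊔
      IV p R • LinearMap.range (BC.map φ (T.projection L h.symm)) := by
  apply le_antisymm
  · intro z hz
    rw [← mapL_add_mapT f h z]
    refine Submodule.add_mem_sup ⟨z, rfl⟩ ?_
    have h1 := mapT_mem_of_mem_QR f D h hQ hz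
    have h2 : BC.map φ (T.projection L h.symm) (BC.map φ (T.projection L h.symm) z) ∈
        (IV p R • (⊤ : Submodule (WittVector p R) (BC φ P))).map
          (BC.map φ (T.projection L h.symm)) := Submodule.mem_map_of_mem h1
    rw [mapT_mapT f h, Submodule.map_smul'', Submodule.map_top] at h2
    exact h2
  · refine sup_le ?_ ?_
    · rintro _ ⟨z, rfl⟩
      induction z using BC.induction_on φ with
      | zero => rw [map_zero]; exact zero_mem _
      | tmul w x =>
        rw [BC.map_tmul]
        exact tmul_mem_QR f w (L_le_Q D hQ (Submodule.projection_apply_mem h x))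
      | add z₁ z₂ h₁ h₂ => rw [map_add]; exact add_mem h₁ h₂
    · exact (Submodule.smul_mono le_rfl le_top).trans (IV_smul_le_QR f D.Q)

variable [Module.Flat (WittVector p R)
  (BC (WittVector.map f : WittVector p S →+* WittVector p R) P)]

/-- `V_R⁻¹`. -/
def VinvR (hLQ : L ≤ D.Q) : QR f D.Q →ₛₗ[σR] BC φ P where
  toFun z := Vfun f D h hLQ z.1
  map_add' a b := Vfun_add f D h hQ hLQ a.2 b.2
  map_smul' c a := Vfun_smul f D h hQ hLQ c a.2

theorem VinvR_apply (hLQ : L ≤ D.Q) (z : QR f D.Q) :
    VinvR f h D hQ hLQ z = Vfun f D h hLQ z.1 := rfl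

theorem span_range_VinvR (hLQ : L ≤ D.Q) :
    Submodule.span (WittVector p R) (Set.range (VinvR f h D hQ hLQ)) = ⊤ := by
  rw [eq_top_iff]
  intro z _
  have key : ∀ x : P, BC.tmul φ 1 x ∈
      Submodule.span (WittVector p R) (Set.range (VinvR f h D hQ hLQ)) := by
    intro x
    have hx : x ∈ Submodule.span (WittVector p S) (Set.range D.Vinv) := by
      rw [D.span_range_Vinv]; exact Submodule.mem_top
    induction hx using Submodule.span_induction with
    | mem x hx =>
      obtain ⟨y, rfl⟩ := hx
      refine Submodule.subset_span ⟨⟨BC.tmul φ 1 (y : P), tmul_mem_QR f 1 y.2⟩, ?_⟩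
      rw [VinvR_apply, Vfun_tmul f D h hQ hLQ, map_one]
    | zero => rw [BC.tmul_zero]; exact zero_mem _
    | add x y _ _ hx hy => rw [BC.tmul_add]; exact add_mem hx hy
    | smul a x _ hx =>
      rw [← BC.tmul_apply_eq, BC.tmul_eq_smul_tmul_one]
      exact Submodule.smul_mem _ _ hx
  induction z using BC.induction_on φ with
  | zero => exact zero_mem _
  | tmul w x =>
    rw [BC.tmul_eq_smul_tmul_one]
    exact Submodule.smul_mem _ _ (key x)
  | add z₁ z₂ h₁ h₂ => exact add_mem (h₁ Submodule.mem_top) (h₂ Submodule.mem_top)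

include hQ in
theorem Vfun_verschiebung_smul (hLQ : L ≤ D.Q) (w : WittVector p R) (z : BC φ P) :
    Vfun f D h hLQ (verschiebung w • z) = w • twist f D.F z := by
  induction z using BC.induction_on φ with
  | zero => rw [smul_zero, Vfun_zero, map_zero, smul_zero]
  | tmul u x =>
    rw [BC.smul_tmul, ← verschiebung_mul_frobenius, Vfun_verschiebung_tmul, twist_tmul,
      BC.smul_tmul]
  | add z₁ z₂ h₁ h₂ =>
    have m1 : verschiebung w • z₁ ∈ QR f D.Q :=
      IV_smul_le_QR f D.Q (Submodule.smul_mem_smul (verschiebung_mem_IV p R w) Submodule.mem_top)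
    have m2 : verschiebung w • z₂ ∈ QR f D.Q :=
      IV_smul_le_QR f D.Q (Submodule.smul_mem_smul (verschiebung_mem_IV p R w) Submodule.mem_top)
    rw [smul_add, Vfun_add f D h hQ hLQ m1 m2, h₁, h₂, map_add, smul_add]

end Normal


end Groth.Agent.Lib.DispBCExist76
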