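import Mathlib
import Groth.Prelude.Def_Dieu
import Groth.Prelude.Def_Disp2
import Groth.Agent.Lib.DispBCExist76C

/-!
# Base change of a 3n-display: existence and uniqueness

`existsUnique_baseChange` : for a 3n-display `D` over `S` and `f : S → R` there is exactly one
3n-display structure `DR` on `W(R) ⊗_{W(S)} P` with `IsDispBaseChange f D DR`.
-/

set_option autoImplicit false
set_option maxHeartbeats 400000
universe u v

noncomputable section
namespace Groth.Agent.Lib.DispBCExist76

open Dieu W4c1extbt610 WittVector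

variable {p : ℕ} [hp : Fact p.Prime] {S R : Type u} [CommRing S] [CommRing R] (f : S →+* R)
variable {P : Type v} [AddCommGroup P] [Module (WittVector p S) P]

local notation "σS" => (WittVector.frobenius : WittVector p S →+* WittVector p S)
local notation "σR" => (WittVector.frobenius : WittVector p R →+* WittVector p R)
local notation "φ" => (WittVector.map f : WittVector p S →+* WittVector p R)

theorem finite_BC' [Module.Finite (WittVector p S) P] :
    Module.Finite (WittVector p R) (BC φ P) :=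
  @Groth.Agent.Lib.RankFix76.finite_BC (WittVector p S) (WittVector p R) _ _
    (RingHom.toAlgebra φ) P _ _ _

theorem projective_BC' [Module.Projective (WittVector p S) P] :
    Module.Projective (WittVector p R) (BC φ P) :=
  @Groth.Agent.Lib.RankFix76.projective_BC (WittVector p S) (WittVector p R) _ _
    (RingHom.toAlgebra φ) P _ _ _

theorem flat_BC (D : Display3n p S P) : Module.Flat (WittVector p R) (BC φ P) := by
  have := D.projective
  have hproj : Module.Projective (WittVector p R) (BC φ P) := projective_BC' f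
  exact @Module.Flat.of_projective _ _ _ _ _ hproj

section Build

variable (D : Display3n p S P) {L T : Submodule (WittVector p S) P} (h : IsCompl L T)
  (hQ : D.Q = L ⊔ IV p S • T)

section Aux

variable [Module.Flat (WittVector p R)
  (BC (WittVector.map f : WittVector p S →+* WittVector p R) P)]

theorem VinvR_verschiebung_smul (w : WittVector p R) (z : BC φ P) :
    VinvR f h D hQ (L_le_Q D hQ) ⟨verschiebung w • z,
      IV_smul_le_QR f D.Q
        (Submodule.smul_mem_smul (verschiebung_mem_IV p R w) Submodule.mem_top)⟩ =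
      w • twist f D.F z :=
  Vfun_verschiebung_smul f h D hQ (L_le_Q D hQ) w z

/-- The base change of `D` along `f` built from a normal decomposition. -/
def baseChangeAux : Display3n p R (BC φ P) where
  Q := QR f D.Q
  F := twist f D.F
  Vinv := VinvR f h D hQ (L_le_Q D hQ)
  finite := by
    have := D.finite
    exact finite_BC' f
  projective := by
    have := D.projective
    exact projective_BC' f
  IV_smul_le := IV_smul_le_QR f D.Q
  exists_normal := ⟨_, _, isCompl_range f h, QR_eq_sup f h D hQ⟩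
  span_range_Vinv := span_range_VinvR f h D hQ (L_le_Q D hQ)
  Vinv_verschiebung_smul := VinvR_verschiebung_smul f D h hQ

theorem isDispBaseChange_baseChangeAux : IsDispBaseChange f D (baseChangeAux f D h hQ) where
  Q_eq := rfl
  F_tmul := fun w x => twist_tmul f D.F w x
  Vinv_tmul := fun w y _ => Vfun_tmul f D h hQ (L_le_Q D hQ) w y
  Vinv_verschiebung_tmul := fun w x _ => Vfun_verschiebung_tmul f D h (L_le_Q D hQ) w x

end Aux

include h hQ in
theorem exists_baseChange : ∃ DR : Display3n p R (BC φ P), IsDispBaseChange f D DR := by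
  have := flat_BC f D
  exact ⟨baseChangeAux f D h hQ, isDispBaseChange_baseChangeAux f D h hQ⟩

theorem display3n_ext {R' : Type u} [CommRing R'] {M : Type v} [AddCommGroup M]
    [Module (WittVector p R') M] (D₁ D₂ : Display3n p R' M) (hQ : D₁.Q = D₂.Q) (hF : D₁.F = D₂.F)
    (hV : ∀ (z : M) (h₁ : z ∈ D₁.Q) (h₂ : z ∈ D₂.Q), D₁.Vinv ⟨z, h₁⟩ = D₂.Vinv ⟨z, h₂⟩) :
    D₁ = D₂ := by
  rcases D₁ with ⟨Q₁, F₁, V₁, _, _, _, _, _, _⟩
  rcases D₂ with ⟨Q₂, F₂, V₂, _, _, _, _, _, _⟩
  simp only at hQ hF hV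
  subst hQ
  subst hF
  have : V₁ = V₂ := LinearMap.ext fun ⟨z, hz⟩ => hV z hz hz
  subst this
  rfl

theorem eq_of_isDispBaseChange (DR DR' : Display3n p R (BC φ P))
    (h : IsDispBaseChange f D DR) (h' : IsDispBaseChange f D DR') : DR' = DR := by
  refine display3n_ext DR' DR (h'.Q_eq.trans h.Q_eq.symm) ?_ ?_
  · apply LinearMap.ext
    intro z
    induction z using BC.induction_on φ with
    | zero => rw [map_zero, map_zero]
    | tmul w x => rw [h.F_tmul, h'.F_tmul]
    | add z₁ z₂ h₁ h₂ => rw [map_add, map_add, h₁, h₂]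
  · intro z h₁ h₂
    have hz : z ∈ QR f D.Q := by
      rw [h.Q_eq] at h₂
      exact h₂
    have key : z ∈ DR'.Q ∧ z ∈ DR.Q ∧ ∀ (h₁ : z ∈ DR'.Q) (h₂ : z ∈ DR.Q),
        DR'.Vinv ⟨z, h₁⟩ = DR.Vinv ⟨z, h₂⟩ := by
      refine QR_induction f (motive := fun z => z ∈ DR'.Q ∧ z ∈ DR.Q ∧
        ∀ (h₁ : z ∈ DR'.Q) (h₂ : z ∈ DR.Q), DR'.Vinv ⟨z, h₁⟩ = DR.Vinv ⟨z, h₂⟩) z hz ?_ ?_ ?_ ?_
      · refine ⟨zero_mem _, zero_mem _, fun h₁ h₂ => ?_⟩
        have e1 : (⟨0, h₁⟩ : DR'.Q) = 0 := rfl
        have e2 : (⟨0, h₂⟩ : DR.Q) = 0 := rfl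
        rw [e1, e2, map_zero, map_zero]
      · rintro a b ⟨ha', ha, hab⟩ ⟨hb', hb, hbb⟩
        refine ⟨add_mem ha' hb', add_mem ha hb, fun h₁ h₂ => ?_⟩
        have e1 : (⟨a + b, h₁⟩ : DR'.Q) = ⟨a, ha'⟩ + ⟨b, hb'⟩ := rfl
        have e2 : (⟨a + b, h₂⟩ : DR.Q) = ⟨a, ha⟩ + ⟨b, hb⟩ := rfl
        rw [e1, e2, map_add, map_add, hab ha' ha, hbb hb' hb]
      · intro w y hy
        have m' : BC.tmul φ w y ∈ DR'.Q := by rw [h'.Q_eq]; exact tmul_mem_QR f w hy
        have m : BC.tmul φ w y ∈ DR.Q := by rw [h.Q_eq]; exact tmul_mem_QR f w hy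
        refine ⟨m', m, fun h₁ h₂ => ?_⟩
        rw [h.Vinv_tmul w ⟨y, hy⟩ h₂, h'.Vinv_tmul w ⟨y, hy⟩ h₁]
      · intro w x
        have m' : BC.tmul φ (verschiebung w) x ∈ DR'.Q := by
          rw [h'.Q_eq]; exact verschiebung_tmul_mem_QR f D.Q w x
        have m : BC.tmul φ (verschiebung w) x ∈ DR.Q := by
          rw [h.Q_eq]; exact verschiebung_tmul_mem_QR f D.Q w x
        refine ⟨m', m, fun h₁ h₂ => ?_⟩
        rw [h.Vinv_verschiebung_tmul w x h₂, h'.Vinv_verschiebung_tmul w x h₁]
    exact key.2.2 h₁ h₂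

theorem existsUnique_baseChange :
    ∃! DR : Display3n p R (BC φ P), IsDispBaseChange f D DR := by
  obtain ⟨L, T, h, hQ⟩ := D.exists_normal
  obtain ⟨DR, hDR⟩ := exists_baseChange f D h hQ
  exact ⟨DR, hDR, fun DR' h' => eq_of_isDispBaseChange f D DR DR' hDR h'⟩

end Build

end Groth.Agent.Lib.DispBCExist76
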