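import Mathlib
import Groth.Prelude.Def_Dieu
import Groth.Prelude.Def_Disp2
import Groth.Agent.Lib.DispBC76

set_option autoImplicit false
universe u v

noncomputable section
namespace Groth.Agent.Lib.DispQ76
open Dieu TensorProduct

section ModS
variable {p : ℕ} [Fact p.Prime] {S : Type u} [CommRing S]
variable (N : Type v) [AddCommGroup N] [Module (WittVector p S) N]

theorem smul_eq_of_coeff_zero_eq
    (hN : ∀ (w : WittVector p S) (n : N), WittVector.constantCoeff w = 0 → w • n = 0)
    (w w' : WittVector p S) (h : WittVector.constantCoeff w = WittVector.constantCoeff w') (n : N) :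
    w • n = w' • n := by
  rw [← sub_eq_zero, ← sub_smul]
  exact hN _ n (by rw [map_sub, h, sub_self])

/-- The `S`-module structure on a `W(S)`-module killed by `ker w₀`: `s • n = [s] • n`. -/
@[instance_reducible]
def modS (hN : ∀ (w : WittVector p S) (n : N), WittVector.constantCoeff w = 0 → w • n = 0) :
    Module S N where
  smul s n := WittVector.teichmuller p s • n
  one_smul n := by
    change WittVector.teichmuller p (1 : S) • n = n
    rw [map_one, one_smul]
  mul_smul s t n := by
    change WittVector.teichmuller p (s * t) • n =
      WittVector.teichmuller p s • (WittVector.teichmuller p t • n)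
    rw [map_mul, mul_smul]
  smul_zero s := smul_zero (WittVector.teichmuller p s)
  smul_add s m n := smul_add (WittVector.teichmuller p s) m n
  add_smul s t n := by
    change WittVector.teichmuller p (s + t) • n =
      WittVector.teichmuller p s • n + WittVector.teichmuller p t • n
    rw [← add_smul]
    refine smul_eq_of_coeff_zero_eq N hN _ _ ?_ n
    rw [map_add (WittVector.constantCoeff : WittVector p S →+* S)]
    change (WittVector.teichmuller p (s + t)).coeff 0 =
      (WittVector.teichmuller p s).coeff 0 + (WittVector.teichmuller p t).coeff 0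
    rw [WittVector.teichmuller_coeff_zero, WittVector.teichmuller_coeff_zero,
      WittVector.teichmuller_coeff_zero]
  zero_smul n := by
    change WittVector.teichmuller p (0 : S) • n = 0
    rw [WittVector.teichmuller_zero, zero_smul]

theorem modS_smul (hN : ∀ (w : WittVector p S) (n : N), WittVector.constantCoeff w = 0 → w • n = 0)
    (w : WittVector p S) (n : N) :
    (modS N hN).smul (WittVector.constantCoeff w) n = w • n := by
  change WittVector.teichmuller p (WittVector.constantCoeff w) • n = w • n
  exact smul_eq_of_coeff_zero_eq N hN (WittVector.teichmuller p (WittVector.constantCoeff w)) w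
    (WittVector.teichmuller_coeff_zero p (WittVector.constantCoeff w)) n

end ModS
section Inj
variable {p : ℕ} [Fact p.Prime] {S R : Type u} [CommRing S] [CommRing R] [Algebra S R]
  [Module.FaithfullyFlat S R]
variable (N : Type v) [AddCommGroup N] [Module (WittVector p S) N]

theorem tmul_one_injective (g : WittVector p S →+* R)
    (hg : ∀ w, g w = algebraMap S R (WittVector.constantCoeff w))
    (hN : ∀ (w : WittVector p S) (n : N), WittVector.constantCoeff w = 0 → w • n = 0) :
    Function.Injective (fun n : N => BC.tmul g 1 n) := by
  let _ : Module S N := modS N hN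
  have hsm : ∀ (w : WittVector p S) (n : N),
      (WittVector.constantCoeff w : S) • n = w • n := modS_smul N hN
  let F : Res g →+ N →+ R ⊗[S] N :=
    { toFun := fun t =>
        { toFun := fun n => t.val ⊗ₜ[S] n
          map_zero' := TensorProduct.tmul_zero _ _
          map_add' := fun a b => TensorProduct.tmul_add _ _ _ }
      map_zero' := by
        ext n
        exact TensorProduct.zero_tmul _ _
      map_add' := fun s t => by
        ext n
        exact TensorProduct.add_tmul _ _ _ }
  have hF : ∀ (w : WittVector p S) (t : Res g) (n : N), F (w • t) n = F t (w • n) := by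
    intro w t n
    change (g w * t.val) ⊗ₜ[S] n = t.val ⊗ₜ[S] (w • n)
    rw [hg, ← Algebra.smul_def, TensorProduct.smul_tmul, hsm]
  let Θ : Res g ⊗[WittVector p S] N →+ R ⊗[S] N := TensorProduct.liftAddHom F hF
  intro n n' hnn
  have h1 : Θ (BC.tmul g 1 n) = Θ (BC.tmul g 1 n') := congrArg Θ hnn
  have h2 : ∀ m : N, Θ (BC.tmul g 1 m) = (1 : R) ⊗ₜ[S] m := fun m => rfl
  rw [h2, h2] at h1
  exact Module.FaithfullyFlat.tensorProduct_mk_injective (A := S) (B := R) N h1

end Inj

section Main
variable {p : ℕ} [Fact p.Prime] {S R : Type u} [CommRing S] [CommRing R] [Algebra S R]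
  [Module.FaithfullyFlat S R]
variable {P : Type v} [AddCommGroup P] [Module (WittVector p S) P]

theorem mem_Q_iff {D : W4c1extbt610.Display3n p S P}
    {DR : W4c1extbt610.Display3n p R
      (BC (WittVector.map (algebraMap S R) : WittVector p S →+* WittVector p R) P)}
    (hDR : IsDispBaseChange (algebraMap S R) D DR) (x : P) :
    x ∈ D.Q ↔ BC.ι (WittVector.map (algebraMap S R) : WittVector p S →+* WittVector p R) P x
      ∈ DR.Q := by
  constructor
  · intro hx
    exact Groth.Agent.Lib.DispBC76.tmul_mem_Q hDR 1 x hx
  · intro hx
    rw [hDR.Q_eq, LinearMap.mem_ker, BC.ι_apply, bcQuotMap_tmul, map_one] at hx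
    have hN : ∀ (w : WittVector p S) (n : P ⧸ D.Q), WittVector.constantCoeff w = 0 →
        w • n = 0 := by
      intro w n hw
      obtain ⟨w', rfl⟩ := Groth.Agent.Lib.DispBC76.exists_verschiebung_of_constantCoeff_eq_zero w hw
      obtain ⟨y, rfl⟩ := Submodule.Quotient.mk_surjective D.Q n
      rw [← Submodule.Quotient.mk_smul, Submodule.Quotient.mk_eq_zero]
      exact D.IV_smul_le (Submodule.smul_mem_smul
        (W4c1extbt610.verschiebung_mem_IV p S w') Submodule.mem_top)
    have hinj := tmul_one_injective (R := R) (P ⧸ D.Q)
      ((WittVector.constantCoeff : WittVector p R →+* R).comp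
        (WittVector.map (algebraMap S R) : WittVector p S →+* WittVector p R))
      (fun w => WittVector.map_coeff (algebraMap S R) w 0) hN
    have h0 : D.Q.mkQ x = 0 := by
      apply hinj
      change BC.tmul _ 1 (D.Q.mkQ x) = BC.tmul _ 1 0
      rw [hx, BC.tmul_zero]
    rw [Submodule.mkQ_apply] at h0
    exact (Submodule.Quotient.mk_eq_zero D.Q).mp h0

end Main

end Groth.Agent.Lib.DispQ76
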