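import Mathlib
import Groth.Prelude.Def_Dieu
import Groth.Prelude.Def_Disp2
import Groth.Agent.Lib.BCDescent76
import Groth.Agent.Lib.DispQ76

set_option autoImplicit false
universe u v

noncomputable section
namespace Groth.Agent.Lib.DispDesc76
open Dieu TensorProduct

section General
variable {A B C : Type u} [CommRing A] [CommRing B] [CommRing C]
  (g : A →+* B) (h₁ h₂ : B →+* C) (γ : A →+* C)
variable {P P' : Type v} [AddCommGroup P] [Module A P] [AddCommGroup P'] [Module A P']

theorem castHom_castHom' {k k' k'' : A →+* C} (e : k = k') (e' : k' = k'') (z : BC k P) :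
    BC.castHom e' (BC.castHom e z) = BC.castHom (e.trans e') z := by
  subst e; subst e'; rfl

theorem c_tmul_one (h : B →+* C) (e : h.comp g = γ) (y : BC g P) :
    ((BC.castHom (P := P) e).comp (BC.lift h (BC.push g h))) (BC.tmul h 1 y) =
      BC.castHom e (BC.push g h y) := by
  rw [LinearMap.comp_apply, BC.lift_tmul, one_smul]

theorem c_tmul_one_tmul_one (h : B →+* C) (e : h.comp g = γ) (x : P) :
    ((BC.castHom (P := P) e).comp (BC.lift h (BC.push g h))) (BC.tmul h 1 (BC.tmul g 1 x)) =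
      BC.tmul γ 1 x := by
  rw [c_tmul_one, BC.push_tmul, BC.castHom_tmul, map_one]

/-- Descent of linear maps of scalar extensions along an equalizer of rings. -/
theorem exists_descent [Module.Flat A P'] (e₁ : h₁.comp g = γ) (e₂ : h₂.comp g = γ)
    (hinj : Function.Injective g) (hex : ∀ b : B, h₁ b = h₂ b → b ∈ Set.range g)
    (χ : BC g P →ₗ[B] BC g P')
    (hdesc : ∀ (z₁ : BC h₁ (BC g P)) (z₂ : BC h₂ (BC g P)),
      ((BC.castHom (P := P) e₁).comp (BC.lift h₁ (BC.push g h₁))) z₁ =
        ((BC.castHom (P := P) e₂).comp (BC.lift h₂ (BC.push g h₂))) z₂ →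
      ((BC.castHom (P := P') e₁).comp (BC.lift h₁ (BC.push g h₁))) (BC.map h₁ χ z₁) =
        ((BC.castHom (P := P') e₂).comp (BC.lift h₂ (BC.push g h₂))) (BC.map h₂ χ z₂)) :
    Function.Injective (BC.ι g P') ∧
      ∃ ψ : P →ₗ[A] P', ∀ x, BC.tmul g 1 (ψ x) = χ (BC.tmul g 1 x) := by
  have e : h₁.comp g = h₂.comp g := e₁.trans e₂.symm
  obtain ⟨hι, heq⟩ := Groth.Agent.Lib.BCDescent76.descent g h₁ h₂ P' e hinj hex
  refine ⟨hι, ?_⟩
  have hx : ∀ x : P, ∃ y : P', BC.ι g P' y = χ (BC.tmul g 1 x) := by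
    intro x
    have h1 := hdesc (BC.tmul h₁ 1 (BC.tmul g 1 x)) (BC.tmul h₂ 1 (BC.tmul g 1 x))
      (by rw [c_tmul_one_tmul_one, c_tmul_one_tmul_one])
    rw [BC.map_tmul, BC.map_tmul, c_tmul_one, c_tmul_one] at h1
    have h2 : BC.castHom e (BC.push g h₁ (χ (BC.tmul g 1 x))) =
        BC.push g h₂ (χ (BC.tmul g 1 x)) := by
      have := congrArg (BC.castHom e₂.symm) h1
      rw [castHom_castHom', castHom_castHom'] at this
      exact this
    exact (heq _).mp h2
  choose ψ hψ using hx
  have hψ' : ∀ x, BC.tmul g 1 (ψ x) = χ (BC.tmul g 1 x) := hψ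
  refine ⟨{ toFun := ψ, map_add' := fun x y => hι ?_, map_smul' := fun a x => hι ?_ }, hψ'⟩
  · rw [hψ, BC.tmul_add, map_add, map_add, hψ, hψ]
  · rw [hψ, RingHom.id_apply, map_smulₛₗ, hψ, ← BC.tmul_apply_eq, BC.tmul_eq_smul_tmul_one, map_smul]

end General
section Disp
variable {p : ℕ} [Fact p.Prime] {S R : Type u} [CommRing S] [CommRing R] [Algebra S R]
  [Module.FaithfullyFlat S R]
variable {P P' : Type v} [AddCommGroup P] [Module (WittVector p S) P] [AddCommGroup P']
  [Module (WittVector p S) P']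

/-- A linear map `ψ : P → P'` whose scalar extension is a morphism of the base-changed
3n-displays is a morphism of 3n-displays (faithfully flat descent). -/
theorem isHom_of_isHom_baseChange {D : W4c1extbt610.Display3n p S P}
    {D' : W4c1extbt610.Display3n p S P'}
    {DR : W4c1extbt610.Display3n p R
      (BC (WittVector.map (algebraMap S R) : WittVector p S →+* WittVector p R) P)}
    {DR' : W4c1extbt610.Display3n p R
      (BC (WittVector.map (algebraMap S R) : WittVector p S →+* WittVector p R) P')}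
    (hDR : IsDispBaseChange (algebraMap S R) D DR)
    (hDR' : IsDispBaseChange (algebraMap S R) D' DR')
    (hι : Function.Injective
      (BC.ι (WittVector.map (algebraMap S R) : WittVector p S →+* WittVector p R) P'))
    (χ : BC (WittVector.map (algebraMap S R) : WittVector p S →+* WittVector p R) P
      →ₗ[WittVector p R]
      BC (WittVector.map (algebraMap S R) : WittVector p S →+* WittVector p R) P')
    (hχ : W4c1extbt610.IsHom DR DR' χ) (ψ : P →ₗ[WittVector p S] P')
    (hψ : ∀ x, BC.tmul (WittVector.map (algebraMap S R) : WittVector p S →+* WittVector p R) 1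
      (ψ x) = χ (BC.tmul (WittVector.map (algebraMap S R) : WittVector p S →+* WittVector p R)
        1 x)) :
    W4c1extbt610.IsHom D D' ψ := by
  have hmaps : ∀ q : P, q ∈ D.Q → ψ q ∈ D'.Q := by
    intro q hq
    rw [Groth.Agent.Lib.DispQ76.mem_Q_iff hDR', BC.ι_apply, hψ]
    exact hχ.mapsTo _ (Groth.Agent.Lib.DispBC76.tmul_mem_Q hDR 1 q hq)
  refine ⟨hmaps, ?_, ?_⟩
  · intro x
    apply hι
    rw [BC.ι_apply, BC.ι_apply, hψ]
    have h1 := hDR.F_tmul 1 x
    rw [map_one] at h1
    have h2 := hDR'.F_tmul 1 (ψ x)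
    rw [map_one] at h2
    rw [← h1, hχ.comm_F, ← hψ, h2]
  · intro q
    apply hι
    rw [BC.ι_apply, BC.ι_apply, hψ]
    have hq1 := Groth.Agent.Lib.DispBC76.tmul_mem_Q hDR 1 (q : P) q.2
    have hq2 := Groth.Agent.Lib.DispBC76.tmul_mem_Q hDR' 1 (ψ q) (hmaps q q.2)
    have h1 := hDR.Vinv_tmul 1 q hq1
    rw [map_one] at h1
    have h2 := hDR'.Vinv_tmul 1 ⟨ψ q, hmaps q q.2⟩ hq2
    rw [map_one] at h2
    rw [← h1, hχ.comm_Vinv ⟨_, hq1⟩, ← h2]
    congr 1
    exact Subtype.ext (hψ q).symm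

end Disp

end Groth.Agent.Lib.DispDesc76
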