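import Mathlib

set_option autoImplicit false
universe u

noncomputable section
namespace Groth.Agent.Lib.FrobNil76
open MvPolynomial

section Poly

theorem constantCoeff_frobeniusPolyAux (p : ℕ) (n : ℕ) :
    constantCoeff (WittVector.frobeniusPolyAux p n) = 0 := by
  induction n using Nat.strong_induction_on with
  | _ n ih =>
    rw [WittVector.frobeniusPolyAux_eq, map_sub, constantCoeff_X, map_sum, zero_sub, neg_eq_zero]
    refine Finset.sum_eq_zero fun i hi => ?_
    rw [map_sum]
    refine Finset.sum_eq_zero fun j _ => ?_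
    rw [map_mul, map_mul, map_pow _ (WittVector.frobeniusPolyAux p i), ih i (Finset.mem_range.mp hi),
      zero_pow (Nat.succ_ne_zero j), mul_zero, zero_mul]

theorem aeval_mem_of_constantCoeff_eq_zero {S : Type u} [CommRing S] (I : Ideal S)
    (q : MvPolynomial ℕ ℤ) (hq : constantCoeff q = 0) (x : ℕ → S) (hx : ∀ i, x i ∈ I) :
    aeval x q ∈ I := by
  rw [q.as_sum, map_sum]
  refine Ideal.sum_mem _ fun m _ => ?_
  rw [aeval_monomial]
  by_cases h0 : m = 0
  · subst h0
    have : coeff 0 q = 0 := hq
    rw [this, map_zero, zero_mul]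
    exact zero_mem _
  · obtain ⟨i, hi⟩ : ∃ i, m i ≠ 0 := by
      by_contra h
      exact h0 (Finsupp.ext fun i => by
        by_contra hi
        exact h ⟨i, hi⟩)
    apply Ideal.mul_mem_left
    rw [Finsupp.prod]
    have hi' : i ∈ m.support := Finsupp.mem_support_iff.mpr hi
    rw [← Finset.mul_prod_erase _ _ hi']
    apply Ideal.mul_mem_right
    exact Ideal.pow_mem_of_mem _ (hx i) _ (Nat.pos_of_ne_zero hi)

end Poly

section Witt
variable {p : ℕ} [hp : Fact p.Prime] {S : Type u} [CommRing S]

theorem coeff_frobenius_eq (x : WittVector p S) (n : ℕ) :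
    (WittVector.frobenius x).coeff n =
      x.coeff n ^ p + (p : S) * aeval x.coeff (WittVector.frobeniusPolyAux p n) := by
  rw [WittVector.coeff_frobenius, WittVector.frobeniusPoly, map_add, map_pow, aeval_X, map_mul,
    aeval_C]
  simp

/-- all coefficients in `I`. -/
def CoeffIn (I : Ideal S) (x : WittVector p S) : Prop := ∀ n, x.coeff n ∈ I

theorem coeffIn_frobenius_pow_succ (i : ℕ) (hi : 1 ≤ i) (x : WittVector p S)
    (hx : CoeffIn (Ideal.span {(p : S) ^ i}) x) :
    CoeffIn (Ideal.span {(p : S) ^ (i + 1)}) (WittVector.frobenius x) := by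
  intro n
  rw [coeff_frobenius_eq]
  refine add_mem ?_ ?_
  · obtain ⟨t, ht⟩ := Ideal.mem_span_singleton.mp (hx n)
    rw [ht, mul_pow, ← pow_mul]
    refine Ideal.mul_mem_right _ _ (Ideal.mem_span_singleton.mpr (pow_dvd_pow _ ?_))
    calc i + 1 ≤ i * 2 := by omega
      _ ≤ i * p := Nat.mul_le_mul_left i hp.out.two_le
  · have h := aeval_mem_of_constantCoeff_eq_zero (Ideal.span {(p : S) ^ i})
      (WittVector.frobeniusPolyAux p n) (constantCoeff_frobeniusPolyAux p n) x.coeff hx
    obtain ⟨t, ht⟩ := Ideal.mem_span_singleton.mp h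
    rw [ht, pow_succ]
    exact Ideal.mem_span_singleton.mpr ⟨t, by ring⟩

theorem coeff_iterate_frobenius_mod (x : WittVector p S) (k n : ℕ) :
    ((⇑(WittVector.frobenius : WittVector p S →+* WittVector p S))^[k] x).coeff n - x.coeff n ^ p ^ k
      ∈ Ideal.span {(p : S)} := by
  induction k generalizing n with
  | zero => simp
  | succ k ih =>
    rw [Function.iterate_succ_apply', coeff_frobenius_eq, pow_succ, pow_mul]
    have h1 : ((⇑(WittVector.frobenius : WittVector p S →+* WittVector p S))^[k] x).coeff n ^ p -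
        (x.coeff n ^ p ^ k) ^ p ∈ Ideal.span {(p : S)} := by
      have := ih n
      rw [← Ideal.Quotient.eq_zero_iff_mem, map_sub, sub_eq_zero] at this ⊢
      rw [map_pow, map_pow, this]
    have h2 : (p : S) * aeval ((⇑(WittVector.frobenius : WittVector p S →+* WittVector p S))^[k] x).coeff
        (WittVector.frobeniusPolyAux p n) ∈ Ideal.span {(p : S)} :=
      Ideal.mul_mem_right _ _ (Ideal.mem_span_singleton_self _)
    have := add_mem h1 h2
    convert this using 1
    ring

theorem coeffIn_iterate_frobenius (x : WittVector p S) (hx : CoeffIn (Ideal.span {(p : S) ^ 1}) x)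
    (j : ℕ) : CoeffIn (Ideal.span {(p : S) ^ (1 + j)})
      ((⇑(WittVector.frobenius : WittVector p S →+* WittVector p S))^[j] x) := by
  induction j with
  | zero => exact hx
  | succ j ih =>
    rw [Function.iterate_succ_apply', ← add_assoc]
    exact coeffIn_frobenius_pow_succ (1 + j) (by omega) _ ih

/-- Frobenius-nilpotence of `W(𝔞) = ker (W(S) → W(R))` when `p` is nilpotent in `S` and the elements
of `𝔞 = ker φ` are nilpotent of bounded exponent. -/
theorem iterate_frobenius_eq_zero {R : Type*} [CommRing R] (φ : S →+* R) (c N : ℕ)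
    (hc : (p : S) ^ c = 0) (hN : ∀ a : S, φ a = 0 → a ^ N = 0) (x : WittVector p S)
    (hx : WittVector.map φ x = 0) :
    (⇑(WittVector.frobenius : WittVector p S →+* WittVector p S))^[c + N] x = 0 := by
  have hxn : ∀ n, φ (x.coeff n) = 0 := by
    intro n
    rw [← WittVector.map_coeff, hx, WittVector.zero_coeff]
  have h1 : CoeffIn (Ideal.span {(p : S) ^ 1})
      ((⇑(WittVector.frobenius : WittVector p S →+* WittVector p S))^[N] x) := by
    intro n
    have h := coeff_iterate_frobenius_mod x N n
    have h0 : x.coeff n ^ p ^ N = 0 := by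
      have hle : N ≤ p ^ N := (Nat.lt_pow_self hp.out.one_lt).le
      rw [← Nat.sub_add_cancel hle, pow_add, hN _ (hxn n), mul_zero]
    rw [h0, sub_zero] at h
    rwa [pow_one]
  have h2 := coeffIn_iterate_frobenius _ h1 c
  rw [← Function.iterate_add_apply] at h2
  have hbot : Ideal.span {(p : S) ^ (1 + c)} = ⊥ := by
    rw [pow_add, hc, mul_zero, Ideal.span_singleton_eq_bot]
  rw [hbot] at h2
  ext n
  rw [WittVector.zero_coeff]
  exact (Ideal.mem_bot).mp (h2 n)

theorem frobenius_pow_eq_zero {R : Type*} [CommRing R] (φ : S →+* R) (c N : ℕ)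
    (hc : (p : S) ^ c = 0) (hN : ∀ a : S, φ a = 0 → a ^ N = 0) (x : WittVector p S)
    (hx : x ∈ RingHom.ker (WittVector.map (p := p) φ)) :
    ((WittVector.frobenius : WittVector p S →+* WittVector p S) ^ (c + N)) x = 0 := by
  rw [RingHom.coe_pow]
  exact iterate_frobenius_eq_zero φ c N hc hN x hx

end Witt
end Groth.Agent.Lib.FrobNil76
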