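import Mathlib
import Groth.Agent.Lib.FrobNil76
import Groth.Agent.Lib.WittNilp76

/-!
# Witt vectors with coefficients in a square-zero ideal killed by `p`

For an ideal `𝔠` of `T` with `𝔠² = 0` and `p 𝔠 = 0`, the ideal `WI 𝔠 = W(𝔠) = ker (W(T) → W(T/𝔠))`
is killed by the Frobenius, by `p` and by `V W(T)`; the Teichmüller map is additive on `𝔠`
(`teichmuller_add_of_sqZero`, by a universal computation with ghost components), and the operator
`sh x = V⁻¹ (x - [x₀])` is additive and Frobenius-semilinear on `W(𝔠)` ("logarithmic coordinates"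
in the simplest case).
-/

set_option autoImplicit false
universe u

noncomputable section
namespace Groth.Agent.Lib.WittSqZero76

open WittVector

variable {p : ℕ} [hp : Fact p.Prime]

section Ghost

theorem ghost_injective_of_torsionFree {R : Type u} [CommRing R]
    (hR : ∀ r : R, (p : R) * r = 0 → r = 0) (x y : WittVector p R)
    (h : ∀ n, ghostComponent n x = ghostComponent n y) : x = y := by
  have hpow : ∀ (k : ℕ) (r : R), (p : R) ^ k * r = 0 → r = 0 := by
    intro k
    induction k with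
    | zero => intro r hr; simpa using hr
    | succ k ih =>
      intro r hr
      apply ih
      apply hR
      rw [← mul_assoc, ← pow_succ']
      exact hr
  ext n
  induction n using Nat.strong_induction_on with
  | _ n ih =>
    have hn := h n
    rw [ghostComponent_apply, ghostComponent_apply, aeval_wittPolynomial, aeval_wittPolynomial,
      Finset.sum_range_succ, Finset.sum_range_succ] at hn
    have hs : ∑ i ∈ Finset.range n, (p : R) ^ i * x.coeff i ^ p ^ (n - i) =
        ∑ i ∈ Finset.range n, (p : R) ^ i * y.coeff i ^ p ^ (n - i) :=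
      Finset.sum_congr rfl fun i hi => by rw [ih i (Finset.mem_range.mp hi)]
    rw [hs, add_right_inj, Nat.sub_self, pow_zero, pow_one, pow_one] at hn
    have : (p : R) ^ n * (x.coeff n - y.coeff n) = 0 := by rw [mul_sub, hn, sub_self]
    exact sub_eq_zero.mp (hpow n _ this)

end Ghost

section Universal

/-- The universal ring with two elements `x`, `y` such that `x² = xy = y² = 0`. -/
abbrev U2 : Type := TrivSqZeroExt ℤ (ℤ × ℤ)

theorem U2_torsionFree (r : U2) (h : (p : U2) * r = 0) : r = 0 := by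
  have hp0 : (p : ℤ) ≠ 0 := Nat.cast_ne_zero.mpr hp.out.ne_zero
  have h1 := congrArg TrivSqZeroExt.fst h
  have h2 := congrArg TrivSqZeroExt.snd h
  simp only [TrivSqZeroExt.fst_mul, TrivSqZeroExt.fst_natCast, TrivSqZeroExt.fst_zero,
    TrivSqZeroExt.snd_mul, TrivSqZeroExt.snd_natCast, TrivSqZeroExt.snd_zero] at h1 h2
  apply TrivSqZeroExt.ext
  · rw [TrivSqZeroExt.fst_zero]
    rcases mul_eq_zero.mp h1 with h | h
    · exact absurd (by exact_mod_cast h) hp0
    · exact h
  · rw [TrivSqZeroExt.snd_zero]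
    have h3 : ((p : ℤ) • r.snd) = 0 := by
      simpa using h2
    exact (smul_eq_zero.mp h3).resolve_left hp0

theorem inr_pow_eq_zero (m : ℤ × ℤ) (k : ℕ) (hk : 2 ≤ k) :
    (TrivSqZeroExt.inr m : U2) ^ k = 0 := by
  obtain ⟨j, rfl⟩ : ∃ j, k = j + 2 := ⟨k - 2, by omega⟩
  rw [pow_add, pow_two, TrivSqZeroExt.inr_mul_inr, mul_zero]

theorem teichmuller_add_U2 :
    teichmuller p ((TrivSqZeroExt.inr (1, 0) : U2) + TrivSqZeroExt.inr (0, 1)) =
      teichmuller p (TrivSqZeroExt.inr (1, 0) : U2) + teichmuller p (TrivSqZeroExt.inr (0, 1)) := by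
  apply ghost_injective_of_torsionFree (p := p) U2_torsionFree
  intro n
  rw [RingHom.map_add, ghostComponent_teichmuller, ghostComponent_teichmuller,
    ghostComponent_teichmuller]
  rcases Nat.eq_zero_or_pos n with rfl | hn
  · simp
  · have h2 : 2 ≤ p ^ n :=
      le_trans hp.out.two_le (Nat.le_self_pow (Nat.pos_iff_ne_zero.mp hn) p)
    rw [← TrivSqZeroExt.inr_add, inr_pow_eq_zero _ _ h2, inr_pow_eq_zero _ _ h2,
      inr_pow_eq_zero _ _ h2, add_zero]

variable {T : Type u} [CommRing T]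

/-- The ring map `U2 → T` given by `x ↦ a`, `y ↦ b`. -/
def U2lift (a b : T) (haa : a * a = 0) (hab : a * b = 0) (hbb : b * b = 0) : U2 →+* T :=
  (TrivSqZeroExt.liftEquivOfComm
    ⟨{ toFun := fun m => m.1 • a + m.2 • b
       map_add' := fun m n => by simp only [Prod.fst_add, Prod.snd_add, add_smul]; abel
       map_smul' := fun c m => by
         simp only [Prod.smul_fst, Prod.smul_snd, smul_eq_mul, RingHom.id_apply, mul_smul,
           smul_add] },
      fun m n => by
        change (m.1 • a + m.2 • b) * (n.1 • a + n.2 • b) = 0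
        simp only [zsmul_eq_mul]
        have hba : b * a = 0 := by rw [mul_comm]; exact hab
        calc ((m.1 : T) * a + (m.2 : T) * b) * ((n.1 : T) * a + (n.2 : T) * b)
            = (m.1 : T) * (n.1 : T) * (a * a) + (m.1 : T) * (n.2 : T) * (a * b) +
              (m.2 : T) * (n.1 : T) * (b * a) + (m.2 : T) * (n.2 : T) * (b * b) := by ring
          _ = 0 := by rw [haa, hab, hba, hbb]; simp⟩ : U2 →ₐ[ℤ] T).toRingHom

theorem U2lift_inr (a b : T) (haa : a * a = 0) (hab : a * b = 0) (hbb : b * b = 0) (m : ℤ × ℤ) :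
    U2lift a b haa hab hbb (TrivSqZeroExt.inr m) = m.1 • a + m.2 • b := by
  change (TrivSqZeroExt.liftEquivOfComm _ : U2 →ₐ[ℤ] T) (TrivSqZeroExt.inr m) = _
  simp [TrivSqZeroExt.liftEquivOfComm, TrivSqZeroExt.liftEquiv]

/-- The Teichmüller map is additive on elements with vanishing products. -/
theorem teichmuller_add_of_sqZero (a b : T) (haa : a * a = 0) (hab : a * b = 0)
    (hbb : b * b = 0) : teichmuller p (a + b) = teichmuller p a + teichmuller p b := by
  have h := congrArg (WittVector.map (U2lift a b haa hab hbb)) (teichmuller_add_U2 (p := p))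
  rw [RingHom.map_add, map_teichmuller, map_teichmuller, map_teichmuller, RingHom.map_add,
    U2lift_inr, U2lift_inr] at h
  simpa using h

end Universal

section WI

variable {T : Type u} [CommRing T]

/-- `W(𝔞)`: Witt vectors with all coefficients in `𝔞`, as an ideal of `W(T)`. -/
def WI (𝔞 : Ideal T) : Ideal (WittVector p T) :=
  RingHom.ker (WittVector.map (p := p) (Ideal.Quotient.mk 𝔞))

theorem mem_WI {𝔞 : Ideal T} {x : WittVector p T} : x ∈ WI 𝔞 ↔ ∀ n, x.coeff n ∈ 𝔞 := by
  rw [WI, RingHom.mem_ker, WittVector.ext_iff]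
  simp only [WittVector.map_coeff, WittVector.zero_coeff, Ideal.Quotient.eq_zero_iff_mem]

theorem WI_mono {𝔞 𝔟 : Ideal T} (h : 𝔞 ≤ 𝔟) : WI (p := p) 𝔞 ≤ WI 𝔟 := fun _ hx =>
  mem_WI.mpr fun n => h (mem_WI.mp hx n)

theorem WI_bot : WI (p := p) (⊥ : Ideal T) = ⊥ := by
  rw [eq_bot_iff]
  intro x hx
  rw [Ideal.mem_bot]
  ext n
  rw [WittVector.zero_coeff]
  exact (Ideal.mem_bot).mp (mem_WI.mp hx n)

theorem teichmuller_mem_WI {𝔞 : Ideal T} {c : T} (hc : c ∈ 𝔞) : teichmuller p c ∈ WI 𝔞 := by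
  rw [mem_WI]
  intro n
  rcases Nat.eq_zero_or_pos n with rfl | hn
  · rw [teichmuller_coeff_zero]; exact hc
  · rw [teichmuller_coeff_pos p c n hn]; exact zero_mem _

theorem verschiebung_mem_WI {𝔞 : Ideal T} {x : WittVector p T} (hx : x ∈ WI 𝔞) :
    verschiebung x ∈ WI 𝔞 := by
  rw [mem_WI] at hx ⊢
  intro n
  rcases n with _ | n
  · rw [verschiebung_coeff_zero]; exact zero_mem _
  · rw [verschiebung_coeff_succ]; exact hx n

theorem mem_WI_of_verschiebung_mem {𝔞 : Ideal T} {x : WittVector p T}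
    (hx : verschiebung x ∈ WI 𝔞) : x ∈ WI 𝔞 := by
  rw [mem_WI] at hx ⊢
  intro n
  have := hx (n + 1)
  rwa [verschiebung_coeff_succ] at this

/-- `x = [x₀] + V (sh x)`. -/
def sh (x : WittVector p T) : WittVector p T := (x - teichmuller p (x.coeff 0)).shift 1

theorem sh_spec (x : WittVector p T) :
    x = teichmuller p (x.coeff 0) + verschiebung (sh x) := by
  have h0 : ∀ i < 1, (x - teichmuller p (x.coeff 0)).coeff i = 0 := by
    intro i hi
    obtain rfl : i = 0 := by omega
    change constantCoeff (x - teichmuller p (x.coeff 0)) = 0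
    rw [map_sub]
    change x.coeff 0 - (teichmuller p (x.coeff 0)).coeff 0 = 0
    rw [teichmuller_coeff_zero, sub_self]
  have := eq_iterate_verschiebung h0
  rw [Function.iterate_one] at this
  rw [sh, ← this]
  ring

theorem verschiebung_sh (x : WittVector p T) :
    verschiebung (sh x) = x - teichmuller p (x.coeff 0) := by
  have := sh_spec x
  exact eq_sub_of_add_eq' this.symm

end WI

section SqZero

variable {T : Type u} [CommRing T] {𝔠 : Ideal T}
  (hc2 : ∀ a ∈ 𝔠, ∀ b ∈ 𝔠, a * b = 0) (hpc : ∀ a ∈ 𝔠, (p : T) * a = 0)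

include hc2 in
theorem pow_p_eq_zero {a : T} (ha : a ∈ 𝔠) : a ^ p = 0 := by
  obtain ⟨j, hj⟩ : ∃ j, p = j + 2 := ⟨p - 2, by have := hp.out.two_le; omega⟩
  rw [hj, pow_add, pow_two, hc2 a ha a ha, mul_zero]

include hc2 hpc in
/-- The Frobenius kills `W(𝔠)`. -/
theorem frobenius_eq_zero {x : WittVector p T} (hx : x ∈ WI 𝔠) : frobenius x = 0 := by
  ext n
  rw [Groth.Agent.Lib.FrobNil76.coeff_frobenius_eq, WittVector.zero_coeff,
    pow_p_eq_zero hc2 (mem_WI.mp hx n), zero_add]
  exact hpc _ (Groth.Agent.Lib.FrobNil76.aeval_mem_of_constantCoeff_eq_zero 𝔠 _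
    (Groth.Agent.Lib.FrobNil76.constantCoeff_frobeniusPolyAux p n) x.coeff (mem_WI.mp hx))

include hc2 hpc in
theorem verschiebung_mul_eq_zero (v : WittVector p T) {x : WittVector p T} (hx : x ∈ WI 𝔠) :
    verschiebung v * x = 0 := by
  rw [← verschiebung_mul_frobenius, frobenius_eq_zero hc2 hpc hx, mul_zero, map_zero]

include hc2 hpc in
theorem p_mul_eq_zero {x : WittVector p T} (hx : x ∈ WI 𝔠) : (p : WittVector p T) * x = 0 := by
  rw [mul_comm, ← frobenius_verschiebung]
  exact frobenius_eq_zero hc2 hpc (verschiebung_mem_WI hx)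

include hc2 in
/-- `ξ [c] = [ξ₀ c]` for `c ∈ 𝔠`. -/
theorem mul_teichmuller (ξ : WittVector p T) {c : T} (hc : c ∈ 𝔠) :
    ξ * teichmuller p c = teichmuller p (ξ.coeff 0 * c) := by
  conv_lhs => rw [sh_spec ξ]
  rw [add_mul, ← map_mul, ← verschiebung_mul_frobenius,
    Groth.Agent.Lib.WittNilp76.frobenius_teichmuller, pow_p_eq_zero hc2 hc, teichmuller_zero,
    mul_zero, map_zero, add_zero]

omit hc2 hpc in
theorem sh_mem {x : WittVector p T} (hx : x ∈ WI 𝔠) : sh x ∈ WI 𝔠 := by
  apply mem_WI_of_verschiebung_mem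
  rw [verschiebung_sh]
  exact sub_mem hx (teichmuller_mem_WI (mem_WI.mp hx 0))

include hc2 in
theorem sh_add {x y : WittVector p T} (hx : x ∈ WI 𝔠) (hy : y ∈ WI 𝔠) :
    sh (x + y) = sh x + sh y := by
  apply verschiebung_injective p T
  have hx0 := mem_WI.mp hx 0
  have hy0 := mem_WI.mp hy 0
  rw [map_add, verschiebung_sh, verschiebung_sh, verschiebung_sh, WittVector.add_coeff_zero,
    teichmuller_add_of_sqZero _ _ (hc2 _ hx0 _ hx0) (hc2 _ hx0 _ hy0) (hc2 _ hy0 _ hy0)]
  ring

include hc2 in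
theorem sh_mul (ξ : WittVector p T) {x : WittVector p T} (hx : x ∈ WI 𝔠) :
    sh (ξ * x) = frobenius ξ * sh x := by
  apply verschiebung_injective p T
  have hx0 := mem_WI.mp hx 0
  rw [verschiebung_sh, WittVector.mul_coeff_zero, ← mul_teichmuller hc2 ξ hx0, ← mul_sub,
    ← verschiebung_sh, mul_comm (frobenius ξ), verschiebung_mul_frobenius, mul_comm]

theorem sh_zero : sh (0 : WittVector p T) = 0 := by
  apply verschiebung_injective p T
  rw [verschiebung_sh, WittVector.zero_coeff, teichmuller_zero, sub_zero, map_zero]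

/-- The Teichmüller representatives of `𝔠` form an ideal of `W(T)`. -/
def A0 (𝔠 : Ideal T) (hc2 : ∀ a ∈ 𝔠, ∀ b ∈ 𝔠, a * b = 0) : Ideal (WittVector p T) where
  carrier := {x | ∃ c ∈ 𝔠, x = teichmuller p c}
  add_mem' := by
    rintro _ _ ⟨c, hc, rfl⟩ ⟨d, hd, rfl⟩
    exact ⟨c + d, add_mem hc hd,
      (teichmuller_add_of_sqZero c d (hc2 c hc c hc) (hc2 c hc d hd) (hc2 d hd d hd)).symm⟩
  zero_mem' := ⟨0, zero_mem _, (teichmuller_zero (p := p) (R := T)).symm⟩
  smul_mem' := by
    rintro ξ _ ⟨c, hc, rfl⟩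
    exact ⟨ξ.coeff 0 * c, Ideal.mul_mem_left _ _ hc, mul_teichmuller hc2 ξ hc⟩

omit hpc in
theorem teichmuller_mem_A0 {c : T} (hc : c ∈ 𝔠) : teichmuller p c ∈ A0 𝔠 hc2 := ⟨c, hc, rfl⟩

omit hpc in
theorem eq_zero_of_mem_A0_of_constantCoeff {x : WittVector p T} (hx : x ∈ A0 𝔠 hc2)
    (h0 : x.coeff 0 = 0) : x = 0 := by
  obtain ⟨c, _, rfl⟩ := hx
  rw [teichmuller_coeff_zero] at h0
  rw [h0, teichmuller_zero]

omit hpc in
theorem A0_le_WI : A0 (p := p) 𝔠 hc2 ≤ WI 𝔠 := by
  rintro _ ⟨c, hc, rfl⟩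
  exact teichmuller_mem_WI hc

end SqZero

end Groth.Agent.Lib.WittSqZero76
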