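import Mathlib
import Groth.Prelude.Def_Dieu
import Groth.Prelude.Def_Disp2
import Groth.Agent.Lib.WittSqZero76
import Groth.Agent.Lib.VSharpComp76
import Groth.Agent.Lib.VSharpExist76
import Groth.Agent.Lib.DispBCExist76B

/-!
# Rigidity of display homomorphisms, part A: the operator `Ṽ` on `W(𝔠) P'`

For an ideal `𝔠` of `S` with `𝔠² = 0 = p 𝔠` and a 3n-display `D'` on `P'` over `S`, the submodule
`NN p 𝔠 P' = W(𝔠) P'` is killed by `I_S + p W(S)`, and it carries a Frobenius-semilinear operator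
`Vt` (in coordinates `Σ a_j e_j ↦ Σ sh(a_j) F' e_j`) which agrees with `V'⁻¹` on `W(𝔠) P' ∩ Q'`
(`Vinv_eq_VtFun`).
-/

set_option autoImplicit false
universe u v

noncomputable section
namespace Groth.Agent.Lib.DispRigid76
open Dieu WittVector W4c1extbt610 Groth.Agent.Lib.WittSqZero76

section Coord
variable {A : Type u} [CommRing A] {M : Type v} [AddCommGroup M] [Module A M]

theorem exists_coord [Module.Finite A M] [Module.Projective A M] :
    ∃ (n : ℕ) (ι : M →ₗ[A] (Fin n → A)) (r : (Fin n → A) →ₗ[A] M), ∀ x, r (ι x) = x := by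
  obtain ⟨n, f, hf⟩ := Module.Finite.exists_fin' A M
  obtain ⟨g, hg⟩ := Module.projective_lifting_property f LinearMap.id hf
  exact ⟨n, g, f, fun x => LinearMap.congr_fun hg x⟩

variable {n : ℕ} (ι : M →ₗ[A] (Fin n → A)) (r : (Fin n → A) →ₗ[A] M)

theorem eq_sum_coord (hr : ∀ x, r (ι x) = x) (x : M) :
    x = ∑ j, ι x j • r (Pi.single j 1) := by
  conv_lhs => rw [← hr x]
  have : ι x = ∑ j, ι x j • (Pi.single j 1 : Fin n → A) := by
    ext k
    simp [Finset.sum_apply, Pi.single_apply]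
  conv_lhs => rw [this]
  rw [map_sum]
  refine Finset.sum_congr rfl fun j _ => ?_
  rw [map_smul]

theorem coord_mem {J : Ideal A} {x : M} (hx : x ∈ J • (⊤ : Submodule A M)) (j : Fin n) :
    ι x j ∈ J := by
  refine Submodule.smul_induction_on hx (fun a ha y _ => ?_) (fun y₁ y₂ h₁ h₂ => ?_)
  · rw [map_smul, Pi.smul_apply, smul_eq_mul]; exact Ideal.mul_mem_right _ _ ha
  · rw [map_add, Pi.add_apply]; exact add_mem h₁ h₂

theorem mem_smul_top_of_coord (hr : ∀ x, r (ι x) = x) {J : Ideal A} {x : M}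
    (h : ∀ j, ι x j ∈ J) : x ∈ J • (⊤ : Submodule A M) := by
  rw [eq_sum_coord ι r hr x]
  exact Submodule.sum_mem _ fun j _ => Submodule.smul_mem_smul (h j) Submodule.mem_top

end Coord

section Main
variable {p : ℕ} [hp : Fact p.Prime] {S : Type u} [CommRing S]
variable {P' : Type v} [AddCommGroup P'] [Module (WittVector p S) P']
variable {𝔠 : Ideal S} (hc2 : ∀ a ∈ 𝔠, ∀ b ∈ 𝔠, a * b = 0) (hpc : ∀ a ∈ 𝔠, (p : S) * a = 0)

local notation "σ" => (WittVector.frobenius : WittVector p S →+* WittVector p S)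

/-- `N = W(𝔠) P'`. -/
def NN (p : ℕ) [hp : Fact p.Prime] {S : Type u} [CommRing S] (𝔠 : Ideal S) (P' : Type v)
    [AddCommGroup P'] [Module (WittVector p S) P'] : Submodule (WittVector p S) P' :=
  WI (p := p) 𝔠 • ⊤

include hc2 hpc in
theorem smul_eq_zero_of_mem {v : WittVector p S}
    (hv : v ∈ IV p S ⊔ Ideal.span {(p : WittVector p S)})
    {z : P'} (hz : z ∈ NN p 𝔠 P') : v • z = 0 := by
  refine Submodule.smul_induction_on hz (fun a ha y _ => ?_) (fun y₁ y₂ h₁ h₂ => ?_)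
  · rw [← mul_smul]
    have : v * a = 0 := by
      obtain ⟨v₁, hv₁, v₂, hv₂, rfl⟩ := Submodule.mem_sup.mp hv
      obtain ⟨w, rfl⟩ := (Groth.Agent.Lib.VSharpExist76.mem_IV_iff v₁).mp hv₁
      obtain ⟨t, rfl⟩ := Ideal.mem_span_singleton'.mp hv₂
      rw [add_mul, verschiebung_mul_eq_zero hc2 hpc w ha, mul_assoc,
        p_mul_eq_zero hc2 hpc ha, mul_zero, add_zero]
    rw [this, zero_smul]
  · rw [smul_add, h₁, h₂, add_zero]

variable (D' : Display3n p S P') {n : ℕ}
  (ι : P' →ₗ[WittVector p S] (Fin n → WittVector p S))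
  (r : (Fin n → WittVector p S) →ₗ[WittVector p S] P')

/-- `Ṽ` as a raw function: `z ↦ Σ_j sh (z_j) • F' e_j`. -/
def VtFun (z : P') : P' := ∑ j, sh (ι z j) • D'.F (r (Pi.single j 1))

theorem VtFun_mem {z : P'} (hz : z ∈ NN p 𝔠 P') : VtFun D' ι r z ∈ NN p 𝔠 P' :=
  Submodule.sum_mem _ fun j _ =>
    Submodule.smul_mem_smul (sh_mem (coord_mem ι hz j)) Submodule.mem_top

/-- `Ṽ : W(𝔠) P' → W(𝔠) P'`, Frobenius-semilinear. -/
def Vt : ↥(NN p 𝔠 P') →ₛₗ[σ] ↥(NN p 𝔠 P') where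
  toFun z := ⟨VtFun D' ι r z.1, VtFun_mem D' ι r z.2⟩
  map_add' z z' := by
    apply Subtype.ext
    change VtFun D' ι r (z.1 + z'.1) = VtFun D' ι r z.1 + VtFun D' ι r z'.1
    unfold VtFun
    rw [← Finset.sum_add_distrib]
    refine Finset.sum_congr rfl fun j _ => ?_
    rw [map_add, Pi.add_apply, sh_add hc2 (coord_mem ι z.2 j) (coord_mem ι z'.2 j), add_smul]
  map_smul' ξ z := by
    apply Subtype.ext
    change VtFun D' ι r (ξ • z.1) = σ ξ • VtFun D' ι r z.1
    unfold VtFun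
    rw [Finset.smul_sum]
    refine Finset.sum_congr rfl fun j _ => ?_
    rw [map_smul, Pi.smul_apply, smul_eq_mul, sh_mul hc2 ξ (coord_mem ι z.2 j), mul_smul]

theorem Vt_coe (z : ↥(NN p 𝔠 P')) : (Vt hc2 D' ι r z : P') = VtFun D' ι r z.1 := rfl

include hc2 hpc in
/-- `Ṽ` agrees with `V'⁻¹` on `W(𝔠) P' ∩ Q'`. -/
theorem Vinv_eq_VtFun (hr : ∀ x, r (ι x) = x) {z : P'} (hzN : z ∈ NN p 𝔠 P') (hzQ : z ∈ D'.Q) :
    D'.Vinv ⟨z, hzQ⟩ = VtFun D' ι r z := by
  obtain ⟨L, T, hLT, hQ⟩ := D'.exists_normal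
  have ha : ∀ j, ι z j ∈ WI 𝔠 := fun j => coord_mem ι hzN j
  have hc : ∀ j, (ι z j).coeff 0 ∈ 𝔠 := fun j => mem_WI.mp (ha j) 0
  set e : Fin n → P' := fun j => r (Pi.single j 1) with he
  set z₀ : P' := ∑ j, teichmuller p ((ι z j).coeff 0) • e j with hz₀
  set z₁ : P' := ∑ j, verschiebung (sh (ι z j)) • e j with hz₁
  have hz : z = z₀ + z₁ := by
    conv_lhs => rw [eq_sum_coord ι r hr z]
    rw [hz₀, hz₁, ← Finset.sum_add_distrib]
    refine Finset.sum_congr rfl fun j _ => ?_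
    rw [← add_smul, ← sh_spec]
  have hz₁Q : z₁ ∈ D'.Q :=
    Submodule.sum_mem _ fun j _ => D'.IV_smul_le
      (Submodule.smul_mem_smul (verschiebung_mem_IV p S _) Submodule.mem_top)
  have hz₀Q : z₀ ∈ D'.Q := by
    have : z₀ = z - z₁ := by rw [hz]; abel
    rw [this]; exact sub_mem hzQ hz₁Q
  -- the `T`-component of `z₀` vanishes
  have hπT : T.projection L hLT.symm z₀ = 0 := by
    have h1 : T.projection L hLT.symm z₀ ∈ IV p S • (⊤ : Submodule (WittVector p S) P') :=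
      Groth.Agent.Lib.DispBCExist76.projT_mem_of_mem_Q D' hLT hQ hz₀Q
    have h2 : T.projection L hLT.symm z₀ ∈ A0 (p := p) 𝔠 hc2 • (⊤ : Submodule (WittVector p S) P') := by
      rw [hz₀, map_sum]
      refine Submodule.sum_mem _ fun j _ => ?_
      rw [map_smul]
      exact Submodule.smul_mem_smul (teichmuller_mem_A0 hc2 (hc j)) Submodule.mem_top
    have h3 : ι (T.projection L hLT.symm z₀) = 0 := by
      funext k
      have hk1 := coord_mem ι h1 k
      have hk2 := coord_mem ι h2 k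
      obtain ⟨w, hw⟩ := (Groth.Agent.Lib.VSharpExist76.mem_IV_iff _).mp hk1
      refine eq_zero_of_mem_A0_of_constantCoeff hc2 hk2 ?_
      rw [hw, verschiebung_coeff_zero]
    rw [← hr (T.projection L hLT.symm z₀), h3, map_zero]
  have hz₀L : z₀ = ∑ j, teichmuller p ((ι z j).coeff 0) • L.projection T hLT (e j) := by
    have := Submodule.projection_add_projection_eq_self hLT z₀
    rw [hπT, add_zero] at this
    rw [← this, hz₀, map_sum]
    refine Finset.sum_congr rfl fun j _ => ?_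
    rw [map_smul]
  have hLQ : L ≤ D'.Q := Groth.Agent.Lib.DispBCExist76.L_le_Q D' hQ
  have hsub : (⟨z, hzQ⟩ : D'.Q) =
      ∑ j, teichmuller p ((ι z j).coeff 0) •
        (⟨L.projection T hLT (e j), hLQ (Submodule.projection_apply_mem hLT _)⟩ : D'.Q) +
      ∑ j, (⟨verschiebung (sh (ι z j)) • e j, D'.IV_smul_le
        (Submodule.smul_mem_smul (verschiebung_mem_IV p S _) Submodule.mem_top)⟩ : D'.Q) := by
    apply Subtype.ext
    rw [Submodule.coe_add, Submodule.coe_sum, Submodule.coe_sum]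
    simp only [Submodule.coe_smul]
    rw [← hz₀L]
    exact hz
  rw [hsub, map_add, map_sum, map_sum]
  have h0 : ∀ j, D'.Vinv (teichmuller p ((ι z j).coeff 0) •
        (⟨L.projection T hLT (e j), hLQ (Submodule.projection_apply_mem hLT _)⟩ : D'.Q)) = 0 := by
    intro j
    rw [map_smulₛₗ, frobenius_eq_zero hc2 hpc (teichmuller_mem_WI (hc j)), zero_smul]
  rw [Finset.sum_eq_zero fun j _ => h0 j, zero_add]
  unfold VtFun
  refine Finset.sum_congr rfl fun j _ => ?_
  exact D'.Vinv_verschiebung_smul _ _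

end Main

end Groth.Agent.Lib.DispRigid76
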