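import Mathlib
import Groth.Agent.Lib.DispRigid76A

/-!
# Rigidity of display homomorphisms, part B: the clean lemma

`eq_zero_of_sqZero`: let `𝔠 ⊆ S` be an ideal with `𝔠² = 0 = p 𝔠`, `D` a display over `S` (with
nilpotent `V^#`), `D'` a 3n-display and `ψ : D → D'` a homomorphism with `ψ(P) ⊆ W(𝔠) P'`.
Then `ψ = 0`.
-/

set_option autoImplicit false
universe u v

noncomputable section
namespace Groth.Agent.Lib.DispRigid76
open Dieu WittVector W4c1extbt610 Groth.Agent.Lib.WittSqZero76 Groth.Agent.Lib.VSharpComp76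

section Iter
variable {A : Type u} [CommRing A] (τ : A →+* A) {N : Type v} [AddCommGroup N] [Module A N]

/-- The `k`-th iterate of a `τ`-semilinear endomorphism, as a `τ^k`-semilinear map. -/
def iterSL (V : N →ₛₗ[τ] N) (k : ℕ) : N →ₛₗ[τ ^ k] N where
  toFun := V^[k]
  map_add' x y := by
    induction k with
    | zero => rfl
    | succ k ih =>
      rw [Function.iterate_succ_apply', Function.iterate_succ_apply',
        Function.iterate_succ_apply', ih, map_add]
  map_smul' a x := by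
    induction k with
    | zero => simp
    | succ k ih =>
      rw [Function.iterate_succ_apply', Function.iterate_succ_apply', ih, map_smulₛₗ, pow_succ']
      rfl

theorem iterSL_apply (V : N →ₛₗ[τ] N) (k : ℕ) (x : N) : iterSL τ V k x = V^[k] x := rfl

theorem iterSL_succ_apply (V : N →ₛₗ[τ] N) (k : ℕ) (x : N) :
    iterSL τ V (k + 1) x = V (iterSL τ V k x) :=
  Function.iterate_succ_apply' _ _ _

end Iter

section Main
variable {p : ℕ} [hp : Fact p.Prime] {S : Type u} [CommRing S]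
variable {P : Type v} [AddCommGroup P] [Module (WittVector p S) P]
variable {P' : Type v} [AddCommGroup P'] [Module (WittVector p S) P']
variable {𝔠 : Ideal S} (hc2 : ∀ a ∈ 𝔠, ∀ b ∈ 𝔠, a * b = 0) (hpc : ∀ a ∈ 𝔠, (p : S) * a = 0)

local notation "σ" => (WittVector.frobenius : WittVector p S →+* WittVector p S)

variable (D : Display3n p S P) (D' : Display3n p S P') {n : ℕ}
  (ι : P' →ₗ[WittVector p S] (Fin n → WittVector p S))
  (r : (Fin n → WittVector p S) →ₗ[WittVector p S] P')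
  (ψ : P →ₗ[WittVector p S] P') (hψN : ∀ x, ψ x ∈ NN p 𝔠 P')

/-- `ψ` with codomain restricted to `W(𝔠) P'`. -/
def psi0 : P →ₗ[WittVector p S] ↥(NN p 𝔠 P') := ψ.codRestrict _ hψN

theorem psi0_coe (x : P) : (psi0 ψ hψN x : P') = ψ x := rfl

/-- `G k = Ṽ^(k+1) ∘ ψ`. -/
def G (k : ℕ) : P →ₛₗ[σ ^ (k + 1)] ↥(NN p 𝔠 P') :=
  (iterSL σ (Vt hc2 D' ι r) (k + 1)).comp (psi0 ψ hψN)

theorem G_zero_apply (x : P) : G hc2 D' ι r ψ hψN 0 x = Vt hc2 D' ι r (psi0 ψ hψN x) := rfl

theorem G_succ_apply (k : ℕ) (x : P) :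
    G hc2 D' ι r ψ hψN (k + 1) x = Vt hc2 D' ι r (G hc2 D' ι r ψ hψN k x) :=
  iterSL_succ_apply σ _ (k + 1) _

theorem lift_G_push (k : ℕ) (u : BC (σ ^ (k + 1)) P) :
    BC.lift (σ ^ (k + 1 + 1)) (G hc2 D' ι r ψ hψN (k + 1))
        (BC.castHom (comp_pow_eq_pow_succ σ (k + 1)) (BC.push (σ ^ (k + 1)) σ u)) =
      Vt hc2 D' ι r (BC.lift (σ ^ (k + 1)) (G hc2 D' ι r ψ hψN k) u) := by
  induction u using BC.induction_on (σ ^ (k + 1)) with
  | zero => rw [map_zero, map_zero, map_zero, map_zero, map_zero]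
  | tmul a t =>
    rw [BC.push_tmul, BC.castHom_tmul, BC.lift_tmul, BC.lift_tmul, map_smulₛₗ, G_succ_apply]
  | add z₁ z₂ h₁ h₂ => rw [map_add, map_add, map_add, map_add, map_add, h₁, h₂]

variable {D D'}

include hpc in
theorem lift_G_zero (hr : ∀ x, r (ι x) = x) (hψ : IsHom D D' ψ)
    {Vs : P →ₗ[WittVector p S] BC σ P} (hVs : IsVSharp D Vs) (x : P) :
    BC.lift (σ ^ (0 + 1)) (G hc2 D' ι r ψ hψN 0) (vSharpPow Vs 0 x) = psi0 ψ hψN x := by
  have key : (BC.lift (σ ^ (0 + 1)) (G hc2 D' ι r ψ hψN 0)).comp (vSharpPow Vs 0) = psi0 ψ hψN := by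
    refine LinearMap.ext_on D.span_range_Vinv ?_
    rintro _ ⟨y, rfl⟩
    have h1 : Vs (D.Vinv y) = BC.tmul σ 1 (y : P) := by
      have := hVs.app_smul_Vinv 1 y
      rwa [one_smul] at this
    rw [LinearMap.comp_apply, vSharpPow_zero_apply, h1, BC.castHom_tmul, BC.lift_tmul, one_smul,
      G_zero_apply]
    apply Subtype.ext
    rw [Vt_coe, psi0_coe, psi0_coe, hψ.comm_Vinv y]
    exact (Vinv_eq_VtFun hc2 hpc D' ι r hr (hψN _) _).symm
  exact LinearMap.congr_fun key x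

include hpc in
theorem lift_G_vSharpPow (hr : ∀ x, r (ι x) = x) (hψ : IsHom D D' ψ)
    {Vs : P →ₗ[WittVector p S] BC σ P} (hVs : IsVSharp D Vs) (k : ℕ) (x : P) :
    BC.lift (σ ^ (k + 1)) (G hc2 D' ι r ψ hψN k) (vSharpPow Vs k x) = psi0 ψ hψN x := by
  induction k generalizing x with
  | zero => exact lift_G_zero hc2 hpc ι r ψ hψN hr hψ hVs x
  | succ k ih =>
    have claim : ∀ u : BC σ P,
        BC.lift (σ ^ (k + 1 + 1)) (G hc2 D' ι r ψ hψN (k + 1))
          (BC.castHom (comp_pow_eq_pow_succ σ (k + 1)) (Psi σ (vSharpPow Vs k) u)) =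
        BC.lift (σ ^ (0 + 1)) (G hc2 D' ι r ψ hψN 0) (BC.castHom (pow_one σ).symm u) := by
      intro u
      induction u using BC.induction_on σ with
      | zero => rw [map_zero, map_zero, map_zero, map_zero, map_zero]
      | tmul w y =>
        rw [Psi_tmul, map_smul, map_smul, lift_G_push, ih, BC.castHom_tmul, BC.lift_tmul,
          G_zero_apply]
      | add z₁ z₂ h₁ h₂ => rw [map_add, map_add, map_add, map_add, map_add, h₁, h₂]
    rw [vSharpPow_succ_eq, star_apply, claim]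
    exact lift_G_zero hc2 hpc ι r ψ hψN hr hψ hVs x

include hc2 hpc in
/-- **Clean lemma.** -/
theorem eq_zero_of_sqZero (hD : IsDisplay D) (hψ : IsHom D D' ψ)
    (hψN : ∀ x, ψ x ∈ WI (p := p) 𝔠 • (⊤ : Submodule (WittVector p S) P')) : ψ = 0 := by
  obtain ⟨Vs, hVs, k, hk⟩ := hD
  have := D'.finite
  have := D'.projective
  obtain ⟨n, ι, r, hr⟩ := exists_coord (A := WittVector p S) (M := P')
  have hψN' : ∀ x, ψ x ∈ NN p 𝔠 P' := hψN
  ext x
  have h1 := lift_G_vSharpPow hc2 hpc ι r ψ hψN' hr hψ hVs k x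
  have h2 : ∀ u : BC (σ ^ (k + 1)) P,
      u ∈ (IV p S ⊔ Ideal.span {(p : WittVector p S)}) •
        (⊤ : Submodule (WittVector p S) (BC (σ ^ (k + 1)) P)) →
      BC.lift (σ ^ (k + 1)) (G hc2 D' ι r ψ hψN' k) u = 0 := by
    intro u hu
    refine Submodule.smul_induction_on hu (fun a ha y _ => ?_) (fun y₁ y₂ h₁ h₂ => ?_)
    · rw [map_smul]
      apply Subtype.ext
      rw [Submodule.coe_smul, Submodule.coe_zero]
      exact smul_eq_zero_of_mem hc2 hpc ha (Subtype.property _)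
    · rw [map_add, h₁, h₂, add_zero]
  rw [h2 _ (hk x)] at h1
  have := congrArg Subtype.val h1
  rw [psi0_coe] at this
  rw [LinearMap.zero_apply, ← this]
  rfl

end Main

end Groth.Agent.Lib.DispRigid76
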