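import Mathlib
import Groth.Agent.Lib.DispRigid76B
import Groth.Agent.Lib.DispBC76
import Groth.Agent.Lib.DispBCExist76D

/-!
# Rigidity of display homomorphisms, part C

* `mem_ker_smul_top` : for `P` finite projective, `1 ⊗ x = 0` in `B ⊗_{φ,A} P` implies
  `x ∈ ker φ • P`.
* `isHom_map` : `1 ⊗ ψ` is a homomorphism between the base changes.
* `mem_WI_smul_top_of_sq` : the key step `W(𝔠) P' → W(𝔟) P'` for `𝔠² + p 𝔠 ⊆ 𝔟`.
* `eq_zero_of_nilpotent` : **rigidity**: a homomorphism from a display to a 3n-display over `S`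
  (`p` nilpotent) with image in `W(𝔞) P'`, `𝔞` nilpotent, vanishes.
-/

set_option autoImplicit false
universe u v

noncomputable section
namespace Groth.Agent.Lib.DispRigid76
open Dieu WittVector W4c1extbt610 Groth.Agent.Lib.WittSqZero76

section Ker
variable {A B : Type u} [CommRing A] [CommRing B] (φ : A →+* B)
variable {M : Type v} [AddCommGroup M] [Module A M]

/-- `x ↦ (φ (x_j))_j`, `φ`-semilinear. -/
def coordSL {n : ℕ} (ι : M →ₗ[A] (Fin n → A)) : M →ₛₗ[φ] (Fin n → B) where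
  toFun x j := φ (ι x j)
  map_add' x y := by ext j; simp
  map_smul' a x := by ext j; simp

theorem mem_ker_smul_top [Module.Finite A M] [Module.Projective A M] {x : M}
    (hx : BC.tmul φ 1 x = 0) : x ∈ RingHom.ker φ • (⊤ : Submodule A M) := by
  obtain ⟨n, ι, r, hr⟩ := exists_coord (A := A) (M := M)
  refine mem_smul_top_of_coord ι r hr fun j => ?_
  have h := congrArg (BC.lift φ (coordSL φ ι)) hx
  rw [BC.lift_tmul, one_smul, map_zero] at h
  exact congrFun h j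

end Ker

section Hom
variable {p : ℕ} [hp : Fact p.Prime] {S R : Type u} [CommRing S] [CommRing R] {f : S →+* R}
variable {P : Type v} [AddCommGroup P] [Module (WittVector p S) P]
variable {P' : Type v} [AddCommGroup P'] [Module (WittVector p S) P']

local notation "φ" => (WittVector.map f : WittVector p S →+* WittVector p R)

open Groth.Agent.Lib.DispBC76 in
theorem isHom_map {D : Display3n p S P} {D' : Display3n p S P'}
    {DR : Display3n p R (BC φ P)} {DR' : Display3n p R (BC φ P')}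
    (hDR : IsDispBaseChange f D DR) (hDR' : IsDispBaseChange f D' DR')
    {ψ : P →ₗ[WittVector p S] P'} (hψ : IsHom D D' ψ) : IsHom DR DR' (BC.map φ ψ) := by
  have hmaps : ∀ q, q ∈ DR.Q → BC.map φ ψ q ∈ DR'.Q := by
    intro q hq
    refine mem_Q_induction hDR (motive := fun z => BC.map φ ψ z ∈ DR'.Q) q hq ?_ ?_ ?_ ?_
    · rw [map_zero]; exact zero_mem _
    · intro a b ha hb; rw [map_add]; exact add_mem ha hb
    · intro w y hy; rw [BC.map_tmul]; exact tmul_mem_Q hDR' w _ (hψ.mapsTo y hy)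
    · intro w x; rw [BC.map_tmul]; exact verschiebung_tmul_mem_Q hDR' w _
  refine ⟨hmaps, ?_, ?_⟩
  · intro z
    induction z using BC.induction_on φ with
    | zero => simp only [map_zero]
    | tmul w x => rw [hDR.F_tmul, BC.map_tmul, BC.map_tmul, hDR'.F_tmul, hψ.comm_F]
    | add z₁ z₂ h₁ h₂ => rw [map_add, map_add, map_add, map_add, h₁, h₂]
  · rintro ⟨z, hz⟩
    have key : ∃ (hz' : z ∈ DR.Q) (hz'' : BC.map φ ψ z ∈ DR'.Q),
        BC.map φ ψ (DR.Vinv ⟨z, hz'⟩) = DR'.Vinv ⟨BC.map φ ψ z, hz''⟩ := by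
      refine mem_Q_induction hDR (motive := fun z => ∃ (hz' : z ∈ DR.Q)
        (hz'' : BC.map φ ψ z ∈ DR'.Q),
        BC.map φ ψ (DR.Vinv ⟨z, hz'⟩) = DR'.Vinv ⟨BC.map φ ψ z, hz''⟩) z hz ?_ ?_ ?_ ?_
      · refine ⟨zero_mem _, by rw [map_zero]; exact zero_mem _, ?_⟩
        have h1 : (⟨0, zero_mem _⟩ : DR.Q) = 0 := rfl
        have h2 : (⟨BC.map φ ψ 0, by rw [map_zero]; exact zero_mem _⟩ : DR'.Q) = 0 :=
          Subtype.ext (map_zero _)
        rw [h1, h2, map_zero, map_zero, map_zero]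
      · rintro a b ⟨ha, ha', ea⟩ ⟨hb, hb', eb⟩
        refine ⟨add_mem ha hb, by rw [map_add]; exact add_mem ha' hb', ?_⟩
        have h1 : (⟨a + b, add_mem ha hb⟩ : DR.Q) = ⟨a, ha⟩ + ⟨b, hb⟩ := rfl
        have h2 : (⟨BC.map φ ψ (a + b), by rw [map_add]; exact add_mem ha' hb'⟩ : DR'.Q) =
            ⟨BC.map φ ψ a, ha'⟩ + ⟨BC.map φ ψ b, hb'⟩ := Subtype.ext (map_add _ _ _)
        rw [h1, h2, map_add, map_add, map_add, ea, eb]
      · intro w y hy
        have hm : BC.map φ ψ (BC.tmul φ w y) = BC.tmul φ w (ψ y) := BC.map_tmul φ ψ w y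
        have h2 : BC.tmul φ w (ψ y) ∈ DR'.Q := tmul_mem_Q hDR' w _ (hψ.mapsTo y hy)
        refine ⟨tmul_mem_Q hDR w y hy, hm ▸ h2, ?_⟩
        have h3 : (⟨BC.map φ ψ (BC.tmul φ w y), hm ▸ h2⟩ : DR'.Q) = ⟨BC.tmul φ w (ψ y), h2⟩ :=
          Subtype.ext hm
        rw [h3, hDR.Vinv_tmul w ⟨y, hy⟩ (tmul_mem_Q hDR w y hy), BC.map_tmul,
          hDR'.Vinv_tmul w ⟨ψ y, hψ.mapsTo y hy⟩ h2, hψ.comm_Vinv ⟨y, hy⟩]
      · intro w x
        have hm : BC.map φ ψ (BC.tmul φ (verschiebung w) x) = BC.tmul φ (verschiebung w) (ψ x) :=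
          BC.map_tmul φ ψ _ x
        have h2 : BC.tmul φ (verschiebung w) (ψ x) ∈ DR'.Q := verschiebung_tmul_mem_Q hDR' w _
        refine ⟨verschiebung_tmul_mem_Q hDR w x, hm ▸ h2, ?_⟩
        have h3 : (⟨BC.map φ ψ (BC.tmul φ (verschiebung w) x), hm ▸ h2⟩ : DR'.Q) =
            ⟨BC.tmul φ (verschiebung w) (ψ x), h2⟩ := Subtype.ext hm
        rw [h3, hDR.Vinv_verschiebung_tmul w x (verschiebung_tmul_mem_Q hDR w x), BC.map_tmul,
          hDR'.Vinv_verschiebung_tmul w (ψ x) h2, hψ.comm_F]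
    obtain ⟨_, _, e⟩ := key
    exact e

theorem map_mem_WI {𝔠 : Ideal S} {a : WittVector p S} (ha : a ∈ WI 𝔠) :
    WittVector.map f a ∈ WI (𝔠.map f) := by
  rw [mem_WI] at ha ⊢
  intro n
  rw [WittVector.map_coeff]
  exact Ideal.mem_map_of_mem f (ha n)

theorem tmul_mem_WI_smul_top {𝔠 : Ideal S} {x : P'}
    (hx : x ∈ WI (p := p) 𝔠 • (⊤ : Submodule (WittVector p S) P')) (w : WittVector p R) :
    BC.tmul φ w x ∈ WI (p := p) (𝔠.map f) • (⊤ : Submodule (WittVector p R) (BC φ P')) := by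
  refine Submodule.smul_induction_on hx (fun a ha y _ => ?_) (fun y₁ y₂ h₁ h₂ => ?_)
  · rw [← BC.tmul_mul_apply, mul_comm, BC.tmul_eq_smul_tmul_one, mul_smul]
    exact Submodule.smul_mem_smul (map_mem_WI ha) Submodule.mem_top
  · rw [BC.tmul_add]; exact add_mem h₁ h₂

theorem map_mem_WI_smul_top {𝔠 : Ideal S} {ψ : P →ₗ[WittVector p S] P'}
    (hψ : ∀ x, ψ x ∈ WI (p := p) 𝔠 • (⊤ : Submodule (WittVector p S) P')) (z : BC φ P) :
    BC.map φ ψ z ∈ WI (p := p) (𝔠.map f) • (⊤ : Submodule (WittVector p R) (BC φ P')) := by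
  induction z using BC.induction_on φ with
  | zero => rw [map_zero]; exact zero_mem _
  | tmul w x => rw [BC.map_tmul]; exact tmul_mem_WI_smul_top (hψ x) w
  | add z₁ z₂ h₁ h₂ => rw [map_add]; exact add_mem h₁ h₂

end Hom

section Rigid
variable {p : ℕ} [hp : Fact p.Prime] {S : Type u} [CommRing S]
variable {P : Type v} [AddCommGroup P] [Module (WittVector p S) P]
variable {P' : Type v} [AddCommGroup P'] [Module (WittVector p S) P']
variable {D : Display3n p S P} {D' : Display3n p S P'} {ψ : P →ₗ[WittVector p S] P'}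

/-- The key step: if `𝔠² ⊆ 𝔟` and `p 𝔠 ⊆ 𝔟`, a homomorphism with image in `W(𝔠) P'` has image in
`W(𝔟) P'`. -/
theorem mem_WI_smul_top_of_sq (hD : IsDisplay D) (hψ : IsHom D D' ψ) {𝔠 𝔟 : Ideal S}
    (h2 : ∀ a ∈ 𝔠, ∀ b ∈ 𝔠, a * b ∈ 𝔟) (hpc : ∀ a ∈ 𝔠, (p : S) * a ∈ 𝔟)
    (hψ𝔠 : ∀ x, ψ x ∈ WI (p := p) 𝔠 • (⊤ : Submodule (WittVector p S) P')) (x : P) :
    ψ x ∈ WI (p := p) 𝔟 • (⊤ : Submodule (WittVector p S) P') := by
  obtain ⟨DR, hDR, -⟩ := Groth.Agent.Lib.DispBCExist76.existsUnique_baseChange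
    (Ideal.Quotient.mk 𝔟) D
  obtain ⟨DR', hDR', -⟩ := Groth.Agent.Lib.DispBCExist76.existsUnique_baseChange
    (Ideal.Quotient.mk 𝔟) D'
  have hDisp := Groth.Agent.Lib.DispBC76.isDisplay_baseChange hD hDR
  have hHom := isHom_map hDR hDR' hψ
  have hc2' : ∀ a ∈ 𝔠.map (Ideal.Quotient.mk 𝔟), ∀ b ∈ 𝔠.map (Ideal.Quotient.mk 𝔟),
      a * b = 0 := by
    intro a ha b hb
    obtain ⟨a', ha', rfl⟩ :=
      (Ideal.mem_map_iff_of_surjective _ Ideal.Quotient.mk_surjective).mp ha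
    obtain ⟨b', hb', rfl⟩ :=
      (Ideal.mem_map_iff_of_surjective _ Ideal.Quotient.mk_surjective).mp hb
    rw [← map_mul, Ideal.Quotient.eq_zero_iff_mem]
    exact h2 a' ha' b' hb'
  have hpc' : ∀ a ∈ 𝔠.map (Ideal.Quotient.mk 𝔟), (p : S ⧸ 𝔟) * a = 0 := by
    intro a ha
    obtain ⟨a', ha', rfl⟩ :=
      (Ideal.mem_map_iff_of_surjective _ Ideal.Quotient.mk_surjective).mp ha
    rw [← map_natCast (Ideal.Quotient.mk 𝔟), ← map_mul, Ideal.Quotient.eq_zero_iff_mem]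
    exact hpc a' ha'
  have hzero := eq_zero_of_sqZero hc2' hpc' (BC.map _ ψ) hDisp hHom
    (map_mem_WI_smul_top hψ𝔠)
  have h1 : BC.tmul (WittVector.map (Ideal.Quotient.mk 𝔟) : WittVector p S →+* _) 1 (ψ x) = 0 := by
    rw [← BC.map_tmul, hzero, LinearMap.zero_apply]
  have := D'.finite
  have := D'.projective
  exact mem_ker_smul_top _ h1

/-- **Rigidity.**  Over a ring `S` in which `p` is nilpotent, a homomorphism from a display to a
3n-display whose image lies in `W(𝔞) P'` for a nilpotent ideal `𝔞` is zero. -/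
theorem eq_zero_of_nilpotent (hp' : IsNilpotent (p : S)) {𝔞 : Ideal S} (h𝔞 : IsNilpotent 𝔞)
    (hD : IsDisplay D) (hψ : IsHom D D' ψ)
    (hψ𝔞 : ∀ x, ψ x ∈ WI (p := p) 𝔞 • (⊤ : Submodule (WittVector p S) P')) : ψ = 0 := by
  set J : Ideal S := Ideal.span {(p : S)} ⊔ 𝔞 with hJ
  have hJnil : IsNilpotent J := by
    have h1 : IsNilpotent (Ideal.span {(p : S)}) := by
      obtain ⟨m, hm⟩ := hp'
      exact ⟨m, by rw [Ideal.span_singleton_pow, hm, Ideal.zero_eq_bot, Ideal.span_singleton_eq_bot]⟩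
    rw [hJ, ← Ideal.add_eq_sup]
    exact Commute.isNilpotent_add (Commute.all _ _) h1 h𝔞
  obtain ⟨m, hm⟩ := hJnil
  have h𝔞J : 𝔞 ≤ J := le_sup_right
  have hpJ : (p : S) ∈ J := le_sup_left (a := Ideal.span {(p : S)}) (Ideal.mem_span_singleton_self _)
  have key : ∀ i : ℕ, ∀ x, ψ x ∈ WI (p := p) (J ^ i * 𝔞) • (⊤ : Submodule (WittVector p S) P') := by
    intro i
    induction i with
    | zero => intro x; rw [pow_zero, one_mul]; exact hψ𝔞 x
    | succ i ih =>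
      refine mem_WI_smul_top_of_sq hD hψ ?_ ?_ ih
      · intro a ha b hb
        have h1 : a ∈ J ^ (i + 1) := by
          rw [pow_succ]
          exact Ideal.mul_mono le_rfl h𝔞J ha
        have h2 : b ∈ 𝔞 := Ideal.mul_le_right hb
        exact Ideal.mul_mem_mul h1 h2
      · intro a ha
        rw [pow_succ', mul_assoc]
        exact Ideal.mul_mem_mul hpJ ha
  ext x
  have := key m x
  rw [hm, Ideal.zero_eq_bot, Ideal.bot_mul, WI_bot, Submodule.bot_smul, Submodule.mem_bot] at this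
  rw [this, LinearMap.zero_apply]

end Rigid

end Groth.Agent.Lib.DispRigid76
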