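import Mathlib
import Groth.Agent.Lib.DispRigid76C

/-!
# Rigidity of display homomorphisms, part D: consequences

* `eq_zero_of_p_mul_eq_zero` : `W(R)` has no `p`-torsion for `R` reduced with `p = 0`.
* `eq_zero_of_smul_eq_zero` : finite projective modules inherit torsion-freeness.
* `hom_eq_zero_of_p_smul_eq_zero` : over `S` with `p` nilpotent and nilpotent nilradical, a
  homomorphism of displays killed by `p` is zero.
* `hom_eq_of_map_eq` : base change along a surjection with nilpotent kernel is injective on
  homomorphisms of displays.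
-/

set_option autoImplicit false
universe u v

noncomputable section
namespace Groth.Agent.Lib.DispRigid76
open Dieu WittVector W4c1extbt610 Groth.Agent.Lib.WittSqZero76

section Torsion
variable {p : ℕ} [hp : Fact p.Prime]

theorem eq_zero_of_p_mul_eq_zero {R : Type u} [CommRing R] [IsReduced R] (hp0 : (p : R) = 0)
    (x : WittVector p R) (hx : (p : WittVector p R) * x = 0) : x = 0 := by
  cases subsingleton_or_nontrivial R
  · ext n; exact Subsingleton.elim _ _
  · have hchar : CharP R p := (CharP.charP_iff_prime_eq_zero hp.out).mpr hp0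
    ext n
    have h1 : (x * p).coeff (n + 1) = 0 := by rw [mul_comm, hx, WittVector.zero_coeff]
    rw [WittVector.mul_charP_coeff_succ] at h1
    rw [WittVector.zero_coeff]
    exact IsReduced.eq_zero _ ⟨p, h1⟩

theorem eq_zero_of_smul_eq_zero {B : Type u} [CommRing B] {M : Type v} [AddCommGroup M]
    [Module B M] [Module.Finite B M] [Module.Projective B M] (c : B)
    (hc : ∀ b : B, c * b = 0 → b = 0) (z : M) (hz : c • z = 0) : z = 0 := by
  obtain ⟨n, ι, r, hr⟩ := exists_coord (A := B) (M := M)
  rw [← hr z]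
  have : ι z = 0 := by
    funext j
    apply hc
    have := congrFun (congrArg ι hz) j
    rwa [map_smul, map_zero] at this
  rw [this, map_zero]

end Torsion

section Main
variable {p : ℕ} [hp : Fact p.Prime] {S : Type u} [CommRing S]
variable {P : Type v} [AddCommGroup P] [Module (WittVector p S) P]
variable {P' : Type v} [AddCommGroup P'] [Module (WittVector p S) P']
variable {D : Display3n p S P} {D' : Display3n p S P'} {ψ : P →ₗ[WittVector p S] P'}

theorem hom_eq_zero_of_p_smul_eq_zero (hp' : IsNilpotent (p : S))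
    (hn : IsNilpotent (nilradical S)) (hD : IsDisplay D) (hψ : IsHom D D' ψ)
    (h : (p : WittVector p S) • ψ = 0) : ψ = 0 := by
  refine eq_zero_of_nilpotent hp' hn hD hψ fun x => ?_
  have := D'.finite
  have := D'.projective
  refine mem_ker_smul_top (WittVector.map (Ideal.Quotient.mk (nilradical S))) ?_
  obtain ⟨DR', hDR', -⟩ := Groth.Agent.Lib.DispBCExist76.existsUnique_baseChange
    (Ideal.Quotient.mk (nilradical S)) D'
  have := DR'.finite
  have := DR'.projective
  have hred : IsReduced (S ⧸ nilradical S) :=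
    (Ideal.isRadical_iff_quotient_reduced _).mp (Ideal.radical_isRadical _)
  have hp0 : ((p : S ⧸ nilradical S)) = 0 := by
    rw [← map_natCast (Ideal.Quotient.mk (nilradical S)), Ideal.Quotient.eq_zero_iff_mem]
    exact mem_nilradical.mpr hp'
  apply eq_zero_of_smul_eq_zero (p : WittVector p (S ⧸ nilradical S))
    (eq_zero_of_p_mul_eq_zero hp0)
  have h1 : (p : WittVector p S) • ψ x = 0 := by
    have := LinearMap.congr_fun h x
    rwa [LinearMap.smul_apply, LinearMap.zero_apply] at this
  rw [BC.smul_tmul, mul_one,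
    ← map_natCast (WittVector.map (Ideal.Quotient.mk (nilradical S)) :
      WittVector p S →+* WittVector p (S ⧸ nilradical S)),
    BC.tmul_apply_eq, h1, BC.tmul_zero]

theorem isHom_sub {ψ χ : P →ₗ[WittVector p S] P'} (hψ : IsHom D D' ψ) (hχ : IsHom D D' χ) :
    IsHom D D' (ψ - χ) := by
  have hm : ∀ q, q ∈ D.Q → (ψ - χ) q ∈ D'.Q := fun q hq => by
    rw [LinearMap.sub_apply]; exact sub_mem (hψ.mapsTo q hq) (hχ.mapsTo q hq)
  refine ⟨hm, fun x => ?_, fun q => ?_⟩
  · rw [LinearMap.sub_apply, LinearMap.sub_apply, hψ.comm_F, hχ.comm_F, map_sub]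
  · have h1 : (⟨(ψ - χ) q, hm q q.2⟩ : D'.Q) =
        ⟨ψ q, hψ.mapsTo q q.2⟩ - ⟨χ q, hχ.mapsTo q q.2⟩ := rfl
    rw [h1, map_sub, LinearMap.sub_apply, hψ.comm_Vinv, hχ.comm_Vinv]

theorem hom_eq_of_map_eq {R : Type u} [CommRing R] (hp' : IsNilpotent (p : S)) (f : S →+* R)
    (hker : IsNilpotent (RingHom.ker f)) (hD : IsDisplay D)
    {ψ χ : P →ₗ[WittVector p S] P'} (hψ : IsHom D D' ψ) (hχ : IsHom D D' χ)
    (h : BC.map (WittVector.map f : WittVector p S →+* WittVector p R) ψ =
      BC.map (WittVector.map f : WittVector p S →+* WittVector p R) χ) : ψ = χ := by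
  rw [← sub_eq_zero]
  refine eq_zero_of_nilpotent hp' hker hD (isHom_sub hψ hχ) fun x => ?_
  have := D'.finite
  have := D'.projective
  have h1 : BC.tmul (WittVector.map f : WittVector p S →+* WittVector p R) 1 ((ψ - χ) x) = 0 := by
    have e1 : BC.tmul (WittVector.map f : WittVector p S →+* WittVector p R) 1 (ψ x) =
        BC.tmul (WittVector.map f : WittVector p S →+* WittVector p R) 1 (χ x) := by
      rw [← BC.map_tmul, ← BC.map_tmul, h]
    rw [LinearMap.sub_apply, sub_eq_add_neg, BC.tmul_add, BC.tmul_neg, e1, add_neg_cancel]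
  have h2 := mem_ker_smul_top _ h1
  refine Submodule.smul_mono_left ?_ h2
  intro a ha
  rw [RingHom.mem_ker] at ha
  rw [mem_WI]
  intro n
  have := congrArg (fun y => y.coeff n) ha
  simpa [WittVector.map_coeff, RingHom.mem_ker] using this

end Main

end Groth.Agent.Lib.DispRigid76
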