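import Mathlib
import Groth.Agent.Lib.DispRigid76D

/-!
# Lifting homomorphisms of 3n-displays along nilpotent surjections, up to a power of `p`

For a surjection `f : S → R` with nilpotent kernel (`p` nilpotent in `S`), every homomorphism
`χ` between the base changes of two 3n-displays `D`, `D'` over `S` lifts after multiplication by
a power of `p`: `exists_lift`.  The argument is elementary: any `W(S)`-linear lift `α` of `χ` is a
homomorphism "modulo `W(𝔞)`" (`HomMod`), and multiplication by `p` improves the modulus from `𝔟`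
to any `𝔟'` containing `𝔟² + p𝔟` since `p • W(𝔟) ⊆ W(𝔟')` (`p_mul_mem_WI`).
-/

set_option autoImplicit false
universe u v

noncomputable section
namespace Groth.Agent.Lib.DispLift76
open Dieu WittVector W4c1extbt610 Groth.Agent.Lib.WittSqZero76 Groth.Agent.Lib.DispRigid76
open Groth.Agent.Lib.DispBC76

section Ideal
variable {p : ℕ} [hp : Fact p.Prime] {S : Type u} [CommRing S]

theorem ker_map_eq_WI {R : Type u} [CommRing R] (g : S →+* R) :
    RingHom.ker (WittVector.map g : WittVector p S →+* WittVector p R) = WI (RingHom.ker g) := by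
  ext x
  rw [RingHom.mem_ker, mem_WI, WittVector.ext_iff]
  simp only [WittVector.map_coeff, WittVector.zero_coeff, RingHom.mem_ker]

theorem sqZero_map {𝔟 𝔟' : Ideal S} (h2 : ∀ a ∈ 𝔟, ∀ b ∈ 𝔟, a * b ∈ 𝔟') :
    ∀ a ∈ 𝔟.map (Ideal.Quotient.mk 𝔟'), ∀ b ∈ 𝔟.map (Ideal.Quotient.mk 𝔟'), a * b = 0 := by
  intro a ha b hb
  obtain ⟨a', ha', rfl⟩ :=
    (Ideal.mem_map_iff_of_surjective _ Ideal.Quotient.mk_surjective).mp ha
  obtain ⟨b', hb', rfl⟩ :=
    (Ideal.mem_map_iff_of_surjective _ Ideal.Quotient.mk_surjective).mp hb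
  rw [← map_mul, Ideal.Quotient.eq_zero_iff_mem]
  exact h2 a' ha' b' hb'

omit hp in
theorem p_mul_map {𝔟 𝔟' : Ideal S} (hpb : ∀ a ∈ 𝔟, (p : S) * a ∈ 𝔟') :
    ∀ a ∈ 𝔟.map (Ideal.Quotient.mk 𝔟'), (p : S ⧸ 𝔟') * a = 0 := by
  intro a ha
  obtain ⟨a', ha', rfl⟩ :=
    (Ideal.mem_map_iff_of_surjective _ Ideal.Quotient.mk_surjective).mp ha
  rw [← map_natCast (Ideal.Quotient.mk 𝔟'), ← map_mul, Ideal.Quotient.eq_zero_iff_mem]
  exact hpb a' ha'

/-- `p • W(𝔟) ⊆ W(𝔟')` when `𝔟² + p𝔟 ⊆ 𝔟'`. -/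
theorem p_mul_mem_WI {𝔟 𝔟' : Ideal S} (h2 : ∀ a ∈ 𝔟, ∀ b ∈ 𝔟, a * b ∈ 𝔟')
    (hpb : ∀ a ∈ 𝔟, (p : S) * a ∈ 𝔟') {x : WittVector p S} (hx : x ∈ WI 𝔟) :
    (p : WittVector p S) * x ∈ WI 𝔟' := by
  have h1 := p_mul_eq_zero (sqZero_map h2) (p_mul_map hpb)
    (map_mem_WI (f := Ideal.Quotient.mk 𝔟') hx)
  change _ ∈ RingHom.ker _
  rw [RingHom.mem_ker, map_mul, map_natCast]
  exact h1

theorem p_smul_mem {P' : Type v} [AddCommGroup P'] [Module (WittVector p S) P']
    {𝔟 𝔟' : Ideal S} (h2 : ∀ a ∈ 𝔟, ∀ b ∈ 𝔟, a * b ∈ 𝔟')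
    (hpb : ∀ a ∈ 𝔟, (p : S) * a ∈ 𝔟') {z : P'}
    (hz : z ∈ WI (p := p) 𝔟 • (⊤ : Submodule (WittVector p S) P')) :
    (p : WittVector p S) • z ∈ WI (p := p) 𝔟' • (⊤ : Submodule (WittVector p S) P') := by
  refine Submodule.smul_induction_on hz (fun a ha y _ => ?_) (fun y₁ y₂ h₁ h₂ => ?_)
  · rw [← mul_smul]
    exact Submodule.smul_mem_smul (p_mul_mem_WI h2 hpb ha) Submodule.mem_top
  · rw [smul_add]; exact add_mem h₁ h₂

end Ideal

section HomMod
variable {p : ℕ} [hp : Fact p.Prime] {S : Type u} [CommRing S]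
variable {P : Type v} [AddCommGroup P] [Module (WittVector p S) P]
variable {P' : Type v} [AddCommGroup P'] [Module (WittVector p S) P']

/-- `α` is a homomorphism of 3n-displays modulo `W(𝔟) P'`. -/
structure HomMod (D : Display3n p S P) (D' : Display3n p S P') (𝔟 : Ideal S)
    (α : P →ₗ[WittVector p S] P') : Prop where
  comm_F : ∀ x, α (D.F x) - D'.F (α x) ∈
    WI (p := p) 𝔟 • (⊤ : Submodule (WittVector p S) P')
  comm_Vinv : ∀ y : D.Q, ∃ q' : D'.Q,
    α y - q' ∈ WI (p := p) 𝔟 • (⊤ : Submodule (WittVector p S) P') ∧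
    α (D.Vinv y) - D'.Vinv q' ∈ WI (p := p) 𝔟 • (⊤ : Submodule (WittVector p S) P')

variable {D : Display3n p S P} {D' : Display3n p S P'} {α : P →ₗ[WittVector p S] P'}

theorem HomMod.p_smul {𝔟 𝔟' : Ideal S} (h : HomMod D D' 𝔟 α)
    (h2 : ∀ a ∈ 𝔟, ∀ b ∈ 𝔟, a * b ∈ 𝔟') (hpb : ∀ a ∈ 𝔟, (p : S) * a ∈ 𝔟') :
    HomMod D D' 𝔟' ((p : WittVector p S) • α) := by
  constructor
  · intro x
    have : ((p : WittVector p S) • α) (D.F x) - D'.F (((p : WittVector p S) • α) x) =
        (p : WittVector p S) • (α (D.F x) - D'.F (α x)) := by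
      rw [LinearMap.smul_apply, LinearMap.smul_apply, map_smulₛₗ, map_natCast, smul_sub]
    rw [this]
    exact p_smul_mem h2 hpb (h.comm_F x)
  · intro y
    obtain ⟨q', h1, h2'⟩ := h.comm_Vinv y
    refine ⟨(p : WittVector p S) • q', ?_, ?_⟩
    · rw [LinearMap.smul_apply, Submodule.coe_smul, ← smul_sub]
      exact p_smul_mem h2 hpb h1
    · rw [LinearMap.smul_apply, map_smulₛₗ, map_natCast, ← smul_sub]
      exact p_smul_mem h2 hpb h2'

theorem HomMod.isHom (h : HomMod D D' ⊥ α) : IsHom D D' α := by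
  have h0 : WI (p := p) (⊥ : Ideal S) • (⊤ : Submodule (WittVector p S) P') = ⊥ := by
    rw [WI_bot, Submodule.bot_smul]
  have hm : ∀ q, q ∈ D.Q → α q ∈ D'.Q := by
    intro q hq
    obtain ⟨q', h1, _⟩ := h.comm_Vinv ⟨q, hq⟩
    rw [h0, Submodule.mem_bot, sub_eq_zero] at h1
    change α q = q' at h1
    rw [h1]; exact q'.2
  refine ⟨hm, ?_, ?_⟩
  · intro x
    have := h.comm_F x
    rw [h0, Submodule.mem_bot, sub_eq_zero] at this
    exact this
  · intro q
    obtain ⟨q', h1, h2⟩ := h.comm_Vinv q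
    rw [h0, Submodule.mem_bot, sub_eq_zero] at h1 h2
    rw [h2]
    congr 1
    exact Subtype.ext h1.symm

end HomMod

section Lift
variable {p : ℕ} [hp : Fact p.Prime] {S R : Type u} [CommRing S] [CommRing R] {g : S →+* R}
variable {P : Type v} [AddCommGroup P] [Module (WittVector p S) P]
variable {P' : Type v} [AddCommGroup P'] [Module (WittVector p S) P']

local notation "φ" => (WittVector.map g : WittVector p S →+* WittVector p R)

theorem tmul_sum' {κ : Type*} (s : Finset κ) (c : WittVector p R) (f : κ → P') :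
    BC.tmul φ c (∑ k ∈ s, f k) = ∑ k ∈ s, BC.tmul φ c (f k) := by
  classical
  induction s using Finset.induction_on with
  | empty => rw [Finset.sum_empty, Finset.sum_empty, BC.tmul_zero]
  | insert a s ha ih => rw [Finset.sum_insert ha, Finset.sum_insert ha, BC.tmul_add, ih]

theorem exists_tmul_one_eq (hg : Function.Surjective g) (z : BC φ P') :
    ∃ x : P', z = BC.tmul φ 1 x := by
  have hφ : Function.Surjective φ := WittVector.map_surjective g hg
  induction z using BC.induction_on φ with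
  | zero => exact ⟨0, (BC.tmul_zero φ 1).symm⟩
  | tmul w x =>
    obtain ⟨w', rfl⟩ := hφ w
    exact ⟨w' • x, by rw [← BC.tmul_apply_eq]⟩
  | add z₁ z₂ h₁ h₂ =>
    obtain ⟨x₁, rfl⟩ := h₁
    obtain ⟨x₂, rfl⟩ := h₂
    exact ⟨x₁ + x₂, (BC.tmul_add φ 1 x₁ x₂).symm⟩

theorem exists_lift_linear (hg : Function.Surjective g) [Module.Finite (WittVector p S) P]
    [Module.Projective (WittVector p S) P] (χ : BC φ P →ₗ[WittVector p R] BC φ P') :
    ∃ α : P →ₗ[WittVector p S] P', BC.map φ α = χ := by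
  obtain ⟨n, ι, r, hr⟩ := exists_coord (A := WittVector p S) (M := P)
  choose y hy using fun j : Fin n =>
    exists_tmul_one_eq hg (χ (BC.tmul φ 1 (r (Pi.single j 1))))
  refine ⟨∑ j, ((LinearMap.proj j).comp ι).smulRight (y j), ?_⟩
  apply BC.ext
  intro x
  rw [BC.map_tmul]
  conv_rhs => rw [eq_sum_coord ι r hr x]
  rw [LinearMap.sum_apply, tmul_sum', tmul_sum', map_sum]
  refine Finset.sum_congr rfl fun j _ => ?_
  rw [LinearMap.smulRight_apply, LinearMap.comp_apply, LinearMap.proj_apply,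
    ← BC.tmul_apply_eq, ← BC.tmul_apply_eq, BC.tmul_eq_smul_tmul_one,
    BC.tmul_eq_smul_tmul_one φ _ (r _), map_smul, hy]

variable {D : Display3n p S P} {D' : Display3n p S P'}
  {DR : Display3n p R (BC (WittVector.map g : WittVector p S →+* WittVector p R) P)}
  {DR' : Display3n p R (BC (WittVector.map g : WittVector p S →+* WittVector p R) P')}

theorem exists_tmul_one_eq_of_mem_Q (hg : Function.Surjective g)
    (hDR' : IsDispBaseChange g D' DR') {z : BC φ P'} (hz : z ∈ DR'.Q) :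
    ∃ q' : D'.Q, z = BC.tmul φ 1 (q' : P') := by
  have hφ : Function.Surjective φ := WittVector.map_surjective g hg
  refine mem_Q_induction hDR' (motive := fun z => ∃ q' : D'.Q, z = BC.tmul φ 1 (q' : P'))
    z hz ?_ ?_ ?_ ?_
  · exact ⟨0, by rw [Submodule.coe_zero, BC.tmul_zero]⟩
  · rintro a b ⟨qa, rfl⟩ ⟨qb, rfl⟩
    exact ⟨qa + qb, by rw [Submodule.coe_add, BC.tmul_add]⟩
  · intro w y hy
    obtain ⟨w', rfl⟩ := hφ w
    exact ⟨w' • ⟨y, hy⟩, by rw [Submodule.coe_smul, ← BC.tmul_apply_eq]⟩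
  · intro w x
    obtain ⟨w', rfl⟩ := hφ w
    refine ⟨⟨verschiebung w' • x, D'.IV_smul_le
      (Submodule.smul_mem_smul (verschiebung_mem_IV p S w') Submodule.mem_top)⟩, ?_⟩
    rw [← BC.tmul_apply_eq, WittVector.map_verschiebung]

theorem homMod_of_isHom_map (hg : Function.Surjective g) (hDR : IsDispBaseChange g D DR)
    (hDR' : IsDispBaseChange g D' DR') {α : P →ₗ[WittVector p S] P'}
    (h : IsHom DR DR' (BC.map φ α)) : HomMod D D' (RingHom.ker g) α := by
  have := D'.finite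
  have := D'.projective
  have hmem : ∀ a b : P', BC.tmul φ 1 a = BC.tmul φ 1 b →
      a - b ∈ WI (p := p) (RingHom.ker g) • (⊤ : Submodule (WittVector p S) P') := by
    intro a b hab
    rw [← ker_map_eq_WI]
    refine mem_ker_smul_top _ ?_
    rw [sub_eq_add_neg, BC.tmul_add, BC.tmul_neg, hab, add_neg_cancel]
  constructor
  · intro x
    apply hmem
    have h1 := h.comm_F (BC.tmul φ 1 x)
    rw [hDR.F_tmul, BC.map_tmul, BC.map_tmul, hDR'.F_tmul, map_one] at h1
    exact h1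
  · intro y
    have hyQ : BC.tmul φ 1 (y : P) ∈ DR.Q := tmul_mem_Q hDR 1 y y.2
    have h1 := h.mapsTo _ hyQ
    obtain ⟨q', hq'⟩ := exists_tmul_one_eq_of_mem_Q hg hDR' h1
    refine ⟨q', ?_, ?_⟩
    · apply hmem
      rw [← BC.map_tmul, hq']
    · apply hmem
      have h2 := h.comm_Vinv ⟨_, hyQ⟩
      rw [hDR.Vinv_tmul 1 y hyQ, map_one, BC.map_tmul] at h2
      have h3 : (⟨BC.map φ α (BC.tmul φ 1 (y : P)), h.mapsTo _ hyQ⟩ : DR'.Q) =
          ⟨BC.tmul φ 1 (q' : P'), tmul_mem_Q hDR' 1 q' q'.2⟩ := Subtype.ext hq'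
      rw [h3, hDR'.Vinv_tmul 1 q' (tmul_mem_Q hDR' 1 q' q'.2), map_one] at h2
      exact h2

/-- **Lifting up to a power of `p`.** -/
theorem exists_lift (hp' : IsNilpotent (p : S)) (hg : Function.Surjective g)
    (hker : IsNilpotent (RingHom.ker g)) (hDR : IsDispBaseChange g D DR)
    (hDR' : IsDispBaseChange g D' DR') (χ : BC φ P →ₗ[WittVector p R] BC φ P')
    (hχ : IsHom DR DR' χ) :
    ∃ (n : ℕ) (ψ : P →ₗ[WittVector p S] P'), IsHom D D' ψ ∧
      BC.map φ ψ = ((p : WittVector p R) ^ n) • χ := by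
  have := D.finite
  have := D.projective
  obtain ⟨α, hα⟩ := exists_lift_linear hg χ
  have h0 : HomMod D D' (RingHom.ker g) α := homMod_of_isHom_map hg hDR hDR' (hα ▸ hχ)
  set 𝔞 : Ideal S := RingHom.ker g with h𝔞
  set J : Ideal S := Ideal.span {(p : S)} ⊔ 𝔞 with hJ
  have hJnil : IsNilpotent J := by
    have h1 : IsNilpotent (Ideal.span {(p : S)}) := by
      obtain ⟨m, hm⟩ := hp'
      exact ⟨m, by rw [Ideal.span_singleton_pow, hm, Ideal.zero_eq_bot, Ideal.span_singleton_eq_bot]⟩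
    rw [hJ, ← Ideal.add_eq_sup]
    exact Commute.isNilpotent_add (Commute.all _ _) h1 hker
  obtain ⟨m, hm⟩ := hJnil
  have h𝔞J : 𝔞 ≤ J := le_sup_right
  have hpJ : (p : S) ∈ J :=
    le_sup_left (a := Ideal.span {(p : S)}) (Ideal.mem_span_singleton_self _)
  have key : ∀ i : ℕ, HomMod D D' (J ^ i * 𝔞) (((p : WittVector p S) ^ i) • α) := by
    intro i
    induction i with
    | zero => rw [pow_zero, one_mul, pow_zero, one_smul]; exact h0
    | succ i ih =>
      have h1 := ih.p_smul (𝔟' := J ^ (i + 1) * 𝔞) ?_ ?_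
      · have e : ((p : WittVector p S) ^ (i + 1)) • α =
            (p : WittVector p S) • ((p : WittVector p S) ^ i) • α := by
          rw [pow_succ', mul_smul]
        rw [e]; exact h1
      · intro a ha b hb
        have h1 : a ∈ J ^ (i + 1) := by
          rw [pow_succ]
          exact Ideal.mul_mono le_rfl h𝔞J ha
        have h2 : b ∈ 𝔞 := Ideal.mul_le_right hb
        exact Ideal.mul_mem_mul h1 h2
      · intro a ha
        rw [pow_succ', mul_assoc]
        exact Ideal.mul_mem_mul hpJ ha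
  have hm' := key m
  rw [hm, Ideal.zero_eq_bot, Ideal.bot_mul] at hm'
  refine ⟨m, ((p : WittVector p S) ^ m) • α, hm'.isHom, ?_⟩
  rw [← hα]
  apply BC.ext
  intro x
  rw [BC.map_tmul, LinearMap.smul_apply, LinearMap.smul_apply, BC.map_tmul, ← BC.tmul_apply_eq,
    map_pow, map_natCast, BC.tmul_eq_smul_tmul_one]

end Lift

end Groth.Agent.Lib.DispLift76
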