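import Mathlib
import Groth.Prelude.Def_Dieu
import Groth.Prelude.Def_Disp2
import Groth.Agent.Lib.VSharpComp76
import Groth.Agent.Lib.FrobNil76

/-!
# Matrix description of the iterates `V^{N#}` and of the nilpotence condition

* `coord b g : BC g P →ₗ (ι → A)` : coordinates of `A ⊗_{g,A} P` with respect to a basis `b` of `P`;
  `eq_sum_coord`, `mem_smul_top_iff`.
* `Psi_sum` : matrix form of the composition law.
* `Mn M n` : `σ^n(M) ⋯ σ(M) M`; `vSharpPow_basis` : matrix of `V^{(n+1)#}`.
* `isVNilpotent_iff` : the nilpotence condition in terms of the entries of `Mn M n`.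
* `rho : W(R) → R/p`, `ker_rho`, `rho_frobenius`.
-/

set_option autoImplicit false
universe u v w

noncomputable section
namespace Groth.Agent.Lib.DispMatrix76
open Dieu Groth.Agent.Lib.VSharpComp76

section General
variable {A : Type u} [CommRing A] {P : Type v} [AddCommGroup P] [Module A P]
variable {ι : Type w} [Fintype ι] [DecidableEq ι] (b : Module.Basis ι A P)

theorem tmul_sum (g : A →+* A) {κ : Type*} (s : Finset κ) (c : A) (f : κ → P) :
    BC.tmul g c (∑ k ∈ s, f k) = ∑ k ∈ s, BC.tmul g c (f k) := by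
  classical
  induction s using Finset.induction_on with
  | empty => rw [Finset.sum_empty, Finset.sum_empty, BC.tmul_zero]
  | insert a s ha ih => rw [Finset.sum_insert ha, Finset.sum_insert ha, BC.tmul_add, ih]

theorem sum_tmul (g : A →+* A) {κ : Type*} (s : Finset κ) (c : κ → A) (x : P) :
    BC.tmul g (∑ k ∈ s, c k) x = ∑ k ∈ s, BC.tmul g (c k) x := by
  classical
  induction s using Finset.induction_on with
  | empty => rw [Finset.sum_empty, Finset.sum_empty, BC.zero_tmul]
  | insert a s ha ih => rw [Finset.sum_insert ha, Finset.sum_insert ha, BC.add_tmul, ih]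

/-- `x ↦ (g (x_i))_i`, `g`-semilinear. -/
def coordSL (g : A →+* A) : P →ₛₗ[g] (ι → A) where
  toFun x i := g (b.repr x i)
  map_add' x y := by ext i; simp
  map_smul' a x := by ext i; simp

/-- Coordinates on `A ⊗_{g,A} P` with respect to the basis `1 ⊗ b i`. -/
def coord (g : A →+* A) : BC g P →ₗ[A] (ι → A) := BC.lift g (coordSL b g)

theorem coord_tmul (g : A →+* A) (c : A) (x : P) (i : ι) :
    coord b g (BC.tmul g c x) i = c * g (b.repr x i) := by
  rw [coord, BC.lift_tmul]
  rfl

theorem coord_tmul_basis (g : A →+* A) (c : A) (i k : ι) :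
    coord b g (BC.tmul g c (b i)) k = if i = k then c else 0 := by
  rw [coord_tmul, Module.Basis.repr_self, Finsupp.single_apply]
  split_ifs <;> simp

theorem eq_sum_coord (g : A →+* A) (z : BC g P) :
    z = ∑ i, coord b g z i • BC.tmul g 1 (b i) := by
  induction z using BC.induction_on g with
  | zero => simp
  | tmul c x =>
    conv_lhs => rw [← b.sum_repr x, tmul_sum]
    refine Finset.sum_congr rfl fun i _ => ?_
    rw [coord_tmul, BC.smul_tmul, mul_one, ← BC.tmul_mul_apply]
  | add z₁ z₂ h₁ h₂ =>
    conv_lhs => rw [h₁, h₂]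
    rw [← Finset.sum_add_distrib]
    refine Finset.sum_congr rfl fun i _ => ?_
    rw [map_add, Pi.add_apply, add_smul]

theorem mem_smul_top_iff (g : A →+* A) (J : Ideal A) (z : BC g P) :
    z ∈ J • (⊤ : Submodule A (BC g P)) ↔ ∀ i, coord b g z i ∈ J := by
  constructor
  · intro hz i
    refine Submodule.smul_induction_on hz (fun a ha y _ => ?_) (fun y₁ y₂ h₁ h₂ => ?_)
    · rw [map_smul, Pi.smul_apply, smul_eq_mul]
      exact Ideal.mul_mem_right _ _ ha
    · rw [map_add, Pi.add_apply]
      exact add_mem h₁ h₂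
  · intro h
    rw [eq_sum_coord b g z]
    exact Submodule.sum_mem _ fun i _ => Submodule.smul_mem_smul (h i) Submodule.mem_top

/-- Matrix form of `Psi`. -/
theorem Psi_sum {g : A →+* A} (h : A →+* A) (ψ : P →ₗ[A] BC g P) (N : Matrix ι ι A)
    (hψ : ∀ k, ψ (b k) = ∑ i, BC.tmul g (N i k) (b i)) (m : ι → A) :
    Psi h ψ (∑ k, BC.tmul h (m k) (b k)) =
      ∑ i, BC.tmul (h.comp g) (∑ k, h (N i k) * m k) (b i) := by
  rw [map_sum]
  have : ∀ k, Psi h ψ (BC.tmul h (m k) (b k)) =
      ∑ i, BC.tmul (h.comp g) (h (N i k) * m k) (b i) := by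
    intro k
    rw [Psi_tmul, hψ, map_sum, Finset.smul_sum]
    refine Finset.sum_congr rfl fun i _ => ?_
    rw [BC.push_tmul, BC.smul_tmul, mul_comm]
  simp_rw [this]
  rw [Finset.sum_comm]
  refine Finset.sum_congr rfl fun i _ => ?_
  rw [sum_tmul]

end General

section Witt

variable {p : ℕ} [hp : Fact p.Prime] {R : Type u} [CommRing R]
variable {P : Type v} [AddCommGroup P] [Module (WittVector p R) P]
variable {ι : Type w} [Fintype ι] [DecidableEq ι] (b : Module.Basis ι (WittVector p R) P)

local notation "σ" => (WittVector.frobenius : WittVector p R →+* WittVector p R)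

/-- `σ^n(M) ⋯ σ(M) M`. -/
def Mn (M : Matrix ι ι (WittVector p R)) : ℕ → Matrix ι ι (WittVector p R)
  | 0 => M
  | n + 1 => (Mn M n).map σ * M

theorem vSharpPow_basis (Vs : P →ₗ[WittVector p R] BC σ P) (M : Matrix ι ι (WittVector p R))
    (hM : ∀ j, Vs (b j) = ∑ i, BC.tmul σ (M i j) (b i)) (n : ℕ) (j : ι) :
    vSharpPow Vs n (b j) = ∑ i, BC.tmul (σ ^ (n + 1)) (Mn M n i j) (b i) := by
  induction n generalizing j with
  | zero =>
    rw [vSharpPow_zero_apply, hM, map_sum]
    refine Finset.sum_congr rfl fun i _ => ?_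
    rw [BC.castHom_tmul]
    rfl
  | succ n ih =>
    rw [vSharpPow_succ_eq, star_apply, hM, Psi_sum b σ (vSharpPow Vs n) (Mn M n) ih, map_sum]
    refine Finset.sum_congr rfl fun i _ => ?_
    rw [BC.castHom_tmul]
    congr 1

theorem isVNilpotent_iff (Vs : P →ₗ[WittVector p R] BC σ P) (M : Matrix ι ι (WittVector p R))
    (hM : ∀ j, Vs (b j) = ∑ i, BC.tmul σ (M i j) (b i)) :
    IsVNilpotent Vs ↔ ∃ n : ℕ, ∀ i j,
      Mn M n i j ∈ W4c1extbt610.IV p R ⊔ Ideal.span {(p : WittVector p R)} := by
  constructor
  · rintro ⟨n, hn⟩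
    refine ⟨n, fun i j => ?_⟩
    have h1 := (mem_smul_top_iff b (σ ^ (n + 1)) _ _).mp (hn (b j)) i
    rw [vSharpPow_basis b Vs M hM, map_sum, Finset.sum_apply] at h1
    simp_rw [coord_tmul_basis] at h1
    rw [Finset.sum_ite_eq' Finset.univ i, if_pos (Finset.mem_univ i)] at h1
    exact h1
  · rintro ⟨n, hn⟩
    refine ⟨n, fun x => ?_⟩
    rw [← b.sum_repr x, map_sum]
    refine Submodule.sum_mem _ fun j _ => ?_
    rw [map_smul]
    refine Submodule.smul_mem _ _ ?_
    rw [vSharpPow_basis b Vs M hM]
    refine Submodule.sum_mem _ fun i _ => ?_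
    rw [BC.tmul_eq_smul_tmul_one]
    exact Submodule.smul_mem_smul (hn i j) Submodule.mem_top

/-- `W(R) → R → R/p`. -/
def rho : WittVector p R →+* R ⧸ Ideal.span {(p : R)} :=
  (Ideal.Quotient.mk (Ideal.span {(p : R)})).comp WittVector.constantCoeff

theorem rho_apply (x : WittVector p R) :
    rho x = Ideal.Quotient.mk (Ideal.span {(p : R)}) (WittVector.constantCoeff x) := rfl

theorem ker_rho : RingHom.ker (rho : WittVector p R →+* R ⧸ Ideal.span {(p : R)}) =
    W4c1extbt610.IV p R ⊔ Ideal.span {(p : WittVector p R)} := by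
  apply le_antisymm
  · intro x hx
    rw [RingHom.mem_ker, rho_apply, Ideal.Quotient.eq_zero_iff_mem, Ideal.mem_span_singleton] at hx
    obtain ⟨r, hr⟩ := hx
    have h0 : WittVector.constantCoeff (x - (p : WittVector p R) * WittVector.teichmuller p r) = 0 := by
      rw [map_sub, map_mul, map_natCast, hr]
      change _ - (p : R) * (WittVector.teichmuller p r).coeff 0 = 0
      rw [WittVector.teichmuller_coeff_zero, sub_self]
    have h1 : x - (p : WittVector p R) * WittVector.teichmuller p r ∈ W4c1extbt610.IV p R := by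
      have := WittVector.eq_iterate_verschiebung
        (x := x - (p : WittVector p R) * WittVector.teichmuller p r) (n := 1) (by
          intro i hi
          obtain rfl : i = 0 := by omega
          exact h0)
      rw [this]
      exact W4c1extbt610.verschiebung_mem_IV p R _
    have h2 : (p : WittVector p R) * WittVector.teichmuller p r ∈
        Ideal.span {(p : WittVector p R)} :=
      Ideal.mul_mem_right _ _ (Ideal.mem_span_singleton_self _)
    have : x = (x - (p : WittVector p R) * WittVector.teichmuller p r) +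
        (p : WittVector p R) * WittVector.teichmuller p r := by ring
    rw [this]
    exact Submodule.add_mem_sup h1 h2
  · refine sup_le ?_ ?_
    · rw [W4c1extbt610.IV, Ideal.span_le]
      rintro _ ⟨w, rfl⟩
      change rho (WittVector.verschiebung w) = 0
      rw [rho_apply]
      change Ideal.Quotient.mk _ ((WittVector.verschiebung w).coeff 0) = 0
      rw [WittVector.verschiebung_coeff_zero, map_zero]
    · rw [Ideal.span_le]
      rintro _ rfl
      change rho (p : WittVector p R) = 0
      rw [map_natCast, ← map_natCast (Ideal.Quotient.mk (Ideal.span {(p : R)})),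
        Ideal.Quotient.eq_zero_iff_mem]
      exact Ideal.mem_span_singleton_self _

theorem rho_frobenius (x : WittVector p R) : rho (σ x) = rho x ^ p := by
  rw [rho_apply, rho_apply, ← map_pow]
  change Ideal.Quotient.mk _ ((WittVector.frobenius x).coeff 0) = _
  rw [Groth.Agent.Lib.FrobNil76.coeff_frobenius_eq, map_add, map_mul, map_natCast]
  have : ((p : ℕ) : R ⧸ Ideal.span {(p : R)}) = 0 := by
    rw [← map_natCast (Ideal.Quotient.mk (Ideal.span {(p : R)})), Ideal.Quotient.eq_zero_iff_mem]
    exact Ideal.mem_span_singleton_self _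
  rw [this, zero_mul, add_zero]
  rfl

theorem rho_frobenius_pow (i : ℕ) (x : WittVector p R) : rho ((σ ^ i) x) = rho x ^ p ^ i := by
  induction i with
  | zero => simp
  | succ i ih =>
    rw [pow_succ' σ i]
    change rho (σ ((σ ^ i) x)) = _
    rw [rho_frobenius, ih, ← pow_mul, pow_succ]

end Witt

end Groth.Agent.Lib.DispMatrix76
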