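import Mathlib
import Groth.Prelude.Def_Dieu
import Groth.Prelude.Def_Disp2
import Groth.Agent.Lib.DispMatrix76
import Groth.Agent.Lib.VSharpExist76

/-!
# Zink's matrix criterion for the nilpotence condition of a 3n-display

`isDisplay_iff` : for a 3n-display with a normal decomposition `P = L ⊕ T` with `L`, `T` free and
structure matrix `α` with inverse `β`, the display condition is `B^(p^(N-1)) ⋯ B^(p) B = 0` for the
`L × L` block `B` of `β` modulo `I_R + p W`.
-/

set_option autoImplicit false
universe u v w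

noncomputable section
namespace Groth.Agent.Lib.DispMatrix76

open Dieu W4c1extbt610 Matrix

section MatrixAlg

variable {p : ℕ} [hp : Fact p.Prime] {R : Type u} [CommRing R]
variable {ιT ιL : Type w} [Fintype ιT] [Fintype ιL] [DecidableEq ιT] [DecidableEq ιL]

local notation "σ" => (WittVector.frobenius : WittVector p R →+* WittVector p R)
local notation "ρ" => (rho : WittVector p R →+* R ⧸ Ideal.span {(p : R)})

/-- `σ^(n-1)(b) ⋯ σ(b) b`. -/
def pn (bW : Matrix ιL ιL (WittVector p R)) : ℕ → Matrix ιL ιL (WittVector p R)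
  | 0 => 1
  | n + 1 => (pn bW n).map σ * bW

theorem map_sigma_map_rho {m n : Type*} (X : Matrix m n (WittVector p R)) :
    (X.map σ).map ρ = (X.map ρ).map (fun x => x ^ p) := by
  ext i j
  simp only [Matrix.map_apply]
  exact rho_frobenius _

theorem pn_eq_list_prod (bW : Matrix ιL ιL (WittVector p R)) (N : ℕ) :
    pn bW N = ((List.range N).reverse.map fun i : ℕ => bW.map ⇑(σ ^ i)).prod := by
  induction N with
  | zero => simp [pn]
  | succ N ih =>
    rw [pn, ih, List.range_succ_eq_map, List.reverse_cons, List.map_append, List.prod_append,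
      List.map_singleton, List.prod_singleton, ← List.map_reverse, List.map_map]
    have h0 : bW.map ⇑(σ ^ 0) = bW := by
      ext i j; simp
    rw [h0]
    congr 1
    have : ((List.range N).reverse.map fun i : ℕ => bW.map ⇑(σ ^ i)).prod.map σ =
        (RingHom.mapMatrix σ) ((List.range N).reverse.map fun i : ℕ => bW.map ⇑(σ ^ i)).prod := rfl
    rw [this, map_list_prod, List.map_map]
    congr 1
    apply List.map_congr_left
    intro i _
    ext k l
    simp only [Function.comp_apply, RingHom.mapMatrix_apply, Matrix.map_apply, Nat.succ_eq_add_one]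
    rw [pow_succ' σ i]
    rfl

theorem map_rho_list_prod (bW : Matrix ιL ιL (WittVector p R)) (N : ℕ) :
    (pn bW N).map ρ =
      ((List.range N).reverse.map fun i : ℕ => (bW.map ρ).map fun x => x ^ p ^ i).prod := by
  rw [pn_eq_list_prod]
  have : ∀ X : Matrix ιL ιL (WittVector p R), X.map ρ = (RingHom.mapMatrix ρ) X := fun X => rfl
  rw [this, map_list_prod, List.map_map]
  congr 1
  apply List.map_congr_left
  intro i _
  ext k l
  simp only [Function.comp_apply, RingHom.mapMatrix_apply, Matrix.map_apply]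
  exact rho_frobenius_pow i _

/-- The block recursion. -/
theorem map_rho_Mn (M : Matrix (ιT ⊕ ιL) (ιT ⊕ ιL) (WittVector p R))
    (C : Matrix ιL ιT (R ⧸ Ideal.span {(p : R)})) (bW : Matrix ιL ιL (WittVector p R))
    (hM : M.map ρ = Matrix.fromBlocks 0 0 C (bW.map ρ)) (n : ℕ) :
    (Mn M n).map ρ =
      Matrix.fromBlocks 0 0 (((pn bW n).map σ).map ρ * C) ((pn bW (n + 1)).map ρ) := by
  induction n with
  | zero =>
    have h1 : ((1 : Matrix ιL ιL (WittVector p R)).map σ).map ρ = 1 := by
      rw [Matrix.map_one _ (map_zero _) (map_one _), Matrix.map_one _ (map_zero _) (map_one _)]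
    have h2 : (1 : Matrix ιL ιL (WittVector p R)).map σ = 1 :=
      Matrix.map_one _ (map_zero _) (map_one _)
    simp only [Mn, pn]
    rw [h1, Matrix.one_mul, h2, Matrix.one_mul, hM]
  | succ n ih =>
    have e1 : (Mn M (n + 1)).map ρ = ((Mn M n).map σ).map ρ * M.map ρ := by
      rw [Mn, Matrix.map_mul]
    have e2 : (pn bW (n + 1 + 1)).map ρ = ((pn bW (n + 1)).map σ).map ρ * bW.map ρ := by
      rw [pn, Matrix.map_mul]
    rw [e1, map_sigma_map_rho, ih, hM, e2]
    have hp0 : p ≠ 0 := hp.out.ne_zero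
    have hz : ∀ {m n : Type w}, ((0 : Matrix m n (R ⧸ Ideal.span {(p : R)})).map fun x => x ^ p) = 0 := by
      intro m n
      ext i j
      simp [hp0]
    rw [Matrix.fromBlocks_map, hz, hz, Matrix.fromBlocks_multiply, ← map_sigma_map_rho]
    simp only [Matrix.zero_mul, Matrix.mul_zero, add_zero, zero_add]

theorem exists_map_rho_Mn_eq_zero_iff (M : Matrix (ιT ⊕ ιL) (ιT ⊕ ιL) (WittVector p R))
    (C : Matrix ιL ιT (R ⧸ Ideal.span {(p : R)})) (bW : Matrix ιL ιL (WittVector p R))
    (hM : M.map ρ = Matrix.fromBlocks 0 0 C (bW.map ρ)) :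
    (∃ n : ℕ, (Mn M n).map ρ = 0) ↔ ∃ N : ℕ, 0 < N ∧ (pn bW N).map ρ = 0 := by
  constructor
  · rintro ⟨n, hn⟩
    refine ⟨n + 1, Nat.succ_pos n, ?_⟩
    rw [map_rho_Mn M C bW hM n] at hn
    have := congrArg Matrix.toBlocks₂₂ hn
    rw [Matrix.toBlocks_fromBlocks₂₂] at this
    rw [this]
    ext i j
    rfl
  · rintro ⟨N, hN, h0⟩
    obtain ⟨n, rfl⟩ : ∃ n, N = n + 1 := ⟨N - 1, by omega⟩
    refine ⟨n + 1, ?_⟩
    rw [map_rho_Mn M C bW hM (n + 1)]
    have hp0 : p ≠ 0 := hp.out.ne_zero
    have h1 : ((pn bW (n + 1)).map σ).map ρ = 0 := by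
      rw [map_sigma_map_rho, h0]
      ext i j
      simp [hp0]
    have h2 : (pn bW (n + 1 + 1)).map ρ = 0 := by
      rw [pn, Matrix.map_mul, h1, Matrix.zero_mul]
    rw [h1, h2, Matrix.zero_mul]
    exact Matrix.fromBlocks_zero

end MatrixAlg

section Main

variable {p : ℕ} [hp : Fact p.Prime] {R : Type u} [CommRing R]
variable {P : Type v} [AddCommGroup P] [Module (WittVector p R) P]

local notation "σ" => (WittVector.frobenius : WittVector p R →+* WittVector p R)

theorem isDisplay_iff (hpn : IsNilpotent (p : R)) (D : Display3n p R P)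
    (L T : Submodule (WittVector p R) P) (hLT : IsCompl L T)
    (hLQ : L ≤ D.Q)
    (ιT ιL : Type w) [Fintype ιT] [Fintype ιL] [DecidableEq ιT] [DecidableEq ιL]
    (bT : Module.Basis ιT (WittVector p R) T) (bL : Module.Basis ιL (WittVector p R) L)
    (α β : Matrix (ιT ⊕ ιL) (ιT ⊕ ιL) (WittVector p R)) (hαβ : α * β = 1)
    (hF : ∀ j : ιT, D.F (bT j : P) =
      Finset.univ.sum fun i : ιT ⊕ ιL => α i (Sum.inl j) •
        Sum.elim (fun a : ιT => (bT a : P)) (fun a : ιL => (bL a : P)) i)
    (hV : ∀ k : ιL, D.Vinv ⟨(bL k : P), hLQ (bL k).2⟩ =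
      Finset.univ.sum fun i : ιT ⊕ ιL => α i (Sum.inr k) •
        Sum.elim (fun a : ιT => (bT a : P)) (fun a : ιL => (bL a : P)) i) :
    Dieu.IsDisplay D ↔
      ∃ N : ℕ, 0 < N ∧
        (((List.range N).reverse.map fun i : ℕ =>
            (Matrix.of fun k l : ιL =>
                Ideal.Quotient.mk (Ideal.span {(p : R)})
                  (WittVector.constantCoeff (β (Sum.inr k) (Sum.inr l)))).map
              fun x : R ⧸ Ideal.span {(p : R)} => x ^ p ^ i).prod
          = 0) := by
  classical
  -- the basis of `P`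
  let b : Module.Basis (ιT ⊕ ιL) (WittVector p R) P :=
    (bT.prod bL).map (Submodule.prodEquivOfIsCompl T L hLT.symm)
  have hb : ∀ i, b i = Sum.elim (fun a : ιT => (bT a : P)) (fun a : ιL => (bL a : P)) i := by
    intro i
    rcases i with a | a
    · simp [b, Module.Basis.prod_apply]
    · simp [b, Module.Basis.prod_apply]
  -- the operator `V^#`
  obtain ⟨Vs, hVs, hVsu⟩ := Groth.Agent.Lib.VSharpExist76.existsUnique_vSharp hpn D
  have hdisp : Dieu.IsDisplay D ↔ IsVNilpotent Vs := by
    constructor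
    · rintro ⟨Vs', h1, h2⟩
      rwa [hVsu Vs' h1] at h2
    · intro h
      exact ⟨Vs, hVs, h⟩
  -- the matrix of `V^#`
  let c : ιT ⊕ ιL → WittVector p R := Sum.elim (fun _ => (p : WittVector p R)) (fun _ => 1)
  let M : Matrix (ιT ⊕ ιL) (ιT ⊕ ιL) (WittVector p R) := fun i j => β i j * c i
  let φe : ιT ⊕ ιL → P := fun i => ∑ k, α k i • b k
  have h1 : ∀ i, Vs (φe i) = BC.tmul σ (c i) (b i) := by
    intro i
    rcases i with a | a
    · have e : φe (Sum.inl a) = D.F (bT a : P) := by
        rw [hF]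
        exact Finset.sum_congr rfl fun i _ => by rw [hb]
      have := hVs.app_smul_F 1 (bT a : P)
      rw [one_smul] at this
      rw [e, this, BC.smul_tmul, mul_one, hb]
      rfl
    · have e : φe (Sum.inr a) = D.Vinv ⟨(bL a : P), hLQ (bL a).2⟩ := by
        rw [hV]
        exact Finset.sum_congr rfl fun i _ => by rw [hb]
      have := hVs.app_smul_Vinv 1 ⟨(bL a : P), hLQ (bL a).2⟩
      rw [one_smul] at this
      rw [e, this, hb]
      rfl
  have h2 : ∀ j, b j = ∑ i, β i j • φe i := by
    intro j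
    simp only [φe, Finset.smul_sum, smul_smul]
    rw [Finset.sum_comm]
    have : ∀ k, ∑ i, (β i j * α k i) • b k = ((α * β) k j) • b k := by
      intro k
      rw [← Finset.sum_smul, Matrix.mul_apply]
      congr 1
      exact Finset.sum_congr rfl fun i _ => mul_comm _ _
    simp_rw [this, hαβ, Matrix.one_apply, ite_smul, one_smul, zero_smul]
    rw [Finset.sum_ite_eq' Finset.univ j, if_pos (Finset.mem_univ j)]
  have hM : ∀ j, Vs (b j) = ∑ i, BC.tmul σ (M i j) (b i) := by
    intro j
    conv_lhs => rw [h2 j, map_sum]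
    refine Finset.sum_congr rfl fun i _ => ?_
    rw [map_smul, h1, BC.smul_tmul]
  rw [hdisp, isVNilpotent_iff b Vs M hM, ← ker_rho]
  -- reduce modulo `I_R + p W`
  let bW : Matrix ιL ιL (WittVector p R) := β.toBlocks₂₂
  let C : Matrix ιL ιT (R ⧸ Ideal.span {(p : R)}) := β.toBlocks₂₁.map rho
  have hMρ : M.map (rho : WittVector p R →+* R ⧸ Ideal.span {(p : R)}) =
      Matrix.fromBlocks 0 0 C (bW.map rho) := by
    have hp0 : (rho (p : WittVector p R) : R ⧸ Ideal.span {(p : R)}) = 0 := by
      rw [← RingHom.mem_ker, ker_rho]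
      exact Submodule.mem_sup_right (Ideal.mem_span_singleton_self _)
    ext i j
    rcases i with i | i <;> rcases j with j | j <;>
      simp [M, c, C, bW, Matrix.toBlocks₂₁, Matrix.toBlocks₂₂, hp0]
  have key := exists_map_rho_Mn_eq_zero_iff M C bW hMρ
  have hB : (Matrix.of fun k l : ιL => Ideal.Quotient.mk (Ideal.span {(p : R)})
      (WittVector.constantCoeff (β (Sum.inr k) (Sum.inr l)))) = bW.map rho := by
    ext k l
    rfl
  rw [hB]
  simp_rw [← map_rho_list_prod]
  rw [← key]
  refine exists_congr fun n => ?_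
  constructor
  · intro h
    ext i j
    have := h i j
    rwa [RingHom.mem_ker] at this
  · intro h i j
    rw [RingHom.mem_ker]
    exact congrFun (congrFun h i) j

end Main

end Groth.Agent.Lib.DispMatrix76
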