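import Mathlib
import Groth.Prelude.Def_Dieu

/-!
# `Dieu.BC` along a ring map with a retraction

For `g : A → B` with a ring retraction `τ : B → A` (`τ ∘ g = id`), the additive map
`BC g M → M`, `b ⊗ x ↦ τ b • x`, and membership lemmas for `I • ⊤`.
-/

set_option autoImplicit false
set_option linter.unusedSectionVars false

universe u v w

noncomputable section

namespace Groth.Agent.Lib.DispPerf76

open Dieu TensorProduct

section Retract

variable {A : Type u} {B : Type v} [CommRing A] [CommRing B] (g : A →+* B) (τ : B →+* A)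
  (hτ : ∀ a, τ (g a) = a) (M : Type w) [AddCommGroup M] [Module A M]

/-- The bilinear map `(b, x) ↦ τ b • x`. -/
def retrBil (hτ : ∀ a, τ (g a) = a) : Res g →ₗ[A] M →ₗ[A] M where
  toFun t := τ t.val • LinearMap.id
  map_add' s t := by rw [Res.val_add, map_add, add_smul]
  map_smul' a t := by
    rw [Res.val_smul, map_mul, hτ, mul_smul]
    rfl

/-- The retraction `BC g M → M`, `b ⊗ x ↦ τ b • x`. -/
def retr (hτ : ∀ a, τ (g a) = a) : BC g M →+ M :=
  (TensorProduct.lift (retrBil g τ M hτ)).toAddMonoidHom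

@[simp] theorem retr_tmul (b : B) (x : M) : retr g τ M hτ (BC.tmul g b x) = τ b • x := by
  change TensorProduct.lift (retrBil g τ M hτ) ((Res.mk g b) ⊗ₜ[A] x) = _
  rw [TensorProduct.lift.tmul]
  rfl

theorem retr_smul (c : B) (z : BC g M) : retr g τ M hτ (c • z) = τ c • retr g τ M hτ z := by
  induction z using BC.induction_on g with
  | zero => rw [smul_zero, map_zero, smul_zero]
  | tmul b x => rw [BC.smul_tmul, retr_tmul, retr_tmul, map_mul, mul_smul]
  | add z₁ z₂ h₁ h₂ => rw [smul_add, map_add, h₁, h₂, map_add, smul_add]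

theorem retr_mem (J : Ideal B) (I : Ideal A) (hJI : ∀ c ∈ J, τ c ∈ I) (z : BC g M)
    (hz : z ∈ J • (⊤ : Submodule B (BC g M))) :
    retr g τ M hτ z ∈ I • (⊤ : Submodule A M) := by
  refine Submodule.smul_induction_on hz (fun c hc y _ => ?_) (fun y₁ y₂ h₁ h₂ => ?_)
  · rw [retr_smul]
    exact Submodule.smul_mem_smul (hJI c hc) Submodule.mem_top
  · rw [map_add]
    exact Submodule.add_mem _ h₁ h₂

theorem ι_mem (I : Ideal A) (J : Ideal B) (hIJ : ∀ a ∈ I, g a ∈ J) (y : M)
    (hy : y ∈ I • (⊤ : Submodule A M)) :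
    BC.ι g M y ∈ J • (⊤ : Submodule B (BC g M)) := by
  refine Submodule.smul_induction_on hy (fun a ha m _ => ?_) (fun y₁ y₂ h₁ h₂ => ?_)
  · rw [map_smulₛₗ]
    exact Submodule.smul_mem_smul (hIJ a ha) Submodule.mem_top
  · rw [map_add]
    exact Submodule.add_mem _ h₁ h₂

end Retract

end Groth.Agent.Lib.DispPerf76
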