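import Mathlib
import Groth.Prelude.Def_Dieu
import Groth.Prelude.Def_Disp2
import Groth.Agent.Lib.DispPerf76A

/-!
# Dieudonné modules over a perfect ring as displays: `V^#` and the nilpotence condition
-/

set_option autoImplicit false
set_option linter.unusedSectionVars false

universe u v

noncomputable section

namespace Groth.Agent.Lib.DispPerf76

open Dieu TensorProduct WittVector

section Perfect

variable (p : ℕ) [Fact p.Prime] (k : Type u) [CommRing k] [CharP k p] [PerfectRing k p]

local notation "σ" => (WittVector.frobenius : WittVector p k →+* WittVector p k)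
local notation "τ" => (RingEquiv.symm (WittVector.frobeniusEquiv p k) : WittVector p k →+* WittVector p k)

theorem tau_sigma (w : WittVector p k) : τ (σ w) = w :=
  (WittVector.frobeniusEquiv p k).symm_apply_apply w

theorem sigma_tau (w : WittVector p k) : σ (τ w) = w :=
  (WittVector.frobeniusEquiv p k).apply_symm_apply w

theorem verschiebung_eq (w : WittVector p k) :
    WittVector.verschiebung w = τ w * (p : WittVector p k) := by
  conv_lhs => rw [← sigma_tau p k w]
  rw [WittVector.verschiebung_frobenius]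

theorem IV_le : W4c1extbt610.IV p k ≤ Ideal.span {(p : WittVector p k)} := by
  rw [W4c1extbt610.IV, Ideal.span_le]
  rintro _ ⟨w, rfl⟩
  rw [verschiebung_eq]
  exact Ideal.mem_span_singleton.mpr ⟨τ w, mul_comm _ _⟩

theorem IV_sup_le : W4c1extbt610.IV p k ⊔ Ideal.span {(p : WittVector p k)} ≤
    Ideal.span {(p : WittVector p k)} :=
  sup_le (IV_le p k) le_rfl

theorem tauPow_sigmaPow (N : ℕ) (w : WittVector p k) : (τ ^ N) ((σ ^ N) w) = w := by
  rw [RingHom.coe_pow, RingHom.coe_pow]
  exact Function.LeftInverse.iterate (tau_sigma p k) N w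

theorem tauPow_mem (N e : ℕ) (c : WittVector p k)
    (hc : c ∈ Ideal.span {(p : WittVector p k)} ^ e) :
    (τ ^ N) c ∈ Ideal.span {(p : WittVector p k)} ^ e := by
  rw [Ideal.span_singleton_pow, Ideal.mem_span_singleton] at hc ⊢
  obtain ⟨d, rfl⟩ := hc
  exact ⟨(τ ^ N) d, by rw [map_mul, map_pow, map_natCast]⟩

theorem sigmaPow_mem (N : ℕ) (c : WittVector p k)
    (hc : c ∈ Ideal.span {(p : WittVector p k)}) :
    (σ ^ N) c ∈ Ideal.span {(p : WittVector p k)} := by
  rw [Ideal.mem_span_singleton] at hc ⊢
  obtain ⟨d, rfl⟩ := hc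
  exact ⟨(σ ^ N) d, by rw [map_mul, map_natCast]⟩

end Perfect

section Main

variable {p : ℕ} [Fact p.Prime] {k : Type u} [CommRing k] [CharP k p] [PerfectRing k p]
variable {M : Type v} [AddCommGroup M] [Module (WittVector p k) M] (Dm : DieuMod p k M)

local notation "σ" => (WittVector.frobenius : WittVector p k →+* WittVector p k)
local notation "τ" => (RingEquiv.symm (WittVector.frobeniusEquiv p k) : WittVector p k →+* WittVector p k)

/-- `x ↦ 1 ⊗ V x`, the operator `V^#` of a Dieudonné module. -/
def vs0 : M →ₗ[WittVector p k] BC σ M where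
  toFun x := BC.tmul σ 1 (Dm.V x)
  map_add' x y := by rw [map_add, BC.tmul_add]
  map_smul' w x := by
    rw [RingHom.id_apply, map_smulₛₗ, ← BC.tmul_mul_apply, one_mul, sigma_tau,
      BC.tmul_eq_smul_tmul_one]

theorem vs0_apply (x : M) : vs0 Dm x = BC.tmul σ 1 (Dm.V x) := rfl

theorem V_iterate_smul (N : ℕ) (c : WittVector p k) (m : M) :
    (⇑Dm.V)^[N] (c • m) = (τ ^ N) c • (⇑Dm.V)^[N] m := by
  induction N generalizing c m with
  | zero => simp
  | succ n ih =>
    rw [Function.iterate_succ_apply, Function.iterate_succ_apply, map_smulₛₗ, ih, pow_succ]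
    rfl

theorem vSharpPow_vs0 (n : ℕ) (x : M) :
    vSharpPow (vs0 Dm) n x = BC.tmul (σ ^ (n + 1)) 1 ((⇑Dm.V)^[n + 1] x) := by
  induction n generalizing x with
  | zero =>
    rw [vSharpPow_zero_apply, vs0_apply, BC.castHom_tmul]
    rfl
  | succ n ih =>
    rw [vSharpPow_succ_apply, vs0_apply, BC.map_tmul, ih, BC.lift_tmul, one_smul, BC.push_tmul,
      map_one, BC.castHom_tmul]
    rfl

end Main

end Groth.Agent.Lib.DispPerf76
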