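import Mathlib
import Groth.Prelude.Def_Dieu
import Groth.Prelude.Def_Disp2
import Groth.Agent.Lib.DispPerf76B

/-!
# A Dieudonné module over a perfect ring is a display iff `V` is topologically nilpotent
-/

set_option autoImplicit false
set_option linter.unusedSectionVars false

universe u v

noncomputable section

namespace Groth.Agent.Lib.DispPerf76

open Dieu TensorProduct WittVector

section Main

variable {p : ℕ} [Fact p.Prime] {k : Type u} [CommRing k] [CharP k p] [PerfectRing k p]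
variable {M : Type v} [AddCommGroup M] [Module (WittVector p k) M] (Dm : DieuMod p k M)
  (D : W4c1extbt610.Display3n p k M)

local notation "σ" => (WittVector.frobenius : WittVector p k →+* WittVector p k)
local notation "τ" => (RingEquiv.symm (WittVector.frobeniusEquiv p k) : WittVector p k →+* WittVector p k)

theorem isVSharp_vs0 (hF : D.F = Dm.F) (hQ : ∀ x : M, x ∈ D.Q ↔ x ∈ Set.range Dm.V)
    (hV : ∀ (m : M) (h : Dm.V m ∈ D.Q), D.Vinv ⟨Dm.V m, h⟩ = m) : IsVSharp D (vs0 Dm) where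
  app_smul_F w x := by
    rw [map_smul, hF, vs0_apply, Dm.V_F, ← BC.tmul_mul_apply, map_natCast, BC.smul_tmul,
      BC.smul_tmul]
    congr 1
    ring
  app_smul_Vinv w y := by
    obtain ⟨m, hm⟩ := (hQ y).mp y.2
    have hy : y = ⟨Dm.V m, hm ▸ y.2⟩ := Subtype.ext hm.symm
    have h1 : D.Vinv y = m := by
      rw [hy]
      exact hV m _
    rw [h1, map_smul, vs0_apply, hm, BC.smul_tmul, mul_one]

theorem eq_vs0_of_isVSharp (hF : D.F = Dm.F) (hQ : ∀ x : M, x ∈ D.Q ↔ x ∈ Set.range Dm.V)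
    (hV : ∀ (m : M) (h : Dm.V m ∈ D.Q), D.Vinv ⟨Dm.V m, h⟩ = m)
    (Vs : M →ₗ[WittVector p k] BC σ M) (h : IsVSharp D Vs) : Vs = vs0 Dm := by
  apply LinearMap.ext_on D.span_range_Vinv
  rintro _ ⟨y, rfl⟩
  have h1 := h.app_smul_Vinv 1 y
  have h2 := (isVSharp_vs0 Dm D hF hQ hV).app_smul_Vinv 1 y
  rw [one_smul] at h1 h2
  rw [h1, h2]

theorem isDisplay_iff (hF : D.F = Dm.F) (hQ : ∀ x : M, x ∈ D.Q ↔ x ∈ Set.range Dm.V)
    (hV : ∀ (m : M) (h : Dm.V m ∈ D.Q), D.Vinv ⟨Dm.V m, h⟩ = m) :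
    IsDisplay D ↔ IsVNilpotent (vs0 Dm) := by
  constructor
  · rintro ⟨Vs, h1, h2⟩
    rwa [eq_vs0_of_isVSharp Dm D hF hQ hV Vs h1] at h2
  · intro h
    exact ⟨vs0 Dm, isVSharp_vs0 Dm D hF hQ hV, h⟩

theorem isVNilpotent_vs0_iff :
    IsVNilpotent (vs0 Dm) ↔ ∃ n : ℕ, ∀ x : M, (⇑Dm.V)^[n + 1] x ∈
      Ideal.span {(p : WittVector p k)} • (⊤ : Submodule (WittVector p k) M) := by
  unfold IsVNilpotent
  constructor
  · rintro ⟨n, hn⟩
    refine ⟨n, fun x => ?_⟩
    have hx := hn x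
    rw [vSharpPow_vs0] at hx
    have := retr_mem (σ ^ (n + 1)) (τ ^ (n + 1)) (tauPow_sigmaPow p k (n + 1)) M
      (W4c1extbt610.IV p k ⊔ Ideal.span {(p : WittVector p k)})
      (Ideal.span {(p : WittVector p k)})
      (fun c hc => by
        have h1 := tauPow_mem p k (n + 1) 1 c (by rw [pow_one]; exact IV_sup_le p k hc)
        rwa [pow_one] at h1) _ hx
    rwa [retr_tmul, map_one, one_smul] at this
  · rintro ⟨n, hn⟩
    refine ⟨n, fun x => ?_⟩
    rw [vSharpPow_vs0]
    have := ι_mem (σ ^ (n + 1)) M (Ideal.span {(p : WittVector p k)})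
      (W4c1extbt610.IV p k ⊔ Ideal.span {(p : WittVector p k)})
      (fun a ha => le_sup_right (α := Ideal (WittVector p k)) (sigmaPow_mem p k (n + 1) a ha))
      _ (hn x)
    rwa [BC.ι_apply] at this

theorem vTopNilp_iff :
    Dm.VTopNilp ↔ ∃ n : ℕ, ∀ x : M, (⇑Dm.V)^[n + 1] x ∈
      Ideal.span {(p : WittVector p k)} • (⊤ : Submodule (WittVector p k) M) := by
  constructor
  · intro h
    obtain ⟨n, hn⟩ := h 1
    refine ⟨n, fun x => ?_⟩
    rw [Function.iterate_succ_apply]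
    have := hn (Dm.V x)
    rwa [pow_one] at this
  · rintro ⟨N, hN⟩ e
    induction e with
    | zero =>
      refine ⟨0, fun m => ?_⟩
      rw [pow_zero, Ideal.one_eq_top, Submodule.top_smul]
      exact Submodule.mem_top
    | succ e ih =>
      obtain ⟨n, hn⟩ := ih
      refine ⟨(N + 1) + n, fun m => ?_⟩
      rw [Function.iterate_add_apply]
      have key : ∀ y : M, y ∈ (Ideal.span {(p : WittVector p k)} ^ e) •
          (⊤ : Submodule (WittVector p k) M) →
          (⇑Dm.V)^[N + 1] y ∈ (Ideal.span {(p : WittVector p k)} ^ (e + 1)) •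
            (⊤ : Submodule (WittVector p k) M) := by
        intro y hy
        refine Submodule.smul_induction_on hy (fun c hc z _ => ?_) (fun y₁ y₂ h₁ h₂ => ?_)
        · rw [V_iterate_smul, pow_succ, Submodule.mul_smul]
          exact Submodule.smul_mem_smul (tauPow_mem p k (N + 1) e c hc) (hN z)
        · rw [iterate_map_add Dm.V (N + 1) y₁ y₂]
          exact Submodule.add_mem _ h₁ h₂
      exact key _ (hn m)

/-- The main equivalence: `D` is a display iff `V` is topologically nilpotent. -/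
theorem isDisplay_iff_vTopNilp (hF : D.F = Dm.F) (hQ : ∀ x : M, x ∈ D.Q ↔ x ∈ Set.range Dm.V)
    (hV : ∀ (m : M) (h : Dm.V m ∈ D.Q), D.Vinv ⟨Dm.V m, h⟩ = m) :
    IsDisplay D ↔ Dm.VTopNilp := by
  rw [isDisplay_iff Dm D hF hQ hV, isVNilpotent_vs0_iff, vTopNilp_iff]

end Main

end Groth.Agent.Lib.DispPerf76
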