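import Mathlib
import Groth.Prelude.Def_Coh
import Groth.Agent.Lib.BddFibDescent
import Groth.Agent.Lib.H4TwistGamma

/-!
# Global functions on proper, geometrically reduced, geometrically connected schemes (helper13)

* `exists_algebraMap_eq_of_isIntegral`: an element of a reduced algebra without nontrivial idempotents
  which is integral over an algebraically closed field is a scalar.
* `eq_zero_or_eq_one_of_isIdempotentElem`: global idempotents on a reduced connected scheme are trivial.
* `isPushout_appTop_of_isPullback_of_flat`: flat base change of global sections of a qcqs scheme over an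
  affine base (ring pushout form).
* `finrank_appTop_eq_one`: `dim_k Γ(X, O_X) = 1` for `X` proper, geometrically reduced and
  geometrically connected over a field `k`.
* `finrank_HH_zero_eq_one`: the same for `Coh.HH X O_X 0`.
-/

set_option autoImplicit false
set_option linter.style.haveILetI false
universe u

open AlgebraicGeometry CategoryTheory Limits Polynomial

namespace Groth.Agent.Lib.H0Const13

theorem exists_algebraMap_eq_of_isIntegral {K B : Type*} [Field K] [IsAlgClosed K] [CommRing B]
    [Algebra K B] [IsReduced B] (hid : ∀ e : B, IsIdempotentElem e → e = 0 ∨ e = 1) (b : B)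
    (hb : IsIntegral K b) : ∃ c : K, algebraMap K B c = b := by
  rcases subsingleton_or_nontrivial B with hB | hB
  · exact ⟨0, Subsingleton.elim _ _⟩
  set p := minpoly K b with hp
  have hpm : p.Monic := minpoly.monic hb
  have hdeg : p.degree ≠ 0 := (minpoly.degree_pos hb).ne'
  obtain ⟨c, hc⟩ := IsAlgClosed.exists_root p hdeg
  refine ⟨c, ?_⟩
  set r := p /ₘ (X - C c) with hr
  have hpr : (X - C c) * r = p := mul_divByMonic_eq_iff_isRoot.mpr hc
  have hrm : r.Monic := (monic_X_sub_C c).of_mul_monic_left (hpr ▸ hpm)
  set u : B := b - algebraMap K B c with hu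
  set v : B := aeval b r with hv
  have huv : u * v = 0 := by
    have : aeval b p = 0 := minpoly.aeval K b
    rw [← hpr, map_mul] at this
    simpa [hu, hv] using this
  have hv0 : v ≠ 0 := by
    intro h0
    have h1 := minpoly.min K b hrm h0
    have h2 : p.natDegree = 1 + r.natDegree := by
      rw [← hpr, (monic_X_sub_C c).natDegree_mul hrm, natDegree_X_sub_C]
    have h3 : p.natDegree ≤ r.natDegree := natDegree_le_natDegree h1
    omega
  by_cases hroot : r.IsRoot c
  · exfalso
    obtain ⟨r', hr'⟩ := dvd_iff_isRoot.mpr hroot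
    have : v * v = 0 := by
      have h1 : v = u * aeval b r' := by
        rw [hv, hr', map_mul]; simp [hu]
      calc v * v = v * (u * aeval b r') := by rw [← h1]
        _ = (u * v) * aeval b r' := by ring
        _ = 0 := by rw [huv, zero_mul]
    exact hv0 (IsReduced.eq_zero _ ⟨2, by rw [pow_two]; exact this⟩)
  · have hcop : IsCoprime (X - C c) r :=
      (irreducible_X_sub_C c).coprime_iff_not_dvd.mpr (mt dvd_iff_isRoot.mp hroot)
    obtain ⟨s, t, hst⟩ := hcop
    have h1 : aeval b s * u + aeval b t * v = 1 := by
      have := congrArg (aeval b) hst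
      simpa [hu, hv] using this
    set S := aeval b s
    set T := aeval b t
    have he : IsIdempotentElem (T * v) := by
      change T * v * (T * v) = T * v
      have : T * v = 1 - S * u := by rw [← h1]; ring
      calc T * v * (T * v) = T * v * (1 - S * u) := by rw [← this]
        _ = T * v - T * S * (u * v) := by ring
        _ = T * v := by rw [huv]; ring
    rcases hid _ he with h0 | h1'
    · exfalso
      apply hv0
      have hSu : S * u = 1 := by rw [← h1, h0, add_zero]
      calc v = v * (S * u) := by rw [hSu, mul_one]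
        _ = S * (u * v) := by ring
        _ = 0 := by rw [huv, mul_zero]
    · have : u = 0 := by
        calc u = u * (T * v) := by rw [h1', mul_one]
          _ = T * (u * v) := by ring
          _ = 0 := by rw [huv, mul_zero]
      rw [hu, sub_eq_zero] at this
      exact this.symm

theorem eq_zero_or_eq_one_of_isIdempotentElem {X : Scheme.{u}} [IsReduced X] [PreconnectedSpace X]
    (e : Γ(X, ⊤)) (he : IsIdempotentElem e) : e = 0 ∨ e = 1 := by
  have h1 : X.basicOpen e ⊓ X.basicOpen (1 - e) = ⊥ := by
    rw [← Scheme.basicOpen_mul]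
    have : e * (1 - e) = 0 := by rw [mul_sub, mul_one, he.eq, sub_self]
    rw [this, Scheme.basicOpen_zero]
  have h2 : X.basicOpen e ⊔ X.basicOpen (1 - e) = ⊤ := by
    rw [eq_top_iff]
    intro x _
    have hx : x ∈ (⊤ : X.Opens) := trivial
    have hsum : X.presheaf.germ ⊤ x hx e + X.presheaf.germ ⊤ x hx (1 - e) = 1 := by
      rw [← map_add, add_sub_cancel, map_one]
    rcases IsLocalRing.isUnit_or_isUnit_of_add_one hsum with h | h
    · exact Or.inl ((Scheme.mem_basicOpen X e x hx).mpr h)
    · exact Or.inr ((Scheme.mem_basicOpen X (1 - e) x hx).mpr h)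
  have hclopen : IsClopen ((X.basicOpen e : X.Opens) : Set X) := by
    refine ⟨?_, (X.basicOpen e).2⟩
    have : ((X.basicOpen e : X.Opens) : Set X) = ((X.basicOpen (1 - e) : X.Opens) : Set X)ᶜ := by
      have h1' := congrArg (fun U : X.Opens => (U : Set X)) h1
      have h2' := congrArg (fun U : X.Opens => (U : Set X)) h2
      simp only [TopologicalSpace.Opens.coe_inf, TopologicalSpace.Opens.coe_bot,
        TopologicalSpace.Opens.coe_sup, TopologicalSpace.Opens.coe_top] at h1' h2'
      ext x
      constructor
      · intro hx hx'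
        have : x ∈ (∅ : Set X) := h1' ▸ ⟨hx, hx'⟩
        exact this
      · intro hx
        have : x ∈ (Set.univ : Set X) := trivial
        rw [← h2'] at this
        exact this.resolve_right hx
    rw [this]
    exact (X.basicOpen (1 - e)).2.isClosed_compl
  rcases isClopen_iff.mp hclopen with h | h
  · left
    rw [← AlgebraicGeometry.basicOpen_eq_bot_iff]
    ext1
    exact h
  · right
    have : X.basicOpen (1 - e) = ⊥ := by
      ext1
      have h1' := congrArg (fun U : X.Opens => (U : Set X)) h1
      simp only [TopologicalSpace.Opens.coe_inf, TopologicalSpace.Opens.coe_bot] at h1'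
      rw [h, Set.univ_inter] at h1'
      exact h1'
    rw [AlgebraicGeometry.basicOpen_eq_bot_iff, sub_eq_zero] at this
    exact this.symm

/-- Flat base change of global sections for a qcqs scheme over an affine base. -/
theorem isPushout_appTop_of_isPullback_of_flat {X Y S T : Scheme.{u}} {f : T ⟶ S} {g : Y ⟶ X}
    {iX : X ⟶ S} {iY : Y ⟶ T} (H : IsPullback g iY iX f) [Flat f] [IsAffine S] [IsAffine T]
    [CompactSpace X] [QuasiSeparatedSpace X] :
    IsPushout iX.appTop f.appTop g.appTop iY.appTop := by
  have hiso := isIso_pushoutSection_of_isQuasiSeparated_of_flat_right H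
    (US := ⊤) (UT := ⊤) (UX := ⊤) (UY := ⊤) le_top le_top (by simp)
    (isAffineOpen_top S) (isAffineOpen_top T) isCompact_univ
    (isQuasiSeparated_univ_iff.mpr inferInstance)
  have := (isIso_pushoutSection_iff H (US := ⊤) (UT := ⊤) (UX := ⊤) (UY := ⊤)
    le_top le_top (by simp)).mp hiso
  simpa [Scheme.Hom.appLE] using this


/-- `Γ(X, O_X)` as a `k`-algebra for `f : X ⟶ Spec k`. -/
noncomputable abbrev secAlg (k : Type u) [Field k] {X : Scheme.{u}}
    (f : X ⟶ Spec (CommRingCat.of k)) : Algebra k Γ(X, ⊤) :=
  ((Scheme.ΓSpecIso (CommRingCat.of k)).inv ≫ f.appTop).hom.toAlgebra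

/-- For `Y` proper, reduced and connected over an algebraically closed field `K`,
`Γ(Y, O_Y) = K`. -/
theorem bijective_algebraMap_of_isAlgClosed (K : Type u) [Field K] [IsAlgClosed K] {Y : Scheme.{u}}
    (q : Y ⟶ Spec (CommRingCat.of K)) [UniversallyClosed q] [IsReduced Y] [ConnectedSpace Y] :
    letI := secAlg K q
    Function.Bijective (algebraMap K Γ(Y, ⊤)) := by
  letI := secAlg K q
  haveI : Nontrivial Γ(Y, ⊤) := by
    have : Nonempty Y := inferInstance
    haveI : Nonempty (⊤ : Y.Opens) := ⟨⟨this.some, trivial⟩⟩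
    exact Scheme.component_nontrivial Y ⊤
  refine ⟨(algebraMap K Γ(Y, ⊤)).injective, ?_⟩
  intro b
  have hint : ((Scheme.ΓSpecIso (CommRingCat.of K)).inv ≫ q.appTop).hom.IsIntegral := by
    apply RingHom.isIntegral_respectsIso.2
      (e := (Scheme.ΓSpecIso (CommRingCat.of K)).symm.commRingCatIsoToRingEquiv)
    exact isIntegral_appTop_of_universallyClosed q
  exact exists_algebraMap_eq_of_isIntegral
    (fun e he => eq_zero_or_eq_one_of_isIdempotentElem e he) b (hint b)


/-- `dim_k Γ(X, O_X) = 1` for `X` proper, geometrically reduced and geometrically connected over `k`. -/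
theorem finrank_appTop_eq_one (k : Type u) [Field k] {X : Scheme.{u}}
    (f : X ⟶ Spec (CommRingCat.of k)) [IsProper f] [GeometricallyReduced f]
    [GeometricallyConnected f] :
    letI := secAlg k f
    Module.finrank k Γ(X, ⊤) = 1 := by
  let K : Type u := AlgebraicClosure k
  let ψ : CommRingCat.of k ⟶ CommRingCat.of K := CommRingCat.ofHom (algebraMap k K)
  let Y : Scheme.{u} := pullback f (Spec.map ψ)
  let g : Y ⟶ X := pullback.fst _ _
  let q : Y ⟶ Spec (CommRingCat.of K) := pullback.snd _ _
  have H : IsPullback g q f (Spec.map ψ) := IsPullback.of_hasPullback _ _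
  haveI : IsReduced Y :=
    GeometricallyReduced.geometrically_isReduced (f := f) (Spec.map ψ) g q H
  haveI : ConnectedSpace Y :=
    GeometricallyConnected.geometrically_connectedSpace (f := f) (Spec.map ψ) g q H
  haveI : IsProper q := MorphismProperty.of_isPullback H inferInstance
  have hbij := bijective_algebraMap_of_isAlgClosed K q
  have hflat : Flat (Spec.map ψ) := by
    rw [Flat.SpecMap_iff]
    algebraize [ψ.hom]
    exact (RingHom.flat_algebraMap_iff).mpr inferInstance
  haveI : CompactSpace X := (quasiCompact_iff_compactSpace f).mp inferInstance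
  haveI : QuasiSeparatedSpace X :=
    quasiSeparatedSpace_of_quasiSeparated f
  have push := isPushout_appTop_of_isPullback_of_flat H
  let φ : CommRingCat.of k ⟶ Γ(X, ⊤) := (Scheme.ΓSpecIso (CommRingCat.of k)).inv ≫ f.appTop
  let φ' : CommRingCat.of K ⟶ Γ(Y, ⊤) := (Scheme.ΓSpecIso (CommRingCat.of K)).inv ≫ q.appTop
  let γ : Γ(X, ⊤) ⟶ Γ(Y, ⊤) := g.appTop
  have push' : IsPushout φ ψ γ φ' := by
    refine push.of_iso (Scheme.ΓSpecIso (CommRingCat.of k)) (Iso.refl _)
      (Scheme.ΓSpecIso (CommRingCat.of K)) (Iso.refl _) ?_ ?_ ?_ ?_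
    · simp [φ]
    · simp
    · simp [γ]
    · simp [φ']
  algebraize [φ.hom, ψ.hom, γ.hom, φ'.hom, γ.hom.comp φ.hom]
  have : IsScalarTower k K Γ(Y, ⊤) := .of_algebraMap_eq' <| congr($(push'.1.1).hom)
  have hpo : Algebra.IsPushout k Γ(X, ⊤) K Γ(Y, ⊤) :=
    CommRingCat.isPushout_iff_isPushout.mp push'
  -- `Γ(Y) = K`
  let eK : K ≃ₗ[K] Γ(Y, ⊤) := LinearEquiv.ofBijective (Algebra.linearMap K Γ(Y, ⊤)) hbij
  haveI : Module.Finite K Γ(Y, ⊤) := Module.Finite.equiv eK
  obtain ⟨h1, h2⟩ := Groth.Agent.Lib.BddFibDescent.finite_finrank_descend k Γ(X, ⊤) K Γ(Y, ⊤)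
  change Module.finrank k Γ(X, ⊤) = 1
  rw [h2, ← eK.finrank_eq, Module.finrank_self]

end Groth.Agent.Lib.H0Const13
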