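import Mathlib

/-! # Idempotent global sections and clopen subsets of a scheme (helper61)

* `isClopen_basicOpen_of_isIdempotentElem`: the non-vanishing locus of an idempotent global
  section is clopen.
* `exists_isIdempotentElem_basicOpen_eq`: every clopen subset is the non-vanishing locus of an
  idempotent global section.
* `eq_of_basicOpen_eq`: an idempotent global section is determined by its non-vanishing locus.
-/

universe u
open CategoryTheory CategoryTheory.Limits AlgebraicGeometry TopologicalSpace Opposite TensorProduct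

namespace Groth.Agent.Lib.HenselCouple61

variable {X : Scheme.{u}}

/-- The germ of an idempotent global section is `1` on its non-vanishing locus. -/
lemma germ_eq_one_of_mem {e : Γ(X, ⊤)} (he : IsIdempotentElem e) {x : X}
    (hx : x ∈ X.basicOpen e) : X.presheaf.germ ⊤ x trivial e = 1 := by
  have hu : IsUnit (X.presheaf.germ ⊤ x trivial e) := (X.mem_basicOpen_top e x).mp hx
  have hid : IsIdempotentElem (X.presheaf.germ ⊤ x trivial e) := he.map _
  exact hu.mul_left_cancel (by rw [hid.eq, mul_one])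

/-- The germ of an idempotent global section is `0` off its non-vanishing locus. -/
lemma germ_eq_zero_of_notMem {e : Γ(X, ⊤)} (he : IsIdempotentElem e) {x : X}
    (hx : x ∉ X.basicOpen e) : X.presheaf.germ ⊤ x trivial e = 0 := by
  have hu : ¬ IsUnit (X.presheaf.germ ⊤ x trivial e) :=
    fun h => hx ((X.mem_basicOpen_top e x).mpr h)
  have hid : IsIdempotentElem (X.presheaf.germ ⊤ x trivial e) := he.map _
  have h1 : IsUnit (1 - X.presheaf.germ ⊤ x trivial e) := by
    rcases IsLocalRing.isUnit_or_isUnit_one_sub_self (X.presheaf.germ ⊤ x trivial e) with h | h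
    · exact absurd h hu
    · exact h
  have h2 : (1 - X.presheaf.germ ⊤ x trivial e) * X.presheaf.germ ⊤ x trivial e = 0 := by
    rw [sub_mul, one_mul, hid.eq, sub_self]
  exact (h1.mul_right_eq_zero).mp h2

/-- The non-vanishing locus of `1 - e` is the complement of that of `e`, for `e` idempotent. -/
lemma coe_basicOpen_one_sub {e : Γ(X, ⊤)} (he : IsIdempotentElem e) :
    ((X.basicOpen (1 - e) : X.Opens) : Set X) = ((X.basicOpen e : X.Opens) : Set X)ᶜ := by
  ext x
  simp only [Set.mem_compl_iff, SetLike.mem_coe]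
  constructor
  · intro h1 h2
    have e1 := germ_eq_one_of_mem he h2
    have e2 := germ_eq_one_of_mem he.one_sub h1
    rw [map_sub, map_one, e1, sub_self] at e2
    exact zero_ne_one e2
  · intro h
    rw [X.mem_basicOpen_top]
    rw [map_sub, map_one, germ_eq_zero_of_notMem he h, sub_zero]
    exact isUnit_one

/-- The non-vanishing locus of an idempotent global section is clopen. -/
lemma isClopen_basicOpen_of_isIdempotentElem {e : Γ(X, ⊤)} (he : IsIdempotentElem e) :
    IsClopen ((X.basicOpen e : X.Opens) : Set X) := by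
  refine ⟨?_, (X.basicOpen e).2⟩
  rw [← isOpen_compl_iff, ← coe_basicOpen_one_sub he]
  exact (X.basicOpen (1 - e)).2

/-- An idempotent global section is determined by its non-vanishing locus. -/
lemma eq_of_basicOpen_eq {e e' : Γ(X, ⊤)} (he : IsIdempotentElem e) (he' : IsIdempotentElem e')
    (h : X.basicOpen e = X.basicOpen e') : e = e' := by
  apply TopCat.Presheaf.section_ext X.sheaf ⊤
  intro x hx
  change X.presheaf.germ ⊤ x trivial e = X.presheaf.germ ⊤ x trivial e'
  by_cases hxe : x ∈ X.basicOpen e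
  · have h1 := germ_eq_one_of_mem he hxe
    have h2 := germ_eq_one_of_mem he' (h ▸ hxe)
    exact h1.trans h2.symm
  · have h1 := germ_eq_zero_of_notMem he hxe
    have h2 := germ_eq_zero_of_notMem he' (h ▸ hxe)
    exact h1.trans h2.symm

/-- Every clopen subset of a scheme is the non-vanishing locus of an idempotent global section. -/
lemma exists_isIdempotentElem_basicOpen_eq (U : Set X) (hU : IsClopen U) :
    ∃ e : Γ(X, ⊤), IsIdempotentElem e ∧ ((X.basicOpen e : X.Opens) : Set X) = U := by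
  let W : Bool → X.Opens := fun b => if b then ⟨U, hU.2⟩ else ⟨Uᶜ, hU.1.isOpen_compl⟩
  have hcover : (⊤ : X.Opens) ≤ iSup W := by
    intro x _
    rw [Opens.mem_iSup]
    by_cases hx : x ∈ U
    · exact ⟨true, hx⟩
    · exact ⟨false, hx⟩
  let sf : ∀ b : Bool, Γ(X, W b) := fun b => if b then 1 else 0
  have hinf : ∀ b b' : Bool, b ≠ b' → W b ⊓ W b' = ⊥ := by
    intro b b' hbb
    ext x
    cases b <;> cases b' <;> simp [W] at hbb ⊢
  have hcompat : TopCat.Presheaf.IsCompatible X.presheaf W sf := by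
    intro b b'
    by_cases hbb : b = b'
    · subst hbb; rfl
    · have : Subsingleton Γ(X, W b ⊓ W b') := by
        rw [hinf b b' hbb]; infer_instance
      exact Subsingleton.elim _ _
  obtain ⟨(e : Γ(X, ⊤)), he, -⟩ := X.sheaf.existsUnique_gluing' W (⊤ : X.Opens) (fun b => homOfLE le_top)
    hcover sf hcompat
  have hres : ∀ b, X.presheaf.map (homOfLE (le_top : W b ≤ ⊤)).op e = sf b := he
  have hgerm : ∀ (b : Bool) (x : X) (hx : x ∈ W b),
      X.presheaf.germ ⊤ x trivial e = X.presheaf.germ (W b) x hx (sf b) := by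
    intro b x hx
    rw [← hres b]
    exact (X.presheaf.germ_res_apply (homOfLE (le_top : W b ≤ ⊤)) x hx e).symm
  have hid : IsIdempotentElem e := by
    apply TopCat.Presheaf.section_ext X.sheaf ⊤
    intro x hx
    change X.presheaf.germ ⊤ x trivial (e * e) = X.presheaf.germ ⊤ x trivial e
    rw [map_mul]
    by_cases hxU : x ∈ U
    · rw [hgerm true x hxU]
      simp [sf]
    · rw [hgerm false x hxU]
      simp [sf]
  refine ⟨e, hid, ?_⟩
  ext x
  rw [SetLike.mem_coe, X.mem_basicOpen_top]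
  by_cases hxU : x ∈ U
  · rw [hgerm true x hxU]
    simp [sf, hxU]
  · rw [hgerm false x hxU]
    simp [sf, hxU]



/-! ## Flat base change of kernels -/


/-- For a flat `R`-algebra `B'`, the kernel of `B' → C ⊗[R] B'` is `ker (R → C) · B'`. -/
lemma ker_includeRight_of_flat (R C B' : Type*) [CommRing R] [CommRing C] [CommRing B']
    [Algebra R C] [Algebra R B'] [Module.Flat R B'] :
    RingHom.ker (Algebra.TensorProduct.includeRight : B' →ₐ[R] C ⊗[R] B').toRingHom =
      (RingHom.ker (algebraMap R C)).map (algebraMap R B') := by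
  apply le_antisymm
  · intro x hx
    rw [RingHom.mem_ker] at hx
    have hx' : (1 : C) ⊗ₜ[R] x = 0 := hx
    have hex : Function.Exact ((LinearMap.ker (Algebra.linearMap R C)).subtype.rTensor B')
        ((Algebra.linearMap R C).rTensor B') :=
      Module.Flat.rTensor_exact B' (LinearMap.exact_subtype_ker_map (Algebra.linearMap R C))
    have h1 : ((Algebra.linearMap R C).rTensor B') ((1 : R) ⊗ₜ[R] x) = 0 := by
      rw [LinearMap.rTensor_tmul, Algebra.linearMap_apply, map_one, hx']
    obtain ⟨t, ht⟩ := (hex _).mp h1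
    have key : ∀ t : (LinearMap.ker (Algebra.linearMap R C)) ⊗[R] B',
        TensorProduct.lid R B' ((LinearMap.ker (Algebra.linearMap R C)).subtype.rTensor B' t) ∈
          (RingHom.ker (algebraMap R C)).map (algebraMap R B') := by
      intro t
      induction t using TensorProduct.induction_on with
      | zero => simp
      | tmul k b =>
        rw [LinearMap.rTensor_tmul, TensorProduct.lid_tmul, Submodule.subtype_apply,
          Algebra.smul_def]
        apply Ideal.mul_mem_right
        apply Ideal.mem_map_of_mem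
        have := k.2
        rw [LinearMap.mem_ker, Algebra.linearMap_apply] at this
        exact this
      | add a b ha hb =>
        rw [map_add, map_add]
        exact Ideal.add_mem _ ha hb
    have := key t
    rw [ht, TensorProduct.lid_tmul, one_smul] at this
    exact this
  · rw [Ideal.map_le_iff_le_comap]
    intro r hr
    rw [RingHom.mem_ker] at hr
    rw [Ideal.mem_comap, RingHom.mem_ker]
    change (1 : C) ⊗ₜ[R] (algebraMap R B' r) = 0
    rw [Algebra.algebraMap_eq_smul_one, ← TensorProduct.smul_tmul, ← Algebra.algebraMap_eq_smul_one,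
      hr, TensorProduct.zero_tmul]

/-- Categorical form: in a pushout square of commutative rings with `ψ` flat,
`ker b = ker φ · B'`. -/
lemma ker_eq_map_of_isPushout {R C B' D : CommRingCat.{u}} {φ : R ⟶ C} {ψ : R ⟶ B'}
    {c : C ⟶ D} {b : B' ⟶ D} (H : IsPushout φ ψ c b) (hψ : ψ.hom.Flat) :
    RingHom.ker b.hom = (RingHom.ker φ.hom).map ψ.hom := by
  algebraize [φ.hom, ψ.hom, c.hom, b.hom, c.hom.comp φ.hom]
  have : IsScalarTower R B' D := .of_algebraMap_eq' <| congr($(H.1.1).hom)
  have hpo : Algebra.IsPushout R C B' D := CommRingCat.isPushout_iff_isPushout.mp H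
  have hfl : Module.Flat R B' := hψ
  let e := hpo.equiv
  have he : ∀ x : B', e ((1 : C) ⊗ₜ[R] x) = b.hom x := by
    intro x
    simp [e, Algebra.IsPushout.equiv_tmul]
    rfl
  have h1 : RingHom.ker (Algebra.TensorProduct.includeRight : B' →ₐ[R] C ⊗[R] B').toRingHom =
      (RingHom.ker φ.hom).map ψ.hom := ker_includeRight_of_flat R C B'
  rw [← h1]
  ext x
  rw [RingHom.mem_ker, RingHom.mem_ker, ← he]
  change e (1 ⊗ₜ[R] x) = 0 ↔ (1 : C) ⊗ₜ[R] x = 0
  exact e.map_eq_zero_iff


/-! ## Flat base change of global sections -/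


lemma appLE_top_top {X Y : Scheme.{u}} (f : X ⟶ Y) (e : (⊤ : X.Opens) ≤ f ⁻¹ᵁ ⊤) :
    f.appLE ⊤ ⊤ e = f.appTop := by
  rw [Scheme.Hom.appLE]
  change f.app ⊤ ≫ X.presheaf.map (𝟙 (Opposite.op (⊤ : X.Opens))) = f.app ⊤
  exact (congrArg (fun t => f.app ⊤ ≫ t) (X.presheaf.map_id _)).trans (Category.comp_id _)

theorem isPushout_appTop_of_isPullback_of_flat {X Y S T : Scheme.{u}} {f : T ⟶ S} {g : Y ⟶ X}
    {iX : X ⟶ S} {iY : Y ⟶ T} (H : IsPullback g iY iX f) [Flat f] [IsAffine S] [IsAffine T]
    [CompactSpace X] [QuasiSeparatedSpace X] :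
    IsPushout iX.appTop f.appTop g.appTop iY.appTop := by
  have h1 : (⊤ : T.Opens) ≤ f ⁻¹ᵁ ⊤ := by simp
  have h2 : (⊤ : X.Opens) ≤ iX ⁻¹ᵁ ⊤ := by simp
  have h3 : (⊤ : Y.Opens) = g ⁻¹ᵁ ⊤ ⊓ iY ⁻¹ᵁ ⊤ := by simp
  have hiso := isIso_pushoutSection_of_isQuasiSeparated_of_flat_right H
    (US := ⊤) (UT := ⊤) (UX := ⊤) (UY := ⊤) h1 h2 h3
    (isAffineOpen_top S) (isAffineOpen_top T) isCompact_univ
    (isQuasiSeparated_univ_iff.mpr inferInstance)
  have := (isIso_pushoutSection_iff H (US := ⊤) (UT := ⊤) (UX := ⊤) (UY := ⊤)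
    h1 h2 h3).mp hiso
  rwa [appLE_top_top, appLE_top_top, appLE_top_top, appLE_top_top] at this


/-! ## Henselian couples -/


/-- In a henselian couple `(X, X₀)`, a closed subset of `X` disjoint from `X₀` is empty. -/
lemma eq_empty_of_disjoint_range {X X₀ : Scheme.{u}} (i : X₀ ⟶ X)
    (hX : ∀ (Y : Scheme.{u}) (g : Y ⟶ X), IsFinite g →
      ∀ V : Set ↥(pullback g (i)), IsClopen V →
        ∃! U : Set ↥Y, IsClopen U ∧ (pullback.fst g (i)).base ⁻¹' U = V)
    (Z : Set X) (hZ : IsClosed Z) (hdisj : Disjoint Z (Set.range i)) : Z = ∅ := by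
  let I := Scheme.IdealSheafData.vanishingIdeal ⟨Z, hZ⟩
  let Y := I.subscheme
  let g : Y ⟶ X := I.subschemeι
  have hrange : Set.range g = Z := by
    rw [Scheme.IdealSheafData.range_subschemeι, Scheme.IdealSheafData.coe_support_vanishingIdeal]
    rfl
  have hfin : IsFinite g := inferInstance
  have hemp : IsEmpty ↥(pullback g i) := by
    constructor
    intro w
    have h1 : g ((pullback.fst g i) w) = i ((pullback.snd g i) w) := by
      rw [← Scheme.Hom.comp_apply, ← Scheme.Hom.comp_apply, pullback.condition]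
    have h2 : g ((pullback.fst g i) w) ∈ Z := hrange ▸ Set.mem_range_self _
    exact Set.disjoint_left.mp hdisj h2 (h1 ▸ Set.mem_range_self _)
  obtain ⟨U, -, huniq⟩ := hX Y g hfin ∅ isClopen_empty
  have e1 : (∅ : Set Y) = U := huniq ∅ ⟨isClopen_empty, by simp⟩
  have e2 : (Set.univ : Set Y) = U :=
    huniq Set.univ ⟨isClopen_univ, Set.eq_empty_of_isEmpty _⟩
  have hYemp : IsEmpty Y := by
    rw [← Set.univ_eq_empty_iff, e2, ← e1]
  rw [← hrange]
  exact Set.range_eq_empty _


lemma ker_le_jacobson {X X₀ : Scheme.{u}} (i : X₀ ⟶ X)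
    (hX : ∀ (Y : Scheme.{u}) (g : Y ⟶ X), IsFinite g →
      ∀ V : Set ↥(pullback g (i)), IsClopen V →
        ∃! U : Set ↥Y, IsClopen U ∧ (pullback.fst g (i)).base ⁻¹' U = V) :
    RingHom.ker i.appTop.hom ≤ Ideal.jacobson ⊥ := by
  intro b hb
  rw [Ideal.mem_jacobson_bot]
  intro y
  set s : Γ(X, ⊤) := b * y + 1 with hs
  have hs1 : i.appTop.hom s = 1 := by
    rw [hs, map_add, map_mul, map_one, (RingHom.mem_ker).mp hb, zero_mul, zero_add]
  have hZ : ((X.basicOpen s : X.Opens) : Set X)ᶜ = ∅ := by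
    apply eq_empty_of_disjoint_range i hX _ (X.basicOpen s).2.isClosed_compl
    rw [Set.disjoint_left]
    rintro _ hx ⟨x₀, rfl⟩
    apply hx
    have : x₀ ∈ i ⁻¹ᵁ (X.basicOpen s) := by
      rw [Scheme.preimage_basicOpen_top]
      change x₀ ∈ X₀.basicOpen (i.appTop.hom s)
      rw [hs1, Scheme.basicOpen_of_isUnit _ isUnit_one]
      trivial
    exact this
  have htop : X.basicOpen s = ⊤ := by
    ext x
    simp only [Opens.coe_top, Set.mem_univ, iff_true]
    by_contra hx
    have : x ∈ ((X.basicOpen s : X.Opens) : Set X)ᶜ := hx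
    rw [hZ] at this
    exact this
  apply RingedSpace.isUnit_of_isUnit_germ X.toRingedSpace ⊤ s
  intro x hx
  have : x ∈ X.basicOpen s := by rw [htop]; trivial
  exact (X.mem_basicOpen_top s x).mp this


/-- Main step: in a henselian couple `(X, X₀)` with `X` qcqs, idempotents lift along
`B' → B'/JB'` for every finite flat `Γ(X)`-algebra `B'`. -/
lemma surjOn_idempotents {X X₀ : Scheme.{u}} (i : X₀ ⟶ X) [IsClosedImmersion i]
    [CompactSpace ↥X] [QuasiSeparatedSpace ↥X]
    (hX : ∀ (Y : Scheme.{u}) (g : Y ⟶ X), IsFinite g →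
      ∀ V : Set ↥(pullback g (i)), IsClopen V →
        ∃! U : Set ↥Y, IsClopen U ∧ (pullback.fst g (i)).base ⁻¹' U = V)
    (B' : Type u) [CommRing B'] [Algebra Γ(X, ⊤) B'] [Module.Flat Γ(X, ⊤) B']
    [Module.Finite Γ(X, ⊤) B'] :
    Set.SurjOn (Ideal.Quotient.mk (Ideal.map (algebraMap Γ(X, ⊤) B') (RingHom.ker i.appTop.hom)))
      {e : B' | IsIdempotentElem e} {e | IsIdempotentElem e} := by
  intro ebar hebar
  obtain ⟨b', rfl⟩ := Ideal.Quotient.mk_surjective ebar
  -- the schemes
  let φ : Γ(X, ⊤) ⟶ CommRingCat.of B' := CommRingCat.ofHom (algebraMap Γ(X, ⊤) B')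
  let f : Spec (CommRingCat.of B') ⟶ Spec Γ(X, ⊤) := Spec.map φ
  have hφflat : φ.hom.Flat := (RingHom.flat_algebraMap_iff).mpr inferInstance
  have hfflat : Flat f := Flat.SpecMap_iff.mpr hφflat
  have hffin : IsFinite f := (IsFinite.SpecMap_iff φ).mpr
    ((RingHom.finite_algebraMap).mpr inferInstance)
  let iX : X ⟶ Spec Γ(X, ⊤) := X.toSpecΓ
  let Y := pullback iX f
  let g : Y ⟶ X := pullback.fst iX f
  let iY : Y ⟶ Spec (CommRingCat.of B') := pullback.snd iX f
  have hgfin : IsFinite g := inferInstance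
  have H1 : IsPullback g iY iX f := IsPullback.of_hasPullback iX f
  have P1 : IsPushout iX.appTop f.appTop g.appTop iY.appTop :=
    isPushout_appTop_of_isPullback_of_flat H1
  have hiXiso : IsIso iX.appTop := by
    rw [Scheme.toSpecΓ_appTop]; infer_instance
  have hiYiso : IsIso iY.appTop := P1.isIso_inr_of_isIso
  -- the second square
  let q₁ : pullback g i ⟶ Y := pullback.fst g i
  let q₂ : pullback g i ⟶ X₀ := pullback.snd g i
  have H2 : IsPullback q₁ q₂ g i := IsPullback.of_hasPullback g i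
  have H3 : IsPullback q₂ (q₁ ≫ iY) (i ≫ iX) f := (H2.paste_horiz H1.flip).flip
  have hX₀c : CompactSpace ↥X₀ := by
    exact QuasiCompact.compactSpace_of_compactSpace i
  have hX₀q : QuasiSeparatedSpace ↥X₀ := quasiSeparatedSpace_of_quasiSeparated i
  have P2 : IsPushout (i ≫ iX).appTop f.appTop q₂.appTop (q₁ ≫ iY).appTop :=
    isPushout_appTop_of_isPullback_of_flat H3
  -- translate to `B'`
  let ψ : CommRingCat.of B' ⟶ Γ(pullback g i, ⊤) :=
    (Scheme.ΓSpecIso (CommRingCat.of B')).inv ≫ (q₁ ≫ iY).appTop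
  have P3 : IsPushout i.appTop φ q₂.appTop ψ := by
    refine P2.of_iso (Scheme.ΓSpecIso Γ(X, ⊤)) (Iso.refl _)
      (Scheme.ΓSpecIso (CommRingCat.of B')) (Iso.refl _) ?_ ?_ ?_ ?_
    · simp [iX]
    · simp [f]
    · simp
    · simp [ψ]
  have hker := ker_eq_map_of_isPushout P3 hφflat
  have hφ : φ.hom = algebraMap Γ(X, ⊤) B' := rfl
  rw [hφ] at hker
  -- the idempotent in `Γ(Y₀)`
  have hb' : b' * b' - b' ∈ RingHom.ker ψ.hom := by
    rw [hker, ← Ideal.Quotient.eq_zero_iff_mem, map_sub, map_mul]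
    have : IsIdempotentElem (Ideal.Quotient.mk (Ideal.map (algebraMap Γ(X, ⊤) B')
      (RingHom.ker i.appTop.hom)) b') := hebar
    rw [this.eq, sub_self]
  let ε : Γ(pullback g i, ⊤) := ψ.hom b'
  have hε : IsIdempotentElem ε := by
    have := (RingHom.mem_ker).mp hb'
    rw [map_sub, map_mul, sub_eq_zero] at this
    exact this
  let V : Set ↥(pullback g i) := (((pullback g i).basicOpen ε : (pullback g i).Opens) : Set _)
  have hV : IsClopen V := isClopen_basicOpen_of_isIdempotentElem hε
  obtain ⟨U, ⟨hU, hUV⟩, -⟩ := hX Y g hgfin V hV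
  obtain ⟨eY, heY, heYU⟩ := exists_isIdempotentElem_basicOpen_eq U hU
  let θ : CommRingCat.of B' ⟶ Γ(Y, ⊤) := (Scheme.ΓSpecIso (CommRingCat.of B')).inv ≫ iY.appTop
  have hθ : IsIso θ := inferInstance
  let e : B' := (inv θ).hom eY
  have hθe : θ.hom e = eY := by
    change (inv θ ≫ θ).hom eY = eY
    rw [IsIso.inv_hom_id]
    rfl
  have he : IsIdempotentElem e := heY.map (inv θ).hom
  have hψθ : ψ = θ ≫ q₁.appTop := by
    simp [ψ, θ]
  have hψe : ψ.hom e = q₁.appTop.hom eY := by
    rw [hψθ]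
    change q₁.appTop.hom (θ.hom e) = _
    rw [hθe]
  have hbo : (pullback g i).basicOpen (ψ.hom e) = (pullback g i).basicOpen ε := by
    rw [hψe]
    have h1 := Scheme.preimage_basicOpen_top q₁ eY
    rw [← h1]
    ext x
    change x ∈ q₁.base ⁻¹' ((Y.basicOpen eY : Y.Opens) : Set Y) ↔ x ∈ V
    rw [heYU, hUV]
  have hfin : ψ.hom e = ε := eq_of_basicOpen_eq (he.map ψ.hom) hε hbo
  refine ⟨e, he, ?_⟩
  rw [Ideal.Quotient.eq, ← hker, RingHom.mem_ker, map_sub, hfin, sub_self]


end Groth.Agent.Lib.HenselCouple61
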