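import Groth.Agent.Lib.H4H0Nat
import Groth.Agent.Lib.IdealMod
import Groth.Agent.Lib.H0Const13
import Groth.Agent.Lib.ProjSpaceProper
import Groth.Agent.Lib.HenselCouple61

/-!
# Connectedness of divisors and `H¹` of the ideal sheaf (helper5)

`X` proper, reduced and connected over an algebraically closed field `k`, `D ⊆ X` a closed subscheme.
From `0 → I_D → O_X → O_D → 0`:

* `connectedSpace_of_H1_idealMod`: `H¹(X, I_D) = 0` and `D ≠ ∅` ⇒ `D` connected;
* `subsingleton_H1_idealMod`: `H¹(X, O_X) = 0`, `D` reduced and connected ⇒ `H¹(X, I_D) = 0`.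
-/

set_option autoImplicit false
set_option linter.style.haveILetI false
universe u

open CategoryTheory CategoryTheory.Limits AlgebraicGeometry TopologicalSpace Opposite

namespace Groth.Agent.Lib.DivConn5

/-- A nonempty scheme all of whose global idempotents are trivial is connected. -/
theorem connectedSpace_of_idempotents {Z : Scheme.{u}} [Nonempty Z]
    (h : ∀ e : Γ(Z, ⊤), IsIdempotentElem e → e = 0 ∨ e = 1) : ConnectedSpace Z := by
  rw [connectedSpace_iff_clopen]
  refine ⟨inferInstance, fun U hU => ?_⟩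
  obtain ⟨e, he, heU⟩ := Groth.Agent.Lib.HenselCouple61.exists_isIdempotentElem_basicOpen_eq U hU
  rcases h e he with rfl | rfl
  · left
    rw [← heU, Scheme.basicOpen_zero]
    rfl
  · right
    rw [← heU, Scheme.basicOpen_of_isUnit _ isUnit_one]
    rfl

section

variable (k : Type u) [Field k] [IsAlgClosed k] {X : Scheme.{u}} (q : X ⟶ Spec (CommRingCat.of k))
  (D : X.IdealSheafData)

/-- The ring map `k → Γ(X, O_X)`. -/
noncomputable def κ : k →+* Γ(X, ⊤) :=
  ((Scheme.ΓSpecIso (CommRingCat.of k)).inv ≫ q.appTop).hom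

/-- The ring map `k → Γ(D, O_D)`. -/
noncomputable def κD : k →+* Γ(D.subscheme, ⊤) :=
  (D.subschemeι.appTop).hom.comp (κ k q)

omit [IsAlgClosed k] in
theorem κD_eq (c : k) : κD k q D c = κ k (D.subschemeι ≫ q) c := by
  simp only [κD, κ, RingHom.comp_apply]
  rw [Scheme.Hom.comp_appTop]
  rfl

theorem surjective_κ [UniversallyClosed q] [IsReduced X] [ConnectedSpace X] :
    Function.Surjective (κ k q) :=
  (Groth.Agent.Lib.H0Const13.bijective_algebraMap_of_isAlgClosed k q).2

theorem surjective_κD [UniversallyClosed q] [IsReduced D.subscheme] [ConnectedSpace D.subscheme] :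
    Function.Surjective (κD k q D) := by
  haveI : UniversallyClosed (D.subschemeι ≫ q) := inferInstance
  intro e
  obtain ⟨c, hc⟩ := surjective_κ k (D.subschemeι ≫ q) e
  exact ⟨c, (κD_eq k q D c).trans hc⟩

/-- `H¹(X, I_D) = 0`, `D ≠ ∅` ⇒ `D` connected. -/
theorem connectedSpace_of_H1_idealMod [UniversallyClosed q] [IsReduced X] [ConnectedSpace X]
    [Nonempty D.subscheme] (hvan : Subsingleton (Coh.HH X (ClSub.idealMod D) 1)) :
    ConnectedSpace D.subscheme := by
  apply connectedSpace_of_idempotents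
  intro e he
  have hS := Groth.Agent.Lib.IdealMod.idealMod_shortExact D
  haveI : Subsingleton (Coh.HH X (ShortComplex.mk (ClSub.idealModι D) (ClSub.toSubscheme D)
      (kernel.condition (ClSub.toSubscheme D))).X₁ 1) := hvan
  obtain ⟨a, ha⟩ := Groth.Agent.Lib.H4Twist.exists_section_lift hS e
  have ha' : (D.subschemeι.appTop).hom a = e := ha
  obtain ⟨c, hc⟩ := surjective_κ k q a
  have hce : κD k q D c = e := by
    rw [← ha', ← hc]
    rfl
  haveI : Nontrivial Γ(D.subscheme, ⊤) := by
    have : Nonempty D.subscheme := inferInstance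
    haveI : Nonempty (⊤ : D.subscheme.Opens) := ⟨⟨this.some, trivial⟩⟩
    exact Scheme.component_nontrivial D.subscheme ⊤
  have hinj : Function.Injective (κD k q D) := (κD k q D).injective
  have hcc : c * c = c := by
    apply hinj
    rw [map_mul, hce]
    exact he
  have hc01 : c = 0 ∨ c = 1 := by
    have h1 : c * (c - 1) = 0 := by rw [mul_sub, mul_one, hcc, sub_self]
    rcases mul_eq_zero.mp h1 with h | h
    · exact Or.inl h
    · exact Or.inr (sub_eq_zero.mp h)
  rcases hc01 with rfl | rfl
  · left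
    rw [← hce, map_zero]
  · right
    rw [← hce, map_one]

/-- `H¹(X, O_X) = 0`, `D` reduced and connected ⇒ `H¹(X, I_D) = 0`. -/
theorem subsingleton_H1_idealMod [UniversallyClosed q]
    (hH1 : Subsingleton (Coh.HH X (Coh.structureModule X) 1))
    [IsReduced D.subscheme] [ConnectedSpace D.subscheme] :
    Subsingleton (Coh.HH X (ClSub.idealMod D) 1) := by
  have hS := Groth.Agent.Lib.IdealMod.idealMod_shortExact D
  refine ⟨fun x y => ?_⟩
  suffices h : ∀ x : Coh.HH X (ClSub.idealMod D) 1, x = 0 by rw [h x, h y]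
  intro x
  have hx : Groth.Agent.Lib.CohLES.map (ClSub.idealModι D) 1 x = 0 := Subsingleton.elim _ _
  obtain ⟨y, rfl⟩ := Groth.Agent.Lib.CohLES.exact₁ hS 0 x hx
  -- `y` comes from `H⁰(O_X)`
  let e : Γ(D.subscheme, ⊤) := Groth.Agent.Lib.H4Twist.h0Equiv (ClSub.quotMod D) y
  obtain ⟨c, hc⟩ := surjective_κD k q D e
  let a : Γ(X, ⊤) := κ k q c
  have hae : (D.subschemeι.appTop).hom a = e := hc
  let z : Coh.HH X (Coh.structureModule X) 0 :=
    (Groth.Agent.Lib.H4Twist.h0Equiv (Coh.structureModule X)).symm a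
  have hz : Groth.Agent.Lib.CohLES.map (ClSub.toSubscheme D) 0 z = y := by
    apply (Groth.Agent.Lib.H4Twist.h0Equiv (ClSub.quotMod D)).injective
    have hz' : Groth.Agent.Lib.H4Twist.h0Equiv (Coh.structureModule X) z = a :=
      AddEquiv.apply_symm_apply _ _
    rw [Groth.Agent.Lib.H4Twist.h0Equiv_map, hz']
    exact hae
  rw [← hz]
  exact Groth.Agent.Lib.CohLES.δ_map_g hS 0 z

end

end Groth.Agent.Lib.DivConn5
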