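import Mathlib
import Groth.Agent.Lib.UnramifiedLocusBC

/-!
# Quasi-compact dominant morphisms hit generic points (helper37)

* `exists_specializes_of_isDominant`: for a quasi-compact dominant `g : Y ⟶ X`, every point of `X`
  is a specialization of a point in the image.
* `exists_generic_of_isDominant`: the generic point of an irreducible component of `X` is the image
  of the generic point of an irreducible component of `Y`.
-/

set_option autoImplicit false
universe u
open CategoryTheory AlgebraicGeometry TopologicalSpace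

namespace Groth.Agent.Lib.DominantGeneric

open Groth.Agent.Lib.UnramifiedLocusBC in
lemma exists_specializes_of_mem_closure_image {X Y : Scheme.{u}} (g : Y ⟶ X) {U : X.Opens}
    (hU : IsAffineOpen U) {V : Y.Opens} (hV : IsAffineOpen V) (e : V ≤ g ⁻¹ᵁ U) (x : X)
    (hxU : x ∈ U) (hx : x ∈ closure (g '' (V : Set Y))) : ∃ y : Y, g y ⤳ x := by
  set φ := g.appLE U V e with hφ
  set p := hU.primeIdealOf ⟨x, hxU⟩ with hp
  have hker : RingHom.ker φ.hom ≤ p.asIdeal := by
    intro a ha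
    by_contra hnot
    have hxa : x ∈ X.basicOpen a := (mem_basicOpen_iff_primeIdealOf hU a hxU).mpr hnot
    obtain ⟨_, hz, ⟨y, hyV, rfl⟩⟩ := mem_closure_iff.mp hx _ (X.basicOpen a).isOpen hxa
    have hy : y ∈ Y.basicOpen (φ.hom a) := by
      rw [hφ, Scheme.basicOpen_appLE]
      exact ⟨hyV, hz⟩
    rw [RingHom.mem_ker.mp ha, Scheme.basicOpen_zero] at hy
    exact hy
  obtain ⟨p₀, hp₀min, hp₀le⟩ := Ideal.exists_minimalPrimes_le hker
  have hp₀min' : p₀ ∈ ((⊥ : Ideal Γ(Y, V)).comap φ.hom).minimalPrimes := hp₀min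
  obtain ⟨q, hq, -, hqp⟩ := Ideal.exists_comap_eq_of_mem_minimalPrimes φ.hom p₀ hp₀min'
  let Q : ↥(Spec Γ(Y, V)) := (⟨q, hq⟩ : PrimeSpectrum Γ(Y, V))
  refine ⟨hV.fromSpec Q, ?_⟩
  have h0 := hU.SpecMap_appLE_fromSpec g hV e
  have h1 : g (hV.fromSpec Q) = hU.fromSpec (Spec.map φ Q) := by
    rw [← Scheme.Hom.comp_apply, ← Scheme.Hom.comp_apply, hφ, h0]
  have h2 : hU.fromSpec p = x := hU.fromSpec_primeIdealOf ⟨x, hxU⟩
  have h3 : hU.fromSpec (Spec.map φ Q) ⤳ hU.fromSpec p := by
    apply Specializes.map _ hU.fromSpec.continuous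
    have h4 : (PrimeSpectrum.comap φ.hom (⟨q, hq⟩ : PrimeSpectrum Γ(Y, V))) ≤ p := by
      change Ideal.comap φ.hom q ≤ p.asIdeal
      rw [hqp]
      exact hp₀le
    exact (PrimeSpectrum.le_iff_specializes _ _).mp h4
  rw [h1]
  rwa [h2] at h3

theorem exists_specializes_of_isDominant {X Y : Scheme.{u}} (g : Y ⟶ X) [QuasiCompact g]
    [IsDominant g] (x : X) : ∃ y : Y, g y ⤳ x := by
  obtain ⟨_, ⟨U, hU, rfl⟩, hxU, -⟩ :=
    X.isBasis_affineOpens.exists_subset_of_mem_open (Set.mem_univ x) isOpen_univ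
  have hc : IsCompact (g ⁻¹ᵁ U : Set Y) :=
    (quasiCompact_iff_forall_isAffineOpen (f := g)).1 inferInstance U hU
  obtain ⟨s, hs, hsU⟩ := isCompact_iff_finite_and_eq_biUnion_affineOpens.mp hc
  have hle : ∀ V ∈ s, (V : Y.Opens) ≤ g ⁻¹ᵁ U := fun V hVs => by
    rw [hsU]
    exact le_iSup₂ (f := fun (i : Y.affineOpens) (_ : i ∈ s) => (i : Y.Opens)) V hVs
  have hx1 : x ∈ closure ((U : Set X) ∩ Set.range g) :=
    g.denseRange.open_subset_closure_inter U.isOpen hxU
  have hU' : (U : Set X) ∩ Set.range g = ⋃ V ∈ s, g '' ((V : Y.Opens) : Set Y) := by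
    ext z
    simp only [Set.mem_iUnion]
    constructor
    · rintro ⟨hzU, y, rfl⟩
      have hy : y ∈ g ⁻¹ᵁ U := hzU
      rw [hsU] at hy
      simp only [Opens.mem_iSup] at hy
      obtain ⟨V, hVs, hyV⟩ := hy
      exact ⟨V, hVs, y, hyV, rfl⟩
    · rintro ⟨V, hVs, y, hyV, rfl⟩
      exact ⟨hle V hVs hyV, y, rfl⟩
  rw [hU', hs.closure_biUnion] at hx1
  simp only [Set.mem_iUnion] at hx1
  obtain ⟨V, hVs, hxV⟩ := hx1
  exact exists_specializes_of_mem_closure_image g hU V.2 (hle V hVs) x hxU hxV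

theorem exists_generic_of_isDominant {X Y : Scheme.{u}} (g : Y ⟶ X) [QuasiCompact g]
    [IsDominant g] (x : X) (hx : closure {x} ∈ irreducibleComponents X) :
    ∃ y : Y, closure {y} ∈ irreducibleComponents Y ∧ g y = x := by
  obtain ⟨y₀, hy₀⟩ := exists_specializes_of_isDominant g x
  obtain ⟨y, hy⟩ := QuasiSober.sober (isIrreducible_irreducibleComponent (x := y₀))
    isClosed_irreducibleComponent
  have hyc : closure {y} = irreducibleComponent y₀ := hy
  refine ⟨y, hyc ▸ irreducibleComponent_mem_irreducibleComponents y₀, ?_⟩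
  have h1 : y ⤳ y₀ := by
    rw [specializes_iff_mem_closure, hyc]
    exact mem_irreducibleComponent
  have h2 : g y ⤳ x := (h1.map g.continuous).trans hy₀
  have h3 : closure {x} ⊆ closure {g y} := specializes_iff_closure_subset.1 h2
  have h4 : closure {g y} ⊆ closure {x} := hx.2 isIrreducible_singleton.closure h3
  have h5 : x ⤳ g y := specializes_iff_closure_subset.2 h4
  exact (h2.antisymm h5).eq

end Groth.Agent.Lib.DominantGeneric
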