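import Mathlib

/-!
# Dominating a Noetherian local domain by a one-dimensional local ring (Stacks 00PH, for S9132)

* `exists_valuationSubring`: a valuation ring of the fraction field dominating a local domain.
* `main`: `R[m/x]` localised at a minimal prime over `x`, realised as a subalgebra of `Frac R`.
-/

namespace Groth.Agent.Lib.DominateDimOne

open IsLocalRing

section

variable (R : Type*) [CommRing R] [IsDomain R] [IsLocalRing R] (K : Type*) [Field K] [Algebra R K]
  [IsFractionRing R K]

theorem exists_valuationSubring :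
    ∃ V : ValuationSubring K, (∀ a : R, algebraMap R K a ∈ V) ∧
      ∀ a ∈ maximalIdeal R, a ≠ 0 → (algebraMap R K a)⁻¹ ∉ V := by
  obtain ⟨V, hle, hloc⟩ := (LocalSubring.range (algebraMap R K)).exists_le_valuationSubring
  have hinj : Function.Injective (algebraMap R K) := IsFractionRing.injective R K
  refine ⟨V, fun a => hle ⟨a, rfl⟩, fun a ha ha0 hinv => ?_⟩
  have hmem : algebraMap R K a ∈ (LocalSubring.range (algebraMap R K)).toSubring := ⟨a, rfl⟩
  have hunit : IsUnit (Subring.inclusion hle ⟨algebraMap R K a, hmem⟩) := by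
    rw [isUnit_iff_exists_inv]
    refine ⟨⟨(algebraMap R K a)⁻¹, hinv⟩, Subtype.ext ?_⟩
    have : algebraMap R K a ≠ 0 := fun h => ha0 (hinj (by rw [h, map_zero]))
    simp [this]
  have h2 := hloc.map_nonunit _ hunit
  rw [isUnit_iff_exists_inv] at h2
  obtain ⟨⟨_, b, rfl⟩, hb⟩ := h2
  have h3 : algebraMap R K a * algebraMap R K b = 1 := congrArg Subtype.val hb
  rw [← map_mul, ← map_one (algebraMap R K)] at h3
  have h4 := hinj h3
  exact ha (IsUnit.of_mul_eq_one _ h4)

end

section Main

universe u

theorem main (R : Type u) [CommRing R] [IsDomain R] [IsNoetherianRing R] [IsLocalRing R]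
    (hR : ¬ IsField R) :
    ∃ R' : Subalgebra R (FractionRing R), ∃ _ : IsLocalRing R',
      IsNoetherianRing R' ∧ ringKrullDim R' = 1 ∧ IsLocalHom (algebraMap R R') ∧
        Algebra.EssFiniteType R R' := by
  classical
  set K := FractionRing R with hK
  have hinj : Function.Injective (algebraMap R K) := IsFractionRing.injective R K
  obtain ⟨V, hV1, hV2⟩ := exists_valuationSubring R K
  obtain ⟨T, hT⟩ := (isNoetherianRing_iff_ideal_fg R).mp inferInstance (maximalIdeal R)
  have hm : maximalIdeal R ≠ ⊥ := fun h => hR (IsLocalRing.isField_iff_maximalIdeal_eq.mpr h)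
  have hTm : ∀ y ∈ T, y ∈ maximalIdeal R := fun y hy => hT ▸ Ideal.subset_span hy
  obtain ⟨y₀, hy₀T, hy₀⟩ : ∃ y ∈ T, y ≠ 0 := by
    by_contra h
    apply hm
    rw [← hT, Ideal.span_eq_bot]
    intro y hy
    by_contra hy0
    exact h ⟨y, hy, hy0⟩
  obtain ⟨x, hxT, hxmax⟩ := T.exists_max_image (fun y => V.valuation (algebraMap R K y)) ⟨y₀, hy₀T⟩
  have hvx : V.valuation (algebraMap R K x) ≠ 0 := by
    intro h
    have h1 := hxmax y₀ hy₀T
    rw [h, le_zero_iff, map_eq_zero] at h1
    exact hy₀ (hinj (by rw [h1, map_zero]))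
  have hx0 : algebraMap R K x ≠ 0 := fun h => hvx (by rw [h, map_zero])
  have hxm : x ∈ maximalIdeal R := hTm x hxT
  have hdiv : ∀ y ∈ T, algebraMap R K y / algebraMap R K x ∈ V := by
    intro y hy
    rw [← ValuationSubring.valuation_le_one_iff, map_div₀]
    exact div_le_one_of_le₀ (hxmax y hy) zero_le'
  set S : Subalgebra R K :=
    Algebra.adjoin R ((fun y => algebraMap R K y / algebraMap R K x) '' (T : Set R)) with hS
  have hSV : ∀ s ∈ S, s ∈ V := by
    intro s hs
    induction hs using Algebra.adjoin_induction with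
    | mem z hz =>
      obtain ⟨y, hy, rfl⟩ := hz
      exact hdiv y hy
    | algebraMap r => exact hV1 r
    | add a b _ _ ha hb => exact V.add_mem _ _ ha hb
    | mul a b _ _ ha hb => exact V.mul_mem _ _ ha hb
  have hgen : ∀ y ∈ T, algebraMap R K y / algebraMap R K x ∈ S := fun y hy =>
    Algebra.subset_adjoin ⟨y, hy, rfl⟩
  have hxS_ne_top : Ideal.span {algebraMap R S x} ≠ ⊤ := by
    intro h
    rw [Ideal.span_singleton_eq_top, isUnit_iff_exists_inv] at h
    obtain ⟨b, hb⟩ := h
    have h1 : algebraMap R K x * (b : K) = 1 := congrArg Subtype.val hb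
    have h2 : (b : K) = (algebraMap R K x)⁻¹ := eq_inv_of_mul_eq_one_right h1
    apply hV2 x hxm (fun h => hx0 (by rw [h, map_zero]))
    rw [← h2]
    exact hSV _ b.2
  have hmS : ∀ a ∈ maximalIdeal R, algebraMap R S a ∈ Ideal.span {algebraMap R S x} := by
    intro a ha
    rw [← hT] at ha
    induction ha using Submodule.span_induction with
    | mem y hy =>
      rw [Ideal.mem_span_singleton']
      refine ⟨⟨_, hgen y hy⟩, Subtype.ext ?_⟩
      change algebraMap R K y / algebraMap R K x * algebraMap R K x = algebraMap R K y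
      rw [div_mul_cancel₀ _ hx0]
    | zero => rw [map_zero]; exact Ideal.zero_mem _
    | add a b _ _ ha hb => rw [map_add]; exact Ideal.add_mem _ ha hb
    | smul r a _ ha =>
      rw [smul_eq_mul, map_mul]
      exact Ideal.mul_mem_left _ _ ha
  obtain ⟨⟨q, hq⟩⟩ := Ideal.nonempty_minimalPrimes hxS_ne_top
  haveI hqp : q.IsPrime := hq.1.1
  have hxq : algebraMap R S x ∈ q := hq.1.2 (Ideal.subset_span rfl)
  haveI : Algebra.FiniteType R S := by
    rw [← Subalgebra.fg_iff_finiteType]
    have := Subalgebra.fg_adjoin_finset (R := R) (T.image fun y => algebraMap R K y / algebraMap R K x)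
    rwa [Finset.coe_image] at this
  haveI : IsNoetherianRing S := Algebra.FiniteType.isNoetherianRing R S
  have hht : q.height = 1 := by
    apply le_antisymm
    · haveI : (Ideal.span {algebraMap R S x}).IsPrincipal := ⟨⟨_, rfl⟩⟩
      exact Ideal.height_le_one_of_isPrincipal_of_mem_minimalPrimes _ q hq
    · rw [Order.one_le_iff_pos, pos_iff_ne_zero, Ne, Ideal.height_eq_zero_iff_eq_bot]
      intro h
      rw [h, Ideal.mem_bot] at hxq
      apply hx0
      have := congrArg Subtype.val hxq
      exact this
  -- the localization and its embedding into `K`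
  have hunits : ∀ y : q.primeCompl, IsUnit (S.val (y : S)) := by
    intro y
    rw [isUnit_iff_ne_zero]
    intro h
    apply y.2
    have : (y : S) = 0 := Subtype.ext h
    rw [this]
    exact Ideal.zero_mem _
  let ι : Localization.AtPrime q →ₐ[R] K := IsLocalization.liftAlgHom (M := q.primeCompl)
    (f := S.val) hunits
  have hι : Function.Injective ι := by
    rw [injective_iff_map_eq_zero]
    intro z hz
    obtain ⟨a, b, rfl⟩ := IsLocalization.exists_mk'_eq q.primeCompl z
    have h1 : ι (IsLocalization.mk' (Localization.AtPrime q) a b) * S.val (b : S) = S.val a := by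
      have h2 := IsLocalization.mk'_spec (Localization.AtPrime q) a b
      have h3 := congrArg ι h2
      rw [map_mul] at h3
      have h4 : ∀ c : S, ι (algebraMap S (Localization.AtPrime q) c) = S.val c := fun c =>
        IsLocalization.lift_eq _ c
      rwa [h4, h4] at h3
    rw [hz, zero_mul] at h1
    have : a = 0 := Subtype.ext h1.symm
    rw [this, IsLocalization.mk'_zero]
  let e : Localization.AtPrime q ≃ₐ[R] ι.range := AlgEquiv.ofInjective ι hι
  refine ⟨ι.range, e.toRingEquiv.isLocalRing, isNoetherianRing_of_ringEquiv _ e.toRingEquiv, ?_, ?_,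
    (Algebra.EssFiniteType.iff_of_algEquiv (R := R) (S := Localization.AtPrime q) (T := ι.range)
      e).mp inferInstance⟩
  · have h1 := IsLocalization.AtPrime.ringKrullDim_eq_height q (Localization.AtPrime q)
    have h2 := ringKrullDim_eq_of_ringEquiv e.toRingEquiv
    rw [hht] at h1
    exact h2.symm.trans h1
  · constructor
    intro a ha
    by_contra hna
    have ham : a ∈ maximalIdeal R := hna
    have h1 : IsUnit (algebraMap R (Localization.AtPrime q) a) := by
      have h2 := ha.map e.symm
      have h3 : e.symm (algebraMap R ι.range a) = algebraMap R (Localization.AtPrime q) a :=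
        e.symm.commutes a
      rwa [h3] at h2
    rw [IsScalarTower.algebraMap_apply R S (Localization.AtPrime q),
      IsLocalization.AtPrime.isUnit_to_map_iff (Localization.AtPrime q) q] at h1
    exact h1 (hq.1.2 (hmS a ham))

end Main

end Groth.Agent.Lib.DominateDimOne
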