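import Groth.Agent.Lib.H29DualSupp

/-!
# Iso-invariance of dualizing complexes (helper29)

* `isDualizing_of_iso`, `isNormalized_of_iso`.
* `exists_minimalPrimes_dim_eq`: a ring of finite dimension `d` has a minimal prime `p` with
  `dim R/p = d`.
* `subsingleton_HD_inD`: `H^i(M[0]) = 0` for `i ≠ 0`.
-/

set_option autoImplicit false
universe u
open CategoryTheory CategoryTheory.Limits Category Pretriangulated DerivedCategory

namespace Groth.Agent.Lib.H29DualPrime

attribute [local instance] HasDerivedCategory.standard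

variable (A : Type u) [CommRing A]

theorem isDualizing_of_iso {ω ω' : Dual.D A} (e : ω ≅ ω') (h : Dual.IsDualizing A ω) :
    Dual.IsDualizing A ω' := by
  obtain ⟨a, b, hab⟩ := h.finite_injective_dimension
  refine ⟨h.isNoetherianRing, ⟨a, b, ?_⟩, ?_, ?_, ?_⟩
  · intro M _ _ i hi
    haveI := hab M i hi
    exact (Linear.homCongr A (Iso.refl (Dual.inD A M))
      ((shiftFunctor (Dual.D A) i).mapIso e.symm)).toEquiv.subsingleton
  · intro i
    haveI := h.finite_cohomology i
    exact Module.Finite.equiv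
      ((homologyFunctor (ModuleCat.{u} A) i).mapIso e).toLinearEquiv
  · have h1 : ∀ a : A, a • 𝟙 ω' = e.inv ≫ (a • 𝟙 ω) ≫ e.hom := by
      intro a
      rw [Linear.smul_comp, Linear.comp_smul, id_comp, e.inv_hom_id]
    constructor
    · intro a a' haa
      replace haa : a • 𝟙 ω' = a' • 𝟙 ω' := haa
      apply h.toEnd_bijective.1
      show a • 𝟙 ω = a' • 𝟙 ω
      rw [h1, h1] at haa
      rw [← cancel_epi e.inv, ← cancel_mono e.hom, assoc, assoc]
      exact haa
    · intro f
      obtain ⟨a, ha⟩ := h.toEnd_bijective.2 (e.hom ≫ f ≫ e.inv)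
      refine ⟨a, ?_⟩
      show a • 𝟙 ω' = f
      replace ha : a • 𝟙 ω = e.hom ≫ f ≫ e.inv := ha
      rw [h1, ha]
      simp
  · intro i hi
    haveI := h.ext_self_subsingleton i hi
    exact (Linear.homCongr A e.symm
      ((shiftFunctor (Dual.D A) i).mapIso e.symm)).toEquiv.subsingleton

theorem isNormalized_of_iso [IsLocalRing A] {ω ω' : Dual.D A} (e : ω ≅ ω')
    (h : Dual.IsNormalized A ω) : Dual.IsNormalized A ω' := by
  intro i hi
  haveI := h i hi
  exact (Linear.homCongr A (Iso.refl (Dual.inD A (IsLocalRing.ResidueField A)))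
    ((shiftFunctor (Dual.D A) i).mapIso e.symm)).toEquiv.subsingleton

theorem exists_minimalPrimes_dim_eq (R : Type*) [CommRing R] (d : ℕ)
    (hd : ringKrullDim R = d) : ∃ p ∈ minimalPrimes R, ringKrullDim (R ⧸ p) = d := by
  have hle : ((d : ℕ) : WithBot ℕ∞) ≤ Order.krullDim (PrimeSpectrum R) := le_of_eq hd.symm
  obtain ⟨x, hx⟩ := Order.le_krullDim_iff.mp hle
  obtain ⟨q, hqmin, hq⟩ := Ideal.exists_minimalPrimes_le (I := (⊥ : Ideal R))
    (J := x.head.asIdeal) bot_le
  refine ⟨q, hqmin, le_antisymm ?_ ?_⟩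
  · rw [← hd]
    exact ringKrullDim_quotient_le q
  · rw [ringKrullDim_quotient]
    have hmem : ∀ i, x i ∈ PrimeSpectrum.zeroLocus (R := R) q := by
      intro i
      have : x.head ≤ x i := x.strictMono.monotone (Fin.zero_le _)
      exact le_trans hq this
    let y : LTSeries (PrimeSpectrum.zeroLocus (R := R) q) :=
      LTSeries.mk x.length (fun i => ⟨x i, hmem i⟩) (fun a b hab => x.strictMono hab)
    have := Order.LTSeries.length_le_krullDim y
    rw [← hx]
    exact this

theorem subsingleton_HD_inD (M : Type u) [AddCommGroup M] [Module A M] (i : ℤ) (hi : i ≠ 0) :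
    Subsingleton (Dual.HD A (Dual.inD A M) i) := by
  have hz : IsZero ((homologyFunctor (ModuleCat.{u} A) i).obj (Dual.inD A M)) := by
    rcases lt_or_gt_of_ne hi with h | h
    · exact (Dual.inD A M).isZero_of_isGE 0 i h
    · exact (Dual.inD A M).isZero_of_isLE 0 i h
  exact ModuleCat.subsingleton_of_isZero hz

end Groth.Agent.Lib.H29DualPrime
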