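import Groth.Agent.Lib.InjHull
import Groth.Agent.S0305
import Mathlib.Order.CompactlyGenerated.Basic
import Mathlib.Algebra.DirectSum.Module
import Mathlib.RingTheory.Noetherian.Basic
import Mathlib.RingTheory.Ideal.AssociatedPrime.Basic

/-!
Direct sums of injective modules over a Noetherian ring are injective (Bass), summands of
injective modules, and decomposition of injective modules into indecomposables (Matlis).
-/

set_option autoImplicit false
universe u

namespace Groth.Agent.Lib.InjDecomp

open _root_.InjHull Groth.Agent.Lib.InjHull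

variable {R : Type u} [CommRing R]

/-- Transport of injectivity along a linear equivalence. -/
theorem injective_of_linearEquiv {Q Q' : Type u} [AddCommGroup Q] [Module R Q] [AddCommGroup Q']
    [Module R Q'] (e : Q ≃ₗ[R] Q') (h : Module.Injective R Q) : Module.Injective R Q' where
  out X Y _ _ _ _ f hf g := by
    obtain ⟨k, hk⟩ := h.out f hf (e.symm.toLinearMap ∘ₗ g)
    refine ⟨e.toLinearMap ∘ₗ k, fun x => ?_⟩
    simp [hk x]

/-- A direct summand of an injective module is injective. -/
theorem injective_of_isCompl {E : Type u} [AddCommGroup E] [Module R E]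
    (hE : Module.Injective R E) {K C : Submodule R E} (hKC : IsCompl K C) :
    Module.Injective R K where
  out X Y _ _ _ _ f hf g := by
    obtain ⟨k, hk⟩ := hE.out f hf (K.subtype ∘ₗ g)
    refine ⟨(Submodule.projectionOnto K C hKC) ∘ₗ k, fun x => ?_⟩
    simp only [LinearMap.comp_apply, hk x, Submodule.subtype_apply]
    exact Submodule.projectionOnto_apply_left hKC (g x)

open Classical in
/-- Bass: over a Noetherian ring a direct sum of injective modules is injective. -/
theorem directSum_injective [IsNoetherianRing R] {ι : Type u} (M : ι → Type u)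
    [∀ i, AddCommGroup (M i)] [∀ i, Module R (M i)] (h : ∀ i, Module.Injective R (M i)) :
    Module.Injective R (DirectSum ι M) := by
  apply Module.Baer.injective
  intro J g
  have hpi : Module.Injective R (∀ i, M i) := inferInstance
  obtain ⟨s, hs⟩ := (IsNoetherian.noetherian J : J.FG)
  subst hs
  obtain ⟨k, hk⟩ := Module.Baer.of_injective hpi _ ((DirectSum.coeFnLinearMap R) ∘ₗ g)
  -- finite set of indices
  let T : Finset ι := s.biUnion fun a =>
    if ha : a ∈ Submodule.span R (s : Set R) then DFinsupp.support (g ⟨a, ha⟩) else ∅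
  have hT : ∀ (a : R) (ha : a ∈ Submodule.span R (s : Set R)), ∀ i ∉ T, (g ⟨a, ha⟩) i = 0 := by
    intro a ha
    induction ha using Submodule.span_induction with
    | mem x hx =>
      intro i hi
      by_contra hne
      apply hi
      have hxJ : x ∈ Submodule.span R (s : Set R) := Submodule.subset_span hx
      refine Finset.mem_biUnion.mpr ⟨x, hx, ?_⟩
      rw [dif_pos hxJ, DFinsupp.mem_support_iff]
      exact hne
    | zero =>
      intro i _
      have : (⟨0, Submodule.zero_mem _⟩ : Submodule.span R (s : Set R)) = 0 := rfl
      rw [this, map_zero]; rfl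
    | add x y hx hy ihx ihy =>
      intro i hi
      have : (⟨x + y, Submodule.add_mem _ hx hy⟩ : Submodule.span R (s : Set R)) =
          ⟨x, hx⟩ + ⟨y, hy⟩ := rfl
      rw [this, map_add, DirectSum.add_apply, ihx i hi, ihy i hi, add_zero]
    | smul r x hx ihx =>
      intro i hi
      have : (⟨r • x, Submodule.smul_mem _ r hx⟩ : Submodule.span R (s : Set R)) =
          r • ⟨x, hx⟩ := rfl
      rw [this, map_smul, DirectSum.smul_apply, ihx i hi, smul_zero]
  let e' : DirectSum ι M := DirectSum.mk M T fun i => k 1 i
  refine ⟨LinearMap.toSpanSingleton R _ e', fun a ha => ?_⟩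
  rw [LinearMap.toSpanSingleton_apply]
  ext i
  rw [DirectSum.smul_apply]
  by_cases hi : i ∈ T
  · rw [DirectSum.mk_apply_of_mem hi]
    have h1 : (k a) i = (g ⟨a, ha⟩) i := by
      rw [hk a ha]; rfl
    rw [← h1]
    have h2 : k a = a • k 1 := by
      rw [← map_smul, smul_eq_mul, mul_one]
    rw [h2]; rfl
  · rw [DirectSum.mk_apply_of_notMem hi, smul_zero, hT a ha i hi]

open Classical in
/-- Over a Noetherian ring, the supremum of an independent family of injective submodules is
injective. -/
theorem iSup_injective [IsNoetherianRing R] {I : Type u} [AddCommGroup I] [Module R I]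
    {ι : Type u} (A : ι → Submodule R I) (hind : iSupIndep A)
    (hinj : ∀ i, Module.Injective R (A i)) : Module.Injective R ↥(⨆ i, A i) := by
  have h1 : Module.Injective R (DirectSum ι fun i => A i) := directSum_injective _ hinj
  have h2 : Function.Injective (DirectSum.coeLinearMap A) := hind.dfinsupp_lsum_injective
  let e : (DirectSum ι fun i => A i) ≃ₗ[R] ↥(⨆ i, A i) :=
    (LinearEquiv.ofInjective _ h2).trans (LinearEquiv.ofEq _ _ DirectSum.range_coeLinearMap)
  exact injective_of_linearEquiv e h1

/-- Adding an element disjoint from the supremum keeps independence (modular lattices). -/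
theorem sSupIndep_union_singleton {α : Type*} [CompleteLattice α] [IsModularLattice α]
    {s : Set α} {a : α} (hs : sSupIndep s) (ha : Disjoint a (sSup s)) :
    sSupIndep (s ∪ {a}) := by
  intro x hx
  rw [Set.mem_union, Set.mem_singleton_iff] at hx
  obtain rfl | xa := eq_or_ne x a
  · simp only [Set.mem_singleton, Set.insert_sdiff_of_mem, Set.union_singleton]
    exact ha.mono_right (sSup_le_sSup Set.sdiff_subset)
  · have h : (s ∪ {a}) \ {x} = s \ {x} ∪ {a} := by
      simp only [Set.union_singleton]
      rw [Set.insert_sdiff_of_notMem]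
      rw [Set.mem_singleton_iff]
      exact Ne.symm xa
    rw [h, sSup_union, sSup_singleton]
    apply (hs (hx.resolve_right xa)).disjoint_sup_right_of_disjoint_sup_left
      (ha.mono_right _).symm
    rw [← sSup_insert, Set.insert_sdiff_singleton, Set.insert_eq_of_mem (hx.resolve_right xa)]

/-- Indecomposability transports along linear equivalences. -/
theorem indecomposable_of_linearEquiv {Q Q' : Type u} [AddCommGroup Q] [Module R Q]
    [AddCommGroup Q'] [Module R Q'] (e : Q ≃ₗ[R] Q') (h : IsIndecomposable R Q) :
    IsIndecomposable R Q' := by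
  refine ⟨?_, fun N N' hNN' => ?_⟩
  · have := h.1
    exact e.injective.nontrivial
  · let o := (Submodule.orderIsoMapComap e).symm
    have hc : IsCompl (o N) (o N') := o.isCompl hNN'
    rcases h.2 _ _ hc with h0 | h0
    · left
      exact (map_eq_bot_iff o).mp h0
    · right
      exact (map_eq_bot_iff o).mp h0

/-- Every nonzero injective module over a Noetherian ring contains an indecomposable injective
submodule. -/
theorem exists_indecomposable_injective_submodule [IsNoetherianRing R] {C : Type u}
    [AddCommGroup C] [Module R C] (hC : Module.Injective R C) [Nontrivial C] :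
    ∃ K : Submodule R C, IsIndecomposable R K ∧ Module.Injective R K := by
  obtain ⟨p, hp⟩ := associatedPrimes.nonempty R C
  obtain ⟨hpp, f, hf⟩ := (isAssociatedPrime_iff_exists_injective_linearMap p C).mp hp
  obtain ⟨K, C', hNK, hKC'⟩ := exists_essIn_isCompl hC (LinearMap.range f)
  have hKinj : Module.Injective R K := injective_of_isCompl hC hKC'
  refine ⟨K, ?_, hKinj⟩
  let f' : (R ⧸ p) →ₗ[R] K := LinearMap.codRestrict K f fun x => hNK.1 ⟨x, rfl⟩
  have hf' : Function.Injective f' := fun x y hxy => hf (congrArg Subtype.val hxy)
  have hull : IsInjectiveHull f' := by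
    refine ⟨⟨hf', ?_⟩, hKinj⟩
    rw [ess_iff]
    intro x hx
    have hx' : (x : C) ≠ 0 := fun h => hx (Subtype.ext h)
    obtain ⟨r, hr0, ⟨y, hy⟩⟩ := hNK.2 x x.2 hx'
    refine ⟨r, fun h => hr0 (by simpa using congrArg Subtype.val h), ⟨y, Subtype.ext ?_⟩⟩
    simpa [f'] using hy
  exact (Groth.Agent.S0305.result R p K f' hull).1

/-- Matlis: over a Noetherian ring every injective module is the internal direct sum of an
independent family of indecomposable injective submodules. -/
theorem exists_decomposition [IsNoetherianRing R] (I : Type u) [AddCommGroup I] [Module R I]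
    (hI : Module.Injective R I) :
    ∃ S : Set (Submodule R I), sSupIndep S ∧ sSup S = ⊤ ∧
      ∀ K ∈ S, IsIndecomposable R K ∧ Module.Injective R K := by
  have zorn := zorn_subset
    (S := {s : Set (Submodule R I) | sSupIndep s ∧
      ∀ K ∈ s, IsIndecomposable R K ∧ Module.Injective R K})
    fun c hc1 hc2 =>
      ⟨⋃₀ c,
        ⟨iSupIndep_sUnion_of_directed hc2.directedOn fun s hs => (hc1 hs).1,
          fun a ⟨s, sc, as⟩ => (hc1 sc).2 a as⟩,
        fun _ => Set.subset_sUnion_of_mem⟩
  obtain ⟨S, ⟨hSind, hSprop⟩, hSmax⟩ := zorn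
  refine ⟨S, hSind, ?_, hSprop⟩
  -- the supremum is injective, hence a direct summand
  have hKinj : Module.Injective R ↥(sSup S) := by
    rw [sSup_eq_iSup']
    exact iSup_injective _ ((sSupIndep_iff S).mp hSind) fun i => (hSprop i.1 i.2).2
  obtain ⟨C, hC⟩ := exists_isCompl_range hKinj (sSup S).subtype (sSup S).injective_subtype
  rw [Submodule.range_subtype] at hC
  by_contra hne
  have hCne : C ≠ ⊥ := by
    intro h
    apply hne
    have := hC.sup_eq_top
    rwa [h, sup_bot_eq] at this
  have hCinj : Module.Injective R C := injective_of_isCompl hI hC.symm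
  have : Nontrivial C := Submodule.nontrivial_iff_ne_bot.mpr hCne
  obtain ⟨K, hKind, hKinj'⟩ := exists_indecomposable_injective_submodule hCinj
  let K' : Submodule R I := K.map C.subtype
  let e : K ≃ₗ[R] K' := Submodule.equivMapOfInjective C.subtype C.injective_subtype K
  have hK'le : K' ≤ C := by
    rintro _ ⟨x, -, rfl⟩
    exact x.2
  have hK'ne : K' ≠ ⊥ := by
    have := hKind.1
    have : Nontrivial K' := e.injective.nontrivial
    exact Submodule.nontrivial_iff_ne_bot.mp this
  have hdisj : Disjoint K' (sSup S) := (hC.disjoint.mono_right hK'le).symm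
  have hmem : K' ∈ S := by
    have hle : S ⊆ S ∪ {K'} := Set.subset_union_left
    have := hSmax (y := S ∪ {K'}) ⟨sSupIndep_union_singleton hSind hdisj, ?_⟩ hle
    · exact this (Set.mem_union_right _ rfl)
    · intro L hL
      rcases hL with hL | hL
      · exact hSprop L hL
      · rw [Set.mem_singleton_iff] at hL
        subst hL
        exact ⟨indecomposable_of_linearEquiv e hKind, injective_of_linearEquiv e hKinj'⟩
  exact hK'ne (le_bot_iff.mp (hdisj le_rfl (le_sSup hmem)))

end Groth.Agent.Lib.InjDecomp
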