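import Groth.Agent.Lib.QuasiIsoElem

/-!
# A chain map which is zero on homology sends cycles to boundaries (modules, elementwise)
-/

set_option autoImplicit false

open CategoryTheory Limits

namespace Groth.Agent.Lib.QuasiIsoElem

universe v u

variable {R : Type u} [Ring R]

theorem shortComplex_exists_of_homologyMap_eq_zero {S₁ S₂ : ShortComplex (ModuleCat.{v} R)}
    (φ : S₁ ⟶ S₂) (h0 : ShortComplex.homologyMap φ = 0)
    (x₁ : S₁.X₂) (hx₁ : S₁.g.hom x₁ = 0) : ∃ y : S₂.X₁, S₂.f.hom y = φ.τ₂.hom x₁ := by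
  have γ : ShortComplex.LeftHomologyMapData φ S₁.moduleCatLeftHomologyData
    S₂.moduleCatLeftHomologyData := default
  have hφH : γ.φH = 0 := by
    have h := γ.homologyMap_eq
    rw [h0] at h
    have h' := congrArg (fun f => S₁.moduleCatLeftHomologyData.homologyIso.inv ≫ f ≫
      S₂.moduleCatLeftHomologyData.homologyIso.hom) h
    simpa using h'.symm
  have hK : ∀ k : S₁.moduleCatLeftHomologyData.K,
      S₂.moduleCatLeftHomologyData.i.hom (γ.φK.hom k) =
        φ.τ₂.hom (S₁.moduleCatLeftHomologyData.i.hom k) := by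
    intro k
    exact congrArg (fun f => f.hom k) γ.commi
  have hH : ∀ k : S₁.moduleCatLeftHomologyData.K,
      γ.φH.hom (S₁.moduleCatLeftHomologyData.π.hom k) =
        S₂.moduleCatLeftHomologyData.π.hom (γ.φK.hom k) := by
    intro k
    exact congrArg (fun f => f.hom k) γ.commπ
  obtain ⟨k₁, rfl⟩ := mc_exists_i S₁ x₁ hx₁
  have h1 : S₂.moduleCatLeftHomologyData.π.hom (γ.φK.hom k₁) = 0 := by
    rw [← hH, hφH]
    rfl
  rw [mc_π_eq_zero_iff, hK] at h1
  exact h1

/-- If `f` induces the zero map on homology in degree `j`, it maps cycles to boundaries. -/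
theorem exists_of_homologyMap_eq_zero {ι : Type*} {c : ComplexShape ι}
    {K L : HomologicalComplex (ModuleCat.{v} R) c} (f : K ⟶ L) (i j k : ι)
    (hi : c.prev j = i) (hk : c.next j = k)
    (h0 : HomologicalComplex.homologyMap f j = 0)
    (x : K.X j) (hx : (K.d j k).hom x = 0) : ∃ y : L.X i, (L.d i j).hom y = (f.f j).hom x := by
  refine shortComplex_exists_of_homologyMap_eq_zero
    ((HomologicalComplex.shortComplexFunctor' _ c i j k).map f) ?_ x hx
  have nat := (HomologicalComplex.homologyFunctorIso' (ModuleCat.{v} R) c i j k hi hk).hom.naturality f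
  have h1 : (HomologicalComplex.homologyFunctor (ModuleCat.{v} R) c j).map f = 0 := h0
  rw [h1, zero_comp] at nat
  have h2 := congrArg (fun g =>
    (HomologicalComplex.homologyFunctorIso' (ModuleCat.{v} R) c i j k hi hk).inv.app K ≫ g) nat
  have h3 : (ShortComplex.homologyFunctor (ModuleCat.{v} R)).map
      ((HomologicalComplex.shortComplexFunctor' (ModuleCat.{v} R) c i j k).map f) = 0 := by
    simpa using h2.symm
  exact h3

end Groth.Agent.Lib.QuasiIsoElem
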