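import Groth.Agent.Lib.TwoTermRepD
import Groth.Agent.Lib.QuasiIsoElem2

/-!
# More on objects of `D(R)` with cohomology in degrees `-1, 0`

* `homologyEquiv`: `H^j(K) ≃ ker d^j / im d^i` for a representative.
* `exists_single`: cohomology only in degree `0` ⇒ `K ≅ Y[0]`, `H⁰(K) ≃ Y`.
* `projective_iff_hom_shift`: `Y` projective iff `Hom(Y[0], M[1]) = 0` for all `M`.
* `ker_eq_bot_of_subsingleton_hom`: if `Hom(K, M[1]) = 0` for all modules `M` and `K ≅ Q.obj M'`
  with `M'` zero in degree `-2`, then `d⁻¹` of `M'` is injective.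
-/

set_option autoImplicit false

open CategoryTheory Limits

namespace Groth.Agent.Lib.TwoTermRep

open Groth.Agent.Lib.QuasiIsoElem

universe u

attribute [local instance] HasDerivedCategory.standard

variable {R : Type u} [CommRing R]

/-- `H^j(K)` as a subquotient of a representative. -/
noncomputable def homologyEquiv (K : Dual.D R) (M : CochainComplex (ModuleCat.{u} R) ℤ)
    (e : K ≅ DerivedCategory.Q.obj M) (i j k : ℤ) (hi : (ComplexShape.up ℤ).prev j = i)
    (hk : (ComplexShape.up ℤ).next j = k) :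
    Dual.HD R K j ≃ₗ[R] (LinearMap.ker (M.d j k).hom ⧸
      LinearMap.range (M.sc' i j k).moduleCatToCycles) :=
  ((DerivedCategory.homologyFunctor (ModuleCat.{u} R) j).mapIso e ≪≫
      (DerivedCategory.homologyFunctorFactors (ModuleCat.{u} R) j).app M ≪≫
      M.homologyIsoSc' i j k hi hk ≪≫ (M.sc' i j k).moduleCatHomologyIso).toLinearEquiv

lemma exists_single (K : Dual.D R) (hK : ∀ i : ℤ, i ≠ 0 → Subsingleton (Dual.HD R K i)) :
    ∃ Y : ModuleCat.{u} R,
      Nonempty (K ≅ (DerivedCategory.singleFunctor (ModuleCat.{u} R) 0).obj Y) ∧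
      Nonempty (Dual.HD R K 0 ≃ₗ[R] Y) := by
  have hLE : DerivedCategory.IsLE K 0 := by
    rw [DerivedCategory.isLE_iff]
    intro i hi
    have := hK i (by omega)
    exact ModuleCat.isZero_of_subsingleton _
  have hGE : DerivedCategory.IsGE K 0 := by
    rw [DerivedCategory.isGE_iff]
    intro i hi
    have := hK i (by omega)
    exact ModuleCat.isZero_of_subsingleton _
  obtain ⟨Y, ⟨e⟩⟩ := DerivedCategory.exists_iso_singleFunctor_obj_of_isGE_of_isLE K 0
  refine ⟨Y, ⟨e⟩, ⟨?_⟩⟩
  exact ((DerivedCategory.homologyFunctor (ModuleCat.{u} R) 0).mapIso e ≪≫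
    (DerivedCategory.singleFunctorCompHomologyFunctorIso (ModuleCat.{u} R) 0).app Y).toLinearEquiv

lemma projective_iff_hom_shift (Y : ModuleCat.{u} R) :
    Projective Y ↔ ∀ M : ModuleCat.{u} R,
      Subsingleton ((DerivedCategory.singleFunctor (ModuleCat.{u} R) 0).obj Y ⟶
        ((DerivedCategory.singleFunctor (ModuleCat.{u} R) 0).obj M)⟦(1 : ℤ)⟧) := by
  let _ := HasExt.standard (ModuleCat.{u} R)
  rw [projective_iff_subsingleton_ext_one]
  constructor
  · intro h M
    have := @h M
    exact (Abelian.Ext.homEquiv (X := Y) (Y := M) (n := 1)).symm.subsingleton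
  · intro h M
    have := h M
    exact (Abelian.Ext.homEquiv (X := Y) (Y := M) (n := 1)).subsingleton

/-- If `Hom(K, G[1]) = 0` for `G = M⁻¹` where `K ≅ Q.obj M` and `M⁻² = 0`, then `d⁻¹` is
injective. -/
theorem ker_eq_bot_of_subsingleton_hom (K : Dual.D R) (M : CochainComplex (ModuleCat.{u} R) ℤ)
    (e : K ≅ DerivedCategory.Q.obj M) (hM : IsZero (M.X (-2)))
    (h : Subsingleton (K ⟶ ((DerivedCategory.singleFunctor (ModuleCat.{u} R) 0).obj
      (M.X (-1)))⟦(1 : ℤ)⟧)) :
    LinearMap.ker (M.d (-1) 0).hom = ⊥ := by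
  let p : M ⟶ (HomologicalComplex.single (ModuleCat.{u} R) (ComplexShape.up ℤ) (-1)).obj
      (M.X (-1)) :=
    HomologicalComplex.mkHomToSingle (𝟙 _) (fun i hi => by
      obtain rfl : i = -2 := by
        have : i + 1 = -1 := hi
        omega
      exact hM.eq_of_src _ _)
  let sh : ((DerivedCategory.singleFunctor (ModuleCat.{u} R) 0).obj (M.X (-1)))⟦(1 : ℤ)⟧ ≅
      (DerivedCategory.singleFunctor (ModuleCat.{u} R) (-1)).obj (M.X (-1)) :=
    ((DerivedCategory.singleFunctors (ModuleCat.{u} R)).shiftIso 1 (-1) 0 (by simp)).app _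
  have hQp : DerivedCategory.Q.map p = 0 := by
    have h1 : e.hom ≫ DerivedCategory.Q.map p ≫ sh.inv = 0 := Subsingleton.elim _ _
    have h2 : DerivedCategory.Q.map p ≫ sh.inv = 0 :=
      (cancel_epi e.hom).1 (h1.trans comp_zero.symm)
    exact (cancel_mono sh.inv).1 (h2.trans zero_comp.symm)
  have hp0 : HomologicalComplex.homologyMap p (-1) = 0 := by
    have nat := DerivedCategory.homologyFunctorFactors_hom_naturality p (-1)
    rw [hQp, Functor.map_zero, zero_comp] at nat
    exact (cancel_epi ((DerivedCategory.homologyFunctorFactors (ModuleCat.{u} R) (-1)).hom.app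
      M)).1 (nat.symm.trans comp_zero.symm)
  rw [eq_bot_iff]
  intro x hx
  rw [LinearMap.mem_ker] at hx
  obtain ⟨y, hy⟩ := exists_of_homologyMap_eq_zero p (-2) (-1) 0 (by simp) (by simp) hp0 x hx
  have hsub : Subsingleton (((HomologicalComplex.single (ModuleCat.{u} R) (ComplexShape.up ℤ)
      (-1)).obj (M.X (-1))).X (-2)) :=
    ModuleCat.subsingleton_of_isZero
      (HomologicalComplex.isZero_single_obj_X (ComplexShape.up ℤ) (-1) _ (-2) (by simp))
  obtain rfl : y = 0 := Subsingleton.elim _ _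
  rw [map_zero] at hy
  have hpf : p.f (-1) = 𝟙 _ ≫ (HomologicalComplex.singleObjXSelf (ComplexShape.up ℤ) (-1)
      (M.X (-1))).inv := HomologicalComplex.mkHomToSingle_f _ _
  rw [hpf, Category.id_comp] at hy
  have hinj : Function.Injective (HomologicalComplex.singleObjXSelf (ComplexShape.up ℤ) (-1)
      (M.X (-1))).inv.hom :=
    (ModuleCat.mono_iff_injective _).1 inferInstance
  rw [Submodule.mem_bot]
  exact hinj (by rw [← hy, map_zero])

end Groth.Agent.Lib.TwoTermRep
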