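import Groth.Statements.S0375
import Groth.Agent.Lib.DDetect
import Groth.Agent.Lib.TwoTermRepD2
import Groth.Agent.Lib.DerivedHomologyLinear
import Groth.Agent.Lib.InjHull
import Groth.Agent.Lib.InjDecomp
import Groth.Agent.Lib.H29Matlis
import Groth.Agent.S0302
import Mathlib.Algebra.Homology.DerivedCategory.SingleTriangle

/-!
# Dualizing complexes over Artinian local rings (helper29)

* `isZero_homology_zero`: if `P` is projective, `P ⟶ H^0(K)` is epi and `Hom_D(P[0], K) = 0`
  then `H^0(K) = 0`.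
* `subsingleton_hom_of_isFiniteLength`: devissage for `Hom_D(N[0], ω[i])`, `N` of finite length.
-/

set_option autoImplicit false
universe w v u
open CategoryTheory CategoryTheory.Limits Category DerivedCategory

namespace Groth.Agent.Lib.H29DualDimZero

section General

variable {C : Type u} [Category.{v} C] [Abelian C]

open DDetect in
lemma exists_single_epi' (N₀ : CochainComplex C ℤ) (n : ℤ) (P : C) [Projective P]
    (ψ : P ⟶ N₀.homology n) [Epi ψ] :
    ∃ (t₀ : sg n P ⟶ N₀), Epi (HomologicalComplex.homologyMap t₀ n) := by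
  let π : P ⟶ N₀.cycles n := Projective.factorThru ψ (N₀.homologyπ n)
  have hπ : π ≫ N₀.homologyπ n = ψ := Projective.factorThru_comp _ _
  let φ : P ⟶ N₀.X n := π ≫ N₀.iCycles n
  have hφ : ∀ k, (ComplexShape.up ℤ).Rel n k → φ ≫ N₀.d n k = 0 := by
    intro k _
    simp [φ]
  let t₀ : sg n P ⟶ N₀ := HomologicalComplex.mkHomFromSingle φ hφ
  refine ⟨t₀, ?_⟩
  have h1 : HomologicalComplex.cyclesMap t₀ n =
      (HomologicalComplex.singleObjCyclesSelfIso (ComplexShape.up ℤ) n P).hom ≫ π := by
    rw [← cancel_mono (N₀.iCycles n), HomologicalComplex.cyclesMap_i,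
      HomologicalComplex.singleObjCyclesSelfIso_hom, assoc, assoc]
    dsimp only [t₀]
    rw [HomologicalComplex.mkHomFromSingle_f]
  have h3 : (sg n P).homologyπ n ≫ HomologicalComplex.homologyMap t₀ n =
      HomologicalComplex.cyclesMap t₀ n ≫ N₀.homologyπ n :=
    HomologicalComplex.homologyπ_naturality t₀ n
  have h4 : Epi ((sg n P).homologyπ n ≫ HomologicalComplex.homologyMap t₀ n) := by
    rw [h3, h1, assoc, hπ]
    infer_instance
  exact epi_of_epi ((sg n P).homologyπ n) _

variable [HasDerivedCategory.{w} C]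

theorem isZero_homology_zero (K : DerivedCategory C) (P : C) [Projective P]
    (ψ : P ⟶ (homologyFunctor C 0).obj K) [Epi ψ]
    (h : Subsingleton ((singleFunctor C 0).obj P ⟶ K)) :
    IsZero ((homologyFunctor C 0).obj K) := by
  let N₀ := Q.objPreimage K
  let i : Q.obj N₀ ≅ K := Q.objObjPreimageIso K
  let θ : (homologyFunctor C 0).obj K ≅ N₀.homology 0 :=
    (homologyFunctor C 0).mapIso i.symm ≪≫ (homologyFunctorFactors C 0).app N₀
  obtain ⟨t₀, ht₀⟩ := exists_single_epi' N₀ 0 P (ψ ≫ θ.hom)
  have h1 : Epi ((homologyFunctor C 0).map (Q.map t₀)) := by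
    have := (homologyFunctorFactors C 0).hom.naturality t₀
    simp only [Functor.comp_map] at this
    change Epi ((HomologicalComplex.homologyFunctor C (ComplexShape.up ℤ) 0).map t₀) at ht₀
    have hepi : Epi ((homologyFunctor C 0).map (Q.map t₀) ≫
        (homologyFunctorFactors C 0).hom.app N₀) := by
      rw [this]
      exact epi_comp _ _
    have h2 : (homologyFunctor C 0).map (Q.map t₀) =
        ((homologyFunctor C 0).map (Q.map t₀) ≫ (homologyFunctorFactors C 0).hom.app N₀) ≫
          (homologyFunctorFactors C 0).inv.app N₀ := by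
      rw [assoc, Iso.hom_inv_id_app]
      exact (comp_id _).symm
    rw [h2]
    exact epi_comp _ _
  let u : (singleFunctor C 0).obj P ⟶ K := Q.map t₀ ≫ i.hom
  have hu : u = 0 := Subsingleton.elim _ _
  have h5 : Epi ((homologyFunctor C 0).map u) := by
    have : (homologyFunctor C 0).map u =
        (homologyFunctor C 0).map (Q.map t₀) ≫ (homologyFunctor C 0).map i.hom :=
      Functor.map_comp _ _ _
    rw [this]
    haveI : IsIso ((homologyFunctor C 0).map i.hom) := inferInstance
    exact @epi_comp _ _ _ _ _ _ h1 _ inferInstance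
  rw [hu, Functor.map_zero] at h5
  exact IsZero.of_epi_eq_zero (0 : (homologyFunctor C 0).obj ((singleFunctor C 0).obj P) ⟶
    (homologyFunctor C 0).obj K) rfl

end General

section Mod

attribute [local instance] HasDerivedCategory.standard

variable (A : Type u) [CommRing A]

lemma subsingleton_hom_of_equiv {M N : Type u} [AddCommGroup M] [Module A M] [AddCommGroup N]
    [Module A N] (e : M ≃ₗ[A] N) (K : Dual.D A)
    (h : Subsingleton (Dual.inD A N ⟶ K)) : Subsingleton (Dual.inD A M ⟶ K) := by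
  let α : Dual.inD A M ≅ Dual.inD A N :=
    (DerivedCategory.singleFunctor (ModuleCat.{u} A) 0).mapIso e.toModuleIso
  exact (Iso.homFromEquiv α).subsingleton

lemma subsingleton_hom_of_subsingleton (N : Type u) [AddCommGroup N] [Module A N]
    [Subsingleton N] (K : Dual.D A) : Subsingleton (Dual.inD A N ⟶ K) := by
  have h1 : IsZero (ModuleCat.of A N) := ModuleCat.isZero_of_subsingleton _
  have h2 : IsZero (Dual.inD A N) :=
    (DerivedCategory.singleFunctor (ModuleCat.{u} A) 0).map_isZero h1
  exact ⟨fun f g => h2.eq_of_src f g⟩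

/-- devissage for maps from finite length modules into a fixed object of `D(A)` -/
theorem subsingleton_hom_of_isFiniteLength [IsLocalRing A] (K : Dual.D A)
    (hκ : Subsingleton (Dual.inD A (IsLocalRing.ResidueField A) ⟶ K))
    (N : Type u) [AddCommGroup N] [Module A N] (hN : IsFiniteLength A N) :
    Subsingleton (Dual.inD A N ⟶ K) := by
  induction hN with
  | of_subsingleton => exact subsingleton_hom_of_subsingleton A _ K
  | @of_simple_quotient N _ _ N' hsimple hN' ih =>
    have hex : Function.Exact N'.subtype N'.mkQ := LinearMap.exact_subtype_mkQ N'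
    have hS := ModuleCat.shortComplex_shortExact
      (ModuleCat.shortComplexOfCompEqZero N'.subtype N'.mkQ hex.linearMap_comp_eq_zero) hex
      (Submodule.injective_subtype N') (Submodule.mkQ_surjective N')
    have hT := hS.singleTriangle_distinguished
    obtain ⟨I, hI, ⟨e⟩⟩ := isSimpleModule_iff_quot_maximal.mp hsimple
    have hIm : I = IsLocalRing.maximalIdeal A := IsLocalRing.eq_maximalIdeal hI
    subst hIm
    have h3 : Subsingleton (Dual.inD A (N ⧸ N') ⟶ K) :=
      subsingleton_hom_of_equiv A e K hκ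
    refine ⟨fun f g => ?_⟩
    have key : ∀ f : Dual.inD A N ⟶ K, f = 0 := by
      intro f
      have h1 : hS.singleTriangle.mor₁ ≫ f = 0 :=
        @Subsingleton.elim _ ih (hS.singleTriangle.mor₁ ≫ f) 0
      obtain ⟨g, hg⟩ := Pretriangulated.Triangle.yoneda_exact₂ _ hT f h1
      have hg0 : g = 0 := @Subsingleton.elim _ h3 g 0
      rw [hg, hg0]
      exact comp_zero
    rw [key f, key g]

/-- If `H^i(ω)` is a finite module and there are no nonzero maps `Aʳ[0] ⟶ ω[i]` then
`H^i(ω) = 0`. -/
theorem subsingleton_HD (ω : Dual.D A) (i : ℤ) [Module.Finite A (Dual.HD A ω i)]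
    (h : ∀ r : ℕ, Subsingleton (Dual.inD A (Fin r → A) ⟶ ω⟦i⟧)) :
    Subsingleton (Dual.HD A ω i) := by
  let σ : (homologyFunctor (ModuleCat.{u} A) 0).obj (ω⟦i⟧) ≅
      (homologyFunctor (ModuleCat.{u} A) i).obj ω :=
    ((homologyFunctor (ModuleCat.{u} A) 0).shiftIso i 0 i (add_zero i)).app ω
  obtain ⟨r, π, hπ⟩ := Module.Finite.exists_fin' A (Dual.HD A ω i)
  let ψ : ModuleCat.of A (Fin r → A) ⟶ (homologyFunctor (ModuleCat.{u} A) 0).obj (ω⟦i⟧) :=
    ModuleCat.ofHom π ≫ σ.inv
  haveI : Epi (ModuleCat.ofHom π) := (ModuleCat.epi_iff_surjective _).mpr hπ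
  haveI : Epi ψ := epi_comp _ _
  haveI : Projective (ModuleCat.of A (Fin r → A)) :=
    (IsProjective.iff_projective _).mp inferInstance
  have h1 := isZero_homology_zero (ω⟦i⟧) (ModuleCat.of A (Fin r → A)) ψ (h r)
  have h2 : IsZero ((homologyFunctor (ModuleCat.{u} A) i).obj ω) := h1.of_iso σ.symm
  exact ModuleCat.subsingleton_of_isZero h2

/-- Baer criterion through `Hom_D(A/I[0], W[1]) = 0`. -/
theorem injective_of_subsingleton_hom (W : Type u) [AddCommGroup W] [Module A W]
    (h : ∀ I : Ideal A, Subsingleton (Dual.inD A (A ⧸ I) ⟶ (Dual.inD A W)⟦(1 : ℤ)⟧)) :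
    Module.Injective A W := by
  letI : HasExt.{u + 1} (ModuleCat.{u} A) := HasExt.standard _
  apply Module.Baer.injective
  intro I g
  have hex : Function.Exact I.subtype I.mkQ := LinearMap.exact_subtype_mkQ I
  have hS := ModuleCat.shortComplex_shortExact
    (ModuleCat.shortComplexOfCompEqZero I.subtype I.mkQ hex.linearMap_comp_eq_zero) hex
    (Submodule.injective_subtype I) (Submodule.mkQ_surjective I)
  haveI hsub : Subsingleton (Abelian.Ext (ModuleCat.of A (A ⧸ I)) (ModuleCat.of A W) 1) := by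
    have := h I
    exact (Abelian.Ext.homEquiv (X := ModuleCat.of A (A ⧸ I)) (Y := ModuleCat.of A W)
      (n := 1)).subsingleton
  obtain ⟨x₂, hx₂⟩ := Abelian.Ext.contravariant_sequence_exact₁ hS (ModuleCat.of A W)
    (Abelian.Ext.mk₀ (ModuleCat.ofHom g)) rfl (@Subsingleton.elim _ hsub _ _)
  obtain ⟨γ, rfl⟩ := (Abelian.Ext.mk₀_bijective _ _).2 x₂
  rw [Abelian.Ext.mk₀_comp_mk₀] at hx₂
  have h4 := (Abelian.Ext.mk₀_bijective _ _).1 hx₂
  have h5 : γ.hom ∘ₗ I.subtype = g := congrArg ModuleCat.Hom.hom h4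
  refine ⟨γ.hom, fun x hx => ?_⟩
  exact LinearMap.congr_fun h5 ⟨x, hx⟩

section Main

variable [IsLocalRing A] [IsNoetherianRing A]

omit [IsNoetherianRing A] in
/-- an injective module over a local ring, containing a copy of the residue field, for which
every endomorphism is a homothety, is an injective hull of the residue field -/
theorem nonempty_equiv_of_end_homothety (W : Type u) [AddCommGroup W] [Module A W]
    (hW : Module.Injective A W) (j : IsLocalRing.ResidueField A →ₗ[A] W)
    (hj : Function.Injective j)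
    (hend : ∀ p : W →ₗ[A] W, ∃ a : A, ∀ w, p w = a • w)
    (E : Type u) [AddCommGroup E] [Module A E] (f : IsLocalRing.ResidueField A →ₗ[A] E)
    (hf : InjHull.IsInjectiveHull f) : Nonempty (W ≃ₗ[A] E) := by
  obtain ⟨K, C, hNK, hKC⟩ := Lib.InjHull.exists_essIn_isCompl hW (LinearMap.range j)
  let jK : IsLocalRing.ResidueField A →ₗ[A] K :=
    j.codRestrict K (fun x => hNK.1 ⟨x, rfl⟩)
  have hjK : InjHull.IsInjectiveHull jK := by
    refine ⟨⟨fun x y hxy => hj (congrArg Subtype.val hxy), ?_⟩,
      Lib.InjDecomp.injective_of_isCompl hW hKC⟩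
    rw [Lib.InjHull.ess_iff]
    intro x hx
    have hx' : (x : W) ≠ 0 := fun h => hx (Subtype.ext h)
    obtain ⟨r, hr0, ⟨y, hy⟩⟩ := hNK.2 x x.2 hx'
    refine ⟨r, fun h => hr0 (congrArg Subtype.val h), ⟨y, Subtype.ext ?_⟩⟩
    exact hy
  obtain ⟨e, -⟩ := Groth.Agent.S0302.result A (IsLocalRing.ResidueField A) K E jK hjK f hf
  let p : W →ₗ[A] W := K.subtype ∘ₗ (Submodule.projectionOnto K C hKC)
  obtain ⟨a, ha⟩ := hend p
  have hpK : ∀ k : K, p k = k := fun k => by
    show ((Submodule.projectionOnto K C hKC) (k : W) : W) = k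
    rw [Submodule.projectionOnto_apply_left]
  have hpC : ∀ c ∈ C, p c = 0 := fun c hc => by
    show ((Submodule.projectionOnto K C hKC) c : W) = 0
    rw [(Submodule.projectionOnto_apply_eq_zero_iff hKC).mpr hc]
    rfl
  have ha1 : a = 1 := by
    by_contra hne
    have hne' : a - 1 ≠ 0 := sub_ne_zero.mpr hne
    obtain ⟨φ, hφ⟩ := H29Matlis.exists_dual_ne_zero f hf (M := A) (a - 1) hne'
    apply hφ
    have h1 : φ (a - 1) = (a - 1) • φ 1 := by
      rw [← map_smul, smul_eq_mul, mul_one]
    have h2 : (a - 1) • (e.symm (φ 1) : W) = 0 := by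
      rw [sub_smul, one_smul, ← ha, hpK, sub_self]
    have h3 : (a - 1) • e.symm (φ 1) = 0 := Subtype.ext h2
    have h4 : e ((a - 1) • e.symm (φ 1)) = 0 := by rw [h3, map_zero]
    rw [map_smul, LinearEquiv.apply_symm_apply] at h4
    rw [h1, h4]
  have hC : C = ⊥ := by
    rw [Submodule.eq_bot_iff]
    intro c hc
    have := ha c
    rw [hpC c hc, ha1, one_smul] at this
    exact this.symm
  have hK : K = ⊤ := by
    have := hKC.sup_eq_top
    rwa [hC, sup_bot_eq] at this
  exact ⟨((LinearEquiv.ofTop K hK).symm).trans e⟩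

/-- Over an Artinian local ring a normalized dualizing complex is an injective hull of the residue
field placed in degree zero. -/
theorem iso_of_dim_zero (h0 : ringKrullDim A = 0) (ω : Dual.D A) (hω : Dual.IsDualizing A ω)
    (hn : Dual.IsNormalized A ω) (E : Type u) [AddCommGroup E] [Module A E]
    (f : IsLocalRing.ResidueField A →ₗ[A] E) (hf : InjHull.IsInjectiveHull f) :
    Nonempty (ω ≅ Dual.inD A E) := by
  haveI : Ring.KrullDimLE 0 A := by
    rw [Ring.krullDimLE_iff, h0]
    rfl
  haveI : IsArtinianRing A := isArtinianRing_iff_krullDimLE_zero.mpr inferInstance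
  have hfl : ∀ (N : Type u) [AddCommGroup N] [Module A N] [Module.Finite A N],
      IsFiniteLength A N := by
    intro N _ _ _
    rw [isFiniteLength_iff_isNoetherian_isArtinian]
    exact ⟨inferInstance, inferInstance⟩
  have hvan : ∀ (N : Type u) [AddCommGroup N] [Module A N] [Module.Finite A N] (i : ℤ),
      i ≠ 0 → Subsingleton (Dual.inD A N ⟶ ω⟦i⟧) := by
    intro N _ _ _ i hi
    exact subsingleton_hom_of_isFiniteLength A (ω⟦i⟧) (hn i hi) N (hfl N)
  have hH : ∀ i : ℤ, i ≠ 0 → Subsingleton (Dual.HD A ω i) := by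
    intro i hi
    haveI := hω.finite_cohomology i
    exact subsingleton_HD A ω i (fun r => hvan (Fin r → A) i hi)
  obtain ⟨W, ⟨e₀⟩, ⟨θ⟩⟩ := TwoTermRep.exists_single ω hH
  haveI : Module.Finite A W := by
    haveI := hω.finite_cohomology 0
    exact Module.Finite.equiv θ
  have hWinj : Module.Injective A W := by
    apply injective_of_subsingleton_hom
    intro I
    have h1 := hvan (A ⧸ I) 1 one_ne_zero
    exact (Iso.homToEquiv ((shiftFunctor (Dual.D A) (1 : ℤ)).mapIso e₀)).symm.subsingleton
  haveI : Nontrivial W := by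
    by_contra hnt
    rw [not_nontrivial_iff_subsingleton] at hnt
    have hz : IsZero ω := IsZero.of_iso
      ((DerivedCategory.singleFunctor (ModuleCat.{u} A) 0).map_isZero
        (ModuleCat.isZero_of_subsingleton W)) e₀
    have h1 : (1 : A) • 𝟙 ω = (0 : A) • 𝟙 ω := hz.eq_of_src _ _
    exact one_ne_zero (hω.toEnd_bijective.1 h1)
  haveI : IsArtinian A W := inferInstance
  obtain ⟨S₀, hS₀⟩ := IsAtomic.exists_atom (Submodule A W)
  haveI hsimp : IsSimpleModule A S₀ := isSimpleModule_iff_isAtom.mpr hS₀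
  obtain ⟨I, hI, ⟨eS⟩⟩ := isSimpleModule_iff_quot_maximal.mp hsimp
  have hIm : I = IsLocalRing.maximalIdeal A := IsLocalRing.eq_maximalIdeal hI
  subst hIm
  let j : IsLocalRing.ResidueField A →ₗ[A] W := S₀.subtype ∘ₗ eS.symm.toLinearMap
  have hj : Function.Injective j := (Submodule.injective_subtype S₀).comp eS.symm.injective
  have hend : ∀ p : W →ₗ[A] W, ∃ a : A, ∀ w, p w = a • w := by
    intro p
    let φ : ω ⟶ ω := e₀.hom ≫ (DerivedCategory.singleFunctor (ModuleCat.{u} A) 0).map
      (ModuleCat.ofHom p) ≫ e₀.inv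
    obtain ⟨a, ha⟩ := hω.toEnd_bijective.2 φ
    have ha' : a • 𝟙 ω = φ := ha
    refine ⟨a, ?_⟩
    let ν := (DerivedCategory.singleFunctorCompHomologyFunctorIso (ModuleCat.{u} A) 0)
    let Θ : (homologyFunctor (ModuleCat.{u} A) 0).obj ω ≅ W :=
      (homologyFunctor (ModuleCat.{u} A) 0).mapIso e₀ ≪≫ ν.app W
    have hΘ : (homologyFunctor (ModuleCat.{u} A) 0).map φ ≫ Θ.hom =
        Θ.hom ≫ ModuleCat.ofHom p := by
      have hnat := ν.hom.naturality (ModuleCat.ofHom p)
      simp only [Functor.comp_map, Functor.id_map] at hnat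
      dsimp only [Θ, φ, Iso.trans_hom, Functor.mapIso_hom, Iso.app_hom]
      simp only [Functor.map_comp, assoc]
      rw [Iso.map_inv_hom_id_assoc]
      congr 1
    intro w
    have hw : Θ.hom (Θ.inv w) = w := by
      rw [← ModuleCat.comp_apply, Iso.inv_hom_id]
      rfl
    have h1 : Θ.hom (((homologyFunctor (ModuleCat.{u} A) 0).map φ) (Θ.inv w)) =
        p (Θ.hom (Θ.inv w)) := by
      have := congrArg (fun g => g.hom (Θ.inv w)) hΘ
      exact this
    rw [hw] at h1
    rw [← h1, ← ha']
    have h2 := DerivedHomologyLinear.homologyFunctor_map_smul_id_apply A a ω 0 (Θ.inv w)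
    rw [show ((homologyFunctor (ModuleCat.{u} A) 0).map (a • 𝟙 ω)) (Θ.inv w) = a • (Θ.inv w)
      from h2, map_smul, hw]
  obtain ⟨eW⟩ := nonempty_equiv_of_end_homothety A W hWinj j hj hend E f hf
  exact ⟨e₀ ≪≫ (DerivedCategory.singleFunctor (ModuleCat.{u} A) 0).mapIso eW.toModuleIso⟩

end Main

end Mod

end Groth.Agent.Lib.H29DualDimZero
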