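import Groth.Agent.Lib.H29ResField
import Groth.Agent.Lib.H29DualDimZero
import Groth.Agent.Lib.DepthRees
import Groth.Agent.Lib.SerreSk
import Mathlib.Algebra.Homology.DerivedCategory.SingleTriangle
import Mathlib.RingTheory.Ideal.AssociatedPrime.Finiteness

/-!
# Normalized dualizing complexes over local rings (helper29)

`ω` a normalized dualizing complex over a Noetherian local ring `A`; `T i M = Hom_D(M[0], ω[i])`.
* `exists_model`: bounded injective model of a dualizing complex; `finite_T`.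
* long exact sequence lemmas for `Hom(-, W[i])` on distinguished triangles.
* `subsingleton_T_pos`: `T i M = 0` for `i > 0` and all finite `M`.
* `depth_iff`: `depth M = n ↔ (∀ δ < n, T (-δ) M = 0) ∧ T (-n) M ≠ 0`.
-/

set_option autoImplicit false
universe u
open CategoryTheory CategoryTheory.Limits Category Pretriangulated DerivedCategory
  DerivedCategory.TStructure
open scoped Pointwise

namespace Groth.Agent.Lib.H29DualLocal

attribute [local instance] HasDerivedCategory.standard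

open Groth.Agent.Lib.H29Bidual

section Tri

variable {C : Type*} [Category C] [Preadditive C] [HasZeroObject C] [HasShift C ℤ]
  [∀ n : ℤ, (shiftFunctor C n).Additive] [Pretriangulated C]
  (T : Triangle C) (hT : T ∈ distTriang C) (W : C)

include hT

lemma subsingleton_hom₂ (h1 : Subsingleton (T.obj₁ ⟶ W)) (h3 : Subsingleton (T.obj₃ ⟶ W)) :
    Subsingleton (T.obj₂ ⟶ W) := by
  refine ⟨fun φ φ' => ?_⟩
  suffices H : ∀ φ : T.obj₂ ⟶ W, φ = 0 by rw [H φ, H φ']
  intro φ
  obtain ⟨ψ, hψ⟩ := Triangle.yoneda_exact₂ _ hT φ (Subsingleton.elim _ _)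
  rw [hψ, Subsingleton.elim ψ 0, comp_zero]

lemma exists_of_subsingleton₃ (i k : ℤ) (hk : i + 1 = k) (h3 : Subsingleton (T.obj₃ ⟶ W⟦k⟧))
    (φ : T.obj₁ ⟶ W⟦i⟧) : ∃ ψ : T.obj₂ ⟶ W⟦i⟧, φ = T.mor₁ ≫ ψ := by
  apply yoneda_exact₁ _ hT
  rw [← cancel_mono ((shiftFunctorAdd' C i 1 k hk).inv.app W), zero_comp]
  exact Subsingleton.elim _ _

lemma eq_zero_of_subsingleton₁ (i k : ℤ) (hk : i + 1 = k) (h1 : Subsingleton (T.obj₁ ⟶ W⟦i⟧))
    (ψ : T.obj₃ ⟶ W⟦k⟧) (h : T.mor₂ ≫ ψ = 0) : ψ = 0 := by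
  obtain ⟨φ, hφ⟩ := yoneda_exact₃' _ hT i k hk ψ h
  rw [hφ, Subsingleton.elim φ 0, Functor.map_zero, comp_zero, zero_comp]

lemma exists_bdry (i k : ℤ) (hk : i + 1 = k) (h2 : Subsingleton (T.obj₂ ⟶ W⟦k⟧))
    (ψ : T.obj₃ ⟶ W⟦k⟧) :
    ∃ φ : T.obj₁ ⟶ W⟦i⟧, ψ = (T.mor₃ ≫ φ⟦(1 : ℤ)⟧') ≫ (shiftFunctorAdd' C i 1 k hk).inv.app W :=
  yoneda_exact₃' _ hT i k hk ψ (Subsingleton.elim _ _)

end Tri

variable (A : Type u) [CommRing A]

/-- bounded injective model of a dualizing complex -/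
lemma exists_model (ω : Dual.D A) (hω : Dual.IsDualizing A ω) :
    ∃ (a b : ℤ) (J : CochainComplex (ModuleCat.{u} A) ℤ), J.IsStrictlyGE a ∧ J.IsStrictlyLE b ∧
      (∀ i, Injective (J.X i)) ∧ Nonempty (Q.obj J ≅ ω) := by
  obtain ⟨a, b, hab⟩ := hω.finite_injective_dimension
  obtain ⟨J, hJa, hJb, hJinj, he⟩ :=
    Groth.Agent.Lib.DInjGE.exists_injective_amplitude ω a b (by
      intro Y i hi φ
      haveI := hab Y i hi
      exact Subsingleton.elim _ _)
  exact ⟨a, b, J, hJa, hJb, hJinj, he⟩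

lemma exists_bounds (ω : Dual.D A) (hω : Dual.IsDualizing A ω) :
    ∃ a b : ℤ, ω.IsGE a ∧ ω.IsLE b := by
  obtain ⟨a, b, J, hJa, hJb, _, ⟨e⟩⟩ := exists_model A ω hω
  haveI := hJa
  haveI := hJb
  haveI : (Q.obj J).IsGE a := (isGE_Q_obj_iff _ _).mpr inferInstance
  haveI : (Q.obj J).IsLE b := (isLE_Q_obj_iff _ _).mpr inferInstance
  exact ⟨a, b, t.isGE_of_iso e a, t.isLE_of_iso e b⟩

/-- finiteness of `Hom_D(M[0], ω[i])` -/
lemma finite_T [IsNoetherianRing A] (ω : Dual.D A) (hω : Dual.IsDualizing A ω) (M : Type u)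
    [AddCommGroup M] [Module A M] [Module.Finite A M] (i : ℤ) :
    Module.Finite A (Dual.inD A M ⟶ ω⟦i⟧) := by
  obtain ⟨a, b, ha, hb⟩ := exists_bounds A ω hω
  exact Groth.Agent.Lib.H29FinHomD.finHom_single_left M 0 ω a b hω.finite_cohomology i

/-- Nakayama: a finite module over a local ring all of whose elements are divisible by an element
of the maximal ideal is zero -/
lemma subsingleton_of_forall_exists_smul [IsLocalRing A] (N : Type*) [AddCommGroup N] [Module A N]
    [Module.Finite A N] (x : A) (hx : x ∈ IsLocalRing.maximalIdeal A)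
    (h : ∀ n : N, ∃ n' : N, n = x • n') : Subsingleton N := by
  have hle : (⊤ : Submodule A N) ≤ IsLocalRing.maximalIdeal A • (⊤ : Submodule A N) := by
    intro n _
    obtain ⟨n', rfl⟩ := h n
    exact Submodule.smul_mem_smul hx trivial
  have := Submodule.eq_bot_of_le_smul_of_le_jacobson_bot (IsLocalRing.maximalIdeal A)
    (⊤ : Submodule A N) Module.Finite.fg_top hle
    (IsLocalRing.jacobson_eq_maximalIdeal _ bot_ne_top).ge
  exact (Submodule.subsingleton_iff A).mp (subsingleton_of_bot_eq_top this.symm)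

/-- the short complex `M --x--> M --> M/xM` -/
noncomputable def mulSC (M : Type u) [AddCommGroup M] [Module A M] (x : A) :
    ShortComplex (ModuleCat.{u} A) :=
  ShortComplex.mk (ModuleCat.ofHom (x • (LinearMap.id : M →ₗ[A] M)))
    (ModuleCat.ofHom (Submodule.mkQ (x • (⊤ : Submodule A M)))) (by
      ext m
      simp only [ModuleCat.hom_comp, ModuleCat.hom_ofHom, LinearMap.coe_comp, Function.comp_apply,
        LinearMap.smul_apply, LinearMap.id_coe, id_eq, Submodule.mkQ_apply, ModuleCat.hom_zero,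
        LinearMap.zero_apply, Submodule.Quotient.mk_eq_zero]
      exact Submodule.smul_mem_pointwise_smul m x ⊤ trivial)

lemma mulSC_shortExact (M : Type u) [AddCommGroup M] [Module A M] (x : A)
    (hx : IsSMulRegular M x) : (mulSC A M x).ShortExact := by
  refine ShortComplex.ShortExact.mk' ?_ ?_ ?_
  · rw [ShortComplex.moduleCat_exact_iff]
    intro m hm
    replace hm : Submodule.mkQ (x • (⊤ : Submodule A M)) m = 0 := hm
    rw [Submodule.mkQ_apply, Submodule.Quotient.mk_eq_zero] at hm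
    obtain ⟨m', _, rfl⟩ := hm
    exact ⟨m', rfl⟩
  · rw [ModuleCat.mono_iff_injective]
    exact hx
  · rw [ModuleCat.epi_iff_surjective]
    exact Submodule.mkQ_surjective _

lemma singleFunctor_map_smul_id (M : Type u) [AddCommGroup M] [Module A M] (x : A) :
    (singleFunctor (ModuleCat.{u} A) 0).map
        (ModuleCat.ofHom (x • (LinearMap.id : M →ₗ[A] M))) = x • 𝟙 (Dual.inD A M) := by
  have : ModuleCat.ofHom (x • (LinearMap.id : M →ₗ[A] M)) = x • 𝟙 (ModuleCat.of A M) := rfl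
  rw [this, Functor.map_smul, CategoryTheory.Functor.map_id]

/-- if `T (i+1) (M/xM) = 0` then every element of `T i M` is divisible by `x` -/
lemma exists_smul_T (ω : Dual.D A) (M : Type u) [AddCommGroup M] [Module A M] (x : A)
    (hx : IsSMulRegular M x) (i k : ℤ) (hk : i + 1 = k)
    (h : Subsingleton (Dual.inD A (QuotSMulTop x M) ⟶ ω⟦k⟧)) (φ : Dual.inD A M ⟶ ω⟦i⟧) :
    ∃ ψ : Dual.inD A M ⟶ ω⟦i⟧, φ = x • ψ := by
  obtain ⟨ψ, hψ⟩ := exists_of_subsingleton₃ _
    (mulSC_shortExact A M x hx).singleTriangle_distinguished ω i k hk h φ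
  refine ⟨ψ, ?_⟩
  rw [hψ]
  show (singleFunctor (ModuleCat.{u} A) 0).map
    (ModuleCat.ofHom (x • (LinearMap.id : M →ₗ[A] M))) ≫ ψ = _
  rw [singleFunctor_map_smul_id, Linear.smul_comp, id_comp]

section Normalized

open Groth.Agent.Lib.H29DualDimZero

variable [IsLocalRing A] [IsNoetherianRing A] (ω : Dual.D A) (hω : Dual.IsDualizing A ω)
  (hn : Dual.IsNormalized A ω)

include hω hn

theorem subsingleton_T_pos_aux : ∀ (I : Ideal A) (N : Type u) [AddCommGroup N] [Module A N]
    [Module.Finite A N], (∀ a ∈ I, ∀ n : N, a • n = 0) → ∀ i : ℤ, 0 < i →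
      Subsingleton (Dual.inD A N ⟶ ω⟦i⟧) := by
  intro I
  induction I using IsNoetherian.induction with
  | hgt I IH =>
  intro N _ _ hfin hN i hi
  refine IsNoetherianRing.induction_on_isQuotientEquivQuotientPrime A
    (motive := fun N' _ _ _ => (∀ a ∈ I, ∀ n : N', a • n = 0) → ∀ i : ℤ, 0 < i →
      Subsingleton (Dual.inD A N' ⟶ ω⟦i⟧)) hfin ?_ ?_ ?_ hN i hi
  · intro N' _ _ _ _ _ i _
    exact subsingleton_hom_of_subsingleton A N' _
  · intro N' _ _ _ q e hkill i hi
    refine subsingleton_hom_of_equiv A e _ ?_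
    have hIq : I ≤ q.asIdeal := by
      intro a ha
      have h1 := hkill a ha (e.symm 1)
      have h2 : a • (1 : A ⧸ q.asIdeal) = 0 := by
        have := congrArg e h1
        rwa [map_smul, e.apply_symm_apply, map_zero] at this
      rw [← Ideal.Quotient.eq_zero_iff_mem]
      rw [Algebra.smul_def, mul_one] at h2
      exact h2
    by_cases hqm : q.asIdeal = IsLocalRing.maximalIdeal A
    · have h0 : Subsingleton (Dual.inD A (A ⧸ IsLocalRing.maximalIdeal A) ⟶ ω⟦i⟧) :=
        hn i (ne_of_gt hi)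
      exact subsingleton_hom_of_equiv A (Submodule.quotEquivOfEq _ _ hqm) _ h0
    · have hlt : q.asIdeal < IsLocalRing.maximalIdeal A :=
        lt_of_le_of_ne (IsLocalRing.le_maximalIdeal q.2.ne_top) hqm
      obtain ⟨x, hxm, hxq⟩ := SetLike.exists_of_lt hlt
      have hreg : IsSMulRegular (A ⧸ q.asIdeal) x := by
        intro y y' hyy
        replace hyy : x • y = x • y' := hyy
        rw [Algebra.smul_def, Algebra.smul_def] at hyy
        refine mul_left_cancel₀ ?_ hyy
        intro h0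
        exact hxq (Ideal.Quotient.eq_zero_iff_mem.mp h0)
      have hI' : I < q.asIdeal ⊔ Ideal.span {x} := by
        refine lt_of_le_of_lt hIq (lt_of_le_of_ne le_sup_left ?_)
        intro h
        apply hxq
        rw [h]
        exact Ideal.mem_sup_right (Ideal.subset_span rfl)
      have hkill' : ∀ a ∈ q.asIdeal ⊔ Ideal.span {x},
          ∀ n : QuotSMulTop x (A ⧸ q.asIdeal), a • n = 0 := by
        intro a ha n
        obtain ⟨y, rfl⟩ := Submodule.Quotient.mk_surjective _ n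
        obtain ⟨b, hb, c, hc, rfl⟩ := Submodule.mem_sup.mp ha
        obtain ⟨c', rfl⟩ := Ideal.mem_span_singleton'.mp hc
        rw [← Submodule.Quotient.mk_smul, Submodule.Quotient.mk_eq_zero, add_smul]
        have hb0 : b • y = 0 := by
          rw [Algebra.smul_def, Ideal.Quotient.algebraMap_eq,
            Ideal.Quotient.eq_zero_iff_mem.mpr hb, zero_mul]
        rw [hb0, zero_add, mul_comm, mul_smul]
        exact Submodule.smul_mem_pointwise_smul _ x ⊤ trivial
      have h1 := IH _ hI' (QuotSMulTop x (A ⧸ q.asIdeal)) hkill' (i + 1) (by omega)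
      haveI := finite_T A ω hω (A ⧸ q.asIdeal) i
      exact subsingleton_of_forall_exists_smul A _ x hxm
        (exists_smul_T A ω (A ⧸ q.asIdeal) x hreg i (i + 1) rfl h1)
  · intro N₁ _ _ _ N₂ _ _ _ N₃ _ _ _ f g hf hg hfg h1 h3 hkill i hi
    have hk1 : ∀ a ∈ I, ∀ n : N₁, a • n = 0 := by
      intro a ha n
      apply hf
      rw [map_smul, hkill a ha, map_zero]
    have hk3 : ∀ a ∈ I, ∀ n : N₃, a • n = 0 := by
      intro a ha n
      obtain ⟨n, rfl⟩ := hg n
      rw [← map_smul, hkill a ha, map_zero]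
    have hS := ModuleCat.shortComplex_shortExact
      (ModuleCat.shortComplexOfCompEqZero f g hfg.linearMap_comp_eq_zero) hfg hf hg
    exact subsingleton_hom₂ _ hS.singleTriangle_distinguished _ (h1 hk1 i hi) (h3 hk3 i hi)

/-- `Hom_D(M[0], ω[i]) = 0` for `i > 0`, `ω` normalized dualizing, `M` finite -/
theorem subsingleton_T_pos (N : Type u) [AddCommGroup N] [Module A N] [Module.Finite A N]
    (i : ℤ) (hi : 0 < i) : Subsingleton (Dual.inD A N ⟶ ω⟦i⟧) :=
  subsingleton_T_pos_aux A ω hω hn ⊥ N (by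
    intro a ha n
    rw [(Submodule.mem_bot A).mp ha, zero_smul]) i hi

/-- `Hom_D(κ[0], ω[0]) ≃ κ` for a normalized dualizing complex -/
theorem nonempty_T_residue_equiv :
    Nonempty ((Dual.inD A (IsLocalRing.ResidueField A) ⟶ ω⟦(0 : ℤ)⟧) ≃ₗ[A]
      (IsLocalRing.ResidueField A)) := by
  obtain ⟨n, _, ⟨e⟩⟩ :=
    Groth.Agent.Lib.H29ResField.exists_unique_degree A ω hω (IsLocalRing.maximalIdeal A)
  by_cases h0 : n = 0
  · subst h0
    exact ⟨e⟩
  · exfalso
    haveI : Subsingleton (Dual.inD A (A ⧸ IsLocalRing.maximalIdeal A) ⟶ ω⟦n⟧) := hn n h0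
    haveI : Subsingleton (A ⧸ IsLocalRing.maximalIdeal A) := e.symm.toEquiv.subsingleton
    haveI : Nontrivial (A ⧸ IsLocalRing.maximalIdeal A) :=
      Ideal.Quotient.nontrivial_iff.mpr (IsLocalRing.maximalIdeal.isMaximal A).ne_top
    exact false_of_nontrivial_of_subsingleton (A ⧸ IsLocalRing.maximalIdeal A)

theorem nontrivial_T_residue :
    Nontrivial (Dual.inD A (IsLocalRing.ResidueField A) ⟶ ω⟦(0 : ℤ)⟧) := by
  obtain ⟨e⟩ := nonempty_T_residue_equiv A ω hω hn
  exact e.toEquiv.nontrivial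

theorem depth_imp : ∀ (n : ℕ) (M : Type u) [AddCommGroup M] [Module A M] [Module.Finite A M]
    [Nontrivial M], LocCoh.depth A M = n →
      (∀ δ : ℕ, δ < n → Subsingleton (Dual.inD A M ⟶ ω⟦(-(δ : ℤ))⟧)) ∧
        Nontrivial (Dual.inD A M ⟶ ω⟦(-(n : ℤ))⟧) := by
  intro n
  induction n with
  | zero =>
    intro M _ _ _ _ hd
    refine ⟨fun δ hδ => absurd hδ (Nat.not_lt_zero δ), ?_⟩
    have hass : IsLocalRing.maximalIdeal A ∈ associatedPrimes A M := by
      rw [Groth.Agent.Lib.SerreSk.maximalIdeal_mem_associatedPrimes_iff, hd]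
      simp
    obtain ⟨_, f, hf⟩ := (isAssociatedPrime_iff_exists_injective_linearMap _ _).mp hass
    have hex : Function.Exact f (LinearMap.range f).mkQ := LinearMap.exact_map_mkQ_range f
    have hS := ModuleCat.shortComplex_shortExact
      (ModuleCat.shortComplexOfCompEqZero f (LinearMap.range f).mkQ hex.linearMap_comp_eq_zero)
      hex hf (Submodule.mkQ_surjective _)
    have h1 : Subsingleton (Dual.inD A (M ⧸ LinearMap.range f) ⟶ ω⟦(1 : ℤ)⟧) :=
      subsingleton_T_pos A ω hω hn _ 1 one_pos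
    have hz : (-((0 : ℕ) : ℤ)) = 0 := by simp
    rw [hz]
    by_contra hnt
    rw [not_nontrivial_iff_subsingleton] at hnt
    haveI := nontrivial_T_residue A ω hω hn
    obtain ⟨φ, hφ⟩ := exists_ne (0 : Dual.inD A (IsLocalRing.ResidueField A) ⟶ ω⟦(0 : ℤ)⟧)
    obtain ⟨ψ, hψ⟩ := exists_of_subsingleton₃ _ hS.singleTriangle_distinguished ω 0 1 rfl h1 φ
    apply hφ
    have hψ0 : ψ = 0 := @Subsingleton.elim _ hnt ψ 0
    rw [hψ, hψ0]
    exact comp_zero
  | succ n ih =>
    intro M _ _ _ _ hd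
    have h1le : ((1 : ℕ) : ℕ∞) ≤ LocCoh.depth A M := by
      rw [hd]
      exact_mod_cast Nat.le_add_left 1 n
    obtain ⟨rs, hlen, hmem, hreg⟩ :=
      (Groth.Agent.Lib.DepthRees.natCast_le_depth_iff M 1).mp h1le
    obtain ⟨x, rfl⟩ := List.length_eq_one_iff.mp hlen
    rw [RingTheory.Sequence.isWeaklyRegular_singleton_iff] at hreg
    have hxm : x ∈ IsLocalRing.maximalIdeal A := hmem x (List.mem_singleton.mpr rfl)
    have hdq := Groth.Agent.Lib.DepthRees.depth_quotSMulTop_add_one M hxm hreg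
    rw [hd] at hdq
    have hdq' : LocCoh.depth A (QuotSMulTop x M) = n := by
      have hne : LocCoh.depth A (QuotSMulTop x M) ≠ ⊤ := by
        intro h
        rw [h, top_add] at hdq
        exact ENat.top_ne_natCast _ hdq
      obtain ⟨k, hk⟩ := ENat.ne_top_iff_exists.mp hne
      rw [← hk] at hdq ⊢
      have : k + 1 = n + 1 := by exact_mod_cast hdq
      have : k = n := by omega
      rw [this]
    haveI : Nontrivial (QuotSMulTop x M) := by
      apply Submodule.Quotient.nontrivial_iff.mpr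
      intro h
      apply Groth.Agent.Lib.DepthRees.maximalIdeal_smul_top_ne_top (R := A) M
      have hle : x • (⊤ : Submodule A M) ≤ IsLocalRing.maximalIdeal A • (⊤ : Submodule A M) := by
        rintro _ ⟨m, _, rfl⟩
        exact Submodule.smul_mem_smul hxm trivial
      exact top_le_iff.mp (le_trans (le_of_eq h.symm) hle)
    obtain ⟨ih1, ih2⟩ := ih (QuotSMulTop x M) hdq'
    have part1 : ∀ δ : ℕ, δ < n + 1 → Subsingleton (Dual.inD A M ⟶ ω⟦(-(δ : ℤ))⟧) := by
      intro δ hδ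
      have hk : Subsingleton (Dual.inD A (QuotSMulTop x M) ⟶ ω⟦(-(δ : ℤ) + 1)⟧) := by
        rcases Nat.eq_zero_or_pos δ with h0 | hpos
        · subst h0
          exact subsingleton_T_pos A ω hω hn _ _ (by simp)
        · have : (-(δ : ℤ) + 1) = -((δ - 1 : ℕ) : ℤ) := by
            rw [Nat.cast_sub hpos]
            push_cast
            ring
          rw [this]
          exact ih1 (δ - 1) (by omega)
      haveI := finite_T A ω hω M (-(δ : ℤ))
      exact subsingleton_of_forall_exists_smul A _ x hxm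
        (exists_smul_T A ω M x hreg (-(δ : ℤ)) (-(δ : ℤ) + 1) rfl hk)
    refine ⟨part1, ?_⟩
    by_contra hnt
    rw [not_nontrivial_iff_subsingleton] at hnt
    have h2 : Subsingleton (Dual.inD A M ⟶ ω⟦(-(n : ℤ))⟧) := part1 n (Nat.lt_succ_self n)
    haveI := ih2
    obtain ⟨ψ, hψ⟩ := exists_ne (0 : Dual.inD A (QuotSMulTop x M) ⟶ ω⟦(-(n : ℤ))⟧)
    obtain ⟨φ, hφ⟩ := exists_bdry _ (mulSC_shortExact A M x hreg).singleTriangle_distinguished ω
      (-((n + 1 : ℕ) : ℤ)) (-(n : ℤ)) (by push_cast; ring) h2 ψ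
    apply hψ
    have hφ0 : φ = 0 := @Subsingleton.elim _ hnt φ 0
    rw [hφ, hφ0]
    simp
    rfl

/-- **Depth via a normalized dualizing complex.** -/
theorem depth_iff (M : Type u) [AddCommGroup M] [Module A M] [Module.Finite A M] [Nontrivial M]
    (n : ℕ) : LocCoh.depth A M = n ↔
      ((∀ δ : ℕ, δ < n → Subsingleton (Dual.inD A M ⟶ ω⟦(-(δ : ℤ))⟧)) ∧
        Nontrivial (Dual.inD A M ⟶ ω⟦(-(n : ℤ))⟧)) := by
  refine ⟨depth_imp A ω hω hn n M, fun ⟨h1, h2⟩ => ?_⟩
  obtain ⟨n₀, hn₀⟩ := ENat.ne_top_iff_exists.mp (Groth.Agent.Lib.DepthRees.depth_ne_top (R := A) M)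
  obtain ⟨g1, g2⟩ := depth_imp A ω hω hn n₀ M hn₀.symm
  rcases lt_trichotomy n n₀ with h | h | h
  · haveI := g1 n h
    exact absurd h2 (not_nontrivial _)
  · rw [← hn₀, h]
  · haveI := h1 n₀ h
    exact absurd g2 (not_nontrivial _)

end Normalized

end Groth.Agent.Lib.H29DualLocal
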