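import Groth.Agent.Lib.FlatHomBC25
import Groth.Agent.Lib.H29DualLocal
import Groth.Agent.Lib.H29DualIso
import Groth.Agent.Lib.DRingPCoh21D
import Groth.Agent.Lib.FinFreeResD
import Groth.Agent.S6965
import Groth.Prelude.Def_DDual2
import Mathlib.RingTheory.Finiteness.Descent
import Mathlib.CategoryTheory.Functor.Derived.PointwiseLeftDerived

/-!
# Faithfully flat descent of dualizing complexes (helper25)

* `lbaseFlatIso A B : DRing.LBaseChange (algebraMap A B) ≅ FD A B` for flat `A → B` (an exact functor
  is its own derived functor).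
* `hdEquiv : H^i(FD K) ≃ B ⊗ H^i(K)`; `finite_HD`, `isZero_HD`, `isGE_of_FD`, `isLE_of_FD`
  (faithfully flat descent of cohomological properties).
* `subsingleton_hom_of_FD`: `Hom(X, T) = 0` if `Hom(FD X, FD T) = 0` (X pseudo-coherent, T bounded
  below, `B` faithfully flat).
* `isDualizing_of_FD`: `FD K` dualizing over `B` ⇒ `K` dualizing over `A`.
-/

set_option autoImplicit false
set_option linter.style.haveILetI false
universe u
open CategoryTheory Category Limits Pretriangulated DerivedCategory TensorProduct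
attribute [local instance] HasDerivedCategory.standard

namespace Groth.Agent.Lib.DualFFDescent25

open Groth.Agent.Lib.FlatBaseChangeD (F FD objEquiv inDIso mapDerivedCategoryHomologyIso)
open Groth.Agent.Lib.FlatHomBC25

variable {A B : Type u} [CommRing A] [CommRing B] [Algebra A B]

section Flat

variable [Module.Flat A B]

variable (A B) in
/-- `Qh ⋙ FD ≅ baseChangeKh` -/
noncomputable def facIso : Qh ⋙ FD A B ≅ DRing.baseChangeKh (algebraMap A B) :=
  (F A B).mapDerivedCategoryFactorsh

instance : (FD A B).IsLeftDerivedFunctor (facIso A B).hom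
    (HomotopyCategory.quasiIso (ModuleCat.{u} A) (ComplexShape.up ℤ)) :=
  Functor.isLeftDerivedFunctor_of_inverts _ _ _

variable (A B) in
/-- **Derived base change along a flat ring map is the exact base change functor.** -/
noncomputable def lbaseFlatIso [DRing.HasLBaseChange (algebraMap A B)] :
    DRing.LBaseChange (algebraMap A B) ≅ FD A B :=
  Functor.leftDerivedUnique _ _
    ((DRing.baseChangeKh (algebraMap A B)).totalLeftDerivedCounit Qh
      (HomotopyCategory.quasiIso (ModuleCat.{u} A) (ComplexShape.up ℤ)))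
    (facIso A B).hom (HomotopyCategory.quasiIso (ModuleCat.{u} A) (ComplexShape.up ℤ))

/-- `H^i(FD K) ≃ B ⊗ H^i(K)` -/
noncomputable def hdEquiv (K : Dual.D A) (i : ℤ) :
    Dual.HD B ((FD A B).obj K) i ≃ₗ[B] B ⊗[A] Dual.HD A K i :=
  ((mapDerivedCategoryHomologyIso (F A B) i).app K).toLinearEquiv ≪≫ₗ objEquiv _

end Flat

section FF

variable [Module.FaithfullyFlat A B]

lemma finite_HD (K : Dual.D A) (i : ℤ)
    (h : Module.Finite B (Dual.HD B ((FD A B).obj K) i)) :
    Module.Finite A (Dual.HD A K i) := by
  haveI : Module.Finite B (B ⊗[A] Dual.HD A K i) := Module.Finite.equiv (hdEquiv K i)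
  exact Module.Finite.of_finite_tensorProduct_of_faithfullyFlat B

lemma isZero_HD (K : Dual.D A) (i : ℤ)
    (h : IsZero ((homologyFunctor (ModuleCat.{u} B) i).obj ((FD A B).obj K))) :
    IsZero ((homologyFunctor (ModuleCat.{u} A) i).obj K) := by
  haveI : Subsingleton (Dual.HD B ((FD A B).obj K) i) := ModuleCat.subsingleton_of_isZero h
  haveI : Subsingleton (B ⊗[A] Dual.HD A K i) := (hdEquiv K i).symm.toEquiv.subsingleton
  haveI : Subsingleton (Dual.HD A K i) :=
    Module.FaithfullyFlat.lTensor_reflects_triviality A B _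
  exact ModuleCat.isZero_of_subsingleton _

lemma isGE_of_FD (K : Dual.D A) (a : ℤ) [((FD A B).obj K).IsGE a] : K.IsGE a := by
  rw [isGE_iff]
  intro i hi
  exact isZero_HD (B := B) K i (isZero_of_isGE _ a i hi)

lemma isLE_of_FD (K : Dual.D A) (b : ℤ) [((FD A B).obj K).IsLE b] : K.IsLE b := by
  rw [isLE_iff]
  intro i hi
  exact isZero_HD (B := B) K i (isZero_of_isLE _ b i hi)

/-- Faithfully flat descent of vanishing of `Hom` in the derived category. -/
theorem subsingleton_hom_of_FD (X T : Dual.D A) (hX : DRing.IsPseudoCoherent' A X) (a : ℤ)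
    [T.IsGE a] (h : Subsingleton ((FD A B).obj X ⟶ (FD A B).obj T)) : Subsingleton (X ⟶ T) := by
  have hb := bijective_β_of_isPseudoCoherent (B := B) T X hX a
  haveI : Subsingleton (B ⊗[A] (X ⟶ T)) := hb.1.subsingleton
  exact Module.FaithfullyFlat.lTensor_reflects_triviality A B _

/-- **Faithfully flat descent of dualizing complexes.** -/
theorem isDualizing_of_FD [IsNoetherianRing A] [IsNoetherianRing B] (K : Dual.D A)
    (hK : Dual.IsDualizing B ((FD A B).obj K)) : Dual.IsDualizing A K := by
  obtain ⟨a, b, ha, hb⟩ := Groth.Agent.Lib.H29DualLocal.exists_bounds B _ hK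
  haveI := ha
  haveI := hb
  haveI : K.IsGE a := isGE_of_FD (B := B) K a
  haveI : K.IsLE b := isLE_of_FD (B := B) K b
  have hfin : ∀ i, Module.Finite A (Dual.HD A K i) :=
    fun i => finite_HD (B := B) K i (hK.finite_cohomology i)
  have hpc : DRing.IsPseudoCoherent' A K := by
    rw [Groth.Agent.Lib.DRingPCoh21.isPseudoCoherent'_iff_of_coherent A
      (fun I _ => Module.finitePresentation_of_finite A I) K
      ⟨b, fun i hi => ModuleCat.subsingleton_of_isZero (isZero_of_isLE K b i hi)⟩]
    intro i
    haveI := hfin i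
    exact Module.finitePresentation_of_finite A _
  have hshift : ∀ i : ℤ, (K⟦i⟧).IsGE (a - i) :=
    fun i => TStructure.t.isGE_shift K a i (a - i) (by omega)
  obtain ⟨a', b', hab'⟩ := hK.finite_injective_dimension
  have hinj : DRing.HasInjAmplitudeIn A a' b' K := by
    apply Groth.Agent.S6965.rep_of_cyclic
    intro I i hi
    haveI := hshift i
    apply subsingleton_hom_of_FD (B := B) _ _
      (Groth.Agent.Lib.FinFreeRes.isPseudoCoherentModule' A (A ⧸ I)) (a - i)
    have h5 : Subsingleton (Dual.inD B (B ⊗[A] (A ⧸ I)) ⟶ ((FD A B).obj K)⟦i⟧) :=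
      hab' (B ⊗[A] (A ⧸ I)) i hi
    exact @Equiv.subsingleton _ _
      (Iso.homCongr (inDIso (B := B) (A ⧸ I)) (((FD A B).commShiftIso i).app K)) h5
  refine ⟨inferInstance, ⟨a', b', fun M _ _ i hi => ⟨fun φ ψ => ?_⟩⟩, hfin, ?_, ?_⟩
  · rw [Groth.Agent.S6965.hom_eq_zero_of_rep A K a' b' hinj M i hi φ,
      Groth.Agent.S6965.hom_eq_zero_of_rep A K a' b' hinj M i hi ψ]
  · -- `A → End K` bijective
    let e : A →ₗ[A] (K ⟶ K) := LinearMap.toSpanSingleton A (K ⟶ K) (𝟙 K)
    have hβ := bijective_β_of_isPseudoCoherent (B := B) K K hpc a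
    have h2 : Function.Bijective
        ((β (B := B) K K) ∘ (e.lTensor B) ∘ (TensorProduct.rid A B).symm) := by
      convert hK.toEnd_bijective using 1
      funext x
      simp only [Function.comp_apply, TensorProduct.rid_symm_apply, LinearMap.lTensor_tmul,
        β_tmul, e, LinearMap.toSpanSingleton_apply, one_smul, CategoryTheory.Functor.map_id]
    have h3 := (Function.Bijective.of_comp_iff' hβ _).1 h2
    have h4 := (Function.Bijective.of_comp_iff _ (TensorProduct.rid A B).symm.bijective).1 h3
    exact (Module.FaithfullyFlat.lTensor_bijective_iff_bijective A B e).1 h4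
  · intro i hi
    haveI := hshift i
    apply subsingleton_hom_of_FD (B := B) K (K⟦i⟧) hpc (a - i)
    have h5 : Subsingleton ((FD A B).obj K ⟶ ((FD A B).obj K)⟦i⟧) :=
      hK.ext_self_subsingleton i hi
    exact @Equiv.subsingleton _ _
      (Iso.homCongr (Iso.refl _) (((FD A B).commShiftIso i).app K)) h5

variable (A B) in
/-- S1780 for the derived base change functor. -/
theorem isDualizing_of_LBaseChange [IsNoetherianRing A] [IsNoetherianRing B]
    [DRing.HasLBaseChange (algebraMap A B)] (K : Dual.D A)
    (hK : Dual.IsDualizing B ((DRing.LBaseChange (algebraMap A B)).obj K)) :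
    Dual.IsDualizing A K :=
  isDualizing_of_FD (B := B) K
    (Groth.Agent.Lib.H29DualPrime.isDualizing_of_iso B ((lbaseFlatIso A B).app K) hK)

end FF

end Groth.Agent.Lib.DualFFDescent25
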