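import Groth.Agent.Lib.DualPair23

set_option autoImplicit false
set_option linter.unusedVariables false
universe u
open CategoryTheory CategoryTheory.Limits AlgebraicGeometry TopologicalSpace Opposite
open Groth.Agent.Lib.H90Invertible Groth.Agent.Lib.H78TensorGen Groth.Agent.Lib.H78Atlas
open Groth.Agent.Lib.InvGlue42 Groth.Agent.Lib.H4TensorPair Groth.Agent.Lib.H4ModHom
open Groth.Agent.Lib.OXModTensor Groth.Agent.Lib.TwistEquiv Groth.Agent.Lib.ProjFormulaFLF23
open Groth.Agent.Lib.TensorBasis23 Groth.Agent.Lib.StructureModule Groth.Agent.Lib.SheafHom23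
open Groth.Agent.Lib.DualPair23

namespace Groth.Agent.Lib.DualFLF23

variable {X : Scheme.{u}}

/-- the dual `E^* = ℋom(E, O_X)` -/
noncomputable abbrev dual (E : X.Modules) : X.Modules := hom E (Coh.structureModule X)

section DualBasis

variable {E : X.Modules} {V : X.Opens} {n : ℕ} {a : Fin n → Γ(E, V)} (ha : IsBasis E V a)

/-- the dual basis -/
noncomputable def dualSec (i : Fin n) : Γ(dual E, V) :=
  ofFam (mk' (fun W h t => toSec W (coord ha h t i))
    (fun W h t t' => by rw [coord_add]; rfl)
    (fun W h r t => by rw [coord_smul]; rfl)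
    (fun W W' h h' t => by rw [Groth.Agent.Lib.H78SecCoord.toSec_rs, coord_rs]))

lemma dualSec_hev (i : Fin n) (W : X.Opens) (h : W ≤ V) (t : Γ(E, W)) :
    hev (dualSec ha i) W h t = toSec W (coord ha h t i) := rfl

lemma sum_hev {M N : X.Modules} {U : X.Opens} {ι : Type*} (S : Finset ι) (u : ι → Γ(hom M N, U))
    (W : X.Opens) (h : W ≤ U) (m : Γ(M, W)) :
    hev (∑ i ∈ S, u i) W h m = ∑ i ∈ S, hev (u i) W h m := by
  classical
  induction S using Finset.induction_on with
  | empty => rfl
  | insert k S hk ih => rw [Finset.sum_insert hk, Finset.sum_insert hk, add_hev, ih]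

lemma hev_comb [DecidableEq (Fin n)] {W : X.Opens} (h : W ≤ V) (c : Fin n → Γ(X, W)) (j : Fin n) :
    hev (∑ i, c i • rs (dual E) h (dualSec ha i)) W le_rfl (rs E h (a j)) = toSec W (c j) := by
  rw [sum_hev, Finset.sum_eq_single j]
  · rw [smul_hev, rs_hev, dualSec_hev, coord_basis, if_pos rfl, rf_self]
    exact (toSec_eq_smul_one W (c j)).symm
  · intro i _ hij
    rw [smul_hev, rs_hev, dualSec_hev, coord_basis, if_neg hij, rf_self]
    exact mul_zero (c i)
  · intro hj
    exact absurd (Finset.mem_univ j) hj

theorem isBasis_dualSec : IsBasis (dual E) V (dualSec ha) := by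
  classical
  intro W h
  constructor
  · intro c c' hcc'
    funext j
    have h1 := congrArg (fun s => hev s W le_rfl (rs E h (a j))) hcc'
    simp only at h1
    rw [hev_comb, hev_comb] at h1
    exact toSec_injective W h1
  · intro s
    refine ⟨fun i => ofSec X W (hev s W le_rfl (rs E h (a i))), ?_⟩
    refine hom_sec_ext_basis ha _ h fun j => ?_
    rw [hev_comb]
    rfl

lemma sval_dualSec [DecidableEq (Fin n)] (i j : Fin n) :
    sval (evPairing E (Coh.structureModule X)) (dualSec ha i) (a j) = if i = j then 1 else 0 := by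
  change ofSec X V (hev (dualSec ha i) V le_rfl (a j)) = _
  rw [dualSec_hev]
  have h1 := coord_basis ha (le_refl V) j i
  rw [rs_self] at h1
  exact h1

end DualBasis

/-- the evaluation pairing `E^* × E → O` is perfect for `E` finite locally free -/
theorem isPerfect_evPairing {E : X.Modules} (hE : FlatMod.IsFinLocFree E) :
    IsPerfect (evPairing E (Coh.structureModule X)) := by
  classical
  intro x
  obtain ⟨V, n, a, hxV, ha⟩ := exists_isBasis_of_isFinLocFree hE x
  refine ⟨V, n, hxV, ⟨?_⟩⟩
  exact
    { a := a
      b := dualSec ha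
      ha := ha
      hb := isBasis_dualSec ha
      dual := fun i j => sval_dualSec ha i j }



/-- `- ⊗ E^* ≅ ℋom(E, -)` for `E` finite locally free -/
noncomputable def tensorDualIso {E : X.Modules} (hE : FlatMod.IsFinLocFree E) :
    tensorRightFunctor (dual E) ≅ homFunctor E :=
  compNatIso (isPerfect_evPairing hE)

/-- `- ⊗ E ⊣ - ⊗ E^*` -/
noncomputable def adjDual {E : X.Modules} (hE : FlatMod.IsFinLocFree E) :
    tensorRightFunctor E ⊣ tensorRightFunctor (dual E) :=
  dualAdj (isPerfect_evPairing hE)

/-- `- ⊗ E^* ⊣ - ⊗ E` -/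
noncomputable def dualAdj' {E : X.Modules} (hE : FlatMod.IsFinLocFree E) :
    tensorRightFunctor (dual E) ⊣ tensorRightFunctor E :=
  dualAdj (isPerfect_swap (isPerfect_evPairing hE))

instance preservesLimits_homFunctor (M : X.Modules) :
    PreservesLimitsOfSize.{u, u} (homFunctor M) :=
  (tensorHomAdj M).rightAdjoint_preservesLimits

theorem preservesMonomorphisms_tensorRight_dual {E : X.Modules} (hE : FlatMod.IsFinLocFree E) :
    (tensorRightFunctor (dual E)).PreservesMonomorphisms := by
  have h1 : (homFunctor E).PreservesMonomorphisms := by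
    have : PreservesLimitsOfShape WalkingCospan (homFunctor E) := inferInstance
    exact preservesMonomorphisms_of_preservesLimitsOfShape _
  exact Functor.PreservesMonomorphisms.of_iso (tensorDualIso hE).symm

/-- tensoring with a finite locally free module preserves injectives -/
theorem injective_tensorMod_right {E : X.Modules} (hE : FlatMod.IsFinLocFree E) (I : X.Modules)
    [Injective I] : Injective (CohB1.tensorMod I E) := by
  have := preservesMonomorphisms_tensorRight_dual hE
  exact Injective.injective_of_adjoint (dualAdj' hE) I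

theorem injective_tensorMod_left {E : X.Modules} (hE : FlatMod.IsFinLocFree E) (I : X.Modules)
    [Injective I] : Injective (CohB1.tensorMod E I) := by
  have := injective_tensorMod_right hE I
  exact Injective.of_iso (braiding I E) this

end Groth.Agent.Lib.DualFLF23
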