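import Mathlib

/-!
# Coinduced modules and the polynomial short exact sequence (helper74)

For a commutative ring map `A → B` and an `A`-module `Q`, `CoHom A B Q = Hom_A(B, Q)` with `B`
acting on the source; it is an injective `B`-module when `Q` is an injective `A`-module.

For an `A[X]`-module `M` there is a short exact sequence of `A[X]`-modules
`0 → M → Hom_A(A[X], M) → Hom_A(A[X], M) → 0`.
-/

set_option autoImplicit false
set_option linter.unusedSectionVars false
set_option linter.style.haveILetI false

universe u

open Polynomial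

namespace Groth.Agent.Lib.H74PolyInj

section Coind

variable (A : Type u) [CommRing A] (B : Type u) [CommRing B] [Algebra A B]
  (Q : Type u) [AddCommGroup Q] [Module A Q]

/-- `Hom_A(B, Q)`, with `B` acting on the source. -/
def CoHom : Type u := B →ₗ[A] Q

namespace CoHom

variable {A B Q}

/-- The underlying linear map. -/
def toLin (φ : CoHom A B Q) : B →ₗ[A] Q := φ

/-- The element given by a linear map. -/
def ofLin (φ : B →ₗ[A] Q) : CoHom A B Q := φ

@[simp] theorem toLin_ofLin (φ : B →ₗ[A] Q) : (ofLin φ).toLin = φ := rfl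
@[simp] theorem ofLin_toLin (φ : CoHom A B Q) : ofLin φ.toLin = φ := rfl

instance : AddCommGroup (CoHom A B Q) := inferInstanceAs (AddCommGroup (B →ₗ[A] Q))

@[simp] theorem toLin_add (φ ψ : CoHom A B Q) : (φ + ψ).toLin = φ.toLin + ψ.toLin := rfl
@[simp] theorem toLin_zero : (0 : CoHom A B Q).toLin = 0 := rfl
@[simp] theorem toLin_sub (φ ψ : CoHom A B Q) : (φ - ψ).toLin = φ.toLin - ψ.toLin := rfl
@[simp] theorem toLin_neg (φ : CoHom A B Q) : (-φ).toLin = -φ.toLin := rfl

theorem ext {φ ψ : CoHom A B Q} (h : ∀ b, φ.toLin b = ψ.toLin b) : φ = ψ :=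
  LinearMap.ext h

instance : Module B (CoHom A B Q) where
  smul b φ := ofLin (φ.toLin.comp (LinearMap.mulLeft A b))
  one_smul φ := ext fun x => by
    show φ.toLin (1 * x) = φ.toLin x
    rw [one_mul]
  mul_smul b c φ := ext fun x => by
    show φ.toLin (b * c * x) = φ.toLin (c * (b * x))
    congr 1; ring
  smul_zero b := ext fun x => rfl
  smul_add b φ ψ := ext fun x => rfl
  add_smul b c φ := ext fun x => by
    show φ.toLin ((b + c) * x) = φ.toLin (b * x) + φ.toLin (c * x)
    rw [add_mul, map_add]
  zero_smul φ := ext fun x => by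
    show φ.toLin (0 * x) = 0
    rw [zero_mul, map_zero]

@[simp] theorem smul_apply (b : B) (φ : CoHom A B Q) (x : B) : (b • φ).toLin x = φ.toLin (b * x) :=
  rfl

end CoHom

open CoHom

/-- The coinduced module of an injective module is injective. -/
theorem injective_coHom [Module.Injective A Q] : Module.Injective B (CoHom A B Q) where
  out X Y _ _ _ _ f hf g := by
    letI : Module A X := Module.compHom X (algebraMap A B)
    letI : Module A Y := Module.compHom Y (algebraMap A B)
    haveI : IsScalarTower A B X := ⟨fun a b x => by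
      show (a • b) • x = algebraMap A B a • (b • x)
      rw [Algebra.smul_def, mul_smul]⟩
    haveI : IsScalarTower A B Y := ⟨fun a b x => by
      show (a • b) • x = algebraMap A B a • (b • x)
      rw [Algebra.smul_def, mul_smul]⟩
    let g₁ : X →ₗ[A] Q :=
      { toFun := fun x => (g x).toLin 1
        map_add' := fun x y => by rw [map_add]; rfl
        map_smul' := fun a x => by
          have h1 : a • x = (algebraMap A B a) • x := rfl
          rw [h1, map_smul, CoHom.smul_apply, mul_one, RingHom.id_apply,
            Algebra.algebraMap_eq_smul_one, map_smul] }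
    obtain ⟨h₁, hh₁⟩ := Module.Injective.out (f.restrictScalars A) hf g₁
    let h : Y →ₗ[B] CoHom A B Q :=
      { toFun := fun y => ofLin
          { toFun := fun b => h₁ (b • y)
            map_add' := fun b c => by rw [add_smul, map_add]
            map_smul' := fun a b => by rw [smul_assoc, map_smul]; rfl }
        map_add' := fun y z => ext fun b => by
          show h₁ (b • (y + z)) = h₁ (b • y) + h₁ (b • z)
          rw [smul_add, map_add]
        map_smul' := fun c y => ext fun b => by
          show h₁ (b • c • y) = h₁ ((c * b) • y)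
          rw [smul_smul, mul_comm] }
    refine ⟨h, fun x => ext fun b => ?_⟩
    show h₁ (b • f x) = (g x).toLin b
    rw [← map_smul]
    have := hh₁ (b • x)
    rw [LinearMap.restrictScalars_apply] at this
    rw [this]
    show (g (b • x)).toLin 1 = (g x).toLin b
    rw [map_smul, CoHom.smul_apply, mul_one]

end Coind

section Poly

open CoHom

variable (A : Type u) [CommRing A] (M : Type u) [AddCommGroup M] [Module A M] [Module A[X] M]
  [IsScalarTower A A[X] M]

/-- `p ↦ (f ↦ f • p)`. -/
noncomputable def alpha : M →ₗ[A[X]] CoHom A A[X] M where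
  toFun p := ofLin (((LinearMap.lsmul A[X] M).flip p).restrictScalars A)
  map_add' p q := CoHom.ext fun f => by
    show f • (p + q) = f • p + f • q
    rw [smul_add]
  map_smul' r p := CoHom.ext fun f => by
    show f • r • p = (r * f) • p
    rw [smul_smul, mul_comm]

@[simp] theorem alpha_apply (p : M) (f : A[X]) : (alpha A M p).toLin f = f • p := rfl

/-- `φ ↦ (f ↦ φ (X f) - X φ(f))`. -/
noncomputable def beta : CoHom A A[X] M →ₗ[A[X]] CoHom A A[X] M where
  toFun φ := ofLin (φ.toLin.comp (LinearMap.mulLeft A (X : A[X])) -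
    ((LinearMap.lsmul A[X] M (X : A[X])).restrictScalars A).comp φ.toLin)
  map_add' φ ψ := CoHom.ext fun f => by
    show (φ.toLin (X * f) + ψ.toLin (X * f)) - (X : A[X]) • (φ.toLin f + ψ.toLin f) =
      (φ.toLin (X * f) - (X : A[X]) • φ.toLin f) + (ψ.toLin (X * f) - (X : A[X]) • ψ.toLin f)
    rw [smul_add]; abel
  map_smul' r φ := CoHom.ext fun f => by
    show φ.toLin (r * (X * f)) - (X : A[X]) • φ.toLin (r * f) =
      φ.toLin (X * (r * f)) - (X : A[X]) • φ.toLin (r * f)
    rw [mul_left_comm]

@[simp] theorem beta_apply (φ : CoHom A A[X] M) (f : A[X]) :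
    (beta A M φ).toLin f = φ.toLin (X * f) - (X : A[X]) • φ.toLin f := rfl

theorem alpha_injective : Function.Injective (alpha A M) := by
  intro p q h
  have := congrArg (fun φ : CoHom A A[X] M => φ.toLin 1) h
  simpa using this

theorem beta_alpha (p : M) : beta A M (alpha A M p) = 0 := CoHom.ext fun f => by
  rw [beta_apply, alpha_apply, alpha_apply, mul_smul, sub_self]
  rfl

theorem exists_alpha_eq_of_beta_eq_zero (φ : CoHom A A[X] M) (h : beta A M φ = 0) :
    ∃ p, alpha A M p = φ := by
  have hX : ∀ f, φ.toLin (X * f) = (X : A[X]) • φ.toLin f := by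
    intro f
    have := congrArg (fun ψ : CoHom A A[X] M => ψ.toLin f) h
    simp only [beta_apply, toLin_zero, LinearMap.zero_apply] at this
    exact sub_eq_zero.mp this
  have hpow : ∀ n : ℕ, φ.toLin (X ^ n) = (X ^ n : A[X]) • φ.toLin 1 := by
    intro n
    induction n with
    | zero => rw [pow_zero, one_smul]
    | succ n ih => rw [pow_succ', hX, ih, smul_smul]
  refine ⟨φ.toLin 1, CoHom.ext fun f => ?_⟩
  rw [alpha_apply]
  have key : ((LinearMap.lsmul A[X] M).flip (φ.toLin 1)).restrictScalars A = φ.toLin := by
    apply Polynomial.lhom_ext'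
    intro n
    apply LinearMap.ext
    intro a
    show (monomial n a) • φ.toLin 1 = φ.toLin (monomial n a)
    rw [← Polynomial.smul_X_eq_monomial, smul_assoc, map_smul, hpow]
  exact LinearMap.congr_fun key f

/-- The sequence of coefficients solving `φ(X f) - X φ(f) = ψ(f)`. -/
noncomputable def solSeq (ψ : CoHom A A[X] M) : ℕ → M
  | 0 => 0
  | n + 1 => (X : A[X]) • solSeq ψ n + ψ.toLin (X ^ n)

theorem beta_surjective : Function.Surjective (beta A M) := by
  intro ψ
  let φ : A[X] →ₗ[A] M :=
    Polynomial.lsum (fun n => LinearMap.toSpanSingleton A M (solSeq A M ψ n))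
  have hφ : ∀ (n : ℕ) (a : A), φ (monomial n a) = a • solSeq A M ψ n := by
    intro n a
    show Polynomial.sum (monomial n a) _ = _
    rw [Polynomial.sum_monomial_index]
    · rfl
    · exact map_zero _
  refine ⟨ofLin φ, CoHom.ext fun f => ?_⟩
  rw [beta_apply, toLin_ofLin]
  have key : φ.comp (LinearMap.mulLeft A (X : A[X])) -
      ((LinearMap.lsmul A[X] M (X : A[X])).restrictScalars A).comp φ = ψ.toLin := by
    apply Polynomial.lhom_ext'
    intro n
    apply LinearMap.ext
    intro a
    show φ (X * monomial n a) - (X : A[X]) • φ (monomial n a) = ψ.toLin (monomial n a)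
    rw [Polynomial.X_mul_monomial, hφ, hφ]
    show a • ((X : A[X]) • solSeq A M ψ n + ψ.toLin (X ^ n)) - (X : A[X]) • a • solSeq A M ψ n = _
    rw [smul_add, smul_comm a (X : A[X]), add_sub_cancel_left, ← map_smul,
      Polynomial.smul_X_eq_monomial]
  exact LinearMap.congr_fun key f

end Poly

end Groth.Agent.Lib.H74PolyInj
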