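import Mathlib
import Groth.Agent.Lib.H74PolyInj1
import Groth.Agent.Lib.InjDecomp

/-!
# `A[X] ⊗_A E` has injective dimension at most one (helper74)
-/

set_option autoImplicit false
set_option linter.unusedSectionVars false
set_option linter.style.haveILetI false

universe u

open Polynomial CategoryTheory TensorProduct

namespace Groth.Agent.Lib.H74PolyInj

section Dim

variable (A : Type u) [CommRing A] (M : Type u) [AddCommGroup M] [Module A M] [Module A[X] M]
  [IsScalarTower A A[X] M]

/-- The short complex `M → Hom_A(A[X], M) → Hom_A(A[X], M)`. -/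
noncomputable abbrev sc : ShortComplex (ModuleCat.{u} A[X]) :=
  ShortComplex.mk (ModuleCat.ofHom (alpha A M)) (ModuleCat.ofHom (beta A M)) (by
    ext p
    exact beta_alpha A M p)

theorem sc_shortExact : (sc A M).ShortExact where
  exact := by
    rw [ShortComplex.moduleCat_exact_iff]
    intro φ h
    obtain ⟨p, hp⟩ := exists_alpha_eq_of_beta_eq_zero A M φ h
    exact ⟨p, hp⟩
  mono_f := (ModuleCat.mono_iff_injective _).mpr (alpha_injective A M)
  epi_g := (ModuleCat.epi_iff_surjective _).mpr (beta_surjective A M)

/-- An `A[X]`-module which is injective over `A` has injective dimension at most one. -/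
theorem hasInjectiveDimensionLT_two [Module.Injective A M] :
    HasInjectiveDimensionLT (ModuleCat.of A[X] M) 2 := by
  haveI : Module.Injective A[X] (CoHom A A[X] M) := injective_coHom A A[X] M
  haveI : Injective (ModuleCat.of A[X] (CoHom A A[X] M)) :=
    Module.injective_object_of_injective_module A[X] _
  have h1 : HasInjectiveDimensionLT (ModuleCat.of A[X] (CoHom A A[X] M)) 1 :=
    injective_iff_hasInjectiveDimensionLT_one.mp inferInstance
  have h2 : HasInjectiveDimensionLT (ModuleCat.of A[X] (CoHom A A[X] M)) 2 :=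
    hasInjectiveDimensionLT_of_ge _ 1 2 (by omega)
  exact (sc_shortExact A M).hasInjectiveDimensionLT_X₁ 1 h1 h2

end Dim

section Tensor

variable (A : Type u) [CommRing A] [IsNoetherianRing A] (E : Type u) [AddCommGroup E] [Module A E]
  [Module.Injective A E]

/-- `A[X] ⊗_A E` is an injective `A`-module. -/
theorem injective_polyTensor : Module.Injective A (A[X] ⊗[A] E) := by
  have h1 : Module.Injective A (DirectSum (ULift.{u} ℕ) fun _ => E) :=
    Groth.Agent.Lib.InjDecomp.directSum_injective (fun _ : ULift.{u} ℕ => E) (fun _ => inferInstance)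
  let e1 : (A[X] ⊗[A] E) ≃ₗ[A] PolynomialModule A E :=
    (PolynomialModule.polynomialTensorProductLEquivPolynomialModule A E).restrictScalars A
  let e2 : PolynomialModule A E ≃ₗ[A] (ℕ →₀ E) := PolynomialModule.coeffLinearEquiv A A
  let e3 : (ℕ →₀ E) ≃ₗ[A] (ULift.{u} ℕ →₀ E) := Finsupp.domLCongr Equiv.ulift.symm
  let e4 : (ULift.{u} ℕ →₀ E) ≃ₗ[A] DirectSum (ULift.{u} ℕ) fun _ => E :=
    finsuppLEquivDirectSum A E (ULift.{u} ℕ)
  exact Groth.Agent.Lib.InjDecomp.injective_of_linearEquiv
    (((e1.trans e2).trans e3).trans e4).symm h1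

end Tensor

end Groth.Agent.Lib.H74PolyInj
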