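import Mathlib
import Groth.Agent.S6965

/-!
# Injective amplitude of a module from its injective dimension (helper74)
-/

set_option autoImplicit false
set_option linter.unusedSectionVars false
set_option linter.style.haveILetI false

universe u

open CategoryTheory

attribute [local instance] HasDerivedCategory.standard

namespace Groth.Agent.Lib.H74PolyInj

open DerivedCategory

/-- A module of injective dimension `≤ n` has injective amplitude in `[0, n]`. -/
theorem hasInjAmplitudeIn_of_hasInjectiveDimensionLT (R : Type u) [CommRing R] (M : Type u)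
    [AddCommGroup M] [Module R M] (n : ℕ)
    (h : HasInjectiveDimensionLT (ModuleCat.of R M) (n + 1)) :
    DRing.HasInjAmplitudeIn R 0 n (Dual.inD R M) := by
  apply ((Groth.Agent.S6965.result R (Dual.inD R M) 0 n).out 2 0).mp
  intro I i hi
  rcases hi with hneg | hpos
  · refine ⟨fun f g => ?_⟩
    haveI : TStructure.t.IsGE ((Dual.inD R M)⟦i⟧) (-i) :=
      TStructure.t.isGE_shift (Dual.inD R M) 0 i (-i) (by omega)
    rw [TStructure.t.zero f 0 (-i) (by omega), TStructure.t.zero g 0 (-i) (by omega)]
  · obtain ⟨k, rfl⟩ := Int.eq_ofNat_of_zero_le (by omega : 0 ≤ i)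
    have hk : n + 1 ≤ k := by omega
    haveI := h
    haveI : Subsingleton (Abelian.Ext.{u} (ModuleCat.of R (R ⧸ I)) (ModuleCat.of R M) k) :=
      HasInjectiveDimensionLT.subsingleton (ModuleCat.of R M) (n + 1) k hk _
    exact (Abelian.Ext.homEquiv (X := ModuleCat.of R (R ⧸ I)) (Y := ModuleCat.of R M)
      (n := k)).symm.subsingleton

end Groth.Agent.Lib.H74PolyInj
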