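import Groth.Agent.Lib.DualFFDescent25
import Groth.Agent.Lib.DInjDim
import Groth.Agent.S1748

/-!
# Flat ascent of dualizing complexes (helper25)

* `isDualizing_FD_of_finiteInjDim`: for a flat map `A → B` of Noetherian rings and a dualizing
  complex `ω` of `A`, the base change `FD ω` is dualizing for `B` as soon as it has finite
  injective dimension.
* `isDualizing_FD_polynomial`, `isDualizing_LBaseChange_polynomial` (= S1776).
-/

set_option autoImplicit false
set_option linter.style.haveILetI false
universe u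
open CategoryTheory Category Limits Pretriangulated DerivedCategory TensorProduct
open scoped Polynomial
attribute [local instance] HasDerivedCategory.standard

namespace Groth.Agent.Lib.DualFlatAscent25

open Groth.Agent.Lib.FlatBaseChangeD (F FD objEquiv objIso inDIso toDIso bcCx vanishesOutside_bcCx
  mapDerivedCategoryHomologyIso)
open Groth.Agent.Lib.FlatHomBC25 Groth.Agent.Lib.DualFFDescent25

variable {A B : Type u} [CommRing A] [CommRing B] [Algebra A B] [Module.Flat A B]

/-- a dualizing complex over a Noetherian ring is pseudo-coherent -/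
lemma isPseudoCoherent'_of_isDualizing [IsNoetherianRing A] (ω : Dual.D A)
    (hω : Dual.IsDualizing A ω) : DRing.IsPseudoCoherent' A ω := by
  obtain ⟨a, b, ha, hb⟩ := Groth.Agent.Lib.H29DualLocal.exists_bounds A ω hω
  haveI := hb
  rw [Groth.Agent.Lib.DRingPCoh21.isPseudoCoherent'_iff_of_coherent A
    (fun I _ => Module.finitePresentation_of_finite A I) ω
    ⟨b, fun i hi => ModuleCat.subsingleton_of_isZero (isZero_of_isLE ω b i hi)⟩]
  intro i
  haveI := hω.finite_cohomology i
  exact Module.finitePresentation_of_finite A _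

theorem isDualizing_FD_of_finiteInjDim [IsNoetherianRing A] [IsNoetherianRing B] (ω : Dual.D A)
    (hω : Dual.IsDualizing A ω) (hinj : DRing.HasFiniteInjDim B ((FD A B).obj ω)) :
    Dual.IsDualizing B ((FD A B).obj ω) := by
  obtain ⟨a, b, ha, hb⟩ := Groth.Agent.Lib.H29DualLocal.exists_bounds A ω hω
  haveI := ha
  haveI := hb
  have hpc := isPseudoCoherent'_of_isDualizing ω hω
  have hshift : ∀ i : ℤ, (ω⟦i⟧).IsGE (a - i) :=
    fun i => TStructure.t.isGE_shift ω a i (a - i) (by omega)
  obtain ⟨a', b', hab'⟩ := hinj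
  refine ⟨inferInstance, ⟨a', b', fun M _ _ i hi => ⟨fun φ ψ => ?_⟩⟩, fun i => ?_, ?_, ?_⟩
  · rw [Groth.Agent.S6965.hom_eq_zero_of_rep B _ a' b' hab' M i hi φ,
      Groth.Agent.S6965.hom_eq_zero_of_rep B _ a' b' hab' M i hi ψ]
  · haveI := hω.finite_cohomology i
    exact Module.Finite.equiv (hdEquiv (B := B) ω i).symm
  · let e : A →ₗ[A] (ω ⟶ ω) := LinearMap.toSpanSingleton A (ω ⟶ ω) (𝟙 ω)
    have he : Function.Bijective e := by
      convert hω.toEnd_bijective using 1
      funext x
      exact LinearMap.toSpanSingleton_apply A (ω ⟶ ω) (𝟙 ω) x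
    have hβ := bijective_β_of_isPseudoCoherent (B := B) ω ω hpc a
    have h1 : Function.Bijective (e.lTensor B) :=
      (LinearEquiv.lTensor B (LinearEquiv.ofBijective e he)).bijective
    have h2 : Function.Bijective
        ((β (B := B) ω ω) ∘ (e.lTensor B) ∘ (TensorProduct.rid A B).symm) :=
      hβ.comp (h1.comp (TensorProduct.rid A B).symm.bijective)
    convert h2 using 1
    funext x
    simp only [Function.comp_apply, TensorProduct.rid_symm_apply, LinearMap.lTensor_tmul,
      β_tmul, e, LinearMap.toSpanSingleton_apply, one_smul, CategoryTheory.Functor.map_id]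
  · intro i hi
    haveI := hshift i
    haveI := hω.ext_self_subsingleton i hi
    have hβ := bijective_β_of_isPseudoCoherent (B := B) (ω⟦i⟧) ω hpc (a - i)
    haveI := subsingleton_tensor (A := A) (B := B) (M := (ω ⟶ ω⟦i⟧))
    have h5 : Subsingleton ((FD A B).obj ω ⟶ (FD A B).obj (ω⟦i⟧)) :=
      ⟨fun x y => by
        obtain ⟨x', rfl⟩ := hβ.2 x
        obtain ⟨y', rfl⟩ := hβ.2 y
        rw [Subsingleton.elim x' y']⟩
    exact @Equiv.subsingleton _ _
      (Iso.homCongr (Iso.refl _) (((FD A B).commShiftIso i).app ω)).symm h5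

section Poly

variable (A)

instance : Module.Flat A A[X] := inferInstance

theorem hasFiniteInjDim_FD_polynomial [IsNoetherianRing A] (ω : Dual.D A)
    (hω : Dual.IsDualizing A ω) : DRing.HasFiniteInjDim A[X] ((FD A A[X]).obj ω) := by
  obtain ⟨a, b, J, hJa, hJb, hJinj, ⟨e⟩⟩ := Groth.Agent.Lib.H29DualLocal.exists_model A ω hω
  have hvan : DRing.VanishesOutside J a b := by
    rintro i (hi | hi)
    · exact CochainComplex.isZero_of_isStrictlyGE J a i hi
    · exact CochainComplex.isZero_of_isStrictlyLE J b i hi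
  have h1 : DRing.HasFiniteInjDim A[X] (DRing.toD (bcCx A[X] J)) := by
    refine Groth.Agent.Lib.DInjDim.hasFiniteInjDim_of_termwise A[X] (bcCx A[X] J) a b
      (vanishesOutside_bcCx hvan) (fun i => ?_)
    haveI := hJinj i
    haveI : Module.Injective A (J.X i) := Module.injective_module_of_injective_object A (J.X i)
    have h2 := Groth.Agent.S1748.result A (J.X i)
    refine Groth.Agent.Lib.DInjDim.hasFiniteInjDim_of_iso A[X] ?_ ⟨0, 1, h2⟩
    exact ((DerivedCategory.singleFunctor (ModuleCat.{u} A[X]) 0).mapIso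
      (objIso (A := A) (B := A[X]) (J.X i))).symm
  exact Groth.Agent.Lib.DInjDim.hasFiniteInjDim_of_iso A[X]
    ((toDIso (B := A[X]) J).symm ≪≫ (FD A A[X]).mapIso e) h1

theorem isDualizing_FD_polynomial [IsNoetherianRing A] (ω : Dual.D A)
    (hω : Dual.IsDualizing A ω) : Dual.IsDualizing A[X] ((FD A A[X]).obj ω) :=
  isDualizing_FD_of_finiteInjDim ω hω (hasFiniteInjDim_FD_polynomial A ω hω)

/-- S1776 -/
theorem isDualizing_LBaseChange_polynomial [IsNoetherianRing A]
    [DRing.HasLBaseChange (algebraMap A A[X])] (ω : Dual.D A) (hω : Dual.IsDualizing A ω) :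
    Dual.IsDualizing A[X] ((DRing.LBaseChange (algebraMap A A[X])).obj ω) :=
  Groth.Agent.Lib.H29DualPrime.isDualizing_of_iso A[X] ((lbaseFlatIso A A[X]).app ω).symm
    (isDualizing_FD_polynomial A ω hω)

end Poly

end Groth.Agent.Lib.DualFlatAscent25
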