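import Groth.Agent.Lib.DualFFDescent25
import Mathlib.RingTheory.LocalProperties.Exactness
import Mathlib.RingTheory.Localization.Finiteness
import Mathlib.RingTheory.Localization.BaseChange
import Mathlib.RingTheory.Flat.Localization
import Mathlib.Data.Fintype.Order

/-!
# Dualizing complexes are detected on a finite jointly faithfully flat family (helper25)

* `isDualizing_of_family`: `B i` a finite family of flat `A`-algebras which jointly detect
  vanishing, finiteness and bijectivity; if every `FD A (B i) K` is dualizing then so is `K`.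
* `isDualizing_of_away_cover`: the case of a standard open cover (= S1787).
-/

set_option autoImplicit false
set_option linter.style.haveILetI false
universe u
open CategoryTheory Category Limits Pretriangulated DerivedCategory TensorProduct
attribute [local instance] HasDerivedCategory.standard

namespace Groth.Agent.Lib.DualLocCover25

open Groth.Agent.Lib.FlatBaseChangeD (F FD objEquiv inDIso mapDerivedCategoryHomologyIso)
open Groth.Agent.Lib.FlatHomBC25 Groth.Agent.Lib.DualFFDescent25

variable {A : Type u} [CommRing A]

section Family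

variable {ι : Type*} [Finite ι] (B : ι → Type u) [∀ i, CommRing (B i)] [∀ i, Algebra A (B i)]
  [∀ i, Module.Flat A (B i)]

theorem isDualizing_of_family [IsNoetherianRing A] [∀ i, IsNoetherianRing (B i)]
    (hsub : ∀ (N : Type (u + 1)) [AddCommGroup N] [Module A N],
      (∀ i, Subsingleton (B i ⊗[A] N)) → Subsingleton N)
    (hsub' : ∀ (N : Type u) [AddCommGroup N] [Module A N],
      (∀ i, Subsingleton (B i ⊗[A] N)) → Subsingleton N)
    (hfin' : ∀ (M : Type u) [AddCommGroup M] [Module A M],
      (∀ i, Module.Finite (B i) (B i ⊗[A] M)) → Module.Finite A M)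
    (hbij : ∀ (N : Type (u + 1)) [AddCommGroup N] [Module A N] (e : A →ₗ[A] N),
      (∀ i, Function.Bijective (e.lTensor (B i))) → Function.Bijective e)
    (K : Dual.D A) (hK : ∀ i, Dual.IsDualizing (B i) ((FD A (B i)).obj K)) :
    Dual.IsDualizing A K := by
  have hbd := fun i => Groth.Agent.Lib.H29DualLocal.exists_bounds (B i) _ (hK i)
  choose a₀ b₀ ha₀ hb₀ using hbd
  obtain ⟨a, ha⟩ := Finite.exists_ge a₀
  obtain ⟨b, hb⟩ := Finite.exists_le b₀
  have hzero : ∀ j : ℤ, (∀ i, IsZero ((homologyFunctor (ModuleCat.{u} (B i)) j).obj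
      ((FD A (B i)).obj K))) → IsZero ((homologyFunctor (ModuleCat.{u} A) j).obj K) := by
    intro j hj
    haveI : Subsingleton (Dual.HD A K j) := hsub' _ (fun i => by
      haveI : Subsingleton (Dual.HD (B i) ((FD A (B i)).obj K) j) :=
        ModuleCat.subsingleton_of_isZero (hj i)
      exact (hdEquiv (B := B i) K j).symm.toEquiv.subsingleton)
    exact ModuleCat.isZero_of_subsingleton _
  haveI : K.IsGE a := by
    rw [isGE_iff]
    intro j hj
    refine hzero j (fun i => ?_)
    haveI := ha₀ i
    exact isZero_of_isGE _ (a₀ i) j (lt_of_lt_of_le hj (ha i))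
  haveI : K.IsLE b := by
    rw [isLE_iff]
    intro j hj
    refine hzero j (fun i => ?_)
    haveI := hb₀ i
    exact isZero_of_isLE _ (b₀ i) j (lt_of_le_of_lt (hb i) hj)
  have hfin : ∀ j, Module.Finite A (Dual.HD A K j) := fun j => hfin' _ (fun i => by
    haveI := (hK i).finite_cohomology j
    exact Module.Finite.equiv (hdEquiv (B := B i) K j))
  have hpc : DRing.IsPseudoCoherent' A K := by
    rw [Groth.Agent.Lib.DRingPCoh21.isPseudoCoherent'_iff_of_coherent A
      (fun I _ => Module.finitePresentation_of_finite A I) K
      ⟨b, fun i hi => ModuleCat.subsingleton_of_isZero (isZero_of_isLE K b i hi)⟩]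
    intro i
    haveI := hfin i
    exact Module.finitePresentation_of_finite A _
  have hshift : ∀ i : ℤ, (K⟦i⟧).IsGE (a - i) :=
    fun i => TStructure.t.isGE_shift K a i (a - i) (by omega)
  have hhom : ∀ (X T : Dual.D A) (_ : DRing.IsPseudoCoherent' A X) (c : ℤ) [T.IsGE c],
      (∀ i, Subsingleton ((FD A (B i)).obj X ⟶ (FD A (B i)).obj T)) → Subsingleton (X ⟶ T) := by
    intro X T hX c _ h
    refine hsub _ (fun i => ?_)
    have hb := bijective_β_of_isPseudoCoherent (B := B i) T X hX c
    haveI := h i
    exact hb.1.subsingleton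
  have hid := fun i => (hK i).finite_injective_dimension
  choose a₁ b₁ hab₁ using hid
  obtain ⟨a', ha'⟩ := Finite.exists_ge a₁
  obtain ⟨b', hb'⟩ := Finite.exists_le b₁
  have hinj : DRing.HasInjAmplitudeIn A a' b' K := by
    apply Groth.Agent.S6965.rep_of_cyclic
    intro I j hj
    haveI := hshift j
    refine hhom _ _ (Groth.Agent.Lib.FinFreeRes.isPseudoCoherentModule' A (A ⧸ I)) (a - j)
      (fun i => ?_)
    have h5 : Subsingleton (Dual.inD (B i) (B i ⊗[A] (A ⧸ I)) ⟶ ((FD A (B i)).obj K)⟦j⟧) :=
      hab₁ i (B i ⊗[A] (A ⧸ I)) j (by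
        rcases hj with hj | hj
        · exact Or.inl (lt_of_lt_of_le hj (ha' i))
        · exact Or.inr (lt_of_le_of_lt (hb' i) hj))
    exact @Equiv.subsingleton _ _
      (Iso.homCongr (inDIso (B := B i) (A ⧸ I)) (((FD A (B i)).commShiftIso j).app K)) h5
  refine ⟨inferInstance, ⟨a', b', fun M _ _ i hi => ⟨fun φ ψ => ?_⟩⟩, hfin, ?_, ?_⟩
  · rw [Groth.Agent.S6965.hom_eq_zero_of_rep A K a' b' hinj M i hi φ,
      Groth.Agent.S6965.hom_eq_zero_of_rep A K a' b' hinj M i hi ψ]
  · -- `A → End K` bijective
    let e : A →ₗ[A] (K ⟶ K) := LinearMap.toSpanSingleton A (K ⟶ K) (𝟙 K)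
    refine hbij _ e (fun i => ?_)
    have hβ := bijective_β_of_isPseudoCoherent (B := B i) K K hpc a
    have h2 : Function.Bijective
        ((β (B := B i) K K) ∘ (e.lTensor (B i)) ∘ (TensorProduct.rid A (B i)).symm) := by
      convert (hK i).toEnd_bijective using 1
      funext x
      simp only [Function.comp_apply, TensorProduct.rid_symm_apply, LinearMap.lTensor_tmul,
        β_tmul, e, LinearMap.toSpanSingleton_apply, one_smul, CategoryTheory.Functor.map_id]
    have h3 := (Function.Bijective.of_comp_iff' hβ _).1 h2
    exact (Function.Bijective.of_comp_iff _ (TensorProduct.rid A (B i)).symm.bijective).1 h3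
  · intro j hj
    haveI := hshift j
    refine hhom K (K⟦j⟧) hpc (a - j) (fun i => ?_)
    have h5 : Subsingleton ((FD A (B i)).obj K ⟶ ((FD A (B i)).obj K)⟦j⟧) :=
      (hK i).ext_self_subsingleton j hj
    exact @Equiv.subsingleton _ _
      (Iso.homCongr (Iso.refl _) (((FD A (B i)).commShiftIso j).app K)) h5

end Family

section Away

variable (s : Set A) (hs : Ideal.span s = ⊤)

include hs in
lemma subsingleton_of_away {N : Type*} [AddCommGroup N] [Module A N]
    (h : ∀ r : s, Subsingleton (Localization.Away r.1 ⊗[A] N)) : Subsingleton N :=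
  ⟨fun x y => Module.eq_of_isLocalized_span s hs
    (fun r => Localization.Away r.1 ⊗[A] N)
    (fun r => TensorProduct.mk A (Localization.Away r.1) N 1) x y
    (fun r => @Subsingleton.elim _ (h r) _ _)⟩

include hs in
lemma finite_of_away {M : Type*} [AddCommGroup M] [Module A M]
    (h : ∀ r : s, Module.Finite (Localization.Away r.1) (Localization.Away r.1 ⊗[A] M)) :
    Module.Finite A M :=
  Module.Finite.of_localizationSpan' s hs (Rₚ := fun r => Localization.Away r.1)
    (fun r => TensorProduct.mk A (Localization.Away r.1) M 1) h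

include hs in
lemma bijective_of_away {N : Type*} [AddCommGroup N] [Module A N] (e : A →ₗ[A] N)
    (h : ∀ r : s, Function.Bijective (e.lTensor (Localization.Away r.1))) :
    Function.Bijective e := by
  refine bijective_of_isLocalized_span s hs (fun r => Localization.Away r.1 ⊗[A] A)
    (fun r => TensorProduct.mk A (Localization.Away r.1) A 1)
    (fun r => Localization.Away r.1 ⊗[A] N)
    (fun r => TensorProduct.mk A (Localization.Away r.1) N 1) e (fun r => ?_)
  have : IsLocalizedModule.map (.powers r.1) (TensorProduct.mk A (Localization.Away r.1) A 1)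
      (TensorProduct.mk A (Localization.Away r.1) N 1) e = e.lTensor (Localization.Away r.1) := by
    apply IsLocalizedModule.linearMap_ext (.powers r.1)
      (TensorProduct.mk A (Localization.Away r.1) A 1)
      (TensorProduct.mk A (Localization.Away r.1) N 1)
    rw [IsLocalizedModule.map_comp]
    ext
    simp
  rw [this]
  exact h r

include hs in
/-- A complex which is dualizing on a finite standard open cover is dualizing. -/
theorem isDualizing_of_away_cover_FD [IsNoetherianRing A] (hfs : s.Finite) (K : Dual.D A)
    (hK : ∀ r : s, Dual.IsDualizing (Localization.Away r.1)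
      ((FD A (Localization.Away r.1)).obj K)) : Dual.IsDualizing A K := by
  haveI : Finite s := hfs
  exact isDualizing_of_family (fun r : s => Localization.Away r.1)
    (fun N _ _ h => subsingleton_of_away s hs h)
    (fun N _ _ h => subsingleton_of_away s hs h)
    (fun M _ _ h => finite_of_away s hs h)
    (fun N _ _ e h => bijective_of_away s hs e h) K hK

/-- S1787. -/
theorem isDualizing_of_away_cover [IsNoetherianRing A] (n : ℕ) (f : Fin n → A)
    (hf : Ideal.span (Set.range f) = ⊤) (ω : Dual.D A)
    (h : ∀ i : Fin n, ∃ _ : DRing.HasLBaseChange (algebraMap A (Localization.Away (f i))),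
      Dual.IsDualizing (Localization.Away (f i))
        ((DRing.LBaseChange (algebraMap A (Localization.Away (f i)))).obj ω)) :
    Dual.IsDualizing A ω := by
  have key : ∀ x : A, (∃ i, f i = x) →
      Dual.IsDualizing (Localization.Away x) ((FD A (Localization.Away x)).obj ω) := by
    rintro x ⟨i, rfl⟩
    obtain ⟨_, h2⟩ := h i
    exact Groth.Agent.Lib.H29DualPrime.isDualizing_of_iso _
      ((lbaseFlatIso A (Localization.Away (f i))).app ω) h2
  exact isDualizing_of_away_cover_FD (Set.range f) hf (Set.finite_range f) ω
    (fun r => key r.1 r.2)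

end Away

end Groth.Agent.Lib.DualLocCover25
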