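import Mathlib

/-!
# Unramifiedness over an algebraically closed field via dual-number points (helper37)

`formallyUnramified_of_dualNumber_inj`: a finite type algebra `R` over an algebraically closed field
`k` such that two `k`-algebra maps `R → k[ε]` agreeing modulo `ε` are equal is formally unramified.
-/

set_option autoImplicit false
universe u

namespace Groth.Agent.Lib.DualNumberUnramified

open KaehlerDifferential

/-- A nonzero finite module has a maximal ideal `𝔪` with `𝔪 M ≠ M`. -/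
lemma exists_isMaximal_smul_top_ne {R M : Type*} [CommRing R] [AddCommGroup M] [Module R M]
    [Module.Finite R M] [Nontrivial M] :
    ∃ 𝔪 : Ideal R, 𝔪.IsMaximal ∧ 𝔪 • (⊤ : Submodule R M) ≠ ⊤ := by
  by_contra hall
  push Not at hall
  have hann : (⊤ : Submodule R M).annihilator = ⊤ := by
    by_contra hA
    obtain ⟨𝔪, h𝔪, hle⟩ := Ideal.exists_le_maximal _ hA
    obtain ⟨r, hr1, hr0⟩ := Submodule.exists_sub_one_mem_and_smul_eq_zero_of_fg_of_le_smul 𝔪
      (⊤ : Submodule R M) Module.Finite.fg_top (hall 𝔪 h𝔪).ge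
    have h1 : r ∈ (⊤ : Submodule R M).annihilator :=
      Submodule.mem_annihilator.mpr (fun n hn => hr0 n hn)
    have h2 : r ∈ 𝔪 := hle h1
    refine h𝔪.ne_top ((Ideal.eq_top_iff_one _).mpr ?_)
    have := 𝔪.sub_mem h2 hr1
    simpa using this
  have h1 : (1 : R) ∈ (⊤ : Submodule R M).annihilator := hann ▸ Submodule.mem_top
  obtain ⟨x, y, hxy⟩ := exists_pair_ne M
  apply hxy
  have := Submodule.mem_annihilator.mp h1
  rw [← one_smul R x, ← one_smul R y, this x trivial, this y trivial]

variable (k : Type u) [Field k] [IsAlgClosed k] (R : Type u) [CommRing R] [Algebra k R]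

/-- The `k`-algebra map `R → k[ε]`, `a ↦ e(ā) + e(D a) ε` attached to a derivation into a residue
field identified with `k`. -/
noncomputable def dualHom {F : Type u} [Field F] [Algebra k F] [Algebra R F] [IsScalarTower k R F]
    (e : F ≃ₐ[k] k) (D : Derivation k R F) : R →ₐ[k] DualNumber k where
  toFun a := TrivSqZeroExt.inl (e (algebraMap R F a)) + TrivSqZeroExt.inr (e (D a))
  map_one' := by simp
  map_zero' := by simp
  map_add' a b := by
    simp only [map_add, TrivSqZeroExt.inl_add, TrivSqZeroExt.inr_add]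
    abel
  map_mul' a b := by
    ext
    · simp
    · simp only [Derivation.leibniz, Algebra.smul_def, map_add, map_mul, TrivSqZeroExt.snd_add,
        TrivSqZeroExt.snd_inl, TrivSqZeroExt.snd_inr, zero_add, TrivSqZeroExt.snd_mul,
        TrivSqZeroExt.fst_add, TrivSqZeroExt.fst_inl, TrivSqZeroExt.fst_inr, add_zero,
        MulOpposite.smul_eq_mul_unop, MulOpposite.unop_op, Algebra.algebraMap_self,
        RingHom.id_apply]
      ring
  commutes' c := by
    have h1 : algebraMap R F (algebraMap k R c) = algebraMap k F c :=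
      (IsScalarTower.algebraMap_apply k R F c).symm
    simp only [h1, Derivation.map_algebraMap, map_zero, TrivSqZeroExt.inr_zero, add_zero,
      AlgEquiv.commutes]
    rfl

lemma snd_dualHom {F : Type u} [Field F] [Algebra k F] [Algebra R F] [IsScalarTower k R F]
    (e : F ≃ₐ[k] k) (D : Derivation k R F) (a : R) :
    TrivSqZeroExt.snd (dualHom k R e D a) = e (D a) := by
  simp [dualHom]

lemma fst_dualHom {F : Type u} [Field F] [Algebra k F] [Algebra R F] [IsScalarTower k R F]
    (e : F ≃ₐ[k] k) (D : Derivation k R F) (a : R) :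
    TrivSqZeroExt.fst (dualHom k R e D a) = e (algebraMap R F a) := by
  simp [dualHom]

theorem formallyUnramified_of_dualNumber_inj [Algebra.FiniteType k R]
    (H : ∀ g₁ g₂ : R →ₐ[k] DualNumber k,
      (TrivSqZeroExt.fstHom k k k).comp g₁ = (TrivSqZeroExt.fstHom k k k).comp g₂ → g₁ = g₂) :
    Algebra.FormallyUnramified k R := by
  constructor
  by_contra hne
  rw [not_subsingleton_iff_nontrivial] at hne
  obtain ⟨𝔪, h𝔪, hne'⟩ := exists_isMaximal_smul_top_ne (R := R) (M := Ω[R⁄k])
  let : Field (R ⧸ 𝔪) := Ideal.Quotient.field 𝔪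
  have hft : Algebra.FiniteType k (R ⧸ 𝔪) :=
    Algebra.FiniteType.of_surjective (Ideal.Quotient.mkₐ k 𝔪) (Ideal.Quotient.mkₐ_surjective k 𝔪)
  have hfin : Module.Finite k (R ⧸ 𝔪) := finite_of_finite_type_of_isJacobsonRing k (R ⧸ 𝔪)
  have hbij : Function.Bijective (algebraMap k (R ⧸ 𝔪)) :=
    IsAlgClosed.algebraMap_bijective_of_isIntegral
  let e : (R ⧸ 𝔪) ≃ₐ[k] k := (AlgEquiv.ofBijective (Algebra.ofId k (R ⧸ 𝔪)) hbij).symm
  obtain ⟨v, hv⟩ : ∃ v : Ω[R⁄k], v ∉ 𝔪 • (⊤ : Submodule R Ω[R⁄k]) := by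
    by_contra h
    push Not at h
    exact hne' (eq_top_iff.mpr fun x _ => h x)
  have hv' : (Submodule.Quotient.mk v : Ω[R⁄k] ⧸ (𝔪 • (⊤ : Submodule R Ω[R⁄k]))) ≠ 0 := by
    rwa [Ne, Submodule.Quotient.mk_eq_zero]
  obtain ⟨φ, hφ⟩ : ∃ φ : Module.Dual (R ⧸ 𝔪) (Ω[R⁄k] ⧸ (𝔪 • (⊤ : Submodule R Ω[R⁄k]))),
      φ (Submodule.Quotient.mk v) ≠ 0 := by
    by_contra h
    push Not at h
    exact hv' ((Module.forall_dual_apply_eq_zero_iff (R ⧸ 𝔪) _).mp h)
  let L : Ω[R⁄k] →ₗ[R] (R ⧸ 𝔪) :=
    (φ.restrictScalars R).comp (Submodule.mkQ (𝔪 • (⊤ : Submodule R Ω[R⁄k])))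
  let D : Derivation k R (R ⧸ 𝔪) := L.compDer (KaehlerDifferential.D k R)
  have hD : ∀ a, D a = 0 := by
    intro a
    have h1 := H (dualHom k R e D) (dualHom k R e 0) (by
      ext b
      simp [fst_dualHom])
    have h2 := congrArg (fun g => TrivSqZeroExt.snd (g a)) h1
    simp only [snd_dualHom, Derivation.coe_zero, Pi.zero_apply, map_zero] at h2
    exact e.injective (by simpa using h2)
  have hL : L = 0 := by
    refine LinearMap.ext_on (KaehlerDifferential.span_range_derivation k R) ?_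
    rintro _ ⟨a, rfl⟩
    exact hD a
  apply hφ
  have : L v = 0 := by rw [hL]; rfl
  exact this

end Groth.Agent.Lib.DualNumberUnramified
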