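import Groth.Agent.Lib.SheafHomAdj23

set_option autoImplicit false
set_option linter.unusedVariables false
universe u
open CategoryTheory AlgebraicGeometry TopologicalSpace Opposite
open Groth.Agent.Lib.H90Invertible Groth.Agent.Lib.H78TensorGen Groth.Agent.Lib.H78Atlas
open Groth.Agent.Lib.InvGlue42 Groth.Agent.Lib.H4TensorPair Groth.Agent.Lib.H4ModHom
open Groth.Agent.Lib.OXModTensor Groth.Agent.Lib.TwistEquiv Groth.Agent.Lib.ProjFormulaFLF23
open Groth.Agent.Lib.TensorBasis23 Groth.Agent.Lib.StructureModule Groth.Agent.Lib.SheafHom23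
open Groth.Agent.Lib.H78SecCoord

namespace Groth.Agent.Lib.DualPair23

variable {X : Scheme.{u}}

section Coord

variable {L : X.Modules} {V : X.Opens} {n : ℕ} {s : Fin n → Γ(L, V)} (hs : IsBasis L V s)

/-- coordinates with respect to a local basis -/
noncomputable def coord {W : X.Opens} (h : W ≤ V) (t : Γ(L, W)) : Fin n → Γ(X, W) :=
  (Equiv.ofBijective _ (hs W h)).symm t

lemma sum_coord {W : X.Opens} (h : W ≤ V) (t : Γ(L, W)) :
    ∑ i, coord hs h t i • rs L h (s i) = t :=
  (Equiv.ofBijective _ (hs W h)).apply_symm_apply t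

lemma coord_sum {W : X.Opens} (h : W ≤ V) (a : Fin n → Γ(X, W)) :
    coord hs h (∑ i, a i • rs L h (s i)) = a :=
  (Equiv.ofBijective _ (hs W h)).symm_apply_apply a

lemma coord_eq_of_sum {W : X.Opens} (h : W ≤ V) (t : Γ(L, W)) (a : Fin n → Γ(X, W))
    (ha : ∑ i, a i • rs L h (s i) = t) : coord hs h t = a := by
  rw [← ha, coord_sum]

lemma coord_add {W : X.Opens} (h : W ≤ V) (t t' : Γ(L, W)) :
    coord hs h (t + t') = coord hs h t + coord hs h t' := by
  refine coord_eq_of_sum hs h _ _ ?_
  simp only [Pi.add_apply, add_smul, Finset.sum_add_distrib, sum_coord]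

lemma coord_smul {W : X.Opens} (h : W ≤ V) (r : Γ(X, W)) (t : Γ(L, W)) :
    coord hs h (r • t) = r • coord hs h t := by
  refine coord_eq_of_sum hs h _ _ ?_
  simp only [Pi.smul_apply, smul_eq_mul, mul_smul]
  rw [← Finset.smul_sum, sum_coord]

lemma coord_rs {W W' : X.Opens} (h : W ≤ V) (h' : W' ≤ W) (t : Γ(L, W)) (i : Fin n) :
    coord hs (h'.trans h) (rs L h' t) i = rf h' (coord hs h t i) := by
  have : coord hs (h'.trans h) (rs L h' t) = fun i => rf h' (coord hs h t i) := by
    refine coord_eq_of_sum hs _ _ _ ?_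
    have h1 := congrArg (rs L h') (sum_coord hs h t)
    rw [rs_sum] at h1
    refine Eq.trans (Finset.sum_congr rfl fun i _ => ?_) h1
    rw [rs_smul, rs_rs]
  exact congrFun this i

lemma coord_basis [DecidableEq (Fin n)] {W : X.Opens} (h : W ≤ V) (j : Fin n) (i : Fin n) :
    coord hs h (rs L h (s j)) i = if i = j then 1 else 0 := by
  have : coord hs h (rs L h (s j)) = fun i => if i = j then (1 : Γ(X, W)) else 0 := by
    refine coord_eq_of_sum hs h _ _ ?_
    rw [Finset.sum_eq_single j]
    · rw [if_pos rfl, one_smul]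
    · intro i _ hij
      rw [if_neg hij, zero_smul]
    · intro hj
      exact absurd (Finset.mem_univ j) hj
  exact congrFun this i

end Coord


section Pairing

variable {A B : X.Modules} (β : Pairing B A (Coh.structureModule X))

/-- the scalar value of the pairing -/
noncomputable def sval {W : X.Opens} (b : Γ(B, W)) (a : Γ(A, W)) : Γ(X, W) :=
  ofSec X W (β.toFun W b a)

lemma sval_add_left {W : X.Opens} (b b' : Γ(B, W)) (a : Γ(A, W)) :
    sval β (b + b') a = sval β b a + sval β b' a := β.add_left W b b' a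

lemma sval_add_right {W : X.Opens} (b : Γ(B, W)) (a a' : Γ(A, W)) :
    sval β b (a + a') = sval β b a + sval β b a' := β.add_right W b a a'

lemma sval_smul_left {W : X.Opens} (r : Γ(X, W)) (b : Γ(B, W)) (a : Γ(A, W)) :
    sval β (r • b) a = r * sval β b a := β.smul_left W r b a

lemma sval_smul_right {W : X.Opens} (r : Γ(X, W)) (b : Γ(B, W)) (a : Γ(A, W)) :
    sval β b (r • a) = r * sval β b a := β.smul_right W r b a

lemma sval_rs {W W' : X.Opens} (h : W' ≤ W) (b : Γ(B, W)) (a : Γ(A, W)) :
    rf h (sval β b a) = sval β (rs B h b) (rs A h a) := β.map h b a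

variable (N : X.Modules)

/-- the family `a ↦ β(b, a) • n` -/
noncomputable def pfam {U : X.Opens} (n : Γ(N, U)) (b : Γ(B, U)) : Γ(hom A N, U) :=
  ofFam (mk' (fun W h a => sval β (rs B h b) a • rs N h n)
    (fun W h a a' => by rw [sval_add_right, add_smul])
    (fun W h r a => by rw [sval_smul_right, mul_smul])
    (fun W W' h h' a => by rw [rs_smul, sval_rs, rs_rs, rs_rs]))

lemma pfam_hev {U : X.Opens} (n : Γ(N, U)) (b : Γ(B, U)) (W : X.Opens) (h : W ≤ U) (a : Γ(A, W)) :
    hev (pfam β N n b) W h a = sval β (rs B h b) a • rs N h n := rfl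

/-- the pairing `N × B → ℋom(A, N)` -/
noncomputable def homPairing : Pairing N B (hom A N) where
  toFun U n b := pfam β N n b
  add_left U n n' b := hom_sec_ext fun W h a => by
    rw [add_hev, pfam_hev, pfam_hev, pfam_hev, SheafHom23.rs_add, smul_add]
  add_right U n b b' := hom_sec_ext fun W h a => by
    rw [add_hev, pfam_hev, pfam_hev, pfam_hev, SheafHom23.rs_add, sval_add_left, add_smul]
  smul_left U r n b := hom_sec_ext fun W h a => by
    rw [smul_hev, pfam_hev, pfam_hev, rs_smul, smul_comm]
  smul_right U r n b := hom_sec_ext fun W h a => by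
    rw [smul_hev, pfam_hev, pfam_hev, rs_smul, sval_smul_left, mul_smul]
  map {U V} h n b := hom_sec_ext fun W hW a => by
    change hev (rs (hom A N) h (pfam β N n b)) W hW a = _
    rw [rs_hev, pfam_hev, pfam_hev, rs_rs, rs_rs]

/-- the comparison `N ⊗ B ⟶ ℋom(A, N)` -/
noncomputable def compHom : CohB1.tensorMod N B ⟶ hom A N := (homPairing β N).hom

lemma compHom_app_tmul {U : X.Opens} (n : Γ(N, U)) (b : Γ(B, U)) :
    (compHom β N).app U (tmul n b) = pfam β N n b := hom_app_tmul (homPairing β N) U n b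


open Groth.Agent.Lib.H4KoszulPn in
lemma compHom_naturality {N N' : X.Modules} (g : N ⟶ N') :
    tensorModMap g (𝟙 B) ≫ compHom β N' = compHom β N ≫ homMap A g := by
  refine hom_ext_tmul _ _ fun V n b => ?_
  change (compHom β N').app V ((tensorModMap g (𝟙 B)).app V (tmul n b)) =
    (homMap A g).app V ((compHom β N).app V (tmul n b))
  rw [tensorModMap_tmul, compHom_app_tmul, compHom_app_tmul]
  refine hom_sec_ext fun W hW a => ?_
  rw [homMap_app_hev, pfam_hev, pfam_hev, Scheme.Modules.Hom.app_smul, homMap_natural_aux]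
  rfl

/-- the comparison as a natural transformation `- ⊗ B ⟹ ℋom(A, -)` -/
noncomputable def compNat : tensorRightFunctor B ⟶ homFunctor A where
  app N := compHom β N
  naturality N N' g := compHom_naturality β g

/-- dual bases of a pairing over an open -/
structure DualBases (V : X.Opens) (n : ℕ) where
  a : Fin n → Γ(A, V)
  b : Fin n → Γ(B, V)
  ha : IsBasis A V a
  hb : IsBasis B V b
  dual : ∀ i j, sval β (b i) (a j) = if i = j then 1 else 0

/-- a pairing is perfect if it admits dual bases locally -/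
def IsPerfect : Prop := ∀ x : X, ∃ (V : X.Opens) (n : ℕ), x ∈ V ∧ Nonempty (DualBases β V n)

variable {β}

lemma DualBases.dual_rs {V : X.Opens} {n : ℕ} (D : DualBases β V n) {W : X.Opens} (h : W ≤ V)
    (i j : Fin n) : sval β (rs B h (D.b i)) (rs A h (D.a j)) = if i = j then 1 else 0 := by
  rw [← sval_rs, D.dual]
  split_ifs
  · exact map_one _
  · exact map_zero _

/-- sections of `ℋom(A, N)` are determined by their values on a basis of `A` -/
lemma hom_sec_ext_basis {V : X.Opens} {n : ℕ} {a : Fin n → Γ(A, V)} (ha : IsBasis A V a)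
    (N : X.Modules) {W : X.Opens} (hW : W ≤ V) {s t : Γ(hom A N, W)}
    (h : ∀ j, hev s W le_rfl (rs A hW (a j)) = hev t W le_rfl (rs A hW (a j))) : s = t := by
  refine hom_sec_ext fun W' hW' x => ?_
  have hx := sum_coord ha (hW'.trans hW) x
  rw [← hx]
  have key : ∀ (u : Γ(hom A N, W)), hev u W' hW' (∑ i, coord ha (hW'.trans hW) x i •
      rs A (hW'.trans hW) (a i)) = ∑ i, coord ha (hW'.trans hW) x i •
        rs N hW' (hev u W le_rfl (rs A hW (a i))) := by
    intro u
    have h1 : ∀ (f : Fin n → Γ(A, W')), hev u W' hW' (∑ i, f i) = ∑ i, hev u W' hW' (f i) := by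
      intro f
      exact map_sum ((toFam u).1 ⟨W', hW'⟩) f Finset.univ
    rw [h1]
    refine Finset.sum_congr rfl fun i _ => ?_
    rw [hev_smul, hev_rs, rs_rs]
  rw [key s, key t]
  refine Finset.sum_congr rfl fun i _ => ?_
  rw [h i]

theorem compHom_app_bijective {V : X.Opens} {n : ℕ} (D : DualBases β V n) (N : X.Modules)
    {W : X.Opens} (hW : W ≤ V) : Function.Bijective ((compHom β N).app W) := by
  classical
  -- f : N(W)^n → Γ(W, N ⊗ B), bijective
  let f : (Fin n → Γ(N, W)) → Γ(CohB1.tensorMod N B, W) :=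
    fun y => ∑ i, tmul (y i) (rs B hW (D.b i))
  have hf : Function.Bijective f := tmul_basis_bijective N D.hb hW
  -- h : Γ(W, ℋom(A,N)) → N(W)^n, injective
  let hh : Γ(hom A N, W) → (Fin n → Γ(N, W)) := fun s j => hev s W le_rfl (rs A hW (D.a j))
  have hhinj : Function.Injective hh := fun s t hst =>
    hom_sec_ext_basis D.ha N hW fun j => congrFun hst j
  have hcomp : ∀ y, hh ((compHom β N).app W (f y)) = y := by
    intro y
    funext j
    change hev ((compHom β N).app W (∑ i, tmul (y i) (rs B hW (D.b i)))) W le_rfl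
      (rs A hW (D.a j)) = y j
    have h1 : (compHom β N).app W (∑ i, tmul (y i) (rs B hW (D.b i))) =
        ∑ i, (compHom β N).app W (tmul (y i) (rs B hW (D.b i))) :=
      map_sum ((compHom β N).app W).hom _ _
    rw [h1]
    have h2 : ∀ (u : Fin n → Γ(hom A N, W)), hev (∑ i, u i) W le_rfl (rs A hW (D.a j)) =
        ∑ i, hev (u i) W le_rfl (rs A hW (D.a j)) := by
      intro u
      induction (Finset.univ : Finset (Fin n)) using Finset.induction_on with
      | empty => rfl
      | insert k S hk ih =>
        rw [Finset.sum_insert hk, Finset.sum_insert hk, add_hev, ih]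
    rw [h2]
    rw [Finset.sum_eq_single j]
    · rw [compHom_app_tmul, pfam_hev, rs_self, rs_self, D.dual_rs, if_pos rfl, one_smul]
    · intro i _ hij
      rw [compHom_app_tmul, pfam_hev, rs_self, rs_self, D.dual_rs, if_neg hij, zero_smul]
    · intro hj
      exact absurd (Finset.mem_univ j) hj
  constructor
  · intro q q' hqq'
    obtain ⟨y, rfl⟩ := hf.2 q
    obtain ⟨y', rfl⟩ := hf.2 q'
    have := congrArg hh hqq'
    rw [hcomp, hcomp] at this
    rw [this]
  · intro s
    refine ⟨f (hh s), hhinj ?_⟩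
    rw [hcomp]


theorem isIso_compHom (hβ : IsPerfect β) (N : X.Modules) : IsIso (compHom β N) := by
  choose V n hxV D using hβ
  have hU : ⨆ x, V x = ⊤ := by
    rw [eq_top_iff]
    intro x _
    exact Opens.mem_iSup.2 ⟨x, hxV x⟩
  refine Groth.Agent.Lib.H90OXModLocal.isIso_of_small hU _ fun W ⟨x, hx⟩ => ?_
  rw [ConcreteCategory.isIso_iff_bijective]
  exact compHom_app_bijective (D x).some N hx

/-- for a perfect pairing `B × A → O`: `- ⊗ B ≅ ℋom(A, -)` -/
noncomputable def compNatIso (hβ : IsPerfect β) : tensorRightFunctor B ≅ homFunctor A :=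
  haveI : ∀ N, IsIso ((compNat β).app N) := fun N => isIso_compHom hβ N
  NatIso.ofComponents (fun N => asIso ((compNat β).app N)) (fun g => (compNat β).naturality g)

/-- for a perfect pairing `B × A → O`: `- ⊗ A ⊣ - ⊗ B` -/
noncomputable def dualAdj (hβ : IsPerfect β) : tensorRightFunctor A ⊣ tensorRightFunctor B :=
  (tensorHomAdj A).ofNatIsoRight (compNatIso hβ).symm

end Pairing

section Swap

variable {A B : X.Modules} (β : Pairing B A (Coh.structureModule X))

/-- the swapped pairing -/
noncomputable def swap : Pairing A B (Coh.structureModule X) where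
  toFun U a b := β.toFun U b a
  add_left U a a' b := β.add_right U b a a'
  add_right U a b b' := β.add_left U b b' a
  smul_left U r a b := β.smul_right U r b a
  smul_right U r a b := β.smul_left U r b a
  map {U V} h a b := β.map h b a

variable {β}

theorem isPerfect_swap (hβ : IsPerfect β) : IsPerfect (swap β) := by
  intro x
  obtain ⟨V, n, hx, ⟨D⟩⟩ := hβ x
  refine ⟨V, n, hx, ⟨{ a := D.b, b := D.a, ha := D.hb, hb := D.ha, dual := fun i j => ?_ }⟩⟩
  change sval β (D.b j) (D.a i) = _
  rw [D.dual]
  by_cases h : i = j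
  · rw [if_pos h, if_pos h.symm]
  · rw [if_neg h, if_neg (fun h' => h h'.symm)]

end Swap

end Groth.Agent.Lib.DualPair23
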