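import Groth.Agent.Lib.HomKInj25

/-!
# Contravariant functoriality of `Hom•(-, L)`; tensor with a module in degree `0` (helper25)

* `homCxPre u L : homCx K L ⟶ homCx K' L` for `u : K' ⟶ K`, `homCxPreIso`.
* `tensorSingleIso M X : (M[0]) ⊗ X ≅ (M ⊗ Xⁿ)ₙ`.
* `tensorSingleSingleIso M N : M[0] ⊗ N[0] ≅ (M ⊗ N)[0]`.
* `isKFlat_single`: `N[0]` is K-flat for `N` flat.
-/

set_option autoImplicit false
universe u

open CategoryTheory Category Limits MonoidalCategory CochainComplex HomComplex

namespace Groth.Agent.Lib.HomTensor25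

open Groth.Agent.Lib.TensorCxZ35 (ι pr)

variable {A : Type u} [CommRing A]

section pre

variable {K K' K'' : DRing.Cx A}

/-- precomposition with `u` as a linear map on cochains -/
noncomputable def precompLin (u : K' ⟶ K) (L : DRing.Cx A) (i : ℤ) :
    Cochain K L i →ₗ[A] Cochain K' L i where
  toFun z := (Cochain.ofHom u).comp z (zero_add i)
  map_add' z z' := by simp
  map_smul' a z := by simp

/-- Functoriality of `Hom•(-, L)` in the first variable. -/
noncomputable def homCxPre (u : K' ⟶ K) (L : DRing.Cx A) : DRing.homCx K L ⟶ DRing.homCx K' L where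
  f i := ModuleCat.ofHom (precompLin u L i)
  comm' i j _ := by
    apply ModuleCat.hom_ext
    apply LinearMap.ext
    intro z
    change δ i j ((Cochain.ofHom u).comp z (zero_add i)) =
      (Cochain.ofHom u).comp (δ i j z) (zero_add j)
    exact δ_ofHom_comp u z j

lemma homCxPre_id (L : DRing.Cx A) : homCxPre (𝟙 K) L = 𝟙 _ := by
  apply HomologicalComplex.hom_ext
  intro i
  apply ModuleCat.hom_ext
  apply LinearMap.ext
  intro z
  exact Cochain.id_comp (F := K) (G := L) z

lemma homCxPre_comp (u : K' ⟶ K) (v : K'' ⟶ K') (L : DRing.Cx A) :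
    homCxPre (v ≫ u) L = homCxPre u L ≫ homCxPre v L := by
  apply HomologicalComplex.hom_ext
  intro i
  apply ModuleCat.hom_ext
  apply LinearMap.ext
  intro z
  change (Cochain.ofHom (v ≫ u)).comp z (zero_add i) =
    (Cochain.ofHom v).comp ((Cochain.ofHom u).comp z (zero_add i)) (zero_add i)
  rw [Cochain.ofHom_comp, Cochain.comp_assoc_of_first_is_zero_cochain]

/-- `Hom•(-, L)` on isomorphisms -/
noncomputable def homCxPreIso (e : K ≅ K') (L : DRing.Cx A) : DRing.homCx K L ≅ DRing.homCx K' L where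
  hom := homCxPre e.inv L
  inv := homCxPre e.hom L
  hom_inv_id := by rw [← homCxPre_comp, e.hom_inv_id, homCxPre_id]
  inv_hom_id := by rw [← homCxPre_comp, e.inv_hom_id, homCxPre_id]

end pre

section single

variable (M : ModuleCat.{u} A) (X : DRing.Cx A)

/-- `M[0]` -/
noncomputable abbrev sg : DRing.Cx A :=
  (HomologicalComplex.single (ModuleCat.{u} A) (ComplexShape.up ℤ) 0).obj M

/-- the degree `0` term of `M[0]` is `M` -/
noncomputable abbrev e0 : (sg M).X 0 ≅ M :=
  HomologicalComplex.singleObjXSelf (ComplexShape.up ℤ) 0 M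

lemma sg_eq_zero {i : ℤ} (hi : i ≠ 0) (x : (sg M).X i) : x = 0 := by
  have h := HomologicalComplex.isZero_single_obj_X (ComplexShape.up ℤ) 0 M i hi
  have : Subsingleton ((sg M).X i) := ModuleCat.subsingleton_of_isZero h
  exact Subsingleton.elim _ _

/-- termwise tensor product with `M` -/
noncomputable abbrev GM : DRing.Cx A ⥤ DRing.Cx A :=
  (tensorLeft M).mapHomologicalComplex (ComplexShape.up ℤ)

lemma tm_zero_left {K L : DRing.Cx A} {i j : ℤ} (n : ℤ) (h : i + j = n) (y : L.X j) :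
    tm (K := K) n h 0 y = 0 := by
  have := tm_smul_left (K := K) n h (0 : A) 0 y
  simpa using this

/-- the map `M ⊗ Xⁿ ⟶ (M[0] ⊗ X)ⁿ` -/
noncomputable def tsInv (n : ℤ) : M ⊗ X.X n ⟶ (T (sg M) X).X n :=
  ((e0 M).inv ▷ X.X n) ≫ ι (sg M) X 0 n n (zero_add n)

/-- the map `(M[0] ⊗ X)ⁿ ⟶ M ⊗ Xⁿ` -/
noncomputable def tsHom (n : ℤ) : (T (sg M) X).X n ⟶ M ⊗ X.X n :=
  pr (sg M) X 0 n n (zero_add n) ≫ ((e0 M).hom ▷ X.X n)

lemma tsInv_apply (n : ℤ) (m : M) (y : X.X n) :
    (tsInv M X n).hom (m ⊗ₜ[A] y) = tm n (zero_add n) ((e0 M).inv.hom m) y := rfl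

lemma tsInv_tsHom (n : ℤ) : tsInv M X n ≫ tsHom M X n = 𝟙 _ := by
  unfold tsInv tsHom
  rw [Category.assoc, Groth.Agent.Lib.TensorCxZ35.ι_pr_self_assoc, ← comp_whiskerRight,
    Iso.inv_hom_id, id_whiskerRight]

lemma tsHom_tsInv (n : ℤ) : tsHom M X n ≫ tsInv M X n = 𝟙 _ := by
  apply hom_ext_tm
  intro i j h x y
  by_cases hi : i = 0
  · subst hi
    obtain rfl : j = n := by omega
    simp only [ModuleCat.hom_comp, LinearMap.comp_apply, ModuleCat.hom_id, LinearMap.id_apply]
    unfold tsHom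
    simp only [ModuleCat.hom_comp, LinearMap.comp_apply]
    unfold tm
    rw [Groth.Agent.Lib.TensorCxZ35.pr_ι_apply]
    change (tsInv M X j).hom (((e0 M).hom.hom x) ⊗ₜ[A] y) = _
    rw [tsInv_apply]
    have : (e0 M).inv.hom ((e0 M).hom.hom x) = x := by
      have := congrArg (fun f => f.hom x) (e0 M).hom_inv_id
      exact this
    rw [this]
    rfl
  · rw [sg_eq_zero M hi x, tm_zero_left, map_zero, map_zero]

lemma sg_d_apply (i j : ℤ) (x : (sg M).X i) : ((sg M).d i j).hom x = 0 := by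
  rw [HomologicalComplex.single_obj_d]
  rfl

lemma tsInv_comm (n : ℤ) :
    tsInv M X n ≫ (T (sg M) X).d n (n + 1) =
      (M ◁ X.d n (n + 1)) ≫ tsInv M X (n + 1) := by
  apply ModuleCat.MonoidalCategory.tensor_ext
  intro m y
  rw [ModuleCat.hom_comp, LinearMap.comp_apply, ModuleCat.hom_comp, LinearMap.comp_apply]
  rw [tsInv_apply, d_tm, sg_d_apply, tm_zero_left, zero_add, Int.negOnePow_zero, one_smul]
  change _ = (tsInv M X (n + 1)).hom (m ⊗ₜ[A] (X.d n (n + 1)).hom y)
  rw [tsInv_apply]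

/-- `(M ⊗ Xⁿ)ₙ ≅ M[0] ⊗ X` -/
noncomputable def tensorSingleIso : (GM M).obj X ≅ T (sg M) X :=
  HomologicalComplex.Hom.isoOfComponents
    (fun n => { hom := tsInv M X n, inv := tsHom M X n,
                hom_inv_id := tsInv_tsHom M X n, inv_hom_id := tsHom_tsInv M X n })
    (by
      rintro i j (rfl : i + 1 = j)
      exact tsInv_comm M X i)

/-- `(M ⊗ N)[0] ≅ M[0] ⊗ N[0]` -/
noncomputable def tensorSingleSingleIso (N : ModuleCat.{u} A) :
    sg (M ⊗ N) ≅ T (sg M) (sg N) :=
  ((HomologicalComplex.singleMapHomologicalComplex (tensorLeft M) (ComplexShape.up ℤ) 0).app N).symm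
    ≪≫ tensorSingleIso M (sg N)

/-- a flat module placed in degree `0` is K-flat -/
theorem isKFlat_single (N : ModuleCat.{u} A) [Module.Flat A N] :
    Groth.Agent.Lib.KFlat35.IsKFlat (sg N) := by
  apply isKFlat_of_flat (sg N) ?_ 0 ?_
  · intro i
    by_cases hi : i = 0
    · subst hi
      exact Module.Flat.of_linearEquiv (e0 N).toLinearEquiv
    · have h := HomologicalComplex.isZero_single_obj_X (ComplexShape.up ℤ) 0 N i hi
      have : Subsingleton ((sg N).X i) := ModuleCat.subsingleton_of_isZero h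
      infer_instance
  · intro i hi
    exact HomologicalComplex.isZero_single_obj_X (ComplexShape.up ℤ) 0 N i (by omega)

end single

end Groth.Agent.Lib.HomTensor25
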