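import Groth.Agent.Lib.RHomCxProj25
import Groth.Agent.Lib.HomCxPre25

/-!
# `Hom•(u, J)` is a quasi-isomorphism for `u` a quasi-isomorphism and `J` K-injective; computing
`RHom(E, -)` through a K-projective replacement of `E` (helper57)
-/

set_option autoImplicit false
universe u

open CategoryTheory Limits CochainComplex HomComplex

attribute [local instance] HasDerivedCategory.standard

namespace Groth.Agent.Lib.DualPerf57

open Groth.Agent.Lib.RHomCx25 Groth.Agent.Lib.HomTensor25

variable {A : Type u} [CommRing A]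

lemma homCxPre_f_apply {K K' : DRing.Cx A} (u : K' ⟶ K) (L : DRing.Cx A) (i : ℤ)
    (z : Cochain K L i) :
    ((homCxPre u L).f i).hom z = (Cochain.ofHom u).comp z (zero_add i) := rfl

/-- Abstract criterion: `Hom•(u, L)` is a quasi-isomorphism as soon as precomposition with `u`
is bijective on morphisms into all shifts of `L` in the homotopy category. -/
theorem quasiIso_homCxPre_of_bijective {K K' : DRing.Cx A} (u : K' ⟶ K) (L : DRing.Cx A)
    (hbij : ∀ n : ℤ, Function.Bijective
      (fun g : (HomotopyCategory.quotient (ModuleCat.{u} A) (ComplexShape.up ℤ)).obj K ⟶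
          (HomotopyCategory.quotient (ModuleCat.{u} A) (ComplexShape.up ℤ)).obj (L⟦n⟧) =>
        (HomotopyCategory.quotient (ModuleCat.{u} A) (ComplexShape.up ℤ)).map u ≫ g)) :
    QuasiIso (homCxPre u L) := by
  have key : ∀ (n : ℤ) (α : Cocycle K L n),
      CohomologyClass.toHom (CohomologyClass.mk (α.precomp u)) =
        (HomotopyCategory.quotient (ModuleCat.{u} A) (ComplexShape.up ℤ)).map u ≫
          CohomologyClass.toHom (CohomologyClass.mk α) := by
    intro n α
    rw [CohomologyClass.toHom_mk, CohomologyClass.toHom_mk, Cocycle.equivHomShift_symm_precomp,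
      Functor.map_comp]
  apply Groth.Agent.Lib.ModCxElem25.quasiIso_of_elementwise
  · intro i j k hij hjk (x : Cochain K L j) hx hy
    obtain ⟨y, hy⟩ := hy
    let α : Cocycle K L j := Cocycle.mk (x : Cochain K L j) k hjk hx
    have h1 : α.precomp u ∈ coboundaries K' L j := by
      rw [mem_coboundaries_iff _ i hij]
      exact ⟨y, hy⟩
    have h2 : CohomologyClass.toHom (CohomologyClass.mk α) = 0 := by
      apply (hbij j).1
      change _ ≫ _ = _ ≫ 0
      rw [← key, comp_zero, CohomologyClass.toHom_mk_eq_zero_iff]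
      exact h1
    rw [CohomologyClass.toHom_mk_eq_zero_iff, mem_coboundaries_iff _ i hij] at h2
    obtain ⟨β, hβ⟩ := h2
    exact ⟨β, hβ⟩
  · intro i j k hij hjk (z : Cochain K' L j) hz
    let β : Cocycle K' L j := Cocycle.mk (z : Cochain K' L j) k hjk hz
    obtain ⟨g, hg⟩ := (hbij j).2 (CohomologyClass.toHom (CohomologyClass.mk β))
    obtain ⟨c, rfl⟩ := (CohomologyClass.toHom_bijective K L j).2 g
    obtain ⟨α, rfl⟩ := c.mk_surjective
    change _ ≫ _ = _ at hg
    rw [← key] at hg
    have h3 : CohomologyClass.mk (α.precomp u - β) = 0 := by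
      apply (CohomologyClass.toHom_bijective K' L j).1
      rw [CohomologyClass.mk_sub, map_sub, hg, sub_self, map_zero]
    rw [CohomologyClass.mk_eq_zero_iff, mem_coboundaries_iff _ i hij] at h3
    obtain ⟨w, hw⟩ := h3
    refine ⟨(α : Cochain K L j), -w, ?_, ?_⟩
    · exact Cocycle.δ_eq_zero α k
    · change z - δ i j (-w) = (Cochain.ofHom u).comp (α : Cochain K L j) (zero_add j)
      rw [δ_neg, hw]
      change z - -((Cochain.ofHom u).comp (α : Cochain K L j) (zero_add j) - z) = _
      abel

lemma bijective_precomp_of_Qh {X X' Y : HomotopyCategory (ModuleCat.{u} A) (ComplexShape.up ℤ)}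
    (φ : X' ⟶ X) (hφ : IsIso (DerivedCategory.Qh.map φ))
    (b1 : Function.Bijective (DerivedCategory.Qh.map : (X ⟶ Y) → _))
    (b2 : Function.Bijective (DerivedCategory.Qh.map : (X' ⟶ Y) → _)) :
    Function.Bijective (fun g : X ⟶ Y => φ ≫ g) := by
  constructor
  · intro g g' h
    apply b1.1
    have := congrArg DerivedCategory.Qh.map h
    simp only [Functor.map_comp] at this
    exact (cancel_epi _).mp this
  · intro h
    obtain ⟨g, hg⟩ := b1.2 (inv (DerivedCategory.Qh.map φ) ≫ DerivedCategory.Qh.map h)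
    refine ⟨g, b2.1 ?_⟩
    change DerivedCategory.Qh.map (φ ≫ g) = _
    rw [Functor.map_comp, hg]
    simp

/-- `Hom•(u, J)` is a quasi-isomorphism for `u` a quasi-isomorphism and `J` K-injective. -/
theorem quasiIso_homCxPre_of_isKInjective {K K' : DRing.Cx A} (u : K' ⟶ K) [QuasiIso u]
    (J : DRing.Cx A) [J.IsKInjective] : QuasiIso (homCxPre u J) := by
  apply quasiIso_homCxPre_of_bijective
  intro n
  exact bijective_precomp_of_Qh _ (isIso_Qh_map_quotient_map u)
    (CochainComplex.IsKInjective.Qh_map_bijective _ (J⟦n⟧))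
    (CochainComplex.IsKInjective.Qh_map_bijective _ (J⟦n⟧))

/-- If `P` is K-projective and `Q P ≅ Q E` in `D(A)`, then `RHom(E, Q L) ≅ Q (Hom•(P, L))` for
every complex `L`. -/
theorem nonempty_rhom_iso_of_kproj (E P : DRing.Cx A) [DRing.HasRHomCx E] [P.IsKProjective]
    (e : DerivedCategory.Q.obj P ≅ DerivedCategory.Q.obj E) (L : DRing.Cx A) :
    Nonempty ((DRing.RHomCx E).obj (DerivedCategory.Q.obj L) ≅
      DerivedCategory.Q.obj (DRing.homCx P L)) := by
  -- lift `e` to a chain map
  obtain ⟨g, hg⟩ := (CochainComplex.IsKProjective.Qh_map_bijective P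
    ((HomotopyCategory.quotient (ModuleCat.{u} A) (ComplexShape.up ℤ)).obj E)).2
    ((DerivedCategory.quotientCompQhIso (ModuleCat.{u} A)).hom.app P ≫ e.hom ≫
      (DerivedCategory.quotientCompQhIso (ModuleCat.{u} A)).inv.app E)
  obtain ⟨v, rfl⟩ := (HomotopyCategory.quotient (ModuleCat.{u} A) (ComplexShape.up ℤ)).map_surjective g
  have hv : DerivedCategory.Q.map v = e.hom := by
    have h1 := (DerivedCategory.quotientCompQhIso (ModuleCat.{u} A)).hom.naturality v
    simp only [Functor.comp_map] at h1
    rw [hg] at h1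
    simp only [Category.assoc, Iso.inv_hom_id_app, Category.comp_id] at h1
    exact ((cancel_epi _).mp h1).symm
  have hvq : QuasiIso v := by
    rw [← DerivedCategory.isIso_Q_map_iff_quasiIso, hv]
    infer_instance
  obtain ⟨J, j, hJ, hj⟩ := Groth.Agent.Lib.RGammaKInj.exists_kinj L
  have h1 : IsIso (DerivedCategory.Q.map j) := by
    rw [DerivedCategory.isIso_Q_map_iff_quasiIso]; exact hj
  have h2 : IsIso (DerivedCategory.Q.map (homCxPre v J)) := by
    rw [DerivedCategory.isIso_Q_map_iff_quasiIso]
    exact quasiIso_homCxPre_of_isKInjective v J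
  have h3 : IsIso (DerivedCategory.Q.map (DRing.homCxMap P j)) := by
    rw [DerivedCategory.isIso_Q_map_iff_quasiIso]
    exact quasiIso_homCxMap_of_isKProjective P j
  exact ⟨(DRing.RHomCx E).mapIso (asIso (DerivedCategory.Q.map j)) ≪≫ rhomIso E J ≪≫
    asIso (DerivedCategory.Q.map (homCxPre v J)) ≪≫
    (asIso (DerivedCategory.Q.map (DRing.homCxMap P j))).symm⟩

end Groth.Agent.Lib.DualPerf57
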