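import Groth.Agent.Lib.DualPerf57a

/-!
# The dual complex `Hom•(X, A[0])` and the double duality map (helper57)
-/

set_option autoImplicit false
universe u

open CategoryTheory Limits CochainComplex HomComplex

attribute [local instance] HasDerivedCategory.standard

namespace Groth.Agent.Lib.DualPerf57

open Groth.Agent.Lib.RHomCx25 Groth.Agent.Lib.HomTensor25

variable {A : Type u} [CommRing A]

/-- the component `(p, 0)` of a cochain `X ⟶ M[0]` of degree `n`, `p + n = 0` -/
noncomputable def compLin (X : DRing.Cx A) (M : ModuleCat.{u} A) (n p : ℤ) (h : p + n = 0) :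
    Cochain X (sg M) n →ₗ[A] (X.X p →ₗ[A] M) where
  toFun z := (z.v p 0 h ≫ (e0 M).hom).hom
  map_add' z z' := by
    rw [Cochain.add_v, Preadditive.add_comp, ModuleCat.hom_add]
  map_smul' a z := by
    rw [Cochain.smul_v, Linear.smul_comp, ModuleCat.hom_smul, RingHom.id_apply]

lemma compLin_injective (X : DRing.Cx A) (M : ModuleCat.{u} A) (n p : ℤ) (h : p + n = 0) :
    Function.Injective (compLin X M n p h) := by
  rw [← LinearMap.ker_eq_bot, LinearMap.ker_eq_bot']
  intro z hz
  apply Cochain.ext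
  intro p' q' hpq'
  by_cases hq : q' = 0
  · subst hq
    obtain rfl : p' = p := by omega
    have h1 : z.v p' 0 hpq' ≫ (e0 M).hom = 0 := ModuleCat.hom_ext hz
    rw [Cochain.zero_v]
    exact (cancel_mono (e0 M).hom).mp (by rw [h1, zero_comp])
  · exact (HomologicalComplex.isZero_single_obj_X (ComplexShape.up ℤ) 0 M q' hq).eq_of_tgt _ _

lemma compLin_surjective (X : DRing.Cx A) (M : ModuleCat.{u} A) (n p : ℤ) (h : p + n = 0) :
    Function.Surjective (compLin X M n p h) := by
  intro φ
  refine ⟨Cochain.single (ModuleCat.ofHom φ ≫ (e0 M).inv) n, ?_⟩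
  change (((Cochain.single (ModuleCat.ofHom φ ≫ (e0 M).inv) n).v p 0 h) ≫ (e0 M).hom).hom = φ
  rw [Cochain.single_v, Category.assoc, Iso.inv_hom_id, Category.comp_id]
  rfl

/-- cochains `X ⟶ M[0]` of degree `n` are the linear maps `X^p ⟶ M`, `p + n = 0` -/
noncomputable def dualEquiv (X : DRing.Cx A) (M : ModuleCat.{u} A) (n p : ℤ) (h : p + n = 0) :
    Cochain X (sg M) n ≃ₗ[A] (X.X p →ₗ[A] M) :=
  LinearEquiv.ofBijective (compLin X M n p h)
    ⟨compLin_injective X M n p h, compLin_surjective X M n p h⟩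

lemma dualEquiv_apply (X : DRing.Cx A) (M : ModuleCat.{u} A) (n p : ℤ) (h : p + n = 0)
    (z : Cochain X (sg M) n) (x : X.X p) :
    dualEquiv X M n p h z x = (e0 M).hom.hom ((z.v p 0 h).hom x) := rfl

variable (A) in
/-- `A[0]` -/
noncomputable abbrev A0 : DRing.Cx A := sg (ModuleCat.of A A)

/-- the dual complex `Hom•(X, A[0])` -/
noncomputable abbrev dualCx (X : DRing.Cx A) : DRing.Cx A := DRing.homCx X (A0 A)

theorem vanishesOutside_dualCx (X : DRing.Cx A) (a b : ℤ) (h : DRing.VanishesOutside X a b) :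
    DRing.VanishesOutside (dualCx X) (-b) (-a) := by
  intro i hi
  have hz : IsZero (X.X (-i)) := h (-i) (by omega)
  have h1 : Subsingleton (X.X (-i)) := ModuleCat.subsingleton_of_isZero hz
  have h2 : Subsingleton (X.X (-i) →ₗ[A] (ModuleCat.of A A)) :=
    ⟨fun f g => by
      ext x
      rw [Subsingleton.elim x 0, map_zero, map_zero]⟩
  have h3 : Subsingleton (Cochain X (A0 A) i) :=
    (dualEquiv X (ModuleCat.of A A) i (-i) (by omega)).toEquiv.subsingleton
  exact ModuleCat.isZero_of_subsingleton (ModuleCat.of A (Cochain X (A0 A) i))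

theorem termwiseFiniteProjective_dualCx (X : DRing.Cx A) (h : DRing.TermwiseFiniteProjective X) :
    DRing.TermwiseFiniteProjective (dualCx X) := by
  intro i
  obtain ⟨h1, h2⟩ := h (-i)
  have e : Cochain X (A0 A) i ≃ₗ[A] Module.Dual A (X.X (-i)) :=
    dualEquiv X (ModuleCat.of A A) i (-i) (by omega)
  exact ⟨Module.Finite.equiv e.symm, Module.Projective.of_equiv e.symm⟩

/-- evaluation at `x` as a linear map on cochains -/
noncomputable def evalLin (X L : DRing.Cx A) {n : ℤ} (x : X.X n) (p q : ℤ) (h : n + p = q) :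
    Cochain X L p →ₗ[A] L.X q where
  toFun z := (z.v n q h).hom x
  map_add' z z' := by rw [Cochain.add_v, ModuleCat.hom_add, LinearMap.add_apply]
  map_smul' a z := by
    rw [Cochain.smul_v, ModuleCat.hom_smul, LinearMap.smul_apply, RingHom.id_apply]

/-- the cochain `θ(x)`: evaluation at `x` with the Koszul sign -/
noncomputable def thetaCochain (X : DRing.Cx A) (n : ℤ) (x : X.X n) :
    Cochain (dualCx X) (A0 A) n :=
  Cochain.mk (fun p q hpq =>
    (n * p).negOnePow • ModuleCat.ofHom (evalLin X (A0 A) x p q (by omega)))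

lemma thetaCochain_v_apply (X : DRing.Cx A) (n : ℤ) (x : X.X n) (p q : ℤ) (hpq : p + n = q)
    (z : Cochain X (A0 A) p) :
    ((thetaCochain X n x).v p q hpq).hom z =
      (n * p).negOnePow • (z.v n q (by omega)).hom x := rfl

end Groth.Agent.Lib.DualPerf57
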