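import Groth.Agent.Lib.DualPerf57b

/-!
# The double duality map `X ⟶ Hom•(Hom•(X, A[0]), A[0])` (helper57)
-/

set_option autoImplicit false
universe u

open CategoryTheory Limits CochainComplex HomComplex

attribute [local instance] HasDerivedCategory.standard

namespace Groth.Agent.Lib.DualPerf57

open Groth.Agent.Lib.RHomCx25 Groth.Agent.Lib.HomTensor25

variable {A : Type u} [CommRing A]

lemma thetaCochain_v_apply' (X : DRing.Cx A) (n : ℤ) (x : X.X n) (p q : ℤ) (hpq : p + n = q)
    (z : (dualCx X).X p) :
    ((thetaCochain X n x).v p q hpq).hom z =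
      (n * p).negOnePow • ((show Cochain X (A0 A) p from z).v n q (by omega)).hom x := rfl

/-- `θ` in degree `n` as a linear map -/
noncomputable def thetaLin (X : DRing.Cx A) (n : ℤ) :
    X.X n →ₗ[A] Cochain (dualCx X) (A0 A) n where
  toFun x := thetaCochain X n x
  map_add' x y := by
    apply Cochain.ext
    intro p q hpq
    apply ModuleCat.hom_ext
    apply LinearMap.ext
    intro z
    rw [Cochain.add_v, ModuleCat.hom_add, LinearMap.add_apply, thetaCochain_v_apply',
      thetaCochain_v_apply', thetaCochain_v_apply', map_add, smul_add]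
  map_smul' a x := by
    apply Cochain.ext
    intro p q hpq
    apply ModuleCat.hom_ext
    apply LinearMap.ext
    intro z
    rw [Cochain.smul_v, ModuleCat.hom_smul, LinearMap.smul_apply, thetaCochain_v_apply',
      thetaCochain_v_apply', map_smul, RingHom.id_apply, smul_comm]

lemma A0_d_apply (i j : ℤ) (y : (A0 A).X i) : ((A0 A).d i j).hom y = 0 := by
  rw [HomologicalComplex.single_obj_d]
  rfl

lemma dualCx_d_apply (X : DRing.Cx A) (p q : ℤ) (z : (dualCx X).X p) :
    ((dualCx X).d p q).hom z = δ p q (show Cochain X (A0 A) p from z) := rfl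

lemma theta_comm (X : DRing.Cx A) (n m : ℤ) (hnm : n + 1 = m) (x : X.X n) :
    δ n m (thetaCochain X n x) = thetaCochain X m ((X.d n m).hom x) := by
  subst hnm
  apply Cochain.ext
  intro p q hpq
  apply ModuleCat.hom_ext
  apply LinearMap.ext
  intro z
  rw [δ_v n (n + 1) rfl _ p q hpq (q - 1) (p + 1) rfl rfl]
  rw [ModuleCat.hom_add, LinearMap.add_apply, ModuleCat.hom_comp, LinearMap.comp_apply,
    A0_d_apply, zero_add]
  rw [thetaCochain_v_apply']
  rw [Units.smul_def, ModuleCat.hom_zsmul, LinearMap.smul_apply, ModuleCat.hom_comp,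
    LinearMap.comp_apply, thetaCochain_v_apply', dualCx_d_apply]
  rw [δ_v p (p + 1) rfl _ n q (by omega) (q - 1) (n + 1) rfl rfl]
  rw [ModuleCat.hom_add, LinearMap.add_apply, ModuleCat.hom_comp, LinearMap.comp_apply,
    A0_d_apply, zero_add]
  rw [Units.smul_def ((p + 1).negOnePow), ModuleCat.hom_zsmul, LinearMap.smul_apply,
    ModuleCat.hom_comp, LinearMap.comp_apply]
  rw [Units.smul_def, Units.smul_def, smul_smul, smul_smul]
  congr 1
  rw [← Units.val_mul, ← Units.val_mul, ← Int.negOnePow_add, ← Int.negOnePow_add]
  congr 1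
  rw [Int.negOnePow_eq_iff]
  exact ⟨n + 1, by ring⟩

/-- the double duality map -/
noncomputable def theta (X : DRing.Cx A) : X ⟶ dualCx (dualCx X) where
  f n := ModuleCat.ofHom (thetaLin X n)
  comm' n m hnm := by
    apply ModuleCat.hom_ext
    apply LinearMap.ext
    intro x
    change δ n m (thetaCochain X n x) = thetaCochain X m ((X.d n m).hom x)
    exact theta_comm X n m hnm x

lemma theta_f_bijective (X : DRing.Cx A) (n : ℤ) [Module.Finite A (X.X n)]
    [Module.Projective A (X.X n)] : Function.Bijective ((theta X).f n).hom := by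
  let E1 := dualEquiv (dualCx X) (ModuleCat.of A A) n (-n) (by omega)
  let E2 := dualEquiv X (ModuleCat.of A A) (-n) n (by omega)
  let E3 : (Cochain X (A0 A) (-n) →ₗ[A] A) ≃ₗ[A] Module.Dual A (Module.Dual A (X.X n)) :=
    LinearEquiv.arrowCongr E2 (LinearEquiv.refl A A)
  let c : ℤ := ((n * (-n)).negOnePow : ℤ)
  have hcc : c * c = 1 := by
    change ((n * (-n)).negOnePow : ℤ) * ((n * (-n)).negOnePow : ℤ) = 1
    rw [← Units.val_mul, Int.units_mul_self, Units.val_one]
  have key : ∀ x : X.X n, E3 (E1 (thetaCochain X n x)) =
      c • Module.Dual.eval A (X.X n) x := by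
    intro x
    apply LinearMap.ext
    intro φ
    have hw := LinearMap.congr_fun (LinearEquiv.apply_symm_apply E2 φ) x
    rw [dualEquiv_apply] at hw
    change (e0 (ModuleCat.of A A)).hom.hom
      (((thetaCochain X n x).v (-n) 0 (by omega)).hom (E2.symm φ)) = _
    rw [thetaCochain_v_apply, Units.smul_def, map_zsmul]
    erw [hw]
    rfl
  have hev : Function.Bijective (Module.Dual.eval A (X.X n)) := Module.bijective_dual_eval A _
  have hcomp : Function.Bijective (fun x : X.X n => E3 (E1 (thetaCochain X n x))) := by
    have : (fun x : X.X n => E3 (E1 (thetaCochain X n x))) =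
        (fun y : Module.Dual A (Module.Dual A (X.X n)) => c • y) ∘
          (Module.Dual.eval A (X.X n)) := by
      funext x
      exact key x
    rw [this]
    refine Function.Bijective.comp ?_ hev
    exact Function.bijective_iff_has_inverse.mpr ⟨fun y => c • y,
      fun y => by
        change c • c • y = y
        rw [smul_smul, hcc, one_smul],
      fun y => by
        change c • c • y = y
        rw [smul_smul, hcc, one_smul]⟩
  have h2 : Function.Bijective (fun x : X.X n => thetaCochain X n x) := by
    have : (fun x : X.X n => thetaCochain X n x) =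
        (fun w => E1.symm (E3.symm w)) ∘ (fun x : X.X n => E3 (E1 (thetaCochain X n x))) := by
      funext x
      exact ((congrArg E1.symm (E3.symm_apply_apply (E1 (thetaCochain X n x)))).trans
        (E1.symm_apply_apply _)).symm
    rw [this]
    exact Function.Bijective.comp (E1.symm.bijective.comp E3.symm.bijective) hcomp
  exact h2

instance isIso_theta (X : DRing.Cx A) [∀ n, Module.Finite A (X.X n)]
    [∀ n, Module.Projective A (X.X n)] : IsIso (theta X) := by
  have : ∀ n, IsIso ((theta X).f n) := fun n =>
    (ConcreteCategory.isIso_iff_bijective _).mpr (theta_f_bijective X n)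
  exact HomologicalComplex.Hom.isIso_of_components _

end Groth.Agent.Lib.DualPerf57
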