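import Mathlib
import Groth.Agent.Lib.DvrDominating

/-!
# A normal Noetherian local domain is the intersection of the discrete valuation rings dominating it

`exists_dvr_dominating_not_mem`: for a Noetherian integrally closed local domain `A` with fraction
field `K` and `k ∈ K` not in `A`, there is a discrete valuation subring of `K` dominating `A`
which does not contain `k`.
-/

set_option autoImplicit false

namespace Groth.Agent.Lib.DvrDominating

open IsLocalRing Polynomial Algebra

set_option maxHeartbeats 800000 in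
theorem exists_dvr_dominating_not_mem (A : Type*) [CommRing A] [IsDomain A] [IsNoetherianRing A]
    [IsLocalRing A] [IsIntegrallyClosed A] (K : Type*) [Field K] [Algebra A K]
    [IsFractionRing A K] (k : K) (hk : k ∉ (algebraMap A K).range) :
    ∃ V : ValuationSubring K, IsDiscreteValuationRing V ∧ k ∉ V ∧
      ∃ h : ∀ r, algebraMap A K r ∈ V,
        IsLocalHom ((algebraMap A K).codRestrict V.toSubring h) := by
  classical
  have hk0 : k ≠ 0 := by
    rintro rfl
    exact hk ⟨0, map_zero _⟩
  have hkinv0 : k⁻¹ ≠ 0 := inv_ne_zero hk0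
  letI := invertibleOfNonzero hkinv0
  let B : Subalgebra A K := A[k⁻¹]
  let kinv : B := ⟨k⁻¹, subset_adjoin rfl⟩
  have hI : (maximalIdeal A).map (algebraMap A B) ⊔ Ideal.span {kinv} ≠ ⊤ := by
    intro eq
    apply hk
    obtain ⟨p, hp, hpx⟩ := exists_aeval_invOf_eq_zero_of_idealMap_adjoin_sup_span_eq_top (k⁻¹)
      (maximalIdeal A) (maximalIdeal.isMaximal A).ne_top eq
    have H : IsUnit p.leadingCoeff := of_not_not fun h ↦ by
      have h1 : p.leadingCoeff ∈ maximalIdeal A := h
      have h2 := sub_mem h1 hp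
      simp only [sub_sub_cancel] at h2
      exact (maximalIdeal.isMaximal A).ne_top ((Ideal.eq_top_iff_one _).mpr h2)
    have hkk : ⅟(k⁻¹) = k := by rw [invOf_eq_inv, inv_inv]
    rw [hkk] at hpx
    have hint : IsIntegral A k :=
      ⟨C H.unit⁻¹.1 * p, by simp [Polynomial.Monic], by
        rw [← Polynomial.aeval_def, map_mul, hpx, mul_zero]⟩
    obtain ⟨a, ha⟩ := IsIntegrallyClosed.isIntegral_iff.mp hint
    exact ⟨a, ha⟩
  obtain ⟨M, hM, hle⟩ := Ideal.exists_le_maximal _ hI
  have hMp : M.IsPrime := hM.isPrime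
  let M' : Ideal B.toSubring := M
  have hM'p : M'.IsPrime := hMp
  let R' : LocalSubring K := LocalSubring.ofPrime B.toSubring M'
  have hBR' : B.toSubring ≤ R'.toSubring := LocalSubring.le_ofPrime B.toSubring M'
  have hBfg : B.FG := by
    have : B = Algebra.adjoin A ((({k⁻¹} : Finset K)) : Set K) := by
      simp [B]
    rw [this]
    exact Subalgebra.fg_adjoin_finset _
  have hft : Algebra.FiniteType A B := (Subalgebra.fg_iff_finiteType B).mp hBfg
  have hBn : IsNoetherianRing B := Algebra.FiniteType.isNoetherianRing A B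
  have hBn' : IsNoetherianRing B.toSubring := hBn
  haveI hR'n : IsNoetherianRing R'.toSubring :=
    IsLocalization.isNoetherianRing M'.primeCompl R'.toSubring hBn'
  haveI hfrac : IsFractionRing R'.toSubring K := IsFractionRing.of_field R'.toSubring K (fun z => by
    obtain ⟨a, b, -, rfl⟩ := IsFractionRing.div_surjective (A := A) z
    exact ⟨⟨algebraMap A K a, hBR' (B.algebraMap_mem a)⟩,
      ⟨algebraMap A K b, hBR' (B.algebraMap_mem b)⟩, rfl⟩)
  haveI hess : Algebra.EssFiniteType R'.toSubring K :=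
    Algebra.EssFiniteType.of_isLocalization K (nonZeroDivisors R'.toSubring)
  have hkinvM : kinv ∈ M := hle (Ideal.mem_sup_right (Ideal.subset_span rfl))
  have hmaxmem : ∀ b : B, b ∈ M →
      (⟨(b : K), hBR' b.2⟩ : R'.toSubring) ∈ maximalIdeal R'.toSubring := by
    intro b hb
    let b' : B.toSubring := b
    have h1 : algebraMap B.toSubring R'.toSubring b' ∈ maximalIdeal R'.toSubring :=
      (IsLocalization.AtPrime.to_map_mem_maximal_iff R'.toSubring M' b').mpr hb
    exact h1
  have hR : ∃ t ∈ maximalIdeal R'.toSubring, algebraMap R'.toSubring K t ≠ 0 :=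
    ⟨⟨k⁻¹, hBR' kinv.2⟩, hmaxmem kinv hkinvM, hkinv0⟩
  obtain ⟨V, hdvr, hmem', hloc'⟩ := exists_dvr_dominating R'.toSubring K hR
  have hnonunit : ∀ t : R'.toSubring, t ∈ maximalIdeal R'.toSubring →
      ¬ IsUnit ((algebraMap R'.toSubring K).codRestrict V.toSubring hmem' t) := by
    intro t ht hu
    exact ht (hloc'.map_nonunit t hu)
  have hmem : ∀ r, algebraMap A K r ∈ V := fun r =>
    hmem' ⟨algebraMap A K r, hBR' (B.algebraMap_mem r)⟩
  refine ⟨V, hdvr, ?_, hmem, ⟨fun r hr => ?_⟩⟩
  · intro hkV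
    apply hnonunit ⟨k⁻¹, hBR' kinv.2⟩ (hmaxmem kinv hkinvM)
    refine IsUnit.of_mul_eq_one ⟨k, hkV⟩ ?_
    apply Subtype.ext
    change k⁻¹ * k = 1
    exact inv_mul_cancel₀ hk0
  · by_contra hru
    have hrm : r ∈ maximalIdeal A := (IsLocalRing.mem_maximalIdeal r).mpr hru
    have h1 : algebraMap A B r ∈ M := hle (Ideal.mem_sup_left (Ideal.mem_map_of_mem _ hrm))
    have h2 := hnonunit _ (hmaxmem (algebraMap A B r) h1)
    exact h2 hr

end Groth.Agent.Lib.DvrDominating
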