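/-
helper85: Stacks 05JX — a quasi-compact morphism `f : X ⟶ S` is universally closed as soon as
`𝔸ⁿ_X ⟶ 𝔸ⁿ_S` is a closed map for every `n`.
-/
import Mathlib

set_option autoImplicit false
universe u
open CategoryTheory CategoryTheory.Limits AlgebraicGeometry

namespace Groth.Agent.Lib.UnivClosedAffineSpace

section algebra

open MvPolynomial

variable {R B : Type u} [CommRing R] [CommRing B] (φ : R →+* B) {τ : Type u}

/-- The auxiliary predicate used in the descent to finitely many variables. -/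
private def Q (I : Ideal (MvPolynomial τ B)) (𝔭 : Ideal (MvPolynomial τ R))
    (b : MvPolynomial τ B) : Prop :=
  ∃ σ₀ : Finset τ, ∀ (σ : Type u) (i : σ → τ) (hi : Function.Injective i),
    (↑σ₀ ⊆ Set.range i) → ∀ 𝔮 : Ideal (MvPolynomial σ B),
      I.comap (rename i) ≤ 𝔮 → 𝔭.comap (rename i) ≤ 𝔮.comap (MvPolynomial.map φ) →
        killCompl hi b ∈ 𝔮

private lemma rename_killCompl {A : Type u} [CommRing A] {σ : Type u} (i : σ → τ)
    (hi : Function.Injective i) (p : MvPolynomial τ A) (hp : (↑p.vars : Set τ) ⊆ Set.range i) :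
    rename i (killCompl hi p) = p := by
  obtain ⟨q, rfl⟩ := exists_rename_eq_of_vars_subset_range p i hi hp
  rw [killCompl_rename_app]

private lemma Q_of_mem_sup (I : Ideal (MvPolynomial τ B)) (𝔭 : Ideal (MvPolynomial τ R))
    (b : MvPolynomial τ B) (hb : b ∈ I ⊔ 𝔭.map (MvPolynomial.map φ)) : Q φ I 𝔭 b := by
  classical
  have hJ : I ⊔ 𝔭.map (MvPolynomial.map φ) =
      Ideal.span ((I : Set _) ∪ (MvPolynomial.map φ) '' (𝔭 : Set _)) := by
    rw [Ideal.span_union, Ideal.span_eq]; rfl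
  rw [hJ] at hb
  induction hb using Submodule.span_induction with
  | mem x hx =>
    rcases hx with hx | ⟨p, hp, rfl⟩
    · refine ⟨x.vars, fun σ i hi hσ 𝔮 hI _ ↦ hI ?_⟩
      change rename i (killCompl hi x) ∈ I
      rwa [rename_killCompl i hi x hσ]
    · refine ⟨p.vars, fun σ i hi hσ 𝔮 _ h𝔭 ↦ ?_⟩
      rw [killCompl_map]
      refine h𝔭 ?_
      change rename i (killCompl hi p) ∈ 𝔭
      rwa [rename_killCompl i hi p hσ]
  | zero => exact ⟨∅, fun σ i hi _ 𝔮 _ _ ↦ by simp⟩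
  | add x y _ _ hx hy =>
    obtain ⟨σ₁, h₁⟩ := hx
    obtain ⟨σ₂, h₂⟩ := hy
    refine ⟨σ₁ ∪ σ₂, fun σ i hi hσ 𝔮 hI h𝔭 ↦ ?_⟩
    rw [map_add]
    refine 𝔮.add_mem (h₁ σ i hi ?_ 𝔮 hI h𝔭) (h₂ σ i hi ?_ 𝔮 hI h𝔭)
    · exact subset_trans (by simp) hσ
    · exact subset_trans (by simp) hσ
  | smul a x _ hx =>
    obtain ⟨σ₁, h₁⟩ := hx
    refine ⟨σ₁, fun σ i hi hσ 𝔮 hI h𝔭 ↦ ?_⟩
    rw [smul_eq_mul, map_mul]
    exact 𝔮.mul_mem_left _ (h₁ σ i hi hσ 𝔮 hI h𝔭)

/-- **Descent to finitely many variables.** If a point `s` of `Spec R[τ]` is not in the image of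
the closed set `Z ⊆ Spec B[τ]`, then for all sufficiently large sets of variables `σ ⊆ τ`
the image of `s` in `Spec R[σ]` is not in the image of the closure of the image of `Z` in
`Spec B[σ]`. -/
theorem exists_finset_forall_notMem
    (Z : Set (PrimeSpectrum (MvPolynomial τ B))) (hZ : IsClosed Z)
    (s : PrimeSpectrum (MvPolynomial τ R))
    (hs : s ∉ PrimeSpectrum.comap (MvPolynomial.map φ) '' Z) :
    ∃ σ₀ : Finset τ, ∀ (σ : Type u) (i : σ → τ), Function.Injective i → (↑σ₀ ⊆ Set.range i) →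
      PrimeSpectrum.comap (rename i : MvPolynomial σ R →ₐ[R] _).toRingHom s ∉
        PrimeSpectrum.comap (MvPolynomial.map φ) ''
          closure (PrimeSpectrum.comap (rename i : MvPolynomial σ B →ₐ[B] _).toRingHom '' Z) := by
  classical
  obtain ⟨I, rfl⟩ := (PrimeSpectrum.isClosed_iff_zeroLocus_ideal Z).mp hZ
  -- Step 1: find `t ∉ 𝔭` whose image lies in `I + 𝔭 B[τ]`.
  obtain ⟨t, ht, htJ⟩ : ∃ t, t ∉ s.asIdeal ∧
      MvPolynomial.map φ t ∈ I ⊔ s.asIdeal.map (MvPolynomial.map φ) := by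
    by_contra hcon
    push Not at hcon
    have hdis : Disjoint ((I ⊔ s.asIdeal.map (MvPolynomial.map φ) : Ideal _) :
          Set (MvPolynomial τ B))
        (↑(s.asIdeal.primeCompl.map (MvPolynomial.map φ) : Submonoid (MvPolynomial τ B))) := by
      rw [Set.disjoint_left]
      rintro _ hx ⟨t, ht, rfl⟩
      exact hcon t ht hx
    obtain ⟨𝔮, h𝔮, hJ𝔮, h𝔮M⟩ := Ideal.exists_le_prime_disjoint _ _ hdis
    refine hs ⟨⟨𝔮, h𝔮⟩, ?_, ?_⟩
    · rw [PrimeSpectrum.mem_zeroLocus]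
      exact fun x hx ↦ hJ𝔮 (Ideal.mem_sup_left hx)
    · ext1
      refine le_antisymm ?_ ?_
      · intro x hx
        by_contra hxs
        exact Set.disjoint_left.mp h𝔮M hx ⟨x, hxs, rfl⟩
      · intro x hx
        exact hJ𝔮 (Ideal.mem_sup_right (Ideal.mem_map_of_mem _ hx))
  obtain ⟨σ₁, h₁⟩ := Q_of_mem_sup φ I s.asIdeal _ htJ
  refine ⟨σ₁ ∪ t.vars, fun σ i hi hσ ↦ ?_⟩
  rw [PrimeSpectrum.closure_image_comap_zeroLocus]
  rintro ⟨𝔮, h𝔮, h𝔮s⟩
  have hsub₁ : (↑σ₁ : Set τ) ⊆ Set.range i := subset_trans (by simp) hσ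
  have hsub₂ : (↑t.vars : Set τ) ⊆ Set.range i := subset_trans (by simp) hσ
  have h𝔮s' : s.asIdeal.comap (rename i) = 𝔮.asIdeal.comap (MvPolynomial.map φ) :=
    (congrArg PrimeSpectrum.asIdeal h𝔮s).symm
  have := h₁ σ i hi hsub₁ 𝔮.asIdeal h𝔮 h𝔮s'.le
  rw [killCompl_map] at this
  have h2 : killCompl hi t ∈ s.asIdeal.comap (rename i) := by
    rw [h𝔮s']; exact this
  apply ht
  have h3 : rename i (killCompl hi t) ∈ s.asIdeal := h2
  rwa [rename_killCompl i hi t hsub₂] at h3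

end algebra

section schemes

open AlgebraicGeometry.AffineSpace

set_option backward.isDefEq.respectTransparency.types false in
lemma reindex_Spec {σ τ : Type u} (i : σ → τ) (R : CommRingCat.{u}) :
    reindex i (Spec R) = (SpecIso τ R).hom ≫
      Spec.map (CommRingCat.ofHom (MvPolynomial.rename i : MvPolynomial σ R →ₐ[R] _).toRingHom) ≫
        (SpecIso σ R).inv := by
  rw [← Iso.inv_comp_eq]
  ext1
  · simp only [reindex_over, Category.assoc, SpecIso_inv_over, ← Spec.map_comp,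
      ← CommRingCat.ofHom_comp]
    congr 2
    ext x
    simp
  · simp only [TopologicalSpace.Opens.map_top, Scheme.Hom.comp_app, CommRingCat.comp_apply]
    conv_lhs => enter [2]; tactic => exact reindex_appTop_coord _ _ _
    conv_rhs => enter [2]; tactic => exact SpecIso_inv_appTop_coord _ _
    rw [SpecIso_inv_appTop_coord, ← CommRingCat.comp_apply, ← Scheme.ΓSpecIso_inv_naturality,
        CommRingCat.comp_apply, ConcreteCategory.hom_ofHom]
    simp

lemma SpecIso_hom_map_apply {R B : CommRingCat.{u}} (φ : R ⟶ B) (τ : Type u) (z : 𝔸(τ; Spec B)) :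
    (SpecIso τ R).hom (map τ (Spec.map φ) z) =
      PrimeSpectrum.comap (MvPolynomial.map φ.hom) ((SpecIso τ B).hom z) := by
  rw [map_SpecMap]
  simp only [Scheme.Hom.comp_apply, Scheme.inv_hom_apply]
  rfl

lemma SpecIso_hom_reindex_apply {σ τ : Type u} (i : σ → τ) (R : CommRingCat.{u})
    (z : 𝔸(τ; Spec R)) :
    (SpecIso σ R).hom (reindex i (Spec R) z) =
      PrimeSpectrum.comap (MvPolynomial.rename i : MvPolynomial σ R →ₐ[R] _).toRingHom
        ((SpecIso τ R).hom z) := by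
  rw [reindex_Spec]
  simp only [Scheme.Hom.comp_apply, Scheme.inv_hom_apply]
  rfl

theorem exists_finset_forall_notMem_Spec {R B : CommRingCat.{u}} (φ : R ⟶ B) (τ : Type u)
    (Z : Set 𝔸(τ; Spec B)) (hZ : IsClosed Z) (s : 𝔸(τ; Spec R))
    (hs : s ∉ map τ (Spec.map φ) '' Z) :
    ∃ σ₀ : Finset τ, ∀ (σ : Type u) (i : σ → τ), Function.Injective i → (↑σ₀ ⊆ Set.range i) →
      reindex i (Spec R) s ∉ map σ (Spec.map φ) '' closure (reindex i (Spec B) '' Z) := by
  let Z₀ : Set (PrimeSpectrum (MvPolynomial τ B)) := (SpecIso τ B).hom '' Z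
  have hZ₀ : IsClosed Z₀ := (SpecIso τ B).hom.homeomorph.isClosedMap _ hZ
  let s₀ : PrimeSpectrum (MvPolynomial τ R) := (SpecIso τ R).hom s
  have hs₀ : s₀ ∉ PrimeSpectrum.comap (MvPolynomial.map φ.hom) '' Z₀ := by
    rintro ⟨_, ⟨z, hz, rfl⟩, hzs⟩
    refine hs ⟨z, hz, ?_⟩
    rw [← SpecIso_hom_map_apply] at hzs
    exact (SpecIso τ R).hom.homeomorph.injective hzs
  obtain ⟨σ₀, h⟩ := exists_finset_forall_notMem φ.hom Z₀ hZ₀ s₀ hs₀
  refine ⟨σ₀, fun σ i hi hσ ↦ ?_⟩
  rintro ⟨z', hz', hz's⟩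
  apply h σ i hi hσ
  refine ⟨(SpecIso σ B).hom z', ?_, ?_⟩
  · have h1 : (SpecIso σ B).hom.homeomorph z' ∈
        (SpecIso σ B).hom.homeomorph '' closure (reindex i (Spec B) '' Z) := ⟨z', hz', rfl⟩
    rw [Homeomorph.image_closure] at h1
    refine closure_mono ?_ h1
    rintro _ ⟨_, ⟨z, hz, rfl⟩, rfl⟩
    exact ⟨(SpecIso τ B).hom z, ⟨z, hz, rfl⟩, (SpecIso_hom_reindex_apply i B z).symm⟩
  · rw [← SpecIso_hom_map_apply, hz's, SpecIso_hom_reindex_apply]

/-- Base change of a closed map along a morphism whose base change is (topologically) inducing. -/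
theorem isClosedMap_of_isPullback {P' P T Q : Scheme.{u}} {q' : P' ⟶ T} {j' : P' ⟶ P}
    {j : T ⟶ Q} {q : P ⟶ Q} (h : IsPullback j' q' q j) (hj' : Topology.IsInducing j')
    (hq : IsClosedMap q) : IsClosedMap q' := by
  intro Z hZ
  obtain ⟨Z₁, hZ₁, rfl⟩ := hj'.isClosed_iff.mp hZ
  rw [Scheme.image_preimage_eq_of_isPullback h]
  exact (hq _ hZ₁).preimage j.continuous

theorem isClosedMap_of_isPullback_of_isPreimmersion {P' P T Q : Scheme.{u}} {q' : P' ⟶ T}
    {j' : P' ⟶ P} {j : T ⟶ Q} {q : P ⟶ Q} (h : IsPullback j' q' q j) [IsPreimmersion j]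
    (hq : IsClosedMap q) : IsClosedMap q' := by
  have : IsPreimmersion j' := MorphismProperty.of_isPullback (P := @IsPreimmersion) h.flip ‹_›
  exact isClosedMap_of_isPullback h j'.isEmbedding.isInducing hq

lemma isPullback_map_reindex {σ τ : Type u} (i : σ → τ) {U X : Scheme.{u}} (a : U ⟶ X) :
    IsPullback (map τ a) (reindex i U) (reindex i X) (map σ a) := by
  refine (IsPullback.of_right ?_ (map_reindex i a).symm (isPullback_map (n := σ) a).flip).flip
  rw [reindex_over, reindex_over]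
  exact (isPullback_map (n := τ) a).flip

lemma isPullback_map_map (σ : Type u) {P X Y Z : Scheme.{u}} {fst : P ⟶ X} {snd : P ⟶ Y}
    {f : X ⟶ Z} {g : Y ⟶ Z} (h : IsPullback fst snd f g) :
    IsPullback (map σ fst) (map σ snd) (map σ f) (map σ g) := by
  refine IsPullback.of_right ?_ (by rw [← map_comp, ← map_comp, h.w])
    (isPullback_map (n := σ) f).flip
  rw [map_over, map_over]
  exact (isPullback_map (n := σ) snd).flip.paste_horiz h

instance {σ : Type u} {U X : Scheme.{u}} (a : U ⟶ X) [IsOpenImmersion a] :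
    IsOpenImmersion (map σ a) :=
  MorphismProperty.of_isPullback (P := @IsOpenImmersion) (isPullback_map (n := σ) a).flip ‹_›

theorem isClosedMap_of_isPullback_of_factor {X S T X' : Scheme.{u}} (f : X ⟶ S) (τ : Type u)
    (j : T ⟶ 𝔸(τ; S)) [IsPreimmersion j] {f' : X' ⟶ T} {i₁ : X' ⟶ X}
    (h : IsPullback f' i₁ (j ≫ 𝔸(τ; S) ↘ S) f)
    (H : IsClosedMap (map τ f)) : IsClosedMap f' := by
  let l : X' ⟶ 𝔸(τ; X) := (isPullback_map (n := τ) f).lift (f' ≫ j) i₁ (by simpa using h.w)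
  have hl₁ : l ≫ map τ f = f' ≫ j := (isPullback_map (n := τ) f).lift_fst _ _ _
  have hl₂ : l ≫ 𝔸(τ; X) ↘ X = i₁ := (isPullback_map (n := τ) f).lift_snd _ _ _
  have : IsPullback l f' (map τ f) j := by
    refine IsPullback.of_right ?_ hl₁ (isPullback_map (n := τ) f).flip
    rw [hl₂]
    exact h.flip
  exact isClosedMap_of_isPullback_of_isPreimmersion this H

/-- **Step D.** Over an affine base and for quasi-compact `X`: if `𝔸(σ; X) ⟶ 𝔸(σ; S)` is closed
for all finite `σ`, then it is closed for all `σ`. -/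
theorem isClosedMap_map_of_forall_finite {X : Scheme.{u}} {R : CommRingCat.{u}} (f : X ⟶ Spec R)
    [CompactSpace X] (H : ∀ (σ : Type u) [Finite σ], IsClosedMap (map σ f)) (τ : Type u) :
    IsClosedMap (map τ f) := by
  classical
  let 𝒰 := X.affineOpenCover
  obtain ⟨t, ht⟩ := isCompact_univ.elim_finite_subcover (fun x : 𝒰.I₀ ↦ Set.range (𝒰.f x))
    (fun x ↦ (𝒰.f x).isOpenEmbedding.isOpen_range)
    (fun x _ ↦ Set.mem_iUnion.mpr ⟨𝒰.idx x, 𝒰.covers x⟩)
  intro Z hZ
  rw [← isOpen_compl_iff, isOpen_iff_forall_mem_open]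
  intro s' hs'
  have key : ∀ j, ∃ σ₀ : Finset τ, ∀ (σ : Type u) (i : σ → τ), Function.Injective i →
      ↑σ₀ ⊆ Set.range i → reindex i (Spec R) s' ∉ map σ (𝒰.f j ≫ f) ''
        closure (reindex i (Spec (𝒰.X j)) '' (map τ (𝒰.f j) ⁻¹' Z)) := by
    intro j
    obtain ⟨φ, hφ⟩ : ∃ φ : R ⟶ 𝒰.X j, Spec.map φ = 𝒰.f j ≫ f :=
      ⟨Spec.preimage (𝒰.f j ≫ f), Spec.map_preimage _⟩
    rw [← hφ]
    apply exists_finset_forall_notMem_Spec φ τ _ (hZ.preimage (map τ (𝒰.f j)).continuous) s'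
    rintro ⟨z, hz, hzs⟩
    refine hs' ⟨map τ (𝒰.f j) z, hz, ?_⟩
    rw [← hzs, hφ, map_comp, Scheme.Hom.comp_apply]
  choose σ₀ hσ₀ using key
  let σf : Finset τ := t.biUnion σ₀
  let i : (↥σf) → τ := Subtype.val
  have hi : Function.Injective i := Subtype.val_injective
  have hrange : ∀ j ∈ t, (↑(σ₀ j) : Set τ) ⊆ Set.range i := by
    intro j hj x hx
    exact ⟨⟨x, Finset.mem_biUnion.mpr ⟨j, hj, hx⟩⟩, rfl⟩
  have hW : IsOpen (map (↥σf) f '' closure (reindex i X '' Z))ᶜ :=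
    (H (↥σf) _ isClosed_closure).isOpen_compl
  refine ⟨reindex i (Spec R) ⁻¹' (map (↥σf) f '' closure (reindex i X '' Z))ᶜ, ?_,
    hW.preimage (reindex i _).continuous, ?_⟩
  · rintro _ ht' ⟨z, hz, rfl⟩
    apply ht'
    refine ⟨reindex i X z, subset_closure ⟨z, hz, rfl⟩, ?_⟩
    rw [← Scheme.Hom.comp_apply, ← Scheme.Hom.comp_apply, map_reindex]
  · rintro ⟨z', hz', hz's⟩
    -- find a chart containing `z'`
    obtain ⟨j, hjt, y, hy⟩ : ∃ j ∈ t, ∃ y, 𝒰.f j y = (𝔸(↥σf; X) ↘ X) z' := by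
      have := ht (Set.mem_univ ((𝔸(↥σf; X) ↘ X) z'))
      simp only [Set.mem_iUnion] at this
      obtain ⟨j, hj, y, hy⟩ := this
      exact ⟨j, hj, y, hy⟩
    obtain ⟨w, hw, -⟩ := Scheme.exists_preimage_of_isPullback
      (isPullback_map (n := ↥σf) (𝒰.f j)) z' y hy.symm
    apply hσ₀ j (↥σf) i hi (hrange j hjt)
    refine ⟨w, ?_, ?_⟩
    · have hopen : IsOpenMap (map (↥σf) (𝒰.f j)) := (map (↥σf) (𝒰.f j)).isOpenEmbedding.isOpenMap
      have hmem : w ∈ map (↥σf) (𝒰.f j) ⁻¹' closure (reindex i X '' Z) := by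
        rw [Set.mem_preimage, hw]; exact hz'
      rw [hopen.preimage_closure_eq_closure_preimage (map (↥σf) (𝒰.f j)).continuous] at hmem
      refine closure_mono ?_ hmem
      rintro w' ⟨z, hz, hzw⟩
      obtain ⟨v, hv1, hv2⟩ := Scheme.exists_preimage_of_isPullback
        (isPullback_map_reindex i (𝒰.f j)) z w' hzw
      exact ⟨v, by rwa [Set.mem_preimage, hv1], hv2⟩
    · rw [map_comp, Scheme.Hom.comp_apply, hw, hz's]

set_option backward.isDefEq.respectTransparency.types false in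
lemma reindex_comp' {n₁ n₂ n₃ : Type u} (i : n₁ → n₂) (j : n₂ → n₃) (S : Scheme.{u}) :
    reindex j S ≫ reindex i S = reindex (j ∘ i) S := by
  apply hom_ext
  · simp
  · intro k; simp

lemma isClosedMap_map_of_equiv {σ σ' : Type u} (e : σ ≃ σ') {X S : Scheme.{u}} (f : X ⟶ S)
    (h : IsClosedMap (map σ f)) : IsClosedMap (map σ' f) := by
  have h1 : ∀ Y : Scheme.{u}, reindex (⇑e) Y ≫ reindex (⇑e.symm) Y = 𝟙 _ := by
    intro Y
    rw [reindex_comp', show (⇑e ∘ ⇑e.symm) = id from by ext x; simp, reindex_id]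
  have h2 : ∀ Y : Scheme.{u}, reindex (⇑e.symm) Y ≫ reindex (⇑e) Y = 𝟙 _ := by
    intro Y
    rw [reindex_comp', show (⇑e.symm ∘ ⇑e) = id from by ext x; simp, reindex_id]
  have h3 : map σ' f = reindex (⇑e) X ≫ map σ f ≫ reindex (⇑e.symm) S := by
    rw [← map_reindex_assoc, h1, Category.comp_id]
  let eX : 𝔸(σ'; X) ≅ 𝔸(σ; X) := ⟨reindex (⇑e) X, reindex (⇑e.symm) X, h1 X, h2 X⟩
  let eS : 𝔸(σ; S) ≅ 𝔸(σ'; S) := ⟨reindex (⇑e.symm) S, reindex (⇑e) S, h2 S, h1 S⟩
  rw [h3]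
  change IsClosedMap (eX.hom ≫ map σ f ≫ eS.hom)
  simp only [Scheme.Hom.comp_base, TopCat.coe_comp]
  exact ((Scheme.homeoOfIso eS).isClosedMap.comp h).comp (Scheme.homeoOfIso eX).isClosedMap

lemma isClosedMap_map_of_finite {X S : Scheme.{u}} (f : X ⟶ S)
    (H : ∀ n : ℕ, IsClosedMap (map (ULift.{u} (Fin n)) f)) (σ : Type u) [Finite σ] :
    IsClosedMap (map σ f) := by
  obtain ⟨n, ⟨e⟩⟩ := Finite.exists_equiv_fin σ
  exact isClosedMap_map_of_equiv (Equiv.ulift.trans e.symm) f (H n)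

/-- Every morphism `Spec R' ⟶ Spec R` factors as a closed immersion into an affine space over
`Spec R` followed by the projection. -/
lemma exists_closedImmersion_factor {R R' : CommRingCat.{u}} (g : Spec R' ⟶ Spec R) :
    ∃ (τ : Type u) (j : Spec R' ⟶ 𝔸(τ; Spec R)), IsClosedImmersion j ∧
      j ≫ 𝔸(τ; Spec R) ↘ Spec R = g := by
  let ψ₀ : R ⟶ R' := Spec.preimage g
  let ψ : MvPolynomial R' R →+* R' := MvPolynomial.eval₂Hom ψ₀.hom id
  have hψ : Function.Surjective ψ := fun r ↦ ⟨MvPolynomial.X r, by simp [ψ]⟩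
  have : IsClosedImmersion (Spec.map (CommRingCat.ofHom ψ)) :=
    IsClosedImmersion.spec_of_surjective _ hψ
  refine ⟨R', Spec.map (CommRingCat.ofHom ψ) ≫ (SpecIso R' R).inv, inferInstance, ?_⟩
  rw [Category.assoc, SpecIso_inv_over, ← Spec.map_comp, ← Spec.map_preimage g]
  congr 1
  ext x
  simp [ψ, ψ₀]

theorem universallyClosed_of_forall_isClosedMap_map_Spec {X : Scheme.{u}} {R : CommRingCat.{u}}
    (f : X ⟶ Spec R) (H : ∀ τ : Type u, IsClosedMap (map τ f)) : UniversallyClosed f := by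
  rw [universallyClosed_eq]
  intro X' T i₁ i₂ f' h
  rw [IsZariskiLocalAtTarget.iff_of_openCover (P := topologically @IsClosedMap)
    T.affineOpenCover.openCover]
  intro k
  obtain ⟨τ, j, hj, hjg⟩ := exists_closedImmersion_factor (T.affineOpenCover.f k ≫ i₂)
  have hpb : IsPullback (pullback.snd f' (T.affineOpenCover.f k))
      (pullback.fst f' (T.affineOpenCover.f k) ≫ i₁) (T.affineOpenCover.f k ≫ i₂) f :=
    (IsPullback.of_hasPullback f' (T.affineOpenCover.f k)).flip.paste_vert h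
  rw [← hjg] at hpb
  exact isClosedMap_of_isPullback_of_factor f τ j hpb (H τ)

/-- **Stacks 05JX.** A quasi-compact morphism `f : X ⟶ S` such that `𝔸ⁿ_X ⟶ 𝔸ⁿ_S` is a closed map
for all `n` is universally closed. -/
theorem universallyClosed_of_forall_isClosedMap_map {X S : Scheme.{u}} (f : X ⟶ S)
    [QuasiCompact f] (H : ∀ n : ℕ, IsClosedMap (map (ULift.{u} (Fin n)) f)) :
    UniversallyClosed f := by
  rw [IsZariskiLocalAtTarget.iff_of_openCover (P := @UniversallyClosed)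
    S.affineOpenCover.openCover]
  intro i
  change UniversallyClosed (pullback.snd f (S.affineOpenCover.f i))
  have : CompactSpace ↥(pullback f (S.affineOpenCover.f i)) :=
    QuasiCompact.compactSpace_of_compactSpace (pullback.snd f (S.affineOpenCover.f i))
  apply universallyClosed_of_forall_isClosedMap_map_Spec
  apply isClosedMap_map_of_forall_finite
  intro σ _
  exact isClosedMap_of_isPullback_of_isPreimmersion
    (isPullback_map_map σ (IsPullback.of_hasPullback f (S.affineOpenCover.f i)))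
    (isClosedMap_map_of_finite f H σ)

/-- Variant of `universallyClosed_of_forall_isClosedMap_map` in terms of `pullback.snd`. -/
theorem universallyClosed_of_forall_isClosedMap_snd {X S : Scheme.{u}} (f : X ⟶ S)
    [QuasiCompact f]
    (H : ∀ n : ℕ, IsClosedMap (pullback.snd f (𝔸(ULift.{u} (Fin n); S) ↘ S))) :
    UniversallyClosed f := by
  apply universallyClosed_of_forall_isClosedMap_map
  intro n
  have e := (isPullback_map (n := ULift.{u} (Fin n)) f).flip.isoPullback_hom_snd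
  rw [← e]
  simp only [Scheme.Hom.comp_base, TopCat.coe_comp]
  exact (H n).comp (Scheme.homeoOfIso _).isClosedMap

end schemes

end Groth.Agent.Lib.UnivClosedAffineSpace
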