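/-
helper85: the existence part of the valuative criterion tested on discrete valuation rings only
(Stacks 0208): over a locally Noetherian base, for a quasi-compact morphism locally of finite
type, DVR-existence implies universally closed.
-/
import Groth.Agent.S4450
import Groth.Agent.Lib.UnivClosedAffineSpace

set_option autoImplicit false
set_option linter.dupNamespace false
universe u
open CategoryTheory CategoryTheory.Limits AlgebraicGeometry

namespace Groth.Agent.Lib.DvrExistence

/-- The existence part of the valuative criterion, tested on discrete valuation rings only. -/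
def DvrExistence {X S : Scheme.{u}} (f : X ⟶ S) : Prop :=
  ∀ (A : Type u) [CommRing A] [IsDomain A] [IsDiscreteValuationRing A]
    (x : Spec (CommRingCat.of (FractionRing A)) ⟶ X) (y : Spec (CommRingCat.of A) ⟶ S),
    x ≫ f = Spec.map (CommRingCat.ofHom (algebraMap A (FractionRing A))) ≫ y →
      ∃ l : Spec (CommRingCat.of A) ⟶ X, l ≫ f = y ∧
        Spec.map (CommRingCat.ofHom (algebraMap A (FractionRing A))) ≫ l = x

/-- DVR-existence is stable under base change. -/
theorem DvrExistence.of_isPullback {X S X' S' : Scheme.{u}} {f : X ⟶ S} {f' : X' ⟶ S'}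
    {i₁ : X' ⟶ X} {i₂ : S' ⟶ S} (h : IsPullback f' i₁ i₂ f) (H : DvrExistence f) :
    DvrExistence f' := by
  intro A _ _ _ x y hxy
  obtain ⟨l₀, hl₀, hl₀'⟩ := H A (x ≫ i₁) (y ≫ i₂) (by
    rw [Category.assoc, ← h.w, reassoc_of% hxy])
  refine ⟨h.lift y l₀ hl₀.symm, h.lift_fst _ _ _, ?_⟩
  apply h.hom_ext
  · rw [Category.assoc, h.lift_fst, hxy]
  · rw [Category.assoc, h.lift_snd, hl₀']

/-- Universally closed morphisms satisfy DVR-existence. -/
theorem DvrExistence.of_universallyClosed {X S : Scheme.{u}} (f : X ⟶ S) [UniversallyClosed f] :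
    DvrExistence f := by
  intro A _ _ _ x y hxy
  have hU : ValuativeCriterion.Existence f := by
    have h := UniversallyClosed.eq_valuativeCriterion
    have : (ValuativeCriterion.Existence ⊓ @QuasiCompact) f := h ▸ ‹UniversallyClosed f›
    exact this.1
  let Sq : ValuativeCommSq f :=
    { R := A
      K := FractionRing A
      i₁ := x
      i₂ := y
      commSq := ⟨hxy⟩ }
  obtain ⟨⟨l⟩⟩ := hU Sq
  exact ⟨l.l, l.fac_right, l.fac_left⟩

/-- Over a locally Noetherian base, a quasi-compact morphism locally of finite type satisfying
DVR-existence is a closed map. -/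
theorem isClosedMap_of_dvrExistence {X S : Scheme.{u}} [IsLocallyNoetherian S] (f : X ⟶ S)
    [LocallyOfFiniteType f] [QuasiCompact f] (H : DvrExistence f) : IsClosedMap f := by
  rw [isClosedMap_iff_specializingMap]
  intro x s hsp
  by_cases hne : s = f x
  · exact ⟨x, specializes_rfl, hne.symm⟩
  obtain ⟨A, h, hA, hcl, hcomm⟩ := Groth.Agent.S4450.result f x s hsp hne
  let e : FractionRing A ≃ₐ[A] X.residueField x := FractionRing.algEquiv A (X.residueField x)
  have hsub : CommRingCat.ofHom (algebraMap A (FractionRing A)) =
      CommRingCat.ofHom A.subtype ≫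
        CommRingCat.ofHom (e.symm : X.residueField x →+* FractionRing A) := by
    ext a
    show algebraMap A (FractionRing A) a = e.symm (a : X.residueField x)
    exact (e.symm.commutes a).symm
  let xK : Spec (CommRingCat.of (FractionRing A)) ⟶ X :=
    Spec.map (CommRingCat.ofHom (e.symm : X.residueField x →+* FractionRing A)) ≫
      X.fromSpecResidueField x
  have hxK : xK ≫ f = Spec.map (CommRingCat.ofHom (algebraMap A (FractionRing A))) ≫ h := by
    rw [hsub, Spec.map_comp, Category.assoc, Category.assoc, hcomm]
  obtain ⟨l, hl, hl'⟩ := H A xK h hxK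
  refine ⟨l (IsLocalRing.closedPoint A), ?_, ?_⟩
  · let η : Spec (CommRingCat.of A) :=
      Spec.map (CommRingCat.ofHom (algebraMap A (FractionRing A)))
        (IsLocalRing.closedPoint (FractionRing A))
    have hη : l η = x := by
      have h1 : (Spec.map (CommRingCat.ofHom (algebraMap A (FractionRing A))) ≫ l)
          (IsLocalRing.closedPoint (FractionRing A)) = x := by
        rw [hl']
        exact Scheme.fromSpecResidueField_apply x _
      exact h1
    have hsp' : η ⤳ IsLocalRing.closedPoint A := IsLocalRing.specializes_closedPoint η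
    have := hsp'.map l.continuous
    rwa [hη] at this
  · rw [← hcl, ← hl]
    rfl

open AlgebraicGeometry.AffineSpace in
/-- **Stacks 0208.** Over a locally Noetherian base, a quasi-compact morphism locally of finite
type satisfying DVR-existence is universally closed. -/
theorem universallyClosed_of_dvrExistence {X S : Scheme.{u}} [IsLocallyNoetherian S] (f : X ⟶ S)
    [LocallyOfFiniteType f] [QuasiCompact f] (H : DvrExistence f) : UniversallyClosed f := by
  apply Groth.Agent.Lib.UnivClosedAffineSpace.universallyClosed_of_forall_isClosedMap_map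
  intro n
  have : IsLocallyNoetherian 𝔸(ULift.{u} (Fin n); S) :=
    LocallyOfFiniteType.isLocallyNoetherian (𝔸(ULift.{u} (Fin n); S) ↘ S)
  have : LocallyOfFiniteType (map (ULift.{u} (Fin n)) f) :=
    MorphismProperty.of_isPullback (P := @LocallyOfFiniteType) (isPullback_map f).flip ‹_›
  have : QuasiCompact (map (ULift.{u} (Fin n)) f) :=
    MorphismProperty.of_isPullback (P := @QuasiCompact) (isPullback_map f).flip ‹_›
  exact isClosedMap_of_dvrExistence _ (H.of_isPullback (isPullback_map f))

end Groth.Agent.Lib.DvrExistence
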