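/-
helper7: finite local homomorphisms from a complete Noetherian local ring to DVRs (for S3450).
* `eq_maximalIdeal_of_forall_mem`, `exists_prime_dim_one` : Goldman-type lemma, primes `q` with
  `A/q` one-dimensional avoiding a given element;
* `isLocalRing_of_finite_domain` : a domain finite over a complete Noetherian local ring is local;
* `exists_dvr_of_domain`, `exists_dvr` : the normalization of a one-dimensional complete local
  domain is a DVR, finite over it (uses helper98 `CompleteNagata98`);
* `exists_finset_inf_le_pow` : Chevalley's lemma for arbitrary families of ideals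
  (uses helper59 `H59SchlessChevalley`).
-/
import Mathlib
import Groth.Agent.Lib.AdicPi
import Groth.Agent.Lib.CompleteNagata98
import Groth.Agent.Lib.H59SchlessChevalley

set_option autoImplicit false
universe u v
open IsLocalRing Polynomial

namespace Groth.Agent.Lib.DvrQuot7

section A1
variable {R : Type*} [CommRing R] [IsDomain R] [IsNoetherianRing R]

theorem no_chain (P Q : Ideal R) [P.IsPrime] [Q.IsPrime] (hP : P ≠ ⊥) (hPQ : P < Q)
    (hQ : Q.height ≤ 1) : False := by
  have h0 : (⊥ : Ideal R) < P := bot_lt_iff_ne_bot.mpr hP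
  haveI : (⊥ : Ideal R).IsPrime := Ideal.isPrime_bot
  have h1 : (⊥ : Ideal R).height < P.height := Ideal.height_strict_mono_of_isPrime_of_isPrime h0
  have h2 : P.height < Q.height := Ideal.height_strict_mono_of_isPrime_of_isPrime hPQ
  have h3 : (1 : ℕ∞) ≤ P.height := Order.one_le_iff_pos.mpr (lt_of_le_of_lt bot_le h1)
  exact absurd (lt_of_le_of_lt h3 h2) (not_lt.mpr hQ)

variable [IsLocalRing R]

theorem eq_maximalIdeal_of_forall_mem (x : R) (hx0 : x ≠ 0) (hxm : x ∈ maximalIdeal R)
    (h : ∀ P : Ideal R, P.IsPrime → P ≠ ⊥ → x ∈ P) :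
    ∀ P : Ideal R, P.IsPrime → P ≠ ⊥ → P = maximalIdeal R := by
  classical
  -- the maximal ideal is minimal over `(x)`
  have hmin : maximalIdeal R ∈ (Ideal.span {x}).minimalPrimes := by
    by_contra hcon
    have hfin : (Ideal.span {x}).minimalPrimes.Finite :=
      Ideal.finite_minimalPrimes_of_isNoetherianRing R _
    have hne : (Ideal.span {x}).minimalPrimes.Nonempty := by
      rw [Set.nonempty_iff_ne_empty, Ne, Ideal.minimalPrimes_eq_empty_iff]
      intro htop
      have : (1 : R) ∈ Ideal.span {x} := htop ▸ Submodule.mem_top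
      have hx1 : Ideal.span {x} ≤ maximalIdeal R := (Ideal.span_singleton_le_iff_mem _).mpr hxm
      exact (Ideal.ne_top_iff_one _).mp (Ideal.IsPrime.ne_top' (I := maximalIdeal R)) (hx1 this)
    -- prime avoidance
    have hav : ¬ ((maximalIdeal R : Set R) ⊆ ⋃ p ∈ (hfin.toFinset : Set (Ideal R)), (p : Set R)) := by
      intro hsub
      have hsub' := (Ideal.subset_union_prime (R := R) (s := hfin.toFinset)
        (f := fun p : Ideal R => p) (maximalIdeal R) (maximalIdeal R)
        (fun p hp _ _ => (hfin.mem_toFinset.mp hp).1.1)).mp hsub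
      obtain ⟨p, hp, hle⟩ := hsub'
      have hp' := hfin.mem_toFinset.mp hp
      haveI := hp'.1.1
      have : p = maximalIdeal R :=
        le_antisymm (le_maximalIdeal (Ideal.IsPrime.ne_top')) hle
      exact hcon (this ▸ hp')
    rw [Set.not_subset] at hav
    obtain ⟨y, hym, hy⟩ := hav
    simp only [Set.mem_iUnion, not_exists, Set.Finite.coe_toFinset] at hy
    have hy0 : y ≠ 0 := by
      rintro rfl
      obtain ⟨p, hp⟩ := hne
      exact hy p hp p.zero_mem
    have hytop : Ideal.span {y} ≠ ⊤ := by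
      intro htop
      have : (1 : R) ∈ Ideal.span {y} := htop ▸ Submodule.mem_top
      have hy1 : Ideal.span {y} ≤ maximalIdeal R := (Ideal.span_singleton_le_iff_mem _).mpr hym
      exact (Ideal.ne_top_iff_one _).mp (Ideal.IsPrime.ne_top' (I := maximalIdeal R)) (hy1 this)
    have hne' : (Ideal.span {y}).minimalPrimes.Nonempty := by
      rw [Set.nonempty_iff_ne_empty, Ne, Ideal.minimalPrimes_eq_empty_iff]
      exact hytop
    obtain ⟨Q, hQ⟩ := hne'
    haveI := hQ.1.1
    have hyQ : y ∈ Q := hQ.1.2 (Ideal.mem_span_singleton_self y)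
    have hQ0 : Q ≠ ⊥ := by
      rintro rfl
      exact hy0 ((Submodule.mem_bot R).mp hyQ)
    have hxQ : x ∈ Q := h Q inferInstance hQ0
    obtain ⟨p, hp, hpQ⟩ := Ideal.exists_minimalPrimes_le
      (show Ideal.span {x} ≤ Q from (Ideal.span_singleton_le_iff_mem _).mpr hxQ)
    haveI := hp.1.1
    have hp0 : p ≠ ⊥ := by
      rintro rfl
      exact hx0 ((Submodule.mem_bot R).mp (hp.1.2 (Ideal.mem_span_singleton_self x)))
    have hlt : p < Q := lt_of_le_of_ne hpQ (by rintro rfl; exact hy p hp hyQ)
    exact no_chain p Q hp0 hlt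
      (Ideal.height_le_one_of_isPrincipal_of_mem_minimalPrimes _ Q hQ)
  intro P hP hP0
  haveI := hP
  by_contra hne
  have hlt : P < maximalIdeal R := lt_of_le_of_ne (le_maximalIdeal hP.ne_top) hne
  exact no_chain P (maximalIdeal R) hP0 hlt
    (Ideal.height_le_one_of_isPrincipal_of_mem_minimalPrimes _ _ hmin)

end A1

section A2
variable {A : Type*} [CommRing A] [IsNoetherianRing A] [IsLocalRing A]

/-- In a Noetherian local ring, for a non-maximal prime `p` and `x ∉ p` there is a prime
`q ⊇ p` not containing `x`, different from the maximal ideal, such that the only prime strictly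
containing `q` is the maximal ideal (`A/q` is one-dimensional). -/
theorem exists_prime_dim_one (p : Ideal A) [p.IsPrime] (hp : p ≠ maximalIdeal A) (x : A)
    (hx : x ∉ p) :
    ∃ q : Ideal A, q.IsPrime ∧ p ≤ q ∧ x ∉ q ∧ q ≠ maximalIdeal A ∧
      ∀ P : Ideal A, P.IsPrime → q < P → P = maximalIdeal A := by
  have hplt : p < maximalIdeal A := lt_of_le_of_ne (le_maximalIdeal Ideal.IsPrime.ne_top') hp
  obtain ⟨y, hym, hyp⟩ := SetLike.exists_of_lt hplt
  set z := x * y with hz
  have hzp : z ∉ p := fun h => (Ideal.IsPrime.mem_or_mem inferInstance h).elim hx hyp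
  have hzm : z ∈ maximalIdeal A := Ideal.mul_mem_left _ _ hym
  let S : Set (Ideal A) := {q | q.IsPrime ∧ p ≤ q ∧ z ∉ q}
  have hS : S.Nonempty := ⟨p, inferInstance, le_rfl, hzp⟩
  obtain ⟨q, ⟨hqprime, hpq, hzq⟩, hqmax⟩ :=
    (set_has_maximal_iff_noetherian (R := A) (M := A)).mpr inferInstance S hS
  haveI := hqprime
  have hP : ∀ P : Ideal A, P.IsPrime → q < P → z ∈ P := by
    intro P hPp hqP
    by_contra hzP
    exact hqmax P ⟨hPp, hpq.trans hqP.le, hzP⟩ hqP
  refine ⟨q, hqprime, hpq, fun hxq => hzq (Ideal.mul_mem_right _ _ hxq), ?_, ?_⟩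
  · rintro rfl
    exact hzq hzm
  -- pass to the quotient
  haveI : Nontrivial (A ⧸ q) := Ideal.Quotient.nontrivial_iff.mpr hqprime.ne_top
  haveI : IsLocalRing (A ⧸ q) :=
    IsLocalRing.of_surjective' (Ideal.Quotient.mk q) Ideal.Quotient.mk_surjective
  have hcomap : (maximalIdeal (A ⧸ q)).comap (Ideal.Quotient.mk q) = maximalIdeal A := by
    haveI : ((maximalIdeal (A ⧸ q)).comap (Ideal.Quotient.mk q)).IsMaximal :=
      Ideal.comap_isMaximal_of_surjective _ Ideal.Quotient.mk_surjective
    exact IsLocalRing.eq_maximalIdeal inferInstance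
  have key := eq_maximalIdeal_of_forall_mem (R := A ⧸ q) (Ideal.Quotient.mk q z)
    (fun h => hzq (Ideal.Quotient.eq_zero_iff_mem.mp h))
    (by
      have : z ∈ (maximalIdeal (A ⧸ q)).comap (Ideal.Quotient.mk q) := hcomap ▸ hzm
      exact this)
    (by
      intro P hPp hP0
      haveI := hPp
      have hlt : q < P.comap (Ideal.Quotient.mk q) := by
        refine lt_of_le_of_ne ?_ ?_
        · intro a ha
          rw [Ideal.mem_comap, Ideal.Quotient.eq_zero_iff_mem.mpr ha]
          exact P.zero_mem
        · intro heq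
          apply hP0
          rw [← Ideal.map_comap_of_surjective _ Ideal.Quotient.mk_surjective P, ← heq,
            Ideal.map_quotient_self]
      exact hP _ (Ideal.comap_isPrime _ _) hlt)
  intro P hPp hqP
  haveI := hPp
  have hker : RingHom.ker (Ideal.Quotient.mk q) ≤ P := by rw [Ideal.mk_ker]; exact hqP.le
  have h1 : (P.map (Ideal.Quotient.mk q)).IsPrime :=
    Ideal.map_isPrime_of_surjective Ideal.Quotient.mk_surjective hker
  have h2 : P.map (Ideal.Quotient.mk q) ≠ ⊥ := by
    intro h0
    have : P ≤ q := by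
      rw [← Ideal.mk_ker (I := q)]
      intro a ha
      rw [RingHom.mem_ker]
      have := Ideal.mem_map_of_mem (Ideal.Quotient.mk q) ha
      rw [h0] at this
      exact (Submodule.mem_bot _).mp this
    exact absurd hqP (not_lt_of_ge this)
  have h3 := key _ h1 h2
  rw [← hcomap, ← h3, Ideal.comap_map_of_surjective _ Ideal.Quotient.mk_surjective,
    ← RingHom.ker_eq_comap_bot]
  exact (sup_eq_left.mpr hker).symm

end A2

section Idem
variable {S : Type*} [CommRing S]

/-- (copied from helper76 `BoschCore76X`) idempotents lift along `S → S/I`, `S` complete. -/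
theorem exists_idempotent_lift_of_isAdicComplete (I : Ideal S) [IsAdicComplete I S] (b : S)
    (hb : b * b - b ∈ I) : ∃ e : S, IsIdempotentElem e ∧ e - b ∈ I := by
  rcases subsingleton_or_nontrivial S with hS | hS
  · exact ⟨0, Subsingleton.elim _ _, by rw [Subsingleton.elim (0 - b) 0]; exact I.zero_mem⟩
  have hH : HenselianRing S I := inferInstance
  have hmonic : (X ^ 2 - X : S[X]).Monic := by
    apply Polynomial.monic_X_pow_sub
    rw [Polynomial.degree_X]
    norm_num
  have hev : (X ^ 2 - X : S[X]).eval b = b * b - b := by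
    simp [pow_two]
  have hder : (X ^ 2 - X : S[X]).derivative.eval b = 2 * b - 1 := by
    simp only [derivative_sub, derivative_X_pow, derivative_X, eval_sub, eval_mul, eval_C, eval_pow,
      eval_X, eval_one]
    norm_num
  obtain ⟨a, ha, hab⟩ := hH.is_henselian (X ^ 2 - X) hmonic b (hev ▸ hb) (by
    rw [hder]
    refine IsUnit.of_mul_eq_one (Ideal.Quotient.mk I (2 * b - 1)) ?_
    rw [← map_mul, ← map_one (Ideal.Quotient.mk I), Ideal.Quotient.eq]
    have : (2 * b - 1) * (2 * b - 1) - 1 = 4 * (b * b - b) := by ring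
    rw [this]
    exact I.mul_mem_left _ hb)
  refine ⟨a, ?_, hab⟩
  have : a * a - a = 0 := by
    have := ha
    rw [Polynomial.IsRoot, Polynomial.eval_sub, Polynomial.eval_pow, Polynomial.eval_X] at this
    rw [← this]; ring
  exact sub_eq_zero.mp this

theorem isUnit_of_isUnit_mk_of_le_jacobson (J : Ideal S) (hJ : J ≤ Ideal.jacobson ⊥) (a : S)
    (ha : IsUnit (Ideal.Quotient.mk J a)) : IsUnit a := by
  obtain ⟨c, hc⟩ := ha.exists_right_inv
  obtain ⟨b, rfl⟩ := Ideal.Quotient.mk_surjective c
  rw [← map_mul, ← map_one (Ideal.Quotient.mk J), Ideal.Quotient.eq] at hc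
  have h1 := (Ideal.mem_jacobson_bot.mp (hJ hc)) 1
  have h2 : (a * b - 1) * 1 + 1 = a * b := by ring
  rw [h2] at h1
  exact isUnit_of_mul_isUnit_left h1

theorem isLocalRing_of_le_jacobson (J : Ideal S) (hJ : J ≤ Ideal.jacobson ⊥)
    [IsLocalRing (S ⧸ J)] : IsLocalRing S := by
  have : Nontrivial S := by
    have : Nontrivial (S ⧸ J) := inferInstance
    exact (Ideal.Quotient.mk J).domain_nontrivial
  refine IsLocalRing.of_isUnit_or_isUnit_one_sub_self fun a => ?_
  rcases IsLocalRing.isUnit_or_isUnit_one_sub_self (Ideal.Quotient.mk J a) with h | h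
  · exact Or.inl (isUnit_of_isUnit_mk_of_le_jacobson J hJ a h)
  · refine Or.inr (isUnit_of_isUnit_mk_of_le_jacobson J hJ (1 - a) ?_)
    rwa [map_sub, map_one]

/-- a nontrivial reduced Artinian ring with only trivial idempotents is local -/
theorem isLocalRing_of_artinian_reduced [IsArtinianRing S] [IsReduced S] [Nontrivial S]
    (h : ∀ e : S, IsIdempotentElem e → e = 0 ∨ e = 1) : IsLocalRing S := by
  classical
  by_contra hnl
  have hnt : Nontrivial (MaximalSpectrum S) := (IsLocalRing.not_isLocalRing_tfae.out 0 1).mp hnl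
  obtain ⟨I₁, I₂, hne⟩ := hnt
  let φ := IsArtinianRing.equivPi S
  have hfield : ∀ I : MaximalSpectrum S, Nontrivial (S ⧸ I.asIdeal) := fun I =>
    Ideal.Quotient.nontrivial_iff.mpr I.isMaximal.ne_top
  set ε : S := φ.symm (Pi.single I₁ 1) with hε
  have hidem : IsIdempotentElem ε := by
    rw [IsIdempotentElem, hε, ← map_mul, ← Pi.single_mul, mul_one]
  have hφε : φ ε = Pi.single I₁ 1 := φ.apply_symm_apply _
  rcases h ε hidem with h0 | h1
  · rw [h0, map_zero] at hφε
    have := congrFun hφε I₁
    rw [Pi.single_eq_same, Pi.zero_apply] at this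
    exact zero_ne_one this
  · rw [h1, map_one] at hφε
    have := congrFun hφε I₂
    rw [Pi.single_eq_of_ne' hne, Pi.one_apply] at this
    exact one_ne_zero this

end Idem

section Complete

variable {R : Type*} [CommRing R] (I : Ideal R) (H : Type*) [AddCommGroup H] [Module R H]

/-- (copied from helper13 `FormalFn13`) A finite module over a Noetherian `I`-adically complete
ring is `I`-adically complete. -/
theorem isAdicComplete_of_finite [IsNoetherianRing R] [IsAdicComplete I R] [Module.Finite R H] :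
    IsAdicComplete I H := by
  have hjac : I ≤ (⊥ : Ideal R).jacobson := IsAdicComplete.le_jacobson_bot I
  have hH : IsHausdorff I H := by
    rw [isHausdorff_iff]
    intro x hx
    have h0 : x ∈ (⨅ n : ℕ, I ^ n • ⊤ : Submodule R H) := by
      rw [Submodule.mem_iInf]
      intro n
      have := hx n
      rwa [SModEq.zero] at this
    rw [Ideal.iInf_pow_smul_eq_bot_of_le_jacobson I hjac] at h0
    exact h0
  have hP : IsPrecomplete I H := by
    obtain ⟨n, f, hf⟩ := Module.Finite.exists_fin' R H
    rw [← AdicCompletion.of_surjective_iff]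
    have hpi : IsPrecomplete I (Fin n → R) := Lib.AdicPi.isPrecomplete_pi I (Fin n)
    intro y
    obtain ⟨z, hz⟩ := AdicCompletion.map_surjective I hf y
    obtain ⟨w, hw⟩ := AdicCompletion.of_surjective I (Fin n → R) z
    refine ⟨f w, ?_⟩
    rw [← hz, ← hw, AdicCompletion.map_of]
  exact { toIsHausdorff := hH, toIsPrecomplete := hP }

end Complete

section Local

variable (D : Type*) [CommRing D] [IsNoetherianRing D] [IsLocalRing D]
  [IsAdicComplete (maximalIdeal D) D]

/-- A domain finite over a complete Noetherian local ring is local. -/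
theorem isLocalRing_of_finite_domain (C : Type*) [CommRing C] [IsDomain C] [Algebra D C]
    [Module.Finite D C] : IsLocalRing C := by
  have hc1 : IsAdicComplete (maximalIdeal D) C := isAdicComplete_of_finite _ C
  set tC : Ideal C := (maximalIdeal D).map (algebraMap D C) with htC
  have hc2 : IsAdicComplete tC C := (IsAdicComplete.map_algebraMap_iff (maximalIdeal D) C).mpr hc1
  set J : Ideal C := tC.radical with hJ
  have hJjac : J ≤ Ideal.jacobson ⊥ := by
    refine Ideal.radical_le_jacobson.trans ?_
    refine (Ideal.jacobson_mono (IsAdicComplete.le_jacobson_bot tC)).trans ?_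
    rw [Ideal.jacobson_idem]
  have hJtop : J ≠ ⊤ := by
    intro h
    have h2 : (Ideal.jacobson (⊥ : Ideal C)) = ⊤ := top_le_iff.mp (h ▸ hJjac)
    rw [Ideal.jacobson_eq_top_iff] at h2
    exact bot_ne_top h2
  have hnt : Nontrivial (C ⧸ J) := Ideal.Quotient.nontrivial_iff.mpr hJtop
  have hred : IsReduced (C ⧸ J) :=
    (Ideal.isRadical_iff_quotient_reduced J).mp (Ideal.radical_isRadical tC)
  set m := IsLocalRing.maximalIdeal D with hm
  have hmJ : ∀ a ∈ m, algebraMap D C a ∈ J := fun a ha =>
    Ideal.le_radical (Ideal.mem_map_of_mem _ ha)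
  let ψ : D ⧸ m →+* C ⧸ J :=
    Ideal.Quotient.lift m ((Ideal.Quotient.mk J).comp (algebraMap D C)) (fun a ha => by
      rw [RingHom.comp_apply]; exact Ideal.Quotient.eq_zero_iff_mem.mpr (hmJ a ha))
  letI : Field (D ⧸ m) := Ideal.Quotient.field m
  letI : Algebra (D ⧸ m) (C ⧸ J) := ψ.toAlgebra
  have htow : IsScalarTower D (D ⧸ m) (C ⧸ J) := IsScalarTower.of_algebraMap_eq (fun x => rfl)
  have hfinR : Module.Finite D (C ⧸ J) :=
    Module.Finite.of_surjective (Ideal.Quotient.mkₐ D J).toLinearMap
      (Ideal.Quotient.mkₐ_surjective D J)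
  have hfink : Module.Finite (D ⧸ m) (C ⧸ J) := Module.Finite.of_restrictScalars_finite D _ _
  have hart : IsArtinianRing (C ⧸ J) := IsArtinianRing.of_finite (D ⧸ m) (C ⧸ J)
  have hidem : ∀ ε : C ⧸ J, IsIdempotentElem ε → ε = 0 ∨ ε = 1 := by
    intro ε hε
    let f : C ⧸ tC →+* C ⧸ J := Ideal.Quotient.factor (Ideal.le_radical : tC ≤ J)
    have hnil : ∀ x ∈ RingHom.ker f, IsNilpotent x := by
      intro x hx
      obtain ⟨c, rfl⟩ := Ideal.Quotient.mk_surjective x
      rw [RingHom.mem_ker, Ideal.Quotient.factor_mk, Ideal.Quotient.eq_zero_iff_mem] at hx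
      obtain ⟨n, hn⟩ := hx
      exact ⟨n, by rw [← map_pow]; exact Ideal.Quotient.eq_zero_iff_mem.mpr hn⟩
    obtain ⟨e', he', hfe'⟩ := exists_isIdempotentElem_eq_of_ker_isNilpotent f hnil ε
      (Ideal.Quotient.factor_surjective _ ε) hε
    obtain ⟨b, rfl⟩ := Ideal.Quotient.mk_surjective e'
    have hb : b * b - b ∈ tC := by
      rw [← Ideal.Quotient.eq, map_mul]
      exact he'
    obtain ⟨e, he, heb⟩ := exists_idempotent_lift_of_isAdicComplete tC b hb
    have hεe : ε = Ideal.Quotient.mk J e := by
      rw [← hfe', ← Ideal.Quotient.factor_mk (Ideal.le_radical : tC ≤ J) e]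
      congr 1
      exact (Ideal.Quotient.eq.mpr heb).symm
    rcases IsIdempotentElem.iff_eq_zero_or_one.mp he with h | h
    · left; rw [hεe, h, map_zero]
    · right; rw [hεe, h, map_one]
  have hloc : IsLocalRing (C ⧸ J) := isLocalRing_of_artinian_reduced hidem
  exact isLocalRing_of_le_jacobson J hJjac

end Local

section Dvr

/-- The normalization of a one-dimensional complete Noetherian local domain is a DVR, finite over
it. -/
theorem exists_dvr_of_domain (D : Type u) [CommRing D] [IsDomain D] [IsNoetherianRing D]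
    [IsLocalRing D] [IsAdicComplete (maximalIdeal D) D] (hD : ¬ IsField D)
    (hdim : ∀ P : Ideal D, P.IsPrime → P ≠ ⊥ → P = maximalIdeal D) :
    ∃ (V : Type u) (_ : CommRing V) (_ : IsDomain V) (_ : IsDiscreteValuationRing V)
      (φ : D →+* V), IsLocalHom φ ∧ φ.Finite ∧ Function.Injective φ := by
  let K := FractionRing D
  let V := integralClosure D K
  have hfin : Module.Finite D V :=
    Groth.Agent.Lib.CompleteNagata98.isN2_of_complete_local_domain D K inferInstance
  haveI := hfin
  haveI hic : IsIntegrallyClosed V := integralClosure.isIntegrallyClosedOfFiniteExtension K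
  haveI hnoeth : IsNoetherianRing V := IsNoetherianRing.of_finite D V
  haveI hloc : IsLocalRing V := isLocalRing_of_finite_domain D V
  have hinj : Function.Injective (algebraMap D V) := by
    intro a b hab
    have : algebraMap D K a = algebraMap D K b := congrArg (fun v : V => (v : K)) hab
    exact IsFractionRing.injective D K this
  haveI : Algebra.IsIntegral D V := inferInstance
  have hVnf : ¬ IsField V := fun h => hD (isField_of_isIntegral_of_isField hinj h)
  have hprime : ∀ P : Ideal V, P ≠ ⊥ → P.IsPrime → P = maximalIdeal V := by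
    intro P hP0 hPp
    haveI := hPp
    have h1 : P.comap (algebraMap D V) ≠ ⊥ := by
      intro h0
      exact hP0 (Ideal.eq_bot_of_comap_eq_bot h0)
    have h2 := hdim _ (Ideal.comap_isPrime _ _) h1
    have h3 : (P.comap (algebraMap D V)).IsMaximal := h2 ▸ maximalIdeal.isMaximal D
    have : P.IsMaximal := Ideal.isMaximal_of_isIntegral_of_isMaximal_comap (R := D) P h3
    exact IsLocalRing.eq_maximalIdeal this
  have hpir : IsPrincipalIdealRing V :=
    ((tfae_of_isNoetherianRing_of_isLocalRing_of_isDomain V).out 3 0).mp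
      (⟨hic, hprime⟩ : IsIntegrallyClosed V ∧ ∀ P : Ideal V, P ≠ ⊥ → P.IsPrime → P = maximalIdeal V)
  have hdvr : IsDiscreteValuationRing V :=
    { hpir, hloc with not_a_field' := isField_iff_maximalIdeal_eq.not.mp hVnf }
  refine ⟨V, inferInstance, inferInstance, hdvr, algebraMap D V, ?_, ?_, hinj⟩
  · exact (algebraMap_isIntegral_iff.mpr inferInstance).isLocalHom hinj
  · exact RingHom.finite_algebraMap.mpr hfin

/-- A prime `q` of a complete Noetherian local ring with `A/q` one-dimensional is the kernel of a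
finite local homomorphism to a discrete valuation ring. -/
theorem exists_dvr (A : Type u) [CommRing A] [IsNoetherianRing A] [IsLocalRing A]
    [IsAdicComplete (maximalIdeal A) A] (q : Ideal A) [hqp : q.IsPrime] (hq : q ≠ maximalIdeal A)
    (hdim : ∀ P : Ideal A, P.IsPrime → q < P → P = maximalIdeal A) :
    ∃ (V : Type u) (_ : CommRing V) (_ : IsDomain V) (_ : IsDiscreteValuationRing V)
      (φ : A →+* V), IsLocalHom φ ∧ φ.Finite ∧ RingHom.ker φ = q := by
  haveI : Nontrivial (A ⧸ q) := Ideal.Quotient.nontrivial_iff.mpr hqp.ne_top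
  haveI : IsLocalRing (A ⧸ q) :=
    IsLocalRing.of_surjective' (Ideal.Quotient.mk q) Ideal.Quotient.mk_surjective
  haveI : IsAdicComplete (maximalIdeal (A ⧸ q)) (A ⧸ q) :=
    FSFlat.isAdicComplete_of_surjective (Ideal.Quotient.mk q) Ideal.Quotient.mk_surjective
  haveI hlocmk : IsLocalHom (Ideal.Quotient.mk q) :=
    IsLocalHom.of_surjective _ Ideal.Quotient.mk_surjective
  have hcomap : (maximalIdeal (A ⧸ q)).comap (Ideal.Quotient.mk q) = maximalIdeal A :=
    IsLocalRing.maximalIdeal_comap _
  have hD : ¬ IsField (A ⧸ q) := by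
    intro h
    have : q.IsMaximal := Ideal.Quotient.maximal_of_isField _ h
    exact hq (IsLocalRing.eq_maximalIdeal this)
  have hdim' : ∀ P : Ideal (A ⧸ q), P.IsPrime → P ≠ ⊥ → P = maximalIdeal (A ⧸ q) := by
    intro P hPp hP0
    haveI := hPp
    have hlt : q < P.comap (Ideal.Quotient.mk q) := by
      refine lt_of_le_of_ne ?_ ?_
      · intro a ha
        rw [Ideal.mem_comap, Ideal.Quotient.eq_zero_iff_mem.mpr ha]
        exact P.zero_mem
      · intro heq
        apply hP0
        rw [← Ideal.map_comap_of_surjective _ Ideal.Quotient.mk_surjective P, ← heq,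
          Ideal.map_quotient_self]
    have h1 := hdim _ (Ideal.comap_isPrime _ _) hlt
    rw [← Ideal.map_comap_of_surjective _ Ideal.Quotient.mk_surjective P, h1, ← hcomap,
      Ideal.map_comap_of_surjective _ Ideal.Quotient.mk_surjective]
  obtain ⟨V, i1, i2, i3, ψ, hψloc, hψfin, hψinj⟩ := exists_dvr_of_domain (A ⧸ q) hD hdim'
  refine ⟨V, i1, i2, i3, ψ.comp (Ideal.Quotient.mk q), ?_, ?_, ?_⟩
  · exact RingHom.isLocalHom_comp _ _
  · exact hψfin.comp (RingHom.Finite.of_surjective _ Ideal.Quotient.mk_surjective)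
  · ext a
    rw [RingHom.mem_ker, RingHom.comp_apply, map_eq_zero_iff ψ hψinj,
      Ideal.Quotient.eq_zero_iff_mem]

end Dvr

section Chev

variable {A : Type*} [CommRing A] [IsNoetherianRing A] [IsLocalRing A]

theorem isArtinianRing_quotient_pow (k : ℕ) : IsArtinianRing (A ⧸ maximalIdeal A ^ (k + 1)) := by
  apply IsLocalRing.quotient_artinian_of_mem_minimalPrimes_of_isLocalRing
  refine ⟨⟨inferInstance, Ideal.pow_le_self (Nat.succ_ne_zero k)⟩, ?_⟩
  rintro P ⟨hP, hle⟩ -
  exact hP.le_of_pow_le hle

/-- Chevalley's lemma for an arbitrary family of ideals with zero intersection in a complete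
Noetherian local ring: some finite subfamily has intersection inside `m ^ n`. -/
theorem exists_finset_inf_le_pow [IsAdicComplete (maximalIdeal A) A] (Q : Set (Ideal A))
    (h0 : ∀ x : A, (∀ q ∈ Q, x ∈ q) → x = 0) (n : ℕ) :
    ∃ s : Finset (Ideal A), (↑s : Set (Ideal A)) ⊆ Q ∧ s.inf id ≤ maximalIdeal A ^ n := by
  classical
  have hart := fun k : ℕ => isArtinianRing_quotient_pow (A := A) k
  -- Step 1
  have step1 : ∀ k : ℕ, ∃ s : Finset (Ideal A), (↑s : Set (Ideal A)) ⊆ Q ∧
      ∀ t : Finset (Ideal A), (↑t : Set (Ideal A)) ⊆ Q → s ⊆ t →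
        t.inf id ⊔ maximalIdeal A ^ (k + 1) = s.inf id ⊔ maximalIdeal A ^ (k + 1) := by
    intro k
    let mk := Ideal.Quotient.mk (maximalIdeal A ^ (k + 1))
    let 𝒮 : Set (Ideal (A ⧸ maximalIdeal A ^ (k + 1))) :=
      {I | ∃ s : Finset (Ideal A), (↑s : Set (Ideal A)) ⊆ Q ∧ I = (s.inf id).map mk}
    have hne : 𝒮.Nonempty := ⟨_, ∅, by simp, rfl⟩
    obtain ⟨I, ⟨s, hsQ, rfl⟩, hmin⟩ :=
      (set_has_minimal_iff_artinian (R := A ⧸ maximalIdeal A ^ (k + 1))
        (M := A ⧸ maximalIdeal A ^ (k + 1))).mpr (hart k) 𝒮 hne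
    refine ⟨s, hsQ, fun t htQ hst => ?_⟩
    have hle : (t.inf id).map mk ≤ (s.inf id).map mk := Ideal.map_mono (Finset.inf_mono hst)
    have heq : (t.inf id).map mk = (s.inf id).map mk := by
      refine le_antisymm hle ?_
      by_contra hcon
      exact hmin _ ⟨t, htQ, rfl⟩ (lt_of_le_not_ge hle hcon)
    have h2 := (Ideal.map_eq_iff_sup_ker_eq_of_surjective mk Ideal.Quotient.mk_surjective).1 heq
    rw [Ideal.mk_ker] at h2
    exact h2
  choose s hsQ hs using step1
  let T : ℕ → Finset (Ideal A) := fun k => (Finset.range (k + 1)).biUnion s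
  have hTQ : ∀ k, (↑(T k) : Set (Ideal A)) ⊆ Q := by
    intro k q hq
    rw [Finset.mem_coe, Finset.mem_biUnion] at hq
    obtain ⟨j, -, hj⟩ := hq
    exact hsQ j hj
  have hsT : ∀ k, s k ⊆ T k := fun k =>
    Finset.subset_biUnion_of_mem s (Finset.mem_range.mpr (Nat.lt_succ_self k))
  have hTmono : Monotone T := by
    intro a b hab
    exact Finset.biUnion_subset_biUnion_of_subset_left s
      (Finset.range_subset_range.mpr (Nat.succ_le_succ hab))
  let J : ℕ → Ideal A := fun k => (T k).inf id
  have hJ : Antitone J := fun a b hab => Finset.inf_mono (hTmono hab)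
  have hJinf : (⨅ i, J i) = ⊥ := by
    rw [eq_bot_iff]
    intro x hx
    rw [Submodule.mem_iInf] at hx
    rw [Submodule.mem_bot]
    apply h0
    intro q hq
    apply H59SchlessChevalley.mem_of_forall_mem_sup_pow
    intro j
    have hjle : q ⊔ maximalIdeal A ^ (j + 1) ≤ q ⊔ maximalIdeal A ^ j :=
      sup_le_sup_left (Ideal.pow_le_pow_right (Nat.le_succ j)) _
    apply hjle
    have htQ : (↑(insert q (T j)) : Set (Ideal A)) ⊆ Q := by
      intro p hp
      rw [Finset.mem_coe, Finset.mem_insert] at hp
      rcases hp with rfl | hp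
      · exact hq
      · exact hTQ j hp
    have e1 := hs j (insert q (T j)) htQ ((hsT j).trans (Finset.subset_insert _ _))
    have e2 := hs j (T j) (hTQ j) (hsT j)
    have h1 : x ∈ (T j).inf id ⊔ maximalIdeal A ^ (j + 1) := Ideal.mem_sup_left (hx j)
    rw [e2, ← e1] at h1
    have h3 : (insert q (T j)).inf id ≤ q := Finset.inf_le (f := id) (Finset.mem_insert_self q _)
    exact (sup_le_sup_right h3 _) h1
  obtain ⟨k, hk⟩ := H59SchlessChevalley.chevalley hart J hJ n
  rw [hJinf, bot_sup_eq] at hk
  exact ⟨T k, hTQ k, hk.trans (Ideal.pow_le_pow_right (Nat.le_succ n))⟩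

end Chev

end Groth.Agent.Lib.DvrQuot7
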