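import Groth.Agent.Lib.DvrResExt57b

set_option autoImplicit false
set_option linter.style.haveILetI false
set_option linter.unusedSectionVars false
universe u

/-! helper57: DvrResExt57 continued: step_core (monogenic step for a given polynomial),
chain upper bounds with union description, LocFree (locally finite free of q-power rank). -/

namespace Groth.Agent.Lib.DvrResExt57

open Polynomial IsLocalRing

section Step2

variable {B k' : Type*} [CommRing B] [IsLocalRing B] [Field k']

/-- Core of the monogenic step for a given monic polynomial with irreducible reduction. -/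
theorem step_core (ι : B →+* k') (hι : RingHom.ker ι = maximalIdeal B) {π : B}
    (hπ : maximalIdeal B = Ideal.span {π}) (ω : k') (F : B[X]) (hFm : F.Monic)
    (hFirr : Irreducible (F.map (residue B))) (hF : eval₂ ι ω F = 0) :
    (∀ y : AdjoinRoot F, AdjoinRoot.lift ι ω hF y = 0 → ∃ z, y = AdjoinRoot.of F π * z) ∧
    (∀ y : AdjoinRoot F, AdjoinRoot.lift ι ω hF y ≠ 0 → IsUnit y) := by
  classical
  have hπmem : π ∈ maximalIdeal B := by rw [hπ]; exact Ideal.mem_span_singleton_self π
  let ιb : ResidueField B →+* k' := Ideal.Quotient.lift (maximalIdeal B) ι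
    (fun a ha => by rw [← hι] at ha; exact ha)
  have hιb : ∀ b : B, ιb (residue B b) = ι b := fun b => Ideal.Quotient.lift_mk _ _ _
  letI : Algebra (ResidueField B) k' := ιb.toAlgebra
  have hev : ∀ G : B[X], eval₂ ι ω G = aeval ω (G.map (residue B)) := by
    intro G
    rw [aeval_def, eval₂_map]
    congr 1
  set g := F.map (residue B) with hg
  have hgm : g.Monic := hFm.map _
  have hgω : aeval ω g = 0 := by rw [← hev]; exact hF
  have hgmin : g = minpoly (ResidueField B) ω :=
    minpoly.eq_of_irreducible_of_monic hFirr hgω hgm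
  have hsurj : ∀ q : (ResidueField B)[X], ∃ Q : B[X], Q.map (residue B) = q :=
    fun q => Polynomial.map_surjective _ residue_surjective q
  refine ⟨?_, ?_⟩
  · intro y hy
    obtain ⟨G, rfl⟩ := AdjoinRoot.mk_surjective y
    rw [AdjoinRoot.lift_mk, hev] at hy
    obtain ⟨hb, hhb⟩ := minpoly.dvd (ResidueField B) ω hy
    rw [← hgmin] at hhb
    obtain ⟨H, rfl⟩ := hsurj hb
    have h0 : (G - F * H).map (residue B) = 0 := by
      rw [Polynomial.map_sub, Polynomial.map_mul, ← hg, hhb, sub_self]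
    obtain ⟨G₁, hG₁⟩ := exists_C_mul_of_map_residue_eq_zero hπ _ h0
    refine ⟨AdjoinRoot.mk F G₁, ?_⟩
    have : G = F * H + C π * G₁ := by rw [← hG₁]; ring
    rw [this, map_add, map_mul, AdjoinRoot.mk_self, zero_mul, zero_add, map_mul, AdjoinRoot.mk_C]
  · intro y hy
    obtain ⟨G, rfl⟩ := AdjoinRoot.mk_surjective y
    rw [AdjoinRoot.lift_mk, hev] at hy
    have hnd : ¬ g ∣ G.map (residue B) := by
      intro hdvd
      apply hy
      obtain ⟨q, hq⟩ := hdvd
      rw [hq, map_mul, hgω, zero_mul]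
    have hcop : IsCoprime g (G.map (residue B)) := (hFirr.coprime_iff_not_dvd).2 hnd
    obtain ⟨ub, vb, huv⟩ := hcop
    obtain ⟨U, rfl⟩ := hsurj ub
    obtain ⟨V, rfl⟩ := hsurj vb
    have h0 : (U * F + V * G - 1).map (residue B) = 0 := by
      rw [Polynomial.map_sub, Polynomial.map_add, Polynomial.map_mul, Polynomial.map_mul, ← hg,
        Polynomial.map_one, huv, sub_self]
    obtain ⟨W, hW⟩ := exists_C_mul_of_map_residue_eq_zero hπ _ h0
    have h1 : AdjoinRoot.mk F V * AdjoinRoot.mk F G = 1 + AdjoinRoot.of F π * AdjoinRoot.mk F W := by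
      have : V * G = 1 + C π * W - U * F := by rw [← hW]; ring
      rw [← map_mul, this, map_sub, map_add, map_one, map_mul, AdjoinRoot.mk_C, map_mul,
        AdjoinRoot.mk_self, mul_zero, sub_zero]
    have h2 : IsUnit (AdjoinRoot.mk F V * AdjoinRoot.mk F G) := by
      rw [h1]; exact isUnit_one_add_of_mul hπmem hFm _
    exact isUnit_of_mul_isUnit_right h2

end Step2

namespace Obj

variable {OK : Type u} [CommRing OK] [IsDomain OK] [IsDiscreteValuationRing OK]
  {Ω : Type u} [Field Ω] [Algebra OK Ω]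
  {k' : Type u} [Field k'] [Algebra OK k'] {π : OK}

/-- Upper bound of a nonempty chain, with the description of its subalgebra as a union. -/
lemma exists_upper_bound' (c : Set (Obj OK Ω k' π)) (hc : IsChain (· ≤ ·) c) (hne : c.Nonempty) :
    ∃ ub : Obj OK Ω k' π, (∀ X ∈ c, X ≤ ub) ∧ ∀ b ∈ ub.B, ∃ X ∈ c, b ∈ X.B := by
  classical
  haveI : Nonempty c := hne.to_subtype
  let K : c → Subalgebra OK Ω := fun i => i.1.B
  have dir : Directed (· ≤ ·) K := by
    intro i j
    rcases hc.total i.2 j.2 with h | h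
    · exact ⟨j, h.1, le_rfl⟩
    · exact ⟨i, le_rfl, h.1⟩
  let f : ∀ i, K i →ₐ[OK] k' := fun i => i.1.ι
  have hf : ∀ (i j : c) (h : K i ≤ K j), f i = (f j).comp (Subalgebra.inclusion h) := by
    intro i j h
    ext b
    rcases hc.total i.2 j.2 with hij | hji
    · obtain ⟨h', hcomp⟩ := hij
      exact (hcomp b).symm
    · obtain ⟨h', hcomp⟩ := hji
      have := hcomp (Subalgebra.inclusion h b)
      have e : Subalgebra.inclusion h' (Subalgebra.inclusion h b) = b := Subtype.ext rfl
      rw [e] at this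
      exact this
  let T : Subalgebra OK Ω := iSup K
  let ιT : T →ₐ[OK] k' := Subalgebra.iSupLift K dir f hf T le_rfl
  have hmem : ∀ b : Ω, b ∈ T → ∃ i : c, b ∈ K i := by
    intro b hb
    have : b ∈ ((iSup K : Subalgebra OK Ω) : Set Ω) := hb
    rw [Subalgebra.coe_iSup_of_directed dir, Set.mem_iUnion] at this
    exact this
  refine ⟨⟨T, ιT, ?_, ?_⟩, ?_, ?_⟩
  · intro b hb
    obtain ⟨i, hi⟩ := hmem b b.2
    have h1 : ιT b = f i ⟨b, hi⟩ :=
      Subalgebra.iSupLift_of_mem (K := K) (dir := dir) (f := f) (hf := hf) (T := T)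
        (hT := le_rfl) (i := i) b hi
    rw [h1] at hb
    obtain ⟨c', hc'⟩ := i.1.ker_le ⟨b, hi⟩ hb
    refine ⟨Subalgebra.inclusion (le_iSup K i) c', ?_⟩
    apply Subtype.ext
    have := congrArg (fun z : K i => (z : Ω)) hc'
    exact this
  · intro b hb
    obtain ⟨i, hi⟩ := hmem b b.2
    have h1 : ιT b = f i ⟨b, hi⟩ :=
      Subalgebra.iSupLift_of_mem (K := K) (dir := dir) (f := f) (hf := hf) (T := T)
        (hT := le_rfl) (i := i) b hi
    rw [h1] at hb
    have hu := i.1.unit ⟨b, hi⟩ hb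
    have := hu.map (Subalgebra.inclusion (le_iSup K i))
    have e : Subalgebra.inclusion (le_iSup K i) ⟨b, hi⟩ = b := Subtype.ext rfl
    rw [e] at this
    exact this
  · intro X hX
    let i : c := ⟨X, hX⟩
    refine ⟨le_iSup K i, fun b => ?_⟩
    exact Subalgebra.iSupLift_inclusion (K := K) (dir := dir) (f := f) (hf := hf) (T := T)
      (hT := le_rfl) (i := i) b (le_iSup K i)
  · intro b hb
    obtain ⟨i, hi⟩ := hmem b hb
    exact ⟨i.1, i.2, hi⟩

/-- A subalgebra is locally finite free of `q`-power rank. -/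
def LocFree (q : ℕ) (B : Subalgebra OK Ω) : Prop :=
  ∀ s : Finset Ω, (↑s : Set Ω) ⊆ B → ∃ S : Subalgebra OK Ω, S ≤ B ∧ (↑s : Set Ω) ⊆ S ∧
    Module.Finite OK S ∧ Module.Free OK S ∧ ∃ m : ℕ, Module.finrank OK S = q ^ m

lemma locFree_bot (q : ℕ) (hinj : Function.Injective (algebraMap OK Ω)) :
    LocFree q (⊥ : Subalgebra OK Ω) := by
  intro s hs
  refine ⟨⊥, le_rfl, hs, ?_, ?_, 0, ?_⟩
  · exact Module.Finite.equiv (Algebra.botEquivOfInjective hinj).symm.toLinearEquiv
  · exact Module.Free.of_equiv (Algebra.botEquivOfInjective hinj).symm.toLinearEquiv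
  · rw [(Algebra.botEquivOfInjective hinj).toLinearEquiv.finrank_eq, Module.finrank_self, pow_zero]

lemma locFree_of_chain (q : ℕ) (c : Set (Obj OK Ω k' π)) (hc : IsChain (· ≤ ·) c)
    (hne : c.Nonempty) (hP : ∀ X ∈ c, LocFree q X.B) (ub : Obj OK Ω k' π)
    (hub : ∀ X ∈ c, X ≤ ub) (hmem : ∀ b ∈ ub.B, ∃ X ∈ c, b ∈ X.B) : LocFree q ub.B := by
  classical
  intro s hs
  have key : ∀ t : Finset Ω, (↑t : Set Ω) ⊆ ub.B → ∃ X ∈ c, (↑t : Set Ω) ⊆ X.B := by
    intro t
    induction t using Finset.induction_on with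
    | empty =>
      intro _
      obtain ⟨X, hX⟩ := hne
      exact ⟨X, hX, by simp⟩
    | insert a t _ ih =>
      intro ht
      rw [Finset.coe_insert, Set.insert_subset_iff] at ht
      obtain ⟨X₁, hX₁, h₁⟩ := ih ht.2
      obtain ⟨X₂, hX₂, h₂⟩ := hmem a ht.1
      rcases hc.total hX₁ hX₂ with h | h
      · refine ⟨X₂, hX₂, ?_⟩
        rw [Finset.coe_insert, Set.insert_subset_iff]
        exact ⟨h₂, fun x hx => h.1 (h₁ hx)⟩
      · refine ⟨X₁, hX₁, ?_⟩
        rw [Finset.coe_insert, Set.insert_subset_iff]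
        exact ⟨h.1 h₂, h₁⟩
  obtain ⟨X, hX, hsX⟩ := key s hs
  obtain ⟨S, hSle, hsS, h1, h2, h3⟩ := hP X hX s hsX
  exact ⟨S, hSle.trans (hub X hX).1, hsS, h1, h2, h3⟩

end Obj

end Groth.Agent.Lib.DvrResExt57
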