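import Groth.Agent.Lib.DvrResExt57c

set_option autoImplicit false
set_option linter.style.haveILetI false
set_option linter.unusedSectionVars false
universe u

namespace Groth.Agent.Lib.DvrResExt57

open Polynomial IsLocalRing

namespace Obj

variable {OK : Type u} [CommRing OK] [IsDomain OK] [IsDiscreteValuationRing OK]
  {Ω : Type u} [Field Ω] [Algebra OK Ω]
  {k' : Type u} [Field k'] [Algebra OK k'] {π : OK}


lemma exists_ge_of_irreducible (X : Obj OK Ω k' π) (hπ0 : maximalIdeal OK = Ideal.span {π})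
    (hk : ∀ a : OK, algebraMap OK k' a = 0 ↔ a ∈ maximalIdeal OK)
    (hinj : Function.Injective (algebraMap OK Ω))
    [Algebra.IsAlgebraic OK Ω] [IsAlgClosed Ω] [IsLocalRing X.B] (ω : k') (q j : ℕ)
    (G₀ : X.B[X]) (hGm : G₀.Monic) (hGdeg : G₀.natDegree = q ^ j)
    (hGirr : Irreducible (G₀.map (residue X.B)))
    (hG : eval₂ X.ι.toRingHom ω G₀ = 0) (hP : LocFree q X.B) :
    ∃ Y : Obj OK Ω k' π, X ≤ Y ∧ ω ∈ Set.range Y.ι ∧ LocFree q Y.B := by
  classical
  have hπ : algebraMap OK k' π = 0 := (hk π).2 (pi_mem hπ0)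
  haveI : IsDiscreteValuationRing X.B :=
    X.isDiscreteValuationRing hπ0 (fun a h => (hk a).1 h) hinj hπ
  set ϖ : X.B := algebraMap OK X.B π with hϖ
  have hmax : maximalIdeal X.B = Ideal.span {ϖ} := X.maximalIdeal_eq hπ
  have hker : RingHom.ker X.ι.toRingHom = maximalIdeal X.B := by
    rw [hmax]; exact X.ker_eq hπ
  obtain ⟨hFk, hFu⟩ := step_core X.ι.toRingHom hker hmax ω G₀ hGm hGirr hG
  have hFi : Irreducible G₀ :=
    Monic.irreducible_of_irreducible_map (residue X.B) G₀ hGm hGirr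
  have hvinj : Function.Injective X.B.val.toRingHom := Subtype.val_injective
  have hnd : G₀.natDegree ≠ 0 := by
    intro h0
    rw [Polynomial.Monic.natDegree_eq_zero hGm] at h0
    exact hFi.not_isUnit (h0 ▸ isUnit_one)
  have hdeg : (G₀.map X.B.val.toRingHom).degree ≠ 0 := by
    rw [degree_map_eq_of_injective hvinj, degree_eq_natDegree hGm.ne_zero]
    exact_mod_cast hnd
  obtain ⟨α, hα⟩ := IsAlgClosed.exists_root _ hdeg
  have hα' : G₀.eval₂ (X.B.val : X.B →ₐ[OK] Ω) α = 0 := by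
    rw [IsRoot.def, eval_map] at hα; exact hα
  let φ : AdjoinRoot G₀ →ₐ[OK] Ω := AdjoinRoot.liftAlgHom G₀ X.B.val α hα'
  let ιT : AdjoinRoot G₀ →ₐ[OK] k' := AdjoinRoot.liftAlgHom G₀ X.ι ω hG
  have hφof : ∀ b : X.B, φ (AdjoinRoot.of G₀ b) = (b : Ω) := fun b =>
    AdjoinRoot.liftAlgHom_of G₀ X.B.val α hα' b
  have hιof : ∀ b : X.B, ιT (AdjoinRoot.of G₀ b) = X.ι b := fun b =>
    AdjoinRoot.liftAlgHom_of G₀ X.ι ω hG b
  have hιroot : ιT (AdjoinRoot.root G₀) = ω := AdjoinRoot.liftAlgHom_root G₀ X.ι ω hG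
  have hιlift : ∀ y, ιT y = AdjoinRoot.lift X.ι.toRingHom ω hG y := fun y => rfl
  have hprime : Prime G₀ := hFi.prime
  haveI : IsDomain (AdjoinRoot G₀) := AdjoinRoot.isDomain_of_prime hprime
  haveI : Module.Finite X.B (AdjoinRoot G₀) := hGm.finite_adjoinRoot
  haveI : Algebra.IsIntegral X.B (AdjoinRoot G₀) := Algebra.IsIntegral.of_finite _ _
  have hφinj : Function.Injective φ := by
    have hkerφ : RingHom.ker (φ : AdjoinRoot G₀ →+* Ω) = ⊥ := by
      apply Ideal.eq_bot_of_comap_eq_bot (R := X.B)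
      ext b
      rw [Ideal.mem_comap, RingHom.mem_ker, Ideal.mem_bot]
      have : (φ : AdjoinRoot G₀ →+* Ω) (algebraMap X.B (AdjoinRoot G₀) b) = (b : Ω) := hφof b
      rw [this]
      exact ⟨fun h => Subtype.ext h, fun h => by rw [h]; rfl⟩
    exact (RingHom.injective_iff_ker_eq_bot _).2 hkerφ
  let e : AdjoinRoot G₀ ≃ₐ[OK] φ.range := AlgEquiv.ofInjective φ hφinj
  have he : ∀ y, ((e y : φ.range) : Ω) = φ y := fun y => rfl
  have hofπ : AdjoinRoot.of G₀ ϖ = algebraMap OK (AdjoinRoot G₀) π := rfl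
  have hle : X.B ≤ φ.range := by
    intro b hb
    exact ⟨AdjoinRoot.of G₀ ⟨b, hb⟩, hφof ⟨b, hb⟩⟩
  -- local freeness
  have hloc : LocFree q φ.range := by
    intro s' hs'
    have hrep : ∀ b ∈ s', ∃ gb : X.B[X], φ (AdjoinRoot.mk G₀ gb) = b := by
      intro b hb
      obtain ⟨y, hy⟩ := hs' hb
      obtain ⟨gb, rfl⟩ := AdjoinRoot.mk_surjective y
      exact ⟨gb, hy⟩
    choose! rep hrep using hrep
    let s : Finset Ω := (s'.biUnion (fun b => (rep b).coeffs.image (fun c : X.B => (c : Ω)))) ∪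
      G₀.coeffs.image (fun c : X.B => (c : Ω))
    have hs : (↑s : Set Ω) ⊆ X.B := by
      intro x hx
      rw [Finset.mem_coe, Finset.mem_union] at hx
      rcases hx with hx | hx
      · rw [Finset.mem_biUnion] at hx
        obtain ⟨b, _, hx⟩ := hx
        rw [Finset.mem_image] at hx
        obtain ⟨c, _, rfl⟩ := hx
        exact c.2
      · rw [Finset.mem_image] at hx
        obtain ⟨c, _, rfl⟩ := hx
        exact c.2
    obtain ⟨S, hSle, hsS, hfin, hfree, m, hrank⟩ := hP s hs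
    let incl : S →ₐ[OK] X.B := Subalgebra.inclusion hSle
    have hincl_inj : Function.Injective incl.toRingHom := Subalgebra.inclusion_injective hSle
    have hlift : ∀ P : X.B[X], (∀ c ∈ P.coeffs, (c : Ω) ∈ S) →
        ∃ Q : S[X], Q.map incl.toRingHom = P := by
      intro P hPc
      have : P ∈ Polynomial.lifts incl.toRingHom := by
        rw [Polynomial.lifts_iff_coeff_lifts]
        intro n
        by_cases h0 : P.coeff n = 0
        · exact ⟨0, by rw [h0]; exact map_zero _⟩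
        · have := hPc _ (Polynomial.coeff_mem_coeffs h0)
          exact ⟨⟨_, this⟩, Subtype.ext rfl⟩
      exact (Polynomial.mem_lifts _).1 this
    have hG₀c : ∀ c ∈ G₀.coeffs, (c : Ω) ∈ S := by
      intro c hc
      apply hsS
      rw [Finset.mem_coe, Finset.mem_union]
      right
      exact Finset.mem_image_of_mem _ hc
    have hrepc : ∀ b ∈ s', ∀ c ∈ (rep b).coeffs, (c : Ω) ∈ S := by
      intro b hb c hc
      apply hsS
      rw [Finset.mem_coe, Finset.mem_union]
      left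
      rw [Finset.mem_biUnion]
      exact ⟨b, hb, Finset.mem_image_of_mem _ hc⟩
    obtain ⟨GS, hGS⟩ := hlift G₀ hG₀c
    have hGSm : GS.Monic := Polynomial.monic_of_injective hincl_inj (by rw [hGS]; exact hGm)
    have hGSdeg : GS.natDegree = q ^ j := by
      rw [← hGdeg, ← hGS, natDegree_map_eq_of_injective hincl_inj]
    have hαS : GS.eval₂ (S.val : S →ₐ[OK] Ω) α = 0 := by
      have h1 : ((S.val : S →ₐ[OK] Ω) : S →+* Ω) =
          ((X.B.val : X.B →ₐ[OK] Ω) : X.B →+* Ω).comp incl.toRingHom := rfl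
      rw [h1, ← eval₂_map, hGS]; exact hα'
    let ψ : AdjoinRoot GS →ₐ[OK] Ω := AdjoinRoot.liftAlgHom GS S.val α hαS
    have hψφ : ∀ Q : S[X], ψ (AdjoinRoot.mk GS Q) =
        φ (AdjoinRoot.mk G₀ (Q.map incl.toRingHom)) := by
      intro Q
      rw [AdjoinRoot.liftAlgHom_mk, AdjoinRoot.liftAlgHom_mk, eval₂_map]
      rfl
    have hψinj : Function.Injective ψ := by
      rw [injective_iff_map_eq_zero]
      intro y hy
      obtain ⟨Q, rfl⟩ := AdjoinRoot.mk_surjective y
      rw [hψφ] at hy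
      have h0 : AdjoinRoot.mk G₀ (Q.map incl.toRingHom) = 0 := hφinj (by rw [hy, map_zero])
      rw [AdjoinRoot.mk_eq_zero] at h0 ⊢
      rw [← hGS] at h0
      rw [← Polynomial.modByMonic_eq_zero_iff_dvd hGSm]
      rw [← Polynomial.modByMonic_eq_zero_iff_dvd (hGSm.map _),
        ← Polynomial.map_modByMonic _ hGSm] at h0
      exact (Polynomial.map_eq_zero_iff hincl_inj).1 h0
    let eψ : AdjoinRoot GS ≃ₐ[OK] ψ.range := AlgEquiv.ofInjective ψ hψinj
    haveI : Module.Finite S (AdjoinRoot GS) := hGSm.finite_adjoinRoot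
    haveI : Module.Free S (AdjoinRoot GS) := hGSm.free_adjoinRoot
    haveI : Module.Finite OK (AdjoinRoot GS) := Module.Finite.trans S _
    haveI : Module.Free OK (AdjoinRoot GS) := Module.Free.trans (R := OK) (S := S)
    refine ⟨ψ.range, ?_, ?_, ?_, ?_, m + j, ?_⟩
    · rintro _ ⟨y, rfl⟩
      obtain ⟨Q, rfl⟩ := AdjoinRoot.mk_surjective y
      exact ⟨_, (hψφ Q).symm⟩
    · intro b hb
      obtain ⟨Q, hQ⟩ := hlift (rep b) (hrepc b hb)
      refine ⟨AdjoinRoot.mk GS Q, ?_⟩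
      change ψ (AdjoinRoot.mk GS Q) = b
      rw [hψφ, hQ, hrep b hb]
    · exact Module.Finite.equiv eψ.toLinearEquiv
    · exact Module.Free.of_equiv eψ.toLinearEquiv
    · rw [← eψ.toLinearEquiv.finrank_eq, ← Module.finrank_mul_finrank OK S (AdjoinRoot GS), hrank,
        (AdjoinRoot.powerBasis' hGSm).finrank, AdjoinRoot.powerBasis'_dim, hGSdeg, pow_add]
  refine ⟨⟨φ.range, ιT.comp e.symm.toAlgHom, ?_, ?_⟩, ⟨hle, ?_⟩, ?_, hloc⟩
  · intro b hb
    have hb' : ιT (e.symm b) = 0 := hb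
    rw [hιlift] at hb'
    obtain ⟨z, hz⟩ := hFk _ hb'
    refine ⟨e z, ?_⟩
    have : b = e (e.symm b) := (e.apply_symm_apply b).symm
    rw [this, hz, map_mul, hofπ, AlgEquiv.commutes]
  · intro b hb
    have hb' : ιT (e.symm b) ≠ 0 := hb
    rw [hιlift] at hb'
    have hu := (hFu _ hb').map e
    rwa [e.apply_symm_apply] at hu
  · intro b
    change ιT (e.symm (Subalgebra.inclusion hle b)) = X.ι b
    have : e.symm (Subalgebra.inclusion hle b) = AdjoinRoot.of G₀ b := by
      rw [AlgEquiv.symm_apply_eq]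
      apply Subtype.ext
      rw [he, hφof]
      rfl
    rw [this, hιof]
  · refine ⟨e (AdjoinRoot.root G₀), ?_⟩
    change ιT (e.symm (e _)) = ω
    rw [e.symm_apply_apply, hιroot]


end Obj

end Groth.Agent.Lib.DvrResExt57
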