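import Groth.Agent.Lib.DvrResExt57d

set_option autoImplicit false
set_option linter.style.haveILetI false
set_option linter.unusedSectionVars false
universe u

/-! helper57: DvrResExt57 continued: Zorn with the LocFree property; the purely inseparable
case (`exists_surjective_locFree_of_pow`). -/

namespace Groth.Agent.Lib.DvrResExt57

open Polynomial IsLocalRing

namespace Obj

variable {OK : Type u} [CommRing OK] [IsDomain OK] [IsDiscreteValuationRing OK]
  {Ω : Type u} [Field Ω] [Algebra OK Ω]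
  {k' : Type u} [Field k'] [Algebra OK k'] {π : OK}

lemma exists_surjective_locFree (q : ℕ) (hπ0 : maximalIdeal OK = Ideal.span {π})
    (hk : ∀ a : OK, algebraMap OK k' a = 0 ↔ a ∈ maximalIdeal OK)
    (hinj : Function.Injective (algebraMap OK Ω))
    [Algebra.IsAlgebraic OK Ω] [IsAlgClosed Ω]
    (hstep : ∀ X : Obj OK Ω k' π, LocFree q X.B → ¬ Function.Surjective X.ι →
      ∃ (ω : k') (j : ℕ) (G₀ : X.B[X]), ω ∉ Set.range X.ι ∧ G₀.Monic ∧ G₀.natDegree = q ^ j ∧
        (letI := X.isLocalRing; Irreducible (G₀.map (residue X.B))) ∧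
        eval₂ X.ι.toRingHom ω G₀ = 0) :
    ∃ X : Obj OK Ω k' π, Function.Surjective X.ι ∧ LocFree q X.B := by
  obtain ⟨m, hm⟩ := zorn_le₀ {X : Obj OK Ω k' π | LocFree q X.B} (by
    intro c hcs hc
    rcases c.eq_empty_or_nonempty with rfl | hne
    · exact ⟨bot hπ0 hk hinj, locFree_bot q hinj, fun X hX => absurd hX (Set.notMem_empty _)⟩
    · obtain ⟨ub, hub, hmem⟩ := exists_upper_bound' c hc hne
      exact ⟨ub, locFree_of_chain q c hc hne (fun X hX => hcs hX) ub hub hmem, hub⟩)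
  have hmP : LocFree q m.B := hm.prop
  refine ⟨m, ?_, hmP⟩
  by_contra hns
  obtain ⟨ω, j, G₀, hω, hGm, hGdeg, hGirr, hG⟩ := hstep m hmP hns
  haveI := m.isLocalRing
  obtain ⟨Y, hXY, ⟨y, hy⟩, hYP⟩ :=
    m.exists_ge_of_irreducible hπ0 hk hinj ω q j G₀ hGm hGdeg hGirr hG hmP
  obtain ⟨h, hcomp⟩ := hm.le_of_ge hYP hXY
  exact hω ⟨Subalgebra.inclusion h y, by rw [hcomp, hy]⟩

lemma exists_surjective_locFree_of_pow (p : ℕ) [hp : Fact p.Prime] [CharP k' p]
    (hπ0 : maximalIdeal OK = Ideal.span {π})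
    (hk : ∀ a : OK, algebraMap OK k' a = 0 ↔ a ∈ maximalIdeal OK)
    (hinj : Function.Injective (algebraMap OK Ω))
    [Algebra.IsAlgebraic OK Ω] [IsAlgClosed Ω]
    (hpow : ∀ w : k', ∃ (n : ℕ) (a : OK), w ^ (p ^ n) = algebraMap OK k' a) :
    ∃ Z : Obj OK Ω k' π, Function.Surjective Z.ι ∧ LocFree p Z.B := by
  classical
  apply exists_surjective_locFree p hπ0 hk hinj
  intro Z hXP hns
  have hπ : algebraMap OK k' π = 0 := (hk π).2 (pi_mem hπ0)
  haveI := Z.isLocalRing
  have hmax : maximalIdeal Z.B = Ideal.span {algebraMap OK Z.B π} := Z.maximalIdeal_eq hπ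
  have hker : RingHom.ker Z.ι.toRingHom = maximalIdeal Z.B := by
    rw [hmax]; exact Z.ker_eq hπ
  obtain ⟨w, hw⟩ : ∃ w : k', w ∉ Set.range Z.ι := by
    by_contra hcon
    push Not at hcon
    exact hns hcon
  have hex : ∃ n : ℕ, w ^ (p ^ n) ∈ Set.range Z.ι := by
    obtain ⟨n, a, hna⟩ := hpow w
    exact ⟨n, algebraMap OK Z.B a, by rw [hna, AlgHom.commutes]⟩
  have hn0 : Nat.find hex ≠ 0 := by
    intro h0
    have := Nat.find_spec hex
    rw [h0, pow_zero, pow_one] at this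
    exact hw this
  obtain ⟨n', hn'⟩ : ∃ n', Nat.find hex = n' + 1 := Nat.exists_eq_succ_of_ne_zero hn0
  set ω := w ^ (p ^ n') with hωdef
  have hωnot : ω ∉ Set.range Z.ι := by
    have := Nat.find_min hex (m := n') (by omega)
    exact this
  obtain ⟨c, hc⟩ : ∃ c : Z.B, Z.ι c = ω ^ p := by
    have := Nat.find_spec hex
    rw [hn', pow_succ, pow_mul] at this
    exact this
  refine ⟨ω, 1, X ^ p - C c, hωnot, monic_X_pow_sub_C c hp.out.ne_zero, ?_, ?_, ?_⟩
  · rw [natDegree_X_pow_sub_C, pow_one]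
  · rw [Polynomial.map_sub, Polynomial.map_pow, map_X, map_C]
    apply X_pow_sub_C_irreducible_of_prime hp.out
    intro b hb
    obtain ⟨d, rfl⟩ := residue_surjective b
    have h1 : d ^ p - c ∈ maximalIdeal Z.B := by
      rw [← residue_eq_zero_iff, map_sub, map_pow, hb, sub_self]
    rw [← hker, RingHom.mem_ker] at h1
    have h2 : Z.ι d ^ p = ω ^ p := by
      have : Z.ι (d ^ p - c) = 0 := h1
      rw [map_sub, map_pow, sub_eq_zero] at this
      rw [this, hc]
    have h3 : Z.ι d = ω := frobenius_inj k' p h2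
    exact hωnot ⟨d, h3⟩
  · rw [eval₂_sub, eval₂_pow, eval₂_X, eval₂_C]
    change ω ^ p - Z.ι c = 0
    rw [hc, sub_self]

end Obj

end Groth.Agent.Lib.DvrResExt57
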