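import Groth.Prelude.Def_Dyn
import Mathlib.RingTheory.HopfAlgebra.Quotient

set_option autoImplicit false
universe u

namespace Groth.Agent.Lib.DynConv

open LaurentPolynomial TensorProduct WithConv Polynomial

section Laurent

theorem coeff_trunc {R : Type u} [Semiring R] (f : R[T;T⁻¹]) (m : ℕ) :
    (LaurentPolynomial.trunc f).coeff m = f.coeff (m : ℤ) := by
  simp [LaurentPolynomial.trunc, Polynomial.coeff]

theorem coeff_toLaurent_natCast {R : Type u} [Semiring R] (p : R[X]) (m : ℕ) :
    (toLaurent p).coeff (m : ℤ) = p.coeff m := by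
  rw [coeff_toLaurent]
  have := Finsupp.mapDomain_apply (Nat.castEmbedding (R := ℤ)).injective p.toFinsupp.coeff m
  erw [this]
  rfl

theorem coeff_toLaurent_neg {R : Type u} [Semiring R] (p : R[X]) (n : ℤ) (hn : n < 0) :
    (toLaurent p).coeff n = 0 := by
  rw [coeff_toLaurent, Finsupp.mapDomain_of_notMem_range]
  rintro ⟨m, rfl⟩
  exact absurd hn (by simp)

theorem toLaurent_trunc_of {R : Type u} [Semiring R] (f : R[T;T⁻¹])
    (hf : ∀ n : ℤ, n < 0 → f.coeff n = 0) : toLaurent (LaurentPolynomial.trunc f) = f := by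
  ext n
  rcases lt_or_ge n 0 with hn | hn
  · rw [hf n hn, coeff_toLaurent_neg _ _ hn]
  · lift n to ℕ using hn
    rw [coeff_toLaurent_natCast, coeff_trunc]

theorem mem_range_toLaurent_iff {R : Type u} [Semiring R] (f : R[T;T⁻¹]) :
    f ∈ Set.range (toLaurent (R := R)) ↔ ∀ n : ℤ, n < 0 → f.coeff n = 0 := by
  constructor
  · rintro ⟨p, rfl⟩ n hn
    exact coeff_toLaurent_neg p n hn
  · intro h
    exact ⟨_, toLaurent_trunc_of f h⟩

end Laurent

section Lift

variable {k : Type u} [CommRing k] {A B C : Type u} [CommRing A] [Algebra k A]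
  [CommRing B] [Algebra k B] [CommRing C] [Algebra k C]

/-- Lifting an algebra map through an injective algebra map whose range contains its range. -/
theorem exists_lift_of_injective (φ : B →ₐ[k] C) (hφ : Function.Injective φ) (f : A →ₐ[k] C)
    (hf : ∀ a, f a ∈ Set.range φ) : ∃ h : A →ₐ[k] B, φ.comp h = f := by
  have hf' : ∀ a, f a ∈ φ.range := fun a => by
    obtain ⟨b, hb⟩ := hf a
    exact ⟨b, hb⟩
  refine ⟨((AlgEquiv.ofInjective φ hφ).symm : φ.range →ₐ[k] B).comp (f.codRestrict φ.range hf'), ?_⟩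
  ext a
  have h1 : ∀ y : φ.range, φ ((AlgEquiv.ofInjective φ hφ).symm y) = y.1 := by
    intro y
    have := (AlgEquiv.ofInjective φ hφ).apply_symm_apply y
    exact congrArg Subtype.val this
  exact h1 (f.codRestrict φ.range hf' a)

end Lift

variable (k : Type u) [CommRing k] (A : Type u) [CommRing A] [HopfAlgebra k A]

theorem conv3_eq {C : Type u} [CommRing C] [Algebra k C] (f g h : A →ₐ[k] C) :
    Dyn.conv3 k A f g h = (toConv f * toConv g * toConv h).ofConv := by
  simp only [AlgHom.convMul_def, Dyn.conv3, ofConv_toConv]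
  rw [show Algebra.TensorProduct.map ((Algebra.TensorProduct.lmul' (S := C) k).comp
      ((Algebra.TensorProduct.map f g).comp (Bialgebra.comulAlgHom k A))) h =
      (Algebra.TensorProduct.map ((Algebra.TensorProduct.lmul' (S := C) k).comp
        (Algebra.TensorProduct.map f g)) h).comp
      (Algebra.TensorProduct.map (Bialgebra.comulAlgHom k A) (AlgHom.id k A)) by
    rw [← Algebra.TensorProduct.map_comp, AlgHom.comp_assoc, AlgHom.comp_id]]
  simp only [AlgHom.comp_assoc]

variable {k A}

section GroupInst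

variable {C : Type u} [CommRing C] [Algebra k C]

/-- Inverse of a point: precomposition with the antipode. -/
noncomputable instance ptInv : Inv (WithConv (A →ₐ[k] C)) where
  inv f := toConv (f.ofConv.comp (HopfAlgebra.antipodeAlgHom k A))

/-- The convolution group of points of a commutative Hopf algebra in a commutative algebra. -/
noncomputable instance ptGroup : Group (WithConv (A →ₐ[k] C)) where
  inv_mul_cancel f := by
    have H : (Algebra.TensorProduct.lmul' k).comp (Algebra.TensorProduct.map f.ofConv f.ofConv) =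
      f.ofConv.comp (Algebra.TensorProduct.lmul' k) := by ext <;> simp
    trans toConv <| ((Algebra.TensorProduct.lmul' k).comp
        (Algebra.TensorProduct.map f.ofConv f.ofConv)).comp
      ((Algebra.TensorProduct.map
      (HopfAlgebra.antipodeAlgHom k A) (.id _ _)).comp (Bialgebra.comulAlgHom k A))
    · rw [AlgHom.comp_assoc, ← AlgHom.comp_assoc (Algebra.TensorProduct.map f.ofConv f.ofConv),
        ← Algebra.TensorProduct.map_comp]; rfl
    rw [H, AlgHom.comp_assoc, WithConv.ext_iff, ← AlgHom.toLinearMap_injective.eq_iff]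
    change f.ofConv.toLinearMap.comp
        (toConv (HopfAlgebraStruct.antipode k (A := A)) * toConv LinearMap.id).ofConv =
      ofConv (1 : WithConv <| A →ₗ[k] C)
    rw [LinearMap.antipode_mul_id]
    ext
    simp

end GroupInst

/-- Post-composition with an algebra map, as a monoid hom of convolution groups of points. -/
noncomputable def postcomp {C C' : Type u} [CommRing C] [Algebra k C] [CommRing C'] [Algebra k C']
    (φ : C →ₐ[k] C') : WithConv (A →ₐ[k] C) →* WithConv (A →ₐ[k] C') where
  toFun f := toConv (φ.comp f.ofConv)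
  map_one' := by
    apply ofConv_injective
    ext a
    simp [AlgHom.convOne_def]
  map_mul' f g := by
    apply ofConv_injective
    exact AlgHom.comp_convMul_distrib φ f g

@[simp] theorem postcomp_apply {C C' : Type u} [CommRing C] [Algebra k C] [CommRing C'] [Algebra k C']
    (φ : C →ₐ[k] C') (f : WithConv (A →ₐ[k] C)) :
    postcomp φ f = toConv (φ.comp f.ofConv) := rfl

theorem postcomp_comp {C C' C'' : Type u} [CommRing C] [Algebra k C] [CommRing C'] [Algebra k C']
    [CommRing C''] [Algebra k C'']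
    (φ : C →ₐ[k] C') (ψ : C' →ₐ[k] C'') (f : WithConv (A →ₐ[k] C)) :
    postcomp ψ (postcomp φ f) = postcomp (ψ.comp φ) f := rfl

theorem postcomp_injective {C C' : Type u} [CommRing C] [Algebra k C] [CommRing C'] [Algebra k C']
    (φ : C →ₐ[k] C') (hφ : Function.Injective φ) :
    Function.Injective (postcomp (A := A) φ) := by
  intro f g hfg
  apply ofConv_injective
  ext a
  apply hφ
  have := congrArg (fun x => x.ofConv a) hfg
  simpa using this

theorem inv_def {C : Type u} [CommRing C] [Algebra k C] (f : WithConv (A →ₐ[k] C)) :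
    f⁻¹ = toConv (f.ofConv.comp (HopfAlgebra.antipodeAlgHom k A)) := rfl

section HopfIdeal

variable (k A)

/-- An ideal representing a condition on points that is stable under the group operations
is a Hopf ideal. -/
theorem isHopfIdeal_of_represents (J : Ideal A)
    (P : ∀ (R : Type u) [CommRing R] [Algebra k R], (A →ₐ[k] R) → Prop)
    (hJ : Dyn.Represents k A J P)
    (h1 : P k ((Algebra.ofId k k).comp (Bialgebra.counitAlgHom k A)))
    (hmul : ∀ (R : Type u) [CommRing R] [Algebra k R] (g g' : A →ₐ[k] R),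
      P R g → P R g' → P R (toConv g * toConv g').ofConv)
    (hinv : ∀ (R : Type u) [CommRing R] [Algebra k R] (g : A →ₐ[k] R),
      P R g → P R (g.comp (HopfAlgebra.antipodeAlgHom k A))) :
    J.IsHopfIdeal k := by
  have hπ : P (A ⧸ J) (Ideal.Quotient.mkₐ k J) :=
    (hJ (A ⧸ J) (Ideal.Quotient.mkₐ k J)).mp
      (fun a ha => by simpa using Ideal.Quotient.eq_zero_iff_mem.mpr ha)
  refine { counit_eq_zero := ?_, map_mkQ_comul_eq_zero := ?_, antipode_mem := ?_ }
  · intro x hx
    have := (hJ k _).mpr h1 x hx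
    simpa using this
  · intro x hx
    let π : A →ₐ[k] A ⧸ J := Ideal.Quotient.mkₐ k J
    let g₁ : A →ₐ[k] (A ⧸ J) ⊗[k] (A ⧸ J) := Algebra.TensorProduct.includeLeft.comp π
    let g₂ : A →ₐ[k] (A ⧸ J) ⊗[k] (A ⧸ J) := Algebra.TensorProduct.includeRight.comp π
    have hg₁ : P _ g₁ := (hJ _ g₁).mp
      (fun a ha => by
        have : π a = 0 := by simpa [π] using Ideal.Quotient.eq_zero_iff_mem.mpr ha
        simp [g₁, this])
    have hg₂ : P _ g₂ := (hJ _ g₂).mp
      (fun a ha => by
        have : π a = 0 := by simpa [π] using Ideal.Quotient.eq_zero_iff_mem.mpr ha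
        simp [g₂, this])
    have h := (hJ _ _).mpr (hmul _ g₁ g₂ hg₁ hg₂) x hx
    have e : (toConv g₁ * toConv g₂).ofConv =
        (Algebra.TensorProduct.map π π).comp (Bialgebra.comulAlgHom k A) := by
      rw [AlgHom.convMul_def, ofConv_toConv, ← AlgHom.comp_assoc]
      congr 1
      ext a <;> simp [g₁, g₂]
    rw [e] at h
    exact h
  · intro x hx
    have := (hJ _ _).mpr (hinv _ _ hπ) x hx
    have h2 : Ideal.Quotient.mk J (HopfAlgebraStruct.antipode k x) = 0 := by simpa using this
    exact Ideal.Quotient.eq_zero_iff_mem.mp h2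

end HopfIdeal

section Orbit

variable (lam : A →ₐc[k] k[T;T⁻¹]) (R : Type u) [CommRing R] [Algebra k R]

/-- The inclusion of constants `R → R[T;T⁻¹]` as a `k`-algebra map. -/
noncomputable abbrev constL : R →ₐ[k] R[T;T⁻¹] := IsScalarTower.toAlgHom k R R[T;T⁻¹]

/-- The one-parameter subgroup as an element of the group of `R[T;T⁻¹]`-points. -/
noncomputable def lamPt : WithConv (A →ₐ[k] R[T;T⁻¹]) := toConv (Dyn.lamR k A lam R)

/-- The conjugated orbit as a group homomorphism. -/
noncomputable def orbit : WithConv (A →ₐ[k] R) →* WithConv (A →ₐ[k] R[T;T⁻¹]) :=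
  (MulAut.conj (lamPt lam R)).toMonoidHom.comp (postcomp (constL (k := k) R))

theorem orbit_apply (g : WithConv (A →ₐ[k] R)) :
    orbit lam R g = lamPt lam R * postcomp (constL (k := k) R) g * (lamPt lam R)⁻¹ := rfl

theorem conjOrbit_eq (g : A →ₐ[k] R) :
    Dyn.conjOrbit k A lam R g = (orbit lam R (toConv g)).ofConv := by
  rw [Dyn.conjOrbit, conv3_eq]
  rfl

variable {R} {R' : Type u} [CommRing R'] [Algebra k R']

theorem mapAlgHom_comp_constL (φ : R →ₐ[k] R') :
    (AddMonoidAlgebra.mapAlgHom ℤ φ).comp (constL (k := k) R) = (constL (k := k) R').comp φ := by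
  apply AlgHom.ext
  intro r
  change AddMonoidAlgebra.mapAlgHom ℤ φ (AddMonoidAlgebra.single 0 r) =
    AddMonoidAlgebra.single 0 (φ r)
  rw [AddMonoidAlgebra.mapAlgHom_single]

theorem postcomp_lamPt (φ : R →ₐ[k] R') :
    postcomp (AddMonoidAlgebra.mapAlgHom ℤ φ) (lamPt lam R) = lamPt lam R' := by
  apply ofConv_injective
  simp only [postcomp_apply, lamPt, ofConv_toConv, Dyn.lamR]
  rw [← AlgHom.comp_assoc, ← AddMonoidAlgebra.mapRangeAlgHom_comp]
  congr 2
  ext

theorem postcomp_orbit (φ : R →ₐ[k] R') (g : WithConv (A →ₐ[k] R)) :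
    postcomp (AddMonoidAlgebra.mapAlgHom ℤ φ) (orbit lam R g) = orbit lam R' (postcomp φ g) := by
  rw [orbit_apply, orbit_apply, map_mul, map_mul, map_inv, postcomp_lamPt, postcomp_comp,
    mapAlgHom_comp_constL, ← postcomp_comp]

/-- The universal conjugated orbit, that of the identity point. -/
noncomputable def univOrbit : A →ₐ[k] A[T;T⁻¹] := (orbit lam A (toConv (AlgHom.id k A))).ofConv

theorem orbit_eq_map_univ (g : A →ₐ[k] R) :
    (orbit lam R (toConv g)).ofConv = (AddMonoidAlgebra.mapAlgHom ℤ g).comp (univOrbit lam) := by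
  have h := postcomp_orbit lam g (toConv (AlgHom.id k A))
  have h2 : postcomp g (toConv (AlgHom.id k A)) = toConv g := by
    apply ofConv_injective
    simp
  rw [h2] at h
  rw [← h]
  rfl

theorem coeff_conjOrbit (g : A →ₐ[k] R) (a : A) (n : ℤ) :
    (Dyn.conjOrbit k A lam R g a).coeff n = g ((univOrbit lam a).coeff n) := by
  rw [conjOrbit_eq, orbit_eq_map_univ, AlgHom.comp_apply, AddMonoidAlgebra.coeff_mapAlgHom]

variable (R)

/-- `R[X] → R[T;T⁻¹]` as a `k`-algebra map. -/
noncomputable abbrev toLk : R[X] →ₐ[k] R[T;T⁻¹] := (Polynomial.toLaurentAlg (R := R)).restrictScalars k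

/-- evaluation at `0` as a `k`-algebra map. -/
noncomputable abbrev ev0 : R[X] →ₐ[k] R := (Polynomial.aeval (R := R) (0 : R)).restrictScalars k

theorem toLk_injective : Function.Injective (toLk (k := k) R) := Polynomial.toLaurent_injective

/-- The subgroup of points whose orbit has a limit at `0`. -/
noncomputable def limSub : Subgroup (WithConv (A →ₐ[k] R)) :=
  ((postcomp (A := A) (toLk (k := k) R)).range).comap (orbit lam R)

/-- The subgroup of points whose orbit tends to the identity at `0`. -/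
noncomputable def limOneSub : Subgroup (WithConv (A →ₐ[k] R)) :=
  (((postcomp (A := A) (ev0 (k := k) R)).ker).map (postcomp (toLk (k := k) R))).comap (orbit lam R)

variable {R}

theorem limExists_iff_mem (g : A →ₐ[k] R) :
    Dyn.LimExists k A lam R g ↔ toConv g ∈ limSub lam R := by
  rw [limSub, Subgroup.mem_comap, MonoidHom.mem_range, Dyn.LimExists]
  constructor
  · rintro ⟨h, hh⟩
    refine ⟨toConv h, ?_⟩
    apply ofConv_injective
    rw [← conjOrbit_eq, ← hh]
    rfl
  · rintro ⟨h, hh⟩
    refine ⟨h.ofConv, ?_⟩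
    rw [conjOrbit_eq, ← hh]
    rfl

theorem limIsOne_iff_mem (g : A →ₐ[k] R) :
    Dyn.LimIsOne k A lam R g ↔ toConv g ∈ limOneSub lam R := by
  rw [limOneSub, Subgroup.mem_comap, Subgroup.mem_map, Dyn.LimIsOne]
  constructor
  · rintro ⟨h, hh, h0⟩
    refine ⟨toConv h, ?_, ?_⟩
    · rw [MonoidHom.mem_ker]
      apply ofConv_injective
      exact h0
    · apply ofConv_injective
      rw [← conjOrbit_eq, ← hh]
      rfl
  · rintro ⟨h, h0, hh⟩
    refine ⟨h.ofConv, ?_, ?_⟩
    · rw [conjOrbit_eq, ← hh]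
      rfl
    · rw [MonoidHom.mem_ker] at h0
      exact congrArg ofConv h0

theorem limExists_iff_coeff (g : A →ₐ[k] R) :
    Dyn.LimExists k A lam R g ↔
      ∀ (a : A) (n : ℤ), n < 0 → g ((univOrbit lam a).coeff n) = 0 := by
  constructor
  · rintro ⟨h, hh⟩ a n hn
    rw [← coeff_conjOrbit, ← hh]
    exact coeff_toLaurent_neg (h a) n hn
  · intro H
    apply exists_lift_of_injective (toLk (k := k) R) (toLk_injective R)
    intro a
    change _ ∈ Set.range (Polynomial.toLaurent (R := R))
    rw [mem_range_toLaurent_iff]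
    intro n hn
    rw [coeff_conjOrbit]
    exact H a n hn

/-- The ideal generated by the coefficients of negative degree of the universal orbit. -/
noncomputable def limIdeal : Ideal A :=
  Ideal.span {x | ∃ (a : A) (n : ℤ), n < 0 ∧ x = (univOrbit lam a).coeff n}

theorem represents_limIdeal :
    Dyn.Represents k A (limIdeal lam) (fun R _ _ g => Dyn.LimExists k A lam R g) := by
  intro R _ _ g
  change _ ↔ Dyn.LimExists k A lam R g
  rw [limExists_iff_coeff]
  constructor
  · intro H a n hn
    exact H _ (Ideal.subset_span ⟨a, n, hn, rfl⟩)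
  · intro H x hx
    have hle : limIdeal lam ≤ RingHom.ker (g : A →+* R) := by
      rw [limIdeal, Ideal.span_le]
      rintro _ ⟨a, n, hn, rfl⟩
      exact H a n hn
    exact hle hx

theorem limIsOne_iff_coeff (g : A →ₐ[k] R) :
    Dyn.LimIsOne k A lam R g ↔
      (∀ (a : A) (n : ℤ), n < 0 → g ((univOrbit lam a).coeff n) = 0) ∧
      ∀ a : A, g ((univOrbit lam a).coeff 0) = algebraMap k R (Coalgebra.counit a) := by
  constructor
  · rintro ⟨h, hh, h0⟩
    refine ⟨(limExists_iff_coeff lam g).mp ⟨h, hh⟩, fun a => ?_⟩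
    rw [← coeff_conjOrbit, ← hh]
    have e1 : ((toLk (k := k) R).comp h a).coeff ((0 : ℕ) : ℤ) = (h a).coeff 0 :=
      coeff_toLaurent_natCast (h a) 0
    have e2 : (h a).coeff 0 = algebraMap k R (Coalgebra.counit a) := by
      rw [Polynomial.coeff_zero_eq_aeval_zero]
      exact congrArg (fun f => f a) h0
    rw [← e2, ← e1]
    rfl
  · rintro ⟨H1, H2⟩
    obtain ⟨h, hh⟩ := (limExists_iff_coeff lam g).mpr H1
    refine ⟨h, hh, ?_⟩
    ext a
    have e1 : ((toLk (k := k) R).comp h a).coeff ((0 : ℕ) : ℤ) = (h a).coeff 0 :=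
      coeff_toLaurent_natCast (h a) 0
    rw [hh, coeff_conjOrbit] at e1
    change Polynomial.aeval (0 : R) (h a) = algebraMap k R (Coalgebra.counit a)
    rw [← Polynomial.coeff_zero_eq_aeval_zero, ← e1]
    exact H2 a

/-- The ideal generated by the coefficients of negative degree of the universal orbit together
with the differences between its constant coefficients and the counit. -/
noncomputable def limOneIdeal : Ideal A :=
  Ideal.span ({x | ∃ (a : A) (n : ℤ), n < 0 ∧ x = (univOrbit lam a).coeff n} ∪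
    {x | ∃ a : A, x = (univOrbit lam a).coeff 0 - algebraMap k A (Coalgebra.counit a)})

theorem represents_limOneIdeal :
    Dyn.Represents k A (limOneIdeal lam) (fun R _ _ g => Dyn.LimIsOne k A lam R g) := by
  intro R _ _ g
  change _ ↔ Dyn.LimIsOne k A lam R g
  rw [limIsOne_iff_coeff]
  constructor
  · intro H
    refine ⟨fun a n hn => H _ (Ideal.subset_span (Or.inl ⟨a, n, hn, rfl⟩)), fun a => ?_⟩
    have := H _ (Ideal.subset_span (Or.inr ⟨a, rfl⟩))
    rw [map_sub, sub_eq_zero, AlgHom.commutes] at this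
    exact this
  · rintro ⟨H1, H2⟩ x hx
    have hle : limOneIdeal lam ≤ RingHom.ker (g : A →+* R) := by
      rw [limOneIdeal, Ideal.span_le]
      rintro _ (⟨a, n, hn, rfl⟩ | ⟨a, rfl⟩)
      · exact H1 a n hn
      · change g _ = 0
        rw [map_sub, sub_eq_zero, AlgHom.commutes]
        exact H2 a
    exact hle hx

theorem isHopfIdeal_of_represents_limExists (J : Ideal A)
    (hJ : Dyn.Represents k A J (fun R _ _ g => Dyn.LimExists k A lam R g)) :
    J.IsHopfIdeal k := by
  refine isHopfIdeal_of_represents k A J _ hJ ?_ ?_ ?_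
  · rw [limExists_iff_mem]
    exact Subgroup.one_mem _
  · intro R _ _ g g' hg hg'
    change Dyn.LimExists k A lam R _ at hg hg' ⊢
    rw [limExists_iff_mem] at hg hg' ⊢
    exact Subgroup.mul_mem _ hg hg'
  · intro R _ _ g hg
    change Dyn.LimExists k A lam R _ at hg ⊢
    rw [limExists_iff_mem] at hg ⊢
    exact Subgroup.inv_mem _ hg

theorem isHopfIdeal_of_represents_limIsOne (J : Ideal A)
    (hJ : Dyn.Represents k A J (fun R _ _ g => Dyn.LimIsOne k A lam R g)) :
    J.IsHopfIdeal k := by
  refine isHopfIdeal_of_represents k A J _ hJ ?_ ?_ ?_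
  · rw [limIsOne_iff_mem]
    exact Subgroup.one_mem _
  · intro R _ _ g g' hg hg'
    change Dyn.LimIsOne k A lam R _ at hg hg' ⊢
    rw [limIsOne_iff_mem] at hg hg' ⊢
    exact Subgroup.mul_mem _ hg hg'
  · intro R _ _ g hg
    change Dyn.LimIsOne k A lam R _ at hg ⊢
    rw [limIsOne_iff_mem] at hg ⊢
    exact Subgroup.inv_mem _ hg

end Orbit

section Centralizer

variable (lam : A →ₐc[k] k[T;T⁻¹]) (R : Type u) [CommRing R] [Algebra k R]

/-- Evaluation at `T = 1` as a `k`-algebra map. -/
noncomputable def ev1 : R[T;T⁻¹] →ₐ[k] R :=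
  (Bialgebra.counitAlgHom R R[T;T⁻¹]).restrictScalars k

theorem ev1_single (n : ℤ) (r : R) : ev1 (k := k) R (AddMonoidAlgebra.single n r) = r := by
  change Coalgebra.counit (R := R) (AddMonoidAlgebra.single n r : R[T;T⁻¹]) = r
  rw [AddMonoidAlgebra.counit_single]
  rfl

theorem ev1_comp_constL : (ev1 (k := k) R).comp (constL (k := k) R) = AlgHom.id k R := by
  apply AlgHom.ext
  intro r
  exact ev1_single (k := k) R 0 r

theorem ev1_comp_mapAlgHom :
    (ev1 (k := k) R).comp (AddMonoidAlgebra.mapAlgHom ℤ (Algebra.ofId k R)) =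
      (Algebra.ofId k R).comp (Bialgebra.counitAlgHom k k[T;T⁻¹]) := by
  apply AddMonoidAlgebra.algHom_ext
  · intro n
    change ev1 (k := k) R (AddMonoidAlgebra.mapAlgHom ℤ (Algebra.ofId k R)
      (AddMonoidAlgebra.single n (1 : k))) = algebraMap k R (Coalgebra.counit (R := k)
        (AddMonoidAlgebra.single n (1 : k) : k[T;T⁻¹]))
    rw [AddMonoidAlgebra.mapAlgHom_single, ev1_single, AddMonoidAlgebra.counit_single]
    rfl
  · exact Subsingleton.elim _ _

theorem postcomp_ev1_lamPt : postcomp (ev1 (k := k) R) (lamPt lam R) = 1 := by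
  apply ofConv_injective
  simp only [postcomp_apply, lamPt, ofConv_toConv, Dyn.lamR]
  rw [← AlgHom.comp_assoc, ev1_comp_mapAlgHom, AlgHom.comp_assoc, BialgHom.counitAlgHom_comp]
  rfl

variable {R}

theorem postcomp_ev1_orbit (g : WithConv (A →ₐ[k] R)) :
    postcomp (ev1 (k := k) R) (orbit lam R g) = g := by
  rw [orbit_apply, map_mul, map_mul, map_inv, postcomp_ev1_lamPt, postcomp_comp, ev1_comp_constL]
  simp only [one_mul, inv_one, mul_one]
  apply ofConv_injective
  simp

theorem ev1_conjOrbit (g : A →ₐ[k] R) (a : A) :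
    ev1 (k := k) R (Dyn.conjOrbit k A lam R g a) = g a := by
  have := postcomp_ev1_orbit lam (toConv g)
  rw [conjOrbit_eq]
  exact congrArg (fun f => f.ofConv a) this

variable (R)

/-- Inversion `T ↦ T⁻¹` as a `k`-algebra map. -/
noncomputable def invK : R[T;T⁻¹] →ₐ[k] R[T;T⁻¹] :=
  ((LaurentPolynomial.invert (R := R)) : R[T;T⁻¹] →ₐ[R] R[T;T⁻¹]).restrictScalars k

theorem invK_coeff (f : R[T;T⁻¹]) (n : ℤ) : (invK (k := k) R f).coeff n = f.coeff (-n) :=
  LaurentPolynomial.invert_apply f n

theorem invK_comp_constL : (invK (k := k) R).comp (constL (k := k) R) = constL (k := k) R := by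
  apply AlgHom.ext
  intro r
  exact LaurentPolynomial.invert_C r

theorem invK_comp_mapAlgHom :
    (invK (k := k) R).comp (AddMonoidAlgebra.mapAlgHom ℤ (Algebra.ofId k R)) =
      (AddMonoidAlgebra.mapAlgHom ℤ (Algebra.ofId k R)).comp
        ((LaurentPolynomial.invert (R := k)) : k[T;T⁻¹] →ₐ[k] k[T;T⁻¹]) := by
  apply AlgHom.ext
  intro x
  apply LaurentPolynomial.ext
  intro n
  rw [AlgHom.comp_apply, invK_coeff, AddMonoidAlgebra.coeff_mapAlgHom, AlgHom.comp_apply,
    AddMonoidAlgebra.coeff_mapAlgHom]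
  congr 1
  exact (LaurentPolynomial.invert_apply x n).symm

variable {R}

theorem postcomp_invK_lamPt (lamNeg : A →ₐc[k] k[T;T⁻¹])
    (hneg : (lamNeg : A →ₐ[k] k[T;T⁻¹]) = Dyn.negParam k A lam) :
    postcomp (invK (k := k) R) (lamPt lam R) = lamPt lamNeg R := by
  apply ofConv_injective
  simp only [postcomp_apply, lamPt, ofConv_toConv, Dyn.lamR]
  rw [hneg, Dyn.negParam, ← AlgHom.comp_assoc, invK_comp_mapAlgHom, AlgHom.comp_assoc]

theorem orbit_neg (lamNeg : A →ₐc[k] k[T;T⁻¹])
    (hneg : (lamNeg : A →ₐ[k] k[T;T⁻¹]) = Dyn.negParam k A lam) (g : WithConv (A →ₐ[k] R)) :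
    orbit lamNeg R g = postcomp (invK (k := k) R) (orbit lam R g) := by
  rw [orbit_apply, orbit_apply, map_mul, map_mul, map_inv, postcomp_invK_lamPt lam lamNeg hneg,
    postcomp_comp, invK_comp_constL]

theorem conjOrbit_neg (lamNeg : A →ₐc[k] k[T;T⁻¹])
    (hneg : (lamNeg : A →ₐ[k] k[T;T⁻¹]) = Dyn.negParam k A lam) (g : A →ₐ[k] R) :
    Dyn.conjOrbit k A lamNeg R g = (invK (k := k) R).comp (Dyn.conjOrbit k A lam R g) := by
  rw [conjOrbit_eq, conjOrbit_eq, orbit_neg lam lamNeg hneg]
  rfl

theorem limExists_iff_coeff' (g : A →ₐ[k] R) :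
    Dyn.LimExists k A lam R g ↔
      ∀ (a : A) (n : ℤ), n < 0 → (Dyn.conjOrbit k A lam R g a).coeff n = 0 := by
  rw [limExists_iff_coeff]
  simp only [coeff_conjOrbit]

theorem centralizer_iff (lamNeg : A →ₐc[k] k[T;T⁻¹])
    (hneg : (lamNeg : A →ₐ[k] k[T;T⁻¹]) = Dyn.negParam k A lam) (g : A →ₐ[k] R) :
    (Dyn.LimExists k A lam R g ∧ Dyn.LimExists k A lamNeg R g) ↔
      Dyn.conjOrbit k A lam R g = (IsScalarTower.toAlgHom k R R[T;T⁻¹]).comp g := by
  rw [limExists_iff_coeff', limExists_iff_coeff', conjOrbit_neg lam lamNeg hneg]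
  constructor
  · rintro ⟨H1, H2⟩
    apply AlgHom.ext
    intro a
    have hz : ∀ n : ℤ, n ≠ 0 → (Dyn.conjOrbit k A lam R g a).coeff n = 0 := by
      intro n hn
      rcases lt_or_gt_of_ne hn with h | h
      · exact H1 a n h
      · have := H2 a (-n) (by omega)
        rw [AlgHom.comp_apply, invK_coeff, neg_neg] at this
        exact this
    have hs : Dyn.conjOrbit k A lam R g a =
        AddMonoidAlgebra.single 0 ((Dyn.conjOrbit k A lam R g a).coeff 0) := by
      apply LaurentPolynomial.ext
      intro n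
      by_cases hn : n = 0
      · subst hn
        simp
      · rw [hz n hn, AddMonoidAlgebra.coeff_single, Finsupp.single_apply, if_neg (Ne.symm hn)]
    have h1 := ev1_conjOrbit lam g a
    rw [hs, ev1_single] at h1
    rw [hs, h1]
    rfl
  · intro H
    have hc : ∀ (a : A) (n : ℤ), n ≠ 0 → (Dyn.conjOrbit k A lam R g a).coeff n = 0 := by
      intro a n hn
      rw [H]
      change (AddMonoidAlgebra.single (0 : ℤ) (g a) : R[T;T⁻¹]).coeff n = 0
      rw [AddMonoidAlgebra.coeff_single, Finsupp.single_apply, if_neg (Ne.symm hn)]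
    refine ⟨fun a n hn => hc a n (ne_of_lt hn), fun a n hn => ?_⟩
    rw [AlgHom.comp_apply, invK_coeff]
    exact hc a (-n) (by omega)

end Centralizer

end Groth.Agent.Lib.DynConv
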