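import Groth.Agent.Lib.EWHomH44
import Mathlib.CategoryTheory.Limits.Constructions.LimitsOfProductsAndEqualizers
import Mathlib.CategoryTheory.Preadditive.AdditiveFunctor
import Mathlib.LinearAlgebra.TensorProduct.Tower

set_option autoImplicit false
universe u

open CategoryTheory CategoryTheory.Limits TensorProduct

namespace Groth.Agent.Lib.EW82

open Groth.Agent.Lib.EWH44 Groth.Agent.Lib.EWHomH44

variable {A B : Type u} [CommRing A] [CommRing B]

/-- A functor preserving finite colimits between module categories is additive. -/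
theorem additive_of_preservesFiniteColimits (F : ModuleCat.{u} A ⥤ ModuleCat.{u} B)
    [PreservesFiniteColimits F] : F.Additive := by
  have : F.PreservesZeroMorphisms := Functor.preservesZeroMorphisms_of_preserves_initial_object
  have : PreservesBinaryBiproducts F := preservesBinaryBiproducts_of_preservesBinaryCoproducts F
  exact Functor.additive_of_preservesBinaryBiproducts F

/-- Preserving finite colimits and small coproducts gives all small colimits. -/
theorem preservesColimits_of_finite_and_coproducts (F : ModuleCat.{u} A ⥤ ModuleCat.{u} B)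
    [PreservesFiniteColimits F] (hsum : ∀ J : Type u, PreservesColimitsOfShape (Discrete J) F) :
    PreservesColimitsOfSize.{u, u} F := by
  have := hsum
  exact preservesColimits_of_preservesCoequalizers_and_coproducts F

variable (F : ModuleCat.{u} A ⥤ ModuleCat.{u} B) [F.Additive]

/-- The ring map `A → End_B(F(A))`, `a ↦ F(a • 𝟙)`. -/
noncomputable def actHom : A →+* Module.End B (F.obj (ModuleCat.of A A)) where
  toFun a := (F.map (a • 𝟙 (ModuleCat.of A A))).hom
  map_one' := by
    rw [one_smul, F.map_id]; rfl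
  map_mul' a b := by
    have : (a * b) • 𝟙 (ModuleCat.of A A) = (b • 𝟙 (ModuleCat.of A A)) ≫ (a • 𝟙 (ModuleCat.of A A)) := by
      ext
      simp
    rw [this, F.map_comp]
    rfl
  map_zero' := by
    rw [zero_smul, F.map_zero]; rfl
  map_add' a b := by
    rw [add_smul, F.map_add]; rfl

/-- The carrier `F(A)`, as a type synonym carrying the `A`-action. -/
def KK : Type u := F.obj (ModuleCat.of A A)

noncomputable instance : AddCommGroup (KK F) := inferInstanceAs (AddCommGroup (F.obj (ModuleCat.of A A)))
noncomputable instance : Module B (KK F) := inferInstanceAs (Module B (F.obj (ModuleCat.of A A)))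
noncomputable instance instModA : Module A (KK F) :=
  letI : Module A (F.obj (ModuleCat.of A A)) := Module.compHom _ (actHom F)
  inferInstanceAs (Module A (F.obj (ModuleCat.of A A)))

theorem smul_def (a : A) (k : KK F) :
    a • k = (F.map (a • 𝟙 (ModuleCat.of A A))).hom k := rfl

instance : SMulCommClass A B (KK F) where
  smul_comm a b k := by
    rw [smul_def, smul_def]
    exact (map_smul (F.map (a • 𝟙 (ModuleCat.of A A))).hom b k)

/-- the forward map `F(A) ⊗_A M → F(M)`, `k ⊗ m ↦ F(1 ↦ m)(k)`. -/
noncomputable def fwd (M : ModuleCat.{u} A) : KK F ⊗[A] M →ₗ[B] F.obj M :=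
  { TensorProduct.liftAddHom
      ({ toFun := fun k => { toFun := fun m => (F.map (pt M m)).hom k
                             map_zero' := by
                               have : pt M (0 : M) = 0 := by ext; simp [pt]
                               rw [this, F.map_zero]; rfl
                             map_add' := fun m₁ m₂ => by
                               rw [pt_add, F.map_add]; rfl }
         map_zero' := by ext m; exact map_zero (F.map (pt M m)).hom
         map_add' := fun k₁ k₂ => by ext m; exact map_add (F.map (pt M m)).hom k₁ k₂ } : KK F →+ M →+ F.obj M)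
      (fun a k m => by
        change (F.map (pt M m)).hom (a • k) = (F.map (pt M (a • m))).hom k
        rw [smul_def]
        have : pt M (a • m) = (a • 𝟙 (ModuleCat.of A A)) ≫ pt M m := by
          ext; simp [pt]
        rw [this, F.map_comp]
        rfl) with
    map_smul' := fun b x => by
      induction x using TensorProduct.induction_on with
      | zero => simp
      | tmul k m =>
        simp only [TensorProduct.smul_tmul', ZeroHom.toFun_eq_coe, AddMonoidHom.toZeroHom_coe,
          TensorProduct.liftAddHom_tmul, AddMonoidHom.coe_mk, ZeroHom.coe_mk, RingHom.id_apply]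
        exact map_smul (F.map (pt M m)).hom b k
      | add x y hx hy =>
        simp only [smul_add, map_add, ZeroHom.toFun_eq_coe, AddMonoidHom.toZeroHom_coe,
          RingHom.id_apply] at hx hy ⊢
        rw [hx, hy] }

@[simp]
theorem fwd_tmul (M : ModuleCat.{u} A) (k : KK F) (m : M) :
    fwd F M (k ⊗ₜ m) = (F.map (pt M m)).hom k := rfl


/-- `k ↦ k ⊗ x` as a `B`-linear map. -/
noncomputable def tmulRight (M : ModuleCat.{u} A) (x : M) : KK F →ₗ[B] KK F ⊗[A] M where
  toFun k := k ⊗ₜ[A] x
  map_add' k₁ k₂ := TensorProduct.add_tmul k₁ k₂ x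
  map_smul' b k := (TensorProduct.smul_tmul' b k x).symm

variable [PreservesColimitsOfSize.{u, u} F]

theorem exists_bwd (M : ModuleCat.{u} A) :
    ∃ κ : F.obj M ⟶ ModuleCat.of B (KK F ⊗[A] M),
      ∀ x : M, F.map (pt M x) ≫ κ = ModuleCat.ofHom (tmulRight F M x) := by
  refine exists_desc (Ψ := F) M (ModuleCat.of B (KK F ⊗[A] M))
    (fun x => ModuleCat.ofHom (tmulRight F M x)) ?_ ?_
  · intro x y
    ext k
    exact TensorProduct.tmul_add (R := A) (show KK F from k) x y
  · intro a x
    ext k
    have h : ∀ k' : KK F, k' ⊗ₜ[A] (a • x) = (a • k') ⊗ₜ[A] x := fun k' =>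
      (TensorProduct.smul_tmul a k' x).symm
    exact h k

/-- the backward map `F(M) → F(A) ⊗_A M`. -/
noncomputable def bwd (M : ModuleCat.{u} A) : F.obj M ⟶ ModuleCat.of B (KK F ⊗[A] M) :=
  (exists_bwd F M).choose

theorem map_pt_bwd (M : ModuleCat.{u} A) (x : M) :
    F.map (pt M x) ≫ bwd F M = ModuleCat.ofHom (tmulRight F M x) :=
  (exists_bwd F M).choose_spec x

theorem bwd_fwd (M : ModuleCat.{u} A) (y : F.obj M) : fwd F M ((bwd F M).hom y) = y := by
  have h : bwd F M ≫ ModuleCat.ofHom (fwd F M) = 𝟙 _ := by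
    apply hom_ext_pt (Ψ := F)
    intro x
    rw [← Category.assoc, map_pt_bwd, Category.comp_id]
    ext k
    rfl
  exact congrArg (fun φ => φ.hom y) h

theorem fwd_bwd (M : ModuleCat.{u} A) (t : KK F ⊗[A] M) : (bwd F M).hom (fwd F M t) = t := by
  induction t using TensorProduct.induction_on with
  | zero => simp
  | tmul k m =>
    rw [fwd_tmul]
    have := congrArg (fun φ => φ.hom k) (map_pt_bwd F M m)
    exact this
  | add x y hx hy => rw [map_add, map_add, hx, hy]

/-- **Eilenberg–Watts**: `F(A) ⊗_A M ≃ F(M)`, `B`-linearly. -/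
noncomputable def ewEquiv (M : ModuleCat.{u} A) : (KK F ⊗[A] M) ≃ₗ[B] F.obj M :=
  { fwd F M with
    invFun := (bwd F M).hom
    left_inv := fwd_bwd F M
    right_inv := bwd_fwd F M }

@[simp]
theorem ewEquiv_tmul (M : ModuleCat.{u} A) (k : KK F) (m : M) :
    ewEquiv F M (k ⊗ₜ m) = (F.map (pt M m)).hom k := rfl

theorem ewEquiv_natural (M N : ModuleCat.{u} A) (f : M ⟶ N) (x : KK F ⊗[A] M) :
    ewEquiv F N (LinearMap.lTensor (KK F) f.hom x) = (F.map f).hom (ewEquiv F M x) := by
  induction x using TensorProduct.induction_on with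
  | zero => simp
  | tmul k m =>
    rw [LinearMap.lTensor_tmul, ewEquiv_tmul, ewEquiv_tmul, ← pt_comp, F.map_comp]
    rfl
  | add x y hx hy => rw [map_add, map_add, map_add, map_add, hx, hy]


section NatTrans

universe v w

variable {D : Type w} [Category.{v} D] [Preadditive D]
  {Ψ Ψ' : ModuleCat.{u} A ⥤ D} [Ψ.Additive] [PreservesColimitsOfSize.{u, u} Ψ] [Ψ'.Additive]

omit [Ψ'.Additive] in
/-- natural transformations out of a colimit-preserving additive functor on modules are determined
by their component at `A`. -/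
theorem natTrans_ext (t t' : Ψ ⟶ Ψ')
    (h : t.app (ModuleCat.of A A) = t'.app (ModuleCat.of A A)) : t = t' := by
  ext M
  apply hom_ext_pt (Ψ := Ψ)
  intro x
  rw [t.naturality, t'.naturality, h]

/-- a morphism `Ψ(A) ⟶ Ψ'(A)` commuting with the `A`-actions is the component at `A` of a natural
transformation. -/
theorem exists_natTrans (φ : Ψ.obj (ModuleCat.of A A) ⟶ Ψ'.obj (ModuleCat.of A A))
    (hφ : ∀ a : A, Ψ.map (a • 𝟙 (ModuleCat.of A A)) ≫ φ = φ ≫ Ψ'.map (a • 𝟙 (ModuleCat.of A A))) :
    ∃ t : Ψ ⟶ Ψ', t.app (ModuleCat.of A A) = φ := by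
  have key : ∀ M : ModuleCat.{u} A, ∃ κ : Ψ.obj M ⟶ Ψ'.obj M,
      ∀ x : M, Ψ.map (pt M x) ≫ κ = φ ≫ Ψ'.map (pt M x) := by
    intro M
    refine exists_desc (Ψ := Ψ) M (Ψ'.obj M) (fun x => φ ≫ Ψ'.map (pt M x)) ?_ ?_
    · intro x y
      rw [pt_add, Ψ'.map_add, Preadditive.comp_add]
    · intro a x
      have : pt M (a • x) = (a • 𝟙 (ModuleCat.of A A)) ≫ pt M x := by
        ext; simp [pt]
      rw [this, Ψ'.map_comp, ← Category.assoc, ← hφ, Category.assoc]
  choose κ hκ using key
  refine ⟨{ app := κ, naturality := ?_ }, ?_⟩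
  · intro M N f
    apply hom_ext_pt (Ψ := Ψ)
    intro x
    rw [← Category.assoc, ← Ψ.map_comp, pt_comp, hκ, ← Category.assoc, hκ, Category.assoc,
      ← Ψ'.map_comp, pt_comp]
  · have h1 := hκ (ModuleCat.of A A) (1 : A)
    have : pt (ModuleCat.of A A) (1 : A) = 𝟙 _ := by
      ext; simp [pt]
    rw [this, Ψ.map_id, Ψ'.map_id, Category.id_comp, Category.comp_id] at h1
    exact h1

end NatTrans

end Groth.Agent.Lib.EW82
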