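import Groth.Agent.Lib.EWH44
import Groth.Prelude.Def_ega3

/-!
# Eilenberg–Watts for functors into complexes (helper44)

For an `A`-linear functor `Φ : ModuleCat A ⥤ HomologicalComplex (ModuleCat A) c` which preserves colimits
degreewise, `Φ ≅ (M ↦ Φ(A) ⊗ M)` (`ewCxIso`), hence `Φ ⋙ H_p ≅ CohIII.TFun (Φ A) p` (`homologyIso`).
-/

set_option autoImplicit false
universe u

open CategoryTheory CategoryTheory.Limits MonoidalCategory CohIII

namespace Groth.Agent.Lib.EWCxH44

open Groth.Agent.Lib.EWH44

variable {A : Type u} [CommRing A] {ι : Type} {c : ComplexShape ι}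

instance eval_linear (i : ι) : (HomologicalComplex.eval (ModuleCat.{u} A) c i).Linear A where
  map_smul _ _ := rfl

/-- `M ↦ P ⊗ M` as a functor into complexes. -/
noncomputable def tensorCx (P : HomologicalComplex (ModuleCat.{u} A) c) :
    ModuleCat.{u} A ⥤ HomologicalComplex (ModuleCat.{u} A) c where
  obj M := tensorObj P M
  map g := tensorMap P g
  map_id M := by
    have h : (tensoringRight (ModuleCat.{u} A)).map (𝟙 M) = 𝟙 _ :=
      (tensoringRight (ModuleCat.{u} A)).map_id M
    unfold tensorMap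
    rw [h, NatTrans.mapHomologicalComplex_id]
    rfl
  map_comp g h := by
    have e : (tensoringRight (ModuleCat.{u} A)).map (g ≫ h) =
        (tensoringRight _).map g ≫ (tensoringRight _).map h :=
      (tensoringRight (ModuleCat.{u} A)).map_comp g h
    unfold tensorMap
    rw [e, NatTrans.mapHomologicalComplex_comp, NatTrans.comp_app]

/-- `TFun P p` is `tensorCx P` followed by homology. -/
noncomputable def TFunIsoTensorCx (P : HomologicalComplex (ModuleCat.{u} A) c) (p : ι) :
    TFun P p ≅ tensorCx P ⋙ HomologicalComplex.homologyFunctor (ModuleCat.{u} A) c p :=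
  NatIso.ofComponents (fun M => Iso.refl _) (by
    intro M N g
    simp only [Iso.refl_hom, Category.comp_id, Category.id_comp]
    rfl)

variable (Φ : ModuleCat.{u} A ⥤ HomologicalComplex (ModuleCat.{u} A) c) [Φ.Additive] [Φ.Linear A]

instance (n : ι) : (Φ ⋙ HomologicalComplex.eval (ModuleCat.{u} A) c n).Linear A := inferInstance

variable [∀ n, PreservesColimitsOfSize.{u, u} (Φ ⋙ HomologicalComplex.eval (ModuleCat.{u} A) c n)]

/-- the degreewise Eilenberg–Watts isomorphism -/
noncomputable def ewCxApp (M : ModuleCat.{u} A) :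
    (tensorCx (Φ.obj (ModuleCat.of A A))).obj M ≅ Φ.obj M :=
  HomologicalComplex.Hom.isoOfComponents
    (fun n => (ewIso (Φ ⋙ HomologicalComplex.eval (ModuleCat.{u} A) c n)).app M) (by
      intro i j hij
      apply ModuleCat.MonoidalCategory.tensor_ext
      intro y m
      have h := congrArg (fun f => f.hom y)
        ((Φ.map (pt M m)).comm i j)
      exact h)

theorem ewCxApp_hom_f_tmul (M : ModuleCat.{u} A) (n : ι) (y : (Φ.obj (ModuleCat.of A A)).X n) (m : M) :
    ((ewCxApp Φ M).hom.f n).hom (y ⊗ₜ m) = ((Φ.map (pt M m)).f n).hom y := rfl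

/-- **Eilenberg–Watts for complexes**: `Φ ≅ (M ↦ Φ(A) ⊗ M)`. -/
noncomputable def ewCxIso : tensorCx (Φ.obj (ModuleCat.of A A)) ≅ Φ :=
  NatIso.ofComponents (ewCxApp Φ) (by
    intro M M' g
    apply HomologicalComplex.hom_ext
    intro n
    exact (ewHom (Φ ⋙ HomologicalComplex.eval (ModuleCat.{u} A) c n)).naturality g)

/-- `H_p(Φ(M)) ≅ H_p(Φ(A) ⊗ M)`, naturally in `M`. -/
noncomputable def homologyIso (p : ι) :
    TFun (Φ.obj (ModuleCat.of A A)) p ≅
      Φ ⋙ HomologicalComplex.homologyFunctor (ModuleCat.{u} A) c p :=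
  TFunIsoTensorCx _ p ≪≫ Functor.isoWhiskerRight (ewCxIso Φ) _

end Groth.Agent.Lib.EWCxH44
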