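import Mathlib

set_option autoImplicit false
universe u u' v'

open CategoryTheory CategoryTheory.Limits

namespace Groth.Agent.Lib.EWFP82

variable (A : Type u) [CommRing A]

/-- the property "finitely presented". -/
abbrev FPp : ObjectProperty (ModuleCat.{u} A) := fun M => Module.FinitePresentation A M

/-- the category of finitely presented modules. -/
abbrev FPC := (FPp A).FullSubcategory

instance : (FPp A).ContainsZero where
  exists_zero := ⟨ModuleCat.of A PUnit.{u+1}, ModuleCat.isZero_of_subsingleton _, by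
    change Module.FinitePresentation A PUnit.{u+1}
    infer_instance⟩

variable {A}

/-- make an object of `FPC A`. -/
abbrev mkObj (M : Type u) [AddCommGroup M] [Module A M] [Module.FinitePresentation A M] : FPC A :=
  ⟨ModuleCat.of A M, (inferInstance : Module.FinitePresentation A M)⟩

/-- make a morphism of `FPC A` from a linear map. -/
abbrev mkHom {M N : FPC A} (f : M.obj →ₗ[A] N.obj) : M ⟶ N :=
  ObjectProperty.homMk (ModuleCat.ofHom f)

theorem mkHom_comp {M N P : FPC A} (f : M.obj →ₗ[A] N.obj) (g : N.obj →ₗ[A] P.obj) :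
    mkHom f ≫ mkHom g = mkHom (g ∘ₗ f) := rfl

theorem hom_ext' {M N : FPC A} {f g : M ⟶ N} (h : ∀ x : M.obj, f.hom.hom x = g.hom.hom x) : f = g := by
  apply ObjectProperty.hom_ext
  ext x
  exact h x

instance (M : FPC A) : Module.FinitePresentation A M.obj := M.property

/-- the binary bicone in `FPC A`. -/
noncomputable def bicone (M N : FPC A) : BinaryBicone M N where
  pt := mkObj (M.obj × N.obj)
  fst := mkHom (LinearMap.fst A M.obj N.obj)
  snd := mkHom (LinearMap.snd A M.obj N.obj)
  inl := mkHom (LinearMap.inl A M.obj N.obj)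
  inr := mkHom (LinearMap.inr A M.obj N.obj)
  inl_fst := by apply hom_ext'; intro x; rfl
  inl_snd := by apply hom_ext'; intro x; rfl
  inr_fst := by apply hom_ext'; intro x; rfl
  inr_snd := by apply hom_ext'; intro x; rfl

instance : HasBinaryBiproducts (FPC A) where
  has_binary_biproduct M N :=
    HasBinaryBiproduct.mk ⟨bicone M N, isBinaryBilimitOfTotal _ (by
      apply hom_ext'
      intro x
      change ((x.1, (0 : N.obj)) + ((0 : M.obj), x.2) : M.obj × N.obj) = x
      simp only [Prod.mk_add_mk, add_zero, zero_add]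
      rfl)⟩

section Additive

variable {B : Type u'} [Category.{v'} B] [Preadditive B] [HasFiniteBiproducts B]
  (F : FPC A ⥤ B) [PreservesFiniteColimits F]

theorem additive_of_preservesFiniteColimits : F.Additive := by
  have : F.PreservesZeroMorphisms := Functor.preservesZeroMorphisms_of_preserves_initial_object
  have : PreservesBinaryBiproducts F := preservesBinaryBiproducts_of_preservesBinaryCoproducts F
  exact Functor.additive_of_preservesBinaryBiproducts F

end Additive


/-- `A` as an object of `FPC A`. -/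
abbrev A1 : FPC A := mkObj A

/-- the free module `A^n`. -/
noncomputable abbrev fr (n : ℕ) : FPC A := mkObj (Fin n →₀ A)

/-- `1 ↦ x`. -/
noncomputable abbrev pt (M : FPC A) (x : M.obj) : (A1 : FPC A) ⟶ M :=
  mkHom (LinearMap.toSpanSingleton A M.obj x)

/-- multiplication by `a` on `A`. -/
noncomputable abbrev sm (a : A) : (A1 : FPC A) ⟶ A1 := mkHom (LinearMap.lsmul A A a)

/-- the `i`-th inclusion `A → A^n`. -/
noncomputable abbrev inj (n : ℕ) (i : Fin n) : (A1 : FPC A) ⟶ fr n :=
  mkHom (Finsupp.lsingle (R := A) (M := A) i)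

theorem pt_add (M : FPC A) (x y : M.obj) : pt M (x + y) = pt M x + pt M y := by
  apply hom_ext'
  intro a
  change a • (x + y) = a • x + a • y
  rw [smul_add]

theorem pt_zero (M : FPC A) : pt M (0 : M.obj) = 0 := by
  apply hom_ext'
  intro a
  change a • (0 : M.obj) = 0
  rw [smul_zero]

theorem pt_smul (M : FPC A) (a : A) (x : M.obj) : pt M (a • x) = sm a ≫ pt M x := by
  apply hom_ext'
  intro b
  change b • a • x = (a • b) • x
  rw [smul_smul, smul_eq_mul, mul_comm]

theorem pt_comp {M N : FPC A} (f : M ⟶ N) (x : M.obj) : pt M x ≫ f = pt N (f.hom.hom x) := by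
  apply hom_ext'
  intro b
  change f.hom.hom (b • x) = b • f.hom.hom x
  rw [map_smul]

theorem pt_one : pt (A1 : FPC A) (1 : A) = 𝟙 _ := by
  apply hom_ext'
  intro b
  change b • (1 : A) = b
  rw [smul_eq_mul, mul_one]

theorem pt_single (n : ℕ) (i : Fin n) (a : A) :
    pt (fr n) (Finsupp.single i a) = sm a ≫ inj n i := by
  apply hom_ext'
  intro b
  change b • Finsupp.single i a = Finsupp.single i (a • b)
  rw [Finsupp.smul_single, smul_eq_mul, smul_eq_mul, mul_comm]

/-- `A^n` is the coproduct of `n` copies of `A` in `FPC A`. -/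
noncomputable def frIsColimit (n : ℕ) :
    IsColimit (Cofan.mk (fr n : FPC A) (inj n)) :=
  Cofan.IsColimit.mk _
    (fun t => mkHom (Finsupp.lsum ℕ (fun i => (t.inj i).hom.hom)))
    (fun t i => by
      apply hom_ext'
      intro a
      change (Finsupp.lsum ℕ fun i => (t.inj i).hom.hom) (Finsupp.single i a) = _
      simp)
    (fun t m h => by
      apply ObjectProperty.hom_ext
      apply ModuleCat.hom_ext
      apply Finsupp.lhom_ext'
      intro i
      refine LinearMap.ext fun a => ?_
      have h1 := congrArg (fun φ => φ.hom.hom a) (h i)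
      change m.hom.hom (Finsupp.single i a) = _ at h1
      change m.hom.hom (Finsupp.single i a) =
        (Finsupp.lsum ℕ fun i => (t.inj i).hom.hom) (Finsupp.single i a)
      rw [h1]
      simp)


/-- a finite presentation `A^m → A^n → M → 0`. -/
theorem exists_presentation (M : FPC A) :
    ∃ (n m : ℕ) (π : (Fin n →₀ A) →ₗ[A] M.obj) (ρ : (Fin m →₀ A) →ₗ[A] (Fin n →₀ A)),
      Function.Surjective π ∧ LinearMap.range ρ = LinearMap.ker π := by
  obtain ⟨n, s, hs⟩ := Module.Finite.exists_fin (R := A) (M := M.obj)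
  let π : (Fin n →₀ A) →ₗ[A] M.obj := Finsupp.linearCombination A s
  have hπ : Function.Surjective π := by
    rw [← LinearMap.range_eq_top, Finsupp.range_linearCombination, hs]
  have hK : (LinearMap.ker π).FG := Module.FinitePresentation.fg_ker π hπ
  obtain ⟨m, g, hg⟩ := Submodule.fg_iff_exists_fin_generating_family.1 hK
  refine ⟨n, m, π, Finsupp.linearCombination A g, hπ, ?_⟩
  rw [Finsupp.range_linearCombination, hg]

/-- the presentation gives a cokernel cofork in `FPC A`. -/
noncomputable def cokernelIsColimit {M : FPC A} {n m : ℕ} (π : (Fin n →₀ A) →ₗ[A] M.obj)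
    (ρ : (Fin m →₀ A) →ₗ[A] (Fin n →₀ A)) (hπ : Function.Surjective π)
    (hρ : LinearMap.range ρ = LinearMap.ker π)
    (w : (mkHom ρ : fr m ⟶ fr n) ≫ (mkHom π : fr n ⟶ M) = 0) :
    IsColimit (CokernelCofork.ofπ (mkHom π : fr n ⟶ M) w) := by
  let S : ShortComplex (ModuleCat.{u} A) :=
    ShortComplex.mk (ModuleCat.ofHom ρ) (ModuleCat.ofHom π) (by
      apply ModuleCat.hom_ext
      refine LinearMap.ext fun x => ?_
      have : ρ x ∈ LinearMap.ker π := hρ.le ⟨x, rfl⟩
      exact this)
  have hS : S.Exact := (ShortComplex.moduleCat_exact_iff_range_eq_ker S).2 hρ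
  haveI : Epi S.g := (ModuleCat.epi_iff_surjective _).2 hπ
  have hc := hS.gIsCokernel
  have hw : ∀ {Z : FPC A} (g' : fr n ⟶ Z), (mkHom ρ : fr m ⟶ fr n) ≫ g' = 0 → S.f ≫ g'.hom = 0 :=
    fun g' eq' => congrArg (fun φ => φ.hom) eq'
  refine CokernelCofork.IsColimit.ofπ _ _
    (fun {Z} g' eq' => ObjectProperty.homMk (hc.desc (CokernelCofork.ofπ g'.hom (hw g' eq'))))
    (fun {Z} g' eq' => ?_) (fun {Z} g' eq' m' hm => ?_)
  · apply ObjectProperty.hom_ext
    exact hc.fac (CokernelCofork.ofπ g'.hom (hw g' eq')) WalkingParallelPair.one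
  · apply ObjectProperty.hom_ext
    apply Cofork.IsColimit.hom_ext hc
    have h1 : S.g ≫ hc.desc (CokernelCofork.ofπ g'.hom (hw g' eq')) = g'.hom :=
      hc.fac (CokernelCofork.ofπ g'.hom (hw g' eq')) WalkingParallelPair.one
    change S.g ≫ m'.hom = S.g ≫ hc.desc (CokernelCofork.ofπ g'.hom (hw g' eq'))
    rw [h1]
    exact congrArg (fun φ => φ.hom) hm

section Main

variable {B : Type u'} [Category.{v'} B] [Preadditive B]
  (F : FPC A ⥤ B) [F.Additive] [PreservesFiniteColimits F]

/-- `F(A^n)` is the coproduct of copies of `F(A)`. -/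
noncomputable def mapFr (n : ℕ) :
    IsColimit (Cofan.mk (F.obj (fr n)) (fun i : Fin n => F.map (inj n i))) :=
  isColimitCofanMkObjOfIsColimit F _ _ (frIsColimit (A := A) n)

variable {F}

/-- **Uniqueness**: morphisms out of `F(M)` are determined on the points of `M`. -/
theorem hom_ext_pt {M : FPC A} {G : B} (κ κ' : F.obj M ⟶ G)
    (h : ∀ x : M.obj, F.map (pt M x) ≫ κ = F.map (pt M x) ≫ κ') : κ = κ' := by
  obtain ⟨n, m, π, ρ, hπ, hρ⟩ := exists_presentation M
  have w : (mkHom (M := fr m) (N := fr n) ρ) ≫ (mkHom (M := fr n) (N := M) π) = 0 := by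
    apply hom_ext'
    intro x
    have : ρ x ∈ LinearMap.ker π := hρ.le ⟨x, rfl⟩
    exact this
  have hc := CokernelCofork.mapIsColimit _ (cokernelIsColimit π ρ hπ hρ w) F
  apply Cofork.IsColimit.hom_ext hc
  change F.map (mkHom (M := fr n) (N := M) π) ≫ κ = F.map (mkHom (M := fr n) (N := M) π) ≫ κ'
  apply Cofan.IsColimit.hom_ext (mapFr F n)
  intro i
  change F.map (inj n i) ≫ F.map (mkHom (M := fr n) (N := M) π) ≫ κ =
    F.map (inj n i) ≫ F.map (mkHom (M := fr n) (N := M) π) ≫ κ'
  rw [← Category.assoc, ← Category.assoc, ← F.map_comp]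
  have h2 : inj n i ≫ (mkHom (M := fr n) (N := M) π) = pt M (π (Finsupp.single i 1)) := by
    apply hom_ext'
    intro a
    change π (Finsupp.single i a) = a • π (Finsupp.single i 1)
    rw [← map_smul, Finsupp.smul_single, smul_eq_mul, mul_one]
  rw [h2]
  exact h _

omit [PreservesFiniteColimits F] in
/-- the value on a point which is a finite linear combination -/
theorem map_pt_finsupp {n : ℕ} (G : B) (g : Fin n → (F.obj (A1 : FPC A) ⟶ G))
    (κ : F.obj (fr n) ⟶ G) (hκ : ∀ i, F.map (inj n i) ≫ κ = g i) (v : Fin n →₀ A) :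
    F.map (pt (fr n) v) ≫ κ = v.sum (fun i a => F.map (sm a) ≫ g i) := by
  classical
  induction v using Finsupp.induction_linear with
  | zero =>
    rw [pt_zero, F.map_zero, zero_comp, Finsupp.sum_zero_index]
  | add v w hv hw =>
    rw [pt_add, F.map_add, Preadditive.add_comp, hv, hw]
    rw [Finsupp.sum_add_index']
    · intro i
      have : sm (0 : A) = (0 : (A1 : FPC A) ⟶ A1) := by
        apply hom_ext'; intro b; change (0 : A) • b = 0; rw [zero_smul]
      rw [this, F.map_zero, zero_comp]
    · intro i a b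
      have : sm (a + b) = (sm a + sm b : (A1 : FPC A) ⟶ A1) := by
        apply hom_ext'; intro c; change (a + b) • c = a • c + b • c; rw [add_smul]
      rw [this, F.map_add, Preadditive.add_comp]
  | single i a =>
    rw [Finsupp.sum_single_index]
    · rw [pt_single, F.map_comp, Category.assoc, hκ]
    · have : sm (0 : A) = (0 : (A1 : FPC A) ⟶ A1) := by
        apply hom_ext'; intro b; change (0 : A) • b = 0; rw [zero_smul]
      rw [this, F.map_zero, zero_comp]

/-- **Existence**: an "`A`-linear" family of morphisms `F(A) ⟶ G` indexed by `M` glues to `F(M) ⟶ G`. -/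
theorem exists_desc (M : FPC A) (G : B) (g : M.obj → (F.obj (A1 : FPC A) ⟶ G))
    (hadd : ∀ x y, g (x + y) = g x + g y)
    (hsmul : ∀ (a : A) (x : M.obj), g (a • x) = F.map (sm a) ≫ g x) :
    ∃ κ : F.obj M ⟶ G, ∀ x : M.obj, F.map (pt M x) ≫ κ = g x := by
  classical
  obtain ⟨n, m, π, ρ, hπ, hρ⟩ := exists_presentation M
  have w : (mkHom (M := fr m) (N := fr n) ρ) ≫ (mkHom (M := fr n) (N := M) π) = 0 := by
    apply hom_ext'
    intro x
    have : ρ x ∈ LinearMap.ker π := hρ.le ⟨x, rfl⟩
    exact this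
  have hc := CokernelCofork.mapIsColimit _ (cokernelIsColimit π ρ hπ hρ w) F
  let gl : M.obj →+ (F.obj (A1 : FPC A) ⟶ G) :=
    { toFun := g
      map_zero' := by
        have := hadd 0 0
        rw [add_zero] at this
        exact left_eq_add.mp this
      map_add' := hadd }
  let g' : Fin n → (F.obj (A1 : FPC A) ⟶ G) := fun i => g (π (Finsupp.single i 1))
  let κ' : F.obj (fr n) ⟶ G := Cofan.IsColimit.desc (mapFr F n) g'
  have hκ' : ∀ i, F.map (inj n i) ≫ κ' = g' i := fun i => Cofan.IsColimit.fac (mapFr F n) g' i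
  have hv : ∀ v : Fin n →₀ A, F.map (pt (fr n) v) ≫ κ' = g (π v) := by
    intro v
    rw [map_pt_finsupp G g' κ' hκ' v]
    have h1 : π v = v.sum (fun i a => a • π (Finsupp.single i 1)) := by
      conv_lhs => rw [← Finsupp.sum_single v]
      rw [map_finsuppSum]
      refine Finsupp.sum_congr fun i _ => ?_
      rw [← map_smul, Finsupp.smul_single, smul_eq_mul, mul_one]
    rw [h1]
    change _ = gl (v.sum fun i a => a • π (Finsupp.single i 1))
    rw [Finsupp.sum, Finsupp.sum, map_sum]
    refine Finset.sum_congr rfl fun i _ => ?_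
    exact (hsmul (v i) _).symm
  have hrel : F.map (mkHom (M := fr m) (N := fr n) ρ) ≫ κ' = 0 := by
    apply Cofan.IsColimit.hom_ext (mapFr F m)
    intro k
    change F.map (inj m k) ≫ F.map (mkHom (M := fr m) (N := fr n) ρ) ≫ κ' = F.map (inj m k) ≫ 0
    rw [comp_zero, ← Category.assoc, ← F.map_comp]
    have h1 : inj m k ≫ (mkHom (M := fr m) (N := fr n) ρ) = pt (fr n) (ρ (Finsupp.single k 1)) := by
      apply hom_ext'
      intro a
      change ρ (Finsupp.single k a) = a • ρ (Finsupp.single k 1)
      rw [← map_smul, Finsupp.smul_single, smul_eq_mul, mul_one]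
    rw [h1, hv]
    have : π (ρ (Finsupp.single k 1)) = 0 := hρ.le ⟨_, rfl⟩
    rw [this]
    exact gl.map_zero
  obtain ⟨d, h2⟩ : ∃ d : F.obj M ⟶ G, F.map (mkHom (M := fr n) (N := M) π) ≫ d = κ' :=
    ⟨hc.desc (CokernelCofork.ofπ κ' hrel),
      hc.fac (CokernelCofork.ofπ κ' hrel) WalkingParallelPair.one⟩
  refine ⟨d, fun x => ?_⟩
  obtain ⟨v, rfl⟩ := hπ x
  have h3 : pt M (π v) = pt (fr n) v ≫ (mkHom (M := fr n) (N := M) π) := by
    rw [pt_comp]
  rw [h3, F.map_comp, Category.assoc, h2, hv]

end Main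

section NatTrans

variable {B : Type u'} [Category.{v'} B] [Preadditive B]
  {F F' : FPC A ⥤ B} [F.Additive] [PreservesFiniteColimits F] [F'.Additive]

omit [F'.Additive] in
/-- natural transformations out of a right exact functor on f.p. modules are determined by their
component at `A`. -/
theorem natTrans_ext (t t' : F ⟶ F') (h : t.app (A1 : FPC A) = t'.app A1) : t = t' := by
  ext M
  apply hom_ext_pt
  intro x
  rw [t.naturality, t'.naturality, h]

/-- a morphism `F(A) ⟶ F'(A)` commuting with the `A`-actions is the component at `A` of a natural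
transformation. -/
theorem exists_natTrans (φ : F.obj (A1 : FPC A) ⟶ F'.obj A1)
    (hφ : ∀ a : A, F.map (sm a) ≫ φ = φ ≫ F'.map (sm a)) :
    ∃ t : F ⟶ F', t.app (A1 : FPC A) = φ := by
  have key : ∀ M : FPC A, ∃ κ : F.obj M ⟶ F'.obj M,
      ∀ x : M.obj, F.map (pt M x) ≫ κ = φ ≫ F'.map (pt M x) := by
    intro M
    refine exists_desc M (F'.obj M) (fun x => φ ≫ F'.map (pt M x)) ?_ ?_
    · intro x y
      rw [pt_add, F'.map_add, Preadditive.comp_add]
    · intro a x
      rw [pt_smul, F'.map_comp, ← Category.assoc, ← hφ, Category.assoc]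
  choose κ hκ using key
  refine ⟨{ app := κ, naturality := ?_ }, ?_⟩
  · intro M N f
    apply hom_ext_pt
    intro x
    rw [← Category.assoc, ← F.map_comp, pt_comp, hκ, ← Category.assoc, hκ, Category.assoc,
      ← F'.map_comp, pt_comp]
  · have h1 := hκ (A1 : FPC A) (1 : A)
    rw [pt_one, F.map_id, F'.map_id, Category.id_comp, Category.comp_id] at h1
    exact h1

end NatTrans

end Groth.Agent.Lib.EWFP82
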