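import Mathlib.Algebra.Category.ModuleCat.Monoidal.Closed
import Mathlib.Algebra.Category.ModuleCat.Colimits
import Mathlib.Algebra.Category.ModuleCat.Abelian
import Mathlib.Algebra.Homology.ShortComplex.ModuleCat
import Mathlib.Algebra.Homology.ShortComplex.Exact
import Mathlib.CategoryTheory.Linear.LinearFunctor
import Mathlib.CategoryTheory.Limits.Preserves.Basic
import Mathlib.CategoryTheory.Limits.Preserves.Finite
import Mathlib.LinearAlgebra.Finsupp.LinearCombination

/-!
# An Eilenberg–Watts theorem for colimit-preserving functors on modules (helper44)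

* `isIso_app_of_isColimit`: a natural transformation between two functors preserving a colimit cocone which is
  an isomorphism on the diagram is an isomorphism at the cocone point.
* `isIso_app_of_isIso_app_self`: a natural transformation between two colimit-preserving functors out of
  `ModuleCat A` which is an isomorphism at `A` is an isomorphism everywhere.
* `ewHom Ψ : tensorLeft (Ψ.obj A) ⟶ Ψ` for an `A`-linear functor `Ψ : ModuleCat A ⥤ ModuleCat A`,
  `y ⊗ m ↦ Ψ(1 ↦ m)(y)`, and `ewIso Ψ` when `Ψ` preserves colimits.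
-/

set_option autoImplicit false
universe u

open CategoryTheory CategoryTheory.Limits MonoidalCategory

namespace Groth.Agent.Lib.EWH44

section General

variable {C : Type*} [Category C] {D : Type*} [Category D]

/-- If two functors preserve a colimit cocone and a natural transformation between them is an isomorphism
on the diagram, it is an isomorphism at the colimit point. -/
theorem isIso_app_of_isColimit {J : Type*} [Category J] {K : J ⥤ C} {c : Cocone K} (hc : IsColimit c)
    {Ψ₁ Ψ₂ : C ⥤ D} [PreservesColimit K Ψ₁] [PreservesColimit K Ψ₂] (θ : Ψ₁ ⟶ Ψ₂)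
    (h : ∀ j, IsIso (θ.app (K.obj j))) : IsIso (θ.app c.pt) := by
  let P₁ := isColimitOfPreserves Ψ₁ hc
  let P₂ := isColimitOfPreserves Ψ₂ hc
  haveI : ∀ j, IsIso ((Functor.whiskerLeft K θ).app j) := fun j => h j
  haveI : IsIso (Functor.whiskerLeft K θ) := NatIso.isIso_of_isIso_app _
  let e := IsColimit.coconePointsIsoOfNatIso P₁ P₂ (asIso (Functor.whiskerLeft K θ))
  have he : θ.app c.pt = e.hom := by
    apply P₁.hom_ext
    intro j
    have h1 := IsColimit.ι_map P₁ (Ψ₂.mapCocone c) (Functor.whiskerLeft K θ) j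
    simp only [e, IsColimit.coconePointsIsoOfNatIso_hom, asIso_hom]
    rw [h1]
    simp
  rw [he]
  infer_instance

end General

section Free

variable {A : Type u} [Ring A]

/-- The cofan exhibiting `I →₀ A` as the coproduct of `I` copies of `A`. -/
noncomputable def freeCofan (I : Type u) : Cofan (fun _ : I => ModuleCat.of A A) :=
  Cofan.mk (ModuleCat.of A (I →₀ A)) (fun i => ModuleCat.ofHom (Finsupp.lsingle i))

/-- `I →₀ A` is the coproduct of `I` copies of `A`. -/
noncomputable def freeCofanIsColimit (I : Type u) : IsColimit (freeCofan (A := A) I) :=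
  Cofan.IsColimit.mk _ (fun s => ModuleCat.ofHom (Finsupp.lsum ℕ (fun i => (s.inj i).hom)))
    (fun s i => by
      ext
      simp [freeCofan])
    (fun s m h => by
      apply ModuleCat.hom_ext
      apply Finsupp.lhom_ext'
      intro i
      have h1 : (ModuleCat.ofHom (Finsupp.lsingle i) ≫ m).hom = (s.inj i).hom :=
        congrArg ModuleCat.Hom.hom (h i)
      change (ModuleCat.ofHom (Finsupp.lsingle i) ≫ m).hom = _
      rw [h1]
      ext
      change _ = (Finsupp.lsum ℕ fun i => ModuleCat.Hom.hom (s.inj i)) (Finsupp.single i 1)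
      simp)

end Free

section Main

variable {A : Type u} [Ring A] {D : Type*} [Category D]

theorem isIso_app_free (Ψ₁ Ψ₂ : ModuleCat.{u} A ⥤ D)
    [PreservesColimitsOfSize.{u, u} Ψ₁] [PreservesColimitsOfSize.{u, u} Ψ₂] (θ : Ψ₁ ⟶ Ψ₂)
    [IsIso (θ.app (ModuleCat.of A A))] (I : Type u) :
    IsIso (θ.app (ModuleCat.of A (I →₀ A))) :=
  isIso_app_of_isColimit (freeCofanIsColimit I) θ
    (fun _ => (inferInstance : IsIso (θ.app (ModuleCat.of A A))))

/-- **Eilenberg–Watts, uniqueness form.** A natural transformation between two colimit-preserving functors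
out of `ModuleCat A` which is an isomorphism at the module `A` is an isomorphism at every module. -/
theorem isIso_app_of_isIso_app_self (Ψ₁ Ψ₂ : ModuleCat.{u} A ⥤ D)
    [PreservesColimitsOfSize.{u, u} Ψ₁] [PreservesColimitsOfSize.{u, u} Ψ₂] (θ : Ψ₁ ⟶ Ψ₂)
    [IsIso (θ.app (ModuleCat.of A A))] (M : ModuleCat.{u} A) : IsIso (θ.app M) := by
  let π : (M →₀ A) →ₗ[A] M := Finsupp.linearCombination A id
  have hπ : Function.Surjective π := Finsupp.linearCombination_id_surjective A M
  let K := LinearMap.ker π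
  let ρ : (K →₀ A) →ₗ[A] (M →₀ A) := Finsupp.linearCombination A (fun k : K => (k : M →₀ A))
  have hρ : LinearMap.range ρ = K := by
    rw [Finsupp.range_linearCombination]
    simp
  let S : ShortComplex (ModuleCat.{u} A) :=
    ShortComplex.mk (ModuleCat.ofHom ρ) (ModuleCat.ofHom π) (by
      apply ModuleCat.hom_ext
      refine LinearMap.ext fun x => ?_
      have : ρ x ∈ K := hρ.le ⟨x, rfl⟩
      exact this)
  have hS : S.Exact := (ShortComplex.moduleCat_exact_iff_range_eq_ker S).2 hρ
  have : Epi S.g := (ModuleCat.epi_iff_surjective _).2 hπ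
  have hc := hS.gIsCokernel
  have i1 : PreservesColimitsOfSize.{0, 0} Ψ₁ := preservesSmallestColimits_of_preservesColimits Ψ₁
  have i2 : PreservesColimitsOfSize.{0, 0} Ψ₂ := preservesSmallestColimits_of_preservesColimits Ψ₂
  have key := isIso_app_of_isColimit hc θ (by
    rintro (_ | _)
    · exact isIso_app_free Ψ₁ Ψ₂ θ K
    · exact isIso_app_free Ψ₁ Ψ₂ θ M)
  exact key

end Main

section EW

variable {A : Type u} [CommRing A]

/-- The linear map `A → M`, `1 ↦ m`, as a morphism of `ModuleCat A`. -/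
noncomputable abbrev pt (M : ModuleCat.{u} A) (m : M) : ModuleCat.of A A ⟶ M :=
  ModuleCat.ofHom (LinearMap.toSpanSingleton A M m)

theorem pt_add (M : ModuleCat.{u} A) (m₁ m₂ : M) : pt M (m₁ + m₂) = pt M m₁ + pt M m₂ := by
  ext
  simp [pt]

theorem pt_smul (M : ModuleCat.{u} A) (a : A) (m : M) : pt M (a • m) = a • pt M m := by
  ext
  simp [pt]

theorem pt_comp {M M' : ModuleCat.{u} A} (φ : M ⟶ M') (m : M) : pt M m ≫ φ = pt M' (φ.hom m) := by
  ext
  simp [pt]

theorem pt_self (a : A) : pt (ModuleCat.of A A) a = a • 𝟙 (ModuleCat.of A A) := by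
  ext
  simp [pt]

variable (Ψ : ModuleCat.{u} A ⥤ ModuleCat.{u} A) [Ψ.Additive] [Ψ.Linear A]

/-- The canonical map `Ψ(A) ⊗ M ⟶ Ψ(M)`, `y ⊗ m ↦ Ψ(1 ↦ m)(y)`. -/
noncomputable def ewApp (M : ModuleCat.{u} A) :
    (tensorLeft (Ψ.obj (ModuleCat.of A A))).obj M ⟶ Ψ.obj M :=
  ModuleCat.MonoidalCategory.tensorLift (fun y m => (Ψ.map (pt M m)).hom y)
    (fun y₁ y₂ m => map_add _ _ _)
    (fun a y m => map_smul _ _ _)
    (fun y m₁ m₂ => by
      rw [pt_add, Ψ.map_add]
      rfl)
    (fun a y m => by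
      rw [pt_smul, Ψ.map_smul]
      rfl)

@[simp]
theorem ewApp_tmul (M : ModuleCat.{u} A) (y : Ψ.obj (ModuleCat.of A A)) (m : M) :
    (ewApp Ψ M).hom (y ⊗ₜ m) = (Ψ.map (pt M m)).hom y := rfl

/-- The canonical natural transformation `Ψ(A) ⊗ - ⟶ Ψ`. -/
noncomputable def ewHom : tensorLeft (Ψ.obj (ModuleCat.of A A)) ⟶ Ψ where
  app M := ewApp Ψ M
  naturality M M' φ := by
    apply ModuleCat.MonoidalCategory.tensor_ext
    intro y m
    change (ewApp Ψ M').hom ((Ψ.obj (ModuleCat.of A A) ◁ φ).hom (y ⊗ₜ m)) =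
      (Ψ.map φ).hom ((ewApp Ψ M).hom (y ⊗ₜ m))
    rw [ModuleCat.MonoidalCategory.whiskerLeft_apply, ewApp_tmul, ewApp_tmul, ← pt_comp, Ψ.map_comp]
    rfl

theorem ewApp_self :
    ewApp Ψ (ModuleCat.of A A) = (ρ_ (Ψ.obj (ModuleCat.of A A))).hom := by
  apply ModuleCat.MonoidalCategory.tensor_ext
  intro y a
  rw [ewApp_tmul, pt_self, Ψ.map_smul, Ψ.map_id]
  exact (ModuleCat.MonoidalCategory.rightUnitor_hom_apply y a).symm

instance : IsIso ((ewHom Ψ).app (ModuleCat.of A A)) := by
  change IsIso (ewApp Ψ (ModuleCat.of A A))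
  rw [ewApp_self]
  infer_instance

/-- **Eilenberg–Watts**: a colimit-preserving `A`-linear endofunctor `Ψ` of `ModuleCat A` is tensoring with
`Ψ(A)`. -/
theorem isIso_ewHom_app [PreservesColimitsOfSize.{u, u} Ψ] (M : ModuleCat.{u} A) :
    IsIso ((ewHom Ψ).app M) :=
  isIso_app_of_isIso_app_self _ _ (ewHom Ψ) M

instance [PreservesColimitsOfSize.{u, u} Ψ] : IsIso (ewHom Ψ) :=
  haveI : ∀ M, IsIso ((ewHom Ψ).app M) := isIso_ewHom_app Ψ
  NatIso.isIso_of_isIso_app _

/-- The Eilenberg–Watts isomorphism `Ψ(A) ⊗ - ≅ Ψ`. -/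
noncomputable def ewIso [PreservesColimitsOfSize.{u, u} Ψ] :
    tensorLeft (Ψ.obj (ModuleCat.of A A)) ≅ Ψ :=
  asIso (ewHom Ψ)

end EW

end Groth.Agent.Lib.EWH44
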