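import Groth.Agent.Lib.EWH44
import Mathlib.CategoryTheory.Limits.Preserves.Shapes.Products
import Mathlib.CategoryTheory.Limits.Preserves.Shapes.Kernels

/-!
# Eilenberg–Watts: morphisms out of the values of a colimit-preserving functor (helper44)

For an additive colimit-preserving functor `Ψ : ModuleCat A ⥤ D`:
* `hom_ext_pt`: morphisms `Ψ(M) ⟶ G` are determined by their composites with the `Ψ(1 ↦ x)`, `x ∈ M`;
* `exists_desc`: every family `g x : Ψ(A) ⟶ G`, additive in `x` and with `g (a • x) = Ψ(a) ≫ g x`, comes from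
  a (unique) morphism `Ψ(M) ⟶ G`.
-/

set_option autoImplicit false
universe u v w

open CategoryTheory CategoryTheory.Limits

namespace Groth.Agent.Lib.EWHomH44

open Groth.Agent.Lib.EWH44

variable {A : Type u} [CommRing A] {D : Type w} [Category.{v} D] [Preadditive D]
  (Ψ : ModuleCat.{u} A ⥤ D) [Ψ.Additive] [PreservesColimitsOfSize.{u, u} Ψ]

section

variable (M : ModuleCat.{u} A)

/-- the canonical surjection from the free module on the elements of `M` -/
noncomputable abbrev freeπ : ModuleCat.of A (M →₀ A) ⟶ M :=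
  ModuleCat.ofHom (Finsupp.linearCombination A id)

theorem lsingle_freeπ (x : M) :
    ModuleCat.ofHom (Finsupp.lsingle x) ≫ freeπ M = pt M x := by
  ext
  simp [pt]

/-- the presentation of `M` -/
noncomputable abbrev relMap :
    ModuleCat.of A (LinearMap.ker (Finsupp.linearCombination A (id : M → M)) →₀ A) ⟶
      ModuleCat.of A (M →₀ A) :=
  ModuleCat.ofHom (Finsupp.linearCombination A
    (fun k : LinearMap.ker (Finsupp.linearCombination A (id : M → M)) => (k : M →₀ A)))

theorem relMap_freeπ : relMap M ≫ freeπ M = 0 := by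
  apply ModuleCat.hom_ext
  apply Finsupp.lhom_ext'
  intro k
  refine LinearMap.ext fun a => ?_
  have : (Finsupp.linearCombination A (id : M → M)) (k : M →₀ A) = 0 := k.2
  simp [this]

/-- the presentation `A^(K) → A^(M) → M → 0` -/
noncomputable def presSC : ShortComplex (ModuleCat.{u} A) :=
  ShortComplex.mk (relMap M) (freeπ M) (relMap_freeπ M)

theorem presSC_exact : (presSC M).Exact := by
  rw [ShortComplex.moduleCat_exact_iff_range_eq_ker]
  change LinearMap.range (Finsupp.linearCombination A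
    (fun k : LinearMap.ker (Finsupp.linearCombination A (id : M → M)) => (k : M →₀ A))) =
    LinearMap.ker (Finsupp.linearCombination A (id : M → M))
  rw [Finsupp.range_linearCombination]
  have : (Set.range fun k : LinearMap.ker (Finsupp.linearCombination A (id : M → M)) => (k : M →₀ A)) =
      (LinearMap.ker (Finsupp.linearCombination A (id : M → M)) : Set (M →₀ A)) := Subtype.range_coe
  rw [this]
  exact Submodule.span_eq _

instance : Epi (presSC M).g :=
  (ModuleCat.epi_iff_surjective _).2 (Finsupp.linearCombination_id_surjective A M)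

/-- `Ψ(A^(M)) → Ψ(M)` is the cokernel of `Ψ(A^(K)) → Ψ(A^(M))` -/
noncomputable def mapCokernel :
    IsColimit (CokernelCofork.ofπ (Ψ.map (freeπ M))
      (by rw [← Ψ.map_comp, relMap_freeπ, Ψ.map_zero] : Ψ.map (relMap M) ≫ Ψ.map (freeπ M) = 0)) :=
  haveI : PreservesColimitsOfSize.{0, 0} Ψ := preservesSmallestColimits_of_preservesColimits Ψ
  CokernelCofork.mapIsColimit _ (presSC_exact M).gIsCokernel Ψ

/-- `Ψ(A^(I))` is the coproduct of copies of `Ψ(A)` -/
noncomputable def mapFree (I : Type u) :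
    IsColimit (Cofan.mk (Ψ.obj (ModuleCat.of A (I →₀ A)))
      (fun i : I => Ψ.map (ModuleCat.ofHom (Finsupp.lsingle (R := A) (M := A) i)))) :=
  isColimitCofanMkObjOfIsColimit Ψ _ _ (freeCofanIsColimit (A := A) I)

end

variable {Ψ}

/-- **Uniqueness**: morphisms out of `Ψ(M)` are determined on the points of `M`. -/
theorem hom_ext_pt {M : ModuleCat.{u} A} {G : D} (κ κ' : Ψ.obj M ⟶ G)
    (h : ∀ x : M, Ψ.map (pt M x) ≫ κ = Ψ.map (pt M x) ≫ κ') : κ = κ' := by
  apply Cofork.IsColimit.hom_ext (mapCokernel Ψ M)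
  change Ψ.map (freeπ M) ≫ κ = Ψ.map (freeπ M) ≫ κ'
  apply Cofan.IsColimit.hom_ext (mapFree Ψ M)
  intro x
  change Ψ.map (ModuleCat.ofHom (Finsupp.lsingle x)) ≫ Ψ.map (freeπ M) ≫ κ =
    Ψ.map (ModuleCat.ofHom (Finsupp.lsingle x)) ≫ Ψ.map (freeπ M) ≫ κ'
  rw [← Category.assoc, ← Category.assoc, ← Ψ.map_comp, lsingle_freeπ]
  exact h x

/-- the value on a point which is a finite linear combination -/
theorem map_pt_finsupp {I : Type u} (G : D) (g : I → (Ψ.obj (ModuleCat.of A A) ⟶ G))
    (κ : Ψ.obj (ModuleCat.of A (I →₀ A)) ⟶ G)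
    (hκ : ∀ i, Ψ.map (ModuleCat.ofHom (Finsupp.lsingle (R := A) (M := A) i)) ≫ κ = g i)
    (v : I →₀ A) :
    Ψ.map (pt (ModuleCat.of A (I →₀ A)) v) ≫ κ =
      v.sum (fun i a => Ψ.map (a • 𝟙 (ModuleCat.of A A)) ≫ g i) := by
  classical
  induction v using Finsupp.induction_linear with
  | zero =>
    have : pt (ModuleCat.of A (I →₀ A)) (0 : I →₀ A) = 0 := by
      ext
      simp [pt]
    rw [this, Ψ.map_zero, zero_comp, Finsupp.sum_zero_index]
  | add v w hv hw =>
    rw [pt_add, Ψ.map_add, Preadditive.add_comp, hv, hw]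
    rw [Finsupp.sum_add_index']
    · intro i
      rw [zero_smul, Ψ.map_zero, zero_comp]
    · intro i a b
      rw [add_smul, Ψ.map_add, Preadditive.add_comp]
  | single i a =>
    rw [Finsupp.sum_single_index]
    · have : pt (ModuleCat.of A (I →₀ A)) (Finsupp.single i a) =
          (a • 𝟙 (ModuleCat.of A A)) ≫ ModuleCat.ofHom (Finsupp.lsingle (R := A) (M := A) i) := by
        ext
        simp [pt]
      rw [this, Ψ.map_comp, Category.assoc, hκ]
    · rw [zero_smul, Ψ.map_zero, zero_comp]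

/-- **Existence**: an "`A`-linear" family of morphisms `Ψ(A) ⟶ G` indexed by `M` glues to `Ψ(M) ⟶ G`. -/
theorem exists_desc (M : ModuleCat.{u} A) (G : D) (g : M → (Ψ.obj (ModuleCat.of A A) ⟶ G))
    (hadd : ∀ x y, g (x + y) = g x + g y)
    (hsmul : ∀ (a : A) (x : M), g (a • x) = Ψ.map (a • 𝟙 (ModuleCat.of A A)) ≫ g x) :
    ∃ κ : Ψ.obj M ⟶ G, ∀ x : M, Ψ.map (pt M x) ≫ κ = g x := by
  classical
  let gl : M →+ (Ψ.obj (ModuleCat.of A A) ⟶ G) :=
    { toFun := g
      map_zero' := by
        have := hadd 0 0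
        rw [add_zero] at this
        exact left_eq_add.mp this
      map_add' := hadd }
  -- the morphism out of the free module
  let κ' : Ψ.obj (ModuleCat.of A (M →₀ A)) ⟶ G := Cofan.IsColimit.desc (mapFree Ψ M) g
  have hκ' : ∀ x, Ψ.map (ModuleCat.ofHom (Finsupp.lsingle (R := A) (M := A) x)) ≫ κ' = g x :=
    fun x => Cofan.IsColimit.fac (mapFree Ψ M) g x
  have hv : ∀ v : M →₀ A, Ψ.map (pt (ModuleCat.of A (M →₀ A)) v) ≫ κ' =
      g (Finsupp.linearCombination A id v) := by
    intro v
    rw [map_pt_finsupp G g κ' hκ' v, Finsupp.linearCombination_apply]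
    change _ = gl (v.sum fun i a => a • id i)
    rw [Finsupp.sum, Finsupp.sum, map_sum]
    refine Finset.sum_congr rfl fun i _ => ?_
    exact (hsmul (v i) i).symm
  -- it kills the relations
  have hrel : Ψ.map (relMap M) ≫ κ' = 0 := by
    apply Cofan.IsColimit.hom_ext (mapFree Ψ _)
    intro k
    change Ψ.map (ModuleCat.ofHom (Finsupp.lsingle k)) ≫ Ψ.map (relMap M) ≫ κ' =
      Ψ.map (ModuleCat.ofHom (Finsupp.lsingle k)) ≫ 0
    rw [comp_zero, ← Category.assoc, ← Ψ.map_comp]
    have h1 : ModuleCat.ofHom (Finsupp.lsingle (R := A) (M := A) k) ≫ relMap M =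
        pt (ModuleCat.of A (M →₀ A)) (k : M →₀ A) := by
      ext
      simp [pt]
    rw [h1, hv]
    have : (Finsupp.linearCombination A (id : M → M)) (k : M →₀ A) = 0 := k.2
    rw [this]
    exact gl.map_zero
  refine ⟨(mapCokernel Ψ M).desc (CokernelCofork.ofπ κ' hrel), fun x => ?_⟩
  have h2 : Ψ.map (freeπ M) ≫ (mapCokernel Ψ M).desc (CokernelCofork.ofπ κ' hrel) = κ' :=
    (mapCokernel Ψ M).fac (CokernelCofork.ofπ κ' hrel) WalkingParallelPair.one
  rw [← lsingle_freeπ, Ψ.map_comp, Category.assoc, h2, hκ']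

end Groth.Agent.Lib.EWHomH44
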