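import Groth.Prelude.Def_RDer
import Groth.Agent.Lib.DegenComposite

/-!
# The second edge map of a composite is an isomorphism in the degenerate case (helper10)

`Φ : A ⥤ B` additive, `Ψ : B ⥤ C` additive left exact, `X : A`.  If `Φ` sends the terms of the chosen
injective resolution of `X` to `Ψ`-acyclic objects and all `RᵖΦ X` are `Ψ`-acyclic, then the edge map
`RDer.edgeOut Φ Ψ q X : R^q(Φ ⋙ Ψ) X ⟶ Ψ (R^qΦ X)` is an isomorphism (`isIso_edgeOut`).

Abstract core: for a cochain complex `K` in `B` whose terms and cohomology objects are `Ψ`-acyclic,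
`RDer.homologyComparison Ψ K n : H^n(Ψ K) ⟶ Ψ (H^n K)` is an isomorphism
(`isIso_homologyComparison`).
-/

set_option autoImplicit false

open CategoryTheory CategoryTheory.Limits

universe v₁ v₂ v₃ u₁ u₂ u₃

namespace Groth.Agent.Lib.EdgeOutIso

open Groth.Agent.Lib.DegenComposite

section Comparison

variable {B : Type u₂} [Category.{v₂} B] [Abelian B] {C : Type u₃} [Category.{v₃} C] [Abelian C]
  (Ψ : B ⥤ C) [Ψ.Additive] [PreservesFiniteLimits Ψ]
  {ι' : Type*} {c : ComplexShape ι'} (K : HomologicalComplex B c) (i : ι')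

set_option backward.isDefEq.respectTransparency false in
instance isIso_cyclesComparison : IsIso (RDer.cyclesComparison Ψ K i) := by
  let hL := KernelFork.mapIsLimit _ (K.cyclesIsKernel i (c.next i) rfl) Ψ
  let hL' := ((Ψ.mapHomologicalComplex c).obj K).cyclesIsKernel i (c.next i) rfl
  exact (IsLimit.conePointUniqueUpToIso hL' hL).isIso_hom

set_option backward.isDefEq.respectTransparency false in
lemma toCycles_cyclesComparison' (j : ι') (hj : c.prev i = j) :
    ((Ψ.mapHomologicalComplex c).obj K).toCycles j i ≫ RDer.cyclesComparison Ψ K i =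
      Ψ.map (K.toCycles j i) := by
  subst hj
  exact RDer.toCycles_cyclesComparison Ψ K i

set_option backward.isDefEq.respectTransparency false in
/-- if `Ψ` preserves the cokernel `Z^i K ⟶ H^i K` of `K^j ⟶ Z^i K` then `H^i(Ψ K) ≅ Ψ(H^i K)` -/
lemma isIso_homologyComparison_of_isColimit (j : ι') (hj : c.prev i = j)
    (w : Ψ.map (K.toCycles j i) ≫ Ψ.map (K.homologyπ i) = 0)
    (h : IsColimit (CokernelCofork.ofπ (Ψ.map (K.homologyπ i)) w)) :
    IsIso (RDer.homologyComparison Ψ K i) := by
  have key : Ψ.map (K.toCycles j i) ≫ inv (RDer.cyclesComparison Ψ K i) =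
      ((Ψ.mapHomologicalComplex c).obj K).toCycles j i :=
    (IsIso.comp_inv_eq _).2 (toCycles_cyclesComparison' Ψ K i j hj).symm
  have w' : Ψ.map (K.toCycles j i) ≫ inv (RDer.cyclesComparison Ψ K i) ≫
      ((Ψ.mapHomologicalComplex c).obj K).homologyπ i = 0 := by
    rw [← Category.assoc, key]
    exact HomologicalComplex.toCycles_comp_homologyπ _ j i
  let b : Ψ.obj (K.homology i) ⟶ ((Ψ.mapHomologicalComplex c).obj K).homology i :=
    h.desc (CokernelCofork.ofπ _ w')
  have hb : Ψ.map (K.homologyπ i) ≫ b = inv (RDer.cyclesComparison Ψ K i) ≫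
      ((Ψ.mapHomologicalComplex c).obj K).homologyπ i := h.fac _ WalkingParallelPair.one
  refine ⟨b, ?_, ?_⟩
  · rw [← cancel_epi (((Ψ.mapHomologicalComplex c).obj K).homologyπ i),
      RDer.homologyπ_homologyComparison_assoc, hb, IsIso.hom_inv_id_assoc, Category.comp_id]
  · apply Cofork.IsColimit.hom_ext h
    change Ψ.map (K.homologyπ i) ≫ b ≫ RDer.homologyComparison Ψ K i =
      Ψ.map (K.homologyπ i) ≫ 𝟙 _
    rw [← Category.assoc, hb, Category.assoc, RDer.homologyπ_homologyComparison,
      IsIso.inv_hom_id_assoc, Category.comp_id]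

end Comparison

section Cochain

variable {B : Type u₂} [Category.{v₂} B] [Abelian B]
  {C : Type u₃} [Category.{v₃} C] [Abelian C]
  (Ψ : B ⥤ C) [Ψ.Additive] [PreservesFiniteLimits Ψ] (K : CochainComplex B ℕ)

lemma iCycles_toCycles (n : ℕ) : K.iCycles n ≫ K.toCycles n (n + 1) = 0 := by
  rw [← cancel_mono (K.iCycles (n + 1)), Category.assoc, HomologicalComplex.toCycles_i,
    HomologicalComplex.iCycles_d, zero_comp]

lemma exact₁ (n : ℕ) :
    (ShortComplex.mk (K.iCycles n) (K.toCycles n (n + 1)) (iCycles_toCycles K n)).Exact := by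
  apply ShortComplex.exact_of_f_is_kernel
  exact isKernelOfComp (K.iCycles (n + 1)) (K.d n (n + 1))
    (K.cyclesIsKernel n (n + 1) (by simp)) (iCycles_toCycles K n)
    (HomologicalComplex.toCycles_i K n (n + 1))

lemma exact₂ (n : ℕ) :
    (ShortComplex.mk (K.toCycles n (n + 1)) (K.homologyπ (n + 1))
      (K.toCycles_comp_homologyπ n (n + 1))).Exact := by
  apply ShortComplex.exact_of_g_is_cokernel
  exact K.homologyIsCokernel n (n + 1) (by simp)

variable {Ψ K} [HasInjectiveResolutions B]

lemma acyc_cycles (hX : ∀ n, Acyc Ψ (K.X n)) (hH : ∀ n, Acyc Ψ (K.homology n)) :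
    ∀ n, Acyc Ψ (K.cycles n)
  | 0 => acyc_of_iso K.isoHomologyπ₀.symm (hH 0)
  | n + 1 => by
    obtain ⟨_, _, _, h⟩ := fourTerm (Γ := Ψ) (K.iCycles n) (K.toCycles n (n + 1))
      (K.homologyπ (n + 1)) (iCycles_toCycles K n) (K.toCycles_comp_homologyπ n (n + 1))
      (exact₁ K n) (exact₂ K n) (acyc_cycles hX hH n) (hX n)
    exact h (hH (n + 1))

/-- **Key lemma**: a left exact functor commutes with the cohomology of a cochain complex whose
terms and cohomology objects are acyclic. -/
theorem isIso_homologyComparison (hX : ∀ n, Acyc Ψ (K.X n)) (hH : ∀ n, Acyc Ψ (K.homology n))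
    (n : ℕ) : IsIso (RDer.homologyComparison Ψ K n) := by
  cases n with
  | zero =>
    have h1 : IsIso (((Ψ.mapHomologicalComplex _).obj K).homologyπ 0) :=
      inferInstanceAs (IsIso (CochainComplex.isoHomologyπ₀ ((Ψ.mapHomologicalComplex _).obj K)).hom)
    have h2 : IsIso (K.homologyπ 0) := inferInstanceAs (IsIso K.isoHomologyπ₀.hom)
    have e : RDer.homologyComparison Ψ K 0 =
        inv (((Ψ.mapHomologicalComplex _).obj K).homologyπ 0) ≫ RDer.cyclesComparison Ψ K 0 ≫
          Ψ.map (K.homologyπ 0) := by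
      rw [← RDer.homologyπ_homologyComparison, IsIso.inv_hom_id_assoc]
    rw [e]
    infer_instance
  | succ n =>
    obtain ⟨w, hex, hepi, _⟩ := fourTerm (Γ := Ψ) (K.iCycles n) (K.toCycles n (n + 1))
      (K.homologyπ (n + 1)) (iCycles_toCycles K n) (K.toCycles_comp_homologyπ n (n + 1))
      (exact₁ K n) (exact₂ K n) (acyc_cycles hX hH n) (hX n)
    exact isIso_homologyComparison_of_isColimit Ψ K (n + 1) n (by simp) w hex.gIsCokernel

end Cochain

section Edge

variable {A : Type u₁} [Category.{v₁} A] [Abelian A] [HasInjectiveResolutions A]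
  {B : Type u₂} [Category.{v₂} B] [Abelian B] [HasInjectiveResolutions B]
  {C : Type u₃} [Category.{v₃} C] [Abelian C]
  (Φ : A ⥤ B) [Φ.Additive] (Ψ : B ⥤ C) [Ψ.Additive] [PreservesFiniteLimits Ψ]

/-- **The second edge map is an isomorphism** when `Φ` sends the terms of the chosen injective
resolution of `X` to `Ψ`-acyclic objects and all `RᵖΦ X` are `Ψ`-acyclic. -/
theorem isIso_edgeOut (X : A)
    (h1 : ∀ n, Acyc Ψ (Φ.obj ((injectiveResolution X).cocomplex.X n)))
    (h2 : ∀ p, Acyc Ψ ((Φ.rightDerived p).obj X)) (q : ℕ) :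
    IsIso (RDer.edgeOut Φ Ψ q X) := by
  have hH : ∀ n, Acyc Ψ
      (((Φ.mapHomologicalComplex _).obj (injectiveResolution X).cocomplex).homology n) :=
    fun n => acyc_of_iso ((injectiveResolution X).isoRightDerivedObj Φ n) (h2 n)
  have h3 : IsIso (RDer.homologyComparison Ψ
      ((Φ.mapHomologicalComplex _).obj (injectiveResolution X).cocomplex) q) :=
    isIso_homologyComparison (Ψ := Ψ)
      (K := (Φ.mapHomologicalComplex _).obj (injectiveResolution X).cocomplex) h1 hH q
  have h4 : IsIso (Ψ.map ((injectiveResolution X).isoRightDerivedObj Φ q).inv) := inferInstance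
  unfold RDer.edgeOut
  exact IsIso.comp_isIso' inferInstance (IsIso.comp_isIso' h3 h4)

/-- variant: `Φ` sends all injectives to `Ψ`-acyclic objects -/
theorem isIso_edgeOut' (X : A) (h1 : ∀ (I : A) [Injective I], Acyc Ψ (Φ.obj I))
    (h2 : ∀ p, Acyc Ψ ((Φ.rightDerived p).obj X)) (q : ℕ) :
    IsIso (RDer.edgeOut Φ Ψ q X) :=
  isIso_edgeOut Φ Ψ X (fun _ => h1 _) h2 q

end Edge

end Groth.Agent.Lib.EdgeOutIso
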