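import Groth.Agent.Lib.ExtCompare23

/-!
# Edge maps `Ext(Z_D, A) → Ext(Z_C, G)` along an exact functor and dimension shifting (helper23)

`L : D ⥤ C` exact additive, `o : Z_C ⟶ L Z_D`.  For `ε : L A ⟶ G`, `edge L o ε n` applies `L`,
precomposes with `o` and postcomposes with `ε`.  It is compatible with connecting maps of a
morphism of short exact sequences `L S_D ⟶ S_C`; step lemma for dimension shifting.
-/

set_option autoImplicit false
universe w w' v v' u u'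

namespace Groth.Agent.Lib.EdgeShift23

open CategoryTheory Limits Abelian Groth.Agent.Lib.ExtCompare23

variable {C : Type u} [Category.{v} C] [Abelian C]
variable {D : Type u'} [Category.{v'} D] [Abelian D]
variable (L : D ⥤ C) [L.Additive] [PreservesFiniteLimits L] [PreservesFiniteColimits L]
variable [HasExt.{w} C] [HasExt.{w'} D]
variable {ZD : D} {ZC : C} (o : ZC ⟶ L.obj ZD)

/-- The edge map. -/
noncomputable def edge {A : D} {G : C} (ε : L.obj A ⟶ G) (n : ℕ) :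
    Ext.{w'} ZD A n →+ Ext.{w} ZC G n :=
  ((Ext.mk₀ ε).postcomp ZC (add_zero n)).comp (theta L o A n)

lemma edge_apply {A : D} {G : C} (ε : L.obj A ⟶ G) (n : ℕ) (x : Ext.{w'} ZD A n) :
    edge L o ε n x = (theta L o A n x).comp (Ext.mk₀ ε) (add_zero n) := rfl

lemma edge_comp_mk₀ {A A' : D} {G G' : C} (ε : L.obj A ⟶ G) (ε' : L.obj A' ⟶ G')
    (a : A ⟶ A') (g : G ⟶ G') (h : ε ≫ g = L.map a ≫ ε') (n : ℕ) (x : Ext.{w'} ZD A n) :
    edge L o ε' n (x.comp (Ext.mk₀ a) (add_zero n)) =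
      (edge L o ε n x).comp (Ext.mk₀ g) (add_zero n) := by
  rw [edge_apply, edge_apply, theta_comp_mk₀, Ext.comp_assoc_of_third_deg_zero,
    Ext.comp_assoc_of_third_deg_zero, Ext.mk₀_comp_mk₀, Ext.mk₀_comp_mk₀, h]

lemma edge_comp_extClass {SD : ShortComplex D} (hSD : SD.ShortExact) {SC : ShortComplex C}
    (hSC : SC.ShortExact) (ε₁ : L.obj SD.X₁ ⟶ SC.X₁) (ε₂ : L.obj SD.X₂ ⟶ SC.X₂)
    (ε₃ : L.obj SD.X₃ ⟶ SC.X₃) (h₁₂ : ε₁ ≫ SC.f = L.map SD.f ≫ ε₂)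
    (h₂₃ : ε₂ ≫ SC.g = L.map SD.g ≫ ε₃) (n : ℕ) (x : Ext.{w'} ZD SD.X₃ n) :
    edge L o ε₁ (n + 1) (x.comp hSD.extClass rfl) =
      (edge L o ε₃ n x).comp hSC.extClass rfl := by
  let φ : SD.map L ⟶ SC := ⟨ε₁, ε₂, ε₃, h₁₂, h₂₃⟩
  have hnat := ShortComplex.ShortExact.extClass_naturality (hSD.map_of_exact L) hSC φ
  rw [edge_apply, edge_apply, theta_comp_extClass]
  refine (Ext.comp_assoc (theta L o SD.X₃ n x) (hSD.map_of_exact L).extClass (Ext.mk₀ ε₁) rfl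
    (add_zero 1) (by omega)).trans ?_
  refine Eq.trans (congrArg (fun t => (theta L o SD.X₃ n x).comp t rfl) hnat) ?_
  exact (Ext.comp_assoc (theta L o SD.X₃ n x) (Ext.mk₀ ε₃) hSC.extClass (add_zero n) (zero_add 1)
    (by omega)).symm

/-- Dimension shifting step. -/
theorem edge_succ_bijective {SD : ShortComplex D} (hSD : SD.ShortExact) {SC : ShortComplex C}
    (hSC : SC.ShortExact) (ε₁ : L.obj SD.X₁ ⟶ SC.X₁) (ε₂ : L.obj SD.X₂ ⟶ SC.X₂)
    (ε₃ : L.obj SD.X₃ ⟶ SC.X₃) (h₁₂ : ε₁ ≫ SC.f = L.map SD.f ≫ ε₂)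
    (h₂₃ : ε₂ ≫ SC.g = L.map SD.g ≫ ε₃) (n : ℕ)
    (hD : Subsingleton (Ext.{w'} ZD SD.X₂ (n + 1))) (hC : Subsingleton (Ext.{w} ZC SC.X₂ (n + 1)))
    (h₃ : Function.Bijective (edge L o ε₃ n)) (h₂ : Function.Surjective (edge L o ε₂ n)) :
    Function.Bijective (edge L o ε₁ (n + 1)) := by
  exact AddMonoidHom.bijective_of_surjective_of_bijective_of_right_exact _ _ _ _
    (edge L o ε₂ n) (edge L o ε₃ n) (edge L o ε₁ (n + 1))
    (by ext x; exact (edge_comp_mk₀ L o ε₂ ε₃ SD.g SC.g h₂₃ n x).symm)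
    (by ext x; exact (edge_comp_extClass L o hSD hSC ε₁ ε₂ ε₃ h₁₂ h₂₃ n x).symm)
    ((ShortComplex.ab_exact_iff_function_exact _).mp
      (Ext.covariant_sequence_exact₃' ZD hSD n (n + 1) rfl))
    ((ShortComplex.ab_exact_iff_function_exact _).mp
      (Ext.covariant_sequence_exact₃' ZC hSC n (n + 1) rfl))
    h₂ h₃
    (fun x₁ ↦ Ext.covariant_sequence_exact₁ _ hSD x₁ (Subsingleton.elim _ _) rfl)
    (fun y₁ ↦ Ext.covariant_sequence_exact₁ _ hSC y₁ (Subsingleton.elim _ _) rfl)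

end Groth.Agent.Lib.EdgeShift23
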