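import Groth.Agent.Lib.EffCartier96
import Mathlib.AlgebraicGeometry.Morphisms.QuasiCompact

/-!
# Effective Cartier ideal sheaves, part 3 (helper68; continues helper96's Lib/EffCartier96)

* `interior_inf_eq_basicOpen`: on an affine open `W` with `I.ideal W = (a)`, `interior I ⊓ W = D(a)`.
* `quasiCompact_interior_ι`, `quasiCompact_preimage_interior_ι`: the inclusion of (the preimage of) the complement of an
  effective Cartier divisor is quasi-compact.
* `res_injective`: if `f ⁻¹ᵁ interior I` is scheme-theoretically dense then restriction of functions to it is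
  injective over every open.
* `isEffCartierIdeal_comap_of_dominant`: then `I.comap f` is effective Cartier.
* `isSchemeTheoreticallyDominant_homOfLE`: and `f ⁻¹ᵁ interior I ⊓ W` is scheme-theoretically dense in every open `W`.
-/

set_option autoImplicit false
universe u

open CategoryTheory CategoryTheory.Limits AlgebraicGeometry Opposite TopologicalSpace

namespace Groth.Agent.Lib.EffCartier68

variable {X Y : Scheme.{u}}

/-- On an affine open where the ideal is principal, the interior is the basic open of the generator. -/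
theorem interior_inf_eq_basicOpen (I : X.IdealSheafData) (W : X.affineOpens) (a : Γ(X, W.1))
    (h : I.ideal W = Ideal.span {a}) : ModPair.interior I ⊓ W.1 = X.basicOpen a := by
  ext z
  constructor
  · rintro ⟨hzI, hzW⟩
    by_contra hza
    apply hzI
    refine (Scheme.IdealSheafData.mem_support_iff_of_mem (I := I) (U := W) hzW).mpr ?_
    rw [h, Scheme.mem_zeroLocus_iff]
    intro b hb
    obtain ⟨c, rfl⟩ := Ideal.mem_span_singleton'.mp hb
    rw [Scheme.basicOpen_mul]
    exact fun h => hza h.2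
  · intro hz
    have hzW : z ∈ W.1 := X.basicOpen_le a hz
    refine ⟨?_, hzW⟩
    intro hzs
    have := (Scheme.IdealSheafData.mem_support_iff_of_mem (I := I) (U := W) hzW).mp hzs
    rw [h, Scheme.mem_zeroLocus_iff] at this
    exact this a (Ideal.subset_span rfl) hz

/-- The inclusion of the complement of an effective Cartier divisor is quasi-compact. -/
theorem quasiCompact_interior_ι (I : X.IdealSheafData) (hI : BlowUp.IsEffCartierIdeal I) :
    QuasiCompact (ModPair.interior I).ι := by
  apply IsZariskiLocalAtTarget.of_forall_exists_morphismRestrict (P := @QuasiCompact)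
  intro x
  obtain ⟨W, hxW, a, ha, hIa⟩ := hI x
  refine ⟨W.1, hxW, ?_⟩
  have : IsAffine W.1 := W.2
  rw [HasAffineProperty.iff_of_isAffine (P := @QuasiCompact)]
  refine (isCompact_iff_compactSpace
    (s := SetLike.coe ((ModPair.interior I).ι ⁻¹ᵁ W.1))).mp ?_
  rw [(ModPair.interior I).ι.isOpenEmbedding.isEmbedding.isCompact_iff]
  have h1 : (ModPair.interior I).ι ''ᵁ ((ModPair.interior I).ι ⁻¹ᵁ W.1) = X.basicOpen a := by
    rw [Scheme.Hom.image_preimage_eq_opensRange_inf, Scheme.Opens.opensRange_ι]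
    exact interior_inf_eq_basicOpen I W a hIa
  have h2 : IsCompact (X.basicOpen a : Set X) := (W.2.basicOpen a).isCompact
  rw [← h1] at h2
  exact h2

/-- The inclusion of the preimage of the complement of an effective Cartier divisor is quasi-compact. -/
theorem quasiCompact_preimage_interior_ι (I : X.IdealSheafData) (hI : BlowUp.IsEffCartierIdeal I)
    (f : Y ⟶ X) : QuasiCompact (f ⁻¹ᵁ ModPair.interior I).ι :=
  MorphismProperty.of_isPullback (isPullback_morphismRestrict f (ModPair.interior I))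
    (quasiCompact_interior_ι I hI)

/-- If the preimage of the complement of an effective Cartier divisor is scheme-theoretically dense,
then restriction of functions to it is injective, over every open. -/
theorem res_injective (I : X.IdealSheafData) (hI : BlowUp.IsEffCartierIdeal I) (f : Y ⟶ X)
    [IsSchemeTheoreticallyDominant (f ⁻¹ᵁ ModPair.interior I).ι] (O : Y.Opens) :
    Function.Injective
      (Y.presheaf.map (homOfLE (inf_le_right : f ⁻¹ᵁ ModPair.interior I ⊓ O ≤ O)).op) := by
  have hqc := quasiCompact_preimage_interior_ι I hI f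
  have hinj := Scheme.Hom.app_injective (f ⁻¹ᵁ ModPair.interior I).ι O
  rw [injective_iff_map_eq_zero] at hinj ⊢
  intro s hs
  apply hinj
  have hle : (f ⁻¹ᵁ ModPair.interior I).ι ''ᵁ ((f ⁻¹ᵁ ModPair.interior I).ι ⁻¹ᵁ O) ≤
      f ⁻¹ᵁ ModPair.interior I ⊓ O := by
    rw [Scheme.Hom.image_preimage_eq_opensRange_inf, Scheme.Opens.opensRange_ι]
  have hle' : (f ⁻¹ᵁ ModPair.interior I).ι ''ᵁ ((f ⁻¹ᵁ ModPair.interior I).ι ⁻¹ᵁ O) ≤ O :=
    hle.trans inf_le_right
  change Y.presheaf.map (homOfLE hle').op s = 0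
  have : Y.presheaf.map (homOfLE hle').op =
      Y.presheaf.map (homOfLE (inf_le_right : f ⁻¹ᵁ ModPair.interior I ⊓ O ≤ O)).op ≫
        Y.presheaf.map (homOfLE hle).op := by
    rw [← Functor.map_comp]; rfl
  rw [this, CommRingCat.comp_apply, hs, map_zero]

/-- If the preimage of the complement of an effective Cartier divisor `I` under `f` is scheme-theoretically
dense, then `I.comap f` is effective Cartier. -/
theorem isEffCartierIdeal_comap_of_dominant (I : X.IdealSheafData) (hI : BlowUp.IsEffCartierIdeal I)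
    (f : Y ⟶ X) [IsSchemeTheoreticallyDominant (f ⁻¹ᵁ ModPair.interior I).ι] :
    BlowUp.IsEffCartierIdeal (I.comap f) := by
  intro y
  obtain ⟨V, hyV, a, ha, hIa⟩ := hI (f y)
  obtain ⟨_, ⟨W, hW, rfl⟩, hyW, hWle⟩ :=
    Y.isBasis_affineOpens.exists_subset_of_mem_open (show y ∈ f ⁻¹ᵁ V.1 from hyV) (f ⁻¹ᵁ V.1).2
  have hcomap : (I.comap f).ideal ⟨W, hW⟩ = Ideal.span {(f.appLE V.1 W hWle).hom a} := by
    rw [Groth.Agent.Lib.IdealComap.ideal_comap I f V.1 V.2 W hW hWle]
    change Ideal.map _ (I.ideal V) = _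
    rw [hIa, Ideal.map_span, Set.image_singleton]
  refine ⟨⟨W, hW⟩, hyW, _, ?_, hcomap⟩
  rw [mem_nonZeroDivisors_iff_right]
  intro b hb
  apply res_injective I hI f W
  rw [map_zero]
  set φa := (f.appLE V.1 W hWle).hom a with hφa
  have hD : f ⁻¹ᵁ ModPair.interior I ⊓ W ≤ Y.basicOpen φa := by
    rw [hφa, Scheme.basicOpen_appLE]
    rintro z ⟨hz1, hz2⟩
    refine ⟨hz2, ?_⟩
    have : f z ∈ ModPair.interior I ⊓ V.1 := ⟨hz1, hWle hz2⟩
    rwa [interior_inf_eq_basicOpen I V a hIa] at this
  have hunit : IsUnit (Y.presheaf.map (homOfLE (Y.basicOpen_le φa)).op φa) :=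
    RingedSpace.isUnit_res_basicOpen _ φa
  have h0 : Y.presheaf.map (homOfLE (Y.basicOpen_le φa)).op b = 0 := by
    have := congrArg (Y.presheaf.map (homOfLE (Y.basicOpen_le φa)).op).hom hb
    rw [map_mul, map_zero] at this
    exact hunit.mul_left_eq_zero.mp this
  have : Y.presheaf.map (homOfLE (inf_le_right : f ⁻¹ᵁ ModPair.interior I ⊓ W ≤ W)).op =
      Y.presheaf.map (homOfLE (Y.basicOpen_le φa)).op ≫ Y.presheaf.map (homOfLE hD).op := by
    rw [← Functor.map_comp]; rfl
  rw [this, CommRingCat.comp_apply, h0, map_zero]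

/-- If the preimage `U'` of the complement of an effective Cartier divisor under `f` is scheme-theoretically dense
(as the open immersion `U' ⟶ Y`), then `U' ∩ W` is scheme-theoretically dense in `W` for every open `W`. -/
theorem isSchemeTheoreticallyDominant_homOfLE (I : X.IdealSheafData) (hI : BlowUp.IsEffCartierIdeal I)
    (f : Y ⟶ X) [IsSchemeTheoreticallyDominant (f ⁻¹ᵁ ModPair.interior I).ι] (W : Y.Opens) :
    IsSchemeTheoreticallyDominant
      (Y.homOfLE (inf_le_right : f ⁻¹ᵁ ModPair.interior I ⊓ W ≤ W)) := by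
  apply Groth.Agent.Lib.EffCartier96.isSchemeTheoreticallyDominant_of_app_injective
  intro T
  rw [Scheme.homOfLE_app]
  change Function.Injective (Y.presheaf.map (homOfLE (Y.ι_image_homOfLE_le_ι_image
        (inf_le_right : f ⁻¹ᵁ ModPair.interior I ⊓ W ≤ W) T.1)).op)
  rw [injective_iff_map_eq_zero]
  intro s hs
  apply res_injective I hI f (W.ι ''ᵁ T.1)
  rw [map_zero]
  have hle : f ⁻¹ᵁ ModPair.interior I ⊓ W.ι ''ᵁ T.1 ≤
      (f ⁻¹ᵁ ModPair.interior I ⊓ W).ι ''ᵁ
        (Y.homOfLE (inf_le_right : f ⁻¹ᵁ ModPair.interior I ⊓ W ≤ W) ⁻¹ᵁ T.1) := by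
    rw [Scheme.ι_image_homOfLE_eq_ι_image_inf]
    intro z hz
    refine ⟨hz.2, hz.1, ?_⟩
    obtain ⟨t, -, rfl⟩ := hz.2
    exact t.2
  have : Y.presheaf.map (homOfLE (inf_le_right :
      f ⁻¹ᵁ ModPair.interior I ⊓ W.ι ''ᵁ T.1 ≤ W.ι ''ᵁ T.1)).op =
      Y.presheaf.map (homOfLE (Y.ι_image_homOfLE_le_ι_image
        (inf_le_right : f ⁻¹ᵁ ModPair.interior I ⊓ W ≤ W) T.1)).op ≫
        Y.presheaf.map (homOfLE hle).op := by
    rw [← Functor.map_comp]; rfl
  rw [this, CommRingCat.comp_apply, hs, map_zero]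

end Groth.Agent.Lib.EffCartier68
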