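import Groth.Agent.Lib.EffDescBasicH52
import Groth.Agent.Lib.DescentAlgH52

/-!
# Effective descent for affine schemes (helper52)

* `act D : X ×_S V ⟶ V`: the action morphism of a descent datum `D = (V, φ)` relative to
  `p : X ⟶ S`, `(x', v) ↦ φ_{π v, x'}(v)`; `φ_eq_lift_act`, `lift_act_self`, `act_assoc`.
* `exists_iso_of_isAffine`: if `X`, `S` and `V` are affine and `p` is flat, then `D` is effective
  (faithfully flat descent for algebras in coaction form, `Lib/DescentAlgH52` on top of helper69's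
  `Lib/H69DescentAlg`).
-/

set_option autoImplicit false
set_option linter.style.haveILetI false
set_option backward.isDefEq.respectTransparency false
set_option backward.isDefEq.respectTransparency.types false

universe u

open CategoryTheory CategoryTheory.Limits AlgebraicGeometry Opposite

namespace Groth.Agent.Lib.EffDescH52

open Desc

variable {X S : Scheme.{u}} {p : X ⟶ S} (D : SchDD p)

/-- The action morphism `X ×_S V ⟶ V`. -/
noncomputable def act : pullback p (D.obj.hom ≫ p) ⟶ D.obj.left :=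
  (D.φ (pullback.snd p (D.obj.hom ≫ p) ≫ D.obj.hom) (pullback.fst p (D.obj.hom ≫ p))
    (by rw [Category.assoc]; exact pullback.condition.symm) ⟨pullback.snd _ _, rfl⟩).1

theorem act_hom : act D ≫ D.obj.hom = pullback.fst p (D.obj.hom ≫ p) :=
  (D.φ (pullback.snd p (D.obj.hom ≫ p) ≫ D.obj.hom) (pullback.fst p (D.obj.hom ≫ p))
    (by rw [Category.assoc]; exact pullback.condition.symm) ⟨pullback.snd _ _, rfl⟩).2

theorem lift_cond {T : Scheme.{u}} (x₀ x₁ : T ⟶ X) (h : x₀ ≫ p = x₁ ≫ p) (v : Lifts D.obj x₀) :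
    x₁ ≫ p = v.1 ≫ D.obj.hom ≫ p := by
  have e : v.1 ≫ D.obj.hom = x₀ := v.2
  rw [← h, ← Category.assoc, e]

/-- The gluing bijections in terms of the action. -/
theorem φ_eq_lift_act {T : Scheme.{u}} (x₀ x₁ : T ⟶ X) (h : x₀ ≫ p = x₁ ≫ p) (v : Lifts D.obj x₀) :
    (D.φ x₀ x₁ h v).1 = pullback.lift x₁ v.1 (lift_cond D x₀ x₁ h v) ≫ act D := by
  have e : v.1 ≫ D.obj.hom = x₀ := v.2
  let g : T ⟶ pullback p (D.obj.hom ≫ p) := pullback.lift x₁ v.1 (lift_cond D x₀ x₁ h v)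
  have hg1 : g ≫ pullback.fst p (D.obj.hom ≫ p) = x₁ := pullback.lift_fst _ _ _
  have hg2 : g ≫ pullback.snd p (D.obj.hom ≫ p) = v.1 := pullback.lift_snd _ _ _
  have key := φ_natural' D g (pullback.snd p (D.obj.hom ≫ p) ≫ D.obj.hom)
    (pullback.fst p (D.obj.hom ≫ p)) (by rw [Category.assoc]; exact pullback.condition.symm)
    (by rw [hg1, ← Category.assoc g, hg2, e, h]) ⟨pullback.snd _ _, rfl⟩
  refine Eq.trans ?_ key
  apply φ_congr D (by rw [← Category.assoc, hg2, e]) hg1.symm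
  exact hg2.symm

theorem lift_act_self :
    pullback.lift D.obj.hom (𝟙 D.obj.left) (by simp) ≫ act D = 𝟙 D.obj.left := by
  have h1 := φ_eq_lift_act D D.obj.hom D.obj.hom rfl ⟨𝟙 _, Category.id_comp _⟩
  rw [D.φ_self] at h1
  exact h1.symm

theorem act_assoc {T : Scheme.{u}} (x'' x' : T ⟶ X) (v : T ⟶ D.obj.left)
    (h' : x' ≫ p = v ≫ D.obj.hom ≫ p) (h'' : x'' ≫ p = v ≫ D.obj.hom ≫ p) :
    pullback.lift x'' (pullback.lift x' v h' ≫ act D) (by
      rw [Category.assoc, ← Category.assoc (act D), act_hom, ← Category.assoc, pullback.lift_fst,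
        h'', h']) ≫ act D = pullback.lift x'' v h'' ≫ act D := by
  have h0 : (v ≫ D.obj.hom) ≫ p = x' ≫ p := by rw [h', Category.assoc]
  have h1 : x' ≫ p = x'' ≫ p := by rw [h', h'']
  have e1 := φ_eq_lift_act D (v ≫ D.obj.hom) x' h0 ⟨v, rfl⟩
  have e2 := φ_eq_lift_act D x' x'' h1 (D.φ (v ≫ D.obj.hom) x' h0 ⟨v, rfl⟩)
  have e3 := φ_eq_lift_act D (v ≫ D.obj.hom) x'' (h0.trans h1) ⟨v, rfl⟩
  rw [D.φ_comp] at e2
  rw [e3] at e2
  refine Eq.trans ?_ e2.symm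
  congr 1
  apply pullback.hom_ext
  · simp
  · simp only [pullback.lift_snd]
    exact e1.symm

theorem act_assoc' {T : Scheme.{u}} (x'' : T ⟶ X) (w : T ⟶ pullback p (D.obj.hom ≫ p))
    (h₁ : x'' ≫ p = (w ≫ act D) ≫ D.obj.hom ≫ p)
    (h₂ : x'' ≫ p = (w ≫ pullback.snd p (D.obj.hom ≫ p)) ≫ D.obj.hom ≫ p) :
    pullback.lift x'' (w ≫ act D) h₁ ≫ act D =
      pullback.lift x'' (w ≫ pullback.snd p (D.obj.hom ≫ p)) h₂ ≫ act D := by
  have hc : (w ≫ pullback.fst p (D.obj.hom ≫ p)) ≫ p =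
      (w ≫ pullback.snd p (D.obj.hom ≫ p)) ≫ D.obj.hom ≫ p := by
    rw [Category.assoc, pullback.condition, Category.assoc]
  have hw : w = pullback.lift (w ≫ pullback.fst p (D.obj.hom ≫ p))
      (w ≫ pullback.snd p (D.obj.hom ≫ p)) hc := by
    apply pullback.hom_ext
    · exact (pullback.lift_fst _ _ _).symm
    · exact (pullback.lift_snd _ _ _).symm
  refine Eq.trans ?_ (act_assoc D x'' (w ≫ pullback.fst p (D.obj.hom ≫ p))
    (w ≫ pullback.snd p (D.obj.hom ≫ p)) hc h₂)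
  congr 1
  apply pullback.hom_ext
  · exact (pullback.lift_fst _ _ _).trans (pullback.lift_fst _ _ _).symm
  · refine (pullback.lift_snd _ _ _).trans (Eq.trans ?_ (pullback.lift_snd _ _ _).symm)
    exact congrArg (· ≫ act D) hw

section Affine

theorem appTop_comp_apply {Y Z W : Scheme.{u}} (f : Y ⟶ Z) (g : Z ⟶ W) (x : Γ(W, ⊤)) :
    (f ≫ g).appTop.hom x = f.appTop.hom (g.appTop.hom x) := by
  rw [Scheme.Hom.comp_appTop]; rfl

theorem appTop_apply_of_eq {Y Z W : Scheme.{u}} {f : Y ⟶ Z} {g : Z ⟶ W} {k : Y ⟶ W}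
    (h : f ≫ g = k) (x : Γ(W, ⊤)) : f.appTop.hom (g.appTop.hom x) = k.appTop.hom x := by
  rw [← h, appTop_comp_apply]

theorem appTop_apply_of_eq_id {Y Z : Scheme.{u}} {f : Y ⟶ Z} {g : Z ⟶ Y}
    (h : f ≫ g = 𝟙 Y) (x : Γ(Y, ⊤)) : f.appTop.hom (g.appTop.hom x) = x := by
  rw [appTop_apply_of_eq h]
  simp

variable [IsAffine X] [IsAffine S] [IsAffine D.obj.left] [Flat p]

/-- **Effective descent for affine schemes along a flat morphism of affine schemes.** -/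
theorem exists_iso_of_isAffine : ∃ U : Over S, Nonempty ((toDD p).obj U ≅ D) := by
  classical
  let V := D.obj.left
  let π : V ⟶ X := D.obj.hom
  let P := pullback p (π ≫ p)
  let fstP : P ⟶ X := pullback.fst p (π ≫ p)
  let sndP : P ⟶ V := pullback.snd p (π ≫ p)
  let Q := pullback p (fstP ≫ p)
  let fstQ : Q ⟶ X := pullback.fst p (fstP ≫ p)
  let sndQ : Q ⟶ P := pullback.snd p (fstP ≫ p)
  have hcP : fstP ≫ p = sndP ≫ π ≫ p := pullback.condition
  have hcQ : fstQ ≫ p = sndQ ≫ fstP ≫ p := pullback.condition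
  have hact : act D ≫ π = fstP := act_hom D
  let σ : V ⟶ P := pullback.lift π (𝟙 V) (by simp)
  have hσ1 : σ ≫ fstP = π := pullback.lift_fst _ _ _
  have hσ2 : σ ≫ sndP = 𝟙 V := pullback.lift_snd _ _ _
  have hσ3 : σ ≫ act D = 𝟙 V := lift_act_self D
  have hm₁c : fstQ ≫ p = (sndQ ≫ act D) ≫ π ≫ p := by
    rw [Category.assoc, ← Category.assoc (act D), hact, hcQ]
  have hm₂c : fstQ ≫ p = (sndQ ≫ sndP) ≫ π ≫ p := by
    rw [Category.assoc, ← hcP, hcQ]
  let m₁ : Q ⟶ P := pullback.lift fstQ (sndQ ≫ act D) hm₁c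
  let m₂ : Q ⟶ P := pullback.lift fstQ (sndQ ≫ sndP) hm₂c
  have hm₁a : m₁ ≫ fstP = fstQ := pullback.lift_fst _ _ _
  have hm₁b : m₁ ≫ sndP = sndQ ≫ act D := pullback.lift_snd _ _ _
  have hm₂a : m₂ ≫ fstP = fstQ := pullback.lift_fst _ _ _
  have hm₂b : m₂ ≫ sndP = sndQ ≫ sndP := pullback.lift_snd _ _ _
  have hco : m₁ ≫ act D = m₂ ≫ act D := act_assoc' D fstQ sndQ hm₁c hm₂c
  haveI : IsAffine P := inferInstance
  haveI : IsAffine Q := inferInstance
  -- algebra structures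
  letI iSX : Algebra Γ(S, ⊤) Γ(X, ⊤) := p.appTop.hom.toAlgebra
  letI iXV : Algebra Γ(X, ⊤) Γ(V, ⊤) := π.appTop.hom.toAlgebra
  letI iSV : Algebra Γ(S, ⊤) Γ(V, ⊤) := (π ≫ p).appTop.hom.toAlgebra
  letI iXP : Algebra Γ(X, ⊤) Γ(P, ⊤) := fstP.appTop.hom.toAlgebra
  letI iVP : Algebra Γ(V, ⊤) Γ(P, ⊤) := sndP.appTop.hom.toAlgebra
  letI iSP : Algebra Γ(S, ⊤) Γ(P, ⊤) := (fstP ≫ p).appTop.hom.toAlgebra
  letI iXQ : Algebra Γ(X, ⊤) Γ(Q, ⊤) := fstQ.appTop.hom.toAlgebra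
  letI iPQ : Algebra Γ(P, ⊤) Γ(Q, ⊤) := sndQ.appTop.hom.toAlgebra
  letI iSQ : Algebra Γ(S, ⊤) Γ(Q, ⊤) := (fstQ ≫ p).appTop.hom.toAlgebra
  haveI t1 : IsScalarTower Γ(S, ⊤) Γ(X, ⊤) Γ(V, ⊤) := .of_algebraMap_eq fun x => by
    change (π ≫ p).appTop.hom x = π.appTop.hom (p.appTop.hom x)
    exact appTop_comp_apply _ _ _
  haveI t2 : IsScalarTower Γ(S, ⊤) Γ(X, ⊤) Γ(P, ⊤) := .of_algebraMap_eq fun x => by
    change (fstP ≫ p).appTop.hom x = fstP.appTop.hom (p.appTop.hom x)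
    exact appTop_comp_apply _ _ _
  haveI t3 : IsScalarTower Γ(S, ⊤) Γ(V, ⊤) Γ(P, ⊤) := .of_algebraMap_eq fun x => by
    change (fstP ≫ p).appTop.hom x = sndP.appTop.hom ((π ≫ p).appTop.hom x)
    rw [← appTop_comp_apply, hcP]
  haveI t4 : IsScalarTower Γ(S, ⊤) Γ(X, ⊤) Γ(Q, ⊤) := .of_algebraMap_eq fun x => by
    change (fstQ ≫ p).appTop.hom x = fstQ.appTop.hom (p.appTop.hom x)
    exact appTop_comp_apply _ _ _
  haveI t5 : IsScalarTower Γ(S, ⊤) Γ(P, ⊤) Γ(Q, ⊤) := .of_algebraMap_eq fun x => by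
    change (fstQ ≫ p).appTop.hom x = sndQ.appTop.hom ((fstP ≫ p).appTop.hom x)
    rw [← appTop_comp_apply, hcQ]
  haveI hflat : Module.Flat Γ(S, ⊤) Γ(X, ⊤) := p.flat_appTop
  haveI hC : Algebra.IsPushout Γ(S, ⊤) Γ(X, ⊤) Γ(V, ⊤) Γ(P, ⊤) :=
    Groth.Agent.Lib.DescentAlgH52.algebra_isPushout_of_isPushout
      (isPushout_appTop_of_isPullback (IsPullback.of_hasPullback p (π ≫ p))) rfl rfl rfl rfl
  haveI hQ : Algebra.IsPushout Γ(S, ⊤) Γ(X, ⊤) Γ(P, ⊤) Γ(Q, ⊤) :=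
    Groth.Agent.Lib.DescentAlgH52.algebra_isPushout_of_isPushout
      (isPushout_appTop_of_isPullback (IsPullback.of_hasPullback p (fstP ≫ p))) rfl rfl rfl rfl
  -- the descended algebra
  have hrA : ∀ x : Γ(S, ⊤), (act D).appTop.hom (algebraMap Γ(S, ⊤) Γ(V, ⊤) x) =
      algebraMap Γ(S, ⊤) Γ(P, ⊤) x := fun x => by
    change (act D).appTop.hom ((π ≫ p).appTop.hom x) = (fstP ≫ p).appTop.hom x
    rw [← appTop_comp_apply, ← Category.assoc, hact]
  let B := Groth.Agent.Lib.DescentAlgH52.invariants (A := Γ(S, ⊤)) (act D).appTop.hom hrA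
  have hpush : Algebra.IsPushout Γ(S, ⊤) Γ(X, ⊤) B Γ(V, ⊤) :=
    Groth.Agent.Lib.DescentAlgH52.isPushout_invariants (A := Γ(S, ⊤)) (A' := Γ(X, ⊤))
      (B' := Γ(V, ⊤)) (C := Γ(P, ⊤)) (Q := Γ(Q, ⊤)) (act D).appTop.hom σ.appTop.hom
      m₁.appTop.hom m₂.appTop.hom
      (fun x => appTop_apply_of_eq hact x)
      (fun x => appTop_apply_of_eq hσ1 x)
      (fun b => appTop_apply_of_eq_id hσ2 b)
      (fun b => appTop_apply_of_eq_id hσ3 b)
      (fun x => appTop_apply_of_eq hm₁a x)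
      (fun b => by
        change m₁.appTop.hom (sndP.appTop.hom b) = sndQ.appTop.hom ((act D).appTop.hom b)
        rw [appTop_apply_of_eq hm₁b b, appTop_comp_apply])
      (fun x => appTop_apply_of_eq hm₂a x)
      (fun b => by
        change m₂.appTop.hom (sndP.appTop.hom b) = sndQ.appTop.hom (sndP.appTop.hom b)
        rw [appTop_apply_of_eq hm₂b b, appTop_comp_apply])
      (fun b => by
        rw [← appTop_comp_apply, ← appTop_comp_apply, hco])
      hrA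
  -- back to geometry
  let Bc : CommRingCat.{u} := CommRingCat.of B
  let β : Bc ⟶ Γ(V, ⊤) := CommRingCat.ofHom B.val.toRingHom
  let α : Γ(S, ⊤) ⟶ Bc := CommRingCat.ofHom (algebraMap Γ(S, ⊤) B)
  have hpo : IsPushout p.appTop α π.appTop β :=
    Groth.Agent.Lib.DescentAlgH52.isPushout_of_algebra_isPushout (R := Γ(S, ⊤)) (A := Γ(X, ⊤))
      (B := Bc) (C := Γ(V, ⊤)) (H := hpush) rfl rfl rfl rfl
  have hpb : IsPullback (Spec.map π.appTop) (Spec.map β) (Spec.map p.appTop) (Spec.map α) :=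
    isPullback_SpecMap_of_isPushout p.appTop α π.appTop β hpo
  let u : V ⟶ Spec Bc := V.isoSpec.hom ≫ Spec.map β
  let t : Spec Bc ⟶ S := Spec.map α ≫ S.isoSpec.inv
  have sq : IsPullback π u p t := by
    refine IsPullback.of_iso hpb V.isoSpec.symm X.isoSpec.symm (Iso.refl _) S.isoSpec.symm
      ?_ ?_ ?_ ?_
    · exact Scheme.isoSpec_inv_naturality π
    · change Spec.map β ≫ 𝟙 _ = V.isoSpec.inv ≫ V.isoSpec.hom ≫ Spec.map β
      rw [Category.comp_id, Iso.inv_hom_id_assoc]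
    · exact Scheme.isoSpec_inv_naturality p
    · change Spec.map α ≫ S.isoSpec.inv = 𝟙 _ ≫ t
      rw [Category.id_comp]
  have hβ : β ≫ (act D).appTop = β ≫ sndP.appTop := by
    ext b
    exact b.2
  have hinv : act D ≫ u = sndP ≫ u := by
    change act D ≫ V.isoSpec.hom ≫ Spec.map β = sndP ≫ V.isoSpec.hom ≫ Spec.map β
    rw [← Scheme.isoSpec_hom_naturality_assoc, ← Scheme.isoSpec_hom_naturality_assoc,
      ← Spec.map_comp, ← Spec.map_comp, hβ]
  have heq : ∀ (T : Scheme.{u}) (x₀ x₁ : T ⟶ X) (h : x₀ ≫ p = x₁ ≫ p) (v : Lifts D.obj x₀),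
      (D.φ x₀ x₁ h v).1 ≫ u = v.1 ≫ u := by
    intro T x₀ x₁ h v
    rw [φ_eq_lift_act, Category.assoc, hinv, ← Category.assoc]
    congr 1
    exact pullback.lift_snd _ _ _
  exact ⟨Over.mk t, (IsQuot.mk sq heq).nonempty_iso⟩

end Affine

end Groth.Agent.Lib.EffDescH52
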