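import Groth.Prelude.Def_Desc
import Mathlib

/-!
# Effective descent for schemes: basic API for `Desc.SchDD` (helper52)

* `φ_natural'`, `φ_symm_val`: naturality helpers.
* `isIso_of_isIso_left`: a morphism of descent data whose underlying morphism of schemes is an
  isomorphism is an isomorphism.
* `IsQuot D u t`: `u : V ⟶ U`, `t : U ⟶ S` exhibit `U` as the descended scheme: the square
  `V → X`, `V → U` over `S` is a pullback and `u` is constant along the gluing bijections.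
  `IsQuot.nonempty_iso`, `exists_isQuot_of_iso`: `IsQuot` ⟺ `toDD p U ≅ D`.
-/

set_option autoImplicit false
set_option linter.style.haveILetI false
set_option backward.isDefEq.respectTransparency false
set_option backward.isDefEq.respectTransparency.types false

universe u

open CategoryTheory CategoryTheory.Limits AlgebraicGeometry

namespace Groth.Agent.Lib.EffDescH52

open Desc

variable {X S : Scheme.{u}} {p : X ⟶ S}

/-- The lift `g ≫ v` over `g ≫ x`. -/
def Lifts.comp {V : Over X} {T T' : Scheme.{u}} {x : T ⟶ X} (g : T' ⟶ T) (v : Lifts V x) :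
    Lifts V (g ≫ x) :=
  ⟨g ≫ v.1, by rw [Category.assoc, v.2]⟩

@[simp] theorem Lifts.comp_val {V : Over X} {T T' : Scheme.{u}} {x : T ⟶ X} (g : T' ⟶ T)
    (v : Lifts V x) : (Lifts.comp g v).1 = g ≫ v.1 := rfl

theorem φ_natural' (D : SchDD p) {T T' : Scheme.{u}} (g : T' ⟶ T) (x₀ x₁ : T ⟶ X)
    (h : x₀ ≫ p = x₁ ≫ p) (h' : (g ≫ x₀) ≫ p = (g ≫ x₁) ≫ p) (v : Lifts D.obj x₀) :
    (D.φ (g ≫ x₀) (g ≫ x₁) h' (Lifts.comp g v)).1 = g ≫ (D.φ x₀ x₁ h v).1 :=
  D.φ_natural g x₀ x₁ h h' v _ rfl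

theorem φ_symm (D : SchDD p) {T : Scheme.{u}} (x₀ x₁ : T ⟶ X) (h : x₀ ≫ p = x₁ ≫ p)
    (v : Lifts D.obj x₁) : (D.φ x₀ x₁ h).symm v = D.φ x₁ x₀ h.symm v := by
  apply (D.φ x₀ x₁ h).injective
  rw [Equiv.apply_symm_apply, D.φ_comp, D.φ_self]

/-- Transport of the gluing bijection along equalities of the base points. -/
theorem φ_congr (D : SchDD p) {T : Scheme.{u}} {x₀ x₁ x₀' x₁' : T ⟶ X} (e₀ : x₀ = x₀')
    (e₁ : x₁ = x₁') (h : x₀ ≫ p = x₁ ≫ p) (h' : x₀' ≫ p = x₁' ≫ p) (v : Lifts D.obj x₀)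
    (v' : Lifts D.obj x₀') (hv : v.1 = v'.1) : (D.φ x₀ x₁ h v).1 = (D.φ x₀' x₁' h' v').1 := by
  subst e₀ e₁
  have : v = v' := Subtype.ext hv
  rw [this]

/-- A morphism of descent data whose underlying morphism of schemes is an isomorphism is an
isomorphism. -/
theorem isIso_of_isIso_left {D D' : SchDD p} (f : D ⟶ D') [IsIso f.hom.left] : IsIso f := by
  haveI : IsIso ((Over.forget X).map f.hom) := ‹IsIso f.hom.left›
  haveI : IsIso f.hom := isIso_of_reflects_iso f.hom (Over.forget X)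
  refine ⟨⟨⟨inv f.hom, fun T x₀ x₁ h v w hw => ?_⟩, ?_, ?_⟩⟩
  · have hv : v.1 = w.1 ≫ f.hom.left := by
      rw [hw, Category.assoc, ← Over.comp_left, IsIso.inv_hom_id, Over.id_left, Category.comp_id]
    have := f.comm x₀ x₁ h w v hv
    rw [this, Category.assoc, ← Over.comp_left, IsIso.hom_inv_id, Over.id_left, Category.comp_id]
  · ext; simp
  · ext; simp

/-- `u : V ⟶ U` and `t : U ⟶ S` exhibit `U` as the scheme descended from the descent datum `D`. -/
structure IsQuot (D : SchDD p) {U : Scheme.{u}} (u : D.obj.left ⟶ U) (t : U ⟶ S) : Prop where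
  sq : IsPullback D.obj.hom u p t
  eq : ∀ ⦃T : Scheme.{u}⦄ (x₀ x₁ : T ⟶ X) (h : x₀ ≫ p = x₁ ≫ p) (v : Lifts D.obj x₀),
    (D.φ x₀ x₁ h v).1 ≫ u = v.1 ≫ u

/-- The morphism of descent data `D ⟶ toDD p U` attached to a map `u` constant along the gluing
bijections. -/
noncomputable def homOfEq (D : SchDD p) {U : Scheme.{u}} (u : D.obj.left ⟶ U) (t : U ⟶ S)
    (w : D.obj.hom ≫ p = u ≫ t)
    (eq : ∀ ⦃T : Scheme.{u}⦄ (x₀ x₁ : T ⟶ X) (h : x₀ ≫ p = x₁ ≫ p) (v : Lifts D.obj x₀),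
      (D.φ x₀ x₁ h v).1 ≫ u = v.1 ≫ u) : D ⟶ (toDD p).obj (Over.mk t) where
  hom := Over.homMk (pullback.lift D.obj.hom u w) (by simp [toDD, canonicalDD])
  comm T x₀ x₁ h v w' hw := by
    apply pullback.hom_ext
    · have e1 : (canonicalDD p (Over.mk t)).φ x₀ x₁ h w' = canMap p (Over.mk t) x₀ x₁ h w' := rfl
      have e2 : ((D.φ x₀ x₁ h) v).1 ≫ D.obj.hom = x₁ := (D.φ x₀ x₁ h v).2
      simp [toDD, e1, e2]
    · have e1 : (canonicalDD p (Over.mk t)).φ x₀ x₁ h w' = canMap p (Over.mk t) x₀ x₁ h w' := rfl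
      simp [toDD, e1, hw, eq]

theorem IsQuot.nonempty_iso {D : SchDD p} {U : Scheme.{u}} {u : D.obj.left ⟶ U} {t : U ⟶ S}
    (hq : IsQuot D u t) : Nonempty ((toDD p).obj (Over.mk t) ≅ D) := by
  let f : D ⟶ (toDD p).obj (Over.mk t) := homOfEq D u t hq.sq.w hq.eq
  have hiso : IsIso f.hom.left := by
    have : f.hom.left = hq.sq.isoPullback.hom := by
      apply pullback.hom_ext <;> simp [f, homOfEq]
    rw [this]
    infer_instance
  haveI := isIso_of_isIso_left f
  exact ⟨(asIso f).symm⟩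

theorem exists_isQuot_of_iso {D : SchDD p} {U : Over S} (e : (toDD p).obj U ≅ D) :
    ∃ u : D.obj.left ⟶ U.left, IsQuot D u U.hom := by
  refine ⟨e.inv.hom.left ≫ pullback.snd p U.hom, ?_, ?_⟩
  · have hiso : IsIso e.inv.hom.left := by
      have : IsIso e.inv.hom := by
        refine ⟨⟨e.hom.hom, ?_, ?_⟩⟩
        · rw [← SchDD.comp_hom, e.inv_hom_id]; rfl
        · rw [← SchDD.comp_hom, e.hom_inv_id]; rfl
      infer_instance
    have hw : e.inv.hom.left ≫ pullback.fst p U.hom = D.obj.hom := Over.w e.inv.hom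
    exact IsPullback.of_iso (IsPullback.of_hasPullback p U.hom) (asIso e.inv.hom.left).symm
      (Iso.refl _) (Iso.refl _) (Iso.refl _) (by simp [← hw]) (by simp) (by simp) (by simp)
  · intro T x₀ x₁ h v
    let w : Lifts ((toDD p).obj U).obj x₀ :=
      ⟨v.1 ≫ e.inv.hom.left, by
        rw [Category.assoc]
        have hw : e.inv.hom.left ≫ ((toDD p).obj U).obj.hom = D.obj.hom := Over.w e.inv.hom
        rw [hw, v.2]⟩
    have key := e.inv.comm x₀ x₁ h v w rfl
    have e1 : ((toDD p).obj U).φ x₀ x₁ h w = canMap p U x₀ x₁ h w := rfl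
    rw [e1] at key
    have := congr($key ≫ pullback.snd p U.hom)
    simp only [canMap_val, pullback.lift_snd, Category.assoc] at this
    exact this.symm.trans (Category.assoc _ _ _)

end Groth.Agent.Lib.EffDescH52
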