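import Groth.Agent.Lib.EffDescUnivOverH52
import Groth.Agent.Lib.LimDescentBC

/-!
# The comparison morphism of a section and base change (helper52)

`isBC_bcSec_m`: for a section `ζ` of a descent datum `D` over `U ⟶ B` and a pullback square
`U' = U ×_B B'`, the comparison morphism `(bcSec (ζ.res r) t'').m i` over `B'` is the base change (in
the sense of `Groth.Agent.Lib.LimDescent.IsBC`) of the comparison morphism `(bcSec ζ t').m i` over
`B`.  Used to spread out isomorphisms of descent data from a limit to a finite stage.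
-/

set_option autoImplicit false
set_option linter.style.haveILetI false
set_option backward.isDefEq.respectTransparency false
set_option backward.isDefEq.respectTransparency.types false

universe u

open CategoryTheory CategoryTheory.Limits AlgebraicGeometry Opposite

namespace Groth.Agent.Lib.EffDescFamH52

open Desc Groth.Agent.Lib.LimDescent

variable {S : Scheme.{u}} {ι : Type u} {X : ι → Scheme.{u}} {f : ∀ i, X i ⟶ S}
  {D : SchDDFam f} {B : Scheme.{u}} {h : B ⟶ S}

theorem bcSec_m_fst {U : Scheme.{u}} (ζ : SecF D U) (t' : U ⟶ B) (ht : ζ.t = t' ≫ h) (i : ι) :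
    (bcSec ζ t' ht).m i ≫ pullback.fst (D.obj i).hom (pullback.fst (f i) h) =
      (ζ.ev (pullback.fst (pullback.snd (f i) h) t' ≫ pullback.fst (f i) h)
        (pullback.snd (pullback.snd (f i) h) t') (by
          rw [ht]; exact bc_cond _ _ t' pullback.condition)).1 := by
  rw [SecF.m_eq_ev, bcSec_ev]
  exact bcEv_fst ζ t' ht _ _ _

theorem bcSec_m_snd {U : Scheme.{u}} (ζ : SecF D U) (t' : U ⟶ B) (ht : ζ.t = t' ≫ h) (i : ι) :
    (bcSec ζ t' ht).m i ≫ pullback.snd (D.obj i).hom (pullback.fst (f i) h) =
      pullback.fst (pullback.snd (f i) h) t' := by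
  rw [SecF.m_eq_ev, bcSec_ev]
  exact bcEv_snd ζ t' ht _ _ _


/-- **The comparison morphism of a section is compatible with base change**: for a pullback square
`U' = U ×_B B'`, the morphism `X i ×_S B' ×_{B'} U' ⟶ V i ×_{X i} (X i ×_S B')` attached to the
restricted section is the base change of the one attached to the section. -/
theorem isBC_bcSec_m {B' : Scheme.{u}} (b : B' ⟶ B) (h' : B' ⟶ S) (hh : b ≫ h = h')
    {U U' : Scheme.{u}} {t' : U ⟶ B} {t'' : U' ⟶ B'} {r : U' ⟶ U} (sq : IsPullback r t'' t' b)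
    (ζ : SecF D U) (ht : ζ.t = t' ≫ h) (ht' : (ζ.res r).t = t'' ≫ h') (i : ι) :
    IsBC ((bcSec ζ t' ht).m i) (((bcDD h D).obj i).hom ≫ pullback.snd (f i) h) b
      ((bcSec (ζ.res r) t'' ht').m i) := by
  subst hh
  let π : (D.obj i).left ⟶ X i := (D.obj i).hom
  -- Step 1
  let G : pullback (f i) (b ≫ h) ⟶ pullback (f i) h :=
    pullback.lift (pullback.fst (f i) (b ≫ h)) (pullback.snd (f i) (b ≫ h) ≫ b)
      (by rw [pullback.condition, Category.assoc])
  have hG1 : G ≫ pullback.fst (f i) h = pullback.fst (f i) (b ≫ h) := pullback.lift_fst _ _ _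
  have hG2 : G ≫ pullback.snd (f i) h = pullback.snd (f i) (b ≫ h) ≫ b := pullback.lift_snd _ _ _
  have step1 : IsPullback G (pullback.snd (f i) (b ≫ h)) (pullback.snd (f i) h) b := by
    refine IsPullback.of_right ?_ hG2 (IsPullback.of_hasPullback (f i) h)
    rw [hG1]
    exact IsPullback.of_hasPullback (f i) (b ≫ h)
  -- Step 2
  let pY : pullback π (pullback.fst (f i) (b ≫ h)) ⟶ pullback π (pullback.fst (f i) h) :=
    pullback.lift (pullback.fst π (pullback.fst (f i) (b ≫ h)))
      (pullback.snd π (pullback.fst (f i) (b ≫ h)) ≫ G)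
      (by rw [pullback.condition, Category.assoc, hG1])
  have hpY1 : pY ≫ pullback.fst π (pullback.fst (f i) h) =
      pullback.fst π (pullback.fst (f i) (b ≫ h)) := pullback.lift_fst _ _ _
  have hpY2 : pY ≫ pullback.snd π (pullback.fst (f i) h) =
      pullback.snd π (pullback.fst (f i) (b ≫ h)) ≫ G := pullback.lift_snd _ _ _
  have step2 : IsPullback pY (pullback.snd π (pullback.fst (f i) (b ≫ h)))
      (pullback.snd π (pullback.fst (f i) h)) G := by
    refine IsPullback.of_right ?_ hpY2 (IsPullback.of_hasPullback π (pullback.fst (f i) h))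
    rw [hpY1, hG1]
    exact IsPullback.of_hasPullback π (pullback.fst (f i) (b ≫ h))
  have sqY := step2.paste_vert step1
  -- the X part
  let pX : pullback (pullback.snd (f i) (b ≫ h)) t'' ⟶ pullback (pullback.snd (f i) h) t' :=
    pullback.lift (pullback.fst (pullback.snd (f i) (b ≫ h)) t'' ≫ G)
      (pullback.snd (pullback.snd (f i) (b ≫ h)) t'' ≫ r)
      (by rw [Category.assoc, hG2, ← Category.assoc, pullback.condition, Category.assoc,
        Category.assoc, sq.w])
  have hpX1 : pX ≫ pullback.fst (pullback.snd (f i) h) t' =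
      pullback.fst (pullback.snd (f i) (b ≫ h)) t'' ≫ G := pullback.lift_fst _ _ _
  have hpX2 : pX ≫ pullback.snd (pullback.snd (f i) h) t' =
      pullback.snd (pullback.snd (f i) (b ≫ h)) t'' ≫ r := pullback.lift_snd _ _ _
  have stepA : IsPullback pX (pullback.snd (pullback.snd (f i) (b ≫ h)) t'')
      (pullback.snd (pullback.snd (f i) h) t') r := by
    refine IsPullback.of_right ?_ hpX2 (IsPullback.of_hasPullback (pullback.snd (f i) h) t')
    rw [hpX1, sq.w]
    exact (IsPullback.of_hasPullback (pullback.snd (f i) (b ≫ h)) t'').paste_horiz step1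
  have big := stepA.paste_vert sq
  refine ⟨pY, _, pX, sqY, ?_⟩
  have comm : pX ≫ (bcSec ζ t' ht).m i = (bcSec (ζ.res r) t'' ht').m i ≫ pY := by
    apply pullback.hom_ext
    · rw [Category.assoc, Category.assoc, hpY1]
      refine (congrArg (pX ≫ ·) (bcSec_m_fst ζ t' ht i)).trans ?_
      refine Eq.trans ?_ (bcSec_m_fst (ζ.res r) t'' ht' i).symm
      rw [SecF.res_ev]
      symm
      apply ζ.ev_nat pX
      · rw [← Category.assoc, hpX1, Category.assoc, hG1]
      · rw [hpX2]
    · rw [Category.assoc, Category.assoc, hpY2]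
      refine (congrArg (pX ≫ ·) (bcSec_m_snd ζ t' ht i)).trans ?_
      rw [hpX1]
      refine Eq.trans ?_ (Category.assoc _ _ _)
      exact congrArg (· ≫ G) (bcSec_m_snd (ζ.res r) t'' ht' i).symm
  refine IsPullback.of_bot ?_ comm sqY
  have e1 : (bcSec ζ t' ht).m i ≫ pullback.snd π (pullback.fst (f i) h) ≫
      pullback.snd (f i) h = pullback.snd (pullback.snd (f i) h) t' ≫ t' := by
    rw [← Category.assoc]
    refine (congrArg (· ≫ pullback.snd (f i) h) (bcSec_m_snd ζ t' ht i)).trans ?_
    exact pullback.condition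
  have e2 : (bcSec (ζ.res r) t'' ht').m i ≫ pullback.snd π (pullback.fst (f i) (b ≫ h)) ≫
      pullback.snd (f i) (b ≫ h) = pullback.snd (pullback.snd (f i) (b ≫ h)) t'' ≫ t'' := by
    rw [← Category.assoc]
    refine (congrArg (· ≫ pullback.snd (f i) (b ≫ h)) (bcSec_m_snd (ζ.res r) t'' ht' i)).trans ?_
    exact pullback.condition
  rw [e1, e2]
  exact big

end Groth.Agent.Lib.EffDescFamH52
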