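/-
EGA 0_III 10.3.1, part 2: the abstract extension step for stages.
Author: helper89
-/
import Groth.Agent.Lib.ResExtG
import Mathlib.RingTheory.Localization.AtPrime.Basic
import Mathlib.RingTheory.Flat.Localization
import Mathlib.RingTheory.Localization.Submodule
import Mathlib.RingTheory.Flat.Stability

set_option autoImplicit false

namespace Groth.Agent.Lib.ResExtG

open IsLocalRing

universe u

variable {A : Type u} [CommRing A] [IsLocalRing A]
  {K : Type u} [Field K] [Algebra (ResidueField A) K]

/-- Abstract extension step: if `C` is a flat `B`-algebra generated by one element `x`,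
with a map `ρ : C → K` extending `res`, sending `x` to `t`, whose kernel is `m_B C`, then the
localization of `C` at `ker ρ` is a stage over `insert t S`. -/
theorem exists_extension (T : Stage A K) (t : K) (ht : t ∉ T.S)
    (C : Type u) [CommRing C] [Algebra A C] [Algebra T.B C] [IsScalarTower A T.B C]
    [Module.Flat T.B C]
    (ρ : C →+* K) (hρ : ∀ b, ρ (algebraMap T.B C b) = T.res b)
    (x : C) (hx : ρ x = t) (hadj : Algebra.adjoin T.B {x} = ⊤)
    (hker : RingHom.ker ρ = (maximalIdeal T.B).map (algebraMap T.B C)) :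
    ∃ T' : Stage A K, T'.S = insert t T.S ∧ T.Hom T' := by
  classical
  have hP : (RingHom.ker ρ).IsPrime := RingHom.ker_isPrime ρ
  have hunit : ∀ y : (RingHom.ker ρ).primeCompl, IsUnit (ρ y) := fun y =>
    IsUnit.mk0 _ (fun h => y.2 h)
  have hF1 : Module.Flat A C := Module.Flat.trans A T.B C
  have hF2 : Module.Flat C (Localization.AtPrime (RingHom.ker ρ)) :=
    IsLocalization.flat _ (RingHom.ker ρ).primeCompl
  have hF3 : Module.Flat A (Localization.AtPrime (RingHom.ker ρ)) :=
    Module.Flat.trans A C _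
  have hF4 : Module.Flat T.B (Localization.AtPrime (RingHom.ker ρ)) :=
    Module.Flat.trans T.B C _
  -- the residue map
  let res' : Localization.AtPrime (RingHom.ker ρ) →+* K :=
    IsLocalization.lift (M := (RingHom.ker ρ).primeCompl) hunit
  have hres' : ∀ c, res' (algebraMap C (Localization.AtPrime (RingHom.ker ρ)) c) = ρ c :=
    fun c => IsLocalization.lift_eq hunit c
  have hBB' : ∀ b : T.B, algebraMap T.B (Localization.AtPrime (RingHom.ker ρ)) b =
      algebraMap C (Localization.AtPrime (RingHom.ker ρ)) (algebraMap T.B C b) := fun b =>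
    IsScalarTower.algebraMap_apply T.B C _ b
  have hAB' : ∀ a : A, algebraMap A (Localization.AtPrime (RingHom.ker ρ)) a =
      algebraMap T.B (Localization.AtPrime (RingHom.ker ρ)) (algebraMap A T.B a) := fun a =>
    IsScalarTower.algebraMap_apply A T.B _ a
  -- maximal ideal
  have hmaxC : (maximalIdeal A).map (algebraMap A C) = RingHom.ker ρ := by
    rw [hker, ← T.hmax, Ideal.map_map, ← IsScalarTower.algebraMap_eq]
  have hmax' : (maximalIdeal A).map (algebraMap A (Localization.AtPrime (RingHom.ker ρ))) =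
      maximalIdeal (Localization.AtPrime (RingHom.ker ρ)) := by
    rw [IsScalarTower.algebraMap_eq A C (Localization.AtPrime (RingHom.ker ρ)), ← Ideal.map_map,
      hmaxC]
    exact Localization.AtPrime.map_eq_maximalIdeal
  have hker' : RingHom.ker res' = maximalIdeal (Localization.AtPrime (RingHom.ker ρ)) := by
    apply le_antisymm
    · apply IsLocalRing.le_maximalIdeal
      exact RingHom.ker_ne_top res'
    · rw [← Localization.AtPrime.map_eq_maximalIdeal, Ideal.map_le_iff_le_comap]
      intro c hc
      rw [Ideal.mem_comap, RingHom.mem_ker, hres']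
      exact hc
  -- marked elements
  let gen' : K → Localization.AtPrime (RingHom.ker ρ) := fun s =>
    if s = t then algebraMap C _ x else algebraMap T.B _ (T.gen s)
  have hgen't : gen' t = algebraMap C _ x := if_pos rfl
  have hgen's : ∀ s ∈ T.S, gen' s = algebraMap T.B _ (T.gen s) := fun s hs =>
    if_neg (fun h => ht (by rwa [h] at hs))
  have hx' : algebraMap C (Localization.AtPrime (RingHom.ker ρ)) x ∈
      Algebra.adjoin A (gen' '' insert t T.S) :=
    Algebra.subset_adjoin ⟨t, Set.mem_insert _ _, hgen't⟩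
  have hadj' : ∀ b ∈ Algebra.adjoin A (T.gen '' T.S),
      algebraMap T.B (Localization.AtPrime (RingHom.ker ρ)) b ∈
        Algebra.adjoin A (gen' '' insert t T.S) := by
    intro b hb
    have h1 : (Algebra.adjoin A (T.gen '' T.S)).map
        (IsScalarTower.toAlgHom A T.B (Localization.AtPrime (RingHom.ker ρ))) ≤
        Algebra.adjoin A (gen' '' insert t T.S) := by
      rw [AlgHom.map_adjoin]
      apply Algebra.adjoin_mono
      rintro _ ⟨_, ⟨s, hs, rfl⟩, rfl⟩
      exact ⟨s, Set.mem_insert_of_mem _ hs, hgen's s hs⟩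
    exact h1 ⟨b, hb, rfl⟩
  -- elements of `C`
  have hE : ∀ c : C, ∃ y ∈ Algebra.adjoin A (T.gen '' T.S), IsUnit y ∧
      algebraMap T.B (Localization.AtPrime (RingHom.ker ρ)) y *
        algebraMap C (Localization.AtPrime (RingHom.ker ρ)) c ∈
          Algebra.adjoin A (gen' '' insert t T.S) := by
    intro c
    have hc : c ∈ Algebra.adjoin T.B {x} := hadj ▸ Algebra.mem_top
    induction hc using Algebra.adjoin_induction with
    | mem c hc =>
      rw [Set.mem_singleton_iff] at hc
      subst hc
      exact ⟨1, Subalgebra.one_mem _, isUnit_one, by rw [map_one, one_mul]; exact hx'⟩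
    | algebraMap b =>
      obtain ⟨x₀, y₀, hx₀, hy₀, hyu, hb⟩ := T.hspan b
      refine ⟨y₀, hy₀, hyu, ?_⟩
      rw [← hBB', ← map_mul, mul_comm, hb]
      exact hadj' _ hx₀
    | add c₁ c₂ _ _ h₁ h₂ =>
      obtain ⟨y₁, hy₁, hu₁, hm₁⟩ := h₁
      obtain ⟨y₂, hy₂, hu₂, hm₂⟩ := h₂
      refine ⟨y₁ * y₂, Subalgebra.mul_mem _ hy₁ hy₂, hu₁.mul hu₂, ?_⟩
      have : algebraMap T.B (Localization.AtPrime (RingHom.ker ρ)) (y₁ * y₂) *
          algebraMap C (Localization.AtPrime (RingHom.ker ρ)) (c₁ + c₂) =
          algebraMap T.B _ y₂ * (algebraMap T.B _ y₁ * algebraMap C _ c₁) +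
          algebraMap T.B _ y₁ * (algebraMap T.B _ y₂ * algebraMap C _ c₂) := by
        rw [map_mul, map_add]
        ring
      rw [this]
      exact Subalgebra.add_mem _ (Subalgebra.mul_mem _ (hadj' _ hy₂) hm₁)
        (Subalgebra.mul_mem _ (hadj' _ hy₁) hm₂)
    | mul c₁ c₂ _ _ h₁ h₂ =>
      obtain ⟨y₁, hy₁, hu₁, hm₁⟩ := h₁
      obtain ⟨y₂, hy₂, hu₂, hm₂⟩ := h₂
      refine ⟨y₁ * y₂, Subalgebra.mul_mem _ hy₁ hy₂, hu₁.mul hu₂, ?_⟩
      have : algebraMap T.B (Localization.AtPrime (RingHom.ker ρ)) (y₁ * y₂) *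
          algebraMap C (Localization.AtPrime (RingHom.ker ρ)) (c₁ * c₂) =
          (algebraMap T.B _ y₁ * algebraMap C _ c₁) *
          (algebraMap T.B _ y₂ * algebraMap C _ c₂) := by
        rw [map_mul, map_mul]
        ring
      rw [this]
      exact Subalgebra.mul_mem _ hm₁ hm₂
  refine ⟨{ S := insert t T.S
            B := Localization.AtPrime (RingHom.ker ρ)
            res := res'
            gen := gen'
            hmax := hmax'
            hker := hker'
            hres := ?_
            hgen := ?_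
            hspan := ?_ }, rfl, ?_⟩
  · intro a
    rw [hAB', hBB', hres', hρ, T.hres]
  · intro s hs
    rcases hs with rfl | hs
    · rw [hgen't, hres', hx]
    · rw [hgen's s hs, hBB', hres', hρ, T.hgen s hs]
  · intro b'
    obtain ⟨⟨c, s⟩, rfl⟩ := IsLocalization.mk'_surjective (RingHom.ker ρ).primeCompl b'
    obtain ⟨y₁, hy₁, hu₁, hm₁⟩ := hE c
    obtain ⟨y₂, hy₂, hu₂, hm₂⟩ := hE (s : C)
    refine ⟨(algebraMap T.B _ y₁ * algebraMap C _ c) * algebraMap T.B _ y₂,
      (algebraMap T.B _ y₂ * algebraMap C _ (s : C)) * algebraMap T.B _ y₁,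
      Subalgebra.mul_mem _ hm₁ (hadj' _ hy₂), Subalgebra.mul_mem _ hm₂ (hadj' _ hy₁), ?_, ?_⟩
    · exact ((hu₂.map _).mul (IsLocalization.map_units _ s)).mul (hu₁.map _)
    · have h1 : IsLocalization.mk' (Localization.AtPrime (RingHom.ker ρ)) c s *
          algebraMap C _ (s : C) = algebraMap C _ c := IsLocalization.mk'_spec _ c s
      calc IsLocalization.mk' (Localization.AtPrime (RingHom.ker ρ)) c s *
            ((algebraMap T.B _ y₂ * algebraMap C _ (s : C)) * algebraMap T.B _ y₁)
          = (IsLocalization.mk' (Localization.AtPrime (RingHom.ker ρ)) c s *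
              algebraMap C _ (s : C)) * (algebraMap T.B _ y₂ * algebraMap T.B _ y₁) := by ring
        _ = algebraMap C _ c * (algebraMap T.B _ y₂ * algebraMap T.B _ y₁) := by rw [h1]
        _ = (algebraMap T.B _ y₁ * algebraMap C _ c) * algebraMap T.B _ y₂ := by ring
  · refine ⟨IsScalarTower.toAlgHom A T.B (Localization.AtPrime (RingHom.ker ρ)), ?_, ?_, ?_⟩
    · show (algebraMap T.B (Localization.AtPrime (RingHom.ker ρ))).Flat
      exact RingHom.flat_algebraMap_iff.mpr hF4
    · intro s hs
      exact (hgen's s hs).symm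
    · intro b
      show res' (algebraMap T.B _ b) = _
      rw [hBB', hres', hρ]

end Groth.Agent.Lib.ResExtG
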