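/-
EGA 0_III 10.3.1, part 3: adjoining one element of `K` to a stage (transcendental and algebraic
cases).
Author: helper89
-/
import Groth.Agent.Lib.ResExtGStep
import Mathlib.RingTheory.AdjoinRoot
import Mathlib.RingTheory.Polynomial.Basic
import Mathlib.Algebra.Polynomial.Div

set_option autoImplicit false

namespace Groth.Agent.Lib.ResExtG

open IsLocalRing Polynomial

universe u

variable {A : Type u} [CommRing A] [IsLocalRing A]
  {K : Type u} [Field K] [Algebra (ResidueField A) K]

/-- Transcendental case. -/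
theorem exists_extension_transcendental (T : Stage A K) (t : K) (ht : t ∉ T.S)
    (htr : ∀ p : T.B[X], eval₂ T.res t p = 0 → p.map T.res = 0) :
    ∃ T' : Stage A K, T'.S = insert t T.S ∧ T.Hom T' := by
  refine exists_extension T t ht T.B[X] (eval₂RingHom T.res t) ?_ X ?_ ?_ ?_
  · intro b
    show eval₂ T.res t (algebraMap T.B T.B[X] b) = _
    rw [Polynomial.algebraMap_apply, Algebra.algebraMap_self_apply, eval₂_C]
  · show eval₂ T.res t X = t
    exact eval₂_X _ _
  · exact Polynomial.adjoin_X
  · apply le_antisymm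
    · intro p hp
      have hp0 : eval₂ T.res t p = 0 := hp
      have h1 := htr p hp0
      have h2 : algebraMap T.B T.B[X] = C := rfl
      rw [h2, Ideal.mem_map_C_iff]
      intro n
      rw [← T.hker, RingHom.mem_ker, ← coeff_map, h1, coeff_zero]
    · rw [Ideal.map_le_iff_le_comap]
      intro b hb
      rw [← T.hker] at hb
      rw [Ideal.mem_comap, RingHom.mem_ker]
      show eval₂ T.res t (algebraMap T.B T.B[X] b) = 0
      rw [Polynomial.algebraMap_apply, Algebra.algebraMap_self_apply, eval₂_C]
      exact hb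

/-- Algebraic case. -/
theorem exists_extension_algebraic (T : Stage A K) (t : K) (ht : t ∉ T.S)
    (halg : ∃ p : T.B[X], p.map T.res ≠ 0 ∧ eval₂ T.res t p = 0) :
    ∃ T' : Stage A K, T'.S = insert t T.S ∧ T.Hom T' := by
  classical
  -- minimal degree
  have hD : ∃ n, ∃ p : T.B[X], p.map T.res ≠ 0 ∧ eval₂ T.res t p = 0 ∧
      (p.map T.res).natDegree = n := by
    obtain ⟨p, hp1, hp2⟩ := halg
    exact ⟨_, p, hp1, hp2, rfl⟩
  obtain ⟨p, hp1, hp2, hp3⟩ := Nat.find_spec hD
  set d := Nat.find hD with hd
  have hmin : ∀ r : T.B[X], eval₂ T.res t r = 0 → r.natDegree < d → r.map T.res = 0 := by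
    intro r hr1 hr2
    by_contra hne
    have h1 : (r.map T.res).natDegree < d := lt_of_le_of_lt (natDegree_map_le) hr2
    exact Nat.find_min hD h1 ⟨r, hne, hr1, rfl⟩
  -- the leading coefficient is a unit
  have hlc : T.res (p.coeff d) ≠ 0 := by
    rw [← coeff_map, ← hp3]
    exact leadingCoeff_ne_zero.mpr hp1
  have hu : IsUnit (p.coeff d) := T.isUnit_of_res_ne_zero hlc
  obtain ⟨v, hv⟩ : ∃ v : T.B, v * p.coeff d = 1 := ⟨_, hu.val_inv_mul⟩
  have hv' : T.res v * T.res (p.coeff d) = 1 := by rw [← map_mul, hv, map_one]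
  -- the monic lift
  let r : T.B[X] := ∑ i ∈ Finset.range d, C (v * p.coeff i) * X ^ i
  have hrdeg : r.degree < d := by
    rw [degree_lt_iff_coeff_zero]
    intro m hm
    rw [finsetSum_coeff]
    refine Finset.sum_eq_zero fun i hi => ?_
    rw [coeff_C_mul_X_pow, if_neg]
    rw [Finset.mem_range] at hi
    omega
  let F : T.B[X] := X ^ d + r
  have hF : F.Monic := monic_X_pow_add hrdeg
  have hFdeg : F.natDegree = d := by
    have : F.degree = (d : WithBot ℕ) := by
      show (X ^ d + r).degree = (d : WithBot ℕ)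
      rw [degree_add_eq_left_of_degree_lt (by rwa [degree_X_pow]), degree_X_pow]
    exact natDegree_eq_of_degree_eq_some this
  have hFev : eval₂ T.res t F = 0 := by
    have h1 : eval₂ T.res t F = t ^ d + ∑ i ∈ Finset.range d, T.res v * T.res (p.coeff i) * t ^ i := by
      show eval₂ T.res t (X ^ d + r) = _
      rw [eval₂_add, eval₂_X_pow, eval₂_finsetSum]
      congr 1
      refine Finset.sum_congr rfl fun i _ => ?_
      rw [eval₂_mul, eval₂_C, eval₂_X_pow, map_mul]
    have h2 : (p.map T.res).eval t =
        ∑ i ∈ Finset.range d, T.res (p.coeff i) * t ^ i + T.res (p.coeff d) * t ^ d := by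
      rw [eval_eq_sum_range, hp3, Finset.sum_range_succ]
      simp only [coeff_map]
    have h3 : (p.map T.res).eval t = 0 := by rw [eval_map]; exact hp2
    have h4 : eval₂ T.res t F = T.res v * (p.map T.res).eval t := by
      rw [h1, h2, mul_add, Finset.mul_sum, ← mul_assoc, hv', one_mul, add_comm]
      congr 1
      refine Finset.sum_congr rfl fun i _ => ?_
      ring
    rw [h4, h3, mul_zero]
  have hfree : Module.Free T.B (AdjoinRoot F) := Module.Free.of_basis (AdjoinRoot.powerBasis' hF).basis
  refine exists_extension T t ht (AdjoinRoot F) (AdjoinRoot.lift T.res t hFev) ?_ (AdjoinRoot.root F)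
    ?_ ?_ ?_
  · intro b
    rw [AdjoinRoot.algebraMap_eq, AdjoinRoot.lift_of]
  · exact AdjoinRoot.lift_root hFev
  · exact AdjoinRoot.adjoinRoot_eq_top
  · apply le_antisymm
    · intro z hz
      obtain ⟨g, rfl⟩ := AdjoinRoot.mk_surjective z
      have hz0 : eval₂ T.res t g = 0 := by
        have : AdjoinRoot.lift T.res t hFev (AdjoinRoot.mk F g) = 0 := hz
        rwa [AdjoinRoot.lift_mk] at this
      have hmk : AdjoinRoot.mk F g = AdjoinRoot.mk F (g %ₘ F) := by
        rw [AdjoinRoot.mk_eq_mk]
        have := modByMonic_add_div g F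
        exact ⟨g /ₘ F, by nth_rewrite 1 [← this]; ring⟩
      have hev : eval₂ T.res t (g %ₘ F) = 0 := by
        have h1 : AdjoinRoot.lift T.res t hFev (AdjoinRoot.mk F (g %ₘ F)) = 0 := by
          rw [← hmk]
          exact hz
        rwa [AdjoinRoot.lift_mk] at h1
      have hmap : (g %ₘ F).map T.res = 0 := by
        by_cases h0 : g %ₘ F = 0
        · rw [h0, Polynomial.map_zero]
        · apply hmin _ hev
          have h1 := degree_modByMonic_lt g hF
          rw [← hFdeg]
          exact natDegree_lt_natDegree h0 h1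
      have hmem : g %ₘ F ∈ (maximalIdeal T.B).map (C : T.B →+* T.B[X]) := by
        rw [Ideal.mem_map_C_iff]
        intro n
        rw [← T.hker, RingHom.mem_ker, ← coeff_map, hmap, coeff_zero]
      rw [hmk]
      have h5 : (maximalIdeal T.B).map (algebraMap T.B (AdjoinRoot F)) =
          ((maximalIdeal T.B).map (C : T.B →+* T.B[X])).map (AdjoinRoot.mk F) := by
        rw [Ideal.map_map]
        rfl
      rw [h5]
      exact Ideal.mem_map_of_mem _ hmem
    · rw [Ideal.map_le_iff_le_comap]
      intro b hb
      rw [← T.hker] at hb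
      rw [Ideal.mem_comap, RingHom.mem_ker, AdjoinRoot.algebraMap_eq, AdjoinRoot.lift_of]
      exact hb

/-- Adjoining one element not in the range of the residue map. -/
theorem exists_extension_of_notMem_range (T : Stage A K) (t : K) (ht : t ∉ Set.range T.res) :
    ∃ T' : Stage A K, T'.S = insert t T.S ∧ T.Hom T' := by
  have htS : t ∉ T.S := fun h => ht ⟨T.gen t, T.hgen t h⟩
  by_cases halg : ∃ p : T.B[X], p.map T.res ≠ 0 ∧ eval₂ T.res t p = 0
  · exact exists_extension_algebraic T t htS halg
  · refine exists_extension_transcendental T t htS ?_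
    intro p hp
    by_contra h
    exact halg ⟨p, h, hp⟩

end Groth.Agent.Lib.ResExtG
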