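/-
EGA 0_III 10.3.1, part 4: the colimit of a coherent directed system of stages is a stage.
Author: helper89
-/
import Groth.Agent.Lib.ResExtG
import Groth.Agent.S2364
import Groth.Agent.Lib.DirLimFlat

set_option autoImplicit false

namespace Groth.Agent.Lib.ResExtG

open IsLocalRing

universe u

variable {A : Type u} [CommRing A] [IsLocalRing A]
  {K : Type u} [Field K] [Algebra (ResidueField A) K]

/-- The colimit of a directed system of stages is a stage. -/
theorem exists_colimit_stage {ι : Type u} [Preorder ι] [Nonempty ι] [IsDirected ι (· ≤ ·)]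
    (T : ι → Stage A K) (hS : ∀ i j, i ≤ j → (T i).S ⊆ (T j).S)
    (hH : ∀ i j, i ≤ j → (T i).Hom (T j)) :
    ∃ T' : Stage A K, T'.S = ⋃ i, (T i).S ∧ ∀ i, (T i).Hom T' := by
  classical
  choose ψ hψflat hψgen hψres using hH
  -- the directed system
  let G : ι → Type u := fun i => (T i).B
  let f : ∀ i j, i ≤ j → G i →+* G j := fun i j h => (ψ i j h).toRingHom
  have hfapp : ∀ i j (h : i ≤ j) (x : G i), f i j h x = ψ i j h x := fun _ _ _ _ => rfl
  have hds : DirectedSystem G fun i j h => f i j h := by
    constructor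
    · intro i x
      have : ψ i i le_rfl = AlgHom.id A (T i).B :=
        (T i).algHom_ext _ _ (fun s hs => by rw [hψgen i i le_rfl s hs]; rfl)
      show ψ i i le_rfl x = x
      rw [this]
      rfl
    · intro k j i hij hjk x
      have : (ψ j k hjk).comp (ψ i j hij) = ψ i k (hij.trans hjk) :=
        (T i).algHom_ext _ _ (fun s hs => by
          show ψ j k hjk (ψ i j hij ((T i).gen s)) = _
          rw [hψgen i j hij s hs, hψgen j k hjk s (hS i j hij hs), hψgen i k _ s hs])
      show ψ j k hjk (ψ i j hij x) = ψ i k (hij.trans hjk) x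
      rw [← this]
      rfl
  have hloc : ∀ i j (h : i ≤ j), IsLocalHom (f i j h) := by
    intro i j h
    refine ⟨fun x hx => ?_⟩
    apply (T i).isUnit_of_res_ne_zero
    rw [← hψres i j h x]
    exact (T j).res_ne_zero_of_isUnit hx
  have hmax : ∀ i j (h : i ≤ j),
      (maximalIdeal (G i)).map (f i j h) = maximalIdeal (G j) := by
    intro i j h
    show (maximalIdeal (T i).B).map (ψ i j h).toRingHom = maximalIdeal (T j).B
    rw [← (T i).hmax, ← (T j).hmax, Ideal.map_map]
    congr 1
    ext a
    exact (ψ i j h).commutes a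
  have hflat : ∀ i j (h : i ≤ j), (f i j h).Flat := fun i j h => hψflat i j h
  have hlocal : ∀ i, IsLocalRing (G i) := fun i => (T i).loc
  obtain ⟨hlocD, hlochom, hmaxD'⟩ := Groth.Agent.S2364.result G f hloc
  have hmaxD := hmaxD' hmax
  have hflatD : ∀ i, (Ring.DirectLimit.of G (fun i j h => f i j h) i).Flat := fun i =>
    Groth.Agent.Lib.DirLimFlat.flat_of G f i (fun j h => hflat i j h)
  -- the `A`-algebra structure
  let i₀ : ι := Classical.arbitrary ι
  let algD : Algebra A (Ring.DirectLimit G fun i j h => f i j h) :=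
    ((Ring.DirectLimit.of G (fun i j h => f i j h) i₀).comp (algebraMap A (G i₀))).toAlgebra
  have halg : ∀ i (a : A), Ring.DirectLimit.of G (fun i j h => f i j h) i (algebraMap A (G i) a) =
      algebraMap A (Ring.DirectLimit G fun i j h => f i j h) a := by
    intro i a
    obtain ⟨k, hik, h0k⟩ := exists_ge_ge i i₀
    have h1 : f i k hik (algebraMap A (G i) a) = algebraMap A (G k) a := (ψ i k hik).commutes a
    have h2 : f i₀ k h0k (algebraMap A (G i₀) a) = algebraMap A (G k) a :=
      (ψ i₀ k h0k).commutes a
    rw [← Ring.DirectLimit.of_f hik, h1, ← h2, Ring.DirectLimit.of_f]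
    rfl
  have hflatA : Module.Flat A (Ring.DirectLimit G fun i j h => f i j h) := by
    have h1 : (algebraMap A (G i₀)).Flat := RingHom.flat_algebraMap_iff.mpr (T i₀).flat
    exact RingHom.Flat.comp h1 (hflatD i₀)
  -- the residue map
  let resD : (Ring.DirectLimit G fun i j h => f i j h) →+* K :=
    Ring.DirectLimit.lift G (fun i j h => f i j h) K (fun i => (T i).res)
      (fun i j h x => hψres i j h x)
  have hresD : ∀ i (x : G i), resD (Ring.DirectLimit.of G (fun i j h => f i j h) i x) =
      (T i).res x := fun i x => Ring.DirectLimit.lift_of _ _ _ _ _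
  have hunit : ∀ i (x : G i), IsUnit (Ring.DirectLimit.of G (fun i j h => f i j h) i x) ↔
      IsUnit x := by
    intro i x
    constructor
    · intro h
      have := hlochom i
      exact (isUnit_map_iff (Ring.DirectLimit.of G (fun i j h => f i j h) i) x).mp h
    · intro h
      exact h.map _
  have hkerD : RingHom.ker resD = maximalIdeal (Ring.DirectLimit G fun i j h => f i j h) := by
    ext z
    obtain ⟨i, x, rfl⟩ := Ring.DirectLimit.exists_of z
    rw [RingHom.mem_ker, hresD, mem_maximalIdeal, mem_nonunits_iff, hunit]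
    constructor
    · intro h hu
      exact (T i).res_ne_zero_of_isUnit hu h
    · intro h
      by_contra h0
      exact h ((T i).isUnit_of_res_ne_zero h0)
  have hmaxA : (maximalIdeal A).map (algebraMap A (Ring.DirectLimit G fun i j h => f i j h)) =
      maximalIdeal (Ring.DirectLimit G fun i j h => f i j h) := by
    rw [← hmaxD i₀]
    show (maximalIdeal A).map ((Ring.DirectLimit.of G (fun i j h => f i j h) i₀).comp
      (algebraMap A (G i₀))) = _
    rw [← Ideal.map_map]
    congr 1
    exact (T i₀).hmax
  -- marked elements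
  let genD : K → (Ring.DirectLimit G fun i j h => f i j h) := fun s =>
    if h : ∃ i, s ∈ (T i).S then
      Ring.DirectLimit.of G (fun i j h => f i j h) h.choose ((T h.choose).gen s)
    else 0
  have hgenD : ∀ i s, s ∈ (T i).S →
      Ring.DirectLimit.of G (fun i j h => f i j h) i ((T i).gen s) = genD s := by
    intro i s hs
    have hex : ∃ i, s ∈ (T i).S := ⟨i, hs⟩
    have h1 : genD s =
        Ring.DirectLimit.of G (fun i j h => f i j h) hex.choose ((T hex.choose).gen s) :=
      dif_pos hex
    rw [h1]
    obtain ⟨k, hik, hjk⟩ := exists_ge_ge i hex.choose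
    rw [← Ring.DirectLimit.of_f hik, ← Ring.DirectLimit.of_f hjk, hfapp, hfapp,
      hψgen i k hik s hs, hψgen _ k hjk s hex.choose_spec]
  -- the maps to the colimit as algebra maps
  let ofAlg : ∀ i, G i →ₐ[A] (Ring.DirectLimit G fun i j h => f i j h) := fun i =>
    { Ring.DirectLimit.of G (fun i j h => f i j h) i with commutes' := halg i }
  have hadj : ∀ i, ∀ b ∈ Algebra.adjoin A ((T i).gen '' (T i).S),
      Ring.DirectLimit.of G (fun i j h => f i j h) i b ∈
        Algebra.adjoin A (genD '' ⋃ i, (T i).S) := by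
    intro i b hb
    have h1 : (Algebra.adjoin A ((T i).gen '' (T i).S)).map (ofAlg i) ≤
        Algebra.adjoin A (genD '' ⋃ i, (T i).S) := by
      rw [AlgHom.map_adjoin]
      apply Algebra.adjoin_mono
      rintro _ ⟨_, ⟨s, hs, rfl⟩, rfl⟩
      exact ⟨s, Set.mem_iUnion.mpr ⟨i, hs⟩, (hgenD i s hs).symm⟩
    exact h1 ⟨b, hb, rfl⟩
  refine ⟨{ S := ⋃ i, (T i).S
            B := Ring.DirectLimit G fun i j h => f i j h
            res := resD
            gen := genD
            hmax := hmaxA
            hker := hkerD
            hres := ?_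
            hgen := ?_
            hspan := ?_ }, rfl, ?_⟩
  · intro a
    rw [← halg i₀ a, hresD, (T i₀).hres]
  · intro s hs
    obtain ⟨i, hi⟩ := Set.mem_iUnion.mp hs
    rw [← hgenD i s hi, hresD, (T i).hgen s hi]
  · intro z
    obtain ⟨i, b, rfl⟩ := Ring.DirectLimit.exists_of z
    obtain ⟨x, y, hx, hy, hyu, hb⟩ := (T i).hspan b
    refine ⟨_, _, hadj i x hx, hadj i y hy, hyu.map _, ?_⟩
    rw [← map_mul, hb]
  · intro i
    refine ⟨ofAlg i, hflatD i, fun s hs => hgenD i s hs, fun b => hresD i b⟩

end Groth.Agent.Lib.ResExtG
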