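/-
EGA 0_III 10.3.1, part 5: Zorn's lemma and the final theorem.
Author: helper89
-/
import Groth.Agent.Lib.ResExtGCases
import Groth.Agent.Lib.ResExtGColim

set_option autoImplicit false

namespace Groth.Agent.Lib.ResExtG

open IsLocalRing

universe u

variable {A : Type u} [CommRing A] [IsLocalRing A]
  {K : Type u} [Field K] [Algebra (ResidueField A) K]

variable (A K) in
/-- There is a maximal stage. -/
theorem exists_isMax : ∃ T : Stage A K, IsMax T := by
  apply zorn_le
  intro c hc
  by_cases hne : c.Nonempty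
  swap
  · exact ⟨baseStage A K, fun T hT => absurd ⟨T, hT⟩ hne⟩
  by_cases hmaxc : ∃ T ∈ c, ∀ T' ∈ c, T' ≤ T
  · obtain ⟨T, -, hT'⟩ := hmaxc
    exact ⟨T, hT'⟩
  push Not at hmaxc
  -- facts about the chain
  have F1 : ∀ T ∈ c, ∀ T' ∈ c, T.S = T'.S → T = T' := by
    intro T hT T' hT' hS
    by_contra hne'
    rcases hc hT hT' hne' with h | h
    · rcases h with h | ⟨h, -⟩
      · exact hne' h
      · exact h.ne hS
    · rcases h with h | ⟨h, -⟩
      · exact hne' h.symm
      · exact h.ne hS.symm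
  have F2 : ∀ T ∈ c, ∀ T' ∈ c, T.S ⊆ T'.S → T ≤ T' := by
    intro T hT T' hT' hS
    by_cases heq : T = T'
    · rw [heq]
    rcases hc hT hT' heq with h | h
    · exact h
    · rcases h with h | ⟨h, -⟩
      · exact absurd h.symm heq
      · exact absurd (h.trans_subset hS) (ssubset_irrefl _)
  have F3 : ∀ T ∈ c, ∀ T' ∈ c, T.S ⊆ T'.S ∨ T'.S ⊆ T.S := by
    intro T hT T' hT'
    by_cases heq : T = T'
    · rw [heq]
      exact Or.inl subset_rfl
    rcases hc hT hT' heq with h | h
    · exact Or.inl (Stage.subset_of_le h)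
    · exact Or.inr (Stage.subset_of_le h)
  -- the index type
  let ι := {S : Set K // ∃ T ∈ c, T.S = S}
  have hιne : Nonempty ι := by
    obtain ⟨T, hT⟩ := hne
    exact ⟨⟨T.S, T, hT, rfl⟩⟩
  let rep : ι → Stage A K := fun i => i.2.choose
  have rep_mem : ∀ i, rep i ∈ c := fun i => i.2.choose_spec.1
  have rep_S : ∀ i, (rep i).S = i.1 := fun i => i.2.choose_spec.2
  have hdir : IsDirected ι (· ≤ ·) := by
    refine ⟨fun i j => ?_⟩
    rcases F3 _ (rep_mem i) _ (rep_mem j) with h | h
    · rw [rep_S, rep_S] at h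
      exact ⟨j, h, le_rfl⟩
    · rw [rep_S, rep_S] at h
      exact ⟨i, le_rfl, h⟩
  have hS : ∀ i j, i ≤ j → (rep i).S ⊆ (rep j).S := by
    intro i j h
    rw [rep_S, rep_S]
    exact h
  have hH : ∀ i j, i ≤ j → (rep i).Hom (rep j) := fun i j h =>
    Stage.hom_of_le (F2 _ (rep_mem i) _ (rep_mem j) (hS i j h))
  obtain ⟨T', hT'S, hT'H⟩ := exists_colimit_stage rep hS hH
  refine ⟨T', fun T hT => ?_⟩
  have hrep : rep ⟨T.S, T, hT, rfl⟩ = T :=
    F1 _ (rep_mem _) _ hT (rep_S _)
  have hHom : T.Hom T' := by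
    have := hT'H ⟨T.S, T, hT, rfl⟩
    rwa [hrep] at this
  obtain ⟨T'', hT'', hnle⟩ := hmaxc T hT
  have hlt : T.S ⊂ T''.S := by
    have hne' : T ≠ T'' := fun h => hnle (by rw [h])
    rcases hc hT hT'' hne' with h | h
    · rcases h with h | ⟨h, -⟩
      · exact absurd h hne'
      · exact h
    · exact absurd h hnle
  have hsub : T''.S ⊆ T'.S := by
    rw [hT'S]
    intro s hs
    refine Set.mem_iUnion.mpr ⟨⟨T''.S, T'', hT'', rfl⟩, ?_⟩
    rw [rep_S]
    exact hs
  exact Or.inr ⟨hlt.trans_subset hsub, hHom⟩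

variable (A K) in
/-- A local ring admits a flat local extension with `m_A B = m_B` and any prescribed residue field
extension. -/
theorem exists_flat_local_extension :
    ∃ (B : Type u) (_ : CommRing B) (_ : IsLocalRing B) (_ : Algebra A B)
      (_ : IsLocalHom (algebraMap A B)),
      Module.Flat A B ∧ (maximalIdeal A).map (algebraMap A B) = maximalIdeal B ∧
      Nonempty (ResidueField B ≃ₐ[ResidueField A] K) := by
  obtain ⟨T, hT⟩ := exists_isMax A K
  have hsurj : Function.Surjective T.res := by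
    by_contra hns
    have : ∃ t, t ∉ Set.range T.res := by
      by_contra h
      push Not at h
      exact hns h
    obtain ⟨t, ht⟩ := this
    have htS : t ∉ T.S := fun h => ht ⟨T.gen t, T.hgen t h⟩
    obtain ⟨T', hT'S, hT'H⟩ := exists_extension_of_notMem_range T t ht
    have hle : T ≤ T' := Or.inr ⟨by rw [hT'S]; exact Set.ssubset_insert htS, hT'H⟩
    have hge := Stage.subset_of_le (hT hle)
    rw [hT'S] at hge
    exact htS (hge (Set.mem_insert _ _))
  have hloc := T.isLocalHom_algebraMap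
  refine ⟨T.B, inferInstance, inferInstance, inferInstance, hloc, inferInstance, T.hmax, ⟨?_⟩⟩
  let e : ResidueField T.B ≃+* K :=
    (Ideal.quotEquivOfEq T.hker.symm).trans (RingHom.quotientKerEquivOfSurjective hsurj)
  have he : ∀ b : T.B, e (residue T.B b) = T.res b := fun b => by
    show (RingHom.quotientKerEquivOfSurjective hsurj)
      ((Ideal.quotEquivOfEq T.hker.symm) (Ideal.Quotient.mk _ b)) = _
    rw [Ideal.quotEquivOfEq_mk, RingHom.quotientKerEquivOfSurjective_apply_mk]
  refine AlgEquiv.ofRingEquiv (f := e) ?_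
  intro x
  obtain ⟨a, rfl⟩ := residue_surjective x
  rw [← T.hres a, ← he]
  rfl

end Groth.Agent.Lib.ResExtG
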