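import Groth.Agent.Lib.EffDescEtSubmLocalH52
import Groth.Agent.S2363
import Groth.Agent.Lib.AdicNoeth

/-!
# Effectivity of étale descent data can be checked over complete local rings with algebraically
closed residue field (helper52)

* `exists_complete_algClosed_extension`: a Noetherian local ring has a faithfully flat extension
  which is a complete Noetherian local ring with algebraically closed residue field
  (helper89's S2363 = EGA 0_III 10.3.1, then completion).
* `etale_effective_iff_complete_algClosed` (S5127).
-/

set_option autoImplicit false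
set_option linter.style.haveILetI false
set_option backward.isDefEq.respectTransparency false
set_option backward.isDefEq.respectTransparency.types false

universe u

open CategoryTheory CategoryTheory.Limits AlgebraicGeometry Opposite

namespace Groth.Agent.Lib.EffDescFamH52

open Desc Groth.Agent.Lib.SubmDescH52 IsLocalRing

/-- **EGA 0_III 10.3.1 + completion**: every Noetherian local ring has a faithfully flat local
extension which is a complete Noetherian local ring with algebraically closed residue field. -/
theorem exists_complete_algClosed_extension (O : Type u) [CommRing O] [IsNoetherianRing O]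
    [IsLocalRing O] :
    ∃ (B : Type u) (_ : CommRing B) (_ : Algebra O B) (_ : IsNoetherianRing B) (_ : IsLocalRing B),
      IsAdicComplete (maximalIdeal B) B ∧ IsAlgClosed (ResidueField B) ∧
        Module.FaithfullyFlat O B := by
  classical
  let K := AlgebraicClosure (ResidueField O)
  obtain ⟨B₀, _, _, hN, hL, hloc, hflat, e, he⟩ := Groth.Agent.S2363.result (A := O) K
  -- the maximal ideal of `B₀`
  have hfield : IsField (B₀ ⧸ (maximalIdeal O).map (algebraMap O B₀)) :=
    e.toMulEquiv.isField (Field.toIsField K)
  have hmax : ((maximalIdeal O).map (algebraMap O B₀)).IsMaximal :=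
    Ideal.Quotient.maximal_of_isField _ hfield
  have hm : maximalIdeal B₀ = (maximalIdeal O).map (algebraMap O B₀) :=
    (IsLocalRing.eq_maximalIdeal hmax).symm
  let B := AdicCompletion (maximalIdeal B₀) B₀
  haveI : IsScalarTower O B₀ B := IsScalarTower.of_algebraMap_eq (fun _ => rfl)
  haveI : IsNoetherianRing B := Groth.Agent.Lib.AdicNoeth.isNoetherianRing_adicCompletion _
  refine ⟨B, inferInstance, inferInstance, inferInstance, inferInstance, inferInstance, ?_, ?_⟩
  · -- residue field
    let e1 : ResidueField B₀ ≃+* ResidueField B :=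
      RingEquiv.ofBijective _ (AdicCompletion.residueField_map_bijective B₀)
    let e2 : ResidueField B₀ ≃+* K :=
      (Ideal.quotEquivOfEq hm).trans e
    exact IsAlgClosed.of_ringEquiv K (ResidueField B) (e2.symm.trans e1)
  · haveI : Module.Flat O B := Module.Flat.trans O B₀ B
    haveI : IsLocalHom (algebraMap O B) := by
      have : algebraMap O B = (algebraMap B₀ B).comp (algebraMap O B₀) :=
        IsScalarTower.algebraMap_eq O B₀ B
      rw [this]
      infer_instance
    exact Module.FaithfullyFlat.of_flat_of_isLocalHom


section Main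

variable {S S' : Scheme.{u}} (g : S' ⟶ S) (D : SchDDFam (fun _ : PUnit.{1} => g))

/-- **SGA 1 IX: over a locally Noetherian base, effectivity of an étale separated finitely
presented descent datum along a universally submersive morphism of finite presentation can be
checked over complete Noetherian local rings with algebraically closed residue field** (S5127). -/
theorem etale_effective_iff_complete_algClosed [IsLocallyNoetherian S]
    (hg : SGA1.UnivSubmersive g)
    [LocallyOfFinitePresentation g] [QuasiCompact g] [QuasiSeparated g]
    [Etale (D.obj PUnit.unit).hom] [QuasiCompact (D.obj PUnit.unit).hom]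
    [IsSeparated (D.obj PUnit.unit).hom] :
    (∃ U : Over S, Etale U.hom ∧ Nonempty ((toDDFam (fun _ : PUnit.{1} => g)).obj U ≅ D)) ↔
      ∀ (B : Type u) [CommRing B] [IsNoetherianRing B] [IsLocalRing B]
        [IsAdicComplete (IsLocalRing.maximalIdeal B) B] [IsAlgClosed (IsLocalRing.ResidueField B)]
        (q : Spec (CommRingCat.of B) ⟶ S), (∃ U : Over (Spec (CommRingCat.of B)), Etale U.hom ∧
          Nonempty ((toDDFam (fun _ : PUnit.{1} => pullback.snd g q)).obj U ≅
            (bcFunctor (fun _ : PUnit.{1} => g) q).obj D)) := by
  constructor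
  · intro H B _ _ _ _ _ q
    exact exists_etale_iso_bc g D q H
  · intro H
    refine (etale_effective_iff_stalks g D hg).mpr fun a => ?_
    let O : CommRingCat.{u} := S.presheaf.stalk a
    obtain ⟨B, _, _, _, _, hcomp, hac, hff⟩ := exists_complete_algClosed_extension O
    let q : Spec (CommRingCat.of B) ⟶ Spec O := Spec.map (CommRingCat.ofHom (algebraMap O B))
    obtain ⟨U₁, hU₁, ⟨e₁⟩⟩ := H B (q ≫ S.fromSpecStalk a)
    have hq := (flat_and_surjective_SpecMap_iff (CommRingCat.ofHom (algebraMap O B))).mpr
      ((RingHom.faithfullyFlat_algebraMap_iff).mpr hff)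
    haveI : Flat q := hq.1
    haveI : Surjective q := hq.2
    let D' : SchDDFam (fun _ : PUnit.{u + 1} => g) := (oneChange.{0, u} g).obj D
    let π : (D.obj PUnit.unit).left ⟶ S' := (D.obj PUnit.unit).hom
    let h₁ := q ≫ S.fromSpecStalk a
    have e₁' := oneUp g D h₁ U₁ e₁
    have hg₁ : SGA1.UnivSubmersive (pullback.snd g h₁) := MorphismProperty.pullback_snd _ _ hg
    haveI : Surjective (pullback.snd g h₁) := surjective_of_univSubmersive hg₁
    haveI : QuasiCompact ((bcDD h₁ D').obj PUnit.unit).hom :=
      inferInstanceAs (QuasiCompact (pullback.snd π (pullback.fst g h₁)))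
    haveI : QuasiSeparated ((bcDD h₁ D').obj PUnit.unit).hom :=
      inferInstanceAs (QuasiSeparated (pullback.snd π (pullback.fst g h₁)))
    haveI : IsSeparated ((bcDD h₁ D').obj PUnit.unit).hom :=
      inferInstanceAs (IsSeparated (pullback.snd π (pullback.fst g h₁)))
    obtain ⟨hqc, -⟩ := quasiCompact_quasiSeparated_of_iso (pullback.snd g h₁) U₁ (bcDD h₁ D') e₁'
    haveI : IsSeparated U₁.hom := by
      haveI : IsIso (e₁'.hom.hom PUnit.unit).left := by
        haveI : IsIso (e₁'.hom.hom PUnit.unit) :=
          ⟨(e₁'.inv.hom PUnit.unit), by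
            rw [← SchDDFam.comp_hom, e₁'.hom_inv_id, SchDDFam.id_hom], by
            rw [← SchDDFam.comp_hom, e₁'.inv_hom_id, SchDDFam.id_hom]⟩
        exact inferInstanceAs (IsIso ((Over.forget _).map (e₁'.hom.hom PUnit.unit)))
      have hw : (e₁'.hom.hom PUnit.unit).left ≫ ((bcDD h₁ D').obj PUnit.unit).hom =
          pullback.fst (pullback.snd g h₁) U₁.hom := Over.w (e₁'.hom.hom PUnit.unit)
      have h1 : IsSeparated (pullback.fst (pullback.snd g h₁) U₁.hom) := by
        rw [← hw]; infer_instance
      exact MorphismProperty.of_pullback_fst_of_descendsAlong (P := @IsSeparated)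
        (Q := SGA1.UnivSubmersive) hg₁ h1
    obtain ⟨U, hU, -, -, ⟨e⟩⟩ := exists_etale_iso_of_fpqc_baseChange_over g hg D'
      (S.fromSpecStalk a) q U₁ e₁'
    exact ⟨U, hU, ⟨oneDown g D _ U e⟩⟩

end Main

end Groth.Agent.Lib.EffDescFamH52
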