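import Groth.Agent.Lib.EffDescQFinLocalH52
import Groth.Agent.Lib.EffDescEtSubmComplH52

/-!
# SGA 1 IX 4.9: universally submersive quasi-finite morphisms of finite type over a locally
Noetherian base are morphisms of effective descent for étale separated quasi-compact schemes
(helper52)

* `exists_complete_algClosed_extension'`: the extension of `EffDescEtSubmComplH52` with the extra
  information `𝔪_O B = 𝔪_B`.
* `Eff g D₁ h`: the descent datum `D₁` becomes effective (by an étale scheme) after the base change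
  `h : B ⟶ S`; `Eff.comp`, `Eff.of_openCover`, `Eff.of_fpqc`.
* `exists_mem_compl_forall_generization`: a proper open subset `G` of a scheme has a point
  `a ∉ G` all of whose proper generizations lie in `G`.
* `exists_etale_iso_of_quasiFinite`: the theorem.
-/

set_option autoImplicit false
set_option linter.style.haveILetI false
set_option backward.isDefEq.respectTransparency false
set_option backward.isDefEq.respectTransparency.types false

universe u

open CategoryTheory CategoryTheory.Limits AlgebraicGeometry Opposite IsLocalRing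

namespace Groth.Agent.Lib.EffDescFamH52

open Desc Groth.Agent.Lib.SubmDescH52

/-- **EGA 0_III 10.3.1 + completion**, with the maximal ideal. -/
theorem exists_complete_algClosed_extension' (O : Type u) [CommRing O] [IsNoetherianRing O]
    [IsLocalRing O] :
    ∃ (B : Type u) (_ : CommRing B) (_ : Algebra O B) (_ : IsNoetherianRing B) (_ : IsLocalRing B),
      IsAdicComplete (maximalIdeal B) B ∧ IsAlgClosed (ResidueField B) ∧
        Module.FaithfullyFlat O B ∧ (maximalIdeal O).map (algebraMap O B) = maximalIdeal B := by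
  classical
  let K := AlgebraicClosure (ResidueField O)
  obtain ⟨B₀, _, _, hN, hL, hloc, hflat, e, he⟩ := Groth.Agent.S2363.result (A := O) K
  have hfield : IsField (B₀ ⧸ (maximalIdeal O).map (algebraMap O B₀)) :=
    e.toMulEquiv.isField (Field.toIsField K)
  have hmax : ((maximalIdeal O).map (algebraMap O B₀)).IsMaximal :=
    Ideal.Quotient.maximal_of_isField _ hfield
  have hm : maximalIdeal B₀ = (maximalIdeal O).map (algebraMap O B₀) :=
    (IsLocalRing.eq_maximalIdeal hmax).symm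
  let B := AdicCompletion (maximalIdeal B₀) B₀
  haveI : IsScalarTower O B₀ B := IsScalarTower.of_algebraMap_eq (fun _ => rfl)
  haveI : IsNoetherianRing B := Groth.Agent.Lib.AdicNoeth.isNoetherianRing_adicCompletion _
  refine ⟨B, inferInstance, inferInstance, inferInstance, inferInstance, inferInstance, ?_, ?_, ?_⟩
  · let e1 : ResidueField B₀ ≃+* ResidueField B :=
      RingEquiv.ofBijective _ (AdicCompletion.residueField_map_bijective B₀)
    let e2 : ResidueField B₀ ≃+* K :=
      (Ideal.quotEquivOfEq hm).trans e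
    exact IsAlgClosed.of_ringEquiv K (ResidueField B) (e2.symm.trans e1)
  · haveI : Module.Flat O B := Module.Flat.trans O B₀ B
    haveI : IsLocalHom (algebraMap O B) := by
      have : algebraMap O B = (algebraMap B₀ B).comp (algebraMap O B₀) :=
        IsScalarTower.algebraMap_eq O B₀ B
      rw [this]
      infer_instance
    exact Module.FaithfullyFlat.of_flat_of_isLocalHom
  · have h1 : maximalIdeal B = (maximalIdeal B₀).map (algebraMap B₀ B) :=
      AdicCompletion.maximalIdeal_eq_map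
    have h2 : (maximalIdeal B₀).map (algebraMap B₀ B) =
        ((maximalIdeal O).map (algebraMap O B₀)).map (algebraMap B₀ B) :=
      congrArg (Ideal.map (algebraMap B₀ B)) hm
    rw [h1, h2, Ideal.map_map, ← IsScalarTower.algebraMap_eq O B₀ B]

theorem eq_closedPoint_of_map_maximalIdeal {O B : Type u} [CommRing O] [IsLocalRing O]
    [CommRing B] [IsLocalRing B] [Algebra O B]
    (hm : (maximalIdeal O).map (algebraMap O B) = maximalIdeal B)
    (y : ↥(Spec (CommRingCat.of B)))
    (hy : Spec.map (CommRingCat.ofHom (algebraMap O B)) y = closedPoint O) :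
    y = closedPoint B := by
  have h1 : y.asIdeal.comap (algebraMap O B) = maximalIdeal O :=
    congrArg PrimeSpectrum.asIdeal hy
  have h2 : maximalIdeal B ≤ y.asIdeal := by
    rw [← hm, Ideal.map_le_iff_le_comap, h1]
  apply PrimeSpectrum.ext
  exact ((maximalIdeal.isMaximal B).eq_of_le y.2.ne_top h2).symm

/-- A proper open subset `G` of a scheme has a point outside `G` all of whose proper
generizations lie in `G`. -/
theorem exists_mem_compl_forall_generization {S : Scheme.{u}} (G : S.Opens) (hG : G ≠ ⊤) :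
    ∃ a : S, a ∉ G ∧ ∀ y : ↥(Spec (S.presheaf.stalk a)),
      y ≠ closedPoint (S.presheaf.stalk a) → S.fromSpecStalk a y ∈ G := by
  classical
  obtain ⟨a₀, ha₀⟩ : ∃ a₀ : S, a₀ ∉ G := by
    by_contra hcon
    exact hG (eq_top_iff.mpr fun x _ => by
      by_contra hx
      exact hcon ⟨x, hx⟩)
  let A₀ := S.presheaf.stalk a₀
  let f₀ := S.fromSpecStalk a₀
  let Z' : Set (PrimeSpectrum A₀) := f₀ ⁻¹' ((G : Set S)ᶜ)
  have hZ' : IsClosed Z' := (G.2.isClosed_compl).preimage f₀.continuous
  let I : Ideal A₀ := PrimeSpectrum.vanishingIdeal Z'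
  have hzl : PrimeSpectrum.zeroLocus (I : Set A₀) = Z' := by
    rw [PrimeSpectrum.zeroLocus_vanishingIdeal_eq_closure, hZ'.closure_eq]
  have hcl : closedPoint A₀ ∈ Z' := by
    change f₀ (closedPoint A₀) ∈ (G : Set S)ᶜ
    rw [Scheme.fromSpecStalk_closedPoint]
    exact ha₀
  have hIle : I ≤ maximalIdeal A₀ := by
    rw [← hzl] at hcl
    exact hcl
  obtain ⟨P, hPmin, hPle⟩ := Ideal.exists_minimalPrimes_le hIle
  haveI hPprime : P.IsPrime := hPmin.1.1
  let Pt : PrimeSpectrum A₀ := ⟨P, hPprime⟩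
  have hPt : Pt ∈ Z' := by
    rw [← hzl]
    exact hPmin.1.2
  refine ⟨f₀ Pt, hPt, fun y hy => ?_⟩
  by_contra hnot
  let a := f₀ Pt
  let f := S.fromSpecStalk a
  have h1 : f y ⤳ a :=
    ((IsLocalRing.specializes_closedPoint y).map f.continuous).trans
      (specializes_of_eq Scheme.fromSpecStalk_closedPoint)
  have h2 : a ⤳ a₀ :=
    ((IsLocalRing.specializes_closedPoint Pt).map f₀.continuous).trans
      (specializes_of_eq Scheme.fromSpecStalk_closedPoint)
  have h3 : f y ∈ Set.range f₀ := by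
    rw [Scheme.range_fromSpecStalk]
    exact h1.trans h2
  obtain ⟨Q, hQ⟩ := h3
  have hQZ : Q ∈ Z' := by
    change f₀ Q ∈ (G : Set S)ᶜ
    rw [hQ]
    exact hnot
  have hIQ : I ≤ Q.asIdeal := by
    rw [← hzl] at hQZ
    exact hQZ
  have hQP : Q ⤳ Pt := by
    rw [← f₀.isEmbedding.isInducing.specializes_iff, hQ]
    exact h1
  have hQle : Q.asIdeal ≤ P := (PrimeSpectrum.le_iff_specializes Q Pt).mpr hQP
  have hPQ : P ≤ Q.asIdeal := hPmin.2 ⟨Q.2, hIQ⟩ hQle
  have hQeq : Q = Pt := PrimeSpectrum.ext (le_antisymm hQle hPQ)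
  have hfy : f y = f (closedPoint _) := by
    rw [Scheme.fromSpecStalk_closedPoint, ← hQ, hQeq]
  exact hy (f.isEmbedding.injective hfy)

section Eff

variable {S S' : Scheme.{u}} (g : S' ⟶ S) (D₁ : SchDDFam (fun _ : PUnit.{u + 1} => g))

/-- The descent datum `D₁` becomes effective, by an étale scheme, after the base change `h`. -/
def Eff {B : Scheme.{u}} (h : B ⟶ S) : Prop :=
  ∃ U : Over B, Etale U.hom ∧
    Nonempty ((toDDFam (fun _ : PUnit.{u + 1} => pullback.snd g h)).obj U ≅ bcDD h D₁)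

variable {g D₁}

theorem Eff.comp (hg : SGA1.UnivSubmersive g) {B B₂ : Scheme.{u}} {h : B ⟶ S} (H : Eff g D₁ h)
    (k : B₂ ⟶ B) : Eff g D₁ (k ≫ h) := by
  obtain ⟨U, hU, ⟨e⟩⟩ := H
  have hgh : SGA1.UnivSubmersive (pullback.snd g h) := MorphismProperty.pullback_snd _ _ hg
  have H1 := isUnivOver_of_iso (D := D₁) (h := h) U e (fun T =>
    Groth.Agent.Lib.EffDescH52.toDDFam_map_bijective_of_etale.{u} (pullback.snd g h) hgh T U)
  have H2 := H1.baseChange k (k ≫ h) rfl
  obtain ⟨e'⟩ := exists_iso_of_isUnivOver _ _ H2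
  exact ⟨Over.mk (pullback.snd U.hom k), inferInstanceAs (Etale (pullback.snd U.hom k)), ⟨e'⟩⟩

theorem Eff.of_openCover (hg : SGA1.UnivSubmersive g) {B : Scheme.{u}} (h : B ⟶ S)
    (𝒮 : Scheme.OpenCover.{u} B) (H : ∀ a, Eff g D₁ (𝒮.f a ≫ h)) : Eff g D₁ h := by
  have hgh : SGA1.UnivSubmersive (pullback.snd g h) := MorphismProperty.pullback_snd _ _ hg
  apply exists_etale_iso_of_openCover (pullback.snd g h) hgh (bcDD h D₁) 𝒮
  intro a
  obtain ⟨Ua, hUa, ⟨ea⟩⟩ := H a
  have hga : SGA1.UnivSubmersive (pullback.snd g (𝒮.f a ≫ h)) :=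
    MorphismProperty.pullback_snd _ _ hg
  have H1 := isUnivOver_of_iso (D := D₁) (h := 𝒮.f a ≫ h) Ua ea (fun T =>
    Groth.Agent.Lib.EffDescH52.toDDFam_map_bijective_of_etale.{u} (pullback.snd g (𝒮.f a ≫ h))
      hga T Ua)
  have H2 := H1.toBc
  obtain ⟨e'⟩ := exists_iso_of_isUnivOver _ _ H2
  exact ⟨Over.mk Ua.hom, hUa, ⟨e'⟩⟩

/-- Separatedness and quasi-compactness descend to the scheme defining a canonical descent
datum. -/
theorem quasiCompact_isSeparated_of_iso {B S'B : Scheme.{u}} (gB : S'B ⟶ B)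
    (hgB : SGA1.UnivSubmersive gB) [QuasiCompact gB] (U : Over B)
    (D : SchDDFam (fun _ : PUnit.{u + 1} => gB))
    [QuasiCompact (D.obj PUnit.unit).hom] [IsSeparated (D.obj PUnit.unit).hom]
    (e : (toDDFam (fun _ : PUnit.{u + 1} => gB)).obj U ≅ D) :
    QuasiCompact U.hom ∧ IsSeparated U.hom := by
  haveI : Surjective gB := surjective_of_univSubmersive hgB
  obtain ⟨hqc, -⟩ := quasiCompact_quasiSeparated_of_iso gB U D e
  refine ⟨hqc, ?_⟩
  haveI : IsIso (e.hom.hom PUnit.unit).left := by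
    haveI : IsIso (e.hom.hom PUnit.unit) :=
      ⟨(e.inv.hom PUnit.unit), by
        rw [← SchDDFam.comp_hom, e.hom_inv_id, SchDDFam.id_hom], by
        rw [← SchDDFam.comp_hom, e.inv_hom_id, SchDDFam.id_hom]⟩
    exact inferInstanceAs (IsIso ((Over.forget _).map (e.hom.hom PUnit.unit)))
  have hw : (e.hom.hom PUnit.unit).left ≫ (D.obj PUnit.unit).hom = pullback.fst gB U.hom :=
    Over.w (e.hom.hom PUnit.unit)
  have h1 : IsSeparated (pullback.fst gB U.hom) := by
    rw [← hw]; infer_instance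
  exact MorphismProperty.of_pullback_fst_of_descendsAlong (P := @IsSeparated)
    (Q := SGA1.UnivSubmersive) hgB h1

theorem Eff.of_fpqc (hg : SGA1.UnivSubmersive g) [QuasiCompact g]
    [QuasiCompact (D₁.obj PUnit.unit).hom]
    [IsSeparated (D₁.obj PUnit.unit).hom] {B B₁ : Scheme.{u}} (h : B ⟶ S) (q : B₁ ⟶ B)
    [Flat q] [Surjective q] [QuasiCompact q] (H : Eff g D₁ (q ≫ h)) : Eff g D₁ h := by
  obtain ⟨U₁, hU₁, ⟨e₁⟩⟩ := H
  let π : (D₁.obj PUnit.unit).left ⟶ S' := (D₁.obj PUnit.unit).hom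
  have hg₁ : SGA1.UnivSubmersive (pullback.snd g (q ≫ h)) := MorphismProperty.pullback_snd _ _ hg
  haveI : QuasiCompact ((bcDD (q ≫ h) D₁).obj PUnit.unit).hom :=
    inferInstanceAs (QuasiCompact (pullback.snd π (pullback.fst g (q ≫ h))))
  haveI : IsSeparated ((bcDD (q ≫ h) D₁).obj PUnit.unit).hom :=
    inferInstanceAs (IsSeparated (pullback.snd π (pullback.fst g (q ≫ h))))
  obtain ⟨hqc, hsep⟩ := quasiCompact_isSeparated_of_iso (pullback.snd g (q ≫ h)) hg₁ U₁
    (bcDD (q ≫ h) D₁) e₁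
  obtain ⟨U, hU, -, -, ⟨e⟩⟩ := exists_etale_iso_of_fpqc_baseChange_over g hg D₁ h q U₁ e₁
  exact ⟨U, hU, ⟨e⟩⟩

end Eff

section Main

variable {S S' : Scheme.{u}} (g : S' ⟶ S)

/-- **SGA 1 IX 4.9** (family form, index universe `u`). -/
theorem exists_etale_iso_of_quasiFinite [IsLocallyNoetherian S] (hg : SGA1.UnivSubmersive g)
    [LocallyOfFiniteType g] [QuasiCompact g] [LocallyQuasiFinite g]
    (D₁ : SchDDFam (fun _ : PUnit.{u + 1} => g)) [Etale (D₁.obj PUnit.unit).hom]
    [QuasiCompact (D₁.obj PUnit.unit).hom] [IsSeparated (D₁.obj PUnit.unit).hom] :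
    ∃ U : Over S, Etale U.hom ∧ QuasiCompact U.hom ∧ IsSeparated U.hom ∧
      Nonempty ((toDDFam (fun _ : PUnit.{u + 1} => g)).obj U ≅ D₁) := by
  classical
  haveI : IsLocallyNoetherian S' := LocallyOfFiniteType.isLocallyNoetherian g
  haveI : QuasiSeparated g := QuasiSeparated.of_quasiSeparatedSpace g
  haveI : LocallyOfFinitePresentation g := inferInstance
  let J : Type u := {W : S.Opens // Eff g D₁ W.ι}
  let G : S.Opens := ⨆ W : J, W.1
  have hG : G = ⊤ := by
    by_contra hne
    obtain ⟨a, haG, hgen⟩ := exists_mem_compl_forall_generization G hne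
    let A : Type u := S.presheaf.stalk a
    obtain ⟨B, _, _, _, _, hcomp, hac, hff, hmax⟩ := exists_complete_algClosed_extension' A
    let q : Spec (CommRingCat.of B) ⟶ Spec (S.presheaf.stalk a) :=
      Spec.map (CommRingCat.ofHom (algebraMap A B))
    have hq := (flat_and_surjective_SpecMap_iff (CommRingCat.ofHom (algebraMap A B))).mpr
      ((RingHom.faithfullyFlat_algebraMap_iff).mpr hff)
    haveI : Flat q := hq.1
    haveI : Surjective q := hq.2
    let f : Spec (S.presheaf.stalk a) ⟶ S := S.fromSpecStalk a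
    let h : Spec (CommRingCat.of B) ⟶ S := q ≫ f
    let 𝒪 : (Spec (CommRingCat.of B)).Opens := h ⁻¹ᵁ G
    have h𝒪 : ∀ y : ↥(Spec (CommRingCat.of B)), y ∉ 𝒪 → y = closedPoint B := by
      intro y hy
      apply eq_closedPoint_of_map_maximalIdeal hmax y
      by_contra hqy
      exact hy (hgen (q y) hqy)
    -- effectivity over the punctured spectrum
    have hEff𝒪 : Eff g D₁ (𝒪.ι ≫ h) := by
      let V : J → (𝒪 : Scheme.{u}).Opens := fun W => (𝒪.ι ≫ h) ⁻¹ᵁ W.1
      have hV : ⨆ W, V W = ⊤ := by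
        rw [eq_top_iff]
        intro z _
        have hz : (𝒪.ι ≫ h) z ∈ G := by
          rw [Scheme.Hom.comp_apply]
          have hz0 : 𝒪.ι z ∈ (𝒪 : Set ↥(Spec (CommRingCat.of B))) := by
            rw [← Scheme.Opens.range_ι]
            exact ⟨z, rfl⟩
          exact hz0
        obtain ⟨W, hW⟩ := TopologicalSpace.Opens.mem_iSup.mp hz
        exact TopologicalSpace.Opens.mem_iSup.mpr ⟨W, hW⟩
      apply Eff.of_openCover hg (𝒪.ι ≫ h) ((𝒪 : Scheme.{u}).openCoverOfIsOpenCover V hV)
      intro W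
      change Eff g D₁ ((V W).ι ≫ 𝒪.ι ≫ h)
      have hr : Set.range ((V W).ι ≫ 𝒪.ι ≫ h) ⊆ Set.range W.1.ι := by
        rintro _ ⟨z, rfl⟩
        rw [Scheme.Opens.range_ι]
        exact z.2
      have hfac : IsOpenImmersion.lift W.1.ι ((V W).ι ≫ 𝒪.ι ≫ h) hr ≫ W.1.ι =
          (V W).ι ≫ 𝒪.ι ≫ h := IsOpenImmersion.lift_fac _ _ _
      rw [← hfac]
      exact W.2.comp hg _
    obtain ⟨U, hU, ⟨e⟩⟩ := hEff𝒪
    have hB : HenselianLocalRing B :=
      Groth.Agent.Lib.HenselizationNoeth.henselianLocalRing_of_henselianRing B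
    have hEffh : Eff g D₁ h := exists_etale_iso_of_punctured g hg D₁ B hB h 𝒪 h𝒪 U e
    have hEfff : Eff g D₁ f := Eff.of_fpqc hg f q hEffh
    obtain ⟨Ua, hUa, ⟨ea⟩⟩ := hEfff
    obtain ⟨W, haW, UW, hUW, ⟨eW⟩⟩ := exists_etale_iso_nbhd_of_stalk g hg D₁ a Ua ea
    have hWG : W ≤ G := le_iSup_of_le (⟨W, ⟨UW, hUW, ⟨eW⟩⟩⟩ : J) le_rfl
    exact haG (hWG haW)
  obtain ⟨U, hU, ⟨e⟩⟩ := exists_etale_iso_of_openCover g hg D₁
    (S.openCoverOfIsOpenCover (fun W : J => W.1) hG) (fun W => W.2)
  obtain ⟨hqc, hsep⟩ := quasiCompact_isSeparated_of_iso g hg U D₁ e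
  exact ⟨U, hU, hqc, hsep, ⟨e⟩⟩

end Main

end Groth.Agent.Lib.EffDescFamH52
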