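import Groth.Agent.Lib.EffDescQFinLocal2H52
import Groth.Agent.Lib.EffDescQFinH52

/-!
# Effective descent of étale separated quasi-compact schemes along universally submersive
morphisms of finite type admitting finite local quasi-sections (helper52)

`exists_etale_iso_of_charts`: `S` locally Noetherian, `g : S' ⟶ S` universally submersive of finite
type.  Suppose that for every henselian Noetherian local ring `B` and every `h : Spec B ⟶ S` there
are finitely many finite local `B`-algebras `R_i` with `B`-morphisms `Spec R_i ⟶ S' ×_S Spec B`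
such that the `Spec R_i` jointly cover `Spec B`.  Then `g` is a morphism of effective descent for
étale, separated, quasi-compact schemes.  (The common skeleton of SGA 1 IX 4.9 and 4.12.)
-/

set_option autoImplicit false
set_option linter.style.haveILetI false
set_option backward.isDefEq.respectTransparency false
set_option backward.isDefEq.respectTransparency.types false

universe u

open CategoryTheory CategoryTheory.Limits AlgebraicGeometry Opposite IsLocalRing

namespace Groth.Agent.Lib.EffDescFamH52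

open Desc Groth.Agent.Lib.SubmDescH52

section Main

variable {S S' : Scheme.{u}} (g : S' ⟶ S)

theorem exists_etale_iso_of_charts [IsLocallyNoetherian S] (hg : SGA1.UnivSubmersive g)
    [LocallyOfFiniteType g] [QuasiCompact g]
    (D₁ : SchDDFam (fun _ : PUnit.{u + 1} => g)) [Etale (D₁.obj PUnit.unit).hom]
    [QuasiCompact (D₁.obj PUnit.unit).hom] [IsSeparated (D₁.obj PUnit.unit).hom]
    (hcharts : ∀ (B : Type u) [CommRing B] [IsLocalRing B] [IsNoetherianRing B]
      (_ : HenselianLocalRing B) (h : Spec (CommRingCat.of B) ⟶ S),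
      ∃ (ι : Type u) (_ : Finite ι)
        (ch : ι → Groth.Agent.Lib.EffDescH52.FinChart B (pullback.snd g h)),
        ∀ s : ↥(Spec (CommRingCat.of B)),
          ∃ i, s ∈ Set.range (Spec.map (CommRingCat.ofHom (algebraMap B (ch i).R)))) :
    ∃ U : Over S, Etale U.hom ∧ QuasiCompact U.hom ∧ IsSeparated U.hom ∧
      Nonempty ((toDDFam (fun _ : PUnit.{u + 1} => g)).obj U ≅ D₁) := by
  classical
  haveI : IsLocallyNoetherian S' := LocallyOfFiniteType.isLocallyNoetherian g
  haveI : QuasiSeparated g := QuasiSeparated.of_quasiSeparatedSpace g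
  haveI : LocallyOfFinitePresentation g := inferInstance
  let J : Type u := {W : S.Opens // Eff g D₁ W.ι}
  let G : S.Opens := ⨆ W : J, W.1
  have hG : G = ⊤ := by
    by_contra hne
    obtain ⟨a, haG, hgen⟩ := exists_mem_compl_forall_generization G hne
    let A : Type u := S.presheaf.stalk a
    obtain ⟨B, _, _, _, _, hcomp, hac, hff, hmax⟩ := exists_complete_algClosed_extension' A
    let q : Spec (CommRingCat.of B) ⟶ Spec (S.presheaf.stalk a) :=
      Spec.map (CommRingCat.ofHom (algebraMap A B))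
    have hq := (flat_and_surjective_SpecMap_iff (CommRingCat.ofHom (algebraMap A B))).mpr
      ((RingHom.faithfullyFlat_algebraMap_iff).mpr hff)
    haveI : Flat q := hq.1
    haveI : Surjective q := hq.2
    let f : Spec (S.presheaf.stalk a) ⟶ S := S.fromSpecStalk a
    let h : Spec (CommRingCat.of B) ⟶ S := q ≫ f
    let 𝒪 : (Spec (CommRingCat.of B)).Opens := h ⁻¹ᵁ G
    have h𝒪 : ∀ y : ↥(Spec (CommRingCat.of B)), y ∉ 𝒪 → y = closedPoint B := by
      intro y hy
      apply eq_closedPoint_of_map_maximalIdeal hmax y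
      by_contra hqy
      exact hy (hgen (q y) hqy)
    -- effectivity over the punctured spectrum
    have hEff𝒪 : Eff g D₁ (𝒪.ι ≫ h) := by
      let V : J → (𝒪 : Scheme.{u}).Opens := fun W => (𝒪.ι ≫ h) ⁻¹ᵁ W.1
      have hV : ⨆ W, V W = ⊤ := by
        rw [eq_top_iff]
        intro z _
        have hz : (𝒪.ι ≫ h) z ∈ G := by
          rw [Scheme.Hom.comp_apply]
          have hz0 : 𝒪.ι z ∈ (𝒪 : Set ↥(Spec (CommRingCat.of B))) := by
            rw [← Scheme.Opens.range_ι]
            exact ⟨z, rfl⟩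
          exact hz0
        obtain ⟨W, hW⟩ := TopologicalSpace.Opens.mem_iSup.mp hz
        exact TopologicalSpace.Opens.mem_iSup.mpr ⟨W, hW⟩
      apply Eff.of_openCover hg (𝒪.ι ≫ h) ((𝒪 : Scheme.{u}).openCoverOfIsOpenCover V hV)
      intro W
      change Eff g D₁ ((V W).ι ≫ 𝒪.ι ≫ h)
      have hr : Set.range ((V W).ι ≫ 𝒪.ι ≫ h) ⊆ Set.range W.1.ι := by
        rintro _ ⟨z, rfl⟩
        rw [Scheme.Opens.range_ι]
        exact z.2
      have hfac : IsOpenImmersion.lift W.1.ι ((V W).ι ≫ 𝒪.ι ≫ h) hr ≫ W.1.ι =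
          (V W).ι ≫ 𝒪.ι ≫ h := IsOpenImmersion.lift_fac _ _ _
      rw [← hfac]
      exact W.2.comp hg _
    obtain ⟨U, hU, ⟨e⟩⟩ := hEff𝒪
    have hB : HenselianLocalRing B :=
      Groth.Agent.Lib.HenselizationNoeth.henselianLocalRing_of_henselianRing B
    obtain ⟨ι, hι, ch, hsurj⟩ := hcharts B hB h
    have hEffh : Eff g D₁ h :=
      exists_etale_iso_of_punctured_of_charts g hg D₁ B hB h 𝒪 h𝒪 U e ch hsurj
    have hEfff : Eff g D₁ f := Eff.of_fpqc hg f q hEffh
    obtain ⟨Ua, hUa, ⟨ea⟩⟩ := hEfff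
    obtain ⟨W, haW, UW, hUW, ⟨eW⟩⟩ := exists_etale_iso_nbhd_of_stalk g hg D₁ a Ua ea
    have hWG : W ≤ G := le_iSup_of_le (⟨W, ⟨UW, hUW, ⟨eW⟩⟩⟩ : J) le_rfl
    exact haG (hWG haW)
  obtain ⟨U, hU, ⟨e⟩⟩ := exists_etale_iso_of_openCover g hg D₁
    (S.openCoverOfIsOpenCover (fun W : J => W.1) hG) (fun W => W.2)
  obtain ⟨hqc, hsep⟩ := quasiCompact_isSeparated_of_iso g hg U D₁ e
  exact ⟨U, hU, hqc, hsep, ⟨e⟩⟩

end Main

end Groth.Agent.Lib.EffDescFamH52
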