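import Mathlib
import Groth.Prelude.Def_SGA1

set_option autoImplicit false
universe u
open CategoryTheory CategoryTheory.Limits AlgebraicGeometry MorphismProperty Topology

namespace Groth.Agent.Lib.SubmDescH52

instance : (SGA1.UnivSubmersive.{u}).IsStableUnderBaseChange :=
  universally_isStableUnderBaseChange _

instance : (SGA1.UnivSubmersive.{u}).RespectsIso :=
  universally_respectsIso _

theorem isQuotientMap_snd {X S S' : Scheme.{u}} {g : S' ⟶ S} (hg : SGA1.UnivSubmersive g)
    (f : X ⟶ S) : IsQuotientMap (pullback.snd g f) :=
  hg _ _ _ (IsPullback.of_hasPullback g f).flip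

theorem isQuotientMap_fst {X S S' : Scheme.{u}} {g : S' ⟶ S} (hg : SGA1.UnivSubmersive g)
    (f : X ⟶ S) : IsQuotientMap (pullback.fst f g) :=
  hg _ _ _ (IsPullback.of_hasPullback f g)

theorem isQuotientMap_of_univSubmersive {S S' : Scheme.{u}} {g : S' ⟶ S}
    (hg : SGA1.UnivSubmersive g) : IsQuotientMap g :=
  hg _ _ _ (IsPullback.of_vert_isIso (fst := g) (snd := 𝟙 S') (f := 𝟙 S) (g := g) ⟨by simp⟩)

theorem surjective_of_univSubmersive {S S' : Scheme.{u}} {g : S' ⟶ S}
    (hg : SGA1.UnivSubmersive g) : Surjective g :=
  ⟨(isQuotientMap_of_univSubmersive hg).surjective⟩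

/-- Universally closed descends along universally submersive morphisms. -/
instance descendsAlong_universallyClosed :
    DescendsAlong @UniversallyClosed SGA1.UnivSubmersive.{u} := by
  have : RespectsIso @UniversallyClosed := universallyClosed_respectsIso
  apply DescendsAlong.mk'
  intro S' X S g f _ hg hfst
  have : UniversallyClosed (pullback.fst g f) := hfst
  refine ⟨universally_mk' _ _ fun {T} t _ s hs ↦ ?_⟩
  let p := pullback.fst (pullback.fst g t) (pullback.fst g f)
  let r : pullback (pullback.fst g t) (pullback.fst g f) ⟶ pullback t f :=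
    pullback.map _ _ _ _ (pullback.snd _ _) (pullback.snd _ _) g (pullback.condition ..)
      (pullback.condition ..)
  have : IsClosed ((pullback.snd g t).base ⁻¹' ((pullback.fst t f).base '' s)) := by
    rw [← Scheme.image_preimage_eq_of_isPullback (isPullback_map_snd_snd ..)]
    exact p.isClosedMap _ (hs.preimage r.continuous)
  rwa [(isQuotientMap_snd hg t).isClosed_preimage] at this

/-- Universally open descends along universally submersive morphisms. -/
instance descendsAlong_universallyOpen :
    DescendsAlong @UniversallyOpen SGA1.UnivSubmersive.{u} := by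
  apply DescendsAlong.mk'
  intro S' X S g f _ hg hfst
  have : UniversallyOpen (pullback.fst g f) := hfst
  refine ⟨universally_mk' _ _ fun {T} t _ s hs ↦ ?_⟩
  let p := pullback.fst (pullback.fst g t) (pullback.fst g f)
  let r : pullback (pullback.fst g t) (pullback.fst g f) ⟶ pullback t f :=
    pullback.map _ _ _ _ (pullback.snd _ _) (pullback.snd _ _) g (pullback.condition ..)
      (pullback.condition ..)
  have : IsOpen ((pullback.snd g t).base ⁻¹' ((pullback.fst t f).base '' s)) := by
    rw [← Scheme.image_preimage_eq_of_isPullback (isPullback_map_snd_snd ..)]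
    exact p.isOpenMap _ (hs.preimage r.continuous)
  rwa [(isQuotientMap_snd hg t).isOpen_preimage] at this

/-- Surjectivity descends along surjective (in particular universally submersive) morphisms. -/
instance descendsAlong_surjective : DescendsAlong @Surjective SGA1.UnivSubmersive.{u} := by
  apply DescendsAlong.mk'
  intro S' X S g f _ hg hfst
  have : Surjective (pullback.fst g f) := hfst
  have : Surjective g := surjective_of_univSubmersive hg
  have h : Surjective (pullback.fst g f ≫ g) := inferInstance
  rw [pullback.condition] at h
  exact Surjective.of_comp (pullback.snd g f) f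

set_option backward.isDefEq.respectTransparency.types false in
/-- Separatedness descends along universally submersive morphisms. -/
instance descendsAlong_isSeparated : DescendsAlong @IsSeparated SGA1.UnivSubmersive.{u} := by
  have : RespectsIso @UniversallyClosed := universallyClosed_respectsIso
  have h : DescendsAlong (diagonal @UniversallyClosed) SGA1.UnivSubmersive.{u} := inferInstance
  constructor
  intro A X Y Z fst snd f g hpb hf hfst
  have h1 : (diagonal @UniversallyClosed) fst := by
    have : IsSeparated fst := hfst
    show UniversallyClosed (pullback.diagonal fst)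
    infer_instance
  have h2 : UniversallyClosed (pullback.diagonal g) := h.of_isPullback hpb hf h1
  exact ⟨IsClosedImmersion.of_isPreimmersion _ (pullback.diagonal g).isClosedMap.isClosed_range⟩

/-- Quasi-compactness descends along surjective quasi-compact morphisms. -/
theorem quasiCompact_of_isPullback {A X Y Z : Scheme.{u}} {fst : A ⟶ X} {snd : A ⟶ Y} {f : X ⟶ Z}
    {g : Y ⟶ Z} (hpb : IsPullback fst snd f g) [Surjective f] [QuasiCompact f] [QuasiCompact fst] :
    QuasiCompact g := by
  rw [quasiCompact_iff_forall_isAffineOpen]
  intro U hU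
  have hsnd : Surjective snd := MorphismProperty.of_isPullback hpb inferInstance
  have h1 : IsCompact ((f ⁻¹ᵁ U : X.Opens) : Set X) := f.isCompact_preimage hU.isCompact
  have h2 : IsCompact ((fst ⁻¹ᵁ (f ⁻¹ᵁ U) : A.Opens) : Set A) := fst.isCompact_preimage h1
  have h3 : ((g ⁻¹ᵁ U : Y.Opens) : Set Y) = snd '' ((fst ⁻¹ᵁ (f ⁻¹ᵁ U) : A.Opens) : Set A) := by
    rw [← Scheme.Hom.comp_preimage, hpb.w, Scheme.Hom.comp_preimage]
    exact (Set.image_preimage_eq _ snd.surjective).symm
  rw [h3]
  exact h2.image snd.continuous

end Groth.Agent.Lib.SubmDescH52
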