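import Groth.Agent.Lib.EtDescH52
import Groth.Agent.Lib.SubmDescH52
import Groth.Prelude.Def_DescFam

/-!
# Full faithfulness of the canonical-descent-datum functor for étale targets (helper52)

`p : X ⟶ S` universally submersive, `U₂` étale over `S`, `U₁` an ARBITRARY scheme over `S`:
`(toDD p).map : (U₁ ⟶ U₂) → (toDD p U₁ ⟶ toDD p U₂)` is bijective
(`toDD_map_surjective_of_etale`, `toDD_map_injective_of_etale`), and the same for the one-member
family version `toDDFam (fun _ : PUnit => p)` (`toDDFam_map_bijective_of_etale`).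
(SGA 1 IX 3.2; generalises S0781/S0782 where the source is étale as well.)
-/

set_option autoImplicit false
set_option linter.style.haveILetI false
set_option backward.isDefEq.respectTransparency false
set_option backward.isDefEq.respectTransparency.types false

universe w u

open CategoryTheory CategoryTheory.Limits AlgebraicGeometry Opposite

namespace Groth.Agent.Lib.EffDescH52

open Desc Groth.Agent.Lib.SubmDescH52

theorem toDD_map_surjective_of_etale {X S : Scheme.{u}} (p : X ⟶ S) (hp : SGA1.UnivSubmersive p)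
    (U₁ U₂ : Over S) [Etale U₂.hom] :
    Function.Surjective ((Desc.toDD p).map : (U₁ ⟶ U₂) → _) := by
  intro F
  obtain ⟨Fl, hFl⟩ : ∃ Fl : pullback p U₁.hom ⟶ pullback p U₂.hom, Fl = F.hom.left := ⟨_, rfl⟩
  let π : pullback p U₁.hom ⟶ U₁.left := pullback.snd p U₁.hom
  have hπq : Topology.IsQuotientMap π := isQuotientMap_snd hp U₁.hom
  have hπs : Surjective π := ⟨hπq.surjective⟩
  let h : pullback p U₁.hom ⟶ U₂.left := Fl ≫ pullback.snd p U₂.hom
  have hFw : Fl ≫ pullback.fst p U₂.hom = pullback.fst p U₁.hom := by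
    rw [hFl]; exact Over.w F.hom
  have hq : h ≫ U₂.hom = π ≫ U₁.hom := by
    show (Fl ≫ pullback.snd p U₂.hom) ≫ U₂.hom = pullback.snd p U₁.hom ≫ U₁.hom
    rw [Category.assoc, ← pullback.condition, ← Category.assoc, hFw, pullback.condition]
  -- the quotient property
  have hquot : Topology.IsQuotientMap (pullback.snd π (pullback.fst U₁.hom U₂.hom)) := by
    let prX : pullback U₁.hom U₂.hom ⟶ U₁.left := pullback.fst U₁.hom U₂.hom
    have h1 : Topology.IsQuotientMap (pullback.snd p (prX ≫ U₁.hom)) :=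
      isQuotientMap_snd hp (prX ≫ U₁.hom)
    let e := pullbackLeftPullbackSndIso p U₁.hom prX
    have he : e.hom ≫ pullback.snd p (prX ≫ U₁.hom) = pullback.snd π prX :=
      pullbackLeftPullbackSndIso_hom_snd p U₁.hom prX
    have h2 : Topology.IsQuotientMap e.hom := (Scheme.homeoOfIso e).isQuotientMap
    have h3 := h1.comp h2
    have h4 : (pullback.snd p (prX ≫ U₁.hom)) ∘ e.hom = pullback.snd π prX := by
      ext x
      exact congrArg (fun ψ : pullback π prX ⟶ pullback U₁.hom U₂.hom => ψ x) he
    rw [h4] at h3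
    exact h3
  -- the cocycle condition
  have hcoc : pullback.fst π π ≫ h = pullback.snd π π ≫ h := by
    let x₀ : pullback π π ⟶ X := pullback.fst π π ≫ pullback.fst p U₁.hom
    let x₁ : pullback π π ⟶ X := pullback.snd π π ≫ pullback.fst p U₁.hom
    have hx : x₀ ≫ p = x₁ ≫ p := by
      show (pullback.fst π π ≫ pullback.fst p U₁.hom) ≫ p =
        (pullback.snd π π ≫ pullback.fst p U₁.hom) ≫ p
      rw [Category.assoc, Category.assoc, pullback.condition (f := p)]
      show pullback.fst π π ≫ π ≫ U₁.hom = pullback.snd π π ≫ π ≫ U₁.hom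
      rw [← Category.assoc, pullback.condition, Category.assoc]
    let v : Desc.Lifts ((Desc.toDD p).obj U₁).obj x₀ := ⟨pullback.fst π π, rfl⟩
    let w : Desc.Lifts ((Desc.toDD p).obj U₂).obj x₀ := ⟨pullback.fst π π ≫ Fl, by
      show (pullback.fst π π ≫ Fl) ≫ pullback.fst p U₂.hom = x₀
      rw [Category.assoc, hFw]⟩
    have hc := F.comm x₀ x₁ hx v w
      (congrArg (fun z : pullback p U₁.hom ⟶ pullback p U₂.hom => pullback.fst π π ≫ z) hFl)
    have hc' : (Desc.canMap p U₂ x₀ x₁ hx w).1 = (Desc.canMap p U₁ x₀ x₁ hx v).1 ≫ Fl := by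
      rw [hFl]; exact hc
    have hc2 := congrArg (· ≫ pullback.snd p U₂.hom) hc'
    have l1 : (Desc.canMap p U₂ x₀ x₁ hx w).1 ≫ pullback.snd p U₂.hom =
        pullback.fst π π ≫ h := by
      rw [Desc.canMap_val, pullback.lift_snd]
      show (pullback.fst π π ≫ Fl) ≫ pullback.snd p U₂.hom = _
      rw [Category.assoc]
    have l2 : (Desc.canMap p U₁ x₀ x₁ hx v).1 = pullback.snd π π := by
      rw [Desc.canMap_val]
      apply pullback.hom_ext
      · rw [pullback.lift_fst]
      · rw [pullback.lift_snd]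
        exact pullback.condition
    have : pullback.fst π π ≫ h = (pullback.snd π π ≫ Fl) ≫ pullback.snd p U₂.hom := by
      rw [← l1, ← l2]; exact hc2
    rw [this, Category.assoc]
  obtain ⟨u, hu1, hu2⟩ :=
    Groth.Agent.Lib.EtDescH52.exists_desc_of_isQuotientMap U₁.hom U₂.hom π hquot h hq hcoc
  refine ⟨Over.homMk u hu1, ?_⟩
  apply Desc.SchDD.hom_ext
  apply Over.OverMorphism.ext
  have key : pullback.map p U₁.hom p U₂.hom (𝟙 X) u (𝟙 S) (by simp) (by simp [hu1]) = Fl := by
    apply pullback.hom_ext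
    · rw [pullback.lift_fst, Category.comp_id, hFw]
    · rw [pullback.lift_snd]
      exact hu2
  rw [hFl] at key
  exact key

theorem toDD_map_injective_of_etale {X S : Scheme.{u}} (p : X ⟶ S) [Surjective p]
    (U₁ U₂ : Over S) [Etale U₂.hom] :
    Function.Injective ((Desc.toDD p).map : (U₁ ⟶ U₂) → _) := by
  intro a b hab
  apply Over.OverMorphism.ext
  have h1 : ((Desc.toDD p).map a).hom.left = ((Desc.toDD p).map b).hom.left := by rw [hab]
  have h2 : pullback.snd p U₁.hom ≫ a.left = pullback.snd p U₁.hom ≫ b.left := by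
    have ha : ((Desc.toDD p).map a).hom.left ≫ pullback.snd p U₂.hom =
        pullback.snd p U₁.hom ≫ a.left := by
      change pullback.map p U₁.hom p U₂.hom (𝟙 X) a.left (𝟙 S) (by simp) (by simp) ≫ _ = _
      simp
    have hb : ((Desc.toDD p).map b).hom.left ≫ pullback.snd p U₂.hom =
        pullback.snd p U₁.hom ≫ b.left := by
      change pullback.map p U₁.hom p U₂.hom (𝟙 X) b.left (𝟙 S) (by simp) (by simp) ≫ _ = _
      simp
    rw [← ha, ← hb, h1]
  exact Groth.Agent.Lib.EtDescH52.eq_of_surjective_comp U₂.hom a.left b.left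
    ((Over.w a).trans (Over.w b).symm) (pullback.snd p U₁.hom) h2

theorem toDDFam_map_bijective_of_etale {X S : Scheme.{u}} (p : X ⟶ S)
    (hp : SGA1.UnivSubmersive p) (U₁ U₂ : Over S) [Etale U₂.hom] :
    Function.Bijective ((Desc.toDDFam (fun _ : PUnit.{w + 1} => p)).map : (U₁ ⟶ U₂) → _) := by
  haveI : Surjective p := surjective_of_univSubmersive hp
  constructor
  · intro a b hab
    apply toDD_map_injective_of_etale p U₁ U₂
    exact congrArg (fun F => (SchDDFam.toSchDD.{w} p).map F) hab
  · intro F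
    obtain ⟨c, hc⟩ := toDD_map_surjective_of_etale p hp U₁ U₂ ((SchDDFam.toSchDD.{w} p).map F)
    refine ⟨c, ?_⟩
    apply SchDDFam.hom_ext
    funext i
    cases i
    exact congrArg (fun G : (toDD p).obj U₁ ⟶ (toDD p).obj U₂ => G.hom) hc

end Groth.Agent.Lib.EffDescH52
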