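import Groth.Agent.Lib.EffDescFamSheafH52

/-!
# The functor of sections of a descent datum satisfies fpqc gluing (helper52)

`SecF.existsUnique_of_fpqc`: for `π : T₁ ⟶ T` flat, surjective and quasi-compact and a section
`ξ₁ : SecF D T₁` whose two restrictions to `T₁ ×_T T₁` agree, there is a unique section over `T`
restricting to `ξ₁`.  (No hypothesis on the family `f`.)
-/

set_option autoImplicit false
set_option linter.style.haveILetI false
set_option backward.isDefEq.respectTransparency false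
set_option backward.isDefEq.respectTransparency.types false

universe u

open CategoryTheory CategoryTheory.Limits AlgebraicGeometry Opposite

namespace Groth.Agent.Lib.EffDescFamH52

open Desc

variable {S : Scheme.{u}} {ι : Type u} {X : ι → Scheme.{u}} {f : ∀ i, X i ⟶ S}
  {D : SchDDFam f} {T₁ T : Scheme.{u}} (π : T₁ ⟶ T) (ξ₁ : SecF D T₁)
  (hcoc : ξ₁.res (pullback.fst π π) = ξ₁.res (pullback.snd π π))

namespace FpqcGlue

include hcoc in
theorem comp_t_eq {Z : Scheme.{u}} (a b : Z ⟶ T₁) (hab : a ≫ π = b ≫ π) :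
    a ≫ ξ₁.t = b ≫ ξ₁.t := by
  have h1 : pullback.fst π π ≫ ξ₁.t = pullback.snd π π ≫ ξ₁.t := congrArg SecF.t hcoc
  have := congrArg (fun z => pullback.lift a b hab ≫ z) h1
  simpa using this

include hcoc in
theorem ev_eq {Z : Scheme.{u}} {i : ι} (x : Z ⟶ X i) (a b : Z ⟶ T₁) (hab : a ≫ π = b ≫ π)
    (ha : x ≫ f i = a ≫ ξ₁.t) (hb : x ≫ f i = b ≫ ξ₁.t) :
    (ξ₁.ev x a ha).1 = (ξ₁.ev x b hb).1 := by
  have h1 := SecF.ev_of_eq hcoc x (pullback.lift a b hab) (by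
    rw [SecF.res_t, ← Category.assoc, pullback.lift_fst, ha])
  rw [SecF.res_ev, SecF.res_ev] at h1
  refine Eq.trans ?_ (h1.trans ?_)
  · exact SecF.ev_congr _ rfl (by simp) _ _
  · exact SecF.ev_congr _ rfl (by simp) _ _

variable [Flat π] [Surjective π] [QuasiCompact π]

/-- the descended structure morphism -/
noncomputable def t : T ⟶ S :=
  EffectiveEpi.desc π ξ₁.t (fun a b hab => comp_t_eq π ξ₁ hcoc a b hab)

theorem π_t : π ≫ t π ξ₁ hcoc = ξ₁.t := EffectiveEpi.fac _ _ _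

section Ev

variable {Z : Scheme.{u}} {i : ι} (x : Z ⟶ X i) (y : Z ⟶ T) (hxy : x ≫ f i = y ≫ t π ξ₁ hcoc)

include hxy in
theorem cond₁ : (pullback.fst y π ≫ x) ≫ f i = pullback.snd y π ≫ ξ₁.t := by
  rw [Category.assoc, hxy, ← Category.assoc, pullback.condition, Category.assoc, π_t]

/-- the evaluation upstairs -/
noncomputable def m₁ : pullback y π ⟶ (D.obj i).left :=
  (ξ₁.ev (pullback.fst y π ≫ x) (pullback.snd y π) (cond₁ π ξ₁ hcoc x y hxy)).1

theorem m₁_eq {W : Scheme.{u}} (g₁ g₂ : W ⟶ pullback y π)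
    (hg : g₁ ≫ pullback.fst y π = g₂ ≫ pullback.fst y π) :
    g₁ ≫ m₁ π ξ₁ hcoc x y hxy = g₂ ≫ m₁ π ξ₁ hcoc x y hxy := by
  have c := cond₁ π ξ₁ hcoc x y hxy
  have e1 : g₁ ≫ m₁ π ξ₁ hcoc x y hxy =
      (ξ₁.ev (g₁ ≫ pullback.fst y π ≫ x) (g₁ ≫ pullback.snd y π) (by
        rw [Category.assoc, Category.assoc, ← Category.assoc (pullback.fst y π), c]; rfl)).1 :=
    (ξ₁.ev_nat g₁ _ _ c _ _ _ rfl rfl).symm
  have e2 : g₂ ≫ m₁ π ξ₁ hcoc x y hxy =
      (ξ₁.ev (g₂ ≫ pullback.fst y π ≫ x) (g₂ ≫ pullback.snd y π) (by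
        rw [Category.assoc, Category.assoc, ← Category.assoc (pullback.fst y π), c]; rfl)).1 :=
    (ξ₁.ev_nat g₂ _ _ c _ _ _ rfl rfl).symm
  have hx : g₁ ≫ pullback.fst y π ≫ x = g₂ ≫ pullback.fst y π ≫ x := by
    rw [← Category.assoc, hg, Category.assoc]
  have hπ : (g₁ ≫ pullback.snd y π) ≫ π = (g₂ ≫ pullback.snd y π) ≫ π := by
    rw [Category.assoc, ← pullback.condition, ← Category.assoc, hg, Category.assoc,
      pullback.condition, Category.assoc]
  rw [e1, e2]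
  refine (ev_eq π ξ₁ hcoc _ _ _ hπ _ ?_).trans (SecF.ev_congr _ hx rfl _ _)
  rw [hx, Category.assoc, Category.assoc, ← Category.assoc (pullback.fst y π), c]; rfl

/-- the descended evaluation morphism -/
noncomputable def eMap : Z ⟶ (D.obj i).left :=
  EffectiveEpi.desc (pullback.fst y π) (m₁ π ξ₁ hcoc x y hxy)
    (fun g₁ g₂ hg => m₁_eq π ξ₁ hcoc x y hxy g₁ g₂ hg)

theorem fst_eMap : pullback.fst y π ≫ eMap π ξ₁ hcoc x y hxy = m₁ π ξ₁ hcoc x y hxy :=
  EffectiveEpi.fac _ _ _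

/-- the descended evaluation -/
noncomputable def e : Lifts (D.obj i) x :=
  ⟨eMap π ξ₁ hcoc x y hxy, by
    rw [← cancel_epi (pullback.fst y π), ← Category.assoc, fst_eMap]
    exact (ξ₁.ev (pullback.fst y π ≫ x) (pullback.snd y π) (cond₁ π ξ₁ hcoc x y hxy)).2⟩

theorem fst_e : pullback.fst y π ≫ (e π ξ₁ hcoc x y hxy).1 = m₁ π ξ₁ hcoc x y hxy :=
  fst_eMap π ξ₁ hcoc x y hxy

/-- Characterisation of the descended evaluation. -/
theorem e_spec {Z' : Scheme.{u}} (k : Z' ⟶ Z) (y₁ : Z' ⟶ T₁) (hy₁ : y₁ ≫ π = k ≫ y) :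
    k ≫ (e π ξ₁ hcoc x y hxy).1 = (ξ₁.ev (k ≫ x) y₁ (by
      rw [Category.assoc, hxy, ← Category.assoc, ← hy₁, Category.assoc, π_t])).1 := by
  have c := cond₁ π ξ₁ hcoc x y hxy
  have hl1 : pullback.lift k y₁ hy₁.symm ≫ pullback.fst y π = k := pullback.lift_fst _ _ _
  have hl2 : pullback.lift k y₁ hy₁.symm ≫ pullback.snd y π = y₁ := pullback.lift_snd _ _ _
  calc k ≫ (e π ξ₁ hcoc x y hxy).1
      = (pullback.lift k y₁ hy₁.symm ≫ pullback.fst y π) ≫ (e π ξ₁ hcoc x y hxy).1 := by rw [hl1]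
    _ = pullback.lift k y₁ hy₁.symm ≫ m₁ π ξ₁ hcoc x y hxy := by
        rw [Category.assoc, fst_e]
    _ = (ξ₁.ev (pullback.lift k y₁ hy₁.symm ≫ pullback.fst y π ≫ x)
          (pullback.lift k y₁ hy₁.symm ≫ pullback.snd y π) (by
            rw [Category.assoc, Category.assoc, ← Category.assoc (pullback.fst y π), c]; rfl)).1 :=
        (ξ₁.ev_nat _ _ _ c _ _ _ rfl rfl).symm
    _ = _ := SecF.ev_congr _ (by rw [← Category.assoc, hl1]) hl2 _ _

end Ev

/-- the glued section -/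
noncomputable def glue : SecF D T :=
  SecF.ofEv (t π ξ₁ hcoc) (fun _ _ x y hxy => e π ξ₁ hcoc x y hxy)
    (fun Z Z' g i x y h x' y' h' hx hy => by
      subst hx hy
      rw [← cancel_epi (pullback.fst (g ≫ y) π), fst_e, ← Category.assoc]
      rw [e_spec π ξ₁ hcoc x y h (pullback.fst (g ≫ y) π ≫ g) (pullback.snd (g ≫ y) π)
        (by rw [Category.assoc, pullback.condition])]
      exact SecF.ev_congr _ (by simp) rfl _ _)
    (fun Z i j x₀ x₁ y h₀ h₁ h => by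
      apply Subtype.ext
      rw [← cancel_epi (pullback.fst y π), fst_e]
      have h' : (pullback.fst y π ≫ x₀) ≫ f i = (pullback.fst y π ≫ x₁) ≫ f j := by
        rw [Category.assoc, Category.assoc, h]
      have e1 := φ_natural' D (pullback.fst y π) x₀ x₁ h h' (e π ξ₁ hcoc x₀ y h₀)
        (ξ₁.ev (pullback.fst y π ≫ x₀) (pullback.snd y π) (cond₁ π ξ₁ hcoc x₀ y h₀))
        (fst_e π ξ₁ hcoc x₀ y h₀).symm
      rw [← e1, ξ₁.φ_ev _ _ _ _ (cond₁ π ξ₁ hcoc x₁ y h₁) h']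
      rfl)

theorem glue_t : (glue π ξ₁ hcoc).t = t π ξ₁ hcoc := rfl

theorem glue_ev {Z : Scheme.{u}} {i : ι} (x : Z ⟶ X i) (y : Z ⟶ T)
    (hxy : x ≫ f i = y ≫ t π ξ₁ hcoc) :
    (glue π ξ₁ hcoc).ev x y hxy = e π ξ₁ hcoc x y hxy :=
  SecF.ofEv_ev _ _ _ _ x y hxy

theorem res_glue : (glue π ξ₁ hcoc).res π = ξ₁ := by
  apply SecF.ext_ev (by rw [SecF.res_t, glue_t, π_t])
  intro Z i x y h
  rw [SecF.res_ev, glue_ev]
  have := e_spec π ξ₁ hcoc x (y ≫ π) (by
    rw [h, SecF.res_t, glue_t, Category.assoc]) (𝟙 Z) y (by simp)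
  rw [Category.id_comp] at this
  exact this.trans (SecF.ev_congr _ (by simp) rfl _ _)

end FpqcGlue

open FpqcGlue in
include hcoc in
/-- **fpqc gluing for sections of a descent datum.** -/
theorem SecF.existsUnique_of_fpqc [Flat π] [Surjective π] [QuasiCompact π] :
    ∃! ξ : SecF D T, ξ.res π = ξ₁ := by
  refine ⟨glue π ξ₁ hcoc, res_glue π ξ₁ hcoc, fun ξ hξ => ?_⟩
  have ht : ξ.t = (glue π ξ₁ hcoc).t := by
    rw [← cancel_epi π, glue_t, π_t, ← hξ, SecF.res_t]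
  apply SecF.ext_ev ht
  intro Z i x y h
  rw [← cancel_epi (pullback.fst y π)]
  have hxy : x ≫ f i = y ≫ FpqcGlue.t π ξ₁ hcoc := by rw [h, ht, glue_t]
  have e1 : (ξ.ev (pullback.fst y π ≫ x) (pullback.fst y π ≫ y) (by
      rw [Category.assoc, h, Category.assoc])).1 = pullback.fst y π ≫ (ξ.ev x y h).1 :=
    ξ.ev_nat _ _ _ _ _ _ _ rfl rfl
  rw [← e1]
  have e2 : (glue π ξ₁ hcoc).ev x y (by rw [← ht, h]) = e π ξ₁ hcoc x y hxy :=
    glue_ev π ξ₁ hcoc x y hxy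
  rw [e2, fst_e]
  -- use `ξ.res π = ξ₁`
  have e3 := SecF.ev_of_eq hξ (pullback.fst y π ≫ x) (pullback.snd y π) (by
    rw [SecF.res_t, Category.assoc, h, ← Category.assoc, pullback.condition, Category.assoc])
  rw [SecF.res_ev] at e3
  refine Eq.trans ?_ e3
  exact SecF.ev_congr _ rfl pullback.condition _ _

end Groth.Agent.Lib.EffDescFamH52
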