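import Groth.Agent.Lib.EffDescEtSubmH52
import Groth.Agent.Lib.AbsRepFpqcH52
import Groth.Agent.Lib.EffDescFamFpqcSheafH52
import Groth.Agent.Lib.EffDescZMTH52

/-!
# Étale descent data along universally submersive morphisms: effectivity descends along fpqc base
change (helper52)

* `existsUnique_res_bcSecInv'`: universal sections and base change along an arbitrary morphism.
* `exists_etale_iso_of_fpqc_baseChange`, `etale_effective_iff_fpqc_baseChange` (S5122, SGA 1 IX):
  the functor of sections of `D` is an fpqc sheaf, representable after the fpqc base change by an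
  étale separated quasi-compact scheme, which descends (`AbsRepFpqcH52` + fpqc descent of
  quasi-affine schemes).
-/

set_option autoImplicit false
set_option linter.style.haveILetI false
set_option backward.isDefEq.respectTransparency false
set_option backward.isDefEq.respectTransparency.types false

universe u

open CategoryTheory CategoryTheory.Limits AlgebraicGeometry Opposite

namespace Groth.Agent.Lib.EffDescFamH52

open Desc Groth.Agent.Lib.SubmDescH52

section BC

variable {S : Scheme.{u}} {ι : Type u} {X : ι → Scheme.{u}} {f : ∀ i, X i ⟶ S}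

/-- A universal section of the base change along an arbitrary `h : S' ⟶ S` gives a section of `D`
which is universal among the sections lying over `S'` (with chosen factorisation). -/
theorem existsUnique_res_bcSecInv' {S' : Scheme.{u}} {h : S' ⟶ S} {D : SchDDFam f}
    {U : Scheme.{u}} (ε' : SecF (bcDD h D) U)
    (huniv : ∀ {T : Scheme.{u}} (ξ' : SecF (bcDD h D) T), ∃! g : T ⟶ U, ε'.res g = ξ')
    {T : Scheme.{u}} (t' : T ⟶ S') (ξ : SecF D T) (ht : ξ.t = t' ≫ h) :
    ∃! g : T ⟶ U, g ≫ ε'.t = t' ∧ (bcSecInv ε').res g = ξ := by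
  obtain ⟨g, hg, hguniq⟩ := huniv (bcSec ξ t' ht)
  refine ⟨g, ⟨?_, ?_⟩, fun g' hg' => hguniq g' ?_⟩
  · have := congrArg SecF.t hg
    simpa using this
  · rw [← bcSecInv_res, hg, bcSecInv_bcSec]
  · obtain ⟨hg'1, hg'2⟩ := hg'
    have ht' : (ε'.res g').t = t' := hg'1
    have e1 : bcSec (bcSecInv (ε'.res g')) (ε'.res g').t rfl = ε'.res g' := bcSec_bcSecInv _
    rw [← e1]
    have e2 : bcSecInv (ε'.res g') = ξ := by rw [bcSecInv_res, hg'2]
    clear e1
    subst e2
    subst ht'
    rfl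

end BC


section Main

variable {S S' S₁ : Scheme.{u}} (g : S' ⟶ S)

/-- **Étale descent data along a universally submersive morphism: effectivity descends along
fpqc base change** (index universe `u`). -/
theorem exists_etale_iso_of_fpqc_baseChange (hg : SGA1.UnivSubmersive g)
    (D : SchDDFam (fun _ : PUnit.{u + 1} => g)) (p : S₁ ⟶ S) [Flat p] [Surjective p]
    [QuasiCompact p] (U₁ : Over S₁) [Etale U₁.hom] [IsSeparated U₁.hom] [QuasiCompact U₁.hom]
    (e₁ : (toDDFam (fun _ : PUnit.{u + 1} => pullback.snd g p)).obj U₁ ≅ bcDD p D) :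
    ∃ U : Over S, Etale U.hom ∧ IsSeparated U.hom ∧ QuasiCompact U.hom ∧
      Nonempty ((toDDFam (fun _ : PUnit.{u + 1} => g)).obj U ≅ D) := by
  have hga : SGA1.UnivSubmersive (pullback.snd g p) := MorphismProperty.pullback_snd _ _ hg
  let ε' : SecF (bcDD p D) U₁.left := SecF.ofHom U₁ e₁.hom
  have hε' : ∀ {T : Scheme.{u}} (ξ' : SecF (bcDD p D) T), ∃! k : T ⟶ U₁.left, ε'.res k = ξ' :=
    fun {T} ξ' => existsUnique_res_eq_of_iso' e₁
      (fun T' => Groth.Agent.Lib.EffDescH52.toDDFam_map_bijective_of_etale.{u}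
        (pullback.snd g p) hga T' U₁) ξ'
  let ζ : SecF D U₁.left := bcSecInv ε'
  have hq : ∀ ⦃T T' : Scheme.{u}⦄ (k : T' ⟶ T) (ξ : (secFunctorF D).obj (op T)),
      SecF.t ((secFunctorF D).map k.op ξ) = k ≫ SecF.t ξ := fun T T' k ξ => rfl
  have hζ : SecF.t ζ = U₁.hom ≫ p := rfl
  have huniv : ∀ ⦃T : Scheme.{u}⦄ (t₁ : T ⟶ S₁) (ξ : (secFunctorF D).obj (op T)),
      SecF.t ξ = t₁ ≫ p →
      ∃! k : T ⟶ U₁.left, k ≫ U₁.hom = t₁ ∧ (secFunctorF D).map k.op ζ = ξ :=
    fun T t₁ ξ ht => existsUnique_res_bcSecInv' ε' hε' t₁ ξ ht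
  have hglue : ∀ ⦃T₁ T : Scheme.{u}⦄ (π : T₁ ⟶ T) [Flat π] [Surjective π] [QuasiCompact π]
      (ξ₁ : (secFunctorF D).obj (op T₁)),
      (secFunctorF D).map (pullback.fst π π).op ξ₁ = (secFunctorF D).map (pullback.snd π π).op ξ₁ →
      ∃! ξ : (secFunctorF D).obj (op T), (secFunctorF D).map π.op ξ = ξ₁ :=
    fun T₁ T π _ _ _ ξ₁ hc => SecF.existsUnique_of_fpqc π ξ₁ hc
  let DD : SchDD p := Groth.Agent.Lib.AbsRepFpqcH52.dd (secFunctorF D)
    (fun T (ξ : SecF D T) => ξ.t) hq p U₁.hom ζ hζ huniv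
  haveI : QuasiCompact DD.obj.hom := inferInstanceAs (QuasiCompact U₁.hom)
  haveI : IsSeparated DD.obj.hom := inferInstanceAs (IsSeparated U₁.hom)
  haveI : Etale DD.obj.hom := inferInstanceAs (Etale U₁.hom)
  obtain ⟨U, hqc, hsep, het, ⟨e⟩⟩ := Groth.Agent.Lib.EffDescH52.exists_iso_of_etale p DD
  obtain ⟨ε, hεt, hεuniv⟩ := Groth.Agent.Lib.AbsRepFpqcH52.exists_universal_of_iso (secFunctorF D)
    (fun T (ξ : SecF D T) => ξ.t) hq p U₁.hom ζ hζ huniv hglue U e
  have hεt' : SecF.t ε = U.hom := hεt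
  haveI := isIso_toHom_of_universal (D := D) ε (fun {T} ξ => hεuniv ξ)
  refine ⟨Over.mk (SecF.t ε), ?_, ?_, ?_, ⟨asIso (SecF.toHom ε)⟩⟩
  · change Etale (SecF.t ε); rw [hεt']; exact het
  · change IsSeparated (SecF.t ε); rw [hεt']; exact hsep
  · change QuasiCompact (SecF.t ε); rw [hεt']; exact hqc


/-- **SGA 1 IX: effectivity of étale, separated, quasi-compact descent data along a universally
submersive morphism can be checked after an fpqc base change** (S5122). -/
theorem etale_effective_iff_fpqc_baseChange (hg : SGA1.UnivSubmersive g)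
    (D : SchDDFam (fun _ : PUnit.{1} => g)) (p : S₁ ⟶ S) [Flat p] [Surjective p]
    [QuasiCompact p] :
    (∃ U : Over S, Etale U.hom ∧ IsSeparated U.hom ∧ QuasiCompact U.hom ∧
        Nonempty ((toDDFam (fun _ : PUnit.{1} => g)).obj U ≅ D)) ↔
      (∃ U : Over S₁, Etale U.hom ∧ IsSeparated U.hom ∧ QuasiCompact U.hom ∧
        Nonempty ((toDDFam (fun _ : PUnit.{1} => pullback.snd g p)).obj U ≅
          (bcFunctor (fun _ : PUnit.{1} => g) p).obj D)) := by
  constructor
  · rintro ⟨U, hU1, hU2, hU3, ⟨e⟩⟩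
    refine ⟨bcOver p U, ?_, ?_, ?_, ⟨(bcCanIso _ p U).symm ≪≫ (bcFunctor _ p).mapIso e⟩⟩
    · change Etale (pullback.snd U.hom p); infer_instance
    · change IsSeparated (pullback.snd U.hom p); infer_instance
    · change QuasiCompact (pullback.snd U.hom p); infer_instance
  · rintro ⟨U₁, hU1, hU2, hU3, ⟨e₁⟩⟩
    have e₁' : (toDDFam (fun _ : PUnit.{u + 1} => pullback.snd g p)).obj U₁ ≅
        bcDD p ((oneChange.{0, u} g).obj D) :=
      (oneChangeCanIso.{0, u} (pullback.snd g p) U₁).symm ≪≫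
        (oneChange.{0, u} (pullback.snd g p)).mapIso e₁ ≪≫ oneChangeBcIso.{0, u} g p D
    obtain ⟨U, h1, h2, h3, ⟨e⟩⟩ :=
      exists_etale_iso_of_fpqc_baseChange g hg ((oneChange.{0, u} g).obj D) p U₁ e₁'
    refine ⟨U, h1, h2, h3, ⟨?_⟩⟩
    exact (oneChangeCanIso.{u, 0} g U).symm ≪≫ (oneChange.{u, 0} g).mapIso e ≪≫
      oneChangeInvIso.{0, u} g D

end Main

end Groth.Agent.Lib.EffDescFamH52
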