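import Groth.Agent.Lib.SchDDFamFF

/-!
# Base change of canonical descent data (helper52)

`bcCanIso f h U`: for a family `f i : X i ⟶ S` (any index universe), `h : S' ⟶ S` and `U` over `S`,
the pullback of the canonical descent datum of `U` along the base change morphism of families
`(X i ×_S S' ⟶ S') ⟶ (X i ⟶ S)` (`bcFunctor f h`) is the canonical descent datum of
`U ×_S S'` (`bcOver h U`).
-/

set_option autoImplicit false
set_option linter.style.haveILetI false
set_option backward.isDefEq.respectTransparency false
set_option backward.isDefEq.respectTransparency.types false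

universe w u

open CategoryTheory CategoryTheory.Limits AlgebraicGeometry Opposite

namespace Groth.Agent.Lib.EffDescFamH52

open Desc Groth.Agent.Lib.SchDDFamFF

variable {S : Scheme.{u}} {ι : Type w} {X : ι → Scheme.{u}} (f : ∀ i, X i ⟶ S)
  {S' : Scheme.{u}} (h : S' ⟶ S) (U : Over S)

/-- The pullback functor on descent data along the base change `h : S' ⟶ S`. -/
noncomputable abbrev bcFunctor : SchDDFam f ⥤ SchDDFam (fun i => pullback.snd (f i) h) :=
  pullDDFam (f := f) (f' := fun i => pullback.snd (f i) h) (α := fun i => i) (p := h)
    (p' := fun i => pullback.fst (f i) h) (fun _ => pullback.condition)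

/-- The base change of `U` over `S` to `S'`. -/
noncomputable abbrev bcOver : Over S' := Over.mk (pullback.snd U.hom h)

variable {T : Scheme.{u}} {i : ι} (x : T ⟶ pullback (f i) h)

theorem bcCan_cond₁ (v : T ⟶ pullback (pullback.fst (f i) U.hom) (pullback.fst (f i) h))
    (e : v ≫ pullback.snd (pullback.fst (f i) U.hom) (pullback.fst (f i) h) = x) :
    (v ≫ pullback.fst (pullback.fst (f i) U.hom) (pullback.fst (f i) h) ≫
      pullback.snd (f i) U.hom) ≫ U.hom = (x ≫ pullback.snd (f i) h) ≫ h := by
  have c1 : pullback.snd (f i) U.hom ≫ U.hom = pullback.fst (f i) U.hom ≫ f i :=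
    pullback.condition.symm
  have c2 : pullback.fst (pullback.fst (f i) U.hom) (pullback.fst (f i) h) ≫
      pullback.fst (f i) U.hom = pullback.snd _ _ ≫ pullback.fst (f i) h := pullback.condition
  have c3 : pullback.fst (f i) h ≫ f i = pullback.snd (f i) h ≫ h := pullback.condition
  simp only [Category.assoc, c1]
  rw [reassoc_of% c2, reassoc_of% e, c3]

theorem bcCan_cond₂ (v : T ⟶ pullback (pullback.snd (f i) h) (pullback.snd U.hom h))
    (e : v ≫ pullback.fst (pullback.snd (f i) h) (pullback.snd U.hom h) = x) :
    (x ≫ pullback.fst (f i) h) ≫ f i =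
      (v ≫ pullback.snd (pullback.snd (f i) h) (pullback.snd U.hom h) ≫ pullback.fst U.hom h) ≫
        U.hom := by
  have c1 : pullback.fst U.hom h ≫ U.hom = pullback.snd U.hom h ≫ h := pullback.condition
  have c2 : pullback.fst (pullback.snd (f i) h) (pullback.snd U.hom h) ≫ pullback.snd (f i) h =
      pullback.snd _ _ ≫ pullback.snd U.hom h := pullback.condition
  have c3 : pullback.fst (f i) h ≫ f i = pullback.snd (f i) h ≫ h := pullback.condition
  simp only [Category.assoc, c1]
  rw [← reassoc_of% c2, reassoc_of% e, c3]

/-- forward map on points -/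
noncomputable def bcCanFun
    (v : Lifts (((bcFunctor f h).obj ((toDDFam f).obj U)).obj i) x) :
    Lifts (((toDDFam (fun i => pullback.snd (f i) h)).obj (bcOver h U)).obj i) x :=
  ⟨pullback.lift x
      (pullback.lift
        (v.1 ≫ pullback.fst (pullback.fst (f i) U.hom) (pullback.fst (f i) h) ≫
          pullback.snd (f i) U.hom)
        (x ≫ pullback.snd (f i) h) (bcCan_cond₁ f h U x v.1 v.2))
      (by
        change _ = _ ≫ pullback.snd U.hom h
        rw [pullback.lift_snd]),
    pullback.lift_fst _ _ _⟩

/-- backward map on points -/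
noncomputable def bcCanInv
    (v : Lifts (((toDDFam (fun i => pullback.snd (f i) h)).obj (bcOver h U)).obj i) x) :
    Lifts (((bcFunctor f h).obj ((toDDFam f).obj U)).obj i) x :=
  ⟨pullback.lift
      (pullback.lift (x ≫ pullback.fst (f i) h)
        (v.1 ≫ pullback.snd (pullback.snd (f i) h) (pullback.snd U.hom h) ≫ pullback.fst U.hom h)
        (bcCan_cond₂ f h U x v.1 v.2))
      x (by
        change _ ≫ pullback.fst (f i) U.hom = _
        rw [pullback.lift_fst]),
    pullback.lift_snd _ _ _⟩


theorem bcCanFun_fst (v : Lifts (((bcFunctor f h).obj ((toDDFam f).obj U)).obj i) x) :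
    (bcCanFun f h U x v).1 ≫ pullback.fst (pullback.snd (f i) h) (pullback.snd U.hom h) = x :=
  pullback.lift_fst _ _ _

theorem bcCanFun_snd (v : Lifts (((bcFunctor f h).obj ((toDDFam f).obj U)).obj i) x) :
    (bcCanFun f h U x v).1 ≫ pullback.snd (pullback.snd (f i) h) (pullback.snd U.hom h) =
      pullback.lift
        (v.1 ≫ pullback.fst (pullback.fst (f i) U.hom) (pullback.fst (f i) h) ≫
          pullback.snd (f i) U.hom)
        (x ≫ pullback.snd (f i) h) (bcCan_cond₁ f h U x v.1 v.2) :=
  pullback.lift_snd _ _ _

theorem bcCanInv_snd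
    (v : Lifts (((toDDFam (fun i => pullback.snd (f i) h)).obj (bcOver h U)).obj i) x) :
    (bcCanInv f h U x v).1 ≫ pullback.snd (pullback.fst (f i) U.hom) (pullback.fst (f i) h) = x :=
  pullback.lift_snd _ _ _

theorem bcCanInv_fst
    (v : Lifts (((toDDFam (fun i => pullback.snd (f i) h)).obj (bcOver h U)).obj i) x) :
    (bcCanInv f h U x v).1 ≫ pullback.fst (pullback.fst (f i) U.hom) (pullback.fst (f i) h) =
      pullback.lift (x ≫ pullback.fst (f i) h)
        (v.1 ≫ pullback.snd (pullback.snd (f i) h) (pullback.snd U.hom h) ≫ pullback.fst U.hom h)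
        (bcCan_cond₂ f h U x v.1 v.2) :=
  pullback.lift_fst _ _ _

/-- the bijection on points underlying `bcCanIso` -/
noncomputable def bcCanEquiv :
    Lifts (((bcFunctor f h).obj ((toDDFam f).obj U)).obj i) x ≃
      Lifts (((toDDFam (fun i => pullback.snd (f i) h)).obj (bcOver h U)).obj i) x where
  toFun := bcCanFun f h U x
  invFun := bcCanInv f h U x
  left_inv v := by
    have e : v.1 ≫ pullback.snd (pullback.fst (f i) U.hom) (pullback.fst (f i) h) = x := v.2
    have h1 := bcCanInv_fst f h U x (bcCanFun f h U x v)
    have h2 := bcCanInv_snd f h U x (bcCanFun f h U x v)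
    apply Subtype.ext
    apply pullback.hom_ext (f := pullback.fst (f i) U.hom) (g := pullback.fst (f i) h)
    · refine h1.trans ?_
      apply pullback.hom_ext
      · rw [pullback.lift_fst, Category.assoc, pullback.condition, ← Category.assoc, e]
      · rw [pullback.lift_snd, ← Category.assoc, bcCanFun_snd, pullback.lift_fst, Category.assoc]
    · exact h2.trans e.symm
  right_inv v := by
    have e : v.1 ≫ pullback.fst (pullback.snd (f i) h) (pullback.snd U.hom h) = x := v.2
    have h1 := bcCanFun_fst f h U x (bcCanInv f h U x v)
    have h2 := bcCanFun_snd f h U x (bcCanInv f h U x v)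
    apply Subtype.ext
    apply pullback.hom_ext (f := pullback.snd (f i) h) (g := pullback.snd U.hom h)
    · exact h1.trans e.symm
    · refine h2.trans ?_
      apply pullback.hom_ext
      · rw [pullback.lift_fst, ← Category.assoc, bcCanInv_fst, pullback.lift_snd, Category.assoc]
      · rw [pullback.lift_snd, Category.assoc, ← pullback.condition, ← Category.assoc, e]


/-- **Base change of canonical descent data.** -/
noncomputable def bcCanIso :
    (bcFunctor f h).obj ((toDDFam f).obj U) ≅
      (toDDFam (fun i => pullback.snd (f i) h)).obj (bcOver h U) :=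
  isoOfPoints _ _ (fun _ _ x => bcCanEquiv f h U x)
    (fun T T' k i x x' hx v v' hv => by
      change (bcCanFun f h U x' v').1 = k ≫ (bcCanFun f h U x v).1
      apply pullback.hom_ext (f := pullback.snd (f i) h) (g := pullback.snd U.hom h)
      · refine (bcCanFun_fst f h U x' v').trans ?_
        refine Eq.trans ?_ (Category.assoc _ _ _).symm
        rw [bcCanFun_fst f h U x v, hx]
      · refine (bcCanFun_snd f h U x' v').trans ?_
        refine Eq.trans ?_ (Category.assoc _ _ _).symm
        rw [bcCanFun_snd f h U x v]
        apply pullback.hom_ext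
        · simp only [pullback.lift_fst, Category.assoc]
          rw [hv, Category.assoc]
        · simp only [pullback.lift_snd, Category.assoc]
          rw [← hx, Category.assoc])
    (fun T i j x₀ x₁ hh v => by
      change canMapFam (fun i => pullback.snd (f i) h) (bcOver h U) x₀ x₁ hh (bcCanFun f h U x₀ v) =
        bcCanFun f h U x₁ (((bcFunctor f h).obj ((toDDFam f).obj U)).φ x₀ x₁ hh v)
      apply Subtype.ext
      apply pullback.hom_ext (f := pullback.snd (f j) h) (g := pullback.snd U.hom h)
      · refine Eq.trans ?_ (bcCanFun_fst f h U x₁ _).symm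
        rw [canMapFam_val]
        exact pullback.lift_fst _ _ _
      · refine Eq.trans ?_ (bcCanFun_snd f h U x₁ _).symm
        rw [canMapFam_val]
        refine (pullback.lift_snd _ _ _).trans ?_
        refine (bcCanFun_snd f h U x₀ v).trans ?_
        apply pullback.hom_ext
        · simp only [pullback.lift_fst]
          have e5 : (((bcFunctor f h).obj ((toDDFam f).obj U)).φ x₀ x₁ hh v).1 ≫
              pullback.fst (pullback.fst (f j) U.hom) (pullback.fst (f j) h) =
              (canMapFam f U (x₀ ≫ pullback.fst (f i) h) (x₁ ≫ pullback.fst (f j) h)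
                (pull_compat (f := f) (f' := fun i => pullback.snd (f i) h) (α := fun i => i)
                  (p := h) (p' := fun i => pullback.fst (f i) h)
                  (fun _ => pullback.condition) x₀ x₁ hh)
                (liftsPullbackEquiv (((toDDFam f).obj U).obj i) (pullback.fst (f i) h) x₀ v)).1 :=
            pullback.lift_fst _ _ _
          rw [← Category.assoc _ _ (pullback.snd (f j) U.hom), e5, canMapFam_val, pullback.lift_snd]
          exact (Category.assoc _ _ _).symm
        · simp only [pullback.lift_snd]
          exact hh)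

end Groth.Agent.Lib.EffDescFamH52
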