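import Groth.Agent.Lib.EffDescFamLocH52
import Groth.Agent.Lib.AbsRep2H52

/-!
# Effectivity is local on the base, without flatness (helper52)

Generalisation of `EffDescFamLocH52.isEffective_of_openCover`: the family `f` is arbitrary, but the
local solutions `U a` are supposed to satisfy the full faithfulness property
`∀ T, Function.Bijective ((toDDFam _).map : (T ⟶ U a) → _)` (e.g. `U a` étale and `f` a universally
submersive morphism).  The glued solution inherits every property `P` of morphisms which is Zariski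
local at the source (`exists_iso_of_openCover'`).
-/

set_option autoImplicit false
set_option linter.style.haveILetI false
set_option backward.isDefEq.respectTransparency false
set_option backward.isDefEq.respectTransparency.types false

universe u

open CategoryTheory CategoryTheory.Limits AlgebraicGeometry Opposite

namespace Groth.Agent.Lib.EffDescFamH52

open Desc

variable {S : Scheme.{u}} {ι : Type u} {X : ι → Scheme.{u}} {f : ∀ i, X i ⟶ S}
  {D : SchDDFam f}

/-- The section attached to an isomorphism `toDDFam f U ≅ D` is universal, when `toDDFam f` is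
fully faithful on morphisms into `U`. -/
theorem existsUnique_res_eq_of_iso' {U : Over S} (e : (toDDFam f).obj U ≅ D)
    (hff : ∀ T : Over S, Function.Bijective
      ((toDDFam f).map : (T ⟶ U) → ((toDDFam f).obj T ⟶ (toDDFam f).obj U)))
    {T : Scheme.{u}} (ξ : SecF D T) :
    ∃! g : T ⟶ U.left, (SecF.ofHom U e.hom).res g = ξ := by
  have key : ∀ (g : T ⟶ U.left) (hg : g ≫ U.hom = ξ.t),
      (SecF.ofHom U e.hom).res g = ξ ↔
        (toDDFam f).map (Over.homMk g hg : Over.mk ξ.t ⟶ U) ≫ e.hom = ξ.toHom := by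
    intro g hg
    constructor
    · intro h
      apply SchDDFam.hom_ext
      funext i
      apply Over.OverMorphism.ext
      have h1 := SecF.res_m g (SecF.ofHom U e.hom) i
      rw [SchDDFam.comp_hom, Over.comp_left, SecF.toHom_hom_left]
      subst h
      rw [h1]
      rfl
    · intro h
      have h2 : ∀ i, (((toDDFam f).map (Over.homMk g hg : Over.mk ξ.t ⟶ U)).hom i).left ≫
          (e.hom.hom i).left = ξ.m i := fun i => by
        have := congrArg (fun a => (SchDDFam.Hom.hom a i).left) h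
        simpa using this
      apply SecF.ext_m (by simpa using hg)
      intro i
      rw [SecF.res_m, ← h2 i, SecF.ofHom_m, ← Category.assoc]
      congr 1
      apply pullback.hom_ext <;> simp [toDDFam]
  obtain ⟨c, hc⟩ := (hff (Over.mk ξ.t)).2 (ξ.toHom ≫ e.inv)
  have hc' : (toDDFam f).map c ≫ e.hom = ξ.toHom := by
    rw [hc, Category.assoc, e.inv_hom_id, Category.comp_id]
  have hcw : c.left ≫ U.hom = ξ.t := Over.w c
  refine ⟨c.left, (key c.left hcw).2 ?_, fun g' hg' => ?_⟩
  · have : (Over.homMk c.left hcw : Over.mk ξ.t ⟶ U) = c := by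
      apply Over.OverMorphism.ext; rfl
    rw [this, hc']
  · have hgw : g' ≫ U.hom = ξ.t := by
      have := congrArg SecF.t hg'
      simpa using this
    have h3 := (key g' hgw).1 hg'
    have h4 : (toDDFam f).map (Over.homMk g' hgw : Over.mk ξ.t ⟶ U) = (toDDFam f).map c := by
      rw [← cancel_mono e.hom, h3, hc']
    have := (hff (Over.mk ξ.t)).1 h4
    exact congrArg (fun a => CommaMorphism.left a) this

/-- **Effectivity of descent data is Zariski local on the base** (no flatness: the local solutions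
are supposed to have the full faithfulness property). -/
theorem exists_iso_of_openCover' (P : MorphismProperty Scheme.{u}) [IsZariskiLocalAtSource P]
    (D : SchDDFam f) (𝒮 : Scheme.OpenCover.{u} S)
    (H : ∀ a, ∃ (U : Over (𝒮.X a))
      (_ : (toDDFam (fun i => pullback.snd (f i) (𝒮.f a))).obj U ≅ bcDD (𝒮.f a) D),
      P (U.hom ≫ 𝒮.f a) ∧ ∀ T : Over (𝒮.X a), Function.Bijective
        ((toDDFam (fun i => pullback.snd (f i) (𝒮.f a))).map : (T ⟶ U) → _)) :
    ∃ U : Over S, P U.hom ∧ Nonempty ((toDDFam f).obj U ≅ D) := by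
  choose U e hP hff using H
  let ε' : ∀ a, SecF (bcDD (𝒮.f a) D) (U a).left := fun a => SecF.ofHom (U a) (e a).hom
  have hε' : ∀ a {T : Scheme.{u}} (ξ' : SecF (bcDD (𝒮.f a) D) T),
      ∃! g : T ⟶ (U a).left, (ε' a).res g = ξ' :=
    fun a T ξ' => existsUnique_res_eq_of_iso' (e a) (hff a) ξ'
  let ζ : ∀ a, SecF D (U a).left := fun a => bcSecInv (ε' a)
  have hq : ∀ ⦃T T' : Scheme.{u}⦄ (g : T' ⟶ T) (ξ : (secFunctorF D).obj (op T)),
      SecF.t ((secFunctorF D).map g.op ξ) = g ≫ SecF.t ξ := fun T T' g ξ => rfl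
  have hζ : ∀ a, Set.range (ζ a).t ⊆ Set.range (𝒮.f a) := by
    intro a
    rintro _ ⟨w, rfl⟩
    change ((ε' a).t ≫ 𝒮.f a) w ∈ _
    rw [Scheme.Hom.comp_apply]
    exact ⟨_, rfl⟩
  have huniv : ∀ a ⦃T : Scheme.{u}⦄ (ξ : (secFunctorF D).obj (op T)),
      Set.range (SecF.t ξ) ⊆ Set.range (𝒮.f a) →
      ∃! g : T ⟶ (U a).left, (secFunctorF D).map g.op (ζ a) = ξ := by
    intro a T (ξ : SecF D T) hξ
    let t' : T ⟶ 𝒮.X a := IsOpenImmersion.lift (𝒮.f a) ξ.t hξ
    have ht : ξ.t = t' ≫ 𝒮.f a := (IsOpenImmersion.lift_fac _ _ _).symm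
    exact existsUnique_res_bcSecInv (ε' a) (hε' a) ξ t' ht
  have hcov : ∀ b : S, ∃ a, b ∈ Set.range (𝒮.f a) := fun b => by
    obtain ⟨a, x, hx⟩ := 𝒮.exists_eq b
    exact ⟨a, x, hx⟩
  obtain ⟨V, ε, hε⟩ := Groth.Agent.Lib.AbsRepH52.exists_universal (secFunctorF D)
    (B := S) (fun T (ξ : SecF D T) => ξ.t) hq 𝒮.f (U := fun a => (U a).left) ζ hζ huniv
    (isSheaf_secFunctorF D) hcov
  have hPV : P (SecF.t ε) :=
    Groth.Agent.Lib.AbsRepH52.prop_of_universal (secFunctorF D)
      (B := S) (fun T (ξ : SecF D T) => ξ.t) hq 𝒮.f (U := fun a => (U a).left) ζ hζ huniv P hcov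
      (fun a => hP a) ε hε
  haveI := isIso_toHom_of_universal ε (fun {T} ξ => hε ξ)
  exact ⟨Over.mk ε.t, hPV, ⟨asIso ε.toHom⟩⟩

end Groth.Agent.Lib.EffDescFamH52
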