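import Groth.Agent.Lib.EffDescEtFFH52
import Groth.Agent.Lib.EffDescFamLoc2H52
import Groth.Agent.Lib.EffDescFamBCCanH52

/-!
# Étale descent data along universally submersive morphisms: effectivity is local on the base
(helper52)

* `oneChange p`: change of the index universe of one-member families, with the compatibilities
  `oneChangeCanIso`, `oneChangeInvIso`, `oneChangeBcIso` (all `Iso.refl`).
* `exists_etale_iso_of_openCover`, `etale_effective_iff_openCover` (S5123, SGA 1 IX).
-/

set_option autoImplicit false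
set_option linter.style.haveILetI false
set_option backward.isDefEq.respectTransparency false
set_option backward.isDefEq.respectTransparency.types false

universe w w' u

open CategoryTheory CategoryTheory.Limits AlgebraicGeometry Opposite

namespace Groth.Agent.Lib.EffDescFamH52

open Desc Groth.Agent.Lib.SubmDescH52

section OneChange

variable {S X₀ : Scheme.{u}} (p : X₀ ⟶ S)

/-- Change of the universe of the index type `PUnit` of a one-member family. -/
noncomputable def oneChange :
    SchDDFam (fun _ : PUnit.{w + 1} => p) ⥤ SchDDFam (fun _ : PUnit.{w' + 1} => p) :=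
  SchDDFam.toSchDD.{w} p ⋙ SchDDFam.ofSchDD.{w'} p

/-- `oneChange` is compatible with canonical descent data. -/
noncomputable def oneChangeCanIso (U : Over S) :
    (oneChange.{w, w'} p).obj ((toDDFam (fun _ : PUnit.{w + 1} => p)).obj U) ≅
      (toDDFam (fun _ : PUnit.{w' + 1} => p)).obj U :=
  Iso.refl _

/-- `oneChange` back and forth is the identity. -/
noncomputable def oneChangeInvIso (D : SchDDFam (fun _ : PUnit.{w + 1} => p)) :
    (oneChange.{w', w} p).obj ((oneChange.{w, w'} p).obj D) ≅ D :=
  Iso.refl _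

/-- `oneChange` commutes with base change. -/
noncomputable def oneChangeBcIso {S' : Scheme.{u}} (h : S' ⟶ S)
    (D : SchDDFam (fun _ : PUnit.{w + 1} => p)) :
    (oneChange.{w, w'} (pullback.snd p h)).obj
        ((bcFunctor (fun _ : PUnit.{w + 1} => p) h).obj D) ≅
      (bcFunctor (fun _ : PUnit.{w' + 1} => p) h).obj ((oneChange.{w, w'} p).obj D) :=
  Iso.refl _

end OneChange


section Main

variable {S S' : Scheme.{u}} (g : S' ⟶ S)

/-- **SGA 1 IX: effectivity of étale descent data along a universally submersive morphism is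
Zariski local on the base** (index universe `u`). -/
theorem exists_etale_iso_of_openCover (hg : SGA1.UnivSubmersive g)
    (D : SchDDFam (fun _ : PUnit.{u + 1} => g)) (𝒮 : Scheme.OpenCover.{u} S)
    (H : ∀ a, ∃ U : Over (𝒮.X a), Etale U.hom ∧
      Nonempty ((toDDFam (fun _ : PUnit.{u + 1} => pullback.snd g (𝒮.f a))).obj U ≅
        bcDD (𝒮.f a) D)) :
    ∃ U : Over S, Etale U.hom ∧ Nonempty ((toDDFam (fun _ : PUnit.{u + 1} => g)).obj U ≅ D) := by
  apply exists_iso_of_openCover' @Etale D 𝒮
  intro a
  obtain ⟨U, hU, ⟨e⟩⟩ := H a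
  refine ⟨U, e, inferInstance, fun T => ?_⟩
  have hga : SGA1.UnivSubmersive (pullback.snd g (𝒮.f a)) :=
    MorphismProperty.pullback_snd _ _ hg
  exact Groth.Agent.Lib.EffDescH52.toDDFam_map_bijective_of_etale.{u} (pullback.snd g (𝒮.f a))
    hga T U

/-- **SGA 1 IX: effectivity of étale descent data along a universally submersive morphism is
Zariski local on the base** (S5123). -/
theorem etale_effective_iff_openCover (hg : SGA1.UnivSubmersive g)
    (D : SchDDFam (fun _ : PUnit.{1} => g)) {ι : Type u} (V : ι → S.Opens) (hV : ⨆ i, V i = ⊤) :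
    (∃ U : Over S, Etale U.hom ∧ Nonempty ((toDDFam (fun _ : PUnit.{1} => g)).obj U ≅ D)) ↔
      ∀ i : ι, ∃ U : Over (V i : Scheme.{u}), Etale U.hom ∧
        Nonempty ((toDDFam (fun _ : PUnit.{1} => pullback.snd g (V i).ι)).obj U ≅
          (bcFunctor (fun _ : PUnit.{1} => g) (V i).ι).obj D) := by
  constructor
  · rintro ⟨U, hU, ⟨e⟩⟩ i
    refine ⟨bcOver (V i).ι U, ?_, ⟨(bcCanIso _ (V i).ι U).symm ≪≫ (bcFunctor _ (V i).ι).mapIso e⟩⟩
    change Etale (pullback.snd U.hom (V i).ι)
    infer_instance
  · intro H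
    let 𝒮 : Scheme.OpenCover.{u} S := S.openCoverOfIsOpenCover V hV
    obtain ⟨U, hU, ⟨e⟩⟩ := exists_etale_iso_of_openCover g hg ((oneChange.{0, u} g).obj D) 𝒮
      (fun a => by
        obtain ⟨Ua, hUa, ⟨ea⟩⟩ := H a
        refine ⟨Ua, hUa, ⟨?_⟩⟩
        exact (oneChangeCanIso.{0, u} (pullback.snd g (V a).ι) Ua).symm ≪≫
          (oneChange.{0, u} (pullback.snd g (V a).ι)).mapIso ea ≪≫
          oneChangeBcIso.{0, u} g (V a).ι D)
    refine ⟨U, hU, ⟨?_⟩⟩
    exact (oneChangeCanIso.{u, 0} g U).symm ≪≫ (oneChange.{u, 0} g).mapIso e ≪≫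
      oneChangeInvIso.{0, u} g D

end Main

end Groth.Agent.Lib.EffDescFamH52
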