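import Groth.Agent.Lib.EffDescEtSubmStalkH52

/-!
# Étale descent data along universally submersive morphisms of finite presentation: effectivity
is local for the local rings and their completions (helper52)

* `IsUnivOver.toBc`: a universal section over `B' ⟶ B ⟶ S` is a universal section of the base
  change to `B` (transitivity of base change, in terms of sections).
* `exists_etale_iso_of_fpqc_baseChange_over`: S5122 over an arbitrary base `B ⟶ S`.
* `etale_effective_iff_stalks` (S5125), `etale_effective_iff_completions` (S5126).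
-/

set_option autoImplicit false
set_option linter.style.haveILetI false
set_option backward.isDefEq.respectTransparency false
set_option backward.isDefEq.respectTransparency.types false

universe u

open CategoryTheory CategoryTheory.Limits AlgebraicGeometry Opposite

namespace Groth.Agent.Lib.EffDescFamH52

open Desc Groth.Agent.Lib.SubmDescH52

section UnivOverBc

variable {S : Scheme.{u}} {ι : Type u} {X : ι → Scheme.{u}} {f : ∀ i, X i ⟶ S}
  {D : SchDDFam f} {B B' : Scheme.{u}} {h : B ⟶ S} {b : B' ⟶ B}

/-- A universal section over `B' ⟶ B ⟶ S` is a universal section over `B' ⟶ B` of the base change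
of the descent datum to `B`. -/
theorem IsUnivOver.toBc {U : Scheme.{u}} {t' : U ⟶ B'} {ζ : SecF D U}
    (H : IsUnivOver D (b ≫ h) t' ζ) :
    IsUnivOver (bcDD h D) b t' (bcSec ζ (t' ≫ b) (by rw [H.1, Category.assoc])) := by
  refine ⟨rfl, fun T t₁ ξ' ht => ?_⟩
  obtain ⟨m, ⟨hm1, hm2⟩, hmu⟩ := H.2 t₁ (bcSecInv ξ') (by rw [bcSecInv_t, ht, Category.assoc])
  refine ⟨m, ⟨hm1, ?_⟩, fun m' hm' => hmu m' ⟨hm'.1, ?_⟩⟩
  · rw [bcSec_res, ← bcSec_bcSecInv ξ']
    exact bcSec_congr hm2 (by rw [← Category.assoc, hm1, ht]) _ _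
  · have h1 : bcSecInv ((bcSec ζ (t' ≫ b) (by rw [H.1, Category.assoc])).res m') = ζ.res m' := by
      rw [bcSecInv_res, bcSecInv_bcSec]
    rw [← h1, hm'.2]

end UnivOverBc

section Fpqc

variable {S S' : Scheme.{u}} (g : S' ⟶ S)

/-- Effectivity of étale separated quasi-compact descent data descends along an fpqc base change
of an arbitrary base `B ⟶ S`. -/
theorem exists_etale_iso_of_fpqc_baseChange_over (hg : SGA1.UnivSubmersive g)
    (D : SchDDFam (fun _ : PUnit.{u + 1} => g)) {B B₁ : Scheme.{u}} (h : B ⟶ S) (q : B₁ ⟶ B)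
    [Flat q] [Surjective q] [QuasiCompact q] (U₁ : Over B₁) [Etale U₁.hom] [IsSeparated U₁.hom]
    [QuasiCompact U₁.hom]
    (e₁ : (toDDFam (fun _ : PUnit.{u + 1} => pullback.snd g (q ≫ h))).obj U₁ ≅ bcDD (q ≫ h) D) :
    ∃ U : Over B, Etale U.hom ∧ IsSeparated U.hom ∧ QuasiCompact U.hom ∧
      Nonempty ((toDDFam (fun _ : PUnit.{u + 1} => pullback.snd g h)).obj U ≅ bcDD h D) := by
  have hgq : SGA1.UnivSubmersive (pullback.snd g (q ≫ h)) := MorphismProperty.pullback_snd _ _ hg
  have hgh : SGA1.UnivSubmersive (pullback.snd g h) := MorphismProperty.pullback_snd _ _ hg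
  have H1 := isUnivOver_of_iso (D := D) (h := q ≫ h) U₁ e₁ (fun T =>
    Groth.Agent.Lib.EffDescH52.toDDFam_map_bijective_of_etale.{u} (pullback.snd g (q ≫ h)) hgq T U₁)
  have H2 := H1.toBc
  obtain ⟨e₁'⟩ := exists_iso_of_isUnivOver _ _ H2
  haveI : Etale (Over.mk U₁.hom).hom := inferInstanceAs (Etale U₁.hom)
  haveI : IsSeparated (Over.mk U₁.hom).hom := inferInstanceAs (IsSeparated U₁.hom)
  haveI : QuasiCompact (Over.mk U₁.hom).hom := inferInstanceAs (QuasiCompact U₁.hom)
  exact exists_etale_iso_of_fpqc_baseChange (pullback.snd g h) hgh (bcDD h D) q (Over.mk U₁.hom) e₁'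

end Fpqc

section OneUniverse

variable {S S' : Scheme.{u}} (g : S' ⟶ S) (D : SchDDFam (fun _ : PUnit.{1} => g))

/-- From the index universe `0` to the index universe `u`. -/
noncomputable def oneUp {B : Scheme.{u}} (h : B ⟶ S) (U : Over B)
    (e : (toDDFam (fun _ : PUnit.{1} => pullback.snd g h)).obj U ≅
      (bcFunctor (fun _ : PUnit.{1} => g) h).obj D) :
    (toDDFam (fun _ : PUnit.{u + 1} => pullback.snd g h)).obj U ≅
      bcDD h ((oneChange.{0, u} g).obj D) :=
  (oneChangeCanIso.{0, u} (pullback.snd g h) U).symm ≪≫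
    (oneChange.{0, u} (pullback.snd g h)).mapIso e ≪≫ oneChangeBcIso.{0, u} g h D

/-- From the index universe `u` to the index universe `0`. -/
noncomputable def oneDown {B : Scheme.{u}} (h : B ⟶ S) (U : Over B)
    (e : (toDDFam (fun _ : PUnit.{u + 1} => pullback.snd g h)).obj U ≅
      bcDD h ((oneChange.{0, u} g).obj D)) :
    (toDDFam (fun _ : PUnit.{1} => pullback.snd g h)).obj U ≅
      (bcFunctor (fun _ : PUnit.{1} => g) h).obj D :=
  (oneChangeCanIso.{u, 0} (pullback.snd g h) U).symm ≪≫
    (oneChange.{u, 0} (pullback.snd g h)).mapIso e ≪≫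
    (oneChange.{u, 0} (pullback.snd g h)).mapIso (oneChangeBcIso.{0, u} g h D).symm ≪≫
    oneChangeInvIso.{0, u} (pullback.snd g h) ((bcFunctor (fun _ : PUnit.{1} => g) h).obj D)

/-- Base change of an effective étale descent datum. -/
theorem exists_etale_iso_bc {B : Scheme.{u}} (h : B ⟶ S)
    (H : ∃ U : Over S, Etale U.hom ∧ Nonempty ((toDDFam (fun _ : PUnit.{1} => g)).obj U ≅ D)) :
    ∃ U : Over B, Etale U.hom ∧
      Nonempty ((toDDFam (fun _ : PUnit.{1} => pullback.snd g h)).obj U ≅
        (bcFunctor (fun _ : PUnit.{1} => g) h).obj D) := by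
  obtain ⟨U, hU, ⟨e⟩⟩ := H
  refine ⟨bcOver h U, ?_, ⟨(bcCanIso _ h U).symm ≪≫ (bcFunctor _ h).mapIso e⟩⟩
  change Etale (pullback.snd U.hom h)
  infer_instance

/-- **SGA 1 IX: effectivity of an étale finitely presented descent datum along a universally
submersive morphism of finite presentation can be checked over the local rings of the base**
(S5125). -/
theorem etale_effective_iff_stalks (hg : SGA1.UnivSubmersive g)
    [LocallyOfFinitePresentation g] [QuasiCompact g] [QuasiSeparated g]
    [Etale (D.obj PUnit.unit).hom] [QuasiCompact (D.obj PUnit.unit).hom]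
    [QuasiSeparated (D.obj PUnit.unit).hom] :
    (∃ U : Over S, Etale U.hom ∧ Nonempty ((toDDFam (fun _ : PUnit.{1} => g)).obj U ≅ D)) ↔
      ∀ a : S, (∃ U : Over (Spec (S.presheaf.stalk a)), Etale U.hom ∧
        Nonempty ((toDDFam (fun _ : PUnit.{1} => pullback.snd g (S.fromSpecStalk a))).obj U ≅
          (bcFunctor (fun _ : PUnit.{1} => g) (S.fromSpecStalk a)).obj D)) := by
  constructor
  · intro H a
    exact exists_etale_iso_bc g D (S.fromSpecStalk a) H
  · intro H
    choose W hW hWU using fun a : S => (etale_effective_nbhd_iff_stalk g hg D a).mpr (H a)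
    refine (etale_effective_iff_openCover g hg D W ?_).mpr hWU
    exact eq_top_iff.mpr fun x _ => TopologicalSpace.Opens.mem_iSup.mpr ⟨x, hW x⟩

/-- **SGA 1 IX: over a locally Noetherian base, effectivity of an étale separated finitely
presented descent datum along a universally submersive morphism of finite presentation can be
checked over the completions of the local rings of the base** (S5126). -/
theorem etale_effective_iff_completions [IsLocallyNoetherian S] (hg : SGA1.UnivSubmersive g)
    [LocallyOfFinitePresentation g] [QuasiCompact g] [QuasiSeparated g]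
    [Etale (D.obj PUnit.unit).hom] [QuasiCompact (D.obj PUnit.unit).hom]
    [IsSeparated (D.obj PUnit.unit).hom] :
    (∃ U : Over S, Etale U.hom ∧ Nonempty ((toDDFam (fun _ : PUnit.{1} => g)).obj U ≅ D)) ↔
      ∀ a : S, (∃ U : Over (Spec (CommRingCat.of (AdicCompletion
          (IsLocalRing.maximalIdeal (S.presheaf.stalk a)) (S.presheaf.stalk a)))), Etale U.hom ∧
        Nonempty ((toDDFam (fun _ : PUnit.{1} => pullback.snd g
          (Spec.map (CommRingCat.ofHom (algebraMap (S.presheaf.stalk a) (AdicCompletion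
            (IsLocalRing.maximalIdeal (S.presheaf.stalk a)) (S.presheaf.stalk a)))) ≫
              S.fromSpecStalk a))).obj U ≅
          (bcFunctor (fun _ : PUnit.{1} => g)
            (Spec.map (CommRingCat.ofHom (algebraMap (S.presheaf.stalk a) (AdicCompletion
              (IsLocalRing.maximalIdeal (S.presheaf.stalk a)) (S.presheaf.stalk a)))) ≫
                S.fromSpecStalk a)).obj D)) := by
  constructor
  · intro H a
    exact exists_etale_iso_bc g D _ H
  · intro H
    refine (etale_effective_iff_stalks g D hg).mpr fun a => ?_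
    obtain ⟨U₁, hU₁, ⟨e₁⟩⟩ := H a
    let O : CommRingCat.{u} := S.presheaf.stalk a
    let q : Spec (CommRingCat.of (AdicCompletion (IsLocalRing.maximalIdeal O) O)) ⟶ Spec O :=
      Spec.map (CommRingCat.ofHom (algebraMap O (AdicCompletion (IsLocalRing.maximalIdeal O) O)))
    have hff : Module.FaithfullyFlat O (AdicCompletion (IsLocalRing.maximalIdeal O) O) :=
      Module.FaithfullyFlat.of_flat_of_isLocalHom
    have hq := (flat_and_surjective_SpecMap_iff (CommRingCat.ofHom (algebraMap O
      (AdicCompletion (IsLocalRing.maximalIdeal O) O)))).mpr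
      ((RingHom.faithfullyFlat_algebraMap_iff).mpr hff)
    haveI : Flat q := hq.1
    haveI : Surjective q := hq.2
    let D' : SchDDFam (fun _ : PUnit.{u + 1} => g) := (oneChange.{0, u} g).obj D
    let π : (D.obj PUnit.unit).left ⟶ S' := (D.obj PUnit.unit).hom
    let h₁ := q ≫ S.fromSpecStalk a
    have e₁' := oneUp g D h₁ U₁ e₁
    have hg₁ : SGA1.UnivSubmersive (pullback.snd g h₁) := MorphismProperty.pullback_snd _ _ hg
    haveI : Surjective (pullback.snd g h₁) := surjective_of_univSubmersive hg₁
    haveI : QuasiCompact ((bcDD h₁ D').obj PUnit.unit).hom :=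
      inferInstanceAs (QuasiCompact (pullback.snd π (pullback.fst g h₁)))
    haveI : QuasiSeparated ((bcDD h₁ D').obj PUnit.unit).hom :=
      inferInstanceAs (QuasiSeparated (pullback.snd π (pullback.fst g h₁)))
    haveI : IsSeparated ((bcDD h₁ D').obj PUnit.unit).hom :=
      inferInstanceAs (IsSeparated (pullback.snd π (pullback.fst g h₁)))
    obtain ⟨hqc, -⟩ := quasiCompact_quasiSeparated_of_iso (pullback.snd g h₁) U₁ (bcDD h₁ D') e₁'
    haveI : IsSeparated U₁.hom := by
      haveI : IsIso (e₁'.hom.hom PUnit.unit).left := by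
        haveI : IsIso (e₁'.hom.hom PUnit.unit) :=
          ⟨(e₁'.inv.hom PUnit.unit), by
            rw [← SchDDFam.comp_hom, e₁'.hom_inv_id, SchDDFam.id_hom], by
            rw [← SchDDFam.comp_hom, e₁'.inv_hom_id, SchDDFam.id_hom]⟩
        exact inferInstanceAs (IsIso ((Over.forget _).map (e₁'.hom.hom PUnit.unit)))
      have hw : (e₁'.hom.hom PUnit.unit).left ≫ ((bcDD h₁ D').obj PUnit.unit).hom =
          pullback.fst (pullback.snd g h₁) U₁.hom := Over.w (e₁'.hom.hom PUnit.unit)
      have h1 : IsSeparated (pullback.fst (pullback.snd g h₁) U₁.hom) := by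
        rw [← hw]; infer_instance
      exact MorphismProperty.of_pullback_fst_of_descendsAlong (P := @IsSeparated)
        (Q := SGA1.UnivSubmersive) hg₁ h1
    obtain ⟨U, hU, -, -, ⟨e⟩⟩ := exists_etale_iso_of_fpqc_baseChange_over g hg D'
      (S.fromSpecStalk a) q U₁ e₁'
    exact ⟨U, hU, ⟨oneDown g D _ U e⟩⟩

end OneUniverse

end Groth.Agent.Lib.EffDescFamH52
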