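import Groth.Agent.Lib.EffDescFamSecH52
import Groth.Agent.Lib.LimDescent

/-!
# Sections of a finitely presented descent datum over a cofiltered limit (helper52)

`exists_secF_stage`: let `D` be a descent datum relative to one quasi-compact quasi-separated
morphism `g : S' ⟶ S` whose underlying `S'`-scheme is locally of finite presentation.  A section of
`D` (a morphism of descent data from a canonical datum) over a cofiltered limit of qcqs
`S`-schemes with affine transition maps comes from a section over a finite stage (the functor of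
sections is locally of finite presentation).
-/

set_option autoImplicit false
set_option linter.style.haveILetI false
set_option backward.isDefEq.respectTransparency false
set_option backward.isDefEq.respectTransparency.types false

universe u

open CategoryTheory CategoryTheory.Limits AlgebraicGeometry Opposite

namespace Groth.Agent.Lib.EffDescFamH52

open Desc Groth.Agent.Lib.LimPullback Groth.Agent.Lib.LimDescent

section SpreadSec

variable {S S' : Scheme.{u}} {g : S' ⟶ S}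
  {I : Type u} [Category.{u} I] (F : I ⥤ Scheme.{u})
  (t : F ⟶ (Functor.const I).obj S)

theorem t_nat {i j : I} (f : j ⟶ i) : F.map f ≫ t.app i = t.app j := by
  simp

/-- The point of `(S' ×_S F i) ×_{F i} F j` attached to a pair `(x, y)`. -/
noncomputable def stagePt {i : I} (j : Over i) {Z : Scheme.{u}} (x : Z ⟶ S')
    (y : Z ⟶ F.obj j.left) (h : x ≫ g = y ≫ t.app j.left) :
    Z ⟶ pullback (pullback.snd g (t.app i)) (F.map j.hom) :=
  pullback.lift (pullback.lift x (y ≫ F.map j.hom) (by rw [h, Category.assoc, t_nat])) y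
    (by rw [pullback.lift_snd])

@[reassoc (attr := simp)]
theorem stagePt_fst_fst {i : I} (j : Over i) {Z : Scheme.{u}} (x : Z ⟶ S')
    (y : Z ⟶ F.obj j.left) (h : x ≫ g = y ≫ t.app j.left) :
    stagePt F t j x y h ≫ pullback.fst (pullback.snd g (t.app i)) (F.map j.hom) ≫
      pullback.fst g (t.app i) = x := by
  simp [stagePt]

@[reassoc (attr := simp)]
theorem stagePt_snd {i : I} (j : Over i) {Z : Scheme.{u}} (x : Z ⟶ S')
    (y : Z ⟶ F.obj j.left) (h : x ≫ g = y ≫ t.app j.left) :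
    stagePt F t j x y h ≫ pullback.snd (pullback.snd g (t.app i)) (F.map j.hom) = y := by
  simp [stagePt]

theorem stagePt_ext {i : I} (j : Over i) {Z : Scheme.{u}}
    {p q : Z ⟶ pullback (pullback.snd g (t.app i)) (F.map j.hom)}
    (h1 : p ≫ pullback.fst (pullback.snd g (t.app i)) (F.map j.hom) ≫ pullback.fst g (t.app i) =
      q ≫ pullback.fst (pullback.snd g (t.app i)) (F.map j.hom) ≫ pullback.fst g (t.app i))
    (h2 : p ≫ pullback.snd (pullback.snd g (t.app i)) (F.map j.hom) =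
      q ≫ pullback.snd (pullback.snd g (t.app i)) (F.map j.hom)) : p = q := by
  apply pullback.hom_ext
  · apply pullback.hom_ext
    · simpa using h1
    · simp only [Category.assoc]
      rw [pullback.condition, ← Category.assoc, h2, Category.assoc]
  · exact h2

theorem comp_stagePt {i : I} (j : Over i) {Z Z' : Scheme.{u}} (k : Z' ⟶ Z) (x : Z ⟶ S')
    (y : Z ⟶ F.obj j.left) (h : x ≫ g = y ≫ t.app j.left) :
    k ≫ stagePt F t j x y h = stagePt F t j (k ≫ x) (k ≫ y) (by rw [Category.assoc, h, Category.assoc]) := by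
  apply stagePt_ext <;> simp

theorem stagePt_pbMap {i : I} {j k : Over i} (f : k ⟶ j) {Z : Scheme.{u}} (x : Z ⟶ S')
    (y : Z ⟶ F.obj k.left) (h : x ≫ g = y ≫ t.app k.left) :
    stagePt F t k x y h ≫ pbMap F i (pullback.snd g (t.app i)) f =
      stagePt F t j x (y ≫ F.map f.left) (by rw [h, Category.assoc, t_nat]) := by
  apply stagePt_ext
  · rw [Category.assoc, pbMap_fst_assoc]; simp
  · rw [Category.assoc, pbMap_snd]; simp


variable [IsCofiltered I] (c : Cone F) (hc : IsLimit c)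
  [∀ {i j} (f : i ⟶ j), IsAffineHom (F.map f)]
  [∀ i, CompactSpace (F.obj i)] [∀ i, QuasiSeparatedSpace (F.obj i)]

include hc in
/-- **The functor of sections of a descent datum of finite presentation is locally of finite
presentation**: a section over a cofiltered limit of qcqs schemes with affine transition maps comes
from a finite stage. -/
theorem exists_secF_stage (D : SchDDFam (fun _ : PUnit.{u + 1} => g)) [QuasiCompact g]
    [QuasiSeparated g] [LocallyOfFinitePresentation (D.obj PUnit.unit).hom]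
    (i : I) (ξ : SecF D c.pt) (hξ : ξ.t = c.π.app i ≫ t.app i) :
    ∃ (k : I) (ξk : SecF D (F.obj k)), ξk.t = t.app k ∧ ξk.res (c.π.app k) = ξ := by
  classical
  let V : Scheme.{u} := (D.obj PUnit.unit).left
  let π : V ⟶ S' := (D.obj PUnit.unit).hom
  let a₁ : pullback g (t.app i) ⟶ F.obj i := pullback.snd g (t.app i)
  haveI : CompactSpace ↥(pullback g (t.app i)) := QuasiCompact.compactSpace_of_compactSpace a₁
  haveI : QuasiSeparatedSpace ↥(pullback g (t.app i)) :=
    quasiSeparatedSpace_of_quasiSeparated a₁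
  let P1 : Over i ⥤ Scheme.{u} := pbDiagram F i a₁
  let tP1 : P1 ⟶ (Functor.const (Over i)).obj S' :=
    { app := fun j => pullback.fst a₁ (F.map j.hom) ≫ pullback.fst g (t.app i)
      naturality := fun j k f => by
        change pbMap F i a₁ f ≫ _ = _ ≫ 𝟙 _
        rw [pbMap_fst_assoc, Category.comp_id] }
  -- the morphism at the limit
  have hcπ : ∀ j : Over i, c.π.app j.left ≫ t.app j.left = ξ.t := fun j => by
    rw [hξ, ← c.w j.hom, Category.assoc, t_nat]
  let A : pullback a₁ (c.π.app i) ⟶ V :=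
    (ξ.ev (pullback.fst a₁ (c.π.app i) ≫ pullback.fst g (t.app i)) (pullback.snd a₁ (c.π.app i))
      (by rw [Category.assoc, pullback.condition, ← Category.assoc, pullback.condition,
        Category.assoc, hξ])).1
  have hA : A ≫ π = pullback.fst a₁ (c.π.app i) ≫ pullback.fst g (t.app i) :=
    (ξ.ev (pullback.fst a₁ (c.π.app i) ≫ pullback.fst g (t.app i)) (pullback.snd a₁ (c.π.app i))
      (by rw [Category.assoc, pullback.condition, ← Category.assoc, pullback.condition,
        Category.assoc, hξ])).2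
  have ha : (pbCone F c i a₁).π ≫ tP1 = (Functor.const _).map ((A : (pbCone F c i a₁).pt ⟶ V) ≫ π) := by
    ext j : 2
    change pbProj F c i a₁ j ≫ pullback.fst a₁ (F.map j.hom) ≫ pullback.fst g (t.app i) = A ≫ π
    rw [pbProj_fst_assoc, hA]
  obtain ⟨j, m', hm1', hm2'⟩ := Scheme.exists_π_app_comp_eq_of_locallyOfFinitePresentation
    P1 tP1 π (pbCone F c i a₁) (isLimitPbCone hc) A ha
  obtain ⟨m, hm1, hm2⟩ : ∃ m : pullback a₁ (F.map j.hom) ⟶ V,
      pbProj F c i a₁ j ≫ m = A ∧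
      m ≫ π = pullback.fst a₁ (F.map j.hom) ≫ pullback.fst g (t.app i) := ⟨m', hm1', hm2'⟩
  clear hm1' hm2' m'
  -- evaluation at stage `j`
  let e : ∀ ⦃Z : Scheme.{u}⦄ (x : Z ⟶ S') (y : Z ⟶ F.obj j.left), x ≫ g = y ≫ t.app j.left →
      Lifts (D.obj PUnit.unit) x := fun Z x y h =>
    ⟨stagePt F t j x y h ≫ m, by
      change (stagePt F t j x y h ≫ m) ≫ π = x
      rw [Category.assoc, hm2, stagePt_fst_fst]⟩
  have e_val : ∀ ⦃Z : Scheme.{u}⦄ (x : Z ⟶ S') (y : Z ⟶ F.obj j.left)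
      (h : x ≫ g = y ≫ t.app j.left), (e x y h).1 = stagePt F t j x y h ≫ m := fun Z x y h => rfl
  have e_nat : ∀ ⦃Z Z' : Scheme.{u}⦄ (k : Z' ⟶ Z) (x : Z ⟶ S') (y : Z ⟶ F.obj j.left)
      (h : x ≫ g = y ≫ t.app j.left) (x' : Z' ⟶ S') (y' : Z' ⟶ F.obj j.left)
      (h' : x' ≫ g = y' ≫ t.app j.left), x' = k ≫ x → y' = k ≫ y →
      (e x' y' h').1 = k ≫ (e x y h).1 := by
    intro Z Z' k x y h x' y' h' hx hy
    subst hx hy
    rw [e_val, e_val, ← Category.assoc, comp_stagePt]
  -- comparison with `ξ` at the limit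
  have e_lim : ∀ ⦃Z : Scheme.{u}⦄ (x : Z ⟶ S') (y : Z ⟶ c.pt) (h : x ≫ g = y ≫ ξ.t),
      (e x (y ≫ c.π.app j.left) (by rw [h, Category.assoc, hcπ])).1 = (ξ.ev x y h).1 := by
    intro Z x y h
    let q : Z ⟶ pullback a₁ (c.π.app i) :=
      pullback.lift (pullback.lift x (y ≫ c.π.app i) (by rw [h, hξ, Category.assoc])) y
        (by rw [pullback.lift_snd])
    have hq : stagePt F t j x (y ≫ c.π.app j.left) (by rw [h, Category.assoc, hcπ]) =
        q ≫ pbProj F c i a₁ j := by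
      apply stagePt_ext
      · rw [stagePt_fst_fst, Category.assoc, pbProj_fst_assoc]
        simp [q]
      · rw [stagePt_snd, Category.assoc, pbProj_snd]
        simp [q]
    rw [e_val, hq, Category.assoc, hm1]
    symm
    apply ξ.ev_nat q
    · simp [q]
    · simp [q]
  -- the system of pairs of points
  let g₂ : pullback g g ⟶ S := pullback.fst g g ≫ g
  let a₂ : pullback g₂ (t.app i) ⟶ F.obj i := pullback.snd g₂ (t.app i)
  haveI : CompactSpace ↥(pullback g₂ (t.app i)) := QuasiCompact.compactSpace_of_compactSpace a₂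
  let P2 : Over i ⥤ Scheme.{u} := pbDiagram F i a₂
  let X₀ : ∀ jj : Over i, pullback a₂ (F.map jj.hom) ⟶ S' := fun jj =>
    pullback.fst a₂ (F.map jj.hom) ≫ pullback.fst g₂ (t.app i) ≫ pullback.fst g g
  let X₁ : ∀ jj : Over i, pullback a₂ (F.map jj.hom) ⟶ S' := fun jj =>
    pullback.fst a₂ (F.map jj.hom) ≫ pullback.fst g₂ (t.app i) ≫ pullback.snd g g
  have h0 : ∀ jj : Over i, X₀ jj ≫ g = pullback.snd a₂ (F.map jj.hom) ≫ t.app jj.left := by
    intro jj
    change (pullback.fst a₂ (F.map jj.hom) ≫ pullback.fst g₂ (t.app i) ≫ pullback.fst g g) ≫ g = _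
    have e1 : pullback.fst g₂ (t.app i) ≫ g₂ = a₂ ≫ t.app i := pullback.condition
    have e2 : pullback.fst a₂ (F.map jj.hom) ≫ a₂ = pullback.snd a₂ (F.map jj.hom) ≫ F.map jj.hom :=
      pullback.condition
    calc (pullback.fst a₂ (F.map jj.hom) ≫ pullback.fst g₂ (t.app i) ≫ pullback.fst g g) ≫ g
        = pullback.fst a₂ (F.map jj.hom) ≫ pullback.fst g₂ (t.app i) ≫ g₂ := by
          simp only [Category.assoc]; rfl
      _ = (pullback.fst a₂ (F.map jj.hom) ≫ a₂) ≫ t.app i := by rw [e1, Category.assoc]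
      _ = pullback.snd a₂ (F.map jj.hom) ≫ t.app jj.left := by rw [e2, Category.assoc, t_nat]
  have h01 : ∀ jj : Over i, X₀ jj ≫ g = X₁ jj ≫ g := by
    intro jj
    change (pullback.fst a₂ (F.map jj.hom) ≫ pullback.fst g₂ (t.app i) ≫ pullback.fst g g) ≫ g =
      (pullback.fst a₂ (F.map jj.hom) ≫ pullback.fst g₂ (t.app i) ≫ pullback.snd g g) ≫ g
    simp only [Category.assoc]
    rw [pullback.condition (f := g) (g := g)]
  have h1 : ∀ jj : Over i, X₁ jj ≫ g = pullback.snd a₂ (F.map jj.hom) ≫ t.app jj.left :=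
    fun jj => (h01 jj).symm.trans (h0 jj)
  let tP2 : P2 ⟶ (Functor.const (Over i)).obj S' :=
    { app := fun jj => X₁ jj
      naturality := fun jj kk f => by
        change pbMap F i a₂ f ≫ pullback.fst a₂ (F.map kk.hom) ≫ _ = _ ≫ 𝟙 _
        rw [pbMap_fst_assoc, Category.comp_id] }
  let L : pullback a₂ (F.map j.hom) ⟶ V :=
    (D.φ (X₀ j) (X₁ j) (h01 j) (e (X₀ j) (pullback.snd a₂ (F.map j.hom)) (h0 j))).1
  let R : pullback a₂ (F.map j.hom) ⟶ V := (e (X₁ j) (pullback.snd a₂ (F.map j.hom)) (h1 j)).1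
  have hL : tP2.app j = L ≫ π :=
    ((D.φ (X₀ j) (X₁ j) (h01 j) (e (X₀ j) (pullback.snd a₂ (F.map j.hom)) (h0 j))).2).symm
  have hR : tP2.app j = R ≫ π := ((e (X₁ j) (pullback.snd a₂ (F.map j.hom)) (h1 j)).2).symm
  have hab : (pbCone F c i a₂).π.app j ≫ L = (pbCone F c i a₂).π.app j ≫ R := by
    change pbProj F c i a₂ j ≫ L = pbProj F c i a₂ j ≫ R
    obtain ⟨q, hq⟩ : ∃ q : pullback a₂ (c.π.app i) ⟶ pullback a₂ (F.map j.hom),
      q = pbProj F c i a₂ j := ⟨_, rfl⟩
    rw [← hq]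
    let y : pullback a₂ (c.π.app i) ⟶ c.pt := pullback.snd a₂ (c.π.app i)
    have hqy : q ≫ pullback.snd a₂ (F.map j.hom) = y ≫ c.π.app j.left := by
      rw [hq, pbProj_snd]
    have hy0 : (q ≫ X₀ j) ≫ g = y ≫ ξ.t := by
      rw [Category.assoc, h0, ← Category.assoc, hqy, Category.assoc, hcπ]
    have hy1 : (q ≫ X₁ j) ≫ g = y ≫ ξ.t := by
      rw [Category.assoc, h1, ← Category.assoc, hqy, Category.assoc, hcπ]
    have hy01 : (q ≫ X₀ j) ≫ g = (q ≫ X₁ j) ≫ g := hy0.trans hy1.symm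
    have k0 : (ξ.ev (q ≫ X₀ j) y hy0).1 =
        q ≫ (e (X₀ j) (pullback.snd a₂ (F.map j.hom)) (h0 j)).1 := by
      rw [← e_lim (q ≫ X₀ j) y hy0]
      exact e_nat q _ _ _ _ _ _ rfl hqy.symm
    have k1 : (ξ.ev (q ≫ X₁ j) y hy1).1 =
        q ≫ (e (X₁ j) (pullback.snd a₂ (F.map j.hom)) (h1 j)).1 := by
      rw [← e_lim (q ≫ X₁ j) y hy1]
      exact e_nat q _ _ _ _ _ _ rfl hqy.symm
    have k2 := D.φ_natural q (i := PUnit.unit) (j := PUnit.unit) (X₀ j) (X₁ j) (h01 j) (q ≫ X₀ j) (q ≫ X₁ j) rfl rfl hy01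
      (e (X₀ j) (pullback.snd a₂ (F.map j.hom)) (h0 j)) (ξ.ev (q ≫ X₀ j) y hy0) k0
    change q ≫ (D.φ (X₀ j) (X₁ j) (h01 j) (e (X₀ j) (pullback.snd a₂ (F.map j.hom)) (h0 j))).1 =
      q ≫ (e (X₁ j) (pullback.snd a₂ (F.map j.hom)) (h1 j)).1
    rw [← k2, ← k1, ξ.φ_ev (q ≫ X₀ j) (q ≫ X₁ j) y hy0 hy1 hy01]
  obtain ⟨k, fkj, hk⟩ := Scheme.exists_hom_comp_eq_comp_of_locallyOfFiniteType P2 tP2 π
    (pbCone F c i a₂) (isLimitPbCone hc) L R hL hR hab
  have hk' : pbMap F i a₂ fkj ≫ L = pbMap F i a₂ fkj ≫ R := hk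
  have e_congr : ∀ ⦃Z : Scheme.{u}⦄ (x : Z ⟶ S') (y y' : Z ⟶ F.obj j.left)
      (h : x ≫ g = y ≫ t.app j.left) (h' : x ≫ g = y' ≫ t.app j.left), y = y' →
      (e x y h).1 = (e x y' h').1 := by
    intro Z x y y' h h' hy
    subst hy
    rfl
  have hyk : ∀ ⦃Z : Scheme.{u}⦄ (x : Z ⟶ S') (y : Z ⟶ F.obj k.left),
      x ≫ g = y ≫ t.app k.left → x ≫ g = (y ≫ F.map fkj.left) ≫ t.app j.left := by
    intro Z x y h
    rw [h, Category.assoc, t_nat]
  let ξk : SecF D (F.obj k.left) := SecF.ofEv (t.app k.left)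
    (fun Z _ x y h => e x (y ≫ F.map fkj.left) (hyk x y h))
    (fun Z Z' kk _ x y h x' y' h' hx hy =>
      e_nat kk x (y ≫ F.map fkj.left) (hyk x y h) x' (y' ≫ F.map fkj.left) (hyk x' y' h') hx
        (by rw [hy, Category.assoc]))
    (fun Z _ _ x₀ x₁ y h₀ h₁ h => by
      apply Subtype.ext
      -- the point of `P2 k`
      let qk : Z ⟶ pullback a₂ (F.map k.hom) :=
        pullback.lift (pullback.lift (pullback.lift x₀ x₁ h) (y ≫ F.map k.hom) (by
          change pullback.lift x₀ x₁ h ≫ pullback.fst g g ≫ g = _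
          rw [pullback.lift_fst_assoc, h₀, Category.assoc, t_nat])) y (by
          rw [pullback.lift_snd])
      obtain ⟨q, hq⟩ : ∃ q : Z ⟶ pullback a₂ (F.map j.hom), q = qk ≫ pbMap F i a₂ fkj := ⟨_, rfl⟩
      have q0 : q ≫ X₀ j = x₀ := by
        rw [hq]
        change (qk ≫ pbMap F i a₂ fkj) ≫ pullback.fst a₂ (F.map j.hom) ≫
          pullback.fst g₂ (t.app i) ≫ pullback.fst g g = x₀
        rw [Category.assoc, pbMap_fst_assoc]
        simp [qk]
      have q1 : q ≫ X₁ j = x₁ := by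
        rw [hq]
        change (qk ≫ pbMap F i a₂ fkj) ≫ pullback.fst a₂ (F.map j.hom) ≫
          pullback.fst g₂ (t.app i) ≫ pullback.snd g g = x₁
        rw [Category.assoc, pbMap_fst_assoc]
        simp [qk]
      have qy : q ≫ pullback.snd a₂ (F.map j.hom) = y ≫ F.map fkj.left := by
        rw [hq, Category.assoc, pbMap_snd]
        simp [qk]
      have k0 : (e x₀ (y ≫ F.map fkj.left) (hyk x₀ y h₀)).1 =
          q ≫ (e (X₀ j) (pullback.snd a₂ (F.map j.hom)) (h0 j)).1 :=
        e_nat q _ _ _ _ _ _ q0.symm qy.symm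
      have k1 : (e x₁ (y ≫ F.map fkj.left) (hyk x₁ y h₁)).1 =
          q ≫ (e (X₁ j) (pullback.snd a₂ (F.map j.hom)) (h1 j)).1 :=
        e_nat q _ _ _ _ _ _ q1.symm qy.symm
      have k2 := D.φ_natural q (i := PUnit.unit) (j := PUnit.unit) (X₀ j) (X₁ j) (h01 j) x₀ x₁
        q0 q1 h (e (X₀ j) (pullback.snd a₂ (F.map j.hom)) (h0 j))
        (e x₀ (y ≫ F.map fkj.left) (hyk x₀ y h₀)) k0
      rw [k2, k1]
      change q ≫ L = q ≫ R
      rw [hq, Category.assoc, Category.assoc, hk'])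
  refine ⟨k.left, ξk, rfl, ?_⟩
  apply SecF.ext_ev (hcπ k)
  intro Z _ x y h
  rw [SecF.res_ev, SecF.ofEv_ev]
  have h' : x ≫ g = y ≫ ξ.t := by
    rw [h, SecF.res_t, SecF.ofEv_t, hcπ k]
  rw [← e_lim x y h']
  apply e_congr
  rw [Category.assoc, c.w]

end SpreadSec

end Groth.Agent.Lib.EffDescFamH52
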