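import Mathlib

/-!
# The spectrum of a stalk as a cofiltered limit of affine open neighbourhoods (helper62)

For a scheme `Z` over `T` and a point `η`, the scheme `Spec 𝒪_{Z,η}` is the limit in `Over T` of
the schemes `Spec Γ(Z, V)` over the affine open neighbourhoods `V` of `η`.
-/

set_option autoImplicit false
universe u

open CategoryTheory Limits AlgebraicGeometry TopologicalSpace

namespace Groth.Agent.Lib.FieldPointStalk

variable (Z : Scheme.{u}) (η : Z)

/-- Affine open neighbourhoods of a point, ordered by reverse inclusion. -/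
structure Nbhd : Type u where
  /-- the underlying open -/
  U : Z.Opens
  isAffine : IsAffineOpen U
  mem : η ∈ U

variable {Z η}

instance : Preorder (Nbhd Z η) where
  le V W := W.U ≤ V.U
  le_refl _ := le_rfl
  le_trans _ _ _ h1 h2 := h2.trans h1

theorem Nbhd.exists_le (W : Z.Opens) (hW : η ∈ W) : ∃ V : Nbhd Z η, V.U ≤ W := by
  obtain ⟨_, ⟨U, hU, rfl⟩, hxU, hUW⟩ :=
    Z.isBasis_affineOpens.exists_subset_of_mem_open hW W.2
  exact ⟨⟨U, hU, hxU⟩, hUW⟩

instance : Nonempty (Nbhd Z η) :=
  let ⟨V, _⟩ := Nbhd.exists_le (η := η) ⊤ trivial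
  ⟨V⟩

instance : IsDirected (Nbhd Z η) (· ≤ ·) := ⟨fun V W => by
  obtain ⟨X, hX⟩ := Nbhd.exists_le (η := η) (V.U ⊓ W.U) ⟨V.mem, W.mem⟩
  exact ⟨X, hX.trans inf_le_left, hX.trans inf_le_right⟩⟩

variable (Z η)

/-- The diagram of rings of sections over affine open neighbourhoods. -/
def ringFunctor : Nbhd Z η ⥤ CommRingCat.{u} where
  obj V := Γ(Z, V.U)
  map {V W} f := Z.presheaf.map (homOfLE (leOfHom f : W.U ≤ V.U)).op
  map_id V := by
    rw [← Z.presheaf.map_id]
    rfl
  map_comp f g := by
    rw [← Z.presheaf.map_comp]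
    rfl

/-- The cocone of germ maps. -/
noncomputable def ringCocone : Cocone (ringFunctor Z η) where
  pt := Z.presheaf.stalk η
  ι :=
  { app := fun V => Z.presheaf.germ V.U η V.mem
    naturality := fun V W f => by
      simp only [Functor.const_obj_obj, Functor.const_obj_map, Category.comp_id]
      exact Z.presheaf.germ_res (homOfLE (leOfHom f)) η W.mem }

/-- The stalk is the filtered colimit of sections over affine open neighbourhoods. -/
noncomputable def isColimitRingCocone : IsColimit (ringCocone Z η) := by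
  haveI : ReflectsColimit (ringFunctor Z η) (forget CommRingCat.{u}) :=
    reflectsColimit_of_reflectsIsomorphisms _ _
  refine isColimitOfReflects (forget CommRingCat.{u}) ?_
  refine Types.FilteredColimit.isColimitOf' _ _ ?_ ?_
  · intro x
    obtain ⟨U, hU, s, hs⟩ := Z.presheaf.exists_germ_eq (x := η) x
    obtain ⟨V, hV⟩ := Nbhd.exists_le U hU
    refine ⟨V, Z.presheaf.map (homOfLE hV).op s, ?_⟩
    rw [← hs]
    exact (Z.presheaf.germ_res_apply (homOfLE hV) η V.mem s).symm
  · intro V s t h
    obtain ⟨W, hW, iU, iV, e⟩ := Z.presheaf.germ_eq η V.mem V.mem s t h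
    obtain ⟨X, hX⟩ := Nbhd.exists_le W hW
    refine ⟨X, homOfLE (show V ≤ X from hX.trans iU.le), ?_⟩
    obtain rfl : iU = iV := Subsingleton.elim _ _
    have key : ∀ r : Γ(Z, V.U), Z.presheaf.map (homOfLE (hX.trans iU.le)).op r =
        Z.presheaf.map (homOfLE hX).op (Z.presheaf.map iU.op r) := by
      intro r
      rw [← ConcreteCategory.comp_apply, ← Functor.map_comp]
      rfl
    change Z.presheaf.map (homOfLE (hX.trans iU.le)).op s =
      Z.presheaf.map (homOfLE (hX.trans iU.le)).op t
    rw [key s, key t, e]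

/-- The cofiltered diagram of schemes `V ↦ Spec Γ(Z, V)`. -/
noncomputable def D : (Nbhd Z η)ᵒᵖ ⥤ Scheme.{u} := (ringFunctor Z η).op ⋙ Scheme.Spec

/-- The cone with point `Spec 𝒪_{Z,η}`. -/
noncomputable def cone : Cone (D Z η) := Scheme.Spec.mapCone (ringCocone Z η).op

/-- `Spec 𝒪_{Z,η}` is the limit of the `Spec Γ(Z, V)`. -/
noncomputable def isLimitCone : IsLimit (cone Z η) :=
  isLimitOfPreserves Scheme.Spec (isColimitRingCocone Z η).op

theorem D_obj (V : (Nbhd Z η)ᵒᵖ) : (D Z η).obj V = Spec Γ(Z, V.unop.U) := rfl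

theorem D_map {V W : (Nbhd Z η)ᵒᵖ} (f : V ⟶ W) : (D Z η).map f =
    Spec.map (Z.presheaf.map (homOfLE (leOfHom f.unop : V.unop.U ≤ W.unop.U)).op) := rfl

theorem cone_pt : (cone Z η).pt = Spec (Z.presheaf.stalk η) := rfl

theorem cone_π_app (V : (Nbhd Z η)ᵒᵖ) :
    (cone Z η).π.app V = Spec.map (Z.presheaf.germ V.unop.U η V.unop.mem) := rfl

theorem D_map_fromSpec {V W : (Nbhd Z η)ᵒᵖ} (f : V ⟶ W) :
    (D Z η).map f ≫ W.unop.isAffine.fromSpec = V.unop.isAffine.fromSpec := by
  rw [D_map]
  exact W.unop.isAffine.map_fromSpec V.unop.isAffine (homOfLE (leOfHom f.unop)).op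

theorem cone_π_app_fromSpec (V : (Nbhd Z η)ᵒᵖ) :
    (cone Z η).π.app V ≫ V.unop.isAffine.fromSpec = Z.fromSpecStalk η := by
  rw [cone_π_app, ← V.unop.isAffine.fromSpecStalk_eq_fromSpecStalk V.unop.mem]
  rfl

variable {T : Scheme.{u}} (a : Z ⟶ T)

/-- The diagram in `Over T`. -/
noncomputable def DOver : (Nbhd Z η)ᵒᵖ ⥤ Over T where
  obj V := Over.mk (V.unop.isAffine.fromSpec ≫ a)
  map {V W} f := Over.homMk ((D Z η).map f) (by
    change (D Z η).map f ≫ W.unop.isAffine.fromSpec ≫ a = V.unop.isAffine.fromSpec ≫ a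
    rw [← Category.assoc, D_map_fromSpec]
    rfl)
  map_id V := by
    ext1
    exact (D Z η).map_id V
  map_comp f g := by
    ext1
    exact (D Z η).map_comp f g

/-- The cone in `Over T` with point `Spec 𝒪_{Z,η}`. -/
noncomputable def coneOver : Cone (DOver Z η a) where
  pt := Over.mk (Z.fromSpecStalk η ≫ a)
  π :=
  { app := fun V => Over.homMk ((cone Z η).π.app V) (by
      change (cone Z η).π.app V ≫ V.unop.isAffine.fromSpec ≫ a = Z.fromSpecStalk η ≫ a
      rw [← Category.assoc, cone_π_app_fromSpec]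
      rfl)
    naturality := fun V W f => by
      ext1
      exact (cone Z η).π.naturality f }

/-- The underlying cone in schemes of a cone over `DOver`. -/
noncomputable def forgetCone (s : Cone (DOver Z η a)) : Cone (D Z η) where
  pt := s.pt.left
  π :=
  { app := fun V => (s.π.app V).left
    naturality := fun V W f => by
      have := congrArg (fun m => m.left) (s.π.naturality f)
      exact this }

/-- `Spec 𝒪_{Z,η}` is the limit in `Over T`. -/
noncomputable def isLimitConeOver : IsLimit (coneOver Z η a) where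
  lift s := Over.homMk ((isLimitCone Z η).lift (forgetCone Z η a s)) (by
    obtain ⟨V⟩ : Nonempty (Nbhd Z η)ᵒᵖ := inferInstance
    change (isLimitCone Z η).lift (forgetCone Z η a s) ≫ Z.fromSpecStalk η ≫ a = s.pt.hom
    rw [← cone_π_app_fromSpec Z η V, Category.assoc, ← Category.assoc,
      (isLimitCone Z η).fac (forgetCone Z η a s) V]
    exact Over.w (s.π.app V))
  fac s V := by
    ext1
    exact (isLimitCone Z η).fac (forgetCone Z η a s) V
  uniq s m hm := by
    ext1
    exact (isLimitCone Z η).uniq (forgetCone Z η a s) m.left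
      (fun V => congrArg (fun m => m.left) (hm V))

end Groth.Agent.Lib.FieldPointStalk
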