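import Groth.Agent.Lib.EffDescBcSecBCH52
import Groth.Agent.Lib.EffDescSpreadSecH52
import Groth.Agent.Lib.DescFPOver
import Groth.Agent.Lib.DescFPSpread
import Groth.Agent.Lib.FieldPointStalk
import Groth.Agent.Lib.LimDescentIso

/-!
# Étale descent data along universally submersive morphisms of finite presentation: effectivity
near a point and over the local ring (helper52)

* `quasiCompact_quasiSeparated_of_iso`: quasi-compactness and quasi-separatedness descend along
  surjective quasi-compact morphisms.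
* `exists_etale_iso_nbhd_of_stalk`: if the descent datum induced over `Spec 𝒪_{S,a}` is the canonical
  datum of an étale scheme, so is the datum induced over an open neighbourhood of `a`
  (EGA IV 8.8.2 for the scheme via helper62's `DescFP`, `exists_secF_stage` for the section,
  `LimDescent.exists_isIso_stage` + `isBC_bcSec_m` for the isomorphism).
* `etale_effective_nbhd_iff_stalk` (S5124).
-/

set_option autoImplicit false
set_option linter.style.haveILetI false
set_option backward.isDefEq.respectTransparency false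
set_option backward.isDefEq.respectTransparency.types false

universe u

open CategoryTheory CategoryTheory.Limits AlgebraicGeometry Opposite

namespace Groth.Agent.Lib.EffDescFamH52

open Desc Groth.Agent.Lib.SubmDescH52 Groth.Agent.Lib.LimPullback Groth.Agent.Lib.LimDescent
  Groth.Agent.Lib.FieldPointStalk

instance descendsAlong_quasiCompact_surj_qc :
    MorphismProperty.DescendsAlong @QuasiCompact.{u} (@Surjective ⊓ @QuasiCompact) where
  of_isPullback {A X Y Z fst snd f g} hpb hf hfst := by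
    haveI : Surjective f := hf.1
    haveI : QuasiCompact f := hf.2
    haveI : QuasiCompact fst := hfst
    exact quasiCompact_of_isPullback hpb

instance : (@Surjective ⊓ @QuasiCompact : MorphismProperty Scheme.{u}).IsStableUnderBaseChange :=
  inferInstance

instance descendsAlong_quasiSeparated_surj_qc :
    MorphismProperty.DescendsAlong @QuasiSeparated.{u} (@Surjective ⊓ @QuasiCompact) := by
  rw [quasiSeparated_eq_diagonal_is_quasiCompact]
  infer_instance

/-- If a canonical descent datum relative to a surjective quasi-compact morphism has a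
quasi-compact (resp. quasi-separated) underlying morphism, so has the scheme it comes from. -/
theorem quasiCompact_quasiSeparated_of_iso {B S'B : Scheme.{u}} (gB : S'B ⟶ B) [Surjective gB]
    [QuasiCompact gB] (U : Over B) (DB : SchDDFam (fun _ : PUnit.{u + 1} => gB))
    [QuasiCompact (DB.obj PUnit.unit).hom] [QuasiSeparated (DB.obj PUnit.unit).hom]
    (e : (toDDFam (fun _ : PUnit.{u + 1} => gB)).obj U ≅ DB) :
    QuasiCompact U.hom ∧ QuasiSeparated U.hom := by
  haveI : IsIso (e.hom.hom PUnit.unit).left := by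
    haveI : IsIso (e.hom.hom PUnit.unit) :=
      ⟨(e.inv.hom PUnit.unit), by
        rw [← SchDDFam.comp_hom, e.hom_inv_id, SchDDFam.id_hom], by
        rw [← SchDDFam.comp_hom, e.inv_hom_id, SchDDFam.id_hom]⟩
    exact inferInstanceAs (IsIso ((Over.forget _).map (e.hom.hom PUnit.unit)))
  have hw : (e.hom.hom PUnit.unit).left ≫ (DB.obj PUnit.unit).hom = pullback.fst gB U.hom :=
    Over.w (e.hom.hom PUnit.unit)
  have h1 : QuasiCompact (pullback.fst gB U.hom) := by rw [← hw]; infer_instance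
  have h2 : QuasiSeparated (pullback.fst gB U.hom) := by rw [← hw]; infer_instance
  exact ⟨MorphismProperty.of_pullback_fst_of_descendsAlong (P := @QuasiCompact)
      (Q := @Surjective ⊓ @QuasiCompact) ⟨inferInstance, inferInstance⟩ h1,
    MorphismProperty.of_pullback_fst_of_descendsAlong (P := @QuasiSeparated)
      (Q := @Surjective ⊓ @QuasiCompact) ⟨inferInstance, inferInstance⟩ h2⟩


section Main

variable {S S' : Scheme.{u}} (g : S' ⟶ S)

theorem exists_etale_iso_nbhd_of_stalk (hg : SGA1.UnivSubmersive g)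
    [LocallyOfFinitePresentation g] [QuasiCompact g] [QuasiSeparated g]
    (D : SchDDFam (fun _ : PUnit.{u + 1} => g)) [Etale (D.obj PUnit.unit).hom]
    [QuasiCompact (D.obj PUnit.unit).hom] [QuasiSeparated (D.obj PUnit.unit).hom] (a : S)
    (Ua : Over (Spec (S.presheaf.stalk a))) [Etale Ua.hom]
    (ea : (toDDFam (fun _ : PUnit.{u + 1} => pullback.snd g (S.fromSpecStalk a))).obj Ua ≅
      bcDD (S.fromSpecStalk a) D) :
    ∃ W : S.Opens, a ∈ W ∧ ∃ U : Over (W : Scheme.{u}), Etale U.hom ∧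
      Nonempty ((toDDFam (fun _ : PUnit.{u + 1} => pullback.snd g W.ι)).obj U ≅ bcDD W.ι D) := by
  classical
  let π : (D.obj PUnit.unit).left ⟶ S' := (D.obj PUnit.unit).hom
  let ha : Spec (S.presheaf.stalk a) ⟶ S := S.fromSpecStalk a
  let ga : pullback g ha ⟶ Spec (S.presheaf.stalk a) := pullback.snd g ha
  have hga : SGA1.UnivSubmersive ga := MorphismProperty.pullback_snd _ _ hg
  haveI : Surjective ga := surjective_of_univSubmersive hga
  haveI : QuasiCompact ((bcDD ha D).obj PUnit.unit).hom :=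
    inferInstanceAs (QuasiCompact (pullback.snd π (pullback.fst g ha)))
  haveI : QuasiSeparated ((bcDD ha D).obj PUnit.unit).hom :=
    inferInstanceAs (QuasiSeparated (pullback.snd π (pullback.fst g ha)))
  obtain ⟨hqc, hqs⟩ := quasiCompact_quasiSeparated_of_iso ga Ua (bcDD ha D) ea
  -- the section over `Ua`
  let ζa : SecF D Ua.left := bcSecInv (SecF.ofHom Ua ea.hom)
  have hζa : ζa.t = Ua.hom ≫ ha := rfl
  -- the limit system
  let DI : (Nbhd S a)ᵒᵖ ⥤ Scheme.{u} := FieldPointStalk.D S a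
  let c : Cone DI := cone S a
  have hc : IsLimit c := isLimitCone S a
  haveI hDIaff : ∀ i : (Nbhd S a)ᵒᵖ, IsAffine (DI.obj i) := fun i =>
    inferInstanceAs (IsAffine (Spec Γ(S, i.unop.U)))
  haveI : ∀ {i j : (Nbhd S a)ᵒᵖ} (f : i ⟶ j), IsAffineHom (DI.map f) := fun f => inferInstance
  obtain ⟨i₀⟩ : Nonempty (Nbhd S a)ᵒᵖ := inferInstance
  obtain ⟨j, -, Uj, uj, gU, hEt, hlfp, hcpt, hqsp, sq⟩ :=
    Groth.Agent.Lib.DescFP.exists_model_with_prop_over DI c hc i₀ @Etale
      Groth.Agent.Lib.DescFP.descends_etale Ua.hom inferInstance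
  haveI := hcpt
  haveI := hqsp
  haveI := hEt
  -- the system of models
  let F : Over j ⥤ Scheme.{u} := pbDiagram DI j uj
  let cF : Cone F := (pbCone DI c j uj).extend sq.isoPullback.hom
  have hcF : IsLimit cF := IsLimit.extendIso (s := pbCone DI c j uj) sq.isoPullback.hom
    (isLimitPbCone hc)
  have cF_app : ∀ jj : Over j, cF.π.app jj = sq.isoPullback.hom ≫ pbProj DI c j uj jj :=
    fun jj => rfl
  let hl : ∀ i : (Nbhd S a)ᵒᵖ, DI.obj i ⟶ S := fun i => i.unop.isAffine.fromSpec
  have hl_map : ∀ {i i' : (Nbhd S a)ᵒᵖ} (φ : i ⟶ i'), DI.map φ ≫ hl i' = hl i := fun φ =>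
    FieldPointStalk.D_map_fromSpec S a φ
  have hl_c : ∀ i : (Nbhd S a)ᵒᵖ, c.π.app i ≫ hl i = ha := fun i =>
    FieldPointStalk.cone_π_app_fromSpec S a i
  let t : F ⟶ (Functor.const (Over j)).obj S :=
    { app := fun jj => pullback.snd uj (DI.map jj.hom) ≫ hl jj.left
      naturality := fun jj kk φ => by
        change pbMap DI j uj φ ≫ pullback.snd uj (DI.map kk.hom) ≫ hl kk.left =
          (pullback.snd uj (DI.map jj.hom) ≫ hl jj.left) ≫ 𝟙 _
        rw [pbMap_snd_assoc, hl_map, Category.comp_id] }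
  have cF_snd : ∀ jj : Over j, cF.π.app jj ≫ pullback.snd uj (DI.map jj.hom) =
      Ua.hom ≫ c.π.app jj.left := by
    intro jj
    rw [cF_app, Category.assoc, pbProj_snd, sq.isoPullback_hom_snd_assoc]
  have cF_t : ∀ jj : Over j, cF.π.app jj ≫ t.app jj = Ua.hom ≫ ha := by
    intro jj
    change cF.π.app jj ≫ pullback.snd uj (DI.map jj.hom) ≫ hl jj.left = _
    rw [← Category.assoc, cF_snd, Category.assoc, hl_c]
  have hζa' : ζa.t = cF.π.app (Over.mk (𝟙 j)) ≫ t.app (Over.mk (𝟙 j)) := by
    rw [hζa, cF_t]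
  obtain ⟨k, ζk, hζk, hres⟩ := exists_secF_stage F t cF hcF D (Over.mk (𝟙 j)) ζa hζa'
  -- stage `k`
  let κ : (Nbhd S a)ᵒᵖ := k.left
  let uk : pullback uj (DI.map k.hom) ⟶ DI.obj κ := pullback.snd uj (DI.map k.hom)
  haveI : Etale uk := MorphismProperty.pullback_snd _ _ hEt
  haveI : CompactSpace ↥(pullback uj (DI.map k.hom)) := compactSpace_pb DI j uj k
  haveI : QuasiSeparatedSpace ↥(pullback uj (DI.map k.hom)) := quasiSeparatedSpace_pb DI j uj k
  have hζk' : ζk.t = uk ≫ hl κ := hζk
  let εk : SecF (bcDD (hl κ) D) (pullback uj (DI.map k.hom)) := bcSec ζk uk hζk'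
  let f₀ : pullback (pullback.snd g (hl κ)) uk ⟶ pullback π (pullback.fst g (hl κ)) :=
    εk.m PUnit.unit
  let g₀ : pullback π (pullback.fst g (hl κ)) ⟶ DI.obj κ :=
    pullback.snd π (pullback.fst g (hl κ)) ≫ pullback.snd g (hl κ)
  have hf₀g₀ : f₀ ≫ g₀ = pullback.snd (pullback.snd g (hl κ)) uk ≫ uk := by
    change εk.m PUnit.unit ≫ pullback.snd π (pullback.fst g (hl κ)) ≫ pullback.snd g (hl κ) = _
    rw [← Category.assoc]
    refine (congrArg (· ≫ pullback.snd g (hl κ)) (bcSec_m_snd ζk uk hζk' PUnit.unit)).trans ?_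
    exact pullback.condition
  -- the limit
  have sqa : IsPullback (cF.π.app k) Ua.hom uk (c.π.app κ) := by
    refine IsPullback.of_iso (isPullback_pbProj DI c j uj k) sq.isoPullback.symm (Iso.refl _)
      (Iso.refl _) (Iso.refl _) ?_ ?_ ?_ ?_
    · rw [cF_app]; simp
    · simp
    · simp [uk]
    · simp [κ]
  have hta : (ζk.res (cF.π.app k)).t = Ua.hom ≫ ha := by rw [hres]; exact hζa
  have hBCa := isBC_bcSec_m (D := D) (h := hl κ) (c.π.app κ) ha (hl_c κ) sqa ζk hζk' hta PUnit.unit
  have hεa : bcSec (ζk.res (cF.π.app k)) Ua.hom hta = SecF.ofHom Ua ea.hom :=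
    (bcSec_congr hres rfl _ _).trans (bcSec_bcSecInv (SecF.ofHom Ua ea.hom))
  have hisoa : IsIso ((bcSec (ζk.res (cF.π.app k)) Ua.hom hta).m PUnit.unit) := by
    rw [hεa]
    change IsIso (ea.hom.hom PUnit.unit).left
    haveI : IsIso (ea.hom.hom PUnit.unit) :=
      ⟨(ea.inv.hom PUnit.unit), by
        rw [← SchDDFam.comp_hom, ea.hom_inv_id, SchDDFam.id_hom], by
        rw [← SchDDFam.comp_hom, ea.inv_hom_id, SchDDFam.id_hom]⟩
    exact inferInstanceAs (IsIso ((Over.forget _).map (ea.hom.hom PUnit.unit)))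
  have hlim : IsIso (bcMap f₀ g₀ (c.π.app κ)) :=
    (hBCa.iff (MorphismProperty.isomorphisms Scheme.{u})).mp hisoa
  -- the finite stage
  haveI : QuasiCompact g₀ := inferInstanceAs (QuasiCompact
    (pullback.snd π (pullback.fst g (hl κ)) ≫ pullback.snd g (hl κ)))
  haveI : QuasiSeparated g₀ := inferInstanceAs (QuasiSeparated
    (pullback.snd π (pullback.fst g (hl κ)) ≫ pullback.snd g (hl κ)))
  haveI : QuasiCompact (f₀ ≫ g₀) := by rw [hf₀g₀]; infer_instance
  haveI : QuasiSeparated (f₀ ≫ g₀) := by rw [hf₀g₀]; infer_instance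
  haveI : LocallyOfFinitePresentation g₀ := inferInstanceAs (LocallyOfFinitePresentation
    (pullback.snd π (pullback.fst g (hl κ)) ≫ pullback.snd g (hl κ)))
  haveI : LocallyOfFinitePresentation (f₀ ≫ g₀) := by rw [hf₀g₀]; infer_instance
  haveI : LocallyOfFinitePresentation f₀ := Groth.Agent.S12442.result f₀ g₀
  obtain ⟨l, hl_iso⟩ := exists_isIso_stage DI c hc f₀ g₀ hlim
  let bl : DI.obj l.left ⟶ DI.obj κ := DI.map l.hom
  let tl : pullback uk bl ⟶ DI.obj l.left := pullback.snd uk bl
  let rl : pullback uk bl ⟶ pullback uj (DI.map k.hom) := pullback.fst uk bl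
  haveI : Etale tl := MorphismProperty.pullback_snd _ _ inferInstance
  have htl : (ζk.res rl).t = tl ≫ hl l.left := by
    rw [SecF.res_t, hζk', ← Category.assoc, pullback.condition, Category.assoc, hl_map]
  have hBCl := isBC_bcSec_m (D := D) (h := hl κ) bl (hl l.left) (hl_map l.hom)
    (IsPullback.of_hasPullback uk bl) ζk hζk' htl PUnit.unit
  have hisol : IsIso ((bcSec (ζk.res rl) tl htl).m PUnit.unit) :=
    (hBCl.iff (MorphismProperty.isomorphisms Scheme.{u})).mpr hl_iso
  let εl : SecF (bcDD (hl l.left) D) (pullback uk bl) := bcSec (ζk.res rl) tl htl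
  haveI : ∀ i : PUnit.{u + 1}, IsIso ((SecF.toHom εl).hom i).left := fun i => hisol
  haveI : IsIso (SecF.toHom εl) := isIso_of_isIso_left _
  let el : (toDDFam (fun _ : PUnit.{u + 1} => pullback.snd g (hl l.left))).obj (Over.mk tl) ≅
      bcDD (hl l.left) D := asIso (SecF.toHom εl)
  -- transfer to the open subscheme
  have hgl : SGA1.UnivSubmersive (pullback.snd g (hl l.left)) :=
    MorphismProperty.pullback_snd _ _ hg
  haveI : Etale (Over.mk tl).hom := inferInstanceAs (Etale tl)
  have H1 := isUnivOver_of_iso (D := D) (h := hl l.left) (Over.mk tl) el (fun T =>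
    Groth.Agent.Lib.EffDescH52.toDDFam_map_bijective_of_etale.{u} (pullback.snd g (hl l.left))
      hgl T (Over.mk tl))
  let W : S.Opens := l.left.unop.U
  have hW : IsAffineOpen W := l.left.unop.isAffine
  have H2 := H1.of_iso_base hW.isoSpec.inv W.ι hW.isoSpec_inv_ι
  obtain ⟨e⟩ := exists_iso_of_isUnivOver _ _ H2
  refine ⟨W, l.left.unop.mem, Over.mk (tl ≫ hW.isoSpec.inv), ?_, ⟨e⟩⟩
  change Etale (tl ≫ hW.isoSpec.inv)
  infer_instance

/-- Effectivity over an open neighbourhood gives effectivity over the local ring. -/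
theorem exists_etale_iso_stalk_of_nbhd (hg : SGA1.UnivSubmersive g)
    (D : SchDDFam (fun _ : PUnit.{u + 1} => g)) (a : S) (W : S.Opens) (haW : a ∈ W)
    (U : Over (W : Scheme.{u})) [Etale U.hom]
    (e : (toDDFam (fun _ : PUnit.{u + 1} => pullback.snd g W.ι)).obj U ≅ bcDD W.ι D) :
    ∃ Ua : Over (Spec (S.presheaf.stalk a)), Etale Ua.hom ∧
      Nonempty ((toDDFam (fun _ : PUnit.{u + 1} => pullback.snd g (S.fromSpecStalk a))).obj Ua ≅
        bcDD (S.fromSpecStalk a) D) := by
  have hgW : SGA1.UnivSubmersive (pullback.snd g W.ι) := MorphismProperty.pullback_snd _ _ hg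
  have H1 := isUnivOver_of_iso (D := D) (h := W.ι) U e (fun T =>
    Groth.Agent.Lib.EffDescH52.toDDFam_map_bijective_of_etale.{u} (pullback.snd g W.ι) hgW T U)
  have H2 := H1.baseChange (W.fromSpecStalkOfMem a haW) (S.fromSpecStalk a)
    (Scheme.Opens.fromSpecStalkOfMem_ι W a haW)
  obtain ⟨e'⟩ := exists_iso_of_isUnivOver _ _ H2
  refine ⟨Over.mk (pullback.snd U.hom (W.fromSpecStalkOfMem a haW)), ?_, ⟨e'⟩⟩
  change Etale (pullback.snd U.hom (W.fromSpecStalkOfMem a haW))
  infer_instance

/-- **SGA 1 IX: an étale finitely presented descent datum along a universally submersive morphism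
of finite presentation is effective over a neighbourhood of `a` iff it is effective over
`Spec 𝒪_{S,a}`** (S5124). -/
theorem etale_effective_nbhd_iff_stalk (hg : SGA1.UnivSubmersive g)
    [LocallyOfFinitePresentation g] [QuasiCompact g] [QuasiSeparated g]
    (D : SchDDFam (fun _ : PUnit.{1} => g)) [Etale (D.obj PUnit.unit).hom]
    [QuasiCompact (D.obj PUnit.unit).hom] [QuasiSeparated (D.obj PUnit.unit).hom] (a : S) :
    (∃ W : S.Opens, a ∈ W ∧ (∃ U : Over (W : Scheme.{u}), Etale U.hom ∧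
        Nonempty ((toDDFam (fun _ : PUnit.{1} => pullback.snd g W.ι)).obj U ≅
          (bcFunctor (fun _ : PUnit.{1} => g) W.ι).obj D))) ↔
      (∃ U : Over (Spec (S.presheaf.stalk a)), Etale U.hom ∧
        Nonempty ((toDDFam (fun _ : PUnit.{1} => pullback.snd g (S.fromSpecStalk a))).obj U ≅
          (bcFunctor (fun _ : PUnit.{1} => g) (S.fromSpecStalk a)).obj D)) := by
  let D' : SchDDFam (fun _ : PUnit.{u + 1} => g) := (oneChange.{0, u} g).obj D
  haveI : Etale (D'.obj PUnit.unit).hom := inferInstanceAs (Etale (D.obj PUnit.unit).hom)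
  haveI : QuasiCompact (D'.obj PUnit.unit).hom :=
    inferInstanceAs (QuasiCompact (D.obj PUnit.unit).hom)
  haveI : QuasiSeparated (D'.obj PUnit.unit).hom :=
    inferInstanceAs (QuasiSeparated (D.obj PUnit.unit).hom)
  -- transfer between the two index universes
  have up : ∀ {B : Scheme.{u}} (h : B ⟶ S) (U : Over B),
      ((toDDFam (fun _ : PUnit.{1} => pullback.snd g h)).obj U ≅
        (bcFunctor (fun _ : PUnit.{1} => g) h).obj D) →
      ((toDDFam (fun _ : PUnit.{u + 1} => pullback.snd g h)).obj U ≅ bcDD h D') :=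
    fun h U e => (oneChangeCanIso.{0, u} (pullback.snd g h) U).symm ≪≫
      (oneChange.{0, u} (pullback.snd g h)).mapIso e ≪≫ oneChangeBcIso.{0, u} g h D
  have down : ∀ {B : Scheme.{u}} (h : B ⟶ S) (U : Over B),
      ((toDDFam (fun _ : PUnit.{u + 1} => pullback.snd g h)).obj U ≅ bcDD h D') →
      ((toDDFam (fun _ : PUnit.{1} => pullback.snd g h)).obj U ≅
        (bcFunctor (fun _ : PUnit.{1} => g) h).obj D) :=
    fun h U e => (oneChangeCanIso.{u, 0} (pullback.snd g h) U).symm ≪≫
      (oneChange.{u, 0} (pullback.snd g h)).mapIso e ≪≫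
      (oneChange.{u, 0} (pullback.snd g h)).mapIso (oneChangeBcIso.{0, u} g h D).symm ≪≫
      oneChangeInvIso.{0, u} (pullback.snd g h) ((bcFunctor (fun _ : PUnit.{1} => g) h).obj D)
  constructor
  · rintro ⟨W, haW, U, hU, ⟨e⟩⟩
    obtain ⟨Ua, hUa, ⟨ea⟩⟩ := exists_etale_iso_stalk_of_nbhd g hg D' a W haW U (up W.ι U e)
    exact ⟨Ua, hUa, ⟨down _ Ua ea⟩⟩
  · rintro ⟨Ua, hUa, ⟨ea⟩⟩
    obtain ⟨W, haW, U, hU, ⟨e⟩⟩ := exists_etale_iso_nbhd_of_stalk g hg D' a Ua (up _ Ua ea)
    exact ⟨W, haW, U, hU, ⟨down _ U e⟩⟩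

end Main

end Groth.Agent.Lib.EffDescFamH52
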