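import Groth.Agent.Lib.EffDescFamReduceH52
import Groth.Agent.Lib.EffDescAffH52

/-!
# Effective descent for affine morphisms along fpqc coverings (helper52)

* `isPullback_sigma_map`, `sigma_map_of_isZariskiLocalAtTarget`: a property of morphisms which is
  Zariski local at the target is stable under finite disjoint unions (hypothesis `h2` of
  `isEffective_of_affine`).
* `isEffective_of_le_isAffineHom`: for `P ≤ IsAffineHom` stable under base change and local at the
  target, descent data with structure morphisms in `P` relative to an fpqc covering family are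
  effective; `isEffective_of_isAffineHom`, `isEffective_of_isClosedImmersion`.
* `exists_iso_of_isAffineHom`: the single morphism form.
-/

set_option autoImplicit false
set_option linter.style.haveILetI false
set_option backward.isDefEq.respectTransparency false
set_option backward.isDefEq.respectTransparency.types false

universe u

open CategoryTheory CategoryTheory.Limits AlgebraicGeometry Opposite

namespace Groth.Agent.Lib.EffDescFamH52

open Desc

theorem isPullback_sigma_map {m : ℕ} (Y V : Fin m → Scheme.{u}) (q : ∀ j, Y j ⟶ V j) (j : Fin m) :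
    IsPullback (Sigma.ι Y j) (q j) (Limits.Sigma.map q) (Sigma.ι V j) := by
  have hvk := FinitaryExtensive.isVanKampen_finiteCoproducts (coproductIsCoproduct V)
  have := (hvk (Cofan.mk (∐ Y) (Sigma.ι Y)) (Discrete.natTrans fun j => q j.as)
    (Limits.Sigma.map q) (by ext ⟨j⟩; simp) (NatTrans.Equifibered.of_discrete _)).mp
      ⟨coproductIsCoproduct Y⟩ ⟨j⟩
  exact this

theorem sigma_map_of_isZariskiLocalAtTarget (P : MorphismProperty Scheme.{u})
    [IsZariskiLocalAtTarget P] {m : ℕ} (Y V : Fin m → Scheme.{u}) (q : ∀ j, Y j ⟶ V j)
    (hq : ∀ j, P (q j)) : P (Limits.Sigma.map q) := by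
  apply IsZariskiLocalAtTarget.of_openCover (sigmaOpenCover V)
  intro j
  have h := isPullback_sigma_map Y V q j
  have e : h.isoPullback.hom ≫ pullback.snd (Limits.Sigma.map q) (Sigma.ι V j) = q j :=
    h.isoPullback_hom_snd
  have hP : P (h.isoPullback.hom ≫ pullback.snd (Limits.Sigma.map q) (Sigma.ι V j)) := by
    rw [e]; exact hq j
  change P (pullback.snd (Limits.Sigma.map q) (Sigma.ι V j))
  haveI : IsIso h.isoPullback.hom := Iso.isIso_hom _
  exact (P.cancel_left_of_respectsIso h.isoPullback.hom _).mp hP

section

variable {S : Scheme.{u}} {ι : Type u} {X : ι → Scheme.{u}} {f : ∀ i, X i ⟶ S}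

/-- Descent data whose structure morphisms have a property `P ≤ IsAffineHom` which is stable
under base change and Zariski local at the target are effective for fpqc covering families. -/
theorem isEffective_of_le_isAffineHom (P : MorphismProperty Scheme.{u})
    [P.IsStableUnderBaseChange] [IsZariskiLocalAtTarget P] (hP : P ≤ @IsAffineHom)
    (hf : Presieve.ofArrows X f ∈ Scheme.fpqcPrecoverage S)
    (D : SchDDFam f) (hD : ∀ i, P (D.obj i).hom) : D.IsEffective := by
  refine isEffective_of_affine P (fun m => sigma_map_of_isZariskiLocalAtTarget P (m := m)) ?_ hf D hD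
  intro X S p hX hS hfl _ D hPD
  haveI : IsAffineHom D.obj.hom := hP _ hPD
  haveI : IsAffine D.obj.left := isAffine_of_isAffineHom D.obj.hom
  exact Groth.Agent.Lib.EffDescH52.exists_iso_of_isAffine D

/-- **Affine morphisms descend along fpqc coverings.** -/
theorem isEffective_of_isAffineHom (hf : Presieve.ofArrows X f ∈ Scheme.fpqcPrecoverage S)
    (D : SchDDFam f) (hD : ∀ i, IsAffineHom (D.obj i).hom) : D.IsEffective :=
  isEffective_of_le_isAffineHom @IsAffineHom le_rfl hf D hD

/-- **Closed immersions descend along fpqc coverings.** -/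
theorem isEffective_of_isClosedImmersion (hf : Presieve.ofArrows X f ∈ Scheme.fpqcPrecoverage S)
    (D : SchDDFam f) (hD : ∀ i, IsClosedImmersion (D.obj i).hom) : D.IsEffective :=
  isEffective_of_le_isAffineHom @IsClosedImmersion (fun _ _ _ h => by
    haveI := h; infer_instance) hf D hD

end

/-- The one-member family of a flat surjective quasi-compact morphism is an fpqc covering. -/
theorem ofArrows_pUnit_mem_fpqcPrecoverage {X S : Scheme.{u}} (p : X ⟶ S) [Surjective p] [Flat p]
    [QuasiCompact p] :
    Presieve.ofArrows (fun _ : PUnit.{u + 1} => X) (fun _ => p) ∈ Scheme.fpqcPrecoverage S := by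
  rw [Presieve.ofArrows_pUnit]
  exact Scheme.Hom.singleton_mem_fpqcPrecoverage p

/-- **Single morphism form**: descent data affine over `X` relative to a flat surjective
quasi-compact `p : X ⟶ S` are effective. -/
theorem exists_iso_of_isAffineHom {X S : Scheme.{u}} (p : X ⟶ S) [Surjective p] [Flat p]
    [QuasiCompact p] (D : SchDD p) [IsAffineHom D.obj.hom] :
    ∃ U : Over S, Nonempty ((toDD p).obj U ≅ D) := by
  apply exists_iso_of_isEffective p D
  apply isEffective_of_isAffineHom (ofArrows_pUnit_mem_fpqcPrecoverage p)
  intro _
  exact ‹IsAffineHom D.obj.hom›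

end Groth.Agent.Lib.EffDescFamH52
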