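import Groth.Agent.Lib.EffDescFamUnivH52

/-!
# Effective descent for schemes, family version: base change of the base (helper52)

For `h : S' ⟶ S` and a descent datum `D` relative to `f i : X i ⟶ S`, `bcDD h D` is the pulled back
descent datum relative to the base changed family `X i ×_S S' ⟶ S'` (an instance of
`Desc.pullDDFam`). Sections of `bcDD h D` over `(T, t')` are the sections of `D` over `(T, t' ≫ h)`:
`bcSec`, `bcSecInv`, mutually inverse and compatible with restriction.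
-/

set_option autoImplicit false
set_option linter.style.haveILetI false
set_option backward.isDefEq.respectTransparency false
set_option backward.isDefEq.respectTransparency.types false

universe u

open CategoryTheory CategoryTheory.Limits AlgebraicGeometry Opposite

namespace Groth.Agent.Lib.EffDescFamH52

open Desc Groth.Agent.Lib.SchDDFamFF

variable {S : Scheme.{u}} {ι : Type u} {X : ι → Scheme.{u}} {f : ∀ i, X i ⟶ S}
  {S' : Scheme.{u}} (h : S' ⟶ S)

/-- The base change of a descent datum along `h : S' ⟶ S`. -/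
noncomputable def bcDD (D : SchDDFam f) : SchDDFam (fun i => pullback.snd (f i) h) :=
  (pullDDFam (f := f) (f' := fun i => pullback.snd (f i) h) (α := fun i => i) (p := h)
    (p' := fun i => pullback.fst (f i) h) (fun _ => pullback.condition)).obj D

variable {h} {D : SchDDFam f} {T : Scheme.{u}}

theorem bcDD_φ {Z : Scheme.{u}} {i j : ι} (x₀ : Z ⟶ pullback (f i) h) (x₁ : Z ⟶ pullback (f j) h)
    (hh : x₀ ≫ pullback.snd (f i) h = x₁ ≫ pullback.snd (f j) h)
    (hh' : (x₀ ≫ pullback.fst (f i) h) ≫ f i = (x₁ ≫ pullback.fst (f j) h) ≫ f j)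
    (v : Lifts ((bcDD h D).obj i) x₀) :
    (bcDD h D).φ x₀ x₁ hh v = (liftsPullbackEquiv (D.obj j) (pullback.fst (f j) h) x₁).symm
      (D.φ (x₀ ≫ pullback.fst (f i) h) (x₁ ≫ pullback.fst (f j) h) hh'
        (liftsPullbackEquiv (D.obj i) (pullback.fst (f i) h) x₀ v)) := rfl

theorem bc_cond {Z : Scheme.{u}} {i : ι} (x' : Z ⟶ pullback (f i) h) (y : Z ⟶ T) (t' : T ⟶ S')
    (hh : x' ≫ pullback.snd (f i) h = y ≫ t') :
    (x' ≫ pullback.fst (f i) h) ≫ f i = y ≫ t' ≫ h := by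
  rw [Category.assoc, pullback.condition, ← Category.assoc, hh, Category.assoc]

/-- The evaluation function of `bcSec`. -/
noncomputable def bcEv (ξ : SecF D T) (t' : T ⟶ S') (ht : ξ.t = t' ≫ h) {Z : Scheme.{u}} {i : ι}
    (x' : Z ⟶ pullback (f i) h) (y : Z ⟶ T) (hh : x' ≫ pullback.snd (f i) h = y ≫ t') :
    Lifts ((bcDD h D).obj i) x' :=
  (liftsPullbackEquiv (D.obj i) (pullback.fst (f i) h) x').symm
    (ξ.ev (x' ≫ pullback.fst (f i) h) y (by rw [ht]; exact bc_cond x' y t' hh))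

theorem bcEv_fst (ξ : SecF D T) (t' : T ⟶ S') (ht : ξ.t = t' ≫ h) {Z : Scheme.{u}} {i : ι}
    (x' : Z ⟶ pullback (f i) h) (y : Z ⟶ T) (hh : x' ≫ pullback.snd (f i) h = y ≫ t') :
    (bcEv ξ t' ht x' y hh).1 ≫ pullback.fst (D.obj i).hom (pullback.fst (f i) h) =
      (ξ.ev (x' ≫ pullback.fst (f i) h) y (by rw [ht]; exact bc_cond x' y t' hh)).1 :=
  lPE_symm_fst _ _ _ _

theorem bcEv_snd (ξ : SecF D T) (t' : T ⟶ S') (ht : ξ.t = t' ≫ h) {Z : Scheme.{u}} {i : ι}
    (x' : Z ⟶ pullback (f i) h) (y : Z ⟶ T) (hh : x' ≫ pullback.snd (f i) h = y ≫ t') :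
    (bcEv ξ t' ht x' y hh).1 ≫ pullback.snd (D.obj i).hom (pullback.fst (f i) h) = x' :=
  lPE_symm_snd _ _ _ _

/-- A section of `D` over `(T, t' ≫ h)` as a section of the base change over `(T, t')`. -/
noncomputable def bcSec (ξ : SecF D T) (t' : T ⟶ S') (ht : ξ.t = t' ≫ h) : SecF (bcDD h D) T :=
  SecF.ofEv t' (fun _ _ x' y hh => bcEv ξ t' ht x' y hh)
    (fun Z Z' g i x y hh x' y' hh' hx hy => by
      have key := ξ.ev_nat g (x ≫ pullback.fst (f i) h) y (by rw [ht]; exact bc_cond x y t' hh)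
        (x' ≫ pullback.fst (f i) h) y' (by rw [ht]; exact bc_cond x' y' t' hh')
        (by rw [hx, Category.assoc]) hy
      apply pullback.hom_ext
      · refine (bcEv_fst _ _ _ _ _ _).trans (key.trans ?_)
        refine Eq.trans ?_ (Category.assoc _ _ _).symm
        exact congrArg (g ≫ ·) (bcEv_fst _ _ _ _ _ _).symm
      · refine (bcEv_snd _ _ _ _ _ _).trans (hx.trans ?_)
        refine Eq.trans ?_ (Category.assoc _ _ _).symm
        exact congrArg (g ≫ ·) (bcEv_snd _ _ _ _ _ _).symm)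
    (fun Z i j x₀ x₁ y h₀ h₁ hh => by
      rw [bcDD_φ x₀ x₁ hh (by
        rw [bc_cond x₀ y t' h₀, bc_cond x₁ y t' h₁])]
      unfold bcEv
      rw [Equiv.apply_symm_apply, ξ.φ_ev])

@[simp] theorem bcSec_t (ξ : SecF D T) (t' : T ⟶ S') (ht : ξ.t = t' ≫ h) :
    (bcSec ξ t' ht).t = t' := rfl

theorem bcSec_ev (ξ : SecF D T) (t' : T ⟶ S') (ht : ξ.t = t' ≫ h) {Z : Scheme.{u}} {i : ι}
    (x' : Z ⟶ pullback (f i) h) (y : Z ⟶ T) (hh : x' ≫ pullback.snd (f i) h = y ≫ t') :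
    (bcSec ξ t' ht).ev x' y hh = bcEv ξ t' ht x' y hh := by
  unfold bcSec
  exact SecF.ofEv_ev (D := bcDD h D) (f := fun i => pullback.snd (f i) h) t' _ _ _ x' y hh

/-- The evaluation function of the inverse construction. -/
noncomputable def bcInvEv (ξ' : SecF (bcDD h D) T) {Z : Scheme.{u}} {i : ι} (x : Z ⟶ X i)
    (y : Z ⟶ T) (hh : x ≫ f i = y ≫ ξ'.t ≫ h) : Lifts (D.obj i) x :=
  ⟨(ξ'.ev (pullback.lift x (y ≫ ξ'.t) (by rw [hh, Category.assoc])) y (pullback.lift_snd _ _ _)).1 ≫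
      pullback.fst (D.obj i).hom (pullback.fst (f i) h), by
    have e := (ξ'.ev (pullback.lift x (y ≫ ξ'.t) (by rw [hh, Category.assoc])) y
      (pullback.lift_snd _ _ _)).2
    change _ ≫ pullback.snd (D.obj i).hom (pullback.fst (f i) h) = _ at e
    rw [Category.assoc, pullback.condition, ← Category.assoc, e, pullback.lift_fst]⟩

theorem bcInvEv_eq (ξ' : SecF (bcDD h D) T) {Z : Scheme.{u}} {i : ι} (x : Z ⟶ X i)
    (y : Z ⟶ T) (hh : x ≫ f i = y ≫ ξ'.t ≫ h) (x' : Z ⟶ pullback (f i) h)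
    (hx' : x' ≫ pullback.fst (f i) h = x) (hh' : x' ≫ pullback.snd (f i) h = y ≫ ξ'.t) :
    (bcInvEv ξ' x y hh).1 =
      (liftsPullbackEquiv (D.obj i) (pullback.fst (f i) h) x' (ξ'.ev x' y hh')).1 := by
  have : x' = pullback.lift x (y ≫ ξ'.t) (by rw [hh, Category.assoc]) := by
    apply pullback.hom_ext <;> simp [hx', hh']
  subst this
  rfl

/-- A section of the base change over `(T, t')` as a section of `D` over `(T, t' ≫ h)`. -/
noncomputable def bcSecInv (ξ' : SecF (bcDD h D) T) : SecF D T :=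
  SecF.ofEv (ξ'.t ≫ h) (fun _ _ x y hh => bcInvEv ξ' x y hh)
    (fun Z Z' g i x y hh x' y' hh' hx hy => by
      change (ξ'.ev _ _ _).1 ≫ _ = g ≫ (ξ'.ev _ _ _).1 ≫ _
      rw [← Category.assoc]
      congr 1
      exact ξ'.ev_nat g _ _ _ _ _ _ (by
        apply pullback.hom_ext
        · simp [hx]
        · simp [hy]) hy)
    (fun Z i j x₀ x₁ y h₀ h₁ hh => by
      apply Subtype.ext
      have hl₀ : pullback.lift x₀ (y ≫ ξ'.t) (by rw [h₀, Category.assoc]) ≫
          pullback.snd (f i) h = y ≫ ξ'.t := pullback.lift_snd _ _ _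
      have hl₁ : pullback.lift x₁ (y ≫ ξ'.t) (by rw [h₁, Category.assoc]) ≫
          pullback.snd (f j) h = y ≫ ξ'.t := pullback.lift_snd _ _ _
      have c := ξ'.φ_ev _ _ y hl₀ hl₁ (hl₀.trans hl₁.symm)
      rw [bcDD_φ _ _ _ (by simp [hh])] at c
      have c' := congrArg (fun v => (liftsPullbackEquiv (D.obj j) (pullback.fst (f j) h) _ v).1) c
      simp only [Equiv.apply_symm_apply] at c'
      refine Eq.trans ?_ (c'.trans ?_)
      · apply φ_congr D (by simp) (by simp)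
        rfl
      · rfl)

@[simp] theorem bcSecInv_t (ξ' : SecF (bcDD h D) T) : (bcSecInv ξ').t = ξ'.t ≫ h := rfl

theorem bcSecInv_ev (ξ' : SecF (bcDD h D) T) {Z : Scheme.{u}} {i : ι} (x : Z ⟶ X i)
    (y : Z ⟶ T) (hh : x ≫ f i = y ≫ (bcSecInv ξ').t) :
    (bcSecInv ξ').ev x y hh = bcInvEv ξ' x y hh :=
  SecF.ofEv_ev _ _ _ _ x y hh

theorem bcSecInv_bcSec (ξ : SecF D T) (t' : T ⟶ S') (ht : ξ.t = t' ≫ h) :
    bcSecInv (bcSec ξ t' ht) = ξ := by
  apply SecF.ext_ev (by simp [ht])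
  intro Z i x y hh
  rw [bcSecInv_ev]
  have hh2 : x ≫ f i = y ≫ (bcSec ξ t' ht).t ≫ h := by rw [hh]; rfl
  rw [bcInvEv_eq (bcSec ξ t' ht) x y hh2 (pullback.lift x (y ≫ t') (by
    rw [hh2, bcSec_t, Category.assoc])) (pullback.lift_fst _ _ _) (pullback.lift_snd _ _ _)]
  rw [bcSec_ev]
  unfold bcEv
  rw [Equiv.apply_symm_apply]
  exact ξ.ev_congr (pullback.lift_fst _ _ _) rfl _ _

theorem bcSec_bcSecInv (ξ' : SecF (bcDD h D) T) : bcSec (bcSecInv ξ') ξ'.t rfl = ξ' := by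
  apply SecF.ext_ev (by simp)
  intro Z i x' y hh
  rw [bcSec_ev]
  apply pullback.hom_ext
  · refine (bcEv_fst _ _ _ _ _ _).trans ?_
    rw [bcSecInv_ev]
    exact bcInvEv_eq ξ' _ y _ x' rfl hh
  · refine (bcEv_snd _ _ _ _ _ _).trans ?_
    exact ((ξ'.ev x' y hh).2).symm

theorem bcSecInv_res (ξ' : SecF (bcDD h D) T) {T' : Scheme.{u}} (g : T' ⟶ T) :
    bcSecInv (ξ'.res g) = (bcSecInv ξ').res g := by
  apply SecF.ext_ev (by simp)
  intro Z i x y hh
  rw [SecF.res_ev, bcSecInv_ev, bcSecInv_ev]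
  have hh2 : x ≫ f i = y ≫ (ξ'.res g).t ≫ h := by rw [hh]; rfl
  have hl : pullback.lift x (y ≫ (ξ'.res g).t) (by rw [hh2, Category.assoc]) ≫
      pullback.snd (f i) h = y ≫ (ξ'.res g).t := pullback.lift_snd _ _ _
  rw [bcInvEv_eq (ξ'.res g) x y hh2 _ (pullback.lift_fst _ _ _) hl,
    bcInvEv_eq ξ' x (y ≫ g) (by rw [hh2, SecF.res_t]; simp only [Category.assoc])
      (pullback.lift x (y ≫ (ξ'.res g).t) (by rw [hh2, Category.assoc]))
      (pullback.lift_fst _ _ _) (by rw [hl, SecF.res_t, Category.assoc])]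
  rw [SecF.res_ev]

end Groth.Agent.Lib.EffDescFamH52
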