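import Groth.Agent.Lib.EffDescFamBCH52
import Groth.Agent.Lib.AbsRepH52

/-!
# Effective descent for schemes, family version: effectivity is local on the base (helper52)

`isEffective_of_openCover`: for an fpqc covering family `f` of `S`, a descent datum `D` relative to
`f` is effective as soon as its base changes `bcDD (𝒮.f a) D` to the members of an open cover `𝒮` of
`S` are effective.
-/

set_option autoImplicit false
set_option linter.style.haveILetI false
set_option backward.isDefEq.respectTransparency false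
set_option backward.isDefEq.respectTransparency.types false

universe u

open CategoryTheory CategoryTheory.Limits AlgebraicGeometry Opposite

namespace Groth.Agent.Lib.EffDescFamH52

open Desc Groth.Agent.Lib.SchDDFamFF

variable {S : Scheme.{u}} {ι : Type u} {X : ι → Scheme.{u}} {f : ∀ i, X i ⟶ S}

/-- A universal section of the base change along a monomorphism `h : S' ⟶ S` gives a section of `D`
which is universal among the sections lying over `S'`. -/
theorem existsUnique_res_bcSecInv {S' : Scheme.{u}} {h : S' ⟶ S} [Mono h] {D : SchDDFam f}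
    {U : Scheme.{u}} (ε' : SecF (bcDD h D) U)
    (huniv : ∀ {T : Scheme.{u}} (ξ' : SecF (bcDD h D) T), ∃! g : T ⟶ U, ε'.res g = ξ')
    {T : Scheme.{u}} (ξ : SecF D T) (t' : T ⟶ S') (ht : ξ.t = t' ≫ h) :
    ∃! g : T ⟶ U, (bcSecInv ε').res g = ξ := by
  obtain ⟨g, hg, hguniq⟩ := huniv (bcSec ξ t' ht)
  refine ⟨g, ?_, fun g' hg' => hguniq g' ?_⟩
  · change (bcSecInv ε').res g = ξ
    rw [← bcSecInv_res, hg, bcSecInv_bcSec]
  · change (bcSecInv ε').res g' = ξ at hg'
    have ht' : (ε'.res g').t = t' := by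
      rw [← cancel_mono h]
      have := congrArg SecF.t hg'
      rw [← bcSecInv_res] at this
      exact this.trans ht
    have e1 : bcSec (bcSecInv (ε'.res g')) (ε'.res g').t rfl = ε'.res g' := bcSec_bcSecInv _
    rw [← e1]
    have e2 : bcSecInv (ε'.res g') = ξ := by rw [bcSecInv_res, hg']
    clear e1
    subst e2
    subst ht'
    rfl

/-- **Effectivity of descent data is Zariski local on the base.** -/
theorem isEffective_of_openCover (hf : Presieve.ofArrows X f ∈ Scheme.fpqcPrecoverage S)
    (D : SchDDFam f) (𝒮 : Scheme.OpenCover.{u} S)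
    (H : ∀ a, (bcDD (𝒮.f a) D).IsEffective) : D.IsEffective := by
  choose U e using fun a => H a
  have hfa : ∀ a, Presieve.ofArrows (fun i => pullback (f i) (𝒮.f a))
      (fun i => pullback.snd (f i) (𝒮.f a)) ∈ Scheme.fpqcPrecoverage (𝒮.X a) :=
    fun a => ofArrows_snd_mem f hf (Over.mk (𝒮.f a))
  let ε' : ∀ a, SecF (bcDD (𝒮.f a) D) (U a).left := fun a => SecF.ofHom (U a) (e a).some.hom
  have hε' : ∀ a {T : Scheme.{u}} (ξ' : SecF (bcDD (𝒮.f a) D) T),
      ∃! g : T ⟶ (U a).left, (ε' a).res g = ξ' :=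
    fun a T ξ' => existsUnique_res_eq_of_iso (hfa a) (e a).some ξ'
  let ζ : ∀ a, SecF D (U a).left := fun a => bcSecInv (ε' a)
  obtain ⟨V, ε, hε⟩ := Groth.Agent.Lib.AbsRepH52.exists_universal (secFunctorF D)
    (B := S) (fun T (ξ : SecF D T) => ξ.t) (fun T T' g ξ => rfl) 𝒮.f (U := fun a => (U a).left) ζ
    (by
      intro a
      rintro _ ⟨w, rfl⟩
      change ((ε' a).t ≫ 𝒮.f a) w ∈ _
      rw [Scheme.Hom.comp_apply]
      exact ⟨_, rfl⟩)
    (by
      intro a T (ξ : SecF D T) hξ
      let t' : T ⟶ 𝒮.X a := IsOpenImmersion.lift (𝒮.f a) ξ.t hξ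
      have ht : ξ.t = t' ≫ 𝒮.f a := (IsOpenImmersion.lift_fac _ _ _).symm
      exact existsUnique_res_bcSecInv (ε' a) (hε' a) ξ t' ht)
    (isSheaf_secFunctorF D)
    (fun b => by
      obtain ⟨a, x, hx⟩ := 𝒮.exists_eq b
      exact ⟨a, x, hx⟩)
  exact isEffective_of_universal ε (fun {T} ξ => hε ξ)

end Groth.Agent.Lib.EffDescFamH52
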