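import Groth.Agent.Lib.EffDescFamUnivH52
import Groth.Agent.Lib.AbsRepH52

/-!
# Effective descent for schemes, family version: descent data induced on another family (helper52)

Let `D'` be a descent datum relative to `f i : X i ⟶ S` and `g k : Y k ⟶ S` another family.
* `RepData g D'`: schemes `W k` over `Y k` representing `F_{D'} ×_{h_S} h_{Y k}`, i.e. natural
  bijections `Lifts (W k) x ≃ {ξ : SecF D' T // ξ.t = x ≫ g k}`.
* `ddOfRep R : SchDDFam g`: the induced descent datum on `(W k)` (the gluing bijections are the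
  identity on sections).
* `pullDdOfRepIso`: for a morphism of families `(α, p')` from `f` to `g`, the pullback of `ddOfRep R`
  to `f` is isomorphic to `D'`.
* `overFunctor D' p` for `p : B ⟶ S`: the Zariski sheaf `T ↦ {(x : T ⟶ B, ξ : SecF D' T) | ξ.t = x ≫ p}`
  and `repDataOfUniversal`: a universal element gives `RepData` for the one-member family `p`.
-/

set_option autoImplicit false
set_option linter.style.haveILetI false
set_option backward.isDefEq.respectTransparency false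
set_option backward.isDefEq.respectTransparency.types false

universe u

open CategoryTheory CategoryTheory.Limits AlgebraicGeometry Opposite

namespace Groth.Agent.Lib.EffDescFamH52

open Desc Groth.Agent.Lib.SchDDFamFF

variable {S : Scheme.{u}} {ι : Type u} {X : ι → Scheme.{u}} {f : ∀ i, X i ⟶ S}
  {κ : Type u} {Y : κ → Scheme.{u}}

/-- Schemes over the `Y k` representing the functor of sections of `D'` over the `Y k`. -/
structure RepData (g : ∀ k, Y k ⟶ S) (D' : SchDDFam f) where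
  /-- the representing schemes -/
  W : ∀ k, Over (Y k)
  /-- points of `W k` over `x` are the sections over `x ≫ g k` -/
  β : ∀ ⦃T : Scheme.{u}⦄ ⦃k : κ⦄ (x : T ⟶ Y k), Lifts (W k) x ≃ {ξ : SecF D' T // ξ.t = x ≫ g k}
  β_nat : ∀ ⦃T T' : Scheme.{u}⦄ (r : T' ⟶ T) ⦃k : κ⦄ (x : T ⟶ Y k) (x' : T' ⟶ Y k)
    (_ : r ≫ x = x') (v : Lifts (W k) x) (v' : Lifts (W k) x'), v'.1 = r ≫ v.1 →
    (β x' v').1 = (β x v).1.res r

variable {g : ∀ k, Y k ⟶ S} {D' : SchDDFam f}

namespace RepData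

variable (R : RepData g D')

/-- The gluing bijection: the identity on sections. -/
noncomputable def φ {T : Scheme.{u}} {k l : κ} (x₀ : T ⟶ Y k) (x₁ : T ⟶ Y l)
    (h : x₀ ≫ g k = x₁ ≫ g l) : Lifts (R.W k) x₀ ≃ Lifts (R.W l) x₁ :=
  (R.β x₀).trans ((Equiv.subtypeEquivRight (fun ξ => by rw [h])).trans (R.β x₁).symm)

theorem β_φ {T : Scheme.{u}} {k l : κ} (x₀ : T ⟶ Y k) (x₁ : T ⟶ Y l)
    (h : x₀ ≫ g k = x₁ ≫ g l) (v : Lifts (R.W k) x₀) :
    (R.β x₁ (R.φ x₀ x₁ h v)).1 = (R.β x₀ v).1 := by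
  simp [φ]

theorem eq_of_β_eq {T : Scheme.{u}} {k : κ} (x : T ⟶ Y k) (v v' : Lifts (R.W k) x)
    (h : (R.β x v).1 = (R.β x v').1) : v = v' :=
  (R.β x).injective (Subtype.ext h)

end RepData

/-- The descent datum relative to `g` induced by `D'` and representing schemes. -/
noncomputable def ddOfRep (R : RepData g D') : SchDDFam g where
  obj := R.W
  φ _ _ _ x₀ x₁ h := R.φ x₀ x₁ h
  φ_natural T T' r k l x₀ x₁ h y₀ y₁ hy₀ hy₁ h' v v' hv' := by
    let u'' : Lifts (R.W l) y₁ := ⟨r ≫ (R.φ x₀ x₁ h v).1, by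
      rw [Category.assoc, (R.φ x₀ x₁ h v).2, hy₁]⟩
    have : R.φ y₀ y₁ h' v' = u'' := by
      apply R.eq_of_β_eq
      rw [R.β_φ, R.β_nat r x₀ y₀ hy₀ v v' hv', R.β_nat r x₁ y₁ hy₁ (R.φ x₀ x₁ h v) u'' rfl, R.β_φ]
    rw [this]
  φ_self T k x v := by
    apply R.eq_of_β_eq
    rw [R.β_φ]
  φ_comp T k l m x₀ x₁ x₂ h₀₁ h₁₂ v := by
    apply R.eq_of_β_eq
    rw [R.β_φ, R.β_φ, R.β_φ]

section Pull

variable {α : ι → κ} {p' : ∀ i, X i ⟶ Y (α i)} (w : ∀ i, p' i ≫ g (α i) = f i ≫ 𝟙 S)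
  (R : RepData g D')

include w in
theorem pull_cond' {T : Scheme.{u}} {i : ι} (x : T ⟶ X i) :
    (x ≫ p' i) ≫ g (α i) = x ≫ f i := by
  rw [Category.assoc, w, Category.comp_id]

/-- The bijection on points underlying `pullDdOfRepIso`. -/
noncomputable def pullRepEquiv {T : Scheme.{u}} {i : ι} (x : T ⟶ X i) :
    Lifts (((pullDDFam w).obj (ddOfRep R)).obj i) x ≃ Lifts (D'.obj i) x :=
  (liftsPullbackEquiv (R.W (α i)) (p' i) x).trans
    ((R.β (x ≫ p' i)).trans
      ((Equiv.subtypeEquivRight (fun ξ => by rw [pull_cond' w x])).trans (liftsEquivSec x).symm))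

theorem taut_res_pullRepEquiv {T : Scheme.{u}} {i : ι} (x : T ⟶ X i)
    (v : Lifts (((pullDDFam w).obj (ddOfRep R)).obj i) x) :
    (taut D' i).res (pullRepEquiv w R x v).1 =
      (R.β (x ≫ p' i) (liftsPullbackEquiv (R.W (α i)) (p' i) x v)).1 := by
  have := (liftsEquivSec (D := D') x).apply_symm_apply
    (Equiv.subtypeEquivRight (fun ξ => by rw [pull_cond' w x])
      (R.β (x ≫ p' i) (liftsPullbackEquiv (R.W (α i)) (p' i) x v)))
  exact congrArg Subtype.val this

theorem eq_of_taut_res_eq {T : Scheme.{u}} {i : ι} (x : T ⟶ X i) (v v' : Lifts (D'.obj i) x)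
    (h : (taut D' i).res v.1 = (taut D' i).res v'.1) : v = v' :=
  (liftsEquivSec (D := D') x).injective (Subtype.ext h)

/-- The pullback to `f` of the induced descent datum is the original descent datum. -/
noncomputable def pullDdOfRepIso : (pullDDFam w).obj (ddOfRep R) ≅ D' :=
  isoOfPoints _ _ (fun _ _ x => pullRepEquiv w R x)
    (fun T T' r i x x' hx v v' hv => by
      let u'' : Lifts (D'.obj i) x' := ⟨r ≫ (pullRepEquiv w R x v).1, by
        rw [Category.assoc, (pullRepEquiv w R x v).2, hx]⟩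
      have : pullRepEquiv w R x' v' = u'' := by
        apply eq_of_taut_res_eq
        rw [taut_res_pullRepEquiv]
        change _ = (taut D' i).res (r ≫ (pullRepEquiv w R x v).1)
        rw [SecF.res_comp, taut_res_pullRepEquiv]
        refine R.β_nat r (x ≫ p' i) (x' ≫ p' i) (by rw [← hx, Category.assoc]) _ _ ?_
        change v'.1 ≫ _ = r ≫ v.1 ≫ _
        rw [hv, Category.assoc]
      rw [this])
    (fun T i j x₀ x₁ h v => by
      apply eq_of_taut_res_eq
      rw [taut_res_φ, taut_res_pullRepEquiv, taut_res_pullRepEquiv]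
      have e4 : ((pullDDFam w).obj (ddOfRep R)).φ x₀ x₁ h v =
          (liftsPullbackEquiv (R.W (α j)) (p' j) x₁).symm
            (R.φ (x₀ ≫ p' i) (x₁ ≫ p' j) (pull_compat w x₀ x₁ h)
              (liftsPullbackEquiv (R.W (α i)) (p' i) x₀ v)) := rfl
      rw [e4, Equiv.apply_symm_apply, R.β_φ])

end Pull

section OverFunctor

variable {B : Scheme.{u}} (D' : SchDDFam f) (p : B ⟶ S)

/-- The functor `T ↦ {(x : T ⟶ B, ξ : SecF D' T) | ξ.t = x ≫ p}`. -/
noncomputable def overFunctor : Scheme.{u}ᵒᵖ ⥤ Type u where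
  obj T := {γ : (T.unop ⟶ B) × SecF D' T.unop // γ.2.t = γ.1 ≫ p}
  map r := ↾(fun γ => ⟨(r.unop ≫ γ.1.1, γ.1.2.res r.unop), by
    rw [SecF.res_t, γ.2, Category.assoc]⟩)
  map_id T := by
    ext γ
    · exact Category.id_comp _
    · exact SecF.res_id _
  map_comp r r' := by
    ext γ
    · exact Category.assoc _ _ _
    · exact SecF.res_comp _ _ _

variable {D' p}

theorem overFunctor_map_fst {T T' : Scheme.{u}} (r : T' ⟶ T)
    (γ : (overFunctor D' p).obj (op T)) : ((overFunctor D' p).map r.op γ).1.1 = r ≫ γ.1.1 := rfl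

theorem overFunctor_map_snd {T T' : Scheme.{u}} (r : T' ⟶ T)
    (γ : (overFunctor D' p).obj (op T)) : ((overFunctor D' p).map r.op γ).1.2 = γ.1.2.res r := rfl

variable (D' p)

theorem isSheaf_overFunctor : Presieve.IsSheaf Scheme.zariskiTopology (overFunctor D' p) := by
  rw [Scheme.zariskiTopology, Scheme.grothendieckTopology,
    Precoverage.isSheaf_toGrothendieck_iff_of_isStableUnderBaseChange]
  intro T R hR
  obtain ⟨(𝒰 : T.OpenCover), rfl⟩ := Scheme.exists_cover_of_mem_pretopology hR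
  rw [Presieve.isSheafFor_arrows_iff]
  intro γ hγ
  have hγ' : ∀ (a b : 𝒰.I₀) (Z : Scheme.{u}) (ga : Z ⟶ 𝒰.X a) (gb : Z ⟶ 𝒰.X b),
      ga ≫ 𝒰.f a = gb ≫ 𝒰.f b →
        (overFunctor D' p).map ga.op (γ a) = (overFunctor D' p).map gb.op (γ b) :=
    fun a b Z ga gb h => hγ a b Z ga gb h
  let ξ : ∀ a, SecF D' (𝒰.X a) := fun a => (γ a).1.2
  have hξ : ∀ (a b : 𝒰.I₀) (Z : Scheme.{u}) (ga : Z ⟶ 𝒰.X a) (gb : Z ⟶ 𝒰.X b),
      ga ≫ 𝒰.f a = gb ≫ 𝒰.f b → (ξ a).res ga = (ξ b).res gb := fun a b Z ga gb h =>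
    congrArg (fun γ => γ.1.2) (hγ' a b Z ga gb h)
  let x : T ⟶ B := 𝒰.glueMorphisms (fun a => (γ a).1.1) (fun a b =>
    congrArg (fun γ => γ.1.1) (hγ' a b _ _ _ pullback.condition))
  have hx : ∀ a, 𝒰.f a ≫ x = (γ a).1.1 := fun a => 𝒰.ι_glueMorphisms _ _ a
  have ht : ∀ a, 𝒰.f a ≫ x ≫ p = (ξ a).t := fun a => by
    rw [← Category.assoc, hx, ← (γ a).2]
  refine ⟨⟨(x, glueSecF 𝒰 ξ hξ (x ≫ p) ht), rfl⟩, fun a => ?_, fun δ hδ => ?_⟩
  · apply Subtype.ext
    apply Prod.ext
    · exact hx a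
    · exact glueSecF_res 𝒰 ξ hξ (x ≫ p) ht a
  · apply Subtype.ext
    apply Prod.ext
    · apply Scheme.Cover.hom_ext 𝒰
      intro a
      rw [hx]
      exact congrArg (fun γ => γ.1.1) (hδ a)
    · apply SecF.ext_of_cover 𝒰
      intro a
      change _ = (glueSecF 𝒰 ξ hξ (x ≫ p) ht).res (𝒰.f a)
      rw [glueSecF_res]
      exact congrArg (fun γ => γ.1.2) (hδ a)

variable {D' p}

/-- Universal elements of the `overFunctor D' (g k)` give representing data for the family `g`. -/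
noncomputable def repDataOfUniversal {V : κ → Scheme.{u}}
    (ε : ∀ k, (overFunctor D' (g k)).obj (op (V k)))
    (hε : ∀ k ⦃T : Scheme.{u}⦄ (γ : (overFunctor D' (g k)).obj (op T)),
      ∃! r : T ⟶ V k, (overFunctor D' (g k)).map r.op (ε k) = γ) :
    RepData g D' where
  W k := Over.mk (ε k).1.1
  β T k x :=
    { toFun := fun v => ⟨(ε k).1.2.res v.1, by
        have e : v.1 ≫ (ε k).1.1 = x := v.2
        rw [SecF.res_t, (ε k).2, ← Category.assoc, e]⟩
      invFun := fun ξ => ⟨(hε k ⟨(x, ξ.1), ξ.2⟩).choose,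
        congrArg (fun γ => γ.1.1) (hε k ⟨(x, ξ.1), ξ.2⟩).choose_spec.1⟩
      left_inv := fun v => by
        have e : v.1 ≫ (ε k).1.1 = x := v.2
        apply Subtype.ext
        refine ((hε k ⟨(x, (ε k).1.2.res v.1), _⟩).choose_spec.2 v.1 ?_).symm
        apply Subtype.ext
        exact Prod.ext e rfl
      right_inv := fun ξ => by
        apply Subtype.ext
        exact congrArg (fun γ => γ.1.2) (hε k ⟨(x, ξ.1), ξ.2⟩).choose_spec.1 }
  β_nat T T' r k x x' hx v v' hv := by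
    change (ε k).1.2.res v'.1 = ((ε k).1.2.res v.1).res r
    rw [hv, SecF.res_comp]

@[simp] theorem repDataOfUniversal_W {V : κ → Scheme.{u}}
    (ε : ∀ k, (overFunctor D' (g k)).obj (op (V k))) (hε) (k : κ) :
    (repDataOfUniversal ε hε).W k = Over.mk (ε k).1.1 := rfl

end OverFunctor

end Groth.Agent.Lib.EffDescFamH52
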