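import Mathlib
import Groth.Agent.S1400
import Groth.Agent.Lib.QuasiAffineHom

/-!
# (Ind-)quasi-affine morphisms as morphism properties (helper52)

* `indQA`, `qA`: `MoreMor.IsIndQuasiAffineHom` and `Mor2.IsQuasiAffine` as `MorphismProperty`s.
* They are stable under base change (S1400 by helper21/78) and Zariski local at the target.
-/

set_option autoImplicit false
set_option linter.style.haveILetI false

universe u

open CategoryTheory CategoryTheory.Limits AlgebraicGeometry Opposite TopologicalSpace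

namespace Groth.Agent.Lib.QAffLocalH52

/-- Ind-quasi-affine morphisms as a morphism property. -/
def indQA : MorphismProperty Scheme.{u} := fun _ _ f => MoreMor.IsIndQuasiAffineHom f

/-- Quasi-affine morphisms as a morphism property. -/
def qA : MorphismProperty Scheme.{u} := fun _ _ f => Mor2.IsQuasiAffine f

theorem indQA_iff {X Y : Scheme.{u}} (f : X ⟶ Y) : indQA f ↔ MoreMor.IsIndQuasiAffineHom f :=
  Iff.rfl

theorem qA_iff {X Y : Scheme.{u}} (f : X ⟶ Y) : qA f ↔ Mor2.IsQuasiAffine f := Iff.rfl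

instance : indQA.{u}.IsStableUnderBaseChange where
  of_isPullback sq hg := Groth.Agent.S1400.result _ _ _ _ sq hg

/-- Quasi-compact morphisms as a morphism property. -/
abbrev qc : MorphismProperty Scheme.{u} := @QuasiCompact

theorem qA_eq : qA.{u} = qc.{u} ⊓ indQA.{u} := by
  ext X Y f
  exact Groth.Agent.Lib.QuasiAffineHom.isQuasiAffine_iff f

/-- A compact open of `X` contained in the image of an open immersion from an ind-quasi-affine
scheme is quasi-affine. -/
theorem isQuasiAffine_of_le_opensRange {T X : Scheme.{u}} (j : T ⟶ X) [IsOpenImmersion j]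
    (hT : MoreMor.IsIndQuasiAffine T) (U : X.Opens) (hU : IsCompact (U : Set X))
    (hle : U ≤ j.opensRange) : Scheme.IsQuasiAffine (U : Scheme.{u}) := by
  have : CompactSpace (U : Scheme.{u}) := isCompact_iff_compactSpace.mp hU
  have hr : Set.range U.ι ⊆ Set.range j := by
    rintro _ ⟨x, rfl⟩
    exact hle x.2
  let l : (U : Scheme.{u}) ⟶ T := IsOpenImmersion.lift j U.ι hr
  have hl : l ≫ j = U.ι := IsOpenImmersion.lift_fac _ _ _
  haveI : IsOpenImmersion (l ≫ j) := by rw [hl]; infer_instance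
  haveI : IsOpenImmersion l := IsOpenImmersion.of_comp l j
  exact Groth.Agent.Lib.IndQuasiAffine.isQuasiAffine_of_isOpenImmersion l hT

theorem indQA_restrict {X Y : Scheme.{u}} (f : X ⟶ Y) (U : Y.Opens) (hf : indQA f) :
    indQA (f ∣_ U) :=
  MorphismProperty.of_isPullback (P := indQA) (isPullback_morphismRestrict f U).flip hf

theorem indQA_of_iSup_eq_top {X Y : Scheme.{u}} (f : X ⟶ Y) {ι : Type u} (U : ι → Y.Opens)
    (hU : iSup U = ⊤) (H : ∀ i, indQA (f ∣_ U i)) : indQA f := by
  intro V hV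
  rw [Groth.Agent.Lib.IndQuasiAffine.isIndQuasiAffine_opens_iff]
  intro U' hU'V hU'
  refine Groth.Agent.Lib.IndQuasiAffine.isQuasiAffine_opens_of_forall_exists_basicOpen U' hU'
    fun x hx => ?_
  have hy : f x ∈ V := hU'V hx
  obtain ⟨i, hi⟩ : ∃ i, f x ∈ U i := by
    have : f x ∈ iSup U := by rw [hU]; trivial
    exact Opens.mem_iSup.mp this
  obtain ⟨s₀, hs₀le, hys₀⟩ := hV.exists_basicOpen_le (V := U i) ⟨f x, hi⟩ hy
  refine ⟨f.appLE V U' hU'V s₀, ?_, ?_⟩
  · rw [Scheme.basicOpen_appLE]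
    exact ⟨hx, hys₀⟩
  · have hc : IsCompact (X.basicOpen (f.appLE V U' hU'V s₀) : Set X) :=
      isCompact_basicOpen X hU' _
    -- the affine open `W = D(s₀) ⊆ U i` and its preimage
    let W : Y.Opens := Y.basicOpen s₀
    have hW : IsAffineOpen W := hV.basicOpen s₀
    let Wi : (U i : Scheme.{u}).Opens := (U i).ι ⁻¹ᵁ W
    have hWi : IsAffineOpen Wi := by
      refine hW.preimage_of_isOpenImmersion (U i).ι ?_
      rw [Scheme.Opens.opensRange_ι]
      exact hs₀le
    have hT := H i Wi hWi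
    let j : ((f ∣_ U i) ⁻¹ᵁ Wi : Scheme.{u}) ⟶ X := ((f ∣_ U i) ⁻¹ᵁ Wi).ι ≫ (f ⁻¹ᵁ U i).ι
    refine isQuasiAffine_of_le_opensRange j hT _ hc ?_
    rw [Scheme.basicOpen_appLE]
    intro x' hx'
    have hx'W : f x' ∈ W := hx'.2
    have hx'U : x' ∈ f ⁻¹ᵁ U i := hs₀le hx'W
    let x'' : (f ⁻¹ᵁ U i : Scheme.{u}) := ⟨x', hx'U⟩
    have hx'' : x'' ∈ (f ∣_ U i) ⁻¹ᵁ Wi := by
      change ((f ∣_ U i) x'').1 ∈ W
      rw [morphismRestrict_base_coe]
      exact hx'W
    refine ⟨⟨x'', hx''⟩, ?_⟩
    rfl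

instance : IsZariskiLocalAtTarget indQA.{u} :=
  IsZariskiLocalAtTarget.mk' (fun f U hf => indQA_restrict f U hf)
    (fun f _ U hU H => indQA_of_iSup_eq_top f U hU H)

set_option backward.isDefEq.respectTransparency false in
instance : qc.{u}.IsStableUnderBaseChange :=
  inferInstanceAs (MorphismProperty.IsStableUnderBaseChange @QuasiCompact)

instance : qA.{u}.IsStableUnderBaseChange := by
  rw [qA_eq]; infer_instance

set_option backward.isDefEq.respectTransparency false in
instance : IsZariskiLocalAtTarget qc.{u} := inferInstanceAs (IsZariskiLocalAtTarget @QuasiCompact)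

instance : IsZariskiLocalAtTarget qA.{u} := by
  rw [qA_eq]
  exact MorphismProperty.IsLocalAtTarget.inf _ _

end Groth.Agent.Lib.QAffLocalH52
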