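import Groth.Agent.Lib.EffDescFamAffH52
import Groth.Agent.Lib.EffDescQAffH52
import Groth.Agent.Lib.QAffLocalH52

/-!
# Effective descent for quasi-affine morphisms along fpqc coverings (helper52)

* `isEffective_of_isQuasiAffine`: descent data relative to an fpqc covering family all of whose
  structure morphisms are quasi-affine (`Mor2.IsQuasiAffine`) are effective.
* `exists_iso_of_isQuasiAffineHom`: the single morphism form.
-/

set_option autoImplicit false
set_option linter.style.haveILetI false
set_option backward.isDefEq.respectTransparency false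
set_option backward.isDefEq.respectTransparency.types false

universe u

open CategoryTheory CategoryTheory.Limits AlgebraicGeometry Opposite

namespace Groth.Agent.Lib.EffDescFamH52

open Desc Groth.Agent.Lib.QAffLocalH52

/-- The source of a quasi-affine morphism to an affine scheme is quasi-affine. -/
theorem isQuasiAffine_of_isQuasiAffineHom {V X : Scheme.{u}} (π : V ⟶ X) [IsAffine X]
    (h : Mor2.IsQuasiAffine π) : V.IsQuasiAffine := by
  have h1 : Scheme.IsQuasiAffine ((⊤ : V.Opens) : Scheme.{u}) := h.2 ⊤ (isAffineOpen_top X)
  exact Scheme.IsQuasiAffine.of_isAffineHom (Scheme.topIso V).inv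

section

variable {S : Scheme.{u}} {ι : Type u} {X : ι → Scheme.{u}} {f : ∀ i, X i ⟶ S}

/-- **Quasi-affine morphisms descend along fpqc coverings.** -/
theorem isEffective_of_isQuasiAffine (hf : Presieve.ofArrows X f ∈ Scheme.fpqcPrecoverage S)
    (D : SchDDFam f) (hD : ∀ i, Mor2.IsQuasiAffine (D.obj i).hom) : D.IsEffective := by
  refine isEffective_of_affine qA (fun m => sigma_map_of_isZariskiLocalAtTarget qA (m := m)) ?_
    hf D hD
  intro X S p hX hS hfl hsurj D hPD
  haveI : D.obj.left.IsQuasiAffine := isQuasiAffine_of_isQuasiAffineHom D.obj.hom hPD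
  exact Groth.Agent.Lib.EffDescH52.exists_iso_of_isQuasiAffine D

end

/-- **Single morphism form**: descent data quasi-affine over `X` relative to a flat surjective
quasi-compact `p : X ⟶ S` are effective. -/
theorem exists_iso_of_isQuasiAffineHom {X S : Scheme.{u}} (p : X ⟶ S) [Surjective p] [Flat p]
    [QuasiCompact p] (D : SchDD p) (hD : Mor2.IsQuasiAffine D.obj.hom) :
    ∃ U : Over S, Nonempty ((toDD p).obj U ≅ D) := by
  apply exists_iso_of_isEffective p D
  apply isEffective_of_isQuasiAffine (ofArrows_pUnit_mem_fpqcPrecoverage p)
  intro _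
  exact hD

end Groth.Agent.Lib.EffDescFamH52
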