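import Groth.Agent.Lib.EffDescFamReduceH52

/-!
# The reduction theorem with a property of the covering morphisms (helper52)

A variant of `isEffective_of_affine` (Lib/EffDescFamReduceH52) which keeps track of a property `Q`
of the covering morphisms (stable under base change and Zariski local at the source, such as
`LocallyOfFinitePresentation` or `UniversallyOpen`): to prove effectivity of descent data with
structure morphisms in `P` relative to fpqc covering families all of whose members satisfy `Q`,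
it suffices to treat single faithfully flat morphisms of affine schemes satisfying `Q`.
-/

set_option autoImplicit false
set_option linter.style.haveILetI false
set_option linter.unusedSectionVars false
set_option backward.isDefEq.respectTransparency false
set_option backward.isDefEq.respectTransparency.types false

universe u

open CategoryTheory CategoryTheory.Limits AlgebraicGeometry Opposite

namespace Groth.Agent.Lib.EffDescFamH52

open Desc Groth.Agent.Lib.SchDDFamFF

/-- `exists_finite_affine_refinement` with the refinement maps open immersions. -/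
theorem exists_finite_affine_refinement' {S : Scheme.{u}} [IsAffine S] {ι : Type u}
    {U : ι → Scheme.{u}} (u : ∀ i, U i ⟶ S)
    (hu : Presieve.ofArrows U u ∈ Scheme.fpqcPrecoverage S) :
    ∃ (m : ℕ) (X' : ULift.{u} (Fin m) → Scheme.{u}) (u' : ∀ a, X' a ⟶ S)
      (α : ULift.{u} (Fin m) → ι) (p' : ∀ a, X' a ⟶ U (α a)),
      (∀ a, IsAffine (X' a)) ∧ (∀ a, p' a ≫ u (α a) = u' a) ∧
      Presieve.ofArrows X' u' ∈ Scheme.fpqcPrecoverage S ∧ ∀ a, IsOpenImmersion (p' a) := by
  let E : PreZeroHypercover.{u} S := { I₀ := ι, X := U, f := u }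
  have hu' : E.presieve₀ ∈ Scheme.propQCPrecoverage @Flat S := hu
  have hqc : QuasiCompactCover E := Scheme.presieve₀_mem_qcPrecoverage_iff.mp hu'.1
  let 𝒰 : S.Cover (Scheme.precoverage @Flat) := { toPreZeroHypercover := E, mem₀ := hu'.2 }
  haveI : QuasiCompactCover 𝒰.toPreZeroHypercover := hqc
  obtain ⟨𝒱, f, hfin, hopen⟩ := QuasiCompactCover.exists_hom.{u} 𝒰
  obtain ⟨m, ⟨e⟩⟩ := Finite.exists_equiv_fin 𝒱.I₀
  refine ⟨m, fun a => 𝒱.cover.X (e.symm a.down), fun a => 𝒱.cover.f (e.symm a.down),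
    fun a => f.s₀ (e.symm a.down), fun a => f.h₀ (e.symm a.down), ?_, ?_, ?_, ?_⟩
  · intro a
    dsimp [Scheme.AffineCover.cover]
    infer_instance
  · intro a
    exact f.w₀ _
  · have hflat : Presieve.ofArrows (fun a : ULift.{u} (Fin m) => 𝒱.cover.X (e.symm a.down))
        (fun a => 𝒱.cover.f (e.symm a.down)) ∈ Scheme.precoverage @Flat S := by
      rw [Scheme.ofArrows_mem_precoverage_iff]
      refine ⟨fun x => ?_, fun a => 𝒱.cover.map_prop _⟩
      obtain ⟨i, y, hy⟩ := 𝒱.cover.exists_eq x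
      obtain ⟨j, rfl⟩ := e.symm.surjective i
      exact ⟨⟨j⟩, y, hy⟩
    let 𝒲 : S.Cover (Scheme.precoverage @Flat) :=
      { I₀ := ULift.{u} (Fin m)
        X := fun a => 𝒱.cover.X (e.symm a.down)
        f := fun a => 𝒱.cover.f (e.symm a.down)
        mem₀ := hflat }
    haveI : ∀ a, IsAffine (𝒲.X a) := fun a => by
      dsimp [𝒲, Scheme.AffineCover.cover]
      infer_instance
    haveI : ∀ a, QuasiCompact (𝒲.f a) := fun a => inferInstance
    haveI : Finite 𝒲.I₀ := inferInstanceAs (Finite (ULift.{u} (Fin m)))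
    have hq : QuasiCompactCover 𝒲.toPreZeroHypercover := QuasiCompactCover.of_finite
    exact ⟨Scheme.presieve₀_mem_qcPrecoverage_iff.mpr hq, hflat⟩
  · intro a
    exact hopen _

section Reduce

variable {S : Scheme.{u}} {ι : Type u} {X : ι → Scheme.{u}} {f : ∀ i, X i ⟶ S}

variable (Q : MorphismProperty Scheme.{u}) [Q.IsStableUnderBaseChange] [IsZariskiLocalAtSource Q]
  (P : MorphismProperty Scheme.{u}) [P.IsStableUnderBaseChange]
  (h2 : ∀ (m : ℕ) (Y V : Fin m → Scheme.{u}) (q : ∀ j, Y j ⟶ V j), (∀ j, P (q j)) →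
    P (Limits.Sigma.map q))
  (h3 : ∀ (X S : Scheme.{u}) (p : X ⟶ S), IsAffine X → IsAffine S → Flat p → Surjective p → Q p →
    ∀ D : Desc.SchDD p, P D.obj.hom → ∃ U : Over S, Nonempty ((Desc.toDD p).obj U ≅ D))

include h2 h3 in
/-- Finite families of affine schemes over an affine base. -/
theorem isEffective_of_finite_affine' [IsAffine S] {m : ℕ} {X' : ULift.{u} (Fin m) → Scheme.{u}}
    [∀ a, IsAffine (X' a)] (u' : ∀ a, X' a ⟶ S)
    (hu' : Presieve.ofArrows X' u' ∈ Scheme.fpqcPrecoverage S) (hQ : ∀ a, Q (u' a))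
    (D'' : SchDDFam u') (hD'' : ∀ a, P (D''.obj a).hom) : D''.IsEffective := by
  have hu'' : Presieve.ofArrows X' u' ∈ Scheme.propQCPrecoverage @Flat S := hu'
  have hfs := hu''.2
  rw [Scheme.ofArrows_mem_precoverage_iff] at hfs
  obtain ⟨hsurj, hflat⟩ := hfs
  let X'' : Fin m → Scheme.{u} := fun j => X' ⟨j⟩
  let p : ∐ X'' ⟶ S := Sigma.desc (fun j => u' ⟨j⟩)
  let c : ∀ a : ULift.{u} (Fin m), X' a ⟶ ∐ X'' := fun a => Sigma.ι X'' a.down
  have hc : ∀ a, c a ≫ p = u' a ≫ 𝟙 S := fun a => by
    rw [Category.comp_id]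
    exact Sigma.ι_desc _ _
  haveI : ∀ a, IsOpenImmersion (c a) := fun a => inferInstanceAs (IsOpenImmersion (Sigma.ι X'' a.down))
  have hcov : ∀ b : ↥(∐ X''), ∃ a, b ∈ Set.range (c a) := fun b => by
    obtain ⟨j, x, hx⟩ := (sigmaOpenCover X'').exists_eq b
    exact ⟨⟨j⟩, x, hx⟩
  obtain ⟨D₁, ⟨iso⟩⟩ := exists_dd_of_zariski p c hc hcov D''
  have hP₁ : P (D₁.obj PUnit.unit).hom := by
    apply prop_of_forall_pullback_snd P h2 X''
    intro j
    haveI := isIso_hom_left_of_iso iso ⟨j⟩
    have e1 : (iso.hom.hom ⟨j⟩).left ≫ (D''.obj ⟨j⟩).hom =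
        pullback.snd (D₁.obj PUnit.unit).hom (Sigma.ι X'' j) := Over.w (iso.hom.hom ⟨j⟩)
    rw [← e1]
    exact (P.cancel_left_of_respectsIso _ _).mpr (hD'' ⟨j⟩)
  haveI : ∀ j, IsAffine (X'' j) := fun j => inferInstanceAs (IsAffine (X' ⟨j⟩))
  have hB : IsAffine (∐ X'') := inferInstance
  have hpf : Flat p := IsZariskiLocalAtSource.sigmaDesc (fun j => hflat ⟨j⟩)
  have hpQ : Q p := IsZariskiLocalAtSource.sigmaDesc (fun j => hQ ⟨j⟩)
  have hps : Surjective p := ⟨fun s => by
    obtain ⟨a, y, rfl⟩ := hsurj s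
    exact ⟨Sigma.ι X'' a.down y, by
      rw [← Scheme.Hom.comp_apply]
      simp only [p, Sigma.ι_desc]
      rfl⟩⟩
  have h4 := h3 (∐ X'') S p hB inferInstance hpf hps hpQ ((SchDDFam.toSchDD p).obj D₁) hP₁
  have h5 : D₁.IsEffective := isEffective_of_schDD p D₁ h4
  exact isEffective_of_iso iso (isEffective_pull (f := fun _ : PUnit.{u + 1} => p)
    (α := fun _ => PUnit.unit) (p' := c) hc D₁ h5)

include h2 h3 in
/-- Affine base. -/
theorem isEffective_of_affine_base' [IsAffine S]
    (hf : Presieve.ofArrows X f ∈ Scheme.fpqcPrecoverage S) (hfQ : ∀ i, Q (f i)) (D : SchDDFam f)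
    (hD : ∀ i, P (D.obj i).hom) : D.IsEffective := by
  obtain ⟨m, X', u', α, p', haff, hw, hu', hopen⟩ := exists_finite_affine_refinement' f hf
  have w : ∀ a, p' a ≫ f (α a) = u' a ≫ 𝟙 S := fun a => (hw a).trans (Category.comp_id _).symm
  apply isEffective_of_pull w hu' D
  apply isEffective_of_finite_affine' Q P h2 h3 u' hu'
  · intro a
    haveI := hopen a
    rw [← hw a]
    exact IsZariskiLocalAtSource.comp (hfQ (α a)) (p' a)
  · intro a
    exact P.pullback_snd _ _ (hD (α a))

include h2 h3 in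
/-- **Reduction theorem with a property of the covering morphisms.** -/
theorem isEffective_of_affine' (hf : Presieve.ofArrows X f ∈ Scheme.fpqcPrecoverage S)
    (hfQ : ∀ i, Q (f i)) (D : SchDDFam f) (hD : ∀ i, P (D.obj i).hom) : D.IsEffective := by
  apply isEffective_of_openCover hf D S.affineCover
  intro a
  haveI : IsAffine (S.affineCover.X a) := inferInstance
  refine isEffective_of_affine_base' (S := S.affineCover.X a) Q P h2 h3
    (ofArrows_snd_mem f hf (Over.mk (S.affineCover.f a))) ?_ _ ?_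
  · intro i
    exact Q.pullback_snd _ _ (hfQ i)
  · intro i
    exact P.pullback_snd _ _ (hD i)

end Reduce

end Groth.Agent.Lib.EffDescFamH52
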