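import Groth.Agent.Lib.SchDDFamFF

/-!
# Effective descent for schemes, family version: refinement (helper52)

For a morphism of families `(α, p')` over `𝟙 S` from `f'` to `f`:
* `pullCanIso w U : pullDDFam w (toDDFam f U) ≅ toDDFam f' U`;
* `isEffective_of_pull`: if `f'` is an fpqc covering family and the pullback of `D` to `f'` is
  effective, then `D` is effective (full faithfulness of the pullback functor, helper21).
* `isEffective_pull`: pullbacks of effective data are effective.
-/

set_option autoImplicit false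
set_option linter.style.haveILetI false
set_option backward.isDefEq.respectTransparency false
set_option backward.isDefEq.respectTransparency.types false

universe w' w u

open CategoryTheory CategoryTheory.Limits AlgebraicGeometry Opposite

namespace Groth.Agent.Lib.EffDescFamH52

open Desc Groth.Agent.Lib.SchDDFamFF

section Can

variable {S : Scheme.{u}} {ι : Type w} {X : ι → Scheme.{u}} (f : ∀ i, X i ⟶ S) (U : Over S)

/-- Points of `X i ×_S U` over `x` are the points `y` of `U` with `x ≫ f i = y ≫ U.hom`. -/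
noncomputable def liftsCanEquiv {T : Scheme.{u}} {i : ι} (x : T ⟶ X i) :
    Lifts ((canonicalDDFam f U).obj i) x ≃ {y : T ⟶ U.left // x ≫ f i = y ≫ U.hom} where
  toFun v := ⟨v.1 ≫ pullback.snd (f i) U.hom, by
    have e : v.1 ≫ pullback.fst (f i) U.hom = x := v.2
    rw [Category.assoc, ← pullback.condition, ← Category.assoc, e]⟩
  invFun y := ⟨pullback.lift x y.1 y.2, pullback.lift_fst _ _ _⟩
  left_inv v := by
    have e : v.1 ≫ pullback.fst (f i) U.hom = x := v.2
    apply Subtype.ext
    apply pullback.hom_ext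
    · simp [e]
    · simp
  right_inv y := Subtype.ext (pullback.lift_snd _ _ _)

theorem liftsCanEquiv_apply {T : Scheme.{u}} {i : ι} (x : T ⟶ X i)
    (v : Lifts ((canonicalDDFam f U).obj i) x) :
    (liftsCanEquiv f U x v).1 = v.1 ≫ pullback.snd (f i) U.hom := rfl

theorem liftsCanEquiv_symm_apply {T : Scheme.{u}} {i : ι} (x : T ⟶ X i)
    (y : {y : T ⟶ U.left // x ≫ f i = y ≫ U.hom}) :
    ((liftsCanEquiv f U x).symm y).1 = pullback.lift x y.1 y.2 := rfl

theorem liftsCanEquiv_φ {T : Scheme.{u}} {i j : ι} (x₀ : T ⟶ X i) (x₁ : T ⟶ X j)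
    (h : x₀ ≫ f i = x₁ ≫ f j) (v : Lifts ((canonicalDDFam f U).obj i) x₀) :
    (liftsCanEquiv f U x₁ ((canonicalDDFam f U).φ x₀ x₁ h v)).1 = (liftsCanEquiv f U x₀ v).1 := by
  change (canMapFam f U x₀ x₁ h v).1 ≫ _ = _
  simp [liftsCanEquiv]

end Can

variable {S : Scheme.{u}} {ι : Type w} {X : ι → Scheme.{u}} {f : ∀ i, X i ⟶ S}
  {ι' : Type w'} {X' : ι' → Scheme.{u}} {f' : ∀ j, X' j ⟶ S}
  {α : ι' → ι} {p' : ∀ j, X' j ⟶ X (α j)} (w : ∀ j, p' j ≫ f (α j) = f' j ≫ 𝟙 S)

include w in
theorem pull_cond {T : Scheme.{u}} {j : ι'} (x : T ⟶ X' j) : (x ≫ p' j) ≫ f (α j) = x ≫ f' j := by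
  rw [Category.assoc, w, Category.comp_id]

/-- The bijection on points underlying `pullCanIso`. -/
noncomputable def pullCanEquiv (U : Over S) {T : Scheme.{u}} {j : ι'} (x : T ⟶ X' j) :
    Lifts (((pullDDFam w).obj ((toDDFam f).obj U)).obj j) x ≃ Lifts (((toDDFam f').obj U).obj j) x :=
  (liftsPullbackEquiv (((toDDFam f).obj U).obj (α j)) (p' j) x).trans
    ((liftsCanEquiv f U (x ≫ p' j)).trans
      ((Equiv.subtypeEquivRight (fun y => by rw [pull_cond w x])).trans
        (liftsCanEquiv f' U x).symm))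

theorem pullCanEquiv_val (U : Over S) {T : Scheme.{u}} {j : ι'} (x : T ⟶ X' j)
    (v : Lifts (((pullDDFam w).obj ((toDDFam f).obj U)).obj j) x) :
    (pullCanEquiv w U x v).1 ≫ pullback.snd (f' j) U.hom =
      (v.1 ≫ pullback.fst (((toDDFam f).obj U).obj (α j)).hom (p' j)) ≫
        pullback.snd (f (α j)) U.hom :=
  pullback.lift_snd _ _ _

/-- The pullback of a canonical descent datum is the canonical descent datum. -/
noncomputable def pullCanIso (U : Over S) :
    (pullDDFam w).obj ((toDDFam f).obj U) ≅ (toDDFam f').obj U :=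
  isoOfPoints _ _ (fun _ _ x => pullCanEquiv w U x)
    (fun T T' k j x x' hx v v' hv => by
      apply pullback.hom_ext
      · have e1 : (pullCanEquiv w U x' v').1 ≫ pullback.fst (f' j) U.hom = x' :=
          (pullCanEquiv w U x' v').2
        have e2 : (pullCanEquiv w U x v).1 ≫ pullback.fst (f' j) U.hom = x :=
          (pullCanEquiv w U x v).2
        rw [e1, Category.assoc, e2, hx]
      · rw [pullCanEquiv_val, Category.assoc k, pullCanEquiv_val, hv]
        simp only [Category.assoc])
    (fun T i j x₀ x₁ h v => by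
      apply Subtype.ext
      apply pullback.hom_ext
      · have e1 : ((toDDFam f' |>.obj U).φ x₀ x₁ h (pullCanEquiv w U x₀ v)).1 ≫
            pullback.fst (f' j) U.hom = x₁ :=
          ((toDDFam f' |>.obj U).φ x₀ x₁ h (pullCanEquiv w U x₀ v)).2
        have e2 : (pullCanEquiv w U x₁ (((pullDDFam w).obj ((toDDFam f).obj U)).φ x₀ x₁ h v)).1 ≫
            pullback.fst (f' j) U.hom = x₁ :=
          (pullCanEquiv w U x₁ _).2
        rw [e1, e2]
      · rw [pullCanEquiv_val]
        have e3 : ((toDDFam f' |>.obj U).φ x₀ x₁ h (pullCanEquiv w U x₀ v)).1 ≫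
            pullback.snd (f' j) U.hom = (pullCanEquiv w U x₀ v).1 ≫ pullback.snd (f' i) U.hom := by
          change (canMapFam f' U x₀ x₁ h _).1 ≫ _ = _
          simp
        rw [e3, pullCanEquiv_val]
        -- the datum pulled back from the canonical one
        have e4 : ((pullDDFam w).obj ((toDDFam f).obj U)).φ x₀ x₁ h v =
            (liftsPullbackEquiv (((toDDFam f).obj U).obj (α j)) (p' j) x₁).symm
              (((toDDFam f).obj U).φ (x₀ ≫ p' i) (x₁ ≫ p' j) (pull_compat w x₀ x₁ h)
                (liftsPullbackEquiv (((toDDFam f).obj U).obj (α i)) (p' i) x₀ v)) := rfl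
        rw [e4, lPE_symm_fst]
        exact (liftsCanEquiv_φ f U (x₀ ≫ p' i) (x₁ ≫ p' j) (pull_compat w x₀ x₁ h)
          (liftsPullbackEquiv (((toDDFam f).obj U).obj (α i)) (p' i) x₀ v)).symm)

/-- Pullbacks of effective descent data are effective. -/
theorem isEffective_pull (D : SchDDFam f) (H : D.IsEffective) :
    ((pullDDFam w).obj D).IsEffective := by
  obtain ⟨U, ⟨e⟩⟩ := H
  exact ⟨U, ⟨(pullCanIso w U).symm ≪≫ (pullDDFam w).mapIso e⟩⟩

/-- If the pullback of `D` to an fpqc covering family refining `f` is effective, so is `D`. -/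
theorem isEffective_of_pull (hf' : Presieve.ofArrows X' f' ∈ Scheme.fpqcPrecoverage S)
    (D : SchDDFam f) (H : ((pullDDFam w).obj D).IsEffective) : D.IsEffective := by
  obtain ⟨U, ⟨e⟩⟩ := H
  have Hs : ∀ i, smallSieve f f' i ∈ Scheme.fpqcTopology (X i) :=
    fun i => smallSieve_mem_of_mem_fpqcPrecoverage hf' i
  haveI := full_of_mem_fpqcTopology w Hs
  haveI := faithful_of_mem_fpqcTopology w Hs
  exact ⟨U, ⟨(pullDDFam w).preimageIso (pullCanIso w U ≪≫ e)⟩⟩

end Groth.Agent.Lib.EffDescFamH52
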