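import Groth.Agent.Lib.EffDescFamZarH52
import Groth.Agent.Lib.EffDescFamLocH52
import Groth.Agent.Lib.EffDescFamRefineH52

/-!
# Effective descent for schemes: reduction to single affine coverings (helper52)

* `exists_dd_of_zariski`: a descent datum relative to a family `f` whose members form a Zariski
  covering of `B ⟶ S` comes from a descent datum relative to the single morphism `B ⟶ S`.
* `isEffective_of_schDD`, `exists_iso_of_isEffective`: effectivity for one-member families is
  effectivity for `Desc.SchDD`.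
* `exists_finite_affine_refinement`: an fpqc covering family of an affine scheme is refined by a
  finite fpqc covering family of affine schemes (indexed by `ULift (Fin m)`).
* `prop_of_forall_pullback_snd`: a property stable under finite disjoint unions holds for
  `V ⟶ ∐ X''` if it holds for all its restrictions to the summands.
* `isEffective_of_affine`: **the reduction theorem**.
-/

set_option autoImplicit false
set_option linter.style.haveILetI false
set_option backward.isDefEq.respectTransparency false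
set_option backward.isDefEq.respectTransparency.types false

universe u

open CategoryTheory CategoryTheory.Limits AlgebraicGeometry Opposite

namespace Groth.Agent.Lib.EffDescFamH52

open Desc Groth.Agent.Lib.SchDDFamFF

section Zar

variable {S : Scheme.{u}} {ι : Type u} {X : ι → Scheme.{u}} {f : ∀ i, X i ⟶ S}

theorem exists_dd_of_zariski {B : Scheme.{u}} (p : B ⟶ S) (c : ∀ i, X i ⟶ B)
    [∀ i, IsOpenImmersion (c i)] (hc : ∀ i, c i ≫ p = f i ≫ 𝟙 S)
    (hcov : ∀ b : B, ∃ i, b ∈ Set.range (c i)) (D' : SchDDFam f) :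
    ∃ D₁ : SchDDFam (fun _ : PUnit.{u + 1} => p),
      Nonempty ((pullDDFam (f := fun _ : PUnit.{u + 1} => p) (f' := f) (α := fun _ => PUnit.unit)
        (p := 𝟙 S) (p' := c) hc).obj D₁ ≅ D') := by
  obtain ⟨V, ε, hε⟩ := exists_universal_overFunctor_of_zariski p (fun i : ι => i) c
    (fun i => (hc i).trans (Category.comp_id _)) hcov D'
  let R := repDataOfUniversal (g := fun _ : PUnit.{u + 1} => p) (fun _ => ε) (fun _ => hε)
  exact ⟨ddOfRep R, ⟨pullDdOfRepIso (g := fun _ : PUnit.{u + 1} => p) (α := fun _ => PUnit.unit)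
    (p' := c) hc R⟩⟩

end Zar

section One

variable {S X₀ : Scheme.{u}} (p : X₀ ⟶ S)

theorem isEffective_of_schDD (D₁ : SchDDFam (fun _ : PUnit.{u + 1} => p))
    (h : ∃ U : Over S, Nonempty ((toDD p).obj U ≅ (SchDDFam.toSchDD p).obj D₁)) :
    D₁.IsEffective := by
  obtain ⟨U, ⟨e⟩⟩ := h
  exact ⟨U, ⟨(SchDDFam.ofSchDD.{u, u} p).mapIso e⟩⟩

theorem exists_iso_of_isEffective (D : SchDD p)
    (h : ((SchDDFam.ofSchDD.{u, u} p).obj D).IsEffective) :
    ∃ U : Over S, Nonempty ((toDD p).obj U ≅ D) := by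
  obtain ⟨U, ⟨e⟩⟩ := h
  exact ⟨U, ⟨(SchDDFam.toSchDD.{u, u} p).mapIso e⟩⟩

end One

theorem exists_finite_affine_refinement {S : Scheme.{u}} [IsAffine S] {ι : Type u}
    {U : ι → Scheme.{u}} (u : ∀ i, U i ⟶ S)
    (hu : Presieve.ofArrows U u ∈ Scheme.fpqcPrecoverage S) :
    ∃ (m : ℕ) (X' : ULift.{u} (Fin m) → Scheme.{u}) (u' : ∀ a, X' a ⟶ S)
      (α : ULift.{u} (Fin m) → ι) (p' : ∀ a, X' a ⟶ U (α a)),
      (∀ a, IsAffine (X' a)) ∧ (∀ a, p' a ≫ u (α a) = u' a) ∧
      Presieve.ofArrows X' u' ∈ Scheme.fpqcPrecoverage S := by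
  let E : PreZeroHypercover.{u} S := { I₀ := ι, X := U, f := u }
  have hu' : E.presieve₀ ∈ Scheme.propQCPrecoverage @Flat S := hu
  have hqc : QuasiCompactCover E := Scheme.presieve₀_mem_qcPrecoverage_iff.mp hu'.1
  let 𝒰 : S.Cover (Scheme.precoverage @Flat) := { toPreZeroHypercover := E, mem₀ := hu'.2 }
  haveI : QuasiCompactCover 𝒰.toPreZeroHypercover := hqc
  obtain ⟨𝒱, f, hfin, -⟩ := QuasiCompactCover.exists_hom.{u} 𝒰
  obtain ⟨m, ⟨e⟩⟩ := Finite.exists_equiv_fin 𝒱.I₀
  refine ⟨m, fun a => 𝒱.cover.X (e.symm a.down), fun a => 𝒱.cover.f (e.symm a.down),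
    fun a => f.s₀ (e.symm a.down), fun a => f.h₀ (e.symm a.down), ?_, ?_, ?_⟩
  · intro a
    dsimp [Scheme.AffineCover.cover]
    infer_instance
  · intro a
    exact f.w₀ _
  · have hflat : Presieve.ofArrows (fun a : ULift.{u} (Fin m) => 𝒱.cover.X (e.symm a.down))
        (fun a => 𝒱.cover.f (e.symm a.down)) ∈ Scheme.precoverage @Flat S := by
      rw [Scheme.ofArrows_mem_precoverage_iff]
      refine ⟨fun x => ?_, fun a => 𝒱.cover.map_prop _⟩
      obtain ⟨i, y, hy⟩ := 𝒱.cover.exists_eq x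
      obtain ⟨j, rfl⟩ := e.symm.surjective i
      exact ⟨⟨j⟩, y, hy⟩
    let 𝒲 : S.Cover (Scheme.precoverage @Flat) :=
      { I₀ := ULift.{u} (Fin m)
        X := fun a => 𝒱.cover.X (e.symm a.down)
        f := fun a => 𝒱.cover.f (e.symm a.down)
        mem₀ := hflat }
    haveI : ∀ a, IsAffine (𝒲.X a) := fun a => by
      dsimp [𝒲, Scheme.AffineCover.cover]
      infer_instance
    haveI : ∀ a, QuasiCompact (𝒲.f a) := fun a => inferInstance
    haveI : Finite 𝒲.I₀ := inferInstanceAs (Finite (ULift.{u} (Fin m)))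
    have hq : QuasiCompactCover 𝒲.toPreZeroHypercover := QuasiCompactCover.of_finite
    exact ⟨Scheme.presieve₀_mem_qcPrecoverage_iff.mpr hq, hflat⟩

theorem prop_of_forall_pullback_snd (P : MorphismProperty Scheme.{u}) [P.RespectsIso]
    (h2 : ∀ (m : ℕ) (Y V : Fin m → Scheme.{u}) (q : ∀ j, Y j ⟶ V j), (∀ j, P (q j)) →
      P (Limits.Sigma.map q))
    {m : ℕ} (X'' : Fin m → Scheme.{u}) {V : Scheme.{u}} (Wh : V ⟶ ∐ X'')
    (h : ∀ j, P (pullback.snd Wh (Sigma.ι X'' j))) : P Wh := by
  have h1 : Sigma.desc (fun j => Sigma.ι X'' j) = 𝟙 _ := by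
    apply Sigma.hom_ext; intro j; simp
  have hiso : IsIso (Sigma.desc (fun j => pullback.fst Wh (Sigma.ι X'' j))) :=
    FinitaryPreExtensive.isIso_sigmaDesc_fst (fun j => Sigma.ι X'' j) Wh (by
      rw [h1]; infer_instance)
  have e : Sigma.desc (fun j => pullback.fst Wh (Sigma.ι X'' j)) ≫ Wh =
      Limits.Sigma.map (fun j => pullback.snd Wh (Sigma.ι X'' j)) := by
    apply Sigma.hom_ext; intro j; simp [pullback.condition]
  have := h2 m _ _ _ h
  rw [← e] at this
  exact (P.cancel_left_of_respectsIso _ _).mp this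

end Groth.Agent.Lib.EffDescFamH52

namespace Groth.Agent.Lib.EffDescFamH52

open Desc Groth.Agent.Lib.SchDDFamFF

section Reduce

variable {S : Scheme.{u}} {ι : Type u} {X : ι → Scheme.{u}} {f : ∀ i, X i ⟶ S}

theorem isIso_hom_left_of_iso {D D' : SchDDFam f} (e : D ≅ D') (i : ι) :
    IsIso (e.hom.hom i).left := by
  refine ⟨(e.inv.hom i).left, ?_, ?_⟩
  · rw [← Over.comp_left, ← SchDDFam.comp_hom, e.hom_inv_id]; rfl
  · rw [← Over.comp_left, ← SchDDFam.comp_hom, e.inv_hom_id]; rfl

theorem isEffective_of_iso {D D' : SchDDFam f} (e : D ≅ D') (h : D.IsEffective) :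
    D'.IsEffective := by
  obtain ⟨U, ⟨e'⟩⟩ := h
  exact ⟨U, ⟨e' ≪≫ e⟩⟩

variable (P : MorphismProperty Scheme.{u}) [P.IsStableUnderBaseChange]
  (h2 : ∀ (m : ℕ) (Y V : Fin m → Scheme.{u}) (q : ∀ j, Y j ⟶ V j), (∀ j, P (q j)) →
    P (Limits.Sigma.map q))
  (h3 : ∀ (X S : Scheme.{u}) (p : X ⟶ S), IsAffine X → IsAffine S → Flat p → Surjective p →
    ∀ D : Desc.SchDD p, P D.obj.hom → ∃ U : Over S, Nonempty ((Desc.toDD p).obj U ≅ D))

include h2 h3 in
/-- Finite families of affine schemes over an affine base. -/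
theorem isEffective_of_finite_affine [IsAffine S] {m : ℕ} {X' : ULift.{u} (Fin m) → Scheme.{u}}
    [∀ a, IsAffine (X' a)] (u' : ∀ a, X' a ⟶ S)
    (hu' : Presieve.ofArrows X' u' ∈ Scheme.fpqcPrecoverage S) (D'' : SchDDFam u')
    (hD'' : ∀ a, P (D''.obj a).hom) : D''.IsEffective := by
  have hu'' : Presieve.ofArrows X' u' ∈ Scheme.propQCPrecoverage @Flat S := hu'
  have hfs := hu''.2
  rw [Scheme.ofArrows_mem_precoverage_iff] at hfs
  obtain ⟨hsurj, hflat⟩ := hfs
  let X'' : Fin m → Scheme.{u} := fun j => X' ⟨j⟩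
  let p : ∐ X'' ⟶ S := Sigma.desc (fun j => u' ⟨j⟩)
  let c : ∀ a : ULift.{u} (Fin m), X' a ⟶ ∐ X'' := fun a => Sigma.ι X'' a.down
  have hc : ∀ a, c a ≫ p = u' a ≫ 𝟙 S := fun a => by
    rw [Category.comp_id]
    exact Sigma.ι_desc _ _
  haveI : ∀ a, IsOpenImmersion (c a) := fun a => inferInstanceAs (IsOpenImmersion (Sigma.ι X'' a.down))
  have hcov : ∀ b : ↥(∐ X''), ∃ a, b ∈ Set.range (c a) := fun b => by
    obtain ⟨j, x, hx⟩ := (sigmaOpenCover X'').exists_eq b
    exact ⟨⟨j⟩, x, hx⟩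
  obtain ⟨D₁, ⟨iso⟩⟩ := exists_dd_of_zariski p c hc hcov D''
  -- `P` for the glued scheme
  have hP₁ : P (D₁.obj PUnit.unit).hom := by
    apply prop_of_forall_pullback_snd P h2 X''
    intro j
    haveI := isIso_hom_left_of_iso iso ⟨j⟩
    have e1 : (iso.hom.hom ⟨j⟩).left ≫ (D''.obj ⟨j⟩).hom =
        pullback.snd (D₁.obj PUnit.unit).hom (Sigma.ι X'' j) := Over.w (iso.hom.hom ⟨j⟩)
    rw [← e1]
    exact (P.cancel_left_of_respectsIso _ _).mpr (hD'' ⟨j⟩)
  -- apply the hypothesis on single affine coverings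
  haveI : ∀ j, IsAffine (X'' j) := fun j => inferInstanceAs (IsAffine (X' ⟨j⟩))
  have hB : IsAffine (∐ X'') := inferInstance
  have hpf : Flat p := IsZariskiLocalAtSource.sigmaDesc (fun j => hflat ⟨j⟩)
  have hps : Surjective p := ⟨fun s => by
    obtain ⟨a, y, rfl⟩ := hsurj s
    exact ⟨Sigma.ι X'' a.down y, by
      rw [← Scheme.Hom.comp_apply]
      simp only [p, Sigma.ι_desc]
      rfl⟩⟩
  have h4 := h3 (∐ X'') S p hB inferInstance hpf hps ((SchDDFam.toSchDD p).obj D₁) hP₁
  have h5 : D₁.IsEffective := isEffective_of_schDD p D₁ h4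
  exact isEffective_of_iso iso (isEffective_pull (f := fun _ : PUnit.{u + 1} => p)
    (α := fun _ => PUnit.unit) (p' := c) hc D₁ h5)

include h2 h3 in
/-- Affine base. -/
theorem isEffective_of_affine_base [IsAffine S]
    (hf : Presieve.ofArrows X f ∈ Scheme.fpqcPrecoverage S) (D : SchDDFam f)
    (hD : ∀ i, P (D.obj i).hom) : D.IsEffective := by
  obtain ⟨m, X', u', α, p', haff, hw, hu'⟩ := exists_finite_affine_refinement f hf
  have w : ∀ a, p' a ≫ f (α a) = u' a ≫ 𝟙 S := fun a => (hw a).trans (Category.comp_id _).symm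
  apply isEffective_of_pull w hu' D
  apply isEffective_of_finite_affine P h2 h3 u' hu'
  intro a
  exact P.pullback_snd _ _ (hD (α a))

include h2 h3 in
/-- **Reduction theorem.** To prove that descent data for schemes with structure morphisms in `P`
relative to fpqc covering families are effective, it suffices to treat single flat surjective
morphisms of affine schemes, if `P` is stable under base change and finite disjoint unions. -/
theorem isEffective_of_affine (hf : Presieve.ofArrows X f ∈ Scheme.fpqcPrecoverage S)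
    (D : SchDDFam f) (hD : ∀ i, P (D.obj i).hom) : D.IsEffective := by
  apply isEffective_of_openCover hf D S.affineCover
  intro a
  haveI : IsAffine (S.affineCover.X a) := inferInstance
  refine isEffective_of_affine_base (S := S.affineCover.X a) P h2 h3
    (ofArrows_snd_mem f hf (Over.mk (S.affineCover.f a))) _ ?_
  intro i
  exact P.pullback_snd _ _ (hD i)

end Reduce

end Groth.Agent.Lib.EffDescFamH52
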