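import Groth.Prelude.Def_DescFam
import Mathlib

/-!
# Effective descent for schemes, family version: the functor of sections (helper52)

For a descent datum `D` relative to a family `f i : X i ⟶ S`, `SecF D T` is the set of
"sections of the descended functor over `T`": a morphism `t : T ⟶ S` and morphisms
`m i : X i ×_S T ⟶ V i` over `X i`, compatible with the gluing bijections. (Equivalently a morphism of
descent data `toDDFam f (T, t) ⟶ D`, see `SecF.toHom`/`SecF.ofHom`.) If `D ≅ toDDFam f U` and the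
family is an fpqc covering this is `Hom(T, U)`.

* `SecF.ev`: evaluation on a `Z`-point `(x, y)` of `X i ×_S T`, as an element of `Lifts (D.obj i) x`;
  `SecF.φ_ev`, `SecF.ofEv` (construct a section from its evaluation function), `SecF.ext_ev`.
* `SecF.res`, `secFunctorF D : Schemeᵒᵖ ⥤ Type u`.
-/

set_option autoImplicit false
set_option linter.style.haveILetI false
set_option backward.isDefEq.respectTransparency false
set_option backward.isDefEq.respectTransparency.types false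

universe u

open CategoryTheory CategoryTheory.Limits AlgebraicGeometry Opposite

namespace Groth.Agent.Lib.EffDescFamH52

open Desc

variable {S : Scheme.{u}} {ι : Type u} {X : ι → Scheme.{u}} {f : ∀ i, X i ⟶ S}

theorem φ_symm (D : SchDDFam f) {T : Scheme.{u}} {i j : ι} (x₀ : T ⟶ X i) (x₁ : T ⟶ X j)
    (h : x₀ ≫ f i = x₁ ≫ f j) (v : Lifts (D.obj j) x₁) :
    (D.φ x₀ x₁ h).symm v = D.φ x₁ x₀ h.symm v := by
  apply (D.φ x₀ x₁ h).injective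
  rw [Equiv.apply_symm_apply, D.φ_comp, D.φ_self]

/-- Transport of the gluing bijection along equalities of the base points. -/
theorem φ_congr (D : SchDDFam f) {T : Scheme.{u}} {i j : ι} {x₀ x₀' : T ⟶ X i} {x₁ x₁' : T ⟶ X j}
    (e₀ : x₀ = x₀') (e₁ : x₁ = x₁') (h : x₀ ≫ f i = x₁ ≫ f j) (h' : x₀' ≫ f i = x₁' ≫ f j)
    (v : Lifts (D.obj i) x₀) (v' : Lifts (D.obj i) x₀') (hv : v.1 = v'.1) :
    (D.φ x₀ x₁ h v).1 = (D.φ x₀' x₁' h' v').1 := by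
  subst e₀ e₁
  have : v = v' := Subtype.ext hv
  rw [this]

/-- A section over `T` of the descended functor of `D`. -/
structure SecF (D : SchDDFam f) (T : Scheme.{u}) where
  /-- the structure morphism -/
  t : T ⟶ S
  /-- the morphisms `X i ×_S T ⟶ V i` -/
  m : ∀ i, pullback (f i) t ⟶ (D.obj i).left
  hm : ∀ i, m i ≫ (D.obj i).hom = pullback.fst (f i) t
  hφ : ∀ ⦃Z : Scheme.{u}⦄ ⦃i j : ι⦄ (x₀ : Z ⟶ X i) (x₁ : Z ⟶ X j) (y : Z ⟶ T)
    (h₀ : x₀ ≫ f i = y ≫ t) (h₁ : x₁ ≫ f j = y ≫ t),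
    (D.φ x₀ x₁ (h₀.trans h₁.symm) ⟨pullback.lift x₀ y h₀ ≫ m i, by
      rw [Category.assoc, hm, pullback.lift_fst]⟩).1 = pullback.lift x₁ y h₁ ≫ m j

namespace SecF

variable {D : SchDDFam f} {T : Scheme.{u}}

/-- Evaluation of a section on a `Z`-point of `X i ×_S T`. -/
noncomputable def ev (ξ : SecF D T) {Z : Scheme.{u}} {i : ι} (x : Z ⟶ X i) (y : Z ⟶ T)
    (h : x ≫ f i = y ≫ ξ.t) : Lifts (D.obj i) x :=
  ⟨pullback.lift x y h ≫ ξ.m i, by rw [Category.assoc, ξ.hm, pullback.lift_fst]⟩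

theorem ev_val (ξ : SecF D T) {Z : Scheme.{u}} {i : ι} (x : Z ⟶ X i) (y : Z ⟶ T)
    (h : x ≫ f i = y ≫ ξ.t) : (ξ.ev x y h).1 = pullback.lift x y h ≫ ξ.m i := rfl

theorem ev_nat (ξ : SecF D T) {Z Z' : Scheme.{u}} (g : Z' ⟶ Z) {i : ι} (x : Z ⟶ X i) (y : Z ⟶ T)
    (h : x ≫ f i = y ≫ ξ.t) (x' : Z' ⟶ X i) (y' : Z' ⟶ T) (h' : x' ≫ f i = y' ≫ ξ.t)
    (hx : x' = g ≫ x) (hy : y' = g ≫ y) : (ξ.ev x' y' h').1 = g ≫ (ξ.ev x y h).1 := by
  subst hx hy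
  rw [ev_val, ev_val, ← Category.assoc]
  congr 1
  apply pullback.hom_ext <;> simp

theorem m_eq_ev (ξ : SecF D T) (i : ι) :
    ξ.m i = (ξ.ev (pullback.fst (f i) ξ.t) (pullback.snd (f i) ξ.t) pullback.condition).1 := by
  rw [ev_val]
  have : pullback.lift (pullback.fst (f i) ξ.t) (pullback.snd (f i) ξ.t) pullback.condition =
      𝟙 _ := by
    apply pullback.hom_ext <;> simp
  rw [this, Category.id_comp]

theorem ev_congr (ξ : SecF D T) {Z : Scheme.{u}} {i : ι} {x x' : Z ⟶ X i} {y y' : Z ⟶ T}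
    (hx : x = x') (hy : y = y') (h : x ≫ f i = y ≫ ξ.t) (h' : x' ≫ f i = y' ≫ ξ.t) :
    (ξ.ev x y h).1 = (ξ.ev x' y' h').1 := by
  subst hx hy; rfl

/-- The section is compatible with the gluing bijections. -/
theorem φ_ev (ξ : SecF D T) {Z : Scheme.{u}} {i j : ι} (x₀ : Z ⟶ X i) (x₁ : Z ⟶ X j) (y : Z ⟶ T)
    (h₀ : x₀ ≫ f i = y ≫ ξ.t) (h₁ : x₁ ≫ f j = y ≫ ξ.t) (h : x₀ ≫ f i = x₁ ≫ f j) :
    D.φ x₀ x₁ h (ξ.ev x₀ y h₀) = ξ.ev x₁ y h₁ :=
  Subtype.ext (ξ.hφ x₀ x₁ y h₀ h₁)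

/-- Construct a section from its evaluation function. -/
noncomputable def ofEv (t : T ⟶ S)
    (e : ∀ ⦃Z : Scheme.{u}⦄ ⦃i : ι⦄ (x : Z ⟶ X i) (y : Z ⟶ T), x ≫ f i = y ≫ t → Lifts (D.obj i) x)
    (nat : ∀ ⦃Z Z' : Scheme.{u}⦄ (g : Z' ⟶ Z) ⦃i : ι⦄ (x : Z ⟶ X i) (y : Z ⟶ T)
      (h : x ≫ f i = y ≫ t) (x' : Z' ⟶ X i) (y' : Z' ⟶ T) (h' : x' ≫ f i = y' ≫ t),
      x' = g ≫ x → y' = g ≫ y → (e x' y' h').1 = g ≫ (e x y h).1)
    (compat : ∀ ⦃Z : Scheme.{u}⦄ ⦃i j : ι⦄ (x₀ : Z ⟶ X i) (x₁ : Z ⟶ X j) (y : Z ⟶ T)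
      (h₀ : x₀ ≫ f i = y ≫ t) (h₁ : x₁ ≫ f j = y ≫ t) (h : x₀ ≫ f i = x₁ ≫ f j),
      D.φ x₀ x₁ h (e x₀ y h₀) = e x₁ y h₁) : SecF D T where
  t := t
  m i := (e (pullback.fst (f i) t) (pullback.snd (f i) t) pullback.condition).1
  hm i := (e (pullback.fst (f i) t) (pullback.snd (f i) t) pullback.condition).2
  hφ Z i j x₀ x₁ y h₀ h₁ := by
    have e0 : pullback.lift x₀ y h₀ ≫
        (e (pullback.fst (f i) t) (pullback.snd (f i) t) pullback.condition).1 = (e x₀ y h₀).1 :=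
      (nat _ _ _ _ _ _ h₀ (by simp) (by simp)).symm
    have e1 : pullback.lift x₁ y h₁ ≫
        (e (pullback.fst (f j) t) (pullback.snd (f j) t) pullback.condition).1 = (e x₁ y h₁).1 :=
      (nat _ _ _ _ _ _ h₁ (by simp) (by simp)).symm
    rw [e1, ← compat x₀ x₁ y h₀ h₁ (h₀.trans h₁.symm)]
    congr 2
    exact Subtype.ext e0

@[simp] theorem ofEv_t (t : T ⟶ S) (e) (nat) (compat) :
    (ofEv (D := D) t e nat compat).t = t := rfl

theorem ofEv_ev (t : T ⟶ S) (e) (nat) (compat) {Z : Scheme.{u}} {i : ι} (x : Z ⟶ X i) (y : Z ⟶ T)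
    (h : x ≫ f i = y ≫ t) : (ofEv (D := D) t e nat compat).ev x y h = e x y h := by
  apply Subtype.ext
  rw [ev_val]
  exact (nat _ _ _ _ _ _ h (by simp) (by simp)).symm

/-- Extensionality: same structure morphism and same evaluations. -/
theorem ext_ev {ξ ξ' : SecF D T} (ht : ξ.t = ξ'.t)
    (hm : ∀ ⦃Z : Scheme.{u}⦄ ⦃i : ι⦄ (x : Z ⟶ X i) (y : Z ⟶ T) (h : x ≫ f i = y ≫ ξ.t),
      (ξ.ev x y h).1 = (ξ'.ev x y (by rw [← ht, h])).1) : ξ = ξ' := by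
  obtain ⟨t, m, hm₁, hφ₁⟩ := ξ
  obtain ⟨t', m', hm₂, hφ₂⟩ := ξ'
  dsimp only at ht
  subst ht
  have : m = m' := by
    funext i
    have h1 := m_eq_ev ⟨t, m, hm₁, hφ₁⟩ i
    have h2 := m_eq_ev ⟨t, m', hm₂, hφ₂⟩ i
    dsimp only at h1 h2
    rw [h1, h2]
    exact hm _ _ _
  subst this
  rfl

/-- Restriction of a section along `g : T' ⟶ T`. -/
noncomputable def res {T' : Scheme.{u}} (g : T' ⟶ T) (ξ : SecF D T) : SecF D T' :=
  ofEv (g ≫ ξ.t) (fun _ _ x y h => ξ.ev x (y ≫ g) (by rw [h, Category.assoc]))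
    (fun Z Z' k i x y h x' y' h' hx hy => ξ.ev_nat k _ _ _ _ _ _ hx (by rw [hy, Category.assoc]))
    (fun Z i j x₀ x₁ y h₀ h₁ h => ξ.φ_ev x₀ x₁ (y ≫ g) _ _ h)

@[simp] theorem res_t {T' : Scheme.{u}} (g : T' ⟶ T) (ξ : SecF D T) : (ξ.res g).t = g ≫ ξ.t := rfl

theorem res_ev {T' : Scheme.{u}} (g : T' ⟶ T) (ξ : SecF D T) {Z : Scheme.{u}} {i : ι}
    (x : Z ⟶ X i) (y : Z ⟶ T') (h : x ≫ f i = y ≫ (ξ.res g).t) :
    (ξ.res g).ev x y h = ξ.ev x (y ≫ g) (by rw [h, res_t, Category.assoc]) :=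
  ofEv_ev _ _ _ _ x y h

theorem res_id (ξ : SecF D T) : ξ.res (𝟙 T) = ξ := by
  apply ext_ev (by simp)
  intro Z i x y h
  rw [res_ev]
  apply ev_congr _ rfl (by simp)

theorem res_comp {T' T'' : Scheme.{u}} (g : T' ⟶ T) (g' : T'' ⟶ T') (ξ : SecF D T) :
    ξ.res (g' ≫ g) = (ξ.res g).res g' := by
  apply ext_ev (by simp)
  intro Z i x y h
  rw [res_ev, res_ev, res_ev]
  apply ev_congr _ rfl (by simp)

end SecF

/-- The functor of sections of a descent datum. -/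
noncomputable def secFunctorF (D : SchDDFam f) : Scheme.{u}ᵒᵖ ⥤ Type u where
  obj T := SecF D T.unop
  map g := ↾(SecF.res g.unop)
  map_id T := by
    ext ξ
    exact SecF.res_id ξ
  map_comp g g' := by
    ext ξ
    exact SecF.res_comp _ _ ξ

@[simp] theorem secFunctorF_map_apply (D : SchDDFam f) {T T' : Scheme.{u}ᵒᵖ} (g : T ⟶ T')
    (ξ : SecF D T.unop) : (secFunctorF D).map g ξ = ξ.res g.unop := rfl

end Groth.Agent.Lib.EffDescFamH52
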