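import Groth.Agent.Lib.EffDescFamSecH52

/-!
# Effective descent for schemes, family version: the functor of sections is a Zariski sheaf (helper52)

`isSheaf_secFunctorF D : Presieve.IsSheaf Scheme.zariskiTopology (secFunctorF D)`; gluing of sections
along an open cover of `T` (`glueSecF`), locality of equality (`SecF.ext_of_cover`).
-/

set_option autoImplicit false
set_option linter.style.haveILetI false
set_option backward.isDefEq.respectTransparency false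
set_option backward.isDefEq.respectTransparency.types false

universe u

open CategoryTheory CategoryTheory.Limits AlgebraicGeometry Opposite

namespace Groth.Agent.Lib.EffDescFamH52

open Desc

variable {S : Scheme.{u}} {ι : Type u} {X : ι → Scheme.{u}} {f : ∀ i, X i ⟶ S}

theorem SecF.ev_of_eq {D : SchDDFam f} {T : Scheme.{u}} {ξ ξ' : SecF D T} (e : ξ = ξ')
    {Z : Scheme.{u}} {i : ι} (x : Z ⟶ X i) (y : Z ⟶ T) (h : x ≫ f i = y ≫ ξ.t) :
    (ξ.ev x y h).1 = (ξ'.ev x y (by rw [← e, h])).1 := by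
  subst e; rfl

theorem φ_natural' (D : SchDDFam f) {T T' : Scheme.{u}} (g : T' ⟶ T) {i j : ι} (x₀ : T ⟶ X i)
    (x₁ : T ⟶ X j) (h : x₀ ≫ f i = x₁ ≫ f j) (h' : (g ≫ x₀) ≫ f i = (g ≫ x₁) ≫ f j)
    (v : Lifts (D.obj i) x₀) (v' : Lifts (D.obj i) (g ≫ x₀)) (hv : v'.1 = g ≫ v.1) :
    (D.φ (g ≫ x₀) (g ≫ x₁) h' v').1 = g ≫ (D.φ x₀ x₁ h v).1 :=
  D.φ_natural g x₀ x₁ h _ _ rfl rfl h' v v' hv

section Glue

variable {D : SchDDFam f} {T : Scheme.{u}} (𝒰 : T.OpenCover) (ξ : ∀ a, SecF D (𝒰.X a))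
  (hξ : ∀ (a b : 𝒰.I₀) (Z : Scheme.{u}) (ga : Z ⟶ 𝒰.X a) (gb : Z ⟶ 𝒰.X b),
    ga ≫ 𝒰.f a = gb ≫ 𝒰.f b → (ξ a).res ga = (ξ b).res gb)
  (t : T ⟶ S) (ht : ∀ a, 𝒰.f a ≫ t = (ξ a).t)

include hξ in
theorem glue_t_compat (a b : 𝒰.I₀) :
    pullback.fst (𝒰.f a) (𝒰.f b) ≫ (ξ a).t = pullback.snd (𝒰.f a) (𝒰.f b) ≫ (ξ b).t :=
  congrArg SecF.t (hξ a b _ _ _ pullback.condition)

include hξ ht in
/-- Key consequence of compatibility: evaluation of the local sections agree. -/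
theorem ev_eq_ev {Z : Scheme.{u}} {i : ι} (x : Z ⟶ X i) (a b : 𝒰.I₀) (ya : Z ⟶ 𝒰.X a)
    (yb : Z ⟶ 𝒰.X b) (hy : ya ≫ 𝒰.f a = yb ≫ 𝒰.f b) (ha : x ≫ f i = ya ≫ (ξ a).t) :
    ((ξ a).ev x ya ha).1 = ((ξ b).ev x yb (by
      rw [ha, ← ht, ← Category.assoc, hy, Category.assoc, ht])).1 := by
  have key := hξ a b Z ya yb hy
  have e3 := SecF.ev_of_eq key x (𝟙 Z) (by rw [Category.id_comp, SecF.res_t, ha])
  rw [SecF.res_ev, SecF.res_ev] at e3
  refine Eq.trans ?_ (e3.trans ?_)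
  · exact SecF.ev_congr _ rfl (Category.id_comp _).symm _ _
  · exact SecF.ev_congr _ rfl (Category.id_comp _) _ _

include ht in
theorem glueLocal_cond (i : ι) (a : 𝒰.I₀) :
    (pullback.fst (pullback.snd (f i) t) (𝒰.f a) ≫ pullback.fst (f i) t) ≫ f i =
      pullback.snd (pullback.snd (f i) t) (𝒰.f a) ≫ (ξ a).t := by
  rw [Category.assoc, pullback.condition, ← Category.assoc, pullback.condition,
    Category.assoc, ht]

/-- The local pieces of the glued morphism. -/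
noncomputable def glueLocal (i : ι) (a : 𝒰.I₀) :
    pullback (pullback.snd (f i) t) (𝒰.f a) ⟶ (D.obj i).left :=
  ((ξ a).ev (pullback.fst (pullback.snd (f i) t) (𝒰.f a) ≫ pullback.fst (f i) t)
    (pullback.snd (pullback.snd (f i) t) (𝒰.f a)) (glueLocal_cond 𝒰 ξ t ht i a)).1

include hξ in
theorem comp_glueLocal_eq {Z : Scheme.{u}} (i : ι) (a b : 𝒰.I₀)
    (ga : Z ⟶ pullback (pullback.snd (f i) t) (𝒰.f a))
    (gb : Z ⟶ pullback (pullback.snd (f i) t) (𝒰.f b))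
    (h : ga ≫ pullback.fst (pullback.snd (f i) t) (𝒰.f a) =
      gb ≫ pullback.fst (pullback.snd (f i) t) (𝒰.f b)) :
    ga ≫ glueLocal 𝒰 ξ t ht i a = gb ≫ glueLocal 𝒰 ξ t ht i b := by
  have hca : (ga ≫ pullback.fst (pullback.snd (f i) t) (𝒰.f a) ≫ pullback.fst (f i) t) ≫ f i =
      (ga ≫ pullback.snd (pullback.snd (f i) t) (𝒰.f a)) ≫ (ξ a).t := by
    rw [Category.assoc, glueLocal_cond 𝒰 ξ t ht i a, Category.assoc]
  have hcb : (gb ≫ pullback.fst (pullback.snd (f i) t) (𝒰.f b) ≫ pullback.fst (f i) t) ≫ f i =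
      (gb ≫ pullback.snd (pullback.snd (f i) t) (𝒰.f b)) ≫ (ξ b).t := by
    rw [Category.assoc, glueLocal_cond 𝒰 ξ t ht i b, Category.assoc]
  rw [glueLocal, glueLocal,
    ← (ξ a).ev_nat ga _ _ _ _ _ hca rfl rfl, ← (ξ b).ev_nat gb _ _ _ _ _ hcb rfl rfl]
  have hy : (ga ≫ pullback.snd (pullback.snd (f i) t) (𝒰.f a)) ≫ 𝒰.f a =
      (gb ≫ pullback.snd (pullback.snd (f i) t) (𝒰.f b)) ≫ 𝒰.f b := by
    rw [Category.assoc, ← pullback.condition, ← Category.assoc, h, Category.assoc,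
      pullback.condition, Category.assoc]
  rw [ev_eq_ev 𝒰 ξ hξ t ht _ a b _ _ hy hca]
  exact SecF.ev_congr _ (by rw [← Category.assoc, h, Category.assoc]) rfl _ _

/-- The glued morphism `X i ×_S T ⟶ V i`. -/
noncomputable def glueMap (i : ι) : pullback (f i) t ⟶ (D.obj i).left :=
  Scheme.Cover.glueMorphisms (𝒰.pullback₁ (pullback.snd (f i) t))
    (fun a => glueLocal 𝒰 ξ t ht i a)
    (fun a b => comp_glueLocal_eq 𝒰 ξ hξ t ht i a b _ _ pullback.condition)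

theorem fst_glueMap (i : ι) (a : 𝒰.I₀) :
    pullback.fst (pullback.snd (f i) t) (𝒰.f a) ≫ glueMap 𝒰 ξ hξ t ht i =
      glueLocal 𝒰 ξ t ht i a :=
  Scheme.Cover.ι_glueMorphisms (𝒰.pullback₁ (pullback.snd (f i) t)) _ _ a

/-- The glued morphism evaluated on points factoring through a member of the cover. -/
theorem lift_glueMap {Z : Scheme.{u}} {i : ι} (x : Z ⟶ X i) (a : 𝒰.I₀) (y : Z ⟶ 𝒰.X a)
    (h : x ≫ f i = (y ≫ 𝒰.f a) ≫ t) :
    pullback.lift x (y ≫ 𝒰.f a) h ≫ glueMap 𝒰 ξ hξ t ht i =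
      ((ξ a).ev x y (by rw [h, Category.assoc, ht])).1 := by
  have e : pullback.lift x (y ≫ 𝒰.f a) h =
      pullback.lift (pullback.lift x (y ≫ 𝒰.f a) h) y (by simp) ≫
        pullback.fst (pullback.snd (f i) t) (𝒰.f a) := by simp
  rw [e, Category.assoc, fst_glueMap, glueLocal]
  refine ((ξ a).ev_nat _ _ _ _ _ _ _ ?_ ?_).symm
  · simp
  · simp

theorem lift_glueMap' {Z : Scheme.{u}} {i : ι} (x : Z ⟶ X i) (y' : Z ⟶ T) (a : 𝒰.I₀)
    (y : Z ⟶ 𝒰.X a) (hy : y ≫ 𝒰.f a = y') (h : x ≫ f i = y' ≫ t) :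
    pullback.lift x y' h ≫ glueMap 𝒰 ξ hξ t ht i =
      ((ξ a).ev x y (by rw [h, ← hy, Category.assoc, ht])).1 := by
  subst hy
  exact lift_glueMap 𝒰 ξ hξ t ht x a y h

theorem glueMap_hom (i : ι) :
    glueMap 𝒰 ξ hξ t ht i ≫ (D.obj i).hom = pullback.fst (f i) t := by
  apply Scheme.Cover.hom_ext (𝒰.pullback₁ (pullback.snd (f i) t))
  intro a
  change pullback.fst (pullback.snd (f i) t) (𝒰.f a) ≫ _ =
    pullback.fst (pullback.snd (f i) t) (𝒰.f a) ≫ _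
  rw [← Category.assoc, fst_glueMap, glueLocal]
  exact ((ξ a).ev _ _ _).2

/-- The glued section. -/
noncomputable def glueSecF : SecF D T where
  t := t
  m := glueMap 𝒰 ξ hξ t ht
  hm := glueMap_hom 𝒰 ξ hξ t ht
  hφ := by
    intro Z i j x₀ x₁ y h₀ h₁
    apply Scheme.Cover.hom_ext (𝒰.pullback₁ y)
    intro (a : 𝒰.I₀)
    change pullback.fst y (𝒰.f a) ≫ _ = pullback.fst y (𝒰.f a) ≫ _
    set g := pullback.fst y (𝒰.f a) with hg
    have hc : pullback.snd y (𝒰.f a) ≫ 𝒰.f a = g ≫ y := pullback.condition.symm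
    have hl₀ : g ≫ pullback.lift x₀ y h₀ = pullback.lift (g ≫ x₀) (g ≫ y) (by
        rw [Category.assoc, h₀, Category.assoc]) := by
      apply pullback.hom_ext <;> simp
    have hl₁ : g ≫ pullback.lift x₁ y h₁ = pullback.lift (g ≫ x₁) (g ≫ y) (by
        rw [Category.assoc, h₁, Category.assoc]) := by
      apply pullback.hom_ext <;> simp
    have c₀ : (g ≫ x₀) ≫ f i = pullback.snd y (𝒰.f a) ≫ (ξ a).t := by
      rw [Category.assoc, h₀, ← ht, ← Category.assoc, ← Category.assoc, hc]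
    have c₁ : (g ≫ x₁) ≫ f j = pullback.snd y (𝒰.f a) ≫ (ξ a).t := by
      rw [Category.assoc, h₁, ← ht, ← Category.assoc, ← Category.assoc, hc]
    have hR : g ≫ pullback.lift x₁ y h₁ ≫ glueMap 𝒰 ξ hξ t ht j =
        ((ξ a).ev (g ≫ x₁) (pullback.snd y (𝒰.f a)) c₁).1 := by
      rw [← Category.assoc, hl₁]
      exact lift_glueMap' 𝒰 ξ hξ t ht (g ≫ x₁) (g ≫ y) a _ hc _
    have hL0 : g ≫ pullback.lift x₀ y h₀ ≫ glueMap 𝒰 ξ hξ t ht i =
        ((ξ a).ev (g ≫ x₀) (pullback.snd y (𝒰.f a)) c₀).1 := by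
      rw [← Category.assoc, hl₀]
      exact lift_glueMap' 𝒰 ξ hξ t ht (g ≫ x₀) (g ≫ y) a _ hc _
    rw [hR]
    refine (φ_natural' D g x₀ x₁ (h₀.trans h₁.symm) (by
      rw [Category.assoc, Category.assoc, h₀, h₁]) _
      ((ξ a).ev (g ≫ x₀) (pullback.snd y (𝒰.f a)) c₀) hL0.symm).symm.trans ?_
    rw [(ξ a).φ_ev (g ≫ x₀) (g ≫ x₁) (pullback.snd y (𝒰.f a)) c₀ c₁]

@[simp] theorem glueSecF_t : (glueSecF 𝒰 ξ hξ t ht).t = t := rfl

theorem glueSecF_ev {Z : Scheme.{u}} {i : ι} (x : Z ⟶ X i) (y' : Z ⟶ T) (a : 𝒰.I₀)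
    (y : Z ⟶ 𝒰.X a) (hy : y ≫ 𝒰.f a = y') (h : x ≫ f i = y' ≫ t) :
    ((glueSecF 𝒰 ξ hξ t ht).ev x y' h).1 =
      ((ξ a).ev x y (by rw [h, ← hy, Category.assoc, ht])).1 :=
  lift_glueMap' 𝒰 ξ hξ t ht x y' a y hy h

theorem glueSecF_res (a : 𝒰.I₀) : (glueSecF 𝒰 ξ hξ t ht).res (𝒰.f a) = ξ a := by
  apply SecF.ext_ev (by simp [ht])
  intro Z i x y h
  rw [SecF.res_ev]
  exact glueSecF_ev 𝒰 ξ hξ t ht x (y ≫ 𝒰.f a) a y rfl _

omit hξ ht in
/-- Sections are determined locally. -/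
theorem SecF.ext_of_cover {ζ ζ' : SecF D T} (h : ∀ a, ζ.res (𝒰.f a) = ζ'.res (𝒰.f a)) :
    ζ = ζ' := by
  have ht' : ζ.t = ζ'.t := by
    apply Scheme.Cover.hom_ext 𝒰
    intro a
    exact congrArg SecF.t (h a)
  apply SecF.ext_ev ht'
  intro Z i x y hxy
  apply Scheme.Cover.hom_ext (𝒰.pullback₁ y)
  intro a
  change pullback.fst y (𝒰.f a) ≫ _ = pullback.fst y (𝒰.f a) ≫ _
  have hc : pullback.fst y (𝒰.f a) ≫ y = pullback.snd y (𝒰.f a) ≫ 𝒰.f a := pullback.condition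
  have hc1 : (pullback.fst y (𝒰.f a) ≫ x) ≫ f i = (pullback.fst y (𝒰.f a) ≫ y) ≫ ζ.t := by
    rw [Category.assoc, hxy, Category.assoc]
  have hc2 : (pullback.fst y (𝒰.f a) ≫ x) ≫ f i = (pullback.fst y (𝒰.f a) ≫ y) ≫ ζ'.t := by
    rw [← ht', hc1]
  rw [← ζ.ev_nat (pullback.fst y (𝒰.f a)) x y hxy _ _ hc1 rfl rfl,
    ← ζ'.ev_nat (pullback.fst y (𝒰.f a)) x y _ _ _ hc2 rfl rfl]
  have e := SecF.ev_of_eq (h a) (pullback.fst y (𝒰.f a) ≫ x) (pullback.snd y (𝒰.f a)) (by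
    rw [SecF.res_t, Category.assoc, hxy, ← Category.assoc, hc, Category.assoc])
  rw [SecF.res_ev, SecF.res_ev] at e
  refine Eq.trans ?_ (e.trans ?_)
  · exact SecF.ev_congr _ rfl hc _ _
  · exact SecF.ev_congr _ rfl hc.symm _ _

end Glue

/-- The functor of sections of a descent datum is a Zariski sheaf. -/
theorem isSheaf_secFunctorF (D : SchDDFam f) :
    Presieve.IsSheaf Scheme.zariskiTopology (secFunctorF D) := by
  rw [Scheme.zariskiTopology, Scheme.grothendieckTopology,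
    Precoverage.isSheaf_toGrothendieck_iff_of_isStableUnderBaseChange]
  intro T R hR
  obtain ⟨(𝒰 : T.OpenCover), rfl⟩ := Scheme.exists_cover_of_mem_pretopology hR
  rw [Presieve.isSheafFor_arrows_iff]
  intro ξ hξ
  have hξ' : ∀ (a b : 𝒰.I₀) (Z : Scheme.{u}) (ga : Z ⟶ 𝒰.X a) (gb : Z ⟶ 𝒰.X b),
      ga ≫ 𝒰.f a = gb ≫ 𝒰.f b → (ξ a).res ga = (ξ b).res gb := fun a b Z ga gb h => hξ a b Z ga gb h
  let t : T ⟶ S := 𝒰.glueMorphisms (fun a => (ξ a).t) (glue_t_compat 𝒰 ξ hξ')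
  have ht : ∀ a, 𝒰.f a ≫ t = (ξ a).t := fun a => 𝒰.ι_glueMorphisms _ _ a
  refine ⟨glueSecF 𝒰 ξ hξ' t ht, fun a => glueSecF_res 𝒰 ξ hξ' t ht a, fun ζ hζ => ?_⟩
  apply SecF.ext_of_cover 𝒰
  intro a
  rw [glueSecF_res]
  exact hζ a

end Groth.Agent.Lib.EffDescFamH52
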