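import Groth.Agent.Lib.EffDescFamSheafH52

/-!
# Effective descent for schemes, family version: tautological sections and representability (helper52)

* `taut D i : SecF D V_i`: the tautological section over the scheme `V_i = (D.obj i).left`, with
  `t = V_i ⟶ X i ⟶ S` and evaluation `(x, y) ↦ φ_{π y, x}(y)`.
* `liftsEquivSec D x : Lifts (D.obj i) x ≃ {ξ : SecF D T // ξ.t = x ≫ f i}`: the cartesian square
  `h_{V_i} = F_D ×_{h_S} h_{X_i}`; the gluing bijections become the identity (`taut_res_φ`).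
* `SecF.toHom`, `SecF.ofHom`: sections over `(T, t)` are morphisms `toDDFam f (T, t) ⟶ D`.
* `isEffective_of_universal`: if the functor of sections is representable, `D` is effective.
-/

set_option autoImplicit false
set_option linter.style.haveILetI false
set_option backward.isDefEq.respectTransparency false
set_option backward.isDefEq.respectTransparency.types false

universe u

open CategoryTheory CategoryTheory.Limits AlgebraicGeometry Opposite

namespace Groth.Agent.Lib.EffDescFamH52

open Desc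

variable {S : Scheme.{u}} {ι : Type u} {X : ι → Scheme.{u}} {f : ∀ i, X i ⟶ S}

section Taut

variable (D : SchDDFam f)

/-- The tautological section over `V_i`. -/
noncomputable def taut (i : ι) : SecF D (D.obj i).left :=
  SecF.ofEv ((D.obj i).hom ≫ f i)
    (fun _ _ x y h => D.φ (y ≫ (D.obj i).hom) x (by rw [Category.assoc, h]) ⟨y, rfl⟩)
    (fun Z Z' g j x y h x' y' h' hx hy => by
      subst hx hy
      exact D.φ_natural g (y ≫ (D.obj i).hom) x _ _ _ (Category.assoc _ _ _).symm rfl _ _ _ rfl)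
    (fun Z j k x₀ x₁ y h₀ h₁ h => by rw [D.φ_comp])

@[simp] theorem taut_t (i : ι) : (taut D i).t = (D.obj i).hom ≫ f i := rfl

theorem taut_ev (i : ι) {Z : Scheme.{u}} {j : ι} (x : Z ⟶ X j) (y : Z ⟶ (D.obj i).left)
    (h : x ≫ f j = y ≫ (taut D i).t) :
    (taut D i).ev x y h = D.φ (y ≫ (D.obj i).hom) x (by rw [Category.assoc, h]; rfl) ⟨y, rfl⟩ :=
  SecF.ofEv_ev _ _ _ _ x y h

variable {D}

theorem res_taut_ev {i : ι} {T : Scheme.{u}} (w : T ⟶ (D.obj i).left) {Z : Scheme.{u}} {j : ι}
    (x : Z ⟶ X j) (y : Z ⟶ T) (h : x ≫ f j = y ≫ ((taut D i).res w).t) :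
    ((taut D i).res w).ev x y h = D.φ ((y ≫ w) ≫ (D.obj i).hom) x (by
      rw [h, SecF.res_t, taut_t]; simp only [Category.assoc]) ⟨y ≫ w, rfl⟩ := by
  rw [SecF.res_ev, taut_ev]

/-- Under the identification of points of `V_i` with sections, the gluing bijections are the
identity. -/
theorem taut_res_φ {T : Scheme.{u}} {i j : ι} (x₀ : T ⟶ X i) (x₁ : T ⟶ X j)
    (h : x₀ ≫ f i = x₁ ≫ f j) (v : Lifts (D.obj i) x₀) :
    (taut D j).res (D.φ x₀ x₁ h v).1 = (taut D i).res v.1 := by
  have e0 : (D.φ x₀ x₁ h v).1 ≫ (D.obj j).hom = x₁ := (D.φ x₀ x₁ h v).2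
  have e1 : v.1 ≫ (D.obj i).hom = x₀ := v.2
  have ht : ((taut D j).res (D.φ x₀ x₁ h v).1).t = ((taut D i).res v.1).t := by
    simp only [SecF.res_t, taut_t]
    rw [← Category.assoc, e0, ← Category.assoc, e1, h]
  apply SecF.ext_ev ht
  · intro Z k x y hxy
    rw [res_taut_ev, res_taut_ev]
    have hy0 : (y ≫ x₀) ≫ f i = (y ≫ x₁) ≫ f j := by rw [Category.assoc, h, Category.assoc]
    have hx1 : (y ≫ x₁) ≫ f j = x ≫ f k := by
      rw [hxy, SecF.res_t, taut_t, ← Category.assoc (D.φ x₀ x₁ h v).1, e0, Category.assoc]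
    have step : (D.φ (y ≫ x₀) (y ≫ x₁) hy0 ⟨y ≫ v.1, by rw [Category.assoc, e1]⟩).1 =
        y ≫ (D.φ x₀ x₁ h v).1 :=
      φ_natural' D y x₀ x₁ h hy0 v _ rfl
    have c := D.φ_comp (y ≫ x₀) (y ≫ x₁) x hy0 hx1 ⟨y ≫ v.1, by rw [Category.assoc, e1]⟩
    refine Eq.trans ?_ ((congrArg Subtype.val c).trans ?_)
    · apply φ_congr D (by rw [Category.assoc, e0]) rfl
      exact step.symm
    · apply φ_congr D (by rw [Category.assoc, e1]) rfl
      rfl

/-- Points of `V_i` over `x` are the sections over `T` with structure morphism `x ≫ f i`. -/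
noncomputable def liftsEquivSec {T : Scheme.{u}} {i : ι} (x : T ⟶ X i) :
    Lifts (D.obj i) x ≃ {ξ : SecF D T // ξ.t = x ≫ f i} where
  toFun v := ⟨(taut D i).res v.1, by
    have e1 : v.1 ≫ (D.obj i).hom = x := v.2
    rw [SecF.res_t, taut_t, ← Category.assoc, e1]⟩
  invFun ξ := ξ.1.ev x (𝟙 T) (by rw [Category.id_comp, ξ.2])
  left_inv v := by
    have e1 : v.1 ≫ (D.obj i).hom = x := v.2
    apply Subtype.ext
    change (((taut D i).res v.1).ev x (𝟙 T) _).1 = v.1
    rw [res_taut_ev]
    refine Eq.trans ?_ (congrArg Subtype.val (D.φ_self x v))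
    apply φ_congr D (by rw [Category.id_comp, e1]) rfl
    exact Category.id_comp _
  right_inv ξ := by
    apply Subtype.ext
    change (taut D i).res (ξ.1.ev x (𝟙 T) _).1 = ξ.1
    have ht : ((taut D i).res (ξ.1.ev x (𝟙 T) (by rw [Category.id_comp, ξ.2])).1).t = ξ.1.t := by
      have e1 : (ξ.1.ev x (𝟙 T) (by rw [Category.id_comp, ξ.2])).1 ≫ (D.obj i).hom = x :=
        (ξ.1.ev x (𝟙 T) _).2
      rw [SecF.res_t, taut_t, ← Category.assoc, e1, ξ.2]
    apply SecF.ext_ev ht
    · intro Z j x' y hxy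
      rw [res_taut_ev]
      have hyx : (y ≫ x) ≫ f i = y ≫ ξ.1.t := by rw [Category.assoc, ξ.2]
      have hx' : x' ≫ f j = y ≫ ξ.1.t := by rw [hxy, ht]
      have step : (ξ.1.ev (y ≫ x) y hyx).1 = y ≫ (ξ.1.ev x (𝟙 T) (by
          rw [Category.id_comp, ξ.2])).1 :=
        ξ.1.ev_nat y x (𝟙 T) _ _ _ hyx rfl (Category.comp_id _).symm
      have c := ξ.1.φ_ev (y ≫ x) x' y hyx hx' (hyx.trans hx'.symm)
      refine Eq.trans ?_ (congrArg Subtype.val c)
      apply φ_congr D ?_ rfl
      · exact step.symm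
      · rw [Category.assoc]
        have e1 : (ξ.1.ev x (𝟙 T) (by rw [Category.id_comp, ξ.2])).1 ≫ (D.obj i).hom = x :=
          (ξ.1.ev x (𝟙 T) _).2
        rw [e1]

theorem liftsEquivSec_apply {T : Scheme.{u}} {i : ι} (x : T ⟶ X i) (v : Lifts (D.obj i) x) :
    (liftsEquivSec x v).1 = (taut D i).res v.1 := rfl

theorem liftsEquivSec_symm_apply {T : Scheme.{u}} {i : ι} (x : T ⟶ X i)
    (ξ : {ξ : SecF D T // ξ.t = x ≫ f i}) :
    (liftsEquivSec x).symm ξ = ξ.1.ev x (𝟙 T) (by rw [Category.id_comp, ξ.2]) := rfl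

end Taut

section Hom

variable {D : SchDDFam f} {T : Scheme.{u}}

/-- The morphism of descent data attached to a section. -/
noncomputable def SecF.toHom (ξ : SecF D T) : (toDDFam f).obj (Over.mk ξ.t) ⟶ D where
  hom i := Over.homMk (ξ.m i) (by simpa [toDDFam, canonicalDDFam] using ξ.hm i)
  comm := fun Z i j x₀ x₁ h v w hw => by
    let v' : Z ⟶ pullback (f i) ξ.t := v.1
    have hv : v' ≫ pullback.fst (f i) ξ.t = x₀ := v.2
    have h₀ : x₀ ≫ f i = (v' ≫ pullback.snd (f i) ξ.t) ≫ ξ.t := by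
      rw [← hv, Category.assoc, Category.assoc, pullback.condition]
    have h₁ : x₁ ≫ f j = (v' ≫ pullback.snd (f i) ξ.t) ≫ ξ.t := h.symm.trans h₀
    have hv' : v' = pullback.lift x₀ (v' ≫ pullback.snd (f i) ξ.t) h₀ := by
      apply pullback.hom_ext <;> simp [hv]
    have key := ξ.hφ x₀ x₁ (v' ≫ pullback.snd (f i) ξ.t) h₀ h₁
    have hw' : w.1 = v' ≫ ξ.m i := hw
    change (D.φ x₀ x₁ h w).1 = (canMapFam f (Over.mk ξ.t) x₀ x₁ h v).1 ≫ ξ.m j
    have e2 : (canMapFam f (Over.mk ξ.t) x₀ x₁ h v).1 =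
        pullback.lift x₁ (v' ≫ pullback.snd (f i) ξ.t) h₁ := rfl
    rw [e2, ← key]
    apply φ_congr D rfl rfl
    change w.1 = _ ≫ ξ.m i
    rw [hw', ← hv']

@[simp] theorem SecF.toHom_hom_left (ξ : SecF D T) (i : ι) : (ξ.toHom.hom i).left = ξ.m i := rfl

/-- The section attached to a morphism of descent data out of a canonical descent datum. -/
noncomputable def SecF.ofHom (U : Over S) (c : (toDDFam f).obj U ⟶ D) : SecF D U.left where
  t := U.hom
  m i := (c.hom i).left
  hm i := Over.w (c.hom i)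
  hφ := fun Z i j x₀ x₁ y h₀ h₁ => by
    let v : Lifts (((toDDFam f).obj U).obj i) x₀ :=
      ⟨pullback.lift x₀ y h₀, pullback.lift_fst _ _ _⟩
    have key := c.comm x₀ x₁ (h₀.trans h₁.symm) v
      ⟨pullback.lift x₀ y h₀ ≫ (c.hom i).left, by
        rw [Category.assoc, Over.w (c.hom i)]; exact pullback.lift_fst _ _ _⟩ rfl
    rw [key]
    have e1 : ((toDDFam f).obj U).φ x₀ x₁ (h₀.trans h₁.symm) v =
        canMapFam f U x₀ x₁ (h₀.trans h₁.symm) v := rfl
    rw [e1]
    congr 1
    apply pullback.hom_ext <;> simp [v]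

@[simp] theorem SecF.ofHom_t (U : Over S) (c : (toDDFam f).obj U ⟶ D) :
    (SecF.ofHom U c).t = U.hom := rfl

@[simp] theorem SecF.ofHom_m (U : Over S) (c : (toDDFam f).obj U ⟶ D) (i : ι) :
    (SecF.ofHom U c).m i = (c.hom i).left := rfl

/-- A morphism of descent data all of whose components are isomorphisms is an isomorphism. -/
theorem isIso_of_isIso_left {D D' : SchDDFam f} (a : D ⟶ D') [∀ i, IsIso (a.hom i).left] :
    IsIso a := by
  haveI : ∀ i, IsIso ((Over.forget (X i)).map (a.hom i)) := fun i => ‹∀ i, IsIso (a.hom i).left› i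
  haveI : ∀ i, IsIso (a.hom i) := fun i => isIso_of_reflects_iso (a.hom i) (Over.forget (X i))
  refine ⟨⟨⟨fun i => inv (a.hom i), fun T i j x₀ x₁ h v w hw => ?_⟩, ?_, ?_⟩⟩
  · have hv : v.1 = w.1 ≫ (a.hom i).left := by
      rw [hw, Category.assoc, ← Over.comp_left, IsIso.inv_hom_id, Over.id_left, Category.comp_id]
    have := a.comm x₀ x₁ h w v hv
    rw [this, Category.assoc, ← Over.comp_left, IsIso.hom_inv_id, Over.id_left, Category.comp_id]
  · ext i; simp
  · ext i; simp

end Hom

section Universal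

variable {D : SchDDFam f}

/-- If the functor of sections of `D` is representable, then `D` is effective: the universal
section is an isomorphism of descent data. -/
theorem isIso_toHom_of_universal {U : Scheme.{u}} (ε : SecF D U)
    (huniv : ∀ {T : Scheme.{u}} (ξ : SecF D T), ∃! g : T ⟶ U, ε.res g = ξ) : IsIso ε.toHom := by
  choose g hg hguniq using fun i => huniv (taut D i)
  have hgt : ∀ i, g i ≫ ε.t = (D.obj i).hom ≫ f i := fun i => by
    have := congrArg SecF.t (hg i)
    simpa using this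
  have hiso' : ∀ i, IsIso (ε.m i) := by
    intro i
    refine ⟨pullback.lift (D.obj i).hom (g i) (hgt i).symm, ?_, ?_⟩
    · -- `ε.m i ≫ lift = 𝟙`
      apply pullback.hom_ext
      · rw [Category.assoc, pullback.lift_fst, ε.hm, Category.id_comp]
      · rw [Category.assoc, pullback.lift_snd, Category.id_comp]
        -- both sides classify the same section over `X i ×_S U`
        have h1 : ε.res (ε.m i ≫ g i) = ε.res (pullback.snd (f i) ε.t) := by
          rw [SecF.res_comp, hg i]
          have ht : ((taut D i).res (ε.m i)).t = (ε.res (pullback.snd (f i) ε.t)).t := by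
            simp only [SecF.res_t, taut_t]
            rw [← Category.assoc, ε.hm, pullback.condition]
          apply SecF.ext_ev ht
          · intro Z j x y hxy
            rw [res_taut_ev, SecF.res_ev]
            have hy : (y ≫ pullback.fst (f i) ε.t) ≫ f i = (y ≫ pullback.snd (f i) ε.t) ≫ ε.t := by
              rw [Category.assoc, pullback.condition, Category.assoc]
            have hx : x ≫ f j = (y ≫ pullback.snd (f i) ε.t) ≫ ε.t := by
              rw [hxy, SecF.res_t, taut_t, ← Category.assoc (ε.m i), ε.hm, pullback.condition,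
                Category.assoc]
            have c := ε.φ_ev (y ≫ pullback.fst (f i) ε.t) x (y ≫ pullback.snd (f i) ε.t) hy hx
              (hy.trans hx.symm)
            refine Eq.trans ?_ (congrArg Subtype.val c)
            apply φ_congr D (by rw [Category.assoc, ε.hm]) rfl
            change y ≫ ε.m i = _
            rw [SecF.ev_val]
            congr 1
            apply pullback.hom_ext <;> simp
        exact (huniv (ε.res (pullback.snd (f i) ε.t))).unique h1 rfl
    · -- `lift ≫ ε.m i = 𝟙`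
      have h2 := SecF.ev_of_eq (hg i) (D.obj i).hom (𝟙 _) (by
        rw [SecF.res_t, Category.id_comp, hgt i])
      rw [SecF.res_ev, taut_ev] at h2
      have h3 : pullback.lift (D.obj i).hom (g i) (hgt i).symm ≫ ε.m i =
          (ε.ev (D.obj i).hom (𝟙 _ ≫ g i) (by rw [Category.id_comp, hgt i])).1 := by
        rw [SecF.ev_val]
        congr 1
      rw [h3, h2]
      refine Eq.trans ?_ (congrArg Subtype.val (D.φ_self (D.obj i).hom ⟨𝟙 _, Category.id_comp _⟩))
      apply φ_congr D (Category.id_comp _) rfl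
      rfl
  have hiso : ∀ i, IsIso (ε.toHom.hom i).left := fun i => hiso' i
  exact isIso_of_isIso_left ε.toHom

theorem isEffective_of_universal {U : Scheme.{u}} (ε : SecF D U)
    (huniv : ∀ {T : Scheme.{u}} (ξ : SecF D T), ∃! g : T ⟶ U, ε.res g = ξ) : D.IsEffective := by
  haveI := isIso_toHom_of_universal ε huniv
  exact ⟨Over.mk ε.t, ⟨asIso ε.toHom⟩⟩

end Universal

end Groth.Agent.Lib.EffDescFamH52
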