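import Groth.Prelude.Def_DescFam
import Mathlib.AlgebraicGeometry.Sites.Fpqc

/-!
# Pullback of descent data for schemes along a refinement is fully faithful (helper21)

For a morphism of families `(α, p')` over the identity of `S`, from `f' j : X' j ⟶ S` to
`f i : X i ⟶ S`, call an arrow `t : T ⟶ X i` *small* if `t ≫ f i` factors through some `f' j`.
The small arrows form a sieve `smallSieve f f' i` on `X i`.

* `faithful_of_jointly_epi`: if the small arrows into every scheme over `X i` are jointly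
  epimorphic, then `Desc.pullDDFam` is faithful.
* `full_of_mem_fpqcTopology`, `faithful_of_mem_fpqcTopology`: if every `smallSieve f f' i` is a
  covering sieve for the fpqc topology, then `Desc.pullDDFam` is full and faithful.
-/

set_option autoImplicit false
set_option backward.isDefEq.respectTransparency false
set_option backward.isDefEq.respectTransparency.types false

universe w' w u

open CategoryTheory CategoryTheory.Limits AlgebraicGeometry Desc

namespace Groth.Agent.Lib.SchDDFamFF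

variable {S : Scheme.{u}} {ι : Type w} {X : ι → Scheme.{u}} {f : ∀ i, X i ⟶ S}
  {ι' : Type w'} {X' : ι' → Scheme.{u}} {f' : ∀ j, X' j ⟶ S}
  {α : ι' → ι} {p' : ∀ j, X' j ⟶ X (α j)} (w : ∀ j, p' j ≫ f (α j) = f' j ≫ 𝟙 S)

variable (f f') in
/-- The sieve on `X i` of the arrows `t` such that `t ≫ f i` factors through some `f' j`. -/
def smallSieve (i : ι) : Sieve (X i) where
  arrows T t := ∃ (j : ι') (y : T ⟶ X' j), y ≫ f' j = t ≫ f i
  downward_closed := by
    rintro T T' t ⟨j, y, hy⟩ k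
    exact ⟨j, k ≫ y, by rw [Category.assoc, hy, Category.assoc]⟩

include w in
lemma compat {T : Scheme.{u}} {i : ι} (t : T ⟶ X i) {j : ι'} (y : T ⟶ X' j)
    (hy : y ≫ f' j = t ≫ f i) : t ≫ f i = (y ≫ p' j) ≫ f (α j) := by
  rw [Category.assoc, w, Category.comp_id, hy]

@[simp] lemma liftsPullbackEquiv_apply_val {Y Y' : Scheme.{u}} (V : Over Y) (q : Y' ⟶ Y)
    {T : Scheme.{u}} (x : T ⟶ Y') (v : Lifts (Over.mk (pullback.snd V.hom q)) x) :
    (liftsPullbackEquiv V q x v).1 = v.1 ≫ pullback.fst V.hom q := rfl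

@[simp] lemma liftsPullbackEquiv_symm_apply_val {Y Y' : Scheme.{u}} (V : Over Y) (q : Y' ⟶ Y)
    {T : Scheme.{u}} (x : T ⟶ Y') (v : Lifts V (x ≫ q)) :
    ((liftsPullbackEquiv V q x).symm v).1 = pullback.lift v.1 x v.2 := rfl

lemma lPE_symm_fst {Y Y' : Scheme.{u}} (V : Over Y) (q : Y' ⟶ Y)
    {T : Scheme.{u}} (x : T ⟶ Y') (v : Lifts V (x ≫ q)) :
    ((liftsPullbackEquiv V q x).symm v).1 ≫ pullback.fst V.hom q = v.1 := pullback.lift_fst _ _ _

lemma lPE_symm_snd {Y Y' : Scheme.{u}} (V : Over Y) (q : Y' ⟶ Y)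
    {T : Scheme.{u}} (x : T ⟶ Y') (v : Lifts V (x ≫ q)) :
    ((liftsPullbackEquiv V q x).symm v).1 ≫ pullback.snd V.hom q = x := pullback.lift_snd _ _ _

/-- Transport of points of `D.obj i` over `t` to points of the pulled back datum over `y`. -/
noncomputable def tr (D : SchDDFam f) {T : Scheme.{u}} {i : ι} (t : T ⟶ X i) {j : ι'}
    (y : T ⟶ X' j) (hy : y ≫ f' j = t ≫ f i) :
    Lifts (D.obj i) t ≃ Lifts ((pullDDFamObj w D).obj j) y :=
  (D.φ t (y ≫ p' j) (compat w t y hy)).trans (liftsPullbackEquiv (D.obj (α j)) (p' j) y).symm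

lemma tr_trans (D : SchDDFam f) {T : Scheme.{u}} {i : ι} (t : T ⟶ X i) {j j' : ι'}
    (y : T ⟶ X' j) (hy : y ≫ f' j = t ≫ f i) (y' : T ⟶ X' j') (hy' : y' ≫ f' j' = t ≫ f i)
    (h : y ≫ f' j = y' ≫ f' j') (x : Lifts (D.obj i) t) :
    (pullDDFamObj w D).φ y y' h (tr w D t y hy x) = tr w D t y' hy' x := by
  simp only [tr, pullDDFamObj, Equiv.trans_apply, Equiv.apply_symm_apply, D.φ_comp]

lemma tr_φ (D : SchDDFam f) {T : Scheme.{u}} {i i₁ : ι} (t : T ⟶ X i) (t₁ : T ⟶ X i₁)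
    (h : t ≫ f i = t₁ ≫ f i₁) {j : ι'} (y : T ⟶ X' j) (hy : y ≫ f' j = t ≫ f i)
    (hy₁ : y ≫ f' j = t₁ ≫ f i₁) (x : Lifts (D.obj i) t) :
    tr w D t₁ y hy₁ (D.φ t t₁ h x) = tr w D t y hy x := by
  simp only [tr, Equiv.trans_apply, D.φ_comp]

lemma tr_symm_φ (D : SchDDFam f) {T : Scheme.{u}} {i i₁ : ι} (t : T ⟶ X i) (t₁ : T ⟶ X i₁)
    (h : t ≫ f i = t₁ ≫ f i₁) {j : ι'} (y : T ⟶ X' j) (hy : y ≫ f' j = t ≫ f i)
    (hy₁ : y ≫ f' j = t₁ ≫ f i₁) (z : Lifts ((pullDDFamObj w D).obj j) y) :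
    (tr w D t₁ y hy₁).symm z = D.φ t t₁ h ((tr w D t y hy).symm z) := by
  rw [Equiv.symm_apply_eq, tr_φ w D t t₁ h y hy hy₁, Equiv.apply_symm_apply]

lemma tr_natural (D : SchDDFam f) {T T' : Scheme.{u}} (k : T' ⟶ T) {i : ι} (t : T ⟶ X i)
    {j : ι'} (y : T ⟶ X' j) (hy : y ≫ f' j = t ≫ f i) (t' : T' ⟶ X i) (ht : k ≫ t = t')
    (y' : T' ⟶ X' j) (hy' : k ≫ y = y') (hyt' : y' ≫ f' j = t' ≫ f i)
    (x : Lifts (D.obj i) t) (x' : Lifts (D.obj i) t') (hx : x'.1 = k ≫ x.1) :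
    (tr w D t' y' hyt' x').1 = k ≫ (tr w D t y hy x).1 := by
  subst ht hy'
  have h1 := D.φ_natural k t (y ≫ p' j) (compat w t y hy) (k ≫ t) ((k ≫ y) ≫ p' j) rfl
    (Category.assoc _ _ _).symm (compat w (k ≫ t) (k ≫ y) hyt') x x' hx
  apply pullback.hom_ext
  · simp only [tr, Equiv.trans_apply, Category.assoc]
    exact (lPE_symm_fst _ _ _ _).trans (h1.trans (congrArg (k ≫ ·) (lPE_symm_fst _ _ _ _).symm))
  · simp only [tr, Equiv.trans_apply, Category.assoc]
    exact (lPE_symm_snd _ _ _ _).trans (congrArg (k ≫ ·) (lPE_symm_snd _ _ _ _).symm)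

lemma tr_symm_natural (D : SchDDFam f) {T T' : Scheme.{u}} (k : T' ⟶ T) {i : ι} (t : T ⟶ X i)
    {j : ι'} (y : T ⟶ X' j) (hy : y ≫ f' j = t ≫ f i) (t' : T' ⟶ X i) (ht : k ≫ t = t')
    (y' : T' ⟶ X' j) (hy' : k ≫ y = y') (hyt' : y' ≫ f' j = t' ≫ f i)
    (z : Lifts ((pullDDFamObj w D).obj j) y) (z' : Lifts ((pullDDFamObj w D).obj j) y')
    (hz : z'.1 = k ≫ z.1) :
    ((tr w D t' y' hyt').symm z').1 = k ≫ ((tr w D t y hy).symm z).1 := by
  set x := (tr w D t y hy).symm z with hx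
  let x' : Lifts (D.obj i) t' := ⟨k ≫ x.1, by rw [Category.assoc, x.2, ht]⟩
  have h1 := tr_natural w D k t y hy t' ht y' hy' hyt' x x' rfl
  have h2 : tr w D t' y' hyt' x' = z' := by
    apply Subtype.ext
    rw [h1, hz, hx, Equiv.apply_symm_apply]
  rw [← h2, Equiv.symm_apply_apply]

variable {D D' : SchDDFam f}

/-- The map on points of `D.obj i` over a small arrow induced by a morphism of the pulled back
descent data. -/
noncomputable def θ (b : pullDDFamObj w D ⟶ pullDDFamObj w D') {T : Scheme.{u}} {i : ι}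
    (t : T ⟶ X i) {j : ι'} (y : T ⟶ X' j) (hy : y ≫ f' j = t ≫ f i) (x : Lifts (D.obj i) t) :
    Lifts (D'.obj i) t :=
  (tr w D' t y hy).symm (b.push (tr w D t y hy x))

lemma θ_indep (b : pullDDFamObj w D ⟶ pullDDFamObj w D') {T : Scheme.{u}} {i : ι}
    (t : T ⟶ X i) {j j' : ι'} (y : T ⟶ X' j) (hy : y ≫ f' j = t ≫ f i) (y' : T ⟶ X' j')
    (hy' : y' ≫ f' j' = t ≫ f i) (x : Lifts (D.obj i) t) :
    θ w b t y hy x = θ w b t y' hy' x := by
  have h : y ≫ f' j = y' ≫ f' j' := hy.trans hy'.symm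
  have hz : b.push (tr w D t y' hy' x) =
      (pullDDFamObj w D').φ y y' h (b.push (tr w D t y hy x)) := by
    rw [← tr_trans w D t y hy y' hy' h]
    apply Subtype.ext
    exact (b.comm y y' h (tr w D t y hy x) (b.push (tr w D t y hy x)) rfl).symm
  unfold θ
  rw [hz, eq_comm, Equiv.symm_apply_eq, ← tr_trans w D' t y hy y' hy' h, Equiv.apply_symm_apply]

lemma θ_natural (b : pullDDFamObj w D ⟶ pullDDFamObj w D') {T T' : Scheme.{u}} (k : T' ⟶ T)
    {i : ι} (t : T ⟶ X i) {j : ι'} (y : T ⟶ X' j) (hy : y ≫ f' j = t ≫ f i) (t' : T' ⟶ X i)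
    (ht : k ≫ t = t') (y' : T' ⟶ X' j) (hy' : k ≫ y = y') (hyt' : y' ≫ f' j = t' ≫ f i)
    (x : Lifts (D.obj i) t) (x' : Lifts (D.obj i) t') (hx : x'.1 = k ≫ x.1) :
    (θ w b t' y' hyt' x').1 = k ≫ (θ w b t y hy x).1 := by
  unfold θ
  refine tr_symm_natural w D' k t y hy t' ht y' hy' hyt' _ _ ?_
  have := tr_natural w D k t y hy t' ht y' hy' hyt' x x' hx
  simp only [SchDDFam.Hom.push, this, Category.assoc]

lemma θ_φ (b : pullDDFamObj w D ⟶ pullDDFamObj w D') {T : Scheme.{u}} {i i₁ : ι}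
    (t : T ⟶ X i) (t₁ : T ⟶ X i₁) (h : t ≫ f i = t₁ ≫ f i₁) {j : ι'} (y : T ⟶ X' j)
    (hy : y ≫ f' j = t ≫ f i) (hy₁ : y ≫ f' j = t₁ ≫ f i₁) (x : Lifts (D.obj i) t) :
    θ w b t₁ y hy₁ (D.φ t t₁ h x) = D'.φ t t₁ h (θ w b t y hy x) := by
  unfold θ
  rw [tr_φ w D t t₁ h y hy hy₁, tr_symm_φ w D' t t₁ h y hy hy₁]

lemma tr_push (a : D ⟶ D') {T : Scheme.{u}} {i : ι} (t : T ⟶ X i) {j : ι'} (y : T ⟶ X' j)
    (hy : y ≫ f' j = t ≫ f i) (x : Lifts (D.obj i) t) :
    tr w D' t y hy (a.push x) = ((pullDDFam w).map a).push (tr w D t y hy x) := by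
  apply Subtype.ext
  apply pullback.hom_ext
  · have h1 := a.comm t (y ≫ p' j) (compat w t y hy) x (a.push x) rfl
    have h2 : (((pullDDFam w).map a).push (tr w D t y hy x)).1 ≫
        pullback.fst (D'.obj (α j)).hom (p' j) =
        ((tr w D t y hy x).1 ≫ pullback.fst (D.obj (α j)).hom (p' j)) ≫ (a.hom (α j)).left := by
      simp [SchDDFam.Hom.push, pullDDFam]
    rw [h2]
    exact (lPE_symm_fst _ _ _ _).trans (h1.trans (congrArg (· ≫ (a.hom (α j)).left)
      (lPE_symm_fst _ _ _ _).symm))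
  · have h2 : (((pullDDFam w).map a).push (tr w D t y hy x)).1 ≫
        pullback.snd (D'.obj (α j)).hom (p' j) =
        (tr w D t y hy x).1 ≫ pullback.snd (D.obj (α j)).hom (p' j) := by
      simp [SchDDFam.Hom.push, pullDDFam]
    rw [h2]
    exact (lPE_symm_snd _ _ _ _).trans (lPE_symm_snd _ _ _ _).symm

/-- If the small arrows into the schemes of descent data are jointly epimorphic, the pullback
functor is faithful. -/
theorem faithful_of_jointly_epi
    (Hepi : ∀ (D : SchDDFam f) (i : ι) (W : Scheme.{u}) (c c' : (D.obj i).left ⟶ W),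
      (∀ ⦃T : Scheme.{u}⦄ (s : T ⟶ (D.obj i).left),
        (smallSieve f f' i).arrows (s ≫ (D.obj i).hom) → s ≫ c = s ≫ c') → c = c') :
    (pullDDFam (f := f) (f' := f') (α := α) (p := 𝟙 S) (p' := p') w).Faithful := by
  refine ⟨fun {D D'} a a' haa' => ?_⟩
  apply SchDDFam.hom_ext
  funext i
  apply Over.OverMorphism.ext
  apply Hepi D i
  rintro T s ⟨j, y, hy⟩
  let x : Lifts (D.obj i) (s ≫ (D.obj i).hom) := ⟨s, rfl⟩
  have h1 := tr_push w a (s ≫ (D.obj i).hom) y hy x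
  have h2 := tr_push w a' (s ≫ (D.obj i).hom) y hy x
  rw [haa', ← h2] at h1
  exact congrArg Subtype.val ((tr w D' _ y hy).injective h1)

section Main

variable (H : ∀ i, smallSieve f f' i ∈ Scheme.fpqcTopology (X i))

include H in
lemma isSheafFor_pullback {i : ι} {Z : Scheme.{u}} (z : Z ⟶ X i) (W : Scheme.{u}) :
    Presieve.IsSheafFor (yoneda.obj W) ((smallSieve f f' i).pullback z).arrows :=
  (GrothendieckTopology.Subcanonical.isSheaf_of_isRepresentable
    (J := Scheme.fpqcTopology.{u}) (yoneda.obj W)) _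
      (Scheme.fpqcTopology.pullback_stable z (H i))

include H in
lemma hom_ext_of_small {i : ι} {Z : Scheme.{u}} (z : Z ⟶ X i) {W : Scheme.{u}} (c c' : Z ⟶ W)
    (h : ∀ ⦃T : Scheme.{u}⦄ (s : T ⟶ Z), (smallSieve f f' i).arrows (s ≫ z) → s ≫ c = s ≫ c') :
    c = c' :=
  (isSheafFor_pullback H z W).isSeparatedFor.ext fun _ s hs => h s hs

include H in
/-- If the small sieves are fpqc covering, the pullback functor is faithful. -/
theorem faithful_of_mem_fpqcTopology :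
    (pullDDFam (f := f) (f' := f') (α := α) (p := 𝟙 S) (p' := p') w).Faithful :=
  faithful_of_jointly_epi w fun D i _ c c' h => hom_ext_of_small H (D.obj i).hom c c' h

include H in
theorem exists_hom (b : pullDDFamObj w D ⟶ pullDDFamObj w D') (i : ι) :
    ∃ a : (D.obj i).left ⟶ (D'.obj i).left, ∀ ⦃T : Scheme.{u}⦄ (t : T ⟶ X i) ⦃j : ι'⦄
      (y : T ⟶ X' j) (hy : y ≫ f' j = t ≫ f i) (x : Lifts (D.obj i) t),
      x.1 ≫ a = (θ w b t y hy x).1 := by
  have hsh := isSheafFor_pullback H (D.obj i).hom (D'.obj i).left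
  let fam : Presieve.FamilyOfElements (yoneda.obj (D'.obj i).left)
      ((smallSieve f f' i).pullback (D.obj i).hom).arrows :=
    fun T s hs => (θ w b (s ≫ (D.obj i).hom) hs.choose_spec.choose hs.choose_spec.choose_spec
      ⟨s, rfl⟩).1
  have hfam : fam.Compatible := by
    rw [Presieve.compatible_iff_sieveCompatible]
    intro T T' s k hs
    have hks : ((smallSieve f f' i).pullback (D.obj i).hom).arrows (k ≫ s) :=
      Sieve.downward_closed _ hs k
    change (θ w b ((k ≫ s) ≫ (D.obj i).hom) hks.choose_spec.choose hks.choose_spec.choose_spec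
      ⟨k ≫ s, rfl⟩).1 = k ≫ (θ w b (s ≫ (D.obj i).hom) hs.choose_spec.choose
        hs.choose_spec.choose_spec ⟨s, rfl⟩).1
    have hy' : (k ≫ hs.choose_spec.choose) ≫ f' hs.choose =
        ((k ≫ s) ≫ (D.obj i).hom) ≫ f i := by
      rw [Category.assoc, hs.choose_spec.choose_spec]
      simp only [Category.assoc]
    rw [θ_indep w b ((k ≫ s) ≫ (D.obj i).hom) hks.choose_spec.choose
      hks.choose_spec.choose_spec (k ≫ hs.choose_spec.choose) hy']
    exact θ_natural w b k (s ≫ (D.obj i).hom) hs.choose_spec.choose hs.choose_spec.choose_spec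
      ((k ≫ s) ≫ (D.obj i).hom) (Category.assoc _ _ _).symm (k ≫ hs.choose_spec.choose) rfl hy'
      ⟨s, rfl⟩ ⟨k ≫ s, rfl⟩ rfl
  obtain ⟨a, ha, -⟩ := hsh fam hfam
  refine ⟨a, fun T t j y hy x => ?_⟩
  obtain ⟨x1, rfl⟩ := x
  have hx1 : ((smallSieve f f' i).pullback (D.obj i).hom).arrows x1 := ⟨j, y, hy⟩
  refine (ha x1 hx1).trans ?_
  exact congrArg Subtype.val (θ_indep w b (x1 ≫ (D.obj i).hom) hx1.choose_spec.choose
    hx1.choose_spec.choose_spec y hy ⟨x1, rfl⟩)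

lemma φ_symm_self (D : SchDDFam f) {T : Scheme.{u}} {i : ι} (x : T ⟶ X i) (v : Lifts (D.obj i) x) :
    (D.φ x x rfl).symm v = v := by
  rw [Equiv.symm_apply_eq, D.φ_self]

include H in
/-- If the small sieves are fpqc covering, the pullback functor is full. -/
theorem full_of_mem_fpqcTopology :
    (pullDDFam (f := f) (f' := f') (α := α) (p := 𝟙 S) (p' := p') w).Full := by
  refine ⟨fun {D D'} b => ?_⟩
  choose a ha using exists_hom w H (D := D) (D' := D') b
  have hover : ∀ i, a i ≫ (D'.obj i).hom = (D.obj i).hom := by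
    intro i
    apply hom_ext_of_small H (D.obj i).hom
    rintro T s ⟨j, y, hy⟩
    rw [← Category.assoc, ha i (s ≫ (D.obj i).hom) y hy ⟨s, rfl⟩]
    exact (θ w b _ y hy ⟨s, rfl⟩).2
  have hcomm : ∀ ⦃T : Scheme.{u}⦄ ⦃i i₁ : ι⦄ (x₀ : T ⟶ X i) (x₁ : T ⟶ X i₁)
      (h : x₀ ≫ f i = x₁ ≫ f i₁) (v : Lifts (D.obj i) x₀) (v' : Lifts (D'.obj i) x₀),
      v'.1 = v.1 ≫ a i → (D'.φ x₀ x₁ h v').1 = (D.φ x₀ x₁ h v).1 ≫ a i₁ := by
    intro T i i₁ x₀ x₁ h v v' hv
    apply hom_ext_of_small H x₀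
    rintro T' k ⟨j, y, hy⟩
    have h' : (k ≫ x₀) ≫ f i = (k ≫ x₁) ≫ f i₁ := by
      rw [Category.assoc, h, Category.assoc]
    have hy₁ : y ≫ f' j = (k ≫ x₁) ≫ f i₁ := hy.trans h'
    let v₂ : Lifts (D.obj i) (k ≫ x₀) := ⟨k ≫ v.1, by rw [Category.assoc, v.2]⟩
    let v₂' : Lifts (D'.obj i) (k ≫ x₀) := ⟨k ≫ v'.1, by rw [Category.assoc, v'.2]⟩
    have e1 : v₂' = θ w b (k ≫ x₀) y hy v₂ := by
      apply Subtype.ext
      rw [← ha i (k ≫ x₀) y hy v₂]
      change k ≫ v'.1 = (k ≫ v.1) ≫ a i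
      rw [hv, Category.assoc]
    rw [← D'.φ_natural k x₀ x₁ h (k ≫ x₀) (k ≫ x₁) rfl rfl h' v' v₂' rfl, e1,
      ← θ_φ w b (k ≫ x₀) (k ≫ x₁) h' y hy hy₁ v₂, ← ha i₁ (k ≫ x₁) y hy₁,
      D.φ_natural k x₀ x₁ h (k ≫ x₀) (k ≫ x₁) rfl rfl h' v v₂ rfl, Category.assoc]
  let A : D ⟶ D' := ⟨fun i => Over.homMk (a i) (hover i), hcomm⟩
  refine ⟨A, ?_⟩
  apply SchDDFam.hom_ext
  funext j
  apply Over.OverMorphism.ext
  apply pullback.hom_ext
  · have h1 : (((pullDDFam w).map A).hom j).left ≫ pullback.fst (D'.obj (α j)).hom (p' j) =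
        pullback.fst (D.obj (α j)).hom (p' j) ≫ a (α j) := by
      simp [pullDDFam, A]
    rw [h1]
    let y : pullback (D.obj (α j)).hom (p' j) ⟶ X' j := pullback.snd _ _
    have hy : y ≫ f' j = (y ≫ p' j) ≫ f (α j) := by
      rw [Category.assoc, w, Category.comp_id]
    let x : Lifts (D.obj (α j)) (y ≫ p' j) := ⟨pullback.fst _ _, pullback.condition⟩
    have h2 := ha (α j) (y ≫ p' j) y hy x
    rw [h2]
    have h3 : (tr w D (y ≫ p' j) y hy x).1 = 𝟙 _ := by
      apply pullback.hom_ext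
      · simp only [tr, Equiv.trans_apply, D.φ_self]
        exact (lPE_symm_fst _ _ _ _).trans (Category.id_comp _).symm
      · simp only [tr, Equiv.trans_apply, D.φ_self]
        exact (lPE_symm_snd _ _ _ _).trans (Category.id_comp _).symm
    unfold θ
    simp only [tr, Equiv.symm_trans_apply, Equiv.symm_symm, φ_symm_self]
    change (b.push (tr w D (y ≫ p' j) y hy x)).1 ≫ pullback.fst (D'.obj (α j)).hom (p' j) = _
    change ((tr w D (y ≫ p' j) y hy x).1 ≫ (b.hom j).left) ≫ _ = _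
    rw [h3, Category.id_comp]
  · have h1 := Over.w (((pullDDFam w).map A).hom j)
    have h2 := Over.w (b.hom j)
    exact h1.trans h2.symm

end Main

section Criteria

/-- If the source family is an fpqc covering of `S`, the small sieves are fpqc covering. -/
lemma smallSieve_mem_of_mem_fpqcPrecoverage
    (hu : Presieve.ofArrows X' f' ∈ Scheme.fpqcPrecoverage S) (i : ι) :
    smallSieve f f' i ∈ Scheme.fpqcTopology (X i) := by
  refine Scheme.fpqcTopology.superset_covering ?_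
    (Scheme.fpqcTopology.pullback_stable (f i) (Precoverage.generate_mem_toGrothendieck hu))
  rintro T t ⟨Y, h, g, ⟨j⟩, e⟩
  exact ⟨j, h, e⟩

include w in
/-- If for every `i` the members `p' j` with `α j = i` form an fpqc covering of `X i`, the small
sieves are fpqc covering. -/
lemma smallSieve_mem_of_fibrewise
    (hcov : ∀ i, Presieve.ofArrows (fun j : {j // α j = i} => X' j.1)
      (fun j => p' j.1 ≫ eqToHom (congrArg X j.2)) ∈ Scheme.fpqcPrecoverage (X i)) (i : ι) :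
    smallSieve f f' i ∈ Scheme.fpqcTopology (X i) := by
  refine Scheme.fpqcTopology.superset_covering ?_
    (Precoverage.generate_mem_toGrothendieck (hcov i))
  rintro T t ⟨Y, h, g, ⟨⟨j, hj⟩⟩, e⟩
  subst hj
  refine ⟨j, h, ?_⟩
  rw [← e]
  simp only [eqToHom_refl, Category.comp_id, Category.assoc]
  rw [w, Category.comp_id]

end Criteria

section ToDDFam

variable {S : Scheme.{u}} {ι : Type w} {X : ι → Scheme.{u}} (f : ∀ i, X i ⟶ S)

lemma ofArrows_snd_mem (hf : Presieve.ofArrows X f ∈ Scheme.fpqcPrecoverage S) (U : Over S) :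
    Presieve.ofArrows (fun i => pullback (f i) U.hom) (fun i => pullback.snd (f i) U.hom) ∈
      Scheme.fpqcPrecoverage U.left := by
  rw [Presieve.ofArrows_pullback]
  exact Precoverage.pullbackArrows_mem U.hom hf

lemma isSheafFor_ofArrows_snd (hf : Presieve.ofArrows X f ∈ Scheme.fpqcPrecoverage S) (U : Over S)
    (W : Scheme.{u}) :
    Presieve.IsSheafFor (yoneda.obj W)
      (Presieve.ofArrows (fun i => pullback (f i) U.hom) (fun i => pullback.snd (f i) U.hom)) := by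
  rw [Presieve.isSheafFor_iff_generate]
  exact (GrothendieckTopology.Subcanonical.isSheaf_of_isRepresentable
    (J := Scheme.fpqcTopology.{u}) (yoneda.obj W)) _
      (Precoverage.generate_mem_toGrothendieck (ofArrows_snd_mem f hf U))

/-- The canonical descent datum functor of an fpqc covering family is faithful. -/
theorem toDDFam_faithful (hf : Presieve.ofArrows X f ∈ Scheme.fpqcPrecoverage S) :
    (toDDFam f).Faithful := by
  refine ⟨fun {U U'} a a' haa' => ?_⟩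
  apply Over.OverMorphism.ext
  apply (isSheafFor_ofArrows_snd f hf U U'.left).isSeparatedFor.ext
  rintro T _ ⟨i⟩
  have h1 : ∀ c : U ⟶ U', pullback.snd (f i) U.hom ≫ c.left =
      (((toDDFam f).map c).hom i).left ≫ pullback.snd (f i) U'.hom := by
    intro c
    simp [toDDFam]
  change pullback.snd (f i) U.hom ≫ a.left = pullback.snd (f i) U.hom ≫ a'.left
  rw [h1, h1, haa']

/-- The canonical descent datum functor of an fpqc covering family is full. -/
theorem toDDFam_full (hf : Presieve.ofArrows X f ∈ Scheme.fpqcPrecoverage S) :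
    (toDDFam f).Full := by
  refine ⟨fun {U U'} b => ?_⟩
  have hsh := isSheafFor_ofArrows_snd f hf U U'.left
  rw [Presieve.isSheafFor_arrows_iff] at hsh
  obtain ⟨c, hc, -⟩ := hsh (fun i => (b.hom i).left ≫ pullback.snd (f i) U'.hom) (by
    intro i j T k₁ k₂ hk
    change k₁ ≫ (b.hom i).left ≫ pullback.snd (f i) U'.hom =
      k₂ ≫ (b.hom j).left ≫ pullback.snd (f j) U'.hom
    have h0 : (k₁ ≫ pullback.fst (f i) U.hom) ≫ f i = (k₂ ≫ pullback.fst (f j) U.hom) ≫ f j := by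
      rw [Category.assoc, Category.assoc, pullback.condition, pullback.condition,
        ← Category.assoc, ← Category.assoc, hk]
    let v : Lifts ((canonicalDDFam f U).obj i) (k₁ ≫ pullback.fst (f i) U.hom) := ⟨k₁, rfl⟩
    have h1 := b.comm (k₁ ≫ pullback.fst (f i) U.hom) (k₂ ≫ pullback.fst (f j) U.hom) h0 v
      (b.push v) rfl
    have h2 : ((canonicalDDFam f U).φ (k₁ ≫ pullback.fst (f i) U.hom)
        (k₂ ≫ pullback.fst (f j) U.hom) h0 v).1 = k₂ := by
      apply pullback.hom_ext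
      · simp [canonicalDDFam, v]
      · simp [canonicalDDFam, v, hk]
    have h3 : ((canonicalDDFam f U').φ (k₁ ≫ pullback.fst (f i) U.hom)
        (k₂ ≫ pullback.fst (f j) U.hom) h0 (b.push v)).1 ≫ pullback.snd (f j) U'.hom =
        k₁ ≫ (b.hom i).left ≫ pullback.snd (f i) U'.hom := by
      simp [canonicalDDFam, v, SchDDFam.Hom.push]
    have h4 : ((canonicalDDFam f U').φ (k₁ ≫ pullback.fst (f i) U.hom)
        (k₂ ≫ pullback.fst (f j) U.hom) h0 (b.push v)).1 = k₂ ≫ (b.hom j).left :=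
      h1.trans (congrArg (· ≫ (b.hom j).left) h2)
    rw [← h3, h4, Category.assoc])
  have hc' : ∀ i, pullback.snd (f i) U.hom ≫ c =
      (b.hom i).left ≫ pullback.snd (f i) U'.hom := hc
  have hcS : c ≫ U'.hom = U.hom := by
    apply (isSheafFor_ofArrows_snd f hf U S).isSeparatedFor.ext
    rintro T _ ⟨i⟩
    change pullback.snd (f i) U.hom ≫ c ≫ U'.hom = pullback.snd (f i) U.hom ≫ U.hom
    rw [← Category.assoc, hc' i, Category.assoc, ← pullback.condition, ← pullback.condition,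
      ← Category.assoc]
    congr 1
    exact Over.w (b.hom i)
  refine ⟨Over.homMk c hcS, ?_⟩
  apply SchDDFam.hom_ext
  funext i
  apply Over.OverMorphism.ext
  apply pullback.hom_ext
  · have h1 := Over.w (((toDDFam f).map (Over.homMk c hcS : U ⟶ U')).hom i)
    have h2 := Over.w (b.hom i)
    exact h1.trans h2.symm
  · have h1 : (((toDDFam f).map (Over.homMk c hcS : U ⟶ U')).hom i).left ≫
        pullback.snd (f i) U'.hom = pullback.snd (f i) U.hom ≫ c := by
      simp [toDDFam]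
    rw [h1]
    exact hc' i

end ToDDFam

section Points

variable {S : Scheme.{u}} {ι : Type w} {X : ι → Scheme.{u}} {f : ∀ i, X i ⟶ S}

/-- Morphisms of descent data agreeing on all points are equal. -/
lemma hom_ext_of_push {D D' : SchDDFam f} (a b : D ⟶ D')
    (h : ∀ ⦃T : Scheme.{u}⦄ ⦃i : ι⦄ (x : T ⟶ X i) (v : Lifts (D.obj i) x), a.push v = b.push v) :
    a = b := by
  apply SchDDFam.hom_ext
  funext i
  apply Over.OverMorphism.ext
  have := congrArg Subtype.val (h (D.obj i).hom ⟨𝟙 _, Category.id_comp _⟩)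
  simpa [SchDDFam.Hom.push] using this

/-- A natural family of maps on points, compatible with the gluing bijections, is induced by a
morphism of descent data. -/
def homOfPoints (D D' : SchDDFam f)
    (e : ∀ ⦃T : Scheme.{u}⦄ ⦃i : ι⦄ (x : T ⟶ X i), Lifts (D.obj i) x → Lifts (D'.obj i) x)
    (e_nat : ∀ ⦃T T' : Scheme.{u}⦄ (k : T' ⟶ T) ⦃i : ι⦄ (x : T ⟶ X i) (x' : T' ⟶ X i)
      (_ : k ≫ x = x') (v : Lifts (D.obj i) x) (v' : Lifts (D.obj i) x'),
      v'.1 = k ≫ v.1 → (e x' v').1 = k ≫ (e x v).1)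
    (e_φ : ∀ ⦃T : Scheme.{u}⦄ ⦃i j : ι⦄ (x₀ : T ⟶ X i) (x₁ : T ⟶ X j) (h : x₀ ≫ f i = x₁ ≫ f j)
      (v : Lifts (D.obj i) x₀), D'.φ x₀ x₁ h (e x₀ v) = e x₁ (D.φ x₀ x₁ h v)) : D ⟶ D' :=
  ⟨fun i => Over.homMk (e (D.obj i).hom ⟨𝟙 _, Category.id_comp _⟩).1
      (e (D.obj i).hom ⟨𝟙 _, Category.id_comp _⟩).2,
    fun T i j x₀ x₁ h v v' hv => by
      have key : ∀ ⦃T : Scheme.{u}⦄ ⦃i : ι⦄ (x : T ⟶ X i) (v : Lifts (D.obj i) x),
          v.1 ≫ (e (D.obj i).hom ⟨𝟙 _, Category.id_comp _⟩).1 = (e x v).1 := fun T i x v =>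
        (e_nat v.1 (D.obj i).hom x v.2 ⟨𝟙 _, Category.id_comp _⟩ v (Category.comp_id _).symm).symm
      have hv' : v' = e x₀ v := Subtype.ext (hv.trans (key x₀ v))
      rw [hv', e_φ]
      exact (key x₁ _).symm⟩

lemma homOfPoints_push (D D' : SchDDFam f)
    (e : ∀ ⦃T : Scheme.{u}⦄ ⦃i : ι⦄ (x : T ⟶ X i), Lifts (D.obj i) x → Lifts (D'.obj i) x)
    (e_nat : ∀ ⦃T T' : Scheme.{u}⦄ (k : T' ⟶ T) ⦃i : ι⦄ (x : T ⟶ X i) (x' : T' ⟶ X i)
      (_ : k ≫ x = x') (v : Lifts (D.obj i) x) (v' : Lifts (D.obj i) x'),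
      v'.1 = k ≫ v.1 → (e x' v').1 = k ≫ (e x v).1)
    (e_φ : ∀ ⦃T : Scheme.{u}⦄ ⦃i j : ι⦄ (x₀ : T ⟶ X i) (x₁ : T ⟶ X j) (h : x₀ ≫ f i = x₁ ≫ f j)
      (v : Lifts (D.obj i) x₀), D'.φ x₀ x₁ h (e x₀ v) = e x₁ (D.φ x₀ x₁ h v))
    {T : Scheme.{u}} {i : ι} (x : T ⟶ X i) (v : Lifts (D.obj i) x) :
    (homOfPoints D D' e e_nat e_φ).push v = e x v := by
  apply Subtype.ext
  exact (e_nat v.1 (D.obj i).hom x v.2 ⟨𝟙 _, Category.id_comp _⟩ v (Category.comp_id _).symm).symm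

/-- A natural family of bijections on points, compatible with the gluing bijections, is induced by
an isomorphism of descent data. -/
noncomputable def isoOfPoints (D D' : SchDDFam f)
    (e : ∀ ⦃T : Scheme.{u}⦄ ⦃i : ι⦄ (x : T ⟶ X i), Lifts (D.obj i) x ≃ Lifts (D'.obj i) x)
    (e_nat : ∀ ⦃T T' : Scheme.{u}⦄ (k : T' ⟶ T) ⦃i : ι⦄ (x : T ⟶ X i) (x' : T' ⟶ X i)
      (_ : k ≫ x = x') (v : Lifts (D.obj i) x) (v' : Lifts (D.obj i) x'),
      v'.1 = k ≫ v.1 → (e x' v').1 = k ≫ (e x v).1)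
    (e_φ : ∀ ⦃T : Scheme.{u}⦄ ⦃i j : ι⦄ (x₀ : T ⟶ X i) (x₁ : T ⟶ X j) (h : x₀ ≫ f i = x₁ ≫ f j)
      (v : Lifts (D.obj i) x₀), D'.φ x₀ x₁ h (e x₀ v) = e x₁ (D.φ x₀ x₁ h v)) : D ≅ D' where
  hom := homOfPoints D D' (fun _ _ x => e x) e_nat e_φ
  inv := homOfPoints D' D (fun _ _ x => (e x).symm)
    (fun T T' k i x x' hx v v' hv => by
      let u : Lifts (D.obj i) x' := ⟨k ≫ ((e x).symm v).1, by
        rw [Category.assoc, ((e x).symm v).2, hx]⟩
      have h1 := e_nat k x x' hx ((e x).symm v) u rfl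
      have h2 : e x' u = v' := by
        apply Subtype.ext
        rw [h1, hv, Equiv.apply_symm_apply]
      rw [← h2, Equiv.symm_apply_apply])
    (fun T i j x₀ x₁ h v => by
      rw [Equiv.eq_symm_apply, ← e_φ, Equiv.apply_symm_apply])
  hom_inv_id := by
    apply hom_ext_of_push
    intro T i x v
    change (homOfPoints D' D _ _ _).push ((homOfPoints D D' _ _ _).push v) = v
    rw [homOfPoints_push, homOfPoints_push, Equiv.symm_apply_apply]
  inv_hom_id := by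
    apply hom_ext_of_push
    intro T i x v
    change (homOfPoints D D' _ _ _).push ((homOfPoints D' D _ _ _).push v) = v
    rw [homOfPoints_push, homOfPoints_push, Equiv.apply_symm_apply]

lemma isoOfPoints_hom_push (D D' : SchDDFam f)
    (e : ∀ ⦃T : Scheme.{u}⦄ ⦃i : ι⦄ (x : T ⟶ X i), Lifts (D.obj i) x ≃ Lifts (D'.obj i) x)
    (e_nat : ∀ ⦃T T' : Scheme.{u}⦄ (k : T' ⟶ T) ⦃i : ι⦄ (x : T ⟶ X i) (x' : T' ⟶ X i)
      (_ : k ≫ x = x') (v : Lifts (D.obj i) x) (v' : Lifts (D.obj i) x'),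
      v'.1 = k ≫ v.1 → (e x' v').1 = k ≫ (e x v).1)
    (e_φ : ∀ ⦃T : Scheme.{u}⦄ ⦃i j : ι⦄ (x₀ : T ⟶ X i) (x₁ : T ⟶ X j) (h : x₀ ≫ f i = x₁ ≫ f j)
      (v : Lifts (D.obj i) x₀), D'.φ x₀ x₁ h (e x₀ v) = e x₁ (D.φ x₀ x₁ h v))
    {T : Scheme.{u}} {i : ι} (x : T ⟶ X i) (v : Lifts (D.obj i) x) :
    (isoOfPoints D D' e e_nat e_φ).hom.push v = e x v :=
  homOfPoints_push D D' (fun _ _ x => e x) e_nat e_φ x v

lemma push_comp {D D' D'' : SchDDFam f} (a : D ⟶ D') (b : D' ⟶ D'') {T : Scheme.{u}} {i : ι}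
    {x : T ⟶ X i} (v : Lifts (D.obj i) x) : (a ≫ b).push v = b.push (a.push v) := by
  apply Subtype.ext
  simp [SchDDFam.Hom.push]

end Points

section Endo

variable {S : Scheme.{u}} {ι : Type w} {X : ι → Scheme.{u}} {f : ∀ i, X i ⟶ S}
  {p' : ∀ i, X i ⟶ X i} (w : ∀ i, p' i ≫ f i = f i ≫ 𝟙 S)

/-- The pullback of a descent datum along endomorphisms of the members of the family (over `S`) is
isomorphic to the datum. -/
noncomputable def pullEndoObjIso (D : SchDDFam f) :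
    pullDDFamObj (f := f) (f' := f) (α := fun j => j) (p := 𝟙 S) (p' := p') w D ≅ D :=
  isoOfPoints _ _ (fun T i x => (tr w D x x rfl).symm)
    (fun T T' k i x x' hx v v' hv =>
      tr_symm_natural w D k x x rfl x' hx x' hx rfl v v' hv)
    (fun T i j x₀ x₁ h v => by
      rw [Equiv.eq_symm_apply, tr_φ w D x₀ x₁ h x₁ h.symm rfl, ← tr_trans w D x₀ x₀ rfl x₁ h.symm h,
        Equiv.apply_symm_apply])

lemma pullEndoObjIso_hom_push (D : SchDDFam f) {T : Scheme.{u}} {i : ι} (x : T ⟶ X i)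
    (v : Lifts ((pullDDFamObj (f := f) (f' := f) (α := fun j => j) (p := 𝟙 S) (p' := p') w D).obj i)
      x) :
    (pullEndoObjIso w D).hom.push v = (tr w D x x rfl).symm v :=
  isoOfPoints_hom_push _ _ _ _ _ x v

/-- Pulling back descent data along endomorphisms of the members of the family (over `S`) is
isomorphic to the identity functor. -/
noncomputable def pullEndoIso :
    pullDDFam (f := f) (f' := f) (α := fun j => j) (p := 𝟙 S) (p' := p') w ≅ 𝟭 (SchDDFam f) :=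
  NatIso.ofComponents (fun D => pullEndoObjIso w D) (by
    intro D₁ D₂ a
    apply hom_ext_of_push
    intro T i x v
    rw [push_comp, push_comp]
    have h1 := pullEndoObjIso_hom_push w D₂ x (((pullDDFam w).map a).push v)
    have h2 := pullEndoObjIso_hom_push w D₁ x v
    refine h1.trans ?_
    change _ = a.push ((pullEndoObjIso w D₁).hom.push v)
    rw [h2, Equiv.symm_apply_eq, tr_push, Equiv.apply_symm_apply])

end Endo

section Retract

variable {β : ι → ι'} {q' : ∀ i, X i ⟶ X' (β i)} (wq : ∀ i, q' i ≫ f' (β i) = f i ≫ 𝟙 S)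

include w in
lemma retr_hy {T : Scheme.{u}} {j : ι'} (x : T ⟶ X' j) :
    (x ≫ p' j) ≫ f (α j) = x ≫ f' j := by
  rw [Category.assoc, w, Category.comp_id]

/-- Auxiliary bijection for `nonempty_pull_pull_iso`. -/
noncomputable def retrA (D' : SchDDFam f') {T : Scheme.{u}} {j : ι'} (x : T ⟶ X' j) :
    Lifts (D'.obj j) x ≃
      Lifts ((pullDDFamObj (f := f') (f' := f) (α := β) (p := 𝟙 S) (p' := q') wq D').obj (α j))
        (x ≫ p' j) :=
  tr (f := f') (f' := f) (α := β) (p' := q') wq D' (i := j) x (j := α j) (x ≫ p' j) (retr_hy w x)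

/-- Auxiliary bijection for `nonempty_pull_pull_iso`. -/
noncomputable def retrB (D : SchDDFam f) {T : Scheme.{u}} {j : ι'} (x : T ⟶ X' j) :
    Lifts (D.obj (α j)) (x ≫ p' j) ≃
      Lifts ((pullDDFamObj (f := f) (f' := f') (α := α) (p := 𝟙 S) (p' := p') w D).obj j) x :=
  tr (f := f) (f' := f') (α := α) (p' := p') w D (i := α j) (x ≫ p' j) (j := j) x
    (retr_hy w x).symm

lemma retrA_symm_natural (D' : SchDDFam f') {T T' : Scheme.{u}} (k : T' ⟶ T) {j : ι'}
    (x : T ⟶ X' j) (x' : T' ⟶ X' j) (hx : k ≫ x = x')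
    (z : Lifts ((pullDDFamObj (f := f') (f' := f) (α := β) (p := 𝟙 S) (p' := q') wq D').obj (α j))
        (x ≫ p' j))
    (z' : Lifts ((pullDDFamObj (f := f') (f' := f) (α := β) (p := 𝟙 S) (p' := q') wq D').obj (α j))
        (x' ≫ p' j)) (hz : z'.1 = k ≫ z.1) :
    ((retrA w wq D' x').symm z').1 = k ≫ ((retrA w wq D' x).symm z).1 :=
  tr_symm_natural (f := f') (f' := f) (α := β) (p' := q') wq D' k x (x ≫ p' j) (retr_hy w x)
    x' hx (x' ≫ p' j) (by rw [← Category.assoc, hx]) (retr_hy w x') z z' hz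

lemma retrB_symm_natural (D : SchDDFam f) {T T' : Scheme.{u}} (k : T' ⟶ T) {j : ι'}
    (x : T ⟶ X' j) (x' : T' ⟶ X' j) (hx : k ≫ x = x')
    (z : Lifts ((pullDDFamObj (f := f) (f' := f') (α := α) (p := 𝟙 S) (p' := p') w D).obj j) x)
    (z' : Lifts ((pullDDFamObj (f := f) (f' := f') (α := α) (p := 𝟙 S) (p' := p') w D).obj j) x')
    (hz : z'.1 = k ≫ z.1) :
    ((retrB w D x').symm z').1 = k ≫ ((retrB w D x).symm z).1 :=
  tr_symm_natural (f := f) (f' := f') (α := α) (p' := p') w D k (x ≫ p' j) x (retr_hy w x).symm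
    (x' ≫ p' j) (by rw [← Category.assoc, hx]) x' hx (retr_hy w x').symm z z' hz

lemma retrA_φ (D' : SchDDFam f') {T : Scheme.{u}} {i j : ι'} (x₀ : T ⟶ X' i) (x₁ : T ⟶ X' j)
    (h : x₀ ≫ f' i = x₁ ≫ f' j) (h' : (x₀ ≫ p' i) ≫ f (α i) = (x₁ ≫ p' j) ≫ f (α j))
    (u : Lifts (D'.obj i) x₀) :
    retrA w wq D' x₁ (D'.φ x₀ x₁ h u) =
      (pullDDFamObj (f := f') (f' := f) (α := β) (p := 𝟙 S) (p' := q') wq D').φ
        (x₀ ≫ p' i) (x₁ ≫ p' j) h' (retrA w wq D' x₀ u) := by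
  unfold retrA
  rw [tr_trans (f := f') (f' := f) (α := β) (p' := q') wq D' x₀ (x₀ ≫ p' i) (retr_hy w x₀)
    (x₁ ≫ p' j) ((retr_hy w x₁).trans h.symm) h']
  exact tr_φ (f := f') (f' := f) (α := β) (p' := q') wq D' x₀ x₁ h (x₁ ≫ p' j)
    ((retr_hy w x₁).trans h.symm) (retr_hy w x₁) u

lemma retrB_φ (D : SchDDFam f) {T : Scheme.{u}} {i j : ι'} (x₀ : T ⟶ X' i) (x₁ : T ⟶ X' j)
    (h : x₀ ≫ f' i = x₁ ≫ f' j) (h' : (x₀ ≫ p' i) ≫ f (α i) = (x₁ ≫ p' j) ≫ f (α j))
    (u : Lifts (D.obj (α i)) (x₀ ≫ p' i)) :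
    retrB w D x₁ (D.φ (x₀ ≫ p' i) (x₁ ≫ p' j) h' u) =
      (pullDDFamObj (f := f) (f' := f') (α := α) (p := 𝟙 S) (p' := p') w D).φ x₀ x₁ h
        (retrB w D x₀ u) := by
  unfold retrB
  rw [tr_φ (f := f) (f' := f') (α := α) (p' := p') w D (x₀ ≫ p' i) (x₁ ≫ p' j) h' x₁
    ((retr_hy w x₁).symm.trans h'.symm) (retr_hy w x₁).symm]
  exact (tr_trans (f := f) (f' := f') (α := α) (p' := p') w D (x₀ ≫ p' i) x₀ (retr_hy w x₀).symm x₁
    ((retr_hy w x₁).symm.trans h'.symm) h u).symm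

/-- Pulling back a descent datum relative to `f'` along a morphism of families `f ⟶ f'` and then
along a morphism of families `f' ⟶ f` (both over the identity of `S`) gives back the datum, up to
isomorphism. -/
theorem nonempty_pull_pull_iso (D' : SchDDFam f') :
    Nonempty (pullDDFamObj (f := f) (f' := f') (α := α) (p := 𝟙 S) (p' := p') w
      (pullDDFamObj (f := f') (f' := f) (α := β) (p := 𝟙 S) (p' := q') wq D') ≅ D') := by
  refine ⟨isoOfPoints _ _ (fun T j x => ((retrA w wq D' x).trans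
    (retrB w (pullDDFamObj (f := f') (f' := f) (α := β) (p := 𝟙 S) (p' := q') wq D') x)).symm)
    ?_ ?_⟩
  · intro T T' k j x x' hx v v' hv
    rw [Equiv.symm_trans_apply, Equiv.symm_trans_apply]
    exact retrA_symm_natural w wq D' k x x' hx _ _ (retrB_symm_natural w _ k x x' hx v v' hv)
  · intro T i j x₀ x₁ h v
    have h' : (x₀ ≫ p' i) ≫ f (α i) = (x₁ ≫ p' j) ≫ f (α j) := by
      rw [retr_hy w, retr_hy w]; exact h
    rw [Equiv.eq_symm_apply, Equiv.trans_apply, retrA_φ w wq D' x₀ x₁ h h', retrB_φ w _ x₀ x₁ h h',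
      Equiv.symm_trans_apply, Equiv.apply_symm_apply, Equiv.apply_symm_apply]

end Retract

end Groth.Agent.Lib.SchDDFamFF
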