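import Groth.Agent.Lib.EffDescFamTautH52
import Groth.Agent.Lib.SchDDFamFF

/-!
# Effective descent for schemes, family version: universal sections of effective data (helper52)

For an fpqc covering family `f` and an isomorphism `e : toDDFam f U ≅ D`, the section
`SecF.ofHom U e.hom` over `U` is universal (`existsUnique_res_eq_of_iso`): this is the full
faithfulness of `toDDFam f` (helper21, `Lib/SchDDFamFF`).
-/

set_option autoImplicit false
set_option linter.style.haveILetI false
set_option backward.isDefEq.respectTransparency false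
set_option backward.isDefEq.respectTransparency.types false

universe u

open CategoryTheory CategoryTheory.Limits AlgebraicGeometry Opposite

namespace Groth.Agent.Lib.EffDescFamH52

open Desc

variable {S : Scheme.{u}} {ι : Type u} {X : ι → Scheme.{u}} {f : ∀ i, X i ⟶ S}
  {D : SchDDFam f}

theorem SecF.res_m {T T' : Scheme.{u}} (g : T' ⟶ T) (ξ : SecF D T) (i : ι) :
    (ξ.res g).m i = pullback.map (f i) (g ≫ ξ.t) (f i) ξ.t (𝟙 _) g (𝟙 _) (by simp) (by simp) ≫
      ξ.m i := by
  rw [SecF.m_eq_ev, SecF.res_ev, SecF.ev_val]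
  congr 1

theorem SecF.ext_m {T : Scheme.{u}} {ξ ξ' : SecF D T} (ht : ξ.t = ξ'.t)
    (hm : ∀ i, ξ.m i = pullback.map (f i) ξ.t (f i) ξ'.t (𝟙 _) (𝟙 _) (𝟙 _) (by simp) (by simp [ht]) ≫
      ξ'.m i) : ξ = ξ' := by
  obtain ⟨t, m, hm₁, hφ₁⟩ := ξ
  obtain ⟨t', m', hm₂, hφ₂⟩ := ξ'
  dsimp only at ht
  subst ht
  have : m = m' := by
    funext i
    have := hm i
    dsimp only at this
    rw [this]
    have e : pullback.map (f i) t (f i) t (𝟙 _) (𝟙 _) (𝟙 _) (by simp) (by simp) = 𝟙 _ := by
      apply pullback.hom_ext <;> simp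
    rw [e, Category.id_comp]
  subst this
  rfl

/-- The section attached to an isomorphism `toDDFam f U ≅ D` is universal, when `f` is an fpqc
covering family. -/
theorem existsUnique_res_eq_of_iso (hf : Presieve.ofArrows X f ∈ Scheme.fpqcPrecoverage S)
    {U : Over S} (e : (toDDFam f).obj U ≅ D) {T : Scheme.{u}} (ξ : SecF D T) :
    ∃! g : T ⟶ U.left, (SecF.ofHom U e.hom).res g = ξ := by
  haveI := Groth.Agent.Lib.SchDDFamFF.toDDFam_full f hf
  haveI := Groth.Agent.Lib.SchDDFamFF.toDDFam_faithful f hf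
  -- key: for `c : (T, ξ.t) ⟶ U`, `(ofHom U e.hom).res c.left = ξ ↔ toDDFam(c) ≫ e.hom = ξ.toHom`
  have key : ∀ (g : T ⟶ U.left) (hg : g ≫ U.hom = ξ.t),
      (SecF.ofHom U e.hom).res g = ξ ↔
        (toDDFam f).map (Over.homMk g hg : Over.mk ξ.t ⟶ U) ≫ e.hom = ξ.toHom := by
    intro g hg
    constructor
    · intro h
      apply SchDDFam.hom_ext
      funext i
      apply Over.OverMorphism.ext
      have h1 := SecF.res_m g (SecF.ofHom U e.hom) i
      rw [SchDDFam.comp_hom, Over.comp_left, SecF.toHom_hom_left]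
      subst h
      rw [h1]
      rfl
    · intro h
      have h2 : ∀ i, (((toDDFam f).map (Over.homMk g hg : Over.mk ξ.t ⟶ U)).hom i).left ≫
          (e.hom.hom i).left = ξ.m i := fun i => by
        have := congrArg (fun a => (SchDDFam.Hom.hom a i).left) h
        simpa using this
      apply SecF.ext_m (by simpa using hg)
      intro i
      rw [SecF.res_m, ← h2 i, SecF.ofHom_m, ← Category.assoc]
      congr 1
      apply pullback.hom_ext <;> simp [toDDFam]
  obtain ⟨c, hc⟩ := (toDDFam f).map_surjective (ξ.toHom ≫ e.inv)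
  have hc' : (toDDFam f).map c ≫ e.hom = ξ.toHom := by
    rw [hc, Category.assoc, e.inv_hom_id, Category.comp_id]
  have hcw : c.left ≫ U.hom = ξ.t := Over.w c
  refine ⟨c.left, (key c.left hcw).2 ?_, fun g' hg' => ?_⟩
  · have : (Over.homMk c.left hcw : Over.mk ξ.t ⟶ U) = c := by
      apply Over.OverMorphism.ext; rfl
    rw [this, hc']
  · have hgw : g' ≫ U.hom = ξ.t := by
      have := congrArg SecF.t hg'
      simpa using this
    have h3 := (key g' hgw).1 hg'
    have h4 : (toDDFam f).map (Over.homMk g' hgw : Over.mk ξ.t ⟶ U) = (toDDFam f).map c := by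
      rw [← cancel_mono e.hom, h3, hc']
    have := (toDDFam f).map_injective h4
    exact congrArg (fun a => CommaMorphism.left a) this

end Groth.Agent.Lib.EffDescFamH52
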