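import Groth.Agent.Lib.EffDescFamOverH52

/-!
# Effective descent for schemes, family version: Zariski coverings (helper52)

`exists_universal_overFunctor_of_zariski`: let `D'` be a descent datum relative to `f i : X i ⟶ S`,
`p : B ⟶ S`, and suppose `B` is covered by open immersions `c a : X (σ a) ⟶ B` with
`c a ≫ p = f (σ a)`. Then the functor `T ↦ {(x : T ⟶ B, ξ : SecF D' T) | ξ.t = x ≫ p}` is
representable (glue the `V (σ a)`).
-/

set_option autoImplicit false
set_option linter.style.haveILetI false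
set_option backward.isDefEq.respectTransparency false
set_option backward.isDefEq.respectTransparency.types false

universe u

open CategoryTheory CategoryTheory.Limits AlgebraicGeometry Opposite

namespace Groth.Agent.Lib.EffDescFamH52

open Desc Groth.Agent.Lib.SchDDFamFF

variable {S : Scheme.{u}} {ι : Type u} {X : ι → Scheme.{u}} {f : ∀ i, X i ⟶ S}

theorem exists_universal_overFunctor_of_zariski {B : Scheme.{u}} (p : B ⟶ S) {A : Type u}
    (σ : A → ι) (c : ∀ a, X (σ a) ⟶ B) [∀ a, IsOpenImmersion (c a)]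
    (hc : ∀ a, c a ≫ p = f (σ a)) (hcov : ∀ b : B, ∃ a, b ∈ Set.range (c a))
    (D' : SchDDFam f) :
    ∃ (V : Scheme.{u}) (ε : (overFunctor D' p).obj (op V)),
      ∀ ⦃T : Scheme.{u}⦄ (γ : (overFunctor D' p).obj (op T)),
        ∃! r : T ⟶ V, (overFunctor D' p).map r.op ε = γ := by
  let ζ : ∀ a, (overFunctor D' p).obj (op (D'.obj (σ a)).left) := fun a =>
    ⟨((D'.obj (σ a)).hom ≫ c a, taut D' (σ a)), by rw [taut_t, Category.assoc, hc]⟩
  refine Groth.Agent.Lib.AbsRepH52.exists_universal (overFunctor D' p) (B := B)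
    (fun T γ => γ.1.1) (fun T T' r γ => rfl) c (U := fun a => (D'.obj (σ a)).left) ζ ?_ ?_
    (isSheaf_overFunctor D' p) hcov
  · intro a
    rintro _ ⟨w, rfl⟩
    change ((D'.obj (σ a)).hom ≫ c a) w ∈ _
    rw [Scheme.Hom.comp_apply]
    exact ⟨_, rfl⟩
  · intro a T γ hγ
    let x : T ⟶ X (σ a) := IsOpenImmersion.lift (c a) γ.1.1 hγ
    have hx : x ≫ c a = γ.1.1 := IsOpenImmersion.lift_fac _ _ _
    have ht : γ.1.2.t = x ≫ f (σ a) := by rw [γ.2, ← hx, Category.assoc, hc]
    let v : Lifts (D'.obj (σ a)) x := (liftsEquivSec x).symm ⟨γ.1.2, ht⟩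
    have hv : (taut D' (σ a)).res v.1 = γ.1.2 :=
      congrArg Subtype.val ((liftsEquivSec x).apply_symm_apply ⟨γ.1.2, ht⟩)
    refine ⟨v.1, ?_, fun r' hr' => ?_⟩
    · apply Subtype.ext
      apply Prod.ext
      · change v.1 ≫ (D'.obj (σ a)).hom ≫ c a = γ.1.1
        have e : v.1 ≫ (D'.obj (σ a)).hom = x := v.2
        rw [← Category.assoc, e, hx]
      · exact hv
    · have h1 : r' ≫ (D'.obj (σ a)).hom ≫ c a = γ.1.1 := congrArg (fun γ => γ.1.1) hr'
      have h2 : (taut D' (σ a)).res r' = γ.1.2 := congrArg (fun γ => γ.1.2) hr'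
      have h3 : r' ≫ (D'.obj (σ a)).hom = x := by
        rw [← cancel_mono (c a), Category.assoc, h1, hx]
      let v' : Lifts (D'.obj (σ a)) x := ⟨r', h3⟩
      have : v' = v := eq_of_taut_res_eq x v' v (h2.trans hv.symm)
      exact congrArg Subtype.val this

end Groth.Agent.Lib.EffDescFamH52
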