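import Groth.Agent.Lib.EffDescFiniteH52
import Groth.Agent.Lib.H59GeomPoints

/-!
# Descent along finite locally free morphisms with bounded geometric fibres (helper52)

* `encard_preimage_le_of_geometric_fibres`: for `q : P ⟶ V` locally quasi-finite, the number of
  points of a fibre is at most the number of lifts of a geometric point.
* `exists_iso_of_finite_of_bounded_fibres`: S7484.
-/

set_option autoImplicit false
set_option linter.style.haveILetI false
set_option backward.isDefEq.respectTransparency false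
set_option backward.isDefEq.respectTransparency.types false

universe u

open CategoryTheory CategoryTheory.Limits AlgebraicGeometry Opposite

namespace Groth.Agent.Lib.EffDescH52

open Desc Groth.Agent.Lib.EffDescFamH52 Groth.Agent.Lib.H59GeomPoints

/-- A geometric point over a given point of a scheme. -/
theorem exists_geometric_point {V : Scheme.{u}} (v : V) :
    ∃ (K : Type u) (_ : Field K) (_ : IsAlgClosed K) (yb : Spec (.of K) ⟶ V),
      yb (IsLocalRing.closedPoint K) = v := by
  let κ := V.residueField v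
  let K := AlgebraicClosure κ
  refine ⟨K, inferInstance, inferInstance,
    Spec.map (CommRingCat.ofHom (algebraMap κ K)) ≫ V.fromSpecResidueField v, ?_⟩
  rw [Scheme.Hom.comp_apply]
  exact Scheme.fromSpecResidueField_apply v _

/-- The number of points of a fibre of a locally quasi-finite morphism is bounded by the number
of lifts of a geometric point. -/
theorem exists_injective_fibre_lifts {P V : Scheme.{u}} (q : P ⟶ V) [LocallyQuasiFinite q]
    (K : Type u) [Field K] [IsAlgClosed K] (yb : Spec (.of K) ⟶ V) :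
    ∃ f : {z : P // q z = yb (IsLocalRing.closedPoint K)} → Lifts q K yb,
      Function.Injective f := by
  classical
  have hne := fun z : {z : P // q z = yb (IsLocalRing.closedPoint K)} =>
    nonempty_emb q yb z (finite_residueFieldMap q z.1)
  refine ⟨fun z => (liftsEquiv q yb).symm ⟨z, (hne z).some⟩, ?_⟩
  intro z z' h
  have h' := (liftsEquiv q yb).symm.injective h
  exact congrArg Sigma.fst h'

section Bound

variable {X S : Scheme.{u}} {p : X ⟶ S} (D : SchDD p)

/-- If the geometric fibres of the finite morphism `p` have at most `d` points, then so do the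
fibres of `X ×_S V ⟶ V`. -/
theorem encard_snd_preimage_le [IsFinite p] (d : ℕ)
    (hfib : ∀ (k : Type u) [Field k] [IsAlgClosed k] (y : Spec (CommRingCat.of k) ⟶ S),
      Set.encard {x : Spec (CommRingCat.of k) ⟶ X | x ≫ p = y} ≤ d) (v : D.obj.left) :
    (pullback.snd p (D.obj.hom ≫ p) ⁻¹' {v}).encard ≤ d := by
  obtain ⟨K, _, _, yb, hyb⟩ := exists_geometric_point v
  haveI : IsFinite (pullback.snd p (D.obj.hom ≫ p)) :=
    MorphismProperty.pullback_snd (P := @IsFinite) _ _ inferInstance
  obtain ⟨f, hf⟩ := exists_injective_fibre_lifts (pullback.snd p (D.obj.hom ≫ p)) K yb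
  refine le_trans ?_ (hfib K (yb ≫ D.obj.hom ≫ p))
  have hmem : ∀ z : ↥(pullback.snd p (D.obj.hom ≫ p) ⁻¹' {v}),
      pullback.snd p (D.obj.hom ≫ p) z.1 = yb (IsLocalRing.closedPoint K) := fun z => by
    rw [hyb]; exact z.2
  let g : ↥(pullback.snd p (D.obj.hom ≫ p) ⁻¹' {v}) →
      ↥{x : Spec (CommRingCat.of K) ⟶ X | x ≫ p = yb ≫ D.obj.hom ≫ p} := fun z =>
    ⟨(f ⟨z.1, hmem z⟩).1 ≫ pullback.fst p (D.obj.hom ≫ p), by
      change ((f ⟨z.1, hmem z⟩).1 ≫ pullback.fst p (D.obj.hom ≫ p)) ≫ p = yb ≫ D.obj.hom ≫ p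
      rw [Category.assoc, pullback.condition, ← Category.assoc, (f ⟨z.1, hmem z⟩).2]⟩
  have hg : Function.Injective g := by
    intro z z' h
    have h1 : (f ⟨z.1, hmem z⟩).1 ≫ pullback.fst p (D.obj.hom ≫ p) =
        (f ⟨z'.1, hmem z'⟩).1 ≫ pullback.fst p (D.obj.hom ≫ p) := congrArg Subtype.val h
    have h2 : (f ⟨z.1, hmem z⟩).1 = (f ⟨z'.1, hmem z'⟩).1 := by
      apply pullback.hom_ext h1
      rw [(f ⟨z.1, hmem z⟩).2, (f ⟨z'.1, hmem z'⟩).2]
    have h3 := hf (Subtype.ext h2)
    have h4 : z.1 = z'.1 := congrArg (fun w => (w.1 : ↥(pullback p (D.obj.hom ≫ p)))) h3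
    exact Subtype.ext h4
  exact ENat.card_le_card_of_injective hg

end Bound

/-- A nonempty set with at most `d` elements is the range of a function on `Fin d`. -/
theorem exists_fin_range_eq {α : Type*} (s : Set α) (d : ℕ) (hs : s.encard ≤ d) (a : α)
    (ha : a ∈ s) : ∃ w : Fin d → α, Set.range w = s := by
  classical
  have hfin : s.Finite := Set.finite_of_encard_le_coe hs
  let t := hfin.toFinset
  have htd : t.card ≤ d := by
    have := hfin.encard_eq_coe_toFinset_card
    rw [this] at hs
    exact_mod_cast hs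
  let e : t ≃ Fin t.card := t.equivFin
  refine ⟨fun i => if h : i.1 < t.card then (e.symm ⟨i.1, h⟩).1 else a, ?_⟩
  apply Set.Subset.antisymm
  · rintro _ ⟨i, rfl⟩
    dsimp only
    split_ifs with h
    · exact hfin.mem_toFinset.mp (e.symm ⟨i.1, h⟩).2
    · exact ha
  · intro x hx
    let j := e ⟨x, hfin.mem_toFinset.mpr hx⟩
    refine ⟨⟨j.1, lt_of_lt_of_le j.2 htd⟩, ?_⟩
    dsimp only
    rw [dif_pos j.2]
    have : (⟨j.1, j.2⟩ : Fin t.card) = j := rfl
    rw [this, Equiv.symm_apply_apply]

section Main

variable {X S : Scheme.{u}} (p : X ⟶ S) [Surjective p] [IsFinite p] [Flat p]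
  [LocallyOfFinitePresentation p]

/-- **Descent along finite locally free morphisms with geometric fibres of at most `d` points**,
for schemes in which any `d` points over a common point of the base lie in an affine open. -/
theorem exists_iso_of_finite_of_bounded_fibres (d : ℕ)
    (hfib : ∀ (k : Type u) [Field k] [IsAlgClosed k] (y : Spec (CommRingCat.of k) ⟶ S),
      Set.encard {x : Spec (CommRingCat.of k) ⟶ X | x ≫ p = y} ≤ d) (D : SchDD p)
    (hV : ∀ (y : S) (v : Fin d → ↑(D.obj.left)), (∀ i, p (D.obj.hom (v i)) = y) →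
      ∃ U : D.obj.left.Opens, IsAffineOpen U ∧ ∀ i, v i ∈ U) :
    ∃ W : Over S, Nonempty ((toDD p).obj W ≅ D) := by
  apply exists_iso_of_orbit_subset_affine p D
  intro v
  have h1 : (sat D {v}).encard ≤ d :=
    (Set.encard_image_le _ _).trans (encard_snd_preimage_le D d hfib v)
  obtain ⟨w, hw⟩ := exists_fin_range_eq (sat D {v}) d h1 v (subset_sat D _ rfl)
  obtain ⟨U, hU, hs⟩ := hV (p (D.obj.hom v)) w (fun i =>
    apply_eq_of_mem_sat D (hw ▸ Set.mem_range_self i))
  refine ⟨U, hU, fun x hx => ?_⟩
  rw [← hw] at hx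
  obtain ⟨i, rfl⟩ := hx
  exact hs i

end Main

end Groth.Agent.Lib.EffDescH52
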