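import Groth.Agent.Lib.EffDescFamOpenH52

/-!
# Descent along universally closed fppf morphisms when orbits lie in affine opens (helper52)

* `sat D C = act (snd⁻¹ C)`: the saturation of a set of points of `V`; `sat_stable`,
  `sat_stable'`, `subset_sat`.
* `stableInterior D W₁ hcl`: the largest stable open inside `W₁`, when `act D` is a closed map.
* `exists_iso_of_orbit_subset_affine`: if `p` is flat, surjective, locally of finite presentation
  and universally closed (e.g. finite locally free) and every orbit `sat D {v}` is contained in an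
  affine open of `V`, then `D` is effective.
* `exists_iso_of_finite_of_finset_affine`: the form with finite sets of points over a common point.
-/

set_option autoImplicit false
set_option linter.style.haveILetI false
set_option backward.isDefEq.respectTransparency false
set_option backward.isDefEq.respectTransparency.types false

universe u

open CategoryTheory CategoryTheory.Limits AlgebraicGeometry Opposite

namespace Groth.Agent.Lib.EffDescH52

open Desc Groth.Agent.Lib.EffDescFamH52

variable {X S : Scheme.{u}} {p : X ⟶ S} (D : SchDD p)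

/-- The saturation of a set of points. -/
def sat (C : Set D.obj.left) : Set D.obj.left :=
  act D '' (pullback.snd p (D.obj.hom ≫ p) ⁻¹' C)

theorem sat_stable (C : Set D.obj.left) (z : ↥(pullback p (D.obj.hom ≫ p)))
    (hz : pullback.snd p (D.obj.hom ≫ p) z ∈ sat D C) : act D z ∈ sat D C :=
  act_mem_image_of_snd_mem D C z hz

theorem twist_apply_snd (z : ↥(pullback p (D.obj.hom ≫ p))) :
    pullback.snd p (D.obj.hom ≫ p) (twist D z) = act D z := by
  rw [← Scheme.Hom.comp_apply, twist_snd]

theorem twist_apply_act (z : ↥(pullback p (D.obj.hom ≫ p))) :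
    act D (twist D z) = pullback.snd p (D.obj.hom ≫ p) z := by
  rw [← Scheme.Hom.comp_apply, twist_act]

theorem sat_stable' (C : Set D.obj.left) (z : ↥(pullback p (D.obj.hom ≫ p)))
    (hz : act D z ∈ sat D C) : pullback.snd p (D.obj.hom ≫ p) z ∈ sat D C := by
  rw [← twist_apply_act]
  apply sat_stable
  rw [twist_apply_snd]
  exact hz

theorem subset_sat (C : Set D.obj.left) : C ⊆ sat D C := by
  intro v hv
  let σ : D.obj.left ⟶ pullback p (D.obj.hom ≫ p) :=
    pullback.lift D.obj.hom (𝟙 D.obj.left) (by simp)
  have hσ2 : σ ≫ pullback.snd p (D.obj.hom ≫ p) = 𝟙 _ := pullback.lift_snd _ _ _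
  have hσ3 : σ ≫ act D = 𝟙 _ := lift_act_self D
  refine ⟨σ v, ?_, ?_⟩
  · change pullback.snd p (D.obj.hom ≫ p) (σ v) ∈ C
    rw [← Scheme.Hom.comp_apply, hσ2]
    exact hv
  · rw [← Scheme.Hom.comp_apply, hσ3]
    rfl

/-- Points of an orbit lie over the same point of `S`. -/
theorem apply_eq_of_mem_sat {v w : D.obj.left} (hw : w ∈ sat D {v}) :
    p (D.obj.hom w) = p (D.obj.hom v) := by
  obtain ⟨z, hz, rfl⟩ := hw
  have hz' : pullback.snd p (D.obj.hom ≫ p) z = v := hz
  rw [← hz']
  simp only [← Scheme.Hom.comp_apply]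
  have e : (act D ≫ D.obj.hom) ≫ p = (pullback.snd p (D.obj.hom ≫ p) ≫ D.obj.hom) ≫ p := by
    rw [act_hom, Category.assoc]
    exact pullback.condition
  rw [e]

instance [UniversallyClosed p] : UniversallyClosed (act D) := by
  rw [← twist_snd]
  haveI : UniversallyClosed (pullback.snd p (D.obj.hom ≫ p)) :=
    MorphismProperty.pullback_snd (P := @UniversallyClosed) _ _ inferInstance
  infer_instance

section Interior

variable (W₁ : D.obj.left.Opens) (hcl : IsClosedMap (act D))

/-- The largest stable open contained in `W₁`. -/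
def stableInterior : D.obj.left.Opens :=
  ⟨(sat D (W₁ : Set D.obj.left)ᶜ)ᶜ, by
    rw [isOpen_compl_iff]
    exact hcl _ (W₁.2.isClosed_compl.preimage (pullback.snd p (D.obj.hom ≫ p)).continuous)⟩

theorem stableInterior_le : stableInterior D W₁ hcl ≤ W₁ := by
  intro w hw
  by_contra hw'
  exact hw (subset_sat D _ hw')

theorem stableInterior_stable (z : ↥(pullback p (D.obj.hom ≫ p)))
    (hz : pullback.snd p (D.obj.hom ≫ p) z ∈ stableInterior D W₁ hcl) :
    act D z ∈ stableInterior D W₁ hcl := by
  intro h
  exact hz (sat_stable' D _ z h)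

theorem mem_stableInterior {v : D.obj.left} (hv : sat D {v} ⊆ W₁) :
    v ∈ stableInterior D W₁ hcl := by
  rintro ⟨z, hz, rfl⟩
  have h1 : pullback.snd p (D.obj.hom ≫ p) z ∈ sat D {act D z} := by
    refine ⟨twist D z, ?_, twist_apply_act D z⟩
    change pullback.snd p (D.obj.hom ≫ p) (twist D z) ∈ ({act D z} : Set D.obj.left)
    rw [twist_apply_snd]
    rfl
  exact hz (hv h1)

end Interior

/-- Any morphism from an open subscheme of an affine open is ind-quasi-affine. -/
theorem isIndQuasiAffineHom_of_le_isAffineOpen {V X : Scheme.{u}} (π : V ⟶ X) (W W₁ : V.Opens)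
    (hle : W ≤ W₁) (hW₁ : IsAffineOpen W₁) : MoreMor.IsIndQuasiAffineHom (W.ι ≫ π) := by
  intro X₀ hX₀ U hU
  haveI : IsAffine (W₁ : Scheme.{u}) := hW₁
  haveI : CompactSpace (U : Scheme.{u}) := isCompact_iff_compactSpace.mp hU
  exact Scheme.IsQuasiAffine.of_isImmersion (U.ι ≫ Scheme.Opens.ι _ ≫ V.homOfLE hle)

section Main

variable (p) [Surjective p] [Flat p] [LocallyOfFinitePresentation p] [UniversallyClosed p]

/-- **Descent along universally closed fppf morphisms when orbits lie in affine opens.** -/
theorem exists_iso_of_orbit_subset_affine (D : SchDD p)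
    (h : ∀ v : D.obj.left, ∃ U : D.obj.left.Opens, IsAffineOpen U ∧ sat D {v} ⊆ U) :
    ∃ U : Over S, Nonempty ((toDD p).obj U ≅ D) := by
  haveI : QuasiCompact p := inferInstance
  have hcl : IsClosedMap (act D) := (act D).isClosedMap
  apply exists_iso_of_forall_exists_open D
  intro v
  obtain ⟨W₁, hW₁, hOW₁⟩ := h v
  have hst := stableInterior_stable D W₁ hcl
  refine ⟨restrictDD D (stableInterior D W₁ hcl) hst, restrictHom D _ hst, inferInstance,
    ⟨⟨v, mem_stableInterior D W₁ hcl hOW₁⟩, rfl⟩, ?_⟩
  apply exists_iso_of_fppf_of_indQA p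
  exact isIndQuasiAffineHom_of_le_isAffineOpen D.obj.hom _ W₁ (stableInterior_le D W₁ hcl) hW₁

end Main

section Finite

theorem sat_singleton_finite [IsFinite p] (v : D.obj.left) : (sat D {v}).Finite := by
  haveI : IsFinite (pullback.snd p (D.obj.hom ≫ p)) :=
    MorphismProperty.pullback_snd (P := @IsFinite) _ _ inferInstance
  exact ((pullback.snd p (D.obj.hom ≫ p)).finite_preimage_singleton v).image _

variable (p) [Surjective p] [IsFinite p] [Flat p] [LocallyOfFinitePresentation p]

/-- **Descent along finite locally free morphisms** for schemes in which every finite set of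
points over a common point of the base lies in an affine open. -/
theorem exists_iso_of_finite_of_finset_affine (D : SchDD p)
    (hV : ∀ (y : S) (s : Finset ↑(D.obj.left)), (∀ v ∈ s, p (D.obj.hom v) = y) →
      ∃ U : D.obj.left.Opens, IsAffineOpen U ∧ ∀ v ∈ s, v ∈ U) :
    ∃ W : Over S, Nonempty ((toDD p).obj W ≅ D) := by
  classical
  apply exists_iso_of_orbit_subset_affine p D
  intro v
  obtain ⟨U, hU, hs⟩ := hV (p (D.obj.hom v)) (sat_singleton_finite D v).toFinset (fun w hw =>
    apply_eq_of_mem_sat D ((sat_singleton_finite D v).mem_toFinset.mp hw))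
  exact ⟨U, hU, fun w hw => hs w ((sat_singleton_finite D v).mem_toFinset.mpr hw)⟩

end Finite

end Groth.Agent.Lib.EffDescH52
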