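import Groth.Agent.Lib.EffDescGlueH52
import Groth.Agent.Lib.EffDescEtFFH52

/-!
# Gluing of effective open pieces of a descent datum along a universally submersive morphism
(helper52)

The analogue of `EffDescGlueH52` (fpqc case) for a universally submersive `p : X ⟶ S` and pieces
which are canonical descent data of ÉTALE `S`-schemes:

`Subm.exists_iso_of_openCover hp ζ hcov`: `D : Desc.SchDD p`, `ζ i : Sec D (U₀ i)` sections with
`(ζ i).t : U₀ i ⟶ S` étale, whose underlying morphisms `X ×_S U₀ i ⟶ V` are open immersions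
jointly covering `V`. Then `D ≅ toDD p U` for an étale `U` over `S`.
(The functor of sections is a Zariski sheaf, the `secHom (ζ i)` are relatively representable open
immersions covering it: the locus where a section factors through `ζ i` is open because `p` is
universally submersive, and the factorisation exists by SGA 1 IX 3.2, `EffDescEtFFH52`.)
`Subm.exists_iso_of_forall_exists_open` is the form with open sub-descent data.
-/

set_option autoImplicit false
set_option linter.style.haveILetI false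
set_option backward.isDefEq.respectTransparency false
set_option backward.isDefEq.respectTransparency.types false

universe u

open CategoryTheory CategoryTheory.Limits AlgebraicGeometry Opposite

namespace Groth.Agent.Lib.EffDescH52

open Desc Groth.Agent.Lib.SubmDescH52

namespace Subm

variable {X S : Scheme.{u}} {p : X ⟶ S}

section Locus

variable (hp : SGA1.UnivSubmersive p) {D : SchDD p} {T U₀ : Scheme.{u}} (ξ : Sec D T)
  (ζ : Sec D U₀) [IsOpenImmersion ζ.map]

/-- The open locus of `T` over which `ξ` factors through `ζ`. -/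
noncomputable def locus : T.Opens :=
  ⟨pullback.snd p ξ.t '' (preLocus ξ ζ : Set ↥(pullback p ξ.t)), by
    have hq : Topology.IsQuotientMap (pullback.snd p ξ.t) := isQuotientMap_snd hp ξ.t
    rw [← hq.isOpen_preimage]
    convert (preLocus ξ ζ).2 using 1
    ext z
    constructor
    · rintro ⟨z₀, hz₀, h⟩
      exact mem_preLocus_of_snd_eq ξ ζ z₀ z hz₀ h
    · intro hz
      exact ⟨z, hz, rfl⟩⟩

theorem preimage_locus : pullback.snd p ξ.t ⁻¹ᵁ locus hp ξ ζ = preLocus ξ ζ := by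
  ext z
  constructor
  · rintro ⟨z₀, hz₀, h⟩
    exact mem_preLocus_of_snd_eq ξ ζ z₀ z hz₀ h
  · intro hz
    exact ⟨z, hz, rfl⟩

/-- The inclusion of the locus. -/
noncomputable abbrev locusι : (locus hp ξ ζ).toScheme ⟶ T := (locus hp ξ ζ).ι

theorem range_res_locus_map :
    Set.range (ξ.res (locusι hp ξ ζ)).map ⊆ Set.range ζ.map := by
  rintro _ ⟨z', rfl⟩
  have e : (ξ.res (locusι hp ξ ζ)).map =
      pullback.map p (locusι hp ξ ζ ≫ ξ.t) p ξ.t (𝟙 X) (locusι hp ξ ζ) (𝟙 S)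
      (by simp) (by simp) ≫ ξ.map := rfl
  rw [e, Scheme.Hom.comp_apply]
  set z := pullback.map p (locusι hp ξ ζ ≫ ξ.t) p ξ.t (𝟙 X) (locusι hp ξ ζ) (𝟙 S)
    (by simp) (by simp) z' with hz
  have h1 : pullback.snd p ξ.t z =
      locusι hp ξ ζ (pullback.snd p (locusι hp ξ ζ ≫ ξ.t) z') := by
    rw [hz, ← Scheme.Hom.comp_apply, ← Scheme.Hom.comp_apply, pullback.lift_snd]
  have h2 : z ∈ pullback.snd p ξ.t ⁻¹ᵁ locus hp ξ ζ := by
    change pullback.snd p ξ.t z ∈ locus hp ξ ζ
    rw [h1]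
    exact (pullback.snd p (locusι hp ξ ζ ≫ ξ.t) z').2
  rw [preimage_locus] at h2
  exact h2

theorem exists_locusMap [Etale ζ.t] :
    ∃ g₀ : (locus hp ξ ζ).toScheme ⟶ U₀, ζ.res g₀ = ξ.res (locusι hp ξ ζ) := by
  let l : pullback p (locusι hp ξ ζ ≫ ξ.t) ⟶ pullback p ζ.t :=
    IsOpenImmersion.lift ζ.map (ξ.res (locusι hp ξ ζ)).map (range_res_locus_map hp ξ ζ)
  have hl : l ≫ ζ.map = (ξ.res (locusι hp ξ ζ)).map := IsOpenImmersion.lift_fac _ _ _
  haveI : Mono ζ.a.hom.left := inferInstanceAs (Mono ζ.map)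
  obtain ⟨b, hb⟩ := exists_hom_of_fac (ξ.res (locusι hp ξ ζ)).a ζ.a l hl
  obtain ⟨g₀, hw, e2⟩ : ∃ (g₀ : (locus hp ξ ζ).toScheme ⟶ U₀)
      (hw : g₀ ≫ ζ.t = locusι hp ξ ζ ≫ ξ.t),
      l = pullback.map p (locusι hp ξ ζ ≫ ξ.t) p ζ.t (𝟙 X) g₀ (𝟙 S) (by simp)
        (by simp [hw]) := by
    haveI : Etale (Over.mk ζ.t).hom := inferInstanceAs (Etale ζ.t)
    obtain ⟨g', hg'⟩ := toDD_map_surjective_of_etale p hp
      (Over.mk (locusι hp ξ ζ ≫ ξ.t)) (Over.mk ζ.t) b
    refine ⟨g'.left, Over.w g', ?_⟩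
    rw [← hb, ← hg']
    rfl
  refine ⟨g₀, ?_⟩
  apply Sec.ext' (by simpa using hw)
  intro Z x y h
  have h' : x ≫ p = y ≫ locusι hp ξ ζ ≫ ξ.t := by rw [h, Sec.res_t, hw]
  have h'' : x ≫ p = (y ≫ g₀) ≫ ζ.t := by rw [h', Category.assoc, hw]
  have e0 : pullback.lift x (y ≫ g₀) h'' = pullback.lift x y h' ≫ l := by
    rw [e2]; apply pullback.hom_ext <;> simp
  calc (ζ.res g₀).ev x y h = ζ.ev x (y ≫ g₀) h'' := Sec.res_ev _ _ _ _ _
    _ = pullback.lift x (y ≫ g₀) h'' ≫ ζ.map := rfl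
    _ = (pullback.lift x y h' ≫ l) ≫ ζ.map := by rw [e0]
    _ = pullback.lift x y h' ≫ (ξ.res (locusι hp ξ ζ)).map := by rw [Category.assoc, hl]
    _ = (ξ.res (locusι hp ξ ζ)).ev x y h' := rfl

omit [IsOpenImmersion ζ.map] in
include hp in
/-- `a ↦ ζ.res a` is injective when `ζ.map` is a monomorphism and `ζ.t` is étale. -/
theorem res_injective [Mono ζ.map] [Etale ζ.t] {K : Scheme.{u}} {a₁ a₂ : K ⟶ U₀}
    (h : ζ.res a₁ = ζ.res a₂) : a₁ = a₂ := by
  haveI : Surjective p := surjective_of_univSubmersive hp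
  have ht : a₁ ≫ ζ.t = a₂ ≫ ζ.t := congrArg Sec.t h
  have e := Sec.ev_of_eq h (pullback.fst p (a₁ ≫ ζ.t)) (pullback.snd p (a₁ ≫ ζ.t))
    pullback.condition
  rw [Sec.res_ev, Sec.res_ev] at e
  have key := Sec.eq_of_ev_eq ζ _ _ _ _ _ e
  exact Groth.Agent.Lib.EtDescH52.eq_of_surjective_comp ζ.t a₁ a₂ ht
    (pullback.snd p (a₁ ≫ ζ.t)) key

theorem range_subset_locus {K : Scheme.{u}}
    (a : K ⟶ U₀) (b : K ⟶ T) (h : ζ.res a = ξ.res b) :
    Set.range b ⊆ (locus hp ξ ζ : Set ↥T) := by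
  haveI : Surjective p := surjective_of_univSubmersive hp
  rintro _ ⟨κ, rfl⟩
  obtain ⟨z', hz'⟩ := (pullback.snd p (b ≫ ξ.t)).surjective κ
  have e := Sec.ev_of_eq h.symm (pullback.fst p (b ≫ ξ.t)) (pullback.snd p (b ≫ ξ.t))
    pullback.condition
  rw [Sec.res_ev, Sec.res_ev] at e
  refine ⟨pullback.lift (pullback.fst p (b ≫ ξ.t)) (pullback.snd p (b ≫ ξ.t) ≫ b)
    (by rw [pullback.condition, Category.assoc]) z', ?_, ?_⟩
  · change ξ.map _ ∈ Set.range ζ.map
    rw [← Scheme.Hom.comp_apply]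
    change (ξ.ev _ _ _) z' ∈ _
    rw [e, Sec.ev, Scheme.Hom.comp_apply]
    exact ⟨_, rfl⟩
  · rw [← Scheme.Hom.comp_apply, pullback.lift_snd, Scheme.Hom.comp_apply, hz']

theorem isPullback_locus [Etale ζ.t]
    (g₀ : (locus hp ξ ζ).toScheme ⟶ U₀) (hg₀ : ζ.res g₀ = ξ.res (locusι hp ξ ζ)) :
    IsPullback (yoneda.map g₀) (yoneda.map (locusι hp ξ ζ)) (secHom ζ) (secHom ξ) := by
  apply IsPullback.of_forall_isPullback_app
  intro K
  rw [Types.isPullback_iff]
  refine ⟨?_, ?_, ?_⟩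
  · ext (k : K.unop ⟶ (locus hp ξ ζ).toScheme)
    change ζ.res (k ≫ g₀) = ξ.res (k ≫ locusι hp ξ ζ)
    rw [Sec.res_comp, Sec.res_comp, hg₀]
  · rintro (k : K.unop ⟶ _) (k' : K.unop ⟶ _) ⟨-, h2⟩
    change k ≫ locusι hp ξ ζ = k' ≫ locusι hp ξ ζ at h2
    exact (cancel_mono _).1 h2
  · rintro (a : K.unop ⟶ U₀) (b : K.unop ⟶ T) h
    change ζ.res a = ξ.res b at h
    let k : K.unop ⟶ (locus hp ξ ζ).toScheme :=
      IsOpenImmersion.lift (locusι hp ξ ζ) b (by
        rw [Scheme.Opens.range_ι]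
        exact range_subset_locus hp ξ ζ a b h)
    have hk : k ≫ locusι hp ξ ζ = b := IsOpenImmersion.lift_fac _ _ _
    refine ⟨k, ?_, hk⟩
    change k ≫ g₀ = a
    apply res_injective hp ζ
    rw [Sec.res_comp, hg₀, ← Sec.res_comp, hk, h]

include hp in
theorem isOpenImmersion_presheaf_secHom [Etale ζ.t] :
    IsOpenImmersion.presheaf (secHom ζ) := by
  apply MorphismProperty.relative.of_exists
  intro T g
  obtain ⟨ξ, rfl⟩ := exists_eq_secHom g
  obtain ⟨g₀, hg₀⟩ := exists_locusMap hp ξ ζ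
  exact ⟨_, yoneda.map g₀, locusι hp ξ ζ, isPullback_locus hp ξ ζ g₀ hg₀, inferInstance⟩

end Locus

section Main

variable (hp : SGA1.UnivSubmersive p) {D : SchDD p}

/-- If `ε` is a universal section and `ζ` a section with `ζ.map` an open immersion and `ζ.t`
étale, the classifying morphism of `ζ` is an open immersion onto `locus ε ζ`, and `ε.map` is an
isomorphism over the image of `ζ.map`. -/
theorem universal_aux {U U₀ : Scheme.{u}} (ε : Sec D U)
    (huniv : ∀ {T : Scheme.{u}} (ξ : Sec D T), ∃! g : T ⟶ U, ε.res g = ξ)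
    (ζ : Sec D U₀) [IsOpenImmersion ζ.map] [Etale ζ.t] (m : U₀ ⟶ U) (hm : ε.res m = ζ) :
    IsOpenImmersion m ∧ Set.range m = (locus hp ε ζ : Set ↥U) ∧
      IsIso (pullback.snd ε.map ζ.map) := by
  obtain ⟨g₀, hg₀⟩ := exists_locusMap hp ε ζ
  have hsub : Set.range m ⊆ (locus hp ε ζ : Set ↥U) :=
    range_subset_locus hp ε ζ (𝟙 _) m (by rw [Sec.res_id, hm])
  let k : U₀ ⟶ (locus hp ε ζ).toScheme := IsOpenImmersion.lift (locusι hp ε ζ) m (by
    rw [Scheme.Opens.range_ι]; exact hsub)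
  have hk : k ≫ locusι hp ε ζ = m := IsOpenImmersion.lift_fac _ _ _
  have h1 : k ≫ g₀ = 𝟙 _ := by
    apply res_injective hp ζ
    rw [Sec.res_comp, hg₀, ← Sec.res_comp, hk, hm, Sec.res_id]
  have h2 : g₀ ≫ k = 𝟙 _ := by
    rw [← cancel_mono (locusι hp ε ζ), Category.assoc, hk, Category.id_comp]
    obtain ⟨g', -, hg'⟩ := huniv (ε.res (locusι hp ε ζ))
    rw [hg' (g₀ ≫ m) (by change ε.res (g₀ ≫ m) = _; rw [Sec.res_comp, hm, hg₀]),
      hg' (locusι hp ε ζ) rfl]
  haveI : IsIso g₀ := ⟨k, h2, h1⟩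
  haveI : IsIso k := ⟨g₀, h1, h2⟩
  refine ⟨?_, ?_, ?_⟩
  · rw [← hk]; infer_instance
  · rw [← hk, Scheme.Hom.comp_base, TopCat.coe_comp, Set.range_comp,
      Set.range_eq_univ.mpr k.surjective, Set.image_univ, Scheme.Opens.range_ι]
  -- the pullback square
  have hw : g₀ ≫ ζ.t = locusι hp ε ζ ≫ ε.t := congrArg Sec.t hg₀
  let j : pullback p (locusι hp ε ζ ≫ ε.t) ⟶ pullback p ε.t :=
    pullback.map p (locusι hp ε ζ ≫ ε.t) p ε.t (𝟙 X) (locusι hp ε ζ) (𝟙 S) (by simp) (by simp)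
  let θ : pullback p (locusι hp ε ζ ≫ ε.t) ⟶ pullback p ζ.t :=
    pullback.map p (locusι hp ε ζ ≫ ε.t) p ζ.t (𝟙 X) g₀ (𝟙 S) (by simp) (by simp [hw])
  haveI : IsIso θ := by
    dsimp only [θ]; infer_instance
  have H : j ≫ ε.map = θ ≫ ζ.map := by
    have e := Sec.ev_of_eq hg₀.symm (pullback.fst p (locusι hp ε ζ ≫ ε.t))
      (pullback.snd p (locusι hp ε ζ ≫ ε.t)) pullback.condition
    rw [Sec.res_ev, Sec.res_ev] at e
    have e1 : ε.ev (pullback.fst p (locusι hp ε ζ ≫ ε.t))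
        (pullback.snd p (locusι hp ε ζ ≫ ε.t) ≫ locusι hp ε ζ)
        (by rw [pullback.condition, Category.assoc]) = j ≫ ε.map := by
      rw [Sec.ev]; congr 1
    have e2 : ζ.ev (pullback.fst p (locusι hp ε ζ ≫ ε.t))
        (pullback.snd p (locusι hp ε ζ ≫ ε.t) ≫ g₀)
        (by rw [pullback.condition, Category.assoc, hw]) = θ ≫ ζ.map := by
      rw [Sec.ev]; congr 1
    rw [← e1, ← e2]
    exact e
  have H' : ε.map ⁻¹ᵁ ζ.map.opensRange = j.opensRange := by
    have : ε.map ⁻¹ᵁ ζ.map.opensRange = preLocus ε ζ := rfl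
    rw [this, ← preimage_locus hp]
    apply TopologicalSpace.Opens.ext
    change _ = Set.range j
    dsimp only [j]
    rw [Scheme.Pullback.range_map]
    simp
  have sq := IsOpenImmersion.isPullback θ j ζ.map ε.map H H'
  have e3 : sq.flip.isoPullback.hom ≫ pullback.snd ε.map ζ.map = θ := sq.flip.isoPullback_hom_snd
  have : pullback.snd ε.map ζ.map = sq.flip.isoPullback.inv ≫ θ :=
    (Iso.eq_inv_comp _).2 e3
  rw [this]
  infer_instance

variable {ι : Type u} {U₀ : ι → Scheme.{u}} (ζ : ∀ i, Sec D (U₀ i))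
  [hζ : ∀ i, IsOpenImmersion (ζ i).map] [hét : ∀ i, Etale (ζ i).t]
  (hcov : ∀ v : D.obj.left, ∃ i, v ∈ Set.range (ζ i).map)

include hp hcov in
theorem isLocallySurjective_sigmaDesc_secHom :
    Presheaf.IsLocallySurjective Scheme.zariskiTopology
      (Sigma.desc (fun i => (secHom (ζ i) : yoneda.obj (U₀ i) ⟶ (secSheaf D).1))) := by
  haveI : Surjective p := surjective_of_univSubmersive hp
  refine ⟨fun {T} (ξ : Sec D T) => ?_⟩
  rw [Scheme.mem_grothendieckTopology_iff]
  have hex : ∀ i, ∃ g₀ : (locus hp ξ (ζ i)).toScheme ⟶ U₀ i,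
      (ζ i).res g₀ = ξ.res (locusι hp ξ (ζ i)) := fun i => exists_locusMap hp ξ (ζ i)
  choose g₀ hg₀ using hex
  let 𝒰 : T.OpenCover :=
    { I₀ := ι
      X := fun i => (locus hp ξ (ζ i)).toScheme
      f := fun i => locusι hp ξ (ζ i)
      mem₀ := by
        rw [Scheme.presieve₀_mem_precoverage_iff]
        refine ⟨fun x => ?_, inferInstance⟩
        obtain ⟨z, hz⟩ := (pullback.snd p ξ.t).surjective x
        obtain ⟨i, hi⟩ := hcov (ξ.map z)
        refine ⟨i, ?_⟩
        rw [Scheme.Opens.range_ι]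
        exact ⟨z, hi, hz⟩ }
  refine ⟨𝒰, ?_⟩
  rintro _ _ ⟨i⟩
  refine ⟨(Sigma.ι (fun i => yoneda.obj (U₀ i)) i).app _ (g₀ i), ?_⟩
  have h1 : Sigma.ι (fun i => yoneda.obj (U₀ i)) i ≫
      Sigma.desc (fun i => (secHom (ζ i) : yoneda.obj (U₀ i) ⟶ (secSheaf D).1)) = secHom (ζ i) :=
    Sigma.ι_desc _ _
  have h2 := congrArg (fun φ => φ.app (op (locus hp ξ (ζ i)).toScheme) (g₀ i)) h1
  simp only [NatTrans.comp_app] at h2
  refine Eq.trans ?_ (h2.trans ?_)
  · rfl
  · exact hg₀ i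

include hp hcov in
/-- **Gluing of effective étale open pieces along a universally submersive morphism.** If `V` is
covered by the images of sections of `D` over étale `S`-schemes which are open immersions, then
`D` is the canonical descent datum of an étale `S`-scheme. -/
theorem exists_iso_of_openCover :
    ∃ U : Over S, Etale U.hom ∧ Nonempty ((toDD p).obj U ≅ D) := by
  haveI : Surjective p := surjective_of_univSubmersive hp
  have hf : ∀ i, IsOpenImmersion.presheaf
      (secHom (ζ i) : yoneda.obj (U₀ i) ⟶ (secSheaf D).1) :=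
    fun i => isOpenImmersion_presheaf_secHom hp (ζ i)
  have hls := isLocallySurjective_sigmaDesc_secHom hp ζ hcov
  let R := @Scheme.LocalRepresentability.representableBy (secSheaf D) ι U₀
    (fun i => (secHom (ζ i) : yoneda.obj (U₀ i) ⟶ (secSheaf D).1)) hf hls
  let U := (Scheme.LocalRepresentability.glueData (F := secSheaf D)
    (f := fun i => (secHom (ζ i) : yoneda.obj (U₀ i) ⟶ (secSheaf D).1)) hf).glued
  let ε : Sec D U := R.homEquiv (𝟙 U)
  have hε : ∀ {T : Scheme.{u}} (g : T ⟶ U), R.homEquiv g = ε.res g := fun g => R.homEquiv_eq g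
  have huniv : ∀ {T : Scheme.{u}} (ξ : Sec D T), ∃! g : T ⟶ U, ε.res g = ξ := by
    intro T ξ
    refine ⟨R.homEquiv.symm ξ, ?_, fun g hg => ?_⟩
    · change ε.res _ = ξ
      rw [← hε, Equiv.apply_symm_apply]
    · apply R.homEquiv.injective
      rw [Equiv.apply_symm_apply, hε, hg]
  choose m hm _ using fun i => huniv (ζ i)
  have haux := fun i => universal_aux hp ε huniv (ζ i) (m i) (hm i)
  let 𝒱 : D.obj.left.OpenCover :=
    { I₀ := ι
      X := fun i => pullback p (ζ i).t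
      f := fun i => (ζ i).map
      mem₀ := by
        rw [Scheme.presieve₀_mem_precoverage_iff]
        exact ⟨hcov, inferInstance⟩ }
  have hiso : IsIso ε.map := by
    apply IsZariskiLocalAtTarget.of_openCover (P := MorphismProperty.isomorphisms Scheme) 𝒱
    intro i
    exact (haux i).2.2
  haveI : IsIso ε.a.hom.left := hiso
  haveI := isIso_of_isIso_left ε.a
  -- `U` is étale over `S`
  haveI : ∀ i, IsOpenImmersion (m i) := fun i => (haux i).1
  let 𝒰 : U.OpenCover :=
    { I₀ := ι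
      X := U₀
      f := m
      mem₀ := by
        rw [Scheme.presieve₀_mem_precoverage_iff]
        refine ⟨fun u => ?_, inferInstance⟩
        obtain ⟨z, hz⟩ := (pullback.snd p ε.t).surjective u
        obtain ⟨i, hi⟩ := hcov (ε.map z)
        refine ⟨i, ?_⟩
        rw [(haux i).2.1]
        exact ⟨z, hi, hz⟩ }
  have hét' : Etale ε.t := by
    apply IsZariskiLocalAtSource.of_openCover (P := @Etale) 𝒰
    intro i
    have e : m i ≫ ε.t = (ζ i).t := by
      have := congrArg Sec.t (hm i)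
      rwa [Sec.res_t] at this
    change Etale (m i ≫ ε.t)
    rw [e]
    infer_instance
  exact ⟨Over.mk ε.t, hét', ⟨asIso ε.a⟩⟩

end Main

/-- **Source-local effectivity for étale pieces.** A descent datum relative to a universally
submersive morphism which is covered by open sub-descent data that are canonical descent data of
étale `S`-schemes is the canonical descent datum of an étale `S`-scheme. -/
theorem exists_iso_of_forall_exists_open (hp : SGA1.UnivSubmersive p) (D : SchDD p)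
    (h : ∀ v : D.obj.left, ∃ (D' : SchDD p) (j : D' ⟶ D), IsOpenImmersion j.hom.left ∧
      v ∈ Set.range j.hom.left ∧ ∃ U' : Over S, Etale U'.hom ∧ Nonempty ((toDD p).obj U' ≅ D')) :
    ∃ U : Over S, Etale U.hom ∧ Nonempty ((toDD p).obj U ≅ D) := by
  choose D' j hj hv U' hU' e using h
  let ζ : ∀ v : D.obj.left, Sec D (U' v).left := fun v => Sec.ofHom (U' v) ((e v).some.hom ≫ j v)
  have hmap : ∀ v, (ζ v).map = (e v).some.hom.hom.left ≫ (j v).hom.left := fun v => rfl
  haveI : ∀ v, IsIso (e v).some.hom.hom.left := fun v => isIso_left_of_isIso _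
  haveI : ∀ v, IsOpenImmersion (j v).hom.left := hj
  haveI hζ : ∀ v, IsOpenImmersion (ζ v).map := fun v => by rw [hmap]; infer_instance
  haveI hét : ∀ v, Etale (ζ v).t := fun v => hU' v
  refine exists_iso_of_openCover hp ζ (fun v => ⟨v, ?_⟩)
  obtain ⟨w, hw⟩ := hv v
  refine ⟨inv (e v).some.hom.hom.left w, ?_⟩
  have hw' : (e v).some.hom.hom.left (inv (e v).some.hom.hom.left w) = w := by
    rw [← Scheme.Hom.comp_apply, IsIso.inv_hom_id]; rfl
  rw [hmap]
  change (j v).hom.left ((e v).some.hom.hom.left (inv (e v).some.hom.hom.left w)) = v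
  rw [hw', hw]

end Subm

end Groth.Agent.Lib.EffDescH52
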