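import Groth.Agent.Lib.EffDescHenselLocalH52

/-!
# Sections of étale descent data through rational points of the closed fibre: the general
chart form (helper52)

`B` henselian local with algebraically closed residue field `k`, `p : X ⟶ Spec B` locally of finite
type, `D` a descent datum relative to `p` with étale `V ⟶ X`.  Suppose given finitely many finite
local `B`-algebras `R_i` with `B`-morphisms `c_i : Spec R_i ⟶ X` such that the `Spec R_i` jointly
cover `Spec B`.  Then every `k`-point of `V` over the closed point of `Spec B` lies on an invariant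
section of `V ⟶ X` (`exists_isInvSection_of_charts`).
Also `exists_kpoint_specializes`: every point over the closed point specializes to a `k`-rational
point.
-/

set_option autoImplicit false
set_option linter.style.haveILetI false
set_option backward.isDefEq.respectTransparency false
set_option backward.isDefEq.respectTransparency.types false

universe u

open CategoryTheory CategoryTheory.Limits AlgebraicGeometry Opposite IsLocalRing

namespace Groth.Agent.Lib.EffDescH52

open Desc Groth.Agent.Lib.SubmDescH52 Groth.Agent.Lib.HenselKPointH52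
  Groth.Agent.Lib.SubmFamilyH52

section KPoint

variable {B : Type u} [CommRing B] [IsLocalRing B] [IsAlgClosed (ResidueField B)]

/-- Every point over the closed point specializes to a `k`-rational point. -/
theorem exists_kpoint_specializes {Y : Scheme.{u}} (q : Y ⟶ Spec (CommRingCat.of B))
    [LocallyOfFiniteType q] (y : Y) (hy : q y = closedPoint B) :
    ∃ yt : Spec (CommRingCat.of (ResidueField B)) ⟶ Y, yt ≫ q = kpt B ∧
      ∀ z, y ⤳ yt z := by
  let f : pullback q (kpt B) ⟶ Spec (CommRingCat.of (ResidueField B)) := pullback.snd q (kpt B)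
  obtain ⟨y', hy'1, -⟩ := Scheme.Pullback.exists_preimage_pullback (f := q) (g := kpt B) y
    (closedPoint (ResidueField B)) (by rw [hy, kpt_apply])
  haveI : JacobsonSpace ↥(pullback q (kpt B)) := LocallyOfFiniteType.jacobsonSpace f
  have hne : (closure ({y'} : Set ↥(pullback q (kpt B))) ∩
      closedPoints ↥(pullback q (kpt B))).Nonempty := by
    by_contra hcon
    rw [Set.not_nonempty_iff_eq_empty] at hcon
    have h1 := closure_inter_closedPoints (X := ↥(pullback q (kpt B)))
      (isClosed_closure (s := ({y'} : Set ↥(pullback q (kpt B)))))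
    rw [hcon, closure_empty] at h1
    exact (Set.singleton_nonempty y').ne_empty
      (Set.subset_eq_empty subset_closure h1.symm)
  obtain ⟨y'', hy''1, hy''2⟩ := hne
  have hcl : IsClosed ({y''} : Set ↥(pullback q (kpt B))) := hy''2
  refine ⟨pointOfClosedPoint f y'' hcl ≫ pullback.fst q (kpt B), ?_, fun z => ?_⟩
  · rw [Category.assoc, pullback.condition, ← Category.assoc, pointOfClosedPoint_comp,
      Category.id_comp]
  · rw [Scheme.Hom.comp_apply, pointOfClosedPoint_apply, ← hy'1]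
    exact (specializes_iff_mem_closure.mpr hy''1).map (pullback.fst q (kpt B)).continuous

end KPoint

section Charts

variable (B : Type u) [CommRing B] [IsLocalRing B] {X : Scheme.{u}}
  (p : X ⟶ Spec (CommRingCat.of B))

/-- A finite local `B`-algebra with a `B`-morphism from its spectrum to `X`. -/
structure FinChart where
  /-- the ring -/
  R : Type u
  [cr : CommRing R]
  [alg : Algebra B R]
  [fin : Module.Finite B R]
  [loc : IsLocalRing R]
  /-- the chart -/
  c : Spec (CommRingCat.of R) ⟶ X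
  fac : c ≫ p = Spec.map (CommRingCat.ofHom (algebraMap B R))

attribute [instance] FinChart.cr FinChart.alg FinChart.fin FinChart.loc

end Charts

section Main

variable (B : Type u) [CommRing B] [IsLocalRing B]
  (hB : HenselianLocalRing B) [IsAlgClosed (ResidueField B)]
  {X : Scheme.{u}} (p : X ⟶ Spec (CommRingCat.of B))
  (D : SchDD p) [Etale D.obj.hom]
  {ι : Type u} [Finite ι] (ch : ι → FinChart B p)
  (hsurj : ∀ s : ↥(Spec (CommRingCat.of B)),
    ∃ i, s ∈ Set.range (Spec.map (CommRingCat.ofHom (algebraMap B (ch i).R))))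

include hB hsurj in
theorem exists_isInvSection_of_charts
    (vt : Spec (CommRingCat.of (ResidueField B)) ⟶ D.obj.left)
    (hvt : vt ≫ D.obj.hom ≫ p = kpt B) :
    ∃ m : X ⟶ D.obj.left, IsInvSection D m ∧ (vt ≫ D.obj.hom) ≫ m = vt := by
  classical
  let k := ResidueField B
  let Ω : Scheme.{u} := Spec (CommRingCat.of k)
  let o : Ω := closedPoint k
  have ho : ∀ o' : Ω, o' = o := fun o' => Subsingleton.elim (α := PrimeSpectrum k) _ _
  let π : D.obj.left ⟶ X := D.obj.hom
  let Y : ι → Scheme.{u} := fun i => Spec (CommRingCat.of (ch i).R)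
  let j : ∀ i, Y i ⟶ X := fun i => (ch i).c
  let a : ∀ i, Y i ⟶ Spec (CommRingCat.of B) :=
    fun i => Spec.map (CommRingCat.ofHom (algebraMap B (ch i).R))
  have hja : ∀ i, j i ≫ p = a i := fun i => (ch i).fac
  let c : ∐ Y ⟶ X := Sigma.desc j
  have hιc : ∀ i, Sigma.ι Y i ≫ c = j i := fun i => Sigma.ι_desc _ _
  have hcp : c ≫ p = Sigma.desc a := by
    apply Sigma.hom_ext
    intro i
    rw [Sigma.ι_desc_assoc, Sigma.ι_desc]
    exact hja i
  haveI hfin : ∀ i, IsFinite (a i) := fun i => by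
    rw [IsFinite.SpecMap_iff]
    exact RingHom.finite_algebraMap.mpr inferInstance
  haveI : UniversallyClosed (c ≫ p) := by
    rw [hcp]
    exact universallyClosed_sigmaDesc Y a
  haveI : LocallyOfFiniteType (c ≫ p) := by
    rw [hcp]
    exact IsZariskiLocalAtSource.sigmaDesc (fun i => inferInstance)
  haveI : LocallyQuasiFinite (c ≫ p) := by
    rw [hcp]
    exact IsZariskiLocalAtSource.sigmaDesc (fun i => inferInstance)
  have hsub : SGA1.UnivSubmersive (c ≫ p) := by
    rw [hcp]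
    exact univSubmersive_sigmaDesc Y a hsurj
  -- the canonical `k`-points of the charts
  have haclosed : ∀ i, a i (closedPoint (ch i).R) = closedPoint B := by
    intro i
    have hmax : ((maximalIdeal (ch i).R).comap (algebraMap B (ch i).R)).IsMaximal :=
      Ideal.isMaximal_comap_of_isIntegral_of_isMaximal (R := B) (maximalIdeal (ch i).R)
    apply PrimeSpectrum.ext
    exact IsLocalRing.eq_maximalIdeal hmax
  have hw : ∀ i, ∃ w : Ω ⟶ Y i, w ≫ a i = kpt B ∧ ∀ z, w z = closedPoint (ch i).R :=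
    fun i => exists_kpoint (a i) (closedPoint (ch i).R) (haclosed i)
  choose w hwa hwpt using hw
  let xt : ∀ i, Ω ⟶ X := fun i => w i ≫ j i
  have hxt1 : ∀ i, xt i ≫ p = kpt B := fun i => by
    rw [Category.assoc, hja, hwa]
  -- the transported `k`-points
  have hvx : ∀ i : ι, (vt ≫ π) ≫ p = xt i ≫ p := fun i => by
    rw [Category.assoc, hvt, hxt1]
  let vx : ∀ i : ι, Ω ⟶ D.obj.left := fun i => tr D (vt ≫ π) (xt i) (hvx i) vt rfl
  have hvxπ : ∀ i, vx i ≫ π = xt i := fun i => tr_hom D _ _ _ _ _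
  have hxx : ∀ i i' : ι, xt i ≫ p = xt i' ≫ p := fun i i' => by rw [hxt1, hxt1]
  have hvx_coc : ∀ i i', tr D (xt i) (xt i') (hxx i i') (vx i) (hvxπ i) = vx i' :=
    fun i i' => tr_comp D _ _ _ _ _ _ _
  -- sections over the charts
  have hm : ∀ i : ι, ∃ mx : Y i ⟶ D.obj.left, mx ≫ π = j i ∧ w i ≫ mx = vx i := by
    intro i
    let f : pullback π (j i) ⟶ Y i := pullback.snd π (j i)
    let t : Ω ⟶ pullback π (j i) := pullback.lift (vx i) (w i) (by rw [hvxπ])
    obtain ⟨s, hs1, hs2⟩ := exists_section_through hB f (w i) (hwa i) t (pullback.lift_snd _ _ _)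
    refine ⟨s ≫ pullback.fst π (j i), ?_, ?_⟩
    · rw [Category.assoc, pullback.condition, ← Category.assoc, hs1, Category.id_comp]
    · rw [← Category.assoc, hs2, pullback.lift_fst]
  choose mx hmx1 hmx2 using hm
  let m₁ : ∐ Y ⟶ D.obj.left := Sigma.desc mx
  have hιm : ∀ i, Sigma.ι Y i ≫ m₁ = mx i := fun i => Sigma.ι_desc _ _
  have hm₁ : m₁ ≫ π = c := by
    apply Sigma.hom_ext
    intro i
    rw [Sigma.ι_desc_assoc, Sigma.ι_desc]
    exact hmx1 i
  -- the `k`-points of the coproduct of the charts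
  have hkpt : ∀ y : Ω ⟶ ∐ Y, y ≫ c ≫ p = kpt B → ∃ i, y = w i ≫ Sigma.ι Y i := by
    intro y hy
    obtain ⟨i, z, hz⟩ := (sigmaOpenCover Y).exists_eq (y o)
    have hr : Set.range y ⊆ Set.range (Sigma.ι Y i) := by
      rintro _ ⟨o', rfl⟩
      rw [ho o']
      exact ⟨z, hz⟩
    let y' : Ω ⟶ Y i := IsOpenImmersion.lift (Sigma.ι Y i) y hr
    have hy' : y' ≫ Sigma.ι Y i = y := IsOpenImmersion.lift_fac _ _ _
    have hy'a : y' ≫ a i = kpt B := by
      rw [← hy, ← hy', Category.assoc, ← hja, ← Category.assoc (Sigma.ι Y i), hιc]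
    refine ⟨i, ?_⟩
    rw [← hy']
    congr 1
    apply kpoint_ext (a i) y' (w i) hy'a (hwa i)
    rw [kpoint_apply_eq_closedPoint y' hy'a, hwpt]
  -- compatibility
  have hcompat : tr D (pullback.fst (c ≫ p) (c ≫ p) ≫ c) (pullback.snd (c ≫ p) (c ≫ p) ≫ c)
      (by rw [Category.assoc, Category.assoc, pullback.condition])
      (pullback.fst (c ≫ p) (c ≫ p) ≫ m₁) (by rw [Category.assoc, hm₁]) =
        pullback.snd (c ≫ p) (c ≫ p) ≫ m₁ := by
    let pr₁ : pullback (c ≫ p) (c ≫ p) ⟶ ∐ Y := pullback.fst (c ≫ p) (c ≫ p)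
    let pr₂ : pullback (c ≫ p) (c ≫ p) ⟶ ∐ Y := pullback.snd (c ≫ p) (c ≫ p)
    have hpr : pr₁ ≫ c ≫ p = pr₂ ≫ c ≫ p := pullback.condition
    have h01 : (pr₁ ≫ c) ≫ p = (pr₂ ≫ c) ≫ p := by
      rw [Category.assoc, Category.assoc, hpr]
    let α : pullback (c ≫ p) (c ≫ p) ⟶ D.obj.left :=
      tr D (pr₁ ≫ c) (pr₂ ≫ c) h01 (pr₁ ≫ m₁) (by rw [Category.assoc, hm₁])
    let β : pullback (c ≫ p) (c ≫ p) ⟶ D.obj.left := pr₂ ≫ m₁
    have hαβ : α ≫ π = β ≫ π := by
      rw [tr_hom, Category.assoc, hm₁]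
    change α = β
    apply Groth.Agent.Lib.EtDescH52.eq_of_eqLocus_eq_top π α β hαβ
    rw [eq_top_iff]
    intro z _
    let qP : pullback (c ≫ p) (c ≫ p) ⟶ Spec (CommRingCat.of B) := pr₁ ≫ c ≫ p
    haveI : UniversallyClosed qP := inferInstanceAs (UniversallyClosed (pr₁ ≫ c ≫ p))
    haveI : LocallyOfFiniteType qP := inferInstanceAs (LocallyOfFiniteType (pr₁ ≫ c ≫ p))
    haveI : LocallyQuasiFinite qP := inferInstanceAs (LocallyQuasiFinite (pr₁ ≫ c ≫ p))
    obtain ⟨z₀, hzz₀, hz₀⟩ := exists_specializes_closedFibre qP qP.isClosedMap z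
    suffices hmem : z₀ ∈ (Groth.Agent.Lib.EtDescH52.eqLocus π α β hαβ : Set _) from
      hzz₀.mem_open (Groth.Agent.Lib.EtDescH52.eqLocus π α β hαβ).2 hmem
    obtain ⟨zt, hzt1, hzt2⟩ := exists_kpoint qP z₀ hz₀
    have hy₀ : (zt ≫ pr₁) ≫ c ≫ p = kpt B := by rw [Category.assoc]; exact hzt1
    have hy₁ : (zt ≫ pr₂) ≫ c ≫ p = kpt B := by rw [Category.assoc, ← hpr]; exact hzt1
    obtain ⟨i, hi⟩ := hkpt _ hy₀
    obtain ⟨i', hi'⟩ := hkpt _ hy₁
    have e1 : zt ≫ pr₁ ≫ c = xt i := by
      rw [← Category.assoc, hi, Category.assoc, hιc]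
    have e2 : zt ≫ pr₂ ≫ c = xt i' := by
      rw [← Category.assoc, hi', Category.assoc, hιc]
    have e3 : zt ≫ pr₁ ≫ m₁ = vx i := by
      rw [← Category.assoc, hi, Category.assoc, hιm, hmx2]
    have e4 : zt ≫ pr₂ ≫ m₁ = vx i' := by
      rw [← Category.assoc, hi', Category.assoc, hιm, hmx2]
    have hzαβ : zt ≫ α = zt ≫ β := by
      change zt ≫ tr D (pr₁ ≫ c) (pr₂ ≫ c) h01 (pr₁ ≫ m₁) _ = zt ≫ pr₂ ≫ m₁
      rw [tr_nat, e4, ← hvx_coc i i']
      exact tr_congr D e1 e2 e3 _ _
    exact Groth.Agent.Lib.EtDescH52.range_subset_eqLocus π α β hαβ zt hzαβ ⟨o, hzt2 o⟩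
  obtain ⟨m, hm, hcm⟩ := exists_isInvSection_of_refinement c hsub D m₁ hm₁ hcompat
  refine ⟨m, hm, ?_⟩
  obtain ⟨i₀, -⟩ := hsurj (closedPoint B)
  obtain ⟨hmπ, hminv⟩ := hm
  have e5 : xt i₀ ≫ m = vx i₀ := by
    change (w i₀ ≫ j i₀) ≫ m = vx i₀
    rw [Category.assoc, ← hιc, Category.assoc, hcm, hιm, hmx2]
  have e6 := hminv (xt i₀) (vt ≫ π) (hvx i₀).symm
  rw [← e6]
  refine Eq.trans (tr_congr D rfl rfl e5 _ _) ?_
  change tr D (xt i₀) (vt ≫ π) _ (tr D (vt ≫ π) (xt i₀) (hvx i₀) vt rfl) _ = vt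
  rw [tr_comp, tr_self]

end Main

end Groth.Agent.Lib.EffDescH52
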