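import Groth.Agent.Lib.EtDescH52

set_option autoImplicit false
universe u
open CategoryTheory CategoryTheory.Limits AlgebraicGeometry Topology

namespace Groth.Agent.Lib.EtDescH52

/-- a section of a morphism with open diagonal is an open immersion -/
theorem isOpenImmersion_of_section {Y T : Scheme.{u}} (r : Y ⟶ T)
    [IsOpenImmersion (pullback.diagonal r)] (τ : T ⟶ Y) (h : τ ≫ r = 𝟙 T) :
    IsOpenImmersion τ := by
  have hle : MorphismProperty.HasOfPostcompProperty @IsOpenImmersion
      (MorphismProperty.diagonal @IsOpenImmersion) :=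
    (MorphismProperty.hasOfPostcompProperty_iff_le_diagonal).mpr le_rfl
  exact MorphismProperty.of_postcomp (W := @IsOpenImmersion)
    (W' := MorphismProperty.diagonal @IsOpenImmersion) τ r ‹_› (by rw [h]; infer_instance)

/-- two sections of a morphism with open diagonal with nested ranges are equal -/
theorem section_ext_of_range {Y T : Scheme.{u}} (r : Y ⟶ T)
    [IsOpenImmersion (pullback.diagonal r)] (τ₁ τ₂ : T ⟶ Y) (h₁ : τ₁ ≫ r = 𝟙 T)
    (h₂ : τ₂ ≫ r = 𝟙 T) (hr : Set.range τ₂ ⊆ Set.range τ₁) : τ₂ = τ₁ := by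
  have := isOpenImmersion_of_section r τ₁ h₁
  let e := IsOpenImmersion.lift τ₁ τ₂ hr
  have he : e ≫ τ₁ = τ₂ := IsOpenImmersion.lift_fac _ _ _
  have : e = 𝟙 T := by
    have h3 := congrArg (· ≫ r) he
    simp only [Category.assoc, h₁, h₂, Category.comp_id] at h3
    exact h3
  rw [← he, this, Category.id_comp]

/-- étale morphisms are locally quasi-finite -/
theorem locallyQuasiFinite_of_etale {X Y : Scheme.{u}} (f : X ⟶ Y) [Etale f] :
    LocallyQuasiFinite f := by
  rw [HasRingHomProperty.iff_appLE (P := @LocallyQuasiFinite)]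
  intro U V e
  have h : (f.appLE U V e).hom.Etale := HasRingHomProperty.appLE (P := @Etale) f inferInstance U V e
  algebraize [(f.appLE U V e).hom]
  show Algebra.QuasiFinite _ _
  infer_instance

/-- a scheme étale over the spectrum of a field is discrete -/
theorem discreteTopology_of_etale_field {Y : Scheme.{u}} (K : Type u) [Field K]
    (r : Y ⟶ Spec (CommRingCat.of K)) [Etale r] : DiscreteTopology Y := by
  have := locallyQuasiFinite_of_etale r
  have : IsLocallyArtinian (Spec (CommRingCat.of K)) := by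
    rw [Scheme.isLocallyArtinianScheme_Spec]
    infer_instance
  have : IsLocallyArtinian Y := IsLocallyArtinian.of_locallyQuasiFinite r
  infer_instance

/-- Any morphism over a field `K` from a connected scheme to an étale `K`-scheme is constant on
`K`-points. -/
theorem comp_eq_of_connected_of_etale {F Y : Scheme.{u}} (K : Type u) [Field K]
    [ConnectedSpace F] (r : Y ⟶ Spec (CommRingCat.of K)) [Etale r] (ψ : F ⟶ Y)
    (σ₁ σ₂ : Spec (CommRingCat.of K) ⟶ F) (h₁ : σ₁ ≫ ψ ≫ r = 𝟙 _) (h₂ : σ₂ ≫ ψ ≫ r = 𝟙 _) :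
    σ₁ ≫ ψ = σ₂ ≫ ψ := by
  have := discreteTopology_of_etale_field K r
  have hdiag : IsOpenImmersion (pullback.diagonal r) := inferInstance
  symm
  apply section_ext_of_range r (σ₁ ≫ ψ) (σ₂ ≫ ψ) (by rw [Category.assoc]; exact h₁)
    (by rw [Category.assoc]; exact h₂)
  rintro _ ⟨x, rfl⟩
  refine ⟨x, ?_⟩
  have hconst : ∀ a b : F, ψ a = ψ b := fun a b =>
    PreconnectedSpace.constant inferInstance ψ.continuous
  rw [Scheme.Hom.comp_apply, Scheme.Hom.comp_apply]
  exact hconst _ _


/-- Geometric connectedness of the fibres of `g` gives the cocycle condition for every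
`S`-morphism from a base change `X ×_S S'` to an étale `S`-scheme. -/
theorem cocycle_of_geometricallyConnected {S S' X Y : Scheme.{u}} (g : S' ⟶ S)
    (hconn : ∀ (K : Type u) [Field K] [IsAlgClosed K] (ξ : Spec (CommRingCat.of K) ⟶ S),
      ConnectedSpace ↑(pullback g ξ))
    (p : X ⟶ S) (q : Y ⟶ S) [Etale q] (h : pullback p g ⟶ Y)
    (hq : h ≫ q = pullback.fst p g ≫ p) :
    pullback.fst (pullback.fst p g) (pullback.fst p g) ≫ h =
      pullback.snd (pullback.fst p g) (pullback.fst p g) ≫ h := by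
  have hdiag : IsOpenImmersion (pullback.diagonal q) := inferInstance
  let π : pullback p g ⟶ X := pullback.fst p g
  have hπ : pullback.snd p g ≫ g = π ≫ p := pullback.condition.symm
  have hab : (pullback.fst π π ≫ h) ≫ q = (pullback.snd π π ≫ h) ≫ q := by
    rw [Category.assoc, Category.assoc, hq, ← Category.assoc, ← Category.assoc,
      pullback.condition]
  apply eq_of_eqLocus_eq_top q _ _ hab
  rw [← TopologicalSpace.Opens.coe_eq_univ, Set.eq_univ_iff_forall]
  intro t
  -- a geometric point over `t`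
  let κ := (pullback π π).residueField t
  let K := AlgebraicClosure κ
  let tb : Spec (CommRingCat.of K) ⟶ pullback π π :=
    Spec.map (CommRingCat.ofHom (algebraMap κ K)) ≫ (pullback π π).fromSpecResidueField t
  have htb : t ∈ Set.range tb := by
    let c : ↥(Spec (CommRingCat.of K)) := IsLocalRing.closedPoint K
    refine ⟨c, ?_⟩
    show (pullback π π).fromSpecResidueField t
      (Spec.map (CommRingCat.ofHom (algebraMap κ K)) c) = t
    exact Scheme.fromSpecResidueField_apply _ _
  suffices hs : tb ≫ pullback.fst π π ≫ h = tb ≫ pullback.snd π π ≫ h from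
    range_subset_eqLocus q _ _ hab tb hs htb
  -- the geometric fibre
  let xb : Spec (CommRingCat.of K) ⟶ X := tb ≫ pullback.fst π π ≫ π
  have hxb : xb = tb ≫ pullback.snd π π ≫ π := by
    show tb ≫ pullback.fst π π ≫ π = _
    rw [pullback.condition]
  let ξ : Spec (CommRingCat.of K) ⟶ S := xb ≫ p
  have hF : ConnectedSpace ↑(pullback g ξ) := hconn K ξ
  let s₁ : Spec (CommRingCat.of K) ⟶ S' := tb ≫ pullback.fst π π ≫ pullback.snd p g
  let s₂ : Spec (CommRingCat.of K) ⟶ S' := tb ≫ pullback.snd π π ≫ pullback.snd p g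
  have hs₁ : s₁ ≫ g = 𝟙 _ ≫ ξ := by
    show (tb ≫ pullback.fst π π ≫ pullback.snd p g) ≫ g = 𝟙 _ ≫ (tb ≫ pullback.fst π π ≫ π) ≫ p
    simp only [Category.assoc, Category.id_comp, hπ]
  have hs₂ : s₂ ≫ g = 𝟙 _ ≫ ξ := by
    show (tb ≫ pullback.snd π π ≫ pullback.snd p g) ≫ g = 𝟙 _ ≫ xb ≫ p
    rw [hxb]
    simp only [Category.assoc, Category.id_comp, hπ]
  let σ₁ : Spec (CommRingCat.of K) ⟶ pullback g ξ := pullback.lift s₁ (𝟙 _) hs₁
  let σ₂ : Spec (CommRingCat.of K) ⟶ pullback g ξ := pullback.lift s₂ (𝟙 _) hs₂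
  have hσ₁a : σ₁ ≫ pullback.fst g ξ = s₁ := pullback.lift_fst _ _ _
  have hσ₁b : σ₁ ≫ pullback.snd g ξ = 𝟙 _ := pullback.lift_snd _ _ _
  have hσ₂a : σ₂ ≫ pullback.fst g ξ = s₂ := pullback.lift_fst _ _ _
  have hσ₂b : σ₂ ≫ pullback.snd g ξ = 𝟙 _ := pullback.lift_snd _ _ _
  let φ : pullback g ξ ⟶ pullback p g :=
    pullback.lift (pullback.snd g ξ ≫ xb) (pullback.fst g ξ) (by
      rw [Category.assoc]; exact pullback.condition.symm)
  have hφa : φ ≫ π = pullback.snd g ξ ≫ xb := pullback.lift_fst _ _ _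
  have hφb : φ ≫ pullback.snd p g = pullback.fst g ξ := pullback.lift_snd _ _ _
  have hσφ₁ : σ₁ ≫ φ = tb ≫ pullback.fst π π := by
    apply pullback.hom_ext
    · show (σ₁ ≫ φ) ≫ π = (tb ≫ pullback.fst π π) ≫ π
      rw [Category.assoc, hφa, ← Category.assoc, hσ₁b, Category.id_comp, Category.assoc]
    · rw [Category.assoc, hφb, hσ₁a, Category.assoc]
  have hσφ₂ : σ₂ ≫ φ = tb ≫ pullback.snd π π := by
    apply pullback.hom_ext
    · show (σ₂ ≫ φ) ≫ π = (tb ≫ pullback.snd π π) ≫ π
      rw [Category.assoc, hφa, ← Category.assoc, hσ₂b, Category.id_comp, hxb]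
      simp only [Category.assoc]
    · rw [Category.assoc, hφb, hσ₂a, Category.assoc]
  -- the induced morphism to the étale `K`-scheme `Y_K`
  have hψ : (φ ≫ h) ≫ q = pullback.snd g ξ ≫ ξ := by
    rw [Category.assoc, hq, ← Category.assoc, hφa, Category.assoc]
  let ψK : pullback g ξ ⟶ pullback q ξ := pullback.lift (φ ≫ h) (pullback.snd g ξ) hψ
  have hψa : ψK ≫ pullback.fst q ξ = φ ≫ h := pullback.lift_fst _ _ _
  have hψb : ψK ≫ pullback.snd q ξ = pullback.snd g ξ := pullback.lift_snd _ _ _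
  have key : σ₁ ≫ ψK = σ₂ ≫ ψK :=
    comp_eq_of_connected_of_etale K (pullback.snd q ξ) ψK σ₁ σ₂
      (by rw [hψb, hσ₁b]) (by rw [hψb, hσ₂b])
  calc tb ≫ pullback.fst π π ≫ h = (tb ≫ pullback.fst π π) ≫ h := (Category.assoc _ _ _).symm
    _ = (σ₁ ≫ φ) ≫ h := by rw [hσφ₁]
    _ = σ₁ ≫ (φ ≫ h) := Category.assoc _ _ _
    _ = σ₁ ≫ ψK ≫ pullback.fst q ξ := by rw [hψa]
    _ = (σ₁ ≫ ψK) ≫ pullback.fst q ξ := (Category.assoc _ _ _).symm
    _ = (σ₂ ≫ ψK) ≫ pullback.fst q ξ := by rw [key]
    _ = σ₂ ≫ ψK ≫ pullback.fst q ξ := Category.assoc _ _ _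
    _ = σ₂ ≫ (φ ≫ h) := by rw [hψa]
    _ = (σ₂ ≫ φ) ≫ h := (Category.assoc _ _ _).symm
    _ = (tb ≫ pullback.snd π π) ≫ h := by rw [hσφ₂]
    _ = tb ≫ pullback.snd π π ≫ h := Category.assoc _ _ _


/-- a quotient map of schemes with geometrically connected fibres onto a connected scheme has
connected source -/
theorem connectedSpace_of_geometricallyConnected {S S' : Scheme.{u}} (g : S' ⟶ S)
    (hgq : Topology.IsQuotientMap g)
    (hconn : ∀ (K : Type u) [Field K] [IsAlgClosed K] (ξ : Spec (CommRingCat.of K) ⟶ S),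
      ConnectedSpace ↑(pullback g ξ))
    [ConnectedSpace S] : ConnectedSpace S' := by
  have hfib : ∀ s : S, _root_.IsConnected (g ⁻¹' {s}) := by
    intro s
    let κ := S.residueField s
    let K := AlgebraicClosure κ
    let ξ : Spec (CommRingCat.of K) ⟶ S :=
      Spec.map (CommRingCat.ofHom (algebraMap κ K)) ≫ S.fromSpecResidueField s
    have hF : ConnectedSpace ↑(pullback g ξ) := hconn K ξ
    have hrξ : Set.range ξ = {s} := by
      apply Set.Subset.antisymm
      · rintro _ ⟨x, rfl⟩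
        show S.fromSpecResidueField s (Spec.map (CommRingCat.ofHom (algebraMap κ K)) x) ∈ ({s} : Set S)
        exact Scheme.fromSpecResidueField_apply _ _
      · intro z hz
        rw [Set.mem_singleton_iff] at hz
        let c : ↥(Spec (CommRingCat.of K)) := IsLocalRing.closedPoint K
        refine ⟨c, ?_⟩
        rw [hz]
        show S.fromSpecResidueField s (Spec.map (CommRingCat.ofHom (algebraMap κ K)) c) = _
        exact Scheme.fromSpecResidueField_apply _ _
    have hr : Set.range (pullback.fst g ξ) = g ⁻¹' {s} := by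
      rw [Scheme.Pullback.range_fst, hrξ]
    rw [← hr]
    exact isConnected_range (pullback.fst g ξ).continuous
  have hco : Topology.IsCoinducing g := hgq.isCoinducing
  have hne : Nonempty S' := by
    obtain ⟨s⟩ := (inferInstance : Nonempty S)
    obtain ⟨a, -⟩ := hgq.surjective s
    exact ⟨a⟩
  obtain ⟨a⟩ := hne
  have h1 := hco.preimage_connectedComponent hfib a
  rw [PreconnectedSpace.connectedComponent_eq_univ, Set.preimage_univ] at h1
  have : PreconnectedSpace S' := ⟨by rw [h1]; exact isPreconnected_connectedComponent⟩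
  exact ⟨⟨a⟩⟩

end Groth.Agent.Lib.EtDescH52
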