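import Mathlib

/-!
# `T ×_S ∐ X i` is covered by the `T ×_S X i` (helper52)

`m X g T i : T ×_S X i ⟶ T ×_S ∐ X`, `isPullback_m`, `cover`, `glued`, `m_glued`, `hom_ext`:
morphisms out of `T ×_S ∐ X i` are uniquely glued from morphisms out of the `T ×_S X i`
(arbitrary index type in the universe of the schemes).
-/

set_option autoImplicit false
set_option linter.style.haveILetI false
universe u
open CategoryTheory CategoryTheory.Limits AlgebraicGeometry

namespace Groth.Agent.Lib.MorSigmaH52

variable {S : Scheme.{u}} {ι : Type u} (X : ι → Scheme.{u}) (g : ∀ i, X i ⟶ S) (T : Over S)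

/-- the canonical map -/
noncomputable def m (i : ι) : pullback T.hom (g i) ⟶ pullback T.hom (Sigma.desc g) :=
  pullback.map T.hom (g i) T.hom (Sigma.desc g) (𝟙 T.left) (Sigma.ι X i) (𝟙 S)
    ((Category.comp_id _).trans (Category.id_comp _).symm)
    ((Category.comp_id _).trans (Sigma.ι_desc g i).symm)

theorem m_fst (i : ι) : m X g T i ≫ pullback.fst _ _ = pullback.fst _ _ := by
  unfold m pullback.map
  rw [pullback.lift_fst, Category.comp_id]

theorem m_snd (i : ι) : m X g T i ≫ pullback.snd _ _ = pullback.snd _ _ ≫ Sigma.ι X i := by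
  unfold m pullback.map
  rw [pullback.lift_snd]

theorem isPullback_m (i : ι) :
    IsPullback (m X g T i) (pullback.snd T.hom (g i)) (pullback.snd T.hom (Sigma.desc g))
      (Sigma.ι X i) := by
  have hbot : IsPullback (pullback.snd T.hom (Sigma.desc g)) (pullback.fst T.hom (Sigma.desc g))
      (Sigma.desc g) T.hom := (IsPullback.of_hasPullback T.hom (Sigma.desc g)).flip
  have hbig : IsPullback (pullback.snd T.hom (g i)) (m X g T i ≫ pullback.fst T.hom (Sigma.desc g))
      (Sigma.ι X i ≫ Sigma.desc g) T.hom := by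
    rw [m_fst, Sigma.ι_desc]
    exact (IsPullback.of_hasPullback T.hom (g i)).flip
  exact (IsPullback.of_bot hbig (m_snd X g T i).symm hbot).flip


instance (i : ι) : IsOpenImmersion (m X g T i) :=
  MorphismProperty.of_isPullback (P := @IsOpenImmersion) (isPullback_m X g T i).flip inferInstance

theorem exists_mem_range_m (p : ↥(pullback T.hom (Sigma.desc g))) :
    ∃ i, p ∈ Set.range (m X g T i) := by
  obtain ⟨i, y, hy⟩ := (sigmaOpenCover X).exists_eq ((pullback.snd T.hom (Sigma.desc g)) p)
  refine ⟨i, ?_⟩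
  obtain ⟨z, hz1, hz2⟩ := Scheme.Pullback.exists_preimage_pullback
    (f := pullback.snd T.hom (Sigma.desc g)) (g := Sigma.ι X i) p y hy.symm
  refine ⟨(isPullback_m X g T i).isoPullback.inv z, ?_⟩
  rw [← Scheme.Hom.comp_apply, IsPullback.isoPullback_inv_fst, hz1]

/-- The open cover of `T ×_S ∐ X` by the `T ×_S X i`. -/
noncomputable def cover : (pullback T.hom (Sigma.desc g)).OpenCover where
  I₀ := ι
  X i := pullback T.hom (g i)
  f i := m X g T i
  mem₀ := by
    rw [Scheme.presieve₀_mem_precoverage_iff]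
    exact ⟨fun p => exists_mem_range_m X g T p, fun i => inferInstance⟩

theorem isEmpty_pullback_m {i j : ι} (hij : i ≠ j) :
    IsEmpty ↥(pullback (m X g T i) (m X g T j)) := by
  haveI := isEmpty_pullback_sigmaι_of_ne X hij
  let φ : pullback (m X g T i) (m X g T j) ⟶ pullback (Sigma.ι X i) (Sigma.ι X j) :=
    pullback.lift (pullback.fst _ _ ≫ pullback.snd _ _) (pullback.snd _ _ ≫ pullback.snd _ _) (by
      rw [Category.assoc, Category.assoc, ← m_snd, ← m_snd, ← Category.assoc, ← Category.assoc,
        pullback.condition])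
  exact Function.isEmpty φ


variable {Y : Scheme.{u}}

theorem compat (a : ∀ i, pullback T.hom (g i) ⟶ Y) (i j : ι) :
    pullback.fst (m X g T i) (m X g T j) ≫ a i = pullback.snd (m X g T i) (m X g T j) ≫ a j := by
  by_cases hij : i = j
  · subst hij
    have : pullback.fst (m X g T i) (m X g T i) = pullback.snd (m X g T i) (m X g T i) :=
      (cancel_mono (m X g T i)).mp pullback.condition
    rw [this]
  · haveI := isEmpty_pullback_m X g T hij
    exact (isInitialOfIsEmpty (X := pullback (m X g T i) (m X g T j))).hom_ext _ _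

/-- The glued morphism. -/
noncomputable def glued (a : ∀ i, pullback T.hom (g i) ⟶ Y) : pullback T.hom (Sigma.desc g) ⟶ Y :=
  (cover X g T).glueMorphisms a (compat X g T a)

theorem m_glued (a : ∀ i, pullback T.hom (g i) ⟶ Y) (i : ι) : m X g T i ≫ glued X g T a = a i :=
  (cover X g T).ι_glueMorphisms a (compat X g T a) i

theorem hom_ext {f₁ f₂ : pullback T.hom (Sigma.desc g) ⟶ Y}
    (h : ∀ i, m X g T i ≫ f₁ = m X g T i ≫ f₂) : f₁ = f₂ :=
  (cover X g T).hom_ext f₁ f₂ h

end Groth.Agent.Lib.MorSigmaH52
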