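import Groth.Agent.Lib.HenselSection61
import Groth.Agent.Lib.HenselIntegralLocal
import Groth.Agent.Lib.MorSigmaH52

/-!
# Rational points over the closed point of a local ring with algebraically closed residue field
(helper52)

`B` is a local ring with residue field `k`, `kpt B : Spec k ⟶ Spec B` the closed point.

* `exists_kpoint`: if `k` is algebraically closed and `q : Y ⟶ Spec B` is locally of finite type
  and locally quasi-finite, every point of `Y` over the closed point is the image of a `k`-point
  of `Y` over `kpt B`.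
* `kpoint_ext`: such `k`-points are determined by their image point.
* `kpoint_apply_eq_closedPoint`: a `k`-point over `kpt B` of the spectrum of a local ring integral
  over `B` sits at the closed point.
* `exists_section_through`: `B` henselian, `R` a local ring integral over `B`, `f : X' ⟶ Spec R`
  étale: a `k`-point of `X'` (over `kpt B`) extends to a section of `f`.
* `exists_specializes_closedFibre`: for a closed map `q : Y ⟶ Spec B` every point specializes to a
  point over the closed point.
* `universallyClosed_sigmaDesc`: a finite family of universally closed morphisms induces a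
  universally closed morphism from the coproduct.
-/

set_option autoImplicit false
set_option linter.style.haveILetI false
set_option backward.isDefEq.respectTransparency false
set_option backward.isDefEq.respectTransparency.types false

universe u

open CategoryTheory CategoryTheory.Limits AlgebraicGeometry IsLocalRing

namespace Groth.Agent.Lib.HenselKPointH52

section

variable (B : Type u) [CommRing B] [IsLocalRing B]

/-- The closed point `Spec k ⟶ Spec B`. -/
noncomputable abbrev kpt :
    Spec (CommRingCat.of (ResidueField B)) ⟶ Spec (CommRingCat.of B) :=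
  Spec.map (CommRingCat.ofHom (residue B))

theorem kpt_apply (z : Spec (CommRingCat.of (ResidueField B))) : kpt B z = closedPoint B := by
  have hz : z = closedPoint (ResidueField B) :=
    Subsingleton.elim (α := PrimeSpectrum (ResidueField B)) _ _
  rw [hz]
  exact IsLocalRing.comap_closedPoint (residue B)

instance : IsClosedImmersion (kpt B) :=
  IsClosedImmersion.spec_of_surjective _ Ideal.Quotient.mk_surjective

variable {B}

theorem exists_kpoint [IsAlgClosed (ResidueField B)] {Y : Scheme.{u}}
    (q : Y ⟶ Spec (CommRingCat.of B)) [LocallyOfFiniteType q] [LocallyQuasiFinite q] (y : Y)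
    (hy : q y = closedPoint B) :
    ∃ yt : Spec (CommRingCat.of (ResidueField B)) ⟶ Y, yt ≫ q = kpt B ∧
      ∀ z, yt z = y := by
  let f : pullback q (kpt B) ⟶ Spec (CommRingCat.of (ResidueField B)) := pullback.snd q (kpt B)
  obtain ⟨y', hy'1, -⟩ := Scheme.Pullback.exists_preimage_pullback (f := q) (g := kpt B) y
    (closedPoint (ResidueField B)) (by rw [hy, kpt_apply])
  haveI : IsLocallyArtinian (Spec (CommRingCat.of (ResidueField B))) :=
    Scheme.isLocallyArtinianScheme_Spec.mpr inferInstance
  haveI : IsLocallyArtinian (pullback q (kpt B)) := IsLocallyArtinian.of_locallyQuasiFinite f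
  have hcl : IsClosed ({y'} : Set ↥(pullback q (kpt B))) := isClosed_discrete _
  refine ⟨pointOfClosedPoint f y' hcl ≫ pullback.fst q (kpt B), ?_, fun z => ?_⟩
  · rw [Category.assoc, pullback.condition, ← Category.assoc, pointOfClosedPoint_comp,
      Category.id_comp]
  · rw [Scheme.Hom.comp_apply, pointOfClosedPoint_apply, hy'1]

theorem kpoint_ext [IsAlgClosed (ResidueField B)] {Y : Scheme.{u}}
    (q : Y ⟶ Spec (CommRingCat.of B)) [LocallyOfFiniteType q]
    (a b : Spec (CommRingCat.of (ResidueField B)) ⟶ Y) (ha : a ≫ q = kpt B) (hb : b ≫ q = kpt B)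
    (h : a (closedPoint (ResidueField B)) = b (closedPoint (ResidueField B))) : a = b := by
  let f : pullback q (kpt B) ⟶ Spec (CommRingCat.of (ResidueField B)) := pullback.snd q (kpt B)
  let σa : Spec (CommRingCat.of (ResidueField B)) ⟶ pullback q (kpt B) :=
    pullback.lift a (𝟙 _) (by rw [ha, Category.id_comp])
  let σb : Spec (CommRingCat.of (ResidueField B)) ⟶ pullback q (kpt B) :=
    pullback.lift b (𝟙 _) (by rw [hb, Category.id_comp])
  have ha1 : σa ≫ pullback.fst q (kpt B) = a := pullback.lift_fst _ _ _
  have hb1 : σb ≫ pullback.fst q (kpt B) = b := pullback.lift_fst _ _ _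
  have key : σa = σb := by
    apply ext_of_apply_closedPoint_eq f (pullback.lift_snd _ _ _) (pullback.lift_snd _ _ _)
    apply (pullback.fst q (kpt B)).isEmbedding.injective
    rw [← Scheme.Hom.comp_apply, ← Scheme.Hom.comp_apply, ha1, hb1]
    exact h
  rw [← ha1, ← hb1, key]

end

section Integral

variable {B : Type u} [CommRing B] [IsLocalRing B]
  {R : Type u} [CommRing R] [IsLocalRing R] [Algebra B R] [Algebra.IsIntegral B R]

theorem ker_eq_maximalIdeal (ψ : R →+* ResidueField B)
    (hψ : ψ.comp (algebraMap B R) = residue B) : RingHom.ker ψ = maximalIdeal R := by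
  haveI : (RingHom.ker ψ).IsPrime := RingHom.ker_isPrime ψ
  have hcomap : (RingHom.ker ψ).comap (algebraMap B R) = maximalIdeal B := by
    rw [RingHom.comap_ker, hψ, IsLocalRing.ker_residue]
  have hmax : (RingHom.ker ψ).IsMaximal :=
    Ideal.isMaximal_of_isIntegral_of_isMaximal_comap (R := B) (RingHom.ker ψ)
      (by rw [hcomap]; exact maximalIdeal.isMaximal B)
  exact IsLocalRing.eq_maximalIdeal hmax

theorem exists_residueField_equiv (ψ : R →+* ResidueField B)
    (hψ : ψ.comp (algebraMap B R) = residue B) :
    ∃ e : ResidueField R ≃+* ResidueField B, e.toRingHom.comp (residue R) = ψ := by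
  have hker := ker_eq_maximalIdeal ψ hψ
  have hsurj : Function.Surjective ψ := by
    intro z
    obtain ⟨b, rfl⟩ := residue_surjective z
    exact ⟨algebraMap B R b, by rw [← hψ]; rfl⟩
  let e1 : ResidueField R ≃+* R ⧸ RingHom.ker ψ := Ideal.quotEquivOfEq hker.symm
  let e2 : R ⧸ RingHom.ker ψ ≃+* ResidueField B := RingHom.quotientKerEquivOfSurjective hsurj
  refine ⟨e1.trans e2, ?_⟩
  ext r
  rfl

theorem kpoint_apply_eq_closedPoint
    (w : Spec (CommRingCat.of (ResidueField B)) ⟶ Spec (CommRingCat.of R))
    (hw : w ≫ Spec.map (CommRingCat.ofHom (algebraMap B R)) = kpt B)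
    (z : Spec (CommRingCat.of (ResidueField B))) : w z = closedPoint R := by
  obtain ⟨ψ, rfl⟩ := Spec.map_surjective w
  have hψ : ψ.hom.comp (algebraMap B R) = residue B := by
    rw [← Spec.map_comp] at hw
    have := Spec.map_injective hw
    exact congrArg CommRingCat.Hom.hom this
  have hker := ker_eq_maximalIdeal ψ.hom hψ
  have hz : z = (⊥ : PrimeSpectrum (ResidueField B)) :=
    Subsingleton.elim (α := PrimeSpectrum (ResidueField B)) _ _
  rw [hz]
  apply PrimeSpectrum.ext
  change Ideal.comap ψ.hom ⊥ = maximalIdeal R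
  rw [← hker]
  rfl

theorem exists_section_through (hB : HenselianLocalRing B) {X' : Scheme.{u}}
    (f : X' ⟶ Spec (CommRingCat.of R)) [Etale f]
    (w : Spec (CommRingCat.of (ResidueField B)) ⟶ Spec (CommRingCat.of R))
    (hw : w ≫ Spec.map (CommRingCat.ofHom (algebraMap B R)) = kpt B)
    (t : Spec (CommRingCat.of (ResidueField B)) ⟶ X') (ht : t ≫ f = w) :
    ∃ s : Spec (CommRingCat.of R) ⟶ X', s ≫ f = 𝟙 _ ∧ w ≫ s = t := by
  haveI : HenselianLocalRing R :=
    @Groth.Agent.Lib.HenselIntegralLocal.henselianLocalRing_of_isIntegral B R _ hB _ _ _ _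
  obtain ⟨ψ, rfl⟩ := Spec.map_surjective w
  have hψ : ψ.hom.comp (algebraMap B R) = residue B := by
    rw [← Spec.map_comp] at hw
    have := Spec.map_injective hw
    exact congrArg CommRingCat.Hom.hom this
  obtain ⟨e, he⟩ := exists_residueField_equiv ψ.hom hψ
  let E : CommRingCat.of (ResidueField R) ≅ CommRingCat.of (ResidueField B) :=
    e.toCommRingCatIso
  have hE : CommRingCat.ofHom (residue R) ≫ E.hom = ψ := by
    ext r
    exact congrFun (congrArg DFunLike.coe he) r
  have hw' : Spec.map ψ = Spec.map E.hom ≫ Spec.map (CommRingCat.ofHom (residue R)) := by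
    rw [← Spec.map_comp, hE]
  let t' : Spec (CommRingCat.of (ResidueField R)) ⟶ X' := Spec.map E.inv ≫ t
  have ht' : t' ≫ f = Spec.map (CommRingCat.ofHom (residue R)) := by
    rw [Category.assoc, ht, hw', ← Category.assoc, ← Spec.map_comp, E.hom_inv_id, Spec.map_id,
      Category.id_comp]
  obtain ⟨s, hs1, hs2⟩ := Groth.Agent.Lib.HenselSection61.exists_section R f t' ht'
  refine ⟨s, hs1, ?_⟩
  rw [hw', Category.assoc, hs2, ← Category.assoc, ← Spec.map_comp, E.inv_hom_id, Spec.map_id,
    Category.id_comp]

end Integral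

section Closed

variable {B : Type u} [CommRing B] [IsLocalRing B]

theorem exists_specializes_closedFibre {Y : Scheme.{u}} (q : Y ⟶ Spec (CommRingCat.of B))
    (hq : IsClosedMap q) (y : Y) : ∃ y₀ : Y, y ⤳ y₀ ∧ q y₀ = closedPoint B := by
  have hcl : IsClosed (q '' closure {y}) := hq _ isClosed_closure
  have hmem : closedPoint B ∈ q '' closure {y} := by
    have h1 : q y ∈ q '' closure {y} := ⟨y, subset_closure rfl, rfl⟩
    exact (IsLocalRing.specializes_closedPoint (R := B) (q y)).mem_closed hcl h1
  obtain ⟨y₀, hy₀, hq₀⟩ := hmem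
  exact ⟨y₀, specializes_iff_mem_closure.mpr hy₀, hq₀⟩

end Closed

section Sigma

open Groth.Agent.Lib.MorSigmaH52

/-- A finite family of universally closed morphisms induces a universally closed morphism on the
coproduct. -/
theorem universallyClosed_sigmaDesc {X : Scheme.{u}} {ι : Type u} [Finite ι] (Y : ι → Scheme.{u})
    (f : ∀ i, Y i ⟶ X) [∀ i, UniversallyClosed (f i)] : UniversallyClosed (Sigma.desc f) := by
  refine ⟨fun X' T i₁ i₂ f' hpb => ?_⟩
  let Tov : Over X := Over.mk i₂
  let q : pullback i₂ (Sigma.desc f) ⟶ T := pullback.fst i₂ (Sigma.desc f)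
  have he : hpb.isoPullback.hom ≫ q = f' := hpb.isoPullback_hom_fst
  suffices hq : IsClosedMap q by
    change IsClosedMap f'
    rw [← he]
    have : IsClosedMap (q ∘ hpb.isoPullback.hom) :=
      hq.comp (hpb.isoPullback.hom.homeomorph).isClosedMap
    exact this
  have hmq : ∀ i, m Y f Tov i ≫ q = pullback.fst i₂ (f i) := fun i => m_fst Y f Tov i
  have hmq' : ∀ i (w : ↥(pullback i₂ (f i))), q (m Y f Tov i w) = pullback.fst i₂ (f i) w :=
    fun i w => by rw [← hmq i]; rfl
  intro C hC
  have hCeq : q '' C = ⋃ i, pullback.fst i₂ (f i) '' (m Y f Tov i ⁻¹' C) := by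
    ext z
    simp only [Set.mem_iUnion, Set.mem_image, Set.mem_preimage]
    constructor
    · rintro ⟨pt, hpt, rfl⟩
      obtain ⟨i, w, hw⟩ := exists_mem_range_m Y f Tov pt
      refine ⟨i, w, ?_, ?_⟩
      · rw [hw]; exact hpt
      · rw [← hmq', hw]
    · rintro ⟨i, w, hw, rfl⟩
      exact ⟨m Y f Tov i w, hw, hmq' i w⟩
  rw [hCeq]
  refine isClosed_iUnion_of_finite fun i => ?_
  exact (pullback.fst i₂ (f i)).isClosedMap _ (hC.preimage (m Y f Tov i).continuous)

end Sigma

end Groth.Agent.Lib.HenselKPointH52
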