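import Groth.Agent.Lib.PairHenselizationLocal
import Groth.Agent.Lib.HenselIntegralLocal

/-!
# Transport of henselian local rings along ring isomorphisms; integral maps of local rings are local
-/

set_option autoImplicit false

namespace Groth.Agent.Lib.HenselTransfer22

open IsLocalRing

/-- Henselian local rings transport along ring isomorphisms. -/
theorem henselianLocalRing_of_ringEquiv {A S : Type*} [CommRing A] [CommRing S] (e : A ≃+* S)
    [HenselianLocalRing S] : HenselianLocalRing A := by
  have hloc : IsLocalRing A := e.symm.isLocalRing
  have h1 : HenselianRing A ((maximalIdeal S).comap (e : A →+* S)) :=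
    Groth.Agent.Lib.PairHenselization.henselianRing_of_ringEquiv e (maximalIdeal S)
  have h2 : (maximalIdeal S).comap (e : A →+* S) = maximalIdeal A := by
    have : ((maximalIdeal S).comap (e : A →+* S)).IsMaximal :=
      Ideal.comap_isMaximal_of_surjective _ e.surjective
    exact IsLocalRing.eq_maximalIdeal this
  rw [h2] at h1
  exact Groth.Agent.Lib.HenselizationNoeth.henselianLocalRing_of_henselianRing A

/-- An integral map of local rings is a local homomorphism. -/
theorem isLocalHom_of_isIntegral {A B : Type*} [CommRing A] [IsLocalRing A] [CommRing B]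
    [IsLocalRing B] [Algebra A B] [Algebra.IsIntegral A B] : IsLocalHom (algebraMap A B) := by
  refine ⟨fun x hx => ?_⟩
  by_contra hnu
  have h1 : x ∈ maximalIdeal A := (mem_maximalIdeal _).2 hnu
  have h2 : algebraMap A B x ∈ maximalIdeal B :=
    Groth.Agent.Lib.HenselIntegralLocal.map_maximalIdeal_le (Ideal.mem_map_of_mem _ h1)
  exact (mem_maximalIdeal _).1 h2 hx

end Groth.Agent.Lib.HenselTransfer22
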