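import Groth.Agent.Lib.MorSigmaH52
import Groth.Prelude.Def_SGA1

/-!
# Universally submersive morphisms from finite universally closed families (helper52)

* `univSubmersive_of_comp`: if `c ≫ g` is universally submersive, so is `g`.
* `univSubmersive_sigmaDesc`: a finite jointly surjective family of universally closed morphisms
  `f i : Y i ⟶ X` induces a universally submersive morphism `∐ Y i ⟶ X`.
* `univSubmersive_of_universallyClosed`: a surjective universally closed morphism is universally
  submersive.
-/

set_option autoImplicit false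
set_option linter.style.haveILetI false
set_option backward.isDefEq.respectTransparency false
set_option backward.isDefEq.respectTransparency.types false

universe u

open CategoryTheory CategoryTheory.Limits AlgebraicGeometry

namespace Groth.Agent.Lib.SubmFamilyH52

open Groth.Agent.Lib.MorSigmaH52

/-- If a composite is universally submersive, so is the second morphism. -/
theorem univSubmersive_of_comp {S₁ S' S : Scheme.{u}} (c : S₁ ⟶ S') (g : S' ⟶ S)
    (h : SGA1.UnivSubmersive (c ≫ g)) : SGA1.UnivSubmersive g := by
  intro X' T i₁ i₂ g' hpb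
  have h1 : IsPullback (pullback.snd c i₁) (pullback.fst c i₁) i₁ c :=
    (IsPullback.of_hasPullback c i₁).flip
  have h2 := h1.paste_horiz hpb
  have hq : Topology.IsQuotientMap (pullback.snd c i₁ ≫ g') := h _ _ _ h2
  have hq' : Topology.IsQuotientMap (g' ∘ pullback.snd c i₁) := hq
  exact Topology.IsQuotientMap.of_comp (pullback.snd c i₁).continuous g'.continuous hq'

/-- A surjective universally closed morphism is universally submersive. -/
theorem univSubmersive_of_universallyClosed {X Y : Scheme.{u}} (f : X ⟶ Y) [UniversallyClosed f]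
    [Surjective f] : SGA1.UnivSubmersive f := by
  intro X' Y' i₁ i₂ f' h
  haveI : UniversallyClosed f' :=
    MorphismProperty.of_isPullback (P := @UniversallyClosed) h.flip inferInstance
  haveI : Surjective f' := MorphismProperty.of_isPullback (P := @Surjective) h.flip inferInstance
  exact f'.isClosedMap.isQuotientMap f'.continuous f'.surjective

/-- A finite jointly surjective family of universally closed morphisms is universally
submersive. -/
theorem univSubmersive_sigmaDesc {X : Scheme.{u}} {ι : Type u} [Finite ι] (Y : ι → Scheme.{u})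
    (f : ∀ i, Y i ⟶ X) [∀ i, UniversallyClosed (f i)]
    (hsurj : ∀ x : X, ∃ i, x ∈ Set.range (f i)) : SGA1.UnivSubmersive (Sigma.desc f) := by
  intro X' T i₁ i₂ f' hpb
  let Tov : Over X := Over.mk i₂
  let q : pullback i₂ (Sigma.desc f) ⟶ T := pullback.fst i₂ (Sigma.desc f)
  have he : hpb.isoPullback.hom ≫ q = f' := hpb.isoPullback_hom_fst
  suffices hq : Topology.IsQuotientMap q by
    rw [← he]
    have : Topology.IsQuotientMap (q ∘ hpb.isoPullback.hom) :=
      hq.comp (hpb.isoPullback.hom.homeomorph).isQuotientMap
    exact this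
  have hmq : ∀ i, m Y f Tov i ≫ q = pullback.fst i₂ (f i) := fun i => m_fst Y f Tov i
  have hmq' : ∀ i (w : ↥(pullback i₂ (f i))), q (m Y f Tov i w) = pullback.fst i₂ (f i) w :=
    fun i w => by rw [← hmq i]; rfl
  have hqsurj : Function.Surjective q := by
    intro t
    obtain ⟨i, y, hy⟩ := hsurj (i₂ t)
    obtain ⟨z, hz1, -⟩ := Scheme.Pullback.exists_preimage_pullback (f := i₂) (g := f i) t y hy.symm
    refine ⟨m Y f Tov i z, ?_⟩
    rw [hmq', hz1]
  rw [Topology.isQuotientMap_iff_isClosed]
  refine ⟨hqsurj, fun Z => ⟨fun hZ => hZ.preimage q.continuous, fun hZ => ?_⟩⟩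
  have hZeq : Z = ⋃ i, pullback.fst i₂ (f i) '' (m Y f Tov i ⁻¹' (q ⁻¹' Z)) := by
    ext z
    simp only [Set.mem_iUnion, Set.mem_image, Set.mem_preimage]
    constructor
    · intro hz
      obtain ⟨p, hp⟩ := hqsurj z
      obtain ⟨i, w, hw⟩ := exists_mem_range_m Y f Tov p
      refine ⟨i, w, ?_, ?_⟩
      · rw [hw, hp]; exact hz
      · rw [← hmq', hw, hp]
    · rintro ⟨i, w, hw, rfl⟩
      rw [← hmq']
      exact hw
  rw [hZeq]
  refine isClosed_iUnion_of_finite fun i => ?_
  exact (pullback.fst i₂ (f i)).isClosedMap _ ((hZ.preimage (m Y f Tov i).continuous))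

end Groth.Agent.Lib.SubmFamilyH52
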