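import Groth.Agent.Lib.HenselQFLocalization61
import Groth.Agent.Lib.HenselTransfer22
import Groth.Agent.Lib.SubmFamilyH52

/-!
# Quasi-finite points over a henselian local base: finite local open charts (helper52)

`exists_finite_local_chart`: `A` henselian local, `g : S' ⟶ Spec A` locally of finite type, `x` a
point over the closed point at which `g` is quasi-finite.  Then `x` has an open neighbourhood
`j : Spec R ⟶ S'` with `R` a local ring, finite over `A`, whose closed point is `x`
(EGA IV 18.5.11 / Stacks 04GG, via helper61's `exists_idem_isLocalization`).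
-/

set_option autoImplicit false
set_option linter.style.haveILetI false
set_option backward.isDefEq.respectTransparency false
set_option backward.isDefEq.respectTransparency.types false

universe u

open CategoryTheory CategoryTheory.Limits AlgebraicGeometry IsLocalRing

namespace Groth.Agent.Lib.QFinHenselH52

theorem exists_finite_local_chart (A : Type u) [CommRing A] [HenselianLocalRing A]
    {S' : Scheme.{u}} (g : S' ⟶ Spec (CommRingCat.of A)) [LocallyOfFiniteType g] (x : S')
    (hx : g x = closedPoint A) (hqf : g.QuasiFiniteAt x) :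
    ∃ (R : Type u) (_ : CommRing R) (_ : Algebra A R) (_ : Module.Finite A R) (_ : IsLocalRing R)
      (j : Spec (CommRingCat.of R) ⟶ S'), IsOpenImmersion j ∧
        j ≫ g = Spec.map (CommRingCat.ofHom (algebraMap A R)) ∧ j (closedPoint R) = x := by
  obtain ⟨_, ⟨V, hV, rfl⟩, hxV, -⟩ := S'.isBasis_affineOpens.exists_subset_of_mem_open
    (Set.mem_univ x) isOpen_univ
  let U : (Spec (CommRingCat.of A)).Opens := ⊤
  have hU : IsAffineOpen U := isAffineOpen_top _
  have hUV : V ≤ g ⁻¹ᵁ U := fun _ _ => trivial
  let e : A ≃+* Γ(Spec (CommRingCat.of A), U) :=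
    (Scheme.ΓSpecIso (CommRingCat.of A)).symm.commRingCatIsoToRingEquiv
  haveI : HenselianLocalRing Γ(Spec (CommRingCat.of A), U) :=
    Groth.Agent.Lib.HenselTransfer22.henselianLocalRing_of_ringEquiv e.symm
  have hft : (g.appLE U V hUV).hom.FiniteType := g.finiteType_appLE hU hV hUV
  algebraize [(g.appLE U V hUV).hom]
  let Q : Ideal Γ(S', V) := (hV.primeIdealOf ⟨x, hxV⟩).asIdeal
  haveI : Q.IsPrime := (hV.primeIdealOf ⟨x, hxV⟩).2
  have hcomap := IsAffineOpen.comap_primeIdealOf_appLE U hU V hV hUV hxV
  have hmax : (hU.primeIdealOf ⟨g x, hUV hxV⟩).asIdeal.IsMaximal := by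
    apply hU.primeIdealOf_isMaximal_of_isClosed
    rw [hx]
    exact IsLocalRing.isClosed_singleton_closedPoint A
  haveI : Q.LiesOver (maximalIdeal Γ(Spec (CommRingCat.of A), U)) := by
    constructor
    rw [← IsLocalRing.eq_maximalIdeal hmax, ← hcomap]
    rfl
  haveI : Algebra.QuasiFiniteAt Γ(Spec (CommRingCat.of A), U) Q := hqf.quasiFiniteAt hV hU hUV hxV
  obtain ⟨ε, hε, hεQ, hfin, hloc⟩ :=
    Groth.Agent.Lib.HenselQFLocalization61.exists_idem_isLocalization
      Γ(Spec (CommRingCat.of A), U) Γ(S', V) Q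
  let I : Ideal Γ(S', V) := Ideal.span {1 - ε}
  let R := Γ(S', V) ⧸ I
  haveI : IsLocalRing R := IsLocalization.AtPrime.isLocalRing R Q
  -- the `A`-algebra structure
  letI algΓ : Algebra A Γ(Spec (CommRingCat.of A), U) := e.toRingHom.toAlgebra
  haveI : Module.Finite A Γ(Spec (CommRingCat.of A), U) :=
    Module.Finite.of_surjective (Algebra.linearMap A Γ(Spec (CommRingCat.of A), U)) e.surjective
  letI algR : Algebra A R :=
    ((algebraMap Γ(Spec (CommRingCat.of A), U) R).comp e.toRingHom).toAlgebra
  haveI : IsScalarTower A Γ(Spec (CommRingCat.of A), U) R :=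
    IsScalarTower.of_algebraMap_eq (fun _ => rfl)
  have hfinA : Module.Finite A R := Module.Finite.trans Γ(Spec (CommRingCat.of A), U) R
  -- the chart
  haveI : IsLocalization.Away ε R := IsLocalization.Away.quotient_of_isIdempotentElem hε
  haveI hoi : IsOpenImmersion (Spec.map (CommRingCat.ofHom (algebraMap Γ(S', V) R))) :=
    IsOpenImmersion.of_isLocalization ε
  let j : Spec (CommRingCat.of R) ⟶ S' :=
    Spec.map (CommRingCat.ofHom (algebraMap Γ(S', V) R)) ≫ hV.fromSpec
  refine ⟨R, inferInstance, algR, hfinA, inferInstance, j, inferInstance, ?_, ?_⟩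
  · change (Spec.map (CommRingCat.ofHom (algebraMap Γ(S', V) R)) ≫ hV.fromSpec) ≫ g = _
    rw [Category.assoc, ← IsAffineOpen.SpecMap_appLE_fromSpec g hU hV hUV,
      IsAffineOpen.fromSpec_top, Scheme.isoSpec_Spec_inv, ← Spec.map_comp, ← Spec.map_comp]
    rfl
  · change hV.fromSpec (Spec.map (CommRingCat.ofHom (algebraMap Γ(S', V) R)) (closedPoint R)) = x
    have h1 : Spec.map (CommRingCat.ofHom (algebraMap Γ(S', V) R)) (closedPoint R) =
        hV.primeIdealOf ⟨x, hxV⟩ := by
      apply PrimeSpectrum.ext
      exact IsLocalization.AtPrime.comap_maximalIdeal R Q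
    rw [h1, hV.fromSpec_primeIdealOf]

/-- A morphism locally of finite type is quasi-finite at the points of a finite fibre. -/
theorem quasiFiniteAt_of_finite_fiber {X Y : Scheme.{u}} (f : X ⟶ Y) [LocallyOfFiniteType f]
    (x : X) (hfin : (f ⁻¹' {f x}).Finite) : f.QuasiFiniteAt x := by
  rw [Scheme.Hom.quasiFiniteAt_iff_isOpen_singleton_asFiber]
  haveI : Finite ↥(f ⁻¹' {f x}) := hfin
  haveI : Finite ↥(f.fiber (f x)) := Finite.of_equiv _ (f.fiberHomeo (f x)).symm.toEquiv
  haveI : LocallyOfFiniteType (f.fiberToSpecResidueField (f x)) :=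
    inferInstanceAs (LocallyOfFiniteType (pullback.snd f (Y.fromSpecResidueField (f x))))
  haveI : LocallyQuasiFinite (f.fiberToSpecResidueField (f x)) :=
    LocallyQuasiFinite.of_finite_preimage_singleton _ (fun _ => Set.toFinite _)
  haveI : IsLocallyArtinian (f.fiber (f x)) :=
    IsLocallyArtinian.of_locallyQuasiFinite (f.fiberToSpecResidueField (f x))
  exact isOpen_discrete _

end Groth.Agent.Lib.QFinHenselH52
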