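/-
Basic results on V coverings (helper12): universe-polymorphic bind/pullback of standard V
coverings, finite affine open covers are standard V, and the key refinement lemma
`exists_standardV_refinesOver` (a V covering of `T` can be refined by a standard V covering
after pulling back to any affine scheme `T' ⟶ T`).
-/
import Groth.Prelude.Def_HTop

set_option autoImplicit false
universe w w' u
open CategoryTheory CategoryTheory.Limits AlgebraicGeometry

namespace Groth.Agent.Lib.HTopBasic

open HTop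

theorem isStandardV_pullback₁ {T T' : Scheme.{u}} [IsAffine T'] (g : T' ⟶ T)
    (E : PreZeroHypercover.{w} T) (hE : IsStandardV E) : IsStandardV (E.pullback₁ g) := by
  have hT : IsAffine T := hE.isAffine
  have hfin : Finite E.I₀ := hE.finite_index
  have haff : ∀ j, IsAffine (E.X j) := hE.isAffine_obj
  refine ⟨inferInstance, hfin, fun j => ?_, ?_⟩
  · show IsAffine (pullback g (E.f j))
    infer_instance
  · intro V _ _ g'
    obtain ⟨W, hWd, hWv, φ, hφ, j, h, hh⟩ := hE.lift V (g' ≫ g)
    refine ⟨W, hWd, hWv, φ, hφ, j, ?_⟩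
    refine ⟨pullback.lift (Spec.map φ ≫ g') h (by rw [Category.assoc, hh]), ?_⟩
    exact pullback.lift_fst _ _ _

theorem isStandardV_bind {T : Scheme.{u}} (E : PreZeroHypercover.{w} T) (hE : IsStandardV E)
    (F : ∀ j, PreZeroHypercover.{w'} (E.X j)) (hF : ∀ j, IsStandardV (F j)) :
    IsStandardV (E.bind F) := by
  have hT : IsAffine T := hE.isAffine
  have hfin : Finite E.I₀ := hE.finite_index
  have hfinF : ∀ j, Finite (F j).I₀ := fun j => (hF j).finite_index
  refine ⟨hT, ?_, fun ij => (hF ij.1).isAffine_obj ij.2, ?_⟩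
  · show Finite (Σ (i : E.I₀), (F i).I₀)
    infer_instance
  · intro V _ _ g
    obtain ⟨W, hWd, hWv, φ, hφ, j, g₁, hg₁⟩ := hE.lift V g
    obtain ⟨W', hWd', hWv', φ', hφ', i, g₂, hg₂⟩ := (hF j).lift W g₁
    refine ⟨W', hWd', hWv', φ ≫ φ', ?_, ⟨j, i⟩, g₂, ?_⟩
    · refine ⟨?_, ?_⟩
      · rw [CommRingCat.hom_comp]
        exact hφ'.1.comp hφ.1
      · rw [CommRingCat.hom_comp]
        have h1 : IsLocalHom φ.hom := hφ.2
        have h2 : IsLocalHom φ'.hom := hφ'.2
        exact RingHom.isLocalHom_comp _ _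
    · show g₂ ≫ (F j).f i ≫ E.f j = Spec.map (φ ≫ φ') ≫ g
      rw [← Category.assoc, hg₂, Category.assoc, hg₁, Spec.map_comp, Category.assoc]

/-- the trivial extension of valuation rings -/
theorem isExtVal_id (V : CommRingCat.{u}) [IsDomain V] [ValuationRing V] : IsExtVal V V (𝟙 V) :=
  ⟨fun _ _ h => h, by
    rw [CommRingCat.hom_id]
    infer_instance⟩

/-- a morphism from the spectrum of a local ring lands in an open as soon as the closed point
does. -/
theorem range_subset_of_closedPoint_mem {X : Scheme.{u}} (R : CommRingCat.{u}) [IsLocalRing R]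
    (g : Spec R ⟶ X) (U : Set X) (hU : IsOpen U) (h : g (IsLocalRing.closedPoint R) ∈ U) :
    Set.range g ⊆ U := by
  rintro _ ⟨x, rfl⟩
  have hx : x ⤳ IsLocalRing.closedPoint R := IsLocalRing.specializes_closedPoint x
  exact (hx.map g.continuous).mem_open hU h

/-- A jointly surjective family of open immersions has the valuative lifting property. -/
theorem hasValLift_of_isOpenImmersion {T : Scheme.{u}} (E : PreZeroHypercover.{w} T)
    (hopen : ∀ j, IsOpenImmersion (E.f j)) (hsurj : ∀ t : T, ∃ j, t ∈ Set.range (E.f j)) :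
    HasValLift E := by
  intro V _ _ g
  obtain ⟨j, hj⟩ := hsurj (g (IsLocalRing.closedPoint V))
  have := hopen j
  have hsub : Set.range g ⊆ Set.range (E.f j) :=
    range_subset_of_closedPoint_mem V g _ (E.f j).isOpenEmbedding.isOpen_range hj
  refine ⟨V, inferInstance, inferInstance, 𝟙 V, isExtVal_id V, j,
    IsOpenImmersion.lift (E.f j) g hsub, ?_⟩
  rw [IsOpenImmersion.lift_fac, Spec.map_id, Category.id_comp]

/-- A finite jointly surjective family of open immersions from affines to an affine scheme is a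
standard V covering. -/
theorem isStandardV_of_isOpenImmersion {T : Scheme.{u}} [IsAffine T] (E : PreZeroHypercover.{w} T)
    [Finite E.I₀] (haff : ∀ j, IsAffine (E.X j))
    (hopen : ∀ j, IsOpenImmersion (E.f j)) (hsurj : ∀ t : T, ∃ j, t ∈ Set.range (E.f j)) :
    IsStandardV E :=
  ⟨inferInstance, inferInstance, haff, hasValLift_of_isOpenImmersion E hopen hsurj⟩

/-- Key refinement lemma: if `E` is a V covering of `T` and `g : T' ⟶ T` with `T'` affine, there
is a standard V covering of `T'` (indexed in universe 0) refining the base change of `E`. -/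
theorem exists_standardV_refinesOver {T T' : Scheme.{u}} [IsAffine T'] (g : T' ⟶ T)
    (E : PreZeroHypercover.{w} T) (hE : IsVCover E) :
    ∃ F : PreZeroHypercover.{0} T', IsStandardV F ∧ RefinesOver g F E := by
  classical
  -- choose affine opens
  have h1 : ∀ x : T', ∃ U : T.Opens, IsAffineOpen U ∧ g x ∈ U := fun x => by
    obtain ⟨U, hU, hx, -⟩ :=
      exists_isAffineOpen_mem_and_subset (X := T) (x := g x) (U := ⊤) trivial
    exact ⟨U, hU, hx⟩
  choose U hUaff hxU using h1
  have h2 : ∀ x : T', ∃ V : T'.Opens, IsAffineOpen V ∧ x ∈ V ∧ V ≤ g ⁻¹ᵁ (U x) := fun x => by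
    obtain ⟨V, hV, hx, hle⟩ :=
      exists_isAffineOpen_mem_and_subset (X := T') (x := x) (U := g ⁻¹ᵁ (U x)) (hxU x)
    exact ⟨V, hV, hx, hle⟩
  choose V hVaff hxV hVU using h2
  obtain ⟨s, hs⟩ := isCompact_univ.elim_finite_subcover (fun x => (V x : Set T'))
    (fun x => (V x).2) (fun x _ => Set.mem_iUnion.mpr ⟨x, hxV x⟩)
  -- index by `Fin n`
  let e : Fin s.card ≃ ↥s := s.equivFin.symm
  let pt : Fin s.card → T' := fun k => (e k).1
  -- standard V coverings of the `U (pt k)`
  have h3 : ∀ k : Fin s.card, ∃ F : PreZeroHypercover.{0} ((U (pt k) : T.Opens) : Scheme.{u}),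
      IsStandardV F ∧ RefinesOver (U (pt k)).ι F E := fun k => hE ⟨U (pt k), hUaff (pt k)⟩
  choose F hFstd hFref using h3
  let gk : ∀ k : Fin s.card, ((V (pt k) : T'.Opens) : Scheme.{u}) ⟶
      ((U (pt k) : T.Opens) : Scheme.{u}) := fun k => g.resLE (U (pt k)) (V (pt k)) (hVU (pt k))
  have hgk : ∀ k, gk k ≫ (U (pt k)).ι = (V (pt k)).ι ≫ g := fun k =>
    Scheme.Hom.resLE_comp_ι _ _
  let 𝒱 : PreZeroHypercover.{0} T' :=
    { I₀ := Fin s.card
      X := fun k => ((V (pt k) : T'.Opens) : Scheme.{u})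
      f := fun k => (V (pt k)).ι }
  have h𝒱 : IsStandardV 𝒱 := by
    have : Finite 𝒱.I₀ := inferInstanceAs (Finite (Fin s.card))
    refine isStandardV_of_isOpenImmersion 𝒱 (fun k => hVaff (pt k))
      (fun k => inferInstanceAs (IsOpenImmersion (V (pt k)).ι)) (fun t => ?_)
    have ht := hs (Set.mem_univ t)
    simp only [Set.mem_iUnion] at ht
    obtain ⟨x, hxs, htx⟩ := ht
    refine ⟨e.symm ⟨x, hxs⟩, ?_⟩
    show t ∈ Set.range (V (pt (e.symm ⟨x, hxs⟩))).ι
    rw [Scheme.Opens.range_ι]
    simp only [pt, Equiv.apply_symm_apply]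
    exact htx
  let H : ∀ k : 𝒱.I₀, PreZeroHypercover.{0} (𝒱.X k) := fun k => (F k).pullback₁ (gk k)
  have hH : ∀ k, IsStandardV (H k) := fun k => by
    have : IsAffine ((V (pt k) : T'.Opens) : Scheme.{u}) := hVaff (pt k)
    exact isStandardV_pullback₁ (gk k) (F k) (hFstd k)
  refine ⟨𝒱.bind H, isStandardV_bind 𝒱 h𝒱 H hH, ?_⟩
  rintro ⟨k, j⟩
  obtain ⟨i, h', hh'⟩ := hFref k j
  refine ⟨i, (pullback.snd (gk k) ((F k).f j) : pullback (gk k) ((F k).f j) ⟶ (F k).X j) ≫ h', ?_⟩
  show (pullback.snd (gk k) ((F k).f j) ≫ h') ≫ E.f i =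
    (pullback.fst (gk k) ((F k).f j) ≫ (V (pt k)).ι) ≫ g
  rw [Category.assoc, hh', ← Category.assoc, ← pullback.condition, Category.assoc, hgk,
    Category.assoc]

end Groth.Agent.Lib.HTopBasic
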