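import Groth.Agent.Lib.LimDescentBC

/-!
# Re-basing lemmas for `IsBC` (transitivity, factorisation through a monomorphism)
-/

set_option autoImplicit false
universe u

open CategoryTheory Limits AlgebraicGeometry

namespace Groth.Agent.Lib.LimDescent

variable {X₀ Y₀ B : Scheme.{u}} {f₀ : X₀ ⟶ Y₀} {g₀ : Y₀ ⟶ B}

/-- Transitivity of base change. -/
theorem isBC_trans {B₁ X₁ Y₁ : Scheme.{u}} {b₁ : B₁ ⟶ B} {h₁ : X₁ ⟶ Y₁} {pY₁ : Y₁ ⟶ Y₀}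
    {gY₁ : Y₁ ⟶ B₁} {pX₁ : X₁ ⟶ X₀} (hY₁ : IsPullback pY₁ gY₁ g₀ b₁)
    (hX₁ : IsPullback pX₁ h₁ f₀ pY₁) {B₂ X₂ Y₂ : Scheme.{u}} {b₂ : B₂ ⟶ B₁} {h₂ : X₂ ⟶ Y₂}
    (H₂ : IsBC h₁ gY₁ b₂ h₂) : IsBC f₀ g₀ (b₂ ≫ b₁) h₂ := by
  obtain ⟨pY₂, gY₂, pX₂, hY₂, hX₂⟩ := H₂
  exact ⟨pY₂ ≫ pY₁, gY₂, pX₂ ≫ pX₁, hY₂.paste_horiz hY₁, hX₂.paste_horiz hX₁⟩

/-- If `h₁ = r ≫ ι` and `ρ` is a base change of `r` (over `B₁` via `ι ≫ gY₁`) along `b₂`, then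
`ρ ≫ ι₂` is a base change of `h₁` along `b₂`, where `ι₂` is a base change of `ι`. -/
theorem isBC_of_factor {B₁ X₁ V Y₁ : Scheme.{u}} (r : X₁ ⟶ V) (ι : V ⟶ Y₁) (gY₁ : Y₁ ⟶ B₁)
    {B₂ T W : Scheme.{u}} {b₂ : B₂ ⟶ B₁} {ρ : T ⟶ W} (H : IsBC r (ι ≫ gY₁) b₂ ρ) :
    ∃ (ι₂ : W ⟶ pullback gY₁ b₂) (pW : W ⟶ V), IsPullback pW ι₂ ι (pullback.fst gY₁ b₂) ∧
      IsBC (r ≫ ι) gY₁ b₂ (ρ ≫ ι₂) := by
  obtain ⟨pW, gW, pT, hW, hT⟩ := H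
  let ι₂ : W ⟶ pullback gY₁ b₂ := pullback.lift (pW ≫ ι) gW (by rw [Category.assoc, hW.w])
  have h1 : ι₂ ≫ pullback.fst gY₁ b₂ = pW ≫ ι := pullback.lift_fst _ _ _
  have h2 : ι₂ ≫ pullback.snd gY₁ b₂ = gW := pullback.lift_snd _ _ _
  have sq : IsPullback pW ι₂ ι (pullback.fst gY₁ b₂) := by
    refine IsPullback.of_bot ?_ h1.symm (IsPullback.of_hasPullback gY₁ b₂)
    rw [h2]
    exact hW
  exact ⟨ι₂, pW, sq, pullback.fst gY₁ b₂, pullback.snd gY₁ b₂, pT,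
    IsPullback.of_hasPullback gY₁ b₂, hT.paste_vert sq⟩

/-- Two base changes of the same morphism along the same map are isomorphic as arrows; in
particular iso-invariant properties transfer. -/
theorem IsBC.iff_of_isBC (P : MorphismProperty Scheme.{u}) [P.RespectsIso] {B' X' Y' X'' Y'' : Scheme.{u}}
    {b : B' ⟶ B} {h : X' ⟶ Y'} {h' : X'' ⟶ Y''} (H : IsBC f₀ g₀ b h) (H' : IsBC f₀ g₀ b h') :
    P h ↔ P h' := (H.iff P).trans (H'.iff P).symm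

end Groth.Agent.Lib.LimDescent
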