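import Groth.Agent.Lib.SubtrLimH52
import Groth.Agent.Lib.ValCenter2
import Groth.Agent.Lib.LimDescentRebase
import Groth.Agent.Lib.FGSubalgLimit
import Groth.Agent.Lib.HTopBasic

set_option autoImplicit false
universe u
open CategoryTheory CategoryTheory.Limits AlgebraicGeometry IsLocalRing Topology

namespace Groth.Agent.Lib.SubtrNoethH52

open Groth.Agent.Lib Groth.Agent.Lib.ValSpecialize Subtr Groth.Agent.Lib.LimDescent
  Groth.Agent.Lib.SubtrH52 Groth.Agent.Lib.SubtrLimH52 Groth.Agent.Lib.HTopBasic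
  Groth.Agent.Lib.FGSubalgLimit

/-- In a locally Noetherian scheme every proper specialization `y' ⤳ y` is realised by a discrete
valuation ring of the residue field of `y'` (EGA II 7.1.7). -/
theorem exists_dvr_of_specializes {Y : Scheme.{u}} [IsLocallyNoetherian Y] {y' y : Y}
    (h : y' ⤳ y) (hne : y' ≠ y) :
    ∃ (A : ValuationSubring (Y.residueField y')) (_ : IsDiscreteValuationRing A)
      (l : Spec (CommRingCat.of A) ⟶ Y),
      l (closedPoint A) = y ∧ l (⟨⊥, Ideal.isPrime_bot⟩ : PrimeSpectrum A) = y' := by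
  let ρ : Y.presheaf.stalk y ⟶ Y.residueField y' :=
    Y.presheaf.stalkSpecializes h ≫ Y.residue y'
  have hfac : Spec.map ρ ≫ Y.fromSpecStalk y = Y.fromSpecResidueField y' := by
    rw [Scheme.fromSpecResidueField, ← Scheme.SpecMap_stalkSpecializes_fromSpecStalk h,
      ← Spec.map_comp_assoc]
  let _ : Algebra (Y.presheaf.stalk y) (Y.residueField y') := ρ.hom.toAlgebra
  have hess : Algebra.EssFiniteType (Y.presheaf.stalk y) (Y.residueField y') := by
    rw [← RingHom.essFiniteType_algebraMap]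
    show ρ.hom.EssFiniteType
    have h1 : (Y.presheaf.stalkSpecializes h).hom.EssFiniteType :=
      ValCenter.essFiniteType_stalkSpecializes h
    have h2 : (Y.residue y').hom.EssFiniteType :=
      RingHom.FiniteType.essFiniteType
        (RingHom.FiniteType.of_surjective _ (Scheme.residue_surjective Y y'))
    exact RingHom.EssFiniteType.comp h1 h2
  have hR : ∃ t ∈ maximalIdeal (Y.presheaf.stalk y),
      algebraMap (Y.presheaf.stalk y) (Y.residueField y') t ≠ 0 := by
    by_contra hcon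
    push Not at hcon
    apply hne
    -- then `Spec.map ρ` sends the point to the closed point
    let cL : ↥(Spec (Y.residueField y')) := closedPoint (Y.residueField y')
    let cR : ↥(Spec (Y.presheaf.stalk y)) := closedPoint (Y.presheaf.stalk y)
    have hcl : Spec.map ρ cL = cR := by
      apply PrimeSpectrum.ext
      show Ideal.comap ρ.hom (maximalIdeal (Y.residueField y')) =
        maximalIdeal (Y.presheaf.stalk y)
      apply le_antisymm
      · exact IsLocalRing.le_maximalIdeal (Ideal.IsPrime.ne_top inferInstance)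
      · intro t ht
        have h0 : ρ.hom t = 0 := hcon t ht
        rw [Ideal.mem_comap, h0]
        exact Ideal.zero_mem _
    have h3 : Y.fromSpecStalk y (Spec.map ρ cL) = Y.fromSpecResidueField y' cL :=
      congrArg (fun ψ : Spec (Y.residueField y') ⟶ Y => ψ cL) hfac
    have h4 : Y.fromSpecStalk y cR = y := Scheme.fromSpecStalk_closedPoint
    have h5 : Y.fromSpecResidueField y' cL = y' := Scheme.fromSpecResidueField_apply _ _
    exact h5.symm.trans (h3.symm.trans ((congrArg (Y.fromSpecStalk y) hcl).trans h4))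
  obtain ⟨A, hA, hmem, hloc⟩ := DvrDominating.exists_dvr_dominating (Y.presheaf.stalk y)
    (Y.residueField y') hR
  let ρA : Y.presheaf.stalk y ⟶ CommRingCat.of A :=
    CommRingCat.ofHom (ρ.hom.codRestrict A.toSubring hmem)
  let l : Spec (CommRingCat.of A) ⟶ Y := Spec.map ρA ≫ Y.fromSpecStalk y
  let cA : ↥(Spec (CommRingCat.of A)) := closedPoint A
  let cR : ↥(Spec (Y.presheaf.stalk y)) := closedPoint (Y.presheaf.stalk y)
  let cL : ↥(Spec (Y.residueField y')) := closedPoint (Y.residueField y')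
  have hl1 : l cA = y := by
    have h1 : Spec.map ρA cA = cR :=
      comap_closedPoint (S := A) (ρ.hom.codRestrict A.toSubring hmem)
    have h4 : Y.fromSpecStalk y cR = y := Scheme.fromSpecStalk_closedPoint
    exact (congrArg (Y.fromSpecStalk y) h1).trans h4
  have hl2 : Spec.map (CommRingCat.ofHom (algebraMap A (Y.residueField y'))) ≫ l =
      Y.fromSpecResidueField y' := by
    rw [← hfac]
    show _ ≫ Spec.map ρA ≫ Y.fromSpecStalk y = _
    rw [← Spec.map_comp_assoc]
    rfl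
  refine ⟨A, hA, l, hl1, ?_⟩
  have h3 : l (Spec.map (CommRingCat.ofHom (algebraMap A (Y.residueField y'))) cL) =
      Y.fromSpecResidueField y' cL :=
    congrArg (fun ψ : Spec (Y.residueField y') ⟶ Y => ψ cL) hl2
  have h5 : Y.fromSpecResidueField y' cL = y' := Scheme.fromSpecResidueField_apply _ _
  have h6 : Spec.map (CommRingCat.ofHom (algebraMap A (Y.residueField y'))) cL =
      (⟨⊥, Ideal.isPrime_bot⟩ : PrimeSpectrum A) := specMap_algebraMap_closedPoint A
  exact (congrArg l h6).symm.trans (h3.trans h5)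

/-- the morphism property "S-subtrusive" -/
def SSub : MorphismProperty Scheme.{u} := fun _ _ f => IsSSubtrusive f

theorem isSSubtrusive_comp_iso {X Y Y' : Scheme.{u}} (f : X ⟶ Y) (e : Y ≅ Y')
    (hf : IsSSubtrusive f) : IsSSubtrusive (f ≫ e.hom) := by
  intro y y' hy
  obtain ⟨x, x', hx, h1, h2⟩ := hf (hy.map e.inv.continuous)
  refine ⟨x, x', hx, ?_, ?_⟩
  · rw [Scheme.Hom.comp_apply, h1, ← Scheme.Hom.comp_apply, Iso.inv_hom_id]; rfl
  · rw [Scheme.Hom.comp_apply, h2, ← Scheme.Hom.comp_apply, Iso.inv_hom_id]; rfl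

instance : (SSub.{u}).RespectsIso := by
  apply MorphismProperty.RespectsIso.mk
  · intro X Y Z e f hf
    exact isSSubtrusive_iso_comp e f hf
  · intro X Y Z e f hf
    exact isSSubtrusive_comp_iso f e hf

/-- `pullback.snd f t` is a base change of `f` along `t` in the sense of `IsBC`. -/
theorem isBC_snd {X Y T : Scheme.{u}} (f : X ⟶ Y) (t : T ⟶ Y) :
    IsBC f (𝟙 Y) t (pullback.snd f t) :=
  ⟨t, 𝟙 T, pullback.fst f t, IsPullback.of_vert_isIso ⟨by simp⟩, IsPullback.of_hasPullback f t⟩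

/-- S-subtrusiveness of a base change only depends on the base-change map -/
theorem isSSubtrusive_iff_of_isPullback {X Y T P : Scheme.{u}} (f : X ⟶ Y) (t : T ⟶ Y)
    (p : P ⟶ X) (q : P ⟶ T) (h : IsPullback p q f t) :
    IsSSubtrusive q ↔ IsSSubtrusive (pullback.snd f t) := by
  have h1 : IsBC f (𝟙 Y) t q := ⟨t, 𝟙 T, p, IsPullback.of_vert_isIso ⟨by simp⟩, h⟩
  exact IsBC.iff_of_isBC SSub h1 (isBC_snd f t)

/-- transfer of a lifted pair along a map of the bases -/
theorem exists_lift_of_comp {X Y T T' : Scheme.{u}} (f : X ⟶ Y) (t : T ⟶ Y) (l : T' ⟶ T)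
    {w w' : T'} (H : ∃ z z' : ↑(pullback f (l ≫ t)), z' ⤳ z ∧ pullback.snd f (l ≫ t) z = w ∧
      pullback.snd f (l ≫ t) z' = w') :
    ∃ x x' : ↑(pullback f t), x' ⤳ x ∧ pullback.snd f t x = l w ∧ pullback.snd f t x' = l w' := by
  obtain ⟨z, z', hz, h1, h2⟩ := H
  let m : pullback f (l ≫ t) ⟶ pullback f t :=
    pullback.lift (pullback.fst f (l ≫ t)) (pullback.snd f (l ≫ t) ≫ l)
      (by rw [Category.assoc, ← pullback.condition])
  have hm : m ≫ pullback.snd f t = pullback.snd f (l ≫ t) ≫ l := pullback.lift_snd _ _ _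
  refine ⟨m z, m z', hz.map m.continuous, ?_, ?_⟩
  · rw [← Scheme.Hom.comp_apply, hm, Scheme.Hom.comp_apply, h1]
  · rw [← Scheme.Hom.comp_apply, hm, Scheme.Hom.comp_apply, h2]

/-- The limit theorem in the form: `X ×_Y T ⟶ T` for `T = lim T_i` over `Y`. -/
theorem isSSubtrusive_snd_of_isLimit {X Y : Scheme.{u}} (f : X ⟶ Y) [QuasiCompact f]
    {I : Type u} [SmallCategory I] [IsCofiltered I] (D : I ⥤ Scheme.{u})
    [∀ {i j : I} (a : i ⟶ j), IsAffineHom (D.map a)] (c : Cone D) (hc : IsLimit c)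
    (t : ∀ i, D.obj i ⟶ Y) (ht : ∀ {i j : I} (a : i ⟶ j), D.map a ≫ t j = t i) (i₀ : I)
    (h : ∀ j : Over i₀, IsSSubtrusive (pullback.snd f (t j.left))) :
    IsSSubtrusive (pullback.snd f (c.π.app i₀ ≫ t i₀)) := by
  let f₀ := pullback.snd f (t i₀)
  have key : ∀ {B' : Scheme.{u}} (b : B' ⟶ D.obj i₀),
      IsSSubtrusive (bcMap f₀ (𝟙 (D.obj i₀)) b) ↔ IsSSubtrusive (pullback.snd f (b ≫ t i₀)) := by
    intro B' b
    have h1 : IsBC f (𝟙 Y) (b ≫ t i₀) (bcMap f₀ (𝟙 (D.obj i₀)) b) :=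
      isBC_trans (pY₁ := t i₀) (gY₁ := 𝟙 (D.obj i₀)) (pX₁ := pullback.fst f (t i₀))
        (IsPullback.of_vert_isIso ⟨by simp⟩) (IsPullback.of_hasPullback f (t i₀))
        (isBC_bcMap f₀ (𝟙 (D.obj i₀)) b)
    exact IsBC.iff_of_isBC SSub h1 (isBC_snd f (b ≫ t i₀))
  have hlim := isSSubtrusive_bcMap_of_forall D c hc i₀ f₀ (𝟙 (D.obj i₀)) (Over.mk (𝟙 i₀))
    (fun j => (key (D.map j.left.hom)).mpr (by rw [ht]; exact h j.left))
  exact (key (c.π.app i₀)).mp hlim

/-- a universally submersive morphism lifts ordered pairs after base change to a locally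
Noetherian scheme -/
theorem isSSubtrusive_snd_of_univSubmersive {X Y T : Scheme.{u}} (f : X ⟶ Y)
    (hf : SGA1.UnivSubmersive f) [IsLocallyNoetherian T] (t : T ⟶ Y) :
    IsSSubtrusive (pullback.snd f t) := by
  intro y y' hy
  have hq : ∀ {T' : Scheme.{u}} (s : T' ⟶ Y), Topology.IsQuotientMap (pullback.snd f s) :=
    fun s => hf _ _ _ (IsPullback.of_hasPullback f s).flip
  by_cases hyy : y' = y
  · obtain ⟨x, hx⟩ := (hq t).surjective y
    exact ⟨x, x, specializes_rfl, hx, hx.trans hyy.symm⟩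
  · obtain ⟨A, hA, l, hl1, hl2⟩ := exists_dvr_of_specializes hy hyy
    have hS : IsSSubtrusive (pullback.snd f (l ≫ t)) :=
      (isQuotientMap_iff_isSSubtrusive_of_dvr A (pullback.snd f (l ≫ t))).mp (hq (l ≫ t))
    obtain ⟨z, z', hz, h1, h2⟩ := hS (bot_specializes (closedPoint A))
    obtain ⟨x, x', hx, h3, h4⟩ := exists_lift_of_comp f t l ⟨z, z', hz, h1, h2⟩
    exact ⟨x, x', hx, h3.trans hl1, h4.trans hl2⟩

/-- Noetherian approximation: over a locally Noetherian base, a quasi-compact morphism is universally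
S-subtrusive as soon as its base changes to Noetherian schemes are S-subtrusive. -/
theorem univSSubtrusive_of_forall_noetherian {X Y : Scheme.{u}} [IsLocallyNoetherian Y]
    (f : X ⟶ Y) [QuasiCompact f]
    (h : ∀ (T : Scheme.{u}) [IsNoetherian T] (t : T ⟶ Y), IsSSubtrusive (pullback.snd f t)) :
    UnivSSubtrusive f := by
  apply univSSubtrusive_of_valuationRing
  intro V _ _ _ g
  obtain ⟨U, hU, hcU, -⟩ := exists_isAffineOpen_mem_and_subset (X := Y)
    (x := g (closedPoint V)) (U := ⊤) trivial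
  have hsub : Set.range g ⊆ (U : Set Y) :=
    range_subset_of_closedPoint_mem (CommRingCat.of V) g _ U.2 hcU
  let gU : Spec (CommRingCat.of V) ⟶ (U : Scheme.{u}) :=
    IsOpenImmersion.lift U.ι g (by rw [Scheme.Opens.range_ι]; exact hsub)
  have hgU : gU ≫ U.ι = g := IsOpenImmersion.lift_fac _ _ _
  have hR : IsNoetherianRing Γ(Y, U) := IsLocallyNoetherian.component_noetherian ⟨U, hU⟩
  let ρ : Γ(Y, U) ⟶ CommRingCat.of V := Spec.preimage (gU ≫ hU.isoSpec.hom)
  have hρ : Spec.map ρ = gU ≫ hU.isoSpec.hom := Spec.map_preimage _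
  have hg : g = Spec.map ρ ≫ hU.fromSpec := by
    rw [hρ, Category.assoc, IsAffineOpen.isoSpec_hom_fromSpec, hgU]
  let _ : Algebra Γ(Y, U) V := ρ.hom.toAlgebra
  let t : ∀ A : (FGSub Γ(Y, U) V)ᵒᵖ, (D Γ(Y, U) V).obj A ⟶ Y :=
    fun A => toBase Γ(Y, U) V A ≫ hU.fromSpec
  have ht : ∀ {i j : (FGSub Γ(Y, U) V)ᵒᵖ} (a : i ⟶ j), (D Γ(Y, U) V).map a ≫ t j = t i := by
    intro i j a
    show (D Γ(Y, U) V).map a ≫ toBase Γ(Y, U) V j ≫ hU.fromSpec = _
    rw [← Category.assoc, map_toBase]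
  let i₀ : (FGSub Γ(Y, U) V)ᵒᵖ := Opposite.op ⟨⊥, Subalgebra.fg_bot⟩
  have hlim := isSSubtrusive_snd_of_isLimit f (D Γ(Y, U) V) (cone Γ(Y, U) V)
    (isLimitCone Γ(Y, U) V) t ht i₀ (fun j => h _ (t j.left))
  have hg' : g = (cone Γ(Y, U) V).π.app i₀ ≫ t i₀ := by
    rw [hg]
    show _ = (cone Γ(Y, U) V).π.app i₀ ≫ toBase Γ(Y, U) V i₀ ≫ hU.fromSpec
    rw [← Category.assoc, cone_π_toBase]
    rfl
  rw [hg']
  exact hlim

end Groth.Agent.Lib.SubtrNoethH52
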