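import Groth.Agent.Lib.EffDescRefineSecH52
import Groth.Agent.Lib.HenselKPointH52
import Groth.Agent.Lib.QFinHenselH52
import Groth.Agent.Lib.SubtrNoethH52
import Groth.Agent.Lib.EtDescH52b

/-!
# Sections of étale descent data through points of the closed fibre, over a henselian local base
with algebraically closed residue field (helper52)

`B` Noetherian henselian local with algebraically closed residue field, `p : X ⟶ Spec B`
universally submersive, of finite type and quasi-finite, `D` a descent datum relative to `p` with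
étale underlying morphism `V ⟶ X`.  Then every point of `V` over the closed point of `Spec B` lies
in the image of a section of `D` over `Spec B` (`exists_sec_through`).  (SGA 1 IX 4.9, the local
step: the finite part `∐ Spec 𝒪_{X,x}` of `X` is a disjoint union of henselian local schemes with
residue field `k`, over which étale morphisms have sections through every `k`-point.)
-/

set_option autoImplicit false
set_option linter.style.haveILetI false
set_option backward.isDefEq.respectTransparency false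
set_option backward.isDefEq.respectTransparency.types false

universe u

open CategoryTheory CategoryTheory.Limits AlgebraicGeometry Opposite IsLocalRing

namespace Groth.Agent.Lib.EffDescH52

open Desc Groth.Agent.Lib.SubmDescH52 Groth.Agent.Lib.HenselKPointH52
  Groth.Agent.Lib.SubmFamilyH52

section

variable (B : Type u) [CommRing B] [IsLocalRing B] {X : Scheme.{u}}
  (p : X ⟶ Spec (CommRingCat.of B))

/-- A finite local chart of `X` at a point of the closed fibre. -/
structure Chart (x : X) where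
  /-- the ring -/
  R : Type u
  [cr : CommRing R]
  [alg : Algebra B R]
  [fin : Module.Finite B R]
  [loc : IsLocalRing R]
  /-- the chart -/
  j : Spec (CommRingCat.of R) ⟶ X
  [oi : IsOpenImmersion j]
  fac : j ≫ p = Spec.map (CommRingCat.ofHom (algebraMap B R))
  pt : j (closedPoint R) = x

attribute [instance] Chart.cr Chart.alg Chart.fin Chart.loc Chart.oi

theorem nonempty_chart (hB : HenselianLocalRing B) [LocallyOfFiniteType p] [LocallyQuasiFinite p]
    (x : X) (hx : p x = closedPoint B) : Nonempty (Chart B p x) := by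
  obtain ⟨R, _, _, _, _, j, _, hj2, hj3⟩ :=
    @Groth.Agent.Lib.QFinHenselH52.exists_finite_local_chart B _ hB _ p _ x hx
      (Scheme.Hom.quasiFiniteAt p x)
  exact ⟨{ R := R, j := j, fac := hj2, pt := hj3 }⟩

end

section Main

variable (B : Type u) [CommRing B] [IsLocalRing B] [IsNoetherianRing B]
  (hB : HenselianLocalRing B) [IsAlgClosed (ResidueField B)]
  {X : Scheme.{u}} (p : X ⟶ Spec (CommRingCat.of B)) (hp : SGA1.UnivSubmersive p)
  [LocallyOfFiniteType p] [QuasiCompact p] [LocallyQuasiFinite p]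
  (D : SchDD p) [Etale D.obj.hom]

include hB hp in
theorem exists_isInvSection_through (v₀ : D.obj.left)
    (hv₀ : p (D.obj.hom v₀) = closedPoint B) :
    ∃ m : X ⟶ D.obj.left, IsInvSection D m ∧ v₀ ∈ Set.range m := by
  classical
  let k := ResidueField B
  let Ω : Scheme.{u} := Spec (CommRingCat.of k)
  let o : Ω := closedPoint k
  have ho : ∀ o' : Ω, o' = o := fun o' => Subsingleton.elim (α := PrimeSpectrum k) _ _
  let π : D.obj.left ⟶ X := D.obj.hom
  -- the closed fibre and its charts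
  let ι : Type u := ↥(p ⁻¹' {closedPoint B})
  haveI : Finite ι := (Scheme.Hom.finite_preimage_singleton p (closedPoint B)).to_subtype
  let ch : ∀ x : ι, Chart B p x.1 := fun x => (nonempty_chart B p hB x.1 x.2).some
  let Y : ι → Scheme.{u} := fun x => Spec (CommRingCat.of (ch x).R)
  let j : ∀ x, Y x ⟶ X := fun x => (ch x).j
  let a : ∀ x, Y x ⟶ Spec (CommRingCat.of B) :=
    fun x => Spec.map (CommRingCat.ofHom (algebraMap B (ch x).R))
  have hja : ∀ x, j x ≫ p = a x := fun x => (ch x).fac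
  let c : ∐ Y ⟶ X := Sigma.desc j
  have hιc : ∀ x, Sigma.ι Y x ≫ c = j x := fun x => Sigma.ι_desc _ _
  have hcp : c ≫ p = Sigma.desc a := by
    apply Sigma.hom_ext
    intro x
    rw [Sigma.ι_desc_assoc, Sigma.ι_desc]
    exact hja x
  haveI hfin : ∀ x, IsFinite (a x) := fun x => by
    rw [IsFinite.SpecMap_iff]
    exact RingHom.finite_algebraMap.mpr inferInstance
  have hsurj : ∀ s : ↥(Spec (CommRingCat.of B)), ∃ x, s ∈ Set.range (a x) := by
    intro s
    have hs : s ⤳ closedPoint B := IsLocalRing.specializes_closedPoint (R := B) s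
    have hsub := Groth.Agent.Lib.SubtrNoethH52.isSSubtrusive_snd_of_univSubmersive p hp
      (𝟙 (Spec (CommRingCat.of B)))
    obtain ⟨z, z', hzz', hz, hz'⟩ := hsub hs
    have hpz : ∀ z'' : ↥(pullback p (𝟙 (Spec (CommRingCat.of B)))),
        p (pullback.fst p (𝟙 _) z'') = pullback.snd p (𝟙 _) z'' := by
      intro z''
      rw [← Scheme.Hom.comp_apply, pullback.condition, Category.comp_id]
    let x : ι := ⟨pullback.fst p (𝟙 _) z, by
      change p (pullback.fst p (𝟙 _) z) = closedPoint B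
      rw [hpz, hz]⟩
    have hopen : IsOpen (Set.range (j x)) := (j x).isOpenEmbedding.isOpen_range
    have hmem : x.1 ∈ Set.range (j x) := ⟨closedPoint (ch x).R, (ch x).pt⟩
    have hsp : pullback.fst p (𝟙 _) z' ⤳ pullback.fst p (𝟙 _) z :=
      hzz'.map (pullback.fst p (𝟙 _)).continuous
    obtain ⟨y, hy⟩ := hsp.mem_open hopen hmem
    refine ⟨x, y, ?_⟩
    rw [← hja, Scheme.Hom.comp_apply, hy, hpz, hz']
  haveI : UniversallyClosed (c ≫ p) := by
    rw [hcp]
    exact universallyClosed_sigmaDesc Y a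
  haveI : LocallyOfFiniteType (c ≫ p) := by
    rw [hcp]
    exact IsZariskiLocalAtSource.sigmaDesc (fun x => inferInstance)
  haveI : LocallyQuasiFinite (c ≫ p) := by
    rw [hcp]
    exact IsZariskiLocalAtSource.sigmaDesc (fun x => inferInstance)
  have hsub : SGA1.UnivSubmersive (c ≫ p) := by
    rw [hcp]
    exact univSubmersive_sigmaDesc Y a hsurj
  -- `k`-points of `X` at the points of the closed fibre
  have hxt : ∀ x : ι, ∃ xt : Ω ⟶ X, xt ≫ p = kpt B ∧ ∀ z, xt z = x.1 :=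
    fun x => exists_kpoint p x.1 x.2
  choose xt hxt1 hxt2 using hxt
  have hrange : ∀ x : ι, Set.range (xt x) ⊆ Set.range (j x) := by
    rintro x _ ⟨z, rfl⟩
    rw [hxt2]
    exact ⟨closedPoint (ch x).R, (ch x).pt⟩
  let w : ∀ x : ι, Ω ⟶ Y x := fun x => IsOpenImmersion.lift (j x) (xt x) (hrange x)
  have hw : ∀ x, w x ≫ j x = xt x := fun x => IsOpenImmersion.lift_fac _ _ _
  have hwa : ∀ x, w x ≫ a x = kpt B := fun x => by
    rw [← hja, ← Category.assoc, hw, hxt1]
  -- a `k`-point through the given point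
  let x₀ : ι := ⟨π v₀, hv₀⟩
  haveI : LocallyQuasiFinite π := Groth.Agent.Lib.EtDescH52.locallyQuasiFinite_of_etale π
  obtain ⟨vt, hvt1, hvt2⟩ := exists_kpoint (π ≫ p) v₀ hv₀
  have hvtπ : vt ≫ π = xt x₀ := by
    apply kpoint_ext p _ _ (by rw [Category.assoc, hvt1]) (hxt1 x₀)
    rw [Scheme.Hom.comp_apply, hvt2, hxt2]
  -- the transported `k`-points
  have hvx : ∀ x : ι, (vt ≫ π) ≫ p = xt x ≫ p := fun x => by
    rw [Category.assoc, hvt1, hxt1]
  let vx : ∀ x : ι, Ω ⟶ D.obj.left := fun x => tr D (vt ≫ π) (xt x) (hvx x) vt rfl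
  have hvxπ : ∀ x, vx x ≫ π = xt x := fun x => tr_hom D _ _ _ _ _
  have hxx : ∀ x x' : ι, xt x ≫ p = xt x' ≫ p := fun x x' => by rw [hxt1, hxt1]
  have hvx_coc : ∀ x x', tr D (xt x) (xt x') (hxx x x') (vx x) (hvxπ x) = vx x' :=
    fun x x' => tr_comp D _ _ _ _ _ _ _
  -- sections over the charts
  have hm : ∀ x : ι, ∃ mx : Y x ⟶ D.obj.left, mx ≫ π = j x ∧ w x ≫ mx = vx x := by
    intro x
    let f : pullback π (j x) ⟶ Y x := pullback.snd π (j x)
    let t : Ω ⟶ pullback π (j x) := pullback.lift (vx x) (w x) (by rw [hvxπ, hw])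
    obtain ⟨s, hs1, hs2⟩ := exists_section_through hB f (w x) (hwa x) t (pullback.lift_snd _ _ _)
    refine ⟨s ≫ pullback.fst π (j x), ?_, ?_⟩
    · rw [Category.assoc, pullback.condition, ← Category.assoc, hs1, Category.id_comp]
    · rw [← Category.assoc, hs2, pullback.lift_fst]
  choose mx hmx1 hmx2 using hm
  let m₁ : ∐ Y ⟶ D.obj.left := Sigma.desc mx
  have hιm : ∀ x, Sigma.ι Y x ≫ m₁ = mx x := fun x => Sigma.ι_desc _ _
  have hm₁ : m₁ ≫ π = c := by
    apply Sigma.hom_ext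
    intro x
    rw [Sigma.ι_desc_assoc, Sigma.ι_desc]
    exact hmx1 x
  -- the `k`-points of the coproduct of the charts
  have hkpt : ∀ y : Ω ⟶ ∐ Y, y ≫ c ≫ p = kpt B → ∃ x, y = w x ≫ Sigma.ι Y x := by
    intro y hy
    obtain ⟨x, z, hz⟩ := (sigmaOpenCover Y).exists_eq (y o)
    have hr : Set.range y ⊆ Set.range (Sigma.ι Y x) := by
      rintro _ ⟨o', rfl⟩
      rw [ho o']
      exact ⟨z, hz⟩
    let y' : Ω ⟶ Y x := IsOpenImmersion.lift (Sigma.ι Y x) y hr
    have hy' : y' ≫ Sigma.ι Y x = y := IsOpenImmersion.lift_fac _ _ _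
    have hy'a : y' ≫ a x = kpt B := by
      rw [← hy, ← hy', Category.assoc, ← hja, ← Category.assoc (Sigma.ι Y x), hιc]
    refine ⟨x, ?_⟩
    rw [← hy']
    congr 1
    apply kpoint_ext (a x) y' (w x) hy'a (hwa x)
    rw [kpoint_apply_eq_closedPoint y' hy'a, kpoint_apply_eq_closedPoint (w x) (hwa x)]
  -- compatibility
  have hcompat : tr D (pullback.fst (c ≫ p) (c ≫ p) ≫ c) (pullback.snd (c ≫ p) (c ≫ p) ≫ c)
      (by rw [Category.assoc, Category.assoc, pullback.condition])
      (pullback.fst (c ≫ p) (c ≫ p) ≫ m₁) (by rw [Category.assoc, hm₁]) =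
        pullback.snd (c ≫ p) (c ≫ p) ≫ m₁ := by
    let pr₁ : pullback (c ≫ p) (c ≫ p) ⟶ ∐ Y := pullback.fst (c ≫ p) (c ≫ p)
    let pr₂ : pullback (c ≫ p) (c ≫ p) ⟶ ∐ Y := pullback.snd (c ≫ p) (c ≫ p)
    have hpr : pr₁ ≫ c ≫ p = pr₂ ≫ c ≫ p := pullback.condition
    have h01 : (pr₁ ≫ c) ≫ p = (pr₂ ≫ c) ≫ p := by
      rw [Category.assoc, Category.assoc, hpr]
    let α : pullback (c ≫ p) (c ≫ p) ⟶ D.obj.left :=
      tr D (pr₁ ≫ c) (pr₂ ≫ c) h01 (pr₁ ≫ m₁) (by rw [Category.assoc, hm₁])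
    let β : pullback (c ≫ p) (c ≫ p) ⟶ D.obj.left := pr₂ ≫ m₁
    have hαβ : α ≫ π = β ≫ π := by
      rw [tr_hom, Category.assoc, hm₁]
    change α = β
    apply Groth.Agent.Lib.EtDescH52.eq_of_eqLocus_eq_top π α β hαβ
    rw [eq_top_iff]
    intro z _
    let qP : pullback (c ≫ p) (c ≫ p) ⟶ Spec (CommRingCat.of B) := pr₁ ≫ c ≫ p
    haveI : UniversallyClosed qP := inferInstanceAs (UniversallyClosed (pr₁ ≫ c ≫ p))
    haveI : LocallyOfFiniteType qP := inferInstanceAs (LocallyOfFiniteType (pr₁ ≫ c ≫ p))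
    haveI : LocallyQuasiFinite qP := inferInstanceAs (LocallyQuasiFinite (pr₁ ≫ c ≫ p))
    obtain ⟨z₀, hzz₀, hz₀⟩ := exists_specializes_closedFibre qP qP.isClosedMap z
    suffices hmem : z₀ ∈ (Groth.Agent.Lib.EtDescH52.eqLocus π α β hαβ : Set _) from
      hzz₀.mem_open (Groth.Agent.Lib.EtDescH52.eqLocus π α β hαβ).2 hmem
    obtain ⟨zt, hzt1, hzt2⟩ := exists_kpoint qP z₀ hz₀
    have hy₀ : (zt ≫ pr₁) ≫ c ≫ p = kpt B := by rw [Category.assoc]; exact hzt1
    have hy₁ : (zt ≫ pr₂) ≫ c ≫ p = kpt B := by rw [Category.assoc, ← hpr]; exact hzt1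
    obtain ⟨x, hx⟩ := hkpt _ hy₀
    obtain ⟨x', hx'⟩ := hkpt _ hy₁
    have e1 : zt ≫ pr₁ ≫ c = xt x := by
      rw [← Category.assoc, hx, Category.assoc, hιc, hw]
    have e2 : zt ≫ pr₂ ≫ c = xt x' := by
      rw [← Category.assoc, hx', Category.assoc, hιc, hw]
    have e3 : zt ≫ pr₁ ≫ m₁ = vx x := by
      rw [← Category.assoc, hx, Category.assoc, hιm, hmx2]
    have e4 : zt ≫ pr₂ ≫ m₁ = vx x' := by
      rw [← Category.assoc, hx', Category.assoc, hιm, hmx2]
    have hzαβ : zt ≫ α = zt ≫ β := by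
      change zt ≫ tr D (pr₁ ≫ c) (pr₂ ≫ c) h01 (pr₁ ≫ m₁) _ = zt ≫ pr₂ ≫ m₁
      rw [tr_nat, e4, ← hvx_coc x x']
      exact tr_congr D e1 e2 e3 _ _
    exact Groth.Agent.Lib.EtDescH52.range_subset_eqLocus π α β hαβ zt hzαβ ⟨o, hzt2 o⟩
  obtain ⟨m, hm, hcm⟩ := exists_isInvSection_of_refinement c hsub D m₁ hm₁ hcompat
  refine ⟨m, hm, xt x₀ o, ?_⟩
  have e5 : xt x₀ ≫ m = vt := by
    rw [← hw, Category.assoc, ← hιc, Category.assoc, hcm, hιm, hmx2]
    change tr D (vt ≫ π) (xt x₀) (hvx x₀) vt rfl = vt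
    refine Eq.trans (tr_congr D hvtπ rfl rfl _ _) (tr_self D (xt x₀) vt hvtπ)
  rw [← Scheme.Hom.comp_apply, e5, hvt2]

include hB hp in
/-- **Sections through the points of the closed fibre.** -/
theorem exists_sec_through (v₀ : D.obj.left) (hv₀ : p (D.obj.hom v₀) = closedPoint B) :
    ∃ ξ : Sec D (Spec (CommRingCat.of B)), ξ.t = 𝟙 _ ∧ v₀ ∈ Set.range ξ.map := by
  obtain ⟨m, hm, x, hx⟩ := exists_isInvSection_through B hB p hp D v₀ hv₀
  obtain ⟨ξ, hξ1, hξ2⟩ := exists_sec_of_isInvSection hm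
  refine ⟨ξ, hξ1, ?_⟩
  obtain ⟨z, hz1, -⟩ := Scheme.Pullback.exists_preimage_pullback (f := p) (g := ξ.t) x (p x) (by
    rw [hξ1]; rfl)
  refine ⟨z, ?_⟩
  rw [hξ2, Scheme.Hom.comp_apply, hz1, hx]

end Main

end Groth.Agent.Lib.EffDescH52
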