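import Groth.Agent.Lib.EffDescSheafH52
import Groth.Agent.S1131

/-!
# Effective descent for schemes: the open locus where a section factors through another (helper52)

For sections `ξ : Sec D T`, `ζ : Sec D U₀` with `ζ.map` an open immersion and `p` fpqc:
`locus ξ ζ : T.Opens` (image in `T` of `ξ.map ⁻¹ (range ζ.map)`, open because stable opens are
saturated and `X ×_S T ⟶ T` is a quotient map), `preimage_locus`, and
`exists_locusMap : ∃ g₀ : locus ⟶ U₀, ζ.res g₀ = ξ.res (locus).ι` (via fullness of `toDD`, S1131).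
-/

set_option autoImplicit false
set_option linter.style.haveILetI false
set_option backward.isDefEq.respectTransparency false
set_option backward.isDefEq.respectTransparency.types false

universe u

open CategoryTheory CategoryTheory.Limits AlgebraicGeometry Opposite

namespace Groth.Agent.Lib.EffDescH52

open Desc

variable {X S : Scheme.{u}} {p : X ⟶ S}

section Stab

variable {D : SchDD p} {T U₀ : Scheme.{u}} (ξ : Sec D T) (ζ : Sec D U₀)

/-- Stability: if the evaluations of two sections agree at `(x₀, y)` resp. `(x₀, y')`, they agree at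
`(x₁, y)` resp. `(x₁, y')`. -/
theorem Sec.ev_eq_of_ev_eq {Z : Scheme.{u}} (x₀ x₁ : Z ⟶ X) (y : Z ⟶ T) (y' : Z ⟶ U₀)
    (h₀ : x₀ ≫ p = y ≫ ξ.t) (h₁ : x₁ ≫ p = y ≫ ξ.t) (h₀' : x₀ ≫ p = y' ≫ ζ.t)
    (e : ξ.ev x₀ y h₀ = ζ.ev x₀ y' h₀') :
    ξ.ev x₁ y h₁ = ζ.ev x₁ y' (h₁.trans (h₀.symm.trans h₀')) := by
  rw [← Sec.φ_ev ξ x₀ x₁ y h₀ h₁, ← Sec.φ_ev ζ x₀ x₁ y' h₀' (h₁.trans (h₀.symm.trans h₀'))]
  exact φ_congr D rfl rfl _ _ _ _ e

/-- If `ζ.map` is a monomorphism, so is evaluation: `ζ.ev x y = ζ.ev x y'` implies `y = y'`. -/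
theorem Sec.eq_of_ev_eq [Mono ζ.map] {Z : Scheme.{u}} (x : Z ⟶ X) (y y' : Z ⟶ U₀)
    (h : x ≫ p = y ≫ ζ.t) (h' : x ≫ p = y' ≫ ζ.t) (e : ζ.ev x y h = ζ.ev x y' h') : y = y' := by
  rw [Sec.ev, Sec.ev, cancel_mono] at e
  simpa using congr($e ≫ pullback.snd p ζ.t)

/-- Factorisation of a point of `V` lying in the image of `ζ.map` as an evaluation of `ζ`. -/
theorem Sec.exists_ev_eq [IsOpenImmersion ζ.map] {Z : Scheme.{u}} (v : Z ⟶ D.obj.left)
    (hv : Set.range v ⊆ Set.range ζ.map) :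
    ∃ (y' : Z ⟶ U₀) (h : (v ≫ D.obj.hom) ≫ p = y' ≫ ζ.t), v = ζ.ev (v ≫ D.obj.hom) y' h := by
  let l : Z ⟶ pullback p ζ.t := IsOpenImmersion.lift ζ.map v hv
  have hl : l ≫ ζ.map = v := IsOpenImmersion.lift_fac _ _ _
  have hx : l ≫ pullback.fst p ζ.t = v ≫ D.obj.hom := by
    rw [← ζ.map_hom, ← Category.assoc, hl]
  refine ⟨l ≫ pullback.snd p ζ.t, ?_, ?_⟩
  · rw [← hx, Category.assoc, pullback.condition, Category.assoc]
  · rw [Sec.ev]
    refine hl.symm.trans ?_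
    congr 1
    apply pullback.hom_ext <;> simp [hx]

end Stab

section Locus

variable [Surjective p] [Flat p] [QuasiCompact p]
variable {D : SchDD p} {T U₀ : Scheme.{u}} (ξ : Sec D T) (ζ : Sec D U₀) [IsOpenImmersion ζ.map]

/-- The open subset of `X ×_S T` mapped by `ξ` into the image of `ζ`. -/
noncomputable def preLocus : (pullback p ξ.t).Opens := ξ.map ⁻¹ᵁ ζ.map.opensRange

omit [Surjective p] [Flat p] [QuasiCompact p] in
theorem mem_preLocus_iff (z : ↥(pullback p ξ.t)) :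
    z ∈ preLocus ξ ζ ↔ ξ.map z ∈ Set.range ζ.map := Iff.rfl

omit [Surjective p] [Flat p] [QuasiCompact p] in
/-- `preLocus` is saturated for the projection to `T`. -/
theorem mem_preLocus_of_snd_eq (z₀ z : ↥(pullback p ξ.t)) (hz₀ : z₀ ∈ preLocus ξ ζ)
    (h : pullback.snd p ξ.t z₀ = pullback.snd p ξ.t z) : z ∈ preLocus ξ ζ := by
  obtain ⟨w, hw₀, hw₁⟩ := Scheme.Pullback.exists_preimage_pullback
    (f := pullback.snd p ξ.t) (g := pullback.snd p ξ.t) z₀ z h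
  let K := Spec ((pullback (pullback.snd p ξ.t) (pullback.snd p ξ.t)).residueField w)
  let ιw : K ⟶ pullback (pullback.snd p ξ.t) (pullback.snd p ξ.t) :=
    (pullback (pullback.snd p ξ.t) (pullback.snd p ξ.t)).fromSpecResidueField w
  let q₀ : K ⟶ pullback p ξ.t := ιw ≫ pullback.fst _ _
  let q₁ : K ⟶ pullback p ξ.t := ιw ≫ pullback.snd _ _
  have hq : q₀ ≫ pullback.snd p ξ.t = q₁ ≫ pullback.snd p ξ.t := by
    simp only [q₀, q₁, Category.assoc, pullback.condition]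
  let y : K ⟶ T := q₀ ≫ pullback.snd p ξ.t
  let x₀ : K ⟶ X := q₀ ≫ pullback.fst p ξ.t
  let x₁ : K ⟶ X := q₁ ≫ pullback.fst p ξ.t
  have h₀ : x₀ ≫ p = y ≫ ξ.t := by simp only [x₀, y, Category.assoc, pullback.condition]
  have h₁ : x₁ ≫ p = y ≫ ξ.t := by
    simp only [x₁, y, hq, Category.assoc, pullback.condition]
  have e₀ : ξ.ev x₀ y h₀ = q₀ ≫ ξ.map := by
    rw [Sec.ev]; congr 1; apply pullback.hom_ext <;> simp [x₀, y]
  have e₁ : ξ.ev x₁ y h₁ = q₁ ≫ ξ.map := by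
    rw [Sec.ev]; congr 1; apply pullback.hom_ext <;> simp [x₁, y, hq]
  -- the point of `K`
  have hK : ∀ k : ↥K, ιw k = w := fun k => Scheme.fromSpecResidueField_apply w k
  have hr₀ : Set.range (q₀ ≫ ξ.map) ⊆ Set.range ζ.map := by
    rintro _ ⟨k, rfl⟩
    have : (q₀ ≫ ξ.map) k = ξ.map z₀ := by
      simp only [q₀, Scheme.Hom.comp_apply, hK, hw₀]
    rw [this]
    exact hz₀
  obtain ⟨y', hy', e⟩ := Sec.exists_ev_eq ζ (q₀ ≫ ξ.map) hr₀
  have hx₀ : (q₀ ≫ ξ.map) ≫ D.obj.hom = x₀ := by rw [Category.assoc, ξ.map_hom]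
  have h₀' : x₀ ≫ p = y' ≫ ζ.t := by rw [← hx₀]; exact hy'
  have e' : ξ.ev x₀ y h₀ = ζ.ev x₀ y' h₀' := by
    rw [e₀, e]
    exact Sec.ev_congr _ hx₀ rfl _
  have key := Sec.ev_eq_of_ev_eq ξ ζ x₀ x₁ y y' h₀ h₁ h₀' e'
  rw [e₁] at key
  -- conclude
  have hne : Nonempty ↥K := inferInstance
  obtain ⟨k⟩ := hne
  have hk : (q₁ ≫ ξ.map) k = ξ.map z := by
    simp only [q₁, Scheme.Hom.comp_apply, hK, hw₁]
  rw [mem_preLocus_iff, ← hk, key, Sec.ev, Scheme.Hom.comp_apply]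
  exact ⟨_, rfl⟩

/-- The open locus of `T` over which `ξ` factors through `ζ`. -/
noncomputable def locus : T.Opens :=
  ⟨pullback.snd p ξ.t '' (preLocus ξ ζ : Set ↥(pullback p ξ.t)), by
    have hq : Topology.IsQuotientMap (pullback.snd p ξ.t) := Flat.isQuotientMap_of_surjective _
    rw [← hq.isOpen_preimage]
    convert (preLocus ξ ζ).2 using 1
    ext z
    constructor
    · rintro ⟨z₀, hz₀, h⟩
      exact mem_preLocus_of_snd_eq ξ ζ z₀ z hz₀ h
    · intro hz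
      exact ⟨z, hz, rfl⟩⟩

theorem preimage_locus : pullback.snd p ξ.t ⁻¹ᵁ locus ξ ζ = preLocus ξ ζ := by
  ext z
  constructor
  · rintro ⟨z₀, hz₀, h⟩
    exact mem_preLocus_of_snd_eq ξ ζ z₀ z hz₀ h
  · intro hz
    exact ⟨z, hz, rfl⟩

/-- The inclusion of the locus. -/
noncomputable abbrev locusι : (locus ξ ζ).toScheme ⟶ T := (locus ξ ζ).ι

theorem range_res_locus_map :
    Set.range (ξ.res (locusι ξ ζ)).map ⊆ Set.range ζ.map := by
  rintro _ ⟨z', rfl⟩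
  have e : (ξ.res (locusι ξ ζ)).map = pullback.map p (locusι ξ ζ ≫ ξ.t) p ξ.t (𝟙 X) (locusι ξ ζ) (𝟙 S)
      (by simp) (by simp) ≫ ξ.map := rfl
  rw [e, Scheme.Hom.comp_apply]
  set z := pullback.map p (locusι ξ ζ ≫ ξ.t) p ξ.t (𝟙 X) (locusι ξ ζ) (𝟙 S) (by simp) (by simp) z'
    with hz
  have h1 : pullback.snd p ξ.t z = locusι ξ ζ (pullback.snd p (locusι ξ ζ ≫ ξ.t) z') := by
    rw [hz, ← Scheme.Hom.comp_apply, ← Scheme.Hom.comp_apply, pullback.lift_snd]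
  have h2 : z ∈ pullback.snd p ξ.t ⁻¹ᵁ locus ξ ζ := by
    change pullback.snd p ξ.t z ∈ locus ξ ζ
    rw [h1]
    exact (pullback.snd p (locusι ξ ζ ≫ ξ.t) z').2
  rw [preimage_locus] at h2
  exact h2

end Locus

/-- A morphism of schemes over `X` through which a morphism of descent data factors, the second
factor being a monomorphic morphism of descent data, is a morphism of descent data. -/
theorem exists_hom_of_fac {E E' D : SchDD p} (a : E ⟶ D) (c : E' ⟶ D) [Mono c.hom.left]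
    (l : E.obj.left ⟶ E'.obj.left) (hl : l ≫ c.hom.left = a.hom.left) :
    ∃ b : E ⟶ E', b.hom.left = l := by
  have hc : c.hom.left ≫ D.obj.hom = E'.obj.hom := Over.w c.hom
  have ha : a.hom.left ≫ D.obj.hom = E.obj.hom := Over.w a.hom
  have hlE : l ≫ E'.obj.hom = E.obj.hom := by
    rw [← hc, ← Category.assoc, hl, ha]
  refine ⟨⟨Over.homMk l hlE, fun T x₀ x₁ h v w hw => ?_⟩, rfl⟩
  rw [← cancel_mono c.hom.left]
  have hw' : w.1 = v.1 ≫ l := hw
  have k1 := c.comm x₀ x₁ h w ⟨w.1 ≫ c.hom.left, by rw [Category.assoc, hc, w.2]⟩ rfl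
  have k2 := a.comm x₀ x₁ h v ⟨v.1 ≫ a.hom.left, by rw [Category.assoc, ha, v.2]⟩ rfl
  change (E'.φ x₀ x₁ h w).1 ≫ c.hom.left = ((E.φ x₀ x₁ h v).1 ≫ l) ≫ c.hom.left
  rw [Category.assoc, hl, ← k1, ← k2]
  apply φ_congr D rfl rfl
  change w.1 ≫ c.hom.left = v.1 ≫ a.hom.left
  rw [hw', Category.assoc, hl]

section LocusMap

variable [Surjective p] [Flat p] [QuasiCompact p]
variable {D : SchDD p} {T U₀ : Scheme.{u}} (ξ : Sec D T) (ζ : Sec D U₀) [IsOpenImmersion ζ.map]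

theorem exists_locusMap :
    ∃ g₀ : (locus ξ ζ).toScheme ⟶ U₀, ζ.res g₀ = ξ.res (locusι ξ ζ) := by
  let l : pullback p (locusι ξ ζ ≫ ξ.t) ⟶ pullback p ζ.t :=
    IsOpenImmersion.lift ζ.map (ξ.res (locusι ξ ζ)).map (range_res_locus_map ξ ζ)
  have hl : l ≫ ζ.map = (ξ.res (locusι ξ ζ)).map := IsOpenImmersion.lift_fac _ _ _
  haveI : Mono ζ.a.hom.left := inferInstanceAs (Mono ζ.map)
  obtain ⟨b, hb⟩ := exists_hom_of_fac (ξ.res (locusι ξ ζ)).a ζ.a l hl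
  obtain ⟨g₀, hw, e2⟩ : ∃ (g₀ : (locus ξ ζ).toScheme ⟶ U₀) (hw : g₀ ≫ ζ.t = locusι ξ ζ ≫ ξ.t),
      l = pullback.map p (locusι ξ ζ ≫ ξ.t) p ζ.t (𝟙 X) g₀ (𝟙 S) (by simp) (by simp [hw]) := by
    haveI := Groth.Agent.S1131.result p
    obtain ⟨g', hg'⟩ := (toDD p).map_surjective b
    refine ⟨g'.left, Over.w g', ?_⟩
    rw [← hb, ← hg']
    rfl
  refine ⟨g₀, ?_⟩
  apply Sec.ext' (by simpa using hw)
  intro Z x y h
  have h' : x ≫ p = y ≫ locusι ξ ζ ≫ ξ.t := by rw [h, Sec.res_t, hw]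
  have h'' : x ≫ p = (y ≫ g₀) ≫ ζ.t := by rw [h', Category.assoc, hw]
  have e0 : pullback.lift x (y ≫ g₀) h'' = pullback.lift x y h' ≫ l := by
    rw [e2]; apply pullback.hom_ext <;> simp
  calc (ζ.res g₀).ev x y h = ζ.ev x (y ≫ g₀) h'' := Sec.res_ev _ _ _ _ _
    _ = pullback.lift x (y ≫ g₀) h'' ≫ ζ.map := rfl
    _ = (pullback.lift x y h' ≫ l) ≫ ζ.map := by rw [e0]
    _ = pullback.lift x y h' ≫ (ξ.res (locusι ξ ζ)).map := by rw [Category.assoc, hl]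
    _ = (ξ.res (locusι ξ ζ)).ev x y h' := rfl

end LocusMap

end Groth.Agent.Lib.EffDescH52
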