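import Groth.Agent.Lib.EffDescHenselLocalH52
import Groth.Agent.Lib.EffDescEtSubmLocalH52

/-!
# Étale descent data along quasi-finite universally submersive morphisms: the local step
(helper52)

* `IsUnivOver.mono_m`, `IsUnivOver.isOpenImmersion_m`, `IsUnivOver.mem_range_m`: a universal
  section `ζ` of an étale descent datum over an open subscheme `W ⊆ S` is an open immersion
  `X_i ×_S U ⟶ V_i` onto the part of `V_i` over `W`.
* `exists_etale_iso_of_punctured`: SGA 1 IX 4.9, the local step.  Over a Noetherian henselian local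
  ring `B` with algebraically closed residue field, an étale descent datum (relative to a base
  change of a universally submersive quasi-finite morphism of finite type) which is effective over
  the punctured spectrum is effective.
-/

set_option autoImplicit false
set_option linter.style.haveILetI false
set_option backward.isDefEq.respectTransparency false
set_option backward.isDefEq.respectTransparency.types false

universe u

open CategoryTheory CategoryTheory.Limits AlgebraicGeometry Opposite IsLocalRing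

namespace Groth.Agent.Lib.EffDescFamH52

open Desc Groth.Agent.Lib.SubmDescH52

section UnivOpen

variable {S : Scheme.{u}} {ι : Type u} {X : ι → Scheme.{u}} {f : ∀ i, X i ⟶ S}
  {D : SchDDFam f} {B : Scheme.{u}} {h : B ⟶ S} {U : Scheme.{u}} {t' : U ⟶ B} {ζ : SecF D U}

theorem IsUnivOver.mono_m [Mono h] (H : IsUnivOver D h t' ζ) (i : ι) : Mono (ζ.m i) := by
  constructor
  intro Z a b hab
  have ha1 : a ≫ pullback.fst (f i) ζ.t = b ≫ pullback.fst (f i) ζ.t := by
    have := hab =≫ (D.obj i).hom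
    rwa [Category.assoc, Category.assoc, ζ.hm] at this
  obtain ⟨x, hx⟩ : ∃ x : Z ⟶ X i, x = a ≫ pullback.fst (f i) ζ.t := ⟨_, rfl⟩
  obtain ⟨ya, hya⟩ : ∃ ya : Z ⟶ U, ya = a ≫ pullback.snd (f i) ζ.t := ⟨_, rfl⟩
  obtain ⟨yb, hyb⟩ : ∃ yb : Z ⟶ U, yb = b ≫ pullback.snd (f i) ζ.t := ⟨_, rfl⟩
  have hxa : x ≫ f i = ya ≫ ζ.t := by
    rw [hx, hya, Category.assoc, Category.assoc, pullback.condition]
  have hxb : x ≫ f i = yb ≫ ζ.t := by
    rw [hx, hyb, ha1, Category.assoc, Category.assoc, pullback.condition]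
  have hyt : ya ≫ ζ.t = yb ≫ ζ.t := hxa.symm.trans hxb
  have hla : a = pullback.lift x ya hxa := by
    apply pullback.hom_ext
    · rw [pullback.lift_fst, hx]
    · rw [pullback.lift_snd, hya]
  have hlb : b = pullback.lift x yb hxb := by
    apply pullback.hom_ext
    · rw [pullback.lift_fst, hx, ha1]
    · rw [pullback.lift_snd, hyb]
  have hev : (ζ.ev x ya hxa).1 = (ζ.ev x yb hxb).1 := by
    rw [SecF.ev_val, SecF.ev_val, ← hla, ← hlb, hab]
  have hres : ζ.res ya = ζ.res yb := by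
    apply SecF.ext_ev (by rw [SecF.res_t, SecF.res_t, hyt])
    intro Z' j x' y' h'
    rw [SecF.res_ev, SecF.res_ev]
    have h0a : (y' ≫ x) ≫ f i = (y' ≫ ya) ≫ ζ.t := by rw [Category.assoc, hxa, Category.assoc]
    have h0b : (y' ≫ x) ≫ f i = (y' ≫ yb) ≫ ζ.t := by rw [Category.assoc, hxb, Category.assoc]
    have h1a : x' ≫ f j = (y' ≫ ya) ≫ ζ.t := by rw [h', SecF.res_t, Category.assoc]
    have h1b : x' ≫ f j = (y' ≫ yb) ≫ ζ.t := by rw [h1a, Category.assoc, hyt, Category.assoc]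
    have ca := ζ.φ_ev (y' ≫ x) x' (y' ≫ ya) h0a h1a (h0a.trans h1a.symm)
    have cb := ζ.φ_ev (y' ≫ x) x' (y' ≫ yb) h0b h1b (h0a.trans h1a.symm)
    have hab' : ζ.ev (y' ≫ x) (y' ≫ ya) h0a = ζ.ev (y' ≫ x) (y' ≫ yb) h0b := by
      apply Subtype.ext
      rw [ζ.ev_nat y' x ya hxa _ _ h0a rfl rfl, ζ.ev_nat y' x yb hxb _ _ h0b rfl rfl, hev]
    rw [← ca, ← cb, hab']
  obtain ⟨m, -, hmu⟩ := H.2 (ya ≫ t') (ζ.res ya) (by rw [SecF.res_t, H.1, Category.assoc])
  have h1 : ya = m := hmu _ ⟨rfl, rfl⟩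
  have h2 : yb = m := by
    refine hmu _ ⟨?_, hres.symm⟩
    rw [← cancel_mono h, Category.assoc, Category.assoc, ← H.1, hyt]
  rw [hla, hlb]
  congr 1
  exact h1.trans h2.symm

theorem IsUnivOver.isOpenImmersion_m [Mono h] (H : IsUnivOver D h t' ζ) [Etale ζ.t] (i : ι)
    [Etale (D.obj i).hom] : IsOpenImmersion (ζ.m i) := by
  haveI := H.mono_m i
  haveI : Etale (ζ.m i ≫ (D.obj i).hom) := by
    rw [ζ.hm]
    infer_instance
  haveI : Etale (ζ.m i) := Etale.of_comp (ζ.m i) (D.obj i).hom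
  exact IsOpenImmersion.of_flat_of_mono (ζ.m i)

theorem IsUnivOver.mem_range_m [IsOpenImmersion h] (H : IsUnivOver D h t' ζ) (i : ι)
    (v : (D.obj i).left) (hv : f i ((D.obj i).hom v) ∈ Set.range h) :
    v ∈ Set.range (ζ.m i) := by
  let K : Scheme.{u} := Spec ((D.obj i).left.residueField v)
  let vt : K ⟶ (D.obj i).left := (D.obj i).left.fromSpecResidueField v
  let x : K ⟶ X i := vt ≫ (D.obj i).hom
  let ξ : {ξ : SecF D K // ξ.t = x ≫ f i} := liftsEquivSec x ⟨vt, rfl⟩
  have hr : Set.range (x ≫ f i) ⊆ Set.range h := by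
    rintro _ ⟨z, rfl⟩
    simp only [x, Scheme.Hom.comp_apply]
    rw [show vt z = v from Scheme.fromSpecResidueField_apply _ _]
    exact hv
  let t₁ : K ⟶ B := IsOpenImmersion.lift h (x ≫ f i) hr
  have ht₁ : t₁ ≫ h = x ≫ f i := IsOpenImmersion.lift_fac _ _ _
  obtain ⟨m, ⟨-, hm2⟩, -⟩ := H.2 t₁ ξ.1 (by rw [ξ.2, ht₁])
  have h1 : (liftsEquivSec x).symm ξ = ⟨vt, rfl⟩ := Equiv.symm_apply_apply _ _
  rw [liftsEquivSec_symm_apply] at h1
  have h2 := congrArg Subtype.val h1
  have hm2' : ξ.1 = ζ.res m := hm2.symm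
  have hmt : m ≫ ζ.t = x ≫ f i := by
    have := congrArg SecF.t hm2
    rw [SecF.res_t] at this
    rw [this, ξ.2]
  have h3 : (ξ.1.ev x (𝟙 K) (by rw [Category.id_comp, ξ.2])).1 =
      ((ζ.res m).ev x (𝟙 K) (by rw [Category.id_comp, SecF.res_t, hmt])).1 := by
    congr 2
  rw [h3, SecF.res_ev, SecF.ev_val] at h2
  have h4 : x ≫ f i = (𝟙 K ≫ m) ≫ ζ.t := by rw [Category.id_comp, hmt]
  refine ⟨pullback.lift x (𝟙 K ≫ m) h4 (IsLocalRing.closedPoint _), ?_⟩
  rw [← Scheme.Hom.comp_apply, h2]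
  exact Scheme.fromSpecResidueField_apply _ _

end UnivOpen

section Local

variable {S S' : Scheme.{u}} (g : S' ⟶ S)

/-- **SGA 1 IX 4.9, the local step.** -/
theorem exists_etale_iso_of_punctured (hg : SGA1.UnivSubmersive g) [LocallyOfFiniteType g]
    [QuasiCompact g] [LocallyQuasiFinite g]
    (D₁ : SchDDFam (fun _ : PUnit.{u + 1} => g)) [Etale (D₁.obj PUnit.unit).hom]
    (B : Type u) [CommRing B] [IsLocalRing B] [IsNoetherianRing B] (hB : HenselianLocalRing B)
    [IsAlgClosed (ResidueField B)]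
    (h : Spec (CommRingCat.of B) ⟶ S) (𝒪 : (Spec (CommRingCat.of B)).Opens)
    (h𝒪 : ∀ y : ↥(Spec (CommRingCat.of B)), y ∉ 𝒪 → y = closedPoint B)
    (U : Over (𝒪 : Scheme.{u})) [Etale U.hom]
    (e : (toDDFam (fun _ : PUnit.{u + 1} => pullback.snd g (𝒪.ι ≫ h))).obj U ≅
      bcDD (𝒪.ι ≫ h) D₁) :
    ∃ W : Over (Spec (CommRingCat.of B)), Etale W.hom ∧
      Nonempty ((toDDFam (fun _ : PUnit.{u + 1} => pullback.snd g h)).obj W ≅ bcDD h D₁) := by
  classical
  let p : pullback g h ⟶ Spec (CommRingCat.of B) := pullback.snd g h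
  have hp : SGA1.UnivSubmersive p := MorphismProperty.pullback_snd _ _ hg
  haveI : LocallyOfFiniteType p := inferInstanceAs (LocallyOfFiniteType (pullback.snd g h))
  haveI : QuasiCompact p := inferInstanceAs (QuasiCompact (pullback.snd g h))
  haveI : LocallyQuasiFinite p := inferInstanceAs (LocallyQuasiFinite (pullback.snd g h))
  let π : (D₁.obj PUnit.unit).left ⟶ S' := (D₁.obj PUnit.unit).hom
  let Dfam : SchDDFam (fun _ : PUnit.{u + 1} => p) := bcDD h D₁
  let DB : SchDD p := (SchDDFam.toSchDD.{u, u} p).obj Dfam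
  haveI hDfam : Etale (Dfam.obj PUnit.unit).hom :=
    inferInstanceAs (Etale (pullback.snd π (pullback.fst g h)))
  haveI : Etale DB.obj.hom := hDfam
  -- the universal section over the punctured spectrum
  have hg𝒪 : SGA1.UnivSubmersive (pullback.snd g (𝒪.ι ≫ h)) :=
    MorphismProperty.pullback_snd _ _ hg
  have H1 := isUnivOver_of_iso (D := D₁) (h := 𝒪.ι ≫ h) U e (fun T =>
    Groth.Agent.Lib.EffDescH52.toDDFam_map_bijective_of_etale.{u} (pullback.snd g (𝒪.ι ≫ h))
      hg𝒪 T U)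
  obtain ⟨ζ', H2⟩ : ∃ ζ' : SecF Dfam U.left, IsUnivOver Dfam 𝒪.ι U.hom ζ' := ⟨_, H1.toBc⟩
  haveI : Etale ζ'.t := by
    rw [H2.1]
    infer_instance
  have hoi : IsOpenImmersion (ζ'.m PUnit.unit) := H2.isOpenImmersion_m PUnit.unit
  have hcovU : ∀ v : (Dfam.obj PUnit.unit).left, p ((Dfam.obj PUnit.unit).hom v) ∈ 𝒪 →
      v ∈ Set.range (ζ'.m PUnit.unit) := fun v hv =>
    H2.mem_range_m PUnit.unit v (by rw [Scheme.Opens.range_ι]; exact hv)
  let ζU : Groth.Agent.Lib.EffDescH52.Sec DB U.left :=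
    ⟨ζ'.t, (SchDDFam.toSchDD.{u, u} p).map ζ'.toHom⟩
  have hζUmap : ζU.map = ζ'.m PUnit.unit := rfl
  -- the sections through the points of the closed fibre
  let ι' : Type u := {v : DB.obj.left // p (DB.obj.hom v) = closedPoint B}
  have hsec : ∀ v : ι', ∃ ξ : Groth.Agent.Lib.EffDescH52.Sec DB (Spec (CommRingCat.of B)),
      ξ.t = 𝟙 _ ∧ v.1 ∈ Set.range ξ.map := fun v =>
    Groth.Agent.Lib.EffDescH52.exists_sec_through B hB p hp DB v.1 v.2
  choose ξ hξ1 hξ2 using hsec
  let U₀ : Option ι' → Scheme.{u} := fun o => Option.rec U.left (fun _ => Spec (CommRingCat.of B)) o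
  let ζ : ∀ o, Groth.Agent.Lib.EffDescH52.Sec DB (U₀ o) := fun o =>
    Option.rec (motive := fun o => Groth.Agent.Lib.EffDescH52.Sec DB (U₀ o)) ζU (fun v => ξ v) o
  haveI hζ : ∀ o, IsOpenImmersion (ζ o).map := by
    rintro (_ | v)
    · exact hoi
    · change IsOpenImmersion (ξ v).map
      have hle : MorphismProperty.HasOfPostcompProperty @IsOpenImmersion
          (MorphismProperty.diagonal @IsOpenImmersion) :=
        (MorphismProperty.hasOfPostcompProperty_iff_le_diagonal).mpr le_rfl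
      haveI : IsIso (ξ v).t := by rw [hξ1 v]; infer_instance
      exact MorphismProperty.of_postcomp (W := @IsOpenImmersion)
        (W' := MorphismProperty.diagonal @IsOpenImmersion) (ξ v).map DB.obj.hom
        (inferInstanceAs (IsOpenImmersion (pullback.diagonal DB.obj.hom)))
        (by rw [Groth.Agent.Lib.EffDescH52.Sec.map_hom]; infer_instance)
  haveI hét : ∀ o, Etale (ζ o).t := by
    rintro (_ | v)
    · change Etale ζ'.t
      infer_instance
    · change Etale (ξ v).t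
      rw [hξ1 v]
      infer_instance
  have hcov : ∀ v : DB.obj.left, ∃ o, v ∈ Set.range (ζ o).map := by
    intro v
    by_cases hv : p (DB.obj.hom v) = closedPoint B
    · exact ⟨some ⟨v, hv⟩, hξ2 ⟨v, hv⟩⟩
    · refine ⟨none, hcovU v ?_⟩
      by_contra hnot
      exact hv (h𝒪 _ hnot)
  obtain ⟨W, hW, ⟨eW⟩⟩ := Groth.Agent.Lib.EffDescH52.Subm.exists_iso_of_openCover hp ζ (hζ := hζ) (hét := hét) hcov
  exact ⟨W, hW, ⟨(SchDDFam.ofSchDD.{u, u} p).mapIso eW⟩⟩

end Local

end Groth.Agent.Lib.EffDescFamH52
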