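import Groth.Agent.Lib.EffDescHenselLocal2H52
import Groth.Agent.Lib.EffDescQFinLocalH52

/-!
# The local step of SGA 1 IX 4.9 / 4.12 with arbitrary finite local charts (helper52)

`exists_etale_iso_of_punctured_of_charts`: over a henselian local ring `B` with algebraically closed
residue field, an étale descent datum relative to `p : X ⟶ Spec B` (a base change of a universally
submersive morphism locally of finite type) which is effective over the punctured spectrum is
effective, provided there are finitely many finite local `B`-algebras `R_i` with `B`-morphisms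
`Spec R_i ⟶ X` such that the `Spec R_i` jointly cover `Spec B`.
-/

set_option autoImplicit false
set_option linter.style.haveILetI false
set_option backward.isDefEq.respectTransparency false
set_option backward.isDefEq.respectTransparency.types false

universe u

open CategoryTheory CategoryTheory.Limits AlgebraicGeometry Opposite IsLocalRing

namespace Groth.Agent.Lib.EffDescFamH52

open Desc Groth.Agent.Lib.SubmDescH52 Groth.Agent.Lib.HenselKPointH52

section Local

variable {S S' : Scheme.{u}} (g : S' ⟶ S)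

/-- **The local step with charts.** -/
theorem exists_etale_iso_of_punctured_of_charts (hg : SGA1.UnivSubmersive g)
    [LocallyOfFiniteType g]
    (D₁ : SchDDFam (fun _ : PUnit.{u + 1} => g)) [Etale (D₁.obj PUnit.unit).hom]
    (B : Type u) [CommRing B] [IsLocalRing B] (hB : HenselianLocalRing B)
    [IsAlgClosed (ResidueField B)]
    (h : Spec (CommRingCat.of B) ⟶ S) (𝒪 : (Spec (CommRingCat.of B)).Opens)
    (h𝒪 : ∀ y : ↥(Spec (CommRingCat.of B)), y ∉ 𝒪 → y = closedPoint B)
    (U : Over (𝒪 : Scheme.{u})) [Etale U.hom]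
    (e : (toDDFam (fun _ : PUnit.{u + 1} => pullback.snd g (𝒪.ι ≫ h))).obj U ≅
      bcDD (𝒪.ι ≫ h) D₁)
    {ι : Type u} [Finite ι] (ch : ι → Groth.Agent.Lib.EffDescH52.FinChart B (pullback.snd g h))
    (hsurj : ∀ s : ↥(Spec (CommRingCat.of B)),
      ∃ i, s ∈ Set.range (Spec.map (CommRingCat.ofHom (algebraMap B (ch i).R)))) :
    ∃ W : Over (Spec (CommRingCat.of B)), Etale W.hom ∧
      Nonempty ((toDDFam (fun _ : PUnit.{u + 1} => pullback.snd g h)).obj W ≅ bcDD h D₁) := by
  classical
  let p : pullback g h ⟶ Spec (CommRingCat.of B) := pullback.snd g h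
  have hp : SGA1.UnivSubmersive p := MorphismProperty.pullback_snd _ _ hg
  haveI : LocallyOfFiniteType p := inferInstanceAs (LocallyOfFiniteType (pullback.snd g h))
  let π : (D₁.obj PUnit.unit).left ⟶ S' := (D₁.obj PUnit.unit).hom
  let Dfam : SchDDFam (fun _ : PUnit.{u + 1} => p) := bcDD h D₁
  let DB : SchDD p := (SchDDFam.toSchDD.{u, u} p).obj Dfam
  haveI hDfam : Etale (Dfam.obj PUnit.unit).hom :=
    inferInstanceAs (Etale (pullback.snd π (pullback.fst g h)))
  haveI : Etale DB.obj.hom := hDfam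
  -- the universal section over the punctured spectrum
  have hg𝒪 : SGA1.UnivSubmersive (pullback.snd g (𝒪.ι ≫ h)) :=
    MorphismProperty.pullback_snd _ _ hg
  have H1 := isUnivOver_of_iso (D := D₁) (h := 𝒪.ι ≫ h) U e (fun T =>
    Groth.Agent.Lib.EffDescH52.toDDFam_map_bijective_of_etale.{u} (pullback.snd g (𝒪.ι ≫ h))
      hg𝒪 T U)
  obtain ⟨ζ', H2⟩ : ∃ ζ' : SecF Dfam U.left, IsUnivOver Dfam 𝒪.ι U.hom ζ' := ⟨_, H1.toBc⟩
  haveI : Etale ζ'.t := by
    rw [H2.1]
    infer_instance
  have hoi : IsOpenImmersion (ζ'.m PUnit.unit) := H2.isOpenImmersion_m PUnit.unit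
  have hcovU : ∀ v : (Dfam.obj PUnit.unit).left, p ((Dfam.obj PUnit.unit).hom v) ∈ 𝒪 →
      v ∈ Set.range (ζ'.m PUnit.unit) := fun v hv =>
    H2.mem_range_m PUnit.unit v (by rw [Scheme.Opens.range_ι]; exact hv)
  let ζU : Groth.Agent.Lib.EffDescH52.Sec DB U.left :=
    ⟨ζ'.t, (SchDDFam.toSchDD.{u, u} p).map ζ'.toHom⟩
  have hζUmap : ζU.map = ζ'.m PUnit.unit := rfl
  -- the sections through the points of the closed fibre
  let ι' : Type u := {v : DB.obj.left // p (DB.obj.hom v) = closedPoint B}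
  haveI : LocallyOfFiniteType (DB.obj.hom ≫ p) := by
    haveI : LocallyOfFiniteType DB.obj.hom := inferInstance
    infer_instance
  have hsec : ∀ v : ι', ∃ ξ : Groth.Agent.Lib.EffDescH52.Sec DB (Spec (CommRingCat.of B)),
      ξ.t = 𝟙 _ ∧ ∃ v₁ ∈ Set.range ξ.map, v.1 ⤳ v₁ := by
    intro v
    obtain ⟨vt, hvt1, hvt2⟩ := Groth.Agent.Lib.EffDescH52.exists_kpoint_specializes
      (DB.obj.hom ≫ p) v.1 v.2
    obtain ⟨m, hm, hmv⟩ := Groth.Agent.Lib.EffDescH52.exists_isInvSection_of_charts B hB p DB ch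
      hsurj vt (by rw [← Category.assoc]; exact hvt1)
    obtain ⟨ξ, hξ1, hξ2⟩ := Groth.Agent.Lib.EffDescH52.exists_sec_of_isInvSection hm
    refine ⟨ξ, hξ1, vt (closedPoint _), ?_, hvt2 _⟩
    let x : ↥(pullback g h) := (vt ≫ DB.obj.hom) (closedPoint _)
    obtain ⟨z, hz1, -⟩ := Scheme.Pullback.exists_preimage_pullback (f := p) (g := ξ.t) x (p x) (by
      rw [hξ1]; rfl)
    refine ⟨z, ?_⟩
    rw [hξ2, Scheme.Hom.comp_apply, hz1, ← Scheme.Hom.comp_apply, hmv]
  choose ξ hξ1 v₁ hv₁ hv₁' using hsec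
  let U₀ : Option ι' → Scheme.{u} := fun o => Option.rec U.left (fun _ => Spec (CommRingCat.of B)) o
  let ζ : ∀ o, Groth.Agent.Lib.EffDescH52.Sec DB (U₀ o) := fun o =>
    Option.rec (motive := fun o => Groth.Agent.Lib.EffDescH52.Sec DB (U₀ o)) ζU (fun v => ξ v) o
  haveI hζ : ∀ o, IsOpenImmersion (ζ o).map := by
    rintro (_ | v)
    · exact hoi
    · change IsOpenImmersion (ξ v).map
      have hle : MorphismProperty.HasOfPostcompProperty @IsOpenImmersion
          (MorphismProperty.diagonal @IsOpenImmersion) :=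
        (MorphismProperty.hasOfPostcompProperty_iff_le_diagonal).mpr le_rfl
      haveI : IsIso (ξ v).t := by rw [hξ1 v]; infer_instance
      exact MorphismProperty.of_postcomp (W := @IsOpenImmersion)
        (W' := MorphismProperty.diagonal @IsOpenImmersion) (ξ v).map DB.obj.hom
        (inferInstanceAs (IsOpenImmersion (pullback.diagonal DB.obj.hom)))
        (by rw [Groth.Agent.Lib.EffDescH52.Sec.map_hom]; infer_instance)
  haveI hét : ∀ o, Etale (ζ o).t := by
    rintro (_ | v)
    · change Etale ζ'.t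
      infer_instance
    · change Etale (ξ v).t
      rw [hξ1 v]
      infer_instance
  have hcov : ∀ v : DB.obj.left, ∃ o, v ∈ Set.range (ζ o).map := by
    intro v
    by_cases hv : p (DB.obj.hom v) = closedPoint B
    · refine ⟨some ⟨v, hv⟩, ?_⟩
      haveI := hζ (some ⟨v, hv⟩)
      have hopen : IsOpen (Set.range (ζ (some ⟨v, hv⟩)).map) :=
        (ζ (some ⟨v, hv⟩)).map.isOpenEmbedding.isOpen_range
      exact (hv₁' ⟨v, hv⟩).mem_open hopen (hv₁ ⟨v, hv⟩)
    · refine ⟨none, hcovU v ?_⟩
      by_contra hnot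
      exact hv (h𝒪 _ hnot)
  obtain ⟨W, hW, ⟨eW⟩⟩ :=
    Groth.Agent.Lib.EffDescH52.Subm.exists_iso_of_openCover hp ζ (hζ := hζ) (hét := hét) hcov
  exact ⟨W, hW, ⟨(SchDDFam.ofSchDD.{u, u} p).mapIso eW⟩⟩

end Local

end Groth.Agent.Lib.EffDescFamH52
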