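import Groth.Agent.Lib.EffDescRestrictH52
import Groth.Agent.Lib.EffDescFamAffH52

/-!
# Descent along radicial fpqc morphisms (helper52)

`exists_iso_of_universallyInjective`: if `p : X ⟶ S` is flat, surjective, quasi-compact and
universally injective, then every descent datum for schemes relative to `p` is effective.
-/

set_option autoImplicit false
set_option linter.style.haveILetI false
set_option backward.isDefEq.respectTransparency false
set_option backward.isDefEq.respectTransparency.types false

universe u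

open CategoryTheory CategoryTheory.Limits AlgebraicGeometry Opposite TopologicalSpace

namespace Groth.Agent.Lib.EffDescH52

open Desc Groth.Agent.Lib.EffDescFamH52

variable {X S : Scheme.{u}} (p : X ⟶ S) [Flat p] [Surjective p] [QuasiCompact p]
  [UniversallyInjective p]

/-- Every point of `S` has an affine open neighbourhood with affine preimage. -/
theorem exists_isAffineOpen_preimage (s : S) :
    ∃ U : S.Opens, s ∈ U ∧ IsAffineOpen U ∧ IsAffineOpen (p ⁻¹ᵁ U) := by
  have hq : Topology.IsQuotientMap p := Flat.isQuotientMap_of_surjective p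
  have hinj : Function.Injective p := p.injective
  obtain ⟨S₀, hS₀, hsS₀, -⟩ := exists_isAffineOpen_mem_and_subset (x := s) (U := ⊤) trivial
  obtain ⟨x, rfl⟩ := p.surjective s
  obtain ⟨X₁, hX₁, hxX₁, hX₁le⟩ :=
    exists_isAffineOpen_mem_and_subset (x := x) (U := p ⁻¹ᵁ S₀) hsS₀
  have hpre : p ⁻¹' (p '' (X₁ : Set X)) = X₁ := Set.preimage_image_eq _ hinj
  have hopen : IsOpen (p '' (X₁ : Set X)) := by
    rw [← hq.isOpen_preimage, hpre]
    exact X₁.2
  let S₁ : S.Opens := ⟨p '' (X₁ : Set X), hopen⟩
  have hxS₁ : p x ∈ S₁ := ⟨x, hxX₁, rfl⟩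
  obtain ⟨f, hfle, hxf⟩ := hS₀.exists_basicOpen_le (V := S₁) ⟨p x, hxS₁⟩ hsS₀
  refine ⟨S.basicOpen f, hxf, hS₀.basicOpen f, ?_⟩
  have hle : p ⁻¹ᵁ S.basicOpen f ≤ X₁ := by
    intro y hy
    have : p y ∈ S₁ := hfle hy
    have h2 : y ∈ p ⁻¹' (p '' (X₁ : Set X)) := this
    rw [hpre] at h2
    exact h2
  have heq : p ⁻¹ᵁ S.basicOpen f = X.basicOpen (p.appLE S₀ X₁ hX₁le f) := by
    rw [Scheme.basicOpen_appLE]
    exact (inf_eq_right.mpr hle).symm
  rw [heq]
  exact hX₁.basicOpen _

/-- **Descent along radicial fpqc morphisms**: every descent datum is effective. -/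
theorem exists_iso_of_universallyInjective (D : SchDD p) :
    ∃ U : Over S, Nonempty ((toDD p).obj U ≅ D) := by
  choose U hsU hU hpU using exists_isAffineOpen_preimage p
  have hcov : IsOpenCover U := by
    apply IsOpenCover.mk
    exact eq_top_iff.mpr fun s _ => Opens.mem_iSup.mpr ⟨s, hsU s⟩
  let 𝒮 : S.OpenCover := S.openCoverOfIsOpenCover U hcov
  apply exists_iso_of_isEffective p D
  apply isEffective_of_openCover (ofArrows_pUnit_mem_fpqcPrecoverage p) _ 𝒮
  intro s
  apply isEffective_of_schDD (pullback.snd p (𝒮.f s))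
  haveI : IsAffine (𝒮.X s) := hU s
  haveI : IsAffine (p ⁻¹ᵁ U s : Scheme.{u}) := hpU s
  haveI : IsAffine (pullback p (𝒮.f s)) :=
    .of_isIso (pullbackRestrictIsoRestrict p (U s)).hom
  haveI : Flat (pullback.snd p (𝒮.f s)) := inferInstance
  haveI : Surjective (pullback.snd p (𝒮.f s)) :=
    MorphismProperty.pullback_snd (P := @Surjective) _ _ inferInstance
  haveI : UniversallyInjective (pullback.snd p (𝒮.f s)) :=
    MorphismProperty.pullback_snd (P := @UniversallyInjective) _ _ inferInstance
  exact exists_iso_of_universallyInjective_of_isAffine _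

end Groth.Agent.Lib.EffDescH52
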