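import Groth.Agent.Lib.EffDescGlueSubmH52

/-!
# Invariant sections of a descent datum and refinement of the covering morphism (helper52)

For a descent datum `D` (with étale underlying morphism `π : V ⟶ X`) relative to `p : X ⟶ S`:

* `tr D x₀ x₁ h v hv`: the transport of a `T`-point `v` of `V` over `x₀` to a `T`-point over `x₁`
  (the gluing bijection on bare morphisms), with its calculus (`tr_hom`, `tr_congr`, `tr_nat`,
  `tr_self`, `tr_comp`).
* `IsInvSection D m`: `m : X ⟶ V` is a section of `π` compatible with the gluing bijections; these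
  are the sections of `D` over `S` itself (`exists_sec_of_isInvSection`).
* `exists_isInvSection_of_refinement`: if `c : S₁ ⟶ X` is such that `c ≫ p` is universally
  submersive, then a morphism `m₁ : S₁ ⟶ V` over `c`, compatible with the gluing bijections on
  `S₁ ×_S S₁`, comes from a unique invariant section (SGA 1 IX 3.3-type refinement argument).
-/

set_option autoImplicit false
set_option linter.style.haveILetI false
set_option backward.isDefEq.respectTransparency false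
set_option backward.isDefEq.respectTransparency.types false

universe u

open CategoryTheory CategoryTheory.Limits AlgebraicGeometry Opposite

namespace Groth.Agent.Lib.EffDescH52

open Desc Groth.Agent.Lib.SubmDescH52

variable {X S : Scheme.{u}} {p : X ⟶ S}

section Tr

variable (D : SchDD p)

/-- Transport of a bare `T`-point along the gluing bijection. -/
noncomputable def tr {T : Scheme.{u}} (x₀ x₁ : T ⟶ X) (h : x₀ ≫ p = x₁ ≫ p) (v : T ⟶ D.obj.left)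
    (hv : v ≫ D.obj.hom = x₀) : T ⟶ D.obj.left :=
  (D.φ x₀ x₁ h ⟨v, hv⟩).1

theorem tr_hom {T : Scheme.{u}} (x₀ x₁ : T ⟶ X) (h : x₀ ≫ p = x₁ ≫ p) (v : T ⟶ D.obj.left)
    (hv : v ≫ D.obj.hom = x₀) : tr D x₀ x₁ h v hv ≫ D.obj.hom = x₁ :=
  (D.φ x₀ x₁ h ⟨v, hv⟩).2

theorem tr_congr {T : Scheme.{u}} {x₀ x₁ x₀' x₁' : T ⟶ X} {v v' : T ⟶ D.obj.left}
    (e₀ : x₀ = x₀') (e₁ : x₁ = x₁') (ev : v = v') (h : x₀ ≫ p = x₁ ≫ p)
    (hv : v ≫ D.obj.hom = x₀) :
    tr D x₀ x₁ h v hv = tr D x₀' x₁' (by rw [← e₀, ← e₁]; exact h) v' (by rw [← e₀, ← ev]; exact hv) := by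
  subst e₀ e₁ ev
  rfl

theorem tr_nat {T T' : Scheme.{u}} (g : T' ⟶ T) (x₀ x₁ : T ⟶ X) (h : x₀ ≫ p = x₁ ≫ p)
    (v : T ⟶ D.obj.left) (hv : v ≫ D.obj.hom = x₀) :
    g ≫ tr D x₀ x₁ h v hv =
      tr D (g ≫ x₀) (g ≫ x₁) (by rw [Category.assoc, Category.assoc, h]) (g ≫ v)
        (by rw [Category.assoc, hv]) :=
  (φ_natural' D g x₀ x₁ h (by rw [Category.assoc, Category.assoc, h]) ⟨v, hv⟩).symm

theorem tr_self {T : Scheme.{u}} (x : T ⟶ X) (v : T ⟶ D.obj.left) (hv : v ≫ D.obj.hom = x) :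
    tr D x x rfl v hv = v := by
  unfold tr
  rw [D.φ_self]

theorem tr_comp {T : Scheme.{u}} (x₀ x₁ x₂ : T ⟶ X) (h₀₁ : x₀ ≫ p = x₁ ≫ p)
    (h₁₂ : x₁ ≫ p = x₂ ≫ p) (v : T ⟶ D.obj.left) (hv : v ≫ D.obj.hom = x₀) :
    tr D x₁ x₂ h₁₂ (tr D x₀ x₁ h₀₁ v hv) (tr_hom D x₀ x₁ h₀₁ v hv) =
      tr D x₀ x₂ (h₀₁.trans h₁₂) v hv := by
  unfold tr
  have := D.φ_comp x₀ x₁ x₂ h₀₁ h₁₂ ⟨v, hv⟩
  exact congrArg Subtype.val this

end Tr

/-- A section `m` of `π : V ⟶ X` which is compatible with the gluing bijections of `D`. -/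
def IsInvSection (D : SchDD p) (m : X ⟶ D.obj.left) : Prop :=
  ∃ hm : m ≫ D.obj.hom = 𝟙 X, ∀ ⦃T : Scheme.{u}⦄ (x₀ x₁ : T ⟶ X) (h : x₀ ≫ p = x₁ ≫ p),
    tr D x₀ x₁ h (x₀ ≫ m) (by rw [Category.assoc, hm, Category.comp_id]) = x₁ ≫ m

/-- An invariant section is a section of `D` over the base. -/
theorem exists_sec_of_isInvSection {D : SchDD p} {m : X ⟶ D.obj.left} (H : IsInvSection D m) :
    ∃ ξ : Sec D S, ξ.t = 𝟙 S ∧ ξ.map = pullback.fst p ξ.t ≫ m := by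
  obtain ⟨hm, hφ⟩ := H
  refine ⟨Sec.mk' (𝟙 S) (pullback.fst p (𝟙 S) ≫ m)
    (by rw [Category.assoc, hm, Category.comp_id]) ?_, rfl, rfl⟩
  intro Z x₀ x₁ y h₀ h₁
  have e0 : pullback.lift x₀ y h₀ ≫ pullback.fst p (𝟙 S) ≫ m = x₀ ≫ m := by
    rw [← Category.assoc, pullback.lift_fst]
  have e1 : pullback.lift x₁ y h₁ ≫ pullback.fst p (𝟙 S) ≫ m = x₁ ≫ m := by
    rw [← Category.assoc, pullback.lift_fst]
  rw [e1, ← hφ x₀ x₁ (h₀.trans h₁.symm)]
  exact tr_congr D rfl rfl e0 _ _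

section Refine

variable {S₁ : Scheme.{u}} (c : S₁ ⟶ X) (hcp : SGA1.UnivSubmersive (c ≫ p))
  (D : SchDD p) [Etale D.obj.hom] (m₁ : S₁ ⟶ D.obj.left) (hm₁ : m₁ ≫ D.obj.hom = c)
  (hcompat : tr D (pullback.fst (c ≫ p) (c ≫ p) ≫ c) (pullback.snd (c ≫ p) (c ≫ p) ≫ c)
    (by rw [Category.assoc, Category.assoc, pullback.condition])
    (pullback.fst (c ≫ p) (c ≫ p) ≫ m₁) (by rw [Category.assoc, hm₁]) =
      pullback.snd (c ≫ p) (c ≫ p) ≫ m₁)

omit [Etale D.obj.hom] in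
include hcompat in
theorem compat_of_universal {T : Scheme.{u}} (y₀ y₁ : T ⟶ S₁) (h : y₀ ≫ c ≫ p = y₁ ≫ c ≫ p) :
    tr D (y₀ ≫ c) (y₁ ≫ c) (by rw [Category.assoc, Category.assoc, h]) (y₀ ≫ m₁)
      (by rw [Category.assoc, hm₁]) = y₁ ≫ m₁ := by
  have h1 := pullback.lift y₀ y₁ h ≫= hcompat
  rw [tr_nat] at h1
  have e : pullback.lift y₀ y₁ h ≫ pullback.snd (c ≫ p) (c ≫ p) ≫ m₁ = y₁ ≫ m₁ := by
    rw [← Category.assoc, pullback.lift_snd]
  rw [← e, ← h1]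
  apply tr_congr
  · rw [← Category.assoc, pullback.lift_fst]
  · rw [← Category.assoc, pullback.lift_snd]
  · rw [← Category.assoc, pullback.lift_fst]

include hcp hcompat in
/-- **Refinement**: if `c ≫ p` is universally submersive, a morphism `S₁ ⟶ V` over `c` which is
compatible with the gluing bijections comes from an invariant section of `V ⟶ X`. -/
theorem exists_isInvSection_of_refinement :
    ∃ m : X ⟶ D.obj.left, IsInvSection D m ∧ c ≫ m = m₁ := by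
  have hgen := fun {T : Scheme.{u}} (y₀ y₁ : T ⟶ S₁) (h : y₀ ≫ c ≫ p = y₁ ≫ c ≫ p) =>
    compat_of_universal c D m₁ hm₁ hcompat y₀ y₁ h
  let pr₁ : pullback (c ≫ p) p ⟶ S₁ := pullback.fst (c ≫ p) p
  let pr₂ : pullback (c ≫ p) p ⟶ X := pullback.snd (c ≫ p) p
  have hcond : pr₁ ≫ c ≫ p = pr₂ ≫ p := pullback.condition
  have hpr₂ : SGA1.UnivSubmersive pr₂ := MorphismProperty.pullback_snd _ _ hcp
  haveI : Surjective pr₂ := surjective_of_univSubmersive hpr₂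
  let τ : pullback (c ≫ p) p ⟶ D.obj.left :=
    tr D (pr₁ ≫ c) pr₂ (by simp only [Category.assoc, hcond]) (pr₁ ≫ m₁)
      (by simp only [Category.assoc, hm₁])
  have hτ : τ ≫ D.obj.hom = pr₂ := tr_hom D _ _ _ _ _
  have hτnat : ∀ {K : Scheme.{u}} (a : K ⟶ pullback (c ≫ p) p),
      a ≫ τ = tr D (a ≫ pr₁ ≫ c) (a ≫ pr₂) (by simp only [Category.assoc, hcond])
        (a ≫ pr₁ ≫ m₁) (by simp only [Category.assoc, hm₁]) := by
    intro K a
    exact tr_nat D a _ _ _ _ _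
  -- descend `τ` along `pr₂`
  have hquot : Topology.IsQuotientMap
      (pullback.snd pr₂ (pullback.fst (𝟙 X) D.obj.hom)) := isQuotientMap_snd hpr₂ _
  have hcoc : pullback.fst pr₂ pr₂ ≫ τ = pullback.snd pr₂ pr₂ ≫ τ := by
    let a₁ := pullback.fst pr₂ pr₂
    let a₂ := pullback.snd pr₂ pr₂
    have ha : a₁ ≫ pr₂ = a₂ ≫ pr₂ := pullback.condition
    have hy : (a₁ ≫ pr₁) ≫ c ≫ p = (a₂ ≫ pr₁) ≫ c ≫ p := by
      simp only [Category.assoc, hcond]
      rw [reassoc_of% ha]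
    have h2 := hgen (a₁ ≫ pr₁) (a₂ ≫ pr₁) hy
    change a₁ ≫ τ = a₂ ≫ τ
    refine (hτnat a₁).trans (Eq.trans ?_ (hτnat a₂).symm)
    have hp2 : ((a₂ ≫ pr₁) ≫ c) ≫ p = (a₂ ≫ pr₂) ≫ p := by simp only [Category.assoc, hcond]
    refine Eq.trans ?_ (tr_congr D (Category.assoc _ _ _) rfl
      (h2.trans (Category.assoc _ _ _)) hp2 (tr_hom D _ _ _ _ _))
    rw [tr_comp]
    apply tr_congr
    · rw [Category.assoc]
    · exact ha
    · rw [Category.assoc]
  obtain ⟨m, hm, hmτ⟩ := Groth.Agent.Lib.EtDescH52.exists_desc_of_isQuotientMap (𝟙 X) D.obj.hom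
    pr₂ hquot τ (by rw [hτ, Category.comp_id]) hcoc
  refine ⟨m, ⟨hm, ?_⟩, ?_⟩
  · intro T x₀ x₁ h
    let a : pullback x₀ pr₂ ⟶ T := pullback.fst x₀ pr₂
    let b : pullback x₀ pr₂ ⟶ pullback (c ≫ p) p := pullback.snd x₀ pr₂
    have hab : a ≫ x₀ = b ≫ pr₂ := pullback.condition
    haveI : Surjective a := inferInstanceAs (Surjective (pullback.fst x₀ pr₂))
    have hb' : (b ≫ pr₁) ≫ c ≫ p = (a ≫ x₁) ≫ p := by
      simp only [Category.assoc, hcond]
      rw [← reassoc_of% hab, h]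
    let b' : pullback x₀ pr₂ ⟶ pullback (c ≫ p) p := pullback.lift (b ≫ pr₁) (a ≫ x₁) hb'
    have hb'1 : b' ≫ pr₁ = b ≫ pr₁ := pullback.lift_fst _ _ _
    have hb'2 : b' ≫ pr₂ = a ≫ x₁ := pullback.lift_snd _ _ _
    have hπ : tr D x₀ x₁ h (x₀ ≫ m) (by rw [Category.assoc, hm, Category.comp_id]) ≫ D.obj.hom =
        (x₁ ≫ m) ≫ D.obj.hom := by
      rw [tr_hom, Category.assoc, hm, Category.comp_id]
    apply Groth.Agent.Lib.EtDescH52.eq_of_surjective_comp D.obj.hom _ _ hπ a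
    have e1 : a ≫ x₁ ≫ m = b' ≫ τ := by
      rw [← hmτ, ← Category.assoc b', hb'2, Category.assoc]
    have e0 : a ≫ x₀ ≫ m = b ≫ τ := by
      rw [← hmτ, ← Category.assoc b, ← hab, Category.assoc]
    rw [tr_nat, e1]
    refine Eq.trans ?_ (hτnat b').symm
    refine Eq.trans (tr_congr D hab rfl (e0.trans (hτnat b)) _ _) ?_
    rw [tr_comp]
    apply tr_congr
    · rw [← Category.assoc, ← hb'1, Category.assoc]
    · exact hb'2.symm
    · rw [← Category.assoc, ← hb'1, Category.assoc]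
  · have hl : 𝟙 S₁ ≫ c ≫ p = c ≫ p := Category.id_comp _
    let l : S₁ ⟶ pullback (c ≫ p) p := pullback.lift (𝟙 S₁) c hl
    have hl1 : l ≫ pr₁ = 𝟙 S₁ := pullback.lift_fst _ _ _
    have hl2 : l ≫ pr₂ = c := pullback.lift_snd _ _ _
    have e : c ≫ m = l ≫ τ := by
      rw [← hmτ, ← Category.assoc, hl2]
    rw [e, hτnat l]
    refine Eq.trans (tr_congr D (x₀' := c) (x₁' := c) (v' := m₁) ?_ hl2 ?_ _ _) (tr_self D c m₁ hm₁)
    · rw [← Category.assoc, hl1, Category.id_comp]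
    · rw [← Category.assoc, hl1, Category.id_comp]

end Refine

end Groth.Agent.Lib.EffDescH52
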