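import Groth.Agent.Lib.EffDescLocusH52
import Mathlib.AlgebraicGeometry.Sites.Representability

/-!
# Effective descent for schemes: relative representability of open pieces (helper52)

`secHom ζ : h_{U₀} ⟶ secFunctor D` for a section `ζ` whose underlying morphism `X ×_S U₀ ⟶ V` is
an open immersion is (relatively) representable by open immersions
(`isOpenImmersion_presheaf_secHom`): the pullback along `secHom ξ` is the open `locus ξ ζ` of `T`
(`isPullback_locus`).
-/

set_option autoImplicit false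
set_option linter.style.haveILetI false
set_option backward.isDefEq.respectTransparency false
set_option backward.isDefEq.respectTransparency.types false

universe u

open CategoryTheory CategoryTheory.Limits AlgebraicGeometry Opposite

namespace Groth.Agent.Lib.EffDescH52

open Desc

variable {X S : Scheme.{u}} {p : X ⟶ S}

section Rep

variable {D : SchDD p} {T U₀ : Scheme.{u}}

/-- The map of presheaves `h_T ⟶ secFunctor D` attached to a section. -/
noncomputable def secHom (ξ : Sec D T) : yoneda.obj T ⟶ secFunctor D := yonedaEquiv.symm ξ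

theorem secHom_app (ξ : Sec D T) {K : Scheme.{u}} (g : K ⟶ T) :
    (secHom ξ).app (op K) g = ξ.res g := rfl

theorem exists_eq_secHom (g : yoneda.obj T ⟶ secFunctor D) : ∃ ξ : Sec D T, g = secHom ξ :=
  ⟨yonedaEquiv g, (Equiv.symm_apply_apply _ _).symm⟩

variable [Surjective p] [Flat p]

/-- `a ↦ ζ.res a` is injective when `ζ.map` is a monomorphism. -/
theorem Sec.res_injective (ζ : Sec D U₀) [Mono ζ.map] {K : Scheme.{u}} {a₁ a₂ : K ⟶ U₀}
    (h : ζ.res a₁ = ζ.res a₂) : a₁ = a₂ := by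
  have ht : a₁ ≫ ζ.t = a₂ ≫ ζ.t := congrArg Sec.t h
  have e := Sec.ev_of_eq h (pullback.fst p (a₁ ≫ ζ.t)) (pullback.snd p (a₁ ≫ ζ.t))
    pullback.condition
  rw [Sec.res_ev, Sec.res_ev] at e
  have key := Sec.eq_of_ev_eq ζ _ _ _ _ _ e
  haveI : Epi (pullback.snd p (a₁ ≫ ζ.t)) := Flat.epi_of_flat_of_surjective _
  exact (cancel_epi _).1 key

variable [QuasiCompact p]

theorem range_subset_locus (ξ : Sec D T) (ζ : Sec D U₀) [IsOpenImmersion ζ.map] {K : Scheme.{u}}
    (a : K ⟶ U₀) (b : K ⟶ T) (h : ζ.res a = ξ.res b) :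
    Set.range b ⊆ (locus ξ ζ : Set ↥T) := by
  rintro _ ⟨κ, rfl⟩
  obtain ⟨z', hz'⟩ := (pullback.snd p (b ≫ ξ.t)).surjective κ
  have e := Sec.ev_of_eq h.symm (pullback.fst p (b ≫ ξ.t)) (pullback.snd p (b ≫ ξ.t))
    pullback.condition
  rw [Sec.res_ev, Sec.res_ev] at e
  refine ⟨pullback.lift (pullback.fst p (b ≫ ξ.t)) (pullback.snd p (b ≫ ξ.t) ≫ b)
    (by rw [pullback.condition, Category.assoc]) z', ?_, ?_⟩
  · change ξ.map _ ∈ Set.range ζ.map
    rw [← Scheme.Hom.comp_apply]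
    change (ξ.ev _ _ _) z' ∈ _
    rw [e, Sec.ev, Scheme.Hom.comp_apply]
    exact ⟨_, rfl⟩
  · rw [← Scheme.Hom.comp_apply, pullback.lift_snd, Scheme.Hom.comp_apply, hz']

theorem isPullback_locus (ξ : Sec D T) (ζ : Sec D U₀) [IsOpenImmersion ζ.map]
    (g₀ : (locus ξ ζ).toScheme ⟶ U₀) (hg₀ : ζ.res g₀ = ξ.res (locusι ξ ζ)) :
    IsPullback (yoneda.map g₀) (yoneda.map (locusι ξ ζ)) (secHom ζ) (secHom ξ) := by
  apply IsPullback.of_forall_isPullback_app
  intro K
  rw [Types.isPullback_iff]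
  refine ⟨?_, ?_, ?_⟩
  · ext (k : K.unop ⟶ (locus ξ ζ).toScheme)
    change ζ.res (k ≫ g₀) = ξ.res (k ≫ locusι ξ ζ)
    rw [Sec.res_comp, Sec.res_comp, hg₀]
  · rintro (k : K.unop ⟶ _) (k' : K.unop ⟶ _) ⟨-, h2⟩
    change k ≫ locusι ξ ζ = k' ≫ locusι ξ ζ at h2
    exact (cancel_mono _).1 h2
  · rintro (a : K.unop ⟶ U₀) (b : K.unop ⟶ T) h
    change ζ.res a = ξ.res b at h
    let k : K.unop ⟶ (locus ξ ζ).toScheme :=
      IsOpenImmersion.lift (locusι ξ ζ) b (by
        rw [Scheme.Opens.range_ι]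
        exact range_subset_locus ξ ζ a b h)
    have hk : k ≫ locusι ξ ζ = b := IsOpenImmersion.lift_fac _ _ _
    refine ⟨k, ?_, hk⟩
    change k ≫ g₀ = a
    apply Sec.res_injective ζ
    rw [Sec.res_comp, hg₀, ← Sec.res_comp, hk, h]

theorem isOpenImmersion_presheaf_secHom (ζ : Sec D U₀) [IsOpenImmersion ζ.map] :
    IsOpenImmersion.presheaf (secHom ζ) := by
  apply MorphismProperty.relative.of_exists
  intro T g
  obtain ⟨ξ, rfl⟩ := exists_eq_secHom g
  obtain ⟨g₀, hg₀⟩ := exists_locusMap ξ ζ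
  exact ⟨_, yoneda.map g₀, locusι ξ ζ, isPullback_locus ξ ζ g₀ hg₀, inferInstance⟩

end Rep

end Groth.Agent.Lib.EffDescH52
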