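import Groth.Agent.Lib.EffDescAffH52
import Groth.Agent.Lib.EffDescGlueH52

/-!
# Restriction of descent data to stable subschemes (helper52)

* `subDD D j hfac`: for a monomorphism `j : W ⟶ V` such that the gluing bijections of `D = (V, φ)`
  preserve the points factoring through `j`, the induced descent datum on `W`;
  `subHom D j hfac : subDD D j hfac ⟶ D`.
* `restrictDD D W hW`: the case of an open `W ⊆ V` stable under the action morphism
  (`∀ z, snd z ∈ W → act z ∈ W`); `restrictHom`.
-/

set_option autoImplicit false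
set_option linter.style.haveILetI false
set_option backward.isDefEq.respectTransparency false
set_option backward.isDefEq.respectTransparency.types false

universe u

open CategoryTheory CategoryTheory.Limits AlgebraicGeometry Opposite

namespace Groth.Agent.Lib.EffDescH52

open Desc

variable {X S : Scheme.{u}} {p : X ⟶ S} (D : SchDD p)

section Sub

variable {W : Scheme.{u}} (j : W ⟶ D.obj.left) [Mono j]

/-- Points of `W` over `x` as points of `V` over `x`. -/
def subLift {T : Scheme.{u}} {x : T ⟶ X} (v : Lifts (Over.mk (j ≫ D.obj.hom)) x) : Lifts D.obj x :=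
  ⟨v.1 ≫ j, by rw [Category.assoc]; exact v.2⟩

theorem subLift_injective {T : Scheme.{u}} {x : T ⟶ X} :
    Function.Injective (subLift D j (x := x)) := by
  intro v v' h
  apply Subtype.ext
  have : v.1 ≫ j = v'.1 ≫ j := congrArg Subtype.val h
  exact (cancel_mono j).mp this

variable (hfac : ∀ ⦃T : Scheme.{u}⦄ (x₀ x₁ : T ⟶ X) (h : x₀ ≫ p = x₁ ≫ p)
  (v : Lifts (Over.mk (j ≫ D.obj.hom)) x₀), ∃ w' : T ⟶ W, w' ≫ j = (D.φ x₀ x₁ h (subLift D j v)).1)

/-- The restricted gluing map. -/
noncomputable def subMap {T : Scheme.{u}} (x₀ x₁ : T ⟶ X) (h : x₀ ≫ p = x₁ ≫ p)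
    (v : Lifts (Over.mk (j ≫ D.obj.hom)) x₀) : Lifts (Over.mk (j ≫ D.obj.hom)) x₁ :=
  ⟨(hfac x₀ x₁ h v).choose, by
    change (hfac x₀ x₁ h v).choose ≫ j ≫ D.obj.hom = x₁
    rw [← Category.assoc, (hfac x₀ x₁ h v).choose_spec]
    exact (D.φ x₀ x₁ h (subLift D j v)).2⟩

omit [Mono j] in
theorem subLift_subMap {T : Scheme.{u}} (x₀ x₁ : T ⟶ X) (h : x₀ ≫ p = x₁ ≫ p)
    (v : Lifts (Over.mk (j ≫ D.obj.hom)) x₀) :
    subLift D j (subMap D j hfac x₀ x₁ h v) = D.φ x₀ x₁ h (subLift D j v) :=
  Subtype.ext (hfac x₀ x₁ h v).choose_spec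

/-- The descent datum induced on a stable subobject. -/
noncomputable def subDD : SchDD p where
  obj := Over.mk (j ≫ D.obj.hom)
  φ T x₀ x₁ h :=
    { toFun := subMap D j hfac x₀ x₁ h
      invFun := subMap D j hfac x₁ x₀ h.symm
      left_inv := fun v => by
        apply subLift_injective D j
        rw [subLift_subMap, subLift_subMap, D.φ_comp, D.φ_self]
      right_inv := fun v => by
        apply subLift_injective D j
        rw [subLift_subMap, subLift_subMap, D.φ_comp, D.φ_self] }
  φ_natural T T' g x₀ x₁ h h' v v' hv' := by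
    change (subMap D j hfac (g ≫ x₀) (g ≫ x₁) h' v').1 = g ≫ (subMap D j hfac x₀ x₁ h v).1
    rw [← cancel_mono j, Category.assoc]
    have e1 : (subMap D j hfac (g ≫ x₀) (g ≫ x₁) h' v').1 ≫ j =
        (D.φ (g ≫ x₀) (g ≫ x₁) h' (subLift D j v')).1 :=
      congrArg Subtype.val (subLift_subMap D j hfac (g ≫ x₀) (g ≫ x₁) h' v')
    have e2 : (subMap D j hfac x₀ x₁ h v).1 ≫ j = (D.φ x₀ x₁ h (subLift D j v)).1 :=
      congrArg Subtype.val (subLift_subMap D j hfac x₀ x₁ h v)
    rw [e1, e2]
    apply D.φ_natural g x₀ x₁ h h'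
    change v'.1 ≫ j = g ≫ v.1 ≫ j
    rw [hv', Category.assoc]
  φ_self T x v := by
    apply subLift_injective D j
    change subLift D j (subMap D j hfac x x rfl v) = _
    rw [subLift_subMap, D.φ_self]
  φ_comp T x₀ x₁ x₂ h₀₁ h₁₂ v := by
    apply subLift_injective D j
    change subLift D j (subMap D j hfac x₁ x₂ h₁₂ (subMap D j hfac x₀ x₁ h₀₁ v)) =
      subLift D j (subMap D j hfac x₀ x₂ (h₀₁.trans h₁₂) v)
    rw [subLift_subMap, subLift_subMap, subLift_subMap, D.φ_comp]

/-- The inclusion of the induced descent datum. -/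
noncomputable def subHom : subDD D j hfac ⟶ D where
  hom := Over.homMk j rfl
  comm T x₀ x₁ h v w hw := by
    have hw' : w = subLift D j v := Subtype.ext hw
    subst hw'
    exact (congrArg Subtype.val (subLift_subMap D j hfac x₀ x₁ h v)).symm

theorem subHom_left : (subHom D j hfac).hom.left = j := rfl

theorem subDD_left : (subDD D j hfac).obj.left = W := rfl

end Sub

section Restrict

variable (W : D.obj.left.Opens)
  (hW : ∀ z : ↥(pullback p (D.obj.hom ≫ p)),
    pullback.snd p (D.obj.hom ≫ p) z ∈ W → act D z ∈ W)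

include hW in
theorem restrict_fac ⦃T : Scheme.{u}⦄ (x₀ x₁ : T ⟶ X) (h : x₀ ≫ p = x₁ ≫ p)
    (v : Lifts (Over.mk (W.ι ≫ D.obj.hom)) x₀) :
    ∃ w' : T ⟶ W, w' ≫ W.ι = (D.φ x₀ x₁ h (subLift D W.ι v)).1 := by
  refine ⟨IsOpenImmersion.lift W.ι _ ?_, IsOpenImmersion.lift_fac _ _ _⟩
  rw [φ_eq_lift_act]
  rintro _ ⟨t, rfl⟩
  rw [Scheme.Opens.range_ι]
  rw [Scheme.Hom.comp_apply]
  apply hW
  rw [← Scheme.Hom.comp_apply, pullback.lift_snd]
  change (v.1 ≫ W.ι) t ∈ W
  rw [Scheme.Hom.comp_apply]
  exact (v.1 t).2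

/-- The restriction of a descent datum to an open stable under the action. -/
noncomputable def restrictDD : SchDD p := subDD D W.ι (restrict_fac D W hW)

/-- The inclusion of the restricted descent datum. -/
noncomputable def restrictHom : restrictDD D W hW ⟶ D := subHom D W.ι (restrict_fac D W hW)

theorem restrictHom_left : (restrictHom D W hW).hom.left = W.ι := rfl

instance : IsOpenImmersion (restrictHom D W hW).hom.left := by
  rw [restrictHom_left]; infer_instance

theorem restrictDD_left : (restrictDD D W hW).obj.left = W := rfl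

theorem restrictDD_hom : (restrictDD D W hW).obj.hom = W.ι ≫ D.obj.hom := rfl

end Restrict

section Radicial

/-- For universally injective `p` the action morphism agrees with the projection on points. -/
theorem act_apply_eq_snd [UniversallyInjective p] (z : ↥(pullback p (D.obj.hom ≫ p))) :
    act D z = pullback.snd p (D.obj.hom ≫ p) z := by
  haveI : UniversallyInjective (pullback.snd p (D.obj.hom ≫ p)) :=
    MorphismProperty.pullback_snd (P := @UniversallyInjective) _ _ inferInstance
  let σ : D.obj.left ⟶ pullback p (D.obj.hom ≫ p) :=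
    pullback.lift D.obj.hom (𝟙 D.obj.left) (by simp)
  have hσ2 : σ ≫ pullback.snd p (D.obj.hom ≫ p) = 𝟙 _ := pullback.lift_snd _ _ _
  have hσ3 : σ ≫ act D = 𝟙 _ := lift_act_self D
  have hz : σ (pullback.snd p (D.obj.hom ≫ p) z) = z := by
    apply (pullback.snd p (D.obj.hom ≫ p)).injective
    rw [← Scheme.Hom.comp_apply, hσ2]
    rfl
  have h1 : act D (σ (pullback.snd p (D.obj.hom ≫ p) z)) = pullback.snd p (D.obj.hom ≫ p) z := by
    rw [← Scheme.Hom.comp_apply, hσ3]
    rfl
  rw [hz] at h1
  exact h1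

/-- **Descent along radicial fpqc morphisms of affine schemes**: every descent datum is
effective. -/
theorem exists_iso_of_universallyInjective_of_isAffine [IsAffine X] [IsAffine S] [Flat p]
    [Surjective p] [UniversallyInjective p] : ∃ U : Over S, Nonempty ((toDD p).obj U ≅ D) := by
  haveI : QuasiCompact p := inferInstance
  apply exists_iso_of_forall_exists_open D
  intro v
  obtain ⟨W, hW, hvW, -⟩ := exists_isAffineOpen_mem_and_subset (x := v) (U := ⊤) trivial
  have hinv : ∀ z : ↥(pullback p (D.obj.hom ≫ p)),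
      pullback.snd p (D.obj.hom ≫ p) z ∈ W → act D z ∈ W := fun z hz => by
    rw [act_apply_eq_snd]; exact hz
  refine ⟨restrictDD D W hinv, restrictHom D W hinv, inferInstance, ?_, ?_⟩
  · exact ⟨⟨v, hvW⟩, rfl⟩
  · haveI : IsAffine (restrictDD D W hinv).obj.left := hW
    exact exists_iso_of_isAffine _

end Radicial

end Groth.Agent.Lib.EffDescH52
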