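import Groth.Agent.Lib.EffDescBasicH52

/-!
# Effective descent for schemes: the functor of sections `T ↦ Hom_DD(toDD T, D)` (helper52)

For a descent datum `D` relative to `p : X ⟶ S`, `Sec D T` is the set of pairs
`(t : T ⟶ S, a : toDD p (T, t) ⟶ D)`; if `D ≅ toDD p U` this is `Hom(T, U)`.
`Sec.ev` evaluates a section on a `Z`-point `(x, y)` of `X ×_S T`; `Sec.mk'` builds a section from
bare data; `Sec.res` is the restriction along `T' ⟶ T`; `secFunctor D : Schemeᵒᵖ ⥤ Type u`.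
-/

set_option autoImplicit false
set_option linter.style.haveILetI false
set_option backward.isDefEq.respectTransparency false
set_option backward.isDefEq.respectTransparency.types false

universe u

open CategoryTheory CategoryTheory.Limits AlgebraicGeometry Opposite

namespace Groth.Agent.Lib.EffDescH52

open Desc

variable {X S : Scheme.{u}} {p : X ⟶ S}

/-- A section over `T` of the descended functor of `D`. -/
structure Sec (D : SchDD p) (T : Scheme.{u}) where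
  /-- the structure morphism -/
  t : T ⟶ S
  /-- the morphism of descent data -/
  a : (toDD p).obj (Over.mk t) ⟶ D

namespace Sec

variable {D : SchDD p} {T : Scheme.{u}}

/-- The underlying morphism of schemes `X ×_S T ⟶ V`. -/
noncomputable def map (ξ : Sec D T) : pullback p ξ.t ⟶ D.obj.left := ξ.a.hom.left

theorem map_hom (ξ : Sec D T) : ξ.map ≫ D.obj.hom = pullback.fst p ξ.t := Over.w ξ.a.hom

/-- Evaluation of a section on a `Z`-point of `X ×_S T`. -/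
noncomputable def ev (ξ : Sec D T) {Z : Scheme.{u}} (x : Z ⟶ X) (y : Z ⟶ T)
    (h : x ≫ p = y ≫ ξ.t) : Z ⟶ D.obj.left :=
  pullback.lift x y h ≫ ξ.map

@[reassoc (attr := simp)]
theorem ev_hom (ξ : Sec D T) {Z : Scheme.{u}} (x : Z ⟶ X) (y : Z ⟶ T) (h : x ≫ p = y ≫ ξ.t) :
    ξ.ev x y h ≫ D.obj.hom = x := by
  rw [ev, Category.assoc, map_hom, pullback.lift_fst]

theorem comp_ev (ξ : Sec D T) {Z Z' : Scheme.{u}} (g : Z' ⟶ Z) (x : Z ⟶ X) (y : Z ⟶ T)
    (h : x ≫ p = y ≫ ξ.t) :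
    g ≫ ξ.ev x y h = ξ.ev (g ≫ x) (g ≫ y) (by rw [Category.assoc, h, Category.assoc]) := by
  rw [ev, ev, ← Category.assoc]
  congr 1
  apply pullback.hom_ext <;> simp

theorem map_eq_ev (ξ : Sec D T) :
    ξ.map = ξ.ev (pullback.fst p ξ.t) (pullback.snd p ξ.t) pullback.condition := by
  rw [ev]
  have : pullback.lift (pullback.fst p ξ.t) (pullback.snd p ξ.t) pullback.condition = 𝟙 _ := by
    apply pullback.hom_ext <;> simp
  rw [this, Category.id_comp]

theorem ev_congr (ξ : Sec D T) {Z : Scheme.{u}} {x x' : Z ⟶ X} {y y' : Z ⟶ T} (hx : x = x')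
    (hy : y = y') (h : x ≫ p = y ≫ ξ.t) :
    ξ.ev x y h = ξ.ev x' y' (by rw [← hx, ← hy, h]) := by
  subst hx hy; rfl

/-- The section is compatible with the gluing bijections. -/
theorem φ_ev (ξ : Sec D T) {Z : Scheme.{u}} (x₀ x₁ : Z ⟶ X) (y : Z ⟶ T)
    (h₀ : x₀ ≫ p = y ≫ ξ.t) (h₁ : x₁ ≫ p = y ≫ ξ.t) :
    (D.φ x₀ x₁ (h₀.trans h₁.symm) ⟨ξ.ev x₀ y h₀, ξ.ev_hom x₀ y h₀⟩).1 = ξ.ev x₁ y h₁ := by
  let v : Lifts ((toDD p).obj (Over.mk ξ.t)).obj x₀ :=
    ⟨pullback.lift x₀ y h₀, pullback.lift_fst _ _ _⟩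
  have key := ξ.a.comm x₀ x₁ (h₀.trans h₁.symm) v ⟨ξ.ev x₀ y h₀, ξ.ev_hom x₀ y h₀⟩ rfl
  rw [key]
  have e1 : ((toDD p).obj (Over.mk ξ.t)).φ x₀ x₁ (h₀.trans h₁.symm) v =
      canMap p (Over.mk ξ.t) x₀ x₁ (h₀.trans h₁.symm) v := rfl
  rw [e1, ev]
  congr 1
  apply pullback.hom_ext <;> simp [v]

/-- Construct a section from bare data. -/
noncomputable def mk' (t : T ⟶ S) (m : pullback p t ⟶ D.obj.left)
    (hm : m ≫ D.obj.hom = pullback.fst p t)
    (hφ : ∀ ⦃Z : Scheme.{u}⦄ (x₀ x₁ : Z ⟶ X) (y : Z ⟶ T) (h₀ : x₀ ≫ p = y ≫ t)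
      (h₁ : x₁ ≫ p = y ≫ t),
      (D.φ x₀ x₁ (h₀.trans h₁.symm) ⟨pullback.lift x₀ y h₀ ≫ m, by
        rw [Category.assoc, hm, pullback.lift_fst]⟩).1 = pullback.lift x₁ y h₁ ≫ m) :
    Sec D T where
  t := t
  a :=
    { hom := Over.homMk m (by simpa [toDD, canonicalDD] using hm)
      comm := fun Z x₀ x₁ h v w hw => by
        let v' : Z ⟶ pullback p t := v.1
        have hv : v' ≫ pullback.fst p t = x₀ := v.2
        have h₀ : x₀ ≫ p = (v' ≫ pullback.snd p t) ≫ t := by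
          rw [← hv, Category.assoc, Category.assoc, pullback.condition]
        have h₁ : x₁ ≫ p = (v' ≫ pullback.snd p t) ≫ t := h.symm.trans h₀
        have hv' : v' = pullback.lift x₀ (v' ≫ pullback.snd p t) h₀ := by
          apply pullback.hom_ext <;> simp [hv]
        have key := hφ x₀ x₁ (v' ≫ pullback.snd p t) h₀ h₁
        have hw' : w.1 = v' ≫ m := hw
        change (D.φ x₀ x₁ h w).1 = (canMap p (Over.mk t) x₀ x₁ h v).1 ≫ m
        have e2 : (canMap p (Over.mk t) x₀ x₁ h v).1 =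
            pullback.lift x₁ (v' ≫ pullback.snd p t) h₁ := rfl
        rw [e2, ← key]
        apply φ_congr D rfl rfl
        change w.1 = _ ≫ m
        rw [hw', ← hv'] }

@[simp] theorem mk'_t (t : T ⟶ S) (m : pullback p t ⟶ D.obj.left) (hm) (hφ) :
    (mk' (D := D) t m hm hφ).t = t := rfl

@[simp] theorem mk'_map (t : T ⟶ S) (m : pullback p t ⟶ D.obj.left) (hm) (hφ) :
    (mk' (D := D) t m hm hφ).map = m := rfl

/-- Extensionality: same structure morphism and same underlying morphism. -/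
theorem ext' {ξ ξ' : Sec D T} (ht : ξ.t = ξ'.t)
    (hm : ∀ ⦃Z : Scheme.{u}⦄ (x : Z ⟶ X) (y : Z ⟶ T) (h : x ≫ p = y ≫ ξ.t),
      ξ.ev x y h = ξ'.ev x y (by rw [← ht, h])) : ξ = ξ' := by
  obtain ⟨t, a⟩ := ξ
  obtain ⟨t', a'⟩ := ξ'
  dsimp only at ht
  subst ht
  congr 1
  apply SchDD.hom_ext
  apply Over.OverMorphism.ext
  have h1 := map_eq_ev ⟨t, a⟩
  have h2 := map_eq_ev ⟨t, a'⟩
  change (Sec.map ⟨t, a⟩) = (Sec.map ⟨t, a'⟩)
  rw [h1, h2]
  exact hm _ _ _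

/-- Restriction of a section along `g : T' ⟶ T`. -/
noncomputable def res {T' : Scheme.{u}} (g : T' ⟶ T) (ξ : Sec D T) : Sec D T' where
  t := g ≫ ξ.t
  a := (toDD p).map (Over.homMk g rfl : Over.mk (g ≫ ξ.t) ⟶ Over.mk ξ.t) ≫ ξ.a

@[simp] theorem res_t {T' : Scheme.{u}} (g : T' ⟶ T) (ξ : Sec D T) : (ξ.res g).t = g ≫ ξ.t := rfl

theorem res_ev {T' : Scheme.{u}} (g : T' ⟶ T) (ξ : Sec D T) {Z : Scheme.{u}} (x : Z ⟶ X)
    (y : Z ⟶ T') (h : x ≫ p = y ≫ (ξ.res g).t) :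
    (ξ.res g).ev x y h = ξ.ev x (y ≫ g) (by rw [h, res_t, Category.assoc]) := by
  have e : (ξ.res g).map = pullback.map p (g ≫ ξ.t) p ξ.t (𝟙 X) g (𝟙 S) (by simp) (by simp) ≫
      ξ.map := rfl
  rw [ev, ev, e, ← Category.assoc]
  congr 1
  apply pullback.hom_ext <;> simp

theorem res_id (ξ : Sec D T) : ξ.res (𝟙 T) = ξ := by
  apply ext' (by simp)
  intro Z x y h
  rw [res_ev]
  apply ev_congr _ rfl (by simp)

theorem res_comp {T' T'' : Scheme.{u}} (g : T' ⟶ T) (g' : T'' ⟶ T') (ξ : Sec D T) :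
    ξ.res (g' ≫ g) = (ξ.res g).res g' := by
  apply ext' (by simp)
  intro Z x y h
  rw [res_ev, res_ev, res_ev]
  apply ev_congr _ rfl (by simp)

end Sec

/-- The functor of sections of a descent datum. -/
noncomputable def secFunctor (D : SchDD p) : Scheme.{u}ᵒᵖ ⥤ Type u where
  obj T := Sec D T.unop
  map g := ↾(Sec.res g.unop)
  map_id T := by
    ext ξ
    exact Sec.res_id ξ
  map_comp g g' := by
    ext ξ
    exact Sec.res_comp _ _ ξ

@[simp] theorem secFunctor_map_apply (D : SchDD p) {T T' : Scheme.{u}ᵒᵖ} (g : T ⟶ T')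
    (ξ : Sec D T.unop) : (secFunctor D).map g ξ = ξ.res g.unop := rfl

end Groth.Agent.Lib.EffDescH52
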