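import Groth.Agent.Lib.EffDescSecH52

/-!
# Effective descent for schemes: the functor of sections is a Zariski sheaf (helper52)

`isSheaf_secFunctor D : Presieve.IsSheaf Scheme.zariskiTopology (secFunctor D)`; gluing of sections
along an open cover of `T` (`glueSec`), locality of equality (`Sec.ext_of_cover`).
-/

set_option autoImplicit false
set_option linter.style.haveILetI false
set_option backward.isDefEq.respectTransparency false
set_option backward.isDefEq.respectTransparency.types false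

universe u

open CategoryTheory CategoryTheory.Limits AlgebraicGeometry Opposite

namespace Groth.Agent.Lib.EffDescH52

open Desc

variable {X S : Scheme.{u}} {p : X ⟶ S}

theorem Sec.ev_of_eq {D : SchDD p} {T : Scheme.{u}} {ξ ξ' : Sec D T} (e : ξ = ξ') {Z : Scheme.{u}}
    (x : Z ⟶ X) (y : Z ⟶ T) (h : x ≫ p = y ≫ ξ.t) :
    ξ.ev x y h = ξ'.ev x y (by rw [← e, h]) := by
  subst e; rfl

section Glue

variable {D : SchDD p} {T : Scheme.{u}} (𝒰 : T.OpenCover) (ξ : ∀ i, Sec D (𝒰.X i))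
  (hξ : ∀ (i j : 𝒰.I₀) (Z : Scheme.{u}) (gi : Z ⟶ 𝒰.X i) (gj : Z ⟶ 𝒰.X j),
    gi ≫ 𝒰.f i = gj ≫ 𝒰.f j → (ξ i).res gi = (ξ j).res gj)
  (t : T ⟶ S) (ht : ∀ i, 𝒰.f i ≫ t = (ξ i).t)

include hξ in
theorem glue_t_compat (i j : 𝒰.I₀) :
    pullback.fst (𝒰.f i) (𝒰.f j) ≫ (ξ i).t = pullback.snd (𝒰.f i) (𝒰.f j) ≫ (ξ j).t :=
  congrArg Sec.t (hξ i j _ _ _ pullback.condition)

include hξ ht in
/-- Key consequence of compatibility: evaluation of the local sections agree. -/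
theorem ev_eq_ev {Z : Scheme.{u}} (x : Z ⟶ X) (i j : 𝒰.I₀) (yi : Z ⟶ 𝒰.X i) (yj : Z ⟶ 𝒰.X j)
    (hy : yi ≫ 𝒰.f i = yj ≫ 𝒰.f j) (hi : x ≫ p = yi ≫ (ξ i).t) :
    (ξ i).ev x yi hi = (ξ j).ev x yj (by
      rw [hi, ← ht, ← Category.assoc, hy, Category.assoc, ht]) := by
  have key := hξ i j Z yi yj hy
  have e3 := Sec.ev_of_eq key x (𝟙 Z) (by rw [Category.id_comp, Sec.res_t, hi])
  rw [Sec.res_ev, Sec.res_ev] at e3
  refine Eq.trans ?_ (e3.trans ?_)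
  · exact Sec.ev_congr _ rfl (Category.id_comp _).symm _
  · exact Sec.ev_congr _ rfl (Category.id_comp _) _

include ht in
theorem glueLocal_cond (i : 𝒰.I₀) :
    (pullback.fst (pullback.snd p t) (𝒰.f i) ≫ pullback.fst p t) ≫ p =
      pullback.snd (pullback.snd p t) (𝒰.f i) ≫ (ξ i).t := by
  rw [Category.assoc, pullback.condition, ← Category.assoc, pullback.condition,
    Category.assoc, ht]

/-- The local pieces of the glued morphism. -/
noncomputable def glueLocal (i : 𝒰.I₀) : pullback (pullback.snd p t) (𝒰.f i) ⟶ D.obj.left :=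
  (ξ i).ev (pullback.fst (pullback.snd p t) (𝒰.f i) ≫ pullback.fst p t)
    (pullback.snd (pullback.snd p t) (𝒰.f i)) (glueLocal_cond 𝒰 ξ t ht i)

include hξ in
theorem comp_glueLocal_eq {Z : Scheme.{u}} (i j : 𝒰.I₀)
    (gi : Z ⟶ pullback (pullback.snd p t) (𝒰.f i)) (gj : Z ⟶ pullback (pullback.snd p t) (𝒰.f j))
    (h : gi ≫ pullback.fst (pullback.snd p t) (𝒰.f i) =
      gj ≫ pullback.fst (pullback.snd p t) (𝒰.f j)) :
    gi ≫ glueLocal 𝒰 ξ t ht i = gj ≫ glueLocal 𝒰 ξ t ht j := by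
  rw [glueLocal, glueLocal, Sec.comp_ev, Sec.comp_ev]
  have hy : (gi ≫ pullback.snd (pullback.snd p t) (𝒰.f i)) ≫ 𝒰.f i =
      (gj ≫ pullback.snd (pullback.snd p t) (𝒰.f j)) ≫ 𝒰.f j := by
    rw [Category.assoc, ← pullback.condition, ← Category.assoc, h, Category.assoc,
      pullback.condition, Category.assoc]
  have := ev_eq_ev 𝒰 ξ hξ t ht
    (gi ≫ pullback.fst (pullback.snd p t) (𝒰.f i) ≫ pullback.fst p t) i j _ _ hy (by
      rw [Category.assoc, glueLocal_cond 𝒰 ξ t ht i, Category.assoc])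
  rw [this]
  exact Sec.ev_congr _ (by rw [← Category.assoc, h, Category.assoc]) rfl _

/-- The glued morphism `X ×_S T ⟶ V`. -/
noncomputable def glueMap : pullback p t ⟶ D.obj.left :=
  Scheme.Cover.glueMorphisms (𝒰.pullback₁ (pullback.snd p t)) (fun i => glueLocal 𝒰 ξ t ht i)
    (fun i j => comp_glueLocal_eq 𝒰 ξ hξ t ht i j _ _ pullback.condition)

theorem fst_glueMap (i : 𝒰.I₀) :
    pullback.fst (pullback.snd p t) (𝒰.f i) ≫ glueMap 𝒰 ξ hξ t ht = glueLocal 𝒰 ξ t ht i :=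
  Scheme.Cover.ι_glueMorphisms (𝒰.pullback₁ (pullback.snd p t)) _ _ i

/-- The glued morphism evaluated on points factoring through a member of the cover. -/
theorem lift_glueMap {Z : Scheme.{u}} (x : Z ⟶ X) (i : 𝒰.I₀) (y : Z ⟶ 𝒰.X i)
    (h : x ≫ p = (y ≫ 𝒰.f i) ≫ t) :
    pullback.lift x (y ≫ 𝒰.f i) h ≫ glueMap 𝒰 ξ hξ t ht =
      (ξ i).ev x y (by rw [h, Category.assoc, ht]) := by
  have e : pullback.lift x (y ≫ 𝒰.f i) h =
      pullback.lift (pullback.lift x (y ≫ 𝒰.f i) h) y (by simp) ≫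
        pullback.fst (pullback.snd p t) (𝒰.f i) := by simp
  rw [e, Category.assoc, fst_glueMap, glueLocal, Sec.comp_ev]
  exact Sec.ev_congr _ (by simp) (by simp) _

theorem lift_glueMap' {Z : Scheme.{u}} (x : Z ⟶ X) (y' : Z ⟶ T) (i : 𝒰.I₀) (y : Z ⟶ 𝒰.X i)
    (hy : y ≫ 𝒰.f i = y') (h : x ≫ p = y' ≫ t) :
    pullback.lift x y' h ≫ glueMap 𝒰 ξ hξ t ht =
      (ξ i).ev x y (by rw [h, ← hy, Category.assoc, ht]) := by
  subst hy
  exact lift_glueMap 𝒰 ξ hξ t ht x i y h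

theorem glueMap_hom : glueMap 𝒰 ξ hξ t ht ≫ D.obj.hom = pullback.fst p t := by
  apply Scheme.Cover.hom_ext (𝒰.pullback₁ (pullback.snd p t))
  intro i
  change pullback.fst (pullback.snd p t) (𝒰.f i) ≫ _ = pullback.fst (pullback.snd p t) (𝒰.f i) ≫ _
  rw [← Category.assoc, fst_glueMap, glueLocal, Sec.ev_hom]

/-- The glued section. -/
noncomputable def glueSec : Sec D T :=
  Sec.mk' t (glueMap 𝒰 ξ hξ t ht) (glueMap_hom 𝒰 ξ hξ t ht) (by
    intro Z x₀ x₁ y h₀ h₁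
    apply Scheme.Cover.hom_ext (𝒰.pullback₁ y)
    intro (i : 𝒰.I₀)
    change pullback.fst y (𝒰.f i) ≫ _ = pullback.fst y (𝒰.f i) ≫ _
    set g := pullback.fst y (𝒰.f i) with hg
    have hc : pullback.snd y (𝒰.f i) ≫ 𝒰.f i = g ≫ y := pullback.condition.symm
    have hl₀ : g ≫ pullback.lift x₀ y h₀ = pullback.lift (g ≫ x₀) (g ≫ y) (by
        rw [Category.assoc, h₀, Category.assoc]) := by
      apply pullback.hom_ext <;> simp
    have hl₁ : g ≫ pullback.lift x₁ y h₁ = pullback.lift (g ≫ x₁) (g ≫ y) (by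
        rw [Category.assoc, h₁, Category.assoc]) := by
      apply pullback.hom_ext <;> simp
    have c₀ : (g ≫ x₀) ≫ p = pullback.snd y (𝒰.f i) ≫ (ξ i).t := by
      rw [Category.assoc, h₀, ← ht, ← Category.assoc, ← Category.assoc, hc]
    have c₁ : (g ≫ x₁) ≫ p = pullback.snd y (𝒰.f i) ≫ (ξ i).t := by
      rw [Category.assoc, h₁, ← ht, ← Category.assoc, ← Category.assoc, hc]
    have hR : g ≫ pullback.lift x₁ y h₁ ≫ glueMap 𝒰 ξ hξ t ht =
        (ξ i).ev (g ≫ x₁) (pullback.snd y (𝒰.f i)) c₁ := by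
      rw [← Category.assoc, hl₁]
      exact lift_glueMap' 𝒰 ξ hξ t ht (g ≫ x₁) (g ≫ y) i _ hc _
    have hL0 : g ≫ pullback.lift x₀ y h₀ ≫ glueMap 𝒰 ξ hξ t ht =
        (ξ i).ev (g ≫ x₀) (pullback.snd y (𝒰.f i)) c₀ := by
      rw [← Category.assoc, hl₀]
      exact lift_glueMap' 𝒰 ξ hξ t ht (g ≫ x₀) (g ≫ y) i _ hc _
    rw [hR]
    refine (φ_natural' D g x₀ x₁ (h₀.trans h₁.symm) (by
      rw [Category.assoc, Category.assoc, h₀, h₁]) _).symm.trans ?_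
    rw [← Sec.φ_ev (ξ i) (g ≫ x₀) (g ≫ x₁) (pullback.snd y (𝒰.f i)) c₀ c₁]
    apply φ_congr D rfl rfl
    exact hL0)

@[simp] theorem glueSec_t : (glueSec 𝒰 ξ hξ t ht).t = t := rfl

theorem glueSec_ev {Z : Scheme.{u}} (x : Z ⟶ X) (y' : Z ⟶ T) (i : 𝒰.I₀) (y : Z ⟶ 𝒰.X i)
    (hy : y ≫ 𝒰.f i = y') (h : x ≫ p = y' ≫ t) :
    (glueSec 𝒰 ξ hξ t ht).ev x y' h = (ξ i).ev x y (by rw [h, ← hy, Category.assoc, ht]) :=
  lift_glueMap' 𝒰 ξ hξ t ht x y' i y hy h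

theorem glueSec_res (i : 𝒰.I₀) : (glueSec 𝒰 ξ hξ t ht).res (𝒰.f i) = ξ i := by
  apply Sec.ext' (by simp [ht])
  intro Z x y h
  rw [Sec.res_ev]
  exact glueSec_ev 𝒰 ξ hξ t ht x (y ≫ 𝒰.f i) i y rfl _

omit hξ ht in
/-- Sections are determined locally. -/
theorem Sec.ext_of_cover {ζ ζ' : Sec D T} (h : ∀ i, ζ.res (𝒰.f i) = ζ'.res (𝒰.f i)) : ζ = ζ' := by
  have ht' : ζ.t = ζ'.t := by
    apply Scheme.Cover.hom_ext 𝒰
    intro i
    exact congrArg Sec.t (h i)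
  apply Sec.ext' ht'
  intro Z x y hxy
  apply Scheme.Cover.hom_ext (𝒰.pullback₁ y)
  intro i
  change pullback.fst y (𝒰.f i) ≫ _ = pullback.fst y (𝒰.f i) ≫ _
  rw [Sec.comp_ev, Sec.comp_ev]
  have hc : pullback.fst y (𝒰.f i) ≫ y = pullback.snd y (𝒰.f i) ≫ 𝒰.f i := pullback.condition
  have e := Sec.ev_of_eq (h i) (pullback.fst y (𝒰.f i) ≫ x) (pullback.snd y (𝒰.f i)) (by
    rw [Sec.res_t, Category.assoc, hxy, ← Category.assoc, hc, Category.assoc])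
  rw [Sec.res_ev, Sec.res_ev] at e
  refine Eq.trans ?_ (e.trans ?_)
  · exact Sec.ev_congr _ rfl hc _
  · exact Sec.ev_congr _ rfl hc.symm _

end Glue

/-- The functor of sections of a descent datum is a Zariski sheaf. -/
theorem isSheaf_secFunctor (D : SchDD p) :
    Presieve.IsSheaf Scheme.zariskiTopology (secFunctor D) := by
  rw [Scheme.zariskiTopology, Scheme.grothendieckTopology,
    Precoverage.isSheaf_toGrothendieck_iff_of_isStableUnderBaseChange]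
  intro T R hR
  obtain ⟨(𝒰 : T.OpenCover), rfl⟩ := Scheme.exists_cover_of_mem_pretopology hR
  rw [Presieve.isSheafFor_arrows_iff]
  intro ξ hξ
  have hξ' : ∀ (i j : 𝒰.I₀) (Z : Scheme.{u}) (gi : Z ⟶ 𝒰.X i) (gj : Z ⟶ 𝒰.X j),
      gi ≫ 𝒰.f i = gj ≫ 𝒰.f j → (ξ i).res gi = (ξ j).res gj := fun i j Z gi gj h => hξ i j Z gi gj h
  let t : T ⟶ S := 𝒰.glueMorphisms (fun i => (ξ i).t) (glue_t_compat 𝒰 ξ hξ')
  have ht : ∀ i, 𝒰.f i ≫ t = (ξ i).t := fun i => 𝒰.ι_glueMorphisms _ _ i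
  refine ⟨glueSec 𝒰 ξ hξ' t ht, fun i => glueSec_res 𝒰 ξ hξ' t ht i, fun ζ hζ => ?_⟩
  apply Sec.ext_of_cover 𝒰
  intro i
  rw [glueSec_res]
  exact hζ i

end Groth.Agent.Lib.EffDescH52
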