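import Groth.Agent.Lib.EffDescEtSubmFpqcH52

/-!
# Universal sections over a base (helper52)

For a descent datum `D` relative to a family `f i : X i ⟶ S`, a morphism `h : B ⟶ S` and a scheme
`t' : U ⟶ B` over `B`, a section `ζ` of `D` over `U` is *universal over `B`* if every section of `D`
over a `B`-scheme `T` is the restriction of `ζ` along a unique `B`-morphism `T ⟶ U`.  This is the
same as an isomorphism between the canonical descent datum of `U` (relative to the base changed
family) and the base change of `D`, but it refers to `D` only, so it is well adapted to changes of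
the base.

* `isUnivOver_of_iso`, `exists_iso_of_isUnivOver`: the equivalence with isomorphisms of descent data.
* `IsUnivOver.baseChange`: stability under base change `B₂ ⟶ B`.
* `IsUnivOver.of_iso_base`: change of the base along an isomorphism.
-/

set_option autoImplicit false
set_option linter.style.haveILetI false
set_option backward.isDefEq.respectTransparency false
set_option backward.isDefEq.respectTransparency.types false

universe u

open CategoryTheory CategoryTheory.Limits AlgebraicGeometry Opposite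

namespace Groth.Agent.Lib.EffDescFamH52

open Desc

variable {S : Scheme.{u}} {ι : Type u} {X : ι → Scheme.{u}} {f : ∀ i, X i ⟶ S}

/-- `ζ` is universal among the sections of `D` over `B`-schemes. -/
def IsUnivOver (D : SchDDFam f) {B : Scheme.{u}} (h : B ⟶ S) {U : Scheme.{u}} (t' : U ⟶ B)
    (ζ : SecF D U) : Prop :=
  ζ.t = t' ≫ h ∧ ∀ ⦃T : Scheme.{u}⦄ (t₁ : T ⟶ B) (ξ : SecF D T), ξ.t = t₁ ≫ h →
    ∃! m : T ⟶ U, m ≫ t' = t₁ ∧ ζ.res m = ξ

variable {D : SchDDFam f} {B : Scheme.{u}} {h : B ⟶ S}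

/-- An isomorphism from a canonical descent datum to the base change of `D` gives a universal
section over the base. -/
theorem isUnivOver_of_iso (U : Over B)
    (e : (toDDFam (fun i => pullback.snd (f i) h)).obj U ≅ bcDD h D)
    (hff : ∀ T : Over B, Function.Bijective
      ((toDDFam (fun i => pullback.snd (f i) h)).map :
        (T ⟶ U) → ((toDDFam (fun i => pullback.snd (f i) h)).obj T ⟶
          (toDDFam (fun i => pullback.snd (f i) h)).obj U))) :
    IsUnivOver D h U.hom (bcSecInv (SecF.ofHom U e.hom)) := by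
  refine ⟨rfl, fun T t₁ ξ ht => ?_⟩
  exact existsUnique_res_bcSecInv' (SecF.ofHom U e.hom)
    (fun {T} ξ' => existsUnique_res_eq_of_iso' e hff ξ') t₁ ξ ht

theorem bcSec_congr {T : Scheme.{u}} {ξ ξ' : SecF D T} (hξ : ξ = ξ') {t' t'' : T ⟶ B}
    (ht' : t' = t'') (ht : ξ.t = t' ≫ h) (ht2 : ξ'.t = t'' ≫ h) :
    bcSec ξ t' ht = bcSec ξ' t'' ht2 := by
  subst hξ ht'
  rfl

theorem bcSec_res {T T' : Scheme.{u}} (ξ : SecF D T) (t' : T ⟶ B) (ht : ξ.t = t' ≫ h)
    (m : T' ⟶ T) :
    (bcSec ξ t' ht).res m = bcSec (ξ.res m) (m ≫ t') (by rw [SecF.res_t, ht, Category.assoc]) := by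
  have h1 : bcSecInv ((bcSec ξ t' ht).res m) = ξ.res m := by
    rw [bcSecInv_res, bcSecInv_bcSec]
  have h2 := bcSec_bcSecInv ((bcSec ξ t' ht).res m)
  rw [← h2]
  exact bcSec_congr h1 rfl _ _

/-- A universal section over the base gives an isomorphism from a canonical descent datum to the
base change of `D`. -/
theorem exists_iso_of_isUnivOver {U : Scheme.{u}} (t' : U ⟶ B) (ζ : SecF D U)
    (H : IsUnivOver D h t' ζ) :
    Nonempty ((toDDFam (fun i => pullback.snd (f i) h)).obj (Over.mk t') ≅ bcDD h D) := by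
  let ε : SecF (bcDD h D) U := bcSec ζ t' H.1
  have huniv : ∀ {T : Scheme.{u}} (ξ' : SecF (bcDD h D) T), ∃! m : T ⟶ U, ε.res m = ξ' := by
    intro T ξ'
    obtain ⟨m, ⟨hm1, hm2⟩, hmu⟩ := H.2 ξ'.t (bcSecInv ξ') rfl
    refine ⟨m, ?_, fun m' hm' => hmu m' ⟨?_, ?_⟩⟩
    · change (bcSec ζ t' H.1).res m = ξ'
      rw [bcSec_res, ← bcSec_bcSecInv ξ']
      exact bcSec_congr hm2 hm1 _ _
    · have := congrArg SecF.t hm'
      exact this
    · have h1 : bcSecInv (ε.res m') = ζ.res m' := by
        rw [bcSecInv_res]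
        change (bcSecInv (bcSec ζ t' H.1)).res m' = _
        rw [bcSecInv_bcSec]
      rw [← h1, hm']
  haveI := isIso_toHom_of_universal ε (fun {T} ξ => huniv ξ)
  exact ⟨asIso (SecF.toHom ε)⟩

/-- Universal sections over the base are stable under base change. -/
theorem IsUnivOver.baseChange {U : Scheme.{u}} {t' : U ⟶ B} {ζ : SecF D U}
    (H : IsUnivOver D h t' ζ) {B₂ : Scheme.{u}} (k : B₂ ⟶ B) (h₂ : B₂ ⟶ S) (hk : k ≫ h = h₂) :
    IsUnivOver D h₂ (pullback.snd t' k) (ζ.res (pullback.fst t' k)) := by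
  subst hk
  refine ⟨?_, fun T t₁ ξ ht => ?_⟩
  · rw [SecF.res_t, H.1, ← Category.assoc, pullback.condition, Category.assoc]
  · obtain ⟨m₁, ⟨hm1, hm2⟩, hmu⟩ := H.2 (t₁ ≫ k) ξ (by rw [ht, Category.assoc])
    refine ⟨pullback.lift m₁ t₁ hm1, ⟨pullback.lift_snd _ _ _, ?_⟩, fun m' hm' => ?_⟩
    · rw [← SecF.res_comp, pullback.lift_fst, hm2]
    · obtain ⟨hm'1, hm'2⟩ := hm'
      have h1 : m' ≫ pullback.fst t' k = m₁ := by
        apply hmu
        refine ⟨?_, ?_⟩
        · rw [Category.assoc, pullback.condition, ← Category.assoc, hm'1]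
        · rw [SecF.res_comp, hm'2]
      apply pullback.hom_ext
      · rw [h1, pullback.lift_fst]
      · rw [hm'1, pullback.lift_snd]

/-- Change of base along an isomorphism. -/
theorem IsUnivOver.of_iso_base {U : Scheme.{u}} {t' : U ⟶ B} {ζ : SecF D U}
    (H : IsUnivOver D h t' ζ) {B₂ : Scheme.{u}} (k : B ⟶ B₂) [IsIso k] (h₂ : B₂ ⟶ S)
    (hk : k ≫ h₂ = h) : IsUnivOver D h₂ (t' ≫ k) ζ := by
  subst hk
  refine ⟨?_, fun T t₁ ξ ht => ?_⟩
  · rw [H.1, Category.assoc]
  · obtain ⟨m, ⟨hm1, hm2⟩, hmu⟩ := H.2 (t₁ ≫ inv k) ξ (by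
      rw [ht, Category.assoc, IsIso.inv_hom_id_assoc])
    refine ⟨m, ⟨?_, hm2⟩, fun m' hm' => hmu m' ⟨?_, hm'.2⟩⟩
    · rw [← Category.assoc, hm1, Category.assoc, IsIso.inv_hom_id, Category.comp_id]
    · rw [← hm'.1, Category.assoc, Category.assoc, IsIso.hom_inv_id, Category.comp_id]

end Groth.Agent.Lib.EffDescFamH52
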