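import Mathlib.AlgebraicGeometry.IdealSheaf.Basic
import Mathlib.AlgebraicGeometry.AffineScheme
import Mathlib.AlgebraicGeometry.Properties
import Mathlib.AlgebraicGeometry.Noetherian
import Mathlib.RingTheory.Ideal.KrullsHeightTheorem

set_option autoImplicit false
universe u
open CategoryTheory AlgebraicGeometry

namespace Groth.Agent.Lib.IdealSheafGeneric

variable {X : Scheme.{u}}

/-- The point of an affine open given by a prime lies in the support iff the ideal is contained in
the prime. -/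
lemma fromSpec_mem_support_iff (D : X.IdealSheafData) (U : X.affineOpens)
    (hU : IsAffineOpen U.1) (q : Spec Γ(X, U.1)) :
    hU.fromSpec q ∈ D.support ↔ D.ideal U ≤ q.asIdeal := by
  have hq : hU.fromSpec q ∈ U.1 := by
    have : hU.fromSpec q ∈ Set.range hU.fromSpec := ⟨q, rfl⟩
    rwa [hU.range_fromSpec] at this
  rw [Scheme.IdealSheafData.mem_support_iff_of_mem hq]
  have := congrArg (q ∈ ·) (hU.fromSpec_preimage_zeroLocus (D.ideal U : Set Γ(X, U.1)))
  simp only [Set.mem_preimage, eq_iff_iff] at this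
  rw [this]
  exact PrimeSpectrum.mem_zeroLocus (x := (q : PrimeSpectrum Γ(X, U.1))) _

/-- A point of an affine open lies in the support of an ideal sheaf iff the ideal is contained in
the corresponding prime. -/
lemma mem_support_iff_le_primeIdealOf (D : X.IdealSheafData) (U : X.affineOpens)
    (hU : IsAffineOpen U.1) (x : X) (hxU : x ∈ U.1) :
    x ∈ D.support ↔ D.ideal U ≤ (hU.primeIdealOf ⟨x, hxU⟩).asIdeal := by
  rw [← fromSpec_mem_support_iff D U hU, hU.fromSpec_primeIdealOf ⟨x, hxU⟩]

/-- A point of the support which is maximal under generisation within the support corresponds to a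
minimal prime over the ideal on any affine open containing it. -/
lemma primeIdealOf_mem_minimalPrimes (D : X.IdealSheafData) (U : X.affineOpens)
    (hU : IsAffineOpen U.1) (ξ : X)
    (hξU : ξ ∈ U.1) (hξ : ξ ∈ (D.support : Set X))
    (hgen : ∀ y ∈ (D.support : Set X), y ⤳ ξ → y = ξ) :
    (hU.primeIdealOf ⟨ξ, hξU⟩).asIdeal ∈ (D.ideal U).minimalPrimes := by
  refine ⟨⟨(hU.primeIdealOf ⟨ξ, hξU⟩).isPrime,
    (mem_support_iff_le_primeIdealOf D U hU ξ hξU).mp hξ⟩, ?_⟩
  rintro q ⟨hq, hDq⟩ hqp
  set p := hU.primeIdealOf ⟨ξ, hξU⟩ with hp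
  have hpξ : hU.fromSpec p = ξ := hU.fromSpec_primeIdealOf ⟨ξ, hξU⟩
  let q' : Spec Γ(X, U.1) := ⟨q, hq⟩
  have h1 : hU.fromSpec q' ∈ (D.support : Set X) :=
    (fromSpec_mem_support_iff D U hU q').mpr hDq
  have h2 : q' ⤳ p := (PrimeSpectrum.le_iff_specializes q' p).mp hqp
  have h3 : hU.fromSpec q' ⤳ ξ := by
    rw [← hpξ]
    exact h2.map hU.fromSpec.continuous
  have h4 : hU.fromSpec q' = hU.fromSpec p := (hgen _ h1 h3).trans hpξ.symm
  have h5 : q' = p := hU.fromSpec.isOpenEmbedding.injective h4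
  rw [← h5]

/-- Dimension of the local ring at a point of an affine open as the height of its prime. -/
lemma ringKrullDim_stalk_eq_height (U : X.Opens) (hU : IsAffineOpen U) (ξ : X) (hξU : ξ ∈ U) :
    ringKrullDim (X.presheaf.stalk ξ) = (hU.primeIdealOf ⟨ξ, hξU⟩).asIdeal.height := by
  let := TopCat.Presheaf.algebra_section_stalk X.presheaf (⟨ξ, hξU⟩ : U)
  have := hU.isLocalization_stalk ⟨ξ, hξU⟩
  exact IsLocalization.AtPrime.ringKrullDim_eq_height
    (hU.primeIdealOf ⟨ξ, hξU⟩).asIdeal (X.presheaf.stalk ξ)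

end Groth.Agent.Lib.IdealSheafGeneric
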