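import Groth.Agent.Lib.H78KeyLemma2
import Groth.Prelude.Def_SecTwist

/-!
# helper78: bridge from the frozen `SecTwist` vocabulary to the `H78TensorGen` one
(namespace `Groth.Agent.Lib.H78SecTwist`)

* `tmul_eq`, `val_eq`, `pow_eq`, `twist_eq`.
* `twist_eq_zero` (= S15743), `exists_twist_ext` (= S15744).
-/

set_option autoImplicit false
universe u
open CategoryTheory CategoryTheory.Limits AlgebraicGeometry MonoidalCategory Opposite TopologicalSpace
open Groth.Agent.Lib.H90Invertible Groth.Agent.Lib.StructureModule Groth.Agent.Lib.H78TensorGen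
open Groth.Agent.Lib.H78SecCoord Groth.Agent.Lib.H78Atlas Groth.Agent.Lib.H78KeyLemma
open Groth.Agent.Lib.H78KeyLemma2

namespace Groth.Agent.Lib.H78SecTwist

variable {X : Scheme.{u}}

lemma tmul_eq (M N : X.Modules) (U : X.Opens) (m : Γ(M, U)) (n : Γ(N, U)) :
    SecTwist.tmul M N U m n = tmul m n := rfl

lemma val_eq {L : X.Modules} (s : Coh.structureModule X ⟶ L) (U : X.Opens) :
    SecTwist.val s U = rs L le_top (sec s) := by
  have h := app_toSec s U 1
  rw [one_smul] at h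
  exact h

lemma pow_eq {L : X.Modules} (s : Coh.structureModule X ⟶ L) (n : ℕ) (U : X.Opens) :
    SecTwist.pow s n U = epow (rs L (le_top : U ≤ ⊤) (sec s)) n := by
  induction n with
  | zero => rfl
  | succ n ih =>
    change SecTwist.tmul _ _ U (SecTwist.pow s n U) (SecTwist.val s U) = _
    rw [ih, val_eq, tmul_eq, epow_succ]

lemma twist_eq {L : X.Modules} (s : Coh.structureModule X ⟶ L) (n : ℕ) (F : X.Modules) (U : X.Opens)
    (t : Γ(F, U)) :
    SecTwist.twist s n F U t = tmul t (epow (rs L (le_top : U ≤ ⊤) (sec s)) n) := by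
  change SecTwist.tmul _ _ U t (SecTwist.pow s n U) = _
  rw [pow_eq, tmul_eq]

lemma tmul_zero_left' {M N : X.Modules} {V : X.Opens} (y : Γ(N, V)) :
    tmul (0 : Γ(M, V)) y = 0 := by
  have h := smul_tmul (0 : Γ(X, V)) (0 : Γ(M, V)) y
  rw [zero_smul, zero_smul] at h
  exact h

/-- **S15743**: a global section of a quasi-coherent module vanishing on `X_s` is killed by a power of `s` -/
theorem twist_eq_zero [CompactSpace X] {L : X.Modules} (hL : PicF.IsInvertible L)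
    (s : Coh.structureModule X ⟶ L) {F : X.Modules} (hF : QcLike F) (t : Γ(F, ⊤))
    (ht : rs F (le_top : CohB1.genLocus L s ≤ ⊤) t = 0) :
    ∃ n : ℕ, 0 < n ∧ SecTwist.twist s n F ⊤ t = 0 := by
  obtain ⟨ι, _, V, hV, hVaff, ⟨A⟩⟩ := exists_finite_atlas hL
  cases nonempty_fintype ι
  have hD : ∀ i, X.basicOpen (A.co (sec s) i) ≤ CohB1.genLocus L s := by
    intro i
    rw [← A.genLocus_inf, ofSection_sec]
    exact inf_le_left
  have h1 : ∀ i, ∃ n : ℕ, A.co (sec s) i ^ n • rs F (le_top : V i ≤ ⊤) t = 0 := by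
    intro i
    refine hF.van (hVaff i) (A.co (sec s) i) (rs F le_top t) ?_
    rw [rs_rs]
    have := congrArg (rs F (hD i)) ht
    rw [rs_rs, rs_zero] at this
    exact this
  choose n₁ hn₁ using h1
  refine ⟨Finset.univ.sup n₁ + 1, Nat.succ_pos _, ?_⟩
  rw [twist_eq]
  suffices key : tmul t (epow (rs L (le_top : (⊤ : X.Opens) ≤ ⊤) (sec s)) (Finset.univ.sup n₁ + 1)) =
      (0 : Γ(CohB1.tensorMod F (CohB1.tensorPow L (Finset.univ.sup n₁ + 1)), ⊤)) from key
  refine sec_ext _ _ _ (fun x _ => ?_)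
  have hx : x ∈ ⨆ i, V i := by rw [hV]; trivial
  obtain ⟨i, hi⟩ := Opens.mem_iSup.1 hx
  refine ⟨V i, le_top, hi, ?_⟩
  rw [tmul_rs, epow_rs, rs_rs, ← A.co_spec (sec s) i, epow_smul, tmul_smul, ← smul_tmul]
  have hz0 : rs (CohB1.tensorMod F (CohB1.tensorPow L (Finset.univ.sup n₁ + 1))) (le_top : V i ≤ ⊤) 0 = 0 :=
    rs_zero _ _
  rw [hz0]
  have hle : n₁ i ≤ Finset.univ.sup n₁ + 1 := (Finset.le_sup (Finset.mem_univ i)).trans (Nat.le_succ _)
  have h0 : A.co (sec s) i ^ (Finset.univ.sup n₁ + 1) • rs F (le_top : V i ≤ ⊤) t = 0 := by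
    rw [← Nat.sub_add_cancel hle, pow_add, mul_smul, hn₁ i, smul_zero]
  rw [h0]
  exact tmul_zero_left' _

/-- **S15744**: a section of a quasi-coherent module over `X_s`, twisted by a power of `s`, extends -/
theorem exists_twist_ext [CompactSpace X] [QuasiSeparatedSpace X] {L : X.Modules}
    (hL : PicF.IsInvertible L) (s : Coh.structureModule X ⟶ L) {F : X.Modules} (hF : QcLike F)
    (t : Γ(F, CohB1.genLocus L s)) :
    ∃ n : ℕ, 0 < n ∧ ∃ t' : Γ(CohB1.tensorMod F (CohB1.tensorPow L n), ⊤),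
      rs _ (le_top : CohB1.genLocus L s ≤ ⊤) t' = SecTwist.twist s n F (CohB1.genLocus L s) t := by
  obtain ⟨ι, _, V, hV, hVaff, ⟨A⟩⟩ := exists_finite_atlas hL
  have hD : ∀ i, X.basicOpen (A.co (sec s) i) ≤ CohB1.genLocus L s := by
    intro i
    rw [← A.genLocus_inf, ofSection_sec]
    exact inf_le_left
  obtain ⟨n, x, hx1, hx2⟩ := key_ext hF hVaff A (sec s) hD t
  obtain ⟨y, hy⟩ : ∃ y : ∀ i, Γ(F, V i), ∀ i, y i = A.co (sec s) i • x i := ⟨_, fun i => rfl⟩
  have hy1 : ∀ i, rs F (X.basicOpen_le (A.co (sec s) i)) (y i) =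
      rf (X.basicOpen_le (A.co (sec s) i)) (A.co (sec s) i) ^ (n + 1) • rs F (hD i) t := by
    intro i
    rw [hy, rs_smul, hx1 i, ← mul_smul, pow_succ']
  have hy2 : ∀ i j, rs F (inf_le_left : V i ⊓ V j ≤ V i) (y i) =
      A.trans i j ^ (n + 1) • rs F (inf_le_right : V i ⊓ V j ≤ V j) (y j) := by
    intro i j
    rw [hy, hy, rs_smul, rs_smul, hx2 i j, A.co_compat (sec s) i j, ← mul_smul, ← mul_smul, pow_succ]
    congr 1
    ring
  obtain ⟨ξ, hξ⟩ := exists_glue_tw F hV A (n + 1) y hy2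
  refine ⟨n + 1, Nat.succ_pos n, ξ, ?_⟩
  rw [twist_eq]
  refine sec_ext _ _ _ (fun z hz => ?_)
  have hz' : z ∈ ⨆ i, V i := by rw [hV]; trivial
  obtain ⟨i, hi⟩ := Opens.mem_iSup.1 hz'
  have hzW : z ∈ X.basicOpen (A.co (sec s) i) := by
    rw [← A.genLocus_inf, ofSection_sec]
    exact ⟨hz, hi⟩
  refine ⟨X.basicOpen (A.co (sec s) i), hD i, hzW, ?_⟩
  have e1 : rs _ (hD i) (rs _ (le_top : CohB1.genLocus L s ≤ ⊤) ξ) =
      rs _ (X.basicOpen_le (A.co (sec s) i)) (rs _ (le_top : V i ≤ ⊤) ξ) := by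
    rw [rs_rs, rs_rs]
  rw [e1, hξ i, tmul_rs, hy1 i, epow_rs, tmul_rs, epow_rs, rs_rs]
  have e2 : rs L ((hD i).trans le_top) (sec s) =
      rf (X.basicOpen_le (A.co (sec s) i)) (A.co (sec s) i) •
        rs L (X.basicOpen_le (A.co (sec s) i)) (A.E i) := by
    rw [← rs_smul, A.co_spec, rs_rs]
  rw [e2, epow_smul, tmul_smul, smul_tmul]

end Groth.Agent.Lib.H78SecTwist
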