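import Groth.Agent.Lib.CohFinite
import Groth.Agent.Lib.H90InvertibleFP
import Groth.Agent.Lib.QCohStalk
import Groth.Agent.Lib.H78SecTwist
import Groth.Prelude.Def_PicF2
import Groth.Prelude.Def_SecTwist

/-!
# The zero scheme of a section of a coherent module (helper82)

For a quasi-coherent module `L` of finite type and a global section `s`, the ideals
`PicF2.zeroIdealOn L s U` on affine opens form an ideal sheaf, so that
`(PicF2.zeroScheme L s).ideal U = PicF2.zeroIdealOn L s U` (`ideal_zeroScheme`).  If `L` is freely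
generated by `e` over the affine open `U` and `s|_U = c • e` then this ideal is `(c)`
(`ideal_zeroScheme_eq_span`).
-/

set_option autoImplicit false
universe u
open CategoryTheory CategoryTheory.Limits AlgebraicGeometry TopologicalSpace Opposite

namespace Groth.Agent.Lib.ZeroScheme82

open Groth.Agent.Lib.QCohStalk Groth.Agent.Lib.H90Invertible Groth.Agent.Lib.H78TensorGen

variable {X : Scheme.{u}} (L : X.Modules) (s : Coh.structureModule X ⟶ L)

/-- the ideal `{a | a · L(U) ⊆ O(U) · s}` as an ideal of `Γ(X, U)` -/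
noncomputable abbrev zI (U : X.Opens) : Ideal Γ(X, U) := PicF2.zeroIdealOn L s U

/-- the value of the section over `U` -/
noncomputable abbrev sv (U : X.Opens) : Γ(L, U) := PicF2.secVal L s U

theorem mem_zI (U : X.Opens) (a : Γ(X, U)) :
    a ∈ zI L s U ↔ ∀ m : Γ(L, U), ∃ b : Γ(X, U), a • m = b • sv L s U := Iff.rfl

theorem res_sv {U V : X.Opens} (h : V ≤ U) : res L h (sv L s U) = sv L s V :=
  SecTwist.map_val s (homOfLE h)

theorem res_sub' {U V : X.Opens} (h : V ≤ U) (x y : Γ(L, U)) :
    res L h (x - y) = res L h x - res L h y :=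
  map_sub (L.presheaf.map (homOfLE h).op).hom x y

section QCoh

variable [L.IsQuasicoherent]

/-- restriction to a basic open preserves the zero ideal -/
theorem res_mem_zI {U : X.Opens} (hU : IsAffineOpen U) (f a : Γ(X, U)) (ha : a ∈ zI L s U) :
    resO X (X.basicOpen_le f) a ∈ zI L s (X.basicOpen f) := by
  rw [mem_zI] at ha ⊢
  intro m'
  obtain ⟨n, m, hm⟩ := exists_pow_smul_eq_res L hU f m'
  obtain ⟨b, hb⟩ := ha m
  have hu : IsUnit (resO X (X.basicOpen_le f) f) := X.toRingedSpace.isUnit_res_basicOpen f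
  obtain ⟨u, hu'⟩ := hu.pow n
  refine ⟨↑u⁻¹ * resO X (X.basicOpen_le f) b, ?_⟩
  have h1 := congrArg (res L (X.basicOpen_le f)) hb
  rw [res_smul, res_smul, res_sv, ← hm, ← hu', smul_smul] at h1
  have h2 : resO X (X.basicOpen_le f) a • m' =
      (↑u⁻¹ * (resO X (X.basicOpen_le f) a * ↑u)) • m' := by
    rw [mul_comm (resO X (X.basicOpen_le f) a), ← mul_assoc, Units.inv_mul, one_mul]
  rw [h2, mul_smul, h1, smul_smul]

/-- key step: an element of the zero ideal on a basic open, after multiplication by a power of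
`f`, multiplies a given section into `O(U) · s` -/
theorem exists_pow_mul_smul_mem {U : X.Opens} (hU : IsAffineOpen U) (f a₀ : Γ(X, U))
    (a' : Γ(X, X.basicOpen f)) (n₀ : ℕ) (ha' : a' ∈ zI L s (X.basicOpen f))
    (h0 : a' * (X.presheaf.map (homOfLE (X.basicOpen_le f)).op).hom f ^ n₀ =
      (X.presheaf.map (homOfLE (X.basicOpen_le f)).op).hom a₀) (m : Γ(L, U)) :
    ∃ k : ℕ, (f ^ k * a₀) • m ∈ Submodule.span Γ(X, U) {sv L s U} := by
  have hloc : IsLocalization.Away f Γ(X, X.basicOpen f) := hU.isLocalization_basicOpen f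
  set ρ : Γ(X, U) →+* Γ(X, X.basicOpen f) :=
    (X.presheaf.map (homOfLE (X.basicOpen_le f)).op).hom with hρ
  obtain ⟨b', hb'⟩ := (mem_zI L s _ a').mp ha' (res L (X.basicOpen_le f) m)
  obtain ⟨⟨b₀, ⟨_, n₁, rfl⟩⟩, hb₀⟩ := IsLocalization.surj (Submonoid.powers f) b'
  simp only at hb₀
  replace hb₀ : b' * ρ (f ^ n₁) = ρ b₀ := hb₀
  set σ : Γ(L, U) := (f ^ n₁ * a₀) • m - (f ^ n₀ * b₀) • sv L s U with hσ
  have hσ0 : res L (X.basicOpen_le f) σ = 0 := by
    have e1 : res L (X.basicOpen_le f) σ =
        ρ (f ^ n₁ * a₀) • res L (X.basicOpen_le f) m -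
          ρ (f ^ n₀ * b₀) • sv L s (X.basicOpen f) := by
      rw [hσ, res_sub', res_smul, res_smul, res_sv]
    rw [e1, sub_eq_zero, map_mul, map_mul, map_pow, ← h0, ← hb₀, map_pow, map_pow]
    rw [show ρ f ^ n₁ * (a' * ρ f ^ n₀) = (ρ f ^ n₁ * ρ f ^ n₀) * a' by ring, mul_smul, hb',
      smul_smul]
    congr 1
    ring
  obtain ⟨k, hk⟩ := exists_pow_smul_eq_zero L hU f σ hσ0
  refine ⟨k + n₁, ?_⟩
  have h3 : (f ^ (k + n₁) * a₀) • m = (f ^ k * (f ^ n₀ * b₀)) • sv L s U := by
    rw [hσ, smul_sub, sub_eq_zero, smul_smul, smul_smul] at hk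
    rw [← hk]
    congr 1
    ring
  rw [h3]
  exact Submodule.smul_mem _ _ (Submodule.mem_span_singleton_self _)

/-- every element of the zero ideal on a basic open is a fraction with numerator in the zero ideal -/
theorem exists_mem_zI_of_mem_basicOpen {U : X.Opens} (hU : IsAffineOpen U)
    [Module.Finite Γ(X, U) Γ(L, U)] (f : Γ(X, U)) (a' : Γ(X, X.basicOpen f))
    (ha' : a' ∈ zI L s (X.basicOpen f)) :
    ∃ (a : Γ(X, U)) (n : ℕ), a ∈ zI L s U ∧
      a' * (X.presheaf.map (homOfLE (X.basicOpen_le f)).op).hom f ^ n =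
        (X.presheaf.map (homOfLE (X.basicOpen_le f)).op).hom a := by
  classical
  have hloc : IsLocalization.Away f Γ(X, X.basicOpen f) := hU.isLocalization_basicOpen f
  set ρ : Γ(X, U) →+* Γ(X, X.basicOpen f) :=
    (X.presheaf.map (homOfLE (X.basicOpen_le f)).op).hom with hρ
  obtain ⟨⟨a₀, ⟨_, n₀, rfl⟩⟩, ha₀⟩ := IsLocalization.surj (Submonoid.powers f) a'
  simp only at ha₀
  replace ha₀ : a' * ρ f ^ n₀ = ρ a₀ := by
    rw [← map_pow]
    exact ha₀
  obtain ⟨S, hS⟩ := (Module.Finite.fg_top : (⊤ : Submodule Γ(X, U) Γ(L, U)).FG)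
  choose k hk using exists_pow_mul_smul_mem L s hU f a₀ a' n₀ ha' ha₀
  set K : ℕ := S.sup k with hK
  refine ⟨f ^ K * a₀, n₀ + K, ?_, ?_⟩
  · have hall : ∀ m ∈ Submodule.span Γ(X, U) (S : Set Γ(L, U)),
        (f ^ K * a₀) • m ∈ Submodule.span Γ(X, U) {sv L s U} := by
      intro m hm
      induction hm using Submodule.span_induction with
      | mem m hmS =>
        have hle : k m ≤ K := Finset.le_sup (f := k) hmS
        have e1 : f ^ K * a₀ = f ^ (K - k m) * (f ^ k m * a₀) := by
          rw [← mul_assoc, ← pow_add, Nat.sub_add_cancel hle]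
        rw [e1, mul_smul]
        exact Submodule.smul_mem _ _ (hk m)
      | zero =>
        rw [smul_zero]
        exact Submodule.zero_mem _
      | add x y _ _ hx hy =>
        rw [smul_add]
        exact Submodule.add_mem _ hx hy
      | smul r x _ hx =>
        rw [smul_comm]
        exact Submodule.smul_mem _ _ hx
    rw [mem_zI]
    intro m
    have hm := hall m (by rw [hS]; trivial)
    obtain ⟨b, hb⟩ := Submodule.mem_span_singleton.mp hm
    exact ⟨b, hb.symm⟩
  · rw [pow_add, ← mul_assoc, ha₀, map_mul, map_pow, mul_comm]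

/-- the zero ideals are compatible with restriction to basic opens -/
theorem map_zI_basicOpen {U : X.Opens} (hU : IsAffineOpen U)
    [Module.Finite Γ(X, U) Γ(L, U)] (f : Γ(X, U)) :
    (zI L s U).map (X.presheaf.map (homOfLE (X.basicOpen_le f)).op).hom =
      zI L s (X.basicOpen f) := by
  apply le_antisymm
  · rw [Ideal.map_le_iff_le_comap]
    intro a ha
    exact res_mem_zI L s hU f a ha
  · intro a' ha'
    obtain ⟨a, n, ha, hn⟩ := exists_mem_zI_of_mem_basicOpen L s hU f a' ha'
    have hu : IsUnit ((X.presheaf.map (homOfLE (X.basicOpen_le f)).op).hom f ^ n) :=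
      (X.toRingedSpace.isUnit_res_basicOpen f).pow n
    have h1 : a' * (X.presheaf.map (homOfLE (X.basicOpen_le f)).op).hom f ^ n ∈
        (zI L s U).map (X.presheaf.map (homOfLE (X.basicOpen_le f)).op).hom := by
      rw [hn]
      exact Ideal.mem_map_of_mem _ ha
    exact (Ideal.mul_unit_mem_iff_mem _ hu).mp h1

end QCoh

section IdealSheaf

variable [L.IsQuasicoherent]

/-- the zero ideals as an ideal sheaf -/
noncomputable def zeroIdealSheaf
    (hfin : ∀ U : X.affineOpens, Module.Finite Γ(X, U.1) Γ(L, U.1)) : X.IdealSheafData where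
  ideal U := zI L s U.1
  map_ideal_basicOpen U f := by
    haveI := hfin U
    exact map_zI_basicOpen L s U.2 f

theorem zeroScheme_eq (hfin : ∀ U : X.affineOpens, Module.Finite Γ(X, U.1) Γ(L, U.1)) :
    PicF2.zeroScheme L s = zeroIdealSheaf L s hfin :=
  Scheme.IdealSheafData.ofIdeals_ideal (zeroIdealSheaf L s hfin)

/-- **The ideal of the zero scheme on an affine open.** -/
theorem ideal_zeroScheme (hfin : ∀ U : X.affineOpens, Module.Finite Γ(X, U.1) Γ(L, U.1))
    (U : X.affineOpens) : (PicF2.zeroScheme L s).ideal U = zI L s U.1 := by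
  rw [zeroScheme_eq L s hfin]
  rfl

end IdealSheaf

/-- the zero ideal over an open where `L` is free on `e` and `s = c • e` is `(c)` -/
theorem zI_eq_span {U : X.Opens} {e : Γ(L, U)} (he : IsGen L U e) (c : Γ(X, U))
    (hc : sv L s U = c • e) : zI L s U = Ideal.span {c} := by
  have hbij := he U le_rfl
  have hrs : rs L (le_refl U) e = e := rs_self L e
  apply le_antisymm
  · intro a ha
    rw [mem_zI] at ha
    obtain ⟨b, hb⟩ := ha e
    rw [hc, smul_smul] at hb
    have h1 : a = b * c := by
      apply hbij.1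
      change a • rs L (le_refl U) e = (b * c) • rs L (le_refl U) e
      rw [hrs]
      exact hb
    rw [h1]
    exact Ideal.mul_mem_left _ _ (Ideal.subset_span rfl)
  · rw [Ideal.span_le, Set.singleton_subset_iff, SetLike.mem_coe, mem_zI]
    intro m
    obtain ⟨r, hr⟩ := hbij.2 m
    replace hr : r • rs L (le_refl U) e = m := hr
    rw [hrs] at hr
    refine ⟨r, ?_⟩
    rw [← hr, hc, smul_smul, smul_smul, mul_comm]

/-- **The ideal of the zero scheme of a section of an invertible module** over an affine open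
where the module is free on `e` and the section is `c • e`. -/
theorem ideal_zeroScheme_eq_span (hL : PicF.IsInvertible L) (U : X.affineOpens) {e : Γ(L, U.1)}
    (he : IsGen L U.1 e) (c : Γ(X, U.1)) (hc : sv L s U.1 = c • e) :
    (PicF2.zeroScheme L s).ideal U = Ideal.span {c} := by
  haveI : L.IsQuasicoherent := isQCoh_of_isInvertible hL
  have hfin : ∀ V : X.affineOpens, Module.Finite Γ(X, V.1) Γ(L, V.1) := fun V =>
    Groth.Agent.Lib.CohFinite.finite_sections_of_isCoh L (isCoh_of_isInvertible hL) V.2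
  rw [ideal_zeroScheme L s hfin U]
  exact zI_eq_span L s he c hc

end Groth.Agent.Lib.ZeroScheme82
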