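import Groth.Agent.Lib.QAffSec82
import Groth.Agent.Lib.ZeroScheme82
import Groth.Agent.Lib.H78CartierSec
import Groth.Agent.Lib.ModIsoGlueH3
import Groth.Agent.Lib.IdealSheafGeneric

set_option autoImplicit false
universe u
open CategoryTheory CategoryTheory.Limits AlgebraicGeometry TopologicalSpace Opposite

/-!
# helper82: zero schemes of regular sections of invertible modules as effective Cartier divisors, and
the isomorphism `N ⊗ I_{Z(t)} ≅ I_{Z(s)}` for `t ∈ Γ(N ⊗ Q)`, `s ∈ Γ(Q)` (namespace `Groth.Agent.Lib.EffDiff82`)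
-/

namespace Groth.Agent.Lib.EffDiff82

open Groth.Agent.Lib.H90Invertible Groth.Agent.Lib.StructureModule Groth.Agent.Lib.H78TensorGen
  Groth.Agent.Lib.H78SecCoord Groth.Agent.Lib.H78Atlas Groth.Agent.Lib.QAffSec82
  Groth.Agent.Lib.IdealMod

variable {X : Scheme.{u}}

/-- transition functions of an atlas are units -/
theorem Atlas.isUnit_trans {P : X.Modules} {ι : Type*} {V : ι → X.Opens} (A : Atlas P V) (i j : ι) :
    IsUnit (A.trans i j) := by
  have h1 : IsGen P (V i ⊓ V j) (rs P inf_le_right (A.E j)) := (A.gen j).mono inf_le_right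
  rw [← A.trans_spec i j] at h1
  exact (isGen_smul_iff ((A.gen i).mono inf_le_left) _).1 h1

/-- a function on an affine open of a locally Noetherian scheme which is invertible at all associated
points is a nonzerodivisor -/
theorem nzd_of_assPts_le_basicOpen [IsLocallyNoetherian X] {W : X.Opens} (hW : IsAffineOpen W)
    (g : Γ(X, W)) (h : ∀ y ∈ assPts X, y ∈ W → y ∈ X.basicOpen g) :
    g ∈ nonZeroDivisors Γ(X, W) := by
  have hN : IsNoetherianRing Γ(X, W) := IsLocallyNoetherian.component_noetherian ⟨W, hW⟩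
  rw [mem_nonZeroDivisors_iff_right]
  intro a hag
  by_contra ha
  obtain ⟨Q, hQass, hQ⟩ := exists_le_isAssociatedPrime_of_isNoetherianRing Γ(X, W) a ha
  have hgQ : g ∈ Q := by
    apply hQ
    rw [Submodule.mem_colon_singleton, Submodule.mem_bot, smul_eq_mul, mul_comm]
    exact hag
  have hQp : Q.IsPrime := hQass.isPrime
  let q : PrimeSpectrum Γ(X, W) := ⟨Q, hQp⟩
  have hyW : hW.fromSpec q ∈ W := Groth.Agent.Lib.CartExt82.fromSpec_mem' hW q
  have h2 := h _ (fromSpec_mem_assPts hW q hQass) hyW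
  rw [Groth.Agent.Lib.ParaFact82.mem_basicOpen_iff_notMem_primeIdealOf hW _ _ hyW,
    Groth.Agent.Lib.CartExt82.primeIdealOf_fromSpec' hW q] at h2
  exact h2 hgQ

section ZeroScheme

variable {L : X.Modules} (hL : PicF.IsInvertible L) (t : Γ(L, ⊤))

theorem sv_ofSection (U : X.Opens) :
    PicF2.secVal L (ofSection t) U = rs L le_top t := by
  have h1 := ofSection_app t U 1
  rw [one_smul] at h1
  exact h1

include hL in
/-- the ideal of the zero scheme in the chart of an atlas -/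
theorem ideal_zeroScheme_atlas {ι : Type*} {V : ι → X.Opens} (A : Atlas L V) (i : ι)
    (hVi : IsAffineOpen (V i)) :
    (PicF2.zeroScheme L (ofSection t)).ideal ⟨V i, hVi⟩ = Ideal.span {A.co t i} := by
  refine Groth.Agent.Lib.ZeroScheme82.ideal_zeroScheme_eq_span L (ofSection t) hL ⟨V i, hVi⟩
    (A.gen i) (A.co t i) ?_
  rw [A.co_spec]
  exact sv_ofSection t (V i)

include hL in
/-- the zero scheme of a section generating at all associated points is an effective Cartier divisor -/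
theorem isEffCartierIdeal_zeroScheme [IsLocallyNoetherian X]
    (h : assPts X ⊆ CohB1.genLocus L (ofSection t)) :
    BlowUp.IsEffCartierIdeal (PicF2.zeroScheme L (ofSection t)) := by
  obtain ⟨V, hxV, hVaff, ⟨A⟩⟩ := exists_atlas hL
  intro x
  refine ⟨⟨V x, hVaff x⟩, hxV x, A.co t x, ?_, ideal_zeroScheme_atlas hL t A x (hVaff x)⟩
  refine nzd_of_assPts_le_basicOpen (hVaff x) _ (fun y hy hyV => ?_)
  rw [← A.genLocus_inf]
  exact ⟨h hy, hyV⟩

include hL in
/-- the support of the zero scheme misses the generating locus -/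
theorem notMem_support_zeroScheme {x : X} (hx : x ∈ CohB1.genLocus L (ofSection t)) :
    x ∉ (PicF2.zeroScheme L (ofSection t)).support := by
  obtain ⟨V, hxV, hVaff, ⟨A⟩⟩ := exists_atlas hL
  rw [Groth.Agent.Lib.IdealSheafGeneric.mem_support_iff_le_primeIdealOf _ ⟨V x, hVaff x⟩
    (hVaff x) x (hxV x), ideal_zeroScheme_atlas hL t A x (hVaff x), Ideal.span_singleton_le_iff_mem]
  have h1 : x ∈ CohB1.genLocus L (ofSection t) ⊓ V x := ⟨hx, hxV x⟩
  rw [A.genLocus_inf,
    Groth.Agent.Lib.ParaFact82.mem_basicOpen_iff_notMem_primeIdealOf (hVaff x) _ _ (hxV x)] at h1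
  exact h1

end ZeroScheme

end Groth.Agent.Lib.EffDiff82

namespace Groth.Agent.Lib.EffDiff82

open Groth.Agent.Lib.H90Invertible Groth.Agent.Lib.StructureModule Groth.Agent.Lib.H78TensorGen
  Groth.Agent.Lib.H78SecCoord Groth.Agent.Lib.H78Atlas Groth.Agent.Lib.QAffSec82
  Groth.Agent.Lib.IdealMod

variable {X : Scheme.{u}}

section IdealAtlas

variable (I : X.IdealSheafData) {ι : Type*} {V : ι → X.Opens}

/-- if `δ i` are generators of `idealMod I` over `V i` with underlying functions `c i`, and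
`c i = c j * u` on `V i ⊓ V j` for a unit `u`, then the transition function of the atlas `δ` is the
inverse of `u` -/
theorem trans_mul_eq_one (𝔇 : Atlas (ClSub.idealMod I) V) (i j : ι) (u : Γ(X, V i ⊓ V j))
    (hu : IsUnit u)
    (hc : rf (inf_le_left : V i ⊓ V j ≤ V i) (idealFn I (V i) (𝔇.E i)) =
      rf (inf_le_right : V i ⊓ V j ≤ V j) (idealFn I (V j) (𝔇.E j)) * u) :
    𝔇.trans i j * u = 1 := by
  obtain ⟨u', hu'⟩ := hu.exists_left_inv
  have h1 : u' = 𝔇.trans i j := by
    apply 𝔇.trans_unique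
    apply idealFn_injective I (V i ⊓ V j)
    rw [idealFn_smul]
    have e1 : idealFn I (V i ⊓ V j) (rs (ClSub.idealMod I) inf_le_left (𝔇.E i)) =
        rf inf_le_left (idealFn I (V i) (𝔇.E i)) := idealFn_map I inf_le_left (𝔇.E i)
    have e2 : idealFn I (V i ⊓ V j) (rs (ClSub.idealMod I) inf_le_right (𝔇.E j)) =
        rf inf_le_right (idealFn I (V j) (𝔇.E j)) := idealFn_map I inf_le_right (𝔇.E j)
    rw [e1, e2, hc, mul_comm _ u, ← mul_assoc, hu', one_mul]
  rw [← h1, hu']

end IdealAtlas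

/-- **`N ⊗ I_{Z(t)} ≅ I_{Z(s)}`** for regular sections `t` of `R` and `s` of `Q`, where `R` has the
transition functions of `N ⊗ Q` with respect to atlases over a common affine cover. -/
theorem exists_iso_tensor_idealMod [IsLocallyNoetherian X] {N Q R : X.Modules}
    (hQ : PicF.IsInvertible Q) (hR : PicF.IsInvertible R)
    {ι : Type*} {V : ι → X.Opens} (hV : ⨆ i, V i = ⊤) (hVaff : ∀ i, IsAffineOpen (V i))
    (AN : Atlas N V) (AQ : Atlas Q V) (AR : Atlas R V)
    (hRtrans : ∀ i j, AR.trans i j = AN.trans i j * AQ.trans i j)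
    (t : Γ(R, ⊤)) (s : Γ(Q, ⊤))
    (ht : assPts X ⊆ CohB1.genLocus R (ofSection t))
    (hs : assPts X ⊆ CohB1.genLocus Q (ofSection s)) :
    Nonempty (CohB1.tensorMod N (ClSub.idealMod (PicF2.zeroScheme R (ofSection t))) ≅
      ClSub.idealMod (PicF2.zeroScheme Q (ofSection s))) := by
  set D := PicF2.zeroScheme R (ofSection t) with hD
  set D' := PicF2.zeroScheme Q (ofSection s) with hD'
  have hDi : ∀ i, D.ideal ⟨V i, hVaff i⟩ = Ideal.span {AR.co t i} := fun i =>
    ideal_zeroScheme_atlas hR t AR i (hVaff i)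
  have hD'i : ∀ i, D'.ideal ⟨V i, hVaff i⟩ = Ideal.span {AQ.co s i} := fun i =>
    ideal_zeroScheme_atlas hQ s AQ i (hVaff i)
  have hcnzd : ∀ i, AR.co t i ∈ nonZeroDivisors Γ(X, V i) := fun i =>
    nzd_of_assPts_le_basicOpen (hVaff i) _ (fun y hy hyV => by
      rw [← AR.genLocus_inf]; exact ⟨ht hy, hyV⟩)
  have hbnzd : ∀ i, AQ.co s i ∈ nonZeroDivisors Γ(X, V i) := fun i =>
    nzd_of_assPts_le_basicOpen (hVaff i) _ (fun y hy hyV => by
      rw [← AQ.genLocus_inf]; exact ⟨hs hy, hyV⟩)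
  -- generators of the ideal modules
  have h1 : ∀ i, ∃ δ : Γ(ClSub.idealMod D, V i), idealFn D (V i) δ = AR.co t i := fun i =>
    exists_idealFn_eq D ⟨V i, hVaff i⟩ (by rw [hDi i]; exact Ideal.mem_span_singleton_self _)
  have h2 : ∀ i, ∃ δ : Γ(ClSub.idealMod D', V i), idealFn D' (V i) δ = AQ.co s i := fun i =>
    exists_idealFn_eq D' ⟨V i, hVaff i⟩ (by rw [hD'i i]; exact Ideal.mem_span_singleton_self _)
  choose δ hδ using h1
  choose δ' hδ' using h2
  let 𝔇 : Atlas (ClSub.idealMod D) V := ⟨δ, fun i =>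
    isGen_idealMod_of_span_singleton D ⟨V i, hVaff i⟩ _ (hcnzd i) (hDi i) (δ i) (hδ i)⟩
  let 𝔇' : Atlas (ClSub.idealMod D') V := ⟨δ', fun i =>
    isGen_idealMod_of_span_singleton D' ⟨V i, hVaff i⟩ _ (hbnzd i) (hD'i i) (δ' i) (hδ' i)⟩
  have e1 : ∀ i j, 𝔇.trans i j * AR.trans i j = 1 := fun i j =>
    trans_mul_eq_one D 𝔇 i j _ (Atlas.isUnit_trans AR i j) (by
      change rf _ (idealFn D (V i) (δ i)) = rf _ (idealFn D (V j) (δ j)) * _
      rw [hδ i, hδ j]
      exact AR.co_compat t i j)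
  have e2 : ∀ i j, 𝔇'.trans i j * AQ.trans i j = 1 := fun i j =>
    trans_mul_eq_one D' 𝔇' i j _ (Atlas.isUnit_trans AQ i j) (by
      change rf _ (idealFn D' (V i) (δ' i)) = rf _ (idealFn D' (V j) (δ' j)) * _
      rw [hδ' i, hδ' j]
      exact AQ.co_compat s i j)
  let 𝔄 := AN.tmul 𝔇
  have e3 : ∀ i j, 𝔄.trans i j = 𝔇'.trans i j := by
    intro i j
    rw [Atlas.tmul_trans]
    have h3 : AN.trans i j * 𝔇.trans i j * AQ.trans i j = 1 := by
      have := e1 i j
      rw [hRtrans i j] at this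
      rw [← this]; ring
    obtain ⟨w, hw⟩ := (Atlas.isUnit_trans AQ i j).exists_right_inv
    calc AN.trans i j * 𝔇.trans i j
        = AN.trans i j * 𝔇.trans i j * (AQ.trans i j * w) := by rw [hw, mul_one]
      _ = (AN.trans i j * 𝔇.trans i j * AQ.trans i j) * w := by ring
      _ = (𝔇'.trans i j * AQ.trans i j) * w := by rw [h3, e2 i j]
      _ = 𝔇'.trans i j * (AQ.trans i j * w) := by ring
      _ = 𝔇'.trans i j := by rw [hw, mul_one]
  obtain ⟨φ, -⟩ := Groth.Agent.Lib.ModIsoGlueH3.exists_iso_of_atlas (L' := CohB1.tensorMod N (ClSub.idealMod D))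
    (L := ClSub.idealMod D') (t := 𝔄.E) 𝔄.gen (e := 𝔇'.E) 𝔇'.gen (g := 𝔄.trans)
    (fun i j => (𝔄.trans_spec i j).symm)
    (fun i j => by rw [e3 i j]; exact (𝔇'.trans_spec i j).symm) hV
  exact ⟨φ⟩

end Groth.Agent.Lib.EffDiff82
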