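import Mathlib

/-!
# Universally effective epimorphic sieves of schemes can be tested on affine schemes (helper52)

`sep`, `isSheafFor`: if every pullback of a sieve `S₀` on `X` to an affine scheme is effective
epimorphic, then every representable presheaf satisfies the sheaf condition for every pullback of `S₀`.
-/

set_option autoImplicit false
set_option linter.style.haveILetI false
universe u
open CategoryTheory CategoryTheory.Limits AlgebraicGeometry Opposite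

namespace Groth.Agent.Lib.EffEpiAffH52

variable {X : Scheme.{u}} (S₀ : Sieve X)
  (h : ∀ (Y : Scheme.{u}) (g : Y ⟶ X), IsAffine Y → (S₀.pullback g).EffectiveEpimorphic)

include h in
/-- separatedness over any scheme -/
theorem sep {Q W : Scheme.{u}} (k : Q ⟶ X) (s₁ s₂ : Q ⟶ W)
    (hs : ∀ {Z : Scheme.{u}} (a : Z ⟶ Q), S₀ (a ≫ k) → a ≫ s₁ = a ≫ s₂) : s₁ = s₂ := by
  apply Scheme.hom_ext_of_forall
  intro q
  obtain ⟨O', hO, hqO, -⟩ := TopologicalSpace.Opens.isBasis_iff_nbhd.mp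
    (Scheme.isBasis_affineOpens Q) (show q ∈ (⊤ : Q.Opens) from trivial)
  let O : Q.Opens := O'
  refine ⟨O, hqO, ?_⟩
  have hsh := (Sieve.EffectiveEpimorphic.iff_forall_isSheafFor_yoneda _).mp
    (h O (O.ι ≫ k) hO) W
  refine hsh.isSeparatedFor.ext ?_
  intro Z a ha
  change a ≫ O.ι ≫ s₁ = a ≫ O.ι ≫ s₂
  rw [← Category.assoc, ← Category.assoc]
  apply hs
  rw [Category.assoc]
  exact ha


include h in
theorem isSheafFor {Y W : Scheme.{u}} (g : Y ⟶ X) :
    Presieve.IsSheafFor (yoneda.obj W) (S₀.pullback g).arrows := by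
  intro x hx
  have hxs : x.SieveCompatible := (Presieve.compatible_iff_sieveCompatible x).mp hx
  have hxeq : ∀ {Z : Scheme.{u}} (f₁ f₂ : Z ⟶ Y) (h₁ : (S₀.pullback g) f₁) (h₂ : (S₀.pullback g) f₂),
      f₁ = f₂ → x f₁ h₁ = x f₂ h₂ := by
    intro Z f₁ f₂ h₁ h₂ e; subst e; rfl
  -- local solutions on affine opens
  have hloc : ∀ U : Y.affineOpens, ∃! t : (U.1 : Scheme.{u}) ⟶ W,
      ∀ {Z : Scheme.{u}} (a : Z ⟶ (U.1 : Scheme.{u})) (ha : (S₀.pullback g) (a ≫ U.1.ι)),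
        a ≫ t = x (a ≫ U.1.ι) ha := by
    intro U
    have hsh := (Sieve.EffectiveEpimorphic.iff_forall_isSheafFor_yoneda _).mp
      (h U.1 (U.1.ι ≫ g) U.2) W
    rw [Sieve.pullback_comp] at hsh
    obtain ⟨t, ht, ht'⟩ := hsh (x.pullback U.1.ι) (hx.pullback U.1.ι)
    refine ⟨t, fun a ha => ht a ha, fun t' ht'' => ht' t' (fun Z a ha => ht'' a ha)⟩
  choose t ht ht' using hloc
  let 𝒰 : Y.OpenCover := Y.openCoverOfIsOpenCover (fun U : Y.affineOpens => U.1)
    (iSup_affineOpens_eq_top Y)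
  have hcompat : ∀ U V : Y.affineOpens,
      pullback.fst U.1.ι V.1.ι ≫ t U = pullback.snd U.1.ι V.1.ι ≫ t V := by
    intro U V
    apply sep S₀ h (pullback.fst U.1.ι V.1.ι ≫ U.1.ι ≫ g)
    intro Z a ha
    have ha1 : (S₀.pullback g) ((a ≫ pullback.fst U.1.ι V.1.ι) ≫ U.1.ι) := by
      change S₀ (((a ≫ pullback.fst U.1.ι V.1.ι) ≫ U.1.ι) ≫ g)
      simpa using ha
    have ha2 : (S₀.pullback g) ((a ≫ pullback.snd U.1.ι V.1.ι) ≫ V.1.ι) := by
      change S₀ (((a ≫ pullback.snd U.1.ι V.1.ι) ≫ V.1.ι) ≫ g)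
      rw [Category.assoc a, ← pullback.condition]
      simpa using ha
    rw [← Category.assoc, ← Category.assoc, ht U _ ha1, ht V _ ha2]
    apply hxeq
    rw [Category.assoc, Category.assoc, pullback.condition]
  let T : Y ⟶ W := 𝒰.glueMorphisms (fun U => t U) hcompat
  have hT : ∀ U : Y.affineOpens, U.1.ι ≫ T = t U := fun U => 𝒰.ι_glueMorphisms _ hcompat U
  refine ⟨T, ?_, ?_⟩
  · intro Y' f hf
    change f ≫ T = x f hf
    apply Scheme.hom_ext_of_forall
    intro y'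
    obtain ⟨U', hU, hyU, -⟩ := TopologicalSpace.Opens.isBasis_iff_nbhd.mp
      (Scheme.isBasis_affineOpens Y) (show f y' ∈ (⊤ : Y.Opens) from trivial)
    let U : Y.affineOpens := ⟨U', hU⟩
    refine ⟨f ⁻¹ᵁ U.1, hyU, ?_⟩
    have e1 : (f ⁻¹ᵁ U.1).ι ≫ f = (f ∣_ U.1) ≫ U.1.ι := (morphismRestrict_ι f U.1).symm
    have ha : (S₀.pullback g) ((f ∣_ U.1) ≫ U.1.ι) := by
      rw [← e1]; exact (S₀.pullback g).downward_closed hf _
    rw [← Category.assoc, e1, Category.assoc, hT U, ht U _ ha]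
    have e2 := hxs f ((f ⁻¹ᵁ U.1).ι) hf
    rw [hxeq _ _ ha ((S₀.pullback g).downward_closed hf _) e1.symm, e2]
    rfl
  · intro T' hT'
    apply 𝒰.hom_ext
    intro U
    change U.1.ι ≫ T' = U.1.ι ≫ T
    rw [hT U]
    apply ht' U
    intro Z a ha
    rw [← Category.assoc]
    exact hT' (a ≫ U.1.ι) ha

end Groth.Agent.Lib.EffEpiAffH52
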