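import Mathlib.RingTheory.Polynomial.Eisenstein.Criterion
import Mathlib.RingTheory.DiscreteValuationRing.TFAE
import Mathlib.RingTheory.AdjoinRoot
import Mathlib.RingTheory.Polynomial.UniqueFactorization
import Mathlib.RingTheory.Ideal.GoingUp
import Mathlib.RingTheory.Valuation.ValuationSubring
import Mathlib.Tactic.LinearCombination

set_option autoImplicit false
universe u

namespace Groth.Agent.Lib.EisensteinDVR

open Polynomial IsLocalRing

variable {A : Type u} [CommRing A] [IsDomain A] [IsDiscreteValuationRing A] (π : A)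
  (hπ : Irreducible π) (n : ℕ) (hn : 2 ≤ n)

include hπ hn in
theorem irreducible_X_pow_sub_C : Irreducible (X ^ n - C π : A[X]) := by
  have hn0 : n ≠ 0 := by omega
  have hmonic : (X ^ n - C π : A[X]).Monic := monic_X_pow_sub_C π hn0
  have hdeg : (X ^ n - C π : A[X]).degree = n := degree_X_pow_sub_C (by omega) π
  have hmax : maximalIdeal A = Ideal.span {π} := (hπ.maximalIdeal_eq)
  apply irreducible_of_eisenstein_criterion (P := maximalIdeal A) (maximalIdeal.isMaximal A).isPrime
  · rw [hmonic.leadingCoeff]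
    exact (Ideal.ne_top_iff_one _).mp (maximalIdeal.isMaximal A).ne_top
  · intro k hk
    rw [hdeg] at hk
    have hk' : k < n := by exact_mod_cast hk
    rw [coeff_sub, coeff_X_pow, if_neg hk'.ne, zero_sub, coeff_C]
    split_ifs
    · rw [hmax]
      exact neg_mem (Ideal.mem_span_singleton_self π)
    · simp
  · rw [hdeg]
    exact_mod_cast (by omega : 0 < n)
  · rw [coeff_sub, coeff_X_pow, if_neg (by omega), zero_sub, coeff_C_zero, hmax,
      Ideal.span_singleton_pow, Ideal.mem_span_singleton, dvd_neg]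
    intro hdvd
    obtain ⟨c, hc⟩ := hdvd
    have h1 : π * (1 - π * c) = 0 := by rw [mul_sub, mul_one, ← mul_assoc, ← sq, ← hc, sub_self]
    rcases mul_eq_zero.mp h1 with h | h
    · exact hπ.ne_zero h
    · have : IsUnit π := IsUnit.of_mul_eq_one c (by linear_combination -h)
      exact hπ.not_isUnit this
  · exact hmonic.isPrimitive

/-- Abbreviation for `A[x]/(x^n - π)`. -/
abbrev Ext : Type u := AdjoinRoot (X ^ n - C π : A[X])

include hπ hn in
theorem isDomain_ext : IsDomain (Ext π n) :=
  AdjoinRoot.isDomain_of_prime (irreducible_X_pow_sub_C π hπ n hn).prime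

theorem root_pow : (AdjoinRoot.root (X ^ n - C π : A[X])) ^ n = AdjoinRoot.of _ π := by
  have h := AdjoinRoot.mk_self (f := (X ^ n - C π : A[X]))
  rw [map_sub, map_pow, AdjoinRoot.mk_X, AdjoinRoot.mk_C, sub_eq_zero] at h
  exact h

include hπ hn in
/-- Evaluation at `x = 0` to the residue field. -/
theorem exists_psi : ∃ ψ : Ext π n →+* ResidueField A,
    (∀ a, ψ (AdjoinRoot.of _ a) = residue A a) ∧ ψ (AdjoinRoot.root _) = 0 := by
  have hn0 : n ≠ 0 := by omega
  have h0 : (X ^ n - C π : A[X]).eval₂ (residue A) 0 = 0 := by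
    rw [eval₂_sub, eval₂_pow, eval₂_X, eval₂_C, zero_pow hn0, zero_sub, neg_eq_zero,
      residue_eq_zero_iff, hπ.maximalIdeal_eq]
    exact Ideal.mem_span_singleton_self π
  exact ⟨AdjoinRoot.lift (residue A) 0 h0, fun a => AdjoinRoot.lift_of h0, AdjoinRoot.lift_root h0⟩

include hπ hn in
theorem ker_psi (ψ : Ext π n →+* ResidueField A) (h1 : ∀ a, ψ (AdjoinRoot.of _ a) = residue A a)
    (h2 : ψ (AdjoinRoot.root _) = 0) :
    RingHom.ker ψ = Ideal.span {AdjoinRoot.root (X ^ n - C π : A[X])} := by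
  have hn0 : n ≠ 0 := by omega
  apply le_antisymm
  · intro y hy
    obtain ⟨p, rfl⟩ := AdjoinRoot.mk_surjective y
    rw [RingHom.mem_ker] at hy
    have hp : p = C (p.coeff 0) + X * p.divX := by
      rw [add_comm, mul_comm]; exact (Polynomial.divX_mul_X_add p).symm
    rw [hp, map_add, map_mul, AdjoinRoot.mk_C, AdjoinRoot.mk_X] at hy ⊢
    rw [map_add, map_mul, h1, h2, zero_mul, add_zero, residue_eq_zero_iff, hπ.maximalIdeal_eq,
      Ideal.mem_span_singleton] at hy
    obtain ⟨c, hc⟩ := hy
    apply Ideal.add_mem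
    · rw [hc, map_mul, ← root_pow, Ideal.mem_span_singleton]
      exact Dvd.dvd.mul_right (dvd_pow_self _ hn0) _
    · exact Ideal.mul_mem_right _ _ (Ideal.mem_span_singleton_self _)
  · rw [Ideal.span_le, Set.singleton_subset_iff]
    exact h2

include hπ hn in
theorem exists_isLocalRing : ∃ _ : IsLocalRing (Ext π n),
    maximalIdeal (Ext π n) = Ideal.span {AdjoinRoot.root (X ^ n - C π : A[X])} := by
  have hn0 : n ≠ 0 := by omega
  obtain ⟨ψ, h1, h2⟩ := exists_psi π hπ n hn
  have hker := ker_psi π hπ n hn ψ h1 h2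
  have hsurj : Function.Surjective ψ := by
    intro z
    obtain ⟨a, rfl⟩ := residue_surjective z
    exact ⟨AdjoinRoot.of _ a, h1 a⟩
  have hmax : (Ideal.span {AdjoinRoot.root (X ^ n - C π : A[X])}).IsMaximal := by
    rw [← hker]
    exact RingHom.ker_isMaximal_of_surjective ψ hsurj
  have hmonic : (X ^ n - C π : A[X]).Monic := monic_X_pow_sub_C π hn0
  have hfin : Module.Finite A (Ext π n) := hmonic.finite_adjoinRoot
  have hint : Algebra.IsIntegral A (Ext π n) := Algebra.IsIntegral.of_finite A _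
  have huniq : ∀ N : Ideal (Ext π n), N.IsMaximal →
      N = Ideal.span {AdjoinRoot.root (X ^ n - C π : A[X])} := by
    intro N hN
    have hmaxc : (Ideal.comap (algebraMap A (Ext π n)) N).IsMaximal :=
      Ideal.isMaximal_comap_of_isIntegral_of_isMaximal N
    have hπN : algebraMap A (Ext π n) π ∈ N := by
      have : π ∈ Ideal.comap (algebraMap A (Ext π n)) N := by
        rw [IsLocalRing.eq_maximalIdeal hmaxc, hπ.maximalIdeal_eq]
        exact Ideal.mem_span_singleton_self π
      exact this
    have hxN : AdjoinRoot.root (X ^ n - C π : A[X]) ∈ N := by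
      rw [AdjoinRoot.algebraMap_eq, ← root_pow] at hπN
      exact hN.isPrime.mem_of_pow_mem n hπN
    have hle : Ideal.span {AdjoinRoot.root (X ^ n - C π : A[X])} ≤ N := by
      rw [Ideal.span_le, Set.singleton_subset_iff]
      exact hxN
    exact (hmax.eq_of_le hN.ne_top hle).symm
  have hloc : IsLocalRing (Ext π n) := IsLocalRing.of_unique_max_ideal ⟨_, hmax, huniq⟩
  exact ⟨hloc, huniq _ (maximalIdeal.isMaximal _)⟩

include hπ hn in
theorem of_injective : Function.Injective (AdjoinRoot.of (X ^ n - C π : A[X])) := by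
  have hn0 : n ≠ 0 := by omega
  apply AdjoinRoot.of.injective_of_degree_ne_zero
  rw [degree_X_pow_sub_C (by omega) π]
  exact_mod_cast hn0

include hπ hn in
theorem root_ne_zero : AdjoinRoot.root (X ^ n - C π : A[X]) ≠ 0 := by
  have hn0 : n ≠ 0 := by omega
  intro h
  have h1 := root_pow π n
  rw [h, zero_pow hn0] at h1
  have h2 : AdjoinRoot.of (X ^ n - C π : A[X]) π = AdjoinRoot.of _ 0 := by rw [← h1, map_zero]
  exact hπ.ne_zero (of_injective π hπ n hn h2)

include hπ hn in
theorem exists_dvr : ∃ (_ : IsDomain (Ext π n)) (_ : IsDiscreteValuationRing (Ext π n)),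
    maximalIdeal (Ext π n) = Ideal.span {AdjoinRoot.root (X ^ n - C π : A[X])} := by
  have hn0 : n ≠ 0 := by omega
  have hdom : IsDomain (Ext π n) := isDomain_ext π hπ n hn
  obtain ⟨hloc, hmax⟩ := exists_isLocalRing π hπ n hn
  have hmonic : (X ^ n - C π : A[X]).Monic := monic_X_pow_sub_C π hn0
  have hfin : Module.Finite A (Ext π n) := hmonic.finite_adjoinRoot
  have hnoeth : IsNoetherianRing (Ext π n) := IsNoetherianRing.of_finite A _
  have hnf : ¬ IsField (Ext π n) := by
    intro hf
    have hx : AdjoinRoot.root (X ^ n - C π : A[X]) ∈ maximalIdeal (Ext π n) := by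
      rw [hmax]; exact Ideal.mem_span_singleton_self _
    obtain ⟨y, hy⟩ := hf.mul_inv_cancel (root_ne_zero π hπ n hn)
    exact hx (IsUnit.of_mul_eq_one y hy)
  have hprin : (maximalIdeal (Ext π n)).IsPrincipal := ⟨⟨_, hmax⟩⟩
  have hdvr : IsDiscreteValuationRing (Ext π n) :=
    ((IsDiscreteValuationRing.TFAE (Ext π n) hnf).out 0 4).mpr hprin
  exact ⟨hdom, hdvr, hmax⟩

theorem map_maximalIdeal_eq (hπ : Irreducible π) (M : Ideal (Ext π n))
    (hM : M = Ideal.span {AdjoinRoot.root (X ^ n - C π : A[X])}) :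
    (maximalIdeal A).map (algebraMap A (Ext π n)) = M ^ n := by
  rw [hM, hπ.maximalIdeal_eq, Ideal.map_span, Set.image_singleton, Ideal.span_singleton_pow,
    AdjoinRoot.algebraMap_eq, root_pow]

end Groth.Agent.Lib.EisensteinDVR
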