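import Groth.Agent.Lib.EisensteinDVR
import Groth.Agent.Lib.DVRValSubring
import Groth.Prelude.Def_EtRam

set_option autoImplicit false
universe u

namespace Groth.Agent.Lib.EisensteinDVR

open Polynomial IsLocalRing

variable {A : Type u} [CommRing A] [IsDomain A] [IsDiscreteValuationRing A] (π : A)
  (hπ : Irreducible π) (n : ℕ) (hn : 2 ≤ n)

include hπ hn in
theorem isTotallyRamified (hdom : IsDomain (Ext π n)) (hdvr : IsDiscreteValuationRing (Ext π n))
    (hmax : maximalIdeal (Ext π n) = Ideal.span {AdjoinRoot.root (X ^ n - C π : A[X])})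
    (K₁ : Type u) [Field K₁] [Algebra (Ext π n) K₁] [IsFractionRing (Ext π n) K₁] :
    EtRam.IsTotallyRamified A ((algebraMap (Ext π n) K₁).comp (algebraMap A (Ext π n))) := by
  have hn0 : n ≠ 0 := by omega
  set B := Ext π n with hB
  set x : B := AdjoinRoot.root (X ^ n - C π : A[X]) with hx
  set ι : B →+* K₁ := algebraMap B K₁ with hι
  set g : A →+* K₁ := ι.comp (algebraMap A B) with hg
  have hgπ : g π = ι x ^ n := by
    rw [hg, RingHom.comp_apply, AdjoinRoot.algebraMap_eq, ← root_pow, map_pow]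
  have hxirr : Irreducible x := (IsDiscreteValuationRing.irreducible_iff_uniformizer x).mpr hmax
  have hιinj : Function.Injective ι := IsFractionRing.injective B K₁
  have hπmem : π ∈ maximalIdeal A := by
    rw [hπ.maximalIdeal_eq]; exact Ideal.mem_span_singleton_self π
  -- facts about a dominating valuation subring
  have F1 : ∀ V : ValuationSubring K₁, EtRam.Dominates A g V → V.valuation (ι x) < 1 := by
    intro V hV
    have h1 : V.valuation (ι x) ^ n < 1 := by
      rw [← map_pow, ← hgπ]; exact hV.2 π hπmem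
    by_contra hcon
    push Not at hcon
    exact absurd h1 (not_lt.mpr (one_le_pow₀ hcon))
  have F2 : ∀ V : ValuationSubring K₁, EtRam.Dominates A g V → ∀ b : B, ι b ∈ V := by
    intro V hV b
    have hb : b ∈ Algebra.adjoin A {x} := by
      rw [hx, AdjoinRoot.adjoinRoot_eq_top]; trivial
    induction hb using Algebra.adjoin_induction with
    | mem y hy =>
      rw [Set.mem_singleton_iff] at hy
      rw [hy]
      exact (V.valuation_le_one_iff _).mp (F1 V hV).le
    | algebraMap a => exact hV.1 a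
    | add y z _ _ hy hz => rw [map_add]; exact V.add_mem _ _ hy hz
    | mul y z _ _ hy hz => rw [map_mul]; exact V.mul_mem _ _ hy hz
  have F3 : ∀ V : ValuationSubring K₁, EtRam.Dominates A g V →
      ∀ v, v ∈ V ↔ ∃ b : B, ι b = v := by
    intro V hV v
    constructor
    · exact Groth.Agent.Lib.DVRValSubring.exists_eq_of_mem V x hxirr (F2 V hV) (F1 V hV) v
    · rintro ⟨b, rfl⟩
      exact F2 V hV b
  -- decomposition b = of a + c * x
  obtain ⟨ψ, hψ1, hψ2⟩ := exists_psi π hπ n hn
  have hker := ker_psi π hπ n hn ψ hψ1 hψ2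
  have hdecomp : ∀ b : B, ∃ (a : A) (c : B), b = algebraMap A B a + c * x := by
    intro b
    obtain ⟨a, ha⟩ := residue_surjective (ψ b)
    have h1 : b - algebraMap A B a ∈ RingHom.ker ψ := by
      rw [RingHom.mem_ker, map_sub, AdjoinRoot.algebraMap_eq, hψ1, ha, sub_self]
    rw [hker, Ideal.mem_span_singleton'] at h1
    obtain ⟨c, hc⟩ := h1
    exact ⟨a, c, by rw [hc]; ring⟩
  refine ⟨?_, ?_, ?_⟩
  · -- existence
    refine ⟨Groth.Agent.Lib.DVRValSubring.O B K₁, fun a => ?_, fun a ha => ?_⟩
    · exact Groth.Agent.Lib.DVRValSubring.mem_O.mpr ⟨algebraMap A B a, rfl⟩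
    · have hmem : g a ∈ Groth.Agent.Lib.DVRValSubring.O B K₁ :=
        Groth.Agent.Lib.DVRValSubring.mem_O.mpr ⟨algebraMap A B a, rfl⟩
      have h1 := (Groth.Agent.Lib.DVRValSubring.O B K₁).valuation_lt_one_iff ⟨g a, hmem⟩
      apply h1.mp
      rw [mem_maximalIdeal, mem_nonunits_iff]
      intro hu
      obtain ⟨⟨w, hw⟩, hwu⟩ := hu.exists_right_inv
      obtain ⟨b', rfl⟩ := Groth.Agent.Lib.DVRValSubring.mem_O.mp hw
      have h2 : g a * ι b' = 1 := congr(Subtype.val $hwu)
      have h3 : algebraMap A B a * b' = 1 := by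
        apply hιinj
        rw [map_mul, map_one]
        exact h2
      have h4 : algebraMap A B a ∈ maximalIdeal B := by
        rw [hπ.maximalIdeal_eq, Ideal.mem_span_singleton] at ha
        obtain ⟨c, rfl⟩ := ha
        rw [map_mul, AdjoinRoot.algebraMap_eq, ← root_pow, hmax]
        exact Ideal.mul_mem_right _ _
          (Ideal.pow_mem_of_mem _ (Ideal.mem_span_singleton_self _) n (Nat.pos_of_ne_zero hn0))
      exact h4 (IsUnit.of_mul_eq_one b' h3)
  · -- uniqueness
    intro V V' hV hV'
    apply ValuationSubring.ext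
    intro v
    rw [F3 V hV, F3 V' hV']
  · -- residue field
    intro V hV z
    obtain ⟨⟨v, hv⟩, rfl⟩ := residue_surjective z
    obtain ⟨b, rfl⟩ := (F3 V hV v).mp hv
    obtain ⟨a, c, hb⟩ := hdecomp b
    refine ⟨a, ?_⟩
    change residue V (RingHom.codRestrict g V hV.1 a) = residue V ⟨ι b, hv⟩
    rw [eq_comm, ← sub_eq_zero, ← map_sub, residue_eq_zero_iff, ValuationSubring.valuation_lt_one_iff]
    have h1 : ((⟨ι b, hv⟩ - RingHom.codRestrict g V hV.1 a : V) : K₁) = ι c * ι x := by
      change ι b - g a = _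
      rw [hb, map_add, map_mul]
      change ι (algebraMap A B a) + ι c * ι x - ι (algebraMap A B a) = _
      ring
    rw [h1, map_mul]
    have h2 : V.valuation (ι c) ≤ 1 := (V.valuation_le_one_iff _).mpr (F2 V hV c)
    calc V.valuation (ι c) * V.valuation (ι x) ≤ 1 * V.valuation (ι x) := by gcongr
      _ < 1 := by rw [one_mul]; exact F1 V hV

end Groth.Agent.Lib.EisensteinDVR
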