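import Groth.Agent.Lib.H69Immersion
import Groth.Agent.Lib.H69DescentFpqc3
import Groth.Agent.Lib.AlgSpFppfCover
import Groth.Agent.Lib.AlgSpLocP
import Groth.Agent.Lib.AlgSpProper
import Groth.Agent.Lib.AlgSpFibre
import Groth.Prelude.Def_AlgSpSub
import Groth.Agent.Lib.AlgSpLargestOpen
import Groth.Agent.Lib.H69AlgSp

/-!
# Separatedness checked on an etale cover of the source (helper46)

* `repWith_isClosedImmersion_of_isImmersion_of_isClosedMor`: a representable immersion which is closed on points is a closed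
  immersion.
* `repWith_isImmersion_of_comp`: if `c ≫ q` is an immersion and `q` is separated then `c` is an immersion.
* `isSeparatedMor_of_etale_cover`: `g : X ⟶ Y` is separated as soon as for a jointly surjective family of etale
  `a i : A i ⟶ X` all the maps `A i ×_X A k ⟶ A i ×_Y A k` are closed immersions.
-/

set_option autoImplicit false
universe u

open CategoryTheory CategoryTheory.Limits AlgebraicGeometry Opposite

namespace Groth.Agent.Lib.ElemDistSep46

namespace PBMap
universe v' u'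

variable {C : Type u'} [Category.{v'} C] [HasPullbacks C] {X Y A B : C} (g : X ⟶ Y) (a : A ⟶ X) (b : B ⟶ X)

/-- first factor -/
noncomputable abbrev m1 : pullback (a ≫ g) (b ≫ g) ⟶ pullback g (b ≫ g) :=
  pullback.map (a ≫ g) (b ≫ g) g (b ≫ g) a (𝟙 B) (𝟙 Y) (Category.comp_id _) (by simp)

noncomputable abbrev m2 : pullback g (b ≫ g) ⟶ pullback g g :=
  pullback.map g (b ≫ g) g g (𝟙 X) b (𝟙 Y) (by simp) (Category.comp_id _)

theorem factor : pullback.map (a ≫ g) (b ≫ g) g g a b (𝟙 Y) (Category.comp_id _) (Category.comp_id _) =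
    m1 g a b ≫ m2 g b := by
  apply pullback.hom_ext
  · simp only [m1, m2, pullback.map, Category.assoc, pullback.lift_fst, pullback.lift_fst_assoc, Category.comp_id]
  · simp only [m1, m2, pullback.map, Category.assoc, pullback.lift_snd, pullback.lift_snd_assoc, Category.comp_id]

theorem m1_fst : m1 g a b ≫ pullback.fst g (b ≫ g) = pullback.fst (a ≫ g) (b ≫ g) ≫ a := by
  simp only [pullback.map, pullback.lift_fst]
theorem m1_snd : m1 g a b ≫ pullback.snd g (b ≫ g) = pullback.snd (a ≫ g) (b ≫ g) := by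
  simp only [pullback.map, pullback.lift_snd, Category.comp_id]
theorem m2_fst : m2 g b ≫ pullback.fst g g = pullback.fst g (b ≫ g) := by
  simp only [pullback.map, pullback.lift_fst, Category.comp_id]
theorem m2_snd : m2 g b ≫ pullback.snd g g = pullback.snd g (b ≫ g) ≫ b := by
  simp only [pullback.map, pullback.lift_snd]

theorem sq1 : IsPullback (pullback.fst (a ≫ g) (b ≫ g)) (m1 g a b) a (pullback.fst g (b ≫ g)) := by
  refine IsPullback.of_bot ?_ (m1_fst g a b).symm (IsPullback.of_hasPullback g (b ≫ g))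
  rw [m1_snd]
  exact IsPullback.of_hasPullback (a ≫ g) (b ≫ g)

theorem sq2 : IsPullback (pullback.snd g (b ≫ g)) (m2 g b) b (pullback.snd g g) := by
  refine IsPullback.of_bot ?_ (m2_snd g b).symm (IsPullback.of_hasPullback g g).flip
  rw [m2_fst]
  exact (IsPullback.of_hasPullback g (b ≫ g)).flip


/-- the comparison `A ×_X B ⟶ A ×_Y B` -/
noncomputable abbrev kappa : pullback a b ⟶ pullback (a ≫ g) (b ≫ g) :=
  pullback.map a b (a ≫ g) (b ≫ g) (𝟙 _) (𝟙 _) g (Category.id_comp _).symm (Category.id_comp _).symm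

theorem kappa_self [Mono a] : kappa g a a = pullback.fst a a ≫ pullback.diagonal (a ≫ g) := by
  apply pullback.hom_ext
  · simp only [kappa, pullback.map, pullback.lift_fst, Category.comp_id, Category.assoc, pullback.diagonal_fst]
  · simp only [kappa, pullback.map, pullback.lift_snd, Category.comp_id, Category.assoc, pullback.diagonal_snd]
    exact (fst_eq_snd_of_mono_eq (f := a)).symm

theorem kappa_eq_of_isPullback {PX PY : C} {pX : PX ⟶ A} {qX : PX ⟶ B} (hPX : IsPullback pX qX a b)
    {pY : PY ⟶ A} {qY : PY ⟶ B} (hPY : IsPullback pY qY (a ≫ g) (b ≫ g)) (c : PX ⟶ PY)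
    (h1 : c ≫ pY = pX) (h2 : c ≫ qY = qX) :
    kappa g a b = hPX.isoPullback.inv ≫ c ≫ hPY.isoPullback.hom := by
  rw [Iso.eq_inv_comp]
  apply pullback.hom_ext
  · simp only [kappa, pullback.map, pullback.lift_fst, Category.comp_id, Category.assoc,
      IsPullback.isoPullback_hom_fst, IsPullback.isoPullback_hom_fst_assoc, h1]
  · simp only [kappa, pullback.map, pullback.lift_snd, Category.comp_id, Category.assoc,
      IsPullback.isoPullback_hom_snd, IsPullback.isoPullback_hom_snd_assoc, h2]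

end PBMap

open AlgSp Groth.Agent.Lib.AlgSpPoints

variable {S : Scheme.{u}}

/-- A representable immersion which is closed on points is a closed immersion. -/
theorem repWith_isClosedImmersion_of_isImmersion_of_isClosedMor {A B : Sp S} (c : A ⟶ B)
    (hc : RepWith @IsImmersion c) (hcl : IsClosedMor c) : RepWith @IsClosedImmersion c := by
  refine ⟨hc.rep, ?_⟩
  intro T E t fst e sq
  change IsClosedImmersion e.left
  have : IsImmersion e.left := hc.property t fst e sq
  refine Groth.Agent.Lib.H69Immersion.isClosedImmersion_of_isImmersion_of_isClosed_range _ ?_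
  have hr : IsClosed (Set.range (Points.map c)) := by
    rw [← Set.image_univ]; exact hcl _ isClosed_univ
  have he : Set.range e.left = Points.ofPt t ⁻¹' Set.range (Points.map c) := by
    ext x
    constructor
    · rintro ⟨y, rfl⟩
      refine ⟨Points.ofPt fst y, ?_⟩
      rw [Points.map_ofPt, sq.w, ofPt_yon_map_comp]
    · rintro ⟨z, hz⟩
      obtain ⟨y, hy, -⟩ := exists_of_isPullback_yon sq z x hz
      exact ⟨y, hy⟩
  rw [he]
  exact hr.preimage (Points.continuous_ofPt t)

/-- If `c ≫ q` is a (representable) immersion and `q` is separated, then `c` is an immersion. -/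
theorem repWith_isImmersion_of_comp {A B V : Sp S} (c : A ⟶ B) (q : B ⟶ V) (hq : IsSeparatedMor q)
    (hcq : RepWith @IsImmersion (c ≫ q)) : RepWith @IsImmersion c := by
  have : (IsSeparatedMor (S := S)).IsStableUnderBaseChange :=
    ⟨fun sq h => Groth.Agent.Lib.AlgSpProper.isSeparatedMor_of_isPullback sq h⟩
  have : MorphismProperty.HasOfPostcompProperty (RepWith (S := S) @IsImmersion) (IsSeparatedMor (S := S)) := by
    rw [MorphismProperty.hasOfPostcompProperty_iff_le_diagonal]
    intro B' V' q' hq'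
    exact Groth.Agent.Lib.AlgSpBasic.repWith_mono
      (fun _ _ g (hg : IsClosedImmersion g) => (inferInstance : IsImmersion g)) hq'
  exact MorphismProperty.of_postcomp (W := RepWith (S := S) @IsImmersion) (W' := IsSeparatedMor (S := S)) c q hq hcq

section Cover

open Groth.Agent.Lib.AlgSpFibre Groth.Agent.Lib.AlgSpLocP

/-- The map `A ×_Y B ⟶ X ×_Y X` induced by etale `a : A ⟶ X`, `b : B ⟶ X` is etale. -/
theorem locP_etale_pullback_map {X Y A B : Sp S} (hX : IsAlgSpace X) (hY : IsAlgSpace Y) (hA : IsAlgSpace A)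
    (hB : IsAlgSpace B) (g : X ⟶ Y) (a : A ⟶ X) (b : B ⟶ X) (ha : LocP @Etale a) (hb : LocP @Etale b) :
    LocP @Etale (pullback.map (a ≫ g) (b ≫ g) g g a b (𝟙 Y) (Category.comp_id _) (Category.comp_id _)) := by
  have hZ : IsAlgSpace (pullback g g) := isAlgSpace_of_isPullback hY.diag hX hX (IsPullback.of_hasPullback g g)
  have hZ1 : IsAlgSpace (pullback g (b ≫ g)) :=
    isAlgSpace_of_isPullback hY.diag hX hB (IsPullback.of_hasPullback _ _)
  have hZ2 : IsAlgSpace (pullback (a ≫ g) (b ≫ g)) :=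
    isAlgSpace_of_isPullback hY.diag hA hB (IsPullback.of_hasPullback _ _)
  have h1 : LocP @Etale (PBMap.m1 g a b) :=
    locP_of_isPullback etLocalClass_etale hA hX hZ1 (PBMap.sq1 g a b) ha
  have h2 : LocP @Etale (PBMap.m2 g b) := locP_of_isPullback etLocalClass_etale hB hX hZ (PBMap.sq2 g b) hb
  rw [PBMap.factor g a b]
  exact locP_comp etLocalClass_etale hZ2 hZ1 hZ h1 h2

/-- Points of `A ×_Y B` surject onto the points of `X ×_Y X` lying under points of `A` and `B`. -/
theorem exists_point_pullback_map {X Y A B : Sp S} (g : X ⟶ Y) (a : A ⟶ X) (b : B ⟶ X)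
    (z : Points (pullback g g)) (α : Points A) (β : Points B)
    (hα : Points.map a α = Points.map (pullback.fst g g) z)
    (hβ : Points.map b β = Points.map (pullback.snd g g) z) :
    z ∈ Set.range (Points.map (pullback.map (a ≫ g) (b ≫ g) g g a b (𝟙 Y) (Category.comp_id _)
      (Category.comp_id _))) := by
  obtain ⟨z2, hz2β, hz2⟩ := exists_of_isPullback (PBMap.sq2 g b) β z hβ
  have hα' : Points.map a α = Points.map (pullback.fst g (b ≫ g)) z2 := by
    rw [← PBMap.m2_fst g b, Points.map_comp, hz2, hα]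
  obtain ⟨z1, -, hz1⟩ := exists_of_isPullback (PBMap.sq1 g a b) α z2 hα'
  exact ⟨z1, by rw [PBMap.factor g a b, Points.map_comp, hz1, hz2]⟩

/-- **Separatedness on an etale cover of the source.** -/
theorem isSeparatedMor_of_etale_cover {X Y : Sp S} (hX : IsAlgSpace X) (hY : IsAlgSpace Y) (g : X ⟶ Y)
    {ι : Type u} (A : ι → Sp S) (hA : ∀ i, IsAlgSpace (A i)) (a : ∀ i, A i ⟶ X)
    (hae : ∀ i, LocP @Etale (a i)) (hsurj : ∀ x : Points X, ∃ i, x ∈ Set.range (Points.map (a i)))
    (h : ∀ i k, RepWith @IsClosedImmersion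
      (pullback.map (a i) (a k) (a i ≫ g) (a k ≫ g) (𝟙 _) (𝟙 _) g (Category.id_comp _).symm
        (Category.id_comp _).symm)) :
    IsSeparatedMor g := by
  have hZ : IsAlgSpace (pullback g g) := isAlgSpace_of_isPullback hY.diag hX hX (IsPullback.of_hasPullback g g)
  let Zf : ι × ι → Sp S := fun p => pullback (a p.1 ≫ g) (a p.2 ≫ g)
  have hZf : ∀ p, IsAlgSpace (Zf p) := fun p =>
    isAlgSpace_of_isPullback hY.diag (hA p.1) (hA p.2) (IsPullback.of_hasPullback _ _)
  let m : ∀ p, Zf p ⟶ pullback g g := fun p =>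
    pullback.map (a p.1 ≫ g) (a p.2 ≫ g) g g (a p.1) (a p.2) (𝟙 Y) (Category.comp_id _) (Category.comp_id _)
  let Xf : ι × ι → Sp S := fun p => pullback (a p.1) (a p.2)
  have hXf : ∀ p, IsAlgSpace (Xf p) := fun p =>
    isAlgSpace_of_isPullback hX.diag (hA p.1) (hA p.2) (IsPullback.of_hasPullback _ _)
  let κ : ∀ p, Xf p ⟶ Zf p := fun p =>
    pullback.map (a p.1) (a p.2) (a p.1 ≫ g) (a p.2 ≫ g) (𝟙 _) (𝟙 _) g (Category.id_comp _).symm
      (Category.id_comp _).symm
  let q : ∀ p, Xf p ⟶ X := fun p => pullback.fst (a p.1) (a p.2) ≫ a p.1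
  have sq : ∀ p, IsPullback (q p) (κ p) (pullback.diagonal g) (m p) := fun p =>
    pullback_map_diagonal_isPullback (a p.1) (a p.2) g
  have hme : ∀ p, LocP @Etale (m p) := fun p =>
    locP_etale_pullback_map hX hY (hA p.1) (hA p.2) g (a p.1) (a p.2) (hae p.1) (hae p.2)
  have hcov : IsFpqcCover Zf m := by
    refine Groth.Agent.Lib.AlgSpFpqc.isFpqcCover_of_isFppfCover hZ hZf ⟨fun p => ⟨?_, ?_⟩, ?_⟩
    · intro U₁ V₁ a₁ b₁ k ha₁ hb₁ comm
      have : Etale k.left := hme p a₁ b₁ k ha₁ hb₁ comm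
      exact (inferInstance : Flat k.left)
    · intro U₁ V₁ a₁ b₁ k ha₁ hb₁ comm
      have : Etale k.left := hme p a₁ b₁ k ha₁ hb₁ comm
      exact (inferInstance : LocallyOfFinitePresentation k.left)
    · intro z
      obtain ⟨i, α, hα⟩ := hsurj (Points.map (pullback.fst g g) z)
      obtain ⟨k, β, hβ⟩ := hsurj (Points.map (pullback.snd g g) z)
      exact ⟨(i, k), exists_point_pullback_map g (a i) (a k) z α β hα hβ⟩
  exact (Groth.Agent.Lib.H69DescentFpqc.isLocalOnBase_fpqc_isClosedImmersion Zf m hZ hZf hcov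
    (pullback.diagonal g) hX Xf κ q hXf sq).2 (fun p => h p.1 p.2)

end Cover

section ElemDist

open Groth.Agent.Lib.AlgSpLocP

/-- The two pieces of an elementary distinguished square are jointly surjective on points. -/
theorem jointly_surjective_of_isElemDistSq {U V X : Sp S} {j : U ⟶ X} {f : V ⟶ X} (hsq : IsElemDistSq j f)
    (x : Points X) : x ∈ Set.range (Points.map j) ∨ x ∈ Set.range (Points.map f) := by
  obtain ⟨-, -, T, P, i, p₁, p₂, ⟨-, hrange, -⟩, sqT, hiso⟩ := hsq
  by_cases hx : x ∈ Set.range (Points.map j)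
  · exact Or.inl hx
  · right
    have hx' : x ∈ Set.range (Points.map i) := by rw [hrange]; exact hx
    obtain ⟨t, rfl⟩ := hx'
    refine ⟨Points.map p₂ (Points.map (inv p₁) t), ?_⟩
    rw [← Points.map_comp, ← Points.map_comp, ← sqT.w, IsIso.inv_hom_id_assoc]

/-- **Separatedness from an elementary distinguished square** (the Sp-level form of S10698). -/
theorem isSeparatedMor_of_isElemDistSq {U V X Y PX PY QX QY : Sp S} (hU : IsAlgSpace U) (hV : IsAlgSpace V)
    (hX : IsAlgSpace X) (hY : IsAlgSpace Y) (g : X ⟶ Y) (j : U ⟶ X) (f : V ⟶ X)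
    (hsq : IsElemDistSq j f) (hUs : IsSeparatedMor (j ≫ g))
    {pX : PX ⟶ U} {qX : PX ⟶ V} (hPX : IsPullback pX qX j f)
    {pY : PY ⟶ U} {qY : PY ⟶ V} (hPY : IsPullback pY qY (j ≫ g) (f ≫ g))
    (c : PX ⟶ PY) (hc₁ : c ≫ pY = pX) (hc₂ : c ≫ qY = qX) (hcl : IsClosedMor c)
    {rX₁ rX₂ : QX ⟶ V} (hQX : IsPullback rX₁ rX₂ f f)
    {rY₁ rY₂ : QY ⟶ V} (hQY : IsPullback rY₁ rY₂ (f ≫ g) (f ≫ g))
    (d : QX ⟶ QY) (hd₁ : d ≫ rY₁ = rX₁) (hd₂ : d ≫ rY₂ = rX₂)
    (hdcl : RepWith @IsClosedImmersion d) : IsSeparatedMor g := by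
  have hjo : RepWith @IsOpenImmersion j := hsq.1
  have hfe : IsEtaleMor f := hsq.2.1
  have hjmono : Mono j := Groth.Agent.Lib.H69AlgSp.mono_of_repWith_isOpenImmersion hjo
  -- `c` is a closed immersion
  have hqYsep : IsSeparatedMor qY := Groth.Agent.Lib.AlgSpProper.isSeparatedMor_of_isPullback hPY hUs
  have hqXo : RepWith @IsOpenImmersion qX := (RepWith (S := S) @IsOpenImmersion).of_isPullback hPX hjo
  have hcimm : RepWith @IsImmersion c := by
    refine repWith_isImmersion_of_comp c qY hqYsep ?_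
    rw [hc₂]
    exact Groth.Agent.Lib.AlgSpBasic.repWith_mono
      (fun _ _ l (hl : IsOpenImmersion l) => (inferInstance : IsImmersion l)) hqXo
  have hcc : RepWith @IsClosedImmersion c :=
    repWith_isClosedImmersion_of_isImmersion_of_isClosedMor c hcimm hcl
  -- the family
  let A : ULift.{u} Bool → Sp S := fun b => match b with
    | ⟨true⟩ => U
    | ⟨false⟩ => V
  let a : ∀ b, A b ⟶ X := fun b => match b with
    | ⟨true⟩ => j
    | ⟨false⟩ => f
  have hA : ∀ b, IsAlgSpace (A b) := by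
    rintro ⟨_ | _⟩
    · exact hV
    · exact hU
  have hje : LocP @Etale j :=
    (isEtaleMor_iff_locP hX j).1 (fun _ φ hφ => (RepWith (S := S) @Etale).comp_mem _ _ hφ
      (Groth.Agent.Lib.AlgSpLargestOpen.repWith_etale_of_isOpenImmersion hjo))
  have hae : ∀ b, LocP @Etale (a b) := by
    rintro ⟨_ | _⟩
    · exact (isEtaleMor_iff_locP hX f).1 hfe
    · exact hje
  have hsurj : ∀ x : Points X, ∃ b, x ∈ Set.range (Points.map (a b)) := by
    intro x
    rcases jointly_surjective_of_isElemDistSq hsq x with h | h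
    · exact ⟨⟨true⟩, h⟩
    · exact ⟨⟨false⟩, h⟩
  refine isSeparatedMor_of_etale_cover hX hY g A hA a hae hsurj ?_
  have hiso : ∀ {A₁ B₁ A₂ B₂ : Sp S} (e₁ : A₂ ≅ A₁) (e₂ : B₁ ≅ B₂) (k : A₁ ⟶ B₁),
      RepWith @IsClosedImmersion k → RepWith @IsClosedImmersion (e₁.hom ≫ k ≫ e₂.hom) := by
    intro A₁ B₁ A₂ B₂ e₁ e₂ k hk
    exact (MorphismProperty.cancel_left_of_respectsIso (RepWith (S := S) @IsClosedImmersion) _ _).2
      ((MorphismProperty.cancel_right_of_respectsIso (RepWith (S := S) @IsClosedImmersion) _ _).2 hk)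
  rintro ⟨_ | _⟩ ⟨_ | _⟩
  · -- (V, V)
    change RepWith @IsClosedImmersion (PBMap.kappa g f f)
    rw [PBMap.kappa_eq_of_isPullback g f f hQX hQY d hd₁ hd₂]
    exact hiso hQX.isoPullback.symm hQY.isoPullback d hdcl
  · -- (V, U)
    change RepWith @IsClosedImmersion (PBMap.kappa g f j)
    rw [PBMap.kappa_eq_of_isPullback g f j hPX.flip hPY.flip c hc₂ hc₁]
    exact hiso hPX.flip.isoPullback.symm hPY.flip.isoPullback c hcc
  · -- (U, V)
    change RepWith @IsClosedImmersion (PBMap.kappa g j f)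
    rw [PBMap.kappa_eq_of_isPullback g j f hPX hPY c hc₁ hc₂]
    exact hiso hPX.isoPullback.symm hPY.isoPullback c hcc
  · -- (U, U)
    change RepWith @IsClosedImmersion (PBMap.kappa g j j)
    rw [PBMap.kappa_self g j]
    exact (MorphismProperty.cancel_left_of_respectsIso (RepWith (S := S) @IsClosedImmersion) _ _).2 hUs

end ElemDist

end Groth.Agent.Lib.ElemDistSep46
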