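import Groth.Agent.Lib.SheafGlueFam46
import Groth.Agent.Lib.ElemDistSep46
import Groth.Agent.Lib.H86Coprod
import Groth.Agent.Lib.H86AlgSpSub
import Groth.Agent.Lib.AlgSpQC
import Groth.Agent.S10262

/-!
# An elementary distinguished square is a pushout of sheaves (helper46)

* `existsUnique_desc_yon`: gluing maps of fppf sheaves along a jointly locally surjective family, in terms of
  `h_X`-points.
* `existsUnique_desc_of_isElemDistSq`: for an elementary distinguished square `(U ⊂ W, f : V → W)` with `V`, `W` algebraic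
  spaces and `P = U ×_W V`, maps `a : U ⟶ T`, `b : V ⟶ T` to ANY fppf sheaf `T` agreeing on `P` glue uniquely to `W ⟶ T`.
-/

set_option autoImplicit false
universe u

open CategoryTheory CategoryTheory.Limits AlgebraicGeometry Opposite

namespace Groth.Agent.Lib.ElemDistPushout46

open AlgSp Groth.Agent.Lib.H69AlgSp Groth.Agent.Lib.AlgSpPoints

variable {S : Scheme.{u}}

/-- A jointly surjective family of flat morphisms locally of finite presentation generates a covering sieve for the
fppf topology over `S`. -/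
theorem generate_ofArrows_mem_J_of_fppf {T : Over S} {κ : Type*} (V : κ → Over S) (g : ∀ k, V k ⟶ T)
    (hflat : ∀ k, Flat (g k).left) (hlfp : ∀ k, LocallyOfFinitePresentation (g k).left)
    (hsurj : ∀ t : ↥T.left, ∃ k, t ∈ Set.range (g k).left) :
    Sieve.generate (Presieve.ofArrows V g) ∈ J S T := by
  rw [GrothendieckTopology.mem_over_iff]
  have hmem : Presieve.ofArrows (fun k => (V k).left) (fun k => (g k).left) ∈
      Scheme.fppfPrecoverage T.left := by
    unfold Scheme.fppfPrecoverage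
    rw [Scheme.ofArrows_mem_precoverage_iff]
    exact ⟨hsurj, fun k => ⟨hflat k, hlfp k⟩⟩
  refine GrothendieckTopology.superset_covering _ ?_
    (Precoverage.generate_mem_toGrothendieck hmem)
  rw [Sieve.generate_le_iff]
  rintro _ _ ⟨k⟩
  rw [Sieve.overEquiv_iff]
  refine ⟨V k, Over.homMk (𝟙 _) (by simp), g k, ⟨k⟩, ?_⟩
  apply Over.OverMorphism.ext
  simp

/-- **Gluing along a jointly locally surjective family**, in terms of `h_X`-points. -/
theorem existsUnique_desc_yon {ι : Type*} {W T : Sp S} {A : ι → Sp S} (e : ∀ i, A i ⟶ W) (a : ∀ i, A i ⟶ T)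
    (hsurj : ∀ (X : Over S) (s : (yon S).obj X ⟶ W), ∃ R : Sieve X, R ∈ J S X ∧
      ∀ ⦃Y : Over S⦄ (g : Y ⟶ X), R g → ∃ (i : ι) (x : (yon S).obj Y ⟶ A i), x ≫ e i = (yon S).map g ≫ s)
    (hcompat : ∀ (X : Over S) (i k : ι) (x : (yon S).obj X ⟶ A i) (y : (yon S).obj X ⟶ A k),
      x ≫ e i = y ≫ e k → x ≫ a i = y ≫ a k) :
    ∃! c : W ⟶ T, ∀ i, e i ≫ c = a i := by
  have hT : Presieve.IsSheaf (J S) T.obj := (isSheaf_iff_isSheaf_of_type _ _).1 T.property
  have hcompat' : ∀ (X : Over S) (i k : ι) (x : (A i).obj.obj (op X)) (y : (A k).obj.obj (op X)),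
      (e i).hom.app _ x = (e k).hom.app _ y → (a i).hom.app _ x = (a k).hom.app _ y := by
    intro X i k x y h
    obtain ⟨x', rfl⟩ := (yEquiv (U := X) (F := A i)).surjective x
    obtain ⟨y', rfl⟩ := (yEquiv (U := X) (F := A k)).surjective y
    rw [← yEquiv_comp, ← yEquiv_comp] at h ⊢
    rw [hcompat X i k x' y' (yEquiv.injective h)]
  have hsurj' : ∀ (X : Over S) (s : W.obj.obj (op X)),
      Groth.Agent.Lib.SheafGlueFam46.liftSieve (fun i => (e i).hom) s ∈ J S X := by
    intro X s
    obtain ⟨z, rfl⟩ := (yEquiv (U := X) (F := W)).surjective s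
    obtain ⟨R, hR, hlift⟩ := hsurj X z
    refine (J S).superset_covering ?_ hR
    intro Y g hg
    obtain ⟨i, x, hx⟩ := hlift g hg
    refine ⟨i, yEquiv x, ?_⟩
    change (e i).hom.app _ (yEquiv x) = W.obj.map g.op (yEquiv z)
    rw [← yEquiv_comp, hx, yEquiv_map_comp]
  obtain ⟨c₀, hc₀, hc₀u⟩ := Groth.Agent.Lib.SheafGlueFam46.existsUnique_desc (J S)
    (e := fun i => (e i).hom) (a := fun i => (a i).hom) hcompat' hT hsurj'
  refine ⟨ObjectProperty.homMk c₀, fun i => ?_, fun c hc => ?_⟩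
  · apply Sheaf.hom_ext
    exact hc₀ i
  · apply Sheaf.hom_ext
    refine hc₀u c.hom fun i => ?_
    have := congrArg (fun m => m.hom) (hc i)
    exact this

/-- Two maps from `h_X` to a sheaf agree if they agree on a jointly surjective family of opens of `X`. -/
theorem hom_ext_of_open_cover {X : Over S} {κ : Type*} (V : κ → Over S) (g : ∀ k, V k ⟶ X)
    (hopen : ∀ k, IsOpenImmersion (g k).left)
    (hsurj : ∀ t : ↥X.left, ∃ k, t ∈ Set.range (g k).left) {F : Sp S} (m m' : (yon S).obj X ⟶ F)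
    (h : ∀ k, (yon S).map (g k) ≫ m = (yon S).map (g k) ≫ m') : m = m' := by
  obtain ⟨c, -, hcu⟩ := Groth.Agent.Lib.H86Coprod.existsUnique_glue V g hopen hsurj F
    (fun k => (yon S).map (g k) ≫ m) (by
      intro i k Z a b hab
      rw [← Category.assoc, ← Category.assoc, ← Functor.map_comp, ← Functor.map_comp, hab])
  rw [hcu m (fun _ => rfl), hcu m' (fun k => (h k).symm)]


section Main

open Groth.Agent.Lib.AlgSpLocP Groth.Agent.Lib.H86AlgSpSub

variable {U V W P T : Sp S} {j : U ⟶ W} {f : V ⟶ W} {p : P ⟶ U} {q : P ⟶ V}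

/-- The two pieces of an elementary distinguished square are jointly locally surjective: every `h_X`-point of `W` lifts,
fppf locally on `X`, to `U` or to `V`. -/
theorem exists_cover_lift_of_isElemDistSq (hV : IsAlgSpace V) (hsq : IsElemDistSq j f) (X : Over S)
    (s : (yon S).obj X ⟶ W) :
    ∃ R : Sieve X, R ∈ J S X ∧ ∀ ⦃Y : Over S⦄ (g : Y ⟶ X), R g →
      (∃ x : (yon S).obj Y ⟶ U, x ≫ j = (yon S).map g ≫ s) ∨
        (∃ x : (yon S).obj Y ⟶ V, x ≫ f = (yon S).map g ≫ s) := by
  obtain ⟨V₀, φ, hφe, hφs⟩ := hV.atlas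
  have hj : RepWith @IsOpenImmersion j := hsq.1
  have hk : RepWith @Etale (φ ≫ f) := hsq.2.1 φ hφe
  let Vf : Bool → Over S := fun b => match b with
    | true => hj.rep.pullback s
    | false => hk.rep.pullback s
  let g : ∀ b, Vf b ⟶ X := fun b => match b with
    | true => hj.rep.snd s
    | false => hk.rep.snd s
  have hjo : IsOpenImmersion (hj.rep.snd s).left := hj.property_snd s
  have hke : Etale (hk.rep.snd s).left := hk.property_snd s
  refine ⟨Sieve.generate (Presieve.ofArrows Vf g), generate_ofArrows_mem_J_of_fppf Vf g ?_ ?_ ?_, ?_⟩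
  · rintro (_ | _)
    · exact (inferInstance : Flat (hk.rep.snd s).left)
    · exact (inferInstance : Flat (hj.rep.snd s).left)
  · rintro (_ | _)
    · exact (inferInstance : LocallyOfFinitePresentation (hk.rep.snd s).left)
    · exact (inferInstance : LocallyOfFinitePresentation (hj.rep.snd s).left)
  · intro t
    rcases Groth.Agent.Lib.ElemDistSep46.jointly_surjective_of_isElemDistSq hsq (Points.ofPt s t) with ht | ht
    · refine ⟨true, ?_⟩
      change t ∈ Set.range (hj.rep.snd s).left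
      rw [range_left_eq_preimage (hj.rep.isPullback s)]
      exact ht
    · refine ⟨false, ?_⟩
      change t ∈ Set.range (hk.rep.snd s).left
      rw [range_left_eq_preimage (hk.rep.isPullback s)]
      obtain ⟨v, hv⟩ := ht
      obtain ⟨v₀, rfl⟩ := Groth.Agent.Lib.AlgSpQC.surjective_map_of_repWith_surjective hφs v
      exact ⟨v₀, by rw [Points.map_comp]; exact hv⟩
  · rintro Y m ⟨Z, h, g', ⟨b⟩, rfl⟩
    cases b with
    | true =>
      left
      refine ⟨(yon S).map h ≫ hj.rep.fst s, ?_⟩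
      rw [Category.assoc, (hj.rep.isPullback s).w, ← Category.assoc, ← Functor.map_comp]
    | false =>
      right
      refine ⟨(yon S).map h ≫ hk.rep.fst s ≫ φ, ?_⟩
      rw [Category.assoc, Category.assoc, (hk.rep.isPullback s).w, ← Category.assoc, ← Functor.map_comp]

/-- The key point: maps to `V` with the same image in `W` have the same image under `b`. -/
theorem comp_eq_of_isElemDistSq (hW : IsAlgSpace W) (hV : IsAlgSpace V) (hsq : IsElemDistSq j f)
    (hP : IsPullback p q j f) (a : U ⟶ T) (b : V ⟶ T) (hab : p ≫ a = q ≫ b) {X : Over S}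
    (x y : (yon S).obj X ⟶ V) (h : x ≫ f = y ≫ f) : x ≫ b = y ≫ b := by
  obtain ⟨hj, hfe, T', P', i, p₁, p₂, ⟨hi, hrange, -⟩, sqT, hiso⟩ := hsq
  have hΔ : RepWith @IsOpenImmersion (pullback.diagonal f) := by
    have h1 : LocP @Etale f := (isEtaleMor_iff_locP hW f).1 hfe
    have h2 : LocP (@LocallyOfFiniteType ⊓ @FormallyUnramified) f := by
      intro U₁ V₁ a₁ b₁ k ha₁ hb₁ comm
      have : Etale k.left := h1 a₁ b₁ k ha₁ hb₁ comm
      exact ⟨inferInstance, inferInstance⟩
    exact (Groth.Agent.S10262.result (X := ⟨V, hV⟩) (Y := ⟨W, hW⟩) (ObjectProperty.homMk f)).1 h2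
  let ζ : (yon S).obj X ⟶ pullback f f := pullback.lift x y h
  have ζ1 : ζ ≫ pullback.fst f f = x := pullback.lift_fst _ _ _
  have ζ2 : ζ ≫ pullback.snd f f = y := pullback.lift_snd _ _ _
  let Vf : Bool → Over S := fun b => match b with
    | true => hj.rep.pullback (x ≫ f)
    | false => hΔ.rep.pullback ζ
  let g : ∀ b, Vf b ⟶ X := fun b => match b with
    | true => hj.rep.snd (x ≫ f)
    | false => hΔ.rep.snd ζ
  have hjo : IsOpenImmersion (hj.rep.snd (x ≫ f)).left := hj.property_snd (x ≫ f)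
  have hΔo : IsOpenImmersion (hΔ.rep.snd ζ).left := hΔ.property_snd ζ
  refine hom_ext_of_open_cover Vf g ?_ ?_ _ _ ?_
  · rintro (_ | _)
    · exact hΔo
    · exact hjo
  · intro t
    by_cases ht : Points.ofPt (x ≫ f) t ∈ Set.range (Points.map j)
    · refine ⟨true, ?_⟩
      change t ∈ Set.range (hj.rep.snd (x ≫ f)).left
      rw [range_left_eq_preimage (hj.rep.isPullback (x ≫ f))]
      exact ht
    · refine ⟨false, ?_⟩
      change t ∈ Set.range (hΔ.rep.snd ζ).left
      have ht' : Points.ofPt (x ≫ f) t ∈ Set.range (Points.map i) := by rw [hrange]; exact ht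
      have ht'' : t ∈ Set.range (hi.rep.snd (x ≫ f)).left := by
        rw [range_left_eq_preimage (hi.rep.isPullback (x ≫ f))]
        exact ht'
      obtain ⟨t', rfl⟩ := ht''
      have hτ : hi.rep.fst (x ≫ f) ≫ i = (yon S).map (hi.rep.snd (x ≫ f)) ≫ x ≫ f :=
        (hi.rep.isPullback (x ≫ f)).w
      have hτx : hi.rep.fst (x ≫ f) ≫ i = ((yon S).map (hi.rep.snd (x ≫ f)) ≫ x) ≫ f := by
        rw [hτ, Category.assoc]
      have hτy : hi.rep.fst (x ≫ f) ≫ i = ((yon S).map (hi.rep.snd (x ≫ f)) ≫ y) ≫ f := by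
        rw [hτ, Category.assoc, h]
      have hρ : sqT.lift _ _ hτx = sqT.lift _ _ hτy := by
        rw [← cancel_mono p₁, sqT.lift_fst, sqT.lift_fst]
      have hxy : (yon S).map (hi.rep.snd (x ≫ f)) ≫ x = (yon S).map (hi.rep.snd (x ≫ f)) ≫ y := by
        rw [← sqT.lift_snd _ _ hτx, hρ, sqT.lift_snd]
      have hcomm : ((yon S).map (hi.rep.snd (x ≫ f)) ≫ x) ≫ pullback.diagonal f =
          (yon S).map (hi.rep.snd (x ≫ f)) ≫ ζ := by
        apply pullback.hom_ext
        · rw [Category.assoc, pullback.diagonal_fst, Category.comp_id, Category.assoc, ζ1]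
        · rw [Category.assoc, pullback.diagonal_snd, Category.comp_id, Category.assoc, ζ2, hxy]
      have hl : (hΔ.rep.isPullback ζ).lift _ _ hcomm ≫ (yon S).map (hΔ.rep.snd ζ) =
          (yon S).map (hi.rep.snd (x ≫ f)) := IsPullback.lift_snd _ _ _ _
      obtain ⟨l₀, hl₀⟩ := (yon S).map_surjective ((hΔ.rep.isPullback ζ).lift _ _ hcomm)
      rw [← hl₀, ← Functor.map_comp] at hl
      have hl' : l₀ ≫ hΔ.rep.snd ζ = hi.rep.snd (x ≫ f) := (yon S).map_injective hl
      refine ⟨l₀.left t', ?_⟩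
      rw [← hl']
      rfl
  · rintro (_ | _)
    · change (yon S).map (hΔ.rep.snd ζ) ≫ x ≫ b = (yon S).map (hΔ.rep.snd ζ) ≫ y ≫ b
      have hw : hΔ.rep.fst ζ ≫ pullback.diagonal f = (yon S).map (hΔ.rep.snd ζ) ≫ ζ :=
        (hΔ.rep.isPullback ζ).w
      have e1 : (yon S).map (hΔ.rep.snd ζ) ≫ x = hΔ.rep.fst ζ := by
        rw [← ζ1, ← Category.assoc, ← hw, Category.assoc, pullback.diagonal_fst, Category.comp_id]
      have e2 : (yon S).map (hΔ.rep.snd ζ) ≫ y = hΔ.rep.fst ζ := by
        rw [← ζ2, ← Category.assoc, ← hw, Category.assoc, pullback.diagonal_snd, Category.comp_id]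
      rw [← Category.assoc, ← Category.assoc, e1, e2]
    · change (yon S).map (hj.rep.snd (x ≫ f)) ≫ x ≫ b = (yon S).map (hj.rep.snd (x ≫ f)) ≫ y ≫ b
      have hw : hj.rep.fst (x ≫ f) ≫ j = (yon S).map (hj.rep.snd (x ≫ f)) ≫ x ≫ f :=
        (hj.rep.isPullback (x ≫ f)).w
      have hwx : hj.rep.fst (x ≫ f) ≫ j = ((yon S).map (hj.rep.snd (x ≫ f)) ≫ x) ≫ f := by
        rw [hw, Category.assoc]
      have hwy : hj.rep.fst (x ≫ f) ≫ j = ((yon S).map (hj.rep.snd (x ≫ f)) ≫ y) ≫ f := by
        rw [hw, Category.assoc, h]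
      calc (yon S).map (hj.rep.snd (x ≫ f)) ≫ x ≫ b
          = (hP.lift _ _ hwx ≫ q) ≫ b := by rw [hP.lift_snd, Category.assoc]
        _ = hP.lift _ _ hwx ≫ p ≫ a := by rw [Category.assoc, hab]
        _ = hj.rep.fst (x ≫ f) ≫ a := by rw [← Category.assoc, hP.lift_fst]
        _ = hP.lift _ _ hwy ≫ p ≫ a := by rw [← Category.assoc, hP.lift_fst]
        _ = (hP.lift _ _ hwy ≫ q) ≫ b := by rw [Category.assoc, hab]
        _ = (yon S).map (hj.rep.snd (x ≫ f)) ≫ y ≫ b := by rw [hP.lift_snd, Category.assoc]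

/-- **An elementary distinguished square is a pushout of fppf sheaves.** -/
theorem existsUnique_desc_of_isElemDistSq (hW : IsAlgSpace W) (hV : IsAlgSpace V) (hsq : IsElemDistSq j f)
    (hP : IsPullback p q j f) (a : U ⟶ T) (b : V ⟶ T) (hab : p ≫ a = q ≫ b) :
    ∃! c : W ⟶ T, j ≫ c = a ∧ f ≫ c = b := by
  let A : Bool → Sp S := fun b => match b with
    | true => U
    | false => V
  let e : ∀ b, A b ⟶ W := fun b => match b with
    | true => j
    | false => f
  let α : ∀ b', A b' ⟶ T := fun b' => match b' with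
    | true => a
    | false => b
  have hjmono : Mono j := mono_of_repWith_isOpenImmersion hsq.1
  have hUV : ∀ (X : Over S) (x : (yon S).obj X ⟶ U) (y : (yon S).obj X ⟶ V), x ≫ j = y ≫ f →
      x ≫ a = y ≫ b := by
    intro X x y h
    rw [← hP.lift_fst x y h, Category.assoc, hab, ← Category.assoc, hP.lift_snd]
  have key : ∃! c : W ⟶ T, ∀ b', e b' ≫ c = α b' := by
    refine existsUnique_desc_yon e α ?_ ?_
    · intro X s
      obtain ⟨R, hR, hlift⟩ := exists_cover_lift_of_isElemDistSq hV hsq X s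
      refine ⟨R, hR, fun Y g hg => ?_⟩
      rcases hlift g hg with ⟨x, hx⟩ | ⟨x, hx⟩
      · exact ⟨true, x, hx⟩
      · exact ⟨false, x, hx⟩
    · rintro X (_ | _) (_ | _) x y h
      · exact comp_eq_of_isElemDistSq hW hV hsq hP a b hab x y h
      · exact (hUV X y x h.symm).symm
      · exact hUV X x y h
      · change x ≫ a = y ≫ a
        have hxy : x = y := by
          rw [← cancel_mono j]
          exact h
        rw [hxy]
  obtain ⟨c, hc, hcu⟩ := key
  exact ⟨c, ⟨hc true, hc false⟩, fun c' hc' => hcu c' (by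
    rintro (_ | _)
    · exact hc'.2
    · exact hc'.1)⟩

end Main

end Groth.Agent.Lib.ElemDistPushout46
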