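import Groth.Prelude

/-!
# Elementary fibrations are stable under base change (helper36)

ns `Groth.Agent.Lib.ElemFibBC`

* `projSpaceOverMap`, `isPullback_projSpaceOverMap` : `P^n_{S'} = P^n_S ×_S S'`.
* `isStronglyProjective_pullback_snd`
* `isElementaryFibration_pullback_snd`
-/

set_option autoImplicit false

universe u

open CategoryTheory CategoryTheory.Limits AlgebraicGeometry

namespace Groth.Agent.Lib.ElemFibBC

open CohB1

/-- The map `P^n_{S'} ⟶ P^n_S` over `u : S' ⟶ S`. -/
noncomputable def projSpaceOverMap (n : ℕ) {S S' : Scheme.{u}} (u : S' ⟶ S) :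
    ProjSpaceOver n S' ⟶ ProjSpaceOver n S :=
  pullback.lift
    (pullback.fst (ProjSpace.toSpec n (ULift.{u} ℤ)) (specULiftZIsTerminal.from S'))
    (pullback.snd (ProjSpace.toSpec n (ULift.{u} ℤ)) (specULiftZIsTerminal.from S') ≫ u)
    ((pullback.condition (f := ProjSpace.toSpec n (ULift.{u} ℤ))
      (g := specULiftZIsTerminal.from S')).trans (by
        rw [Category.assoc]
        exact congrArg _ (specULiftZIsTerminal.hom_ext _ _)))

theorem isPullback_projSpaceOverMap (n : ℕ) {S S' : Scheme.{u}} (u : S' ⟶ S) :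
    IsPullback (projSpaceOverMap n u) (ProjSpaceOver.toBase n S') (ProjSpaceOver.toBase n S) u := by
  have hu : u ≫ specULiftZIsTerminal.from S = specULiftZIsTerminal.from S' :=
    specULiftZIsTerminal.hom_ext _ _
  have big : IsPullback (pullback.fst (ProjSpace.toSpec n (ULift.{u} ℤ))
      (specULiftZIsTerminal.from S')) (pullback.snd _ _)
      (ProjSpace.toSpec n (ULift.{u} ℤ)) (specULiftZIsTerminal.from S') :=
    IsPullback.of_hasPullback _ _
  have right : IsPullback (pullback.fst (ProjSpace.toSpec n (ULift.{u} ℤ))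
      (specULiftZIsTerminal.from S)) (pullback.snd _ _)
      (ProjSpace.toSpec n (ULift.{u} ℤ)) (specULiftZIsTerminal.from S) :=
    IsPullback.of_hasPullback _ _
  have h1 : projSpaceOverMap n u ≫ pullback.fst (ProjSpace.toSpec n (ULift.{u} ℤ))
      (specULiftZIsTerminal.from S) = pullback.fst (ProjSpace.toSpec n (ULift.{u} ℤ))
      (specULiftZIsTerminal.from S') := pullback.lift_fst _ _ _
  have h2 : projSpaceOverMap n u ≫ pullback.snd (ProjSpace.toSpec n (ULift.{u} ℤ))
      (specULiftZIsTerminal.from S) = pullback.snd (ProjSpace.toSpec n (ULift.{u} ℤ))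
      (specULiftZIsTerminal.from S') ≫ u := pullback.lift_snd _ _ _
  have big' : IsPullback (projSpaceOverMap n u ≫ pullback.fst (ProjSpace.toSpec n (ULift.{u} ℤ))
      (specULiftZIsTerminal.from S)) (pullback.snd (ProjSpace.toSpec n (ULift.{u} ℤ))
      (specULiftZIsTerminal.from S')) (ProjSpace.toSpec n (ULift.{u} ℤ))
      (u ≫ specULiftZIsTerminal.from S) := by
    rw [h1, hu]
    exact big
  exact IsPullback.of_right big' h2 right

theorem isStronglyProjective_pullback_snd {Xb S S' : Scheme.{u}} (fb : Xb ⟶ S) (u : S' ⟶ S)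
    (h : An.IsStronglyProjective fb) : An.IsStronglyProjective (pullback.snd fb u) := by
  obtain ⟨n, c, hc, hcf⟩ := h
  have sqP := isPullback_projSpaceOverMap n u
  let c' : pullback fb u ⟶ ProjSpaceOver n S' :=
    sqP.lift (pullback.fst fb u ≫ c) (pullback.snd fb u)
      (by rw [Category.assoc, hcf, pullback.condition])
  have h1 : c' ≫ projSpaceOverMap n u = pullback.fst fb u ≫ c := sqP.lift_fst _ _ _
  have h2 : c' ≫ ProjSpaceOver.toBase n S' = pullback.snd fb u := sqP.lift_snd _ _ _
  refine ⟨n, c', ?_, h2⟩
  have top : IsPullback (pullback.fst fb u) c' c (projSpaceOverMap n u) := by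
    refine IsPullback.of_bot ?_ h1.symm sqP
    rw [h2, hcf]
    exact IsPullback.of_hasPullback fb u
  exact MorphismProperty.of_isPullback (P := @IsClosedImmersion) top hc

theorem irreducibleSpace_of_surjective {A B : Type*} [TopologicalSpace A] [TopologicalSpace B]
    [IrreducibleSpace A] (g : A → B) (hg : Continuous g) (hs : Function.Surjective g) :
    IrreducibleSpace B := by
  have h1 : IsIrreducible (Set.univ : Set A) := (irreducibleSpace_def A).1 ‹_›
  have h2 := h1.image g hg.continuousOn
  rw [Set.image_univ, hs.range_eq] at h2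
  exact (irreducibleSpace_def B).2 h2

/-- Geometric fibres of a base change are geometric fibres. -/
theorem geomFibre_pullback_snd {Xb S S' : Scheme.{u}} (fb : Xb ⟶ S) (u : S' ⟶ S)
    (hgeom : ∀ (Ω : Type u) [Field Ω] [IsAlgClosed Ω] (σ : Spec (CommRingCat.of Ω) ⟶ S),
      IrreducibleSpace ↥(pullback fb σ) ∧ topologicalKrullDim ↥(pullback fb σ) = 1)
    (Ω : Type u) [Field Ω] [IsAlgClosed Ω] (σ : Spec (CommRingCat.of Ω) ⟶ S') :
    IrreducibleSpace ↥(pullback (pullback.snd fb u) σ) ∧
      topologicalKrullDim ↥(pullback (pullback.snd fb u) σ) = 1 := by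
  obtain ⟨h1, h2⟩ := hgeom Ω (σ ≫ u)
  let e : pullback (pullback.snd fb u) σ ≅ pullback fb (σ ≫ u) := pullbackLeftPullbackSndIso fb u σ
  let hm := Scheme.homeoOfIso e
  refine ⟨irreducibleSpace_of_surjective hm.symm hm.symm.continuous hm.symm.surjective, ?_⟩
  rw [← h2]
  exact IsHomeomorph.topologicalKrullDim_eq hm hm.isHomeomorph

/-- The geometric point over a point of a scheme given by the algebraic closure of the residue
field. -/
theorem exists_geomPt (S' : Scheme.{u}) (s' : S') :
    ∃ (Ω : Type u) (_ : Field Ω) (_ : IsAlgClosed Ω) (σ : Spec (CommRingCat.of Ω) ⟶ S'),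
      Set.range σ.base = {s'} := by
  refine ⟨AlgebraicClosure (S'.residueField s'), inferInstance, inferInstance,
    Spec.map (CommRingCat.ofHom (algebraMap (S'.residueField s')
      (AlgebraicClosure (S'.residueField s')))) ≫ S'.fromSpecResidueField s', ?_⟩
  have hsub : Set.range (Spec.map (CommRingCat.ofHom (algebraMap (S'.residueField s')
      (AlgebraicClosure (S'.residueField s')))) ≫ S'.fromSpecResidueField s').base ⊆ {s'} := by
    rw [← Scheme.range_fromSpecResidueField]
    rintro _ ⟨y, rfl⟩
    exact ⟨_, rfl⟩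
  have hne : (Set.range (Spec.map (CommRingCat.ofHom (algebraMap (S'.residueField s')
      (AlgebraicClosure (S'.residueField s')))) ≫ S'.fromSpecResidueField s').base).Nonempty :=
    Set.range_nonempty _
  exact (Set.Nonempty.subset_singleton_iff hne).1 hsub

theorem isElementaryFibration_pullback_snd {X S S' : Scheme.{u}} (f : X ⟶ S) (u : S' ⟶ S)
    (hf : An.IsElementaryFibration f) : An.IsElementaryFibration (pullback.snd f u) := by
  obtain ⟨Xb, Y, j, fb, i, hjf, hj, hi, hrange, hdense, hsm, hproj, hgeom, hfin, het, hsurj⟩ := hf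
  let j' : pullback f u ⟶ pullback fb u :=
    pullback.lift (pullback.fst f u ≫ j) (pullback.snd f u)
      (by rw [Category.assoc, hjf, pullback.condition])
  let i' : pullback (i ≫ fb) u ⟶ pullback fb u :=
    pullback.lift (pullback.fst (i ≫ fb) u ≫ i) (pullback.snd (i ≫ fb) u)
      (by rw [Category.assoc, pullback.condition])
  have hj1 : j' ≫ pullback.fst fb u = pullback.fst f u ≫ j := pullback.lift_fst _ _ _
  have hj2 : j' ≫ pullback.snd fb u = pullback.snd f u := pullback.lift_snd _ _ _
  have hi1 : i' ≫ pullback.fst fb u = pullback.fst (i ≫ fb) u ≫ i := pullback.lift_fst _ _ _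
  have hi2 : i' ≫ pullback.snd fb u = pullback.snd (i ≫ fb) u := pullback.lift_snd _ _ _
  have bot : IsPullback (pullback.fst fb u) (pullback.snd fb u) fb u :=
    IsPullback.of_hasPullback fb u
  have topj : IsPullback (pullback.fst f u) j' j (pullback.fst fb u) := by
    refine IsPullback.of_bot ?_ hj1.symm bot
    rw [hj2, hjf]
    exact IsPullback.of_hasPullback f u
  have topi : IsPullback (pullback.fst (i ≫ fb) u) i' i (pullback.fst fb u) := by
    refine IsPullback.of_bot ?_ hi1.symm bot
    rw [hi2]
    exact IsPullback.of_hasPullback (i ≫ fb) u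
  have hj' : IsOpenImmersion j' := MorphismProperty.of_isPullback (P := @IsOpenImmersion) topj hj
  have hi' : IsClosedImmersion i' :=
    MorphismProperty.of_isPullback (P := @IsClosedImmersion) topi hi
  have hrj : Set.range j'.base = (pullback.fst fb u).base ⁻¹' Set.range j.base := by
    have := Scheme.image_preimage_eq_of_isPullback topj Set.univ
    simpa [Set.image_univ] using this
  have hri : Set.range i'.base = (pullback.fst fb u).base ⁻¹' Set.range i.base := by
    have := Scheme.image_preimage_eq_of_isPullback topi Set.univ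
    simpa [Set.image_univ] using this
  have hgeom' := geomFibre_pullback_snd fb u hgeom
  haveI := hsm
  haveI := hfin
  haveI := het
  haveI : Surjective (i ≫ fb) := ⟨hsurj⟩
  refine ⟨pullback fb u, pullback (i ≫ fb) u, j', pullback.snd fb u, i', hj2, hj', hi', ?_, ?_,
    inferInstance, isStronglyProjective_pullback_snd fb u hproj, hgeom', ?_, ?_, ?_⟩
  · rw [hrj, hri, hrange, Set.preimage_compl]
  · intro s' x' hx'
    obtain ⟨Ω, _, _, σ, hσ⟩ := exists_geomPt S' s'
    obtain ⟨hirr, -⟩ := hgeom' Ω σ
    obtain ⟨hirr₀, -⟩ := hgeom Ω (σ ≫ u)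
    -- the fibre is irreducible
    have hF : IsIrreducible ((pullback.snd fb u).base ⁻¹' {s'}) := by
      have h1 : IsIrreducible (Set.univ : Set ↥(pullback (pullback.snd fb u) σ)) :=
        (irreducibleSpace_def _).1 hirr
      have h2 := h1.image (pullback.fst (pullback.snd fb u) σ).base
        (pullback.fst (pullback.snd fb u) σ).continuous.continuousOn
      rw [Set.image_univ] at h2
      have h3 : Set.range (pullback.fst (pullback.snd fb u) σ).base =
          (pullback.snd fb u).base ⁻¹' Set.range σ.base :=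
        Scheme.Pullback.range_fst (pullback.snd fb u) σ
      rw [h3, hσ] at h2
      exact h2
    -- the open part of the fibre is nonempty
    have hne : ((pullback.snd fb u).base ⁻¹' {s'} ∩ Set.range j'.base).Nonempty := by
      obtain ⟨z⟩ := hirr₀.toNonempty
      have hz : fb.base ((pullback.fst fb (σ ≫ u)).base z) = u.base s' := by
        have h1 : (pullback.fst fb (σ ≫ u) ≫ fb).base z =
            (pullback.snd fb (σ ≫ u) ≫ σ ≫ u).base z := by rw [pullback.condition]
        have h2 : σ.base ((pullback.snd fb (σ ≫ u)).base z) = s' := by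
          have : σ.base ((pullback.snd fb (σ ≫ u)).base z) ∈ Set.range σ.base := ⟨_, rfl⟩
          rw [hσ] at this
          exact this
        simp only [Scheme.Hom.comp_base, TopCat.hom_comp, ContinuousMap.comp_apply] at h1
        rw [h1, h2]
      have hcl := hdense (u.base s') hz
      have hne₁ : (Set.range j.base ∩ fb.base ⁻¹' {u.base s'}).Nonempty := by
        by_contra hcon
        rw [Set.not_nonempty_iff_eq_empty] at hcon
        rw [hcon, closure_empty] at hcl
        exact hcl
      obtain ⟨x₁, hx₁j, hx₁s⟩ := hne₁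
      obtain ⟨z', hz'1, hz'2⟩ := Scheme.Pullback.exists_preimage_pullback (f := fb) (g := u)
        x₁ s' hx₁s
      refine ⟨z', hz'2, ?_⟩
      rw [hrj]
      show (pullback.fst fb u).base z' ∈ Set.range j.base
      rw [hz'1]
      exact hx₁j
    rw [mem_closure_iff]
    intro W hW hxW
    obtain ⟨y, hy1, hy2, hy3⟩ := hF.2 W (Set.range j'.base) hW hj'.isOpen_range
      ⟨x', hx', hxW⟩ hne
    exact ⟨y, hy2, hy3, hy1⟩
  · rw [hi2]; infer_instance
  · rw [hi2]; infer_instance
  · rw [hi2]
    exact (inferInstance : Surjective (pullback.snd (i ≫ fb) u)).surj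

end Groth.Agent.Lib.ElemFibBC
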