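import Mathlib

namespace Groth.Agent.Lib.ElemInv

open MvPolynomial

variable {k : Type*} [Field k] {n : ℕ}

/-- the elementary substitution `x_i ↦ x_i + x_j ^ d`. -/
noncomputable def phi (i j : Fin n) (d : ℕ) :
    MvPolynomial (Fin n) k →ₐ[k] MvPolynomial (Fin n) k :=
  aeval (Function.update X i (X i + X j ^ d) : Fin n → MvPolynomial (Fin n) k)

section Good

variable {D : Type*} [CommRing D] [Algebra k D] (J : Ideal (MvPolynomial (Fin n) k))

/-- `b` is a `D`-point of `V(J)`. -/
def Good (b : Fin n → D) : Prop := ∀ f ∈ J, aeval b f = 0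

variable {J}

lemma aeval_phi (b : Fin n → D) (i j : Fin n) (d : ℕ) (f : MvPolynomial (Fin n) k) :
    aeval b (phi i j d f) = aeval (Function.update b i (b i + b j ^ d)) f := by
  have : (aeval b).comp (phi (k := k) i j d) = aeval (Function.update b i (b i + b j ^ d)) := by
    apply MvPolynomial.algHom_ext
    intro l
    simp only [phi, AlgHom.coe_comp, Function.comp_apply, aeval_X]
    by_cases hl : l = i
    · subst hl; simp
    · simp [Function.update_of_ne hl]
  exact DFunLike.congr_fun this f

lemma Good.step (hstab : ∀ i j : Fin n, i ≠ j → ∀ d : ℕ, ∀ f ∈ J, phi i j d f ∈ J)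
    {b : Fin n → D} (hb : Good J b) {i j : Fin n} (hij : i ≠ j) (d : ℕ) :
    Good J (Function.update b i (b i + b j ^ d)) := by
  intro f hf
  rw [← aeval_phi]
  exact hb _ (hstab i j hij d f hf)

lemma Good.iterate (hstab : ∀ i j : Fin n, i ≠ j → ∀ d : ℕ, ∀ f ∈ J, phi i j d f ∈ J)
    {a : Fin n → D} (ha : Good J a) {i j : Fin n} (hij : i ≠ j) (d m : ℕ) :
    Good J (Function.update a i (a i + m • a j ^ d)) := by
  induction m with
  | zero => simpa using ha
  | succ m ih =>
    have := ih.step hstab hij d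
    have e : Function.update (Function.update a i (a i + m • a j ^ d)) i
        (Function.update a i (a i + m • a j ^ d) i + Function.update a i (a i + m • a j ^ d) j ^ d) =
        Function.update a i (a i + (m + 1) • a j ^ d) := by
      rw [Function.update_idem, Function.update_self, Function.update_of_ne (Ne.symm hij)]
      congr 1
      rw [succ_nsmul]; ring
    rwa [e] at this

end Good

section Coord

variable (P : Ideal (MvPolynomial (Fin n) k))

/-- coordinates of the generic point of `V(P)`. -/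
noncomputable def crd : Fin n → MvPolynomial (Fin n) k ⧸ P := fun l => Ideal.Quotient.mk P (X l)

lemma aeval_crd (f : MvPolynomial (Fin n) k) : aeval (crd P) f = Ideal.Quotient.mk P f := by
  have : (aeval (crd P) : MvPolynomial (Fin n) k →ₐ[k] _) = Ideal.Quotient.mkₐ k P := by
    apply MvPolynomial.algHom_ext
    intro l
    simp [crd]
  exact DFunLike.congr_fun this f

lemma aeval_crd_eq_zero {f : MvPolynomial (Fin n) k} : aeval (crd P) f = 0 ↔ f ∈ P := by
  rw [aeval_crd, Ideal.Quotient.eq_zero_iff_mem]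

/-- generic translation in direction `i`. -/
noncomputable def Psi (i : Fin n) :
    MvPolynomial (Fin n) k →ₐ[k] Polynomial (MvPolynomial (Fin n) k ⧸ P) :=
  aeval (Function.update (fun l => Polynomial.C (crd P l)) i (Polynomial.C (crd P i) + Polynomial.X))

lemma eval_Psi (i : Fin n) (t : MvPolynomial (Fin n) k ⧸ P) (f : MvPolynomial (Fin n) k) :
    (Psi P i f).eval t = aeval (Function.update (crd P) i (crd P i + t)) f := by
  have : ((Polynomial.aeval t : Polynomial (MvPolynomial (Fin n) k ⧸ P) →ₐ[_] _).restrictScalars k).comp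
      (Psi P i) = aeval (Function.update (crd P) i (crd P i + t)) := by
    apply MvPolynomial.algHom_ext
    intro l
    simp only [Psi, AlgHom.coe_comp, Function.comp_apply, aeval_X, AlgHom.coe_restrictScalars']
    by_cases hl : l = i
    · subst hl; simp
    · simp [Function.update_of_ne hl]
  have h := DFunLike.congr_fun this f
  simpa [Polynomial.aeval_def] using h

/-- `P` is invariant under generic translation in direction `i`. -/
def Inv (i : Fin n) : Prop := ∀ f ∈ P, Psi P i f = 0

variable {P}

lemma inv_of_infinite [P.IsPrime] {J : Ideal (MvPolynomial (Fin n) k)} (hP : P ∈ J.minimalPrimes)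
    (i : Fin n)
    (hinf : {t : MvPolynomial (Fin n) k ⧸ P |
      Good J (Function.update (crd P) i (crd P i + t))}.Infinite) : Inv P i := by
  have hker : (RingHom.ker (Psi P i).toRingHom).IsPrime := RingHom.ker_isPrime _
  have hJ : J ≤ RingHom.ker (Psi P i).toRingHom := by
    intro f hf
    rw [RingHom.mem_ker]
    apply Polynomial.eq_zero_of_infinite_isRoot
    refine hinf.mono ?_
    intro t ht
    change (Psi P i f).eval t = 0
    rw [eval_Psi]
    exact ht f hf
  have hle : RingHom.ker (Psi P i).toRingHom ≤ P := by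
    intro f hf
    rw [RingHom.mem_ker] at hf
    have := eval_Psi P i 0 f
    rw [show (Psi P i) f = 0 from hf] at this
    simp only [Polynomial.eval_zero, add_zero, Function.update_eq_self] at this
    exact (aeval_crd_eq_zero P).mp this.symm
  have := hP.2 ⟨hker, hJ⟩ hle
  intro f hf
  exact this hf

lemma pow_injective_of_inv [P.IsPrime] (i : Fin n) (hinv : Inv P i) :
    Function.Injective (fun d : ℕ => crd P i ^ d) := by
  intro N M hNM
  simp only at hNM
  have hg : (X i ^ N - X i ^ M : MvPolynomial (Fin n) k) ∈ P := by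
    rw [← aeval_crd_eq_zero]
    simp [hNM]
  have h0 := hinv _ hg
  simp only [Psi, map_sub, map_pow, aeval_X, Function.update_self] at h0
  have h1 := sub_eq_zero.mp h0
  have h2 := congrArg Polynomial.natDegree h1
  have hd : (Polynomial.C (crd P i) + Polynomial.X : Polynomial (MvPolynomial (Fin n) k ⧸ P)).natDegree = 1 := by
    rw [add_comm]; exact Polynomial.natDegree_X_add_C _
  rw [Polynomial.natDegree_pow, Polynomial.natDegree_pow, hd] at h2
  simpa using h2

end Coord

/-- substitution `x_i ↦ 0`. -/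
noncomputable def sig0 (i : Fin n) : MvPolynomial (Fin n) k →ₐ[k] MvPolynomial (Fin n) k :=
  aeval (Function.update X i 0 : Fin n → MvPolynomial (Fin n) k)

lemma sig0_monomial (i : Fin n) (d : Fin n →₀ ℕ) (c : k) :
    sig0 i (monomial d c) = if d i = 0 then monomial d c else 0 := by
  rw [sig0, aeval_monomial]
  split_ifs with h
  · rw [monomial_eq]
    congr 1
    apply Finset.prod_congr rfl
    intro l hl
    have : l ≠ i := by
      rintro rfl
      exact (Finsupp.mem_support_iff.mp hl) h
    show Function.update X i 0 l ^ d l = X l ^ d l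
    rw [Function.update_of_ne this]
  · have hi : i ∈ d.support := Finsupp.mem_support_iff.mpr h
    rw [Finsupp.prod, Finset.prod_eq_zero hi, mul_zero]
    rw [Function.update_self, zero_pow h]

lemma coeff_sig0 (i : Fin n) (f : MvPolynomial (Fin n) k) (m : Fin n →₀ ℕ) :
    coeff m (sig0 i f) = if m i = 0 then coeff m f else 0 := by
  induction f using MvPolynomial.induction_on' with
  | monomial d c =>
    rw [sig0_monomial]
    by_cases hd : d i = 0
    · rw [if_pos hd]
      by_cases hm : m i = 0
      · rw [if_pos hm]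
      · rw [if_neg hm, coeff_monomial, if_neg]
        rintro rfl; exact hm hd
    · rw [if_neg hd, coeff_zero]
      by_cases hm : m i = 0
      · rw [if_pos hm, coeff_monomial, if_neg]
        rintro rfl; exact hd hm
      · rw [if_neg hm]
  | add p q hp hq =>
    rw [map_add, coeff_add, hp, hq, coeff_add]
    split_ifs <;> simp

lemma totalDegree_sig0_le (i : Fin n) (f : MvPolynomial (Fin n) k) :
    (sig0 i f).totalDegree ≤ f.totalDegree := by
  apply totalDegree_le_of_support_subset
  intro m hm
  rw [mem_support_iff, coeff_sig0] at hm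
  rw [mem_support_iff]
  split_ifs at hm with h
  · exact hm
  · exact absurd rfl hm

lemma sub_sig0_mem (i : Fin n) (f : MvPolynomial (Fin n) k) :
    f - sig0 i f ∈ Ideal.span {(X i : MvPolynomial (Fin n) k)} := by
  induction f using MvPolynomial.induction_on with
  | C a => simp [sig0]
  | add p q hp hq =>
    have : p + q - sig0 i (p + q) = (p - sig0 i p) + (q - sig0 i q) := by
      rw [map_add]; ring
    rw [this]; exact Ideal.add_mem _ hp hq
  | mul_X p l hp =>
    by_cases hl : l = i
    · subst hl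
      have : p * X l - sig0 l (p * X l) = p * X l := by
        simp [sig0]
      rw [this]
      exact Ideal.mul_mem_left _ _ (Ideal.mem_span_singleton_self _)
    · have : p * X l - sig0 i (p * X l) = (p - sig0 i p) * X l := by
        rw [map_mul]
        have : sig0 i (X l : MvPolynomial (Fin n) k) = X l := by
          simp [sig0, Function.update_of_ne hl]
        rw [this]; ring
      rw [this]
      exact Ideal.mul_mem_right _ _ hp

section
variable {P : Ideal (MvPolynomial (Fin n) k)}

lemma subst_mem (i : Fin n) (hinv : Inv P i) (g : MvPolynomial (Fin n) k)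
    {f : MvPolynomial (Fin n) k} (hf : f ∈ P) :
    aeval (Function.update X i (X i + g) : Fin n → MvPolynomial (Fin n) k) f ∈ P := by
  rw [← aeval_crd_eq_zero]
  have : (aeval (crd P)).comp
      (aeval (Function.update X i (X i + g) : Fin n → MvPolynomial (Fin n) k)) =
      aeval (Function.update (crd P) i (crd P i + aeval (crd P) g)) := by
    apply MvPolynomial.algHom_ext
    intro l
    simp only [AlgHom.coe_comp, Function.comp_apply, aeval_X]
    by_cases hl : l = i
    · subst hl; simp [crd]
    · simp [Function.update_of_ne hl, crd]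
  have h := DFunLike.congr_fun this f
  simp only [AlgHom.coe_comp, Function.comp_apply] at h
  rw [h, ← eval_Psi, hinv f hf, Polynomial.eval_zero]

theorem eq_bot_of_inv [P.IsPrime] (hinv : ∀ i, Inv P i) : P = ⊥ := by
  by_contra hP
  have hex : ∃ N : ℕ, ∃ f ∈ P, f ≠ 0 ∧ f.totalDegree = N := by
    obtain ⟨f, hf, hf0⟩ := Submodule.exists_mem_ne_zero_of_ne_bot hP
    exact ⟨_, f, hf, hf0, rfl⟩
  classical
  obtain ⟨f, hfP, hf0, hfN⟩ := Nat.find_spec hex
  have hmin : ∀ g ∈ P, g ≠ 0 → Nat.find hex ≤ g.totalDegree := by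
    intro g hg hg0
    exact Nat.find_min' hex ⟨g, hg, hg0, rfl⟩
  have h1 : (1 : MvPolynomial (Fin n) k) ∉ P := fun h =>
    (Ideal.IsPrime.ne_top inferInstance) ((Ideal.eq_top_iff_one P).mpr h)
  -- `f` does not involve any variable
  have key : ∀ i, sig0 i f = f := by
    intro i
    have hs : sig0 i f ∈ P := by
      have := subst_mem i (hinv i) (-X i) hfP
      simpa [sig0] using this
    have hd : f - sig0 i f ∈ P := P.sub_mem hfP hs
    obtain ⟨q, hq⟩ := Ideal.mem_span_singleton.mp (sub_sig0_mem i f)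
    rw [hq] at hd
    rcases Ideal.IsPrime.mem_or_mem inferInstance hd with hX | hqP
    · exfalso
      have := subst_mem i (hinv i) 1 hX
      simp only [aeval_X, Function.update_self] at this
      apply h1
      have h2 := P.sub_mem this hX
      simpa using h2
    · by_cases hq0 : q = 0
      · rw [hq0, mul_zero] at hq
        exact (sub_eq_zero.mp hq).symm
      · exfalso
        have hle := hmin q hqP hq0
        have hX0 : (X i : MvPolynomial (Fin n) k) ≠ 0 := X_ne_zero i
        have hdeg : (X i * q).totalDegree = 1 + q.totalDegree := by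
          rw [totalDegree_mul_of_isDomain hX0 hq0, totalDegree_X]
        have hle2 : (f - sig0 i f).totalDegree ≤ f.totalDegree :=
          (totalDegree_sub _ _).trans (max_le le_rfl (totalDegree_sig0_le i f))
        rw [hq, hdeg, hfN] at hle2
        omega
  -- hence `f` is constant
  by_cases hN : f.totalDegree = 0
  · rw [totalDegree_eq_zero_iff_eq_C] at hN
    apply h1
    obtain ⟨c, hfc⟩ : ∃ c : k, f = C c := ⟨_, hN⟩
    have hc : c ≠ 0 := by
      rintro rfl; rw [map_zero] at hfc; exact hf0 hfc
    have : (1 : MvPolynomial (Fin n) k) = C c⁻¹ * f := by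
      rw [hfc, ← map_mul, inv_mul_cancel₀ hc, map_one]
    rw [this]; exact P.mul_mem_left _ hfP
  · obtain ⟨m, hm, hmd⟩ : ∃ m ∈ f.support, (m.sum fun _ e => e) = f.totalDegree := by
      have hne : f.support.Nonempty := by
        rw [Finset.nonempty_iff_ne_empty, Ne, support_eq_empty]; exact hf0
      obtain ⟨m, hm, hmax⟩ := Finset.exists_mem_eq_sup f.support hne (fun s => s.sum fun _ e => e)
      exact ⟨m, hm, hmax.symm⟩
    have hm0 : m ≠ 0 := by
      rintro rfl
      apply hN
      rw [← hmd]; simp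
    obtain ⟨i, hi⟩ : ∃ i, m i ≠ 0 := by
      by_contra hcon
      push Not at hcon
      exact hm0 (Finsupp.ext hcon)
    have := coeff_sig0 i f m
    rw [key i, if_neg hi] at this
    exact (mem_support_iff.mp hm) this

end

variable {J P : Ideal (MvPolynomial (Fin n) k)}

lemma good_crd (hJP : J ≤ P) : Good J (crd P) := fun _ hf =>
  (aeval_crd_eq_zero P).mpr (hJP hf)

theorem core (hJ0 : J ≠ ⊥)
    (hstab : ∀ i j : Fin n, i ≠ j → ∀ d : ℕ, ∀ f ∈ J, phi i j d f ∈ J)
    [P.IsPrime] (hP : P ∈ J.minimalPrimes) (i : Fin n) :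
    {t : MvPolynomial (Fin n) k ⧸ P | Good J (Function.update (crd P) i (crd P i + t))}.Finite := by
  by_contra hinf
  have hinf : {t : MvPolynomial (Fin n) k ⧸ P |
      Good J (Function.update (crd P) i (crd P i + t))}.Infinite := hinf
  have hJP : J ≤ P := hP.1.2
  have hi : Inv P i := inv_of_infinite hP i hinf
  have hpow := pow_injective_of_inv i hi
  have hall : ∀ l, Inv P l := by
    intro l
    by_cases hl : l = i
    · subst hl; exact hi
    · apply inv_of_infinite hP l
      refine (Set.infinite_range_of_injective hpow).mono ?_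
      rintro _ ⟨d, rfl⟩
      have := (good_crd hJP).iterate hstab hl d 1
      simpa using this
  have := eq_bot_of_inv hall
  apply hJ0
  rw [eq_bot_iff, ← this]
  exact hJP

theorem exists_char (hn : 2 ≤ n) (hJ0 : J ≠ ⊥)
    (hstab : ∀ i j : Fin n, i ≠ j → ∀ d : ℕ, ∀ f ∈ J, phi i j d f ∈ J)
    [P.IsPrime] (hP : P ∈ J.minimalPrimes) : ∃ p : ℕ, p.Prime ∧ CharP k p := by
  obtain ⟨p, hp⟩ := CharP.exists (MvPolynomial (Fin n) k ⧸ P)
  have hinj : Function.Injective (algebraMap k (MvPolynomial (Fin n) k ⧸ P)) :=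
    (algebraMap k (MvPolynomial (Fin n) k ⧸ P)).injective
  have hkp : CharP k p := by
    obtain ⟨q, hq⟩ := CharP.exists k
    have := charP_of_injective_algebraMap hinj q
    have := CharP.eq (MvPolynomial (Fin n) k ⧸ P) hp this
    subst this; exact hq
  refine ⟨p, ?_, hkp⟩
  rcases CharP.char_is_prime_or_zero (MvPolynomial (Fin n) k ⧸ P) p with h | h
  · exact h
  · exfalso
    subst h
    haveI : CharZero (MvPolynomial (Fin n) k ⧸ P) := CharP.charP_to_charZero _
    have hij : (⟨0, by omega⟩ : Fin n) ≠ ⟨1, by omega⟩ := by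
      intro h; simpa using congrArg Fin.val h
    have hfin := core hJ0 hstab hP (⟨0, by omega⟩ : Fin n)
    refine (Set.infinite_range_of_injective
      (Nat.cast_injective (R := MvPolynomial (Fin n) k ⧸ P))).mono ?_ |>.not_finite <| hfin
    rintro _ ⟨m, rfl⟩
    have := (good_crd hP.1.2).iterate hstab hij 0 m
    simpa using this

theorem coords (hn : 2 ≤ n) (hJ0 : J ≠ ⊥)
    (hstab : ∀ i j : Fin n, i ≠ j → ∀ d : ℕ, ∀ f ∈ J, phi i j d f ∈ J)
    [P.IsPrime] (hP : P ∈ J.minimalPrimes) (p : ℕ) [hp : Fact p.Prime] [CharP k p] (j : Fin n) :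
    ∃ m : ℕ, 0 < m ∧ (X j ^ (p ^ m) - X j : MvPolynomial (Fin n) k) ∈ P := by
  have hinj : Function.Injective (algebraMap k (MvPolynomial (Fin n) k ⧸ P)) :=
    (algebraMap k (MvPolynomial (Fin n) k ⧸ P)).injective
  haveI : CharP (MvPolynomial (Fin n) k ⧸ P) p := charP_of_injective_algebraMap hinj p
  obtain ⟨i, hij⟩ : ∃ i : Fin n, i ≠ j := by
    by_cases h0 : j = ⟨0, by omega⟩
    · exact ⟨⟨1, by omega⟩, by rw [h0]; intro h; simpa using congrArg Fin.val h⟩
    · exact ⟨⟨0, by omega⟩, fun h => h0 h.symm⟩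
  have hfin := core hJ0 hstab hP i
  have hmem : ∀ e : ℕ, crd P j ^ (p ^ e) ∈ {t : MvPolynomial (Fin n) k ⧸ P |
      Good J (Function.update (crd P) i (crd P i + t))} := by
    intro e
    have := (good_crd hP.1.2).iterate hstab hij (p ^ e) 1
    simpa using this
  obtain ⟨e1, e2, hlt, heq⟩ := Set.Finite.exists_lt_map_eq_of_forall_mem hmem hfin
  refine ⟨e2 - e1, by omega, ?_⟩
  rw [← aeval_crd_eq_zero]
  simp only [map_sub, map_pow, aeval_X]
  rw [sub_eq_zero]
  apply iterateFrobenius_inj (MvPolynomial (Fin n) k ⧸ P) p e1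
  simp only [iterateFrobenius_def]
  rw [← pow_mul, ← pow_add, Nat.sub_add_cancel hlt.le]
  exact heq.symm

/-- the main algebraic statement. -/
theorem main_alg (hn : 2 ≤ n) (hJ0 : J ≠ ⊥) (hJ1 : J ≠ ⊤)
    (hstab : ∀ i j : Fin n, i ≠ j → ∀ d : ℕ, ∀ f ∈ J, phi i j d f ∈ J) :
    ∃ p : ℕ, p.Prime ∧ CharP k p ∧ ∀ Q : Ideal (MvPolynomial (Fin n) k), Q.IsPrime → J ≤ Q →
      ∀ j : Fin n, ∃ m : ℕ, 0 < m ∧ (X j ^ (p ^ m) - X j : MvPolynomial (Fin n) k) ∈ Q := by
  obtain ⟨M, hM, hJM⟩ := Ideal.exists_le_maximal J hJ1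
  haveI := hM.isPrime
  obtain ⟨P0, hP0, -⟩ := Ideal.exists_minimalPrimes_le hJM
  haveI : P0.IsPrime := hP0.1.1
  obtain ⟨p, hp, hkp⟩ := exists_char hn hJ0 hstab hP0
  refine ⟨p, hp, hkp, ?_⟩
  intro Q hQ hJQ j
  obtain ⟨P, hP, hPQ⟩ := Ideal.exists_minimalPrimes_le hJQ
  haveI : P.IsPrime := hP.1.1
  haveI : Fact p.Prime := ⟨hp⟩
  obtain ⟨m, hm, hmem⟩ := coords hn hJ0 hstab hP p j
  exact ⟨m, hm, hPQ hmem⟩


/-- a prime containing `x_j ^ (p ^ m_j) - x_j` for all `j` is maximal. -/
theorem isMaximal_of_coords (p : ℕ) (hp : p.Prime) (Q : Ideal (MvPolynomial (Fin n) k)) [Q.IsPrime]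
    (h : ∀ j : Fin n, ∃ m : ℕ, 0 < m ∧ (X j ^ (p ^ m) - X j : MvPolynomial (Fin n) k) ∈ Q) :
    Q.IsMaximal := by
  have hint : ∀ z : MvPolynomial (Fin n) k ⧸ Q, IsIntegral k z := by
    intro z
    obtain ⟨f, rfl⟩ := Ideal.Quotient.mk_surjective z
    induction f using MvPolynomial.induction_on with
    | C c => exact isIntegral_algebraMap (x := c)
    | add f g hf hg => rw [map_add]; exact hf.add hg
    | mul_X f j hf =>
      rw [map_mul]
      refine hf.mul ?_
      obtain ⟨m, hm, hmem⟩ := h j
      have h2 : 1 < p ^ m := Nat.one_lt_pow (by omega) hp.one_lt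
      refine ⟨Polynomial.X ^ (p ^ m) - Polynomial.X, ?_, ?_⟩
      · apply Polynomial.monic_X_pow_sub
        rw [Polynomial.degree_X]; exact_mod_cast h2
      · simp only [Polynomial.eval₂_sub, Polynomial.eval₂_pow, Polynomial.eval₂_X]
        rw [← map_pow, ← map_sub, Ideal.Quotient.eq_zero_iff_mem]
        exact hmem
  haveI : Algebra.IsIntegral k (MvPolynomial (Fin n) k ⧸ Q) := ⟨hint⟩
  exact Ideal.Quotient.maximal_of_isField Q
    (isField_of_isIntegral_of_isField' (R := k) (Field.toIsField k))

/-- if all primes over `J` are maximal, then `V(J)` is finite. -/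
theorem finite_zeroLocus (J : Ideal (MvPolynomial (Fin n) k))
    (h : ∀ Q : Ideal (MvPolynomial (Fin n) k), Q.IsPrime → J ≤ Q → Q.IsMaximal) :
    (PrimeSpectrum.zeroLocus (J : Set (MvPolynomial (Fin n) k))).Finite := by
  have hfin := Ideal.finite_minimalPrimes_of_isNoetherianRing (MvPolynomial (Fin n) k) J
  refine (hfin.preimage (f := fun x : PrimeSpectrum (MvPolynomial (Fin n) k) => x.asIdeal)
    (fun x _ y _ hxy => PrimeSpectrum.ext hxy)).subset ?_
  intro x hx
  have hJx : J ≤ x.asIdeal := (PrimeSpectrum.mem_zeroLocus x _).mp hx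
  obtain ⟨P, hP, hPx⟩ := Ideal.exists_minimalPrimes_le hJx
  have hPmax : P.IsMaximal := h P hP.1.1 hP.1.2
  have : P = x.asIdeal := hPmax.eq_of_le x.isPrime.ne_top hPx
  show x.asIdeal ∈ J.minimalPrimes
  rw [← this]; exact hP

end Groth.Agent.Lib.ElemInv
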