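import Groth.Agent.Lib.H90OXModAffineIso

set_option autoImplicit false
universe u

open CategoryTheory CategoryTheory.Limits AlgebraicGeometry TopologicalSpace Opposite
open AlgebraicGeometry.Scheme AlgebraicGeometry.Scheme.Modules

namespace Groth.Agent.Lib.H90OXModNoeth

open Groth.Agent.Lib.H90OXModAffine Groth.Agent.Lib.H90OXModSections
  Groth.Agent.Lib.H90OXModAffineIso

variable {X : Scheme.{u}}

theorem appLin_comp {M N K : X.Modules} (φ : M ⟶ N) (ψ : N ⟶ K) (U : X.Opens) :
    appLin (φ ≫ ψ) U = (appLin ψ U).comp (appLin φ U) := rfl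

/-- The image of the sections of a subobject in the sections of `M`. -/
noncomputable def sectionsSub (M : X.Modules) (U : X.Opens) (S : Subobject M) :
    Submodule Γ(X, U) Γ(M, U) :=
  LinearMap.range (appLin S.arrow U)

theorem sectionsSub_mono (M : X.Modules) (U : X.Opens) {S T : Subobject M} (h : S ≤ T) :
    sectionsSub M U S ≤ sectionsSub M U T := by
  rintro _ ⟨x, rfl⟩
  refine ⟨appLin (Subobject.ofLE S T h) U x, ?_⟩
  rw [← LinearMap.comp_apply, ← appLin_comp, Subobject.ofLE_arrow]

set_option backward.isDefEq.respectTransparency false in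
/-- If `S ≤ T` are quasi-coherent subobjects of `M` with the same sections over the members of an affine
open cover, then `S = T`. -/
theorem eq_of_le_of_sectionsSub_eq (M : X.Modules) {S T : Subobject M} (h : S ≤ T)
    (hS : (S : X.Modules).IsQuasicoherent) (hT : (T : X.Modules).IsQuasicoherent)
    {ι : Type*} (U : ι → X.Opens) (hU : ⨆ i, U i = ⊤) (hA : ∀ i, IsAffineOpen (U i))
    (hST : ∀ i, sectionsSub M (U i) T ≤ sectionsSub M (U i) S) : S = T := by
  refine le_antisymm h ?_
  haveI : IsIso (Subobject.ofLE S T h) := by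
    refine isIso_of_bijective_app_affine_cover _ U hU hA fun i => ⟨?_, ?_⟩
    · exact injective_app_of_mono _ _
    · intro y
      obtain ⟨x, hx⟩ := hST i ⟨y, rfl⟩
      refine ⟨x, ?_⟩
      apply injective_appLin_of_mono T.arrow (U i)
      rw [← hx]
      change ((appLin T.arrow (U i)).comp (appLin (Subobject.ofLE S T h) (U i))) x = _
      rw [← appLin_comp, Subobject.ofLE_arrow]
  exact Subobject.le_of_comm (inv (Subobject.ofLE S T h)) (by rw [IsIso.inv_comp_eq, Subobject.ofLE_arrow])

set_option backward.isDefEq.respectTransparency false in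
/-- ACC for quasi-coherent subobjects of a coherent module on a Noetherian scheme. -/
theorem stabilizes [IsNoetherian X] (M : X.Modules) (hM : Coh.IsCoh M) (F : ℕ →o Subobject M)
    (hF : ∀ n, ((F n : Subobject M) : X.Modules).IsQuasicoherent) :
    ∃ n : ℕ, ∀ m : ℕ, n ≤ m → F m = F n := by
  classical
  let 𝒰 := X.affineCover.finiteSubcover
  let U : 𝒰.I₀ → X.Opens := fun i => (𝒰.f i).opensRange
  have hA : ∀ i, IsAffineOpen (U i) := fun i => isAffineOpen_opensRange _
  have hU : ⨆ i, U i = ⊤ := 𝒰.iSup_opensRange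
  have key : ∀ i, ∃ n, ∀ m, n ≤ m → sectionsSub M (U i) (F n) = sectionsSub M (U i) (F m) := by
    intro i
    haveI : IsNoetherianRing Γ(X, U i) :=
      IsLocallyNoetherian.component_noetherian ⟨U i, hA i⟩
    haveI : Module.Finite Γ(X, U i) Γ(M, U i) :=
      Groth.Agent.Lib.CohFinite.finite_sections_of_isCoh M hM (hA i)
    haveI : _root_.IsNoetherian Γ(X, U i) Γ(M, U i) := isNoetherian_of_isNoetherianRing_of_finite _ _
    exact monotone_stabilizes_iff_noetherian.mpr inferInstance
      ⟨fun n => sectionsSub M (U i) (F n), fun a b hab => sectionsSub_mono M (U i) (F.monotone hab)⟩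
  choose n hn using key
  refine ⟨Finset.univ.sup n, fun m hm => ?_⟩
  have hle : F (Finset.univ.sup n) ≤ F m := F.monotone hm
  refine (eq_of_le_of_sectionsSub_eq M hle (hF _) (hF _) U hU hA fun i => ?_).symm
  have h1 : n i ≤ Finset.univ.sup n := Finset.le_sup (Finset.mem_univ i)
  rw [← hn i _ h1, ← hn i m (h1.trans hm)]

end Groth.Agent.Lib.H90OXModNoeth
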