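import Groth.Agent.Lib.StabAbsBasic
import Groth.Agent.Lib.HilbPos48c
import Groth.Agent.Lib.H90OXModExact
import Groth.Agent.Lib.PseudoCohNoeth
import Groth.Agent.Lib.H90DevHub2
import Groth.Agent.Lib.CohLocal
import Groth.Agent.Lib.H90OXModNoeth
import Groth.Agent.Lib.H73FibDim

/-!
# K5.G: the geometric instance of the abstract stability axioms `StabAbs.Ax`

`X` proper over a field `k`, `L` ample, `H : ProperFinHyp.Hyp` (= S0002).  The class of tested objects is
`okd k X L d E := E coherent ∧ every Hilbert polynomial of E has degree ≤ d`; it contains every coherent module whose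
support has dimension `≤ d` (`okd_of_dim_le`), every coherent subobject and quotient of a member (`okd_of_mono`,
`okd_of_epi`), and is closed under kernels, cokernels, extensions.
`ax H hL d : StabAbs.Ax (okd k X L d) (ShStab.IsHilbPoly k X L) d`.
Bridges to the frozen predicates (tested class `Coh.IsCoh`): `isSS_okd_iff`, `isSt_okd_iff`,
`okd_of_isPure`, `pure_of_isPure`.
-/

set_option autoImplicit false
set_option linter.unusedSectionVars false
universe u
open CategoryTheory CategoryTheory.Limits AlgebraicGeometry Polynomial StabCat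

namespace Groth.Agent.Lib.StabGeomAx

open Groth.Agent.Lib Groth.Agent.Lib.StabAbs Groth.Agent.Lib.HilbPoly48

/-- A scheme proper over a field has finite dimension. -/
theorem exists_nat_dim_le (k : Type u) [Field k] (X : Scheme.{u}) [X.Over (Spec (CommRingCat.of k))]
    [IsProper (X ↘ Spec (CommRingCat.of k))] : ∃ N : ℕ, topologicalKrullDim X ≤ (N : WithBot ℕ∞) := by
  by_cases hne : Nonempty X
  · obtain ⟨η, -, h⟩ := H73FibDim.exists_maximal_td_eq k (Y := X)
    exact ⟨_, h.le⟩
  · haveI : IsEmpty X := not_nonempty_iff.mp hne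
    exact ⟨0, by rw [H73FibDim.dim_eq_bot_of_isEmpty]; exact bot_le⟩

variable (H : ProperFinHyp.Hyp.{u})
variable (k : Type u) [Field k] (X : Scheme.{u}) [X.Over (Spec (CommRingCat.of k))]
  [IsProper (X ↘ Spec (CommRingCat.of k))]

/-- The class of tested objects: coherent modules all of whose Hilbert polynomials have degree `≤ d`. -/
def okd (L : X.Modules) (d : ℕ) (E : X.Modules) : Prop :=
  Coh.IsCoh E ∧ ∀ P : ℚ[X], ShStab.IsHilbPoly k X L E P → P.natDegree ≤ d

variable {k X}

include H in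
theorem okd_of_dim_le {L : X.Modules} (hL : PicF.IsInvertible L) {d : ℕ} {E : X.Modules} (hE : Coh.IsCoh E)
    (hd : topologicalKrullDim (CohB1.support E) ≤ (d : WithBot ℕ∞)) : okd k X L d E :=
  ⟨hE, fun _ hP => natDegree_le_of_isHilbPoly k X H hL hE d hd hP⟩

include H in
/-- Every coherent module has a Hilbert polynomial. -/
theorem exists_hp {L : X.Modules} (hL : PicF.IsInvertible L) {E : X.Modules} (hE : Coh.IsCoh E) :
    ∃ P, ShStab.IsHilbPoly k X L E P := by
  obtain ⟨N, hN⟩ := exists_nat_dim_le k X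
  have h1 : topologicalKrullDim (CohB1.support E) ≤ topologicalKrullDim X :=
    Topology.IsInducing.subtypeVal.topologicalKrullDim_le
  obtain ⟨P, -, hP⟩ := exists_isHilbPoly k X H hL hE N (h1.trans hN)
  exact ⟨P, hP⟩

include H in
/-- In a short exact sequence of coherent modules with middle term in `okd`, both ends are in `okd`. -/
theorem okd_ends {L : X.Modules} (hL : CohB1.IsAmple L) {d : ℕ} (S : ShortComplex X.Modules)
    (hS : S.ShortExact) (h₁ : Coh.IsCoh S.X₁) (h₃ : Coh.IsCoh S.X₃) (h₂ : okd k X L d S.X₂) :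
    okd k X L d S.X₁ ∧ okd k X L d S.X₃ := by
  have key : ∀ P₁ P₃, ShStab.IsHilbPoly k X L S.X₁ P₁ → ShStab.IsHilbPoly k X L S.X₃ P₃ →
      P₁.natDegree ≤ d ∧ P₃.natDegree ≤ d := by
    intro P₁ P₃ hP₁ hP₃
    have h := h₂.2 _ (isHilbPoly_add H k X hL.1 S hS h₁ h₂.1 h₃ hP₁ hP₃)
    have n₁ := polyLE_zero k X hL h₁ hP₁
    have n₃ := polyLE_zero k X hL h₃ hP₃
    exact ⟨(natDegree_le_natDegree_add n₁ n₃).trans h, (natDegree_le_natDegree_add' n₁ n₃).trans h⟩
  obtain ⟨Q₁, hQ₁⟩ := exists_hp (k := k) H hL.1 h₁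
  obtain ⟨Q₃, hQ₃⟩ := exists_hp (k := k) H hL.1 h₃
  exact ⟨⟨h₁, fun P hP => (key P Q₃ hP hQ₃).1⟩, ⟨h₃, fun P hP => (key Q₁ P hQ₁ hP).2⟩⟩

include H in
/-- A coherent subobject of a member of `okd` is in `okd`. -/
theorem okd_of_mono {L : X.Modules} (hL : CohB1.IsAmple L) {d : ℕ} {F E : X.Modules} (ι : F ⟶ E) [Mono ι]
    (hF : Coh.IsCoh F) (hE : okd k X L d E) : okd k X L d F := by
  haveI : F.IsQuasicoherent := hF.1
  have hS : (ShortComplex.mk ι (cokernel.π ι) (cokernel.condition ι)).ShortExact :=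
    ShortComplex.ShortExact.mk'
      (ShortComplex.exact_of_g_is_cokernel _ (cokernelIsCokernel ι)) ‹Mono ι› inferInstance
  exact (okd_ends H hL _ hS hF (H90OXModExact.isCoh_cokernel ι hE.1) hE).1

include H in
/-- A (coherent) quotient of a member of `okd` is in `okd`. -/
theorem okd_of_epi {L : X.Modules} (hL : CohB1.IsAmple L) {d : ℕ} {E Q : X.Modules} (π : E ⟶ Q) [Epi π]
    (hQ : Coh.IsCoh Q) (hE : okd k X L d E) : okd k X L d Q := by
  haveI := ParHilb48.isLocallyNoetherian k X
  haveI : Q.IsQuasicoherent := hQ.1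
  have hS : (ShortComplex.mk (kernel.ι π) π (kernel.condition π)).ShortExact :=
    ShortComplex.ShortExact.mk'
      (ShortComplex.exact_of_f_is_kernel _ (kernelIsKernel π)) inferInstance ‹Epi π›
  exact (okd_ends H hL _ hS (H90OXModExact.isCoh_kernel π hE.1) hQ hE).2

include H in
/-- The geometric instance of the axioms. -/
theorem ax {L : X.Modules} (hL : CohB1.IsAmple L) (d : ℕ) :
    Ax (okd k X L d) (ShStab.IsHilbPoly k X L) d := by
  haveI := ParHilb48.isLocallyNoetherian k X
  haveI : CompactSpace X := EulerChar54.compactSpace_of_isProper k X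
  haveI : IsNoetherian X := {}
  refine
    { ok_iso := ?_, ok_zero := ?_, ok_kernel := ?_, ok_cokernel := ?_, ok_ext := ?_, hp_exists := ?_,
      hp_unique := ?_, hp_iso := ?_, hp_zero := ?_, hp_add := ?_, hp_nonneg := ?_, hp_pos := ?_, hp_deg := ?_,
      hp_int := ?_, acc := ?_ }
  · intro E E' e hE
    exact ⟨CohLocal.isCoh_of_iso e hE.1, fun P hP => hE.2 P (isHilbPoly_congr e.symm hP)⟩
  · intro E hE
    refine ⟨H90DevHub2.isCoh_of_isZero hE, fun P hP => ?_⟩
    rw [isHilbPoly_unique hP (isHilbPoly_zero k X L hE), natDegree_zero]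
    exact Nat.zero_le _
  · intro E F f hE hF
    haveI : F.IsQuasicoherent := hF.1.1
    exact okd_of_mono H hL (kernel.ι f) (H90OXModExact.isCoh_kernel f hE.1) hE
  · intro E F f hE hF
    haveI : E.IsQuasicoherent := hE.1.1
    exact okd_of_epi H hL (cokernel.π f) (H90OXModExact.isCoh_cokernel f hF.1) hF
  · intro S hS h₁ h₃
    have h₂ : Coh.IsCoh S.X₂ := PseudoCohNoeth.isCoh_of_shortExact hS h₁.1 h₃.1
    refine ⟨h₂, fun P hP => ?_⟩
    obtain ⟨P₁, hP₁⟩ := exists_hp (k := k) H hL.1 h₁.1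
    obtain ⟨P₃, hP₃⟩ := exists_hp (k := k) H hL.1 h₃.1
    rw [isHilbPoly_unique hP (isHilbPoly_add H k X hL.1 S hS h₁.1 h₂ h₃.1 hP₁ hP₃)]
    exact (natDegree_add_le _ _).trans (max_le (h₁.2 _ hP₁) (h₃.2 _ hP₃))
  · intro E hE
    exact exists_hp (k := k) H hL.1 hE.1
  · intro E P Q hP hQ
    exact isHilbPoly_unique hP hQ
  · intro E E' P e hP
    exact isHilbPoly_congr e hP
  · intro E hE
    exact isHilbPoly_zero k X L hE
  · intro S hS h₁ h₂ h₃ P₁ P₃ hP₁ hP₃
    exact isHilbPoly_add H k X hL.1 S hS h₁.1 h₂.1 h₃.1 hP₁ hP₃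
  · intro E P hE hP
    exact polyLE_zero k X hL hE.1 hP
  · intro E P hE hE0 hP
    exact polyLT_zero H k X hL hE.1 hE0 hP
  · intro E P hE hP
    exact hE.2 P hP
  · intro E P hE hP m
    exact ⟨Curv2.euler k X (ShStab.twist X L E m), (hP m).symm⟩
  · intro E hE
    rw [wellFoundedGT_iff_monotone_chain_condition]
    intro a
    obtain ⟨n, hn⟩ := H90OXModNoeth.stabilizes E hE.1
      ⟨fun i => (a i).1, fun i j hij => a.monotone hij⟩ (fun i => (a i).2.1.1)
    exact ⟨n, fun m hm => Subtype.ext (hn m hm).symm⟩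

/-! ### Bridges to the frozen predicates -/

include H in
/-- For `E` in `okd`, semistability tested on `okd`-subobjects is semistability tested on coherent subobjects. -/
theorem isSS_okd_iff {L : X.Modules} (hL : CohB1.IsAmple L) {d : ℕ} {E : X.Modules} (hE : okd k X L d E) :
    IsSS (okd k X L d) (ShStab.IsHilbPoly k X L) d E ↔ IsSS Coh.IsCoh (ShStab.IsHilbPoly k X L) d E :=
  ⟨fun h F ι hι hF => h F ι hι (haveI := hι; okd_of_mono H hL ι hF hE),
    fun h F ι hι hF => h F ι hι hF.1⟩

include H in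
theorem isSt_okd_iff {L : X.Modules} (hL : CohB1.IsAmple L) {d : ℕ} {E : X.Modules} (hE : okd k X L d E) :
    IsSt (okd k X L d) (ShStab.IsHilbPoly k X L) d E ↔ IsSt Coh.IsCoh (ShStab.IsHilbPoly k X L) d E :=
  ⟨fun h F ι hι hF => h F ι hι (haveI := hι; okd_of_mono H hL ι hF hE),
    fun h F ι hι hF => h F ι hι hF.1⟩

include H in
/-- A coherent module pure of dimension `d` (or zero) is in `okd`. -/
theorem okd_of_isPure {L : X.Modules} (hL : CohB1.IsAmple L) {d : ℕ} {E : X.Modules} (hE : Coh.IsCoh E)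
    (hp : ShStab.IsPure X E d) : okd k X L d E := by
  by_cases h0 : IsZero E
  · exact (ax H hL d).ok_zero h0
  · exact okd_of_dim_le H hL.1 hE (hp E (𝟙 E) inferInstance hE h0).le

include H in
/-- Geometric purity implies abstract purity (positivity of the leading Hilbert coefficient). -/
theorem pure_of_isPure {L : X.Modules} (hL : CohB1.IsAmple L) {d : ℕ} {E : X.Modules}
    (hp : ShStab.IsPure X E d) : Pure (okd k X L d) (ShStab.IsHilbPoly k X L) d E :=
  fun F ι hι hF hF0 P hP => alpha_pos H k X hL hF.1 d (hp F ι hι hF.1 hF0) hP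

end Groth.Agent.Lib.StabGeomAx
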