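import Groth.Agent.Lib.PosPoly48

/-!
# Truncations of polynomials and reduced comparisons (helper48)

Pure Mathlib + `Def_StabCat`.

* `polyLT_zero_of_leadingCoeff_pos`, `polyLE_zero_iff`;
* `coeff_topPart`, `topPart_add/sub/smul`, `alpha_topPart`, `topPart_self`;
* `polyLE_zero_topPart` : `deg Q ≤ d`, `Q ≥ 0` eventually ⇒ `topPart ℓ d Q ≥ 0` eventually;
* `redLE_topPart`, `redLT_topPart_self`, `hatSlope_le_of_redLE`.
-/

set_option autoImplicit false
open Polynomial Filter

namespace Groth.Agent.Lib.TopPart48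

open Groth.Agent.Lib.PosPoly48

theorem polyLT_zero_of_leadingCoeff_pos {R : ℚ[X]} (h : 0 < R.leadingCoeff) : StabCat.PolyLT 0 R := by
  rcases Nat.eq_zero_or_pos R.natDegree with he | he
  · have hR : R = C (R.coeff 0) := eq_C_of_natDegree_le_zero (by omega)
    have h0 : 0 < R.coeff 0 := by
      unfold leadingCoeff at h; rwa [he] at h
    refine ⟨0, fun m _ => ?_⟩
    rw [eval_zero, hR, eval_C]
    exact h0
  · have hpos : 0 < R.degree := natDegree_pos_iff_degree_pos.mp he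
    have ht := R.tendsto_atTop_of_leadingCoeff_nonneg hpos h.le
    have ht' : Tendsto (fun m : ℕ => R.eval (m : ℚ)) atTop atTop :=
      ht.comp tendsto_natCast_atTop_atTop
    have hev := ht'.eventually (eventually_gt_atTop (0 : ℚ))
    obtain ⟨M, hM⟩ := hev.exists_forall_of_atTop
    refine ⟨M, fun m hm => ?_⟩
    rw [eval_zero]
    exact hM m hm

theorem PolyLT.polyLE {P Q : ℚ[X]} (h : StabCat.PolyLT P Q) : StabCat.PolyLE P Q := by
  obtain ⟨N, hN⟩ := h
  exact ⟨N, fun m hm => (hN m hm).le⟩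

/-- `Q ≥ 0` eventually iff `Q = 0` or the leading coefficient is positive. -/
theorem polyLE_zero_iff {Q : ℚ[X]} : StabCat.PolyLE 0 Q ↔ Q = 0 ∨ 0 < Q.leadingCoeff := by
  constructor
  · intro h
    by_cases hQ : Q = 0
    · exact Or.inl hQ
    · right
      have h1 := coeff_nonneg_of_polyLE_zero (le_refl Q.natDegree) h
      exact lt_of_le_of_ne h1 (Ne.symm (leadingCoeff_ne_zero.mpr hQ))
  · rintro (rfl | h)
    · exact ⟨0, fun _ _ => le_rfl⟩
    · exact PolyLT.polyLE (polyLT_zero_of_leadingCoeff_pos h)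

theorem coeff_topPart (ℓ d : ℕ) (P : ℚ[X]) (i : ℕ) :
    (StabCat.topPart ℓ d P).coeff i = if d - ℓ ≤ i ∧ i ≤ d then P.coeff i else 0 := by
  unfold StabCat.topPart
  rw [finset_sum_coeff]
  simp only [coeff_monomial]
  by_cases hi : d - ℓ ≤ i ∧ i ≤ d
  · rw [if_pos hi, Finset.sum_eq_single i]
    · rw [if_pos rfl]
    · intro b _ hb
      rw [if_neg hb]
    · intro h
      exact absurd (Finset.mem_Icc.mpr hi) h
  · rw [if_neg hi]
    apply Finset.sum_eq_zero
    intro b hb
    rw [Finset.mem_Icc] at hb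
    rw [if_neg]
    rintro rfl
    exact hi hb

theorem topPart_add (ℓ d : ℕ) (P Q : ℚ[X]) :
    StabCat.topPart ℓ d (P + Q) = StabCat.topPart ℓ d P + StabCat.topPart ℓ d Q := by
  ext i
  rw [coeff_add, coeff_topPart, coeff_topPart, coeff_topPart, coeff_add]
  split_ifs <;> simp

theorem topPart_sub (ℓ d : ℕ) (P Q : ℚ[X]) :
    StabCat.topPart ℓ d (P - Q) = StabCat.topPart ℓ d P - StabCat.topPart ℓ d Q := by
  ext i
  rw [coeff_sub, coeff_topPart, coeff_topPart, coeff_topPart, coeff_sub]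
  split_ifs <;> simp

theorem topPart_smul (ℓ d : ℕ) (a : ℚ) (P : ℚ[X]) :
    StabCat.topPart ℓ d (a • P) = a • StabCat.topPart ℓ d P := by
  ext i
  rw [coeff_smul, coeff_topPart, coeff_topPart, coeff_smul]
  split_ifs <;> simp

theorem alpha_topPart (ℓ d : ℕ) (P : ℚ[X]) :
    StabCat.alpha d (StabCat.topPart ℓ d P) = StabCat.alpha d P := by
  unfold StabCat.alpha
  rw [coeff_topPart, if_pos ⟨Nat.sub_le d ℓ, le_rfl⟩]

theorem topPart_self {ℓ d : ℕ} (hℓ : d ≤ ℓ) {P : ℚ[X]} (hP : P.natDegree ≤ d) :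
    StabCat.topPart ℓ d P = P := by
  ext i
  rw [coeff_topPart]
  by_cases hi : i ≤ d
  · rw [if_pos ⟨by omega, hi⟩]
  · rw [if_neg (fun h => hi h.2), coeff_eq_zero_of_natDegree_lt (by omega)]

theorem natDegree_topPart_le (ℓ d : ℕ) (P : ℚ[X]) : (StabCat.topPart ℓ d P).natDegree ≤ d := by
  rw [natDegree_le_iff_coeff_eq_zero]
  intro N hN
  rw [coeff_topPart, if_neg (fun h => by omega)]

/-- Truncation preserves eventual non-negativity (degree `≤ d`). -/
theorem polyLE_zero_topPart {ℓ d : ℕ} {Q : ℚ[X]} (hdeg : Q.natDegree ≤ d) (h : StabCat.PolyLE 0 Q) :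
    StabCat.PolyLE 0 (StabCat.topPart ℓ d Q) := by
  rw [polyLE_zero_iff]
  by_cases hT : StabCat.topPart ℓ d Q = 0
  · exact Or.inl hT
  · right
    set T := StabCat.topPart ℓ d Q with hTdef
    set j := T.natDegree with hj
    have hTj : T.coeff j ≠ 0 := leadingCoeff_ne_zero.mpr hT
    have hjrange : d - ℓ ≤ j ∧ j ≤ d := by
      by_contra hcon
      apply hTj
      rw [hTdef, coeff_topPart, if_neg hcon]
    have hQj : Q.coeff j = T.coeff j := by
      rw [hTdef, coeff_topPart, if_pos hjrange]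
    -- `Q` has degree `j`
    have hQdeg : Q.natDegree ≤ j := by
      rw [natDegree_le_iff_coeff_eq_zero]
      intro N hN
      by_cases hNd : N ≤ d
      · have h1 : T.coeff N = 0 := coeff_eq_zero_of_natDegree_lt hN
        rw [hTdef, coeff_topPart, if_pos ⟨by omega, hNd⟩] at h1
        exact h1
      · exact coeff_eq_zero_of_natDegree_lt (by omega)
    have h1 := coeff_nonneg_of_polyLE_zero hQdeg h
    rw [hQj] at h1
    exact lt_of_le_of_ne h1 (Ne.symm hTj)

theorem polyLE_iff_sub {P Q : ℚ[X]} : StabCat.PolyLE P Q ↔ StabCat.PolyLE 0 (Q - P) := by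
  unfold StabCat.PolyLE
  simp only [eval_zero, eval_sub, sub_nonneg]

theorem polyLT_iff_sub {P Q : ℚ[X]} : StabCat.PolyLT P Q ↔ StabCat.PolyLT 0 (Q - P) := by
  unfold StabCat.PolyLT
  simp only [eval_zero, eval_sub, sub_pos]

/-- The reduced comparison passes to truncations (degrees `≤ d`). -/
theorem redLE_topPart {ℓ d : ℕ} {P Q : ℚ[X]} (hP : P.natDegree ≤ d) (hQ : Q.natDegree ≤ d)
    (h : StabCat.RedLE d P Q) : StabCat.RedLE d (StabCat.topPart ℓ d P) (StabCat.topPart ℓ d Q) := by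
  unfold StabCat.RedLE at h ⊢
  rw [alpha_topPart, alpha_topPart, polyLE_iff_sub, ← topPart_smul, ← topPart_smul, ← topPart_sub]
  rw [polyLE_iff_sub] at h
  refine polyLE_zero_topPart ?_ h
  refine (natDegree_sub_le _ _).trans (max_le ?_ ?_)
  · exact (natDegree_smul_le _ _).trans hQ
  · exact (natDegree_smul_le _ _).trans hP

theorem redLE_topPart_self_iff {ℓ d : ℕ} (hℓ : d ≤ ℓ) {P Q : ℚ[X]} (hP : P.natDegree ≤ d)
    (hQ : Q.natDegree ≤ d) :
    StabCat.RedLE d (StabCat.topPart ℓ d P) (StabCat.topPart ℓ d Q) ↔ StabCat.RedLE d P Q := by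
  rw [topPart_self hℓ hP, topPart_self hℓ hQ]

theorem redLT_topPart_self_iff {ℓ d : ℕ} (hℓ : d ≤ ℓ) {P Q : ℚ[X]} (hP : P.natDegree ≤ d)
    (hQ : Q.natDegree ≤ d) :
    StabCat.RedLT d (StabCat.topPart ℓ d P) (StabCat.topPart ℓ d Q) ↔ StabCat.RedLT d P Q := by
  rw [topPart_self hℓ hP, topPart_self hℓ hQ]

/-- The reduced comparison implies the comparison of `hatSlope`. -/
theorem hatSlope_le_of_redLE {d : ℕ} (hd : 1 ≤ d) {P Q : ℚ[X]} (hP : P.natDegree ≤ d)
    (hQ : Q.natDegree ≤ d) (haP : 0 < StabCat.alpha d P) (haQ : 0 < StabCat.alpha d Q)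
    (h : StabCat.RedLE d P Q) : StabCat.hatSlope d P ≤ StabCat.hatSlope d Q := by
  unfold StabCat.RedLE at h
  rw [polyLE_iff_sub] at h
  set D := StabCat.alpha d P • Q - StabCat.alpha d Q • P with hD
  have hDd : D.coeff d = 0 := by
    rw [hD, coeff_sub, coeff_smul, coeff_smul]
    unfold StabCat.alpha
    simp only [smul_eq_mul]
    ring
  have hDdeg : D.natDegree ≤ d - 1 := by
    rw [natDegree_le_iff_coeff_eq_zero]
    intro N hN
    rcases Nat.lt_or_ge d N with h1 | h1
    · refine coeff_eq_zero_of_natDegree_lt (lt_of_le_of_lt ?_ h1)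
      refine (natDegree_sub_le _ _).trans (max_le ?_ ?_)
      · exact (natDegree_smul_le _ _).trans hQ
      · exact (natDegree_smul_le _ _).trans hP
    · have : N = d := by omega
      rw [this]; exact hDd
  have h1 := coeff_nonneg_of_polyLE_zero hDdeg h
  rw [hD, coeff_sub, coeff_smul, coeff_smul, smul_eq_mul, smul_eq_mul] at h1
  unfold StabCat.hatSlope
  rw [div_le_div_iff₀ haP haQ]
  have hf : (0 : ℚ) < ((d - 1).factorial : ℚ) := by exact_mod_cast (d - 1).factorial_pos
  have e1 : StabCat.alpha (d - 1) P = ((d - 1).factorial : ℚ) * P.coeff (d - 1) := rfl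
  have e2 : StabCat.alpha (d - 1) Q = ((d - 1).factorial : ℚ) * Q.coeff (d - 1) := rfl
  rw [e1, e2]
  have := mul_nonneg hf.le h1
  nlinarith [this]

end Groth.Agent.Lib.TopPart48
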