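import Groth.Agent.Lib.StabGeom48f
import Groth.Agent.Lib.StabGeomAx
import Groth.Agent.Lib.TopPart48

/-!
# Quotients of filtered sheaves: lower bounds for truncated reduced Hilbert polynomials (helper97)

Fix a reference pair `(a, T)` (a multiplicity and a truncated polynomial).  `LB a T Q` says `α_d(Q)·T ≤ a·p_ℓ(Q)`
eventually (the reduced truncated Hilbert polynomial of `Q` is at least `T/a`), `QGood a T A` says that this holds for
every coherent quotient of `A`.

* `QGood_of_shortExact` : `QGood` is stable under extensions.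
* `QGood_self_of_isEllSemistable` : an `ℓ`-semistable sheaf is `QGood` with respect to its own invariants.
* `QGood.trans` : change of reference.
-/

set_option autoImplicit false
set_option maxHeartbeats 400000
set_option linter.style.haveILetI false
universe u
open CategoryTheory CategoryTheory.Limits AlgebraicGeometry TopologicalSpace Polynomial

namespace Groth.Agent.Lib.EllHN97

open Groth.Agent.Lib Groth.Agent.Lib.HilbPoly48 Groth.Agent.Lib.StabGeom48
  Groth.Agent.Lib.H90DevHub2 Groth.Agent.Lib.TopPart48 Groth.Agent.Lib.PosPoly48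

/-! ### Eventual inequalities of polynomials -/

theorem polyLE_refl (P : ℚ[X]) : StabCat.PolyLE P P := ⟨0, fun _ _ => le_rfl⟩

theorem polyLE_of_eq {P Q : ℚ[X]} (h : P = Q) : StabCat.PolyLE P Q := h ▸ polyLE_refl P

theorem PolyLE.trans' {P Q R : ℚ[X]} (h1 : StabCat.PolyLE P Q) (h2 : StabCat.PolyLE Q R) :
    StabCat.PolyLE P R := by
  obtain ⟨N1, h1⟩ := h1
  obtain ⟨N2, h2⟩ := h2
  exact ⟨max N1 N2, fun m hm => (h1 m (le_of_max_le_left hm)).trans (h2 m (le_of_max_le_right hm))⟩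

theorem PolyLE.add' {P Q P' Q' : ℚ[X]} (h1 : StabCat.PolyLE P Q) (h2 : StabCat.PolyLE P' Q') :
    StabCat.PolyLE (P + P') (Q + Q') := by
  obtain ⟨N1, h1⟩ := h1
  obtain ⟨N2, h2⟩ := h2
  refine ⟨max N1 N2, fun m hm => ?_⟩
  rw [eval_add, eval_add]
  exact add_le_add (h1 m (le_of_max_le_left hm)) (h2 m (le_of_max_le_right hm))

theorem PolyLE.smul' {P Q : ℚ[X]} {c : ℚ} (hc : 0 ≤ c) (h : StabCat.PolyLE P Q) :
    StabCat.PolyLE (c • P) (c • Q) := by
  obtain ⟨N, h⟩ := h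
  refine ⟨N, fun m hm => ?_⟩
  rw [eval_smul, eval_smul, smul_eq_mul, smul_eq_mul]
  exact mul_le_mul_of_nonneg_left (h m hm) hc

theorem PolyLE.of_smul {P Q : ℚ[X]} {c : ℚ} (hc : 0 < c) (h : StabCat.PolyLE (c • P) (c • Q)) :
    StabCat.PolyLE P Q := by
  obtain ⟨N, h⟩ := h
  refine ⟨N, fun m hm => ?_⟩
  have := h m hm
  rw [eval_smul, eval_smul, smul_eq_mul, smul_eq_mul] at this
  exact le_of_mul_le_mul_left this hc

theorem not_polyLT_of_polyLE {P Q : ℚ[X]} (h1 : StabCat.PolyLE P Q) (h2 : StabCat.PolyLT Q P) : False := by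
  obtain ⟨N1, h1⟩ := h1
  obtain ⟨N2, h2⟩ := h2
  exact absurd (h1 (max N1 N2) (le_max_left _ _)) (not_le.mpr (h2 (max N1 N2) (le_max_right _ _)))

section Proper

variable (H : ProperFinHyp.Hyp.{u})
variable (k : Type u) [Field k] (X : Scheme.{u}) [X.Over (Spec (CommRingCat.of k))]
  [IsProper (X ↘ Spec (CommRingCat.of k))]
variable (L : X.Modules) (d ℓ : ℕ)

/-- `α_d(Q)·T ≤ a·p_ℓ(Q)` eventually, for every Hilbert polynomial of `Q`. -/
def LB (a : ℚ) (T : ℚ[X]) (Q : X.Modules) : Prop :=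
  ∀ pQ : ℚ[X], ShStab.IsHilbPoly k X L Q pQ →
    StabCat.PolyLE (StabCat.alpha d pQ • T) (a • StabCat.topPart ℓ d pQ)

/-- Every coherent quotient of `A` satisfies `LB`. -/
def QGood (a : ℚ) (T : ℚ[X]) (A : X.Modules) : Prop :=
  ∀ (Q : X.Modules) (π : A ⟶ Q), Epi π → Coh.IsCoh Q → LB k X L d ℓ a T Q

variable {k X L d ℓ}

theorem LB_of_isZero {a : ℚ} {T : ℚ[X]} {Q : X.Modules} (hz : IsZero Q) : LB k X L d ℓ a T Q := by
  intro pQ hpQ
  rw [isHilbPoly_unique hpQ (isHilbPoly_zero k X L hz)]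
  apply polyLE_of_eq
  rw [alpha_zero, zero_smul]
  have : StabCat.topPart ℓ d (0 : ℚ[X]) = 0 := by
    have := topPart_smul ℓ d (0 : ℚ) (0 : ℚ[X])
    rw [zero_smul, zero_smul] at this
    exact this
  rw [this, smul_zero]

theorem LB_of_iso {a : ℚ} {T : ℚ[X]} {Q Q' : X.Modules} (e : Q ≅ Q') (h : LB k X L d ℓ a T Q) :
    LB k X L d ℓ a T Q' :=
  fun pQ hpQ => h pQ (isHilbPoly_congr e.symm hpQ)

include H in
theorem LB_of_shortExact (hL : CohB1.IsAmple L) {a : ℚ} {T : ℚ[X]} (S : ShortComplex X.Modules)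
    (hS : S.ShortExact) (h₁ : Coh.IsCoh S.X₁) (h₂ : Coh.IsCoh S.X₂) (h₃ : Coh.IsCoh S.X₃)
    (hb₁ : LB k X L d ℓ a T S.X₁) (hb₃ : LB k X L d ℓ a T S.X₃) : LB k X L d ℓ a T S.X₂ := by
  intro p₂ hp₂
  obtain ⟨p₁, hp₁⟩ := StabGeomAx.exists_hp (k := k) H hL.1 h₁
  obtain ⟨p₃, hp₃⟩ := StabGeomAx.exists_hp (k := k) H hL.1 h₃
  have hsum := isHilbPoly_unique hp₂ (isHilbPoly_add H k X hL.1 S hS h₁ h₂ h₃ hp₁ hp₃)
  rw [hsum, alpha_add, topPart_add, add_smul, smul_add]
  exact PolyLE.add' (hb₁ p₁ hp₁) (hb₃ p₃ hp₃)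

theorem QGood_of_isZero {a : ℚ} {T : ℚ[X]} {A : X.Modules} (hz : IsZero A) : QGood k X L d ℓ a T A := by
  intro Q π hπ hQ
  haveI := hπ
  apply LB_of_isZero
  rw [IsZero.iff_id_eq_zero, ← cancel_epi π, Category.comp_id, Limits.comp_zero]
  exact hz.eq_of_src _ _

theorem QGood_of_iso {a : ℚ} {T : ℚ[X]} {A A' : X.Modules} (e : A ≅ A') (h : QGood k X L d ℓ a T A) :
    QGood k X L d ℓ a T A' := by
  intro Q π hπ hQ
  haveI := hπ
  exact h Q (e.hom ≫ π) (epi_comp _ _) hQ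

include H in
/-- `QGood` is stable under extensions. -/
theorem QGood_of_shortExact (hL : CohB1.IsAmple L) {a : ℚ} {T : ℚ[X]} (S : ShortComplex X.Modules)
    (hS : S.ShortExact) (h₁ : Coh.IsCoh S.X₁)
    (hg₁ : QGood k X L d ℓ a T S.X₁) (hg₃ : QGood k X L d ℓ a T S.X₃) : QGood k X L d ℓ a T S.X₂ := by
  haveI := ParHilb48.isLocallyNoetherian k X
  intro Q π hπ hQ
  haveI := hπ
  haveI := hS.epi_g
  haveI : Q.IsQuasicoherent := hQ.1
  haveI : S.X₁.IsQuasicoherent := h₁.1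
  -- the image of `S.X₁` in `Q`
  have hN : Coh.IsCoh (Abelian.image (S.f ≫ π)) :=
    isCoh_kernel _ hQ (H90OXModExact.isCoh_cokernel (S.f ≫ π) hQ)
  haveI : (Abelian.image (S.f ≫ π)).IsQuasicoherent := hN.1
  have hC : Coh.IsCoh (cokernel (Abelian.image.ι (S.f ≫ π))) :=
    H90OXModExact.isCoh_cokernel _ hQ
  have hb₁ : LB k X L d ℓ a T (Abelian.image (S.f ≫ π)) :=
    hg₁ _ (Abelian.factorThruImage (S.f ≫ π)) inferInstance hN
  -- the quotient is a quotient of `S.X₃`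
  have hzero : S.f ≫ (π ≫ cokernel.π (Abelian.image.ι (S.f ≫ π))) = 0 := by
    have h0 : (Abelian.factorThruImage (S.f ≫ π) ≫ Abelian.image.ι (S.f ≫ π)) ≫
        cokernel.π (Abelian.image.ι (S.f ≫ π)) = 0 := by
      rw [Category.assoc, cokernel.condition, Limits.comp_zero]
    rw [Abelian.image.fac] at h0
    rw [← Category.assoc]
    exact h0
  obtain ⟨ρ, hρ⟩ : ∃ ρ : S.X₃ ⟶ cokernel (Abelian.image.ι (S.f ≫ π)),
      S.g ≫ ρ = π ≫ cokernel.π (Abelian.image.ι (S.f ≫ π)) :=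
    ⟨hS.exact.desc _ hzero, hS.exact.g_desc _ hzero⟩
  haveI : Epi ρ := by
    haveI : Epi (S.g ≫ ρ) := by rw [hρ]; infer_instance
    exact epi_of_epi S.g ρ
  have hb₃ : LB k X L d ℓ a T (cokernel (Abelian.image.ι (S.f ≫ π))) := hg₃ _ ρ inferInstance hC
  have key := LB_of_shortExact (a := a) (T := T) (d := d) (ℓ := ℓ) H hL _
    (H90DevTwo.shortExact_cokernel (Abelian.image.ι (S.f ≫ π))) hN hQ hC hb₁ hb₃
  exact key

include H in
theorem alpha_nonneg_of_epi (hL : CohB1.IsAmple L) {A Q : X.Modules} (π : A ⟶ Q) [Epi π]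
    (hdA : topologicalKrullDim (CohB1.support A) ≤ (d : WithBot ℕ∞)) (hQ : Coh.IsCoh Q) {pQ : ℚ[X]}
    (hpQ : ShStab.IsHilbPoly k X L Q pQ) : 0 ≤ StabCat.alpha d pQ := by
  have hdQ : topologicalKrullDim (CohB1.support Q) ≤ (d : WithBot ℕ∞) :=
    (DimDrop.topologicalKrullDim_mono (support_subset_of_epi π)).trans hdA
  have := coeff_nonneg H k X hL hQ d hdQ hpQ
  unfold StabCat.alpha
  positivity

include H in
/-- Quotients of an `ℓ`-semistable sheaf have larger reduced truncated Hilbert polynomial. -/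
theorem QGood_self_of_isEllSemistable (hL : CohB1.IsAmple L) {G : X.Modules}
    (hG : ShStab.IsEllSemistable k X L G d ℓ) {pG : ℚ[X]} (hpG : ShStab.IsHilbPoly k X L G pG) :
    QGood k X L d ℓ (StabCat.alpha d pG) (StabCat.topPart ℓ d pG) G := by
  haveI := ParHilb48.isLocallyNoetherian k X
  obtain ⟨hGc, hG0, hGp, hGss⟩ := hG
  intro T π hπ hT pT hpT
  haveI := hπ
  have hK : Coh.IsCoh (kernel π) := isCoh_kernel π hGc hT
  have hS : (ShortComplex.mk (kernel.ι π) π (kernel.condition π)).ShortExact :=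
    { exact := ShortComplex.exact_kernel π }
  obtain ⟨pK, hpK⟩ := StabGeomAx.exists_hp (k := k) H hL.1 hK
  have hsum : pG = pK + pT := isHilbPoly_unique hpG (isHilbPoly_add H k X hL.1 _ hS hK hGc hT hpK hpT)
  have hdG := dim_of_isPure hGp hGc hG0
  have haT : 0 ≤ StabCat.alpha d pT := alpha_nonneg_of_epi H hL π hdG.le hT hpT
  by_cases hKz : IsZero (kernel π)
  · have h0 : pK = 0 := isHilbPoly_unique hpK (isHilbPoly_zero k X L hKz)
    rw [hsum, h0, zero_add]
    exact polyLE_refl _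
  · have haK : 0 < StabCat.alpha d pK := alpha_pos_of_isPure H k X hL hGp (kernel.ι π) hK hKz hpK
    have haG : StabCat.alpha d pG = StabCat.alpha d pK + StabCat.alpha d pT := by rw [hsum, alpha_add]
    rcases haT.lt_or_eq with hlt | heq
    · have h1 := hGss (kernel π) (kernel.ι π) inferInstance hK pK pG hpK hpG haK (by linarith)
      unfold StabCat.RedLE at h1
      rw [alpha_topPart, alpha_topPart] at h1
      obtain ⟨N, hN⟩ := h1
      refine ⟨N, fun m hm => ?_⟩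
      have h2 := hN m hm
      rw [hsum, topPart_add, alpha_add] at h2 ⊢
      simp only [eval_smul, eval_add, smul_eq_mul] at h2 ⊢
      nlinarith [h2]
    · rw [← heq, zero_smul]
      have hdT : topologicalKrullDim (CohB1.support T) ≤ (d : WithBot ℕ∞) :=
        (DimDrop.topologicalKrullDim_mono (support_subset_of_epi π)).trans hdG.le
      have h2 : StabCat.PolyLE 0 (StabCat.topPart ℓ d pT) :=
        polyLE_zero_topPart (natDegree_le_of_isHilbPoly k X H hL.1 hT d hdT hpT)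
          (polyLE_zero k X hL hT hpT)
      have h3 := PolyLE.smul' (c := StabCat.alpha d pG) (by linarith) h2
      rw [smul_zero] at h3
      exact h3

include H in
/-- Change of the reference pair. -/
theorem QGood.change_ref (hL : CohB1.IsAmple L) {a a' : ℚ} {T T' : ℚ[X]} {A : X.Modules}
    (hdA : topologicalKrullDim (CohB1.support A) ≤ (d : WithBot ℕ∞)) (ha : 0 < a) (ha' : 0 ≤ a')
    (href : StabCat.PolyLE (a • T') (a' • T)) (h : QGood k X L d ℓ a T A) :
    QGood k X L d ℓ a' T' A := by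
  intro Q π hπ hQ pQ hpQ
  haveI := hπ
  have haQ : 0 ≤ StabCat.alpha d pQ := alpha_nonneg_of_epi H hL π hdA hQ hpQ
  have h1 := h Q π hπ hQ pQ hpQ
  apply PolyLE.of_smul ha
  have h2 := PolyLE.smul' haQ href
  have h3 := PolyLE.smul' ha' h1
  have e1 : a • StabCat.alpha d pQ • T' = StabCat.alpha d pQ • a • T' := smul_comm _ _ _
  have e2 : StabCat.alpha d pQ • a' • T = a' • StabCat.alpha d pQ • T := smul_comm _ _ _
  have e3 : a' • a • StabCat.topPart ℓ d pQ = a • a' • StabCat.topPart ℓ d pQ := smul_comm _ _ _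
  rw [e1, ← e3]
  rw [e2] at h2
  exact PolyLE.trans' h2 h3

end Proper

end Groth.Agent.Lib.EllHN97
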