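/-
helper67 (K5): categorical plumbing for subobject lattices in an abelian category: short exact sequences from monos/epis,
interval correspondence for quotients y/x (Kof = Lemma A, imOf = Lemma B), x ⊓ y and x ⊔ y as kernels, second isomorphism theorem.
-/
import Mathlib

set_option autoImplicit false

universe v u

namespace Groth.Agent.Lib.StabAbs67

open CategoryTheory CategoryTheory.Limits

variable {C : Type u} [Category.{v} C] [Abelian C]

/-- a monomorphism with its cokernel is a short exact sequence -/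
theorem shortExact_of_mono {A B : C} (i : A ⟶ B) [Mono i] :
    (ShortComplex.mk i (cokernel.π i) (cokernel.condition i)).ShortExact := by
  refine ShortComplex.ShortExact.mk' ?_ inferInstance inferInstance
  exact ShortComplex.exact_of_g_is_cokernel _ (cokernelIsCokernel i)

/-- an epimorphism with its kernel is a short exact sequence -/
theorem shortExact_of_epi {B Q : C} (p : B ⟶ Q) [Epi p] :
    (ShortComplex.mk (kernel.ι p) p (kernel.condition p)).ShortExact := by
  refine ShortComplex.ShortExact.mk' ?_ inferInstance inferInstance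
  exact ShortComplex.exact_of_f_is_kernel _ (kernelIsKernel p)

/-- a monomorphism is the kernel of its cokernel: lifting -/
theorem exists_lift_of_comp_cokernel_π {A B T : C} (i : A ⟶ B) [Mono i] (t : T ⟶ B)
    (ht : t ≫ cokernel.π i = 0) : ∃ l : T ⟶ A, l ≫ i = t := by
  have hk := Abelian.monoIsKernelOfCokernel (CokernelCofork.ofπ _ (cokernel.condition i))
    (cokernelIsCokernel i)
  exact ⟨(KernelFork.IsLimit.lift' hk t ht).1, (KernelFork.IsLimit.lift' hk t ht).2⟩

theorem isIso_of_isZero_cokernel {A B : C} (i : A ⟶ B) [Mono i] (h : IsZero (cokernel i)) : IsIso i := by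
  have : Epi i := Abelian.epi_of_cokernel_π_eq_zero i (h.eq_of_tgt _ _)
  exact isIso_of_mono_of_epi i

section Sub

variable {E : C}

theorem eq_bot_iff_isZero (x : Subobject E) : x = ⊥ ↔ IsZero (x : C) := by
  constructor
  · rintro rfl
    exact (isZero_zero C).of_iso Subobject.botCoeIsoZero
  · intro h
    rw [← Subobject.mk_arrow x, Subobject.mk_eq_bot_iff_zero]
    exact h.eq_of_src _ _

omit [Abelian C] in
theorem le_of_isIso_ofLE {x y : Subobject E} (h : x ≤ y) (hi : IsIso (Subobject.ofLE x y h)) : y ≤ x :=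
  Subobject.le_of_comm (inv (Subobject.ofLE x y h)) (by rw [IsIso.inv_comp_eq, Subobject.ofLE_arrow])

/-- the quotient `y/x` is nonzero when `x < y` -/
theorem not_isZero_cokernel_ofLE {x y : Subobject E} (h : x < y) :
    ¬ IsZero (cokernel (Subobject.ofLE x y h.le)) := fun hz =>
  h.not_ge (le_of_isIso_ofLE h.le (isIso_of_isZero_cokernel _ hz))

/-- if `t ≫ E → E/x` vanishes then `t` factors through `x` -/
theorem factors_of_comp_cokernel_π {T : C} (x : Subobject E) (t : T ⟶ E)
    (ht : t ≫ cokernel.π x.arrow = 0) : x.Factors t := by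
  obtain ⟨l, hl⟩ := exists_lift_of_comp_cokernel_π x.arrow t ht
  exact (Subobject.factors_iff _ _).mpr ⟨l, hl⟩

/-- **Lemma A**: the element of the interval `[x, y]` attached to a subobject `ι : F ⟶ y/x` -/
noncomputable def Kof {x y : Subobject E} (h : x ≤ y) {F : C} (ι : F ⟶ cokernel (Subobject.ofLE x y h)) :
    Subobject E :=
  Subobject.mk (kernel.ι (cokernel.π (Subobject.ofLE x y h) ≫ cokernel.π ι) ≫ y.arrow)

theorem Kof_le {x y : Subobject E} (h : x ≤ y) {F : C} (ι : F ⟶ cokernel (Subobject.ofLE x y h)) :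
    Kof h ι ≤ y :=
  Subobject.mk_le_of_comm (kernel.ι _) rfl

theorem le_Kof {x y : Subobject E} (h : x ≤ y) {F : C} (ι : F ⟶ cokernel (Subobject.ofLE x y h)) :
    x ≤ Kof h ι :=
  Subobject.le_mk_of_comm (kernel.lift _ (Subobject.ofLE x y h) (by
    rw [← Category.assoc, cokernel.condition, zero_comp])) (by
    rw [← Category.assoc, kernel.lift_ι, Subobject.ofLE_arrow])

/-- the underlying object of `Kof` is the kernel of `y → y/x → (y/x)/F` -/
noncomputable def KofIso {x y : Subobject E} (h : x ≤ y) {F : C} (ι : F ⟶ cokernel (Subobject.ofLE x y h)) :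
    ((Kof h ι : Subobject E) : C) ≅ kernel (cokernel.π (Subobject.ofLE x y h) ≫ cokernel.π ι) :=
  Subobject.underlyingIso _

/-- **Lemma B**: the subobject of `y/x` attached to `G` with `x ≤ G ≤ y` -/
noncomputable def imOf {x G y : Subobject E} (hxy : x ≤ y) (hGy : G ≤ y) : C :=
  Abelian.image (Subobject.ofLE G y hGy ≫ cokernel.π (Subobject.ofLE x y hxy))

noncomputable def imOfι {x G y : Subobject E} (hxy : x ≤ y) (hGy : G ≤ y) :
    imOf hxy hGy ⟶ cokernel (Subobject.ofLE x y hxy) :=
  Abelian.image.ι _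

instance {x G y : Subobject E} (hxy : x ≤ y) (hGy : G ≤ y) : Mono (imOfι hxy hGy) :=
  inferInstanceAs (Mono (Abelian.image.ι (Subobject.ofLE G y hGy ≫ cokernel.π (Subobject.ofLE x y hxy))))

noncomputable def imOfπ {x G y : Subobject E} (hxy : x ≤ y) (hGy : G ≤ y) :
    (G : C) ⟶ imOf hxy hGy :=
  Abelian.factorThruImage _

instance {x G y : Subobject E} (hxy : x ≤ y) (hGy : G ≤ y) : Epi (imOfπ hxy hGy) :=
  inferInstanceAs (Epi (Abelian.factorThruImage (Subobject.ofLE G y hGy ≫ cokernel.π (Subobject.ofLE x y hxy))))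

theorem imOfπ_ι {x G y : Subobject E} (hxy : x ≤ y) (hGy : G ≤ y) :
    imOfπ hxy hGy ≫ imOfι hxy hGy = Subobject.ofLE G y hGy ≫ cokernel.π (Subobject.ofLE x y hxy) :=
  Abelian.image.fac _

theorem ofLE_imOfπ {x G y : Subobject E} (hxy : x ≤ y) (hxG : x ≤ G) (hGy : G ≤ y) :
    Subobject.ofLE x G hxG ≫ imOfπ hxy hGy = 0 := by
  rw [← cancel_mono (imOfι hxy hGy), Category.assoc, imOfπ_ι, zero_comp, ← Category.assoc,
    Subobject.ofLE_comp_ofLE, cokernel.condition]

/-- `0 → x → G → im(G → y/x) → 0` is short exact -/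
theorem shortExact_imOf {x G y : Subobject E} (hxy : x ≤ y) (hxG : x ≤ G) (hGy : G ≤ y) :
    (ShortComplex.mk (Subobject.ofLE x G hxG) (imOfπ hxy hGy) (ofLE_imOfπ hxy hxG hGy)).ShortExact := by
  have : Mono (ShortComplex.mk (Subobject.ofLE x G hxG) (imOfπ hxy hGy) (ofLE_imOfπ hxy hxG hGy)).f := by
    change Mono (Subobject.ofLE x G hxG); infer_instance
  have : Epi (ShortComplex.mk (Subobject.ofLE x G hxG) (imOfπ hxy hGy) (ofLE_imOfπ hxy hxG hGy)).g := by
    change Epi (imOfπ hxy hGy); infer_instance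
  refine ShortComplex.ShortExact.mk' ?_ inferInstance inferInstance
  refine ShortComplex.exact_of_f_is_kernel _ ?_
  have key : ∀ {T : C} (t : T ⟶ (G : C)), t ≫ imOfπ hxy hGy = 0 →
      ∃ l : T ⟶ (x : C), l ≫ Subobject.ofLE x G hxG = t := by
    intro T t ht
    have h1 : (t ≫ Subobject.ofLE G y hGy) ≫ cokernel.π (Subobject.ofLE x y hxy) = 0 := by
      rw [Category.assoc, ← imOfπ_ι, ← Category.assoc, ht, zero_comp]
    obtain ⟨l, hl⟩ := exists_lift_of_comp_cokernel_π (Subobject.ofLE x y hxy) _ h1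
    refine ⟨l, ?_⟩
    rw [← cancel_mono (Subobject.ofLE G y hGy), Category.assoc, Subobject.ofLE_comp_ofLE, hl]
  refine KernelFork.IsLimit.ofι _ _ (fun {T} t ht => (key t ht).choose)
    (fun {T} t ht => (key t ht).choose_spec)
    (fun {T} t ht m hm => by
      rw [← cancel_mono (Subobject.ofLE x G hxG)]
      exact hm.trans (key t ht).choose_spec.symm)

end Sub


section InfSup

variable {E : C} (x y : Subobject E)

/-- the map `y → E → E/x` -/
noncomputable def toQuot : (y : C) ⟶ cokernel x.arrow := y.arrow ≫ cokernel.π x.arrow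

/-- `x ⊓ y` is the kernel of `y → E/x` -/
theorem mk_kernel_toQuot : Subobject.mk (kernel.ι (toQuot x y) ≫ y.arrow) = x ⊓ y := by
  apply le_antisymm
  · apply le_inf
    · have h0 : (kernel.ι (toQuot x y) ≫ y.arrow) ≫ cokernel.π x.arrow = 0 := by
        rw [Category.assoc]; exact kernel.condition (toQuot x y)
      obtain ⟨l, hl⟩ := exists_lift_of_comp_cokernel_π x.arrow _ h0
      exact Subobject.mk_le_of_comm l hl
    · exact Subobject.mk_le_of_comm (kernel.ι _) rfl
  · have h0 : Subobject.ofLE (x ⊓ y) y inf_le_right ≫ toQuot x y = 0 := by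
      unfold toQuot
      rw [← Category.assoc, Subobject.ofLE_arrow, ← Subobject.ofLE_arrow (inf_le_left : x ⊓ y ≤ x),
        Category.assoc, cokernel.condition, comp_zero]
    exact Subobject.le_mk_of_comm (kernel.lift _ _ h0)
      (by rw [← Category.assoc, kernel.lift_ι, Subobject.ofLE_arrow])

/-- the map `E → E/x → (E/x)/im(y)` whose kernel is `x ⊔ y` -/
noncomputable def supMap : E ⟶ cokernel (toQuot x y) := cokernel.π x.arrow ≫ cokernel.π (toQuot x y)

instance : Epi (supMap x y) := by unfold supMap; infer_instance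

theorem arrow_comp_cokernel_π_of_le {x S : Subobject E} (h : x ≤ S) : x.arrow ≫ cokernel.π S.arrow = 0 := by
  rw [← Subobject.ofLE_arrow h, Category.assoc, cokernel.condition, comp_zero]

/-- `x ⊔ y` is the kernel of `E → (E/x)/im(y)` -/
theorem mk_kernel_supMap : Subobject.mk (kernel.ι (supMap x y)) = x ⊔ y := by
  apply le_antisymm
  · -- `E → E/(x ⊔ y)` factors through `supMap`
    have h1 : x.arrow ≫ cokernel.π (x ⊔ y).arrow = 0 := arrow_comp_cokernel_π_of_le le_sup_left
    have h2 : toQuot x y ≫ cokernel.desc x.arrow (cokernel.π (x ⊔ y).arrow) h1 = 0 := by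
      unfold toQuot
      rw [Category.assoc, cokernel.π_desc]
      exact arrow_comp_cokernel_π_of_le le_sup_right
    have h3 : supMap x y ≫ cokernel.desc (toQuot x y) _ h2 = cokernel.π (x ⊔ y).arrow := by
      unfold supMap
      rw [Category.assoc, cokernel.π_desc, cokernel.π_desc]
    have h4 : kernel.ι (supMap x y) ≫ cokernel.π (x ⊔ y).arrow = 0 := by
      rw [← h3, ← Category.assoc, kernel.condition, zero_comp]
    obtain ⟨l, hl⟩ := exists_lift_of_comp_cokernel_π (x ⊔ y).arrow _ h4
    exact Subobject.mk_le_of_comm l hl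
  · apply sup_le
    · have h0 : x.arrow ≫ supMap x y = 0 := by
        unfold supMap; rw [← Category.assoc, cokernel.condition, zero_comp]
      exact Subobject.le_mk_of_comm (kernel.lift _ _ h0) (kernel.lift_ι _ _ _)
    · have h0 : y.arrow ≫ supMap x y = 0 := by
        unfold supMap; rw [← Category.assoc]; exact cokernel.condition (toQuot x y)
      exact Subobject.le_mk_of_comm (kernel.lift _ _ h0) (kernel.lift_ι _ _ _)

/-- the map `y → x ⊔ y → (x ⊔ y)/x` -/
noncomputable def secMap : (y : C) ⟶ cokernel (Subobject.ofLE x (x ⊔ y) le_sup_left) :=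
  Subobject.ofLE y (x ⊔ y) le_sup_right ≫ cokernel.π _

instance epi_secMap : Epi (secMap x y) := by
  apply Abelian.epi_of_cokernel_π_eq_zero
  set c := cokernel.π (secMap x y) with hc
  set ψ := cokernel.π (Subobject.ofLE x (x ⊔ y) le_sup_left) ≫ c with hψ
  have hx : x ≤ Subobject.mk (kernel.ι ψ ≫ (x ⊔ y).arrow) := by
    have h0 : Subobject.ofLE x (x ⊔ y) le_sup_left ≫ ψ = 0 := by
      rw [hψ, ← Category.assoc, cokernel.condition, zero_comp]
    exact Subobject.le_mk_of_comm (kernel.lift _ _ h0)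
      (by rw [← Category.assoc, kernel.lift_ι, Subobject.ofLE_arrow])
  have hy : y ≤ Subobject.mk (kernel.ι ψ ≫ (x ⊔ y).arrow) := by
    have h0 : Subobject.ofLE y (x ⊔ y) le_sup_right ≫ ψ = 0 := by
      rw [hψ, ← Category.assoc]
      exact cokernel.condition (secMap x y)
    exact Subobject.le_mk_of_comm (kernel.lift _ _ h0)
      (by rw [← Category.assoc, kernel.lift_ι, Subobject.ofLE_arrow])
  have hle := sup_le hx hy
  have hj : Subobject.ofLEMk _ _ hle ≫ kernel.ι ψ = 𝟙 _ := by
    rw [← cancel_mono (x ⊔ y).arrow, Category.assoc, Subobject.ofLEMk_comp, Category.id_comp]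
  have hψ0 : ψ = 0 := by
    rw [← Category.id_comp ψ, ← hj, Category.assoc, kernel.condition, comp_zero]
  rw [← cancel_epi (cokernel.π (Subobject.ofLE x (x ⊔ y) le_sup_left)), comp_zero]
  exact hψ0

theorem ofLE_inf_secMap : Subobject.ofLE (x ⊓ y) y inf_le_right ≫ secMap x y = 0 := by
  unfold secMap
  rw [← Category.assoc, Subobject.ofLE_comp_ofLE,
    ← Subobject.ofLE_comp_ofLE (x ⊓ y) x (x ⊔ y) inf_le_left le_sup_left, Category.assoc,
    cokernel.condition, comp_zero]

/-- `x ⊓ y → y` is a kernel of `y → (x ⊔ y)/x` -/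
noncomputable def isKernelSecMap :
    IsLimit (KernelFork.ofι (Subobject.ofLE (x ⊓ y) y inf_le_right) (ofLE_inf_secMap x y)) := by
  have key : ∀ {T : C} (t : T ⟶ (y : C)), t ≫ secMap x y = 0 →
      ∃ l : T ⟶ ((x ⊓ y : Subobject E) : C), l ≫ Subobject.ofLE (x ⊓ y) y inf_le_right = t := by
    intro T t ht
    have h1 : (t ≫ Subobject.ofLE y (x ⊔ y) le_sup_right) ≫
        cokernel.π (Subobject.ofLE x (x ⊔ y) le_sup_left) = 0 := by
      rw [Category.assoc]; exact ht
    obtain ⟨l, hl⟩ := exists_lift_of_comp_cokernel_π _ _ h1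
    have h2 : l ≫ x.arrow = t ≫ y.arrow := by
      rw [← Subobject.ofLE_arrow (le_sup_left : x ≤ x ⊔ y), ← Category.assoc, hl, Category.assoc,
        Subobject.ofLE_arrow]
    have h3 : (x ⊓ y).Factors (t ≫ y.arrow) := by
      rw [Subobject.inf_factors]
      exact ⟨(Subobject.factors_iff _ _).mpr ⟨l, h2⟩, (Subobject.factors_iff _ _).mpr ⟨t, rfl⟩⟩
    refine ⟨(x ⊓ y).factorThru _ h3, ?_⟩
    rw [← cancel_mono y.arrow, Category.assoc, Subobject.ofLE_arrow, Subobject.factorThru_arrow]
  exact KernelFork.IsLimit.ofι _ _ (fun {T} t ht => (key t ht).choose)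
    (fun {T} t ht => (key t ht).choose_spec)
    (fun {T} t ht m hm => by
      rw [← cancel_mono (Subobject.ofLE (x ⊓ y) y inf_le_right)]
      exact hm.trans (key t ht).choose_spec.symm)

/-- **second isomorphism theorem** `y/(x ⊓ y) ≅ (x ⊔ y)/x` -/
noncomputable def secondIso : cokernel (Subobject.ofLE (x ⊓ y) y inf_le_right) ≅
    cokernel (Subobject.ofLE x (x ⊔ y) le_sup_left) :=
  IsColimit.coconePointUniqueUpToIso (cokernelIsCokernel _)
    (Abelian.epiIsCokernelOfKernel _ (isKernelSecMap x y))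

end InfSup

end Groth.Agent.Lib.StabAbs67
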