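import Groth.Agent.Lib.EllHN97a
import Groth.Agent.Lib.StabAbs67A

/-!
# Quotients of sheaves filtered with `ℓ`-semistable factors (helper97)

* `series_good` : if all factors of a chain of subobjects starting at `⊥` are `QGood`, so is every term.
* `hn_chain` : in an `ℓ`-Harder–Narasimhan filtration the reduced truncated polynomials of the factors decrease.
-/

set_option autoImplicit false
set_option maxHeartbeats 400000
set_option linter.style.haveILetI false
universe u
open CategoryTheory CategoryTheory.Limits AlgebraicGeometry TopologicalSpace Polynomial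

namespace Groth.Agent.Lib.EllHN97

open Groth.Agent.Lib Groth.Agent.Lib.HilbPoly48 Groth.Agent.Lib.StabGeom48
  Groth.Agent.Lib.H90DevHub2 Groth.Agent.Lib.TopPart48 Groth.Agent.Lib.PosPoly48

variable (H : ProperFinHyp.Hyp.{u})
variable {k : Type u} [Field k] {X : Scheme.{u}} [X.Over (Spec (CommRingCat.of k))]
  [IsProper (X ↘ Spec (CommRingCat.of k))]
variable {L : X.Modules} {d ℓ : ℕ}

include H in
theorem series_good (hL : CohB1.IsAmple L) {E : X.Modules} (s : LTSeries (Subobject E)) (hhead : s.head = ⊥)
    {a : ℚ} {T : ℚ[X]} (hfac : ∀ j : Fin s.length, Coh.IsCoh (StabCat.factor s j))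
    (i : Fin (s.length + 1)) :
    (∀ j : Fin s.length, j.val < i.val → QGood k X L d ℓ a T (StabCat.factor s j)) →
      Coh.IsCoh ((s i : Subobject E) : X.Modules) ∧ QGood k X L d ℓ a T ((s i : Subobject E) : X.Modules) := by
  induction i using Fin.induction with
  | zero =>
    intro _
    have h0 : s 0 = ⊥ := hhead
    have hz : IsZero ((s 0 : Subobject E) : X.Modules) := (StabAbs67.eq_bot_iff_isZero _).mp h0
    exact ⟨isCoh_of_isZero hz, QGood_of_isZero hz⟩
  | succ j ih =>
    intro hgood
    obtain ⟨hc, hg⟩ := ih (fun j' hj' => hgood j' (by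
      have : (j.castSucc : Fin (s.length + 1)).val = j.val := rfl
      have : (j.succ : Fin (s.length + 1)).val = j.val + 1 := rfl
      omega))
    have hS := StabAbs67.shortExact_of_mono
      (Subobject.ofLE (s j.castSucc) (s j.succ) (le_of_lt (s.step j)))
    have hg₃ : QGood k X L d ℓ a T (StabCat.factor s j) := hgood j (by
      have : (j.succ : Fin (s.length + 1)).val = j.val + 1 := rfl
      omega)
    refine ⟨isCoh_of_shortExact hS hc (hfac j), ?_⟩
    have key := QGood_of_shortExact (a := a) (T := T) (d := d) (ℓ := ℓ) H hL _ hS hc hg hg₃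
    exact key

end Groth.Agent.Lib.EllHN97
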