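import Groth.Agent.Lib.EllHN97b

/-!
# The minimal `ℓ`-destabilising quotient (helper97)

* `hn_chain` : in an `ℓ`-Harder–Narasimhan filtration the reduced truncated polynomials of the factors decrease.
* `cokernelTopIso` : `y/x ≅ E/x` when `y = ⊤`.
-/

set_option autoImplicit false
set_option maxHeartbeats 400000
set_option linter.style.haveILetI false
universe u
open CategoryTheory CategoryTheory.Limits AlgebraicGeometry TopologicalSpace Polynomial

namespace Groth.Agent.Lib.EllHN97

open Groth.Agent.Lib Groth.Agent.Lib.HilbPoly48 Groth.Agent.Lib.StabGeom48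
  Groth.Agent.Lib.H90DevHub2 Groth.Agent.Lib.TopPart48 Groth.Agent.Lib.PosPoly48

variable {k : Type u} [Field k] {X : Scheme.{u}} [X.Over (Spec (CommRingCat.of k))]
variable {L : X.Modules} {d ℓ : ℕ}

/-- The tested polynomials of the `ℓ`-theory. -/
abbrev HPl (k : Type u) [Field k] (X : Scheme.{u}) [X.Over (Spec (CommRingCat.of k))] (L : X.Modules)
    (d ℓ : ℕ) : X.Modules → ℚ[X] → Prop :=
  fun G P => ∃ Q : Polynomial ℚ, ShStab.IsHilbPoly k X L G Q ∧ P = StabCat.topPart ℓ d Q

theorem hn_chain {E : X.Modules} (s : LTSeries (Subobject E))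
    (hs : ∀ (i j : Fin s.length), i.val + 1 = j.val →
      ∀ (p q : ℚ[X]), HPl k X L d ℓ (StabCat.factor s i) p → HPl k X L d ℓ (StabCat.factor s j) q →
        StabCat.RedLT d q p)
    (p : Fin s.length → ℚ[X]) (hp : ∀ j, ShStab.IsHilbPoly k X L (StabCat.factor s j) (p j))
    (ha : ∀ j, 0 < StabCat.alpha d (p j)) (n : ℕ) (hn : n < s.length) (j : Fin s.length) (hj : j.val ≤ n) :
    StabCat.PolyLE (StabCat.alpha d (p j) • StabCat.topPart ℓ d (p ⟨n, hn⟩))
      (StabCat.alpha d (p ⟨n, hn⟩) • StabCat.topPart ℓ d (p j)) := by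
  induction n with
  | zero =>
    have : j = ⟨0, hn⟩ := Fin.ext (by simpa using hj)
    rw [this]
    exact polyLE_refl _
  | succ n ih =>
    by_cases hjn : j.val = n + 1
    · have : j = ⟨n + 1, hn⟩ := Fin.ext hjn
      rw [this]
      exact polyLE_refl _
    · have hn' : n < s.length := by omega
      have h1 := ih hn' (by omega)
      have h2 := hs ⟨n, hn'⟩ ⟨n + 1, hn⟩ rfl _ _ ⟨p ⟨n, hn'⟩, hp _, rfl⟩ ⟨p ⟨n + 1, hn⟩, hp _, rfl⟩
      unfold StabCat.RedLT at h2
      rw [alpha_topPart, alpha_topPart] at h2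
      obtain ⟨N1, h1⟩ := h1
      obtain ⟨N2, h2⟩ := h2
      refine ⟨max N1 N2, fun m hm => ?_⟩
      have e1 := h1 m (le_of_max_le_left hm)
      have e2 := h2 m (le_of_max_le_right hm)
      simp only [eval_smul, smul_eq_mul] at e1 e2 ⊢
      have hpos := ha ⟨n, hn'⟩
      have haj := ha j
      have han := ha ⟨n + 1, hn⟩
      apply le_of_mul_le_mul_left _ hpos
      calc StabCat.alpha d (p ⟨n, hn'⟩) *
            (StabCat.alpha d (p j) * eval (m : ℚ) (StabCat.topPart ℓ d (p ⟨n + 1, hn⟩)))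
          = StabCat.alpha d (p j) * (StabCat.alpha d (p ⟨n, hn'⟩) *
            eval (m : ℚ) (StabCat.topPart ℓ d (p ⟨n + 1, hn⟩))) := by ring
        _ ≤ StabCat.alpha d (p j) * (StabCat.alpha d (p ⟨n + 1, hn⟩) *
            eval (m : ℚ) (StabCat.topPart ℓ d (p ⟨n, hn'⟩))) :=
          mul_le_mul_of_nonneg_left e2.le haj.le
        _ = StabCat.alpha d (p ⟨n + 1, hn⟩) * (StabCat.alpha d (p j) *
            eval (m : ℚ) (StabCat.topPart ℓ d (p ⟨n, hn'⟩))) := by ring
        _ ≤ StabCat.alpha d (p ⟨n + 1, hn⟩) * (StabCat.alpha d (p ⟨n, hn'⟩) *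
            eval (m : ℚ) (StabCat.topPart ℓ d (p j))) :=
          mul_le_mul_of_nonneg_left e1 han.le
        _ = _ := by ring

/-- `y/x ≅ E/x` for `y = ⊤`. -/
noncomputable def cokernelTopIso {E : X.Modules} {x y : Subobject E} (h : x ≤ y) (hy : y = ⊤) :
    cokernel (Subobject.ofLE x y h) ≅ cokernel x.arrow :=
  haveI : IsIso y.arrow := (Subobject.isIso_arrow_iff_eq_top y).mpr hy
  cokernel.mapIso (Subobject.ofLE x y h) x.arrow (Iso.refl _) (asIso y.arrow) (by
    simp)

section Main

variable (H : ProperFinHyp.Hyp.{u}) [IsProper (X ↘ Spec (CommRingCat.of k))]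

include H in
/-- The part of `E` below the last factor of an `ℓ`-HN filtration maps to zero in every pure quotient with the
invariants of the last factor. -/
theorem arrow_comp_eq_zero (hL : CohB1.IsAmple L) {E : X.Modules}
    (hp : ShStab.IsPure X E d) (hE : Coh.IsCoh E) (h0 : ¬ IsZero E)
    (s : LTSeries (Subobject E))
    (hs : StabCat.IsHNWith (fun G => ShStab.IsEllSemistable k X L G d ℓ) (HPl k X L d ℓ) d E s)
    (j₀ : Fin s.length) (hj₀ : j₀.val + 1 = s.length)
    {G : X.Modules} (q : E ⟶ G) [Epi q] (hG : Coh.IsCoh G) (hGp : ShStab.IsPure X G d)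
    {pF pG : ℚ[X]} (hpF : ShStab.IsHilbPoly k X L (StabCat.factor s j₀) pF)
    (hpG : ShStab.IsHilbPoly k X L G pG)
    (hα : StabCat.alpha d pF = StabCat.alpha d pG)
    (hred : StabCat.RedEq d (StabCat.topPart ℓ d pF) (StabCat.topPart ℓ d pG)) :
    (s j₀.castSucc).arrow ≫ q = 0 := by
  haveI := ParHilb48.isLocallyNoetherian k X
  obtain ⟨hhead, hlast, hss, hdec⟩ := hs
  set x := s j₀.castSucc with hx
  have htop : s j₀.succ = ⊤ := by
    rw [← hlast]
    exact congrArg s (Fin.ext (by simp [hj₀]))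
  -- Hilbert polynomials of the factors
  have hfc : ∀ j : Fin s.length, Coh.IsCoh (StabCat.factor s j) := fun j => (hss j).1
  choose p hp' using fun j : Fin s.length => StabGeomAx.exists_hp (k := k) H hL.1 (hfc j)
  have ha : ∀ j, 0 < StabCat.alpha d (p j) := fun j =>
    alpha_pos_of_isPure H k X hL (hss j).2.2.1 (𝟙 _) (hfc j) (hss j).2.1 (hp' j)
  have hpF' : pF = p j₀ := isHilbPoly_unique hpF (hp' j₀)
  have hdE := dim_of_isPure hp hE h0
  by_contra hne
  -- the image `N` of `x` in `G`
  set f := x.arrow ≫ q with hf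
  have hNz : ¬ IsZero (Abelian.image f) := by
    intro hz
    apply hne
    rw [← Abelian.image.fac f, hz.eq_of_tgt (Abelian.factorThruImage f) 0, Limits.zero_comp]
  haveI : G.IsQuasicoherent := hG.1
  rcases Nat.eq_zero_or_pos j₀.val with h00 | hpos
  · have hxb : x = ⊥ := by
      rw [hx, ← hhead]
      exact congrArg s (Fin.ext (by simp [h00]))
    have hz : IsZero ((x : Subobject E) : X.Modules) := (StabAbs67.eq_bot_iff_isZero x).mp hxb
    exact hne (hz.eq_of_src _ _)
  · set j₁ : Fin s.length := ⟨j₀.val - 1, by omega⟩ with hj₁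
    have hgood : ∀ j : Fin s.length, j.val < (j₀.castSucc).val →
        QGood k X L d ℓ (StabCat.alpha d (p j₁)) (StabCat.topPart ℓ d (p j₁)) (StabCat.factor s j) := by
      intro j hj
      have hself := QGood_self_of_isEllSemistable H hL (hss j) (hp' j)
      refine QGood.change_ref H hL (dim_of_isPure (hss j).2.2.1 (hfc j) (hss j).2.1).le (ha j) (ha j₁).le ?_
        hself
      exact hn_chain s hdec p hp' ha (j₀.val - 1) _ j (by
        have : (j₀.castSucc : Fin (s.length + 1)).val = j₀.val := rfl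
        omega)
    obtain ⟨hxc, hxg⟩ := series_good H hL s hhead hfc j₀.castSucc hgood
    haveI : ((x : Subobject E) : X.Modules).IsQuasicoherent := hxc.1
    have hN : Coh.IsCoh (Abelian.image f) := isCoh_kernel _ hG (H90OXModExact.isCoh_cokernel f hG)
    obtain ⟨pN, hpN⟩ := StabGeomAx.exists_hp (k := k) H hL.1 hN
    have haN : 0 < StabCat.alpha d pN :=
      alpha_pos_of_isPure H k X hL hGp (Abelian.image.ι f) hN hNz hpN
    -- (i) the lower bound
    have hi := hxg _ (Abelian.factorThruImage f) inferInstance hN pN hpN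
    -- (ii) the HN condition
    have hii := hdec j₁ j₀ (by simp only [hj₁]; omega) _ _ ⟨p j₁, hp' j₁, rfl⟩ ⟨p j₀, hp' j₀, rfl⟩
    unfold StabCat.RedLT at hii
    rw [alpha_topPart, alpha_topPart] at hii
    -- (iii) the upper bound
    haveI : (Abelian.image f).IsQuasicoherent := hN.1
    have hC : Coh.IsCoh (cokernel (Abelian.image.ι f)) := H90OXModExact.isCoh_cokernel _ hG
    obtain ⟨pC, hpC⟩ := StabGeomAx.exists_hp (k := k) H hL.1 hC
    have hsum : pG = pN + pC := isHilbPoly_unique hpG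
      (isHilbPoly_add H k X hL.1 _ (H90DevTwo.shortExact_cokernel (Abelian.image.ι f)) hN hG hC hpN hpC)
    have hzero : x.arrow ≫ (q ≫ cokernel.π (Abelian.image.ι f)) = 0 := by
      have h0' : (Abelian.factorThruImage f ≫ Abelian.image.ι f) ≫ cokernel.π (Abelian.image.ι f) = 0 := by
        rw [Category.assoc, cokernel.condition, Limits.comp_zero]
      rw [Abelian.image.fac] at h0'
      rw [← Category.assoc]
      exact h0'
    obtain ⟨ρ₀, hρ₀⟩ : ∃ ρ₀ : cokernel x.arrow ⟶ cokernel (Abelian.image.ι f),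
        cokernel.π x.arrow ≫ ρ₀ = q ≫ cokernel.π (Abelian.image.ι f) :=
      ⟨cokernel.desc x.arrow _ hzero, cokernel.π_desc _ _ _⟩
    haveI : Epi ρ₀ := by
      haveI : Epi (cokernel.π x.arrow ≫ ρ₀) := by rw [hρ₀]; infer_instance
      exact epi_of_epi (cokernel.π x.arrow) ρ₀
    have hiii := QGood_self_of_isEllSemistable H hL (hss j₀) hpF _
      ((cokernelTopIso (le_of_lt (s.step j₀)) htop).hom ≫ ρ₀) (epi_comp _ _) hC pC hpC
    -- the contradiction, pointwise
    subst hpF'
    obtain ⟨N1, hi⟩ := hi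
    obtain ⟨N2, hii⟩ := hii
    obtain ⟨N3, hiii⟩ := hiii
    have e1 := hi (max N1 (max N2 N3)) (le_max_left _ _)
    have e2 := hii (max N1 (max N2 N3)) ((le_max_left _ _).trans (le_max_right _ _))
    have e3 := hiii (max N1 (max N2 N3)) ((le_max_right _ _).trans (le_max_right _ _))
    have e4 := congrArg (eval ((max N1 (max N2 N3) : ℕ) : ℚ)) hred
    rw [alpha_topPart, alpha_topPart] at e4
    rw [hsum, topPart_add, alpha_add] at e4
    rw [hsum, alpha_add] at hα
    simp only [eval_smul, eval_add, smul_eq_mul] at e1 e2 e3 e4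
    have haF := ha j₀
    have ha1 := ha j₁
    set tN := eval ((max N1 (max N2 N3) : ℕ) : ℚ) (StabCat.topPart ℓ d pN)
    set tC := eval ((max N1 (max N2 N3) : ℕ) : ℚ) (StabCat.topPart ℓ d pC)
    set tF := eval ((max N1 (max N2 N3) : ℕ) : ℚ) (StabCat.topPart ℓ d (p j₀))
    set t1 := eval ((max N1 (max N2 N3) : ℕ) : ℚ) (StabCat.topPart ℓ d (p j₁))
    set aN := StabCat.alpha d pN
    set aC := StabCat.alpha d pC
    set aF := StabCat.alpha d (p j₀)
    set a1 := StabCat.alpha d (p j₁)
    -- `tF = tN + tC`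
    have h5 : tF = tN + tC := by
      rw [← hα] at e4
      exact mul_left_cancel₀ haF.ne' e4
    -- `aF * tN ≤ aN * (tN + tC)`
    have h6 : aF * tN ≤ aN * (tN + tC) := by
      rw [h5, hα] at e3
      rw [hα]
      nlinarith [e3]
    -- chain
    have h7 : aN * (a1 * (tN + tC)) < a1 * (aN * (tN + tC)) := by
      rw [h5] at e2
      calc aN * (a1 * (tN + tC)) < aN * (aF * t1) := mul_lt_mul_of_pos_left e2 haN
        _ = aF * (aN * t1) := by ring
        _ ≤ aF * (a1 * tN) := mul_le_mul_of_nonneg_left e1 haF.le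
        _ = a1 * (aF * tN) := by ring
        _ ≤ a1 * (aN * (tN + tC)) := mul_le_mul_of_nonneg_left h6 ha1.le
    exact absurd h7 (by rw [mul_left_comm]; exact lt_irrefl _)

include H in
/-- **S18973.** The minimal `ℓ`-destabilising quotient is unique among the pure quotients with its invariants. -/
theorem minDestab_unique (hL : CohB1.IsAmple L) {E : X.Modules}
    (hE : Coh.IsCoh E) (h0 : ¬ IsZero E) (hp : ShStab.IsPure X E d)
    (s : LTSeries (Subobject E))
    (hs : StabCat.IsHNWith (fun G => ShStab.IsEllSemistable k X L G d ℓ) (HPl k X L d ℓ) d E s)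
    {G : X.Modules} (q : E ⟶ G) [Epi q] (hG : Coh.IsCoh G) (hGp : ShStab.IsPure X G d)
    {pF pG : ℚ[X]} (hpF : ShStab.IsHilbPoly k X L (cokernel s.eraseLast.last.arrow) pF)
    (hpG : ShStab.IsHilbPoly k X L G pG)
    (hα : StabCat.alpha d pF = StabCat.alpha d pG)
    (hred : StabCat.RedEq d (StabCat.topPart ℓ d pF) (StabCat.topPart ℓ d pG)) :
    ∃ φ : (cokernel s.eraseLast.last.arrow) ≅ G, cokernel.π s.eraseLast.last.arrow ≫ φ.hom = q := by
  haveI := ParHilb48.isLocallyNoetherian k X
  have hlen : 0 < s.length := by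
    by_contra hlen
    have h1 : s.head = s.last := by
      unfold RelSeries.head RelSeries.last
      exact congrArg s (Fin.ext (by simp; omega))
    rw [hs.1, hs.2.1] at h1
    apply h0
    have hz : IsZero (((⊤ : Subobject E) : Subobject E) : X.Modules) :=
      (StabAbs67.eq_bot_iff_isZero _).mp h1.symm
    exact hz.of_iso (asIso (⊤ : Subobject E).arrow).symm
  set j₀ : Fin s.length := ⟨s.length.pred, Nat.pred_lt (ne_of_gt hlen)⟩ with hj₀def
  have hj₀ : j₀.val + 1 = s.length := Nat.succ_pred_eq_of_pos hlen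
  have hx : s.eraseLast.last = s j₀.castSucc := rfl
  rw [hx] at hpF ⊢
  have htop : s j₀.succ = ⊤ := by
    rw [← hs.2.1]
    exact congrArg s (Fin.ext (by simp [hj₀]))
  have e := cokernelTopIso (le_of_lt (s.step j₀)) htop
  have hss := hs.2.2.1 j₀
  have hpF' : ShStab.IsHilbPoly k X L (StabCat.factor s j₀) pF := isHilbPoly_congr e.symm hpF
  have hzero := arrow_comp_eq_zero H hL hp hE h0 s hs j₀ hj₀ q hG hGp hpF' hpG hα hred
  have hFc : Coh.IsCoh (cokernel (s j₀.castSucc).arrow) := CohLocal.isCoh_of_iso e hss.1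
  have hFp : ShStab.IsPure X (cokernel (s j₀.castSucc).arrow) d := isPure_of_iso e hss.2.2.1
  haveI : Epi (cokernel.desc (s j₀.castSucc).arrow q hzero) := by
    haveI : Epi (cokernel.π (s j₀.castSucc).arrow ≫ cokernel.desc (s j₀.castSucc).arrow q hzero) := by
      rw [cokernel.π_desc]; infer_instance
    exact epi_of_epi (cokernel.π (s j₀.castSucc).arrow) _
  have hK : Coh.IsCoh (kernel (cokernel.desc (s j₀.castSucc).arrow q hzero)) := isCoh_kernel _ hFc hG
  have hS : (ShortComplex.mk (kernel.ι (cokernel.desc (s j₀.castSucc).arrow q hzero))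
      (cokernel.desc (s j₀.castSucc).arrow q hzero) (kernel.condition _)).ShortExact :=
    { exact := ShortComplex.exact_kernel _ }
  have hPK := isHilbPoly_sub_right H k X hL.1 _ hS hK hFc hG hpF hpG
  have hKz : IsZero (kernel (cokernel.desc (s j₀.castSucc).arrow q hzero)) := by
    by_contra hKz
    have := alpha_pos_of_isPure H k X hL hFp (kernel.ι _) hK hKz hPK
    rw [alpha_sub, hα, sub_self] at this
    exact lt_irrefl _ this
  haveI : Mono (cokernel.desc (s j₀.castSucc).arrow q hzero) := Preadditive.mono_of_isZero_kernel _ hKz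
  haveI : IsIso (cokernel.desc (s j₀.castSucc).arrow q hzero) := isIso_of_mono_of_epi _
  exact ⟨asIso (cokernel.desc (s j₀.castSucc).arrow q hzero), cokernel.π_desc _ _ _⟩

end Main

end Groth.Agent.Lib.EllHN97
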