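import Groth.Agent.Lib.TensorALinH44
import Groth.Agent.Lib.HilbPoly48b
import Groth.Agent.Lib.CohLESLinear
import Groth.Agent.Lib.ProperFinHyp

/-!
# Endomorphisms of a "division" coherent module over an algebraically closed field are scalars

`X` proper over an algebraically closed field `k`, `L` ample, `E` coherent nonzero such that every nonzero
endomorphism of `E` is an isomorphism (e.g. `E` stable).  Then every endomorphism of `E` is multiplication by
a scalar `c ∈ k`:  `exists_eq_smulMod`.

Proof: choose `m` with `E(m)` globally generated, `V = H^0(X, E(m))` is a nonzero finite dimensional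
`k`-vector space, `Θ : End E → End_k V` is additive, multiplicative and sends `c` to `c`.  Take an eigenvalue
`a` of `Θ φ`; then `φ - a` is not an isomorphism (its image under `Θ` kills an eigenvector), hence zero.
-/

set_option autoImplicit false
set_option linter.style.haveILetI false
universe u
open CategoryTheory CategoryTheory.Limits AlgebraicGeometry

namespace Groth.Agent.Lib.EndScalar

open Groth.Agent.Lib

variable {X : Scheme.{u}}

theorem tensorRightMod_obj (F N : X.Modules) :
    (DCoh.tensorRightMod F).obj N = CohB1.tensorMod N F := rfl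

section Over

variable (k : Type u) [Field k] [X.Over (Spec (CommRingCat.of k))]

/-- the action of `End E` on `H^0(X, E ⊗ F)` -/
noncomputable def Θ (F : X.Modules) {E : X.Modules} (ψ : E ⟶ E) :
    Module.End k (Coh.HH X (CohB1.tensorMod E F) 0) :=
  CohLES.mapₗ k ((DCoh.tensorRightMod F).map ψ) 0

theorem Θ_apply (F : X.Modules) {E : X.Modules} (ψ : E ⟶ E) (x : Coh.HH X (CohB1.tensorMod E F) 0) :
    Θ k F ψ x = CohLES.map ((DCoh.tensorRightMod F).map ψ) 0 x := rfl

theorem Θ_id (F : X.Modules) (E : X.Modules) : Θ k F (𝟙 E) = LinearMap.id := by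
  ext x
  rw [Θ_apply, (DCoh.tensorRightMod F).map_id]
  exact CohLES.map_id _ 0 x

theorem Θ_comp (F : X.Modules) {E : X.Modules} (ψ χ : E ⟶ E) :
    Θ k F (ψ ≫ χ) = (Θ k F χ).comp (Θ k F ψ) := by
  ext x
  rw [Θ_apply, (DCoh.tensorRightMod F).map_comp]
  exact CohLES.map_comp _ _ 0 x

theorem Θ_sub (F : X.Modules) {E : X.Modules} (ψ χ : E ⟶ E) :
    Θ k F (ψ - χ) = Θ k F ψ - Θ k F χ := by
  ext x
  have h : ψ = (ψ - χ) + χ := by abel
  have h2 : Θ k F ψ x = Θ k F (ψ - χ) x + Θ k F χ x := by
    conv_lhs => rw [h]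
    rw [Θ_apply, (DCoh.tensorRightMod F).map_add]
    exact CohLES.map_add' _ _ 0 x
  rw [LinearMap.sub_apply, h2]
  abel

theorem Θ_smulMod (F : X.Modules) (E : X.Modules) (a : k) :
    Θ k F (Formal.smulMod k E a) = a • LinearMap.id := by
  ext x
  rw [Θ_apply]
  have h : (DCoh.tensorRightMod F).map (Formal.smulMod k E a) =
      Formal.smulMod k ((DCoh.tensorRightMod F).obj E) a :=
    TensorALinH44.tensorRightMod_map_mulHom F E _
  rw [h]
  rfl

end Over

variable (H : ProperFinHyp.Hyp.{u}) (k : Type u) [Field k] [IsAlgClosed k]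
  [X.Over (Spec (CommRingCat.of k))] [IsProper (X ↘ Spec (CommRingCat.of k))]

include H in
/-- **Schur's lemma.** -/
theorem exists_eq_smulMod {L : X.Modules} (hL : CohB1.IsAmple L) {E : X.Modules} (hE : Coh.IsCoh E)
    (h0 : ¬ IsZero E) (hdiv : ∀ ψ : E ⟶ E, ψ ≠ 0 → IsIso ψ) (φ : E ⟶ E) :
    ∃ c : k, φ = Formal.smulMod k E c := by
  haveI := EulerChar54.compactSpace_of_isProper k X
  obtain ⟨m, hm⟩ := H78GlobGen2.isGloballyGenerated_twist hL E hE
  have hg : Curv2.IsGloballyGenerated (ShStab.twist X L E m) := hm m le_rfl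
  set F := CohB1.tensorPow L m with hF
  haveI : Nontrivial (Coh.HH X (CohB1.tensorMod E F) 0) :=
    HilbPoly48.nontrivial_H0_of_isGloballyGenerated hg (HilbPoly48.not_isZero_twist hL.1 h0 m)
  have hLc : Coh.IsCoh F :=
    H90Invertible.isCoh_of_isInvertible (H78TensorGen.isInvertible_tensorPow hL.1 m)
  haveI := ParHilb48.isLocallyNoetherian k X
  haveI : Module.Finite k (Coh.HH X (CohB1.tensorMod E F) 0) :=
    H k X _ (CohFinAmple.isCoh_tensorMod hE hLc) 0
  obtain ⟨a, ha⟩ := Module.End.exists_eigenvalue (Θ k F φ)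
  obtain ⟨v, hv⟩ := ha.exists_hasEigenvector
  refine ⟨a, ?_⟩
  by_contra hne
  have hψ : φ - Formal.smulMod k E a ≠ 0 := fun h => hne (sub_eq_zero.1 h)
  haveI := hdiv _ hψ
  have hkill : Θ k F (φ - Formal.smulMod k E a) v = 0 := by
    rw [Θ_sub, Θ_smulMod, LinearMap.sub_apply, hv.apply_eq_smul]
    simp
  have hinv : (Θ k F (inv (φ - Formal.smulMod k E a))).comp (Θ k F (φ - Formal.smulMod k E a)) =
      LinearMap.id := by
    rw [← Θ_comp, IsIso.hom_inv_id, Θ_id]
  have : v = 0 := by
    have := congrArg (fun f => f v) hinv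
    simp only [LinearMap.comp_apply, hkill, map_zero, LinearMap.id_apply] at this
    exact this.symm
  exact hv.2 this

end Groth.Agent.Lib.EndScalar
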