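/-
Groth.Agent.Lib.TwistRegSES49 (helper49)

Twisting by `O(d)` on `P^n_T` (any base scheme `T`) is exact on `O`-modules, and the resulting long exact
sequence of higher direct images `Coh.RpushAb (KRR.pr n T)`:
* `isInvertible_twistOver`, `exists_twistOver_inverse`;
* `shortExact_twF`: `0 → F'(d) → F(d) → F''(d) → 0` is short exact;
* `shortExact_toAb_twF`: the same for the underlying abelian sheaves;
* `exact_Rpush_twF`: `R^i p_* F'(d) → R^i p_* F(d) → R^i p_* F''(d)` is exact;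
* `isZero_mid`: the middle term vanishes if the outer ones do.
-/
import Groth.Prelude.Def_KRR
import Groth.Agent.Lib.TwistEquiv
import Groth.Agent.Lib.H78Dual
import Groth.Agent.Lib.H4ProjSpaceCoh
import Groth.Agent.Lib.H90InvertiblePullback
import Groth.Agent.Lib.DerivedLES
import Groth.Agent.Lib.CohLES
import Groth.Agent.Lib.H78AtlasIso
import Groth.Agent.Lib.H4TwistUnit

set_option autoImplicit false
universe u

open CategoryTheory CategoryTheory.Limits AlgebraicGeometry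

namespace Groth.Agent.Lib.TwistRegSES49

section General

variable {X Y : Scheme.{u}} (f : X ⟶ Y)

instance preservesFiniteLimits_pushAb' : PreservesFiniteLimits (Coh.pushAb f) := by
  have : (Coh.pushAb f).IsRightAdjoint :=
    (TopCat.Sheaf.pullbackPushforwardAdjunction AddCommGrpCat.{u} f.base).isRightAdjoint
  infer_instance

variable {S : ShortComplex X.Modules} (hS : S.ShortExact)

/-- the short exact sequence of underlying abelian sheaves -/
noncomputable abbrev abS (S : ShortComplex X.Modules) :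
    ShortComplex (Sheaf (Opens.grothendieckTopology X) AddCommGrpCat.{u}) :=
  S.map (Groth.Agent.Lib.CohLES.toAbF X)

include hS in
theorem isZero_Rpush_mid (i : ℕ)
    (h₁ : IsZero ((Coh.RpushAb f i).obj (Coh.toAb S.X₁)))
    (h₃ : IsZero ((Coh.RpushAb f i).obj (Coh.toAb S.X₃))) :
    IsZero ((Coh.RpushAb f i).obj (Coh.toAb S.X₂)) :=
  ((Groth.Agent.Lib.DerivedLES.derivedLES (Coh.pushAb f)).exact₂ (abS S)
    (Groth.Agent.Lib.CohLES.shortExact_toAb hS) i).isZero_of_both_zeros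
      (h₁.eq_of_src _ _) (h₃.eq_of_tgt _ _)

include hS in
theorem isZero_Rpush_right (i : ℕ)
    (h₂ : IsZero ((Coh.RpushAb f i).obj (Coh.toAb S.X₂)))
    (h₁ : IsZero ((Coh.RpushAb f (i + 1)).obj (Coh.toAb S.X₁))) :
    IsZero ((Coh.RpushAb f i).obj (Coh.toAb S.X₃)) :=
  ((Groth.Agent.Lib.DerivedLES.derivedLES (Coh.pushAb f)).exact₃ (abS S)
    (Groth.Agent.Lib.CohLES.shortExact_toAb hS) i (i + 1) rfl).isZero_of_both_zeros
      (h₂.eq_of_src _ _) (h₁.eq_of_tgt _ _)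

include hS in
theorem isZero_Rpush_left (i : ℕ)
    (h₃ : IsZero ((Coh.RpushAb f i).obj (Coh.toAb S.X₃)))
    (h₂ : IsZero ((Coh.RpushAb f (i + 1)).obj (Coh.toAb S.X₂))) :
    IsZero ((Coh.RpushAb f (i + 1)).obj (Coh.toAb S.X₁)) :=
  ((Groth.Agent.Lib.DerivedLES.derivedLES (Coh.pushAb f)).exact₁ (abS S)
    (Groth.Agent.Lib.CohLES.shortExact_toAb hS) i (i + 1) rfl).isZero_of_both_zeros
      (h₃.eq_of_src _ _) (h₂.eq_of_tgt _ _)

include hS in
/-- if `f_* X₂ → f_* X₃` is an epimorphism of `O_Y`-modules and `R¹f_* X₂ = 0` then `R¹f_* X₁ = 0` -/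
theorem isZero_Rpush_one_left_of_epi
    (hepi : Epi ((Scheme.Modules.pushforward f).map S.g))
    (h₂ : IsZero ((Coh.RpushAb f 1).obj (Coh.toAb S.X₂))) :
    IsZero ((Coh.RpushAb f 1).obj (Coh.toAb S.X₁)) := by
  let L := Groth.Agent.Lib.DerivedLES.derivedLES (Coh.pushAb f)
  have hSab := Groth.Agent.Lib.CohLES.shortExact_toAb hS
  -- the map `f_* X₂ → f_* X₃` of abelian sheaves is an epimorphism
  have hepi1 : Epi ((Groth.Agent.Lib.CohLES.toAbF Y).map ((Scheme.Modules.pushforward f).map S.g)) :=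
    inferInstance
  have hepi2 : Epi ((Coh.pushAb f).map ((Groth.Agent.Lib.CohLES.toAbF X).map S.g)) := hepi1
  have hepi3 : Epi (((Coh.pushAb f).rightDerived 0).map ((Groth.Agent.Lib.CohLES.toAbF X).map S.g)) := by
    have hnat := (Coh.pushAb f).rightDerivedZeroIsoSelf.hom.naturality
      ((Groth.Agent.Lib.CohLES.toAbF X).map S.g)
    have : ((Coh.pushAb f).rightDerived 0).map ((Groth.Agent.Lib.CohLES.toAbF X).map S.g) =
        (Coh.pushAb f).rightDerivedZeroIsoSelf.hom.app _ ≫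
          (Coh.pushAb f).map ((Groth.Agent.Lib.CohLES.toAbF X).map S.g) ≫
          (Coh.pushAb f).rightDerivedZeroIsoSelf.inv.app _ := by
      rw [← Category.assoc, ← hnat, Category.assoc, Iso.hom_inv_id_app, Category.comp_id]
    rw [this]
    infer_instance
  have hδ : L.δ (abS S) hSab 0 1 rfl = 0 := by
    have h := L.comp_δ (abS S) hSab 0 1 rfl
    haveI : Epi (((Coh.pushAb f).rightDerived 0).map (abS S).g) := hepi3
    exact (cancel_epi (((Coh.pushAb f).rightDerived 0).map (abS S).g)).1 (h.trans comp_zero.symm)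
  refine (L.exact₁ (abS S) hSab 0 1 rfl).isZero_of_both_zeros hδ (h₂.eq_of_tgt _ _)

end General

variable (n : ℕ) (T : Scheme.{u})

theorem isInvertible_twistOver (d : ℤ) : PicF.IsInvertible (Twist.twistOver n T d) :=
  Groth.Agent.Lib.H90Invertible.isInvertible_pullback _
    (Groth.Agent.Lib.H4Twist.isInvertible_twistProjSpace n (ULift.{u} ℤ) d)

theorem exists_twistOver_inverse (d : ℤ) :
    ∃ M' : (KRR.PY n T).Modules,
      Nonempty (CohB1.tensorMod (Twist.twistOver n T d) M' ≅ Coh.structureModule (KRR.PY n T)) := by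
  obtain ⟨M', -, ⟨e⟩⟩ := Groth.Agent.Lib.H78Dual.exists_tensor_inverse (isInvertible_twistOver n T d)
  exact ⟨M', ⟨Groth.Agent.Lib.OXModTensor.braiding _ _ ≪≫ e⟩⟩

/-- `DCoh.tensorBi.obj M` is helper42's `tensorLeftFunctor M` -/
noncomputable def tensorBiObjIso {X : Scheme.{u}} (M : X.Modules) :
    (DCoh.tensorBi (X := X)).obj M ≅ Groth.Agent.Lib.OXModTensor.tensorLeftFunctor M :=
  NatIso.ofComponents (fun _ => Iso.refl _) (by
    intro N N' g
    simp only [Iso.refl_hom]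
    refine (Category.comp_id _).trans (Eq.trans ?_ (Category.id_comp _).symm)
    rw [Groth.Agent.Lib.OXModTensor.tensorLeftFunctor_map]
    change _ = (Groth.Agent.Lib.OXModTensor.locData X).tensMap (𝟙 M) g
    unfold Groth.Agent.Lib.MonLoc.LocData.tensMap
    rw [CategoryTheory.Functor.map_id, MonoidalCategory.id_tensorHom]
    rfl)

/-- twisting by `O(d)` is exact -/
theorem shortExact_twF (d : ℤ) {S : ShortComplex (KRR.PY n T).Modules} (hS : S.ShortExact) :
    (S.map ((DCoh.tensorBi (X := KRR.PY n T)).obj (Twist.twistOver n T d))).ShortExact := by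
  obtain ⟨M', ⟨e⟩⟩ := exists_twistOver_inverse n T d
  have h := Groth.Agent.Lib.TwistEquiv.shortExact_map_tensorLeft e hS
  exact ShortComplex.shortExact_of_iso
    (S.mapNatIso (tensorBiObjIso (Twist.twistOver n T d))).symm h

/-- the long exact sequence of higher direct images, middle exactness, for the twisted sequence -/
theorem exact_Rpush_twF (d : ℤ) {S : ShortComplex (KRR.PY n T).Modules} (hS : S.ShortExact) (i : ℕ) :
    (ShortComplex.mk
      ((Coh.RpushAb (KRR.pr n T) i).map ((Groth.Agent.Lib.CohLES.toAbF _).map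
        (((DCoh.tensorBi (X := KRR.PY n T)).obj (Twist.twistOver n T d)).map S.f)))
      ((Coh.RpushAb (KRR.pr n T) i).map ((Groth.Agent.Lib.CohLES.toAbF _).map
        (((DCoh.tensorBi (X := KRR.PY n T)).obj (Twist.twistOver n T d)).map S.g)))
      (by rw [← Functor.map_comp, ← Functor.map_comp, ← Functor.map_comp, S.zero, Functor.map_zero,
        Functor.map_zero, Functor.map_zero])).Exact := by
  have h1 := shortExact_twF n T d hS
  have h2 := Groth.Agent.Lib.CohLES.shortExact_toAb h1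
  exact (Groth.Agent.Lib.DerivedLES.derivedLES (Coh.pushAb (KRR.pr n T))).exact₂ _ h2 i

/-- if the outer terms of `R^i p_*` of the twisted sequence vanish, so does the middle one -/
theorem isZero_mid (d : ℤ) (S : ShortComplex (KRR.PY n T).Modules) (hS : S.ShortExact) (i : ℕ)
    (h₁ : IsZero ((Coh.RpushAb (KRR.pr n T) i).obj (Coh.toAb (KRR.twF n T d S.X₁))))
    (h₃ : IsZero ((Coh.RpushAb (KRR.pr n T) i).obj (Coh.toAb (KRR.twF n T d S.X₃)))) :
    IsZero ((Coh.RpushAb (KRR.pr n T) i).obj (Coh.toAb (KRR.twF n T d S.X₂))) :=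
  (exact_Rpush_twF n T d hS i).isZero_of_both_zeros (h₁.eq_of_src _ _) (h₃.eq_of_tgt _ _)

section Calculus

open Groth.Agent.Lib.H4Twist in
/-- `O(a) ⊗ O(b) ≅ O(a+b)` on `P^n_R` -/
theorem nonempty_twistProjSpace_mul (R : Type u) [CommRing R] (a b : ℤ) :
    Nonempty (CohB1.tensorMod (Twist.twistProjSpace n R a) (Twist.twistProjSpace n R b) ≅
      Twist.twistProjSpace n R (a + b)) :=
  ⟨twistMulIso_of_cover (CohB1.polyGrading n R) (fun x => by
    obtain ⟨i, hi⟩ := exists_X_notMem (n := n) (R := R) x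
    exact ⟨MvPolynomial.X i, ProjSpaceCover.X_mem n R i, hi⟩) a b⟩

/-- `O(a) ⊗ O(b) ≅ O(a+b)` on `P^n_T` -/
theorem nonempty_twistOver_mul (a b : ℤ) :
    Nonempty (CohB1.tensorMod (Twist.twistOver n T a) (Twist.twistOver n T b) ≅
      Twist.twistOver n T (a + b)) := by
  obtain ⟨e⟩ := nonempty_twistProjSpace_mul n (ULift.{u} ℤ) a b
  obtain ⟨e'⟩ := Groth.Agent.Lib.H78AtlasIso.nonempty_pullback_tensorMod_iso
    (pullback.fst (CohB1.ProjSpace.toSpec n (ULift.{u} ℤ)) (specULiftZIsTerminal.from T))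
    (Groth.Agent.Lib.H4Twist.isInvertible_twistProjSpace n (ULift.{u} ℤ) a)
    (Groth.Agent.Lib.H4Twist.isInvertible_twistProjSpace n (ULift.{u} ℤ) b)
  exact ⟨e'.symm ≪≫ (Scheme.Modules.pullback _).mapIso e⟩

/-- `O(0) ≅ O` on `P^n_T` -/
theorem nonempty_twistOver_zero :
    Nonempty (Twist.twistOver n T 0 ≅ Coh.structureModule (KRR.PY n T)) := by
  obtain ⟨e⟩ := Groth.Agent.Lib.H4Twist.nonempty_twistZeroIso (CohB1.polyGrading n (ULift.{u} ℤ))
  exact ⟨(Scheme.Modules.pullback _).mapIso e ≪≫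
    (Groth.Agent.Lib.ModPullback.pullbackUnitIso _).symm⟩

/-- `F(b)(a) ≅ F(a+b)` -/
theorem nonempty_twF_twF (a b : ℤ) (F : (KRR.PY n T).Modules) :
    Nonempty (KRR.twF n T a (KRR.twF n T b F) ≅ KRR.twF n T (a + b) F) := by
  obtain ⟨e⟩ := nonempty_twistOver_mul n T a b
  exact ⟨(Groth.Agent.Lib.OXModTensor.associator _ _ _).symm ≪≫
    Groth.Agent.Lib.OXModTensor.tensorModIso e (Iso.refl F)⟩

/-- `F(0) ≅ F` -/
theorem nonempty_twF_zero (F : (KRR.PY n T).Modules) :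
    Nonempty (KRR.twF n T 0 F ≅ F) := by
  obtain ⟨e⟩ := nonempty_twistOver_zero n T
  exact ⟨Groth.Agent.Lib.OXModTensor.tensorModIso e (Iso.refl F) ≪≫
    Groth.Agent.Lib.OXModTensor.leftUnitor F⟩

/-- `F(d) ≅ F(d')` for `d = d'` -/
theorem nonempty_twF_congr {d d' : ℤ} (h : d = d') (F : (KRR.PY n T).Modules) :
    Nonempty (KRR.twF n T d F ≅ KRR.twF n T d' F) := by
  subst h
  exact ⟨Iso.refl _⟩

/-- vanishing of `R^i p_*` transports along isomorphisms of modules -/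
theorem isZero_Rpush_of_iso {F G : (KRR.PY n T).Modules} (e : F ≅ G) (i : ℕ)
    (h : IsZero ((Coh.RpushAb (KRR.pr n T) i).obj (Coh.toAb F))) :
    IsZero ((Coh.RpushAb (KRR.pr n T) i).obj (Coh.toAb G)) :=
  h.of_iso ((Coh.RpushAb (KRR.pr n T) i).mapIso ((Groth.Agent.Lib.CohLES.toAbF _).mapIso e)).symm

/-- `F(b)(a) ≅ F(c)` for `a + b = c` -/
theorem nonempty_twF_twF' {a b c : ℤ} (h : a + b = c) (F : (KRR.PY n T).Modules) :
    Nonempty (KRR.twF n T a (KRR.twF n T b F) ≅ KRR.twF n T c F) := by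
  subst h
  exact nonempty_twF_twF n T a b F

/-- `F(b)(a) ≅ F` for `a + b = 0` -/
theorem nonempty_twF_twF_zero {a b : ℤ} (h : a + b = 0) (F : (KRR.PY n T).Modules) :
    Nonempty (KRR.twF n T a (KRR.twF n T b F) ≅ F) := by
  obtain ⟨e⟩ := nonempty_twF_twF' n T h F
  obtain ⟨e'⟩ := nonempty_twF_zero n T F
  exact ⟨e ≪≫ e'⟩

end Calculus

section Regular

variable {n T} {S : ShortComplex (KRR.PY n T).Modules} (hS : S.ShortExact)

include hS in
/-- S19431 -/
theorem isRegSheaf_X₂ (hreg₁ : KRR.IsRegSheaf n T S.X₁) (hreg₃ : KRR.IsRegSheaf n T S.X₃) :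
    KRR.IsRegSheaf n T S.X₂ := by
  intro i hi
  exact isZero_Rpush_mid (KRR.pr n T) (shortExact_twF n T (-(i : ℤ)) hS) i (hreg₁ i hi) (hreg₃ i hi)

include hS in
/-- S19432 -/
theorem isRegSheaf_X₃ (hreg₂ : KRR.IsRegSheaf n T S.X₂)
    (hreg₁ : KRR.IsRegSheaf n T (KRR.twF n T 1 S.X₁)) : KRR.IsRegSheaf n T S.X₃ := by
  intro i hi
  refine isZero_Rpush_right (KRR.pr n T) (shortExact_twF n T (-(i : ℤ)) hS) i (hreg₂ i hi) ?_
  obtain ⟨e⟩ := nonempty_twF_twF' n T (a := -((i + 1 : ℕ) : ℤ)) (b := 1) (c := -(i : ℤ))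
    (by push_cast; ring) S.X₁
  exact isZero_Rpush_of_iso n T e (i + 1) (hreg₁ (i + 1) (by omega))

include hS in
/-- S19433 -/
theorem isRegSheaf_twF_one_X₁ (hreg₂ : KRR.IsRegSheaf n T (KRR.twF n T 1 S.X₂))
    (hreg₃ : KRR.IsRegSheaf n T S.X₃)
    (hepi : Epi ((Scheme.Modules.pushforward (KRR.pr n T)).map S.g)) :
    KRR.IsRegSheaf n T (KRR.twF n T 1 S.X₁) := by
  intro i hi
  obtain rfl | hi2 : i = 1 ∨ 2 ≤ i := by omega
  · obtain ⟨e₂⟩ := nonempty_twF_twF_zero n T (a := -((1 : ℕ) : ℤ)) (b := 1) (by simp) S.X₂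
    obtain ⟨e₁⟩ := nonempty_twF_twF_zero n T (a := -((1 : ℕ) : ℤ)) (b := 1) (by simp) S.X₁
    have h₂ : IsZero ((Coh.RpushAb (KRR.pr n T) 1).obj (Coh.toAb S.X₂)) :=
      isZero_Rpush_of_iso n T e₂ 1 (hreg₂ 1 le_rfl)
    have h₁ := isZero_Rpush_one_left_of_epi (KRR.pr n T) hS hepi h₂
    exact isZero_Rpush_of_iso n T e₁.symm 1 h₁
  · obtain ⟨j, rfl⟩ : ∃ j, i = j + 2 := ⟨i - 2, by omega⟩
    obtain ⟨e₂⟩ := nonempty_twF_twF' n T (a := -((j + 2 : ℕ) : ℤ)) (b := 1) (c := -((j + 1 : ℕ) : ℤ))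
      (by push_cast; ring) S.X₂
    obtain ⟨e₁⟩ := nonempty_twF_twF' n T (a := -((j + 2 : ℕ) : ℤ)) (b := 1) (c := -((j + 1 : ℕ) : ℤ))
      (by push_cast; ring) S.X₁
    have h₂ : IsZero ((Coh.RpushAb (KRR.pr n T) (j + 1 + 1)).obj
        (Coh.toAb (KRR.twF n T (-((j + 1 : ℕ) : ℤ)) S.X₂))) :=
      isZero_Rpush_of_iso n T e₂ (j + 2) (hreg₂ (j + 2) (by omega))
    have h₁ := isZero_Rpush_left (KRR.pr n T) (shortExact_twF n T (-((j + 1 : ℕ) : ℤ)) hS) (j + 1)
      (hreg₃ (j + 1) (by omega)) h₂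
    exact isZero_Rpush_of_iso n T e₁.symm (j + 2) h₁

end Regular

end Groth.Agent.Lib.TwistRegSES49
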