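import Groth.Agent.Lib.BinomBasis13
import Groth.Agent.Lib.TwistRegSES49
import Groth.Agent.Lib.SnapCoeff13
import Groth.Agent.Lib.ProjSpaceProper
import Groth.Agent.Lib.H90InvertiblePullback
import Groth.Prelude.Def_Pic13

/-!
# Hilbert polynomials of invertible modules on closed subschemes of `P^n_k` in the binomial basis (helper13)

`i : X ⟶ P^n_k`, `F(d) = F ⊗ i^* O(d)` (`Pic13.twistOn`).
* `c k i d` : the class of `i^* O(d)`; `c_add`, `c_zero`, `c_natCast`, `c_one_mul_neg_one`, `cls_twistOn`.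
* `eulerCharLE_twistOn_eq_sum` : `χ(F(m)) = Σ_{j ≤ r} (b_j - b_{j+1}) C(m + j, j)` with `b_j = (O_X(1)^j ; F)`.
* `hilb_coeff` (= S5644).
-/

set_option autoImplicit false
universe u
open CategoryTheory CategoryTheory.Limits AlgebraicGeometry

namespace Groth.Agent.Lib.HilbBinom13

open Groth.Agent.Lib Groth.Agent.Lib.IsoCls13 Groth.Agent.Lib.IntNumAlg13 CohB1

section Classes

variable (k : Type u) [Field k] {n : ℕ} {X : Scheme.{u}} (i : X ⟶ CohB1.ProjSpace n k)

/-- `i^* O(d)` -/
noncomputable abbrev OX (d : ℤ) : X.Modules :=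
  (Scheme.Modules.pullback i).obj (Twist.twistProjSpace n k d)

theorem isInvertible_OX (d : ℤ) : PicF.IsInvertible (OX k i d) :=
  H90Invertible.isInvertible_pullback i (H4Twist.isInvertible_twistProjSpace n k d)

/-- the class of `i^* O(d)` -/
noncomputable def c (d : ℤ) : Cls X := cls (OX k i d)

theorem c_add (a b : ℤ) : c k i (a + b) = c k i a * c k i b := by
  obtain ⟨e⟩ := TwistRegSES49.nonempty_twistProjSpace_mul n k a b
  obtain ⟨e'⟩ := H78AtlasIso.nonempty_pullback_tensorMod_iso i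
    (H4Twist.isInvertible_twistProjSpace n k a) (H4Twist.isInvertible_twistProjSpace n k b)
  unfold c
  rw [← cls_tensorMod]
  exact cls_eq_of_iso ((Scheme.Modules.pullback i).mapIso e.symm ≪≫ e')

theorem c_zero : c k i 0 = 1 := by
  obtain ⟨e⟩ := H4Twist.nonempty_twistZeroIso (CohB1.polyGrading n k)
  unfold c
  rw [← cls_one]
  exact cls_eq_of_iso ((Scheme.Modules.pullback i).mapIso e ≪≫ (ModPullback.pullbackUnitIso i).symm)

theorem c_natCast (m : ℕ) : c k i (m : ℤ) = c k i 1 ^ m := by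
  induction m with
  | zero => simpa using c_zero k i
  | succ m ih => rw [Nat.cast_succ, c_add, ih, pow_succ]

theorem c_one_mul_neg_one : c k i 1 * c k i (-1) = 1 := by
  rw [← c_add]; simpa using c_zero k i

theorem cls_twistOn (F : X.Modules) (d : ℤ) : cls (Pic13.twistOn k i F d) = cls F * c k i d := rfl

end Classes

section Main

open Groth.Agent.Lib.BinomBasis13 Finset

variable (k : Type u) [Field k] {n : ℕ} {X : Scheme.{u}} [X.Over (Spec (CommRingCat.of k))]
  [IsProper (X ↘ Spec (CommRingCat.of k))] (i : X ⟶ CohB1.ProjSpace n k)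

/-- `b_j(F) = (O_X(1)^j ; F)` -/
noncomputable def bnum (D : ℕ) (F : X.Modules) (j : ℕ) : ℤ :=
  FGA.intNum k X D (fun _ : Fin j => OX k i (-1)) F

omit [IsProper (X ↘ Spec (CommRingCat.of k))] in
theorem bnum_eq_lin (D : ℕ) (F : X.Modules) (j : ℕ) :
    bnum k i D F j = lin k D ((1 - br (OX k i (-1))) ^ j * br F) := by
  unfold bnum
  rw [intNum_eq_lin, Finset.prod_const, Finset.card_univ, Fintype.card_fin]

theorem bnum_eq_zero (D : ℕ) (hD : topologicalKrullDim X ≤ D) {F : X.Modules} (hF : Coh.IsCoh F)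
    {r : ℕ} (hr : topologicalKrullDim (CohB1.support F) ≤ (r : WithBot ℕ∞)) {j : ℕ} (hj : r < j) :
    bnum k i D F j = 0 :=
  IntNumCalc13.intNum_eq_zero_of_dim_lt DegTensor13.snapperHyp k D hD _ (fun _ => isInvertible_OX k i (-1))
    F hF (lt_of_le_of_lt hr (by exact_mod_cast hj))

/-- **Hilbert polynomial in the binomial basis.** -/
theorem eulerCharLE_twistOn (D : ℕ) (hD : topologicalKrullDim X ≤ D) {F : X.Modules} (hF : Coh.IsCoh F)
    (r : ℕ) (hr : topologicalKrullDim (CohB1.support F) ≤ (r : WithBot ℕ∞)) (m : ℕ) :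
    FGA.eulerCharLE k X (Pic13.twistOn k i F m) D =
      ∑ j ∈ range (r + 1), (bnum k i D F j - bnum k i D F (j + 1)) * ((m + j).choose j : ℤ) := by
  have hLM : Nonempty (tensorMod (OX k i 1) (OX k i (-1)) ≅ Coh.structureModule X) := by
    apply cls_eq_iff.1
    rw [cls_tensorMod, cls_one]
    exact c_one_mul_neg_one k i
  have h1 : FGA.eulerCharLE k X (Pic13.twistOn k i F m) D =
      FGA.eulerCharLE k X (tensorMod (tensorPow (OX k i 1) m) F) D := by
    rw [← chi_cls, ← chi_cls, cls_twistOn, cls_tensorMod, cls_tensorPow, c_natCast, mul_comm]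
    rfl
  rw [h1, IntNumCalc13.eulerCharLE_tensorPow_eq_sum DegTensor13.snapperHyp k D hD (OX k i 1) (OX k i (-1))
    (isInvertible_OX k i 1) hLM F hF r hr m, sum_sub_succ_mul_choose,
    bnum_eq_zero k i D hD hF hr (Nat.lt_succ_self r), zero_mul, sub_zero]
  rfl

/-- the coefficients in the binomial basis are determined -/
theorem coeff_eq (D : ℕ) (hD : topologicalKrullDim X ≤ D) {F : X.Modules} (hF : Coh.IsCoh F)
    (r : ℕ) (hr : topologicalKrullDim (CohB1.support F) ≤ (r : WithBot ℕ∞)) (a : Fin (r + 1) → ℤ)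
    (ha : ∀ m : ℕ, FGA.eulerCharLE k X (Pic13.twistOn k i F m) D =
      ∑ j : Fin (r + 1), a j * ((m + j).choose j : ℤ)) (j : Fin (r + 1)) :
    a j = bnum k i D F j - bnum k i D F (j + 1) := by
  have h := binom_coeff_unique r a (fun j => bnum k i D F j - bnum k i D F (j + 1)) (fun m => by
    rw [← ha m, eulerCharLE_twistOn k i D hD hF r hr m,
      Fin.sum_univ_eq_sum_range (fun j => (bnum k i D F j - bnum k i D F (j + 1)) *
        ((m + j).choose j : ℤ)) (r + 1)])
  exact congrFun h j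

/-- **Leading coefficients of the Hilbert polynomial of an invertible module** (= S5644). -/
theorem hilb_coeff (s : ℕ) (hdim : topologicalKrullDim X ≤ ((s + 1 : ℕ) : WithBot ℕ∞))
    (L L' : X.Modules) (hL : PicF.IsInvertible L)
    (hLL' : Nonempty (tensorMod L L' ≅ Coh.structureModule X)) (a e : Fin (s + 2) → ℤ)
    (ha : ∀ m : ℕ, FGA.eulerCharLE k X (Pic13.twistOn k i L m) (s + 1) =
      ∑ j : Fin (s + 2), a j * ((m + j).choose j : ℤ))
    (he : ∀ m : ℕ, FGA.eulerCharLE k X (Pic13.twistOn k i (Coh.structureModule X) m) (s + 1) =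
      ∑ j : Fin (s + 2), e j * ((m + j).choose j : ℤ)) :
    a (Fin.last (s + 1)) = e (Fin.last (s + 1)) ∧
      a (Fin.last (s + 1)) = FGA.intNum k X (s + 1) (fun _ : Fin (s + 1) => OX k i (-1))
        (Coh.structureModule X) ∧
      a (Fin.castSucc (Fin.last s)) - e (Fin.castSucc (Fin.last s)) = FGA.intNum k X (s + 1)
        (Matrix.vecCons L' (fun _ : Fin s => OX k i (-1))) (Coh.structureModule X) := by
  have := EulerLE48.isLocallyNoetherian k X
  have hLc : Coh.IsCoh L := H90Invertible.isCoh_of_isInvertible hL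
  have hOc : Coh.IsCoh (Coh.structureModule X) := CohFinAmple.isCoh_structureModule X
  have hL' : PicF.IsInvertible L' := IntNumCalc13.isInvertible_of_tensor_iso hL hLL'
  have hLdim : topologicalKrullDim (CohB1.support L) ≤ ((s + 1 : ℕ) : WithBot ℕ∞) :=
    (DegTensor13.topologicalKrullDim_set_le _).trans hdim
  have hOdim : topologicalKrullDim (CohB1.support (Coh.structureModule X)) ≤
      ((s + 1 : ℕ) : WithBot ℕ∞) := (DegTensor13.topologicalKrullDim_set_le _).trans hdim
  have hμ := isInvertible_OX k i (-1)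
  obtain ⟨eiso⟩ := hLL'
  set μ := br (OX k i (-1)) with hμdef
  set l := br L with hl
  set l' := br L' with hl'
  have hll' : l * l' = 1 := by rw [hl, hl', ← br_tensorMod, br_eq_of_iso eiso, br_structureModule]
  have hlS : l ∈ Small X (s + 1) := br_mem_Small hLc hLdim
  -- vanishing of `(s+2)`-fold products
  have hv1 : lin k (s + 1) ((1 - l') * (1 - μ) ^ (s + 1) * l) = 0 := by
    have h := lin_prod_one_sub_mul_eq_zero DegTensor13.snapperHyp k (s + 1) hdim
      (Fin.cons L' (fun _ : Fin (s + 1) => OX k i (-1)) : Fin (s + 2) → X.Modules)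
      (Fin.cases hL' (fun _ => hμ)) (r := s + 1) (by omega) hlS
    rw [Fin.prod_univ_succ] at h
    simp only [Fin.cons_zero, Fin.cons_succ, Finset.prod_const, Finset.card_univ,
      Fintype.card_fin] at h
    exact h
  have hv2 : lin k (s + 1) ((1 - l') * ((1 - l') * (1 - μ) ^ s) * l) = 0 := by
    have h := lin_prod_one_sub_mul_eq_zero DegTensor13.snapperHyp k (s + 1) hdim
      (Fin.cons L' (Fin.cons L' (fun _ : Fin s => OX k i (-1))) : Fin (s + 2) → X.Modules)
      (Fin.cases hL' (Fin.cases hL' (fun _ => hμ))) (r := s + 1) (by omega) hlS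
    rw [Fin.prod_univ_succ, Fin.prod_univ_succ] at h
    simp only [Fin.cons_zero, Fin.cons_succ, Finset.prod_const, Finset.card_univ,
      Fintype.card_fin] at h
    exact h
  -- the coefficients
  have haL := coeff_eq k i (s + 1) hdim hLc (s + 1) hLdim a ha
  have heO := coeff_eq k i (s + 1) hdim hOc (s + 1) hOdim e he
  have hzL : bnum k i (s + 1) L (s + 1 + 1) = 0 :=
    bnum_eq_zero k i (s + 1) hdim hLc hLdim (Nat.lt_succ_self _)
  have hzO : bnum k i (s + 1) (Coh.structureModule X) (s + 1 + 1) = 0 :=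
    bnum_eq_zero k i (s + 1) hdim hOc hOdim (Nat.lt_succ_self _)
  have htop : bnum k i (s + 1) L (s + 1) = bnum k i (s + 1) (Coh.structureModule X) (s + 1) := by
    rw [bnum_eq_lin, bnum_eq_lin, br_structureModule, mul_one]
    have e1 : (1 - μ) ^ (s + 1) * l = (1 - μ) ^ (s + 1) + (1 - l') * (1 - μ) ^ (s + 1) * l := by
      linear_combination ((1 - μ) ^ (s + 1)) * hll'
    rw [e1, map_add, hv1, add_zero]
  have hsub : bnum k i (s + 1) L s - bnum k i (s + 1) (Coh.structureModule X) s =
      FGA.intNum k X (s + 1) (Matrix.vecCons L' (fun _ : Fin s => OX k i (-1)))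
        (Coh.structureModule X) := by
    rw [bnum_eq_lin, bnum_eq_lin, intNum_eq_lin, br_structureModule, mul_one, mul_one,
      Fin.prod_univ_succ]
    simp only [Matrix.cons_val_zero, Matrix.cons_val_succ, Finset.prod_const, Finset.card_univ,
      Fintype.card_fin]
    have e1 : (1 - μ) ^ s * l = (1 - μ) ^ s + (1 - l') * (1 - μ) ^ s +
        (1 - l') * ((1 - l') * (1 - μ) ^ s) * l := by
      linear_combination ((1 - μ) ^ s * (2 - l')) * hll'
    rw [e1, map_add, map_add, hv2]
    change _ = lin k (s + 1) ((1 - l') * (1 - μ) ^ s)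
    ring
  have hlast : ((Fin.last (s + 1) : Fin (s + 2)) : ℕ) = s + 1 := rfl
  have hcs : ((Fin.castSucc (Fin.last s) : Fin (s + 2)) : ℕ) = s := rfl
  refine ⟨?_, ?_, ?_⟩
  · rw [haL, heO, hlast, hzL, hzO, htop]
  · rw [haL, hlast, hzL, sub_zero, htop]; rfl
  · rw [haL, heO, hcs, htop, ← hsub]; ring

end Main

end Groth.Agent.Lib.HilbBinom13
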