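import Groth.Agent.Lib.StabGeom48c
import Groth.Agent.Lib.StabGeomAx
import Groth.Agent.Lib.HilbBinom13
import Groth.Agent.Lib.H78PullAmple
import Groth.Agent.Lib.ProjSpaceFin
import Groth.Agent.Lib.EndScalar

/-!
# ℓ-stability with respect to `O_X(1) = ι^*O(1)` for `ι : X ⟶ P^N_k` (helper97)

* `isAmple_OX` : `ι^*O(1)` is ample for `ι` affine (e.g. a closed immersion).
* `euler_twistOn_eq` : a Hilbert polynomial in the sense of `ShStab.IsHilbPoly k X (ι^*O(1))` (natural twists by
  tensor powers) computes `χ(F ⊗ ι^*O(m))` for ALL integers `m` (`Pic13.twistOn`).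
* `redLT_of_lex` : strict lexicographic comparison of `(α_{d-1}/α_d, …, α_{d-ℓ}/α_d)` implies `StabCat.RedLT d`.
-/

set_option autoImplicit false
set_option maxHeartbeats 400000
universe u
open CategoryTheory CategoryTheory.Limits AlgebraicGeometry Polynomial

namespace Groth.Agent.Lib.EllStab97

open Groth.Agent.Lib Groth.Agent.Lib.IsoCls13 Groth.Agent.Lib.HilbBinom13 CohB1

section Poly

/-- strict lexicographic comparison of normalised coefficient vectors implies strict reduced comparison -/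
theorem redLT_of_lex {d ℓ : ℕ} (hℓd : ℓ ≤ d) {Q P : ℚ[X]} (hQ : Q.natDegree ≤ d) (hP : P.natDegree ≤ d)
    (hQ0 : 0 < Q.coeff d) (hP0 : 0 < P.coeff d)
    (h : toLex (fun j : Fin ℓ => ((Q).coeff (d - 1 - (j : ℕ)) * (Nat.factorial (d - 1 - (j : ℕ)) : ℚ)) /
        ((Q).coeff d * (Nat.factorial d : ℚ))) <
      toLex (fun j : Fin ℓ => ((P).coeff (d - 1 - (j : ℕ)) * (Nat.factorial (d - 1 - (j : ℕ)) : ℚ)) /
        ((P).coeff d * (Nat.factorial d : ℚ)))) :
    StabCat.RedLT d Q P := by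
  obtain ⟨j, hjeq, hjlt⟩ := h
  have hfd : (0 : ℚ) < (Nat.factorial d : ℚ) := by exact_mod_cast Nat.factorial_pos d
  -- cross-multiplied forms
  have key : ∀ (i : ℕ) (a b : ℚ), 0 < (Nat.factorial i : ℚ) := fun i _ _ => by
    exact_mod_cast Nat.factorial_pos i
  have hcross_eq : ∀ j' : Fin ℓ, j' < j →
      Q.coeff (d - 1 - (j' : ℕ)) * P.coeff d = P.coeff (d - 1 - (j' : ℕ)) * Q.coeff d := by
    intro j' hj'
    have h1 : ((Q).coeff (d - 1 - (j' : ℕ)) * (Nat.factorial (d - 1 - (j' : ℕ)) : ℚ)) /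
        ((Q).coeff d * (Nat.factorial d : ℚ)) =
      ((P).coeff (d - 1 - (j' : ℕ)) * (Nat.factorial (d - 1 - (j' : ℕ)) : ℚ)) /
        ((P).coeff d * (Nat.factorial d : ℚ)) := hjeq j' hj'
    have hf : (0 : ℚ) < (Nat.factorial (d - 1 - (j' : ℕ)) : ℚ) := by
      exact_mod_cast Nat.factorial_pos _
    rw [div_eq_div_iff (by positivity) (by positivity)] at h1
    have h2 : (Q.coeff (d - 1 - (j' : ℕ)) * P.coeff d - P.coeff (d - 1 - (j' : ℕ)) * Q.coeff d) *
        ((Nat.factorial (d - 1 - (j' : ℕ)) : ℚ) * (Nat.factorial d : ℚ)) = 0 := by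
      linear_combination h1
    rcases mul_eq_zero.1 h2 with h3 | h3
    · linarith
    · exact absurd h3 (by positivity)
  have hcross_lt : Q.coeff (d - 1 - (j : ℕ)) * P.coeff d < P.coeff (d - 1 - (j : ℕ)) * Q.coeff d := by
    have h1 : ((Q).coeff (d - 1 - (j : ℕ)) * (Nat.factorial (d - 1 - (j : ℕ)) : ℚ)) /
        ((Q).coeff d * (Nat.factorial d : ℚ)) <
      ((P).coeff (d - 1 - (j : ℕ)) * (Nat.factorial (d - 1 - (j : ℕ)) : ℚ)) /
        ((P).coeff d * (Nat.factorial d : ℚ)) := hjlt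
    have hf : (0 : ℚ) < (Nat.factorial (d - 1 - (j : ℕ)) : ℚ) := by
      exact_mod_cast Nat.factorial_pos _
    rw [div_lt_div_iff₀ (by positivity) (by positivity)] at h1
    have h2 : 0 < (P.coeff (d - 1 - (j : ℕ)) * Q.coeff d - Q.coeff (d - 1 - (j : ℕ)) * P.coeff d) *
        ((Nat.factorial (d - 1 - (j : ℕ)) : ℚ) * (Nat.factorial d : ℚ)) := by
      nlinarith [h1]
    have h3 := (pos_iff_pos_of_mul_pos h2).2 (by positivity)
    linarith
  unfold StabCat.RedLT
  rw [TopPart48.polyLT_iff_sub]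
  apply TopPart48.polyLT_zero_of_leadingCoeff_pos
  set D : ℚ[X] := StabCat.alpha d Q • P - StabCat.alpha d P • Q with hD
  have hcoeff : ∀ i, D.coeff i = (Nat.factorial d : ℚ) * (Q.coeff d * P.coeff i - P.coeff d * Q.coeff i) := by
    intro i
    rw [hD, coeff_sub, coeff_smul, coeff_smul]
    simp only [StabCat.alpha, smul_eq_mul]
    ring
  set e := d - 1 - (j : ℕ) with he
  have hjℓ : (j : ℕ) < ℓ := j.2
  have hed : e < d := by omega
  have hDe : 0 < D.coeff e := by
    rw [hcoeff]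
    apply mul_pos hfd
    linarith
  have hdeg : D.natDegree ≤ e := by
    rw [natDegree_le_iff_coeff_eq_zero]
    intro i hi
    rw [hcoeff]
    rcases lt_trichotomy i d with hid | hid | hid
    · -- i = d - 1 - j' with j' < j
      have hj' : d - 1 - i < ℓ := by omega
      have hlt : (⟨d - 1 - i, hj'⟩ : Fin ℓ) < j := by
        rw [Fin.lt_def]; simp only []; omega
      have h1 := hcross_eq ⟨d - 1 - i, hj'⟩ hlt
      simp only [] at h1
      have h2 : d - 1 - (d - 1 - i) = i := by omega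
      rw [h2] at h1
      rw [mul_eq_zero]; right; linarith
    · subst hid; ring
    · rw [coeff_eq_zero_of_natDegree_lt (lt_of_le_of_lt hP hid),
        coeff_eq_zero_of_natDegree_lt (lt_of_le_of_lt hQ hid)]
      ring
  have hnd : D.natDegree = e := by
    apply le_antisymm hdeg
    apply le_natDegree_of_ne_zero
    exact hDe.ne'
  rw [leadingCoeff, hnd]
  exact hDe

end Poly

section Geom

variable (k : Type u) [Field k] {N : ℕ} {X : Scheme.{u}} (ι : X ⟶ CohB1.ProjSpace N k)

theorem isAmple_OX [IsAffineHom ι] : CohB1.IsAmple (OX k ι 1) :=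
  H78PullAmple.isAmple_pullback_of_isAffineHom ι (ProjSpaceFin.isAmple_twist_one N k)

theorem c_neg_natCast (s : ℕ) : c k ι (-(s : ℤ)) = c k ι (-1) ^ s := by
  induction s with
  | zero => simpa using c_zero k ι
  | succ s ih =>
    have : (-((s + 1 : ℕ) : ℤ)) = -(s : ℤ) + (-1) := by push_cast; ring
    rw [this, c_add, ih, pow_succ]

theorem c_natCast_sub (m s : ℕ) : c k ι ((m : ℤ) - s) = c k ι 1 ^ m * c k ι (-1) ^ s := by
  rw [sub_eq_add_neg, c_add, c_natCast, c_neg_natCast]

/-- `(F(-s)) ⊗ O_X(1)^{⊗ m} ≅ F(m - s)` -/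
theorem nonempty_twist_twistOn_iso (F : X.Modules) (m s : ℕ) :
    Nonempty (ShStab.twist X (OX k ι 1) (Pic13.twistOn k ι F (-(s : ℤ))) m ≅
      Pic13.twistOn k ι F ((m : ℤ) - s)) := by
  apply cls_eq_iff.1
  unfold ShStab.twist
  rw [cls_tensorMod, cls_tensorPow, cls_twistOn, cls_twistOn, c_natCast_sub, c_neg_natCast]
  change cls F * c k ι (-1) ^ s * c k ι 1 ^ m = cls F * (c k ι 1 ^ m * c k ι (-1) ^ s)
  rw [mul_assoc, mul_comm (c k ι (-1) ^ s)]

theorem nonempty_twist_iso (F : X.Modules) (m : ℕ) :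
    Nonempty (ShStab.twist X (OX k ι 1) F m ≅ Pic13.twistOn k ι F (m : ℤ)) := by
  apply cls_eq_iff.1
  unfold ShStab.twist
  rw [cls_tensorMod, cls_tensorPow, cls_twistOn, c_natCast]
  rfl

theorem nonempty_twist_zero_iso (G : X.Modules) :
    Nonempty (ShStab.twist X (OX k ι 1) G 0 ≅ G) := by
  apply cls_eq_iff.1
  unfold ShStab.twist
  rw [cls_tensorMod, cls_tensorPow, pow_zero, mul_one]

theorem isCoh_twistOn {F : X.Modules} (hF : Coh.IsCoh F) (m : ℤ) : Coh.IsCoh (Pic13.twistOn k ι F m) :=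
  CohFinAmple.isCoh_tensorMod hF (H90Invertible.isCoh_of_isInvertible (isInvertible_OX k ι m))

variable [X.Over (Spec (CommRingCat.of k))] [IsProper (X ↘ Spec (CommRingCat.of k))]
variable (H : ProperFinHyp.Hyp.{u})

include H in
/-- A Hilbert polynomial for natural twists computes the Euler characteristic of all integer twists. -/
theorem euler_twistOn_eq {F : X.Modules} (hF : Coh.IsCoh F) {Q : ℚ[X]}
    (hQ : ShStab.IsHilbPoly k X (OX k ι 1) F Q) (m : ℤ) :
    (Curv2.euler k X (Pic13.twistOn k ι F m) : ℚ) = Q.eval (m : ℚ) := by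
  have hnat : ∀ n : ℕ, (Curv2.euler k X (Pic13.twistOn k ι F (n : ℤ)) : ℚ) = Q.eval (n : ℚ) := by
    intro n
    obtain ⟨e⟩ := nonempty_twist_iso k ι F n
    rw [← DegTensor13.euler_congr k e]
    exact hQ n
  obtain ⟨n, rfl | rfl⟩ := Int.eq_nat_or_neg m
  · exact_mod_cast hnat n
  · -- negative twist
    set G := Pic13.twistOn k ι F (-(n : ℤ)) with hG
    have hGc : Coh.IsCoh G := isCoh_twistOn k ι hF _
    obtain ⟨R, hR⟩ := StabGeomAx.exists_hp (k := k) H (isInvertible_OX k ι 1) hGc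
    -- R(x) = Q(x - n)
    have hRQ : R = Q.comp ((Polynomial.X : ℚ[X]) - C (n : ℚ)) := by
      apply Polynomial.eq_of_infinite_eval_eq
      apply Set.Infinite.mono (s := (fun t : ℕ => ((t + n : ℕ) : ℚ)) '' Set.univ)
      · rintro _ ⟨t, -, rfl⟩
        simp only [Set.mem_ofPred_eq]
        rw [← hR (t + n)]
        obtain ⟨e⟩ := nonempty_twist_twistOn_iso k ι F (t + n) n
        rw [DegTensor13.euler_congr k e]
        have h1 : (((t + n : ℕ) : ℤ) - (n : ℤ)) = (t : ℤ) := by push_cast; ring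
        rw [h1, hnat t, eval_comp]
        simp
      · apply Set.Infinite.image
        · intro a _ b _ hab
          simp only [] at hab
          have : (a + n : ℕ) = b + n := by exact_mod_cast hab
          omega
        · exact Set.infinite_univ
    obtain ⟨e0⟩ := nonempty_twist_zero_iso k ι G
    have h0 := hR 0
    rw [DegTensor13.euler_congr k e0, hRQ, eval_comp] at h0
    rw [h0]
    simp

end Geom

end Groth.Agent.Lib.EllStab97
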