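import Mathlib
import Groth.Agent.Lib.DepthFlat33
import Groth.Agent.Lib.RegularLocal
import Groth.Agent.Lib.RegularFlatLocal

set_option autoImplicit false
set_option linter.style.haveILetI false
set_option maxHeartbeats 400000
universe u

/-! helper84: embedding dimension along a flat local homomorphism with regular closed fibre
(lower bound `embdim A + dim F ≤ embdim B`; used for S11564). -/

namespace Groth.Agent.Lib.EmbDimFlat
open IsLocalRing TensorProduct
open scoped Pointwise

/-- key step: flatness of `B/(x)` over `A` when `x` is regular on the closed fibre. -/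
theorem flat_quotient_span_singleton {A B : Type u} [CommRing A] [CommRing B] [IsLocalRing A]
    [IsLocalRing B] [IsNoetherianRing A] [IsNoetherianRing B] [Algebra A B]
    [IsLocalHom (algebraMap A B)] [Module.Flat A B] (x : B)
    (hx : IsSMulRegular (B ⧸ (maximalIdeal A).map (algebraMap A B))
      (Ideal.Quotient.mk ((maximalIdeal A).map (algebraMap A B)) x)) :
    Module.Flat A (B ⧸ Ideal.span {x}) := by
  set J := (maximalIdeal A).map (algebraMap A B) with hJ
  -- regular on B ⊗ A/m
  have h1 : IsSMulRegular (B ⊗[A] (A ⧸ maximalIdeal A)) x := by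
    have e1 := Groth.Agent.Lib.DepthFlat33.fibEquiv (R := A) (S := B) B (maximalIdeal A)
    have hJtop : (J • ⊤ : Submodule B B) = J := by
      rw [smul_eq_mul, Ideal.mul_top]
    let e2 : (B ⧸ (J • ⊤ : Submodule B B)) ≃ₗ[B] B ⧸ J := Submodule.quotEquivOfEq _ _ hJtop
    rw [(e1.trans e2).isSMulRegular_congr]
    intro a b hab
    obtain ⟨a, rfl⟩ := Ideal.Quotient.mk_surjective a
    obtain ⟨b, rfl⟩ := Ideal.Quotient.mk_surjective b
    apply hx
    simpa [Algebra.smul_def] using hab
  have h2 : Module.Flat A (QuotSMulTop x B) :=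
    Groth.Agent.Lib.DepthFlat33.flat_quotSMulTop_of_fibre (R := A) (S := B) (N := B) h1
  have h3 : (x • ⊤ : Submodule B B) = Ideal.span {x} := by
    rw [← Submodule.ideal_span_singleton_smul, smul_eq_mul, Ideal.mul_top]
  let e3 : QuotSMulTop x B ≃ₗ[B] B ⧸ Ideal.span {x} := Submodule.quotEquivOfEq _ _ h3
  exact Module.Flat.of_linearEquiv (e3.restrictScalars A).symm

/-- lower bound for the embedding dimension, by induction on the dimension of the (regular)
closed fibre. -/
theorem le_spanFinrank_aux (d : ℕ) : ∀ (A B : Type u) [CommRing A] [CommRing B] [IsLocalRing A]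
    [IsLocalRing B] [IsNoetherianRing A] [IsNoetherianRing B] [Algebra A B]
    [IsLocalHom (algebraMap A B)] [Module.Flat A B]
    [IsRegularLocalRing (B ⧸ (maximalIdeal A).map (algebraMap A B))],
    (maximalIdeal (B ⧸ (maximalIdeal A).map (algebraMap A B))).spanFinrank = d →
    (maximalIdeal A).spanFinrank + d ≤ (maximalIdeal B).spanFinrank := by
  induction d with
  | zero =>
    intro A B _ _ _ _ _ _ _ _ _ _ hd
    set J := (maximalIdeal A).map (algebraMap A B) with hJ
    have h0 : maximalIdeal (B ⧸ J) = ⊥ :=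
      (Submodule.spanFinrank_eq_zero_iff_eq_bot (Ideal.fg_of_isNoetherianRing _)).mp hd
    have hfield : IsField (B ⧸ J) := IsLocalRing.isField_iff_maximalIdeal_eq.mpr h0
    have hmax : J.IsMaximal := Ideal.Quotient.maximal_of_isField J hfield
    have hmap : J = maximalIdeal B := IsLocalRing.eq_maximalIdeal hmax
    rw [add_zero, Groth.Agent.Lib.RegularFlatLocal.spanFinrank_maximalIdeal_eq hmap]
  | succ d ih =>
    intro A B _ _ _ _ _ _ _ _ _ _ hd
    set J := (maximalIdeal A).map (algebraMap A B) with hJ
    set n := maximalIdeal (B ⧸ J) with hn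
    haveI : IsLocalHom (Ideal.Quotient.mk J) :=
      IsLocalHom.of_surjective _ Ideal.Quotient.mk_surjective
    -- an element of n \ n²
    have hex : ∃ y ∈ n, y ∉ n ^ 2 := by
      by_contra hcon
      simp only [not_exists, not_and, not_not] at hcon
      have hle : n ≤ n • n := by
        intro y hy
        have := hcon y hy
        rwa [pow_two, ← smul_eq_mul] at this
      have hbot : n = ⊥ := Submodule.eq_bot_of_le_smul_of_le_jacobson_bot n n
        (Ideal.fg_of_isNoetherianRing _) hle
        (IsLocalRing.jacobson_eq_maximalIdeal _ bot_ne_top).ge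
      rw [hbot] at hd
      simp at hd
    obtain ⟨y, hyn, hyn2⟩ := hex
    obtain ⟨x, rfl⟩ := Ideal.Quotient.mk_surjective y
    have hxm : x ∈ maximalIdeal B := by
      by_contra hxu
      have hu : IsUnit x := by
        by_contra h
        exact hxu h
      exact hyn (hu.map (Ideal.Quotient.mk J))
    have hx2 : x ∉ maximalIdeal B ^ 2 := by
      intro hx
      apply hyn2
      have h1 : Ideal.Quotient.mk J x ∈ (maximalIdeal B ^ 2).map (Ideal.Quotient.mk J) :=
        Ideal.mem_map_of_mem _ hx
      rw [Ideal.map_pow] at h1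
      exact Ideal.pow_right_mono (IsLocalRing.map_maximalIdeal_le _) 2 h1
    -- regularity on the fibre
    haveI : IsDomain (B ⧸ J) := Groth.Agent.Lib.RegularLocal.isDomain (B ⧸ J)
    have hne : Ideal.Quotient.mk J x ≠ 0 := by
      intro h
      apply hyn2
      rw [h]
      exact Ideal.zero_mem _
    have hreg : IsSMulRegular (B ⧸ J) (Ideal.Quotient.mk J x) :=
      (IsRegular.of_ne_zero hne).left.isSMulRegular
    haveI hflat : Module.Flat A (B ⧸ Ideal.span {x}) := flat_quotient_span_singleton x hreg
    -- the quotient ring B₁ = B/(x)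
    have hspan : Ideal.span {x} ≠ (⊤ : Ideal B) := by
      intro h
      have : (1 : B) ∈ maximalIdeal B := by
        have h1 : (1 : B) ∈ Ideal.span {x} := by rw [h]; trivial
        exact (Ideal.span_singleton_le_iff_mem _).mpr hxm h1
      exact (Ideal.ne_top_iff_one _).mp (maximalIdeal.isMaximal B).ne_top this
    haveI : Nontrivial (B ⧸ Ideal.span {x}) := Ideal.Quotient.nontrivial_iff.mpr hspan
    haveI : IsLocalRing (B ⧸ Ideal.span {x}) :=
      IsLocalRing.of_surjective' (Ideal.Quotient.mk _) Ideal.Quotient.mk_surjective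
    haveI : IsLocalHom (Ideal.Quotient.mk (Ideal.span {x})) :=
      IsLocalHom.of_surjective _ Ideal.Quotient.mk_surjective
    haveI : IsLocalHom (algebraMap A (B ⧸ Ideal.span {x})) := by
      rw [IsScalarTower.algebraMap_eq A B (B ⧸ Ideal.span {x})]
      exact RingHom.isLocalHom_comp _ _
    -- the fibre of B₁
    have hJ1 : (maximalIdeal A).map (algebraMap A (B ⧸ Ideal.span {x})) =
        J.map (Ideal.Quotient.mk (Ideal.span {x})) := by
      rw [IsScalarTower.algebraMap_eq A B (B ⧸ Ideal.span {x}), ← Ideal.map_map]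
      rfl
    have hxbar : (Ideal.span {x}).map (Ideal.Quotient.mk J) =
        Ideal.span {Ideal.Quotient.mk J x} := by
      rw [Ideal.map_span, Set.image_singleton]
    let e : ((B ⧸ Ideal.span {x}) ⧸ (maximalIdeal A).map (algebraMap A (B ⧸ Ideal.span {x}))) ≃+*
        (B ⧸ J) ⧸ Ideal.span {Ideal.Quotient.mk J x} :=
      (Ideal.quotEquivOfEq hJ1).trans
        ((DoubleQuot.quotQuotEquivComm (Ideal.span {x}) J).trans (Ideal.quotEquivOfEq hxbar))
    obtain ⟨hregq, hrankq⟩ :=
      Groth.Agent.Lib.RegularLocal.isRegularLocalRing_quotient_of_spanFinrank hyn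
        (Groth.Agent.Lib.RegularLocal.spanFinrank_map_mk_add_one_le hyn hyn2)
    haveI : IsRegularLocalRing ((B ⧸ Ideal.span {x}) ⧸
        (maximalIdeal A).map (algebraMap A (B ⧸ Ideal.span {x}))) :=
      IsRegularLocalRing.of_ringEquiv e.symm
    have hd1 : (maximalIdeal ((B ⧸ Ideal.span {x}) ⧸
        (maximalIdeal A).map (algebraMap A (B ⧸ Ideal.span {x})))).spanFinrank = d := by
      have h1 : ((maximalIdeal ((B ⧸ Ideal.span {x}) ⧸
          (maximalIdeal A).map (algebraMap A (B ⧸ Ideal.span {x})))).spanFinrank : WithBot ℕ∞) =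
          ((maximalIdeal ((B ⧸ J) ⧸ Ideal.span {Ideal.Quotient.mk J x})).spanFinrank :
            WithBot ℕ∞) := by
        rw [IsRegularLocalRing.spanFinrank_maximalIdeal, IsRegularLocalRing.spanFinrank_maximalIdeal]
        exact ringKrullDim_eq_of_ringEquiv e
      have h2 : (maximalIdeal ((B ⧸ Ideal.span {x}) ⧸
          (maximalIdeal A).map (algebraMap A (B ⧸ Ideal.span {x})))).spanFinrank =
          (maximalIdeal ((B ⧸ J) ⧸ Ideal.span {Ideal.Quotient.mk J x})).spanFinrank := by
        exact_mod_cast h1
      rw [h2]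
      rw [← hn, hd] at hrankq
      omega
    have hIH := ih A (B ⧸ Ideal.span {x}) hd1
    have h3 := Groth.Agent.Lib.RegularLocal.spanFinrank_map_mk_add_one_le hxm hx2
    rw [IsLocalRing.map_maximalIdeal_of_surjective _ Ideal.Quotient.mk_surjective] at h3
    omega

end Groth.Agent.Lib.EmbDimFlat
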