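import Groth.Agent.Lib.H0One48
import Groth.Agent.Lib.FreeModStalk
import Groth.Prelude.Def_FDesc

/-!
# Embedded closed points give nilpotent global functions (helper48; = S7835)

Namespace `Groth.Agent.Lib.EmbPt48`.

* `exists_global_supported_at` : `X` locally Noetherian, `x` a closed point, `t ∈ O_{X,x}` nonzero and killed by the
  maximal ideal; then there is a global function whose germ at `x` is nonzero and killed by `m_x`, and whose germs at all
  other points vanish.
* `noEmbedded_of_isReduced_Γ` : (= S7835) a locally Noetherian scheme of dimension `≤ 1` with reduced ring of global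
  functions has no embedded points.
-/

set_option autoImplicit false
universe u
open CategoryTheory CategoryTheory.Limits AlgebraicGeometry Opposite TopologicalSpace

namespace Groth.Agent.Lib.EmbPt48

open Groth.Agent.Lib.H0One48 Groth.Agent.Lib.FreeModStalk

variable (X : Scheme.{u}) [IsLocallyNoetherian X]

theorem exists_global_supported_at (x : X) (hx : IsClosed ({x} : Set X)) (t : X.presheaf.stalk x)
    (ht : ∀ g ∈ IsLocalRing.maximalIdeal (X.presheaf.stalk x), g * t = 0) (htne : t ≠ 0) :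
    ∃ s : Γ(X, ⊤), X.presheaf.germ ⊤ x trivial s ≠ 0 ∧
      (∀ g ∈ IsLocalRing.maximalIdeal (X.presheaf.stalk x), g * X.presheaf.germ ⊤ x trivial s = 0) ∧
      ∀ y : X, y ≠ x → X.presheaf.germ ⊤ y trivial s = 0 := by
  classical
  obtain ⟨_, ⟨W, hW, rfl⟩, hxW, -⟩ :=
    X.isBasis_affineOpens.exists_subset_of_mem_open (Set.mem_univ x) isOpen_univ
  haveI : IsNoetherianRing Γ(X, W) := IsLocallyNoetherian.component_noetherian ⟨W, hW⟩
  let p : PrimeSpectrum Γ(X, W) := hW.primeIdealOf ⟨x, hxW⟩
  letI : Algebra Γ(X, W) (X.presheaf.stalk x) :=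
    TopCat.Presheaf.algebra_section_stalk X.presheaf ⟨x, hxW⟩
  haveI : IsLocalization.AtPrime (X.presheaf.stalk x) p.asIdeal :=
    hW.isLocalization_stalk ⟨x, hxW⟩
  obtain ⟨⟨a, v⟩, hav⟩ := IsLocalization.surj p.asIdeal.primeCompl t
  have hav' : t * algebraMap Γ(X, W) (X.presheaf.stalk x) v =
      algebraMap Γ(X, W) (X.presheaf.stalk x) a := hav
  have hvu : IsUnit (algebraMap Γ(X, W) (X.presheaf.stalk x) v) := IsLocalization.map_units _ v
  have ha_ne : algebraMap Γ(X, W) (X.presheaf.stalk x) a ≠ 0 := by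
    rw [← hav']
    intro h
    exact htne ((hvu.mul_left_eq_zero).mp h)
  have ha_kill' : ∀ g ∈ IsLocalRing.maximalIdeal (X.presheaf.stalk x),
      g * algebraMap Γ(X, W) (X.presheaf.stalk x) a = 0 := by
    intro g hg
    rw [← hav', ← mul_assoc, ht g hg, zero_mul]
  have ha_kill : ∀ g ∈ p.asIdeal, algebraMap Γ(X, W) (X.presheaf.stalk x) (g * a) = 0 := by
    intro g hg
    have h1 : algebraMap Γ(X, W) (X.presheaf.stalk x) g ∈
        IsLocalRing.maximalIdeal (X.presheaf.stalk x) :=
      (IsLocalization.AtPrime.to_map_mem_maximal_iff (X.presheaf.stalk x) p.asIdeal g).mpr hg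
    rw [map_mul]
    exact ha_kill' _ h1
  obtain ⟨S, hS⟩ := (isNoetherianRing_iff_ideal_fg Γ(X, W)).mp inferInstance p.asIdeal
  have hex : ∀ g ∈ S, ∃ w : p.asIdeal.primeCompl, (w : Γ(X, W)) * (g * a) = 0 := fun g hg =>
    (IsLocalization.map_eq_zero_iff p.asIdeal.primeCompl (X.presheaf.stalk x) (g * a)).mp
      (ha_kill g (hS ▸ Ideal.subset_span hg))
  choose! w hw using hex
  let v' : p.asIdeal.primeCompl := ∏ g ∈ S, w g
  let a' : Γ(X, W) := (v' : Γ(X, W)) * a
  have hkill : ∀ b ∈ p.asIdeal, b * a' = 0 := by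
    intro b hb
    rw [← hS] at hb
    refine Submodule.span_induction (p := fun b _ => b * a' = 0) ?_ ?_ ?_ ?_ hb
    · intro g hg
      have hg' : g ∈ S := hg
      have h1 : (v' : Γ(X, W)) = (w g : Γ(X, W)) * ∏ g' ∈ S.erase g, (w g' : Γ(X, W)) := by
        change ((∏ g' ∈ S, w g' : p.asIdeal.primeCompl) : Γ(X, W)) = _
        rw [Submonoid.coe_finsetProd, Finset.mul_prod_erase S (fun g' => (w g' : Γ(X, W))) hg']
      change g * ((v' : Γ(X, W)) * a) = 0
      rw [h1]
      have h2 := hw g hg'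
      calc g * (((w g : Γ(X, W)) * ∏ g' ∈ S.erase g, (w g' : Γ(X, W))) * a)
          = (∏ g' ∈ S.erase g, (w g' : Γ(X, W))) * ((w g : Γ(X, W)) * (g * a)) := by ring
        _ = 0 := by rw [h2, mul_zero]
    · exact zero_mul _
    · intro b c _ _ hb hc
      rw [add_mul, hb, hc, add_zero]
    · intro r b _ hb
      rw [smul_eq_mul, mul_assoc, hb, mul_zero]
  have ha'_ne : algebraMap Γ(X, W) (X.presheaf.stalk x) a' ≠ 0 := by
    change algebraMap Γ(X, W) (X.presheaf.stalk x) ((v' : Γ(X, W)) * a) ≠ 0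
    rw [map_mul]
    intro h
    exact ha_ne (((IsLocalization.map_units (X.presheaf.stalk x) v').mul_right_eq_zero).mp h)
  have ha'_kill : ∀ g ∈ IsLocalRing.maximalIdeal (X.presheaf.stalk x),
      g * algebraMap Γ(X, W) (X.presheaf.stalk x) a' = 0 := by
    intro g hg
    change g * algebraMap Γ(X, W) (X.presheaf.stalk x) ((v' : Γ(X, W)) * a) = 0
    rw [map_mul, mul_left_comm, ha_kill' g hg, mul_zero]
  have hgerm : ∀ (y : X) (hyW : y ∈ W), y ≠ x → X.presheaf.germ W y hyW a' = 0 := by
    intro y hyW hyx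
    let q : PrimeSpectrum Γ(X, W) := hW.primeIdealOf ⟨y, hyW⟩
    letI : Algebra Γ(X, W) (X.presheaf.stalk y) :=
      TopCat.Presheaf.algebra_section_stalk X.presheaf ⟨y, hyW⟩
    haveI : IsLocalization.AtPrime (X.presheaf.stalk y) q.asIdeal :=
      hW.isLocalization_stalk ⟨y, hyW⟩
    have hnle : ¬ p.asIdeal ≤ q.asIdeal := by
      intro hle
      have hs : p ⤳ q := (PrimeSpectrum.le_iff_specializes p q).mp hle
      have hs' : hW.fromSpec p ⤳ hW.fromSpec q := hs.map hW.fromSpec.continuous
      rw [hW.fromSpec_primeIdealOf ⟨x, hxW⟩, hW.fromSpec_primeIdealOf ⟨y, hyW⟩] at hs'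
      exact hyx (hs'.mem_closed hx rfl)
    obtain ⟨u, hup, huq⟩ := SetLike.not_le_iff_exists.mp hnle
    have hu0 : u * a' = 0 := hkill u hup
    have hunit : IsUnit (algebraMap Γ(X, W) (X.presheaf.stalk y) u) :=
      IsLocalization.map_units _ (⟨u, huq⟩ : q.asIdeal.primeCompl)
    have h1 : algebraMap Γ(X, W) (X.presheaf.stalk y) u *
        algebraMap Γ(X, W) (X.presheaf.stalk y) a' = 0 := by
      rw [← map_mul, hu0, map_zero]
    exact (hunit.mul_right_eq_zero).mp h1
  let U₂ : X.Opens := ⟨{x}ᶜ, hx.isOpen_compl⟩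
  have hU : W ⊔ U₂ = ⊤ := by
    apply Opens.ext
    ext y
    simp only [Opens.coe_sup, Opens.coe_top, Set.mem_union, Set.mem_univ, iff_true]
    by_cases hyx : y = x
    · left
      rw [hyx]
      exact hxW
    · right
      exact hyx
  obtain ⟨s, hs1, hs2⟩ := exists_global_glue W U₂ hU a' 0 (fun y h₁ h₂ => by
    rw [map_zero]
    exact hgerm y h₁ h₂)
  have h1 : X.presheaf.germ ⊤ x trivial s = algebraMap Γ(X, W) (X.presheaf.stalk x) a' :=
    hs1 x hxW
  refine ⟨s, ?_, ?_, ?_⟩
  · rw [h1]
    exact ha'_ne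
  · intro g hg
    rw [h1]
    exact ha'_kill g hg
  · intro y hy
    rw [hs2 y hy, map_zero]

/-- **S7835** -/
theorem noEmbedded_of_isReduced_Γ (hdim : topologicalKrullDim X ≤ 1) (hred : IsReduced Γ(X, ⊤)) :
    AssSch.NoEmbedded (Coh.structureModule X) := by
  intro x hxA y _ hyx
  by_contra hne
  have hne' : y ≠ x := fun h => hne h.symm
  -- `x` is a closed point
  have hxgen : x ∉ genericPoints X := fun hgen =>
    hne' (eq_of_specializes_of_mem_genericPoints X hgen hyx)
  have hx : IsClosed ({x} : Set X) :=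
    Groth.Agent.Lib.DimOneTop42.isClosed_singleton_of_notMem_genericPoints hdim x hxgen
  -- an element of `O_{X,x}` with annihilator `m_x`
  obtain ⟨hprime, a', ha'⟩ := isAssociatedPrime_iff.mp hxA
  set t : X.presheaf.stalk x := (unitStalkEquiv x).symm a' with htdef
  have hmem : ∀ g : X.presheaf.stalk x,
      g ∈ IsLocalRing.maximalIdeal (X.presheaf.stalk x) ↔ g • a' = 0 := by
    intro g
    rw [ha', Submodule.mem_colon_singleton, Submodule.mem_bot]
  have ht : ∀ g ∈ IsLocalRing.maximalIdeal (X.presheaf.stalk x), g * t = 0 := by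
    intro g hg
    rw [htdef, ← smul_eq_mul, ← map_smul, (hmem g).mp hg, map_zero]
  have htne : t ≠ 0 := by
    intro h0
    have ha0 : a' = 0 := by
      have := congrArg (unitStalkEquiv x) h0
      rw [htdef, LinearEquiv.apply_symm_apply, map_zero] at this
      exact this
    have h1 : (1 : X.presheaf.stalk x) ∈ IsLocalRing.maximalIdeal (X.presheaf.stalk x) := by
      rw [hmem, ha0, smul_zero]
    exact (IsLocalRing.maximalIdeal (X.presheaf.stalk x)).ne_top_iff_one.mp
      (Ideal.IsPrime.ne_top hprime) h1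
  obtain ⟨s, hs1, hs2, hs3⟩ := exists_global_supported_at X x hx t ht htne
  set b := X.presheaf.germ ⊤ x trivial s with hb
  -- `b ∈ m_x`
  have hbm : b ∈ IsLocalRing.maximalIdeal (X.presheaf.stalk x) := by
    by_contra hbn
    have hbu : IsUnit b := by
      by_contra hnu
      exact hbn ((IsLocalRing.mem_maximalIdeal b).mpr hnu)
    have hm0 : IsLocalRing.maximalIdeal (X.presheaf.stalk x) = ⊥ := by
      rw [eq_bot_iff]
      intro g hg
      exact (Submodule.mem_bot _).mpr ((hbu.mul_left_eq_zero).mp (hs2 g hg))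
    -- then `x` has no proper generization
    have hy : y ∈ Set.range (X.fromSpecStalk x) := by
      rw [Scheme.range_fromSpecStalk]
      exact hyx
    obtain ⟨q, hq⟩ := hy
    have hq0 : q = IsLocalRing.closedPoint (X.presheaf.stalk x) := by
      apply PrimeSpectrum.ext
      change q.asIdeal = IsLocalRing.maximalIdeal (X.presheaf.stalk x)
      rw [hm0, eq_bot_iff, ← hm0]
      exact IsLocalRing.le_maximalIdeal q.2.ne_top
    rw [hq0, Scheme.fromSpecStalk_closedPoint] at hq
    exact hne' hq.symm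
  have hbb : b * b = 0 := hs2 b hbm
  have hss : s * s = 0 := by
    apply TopCat.Presheaf.section_ext X.sheaf ⊤
    intro z hz
    by_cases hzx : z = x
    · subst hzx
      change X.presheaf.germ ⊤ z hz (s * s) = X.presheaf.germ ⊤ z hz 0
      rw [map_mul, map_zero]
      exact hbb
    · change X.presheaf.germ ⊤ z hz (s * s) = X.presheaf.germ ⊤ z hz 0
      rw [map_mul, map_zero, hs3 z hzx, mul_zero]
  have hs0 : s = 0 := by
    have : IsNilpotent s := ⟨2, by rw [pow_two]; exact hss⟩
    exact this.eq_zero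
  apply hs1
  rw [hb, hs0, map_zero]

end Groth.Agent.Lib.EmbPt48
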