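import Mathlib.Algebra.Category.ModuleCat.Basic
import Mathlib.Algebra.Category.Grp.Basic
import Mathlib.LinearAlgebra.Prod
import Mathlib.Algebra.Category.Grp.EpiMono

/-!
# Pointwise endomorphism-equivariant isomorphisms of functors on modules (helper44)

`EndEquiv S T`: for every module `W` there is an isomorphism `S(W) ≃+ T(W)` commuting with the action of all
endomorphisms of `W`.  This is weaker than a natural isomorphism but, applied to `W = M × N`, it transports
surjectivity (and more generally all properties of the maps `S(φ)`, `φ : M ⟶ N`) from `S` to `T`.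
-/

set_option autoImplicit false
universe u

open CategoryTheory

namespace Groth.Agent.Lib.EndEquivH44

variable {A : Type u} [Ring A]

/-- for every `W` there is an isomorphism `S(W) ≃+ T(W)` commuting with all endomorphisms of `W` -/
def EndEquiv (S T : ModuleCat.{u} A ⥤ AddCommGrpCat.{u}) : Prop :=
  ∀ W : ModuleCat.{u} A, ∃ e : S.obj W ≃+ T.obj W,
    ∀ (ψ : W ⟶ W) (x : S.obj W), e ((S.map ψ).hom x) = (T.map ψ).hom (e x)

theorem EndEquiv.of_iso {S T : ModuleCat.{u} A ⥤ AddCommGrpCat.{u}} (e : S ≅ T) : EndEquiv S T := by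
  intro W
  refine ⟨(e.app W).addCommGroupIsoToAddEquiv, fun ψ x => ?_⟩
  exact ConcreteCategory.congr_hom (e.hom.naturality ψ) x

theorem EndEquiv.symm {S T : ModuleCat.{u} A ⥤ AddCommGrpCat.{u}} (h : EndEquiv S T) :
    EndEquiv T S := by
  intro W
  obtain ⟨e, he⟩ := h W
  refine ⟨e.symm, fun ψ x => ?_⟩
  apply e.injective
  rw [he, AddEquiv.apply_symm_apply, AddEquiv.apply_symm_apply]

theorem EndEquiv.trans {S T R : ModuleCat.{u} A ⥤ AddCommGrpCat.{u}} (h : EndEquiv S T)
    (h' : EndEquiv T R) : EndEquiv S R := by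
  intro W
  obtain ⟨e, he⟩ := h W
  obtain ⟨e', he'⟩ := h' W
  exact ⟨e.trans e', fun ψ x => by
    rw [AddEquiv.trans_apply, he, he', AddEquiv.trans_apply]⟩

section Prod

variable (M N : ModuleCat.{u} A)

/-- the product module -/
abbrev prodObj : ModuleCat.{u} A := ModuleCat.of A (M × N)

/-- inclusions and projections -/
abbrev inM : M ⟶ prodObj M N := ModuleCat.ofHom (LinearMap.inl A M N)
abbrev inN : N ⟶ prodObj M N := ModuleCat.ofHom (LinearMap.inr A M N)
abbrev prM : prodObj M N ⟶ M := ModuleCat.ofHom (LinearMap.fst A M N)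
abbrev prN : prodObj M N ⟶ N := ModuleCat.ofHom (LinearMap.snd A M N)

theorem inM_prM : inM M N ≫ prM M N = 𝟙 M := by
  ext x
  rfl

theorem inN_prN : inN M N ≫ prN M N = 𝟙 N := by
  ext x
  rfl

end Prod

/-- surjectivity of `S(φ)` in terms of endomorphisms of `M × N` -/
theorem surjective_iff_range (S : ModuleCat.{u} A ⥤ AddCommGrpCat.{u}) {M N : ModuleCat.{u} A}
    (φ : M ⟶ N) :
    Function.Surjective (S.map φ).hom ↔
      ∀ y : S.obj (prodObj M N), ∃ x : S.obj (prodObj M N),
        (S.map (prM M N ≫ φ ≫ inN M N)).hom x = (S.map (prN M N ≫ inN M N)).hom y := by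
  have hM : ∀ z : S.obj M, (S.map (prM M N)).hom ((S.map (inM M N)).hom z) = z := by
    intro z
    rw [← ConcreteCategory.comp_apply, ← S.map_comp, inM_prM, S.map_id]
    rfl
  have hN : ∀ z : S.obj N, (S.map (prN M N)).hom ((S.map (inN M N)).hom z) = z := by
    intro z
    rw [← ConcreteCategory.comp_apply, ← S.map_comp, inN_prN, S.map_id]
    rfl
  constructor
  · intro h y
    obtain ⟨z, hz⟩ := h ((S.map (prN M N)).hom y)
    refine ⟨(S.map (inM M N)).hom z, ?_⟩
    rw [S.map_comp, S.map_comp, S.map_comp]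
    change (S.map (inN M N)).hom ((S.map φ).hom ((S.map (prM M N)).hom ((S.map (inM M N)).hom z))) =
      (S.map (inN M N)).hom ((S.map (prN M N)).hom y)
    rw [hM, hz]
  · intro h z
    obtain ⟨x, hx⟩ := h ((S.map (inN M N)).hom z)
    refine ⟨(S.map (prM M N)).hom x, ?_⟩
    rw [S.map_comp, S.map_comp, S.map_comp] at hx
    have hx' : (S.map (inN M N)).hom ((S.map φ).hom ((S.map (prM M N)).hom x)) =
      (S.map (inN M N)).hom ((S.map (prN M N)).hom ((S.map (inN M N)).hom z)) := hx
    rw [hN] at hx'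
    have := congrArg (S.map (prN M N)).hom hx'
    rwa [hN, hN] at this

/-- **Transport of surjectivity** along a pointwise endomorphism-equivariant isomorphism. -/
theorem EndEquiv.surjective_map_iff {S T : ModuleCat.{u} A ⥤ AddCommGrpCat.{u}} (h : EndEquiv S T)
    {M N : ModuleCat.{u} A} (φ : M ⟶ N) :
    Function.Surjective (S.map φ).hom ↔ Function.Surjective (T.map φ).hom := by
  rw [surjective_iff_range S φ, surjective_iff_range T φ]
  obtain ⟨e, he⟩ := h (prodObj M N)
  constructor
  · intro hS y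
    obtain ⟨x, hx⟩ := hS (e.symm y)
    refine ⟨e x, ?_⟩
    rw [← he, hx, he, AddEquiv.apply_symm_apply]
  · intro hT y
    obtain ⟨x, hx⟩ := hT (e y)
    refine ⟨e.symm x, ?_⟩
    apply e.injective
    rw [he, AddEquiv.apply_symm_apply, hx, he]

/-- preservation of epimorphisms is transported as well -/
theorem EndEquiv.preservesEpimorphisms {S T : ModuleCat.{u} A ⥤ AddCommGrpCat.{u}}
    (h : EndEquiv S T) (hT : T.PreservesEpimorphisms) : S.PreservesEpimorphisms := by
  refine ⟨fun {M N} φ hφ => ?_⟩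
  rw [AddCommGrpCat.epi_iff_surjective]
  have h1 : Epi (T.map φ) := hT.preserves φ
  rw [AddCommGrpCat.epi_iff_surjective] at h1
  exact (h.surjective_map_iff φ).2 h1

theorem EndEquiv.preservesEpimorphisms_iff {S T : ModuleCat.{u} A ⥤ AddCommGrpCat.{u}}
    (h : EndEquiv S T) : S.PreservesEpimorphisms ↔ T.PreservesEpimorphisms :=
  ⟨h.symm.preservesEpimorphisms, h.preservesEpimorphisms⟩

end Groth.Agent.Lib.EndEquivH44
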