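import Mathlib

/-!
# Isomorphisms of endomorphism algebras of faithfully projective modules

For `φ : End_A(F) ≃ₐ End_A(G)` with `F`, `G` finitely generated projective and `F` faithfully flat,
the module `L` of intertwiners `F → G` is invertible and `F ⊗ L ≃ G` inducing `φ`.
Everything is done with explicit dual bases (no localisation, no Morita theory).
-/

namespace Groth.Agent.Lib.EndIsoMorita

open TensorProduct

universe u
variable {A : Type u} [CommRing A]
variable {F G : Type u} [AddCommGroup F] [Module A F] [AddCommGroup G] [Module A G]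

/-- the module of intertwiners -/
def Lmod (φ : Module.End A F ≃ₐ[A] Module.End A G) : Submodule A (F →ₗ[A] G) where
  carrier := {ℓ | ∀ (b : Module.End A F) (x : F), ℓ (b x) = φ b (ℓ x)}
  add_mem' := by
    intro ℓ ℓ' h h' b x
    simp [h b x, h' b x]
  zero_mem' := by
    intro b x
    simp
  smul_mem' := by
    intro c ℓ h b x
    simp [h b x]

lemma mem_Lmod {φ : Module.End A F ≃ₐ[A] Module.End A G} {ℓ : F →ₗ[A] G} :
    ℓ ∈ Lmod φ ↔ ∀ (b : Module.End A F) (x : F), ℓ (b x) = φ b (ℓ x) := Iff.rfl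

lemma smulRight_apply_eq (μ : Module.Dual A F) (b : Module.End A F) (x : F) :
    μ.smulRight (b x) = b * μ.smulRight x := by
  ext z
  simp

variable (φ : Module.End A F ≃ₐ[A] Module.End A G)

/-- `g ↦ (x ↦ φ(θ_{x,μ}) g)` -/
noncomputable def ellLin (μ : Module.Dual A F) : G →ₗ[A] (F →ₗ[A] G) :=
  (φ.toLinearMap ∘ₗ LinearMap.smulRightₗ μ).flip

lemma ellLin_apply (μ : Module.Dual A F) (g : G) (x : F) :
    ellLin φ μ g x = φ (μ.smulRight x) g := rfl

lemma ellLin_mem (μ : Module.Dual A F) (g : G) : ellLin φ μ g ∈ Lmod φ := by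
  intro b x
  rw [ellLin_apply, ellLin_apply, smulRight_apply_eq, map_mul]
  rfl

/-- `ℓ_{μ,g}` as an element of `Lmod φ`, linear in `g` -/
noncomputable def ellOf (μ : Module.Dual A F) : G →ₗ[A] Lmod φ :=
  (ellLin φ μ).codRestrict (Lmod φ) (ellLin_mem φ μ)

lemma ellOf_apply (μ : Module.Dual A F) (g : G) (x : F) :
    (ellOf φ μ g).1 x = φ (μ.smulRight x) g := rfl

lemma ellOf_apply_mem (μ : Module.Dual A F) (ℓ : Lmod φ) (y : F) :
    ellOf φ μ (ℓ.1 y) = μ y • ℓ := by
  apply Subtype.ext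
  ext z
  rw [ellOf_apply, ← ℓ.2 (μ.smulRight z) y]
  simp

/-- evaluation `F ⊗ L → G` -/
noncomputable def xi : F ⊗[A] Lmod φ →ₗ[A] G := TensorProduct.lift (Lmod φ).subtype.flip

@[simp] lemma xi_tmul (x : F) (ℓ : Lmod φ) : xi φ (x ⊗ₜ ℓ) = ℓ.1 x := rfl

lemma exists_dualBasis (F : Type u) [AddCommGroup F] [Module A F] [Module.Finite A F]
    [Module.Projective A F] :
    ∃ (n : ℕ) (x : Fin n → F) (l : Fin n → Module.Dual A F), ∀ z, ∑ i, l i z • x i = z := by
  obtain ⟨n, f, s, -, -, hfs⟩ := Module.Finite.exists_comp_eq_id_of_projective A F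
  refine ⟨n, fun i => f (Pi.single i 1), fun i => LinearMap.proj i ∘ₗ s, fun z => ?_⟩
  have h1 : s z = ∑ i, s z i • (Pi.single i 1 : Fin n → A) := by
    ext j
    simp [Finset.sum_apply, Pi.single_apply]
  have h2 := LinearMap.congr_fun hfs z
  simp only [LinearMap.coe_comp, Function.comp_apply, LinearMap.id_coe, id_eq] at h2
  conv_rhs => rw [← h2, h1]
  simp [map_sum]

lemma sum_smulRight_eq_one {n : ℕ} (x : Fin n → F) (l : Fin n → Module.Dual A F)
    (h : ∀ z, ∑ i, l i z • x i = z) : ∑ i, (l i).smulRight (x i) = (1 : Module.End A F) := by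
  ext z
  simp [LinearMap.sum_apply, h z]

lemma exists_trace (F : Type u) [AddCommGroup F] [Module A F] [Module.Finite A F]
    [Module.Projective A F] [Module.FaithfullyFlat A F] :
    ∃ S : Finset (Module.Dual A F × F), ∑ p ∈ S, p.1 p.2 = 1 := by
  obtain ⟨n, x, l, hxl⟩ := exists_dualBasis (A := A) F
  set I : Ideal A := LinearMap.range (contractLeft A F) with hI
  have hItop : I = ⊤ := by
    by_contra hne
    obtain ⟨m, hm, hIm⟩ := Ideal.exists_le_maximal I hne
    apply Module.FaithfullyFlat.submodule_ne_top (R := A) (M := F) hm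
    rw [eq_top_iff]
    intro z _
    rw [← hxl z]
    refine Submodule.sum_mem _ fun i _ => ?_
    refine Submodule.smul_mem_smul (hIm ?_) Submodule.mem_top
    exact ⟨l i ⊗ₜ z, by simp [contractLeft_apply]⟩
  have h1 : (1 : A) ∈ I := by rw [hItop]; exact Submodule.mem_top
  obtain ⟨t, ht⟩ := h1
  obtain ⟨S, hS⟩ := TensorProduct.exists_finset t
  refine ⟨S, ?_⟩
  rw [← ht, hS, map_sum]
  simp [contractLeft_apply]

section Equiv
variable [Module.Finite A F] [Module.Projective A F]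

/-- `F ⊗ L ≃ G` -/
noncomputable def xiEquiv : F ⊗[A] Lmod φ ≃ₗ[A] G := by
  classical
  let n := (exists_dualBasis (A := A) F).choose
  let x : Fin n → F := (exists_dualBasis (A := A) F).choose_spec.choose
  let l : Fin n → Module.Dual A F := (exists_dualBasis (A := A) F).choose_spec.choose_spec.choose
  have hxl : ∀ z, ∑ i, l i z • x i = z :=
    (exists_dualBasis (A := A) F).choose_spec.choose_spec.choose_spec
  refine LinearEquiv.ofLinearMap (xi φ)
    (∑ i, (TensorProduct.mk A F (Lmod φ) (x i)) ∘ₗ (ellOf φ (l i))) ?_ ?_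
  · ext g
    simp only [LinearMap.coe_comp, Function.comp_apply, LinearMap.sum_apply, map_sum,
      TensorProduct.mk_apply, xi_tmul, LinearMap.id_coe, id_eq]
    simp only [ellOf_apply]
    rw [← LinearMap.sum_apply, ← map_sum, sum_smulRight_eq_one x l hxl, map_one]
    rfl
  · ext z ℓ
    simp only [TensorProduct.AlgebraTensorModule.curry_apply, LinearMap.restrictScalars_self,
      TensorProduct.curry_apply, LinearMap.coe_comp, Function.comp_apply, xi_tmul,
      LinearMap.sum_apply, TensorProduct.mk_apply, LinearMap.id_coe, id_eq]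
    simp only [ellOf_apply_mem, TensorProduct.tmul_smul]
    conv_rhs => rw [← hxl z]
    rw [TensorProduct.sum_tmul]
    simp only [TensorProduct.smul_tmul']

lemma xiEquiv_apply (t : F ⊗[A] Lmod φ) : xiEquiv φ t = xi φ t := rfl

lemma xiEquiv_conj (f : Module.End A F) :
    φ f = (xiEquiv φ).conj (TensorProduct.map f LinearMap.id) := by
  have h : (φ f) ∘ₗ (xiEquiv φ).toLinearMap =
      (xiEquiv φ).toLinearMap ∘ₗ (TensorProduct.map f LinearMap.id) := by
    ext z ℓ
    simp only [TensorProduct.AlgebraTensorModule.curry_apply, LinearMap.restrictScalars_self,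
      TensorProduct.curry_apply, LinearMap.coe_comp, LinearEquiv.coe_coe, Function.comp_apply,
      xiEquiv_apply, xi_tmul, TensorProduct.map_tmul, LinearMap.id_coe, id_eq]
    exact (ℓ.2 f z).symm
  ext g
  rw [LinearEquiv.conj_apply]
  simp only [LinearMap.coe_comp, LinearEquiv.coe_coe, Function.comp_apply]
  have := LinearMap.congr_fun h ((xiEquiv φ).symm g)
  simpa using this

end Equiv

section Inv

lemma comp_eq_smul (S : Finset (Module.Dual A F × F)) (hS : ∑ p ∈ S, p.1 p.2 = 1)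
    (ℓ' : Lmod φ.symm) (ℓ : Lmod φ) (z : F) :
    ℓ'.1 (ℓ.1 z) = (∑ q ∈ S, q.1 (ℓ'.1 (ℓ.1 q.2))) • z := by
  have hc : ∀ (b : Module.End A F) (x : F), ℓ'.1 (ℓ.1 (b x)) = b (ℓ'.1 (ℓ.1 x)) := by
    intro b x
    rw [ℓ.2 b x, ℓ'.2 (φ b) (ℓ.1 x), AlgEquiv.symm_apply_apply]
  calc ℓ'.1 (ℓ.1 z) = (∑ q ∈ S, q.1 q.2) • ℓ'.1 (ℓ.1 z) := by rw [hS, one_smul]
    _ = ∑ q ∈ S, ℓ'.1 (ℓ.1 ((q.1.smulRight z) q.2)) := by
        rw [Finset.sum_smul]
        refine Finset.sum_congr rfl fun q _ => ?_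
        simp
    _ = ∑ q ∈ S, (q.1.smulRight z) (ℓ'.1 (ℓ.1 q.2)) := by
        refine Finset.sum_congr rfl fun q _ => ?_
        rw [hc]
    _ = (∑ q ∈ S, q.1 (ℓ'.1 (ℓ.1 q.2))) • z := by
        rw [Finset.sum_smul]
        simp

/-- the pairing `L' × L → A` -/
noncomputable def pairing (S : Finset (Module.Dual A F × F)) :
    Lmod φ.symm →ₗ[A] Lmod φ →ₗ[A] A :=
  LinearMap.mk₂ A (fun ℓ' ℓ => ∑ q ∈ S, q.1 (ℓ'.1 (ℓ.1 q.2)))
    (fun a b c => by simp [Finset.sum_add_distrib])
    (fun c a b => by simp [Finset.mul_sum])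
    (fun a b c => by simp [Finset.sum_add_distrib])
    (fun c a b => by simp [Finset.mul_sum])

lemma pairing_apply (S : Finset (Module.Dual A F × F)) (ℓ' : Lmod φ.symm) (ℓ : Lmod φ) :
    pairing φ S ℓ' ℓ = ∑ q ∈ S, q.1 (ℓ'.1 (ℓ.1 q.2)) := rfl

lemma ellOf_comp_ellOf (ν : Module.Dual A G) (y : F) (μ : Module.Dual A F) (g : G) (z : F) :
    (ellOf φ.symm ν y).1 ((ellOf φ μ g).1 z) = μ (φ.symm (ν.smulRight g) y) • z := by
  rw [ellOf_apply, ellOf_apply, smulRight_apply_eq, map_mul, AlgEquiv.symm_apply_apply]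
  simp

lemma smul_ellOf_symm (S : Finset (Module.Dual A F × F)) (hS : ∑ p ∈ S, p.1 p.2 = 1)
    (ℓ' : Lmod φ.symm) (ℓ : Lmod φ) (ν : Module.Dual A G) (y : F) :
    pairing φ S ℓ' ℓ • ellOf φ.symm ν y = ν (ℓ.1 y) • ℓ' := by
  apply Subtype.ext
  ext g
  simp only [SetLike.val_smul, LinearMap.smul_apply]
  rw [ellOf_apply, ← map_smul, pairing_apply, ← comp_eq_smul φ S hS ℓ' ℓ y,
    ← ℓ'.2 (ν.smulRight g) (ℓ.1 y)]
  simp

variable [Module.Finite A G] [Module.Projective A G]

/-- `L' ⊗ L ≃ A` -/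
noncomputable def tensorEquiv (S : Finset (Module.Dual A F × F)) (hS : ∑ p ∈ S, p.1 p.2 = 1) :
    Lmod φ.symm ⊗[A] Lmod φ ≃ₗ[A] A := by
  classical
  let n := (exists_dualBasis (A := A) G).choose
  let g : Fin n → G := (exists_dualBasis (A := A) G).choose_spec.choose
  let ν : Fin n → Module.Dual A G := (exists_dualBasis (A := A) G).choose_spec.choose_spec.choose
  have hgν : ∀ z, ∑ i, ν i z • g i = z :=
    (exists_dualBasis (A := A) G).choose_spec.choose_spec.choose_spec
  let τ : Lmod φ.symm ⊗[A] Lmod φ :=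
    ∑ p ∈ S, ∑ k, ellOf φ.symm (ν k) p.2 ⊗ₜ[A] ellOf φ p.1 (g k)
  refine LinearEquiv.ofLinearMap (TensorProduct.lift (pairing φ S))
    (LinearMap.toSpanSingleton A _ τ) ?_ ?_
  · ext
    simp only [LinearMap.coe_comp, Function.comp_apply, LinearMap.toSpanSingleton_apply, one_smul,
      LinearMap.id_coe, id_eq, τ, map_sum, TensorProduct.lift.tmul, pairing_apply]
    simp only [ellOf_comp_ellOf, map_smul, smul_eq_mul, ← Finset.mul_sum, hS, mul_one]
    have h1 : ∀ p ∈ S, ∑ k, p.1 ((φ.symm ((ν k).smulRight (g k))) p.2) = p.1 p.2 := by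
      intro p _
      rw [← map_sum, ← LinearMap.sum_apply, ← map_sum, sum_smulRight_eq_one g ν hgν, map_one]
      rfl
    rw [Finset.sum_congr rfl h1, hS]
  · ext ℓ' ℓ
    simp only [TensorProduct.AlgebraTensorModule.curry_apply, LinearMap.restrictScalars_self,
      TensorProduct.curry_apply, LinearMap.coe_comp, Function.comp_apply, TensorProduct.lift.tmul,
      LinearMap.toSpanSingleton_apply, LinearMap.id_coe, id_eq, τ, Finset.smul_sum,
      TensorProduct.smul_tmul', smul_ellOf_symm φ S hS]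
    simp only [TensorProduct.smul_tmul, ← TensorProduct.tmul_sum, ← map_smul, ← map_sum, hgν,
      ellOf_apply_mem, ← Finset.sum_smul, hS, one_smul]

theorem invertible_Lmod [Module.Finite A F] [Module.Projective A F] [Module.FaithfullyFlat A F] :
    Module.Invertible A (Lmod φ) := by
  obtain ⟨S, hS⟩ := exists_trace (A := A) F
  exact .right (tensorEquiv φ S hS)

end Inv

theorem main [Module.Finite A F] [Module.Projective A F] [Module.FaithfullyFlat A F]
    [Module.Finite A G] [Module.Projective A G] :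
    Module.Invertible A (Lmod φ) ∧ ∃ ξ : F ⊗[A] Lmod φ ≃ₗ[A] G,
      ∀ f : Module.End A F, φ f = ξ.conj (TensorProduct.map f LinearMap.id) :=
  ⟨invertible_Lmod φ, xiEquiv φ, xiEquiv_conj φ⟩

end Groth.Agent.Lib.EndIsoMorita
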