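import Mathlib.CategoryTheory.Sites.Point.Conservative
import Mathlib.CategoryTheory.Sites.Point.Map
import Mathlib.CategoryTheory.Sites.Point.Over
import Mathlib.CategoryTheory.Sites.CoversTop.Basic
import Mathlib.CategoryTheory.Sites.Over

/-!
# Enough points is local on the terminal object
-/

set_option autoImplicit false
open CategoryTheory CategoryTheory.Limits Opposite
universe u

namespace Groth.Agent.Lib.EnoughPointsCover

open GrothendieckTopology GrothendieckTopology.Point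

variable {C : Type u} [SmallCategory C] (J : GrothendieckTopology C)

/-- The point of `J` induced by a point of `J.over X`. -/
noncomputable abbrev pointOfOver {X : C} (Φ : Point.{u} (J.over X)) : Point.{u} J :=
  Φ.map (Over.forget X) J

/-- Key lemma: joint surjectivity for the induced points forces joint surjectivity over `X`. -/
lemma exists_lift_over {X : C} (Φ : Point.{u} (J.over X)) {Y : C} (S : Sieve Y)
    (hS : ∀ (x : (pointOfOver J Φ).fiber.obj Y),
      ∃ (Y' : C) (g : Y' ⟶ Y) (_ : S g) (y : (pointOfOver J Φ).fiber.obj Y'),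
        (pointOfOver J Φ).fiber.map g y = x)
    (Z₀ : Over X) (g : Z₀.left ⟶ Y) (x : Φ.fiber.obj Z₀) :
    ∃ (W : Over X) (f : W ⟶ Z₀) (_ : S (f.left ≫ g)) (y : Φ.fiber.obj W),
      Φ.fiber.map f y = x := by
  let p : Φ.fiber.Elements ⥤ C := CategoryOfElements.π Φ.fiber ⋙ Over.forget X
  let U₀ : Φ.fiber.Elements := Φ.fiber.elementsMk Z₀ x
  obtain ⟨Y', h, hh, y', hy'⟩ := hS (ofIsCofiltered.fiberMk (p := p) (U := U₀) g)
  obtain ⟨U₁, k, rfl⟩ := ofIsCofiltered.fiberMk_jointly_surjective (p := p) y'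
  have e1 : ofIsCofiltered.fiberMk (p := p) (U := U₁) (k ≫ h) =
      ofIsCofiltered.fiberMk (p := p) (U := U₀) g := by
    rw [← hy']
    exact (ofIsCofiltered.fiber_map_fiberMk p k h).symm
  let W₀ := IsCofiltered.min U₁ U₀
  let q₁ : W₀ ⟶ U₁ := IsCofiltered.minToLeft U₁ U₀
  let q₂ : W₀ ⟶ U₀ := IsCofiltered.minToRight U₁ U₀
  have e2 : ofIsCofiltered.fiberMk (p := p) (U := W₀) (p.map q₁ ≫ k ≫ h) =
      ofIsCofiltered.fiberMk (p := p) (U := W₀) (p.map q₂ ≫ g) := by
    rw [ofIsCofiltered.fiberMk_map_comp, ofIsCofiltered.fiberMk_map_comp, e1]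
  obtain ⟨W₁, r, hr⟩ := ofIsCofiltered.exists_of_fiberMk_eq_fiberMk e2
  let f : W₁.1 ⟶ Z₀ := (r ≫ q₂).1
  refine ⟨W₁.1, f, ?_, W₁.2, (r ≫ q₂).2⟩
  have e3 : f.left ≫ g = (p.map r ≫ p.map q₁ ≫ k) ≫ h := by
    have : f.left = p.map r ≫ p.map q₂ := by
      rw [← p.map_comp]
      rfl
    rw [this]
    refine (Category.assoc _ _ _).trans (hr.symm.trans ?_)
    simp only [Category.assoc]
  rw [e3]
  exact S.downward_closed hh _

theorem hasEnoughPoints_of_coversTop {ι : Type u} (X : ι → C) (hX : J.CoversTop X)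
    (h : ∀ i, GrothendieckTopology.HasEnoughPoints.{u} (J.over (X i))) :
    GrothendieckTopology.HasEnoughPoints.{u} J := by
  choose P hPsmall hPcons using fun i => (h i).exists_objectProperty
  let Q : ObjectProperty (Point.{u} J) := fun Ψ =>
    ∃ (i : ι) (Φ : Point.{u} (J.over (X i))), P i Φ ∧ Ψ = pointOfOver J Φ
  refine ⟨Q, ?_, ?_⟩
  · have hs : ∀ i, Small.{u} (Subtype (P i)) := fun i => hPsmall i
    let φ : (Σ i, Subtype (P i)) → Subtype Q := fun t =>
      ⟨pointOfOver J t.2.1, ⟨t.1, t.2.1, t.2.2, rfl⟩⟩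
    have hφ : Function.Surjective φ := by
      rintro ⟨Ψ, i, Φ, hΦ, rfl⟩
      exact ⟨⟨i, ⟨Φ, hΦ⟩⟩, rfl⟩
    exact small_of_surjective hφ
  · apply ObjectProperty.IsConservativeFamilyOfPoints.mk'
    intro Y S hS
    refine J.transitive (hX Y) S ?_
    rintro V g ⟨i, ⟨a⟩⟩
    let Z₀ : Over (X i) := Over.mk a
    have hmem : (Sieve.overEquiv Z₀).symm (S.pullback g) ∈ (J.over (X i)) Z₀ := by
      have hcov := ((hPcons i).jointly_reflect_ofArrows_mem_of_small
        (X := Z₀) (ι := Σ W : Over (X i), {f : W ⟶ Z₀ // S (f.left ≫ g)})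
        (U := fun t => t.1) (fun t => t.2.1)).2 (by
          intro Φ x
          obtain ⟨W, f, hf, y, hy⟩ := exists_lift_over J Φ.obj S
            (fun x' => hS ⟨pointOfOver J Φ.obj, ⟨i, Φ.obj, Φ.property, rfl⟩⟩ x') Z₀ g x
          exact ⟨⟨W, ⟨f, hf⟩⟩, y, hy⟩)
      refine (J.over (X i)).superset_covering ?_ hcov
      rw [Sieve.generate_le_iff, Presieve.ofArrows_le_iff]
      rintro ⟨W, f, hf⟩
      exact hf
    exact (Sieve.overEquiv Z₀).apply_symm_apply (S.pullback g) ▸
      (GrothendieckTopology.mem_over_iff J _).1 hmem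

end Groth.Agent.Lib.EnoughPointsCover
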