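import Mathlib

/-!
# Local stabilisation of descending chains at a minimal prime of the annihilator (helper18)

* `exists_forall_smul_mem_of_fg` : uniform denominators for a f.g. submodule.
* `exists_local_stable` : `R` Noetherian, `N : ℕ → Submodule R M` antitone with `N 0` f.g. and
  `p` minimal over `Ann (N 0)`: there is `n` with `(N n)_p = (N (n+1))_p`, stated elementwise.
-/

set_option maxHeartbeats 400000

namespace Groth.Agent.Lib.EqChain18

open TensorProduct

section general

variable {R M : Type*} [CommRing R] [AddCommGroup M] [Module R M]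

lemma exists_forall_smul_mem_of_fg (p : Ideal R) [p.IsPrime] {P N : Submodule R M} (hfg : P.FG)
    (h : ∀ x ∈ P, ∃ s, s ∉ p ∧ s • x ∈ N) : ∃ s, s ∉ p ∧ ∀ x ∈ P, s • x ∈ N := by
  classical
  obtain ⟨S, hS⟩ := hfg
  have key : ∀ x ∈ S, ∃ s, s ∉ p ∧ s • x ∈ N := fun x hx => h x (hS ▸ Submodule.subset_span hx)
  choose! s hs hsx using key
  refine ⟨∏ x ∈ S, s x, ?_, ?_⟩
  · intro hmem
    obtain ⟨x, hx, hxp⟩ := (Ideal.IsPrime.prod_mem_iff).mp hmem
    exact hs x hx hxp
  · intro x hx
    rw [← hS] at hx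
    refine Submodule.span_induction (p := fun x _ => (∏ x ∈ S, s x) • x ∈ N) ?_ ?_ ?_ ?_ hx
    · intro y hy
      obtain ⟨c, hc⟩ := Finset.dvd_prod_of_mem s hy
      rw [hc, mul_comm, mul_smul]
      exact N.smul_mem _ (hsx y hy)
    · simp
    · intro a b _ _ ha hb
      rw [smul_add]; exact N.add_mem ha hb
    · intro a b _ hb
      rw [smul_comm]; exact N.smul_mem _ hb

end general

section loc

variable {R M : Type*} [CommRing R] [IsNoetherianRing R] [AddCommGroup M] [Module R M]

lemma exists_local_stable (N : ℕ → Submodule R M) (hN : Antitone N) (hfg : (N 0).FG)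
    (p : Ideal R) [p.IsPrime] (hp : p ∈ (N 0).annihilator.minimalPrimes) :
    ∃ n, ∀ x ∈ N n, ∃ s, s ∉ p ∧ s • x ∈ N (n + 1) := by
  let Rp := Localization.AtPrime p
  let Mp := LocalizedModule p.primeCompl M
  let E : ℕ → Submodule Rp Mp := fun i => (N i).localized p.primeCompl
  let I : Ideal Rp := (N 0).annihilator.map (algebraMap R Rp)
  have hmax : IsLocalRing.maximalIdeal Rp ∈ I.minimalPrimes := by
    rw [IsLocalization.minimalPrimes_map p.primeCompl Rp]
    rw [Set.mem_preimage, IsLocalization.AtPrime.under_maximalIdeal Rp p]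
    exact hp
  haveI : IsArtinianRing (Rp ⧸ I) :=
    IsLocalRing.quotient_artinian_of_mem_minimalPrimes_of_isLocalRing I hmax
  have htors : Module.IsTorsionBySet Rp (E 0) (I : Set Rp) := by
    rw [Module.isTorsionBySet_iff_subset_annihilator]
    intro a ha
    rw [SetLike.mem_coe] at ha ⊢
    refine Submodule.span_induction (p := fun a _ => a ∈ Module.annihilator Rp (E 0))
      ?_ ?_ ?_ ?_ ha
    · rintro _ ⟨r, hr, rfl⟩
      rw [Module.mem_annihilator]
      rintro ⟨x, m, hm, s, rfl⟩
      ext1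
      show algebraMap R Rp r • IsLocalizedModule.mk' _ m s = 0
      rw [algebraMap_smul, ← IsLocalizedModule.mk'_smul]
      rw [SetLike.mem_coe, Submodule.mem_annihilator] at hr
      rw [hr m hm, IsLocalizedModule.mk'_zero]
    · exact Submodule.zero_mem _
    · intro a b _ _ ha hb; exact Submodule.add_mem _ ha hb
    · intro a b _ hb; exact Submodule.smul_mem _ _ hb
  have hfin : Module.Finite Rp (E 0) := Module.Finite.iff_fg.mpr (Submodule.localized_fg (S := p.primeCompl) hfg)
  have hart : IsArtinian Rp (E 0) := by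
    letI := htors.module
    haveI : IsScalarTower Rp (Rp ⧸ I) (E 0) := htors.isScalarTower
    haveI : Module.Finite (Rp ⧸ I) (E 0) := Module.Finite.of_restrictScalars_finite Rp _ _
    haveI : IsArtinian (Rp ⧸ I) (E 0) := inferInstance
    exact isArtinian_of_surjective_algebraMap (S := Rp) (R := Rp ⧸ I)
      Ideal.Quotient.mk_surjective
  have hE : Antitone E := fun i j hij => by
    rintro x ⟨m, hm, s, rfl⟩
    exact ⟨m, hN hij hm, s, rfl⟩
  let f : ℕ →o (Submodule Rp (E 0))ᵒᵈ :=
    { toFun := fun i => OrderDual.toDual ((E i).comap (E 0).subtype)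
      monotone' := fun i j hij => Submodule.comap_mono (hE hij) }
  obtain ⟨n, hn⟩ := IsArtinian.monotone_stabilizes f
  refine ⟨n, fun x hx => ?_⟩
  have h1 : (E n).comap (E 0).subtype = (E (n + 1)).comap (E 0).subtype :=
    congrArg OrderDual.ofDual (hn (n + 1) n.le_succ)
  have hx0 : LocalizedModule.mkLinearMap p.primeCompl M x ∈ E 0 :=
    ⟨x, hN (Nat.zero_le n) hx, 1, IsLocalizedModule.mk'_one _ _ _⟩
  have hxn : (⟨_, hx0⟩ : E 0) ∈ (E n).comap (E 0).subtype :=
    ⟨x, hx, 1, IsLocalizedModule.mk'_one _ _ _⟩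
  rw [h1] at hxn
  obtain ⟨m, hm, s, hms⟩ := hxn
  have hms' : IsLocalizedModule.mk' (LocalizedModule.mkLinearMap p.primeCompl M) m s
      = IsLocalizedModule.mk' (LocalizedModule.mkLinearMap p.primeCompl M) x
        (1 : p.primeCompl) := by
    rw [hms, IsLocalizedModule.mk'_one p.primeCompl]; rfl
  rw [IsLocalizedModule.mk'_eq_mk'_iff (S := p.primeCompl)] at hms'
  obtain ⟨u, hu⟩ := hms'
  refine ⟨(u * s : p.primeCompl), (u * s).2, ?_⟩
  have : ((u * s : p.primeCompl) : R) • x = u • m := by
    rw [Submonoid.coe_mul, mul_smul]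
    simpa [Submonoid.smul_def] using hu
  rw [this]
  exact Submodule.smul_of_tower_mem _ _ hm

end loc

section supp

variable {R : Type*} {M : Type*} [CommRing R] [AddCommGroup M] [Module R M]

/-- If `M` is finite and `M ⊗ M` is locally zero at `p`, then `M` is locally zero at `p`. -/
lemma locally_zero_of_tensor_self [Module.Finite R M] (p : Ideal R) [p.IsPrime]
    (h : ∀ m m' : M, ∃ s, s ∉ p ∧ s • (m ⊗ₜ[R] m') = 0) : ∀ m : M, ∃ s, s ∉ p ∧ s • m = 0 := by
  have key : (⟨p, inferInstance⟩ : PrimeSpectrum R) ∉ Module.support R M := by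
    rw [Module.mem_support_iff_nontrivial_residueField_tensorProduct,
      not_nontrivial_iff_subsingleton]
    have h0 : Subsingleton (p.ResidueField ⊗[R] (M ⊗[R] M)) := by
      refine subsingleton_of_forall_eq 0 fun z => ?_
      induction z using TensorProduct.induction_on with
      | zero => rfl
      | add x y hx hy => rw [hx, hy, add_zero]
      | tmul k w =>
        induction w using TensorProduct.induction_on with
        | zero => simp
        | add x y hx hy => rw [TensorProduct.tmul_add, hx, hy, add_zero]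
        | tmul m m' =>
          obtain ⟨s, hs, hsm⟩ := h m m'
          have hs' : algebraMap R p.ResidueField s ≠ 0 := by
            rwa [Ne, Ideal.algebraMap_residueField_eq_zero]
          have : k ⊗ₜ[R] (m ⊗ₜ[R] m') =
              (k * (algebraMap R p.ResidueField s)⁻¹) ⊗ₜ[R] (s • (m ⊗ₜ[R] m')) := by
            rw [TensorProduct.tmul_smul, TensorProduct.smul_tmul', Algebra.smul_def,
              mul_comm, mul_assoc, inv_mul_cancel₀ hs', mul_one]
          rw [this, hsm, TensorProduct.tmul_zero]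
    have h1 : Subsingleton ((p.ResidueField ⊗[R] M) ⊗[p.ResidueField] (p.ResidueField ⊗[R] M)) :=
      (TensorProduct.AlgebraTensorModule.distribBaseChange R p.ResidueField M
        M).symm.toEquiv.subsingleton
    rw [← rank_zero_iff (R := p.ResidueField), rank_tensorProduct', mul_eq_zero, or_self,
      rank_zero_iff] at h1
    exact h1
  rw [Module.notMem_support_iff'] at key
  exact key

end supp

section step2

variable {A B : Type*} [CommRing A] [CommRing B] [Algebra A B]

/-- If `C' ⊆ Eq(C ⇉ C ⊗ C)` and `C_p = C'_p`, then `C_p = A_p` (elementwise form). -/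
lemma local_bot_of_local_eq (C C' : Subalgebra A B) [Module.Finite A C]
    (hC' : ∀ b ∈ C', ∃ hb : b ∈ C,
      ((⟨b, hb⟩ : C) ⊗ₜ[A] (1 : C) : C ⊗[A] C) = (1 : C) ⊗ₜ[A] (⟨b, hb⟩ : C))
    (p : Ideal A) [p.IsPrime] (h : ∀ b ∈ C, ∃ s, s ∉ p ∧ s • b ∈ C') :
    ∀ b ∈ C, ∃ s, s ∉ p ∧ s • b ∈ (⊥ : Subalgebra A B) := by
  let A1 : Submodule A C := LinearMap.range (Algebra.linearMap A C)
  let π : C →ₗ[A] (C ⧸ A1) := A1.mkQ
  have hπ1 : π 1 = 0 := by
    rw [Submodule.mkQ_apply, Submodule.Quotient.mk_eq_zero]; exact ⟨1, by simp⟩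
  have key : ∀ (c b : C), ∃ s, s ∉ p ∧ s • (π c ⊗ₜ[A] π b) = 0 := by
    intro c b
    obtain ⟨s, hs, hsb⟩ := h b b.2
    obtain ⟨hb', heq⟩ := hC' _ hsb
    refine ⟨s, hs, ?_⟩
    have e1 : (⟨s • (b : B), hb'⟩ : C) = s • b := Subtype.ext rfl
    rw [e1] at heq
    have := congrArg (TensorProduct.map (π ∘ₗ LinearMap.mulLeft A c) π) heq
    simp only [TensorProduct.map_tmul, LinearMap.comp_apply, LinearMap.mulLeft_apply, hπ1,
      TensorProduct.tmul_zero, mul_one, map_smul] at this
    rw [TensorProduct.tmul_smul] at this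
    exact this.symm
  have hloc := locally_zero_of_tensor_self (M := C ⧸ A1) p (fun m m' => by
    obtain ⟨c, rfl⟩ := A1.mkQ_surjective m
    obtain ⟨b, rfl⟩ := A1.mkQ_surjective m'
    exact key c b)
  intro b hb
  obtain ⟨s, hs, hsb⟩ := hloc (π ⟨b, hb⟩)
  refine ⟨s, hs, ?_⟩
  rw [← map_smul, Submodule.mkQ_apply, Submodule.Quotient.mk_eq_zero] at hsb
  obtain ⟨a, ha⟩ := hsb
  rw [Algebra.mem_bot]
  refine ⟨a, ?_⟩
  have := congrArg Subtype.val ha
  simpa using this

end step2

end Groth.Agent.Lib.EqChain18
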