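import Mathlib

/-!
# Descent of bialgebra isomorphisms along a finite equalizer system of algebras over a field (helper41)

* `exists_eq_one_tmul`: if `K` is the equalizer of `∏ Kv i ⇉ ∏ Ke k`, a compatible family of elements of
  `Kv i ⊗ A` comes from an element of `A`.
* `theta`, `comul_one_tmul`, `one_tmul_injective`: base change tools for bialgebras (no antipode), for a
  nontrivial commutative algebra `L` over a field.
* `exists_bialgHom_of_forall_exists`: an `L`-bialgebra map `L ⊗ B → L ⊗ A` sending `1 ⊗ B` into `1 ⊗ A`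
  descends.
* `main` (S15411).
-/

set_option autoImplicit false
set_option linter.unusedSectionVars false
set_option linter.deprecated false
universe u
open TensorProduct

namespace Groth.Agent.Lib.EqDescent41

section Coeff

theorem coeff_rTensor {K : Type*} [CommRing K] {M M' A : Type*} [AddCommGroup M] [Module K M]
    [AddCommGroup M'] [Module K M'] [AddCommGroup A] [Module K A] {J : Type*} [DecidableEq J]
    (𝔟 : Module.Basis J K A) (f : M →ₗ[K] M') (t : M ⊗[K] A) (j : J) :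
    TensorProduct.equivFinsuppOfBasisRight 𝔟 (f.rTensor A t) j =
      f (TensorProduct.equivFinsuppOfBasisRight 𝔟 t j) := by
  induction t using TensorProduct.induction_on with
  | zero => simp
  | add x y hx hy => simp only [map_add, Finsupp.add_apply, hx, hy]
  | tmul m a =>
    rw [LinearMap.rTensor_tmul, TensorProduct.equivFinsuppOfBasisRight_apply_tmul_apply,
      TensorProduct.equivFinsuppOfBasisRight_apply_tmul_apply, map_smul]

variable (K : Type u) [Field K] (ιv ιe : Type u) [Finite ιv] [Finite ιe]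
    (Kv : ιv → Type u) [∀ i, CommRing (Kv i)] [∀ i, Algebra K (Kv i)]
    (Ke : ιe → Type u) [∀ k, CommRing (Ke k)] [∀ k, Algebra K (Ke k)]
    (l r : ιe → ιv) (ρl : ∀ k, Kv (l k) →ₐ[K] Ke k) (ρr : ∀ k, Kv (r k) →ₐ[K] Ke k)
    (hlim : ∀ x : (∀ i, Kv i), (∀ k, ρl k (x (l k)) = ρr k (x (r k))) →
      ∃! a : K, ∀ i, algebraMap K (Kv i) a = x i)
    (A : Type u) [AddCommGroup A] [Module K A]

include hlim in
theorem exists_eq_one_tmul (t : ∀ i, Kv i ⊗[K] A)
    (ht : ∀ k, (ρl k).toLinearMap.rTensor A (t (l k)) = (ρr k).toLinearMap.rTensor A (t (r k))) :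
    ∃ a : A, ∀ i, t i = (1 : Kv i) ⊗ₜ[K] a := by
  classical
  have _ : Fintype ιv := Fintype.ofFinite ιv
  let 𝔟 := Module.Free.chooseBasis K A
  let c : ∀ i, (Module.Free.ChooseBasisIndex K A) → Kv i :=
    fun i j => TensorProduct.equivFinsuppOfBasisRight 𝔟 (t i) j
  have hc : ∀ j k, ρl k (c (l k) j) = ρr k (c (r k) j) := by
    intro j k
    have h1 := coeff_rTensor 𝔟 (ρl k).toLinearMap (t (l k)) j
    have h2 := coeff_rTensor 𝔟 (ρr k).toLinearMap (t (r k)) j
    rw [ht k] at h1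
    exact (h1.symm.trans h2)
  choose a ha ha' using fun j => hlim (fun i => c i j) (hc j)
  let S : Finset (Module.Free.ChooseBasisIndex K A) :=
    Finset.univ.biUnion (fun i => (TensorProduct.equivFinsuppOfBasisRight 𝔟 (t i)).support)
  have hS : ∀ j, j ∉ S → a j = 0 := by
    intro j hj
    refine (ha' j 0 ?_).symm
    intro i
    rw [map_zero]
    by_contra hne
    apply hj
    refine Finset.mem_biUnion.2 ⟨i, Finset.mem_univ _, ?_⟩
    rw [Finsupp.mem_support_iff]
    exact fun h0 => hne h0.symm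
  refine ⟨∑ j ∈ S, a j • 𝔟 j, fun i => ?_⟩
  apply (TensorProduct.equivFinsuppOfBasisRight 𝔟).injective
  ext j
  rw [TensorProduct.equivFinsuppOfBasisRight_apply_tmul_apply]
  have h1 : 𝔟.repr (∑ j ∈ S, a j • 𝔟 j) j = a j := by
    rw [map_sum, Finsupp.finset_sum_apply]
    simp only [map_smul, Module.Basis.repr_self, Finsupp.smul_apply, Finsupp.single_apply,
      smul_eq_mul, mul_ite, mul_one, mul_zero]
    rw [Finset.sum_ite_eq' S j]
    split_ifs with hj
    · rfl
    · exact (hS j hj).symm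
  rw [h1, ← Algebra.algebraMap_eq_smul_one]
  exact (ha j i).symm

end Coeff

end Groth.Agent.Lib.EqDescent41

namespace Groth.Agent.Lib.EqDescent41

section Theta

variable {K : Type u} [CommRing K] (L : Type u) [CommRing L] [Algebra K L]
  {M N : Type u} [AddCommGroup M] [Module K M] [AddCommGroup N] [Module K N]

/-- `x ⊗ (a ⊗ b) ↦ (1 ⊗ a) ⊗ (x ⊗ b)`: the identification `L ⊗ (M ⊗ N) ≃ (L ⊗ M) ⊗_L (L ⊗ N)`. -/
noncomputable def theta : L ⊗[K] (M ⊗[K] N) ≃ₗ[K] (L ⊗[K] M) ⊗[L] (L ⊗[K] N) :=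
  (TensorProduct.congr ((TensorProduct.lid L L).symm.restrictScalars K)
    (LinearEquiv.refl K (M ⊗[K] N))) ≪≫ₗ
  (TensorProduct.AlgebraTensorModule.tensorTensorTensorComm K L K L L L M N).restrictScalars K

theorem theta_tmul (x : L) (t : M ⊗[K] N) :
    theta L (x ⊗ₜ[K] t) =
      TensorProduct.AlgebraTensorModule.tensorTensorTensorComm K L K L L L M N
        (((1 : L) ⊗ₜ[L] x) ⊗ₜ[K] t) := by
  simp [theta]

theorem theta_tmul_tmul (x : L) (a : M) (b : N) :
    theta L (x ⊗ₜ[K] (a ⊗ₜ[K] b)) = ((1 : L) ⊗ₜ[K] a) ⊗ₜ[L] (x ⊗ₜ[K] b) := by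
  rw [theta_tmul]
  simp

end Theta

section Descend

variable {K : Type u} [Field K] (L : Type u) [CommRing L] [Algebra K L] [Nontrivial L]

theorem one_tmul_injective (M : Type u) [AddCommGroup M] [Module K M] :
    Function.Injective (fun m : M => (1 : L) ⊗ₜ[K] m) := by
  have hinj : Function.Injective (Algebra.linearMap K L) := (algebraMap K L).injective
  have h := Module.Flat.rTensor_preserves_injective_linearMap (M := M) (Algebra.linearMap K L) hinj
  intro a b hab
  apply (TensorProduct.lid K M).symm.injective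
  apply h
  simpa using hab

variable {A B : Type u} [CommRing A] [CommRing B] [Bialgebra K A] [Bialgebra K B]

theorem comul_one_tmul (a : A) :
    CoalgebraStruct.comul (R := L) ((1 : L) ⊗ₜ[K] a) =
      theta L ((1 : L) ⊗ₜ[K] CoalgebraStruct.comul (R := K) a) := by
  rw [theta_tmul, TensorProduct.comul_tmul]
  rfl

theorem counit_one_tmul (a : A) :
    CoalgebraStruct.counit (R := L) ((1 : L) ⊗ₜ[K] a) =
      algebraMap K L (CoalgebraStruct.counit (R := K) a) := by
  rw [TensorProduct.counit_tmul, Algebra.smul_def]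
  simp

theorem theta_one_tmul_injective :
    Function.Injective (fun t : A ⊗[K] A => theta (M := A) (N := A) L ((1 : L) ⊗ₜ[K] t)) :=
  (theta L).injective.comp (one_tmul_injective L (A ⊗[K] A))

/-- A bialgebra map `L ⊗ B → L ⊗ A` sending `1 ⊗ B` into `1 ⊗ A` descends to `B → A`. -/
theorem exists_bialgHom_of_forall_exists (φ : L ⊗[K] B →ₐc[L] L ⊗[K] A)
    (h : ∀ b : B, ∃ a : A, φ ((1 : L) ⊗ₜ[K] b) = (1 : L) ⊗ₜ[K] a) :
    ∃ f : B →ₐc[K] A, ∀ (c : L) (b : B), φ (c ⊗ₜ[K] b) = c ⊗ₜ[K] f b := by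
  choose f hf using h
  have inj := one_tmul_injective (K := K) L A
  have f_add : ∀ b b', f (b + b') = f b + f b' := by
    intro b b'
    apply inj
    show (1 : L) ⊗ₜ[K] f (b + b') = (1 : L) ⊗ₜ[K] (f b + f b')
    rw [← hf, TensorProduct.tmul_add, map_add, hf, hf, TensorProduct.tmul_add]
  have f_smul : ∀ (r : K) b, f (r • b) = r • f b := by
    intro r b
    apply inj
    show (1 : L) ⊗ₜ[K] f (r • b) = (1 : L) ⊗ₜ[K] (r • f b)
    rw [← hf, TensorProduct.tmul_smul, TensorProduct.tmul_smul, ← hf,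
      ← algebraMap_smul L r ((1 : L) ⊗ₜ[K] b), map_smul, algebraMap_smul]
  have f_one : f 1 = 1 := by
    apply inj
    show (1 : L) ⊗ₜ[K] f 1 = (1 : L) ⊗ₜ[K] (1 : A)
    rw [← hf, ← Algebra.TensorProduct.one_def, map_one, Algebra.TensorProduct.one_def]
  have f_mul : ∀ b b', f (b * b') = f b * f b' := by
    intro b b'
    apply inj
    show (1 : L) ⊗ₜ[K] f (b * b') = (1 : L) ⊗ₜ[K] (f b * f b')
    have h1 : (1 : L) ⊗ₜ[K] (b * b') = ((1 : L) ⊗ₜ[K] b) * ((1 : L) ⊗ₜ[K] b') := by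
      rw [Algebra.TensorProduct.tmul_mul_tmul, one_mul]
    rw [← hf, h1, map_mul, hf, hf, Algebra.TensorProduct.tmul_mul_tmul, one_mul]
  let fl : B →ₗ[K] A := { toFun := f, map_add' := f_add, map_smul' := f_smul }
  let fa : B →ₐ[K] A := AlgHom.ofLinearMap fl f_one f_mul
  have hfa : ∀ b, fa b = f b := fun _ => rfl
  have key : ∀ t : B ⊗[K] B,
      TensorProduct.map (φ : L ⊗[K] B →ₗ[L] L ⊗[K] A) (φ : L ⊗[K] B →ₗ[L] L ⊗[K] A)
      (theta L ((1 : L) ⊗ₜ[K] t)) =
        theta L ((1 : L) ⊗ₜ[K] (Algebra.TensorProduct.map fa fa t)) := by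
    intro t
    induction t using TensorProduct.induction_on with
    | zero => simp
    | add a b ha hb => simp only [map_add, TensorProduct.tmul_add, ha, hb]
    | tmul a b =>
      rw [theta_tmul_tmul, TensorProduct.map_tmul, Algebra.TensorProduct.map_tmul, theta_tmul_tmul,
        hfa, hfa, ← hf, ← hf]
      rfl
  refine ⟨BialgHom.ofAlgHom fa ?_ ?_, ?_⟩
  · apply AlgHom.ext
    intro b
    show Coalgebra.counit (R := K) (f b) = Coalgebra.counit (R := K) b
    have h1 : Coalgebra.counit (R := L) (φ ((1 : L) ⊗ₜ[K] b)) =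
        Coalgebra.counit (R := L) ((1 : L) ⊗ₜ[K] b) := CoalgHomClass.counit_comp_apply φ _
    rw [hf, counit_one_tmul, counit_one_tmul] at h1
    exact (algebraMap K L).injective h1
  · apply AlgHom.ext
    intro b
    show Algebra.TensorProduct.map fa fa (CoalgebraStruct.comul (R := K) b) =
      CoalgebraStruct.comul (R := K) (f b)
    apply theta_one_tmul_injective L
    show theta L ((1 : L) ⊗ₜ[K] Algebra.TensorProduct.map fa fa (CoalgebraStruct.comul (R := K) b)) =
      theta L ((1 : L) ⊗ₜ[K] CoalgebraStruct.comul (R := K) (f b))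
    rw [← key, ← comul_one_tmul, ← comul_one_tmul, ← hf]
    exact CoalgHomClass.map_comp_comul_apply φ _
  · intro c b
    show φ (c ⊗ₜ[K] b) = c ⊗ₜ[K] f b
    have h1 : ∀ (x : A), c ⊗ₜ[K] x = c • ((1 : L) ⊗ₜ[K] x) := by
      intro x; rw [TensorProduct.smul_tmul', smul_eq_mul, mul_one]
    have h2 : c ⊗ₜ[K] b = c • ((1 : L) ⊗ₜ[K] b) := by
      rw [TensorProduct.smul_tmul', smul_eq_mul, mul_one]
    rw [h1, h2, map_smul, hf]

end Descend

end Groth.Agent.Lib.EqDescent41

namespace Groth.Agent.Lib.EqDescent41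

section Main

variable (K : Type u) [Field K] (ιv ιe : Type u) [Finite ιv] [Finite ιe]
    (Kv : ιv → Type u) [∀ i, CommRing (Kv i)] [∀ i, Algebra K (Kv i)]
    (Ke : ιe → Type u) [∀ k, CommRing (Ke k)] [∀ k, Algebra K (Ke k)]
    (l r : ιe → ιv) (ρl : ∀ k, Kv (l k) →ₐ[K] Ke k) (ρr : ∀ k, Kv (r k) →ₐ[K] Ke k)
    (hlim : ∀ x : (∀ i, Kv i), (∀ k, ρl k (x (l k)) = ρr k (x (r k))) →
      ∃! a : K, ∀ i, algebraMap K (Kv i) a = x i)

include hlim in
theorem exists_nontrivial : ∃ i, Nontrivial (Kv i) := by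
  by_contra hcon
  push Not at hcon
  have hsub : ∀ i, Subsingleton (Kv i) := fun i => hcon i
  obtain ⟨a, _, ha'⟩ := hlim (fun _ => 0) (fun k => by rw [map_zero, map_zero])
  have h0 : (0 : K) = a := ha' 0 (fun i => Subsingleton.elim _ _)
  have h1 : (1 : K) = a := ha' 1 (fun i => Subsingleton.elim _ _)
  exact zero_ne_one (h0.trans h1.symm)

theorem map_id_eq_rTensor {L L' : Type u} [CommRing L] [CommRing L'] [Algebra K L] [Algebra K L']
    (A : Type u) [CommRing A] [Algebra K A] (ρ : L →ₐ[K] L') (x : L ⊗[K] A) :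
    Algebra.TensorProduct.map ρ (AlgHom.id K A) x = ρ.toLinearMap.rTensor A x := by
  induction x using TensorProduct.induction_on with
  | zero => simp
  | add x y hx hy => rw [map_add, map_add, hx, hy]
  | tmul c a => rfl

variable (A B : Type u) [CommRing A] [CommRing B] [Bialgebra K A] [Bialgebra K B]

include hlim in
theorem main (u : ∀ i, (Kv i ⊗[K] B) ≃ₐc[Kv i] (Kv i ⊗[K] A))
    (hu : ∀ (k : ιe) (b : B),
      Algebra.TensorProduct.map (ρl k) (AlgHom.id K A) (u (l k) (1 ⊗ₜ[K] b)) =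
        Algebra.TensorProduct.map (ρr k) (AlgHom.id K A) (u (r k) (1 ⊗ₜ[K] b))) :
    ∃! v : B ≃ₐc[K] A, ∀ (i : ιv) (b : B), u i (1 ⊗ₜ[K] b) = 1 ⊗ₜ[K] v b := by
  obtain ⟨i₀, hi₀⟩ := exists_nontrivial K ιv ιe Kv Ke l r ρl ρr hlim
  have hex : ∀ b : B, ∃ a : A, ∀ i, u i ((1 : Kv i) ⊗ₜ[K] b) = (1 : Kv i) ⊗ₜ[K] a := by
    intro b
    refine exists_eq_one_tmul K ιv ιe Kv Ke l r ρl ρr hlim A
      (fun i => u i ((1 : Kv i) ⊗ₜ[K] b)) ?_
    intro k
    rw [← map_id_eq_rTensor, ← map_id_eq_rTensor]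
    exact hu k b
  choose v₀ hv₀ using hex
  obtain ⟨f, hf⟩ := exists_bialgHom_of_forall_exists (K := K) (Kv i₀)
    ((u i₀ : (Kv i₀ ⊗[K] B) →ₐc[Kv i₀] (Kv i₀ ⊗[K] A)))
    (fun b => ⟨v₀ b, hv₀ b i₀⟩)
  have hinj := one_tmul_injective (K := K) (Kv i₀) A
  have hfv : ∀ b, f b = v₀ b := by
    intro b
    apply hinj
    show (1 : Kv i₀) ⊗ₜ[K] f b = (1 : Kv i₀) ⊗ₜ[K] v₀ b
    rw [← hf, ← hv₀ b i₀]
    rfl
  have hbij : Function.Bijective f := by
    have hff : Module.FaithfullyFlat K (Kv i₀) := inferInstance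
    have hgoal : Function.Bijective ((f : B →ₐ[K] A).toLinearMap) →
        Function.Bijective f := fun h => h
    apply hgoal
    rw [← Module.FaithfullyFlat.lTensor_bijective_iff_bijective K (Kv i₀)
      ((f : B →ₐ[K] A).toLinearMap)]
    have heq : ∀ x, ((f : B →ₐ[K] A).toLinearMap).lTensor (Kv i₀) x = u i₀ x := by
      intro x
      induction x using TensorProduct.induction_on with
      | zero => simp
      | add x y hx hy => rw [map_add, map_add, hx, hy]
      | tmul c b =>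
        rw [LinearMap.lTensor_tmul]
        exact (hf c b).symm
    have : ⇑(((f : B →ₐ[K] A).toLinearMap).lTensor (Kv i₀)) = ⇑(u i₀) := funext heq
    rw [this]
    exact (u i₀).bijective
  refine ⟨BialgEquiv.ofBijective f hbij, ?_, ?_⟩
  · intro i b
    show u i (1 ⊗ₜ[K] b) = 1 ⊗ₜ[K] f b
    rw [hfv, hv₀]
  · intro v' hv'
    apply BialgEquiv.ext
    intro b
    apply hinj
    show (1 : Kv i₀) ⊗ₜ[K] v' b = (1 : Kv i₀) ⊗ₜ[K] (BialgEquiv.ofBijective f hbij) b
    rw [← hv' i₀ b]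
    show u i₀ (1 ⊗ₜ[K] b) = 1 ⊗ₜ[K] f b
    rw [hfv, hv₀]

end Main

end Groth.Agent.Lib.EqDescent41
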