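-- Helper: the open locus where two morphisms into a scheme with open relative diagonal agree.
import Mathlib.AlgebraicGeometry.Morphisms.Separated
import Mathlib.AlgebraicGeometry.Morphisms.FormallyUnramified
import Mathlib.AlgebraicGeometry.Restrict

set_option autoImplicit false
universe u

namespace Groth.Agent.Lib.EqLocus

open CategoryTheory CategoryTheory.Limits AlgebraicGeometry

variable {X Y S : Scheme.{u}} (h : Y ⟶ S) (f g : X ⟶ Y) (w : f ≫ h = g ≫ h)

/-- The pullback of the diagonal of `h` along `(f, g)`, with its projection to `X`. -/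
noncomputable abbrev eqMap : pullback (pullback.diagonal h) (pullback.lift f g w) ⟶ X :=
  pullback.snd (pullback.diagonal h) (pullback.lift f g w)

lemma eqMap_comp : eqMap h f g w ≫ f = eqMap h f g w ≫ g := by
  have hc := pullback.condition (f := pullback.diagonal h) (g := pullback.lift f g w)
  have h1 := congr($hc ≫ pullback.fst h h)
  have h2 := congr($hc ≫ pullback.snd h h)
  simp only [Category.assoc, pullback.diagonal_fst, pullback.diagonal_snd,
    pullback.lift_fst, pullback.lift_snd, Category.comp_id] at h1 h2
  exact h1.symm.trans h2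

/-- Any morphism equalizing `f` and `g` factors through `eqMap`. -/
lemma range_subset_of_comp_eq {P : Scheme.{u}} (p : P ⟶ X) (hp : p ≫ f = p ≫ g) :
    Set.range p ⊆ Set.range (eqMap h f g w) := by
  let l : P ⟶ pullback (pullback.diagonal h) (pullback.lift f g w) :=
    pullback.lift (p ≫ f) p (by
      apply pullback.hom_ext
      · simp only [Category.assoc]
        erw [pullback.diagonal_fst, pullback.lift_fst]
        simp
      · simp only [Category.assoc]
        erw [pullback.diagonal_snd, pullback.lift_snd]
        simp [hp])
  have hl : l ≫ eqMap h f g w = p := pullback.lift_snd _ _ _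
  rw [← hl]
  simp only [Scheme.Hom.comp_base, TopCat.hom_comp, ContinuousMap.coe_comp]
  exact Set.range_comp_subset_range _ _

variable [IsOpenImmersion (pullback.diagonal h)]

/-- The open subset of `X` where `f` and `g` agree. -/
noncomputable def eqLocus : X.Opens := (eqMap h f g w).opensRange

lemma eqLocus_ι_comp : (eqLocus h f g w).ι ≫ f = (eqLocus h f g w).ι ≫ g := by
  rw [eqLocus, ← Scheme.Hom.isoOpensRange_inv_comp, Category.assoc, Category.assoc, eqMap_comp]

lemma ι_comp_of_le (U : X.Opens) (hU : U ≤ eqLocus h f g w) : U.ι ≫ f = U.ι ≫ g := by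
  rw [← X.homOfLE_ι hU, Category.assoc, Category.assoc, eqLocus_ι_comp]

lemma range_subset_eqLocus {P : Scheme.{u}} (p : P ⟶ X) (hp : p ≫ f = p ≫ g) :
    Set.range p ⊆ (eqLocus h f g w : Set X) := by
  have := range_subset_of_comp_eq h f g w p hp
  simpa [eqLocus] using this

lemma isClosed_eqLocus [IsSeparated h] : IsClosed (eqLocus h f g w : Set X) := by
  have : IsClosedImmersion (eqMap h f g w) := inferInstance
  simpa [eqLocus] using (eqMap h f g w).isClosedEmbedding.isClosed_range

end Groth.Agent.Lib.EqLocus
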