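import Mathlib.CategoryTheory.EquivalenceRelation
import Mathlib.CategoryTheory.Functor.RegularEpi
import Mathlib.CategoryTheory.Limits.FunctorCategory.EpiMono
import Mathlib.CategoryTheory.Limits.Types.Pullbacks
import Mathlib.CategoryTheory.Limits.Preserves.Shapes.BinaryProducts
import Mathlib.CategoryTheory.Limits.Constructions.EpiMono
import Mathlib.CategoryTheory.Limits.Shapes.Pullback.IsPullback.Basic
import Mathlib.CategoryTheory.Limits.Shapes.Pullback.IsPullback.Kernels

set_option autoImplicit false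
open CategoryTheory CategoryTheory.Limits Opposite
universe w v₁ u₁

namespace Groth.Agent.Lib.EqRelQuot

section General

variable {C : Type*} [Category C] {D : Type*} [Category D]

/-- A functor preserving binary products and monomorphisms preserves jointly monic pairs. -/
theorem jointlyMono₂_map [HasBinaryProducts C] [HasBinaryProducts D] (F : C ⥤ D)
    [PreservesLimitsOfShape (Discrete WalkingPair) F] [F.PreservesMonomorphisms]
    {R X₁ X₂ : C} (p₁ : R ⟶ X₁) (p₂ : R ⟶ X₂) [h : JointlyMono₂ p₁ p₂] :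
    JointlyMono₂ (F.map p₁) (F.map p₂) := by
  have h0 : Mono (prod.lift p₁ p₂) := ⟨fun f g hfg => h.right_cancellation f g
    (by simpa only [Category.assoc, prod.lift_fst] using hfg =≫ prod.fst)
    (by simpa only [Category.assoc, prod.lift_snd] using hfg =≫ prod.snd)⟩
  have h1 : Mono (F.map (prod.lift p₁ p₂)) := inferInstance
  constructor
  intro Y f g h1 h2
  rw [← cancel_mono (F.map (prod.lift p₁ p₂)), ← cancel_mono (prodComparison F X₁ X₂)]
  ext
  · simp only [Category.assoc, prodComparison_fst, ← F.map_comp, prod.lift_fst, h1]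
  · simp only [Category.assoc, prodComparison_snd, ← F.map_comp, prod.lift_snd, h2]

/-- Image of an equivalence relation under a functor preserving pullbacks and joint monicity. -/
noncomputable def equivalenceRelationMap {R X : C} {p₁ p₂ : R ⟶ X} (e : EquivalenceRelation p₁ p₂)
    (F : C ⥤ D) [JointlyMono₂ (F.map p₁) (F.map p₂)] [PreservesLimitsOfShape WalkingCospan F] :
    EquivalenceRelation (F.map p₁) (F.map p₂) :=
  { e.toReflexiveRelation.map F, e.toSymmetricRelation.map F, e.toTransitiveRelation.map F with }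

end General

section Types

variable {R X : Type w} (p₁ p₂ : R ⟶ X)

/-- The quotient map `X ⟶ X / R`. -/
def quotMk : X ⟶ Quot (TypeCat.Rel.ofPair p₁ p₂) := ↾(Quot.mk _)

theorem quotMk_w : p₁ ≫ quotMk p₁ p₂ = p₂ ≫ quotMk p₁ p₂ := by
  ext r
  exact Quot.sound ⟨r, rfl, rfl⟩

variable {p₁ p₂}

theorem types_isKernelPair (e : EquivalenceRelation p₁ p₂) :
    IsKernelPair (quotMk p₁ p₂) p₁ p₂ := by
  rw [IsKernelPair, Types.isPullback_iff]
  refine ⟨quotMk_w p₁ p₂, ?_, ?_⟩
  · rintro x y ⟨h1, h2⟩
    let f : PUnit.{w+1} ⟶ R := ↾(fun _ => x)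
    let g : PUnit.{w+1} ⟶ R := ↾(fun _ => y)
    have hfg : f = g := e.right_cancellation f g (by ext; exact h1) (by ext; exact h2)
    exact ConcreteCategory.congr_hom hfg PUnit.unit
  · intro x y hxy
    have h1 : Relation.EqvGen (TypeCat.Rel.ofPair p₁ p₂) x y := Quot.eqvGen_exact hxy
    rw [(TypeCat.equivalence_of_equivalenceRelation e).eqvGen_iff] at h1
    exact h1

theorem types_isPushout (e : EquivalenceRelation p₁ p₂) :
    IsPushout p₁ p₂ (quotMk p₁ p₂) (quotMk p₁ p₂) := by
  have hrefl : ∀ x : X, ∃ r : R, p₁ r = x ∧ p₂ r = x :=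
    (TypeCat.equivalence_of_equivalenceRelation e).refl
  refine ⟨⟨quotMk_w p₁ p₂⟩, ⟨PushoutCocone.IsColimit.mk _ (fun s => ?_) (fun s => ?_) (fun s => ?_)
    (fun s m h1 h2 => ?_)⟩⟩
  · refine ↾(Quot.lift s.inl ?_)
    rintro a b ⟨r, rfl, rfl⟩
    obtain ⟨r', h1, h2⟩ := hrefl (p₂ r)
    have := ConcreteCategory.congr_hom s.condition r
    have h' := ConcreteCategory.congr_hom s.condition r'
    simp only [ConcreteCategory.comp_apply] at this h'
    rw [this, ← h2, ← h', h1, h2]
  · ext x
    rfl
  · ext x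
    obtain ⟨r', h1, h2⟩ := hrefl x
    have h' := ConcreteCategory.congr_hom s.condition r'
    simp only [ConcreteCategory.comp_apply] at h'
    rw [h1, h2] at h'
    exact h'
  · ext z
    induction z using Quot.ind with
    | mk x => exact ConcreteCategory.congr_hom h1 x

end Types

section Presheaf

variable {C : Type u₁} [Category.{v₁} C] {R X : Cᵒᵖ ⥤ Type w} (p₁ p₂ : R ⟶ X)

theorem rel_map {U V : Cᵒᵖ} (f : U ⟶ V) (x y : X.obj U)
    (h : TypeCat.Rel.ofPair (p₁.app U) (p₂.app U) x y) :
    TypeCat.Rel.ofPair (p₁.app V) (p₂.app V) (X.map f x) (X.map f y) := by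
  obtain ⟨r, rfl, rfl⟩ := h
  exact ⟨R.map f r, ConcreteCategory.congr_hom (p₁.naturality f) r,
    ConcreteCategory.congr_hom (p₂.naturality f) r⟩

/-- The sectionwise quotient of a presheaf of sets by a relation. -/
def quotPresheaf : Cᵒᵖ ⥤ Type w where
  obj U := Quot (TypeCat.Rel.ofPair (p₁.app U) (p₂.app U))
  map f := ↾(Quot.map (X.map f) (rel_map p₁ p₂ f))
  map_id U := by
    ext z
    induction z using Quot.ind with
    | mk x => simp [Quot.map]
  map_comp f g := by
    ext z
    induction z using Quot.ind with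
    | mk x => simp [Quot.map]

/-- The quotient map to the sectionwise quotient. -/
def quotπ : X ⟶ quotPresheaf p₁ p₂ where
  app U := quotMk (p₁.app U) (p₂.app U)
  naturality U V f := by
    ext x
    rfl

variable {p₁ p₂}

instance (U : Cᵒᵖ) [JointlyMono₂ p₁ p₂] :
    JointlyMono₂ (((evaluation Cᵒᵖ (Type w)).obj U).map p₁)
      (((evaluation Cᵒᵖ (Type w)).obj U).map p₂) :=
  jointlyMono₂_map _ p₁ p₂

/-- Sectionwise equivalence relation. -/
noncomputable def equivalenceRelationApp (e : EquivalenceRelation p₁ p₂) (U : Cᵒᵖ) :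
    EquivalenceRelation (p₁.app U) (p₂.app U) :=
  have : JointlyMono₂ p₁ p₂ := e.toJointlyMono₂
  equivalenceRelationMap e ((evaluation Cᵒᵖ (Type w)).obj U)

theorem presheaf_isKernelPair (e : EquivalenceRelation p₁ p₂) :
    IsKernelPair (quotπ p₁ p₂) p₁ p₂ :=
  IsPullback.of_forall_isPullback_app fun U => types_isKernelPair (equivalenceRelationApp e U)

theorem presheaf_isPushout (e : EquivalenceRelation p₁ p₂) :
    IsPushout p₁ p₂ (quotπ p₁ p₂) (quotπ p₁ p₂) :=
  IsPushout.of_forall_isPushout_app fun U => types_isPushout (equivalenceRelationApp e U)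

/-- Epimorphisms of presheaves of sets are universally effective. -/
theorem presheaf_uee_of_epi {A B : Cᵒᵖ ⥤ Type w} (f : A ⟶ B) [Epi f] :
    (MorphismProperty.universally
      (fun (A B : Cᵒᵖ ⥤ Type w) (p : A ⟶ B) => EffectiveEpi p)) f := by
  intro A' B' i₁ i₂ f' H
  have : Epi f' := by
    rw [NatTrans.epi_iff_epi_app]
    intro U
    have hU : Epi (f.app U) := (NatTrans.epi_iff_epi_app f).1 inferInstance U
    rw [epi_iff_surjective] at hU ⊢
    intro y
    obtain ⟨x, hx⟩ := hU (i₂.app U y)
    obtain ⟨z, hz1, -⟩ := Types.exists_of_isPullback (H.app U) y x hx.symm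
    exact ⟨z, hz1⟩
  have : IsRegularEpi f' := IsRegularEpiCategory.regularEpiOfEpi f'
  infer_instance

instance : Epi (quotπ p₁ p₂) := by
  rw [NatTrans.epi_iff_epi_app]
  intro U
  rw [epi_iff_surjective]
  exact Quot.mk_surjective

/-- Equivalence relations on presheaves of sets are universally effective. -/
noncomputable def presheafUEER (e : EquivalenceRelation p₁ p₂) :
    UniversallyEffectiveEquivalenceRelation p₁ p₂ where
  toEquivalenceRelation := e
  B := quotPresheaf p₁ p₂
  π := quotπ p₁ p₂
  isKernelPair := presheaf_isKernelPair e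
  isPushout := presheaf_isPushout e
  universally_effectiveEpi_π := presheaf_uee_of_epi _

end Presheaf

end Groth.Agent.Lib.EqRelQuot
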