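import Mathlib.AlgebraicGeometry.Morphisms.FormallyUnramified
import Mathlib.AlgebraicGeometry.Morphisms.Etale

/-!
# The equalizer of two lifts along a morphism with open diagonal is open (helper45)

For `f : X ⟶ Y` with `pullback.diagonal f` an open immersion (e.g. `f` étale or unramified) and
`φ ψ : P ⟶ X` with `φ ≫ f = ψ ≫ f`, `eqLocus f φ ψ h` is the open subset of `P` on which `φ` and
`ψ` agree: a morphism `q : Q ⟶ P` equalizes `φ` and `ψ` iff its range lies in `eqLocus`.
-/

set_option autoImplicit false
set_option linter.unusedSectionVars false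
universe u
open CategoryTheory CategoryTheory.Limits AlgebraicGeometry

namespace Groth.Agent.Lib.EqualizerOpen45

variable {P X Y : Scheme.{u}} (f : X ⟶ Y) [IsOpenImmersion (pullback.diagonal f)]
  (φ ψ : P ⟶ X) (h : φ ≫ f = ψ ≫ f)

/-- The inclusion of the equalizer. -/
noncomputable abbrev eqι : pullback (pullback.diagonal f) (pullback.lift φ ψ h) ⟶ P :=
  pullback.snd (pullback.diagonal f) (pullback.lift φ ψ h)

/-- The open subset where `φ` and `ψ` agree. -/
noncomputable def eqLocus : P.Opens := (eqι f φ ψ h).opensRange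

lemma eqι_comp : eqι f φ ψ h ≫ φ = eqι f φ ψ h ≫ ψ := by
  have hc := pullback.condition (f := pullback.diagonal f) (g := pullback.lift φ ψ h)
  have h1 := congr($hc ≫ pullback.fst f f)
  have h2 := congr($hc ≫ pullback.snd f f)
  simp only [Category.assoc, pullback.diagonal_fst, pullback.diagonal_snd, pullback.lift_fst,
    pullback.lift_snd, Category.comp_id] at h1 h2
  rw [← h1, ← h2]

theorem comp_eq_iff_range_subset {Q : Scheme.{u}} (q : Q ⟶ P) :
    q ≫ φ = q ≫ ψ ↔ Set.range q ⊆ (eqLocus f φ ψ h : Set P) := by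
  constructor
  · intro hq
    have hcond : (q ≫ φ) ≫ pullback.diagonal f = q ≫ pullback.lift φ ψ h := by
      apply pullback.hom_ext
      · simp only [Category.assoc, pullback.diagonal_fst, Category.comp_id, pullback.lift_fst]
      · simp only [Category.assoc, pullback.diagonal_snd, Category.comp_id, pullback.lift_snd, hq]
    have hfac : pullback.lift (q ≫ φ) q hcond ≫ eqι f φ ψ h = q := pullback.lift_snd _ _ _
    rintro _ ⟨z, rfl⟩
    refine ⟨pullback.lift (q ≫ φ) q hcond z, ?_⟩
    rw [← Scheme.Hom.comp_apply, hfac]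
  · intro hr
    have hr' : Set.range q ⊆ Set.range (eqι f φ ψ h) := hr
    have hfac : IsOpenImmersion.lift (eqι f φ ψ h) q hr' ≫ eqι f φ ψ h = q :=
      IsOpenImmersion.lift_fac _ _ _
    rw [← hfac, Category.assoc, Category.assoc, eqι_comp]

theorem eq_of_eqLocus_eq_top (htop : eqLocus f φ ψ h = ⊤) : φ = ψ := by
  have := (comp_eq_iff_range_subset f φ ψ h (𝟙 P)).mpr (by
    rw [htop]; exact Set.subset_univ _)
  simpa using this

end Groth.Agent.Lib.EqualizerOpen45
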