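/-
helper96: invariance of strict henselizations and of `CAlg2.IsGeomUnibranch` under ring isomorphisms.
-/
import Groth.Agent.S2135
import Groth.Agent.Lib.StrictHenselization

set_option autoImplicit false
universe u

namespace Groth.Agent.Lib.GeomUnibranchEquiv96

open IsLocalRing

section Transfer

variable {R R' S : Type u} [CommRing R] [IsLocalRing R] [CommRing R'] [IsLocalRing R']
  [CommRing S] [IsLocalRing S] [Algebra R S] [IsLocalHom (algebraMap R S)]
  [Algebra R' S] (e : R' ≃+* R)
  (he : ∀ x, algebraMap R' S x = algebraMap R S (e x))

omit [IsLocalRing R] [IsLocalRing R'] [IsLocalRing S] in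
include he in
theorem isLocalHom_of_ringEquiv : IsLocalHom (algebraMap R' S) := by
  have h : algebraMap R' S = (algebraMap R S).comp (e : R' →+* R) := RingHom.ext he
  rw [h]
  infer_instance

include he in
/-- A strict henselization of `R` is a strict henselization of any ring isomorphic to `R`. -/
theorem isStrictHenselization_of_ringEquiv [Hensel.IsStrictHenselization R S]
    [IsLocalHom (algebraMap R' S)] : Hensel.IsStrictHenselization R' S where
  henselian := Hensel.IsStrictHenselization.henselian (R := R)
  isSepClosure := by
    have h := Hensel.IsStrictHenselization.isSepClosure (R := R) (S := S)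
    refine ⟨h.sep_closed, ?_⟩
    have := h.separable
    refine Algebra.IsSeparable.of_equiv_equiv
      (ResidueField.mapEquiv e.symm) (RingEquiv.refl (ResidueField S)) ?_
    ext r
    obtain ⟨r, rfl⟩ := residue_surjective r
    change ResidueField.map (algebraMap R' S) (ResidueField.map (e.symm : R →+* R') (residue R r)) =
      ResidueField.map (algebraMap R S) (residue R r)
    rw [ResidueField.map_residue, ResidueField.map_residue, ResidueField.map_residue]
    congr 1
    change algebraMap R' S (e.symm r) = _
    rw [he, RingEquiv.apply_symm_apply]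
  universal := by
    intro T _ _ f _ τ hτ
    let f₀ : R →+* T := f.comp (e.symm : R →+* R')
    have hf₀ : IsLocalHom f₀ := inferInstance
    have hτ₀ : τ.comp (ResidueField.map (algebraMap R S)) = ResidueField.map f₀ := by
      ext r
      obtain ⟨r, rfl⟩ := residue_surjective r
      have h1 := congrArg (fun k => k (residue R' (e.symm r))) hτ
      simp only [RingHom.comp_apply, ResidueField.map_residue] at h1
      simp only [RingHom.comp_apply, ResidueField.map_residue]
      rw [he, RingEquiv.apply_symm_apply] at h1
      exact h1
    obtain ⟨g, ⟨hg1, hg2⟩, huniq⟩ :=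
      Hensel.IsStrictHenselization.universal (R := R) (S := S) T f₀ τ hτ₀
    refine ⟨g, ⟨?_, hg2⟩, ?_⟩
    · ext x
      have h1 := congrArg (fun k => k (e x)) hg1
      simp only [RingHom.comp_apply] at h1
      rw [RingHom.comp_apply, he, h1]
      change f (e.symm (e x)) = f x
      rw [RingEquiv.symm_apply_apply]
    · rintro g' ⟨hg'1, hg'2⟩
      refine huniq g' ⟨?_, hg'2⟩
      ext r
      have h1 := congrArg (fun k => k (e.symm r)) hg'1
      simp only [RingHom.comp_apply] at h1
      rw [he, RingEquiv.apply_symm_apply] at h1
      rw [RingHom.comp_apply, h1]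
      rfl

end Transfer

/-- Being geometrically unibranch is invariant under ring isomorphisms. -/
theorem isGeomUnibranch_of_ringEquiv {R R' : Type u} [CommRing R] [IsLocalRing R] [CommRing R']
    [IsLocalRing R'] (e : R' ≃+* R) (h : CAlg2.IsGeomUnibranch R) : CAlg2.IsGeomUnibranch R' := by
  let S := Groth.Agent.Lib.StrictHenselization.Sh R
  let _ : Algebra R' S := ((algebraMap R S).comp (e : R' →+* R)).toAlgebra
  have he : ∀ x, algebraMap R' S x = algebraMap R S (e x) := fun _ => rfl
  have h1 : IsLocalHom (algebraMap R' S) := isLocalHom_of_ringEquiv e he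
  have h2 : Hensel.IsStrictHenselization R' S := isStrictHenselization_of_ringEquiv e he
  exact (Groth.Agent.S2135.result (A := R') (Ash := S)).2
    ((Groth.Agent.S2135.result (A := R) (Ash := S)).1 h)

theorem isGeomUnibranch_iff_of_ringEquiv {R R' : Type u} [CommRing R] [IsLocalRing R] [CommRing R']
    [IsLocalRing R'] (e : R' ≃+* R) : CAlg2.IsGeomUnibranch R' ↔ CAlg2.IsGeomUnibranch R :=
  ⟨isGeomUnibranch_of_ringEquiv e.symm, isGeomUnibranch_of_ringEquiv e⟩

end Groth.Agent.Lib.GeomUnibranchEquiv96
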