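import Groth.Prelude.Def_EGA43
import Mathlib.AlgebraicGeometry.PullbackCarrier
import Mathlib.AlgebraicGeometry.Morphisms.UnderlyingMap
import Mathlib.AlgebraicGeometry.Morphisms.UniversallyClosed
import Mathlib.AlgebraicGeometry.Morphisms.ClosedImmersion

/-!
# Openness at a point and universal openness at a point: basic API

General lemmas about `EGA43.IsOpenAt` and `EGA43.IsUnivOpenAt`, phrased for arbitrary pullback
squares (`IsPullback`) rather than the chosen pullback.
-/

set_option autoImplicit false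
universe u

open CategoryTheory CategoryTheory.Limits AlgebraicGeometry

namespace Groth.Agent.Lib.UnivOpenAt

section Top

variable {α β γ : Type*} [TopologicalSpace α] [TopologicalSpace β] [TopologicalSpace γ]

lemma isOpenAt_iff_forall_isOpen (f : α → β) (x : α) :
    EGA43.IsOpenAt f x ↔ ∀ U : Set α, IsOpen U → x ∈ U → f '' U ∈ nhds (f x) := by
  constructor
  · intro h V hV hx
    exact h V (hV.mem_nhds hx)
  · intro h U hU
    obtain ⟨V, hVU, hV, hxV⟩ := mem_nhds_iff.1 hU
    exact Filter.mem_of_superset (h V hV hxV) (Set.image_mono hVU)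

lemma isOpenAt_of_isOpenMap {f : α → β} (hf : IsOpenMap f) (x : α) : EGA43.IsOpenAt f x :=
  fun _ hU => hf.image_mem_nhds hU

lemma isOpenAt_comp {f : α → β} {g : β → γ} {x : α} (hf : EGA43.IsOpenAt f x)
    (hg : EGA43.IsOpenAt g (f x)) : EGA43.IsOpenAt (g ∘ f) x := by
  intro U hU
  rw [Set.image_comp]
  exact hg _ (hf U hU)

end Top

section Scheme

/-- Universal openness at a point can be tested on any pullback square. -/
lemma isOpenAt_snd_of_isPullback {P X Y Y' : Scheme.{u}} {f : X ⟶ Y} {g : Y' ⟶ Y}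
    {fst : P ⟶ X} {snd : P ⟶ Y'} (sq : IsPullback fst snd f g) {x : X}
    (h : EGA43.IsUnivOpenAt f x) (p : P) (hp : fst.base p = x) :
    EGA43.IsOpenAt snd.base p := by
  have h1 : sq.isoPullback.hom ≫ pullback.fst f g = fst := sq.isoPullback_hom_fst
  have h2 : sq.isoPullback.hom ≫ pullback.snd f g = snd := sq.isoPullback_hom_snd
  have hopen : EGA43.IsOpenAt sq.isoPullback.hom.base p :=
    isOpenAt_of_isOpenMap (sq.isoPullback.hom.homeomorph.isOpenMap) p
  have hx : (pullback.fst f g).base (sq.isoPullback.hom.base p) = x := by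
    rw [← Scheme.Hom.comp_apply, h1, hp]
  have := isOpenAt_comp hopen (h Y' g _ hx)
  have e : snd.base = (pullback.snd f g).base ∘ sq.isoPullback.hom.base := by
    funext q
    exact (congrArg (fun t : P ⟶ Y' => t.base q) h2).symm
  rw [e]
  exact this

/-- Universal openness at a point is stable under base change (arbitrary pullback squares). -/
lemma isUnivOpenAt_snd_of_isPullback {P X Y Y' : Scheme.{u}} {f : X ⟶ Y} {g : Y' ⟶ Y}
    {fst : P ⟶ X} {snd : P ⟶ Y'} (sq : IsPullback fst snd f g) {x : X}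
    (h : EGA43.IsUnivOpenAt f x) (p : P) (hp : fst.base p = x) :
    EGA43.IsUnivOpenAt snd p := by
  intro Y'' g' x'' hx''
  have big : IsPullback (pullback.fst snd g' ≫ fst) (pullback.snd snd g') f (g' ≫ g) :=
    (IsPullback.of_hasPullback snd g').paste_horiz sq
  refine isOpenAt_snd_of_isPullback big h x'' ?_
  rw [Scheme.Hom.comp_apply, hx'', hp]

/-- Converse direction: if `snd` is open at all points over `x` for every pullback square, then
`f` is universally open at `x`. -/
lemma isUnivOpenAt_iff_forall_isPullback {X Y : Scheme.{u}} (f : X ⟶ Y) (x : X) :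
    EGA43.IsUnivOpenAt f x ↔ ∀ (P Y' : Scheme.{u}) (g : Y' ⟶ Y) (fst : P ⟶ X) (snd : P ⟶ Y'),
      IsPullback fst snd f g → ∀ p : P, fst.base p = x → EGA43.IsOpenAt snd.base p := by
  constructor
  · intro h P Y' g fst snd sq p hp
    exact isOpenAt_snd_of_isPullback sq h p hp
  · intro h Y' g x' hx'
    exact h _ Y' g _ _ (IsPullback.of_hasPullback f g) x' hx'

/-- Descent of openness at a point along a closed surjective map. -/
lemma isOpenAt_of_isClosedMap_of_surjective {P X Y Y₁ : Scheme.{u}} {f : X ⟶ Y} {v : Y₁ ⟶ Y}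
    {fst : P ⟶ X} {snd : P ⟶ Y₁} (sq : IsPullback fst snd f v)
    (hv : IsClosedMap v.base) (hsurj : Function.Surjective v.base) (x : X)
    (h : ∀ p : P, fst.base p = x → EGA43.IsOpenAt snd.base p) :
    EGA43.IsOpenAt f.base x := by
  rw [isOpenAt_iff_forall_isOpen]
  intro U hU hxU
  -- the preimage of `f '' U` in `Y₁` is a neighbourhood of the fibre of `v` over `f x`
  have key : ∀ y₁ : Y₁, v.base y₁ = f.base x → v.base ⁻¹' (f.base '' U) ∈ nhds y₁ := by
    intro y₁ hy₁
    obtain ⟨p, hp1, hp2⟩ := Scheme.exists_preimage_of_isPullback sq x y₁ hy₁.symm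
    have := h p hp1 (fst.base ⁻¹' U) ((hU.preimage fst.continuous).mem_nhds (by
      show fst.base p ∈ U
      rw [hp1]; exact hxU))
    rw [Scheme.image_preimage_eq_of_isPullback sq, hp2] at this
    exact this
  -- let `W` be the interior of that preimage
  set W : Set Y₁ := interior (v.base ⁻¹' (f.base '' U)) with hW
  have hWopen : IsOpen W := isOpen_interior
  have hfib : ∀ y₁ : Y₁, v.base y₁ = f.base x → y₁ ∈ W := fun y₁ hy₁ =>
    mem_interior_iff_mem_nhds.2 (key y₁ hy₁)
  have hV : IsOpen (v.base '' Wᶜ)ᶜ := (hv _ hWopen.isClosed_compl).isOpen_compl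
  refine Filter.mem_of_superset (hV.mem_nhds ?_) ?_
  · rintro ⟨y₁, hy₁W, hy₁⟩
    exact hy₁W (hfib y₁ hy₁)
  · intro z hz
    obtain ⟨z₁, rfl⟩ := hsurj z
    have hz₁ : z₁ ∈ W := by
      by_contra hcon
      exact hz ⟨z₁, hcon, rfl⟩
    exact (interior_subset hz₁ : z₁ ∈ v.base ⁻¹' (f.base '' U))

/-- The comparison square in a cube of pullbacks: if `Q = P' ×_{Y'} Y₁'`, `P' = X ×_Y Y'`,
`Y₁' = Y₁ ×_Y Y'` and `P₁ = X ×_Y Y₁`, then `Q = P₁ ×_{Y₁} Y₁'`. -/
lemma exists_isPullback_cube {X Y Y' Y₁ Y₁' P' P₁ Q : Scheme.{u}} {f : X ⟶ Y} {g : Y' ⟶ Y}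
    {v : Y₁ ⟶ Y} {fst' : P' ⟶ X} {f' : P' ⟶ Y'} (sqf : IsPullback fst' f' f g)
    {a : Y₁' ⟶ Y₁} {v' : Y₁' ⟶ Y'} (sqv : IsPullback a v' v g)
    {qfst : Q ⟶ P'} {qsnd : Q ⟶ Y₁'} (sqQ : IsPullback qfst qsnd f' v')
    {fst₁ : P₁ ⟶ X} {f₁ : P₁ ⟶ Y₁} (sq1 : IsPullback fst₁ f₁ f v) :
    ∃ l : Q ⟶ P₁, l ≫ fst₁ = qfst ≫ fst' ∧ l ≫ f₁ = qsnd ≫ a ∧ IsPullback l qsnd f₁ a := by
  have w : (qfst ≫ fst') ≫ f = (qsnd ≫ a) ≫ v := by
    rw [Category.assoc, sqf.w, ← Category.assoc, sqQ.w, Category.assoc, Category.assoc, sqv.w]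
  refine ⟨sq1.lift (qfst ≫ fst') (qsnd ≫ a) w, sq1.lift_fst _ _ _, sq1.lift_snd _ _ _, ?_⟩
  have outer : IsPullback (sq1.lift (qfst ≫ fst') (qsnd ≫ a) w ≫ fst₁) qsnd f (a ≫ v) := by
    rw [sq1.lift_fst, sqv.w]
    exact sqQ.paste_horiz sqf
  exact IsPullback.of_right outer (sq1.lift_snd _ _ _) sq1

/-- Descent of universal openness at a point along a universally closed surjective morphism,
for arbitrary pullback squares. -/
lemma isUnivOpenAt_of_universallyClosed_of_surjective {P X Y Y₁ : Scheme.{u}} {f : X ⟶ Y}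
    {v : Y₁ ⟶ Y} {fst : P ⟶ X} {snd : P ⟶ Y₁} (sq : IsPullback fst snd f v)
    [UniversallyClosed v] [Surjective v] (x : X)
    (h : ∀ p : P, fst.base p = x → EGA43.IsUnivOpenAt snd p) :
    EGA43.IsUnivOpenAt f x := by
  intro Y' g x' hx'
  have hcl : IsClosedMap (pullback.snd v g).base := (pullback.snd v g).isClosedMap
  have hsurj : Function.Surjective (pullback.snd v g).base := (pullback.snd v g).surjective
  refine isOpenAt_of_isClosedMap_of_surjective
    (IsPullback.of_hasPullback (pullback.snd f g) (pullback.snd v g)) hcl hsurj x' ?_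
  intro q hq
  obtain ⟨l, hl1, hl2, sql⟩ := exists_isPullback_cube (IsPullback.of_hasPullback f g)
    (IsPullback.of_hasPullback v g)
    (IsPullback.of_hasPullback (pullback.snd f g) (pullback.snd v g)) sq
  refine isOpenAt_snd_of_isPullback sql (h (l.base q) ?_) q rfl
  rw [← Scheme.Hom.comp_apply, hl1, Scheme.Hom.comp_apply, hq, hx']

/-- Openness at a point can be checked on a finite cover by closed subschemes. -/
lemma isOpenAt_of_finite_closed_cover {X Y : Scheme.{u}} (f : X ⟶ Y) (x : X) {ι : Type*}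
    [Finite ι] {T P : ι → Scheme.{u}} (g : ∀ i, T i ⟶ Y) (hg : ∀ i, Topology.IsClosedEmbedding (g i).base)
    (hcov : ⋃ i, Set.range (g i).base = Set.univ)
    (fst : ∀ i, P i ⟶ X) (snd : ∀ i, P i ⟶ T i) (sq : ∀ i, IsPullback (fst i) (snd i) f (g i))
    (h : ∀ i, ∀ p : P i, (fst i).base p = x → EGA43.IsOpenAt (snd i).base p) :
    EGA43.IsOpenAt f.base x := by
  rw [isOpenAt_iff_forall_isOpen]
  intro U hU hxU
  have key : ∀ i, ∃ V : Set Y, IsOpen V ∧ f.base x ∈ V ∧ V ∩ Set.range (g i).base ⊆ f.base '' U := by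
    intro i
    by_cases hy : f.base x ∈ Set.range (g i).base
    · obtain ⟨t, ht⟩ := hy
      obtain ⟨p, hp1, hp2⟩ := Scheme.exists_preimage_of_isPullback (sq i) x t ht.symm
      have := h i p hp1 ((fst i).base ⁻¹' U) ((hU.preimage (fst i).continuous).mem_nhds (by
        show (fst i).base p ∈ U
        rw [hp1]; exact hxU))
      rw [Scheme.image_preimage_eq_of_isPullback (sq i), hp2] at this
      obtain ⟨W, hWsub, hWopen, htW⟩ := mem_nhds_iff.1 this
      obtain ⟨V, hVopen, hVW⟩ := (hg i).isInducing.isOpen_iff.1 hWopen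
      refine ⟨V, hVopen, ?_, ?_⟩
      · have : t ∈ (g i).base ⁻¹' V := by rw [hVW]; exact htW
        rw [← ht]; exact this
      · rintro z ⟨hzV, t', rfl⟩
        have : t' ∈ W := by rw [← hVW]; exact hzV
        exact hWsub this
    · refine ⟨(Set.range (g i).base)ᶜ, (hg i).isClosed_range.isOpen_compl, hy, ?_⟩
      rintro z ⟨hz1, hz2⟩
      exact (hz1 hz2).elim
  choose V hVopen hxV hVsub using key
  refine Filter.mem_of_superset ((isOpen_iInter_of_finite hVopen).mem_nhds
    (Set.mem_iInter.2 hxV)) ?_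
  intro z hz
  have hz' : z ∈ ⋃ i, Set.range (g i).base := by rw [hcov]; trivial
  obtain ⟨i, hi⟩ := Set.mem_iUnion.1 hz'
  exact hVsub i ⟨Set.mem_iInter.1 hz i, hi⟩

/-- Universal openness at a point can be checked on a finite cover by closed subschemes. -/
lemma isUnivOpenAt_of_finite_closed_cover {X Y : Scheme.{u}} (f : X ⟶ Y) (x : X) {ι : Type*}
    [Finite ι] {T P : ι → Scheme.{u}} (g : ∀ i, T i ⟶ Y) [∀ i, IsClosedImmersion (g i)]
    (hcov : ⋃ i, Set.range (g i).base = Set.univ)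
    (fst : ∀ i, P i ⟶ X) (snd : ∀ i, P i ⟶ T i) (sq : ∀ i, IsPullback (fst i) (snd i) f (g i))
    (h : ∀ i, ∀ p : P i, (fst i).base p = x → EGA43.IsUnivOpenAt (snd i) p) :
    EGA43.IsUnivOpenAt f x := by
  intro Y' g' x' hx'
  refine isOpenAt_of_finite_closed_cover (pullback.snd f g') x'
    (T := fun i => pullback (g i) g')
    (P := fun i => pullback (pullback.snd f g') (pullback.snd (g i) g'))
    (fun i => pullback.snd (g i) g')
    (fun i => (pullback.snd (g i) g').isClosedEmbedding) ?_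
    (fun i => pullback.fst _ _) (fun i => pullback.snd _ _)
    (fun i => IsPullback.of_hasPullback _ _) ?_
  · rw [Set.eq_univ_iff_forall]
    intro y'
    have : g'.base y' ∈ ⋃ i, Set.range (g i).base := by rw [hcov]; trivial
    obtain ⟨i, t, ht⟩ := Set.mem_iUnion.1 this
    obtain ⟨z, -, hz⟩ := Scheme.Pullback.exists_preimage_pullback (f := g i) (g := g') t y' ht
    exact Set.mem_iUnion.2 ⟨i, z, hz⟩
  · intro i q hq
    obtain ⟨l, hl1, hl2, sql⟩ := exists_isPullback_cube (IsPullback.of_hasPullback f g')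
      (IsPullback.of_hasPullback (g i) g')
      (IsPullback.of_hasPullback (pullback.snd f g') (pullback.snd (g i) g')) (sq i)
    refine isOpenAt_snd_of_isPullback sql (h i (l.base q) ?_) q rfl
    rw [← Scheme.Hom.comp_apply, hl1, Scheme.Hom.comp_apply, hq, hx']

end Scheme

end Groth.Agent.Lib.UnivOpenAt
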