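/-
helper80: pointwise universal openness of `Spec B ⟶ Spec A` can be tested on the polynomial
base changes `Spec B[T₁..Tₙ] ⟶ Spec A[T₁..Tₙ]` (EGA IV 14.3.x / 8.10.2-style reduction).
* `image_basicOpen_eq_preimage`: the image of `D(∑ aᵢ ⊗ bᵢ)` in `Spec R` is the preimage of the
  image of the universal `D(∑ Tᵢ bᵢ)` in `Spec A[T]`.
* `isOpenAt_comap_includeLeft_of_forall_mvPolynomial`: ring-level reduction.
* `isUnivOpenAt_SpecMap_of_forall_mvPolynomial`: scheme-level consequence for `Spec.map`.
-/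
import Mathlib
import Groth.Agent.Lib.UnivOpenAt

set_option autoImplicit false
universe u
open CategoryTheory CategoryTheory.Limits AlgebraicGeometry TensorProduct

namespace Groth.Agent.Lib.H80UnivOpenPoly

attribute [local instance] MvPolynomial.algebraMvPolynomial

/-- Every element of a tensor product is a `Fin n`-indexed sum of pure tensors. -/
theorem exists_fin_sum_tmul {A : Type u} [CommRing A] {R B : Type u} [CommRing R] [CommRing B]
    [Algebra A R] [Algebra A B] (g : R ⊗[A] B) :
    ∃ (n : ℕ) (a : Fin n → R) (b : Fin n → B), g = ∑ i, a i ⊗ₜ[A] b i := by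
  induction g using TensorProduct.induction_on with
  | zero => exact ⟨0, Fin.elim0, Fin.elim0, by simp⟩
  | tmul r x => exact ⟨1, fun _ => r, fun _ => x, by simp⟩
  | add x y hx hy =>
    obtain ⟨n, a, b, rfl⟩ := hx
    obtain ⟨m, a', b', rfl⟩ := hy
    refine ⟨n + m, Fin.append a a', Fin.append b b', ?_⟩
    rw [Fin.sum_univ_add]
    simp

section key

variable {A B : Type u} [CommRing A] [CommRing B] [Algebra A B] {d : ℕ} (b : Fin d → B)
  (R : Type u) [CommRing R] [Algebra A R] (a : Fin d → R)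

/-- The classifying map `B[T] → R ⊗ B`, `Tᵢ ↦ aᵢ ⊗ 1`. -/
noncomputable def Theta : MvPolynomial (Fin d) B →+* R ⊗[A] B :=
  MvPolynomial.eval₂Hom
    (Algebra.TensorProduct.includeRight (R := A) (A := R) (B := B)).toRingHom (fun i => a i ⊗ₜ[A] 1)

theorem Theta_comp_C :
    (Theta (A := A) (B := B) R a).comp MvPolynomial.C =
      (Algebra.TensorProduct.includeRight (R := A) (A := R) (B := B)).toRingHom := by
  ext x
  simp [Theta]

theorem Theta_comp_map :
    (Theta (A := A) (B := B) R a).comp (MvPolynomial.map (algebraMap A B)) =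
      (Algebra.TensorProduct.includeLeftRingHom : R →+* R ⊗[A] B).comp
        (MvPolynomial.aeval a : MvPolynomial (Fin d) A →ₐ[A] R).toRingHom := by
  apply MvPolynomial.ringHom_ext
  · intro x
    simp [Theta]
  · intro i
    simp [Theta]

theorem Theta_sum :
    Theta (A := A) (B := B) R a (∑ i : Fin d, MvPolynomial.X i * MvPolynomial.C (b i)) =
      ∑ i, a i ⊗ₜ[A] b i := by
  simp [Theta]

theorem image_basicOpen_eq_preimage :
    PrimeSpectrum.comap (Algebra.TensorProduct.includeLeftRingHom : R →+* R ⊗[A] B) ''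
      (PrimeSpectrum.basicOpen (∑ i, a i ⊗ₜ[A] b i) : Set (PrimeSpectrum (R ⊗[A] B))) =
    PrimeSpectrum.comap (MvPolynomial.aeval a : MvPolynomial (Fin d) A →ₐ[A] R).toRingHom ⁻¹'
      (PrimeSpectrum.comap (MvPolynomial.map (σ := Fin d) (algebraMap A B)) ''
        (PrimeSpectrum.basicOpen (∑ i : Fin d, MvPolynomial.X i * MvPolynomial.C (b i)) :
          Set (PrimeSpectrum (MvPolynomial (Fin d) B)))) := by
  let P := MvPolynomial (Fin d) A
  let Q := MvPolynomial (Fin d) B
  let θ : P →ₐ[A] R := MvPolynomial.aeval a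
  let Θ : Q →+* R ⊗[A] B := Theta R a
  have t : IsPushout (CommRingCat.ofHom (algebraMap A B)) (CommRingCat.ofHom (algebraMap A P))
      (CommRingCat.ofHom (algebraMap B Q)) (CommRingCat.ofHom (algebraMap P Q)) :=
    CommRingCat.isPushout_of_isPushout A B P Q
  have e1 : CommRingCat.ofHom (algebraMap A P) ≫ CommRingCat.ofHom θ.toRingHom =
      CommRingCat.ofHom (algebraMap A R) := by
    rw [← CommRingCat.ofHom_comp]
    congr 1
    exact θ.comp_algebraMap
  have e2 : CommRingCat.ofHom (algebraMap B Q) ≫ CommRingCat.ofHom Θ =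
      CommRingCat.ofHom (Algebra.TensorProduct.includeRight (R := A) (A := R) (B := B)).toRingHom := by
    rw [← CommRingCat.ofHom_comp]
    congr 1
    exact Theta_comp_C R a
  have p : CommRingCat.ofHom (algebraMap P Q) ≫ CommRingCat.ofHom Θ =
      CommRingCat.ofHom θ.toRingHom ≫ CommRingCat.ofHom
        (Algebra.TensorProduct.includeLeftRingHom : R →+* R ⊗[A] B) := by
    rw [← CommRingCat.ofHom_comp, ← CommRingCat.ofHom_comp]
    congr 1
    exact Theta_comp_map R a
  have s : IsPushout (CommRingCat.ofHom (algebraMap A B))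
      (CommRingCat.ofHom (algebraMap A P) ≫ CommRingCat.ofHom θ.toRingHom)
      (CommRingCat.ofHom (algebraMap B Q) ≫ CommRingCat.ofHom Θ)
      (CommRingCat.ofHom (Algebra.TensorProduct.includeLeftRingHom : R →+* R ⊗[A] B)) := by
    rw [e1, e2]
    exact (CommRingCat.isPushout_tensorProduct A R B).flip
  have bot := IsPushout.of_top s p t
  have hpb := isPullback_SpecMap_of_isPushout _ _ _ _ bot
  have key := Scheme.image_preimage_eq_of_isPullback hpb
    (PrimeSpectrum.basicOpen (∑ i : Fin d, MvPolynomial.X i * MvPolynomial.C (b i)) :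
          Set (PrimeSpectrum (MvPolynomial (Fin d) B)))
  have hpre : (Spec.map (CommRingCat.ofHom Θ)).base ⁻¹'
      (PrimeSpectrum.basicOpen (∑ i : Fin d, MvPolynomial.X i * MvPolynomial.C (b i)) :
          Set (PrimeSpectrum (MvPolynomial (Fin d) B))) =
      (PrimeSpectrum.basicOpen (∑ i, a i ⊗ₜ[A] b i) : Set (PrimeSpectrum (R ⊗[A] B))) := by
    rw [← Theta_sum b R a]
    ext x
    exact Iff.rfl
  rw [hpre] at key
  exact key

end key

/-- Ring-level reduction: if all polynomial base changes `Spec B[T] → Spec A[T]` are open at the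
points over `q`, then every base change `Spec (R ⊗ B) → Spec R` is open at the points over `q`. -/
theorem isOpenAt_comap_includeLeft_of_forall_mvPolynomial {A B : Type u} [CommRing A] [CommRing B]
    [Algebra A B] (q : PrimeSpectrum B)
    (H : ∀ (n : ℕ) (Q : PrimeSpectrum (MvPolynomial (Fin n) B)),
      PrimeSpectrum.comap (MvPolynomial.C : B →+* MvPolynomial (Fin n) B) Q = q →
      EGA43.IsOpenAt (PrimeSpectrum.comap (MvPolynomial.map (σ := Fin n) (algebraMap A B))) Q)
    (R : Type u) [CommRing R] [Algebra A R] (Q : PrimeSpectrum (R ⊗[A] B))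
    (hQ : PrimeSpectrum.comap
      (Algebra.TensorProduct.includeRight (R := A) (A := R) (B := B)).toRingHom Q = q) :
    EGA43.IsOpenAt
      (PrimeSpectrum.comap (Algebra.TensorProduct.includeLeftRingHom : R →+* R ⊗[A] B)) Q := by
  intro N hN
  obtain ⟨_, ⟨_, ⟨g, rfl⟩, rfl⟩, hQg, hgN⟩ :=
    PrimeSpectrum.isBasis_basic_opens.mem_nhds_iff.mp hN
  obtain ⟨n, a, b, rfl⟩ := exists_fin_sum_tmul g
  refine Filter.mem_of_superset ?_ (Set.image_mono hgN)
  rw [image_basicOpen_eq_preimage b R a]
  let Q' : PrimeSpectrum (MvPolynomial (Fin n) B) := PrimeSpectrum.comap (Theta R a) Q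
  have hQ' : PrimeSpectrum.comap (MvPolynomial.C : B →+* MvPolynomial (Fin n) B) Q' = q := by
    rw [← hQ]
    change PrimeSpectrum.comap _ (PrimeSpectrum.comap _ Q) = _
    rw [← PrimeSpectrum.comap_comp_apply, Theta_comp_C]
  have hmem : Q' ∈ (PrimeSpectrum.basicOpen
      (∑ i : Fin n, MvPolynomial.X i * MvPolynomial.C (b i)) :
        Set (PrimeSpectrum (MvPolynomial (Fin n) B))) := by
    change _ ∉ Q'.asIdeal
    change Theta R a _ ∉ Q.asIdeal
    rw [Theta_sum]
    exact hQg
  have h1 := H n Q' hQ' _ ((PrimeSpectrum.basicOpen _).isOpen.mem_nhds hmem)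
  have h2 : PrimeSpectrum.comap (MvPolynomial.map (σ := Fin n) (algebraMap A B)) Q' =
      PrimeSpectrum.comap (MvPolynomial.aeval a : MvPolynomial (Fin n) A →ₐ[A] R).toRingHom
        (PrimeSpectrum.comap (Algebra.TensorProduct.includeLeftRingHom : R →+* R ⊗[A] B) Q) := by
    change PrimeSpectrum.comap _ (PrimeSpectrum.comap _ Q) = _
    rw [← PrimeSpectrum.comap_comp_apply, ← PrimeSpectrum.comap_comp_apply, Theta_comp_map]
  rw [h2] at h1
  exact (PrimeSpectrum.continuous_comap
    (MvPolynomial.aeval a : MvPolynomial (Fin n) A →ₐ[A] R).toRingHom).continuousAt h1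

/-- Transport of openness at a point along a commutative square `j ∘ h' = h ∘ i` with `i`
continuous and `j` open. -/
theorem isOpenAt_of_comm_square {P' P W Y' : Type*} [TopologicalSpace P'] [TopologicalSpace P]
    [TopologicalSpace W] [TopologicalSpace Y'] (i : P' → P) (h' : P' → W) (j : W → Y') (h : P → Y')
    (comm : ∀ t, j (h' t) = h (i t)) (hi : Continuous i) (hj : IsOpenMap j) (p' : P')
    (hopen : EGA43.IsOpenAt h' p') : EGA43.IsOpenAt h (i p') := by
  intro N hN
  have h1 : i ⁻¹' N ∈ nhds p' := hi.continuousAt hN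
  have h2 := hopen _ h1
  have h3 : j '' (h' '' (i ⁻¹' N)) ∈ nhds (j (h' p')) := hj.image_mem_nhds h2
  rw [comm] at h3
  refine Filter.mem_of_superset h3 ?_
  rintro _ ⟨_, ⟨t, ht, rfl⟩, rfl⟩
  exact ⟨i t, ht, (comm t).symm⟩

/-- Pointwise version of `isOpenMap_of_isPullback_SpecMap`. -/
theorem isOpenAt_of_isPullback_SpecMap {A B : Type u} [CommRing A] [CommRing B] [Algebra A B]
    (q : PrimeSpectrum B)
    (H : ∀ (R : Type u) [CommRing R] [Algebra A R] (Q : PrimeSpectrum (R ⊗[A] B)),
      PrimeSpectrum.comap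
        (Algebra.TensorProduct.includeRight (R := A) (A := R) (B := B)).toRingHom Q = q →
      EGA43.IsOpenAt
        (PrimeSpectrum.comap (Algebra.TensorProduct.includeLeftRingHom : R →+* R ⊗[A] B)) Q)
    {R : CommRingCat.{u}} {X' : Scheme.{u}} {f' : X' ⟶ Spec R} {i₁ : X' ⟶ Spec (.of B)}
    {g : Spec R ⟶ Spec (.of A)}
    (hpb : IsPullback f' i₁ g (Spec.map (CommRingCat.ofHom (algebraMap A B))))
    (p : X') (hp : i₁.base p = q) : EGA43.IsOpenAt f'.base p := by
  obtain ⟨ψ, rfl⟩ := Spec.map_surjective g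
  algebraize [ψ.hom]
  have hψ' : ψ = CommRingCat.ofHom (algebraMap A R) := rfl
  have hpb' := (isPullback_SpecMap_of_isPushout _ _ _ _
    (CommRingCat.isPushout_tensorProduct A R B))
  rw [hψ'] at hpb
  have hfst : (hpb.isoIsPullback _ _ hpb').hom ≫ Spec.map _ = f' :=
    hpb.isoIsPullback_hom_fst _ _ hpb'
  have hsnd : (hpb.isoIsPullback _ _ hpb').hom ≫ Spec.map _ = i₁ :=
    hpb.isoIsPullback_hom_snd _ _ hpb'
  have e : (⇑f'.base : X' → PrimeSpectrum R) = (PrimeSpectrum.comap
      (Algebra.TensorProduct.includeLeftRingHom : R →+* R ⊗[A] B)) ∘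
        ⇑(hpb.isoIsPullback _ _ hpb').hom.base := by
    funext t
    exact (congrArg (fun m : X' ⟶ Spec R => m.base t) hfst).symm
  rw [e]
  refine Groth.Agent.Lib.UnivOpenAt.isOpenAt_comp
    (Groth.Agent.Lib.UnivOpenAt.isOpenAt_of_isOpenMap
      (hpb.isoIsPullback _ _ hpb').hom.homeomorph.isOpenMap p) ?_
  apply H R
  rw [← hp]
  exact (congrArg (fun m : X' ⟶ Spec (.of B) => m.base p) hsnd)

/-- Scheme-level: universal openness of `Spec B ⟶ Spec A` at `q` from the ring-level
statement for all `A`-algebras `R`. -/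
theorem isUnivOpenAt_SpecMap_of_forall {A B : Type u} [CommRing A] [CommRing B] [Algebra A B]
    (q : PrimeSpectrum B)
    (H : ∀ (R : Type u) [CommRing R] [Algebra A R] (Q : PrimeSpectrum (R ⊗[A] B)),
      PrimeSpectrum.comap
        (Algebra.TensorProduct.includeRight (R := A) (A := R) (B := B)).toRingHom Q = q →
      EGA43.IsOpenAt
        (PrimeSpectrum.comap (Algebra.TensorProduct.includeLeftRingHom : R →+* R ⊗[A] B)) Q) :
    EGA43.IsUnivOpenAt (Spec.map (CommRingCat.ofHom (algebraMap A B))) q := by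
  obtain ⟨f, hf⟩ : ∃ f : Spec (.of B) ⟶ Spec (.of A),
    f = Spec.map (CommRingCat.ofHom (algebraMap A B)) := ⟨_, rfl⟩
  rw [← hf]
  intro Y' g x' hx'
  obtain ⟨_, ⟨W, hW, rfl⟩, hyW, -⟩ := Y'.isBasis_affineOpens.exists_subset_of_mem_open
    (Set.mem_univ ((pullback.snd f g).base x')) isOpen_univ
  replace hW : IsAffineOpen W := hW
  have sq1 : IsPullback (pullback.fst (pullback.snd f g) hW.fromSpec)
      (pullback.snd (pullback.snd f g) hW.fromSpec) (pullback.snd f g) hW.fromSpec :=
    IsPullback.of_hasPullback _ _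
  have sq2 : IsPullback (pullback.fst f g) (pullback.snd f g) f g := IsPullback.of_hasPullback _ _
  have big := (sq1.paste_horiz sq2).flip
  have hrange : (pullback.snd f g).base x' ∈ Set.range hW.fromSpec.base := by
    rw [hW.range_fromSpec]
    exact hyW
  obtain ⟨w, hw⟩ := hrange
  obtain ⟨p', hp1, hp2⟩ := Scheme.exists_preimage_of_isPullback sq1 x' w hw.symm
  have hopen : EGA43.IsOpenAt (pullback.snd (pullback.snd f g) hW.fromSpec).base p' := by
    subst hf
    refine isOpenAt_of_isPullback_SpecMap q H big p' ?_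
    rw [Scheme.Hom.comp_apply, hp1, hx']
  have := isOpenAt_of_comm_square (pullback.fst (pullback.snd f g) hW.fromSpec).base
    (pullback.snd (pullback.snd f g) hW.fromSpec).base hW.fromSpec.base (pullback.snd f g).base
    (fun t => by
      rw [← Scheme.Hom.comp_apply, ← Scheme.Hom.comp_apply, sq1.w])
    (pullback.fst (pullback.snd f g) hW.fromSpec).continuous
    hW.fromSpec.isOpenEmbedding.isOpenMap p' hopen
  rwa [hp1] at this

/-- Scheme-level: universal openness of `Spec B ⟶ Spec A` at `q` can be tested on the polynomial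
base changes. -/
theorem isUnivOpenAt_SpecMap_of_forall_mvPolynomial {A B : Type u} [CommRing A] [CommRing B]
    [Algebra A B] (q : PrimeSpectrum B)
    (H : ∀ (n : ℕ) (Q : PrimeSpectrum (MvPolynomial (Fin n) B)),
      PrimeSpectrum.comap (MvPolynomial.C : B →+* MvPolynomial (Fin n) B) Q = q →
      EGA43.IsOpenAt (PrimeSpectrum.comap (MvPolynomial.map (σ := Fin n) (algebraMap A B))) Q) :
    EGA43.IsUnivOpenAt (Spec.map (CommRingCat.ofHom (algebraMap A B))) q :=
  isUnivOpenAt_SpecMap_of_forall q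
    (isOpenAt_comap_includeLeft_of_forall_mvPolynomial q H)

end Groth.Agent.Lib.H80UnivOpenPoly
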