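import Mathlib
import Groth.Prelude.Def_EGA43
import Groth.Agent.Lib.UnivOpenAt
import Groth.Agent.Lib.H80UnivOpenPoly

/-!
# Generalities on universal openness at a point

* composition with a universally open morphism,
* locality on the source (open immersions),
* `Spec C[T] ⟶ Spec C` is universally open.
-/

set_option autoImplicit false
open CategoryTheory AlgebraicGeometry Limits
universe u

namespace Groth.Agent.Lib.H80Chev

open Groth.Agent.Lib.UnivOpenAt

/-- Universal openness at a point is stable under post-composition with a universally open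
morphism. -/
theorem isUnivOpenAt_comp_of_universallyOpen {X Y Z : Scheme.{u}} (f : X ⟶ Y) (g : Y ⟶ Z)
    [UniversallyOpen g] (x : X) (h : EGA43.IsUnivOpenAt f x) : EGA43.IsUnivOpenAt (f ≫ g) x := by
  intro Z' k x' hx'
  -- the two squares
  have sq2 : IsPullback (pullback.fst g k) (pullback.snd g k) g k := IsPullback.of_hasPullback g k
  have sq1 : IsPullback (pullback.fst f (pullback.fst g k)) (pullback.snd f (pullback.fst g k))
      f (pullback.fst g k) := IsPullback.of_hasPullback _ _
  have big : IsPullback (pullback.fst f (pullback.fst g k))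
      (pullback.snd f (pullback.fst g k) ≫ pullback.snd g k) (f ≫ g) k :=
    sq1.paste_vert sq2
  obtain ⟨eiso, heiso⟩ : ∃ e : pullback (f ≫ g) k ≅ pullback f (pullback.fst g k),
      e = (IsPullback.of_hasPullback (f ≫ g) k).isoIsPullback _ _ big := ⟨_, rfl⟩
  have he1 : eiso.hom ≫ pullback.fst f (pullback.fst g k) = pullback.fst (f ≫ g) k := by
    rw [heiso]; exact IsPullback.isoIsPullback_hom_fst _ _ _ _
  have he2 : eiso.hom ≫ (pullback.snd f (pullback.fst g k) ≫ pullback.snd g k) =
      pullback.snd (f ≫ g) k := by
    rw [heiso]; exact IsPullback.isoIsPullback_hom_snd _ _ _ _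
  have h1 : EGA43.IsOpenAt eiso.hom.base x' :=
    isOpenAt_of_isOpenMap eiso.hom.homeomorph.isOpenMap x'
  have h2 : EGA43.IsOpenAt (pullback.snd f (pullback.fst g k)).base (eiso.hom.base x') := by
    apply h
    rw [← Scheme.Hom.comp_apply, he1, hx']
  have h3 : EGA43.IsOpenAt (pullback.snd g k).base
      ((pullback.snd f (pullback.fst g k)).base (eiso.hom.base x')) :=
    isOpenAt_of_isOpenMap (pullback.snd g k).isOpenMap _
  have h4 := isOpenAt_comp (isOpenAt_comp h1 h2) h3
  have e : (pullback.snd (f ≫ g) k).base =
      (pullback.snd g k).base ∘ ((pullback.snd f (pullback.fst g k)).base ∘ eiso.hom.base) := by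
    funext q
    exact (congrArg (fun t : pullback (f ≫ g) k ⟶ Z' => t.base q) he2).symm
  rw [e]
  exact h4

/-- Universal openness at a point is local on the source. -/
theorem isUnivOpenAt_of_comp_isOpenImmersion {U X Y : Scheme.{u}} (j : U ⟶ X) [IsOpenImmersion j]
    (f : X ⟶ Y) (u : U) (h : EGA43.IsUnivOpenAt (j ≫ f) u) : EGA43.IsUnivOpenAt f (j.base u) := by
  intro Y' g x' hx'
  -- the base change of `j`
  have sqX : IsPullback (pullback.fst f g) (pullback.snd f g) f g := IsPullback.of_hasPullback f g
  have sqj : IsPullback (pullback.fst j (pullback.fst f g)) (pullback.snd j (pullback.fst f g))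
      j (pullback.fst f g) := IsPullback.of_hasPullback _ _
  have big : IsPullback (pullback.fst j (pullback.fst f g))
      (pullback.snd j (pullback.fst f g) ≫ pullback.snd f g) (j ≫ f) g :=
    sqj.paste_vert sqX
  obtain ⟨p, hp1, hp2⟩ := Scheme.exists_preimage_of_isPullback sqj u x' hx'.symm
  have h1 : EGA43.IsOpenAt (pullback.snd j (pullback.fst f g) ≫ pullback.snd f g).base p :=
    isOpenAt_snd_of_isPullback big h p hp1
  have := Groth.Agent.Lib.H80UnivOpenPoly.isOpenAt_of_comm_square
    (pullback.snd j (pullback.fst f g)).base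
    (pullback.snd j (pullback.fst f g) ≫ pullback.snd f g).base (id : Y' → Y')
    (pullback.snd f g).base (fun t => rfl) (pullback.snd j (pullback.fst f g)).continuous
    IsOpenMap.id p h1
  rw [hp2] at this
  exact this

/-- `Spec C[T] ⟶ Spec C` is universally open. -/
theorem universallyOpen_SpecMap_C (C : Type u) [CommRing C] (σ : Type u) [Finite σ] :
    UniversallyOpen (Spec.map (CommRingCat.ofHom
      (algebraMap C (MvPolynomial σ C)))) := by
  have h1 : Flat (Spec.map (CommRingCat.ofHom (algebraMap C (MvPolynomial σ C)))) := by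
    rw [HasRingHomProperty.Spec_iff (P := @Flat)]
    change (algebraMap C (MvPolynomial σ C)).Flat
    rw [RingHom.flat_algebraMap_iff]
    infer_instance
  have h2 : LocallyOfFinitePresentation
      (Spec.map (CommRingCat.ofHom (algebraMap C (MvPolynomial σ C)))) := by
    rw [HasRingHomProperty.Spec_iff (P := @LocallyOfFinitePresentation)]
    change (algebraMap C (MvPolynomial σ C)).FinitePresentation
    rw [RingHom.finitePresentation_algebraMap]
    infer_instance
  infer_instance

end Groth.Agent.Lib.H80Chev
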