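import Mathlib

/-!
# Rings with prime nilradical: polynomial rings and minimal primes
-/

set_option autoImplicit false
universe u

namespace Groth.Agent.Lib.H80Chev

open MvPolynomial

theorem nilradical_mvPolynomial (C : Type*) [CommRing C] (σ : Type*) :
    nilradical (MvPolynomial σ C) =
      (nilradical C).map (MvPolynomial.C : C →+* MvPolynomial σ C) := by
  ext f
  rw [mem_nilradical, MvPolynomial.isNilpotent_iff, MvPolynomial.mem_map_C_iff]
  simp only [mem_nilradical]

theorem isPrime_map_C_mvPolynomial {C : Type*} [CommRing C] (σ : Type*) (I : Ideal C)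
    [I.IsPrime] : (I.map (MvPolynomial.C : C →+* MvPolynomial σ C)).IsPrime := by
  have e := MvPolynomial.quotientEquivQuotientMvPolynomial (σ := σ) I
  have : IsDomain (MvPolynomial σ C ⧸ I.map (MvPolynomial.C : C →+* MvPolynomial σ C)) :=
    e.symm.toMulEquiv.isDomain
  exact (Ideal.Quotient.isDomain_iff_prime _).mp this

theorem isPrime_nilradical_mvPolynomial {C : Type*} [CommRing C] (σ : Type*)
    (h : (nilradical C).IsPrime) : (nilradical (MvPolynomial σ C)).IsPrime := by
  rw [nilradical_mvPolynomial]
  exact isPrime_map_C_mvPolynomial σ _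

theorem minimalPrimes_eq_of_isPrime_nilradical {R : Type*} [CommRing R]
    (h : (nilradical R).IsPrime) : minimalPrimes R = {nilradical R} := by
  have h1 : minimalPrimes R = (nilradical R).minimalPrimes :=
    (Ideal.radical_minimalPrimes (I := (⊥ : Ideal R))).symm
  rw [h1]
  exact Ideal.minimalPrimes_eq_subsingleton_self

theorem comap_C_map_C {C : Type*} [CommRing C] (σ : Type*) (I : Ideal C) :
    (I.map (MvPolynomial.C : C →+* MvPolynomial σ C)).comap
      (MvPolynomial.C : C →+* MvPolynomial σ C) = I := by
  ext a
  rw [Ideal.mem_comap, MvPolynomial.mem_map_C_iff]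
  constructor
  · intro h
    have := h 0
    simpa using this
  · intro h m
    classical
    rw [MvPolynomial.coeff_C]
    split_ifs
    · exact h
    · exact I.zero_mem

end Groth.Agent.Lib.H80Chev
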