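import Mathlib
import Groth.Agent.Lib.H56LocDimRing

/-!
# A dimension count: the generic point of a quasi-finite cover of affine space of the same
fibre dimension lies over the generic point
-/

set_option autoImplicit false
universe u

namespace Groth.Agent.Lib.H80Chev

theorem krullDim_succ_le_of_strictMono_of_lt {α β : Type*} [Preorder α] [Preorder β]
    (m : α → β) (hm : StrictMono m) (b₀ : β) (h : ∀ a, b₀ < m a) :
    Order.krullDim α + 1 ≤ Order.krullDim β := by
  rcases isEmpty_or_nonempty α with hα | hα
  · rw [Order.krullDim_eq_bot]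
    simp
  · rw [← Order.krullDim_withBot]
    refine Order.krullDim_le_of_strictMono (fun a : WithBot α => WithBot.recBotCoe b₀ m a) ?_
    intro a b hab
    induction a using WithBot.recBotCoe with
    | bot =>
      induction b using WithBot.recBotCoe with
      | bot => exact absurd hab (lt_irrefl _)
      | coe b => exact h b
    | coe a =>
      induction b using WithBot.recBotCoe with
      | bot => exact absurd hab (WithBot.not_lt_bot _)
      | coe b => exact hm (WithBot.coe_lt_coe.mp hab)

section

variable {R P B : Type*} [CommRing R] [CommRing P] [CommRing B] [Algebra R P] [Algebra R B]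
  [Algebra P B] [IsScalarTower R P B]

/-- If `B` is quasi-finite over `P`, `N` is the smallest prime of `B`, `M` a prime of `P` over `p`
below the contraction of `N`, and the fibre of `B` over `p` has dimension at least that of the
fibre of `P` (a natural number), then `N` contracts to `M`. -/
theorem comap_eq_of_quasiFinite_of_dim [Algebra.QuasiFinite P B] (p : Ideal R) [p.IsPrime]
    (N : Ideal B) [N.IsPrime] (hN : ∀ Q : Ideal B, Q.IsPrime → N ≤ Q)
    (M : Ideal P) [M.IsPrime] (hM : M.comap (algebraMap R P) = p)
    (hMle : M ≤ N.comap (algebraMap P B)) (d : ℕ)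
    (hdP : ringKrullDim (p.Fiber P) = d) (hdB : (d : WithBot ℕ∞) ≤ ringKrullDim (p.Fiber B)) :
    N.comap (algebraMap P B) = M := by
  by_contra hne
  have hlt : M < N.comap (algebraMap P B) := lt_of_le_of_ne hMle (Ne.symm hne)
  let pp : PrimeSpectrum R := ⟨p, inferInstance⟩
  let eB := PrimeSpectrum.preimageOrderIsoFiber R B pp
  let eP := PrimeSpectrum.preimageOrderIsoFiber R P pp
  let m : (PrimeSpectrum.comap (algebraMap R B) ⁻¹' {pp}) →
      (PrimeSpectrum.comap (algebraMap R P) ⁻¹' {pp}) := fun Q =>
    ⟨PrimeSpectrum.comap (algebraMap P B) Q.1, by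
      have h1 : PrimeSpectrum.comap (algebraMap R B) Q.1 = pp := Q.2
      have h2 : PrimeSpectrum.comap (algebraMap R P) (PrimeSpectrum.comap (algebraMap P B) Q.1) =
          PrimeSpectrum.comap (algebraMap R B) Q.1 := by
        rw [← PrimeSpectrum.comap_comp_apply, ← IsScalarTower.algebraMap_eq]
      exact h2.trans h1⟩
  have hm : StrictMono m := by
    intro Q₁ Q₂ h
    have hle : Q₁.1.asIdeal ≤ Q₂.1.asIdeal := h.le
    have hle' : (m Q₁).1.asIdeal ≤ (m Q₂).1.asIdeal := Ideal.comap_mono hle
    refine lt_of_le_of_ne hle' ?_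
    intro heq
    have heq' : Q₁.1.asIdeal.under P = Q₂.1.asIdeal.under P := by
      have := congrArg (fun z => z.1.asIdeal) heq
      exact this
    have := Algebra.QuasiFinite.eq_of_le_of_under_eq (R := P) Q₁.1.asIdeal Q₂.1.asIdeal hle heq'
    exact h.ne (Subtype.ext (PrimeSpectrum.ext this))
  let b₀ : (PrimeSpectrum.comap (algebraMap R P) ⁻¹' {pp}) :=
    ⟨⟨M, inferInstance⟩, PrimeSpectrum.ext hM⟩
  have hb₀ : ∀ a, b₀ < m a := by
    intro a
    have h1 : N.comap (algebraMap P B) ≤ (m a).1.asIdeal :=
      Ideal.comap_mono (hN a.1.asIdeal a.1.isPrime)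
    have h2 : M < (m a).1.asIdeal := lt_of_lt_of_le hlt h1
    exact h2
  have key := krullDim_succ_le_of_strictMono_of_lt m hm b₀ hb₀
  rw [Order.krullDim_eq_of_orderIso eB, Order.krullDim_eq_of_orderIso eP] at key
  change ringKrullDim (p.Fiber B) + 1 ≤ ringKrullDim (p.Fiber P) at key
  rw [hdP] at key
  generalize ringKrullDim (p.Fiber B) = v at key hdB
  induction v using WithBot.recBotCoe with
  | bot => simp at hdB
  | coe v =>
    induction v using ENat.recTopCoe with
    | top =>
      have : ((⊤ : ℕ∞) : WithBot ℕ∞) + 1 = ((⊤ : ℕ∞) : WithBot ℕ∞) := rfl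
      rw [this] at key
      exact absurd key (by exact_mod_cast (ENat.natCast_lt_top d).not_ge)
    | coe v =>
      have h1 : d ≤ v := by exact_mod_cast hdB
      have h2 : v + 1 ≤ d := by exact_mod_cast key
      omega

end

end Groth.Agent.Lib.H80Chev
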