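/-
helper80: openness at a point over a unibranch point (EGA IV 14.4.2-type / SGA3 VI_B),
ring level.
* `isOpenMap_comap_of_isIntegrallyClosed`: an integral extension of domains over an integrally
  closed domain has open `Spec` map.
* `isOpenAt_of_isClosedMap_of_unique`: a closed surjective map is open at a point which is alone
  in its fibre.
* `isOpenAt_comap_of_unique_prime`: `A ⊆ B` integral extension of domains, `q` prime of `B` over
  `p`; if the integral closure of `A` in a fraction field has a unique prime over `p`, then
  `Spec B → Spec A` is open at `q`.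
-/
import Mathlib
import Groth.Agent.Lib.UnivOpenAt
import Groth.Agent.Lib.H80UnivOpenPoly

set_option autoImplicit false
universe u

namespace Groth.Agent.Lib.H80UnibranchOpen

open PrimeSpectrum

theorem isOpenMap_comap_of_isIntegrallyClosed {R S : Type*} [CommRing R] [CommRing S]
    [IsDomain R] [IsDomain S] [Algebra R S] [FaithfulSMul R S] [Algebra.IsIntegral R S]
    [IsIntegrallyClosed R] : IsOpenMap (comap (algebraMap R S)) := by
  rw [PrimeSpectrum.isBasis_basic_opens.isOpenMap_iff]
  rintro _ ⟨_, ⟨b, rfl⟩, rfl⟩
  have hb : IsIntegral R b := Algebra.IsIntegral.isIntegral b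
  let T := Algebra.adjoin R ({b} : Set S)
  let b' : T := ⟨b, Algebra.subset_adjoin (Set.mem_singleton b)⟩
  have hinjT : Function.Injective (algebraMap R T) := by
    intro x y hxy
    apply FaithfulSMul.algebraMap_injective R S
    exact congrArg Subtype.val hxy
  have : FaithfulSMul R T := (faithfulSMul_iff_algebraMap_injective R T).mpr hinjT
  have : Algebra.IsIntegral R T := ⟨fun x =>
    (isIntegral_algHom_iff T.val Subtype.val_injective).mp (Algebra.IsIntegral.isIntegral _)⟩
  have : Algebra.FinitePresentation R T := by
    have h1 : Algebra.FinitePresentation R (AdjoinRoot (minpoly R b)) := by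
      unfold AdjoinRoot
      exact Algebra.FinitePresentation.quotient (Submodule.fg_span_singleton _)
    exact Algebra.FinitePresentation.equiv (minpoly.equivAdjoin hb)
  have hopen : IsOpenMap (comap (algebraMap R T)) :=
    PrimeSpectrum.isOpenMap_comap_of_hasGoingDown_of_finitePresentation
  have hsurj : Function.Surjective (comap (algebraMap T S)) := by
    have : Algebra.IsIntegral T S := Algebra.IsIntegral.tower_top (R := R)
    intro Q
    obtain ⟨P, hP, hPQ⟩ := Ideal.exists_ideal_over_prime_of_isIntegral_of_isDomain
      (S := S) Q.asIdeal (by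
        have : RingHom.ker (algebraMap T S) = ⊥ :=
          (RingHom.injective_iff_ker_eq_bot _).mp Subtype.val_injective
        rw [this]; exact bot_le)
    exact ⟨⟨P, hP⟩, PrimeSpectrum.ext hPQ⟩
  have himg : comap (algebraMap R S) '' (basicOpen b : Set (PrimeSpectrum S)) =
      comap (algebraMap R T) '' (basicOpen b' : Set (PrimeSpectrum T)) := by
    ext P
    constructor
    · rintro ⟨Q, hQ, rfl⟩
      refine ⟨comap (algebraMap T S) Q, hQ, ?_⟩
      rw [← PrimeSpectrum.comap_comp_apply, ← IsScalarTower.algebraMap_eq]
    · rintro ⟨Q, hQ, rfl⟩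
      obtain ⟨Q', rfl⟩ := hsurj Q
      refine ⟨Q', hQ, ?_⟩
      rw [← PrimeSpectrum.comap_comp_apply, ← IsScalarTower.algebraMap_eq]
  rw [himg]
  exact hopen _ (basicOpen b').isOpen

theorem isOpenAt_of_isClosedMap_of_unique {α β : Type*} [TopologicalSpace α] [TopologicalSpace β]
    (f : α → β) (hf : IsClosedMap f) (hs : Function.Surjective f) (x : α)
    (hx : ∀ x', f x' = f x → x' = x) : EGA43.IsOpenAt f x := by
  intro N hN
  have hcl : IsClosed (f '' (interior N)ᶜ) := hf _ isOpen_interior.isClosed_compl
  refine Filter.mem_of_superset (hcl.isOpen_compl.mem_nhds ?_) ?_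
  · rintro ⟨x', hx', hfx'⟩
    rw [hx x' hfx'] at hx'
    exact hx' (mem_interior_iff_mem_nhds.mpr hN)
  · intro y hy
    obtain ⟨a, rfl⟩ := hs y
    have : a ∈ interior N := by
      by_contra hcon
      exact hy ⟨a, hcon, rfl⟩
    exact ⟨a, interior_subset this, rfl⟩

theorem comap_surjective_of_isIntegral {R S : Type*} [CommRing R] [CommRing S] [IsDomain S]
    [Algebra R S] [Algebra.IsIntegral R S] (hinj : Function.Injective (algebraMap R S)) :
    Function.Surjective (comap (algebraMap R S)) := by
  intro Q
  obtain ⟨P, hP, hPQ⟩ := Ideal.exists_ideal_over_prime_of_isIntegral_of_isDomain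
    (S := S) Q.asIdeal (by
      rw [(RingHom.injective_iff_ker_eq_bot _).mp hinj]; exact bot_le)
  exact ⟨⟨P, hP⟩, PrimeSpectrum.ext hPQ⟩

/-- `A ⊆ B` an integral extension of domains, `q` a prime of `B` over `p`. If the integral
closure of `A` in a fraction field `K` has at most one prime over `p`, then `Spec B → Spec A`
is open at `q`. -/
theorem isOpenAt_comap_of_unique_prime {A B : Type u} [CommRing A] [IsDomain A] [CommRing B]
    [IsDomain B] [Algebra A B] (hinj : Function.Injective (algebraMap A B))
    [Algebra.IsIntegral A B] (K : Type u) [Field K] [Algebra A K] [IsFractionRing A K]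
    (q : PrimeSpectrum B)
    (hU : ∀ P₁ P₂ : PrimeSpectrum (integralClosure A K),
      comap (algebraMap A (integralClosure A K)) P₁ = comap (algebraMap A B) q →
      comap (algebraMap A (integralClosure A K)) P₂ = comap (algebraMap A B) q → P₁ = P₂) :
    EGA43.IsOpenAt (comap (algebraMap A B)) q := by
  let L := FractionRing B
  have hinjL : Function.Injective (algebraMap A L) := by
    rw [IsScalarTower.algebraMap_eq A B L]
    exact (IsFractionRing.injective B L).comp hinj
  let φ : K →+* L := IsFractionRing.lift hinjL
  let _ : Algebra K L := φ.toAlgebra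
  have : IsScalarTower A K L :=
    IsScalarTower.of_algebraMap_eq (fun x => (IsFractionRing.lift_algebraMap hinjL x).symm)
  let A' := integralClosure A K
  let B'' := integralClosure A L
  let ι₁ : A' →ₐ[A] B'' := ((IsScalarTower.toAlgHom A K L).comp A'.val).codRestrict B''
    (fun x => (x.2).map (IsScalarTower.toAlgHom A K L))
  let ι₂ : B →ₐ[A] B'' := (IsScalarTower.toAlgHom A B L).codRestrict B''
    (fun b => (Algebra.IsIntegral.isIntegral b).map _)
  have hι₁ : Function.Injective ι₁ := by
    intro x y hxy
    have h1 : algebraMap K L x.1 = algebraMap K L y.1 := congrArg Subtype.val hxy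
    exact Subtype.ext ((algebraMap K L).injective h1)
  have hι₂ : Function.Injective ι₂ := by
    intro x y hxy
    have h1 : algebraMap B L x = algebraMap B L y := congrArg Subtype.val hxy
    exact IsFractionRing.injective B L h1
  let _ : Algebra A' B'' := ι₁.toRingHom.toAlgebra
  have : IsScalarTower A A' B'' := IsScalarTower.of_algebraMap_eq (fun x => (ι₁.commutes x).symm)
  have : FaithfulSMul A' B'' := (faithfulSMul_iff_algebraMap_injective A' B'').mpr hι₁
  have : Algebra.IsIntegral A' B'' := Algebra.IsIntegral.tower_top (R := A)
  have : IsIntegrallyClosed A' := integralClosure.isIntegrallyClosedOfFiniteExtension K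
  have h₂ : IsOpenMap (comap (algebraMap A' B'')) := isOpenMap_comap_of_isIntegrallyClosed
  let _ : Algebra B B'' := ι₂.toRingHom.toAlgebra
  have : IsScalarTower A B B'' := IsScalarTower.of_algebraMap_eq (fun x => (ι₂.commutes x).symm)
  have : Algebra.IsIntegral B B'' := Algebra.IsIntegral.tower_top (R := A)
  have h₁surj : Function.Surjective (comap (algebraMap B B'')) :=
    comap_surjective_of_isIntegral hι₂
  have hinjA' : Function.Injective (algebraMap A A') := by
    intro x y hxy
    apply IsFractionRing.injective A K
    exact congrArg Subtype.val hxy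
  have h₃cl : IsClosedMap (comap (algebraMap A A')) :=
    PrimeSpectrum.isClosedMap_comap_of_isIntegral _ (algebraMap_isIntegral_iff.mpr inferInstance)
  have h₃surj : Function.Surjective (comap (algebraMap A A')) :=
    comap_surjective_of_isIntegral hinjA'
  obtain ⟨q'', rfl⟩ := h₁surj q
  have hcomm : ∀ t : PrimeSpectrum B'',
      comap (algebraMap A A') (comap (algebraMap A' B'') t) =
        comap (algebraMap A B) (comap (algebraMap B B'') t) := by
    intro t
    rw [← PrimeSpectrum.comap_comp_apply, ← PrimeSpectrum.comap_comp_apply,
      ← IsScalarTower.algebraMap_eq, ← IsScalarTower.algebraMap_eq]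
  have h₃open : EGA43.IsOpenAt (comap (algebraMap A A')) (comap (algebraMap A' B'') q'') := by
    apply isOpenAt_of_isClosedMap_of_unique _ h₃cl h₃surj
    intro P hP
    exact hU P _ (by rw [hP, hcomm]) (hcomm q'')
  have h₃₂ : EGA43.IsOpenAt (comap (algebraMap A A') ∘ comap (algebraMap A' B'')) q'' :=
    Groth.Agent.Lib.UnivOpenAt.isOpenAt_comp
      (Groth.Agent.Lib.UnivOpenAt.isOpenAt_of_isOpenMap h₂ q'') h₃open
  exact Groth.Agent.Lib.H80UnivOpenPoly.isOpenAt_of_comm_square (comap (algebraMap B B''))
    (comap (algebraMap A A') ∘ comap (algebraMap A' B'')) id (comap (algebraMap A B))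
    (fun t => hcomm t) (PrimeSpectrum.continuous_comap _) IsOpenMap.id q'' h₃₂

section unique

variable {A : Type u} [CommRing A] (p : Ideal A) [p.IsPrime] (D : Type u) [CommRing D]
  [Algebra A D] (F : Type u) [Field F] [Algebra D F] [Algebra A F] [IsScalarTower A D F]

/-- The inclusion of the integral closure of `A` in `F` into the integral closure of `D`. -/
noncomputable def toIC : integralClosure A F →+* integralClosure D F :=
  (integralClosure A F).val.toRingHom.codRestrict (integralClosure D F) (fun x => x.2.tower_top)

theorem toIC_val (x : integralClosure A F) : ((toIC D F x : integralClosure D F) : F) = x := rfl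

variable [IsLocalization.AtPrime D p]

/-- If `D = A_p` and the integral closure of `D` in its fraction field `F` is local, then the
integral closure of `A` in `F` has a unique prime over `p`. -/
theorem eq_of_isLocalRing_integralClosure [hloc : IsLocalRing (integralClosure D F)]
    (P : Ideal (integralClosure A F)) [hP : P.IsPrime]
    (hPp : P.comap (algebraMap A (integralClosure A F)) = p) :
    P = (IsLocalRing.maximalIdeal (integralClosure D F)).comap (toIC (A := A) D F) := by
  have : IsLocalRing D := IsLocalization.AtPrime.isLocalRing D p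
  -- `P₀ := ι⁻¹ 𝔪` lies over `p`
  have hcomp : (toIC (A := A) D F).comp (algebraMap A (integralClosure A F)) =
      (algebraMap D (integralClosure D F)).comp (algebraMap A D) := by
    ext a
    change algebraMap A F a = algebraMap D F (algebraMap A D a)
    rw [← IsScalarTower.algebraMap_apply]
  have hmD : (IsLocalRing.maximalIdeal (integralClosure D F)).comap
      (algebraMap D (integralClosure D F)) = IsLocalRing.maximalIdeal D := by
    have hmax : ((IsLocalRing.maximalIdeal (integralClosure D F)).comap
        (algebraMap D (integralClosure D F))).IsMaximal :=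
      Ideal.isMaximal_comap_of_isIntegral_of_isMaximal (R := D) _
    exact IsLocalRing.eq_maximalIdeal hmax
  have hP₀p : ((IsLocalRing.maximalIdeal (integralClosure D F)).comap (toIC (A := A) D F)).comap
      (algebraMap A (integralClosure A F)) = p := by
    rw [Ideal.comap_comap, hcomp, ← Ideal.comap_comap, hmD]
    exact IsLocalization.AtPrime.under_maximalIdeal D p
  -- `P ≤ P₀`
  have hle : P ≤ (IsLocalRing.maximalIdeal (integralClosure D F)).comap (toIC (A := A) D F) := by
    intro a haP
    rw [Ideal.mem_comap]
    by_contra hnot
    have hunit : IsUnit (toIC (A := A) D F a) := by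
      by_contra hnu
      exact hnot ((IsLocalRing.mem_maximalIdeal _).mpr hnu)
    obtain ⟨n, hn⟩ := hunit.exists_right_inv
    have hnF : (a : F) * (n : F) = 1 := congrArg Subtype.val hn
    obtain ⟨⟨m, hm⟩, hmint⟩ :=
      IsIntegral.exists_multiple_integral_of_isLocalization p.primeCompl (n : F) n.2
    let a'' : integralClosure A F := ⟨(⟨m, hm⟩ : p.primeCompl) • (n : F), hmint⟩
    have hprod : a * a'' = algebraMap A (integralClosure A F) m := by
      apply Subtype.ext
      change (a : F) * ((⟨m, hm⟩ : p.primeCompl) • (n : F)) = algebraMap A F m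
      rw [Submonoid.smul_def, Algebra.smul_def, mul_left_comm, hnF, mul_one]
    have hmP : algebraMap A (integralClosure A F) m ∈ P := hprod ▸ P.mul_mem_right _ haP
    have : m ∈ p := by rw [← hPp]; exact hmP
    exact hm this
  -- incomparability
  by_contra hne
  have hlt := lt_of_le_of_ne hle hne
  obtain ⟨x, hx₀, hxP⟩ := Set.exists_of_ssubset hlt
  have := Ideal.comap_lt_comap_of_integral_mem_sdiff (R := A) hle ⟨hx₀, hxP⟩
    (Algebra.IsIntegral.isIntegral x)
  rw [hPp, hP₀p] at this
  exact lt_irrefl _ this

end unique

theorem isFractionRing_of_atPrime {A : Type*} [CommRing A] [IsDomain A] (p : Ideal A) [p.IsPrime]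
    (D : Type*) [CommRing D] [Algebra A D] [IsLocalization.AtPrime D p] (F : Type*) [Field F]
    [Algebra D F] [IsFractionRing D F] [Algebra A F] [IsScalarTower A D F] :
    IsFractionRing A F := by
  have hD : IsDomain D := IsLocalization.isDomain_of_atPrime D p
  have hinj : Function.Injective (algebraMap A D) :=
    IsLocalization.injective D (M := p.primeCompl) p.primeCompl_le_nonZeroDivisors
  have h := IsLocalization.localization_localization_isLocalization_of_has_all_units
    (R := A) (S := D) p.primeCompl (nonZeroDivisors D) F
    (fun x hx => hx.mem_nonZeroDivisors)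
  have e : (nonZeroDivisors D).comap (algebraMap A D) = nonZeroDivisors A := by
    ext a
    rw [Submonoid.mem_comap, mem_nonZeroDivisors_iff_ne_zero, mem_nonZeroDivisors_iff_ne_zero,
      Ne, map_eq_zero_iff _ hinj]
  rw [e] at h
  exact h

/-- `A ⊆ B` an integral extension of domains, `q` a prime of `B` over `p`, `D = A_p` with fraction
field `F`; if the integral closure of `D` in `F` is local then `Spec B → Spec A` is open at `q`. -/
theorem isOpenAt_comap_of_isLocalRing_integralClosure {A B : Type u} [CommRing A] [IsDomain A]
    [CommRing B] [IsDomain B] [Algebra A B] (hinj : Function.Injective (algebraMap A B))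
    [Algebra.IsIntegral A B] (q : PrimeSpectrum B) (D : Type u) [CommRing D] [Algebra A D]
    [IsLocalization.AtPrime D (q.asIdeal.comap (algebraMap A B))]
    (F : Type u) [Field F] [Algebra D F] [IsFractionRing D F] [Algebra A F] [IsScalarTower A D F]
    [IsLocalRing (integralClosure D F)] :
    EGA43.IsOpenAt (comap (algebraMap A B)) q := by
  have : IsFractionRing A F := isFractionRing_of_atPrime (q.asIdeal.comap (algebraMap A B)) D F
  apply isOpenAt_comap_of_unique_prime hinj F q
  intro P₁ P₂ h₁ h₂
  have e₁ := eq_of_isLocalRing_integralClosure (q.asIdeal.comap (algebraMap A B)) D F P₁.asIdeal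
    (congrArg PrimeSpectrum.asIdeal h₁)
  have e₂ := eq_of_isLocalRing_integralClosure (q.asIdeal.comap (algebraMap A B)) D F P₂.asIdeal
    (congrArg PrimeSpectrum.asIdeal h₂)
  exact PrimeSpectrum.ext (e₁.trans e₂.symm)

end Groth.Agent.Lib.H80UnibranchOpen
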