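/-
helper80: openness at a quasi-finite point over a unibranch point, ring level (continued).
* `isOpenAt_comap_of_isUnibranch`: SGA3 VI_B-type statement for integral extensions of domains.
* `isOpenAt_comap_subalgebra_of_awayMap_bijective`: `C ⊆ B` with `C_r = B_r`: `Spec B → Spec C` is
  open at the points of `D(r)`.
* `isOpenAt_comap_of_quasiFiniteAt`: `A ⊆ B` domains, `B` of finite type and quasi-finite at `q`,
  `A_p` with local integral closure ⇒ `Spec B → Spec A` open at `q` (via Zariski's main theorem).
-/
import Mathlib
import Groth.Prelude.Def_CAlg2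
import Groth.Agent.Lib.H80UnibranchOpen

set_option autoImplicit false
universe u

namespace Groth.Agent.Lib.H80UnibranchOpen

open PrimeSpectrum

theorem isLocalization_red_atPrime {A : Type u} [CommRing A] [IsDomain A] (p : Ideal A)
    [p.IsPrime] : IsLocalization.AtPrime (CAlg2.red (Localization.AtPrime p)) p := by
  have h : nilradical (Localization.AtPrime p) = ⊥ := nilradical_eq_zero _
  let e : Localization.AtPrime p ≃ₐ[A] CAlg2.red (Localization.AtPrime p) :=
    (AlgEquiv.quotientBot A (Localization.AtPrime p)).symm.trans
      (Ideal.quotientEquivAlgOfEq A h.symm)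
  exact IsLocalization.isLocalization_of_algEquiv p.primeCompl e

/-- **SGA3 VI_B (i).** `A ⊆ B` an integral extension of domains, `q` a prime of `B` over `p` with
`A_p` unibranch: `Spec B → Spec A` is open at `q`. -/
theorem isOpenAt_comap_of_isUnibranch (A B : Type u) [CommRing A] [IsDomain A] [CommRing B]
    [IsDomain B] [Algebra A B] (hinj : Function.Injective (algebraMap A B))
    [Algebra.IsIntegral A B] (q : PrimeSpectrum B)
    (hU : CAlg2.IsUnibranch (Localization.AtPrime (q.asIdeal.comap (algebraMap A B)))) :
    EGA43.IsOpenAt (PrimeSpectrum.comap (algebraMap A B)) q := by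
  have := isLocalization_red_atPrime (q.asIdeal.comap (algebraMap A B))
  have hD : IsDomain (CAlg2.red (Localization.AtPrime (q.asIdeal.comap (algebraMap A B)))) := hU.1
  have hloc : IsLocalRing (integralClosure
      (CAlg2.red (Localization.AtPrime (q.asIdeal.comap (algebraMap A B))))
      (FractionRing (CAlg2.red (Localization.AtPrime (q.asIdeal.comap (algebraMap A B)))))) :=
    hU.2
  exact isOpenAt_comap_of_isLocalRing_integralClosure hinj q
    (CAlg2.red (Localization.AtPrime (q.asIdeal.comap (algebraMap A B))))
    (FractionRing (CAlg2.red (Localization.AtPrime (q.asIdeal.comap (algebraMap A B)))))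

theorem atPrime_congr {A : Type*} [CommRing A] (D : Type*) [CommRing D] [Algebra A D]
    {P Q : Ideal A} [hP : P.IsPrime] [hQ : Q.IsPrime] (h : P = Q)
    [hD : IsLocalization.AtPrime D Q] : IsLocalization.AtPrime D P := by
  subst h
  exact hD

/-- If `C ⊆ B` and `C_r → B_r` is bijective, then `Spec B → Spec C` is open at every point of
`D(r)`. -/
theorem isOpenAt_comap_subalgebra_of_awayMap_bijective {A B : Type u} [CommRing A] [CommRing B]
    [Algebra A B] (C : Subalgebra A B) (r : C)
    (hbij : Function.Bijective (Localization.awayMap C.val.toRingHom r))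
    (q : PrimeSpectrum B) (hrq : r.1 ∉ q.asIdeal) :
    EGA43.IsOpenAt (comap (algebraMap C B)) q := by
  let g := Localization.awayMap C.val.toRingHom r
  have hg : IsOpenMap (comap g) := (PrimeSpectrum.isHomeomorph_comap_of_bijective hbij).isOpenMap
  have hjB := PrimeSpectrum.localization_away_isOpenEmbedding
    (Localization.Away (C.val.toRingHom r)) (C.val.toRingHom r)
  have hjC := PrimeSpectrum.localization_away_isOpenEmbedding (Localization.Away r) r
  have hcomm : g.comp (algebraMap C (Localization.Away r)) =
      (algebraMap B (Localization.Away (C.val.toRingHom r))).comp C.val.toRingHom :=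
    IsLocalization.map_comp _
  have hq : q ∈ Set.range (comap (algebraMap B (Localization.Away (C.val.toRingHom r)))) := by
    rw [PrimeSpectrum.localization_away_comap_range _ (C.val.toRingHom r)]
    exact hrq
  obtain ⟨qr, rfl⟩ := hq
  have h1 : EGA43.IsOpenAt (comap (algebraMap C (Localization.Away r)) ∘ comap g) qr :=
    Groth.Agent.Lib.UnivOpenAt.isOpenAt_of_isOpenMap (hjC.isOpenMap.comp hg) qr
  refine Groth.Agent.Lib.H80UnivOpenPoly.isOpenAt_of_comm_square
    (comap (algebraMap B (Localization.Away (C.val.toRingHom r))))
    (comap (algebraMap C (Localization.Away r)) ∘ comap g) id (comap (algebraMap C B))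
    (fun t => ?_) (PrimeSpectrum.continuous_comap _) IsOpenMap.id qr h1
  change comap _ (comap g t) = comap C.val.toRingHom (comap _ t)
  rw [← PrimeSpectrum.comap_comp_apply, ← PrimeSpectrum.comap_comp_apply, hcomm]

/-- `A ⊆ B` domains with `B` of finite type over `A` and quasi-finite at `q`; if `D = A_p` has a
local integral closure in its fraction field, then `Spec B → Spec A` is open at `q`. -/
theorem isOpenAt_comap_of_quasiFiniteAt {A B : Type u} [CommRing A] [IsDomain A] [CommRing B]
    [IsDomain B] [Algebra A B] (hinj : Function.Injective (algebraMap A B))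
    [Algebra.FiniteType A B] (q : PrimeSpectrum B) [Algebra.QuasiFiniteAt A q.asIdeal]
    (D : Type u) [CommRing D] [Algebra A D]
    [hDloc : IsLocalization.AtPrime D (q.asIdeal.comap (algebraMap A B))]
    (F : Type u) [Field F] [Algebra D F] [IsFractionRing D F] [Algebra A F] [IsScalarTower A D F]
    [IsLocalRing (integralClosure D F)] :
    EGA43.IsOpenAt (comap (algebraMap A B)) q := by
  obtain ⟨r, hrq, hbij⟩ := Algebra.ZariskisMainProperty.of_finiteType (R := A) q.asIdeal
  have h1 := isOpenAt_comap_subalgebra_of_awayMap_bijective (integralClosure A B) r hbij q hrq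
  have hinjC : Function.Injective (algebraMap A (integralClosure A B)) := by
    intro x y hxy
    exact hinj (congrArg Subtype.val hxy)
  have e : (comap (algebraMap (integralClosure A B) B) q).asIdeal.comap
      (algebraMap A (integralClosure A B)) = q.asIdeal.comap (algebraMap A B) := by
    change (q.asIdeal.comap _).comap _ = _
    rw [Ideal.comap_comap, ← IsScalarTower.algebraMap_eq]
  have : IsLocalization.AtPrime D ((comap (algebraMap (integralClosure A B) B) q).asIdeal.comap
      (algebraMap A (integralClosure A B))) := atPrime_congr D e
  have h2 := isOpenAt_comap_of_isLocalRing_integralClosure hinjC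
    (comap (algebraMap (integralClosure A B) B) q) D F
  have h3 := Groth.Agent.Lib.UnivOpenAt.isOpenAt_comp h1 h2
  have e2 : comap (algebraMap A B) =
      comap (algebraMap A (integralClosure A B)) ∘ comap (algebraMap (integralClosure A B) B) := by
    funext t
    rw [Function.comp_apply, ← PrimeSpectrum.comap_comp_apply, ← IsScalarTower.algebraMap_eq]
  rw [e2]
  exact h3

end Groth.Agent.Lib.H80UnibranchOpen
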