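/-
helper80: openness at a quasi-finite point over a unibranch point: reduction from rings with prime
nilradical to domains.
-/
import Mathlib
import Groth.Prelude.Def_CAlg2
import Groth.Agent.Lib.H80UnibranchOpen2

set_option autoImplicit false
universe u

namespace Groth.Agent.Lib.H80UnibranchOpen

open PrimeSpectrum

theorem isOpenMap_comap_mk_nilradical (R : Type*) [CommRing R] :
    IsOpenMap (comap (Ideal.Quotient.mk (nilradical R))) := by
  have h := PrimeSpectrum.isHomeomorph_comap (Ideal.Quotient.mk (nilradical R))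
    (fun x => ⟨1, Nat.one_pos, by
      obtain ⟨y, rfl⟩ := Ideal.Quotient.mk_surjective x
      exact ⟨y, by simp⟩⟩)
    (by rw [Ideal.mk_ker])
  exact h.isOpenMap

theorem nilradical_le_comap {R S : Type*} [CommRing R] [CommRing S] (f : R →+* S) :
    nilradical R ≤ (nilradical S).comap f := by
  intro a ha
  rw [Ideal.mem_comap, mem_nilradical]
  exact (mem_nilradical.mp ha).map f

section

variable (A₀ B₀ : Type u) [CommRing A₀] [CommRing B₀] [Algebra A₀ B₀]

/-- The map `A₀/nil → B₀/nil`. -/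
noncomputable def redMap : A₀ ⧸ nilradical A₀ →+* B₀ ⧸ nilradical B₀ :=
  Ideal.quotientMap (nilradical B₀) (algebraMap A₀ B₀) (nilradical_le_comap _)

theorem redMap_mk (a : A₀) : redMap A₀ B₀ (Ideal.Quotient.mk _ a) =
    Ideal.Quotient.mk _ (algebraMap A₀ B₀ a) := rfl

theorem redMap_injective (hker : RingHom.ker (algebraMap A₀ B₀) ≤ nilradical A₀) :
    Function.Injective (redMap A₀ B₀) := by
  rw [injective_iff_map_eq_zero]
  intro a ha
  obtain ⟨a, rfl⟩ := Ideal.Quotient.mk_surjective a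
  rw [redMap_mk, Ideal.Quotient.eq_zero_iff_mem, mem_nilradical] at ha
  obtain ⟨n, hn⟩ := ha
  rw [← map_pow] at hn
  have h1 : a ^ n ∈ nilradical A₀ := hker hn
  rw [Ideal.Quotient.eq_zero_iff_mem, mem_nilradical]
  obtain ⟨m, hm⟩ := mem_nilradical.mp h1
  exact ⟨n * m, by rw [pow_mul, hm]⟩

end

/-- Rings with prime nilradical: `A₀ → B₀` of finite type with dense image on spectra, quasi-finite
at `q₀`, and the local ring of `A₀` at the image point unibranch: open at `q₀`. -/
theorem isOpenAt_comap_of_quasiFiniteAt_of_isUnibranch (A₀ B₀ : Type u) [CommRing A₀] [CommRing B₀]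
    [Algebra A₀ B₀] [Algebra.FiniteType A₀ B₀] [hA : (nilradical A₀).IsPrime]
    [hB : (nilradical B₀).IsPrime]
    (hker : RingHom.ker (algebraMap A₀ B₀) ≤ nilradical A₀)
    (q₀ : PrimeSpectrum B₀) [Algebra.QuasiFiniteAt A₀ q₀.asIdeal]
    (S₀ : Type u) [CommRing S₀] [IsLocalRing S₀] [Algebra A₀ S₀]
    [IsLocalization.AtPrime S₀ (q₀.asIdeal.comap (algebraMap A₀ B₀))]
    (hU : CAlg2.IsUnibranch S₀) :
    EGA43.IsOpenAt (comap (algebraMap A₀ B₀)) q₀ := by
  let _ : Algebra (A₀ ⧸ nilradical A₀) (B₀ ⧸ nilradical B₀) := (redMap A₀ B₀).toAlgebra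
  have hT1 : IsScalarTower A₀ (A₀ ⧸ nilradical A₀) (B₀ ⧸ nilradical B₀) :=
    IsScalarTower.of_algebraMap_eq (fun a => rfl)
  have hinj : Function.Injective (algebraMap (A₀ ⧸ nilradical A₀) (B₀ ⧸ nilradical B₀)) :=
    redMap_injective A₀ B₀ hker
  have hft : Algebra.FiniteType (A₀ ⧸ nilradical A₀) (B₀ ⧸ nilradical B₀) := by
    have : Algebra.FiniteType A₀ (B₀ ⧸ nilradical B₀) :=
      Algebra.FiniteType.trans (S := B₀) inferInstance inferInstance
    exact Algebra.FiniteType.of_restrictScalars_finiteType A₀ _ _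
  -- the prime `q`
  have hqnil : nilradical B₀ ≤ q₀.asIdeal := nilradical_le_prime _
  have hqprime : (q₀.asIdeal.map (Ideal.Quotient.mk (nilradical B₀))).IsPrime :=
    Ideal.map_isPrime_of_surjective Ideal.Quotient.mk_surjective (by rwa [Ideal.mk_ker])
  let q : PrimeSpectrum (B₀ ⧸ nilradical B₀) := ⟨_, hqprime⟩
  have hq : comap (Ideal.Quotient.mk (nilradical B₀)) q = q₀ := by
    apply PrimeSpectrum.ext
    change (q₀.asIdeal.map _).comap _ = _
    rw [Ideal.comap_map_of_surjective _ Ideal.Quotient.mk_surjective, ← RingHom.ker_eq_comap_bot,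
      Ideal.mk_ker, sup_eq_left]
    exact hqnil
  -- quasi-finiteness
  have hqf₀ : Algebra.QuasiFiniteAt A₀ q.asIdeal :=
    Algebra.QuasiFiniteAt.of_surjectiveOnStalks q₀.asIdeal
      (Ideal.Quotient.mkₐ A₀ (nilradical B₀))
      (RingHom.surjectiveOnStalks_of_surjective Ideal.Quotient.mk_surjective) q.asIdeal
      (congrArg PrimeSpectrum.asIdeal hq).symm
  have hT2 : IsScalarTower A₀ (A₀ ⧸ nilradical A₀) (Localization.AtPrime q.asIdeal) :=
    IsScalarTower.of_algebraMap_eq (fun a => by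
      rw [IsScalarTower.algebraMap_apply A₀ (B₀ ⧸ nilradical B₀) (Localization.AtPrime q.asIdeal),
        IsScalarTower.algebraMap_apply (A₀ ⧸ nilradical A₀) (B₀ ⧸ nilradical B₀)
          (Localization.AtPrime q.asIdeal)]
      rfl)
  have hqf : Algebra.QuasiFiniteAt (A₀ ⧸ nilradical A₀) q.asIdeal :=
    Algebra.QuasiFinite.of_restrictScalars A₀ (A₀ ⧸ nilradical A₀) _
  -- the localization `D`
  let _ : Algebra (A₀ ⧸ nilradical A₀) (CAlg2.red S₀) := (redMap A₀ S₀).toAlgebra
  have hloc : IsLocalization ((q₀.asIdeal.comap (algebraMap A₀ B₀)).primeCompl.map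
      (Ideal.Quotient.mk (nilradical A₀))) (CAlg2.red S₀) := by
    refine IsLocalization.of_surjective _ S₀ (Ideal.Quotient.mk (nilradical A₀))
      Ideal.Quotient.mk_surjective (Ideal.Quotient.mk (nilradical S₀))
      Ideal.Quotient.mk_surjective rfl ?_
    rw [Ideal.mk_ker, Ideal.mk_ker]
    have := IsLocalization.map_radical (q₀.asIdeal.comap (algebraMap A₀ B₀)).primeCompl S₀
      (⊥ : Ideal A₀)
    rw [Ideal.map_bot] at this
    exact this.ge
  have hsub : (q₀.asIdeal.comap (algebraMap A₀ B₀)).primeCompl.map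
      (Ideal.Quotient.mk (nilradical A₀)) =
      (q.asIdeal.comap (algebraMap (A₀ ⧸ nilradical A₀) (B₀ ⧸ nilradical B₀))).primeCompl := by
    have key : ∀ a : A₀, (Ideal.Quotient.mk (nilradical A₀) a ∈
        q.asIdeal.comap (algebraMap (A₀ ⧸ nilradical A₀) (B₀ ⧸ nilradical B₀))) ↔
        a ∈ q₀.asIdeal.comap (algebraMap A₀ B₀) := by
      intro a
      rw [Ideal.mem_comap, Ideal.mem_comap]
      change (Ideal.Quotient.mk (nilradical B₀) (algebraMap A₀ B₀ a) ∈ q.asIdeal) ↔ _
      rw [← Ideal.mem_comap]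
      rw [show q.asIdeal.comap (Ideal.Quotient.mk (nilradical B₀)) = q₀.asIdeal from
        congrArg PrimeSpectrum.asIdeal hq]
    ext a
    constructor
    · rintro ⟨b, hb, rfl⟩
      exact fun h => hb ((key b).mp h)
    · intro ha
      obtain ⟨a, rfl⟩ := Ideal.Quotient.mk_surjective a
      exact ⟨a, fun h => ha ((key a).mpr h), rfl⟩
  have hDloc : IsLocalization.AtPrime (CAlg2.red S₀)
      (q.asIdeal.comap (algebraMap (A₀ ⧸ nilradical A₀) (B₀ ⧸ nilradical B₀))) := by
    change IsLocalization _ _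
    rw [← hsub]
    exact hloc
  have hD : IsDomain (CAlg2.red S₀) := hU.1
  have hlocN : IsLocalRing (integralClosure (CAlg2.red S₀) (FractionRing (CAlg2.red S₀))) := hU.2
  have key := isOpenAt_comap_of_quasiFiniteAt hinj q (CAlg2.red S₀) (FractionRing (CAlg2.red S₀))
  have := Groth.Agent.Lib.H80UnivOpenPoly.isOpenAt_of_comm_square
    (comap (Ideal.Quotient.mk (nilradical B₀)))
    (comap (algebraMap (A₀ ⧸ nilradical A₀) (B₀ ⧸ nilradical B₀)))
    (comap (Ideal.Quotient.mk (nilradical A₀))) (comap (algebraMap A₀ B₀))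
    (fun t => by
      rw [← PrimeSpectrum.comap_comp_apply, ← PrimeSpectrum.comap_comp_apply]
      rfl)
    (PrimeSpectrum.continuous_comap _) (isOpenMap_comap_mk_nilradical A₀) q key
  rwa [hq] at this

end Groth.Agent.Lib.H80UnibranchOpen
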