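/-
helper80: towards "locally quasi-finite over a geometrically unibranch base is universally open"
(EGA IV 14.4.x).  Generic ring-level lemmas:
* `isOpenAt_comap_of_awayMap_bijective`: `ι : S → B` with `S_r → B_r` bijective: `Spec B → Spec S`
  is open at the points of `D(ι r)`.
* `isOpenAt_comap_of_tower`: `φ : R → S`, with integral injective `α : R → R'`, `ψ : R' → S'`,
  `β : S → S'` (`R'` a normal domain, `S'` a domain, `ψ α = β φ`): if `R'` has a unique prime over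
  the image of `q`, then `Spec S → Spec R` is open at `q`.
* `eq_of_forall_pow_mem`: two primes of `R'` over the same prime of `R`, both containing an ideal
  `𝔞`, coincide as soon as every element of `R'` has a multiple of a power in `φ(R) + 𝔞`.
* `exists_pow_eq_map`: polynomial rings in characteristic exponent `ℓ`: if every element of `k`
  has an `ℓ^N`-th power in `κ(A)` up to multiplying by `κ(s)`, `s ∈ M`, the same holds for
  `k[T]` over `A[T]`.
-/
import Mathlib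
import Groth.Prelude.Def_CAlg2
import Groth.Agent.Lib.H80UnibranchOpen3

set_option autoImplicit false
universe u

namespace Groth.Agent.Lib.H80GUOpen

open PrimeSpectrum

/-- If `S_r → B_r` is bijective, then `Spec B → Spec S` is open at every point of `D(ι r)`. -/
theorem isOpenAt_comap_of_awayMap_bijective {S B : Type*} [CommRing S] [CommRing B] (ι : S →+* B)
    (r : S) (hbij : Function.Bijective (Localization.awayMap ι r))
    (q : PrimeSpectrum B) (hrq : ι r ∉ q.asIdeal) :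
    EGA43.IsOpenAt (comap ι) q := by
  let g := Localization.awayMap ι r
  have hg : IsOpenMap (comap g) := (PrimeSpectrum.isHomeomorph_comap_of_bijective hbij).isOpenMap
  have hjB := PrimeSpectrum.localization_away_isOpenEmbedding (Localization.Away (ι r)) (ι r)
  have hjC := PrimeSpectrum.localization_away_isOpenEmbedding (Localization.Away r) r
  have hcomm : g.comp (algebraMap S (Localization.Away r)) =
      (algebraMap B (Localization.Away (ι r))).comp ι :=
    IsLocalization.map_comp _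
  have hq : q ∈ Set.range (comap (algebraMap B (Localization.Away (ι r)))) := by
    rw [PrimeSpectrum.localization_away_comap_range _ (ι r)]
    exact hrq
  obtain ⟨qr, rfl⟩ := hq
  have h1 : EGA43.IsOpenAt (comap (algebraMap S (Localization.Away r)) ∘ comap g) qr :=
    Groth.Agent.Lib.UnivOpenAt.isOpenAt_of_isOpenMap (hjC.isOpenMap.comp hg) qr
  refine Groth.Agent.Lib.H80UnivOpenPoly.isOpenAt_of_comm_square
    (comap (algebraMap B (Localization.Away (ι r))))
    (comap (algebraMap S (Localization.Away r)) ∘ comap g) id (comap ι)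
    (fun t => ?_) (PrimeSpectrum.continuous_comap _) IsOpenMap.id qr h1
  change comap _ (comap g t) = comap ι (comap _ t)
  rw [← PrimeSpectrum.comap_comp_apply, ← PrimeSpectrum.comap_comp_apply, hcomm]

/-- The tower lemma. -/
theorem isOpenAt_comap_of_tower {R S R' S' : Type*} [CommRing R] [CommRing S] [CommRing R']
    [CommRing S'] [IsDomain R'] [IsDomain S'] [IsIntegrallyClosed R']
    (φ : R →+* S) (α : R →+* R') (β : S →+* S') (ψ : R' →+* S') (hcomm : ψ.comp α = β.comp φ)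
    (hα : α.IsIntegral) (hαinj : Function.Injective α)
    (hψ : ψ.IsIntegral) (hψinj : Function.Injective ψ)
    (hβ : β.IsIntegral) (hβinj : Function.Injective β) (q : PrimeSpectrum S)
    (hU : ∀ P₁ P₂ : PrimeSpectrum R', comap α P₁ = comap φ q → comap α P₂ = comap φ q → P₁ = P₂) :
    EGA43.IsOpenAt (comap φ) q := by
  -- `Spec S' → Spec R'` is open (going down)
  have h₂ : IsOpenMap (comap ψ) := by
    let _ : Algebra R' S' := ψ.toAlgebra
    have : FaithfulSMul R' S' := (faithfulSMul_iff_algebraMap_injective R' S').mpr hψinj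
    have : Algebra.IsIntegral R' S' := ⟨hψ⟩
    exact Groth.Agent.Lib.H80UnibranchOpen.isOpenMap_comap_of_isIntegrallyClosed (R := R') (S := S')
  have h₁surj : Function.Surjective (comap β) := by
    let _ : Algebra S S' := β.toAlgebra
    have : Algebra.IsIntegral S S' := ⟨hβ⟩
    exact Groth.Agent.Lib.H80UnibranchOpen.comap_surjective_of_isIntegral (R := S) (S := S') hβinj
  have h₃cl : IsClosedMap (comap α) := PrimeSpectrum.isClosedMap_comap_of_isIntegral _ hα
  have h₃surj : Function.Surjective (comap α) := by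
    let _ : Algebra R R' := α.toAlgebra
    have : Algebra.IsIntegral R R' := ⟨hα⟩
    exact Groth.Agent.Lib.H80UnibranchOpen.comap_surjective_of_isIntegral (R := R) (S := R') hαinj
  obtain ⟨q'', rfl⟩ := h₁surj q
  have hc : ∀ t : PrimeSpectrum S', comap α (comap ψ t) = comap φ (comap β t) := by
    intro t
    rw [← PrimeSpectrum.comap_comp_apply, ← PrimeSpectrum.comap_comp_apply, hcomm]
  have h₃open : EGA43.IsOpenAt (comap α) (comap ψ q'') := by
    apply Groth.Agent.Lib.H80UnibranchOpen.isOpenAt_of_isClosedMap_of_unique _ h₃cl h₃surj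
    intro P hP
    exact hU P _ (by rw [hP, hc]) (hc q'')
  have h₃₂ : EGA43.IsOpenAt (comap α ∘ comap ψ) q'' :=
    Groth.Agent.Lib.UnivOpenAt.isOpenAt_comp
      (Groth.Agent.Lib.UnivOpenAt.isOpenAt_of_isOpenMap h₂ q'') h₃open
  exact Groth.Agent.Lib.H80UnivOpenPoly.isOpenAt_of_comm_square (comap β)
    (comap α ∘ comap ψ) id (comap φ)
    (fun t => hc t) (PrimeSpectrum.continuous_comap _) IsOpenMap.id q'' h₃₂

/-- Uniqueness of primes from a "purely inseparable modulo `𝔞`" condition. -/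
theorem le_of_forall_pow_mem {R R' : Type*} [CommRing R] [CommRing R'] (φ : R →+* R')
    (𝔞 : Ideal R') (M : Submonoid R)
    (H : ∀ f : R', ∃ n > 0, ∃ s ∈ M, ∃ g : R, φ s * f ^ n - φ g ∈ 𝔞)
    (P₁ P₂ : Ideal R') [P₁.IsPrime] [hP₂ : P₂.IsPrime] (h1 : 𝔞 ≤ P₁) (h2 : 𝔞 ≤ P₂)
    (h : P₁.comap φ = P₂.comap φ) (hM : ∀ s ∈ M, s ∉ P₂.comap φ) : P₁ ≤ P₂ := by
  intro f hf
  obtain ⟨n, hn, s, hs, g, hg⟩ := H f
  have hg1 : φ g ∈ P₁ := by
    have h3 : φ s * f ^ n ∈ P₁ := Ideal.mul_mem_left _ _ (Ideal.pow_mem_of_mem _ hf n hn)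
    have := P₁.sub_mem h3 (h1 hg)
    simpa using this
  have hg2 : φ g ∈ P₂ := by
    have : g ∈ P₁.comap φ := hg1
    rw [h] at this
    exact this
  have h4 : φ s * f ^ n ∈ P₂ := by
    have := P₂.add_mem (h2 hg) hg2
    simpa using this
  rcases hP₂.mem_or_mem h4 with h5 | h5
  · exact absurd h5 (hM s hs)
  · exact hP₂.mem_of_pow_mem n h5

theorem eq_of_forall_pow_mem {R R' : Type*} [CommRing R] [CommRing R'] (φ : R →+* R')
    (𝔞 : Ideal R') (M : Submonoid R)
    (H : ∀ f : R', ∃ n > 0, ∃ s ∈ M, ∃ g : R, φ s * f ^ n - φ g ∈ 𝔞)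
    (P₁ P₂ : Ideal R') [P₁.IsPrime] [P₂.IsPrime] (h1 : 𝔞 ≤ P₁) (h2 : 𝔞 ≤ P₂)
    (h : P₁.comap φ = P₂.comap φ) (hM : ∀ s ∈ M, s ∉ P₁.comap φ) : P₁ = P₂ :=
  le_antisymm (le_of_forall_pow_mem φ 𝔞 M H P₁ P₂ h1 h2 h (fun s hs => h ▸ hM s hs))
    (le_of_forall_pow_mem φ 𝔞 M H P₂ P₁ h2 h1 h.symm hM)

section poly

variable {A k : Type*} [CommRing A] [CommRing k] (κ : A →+* k) (M : Submonoid A) (ℓ : ℕ)
  [ExpChar k ℓ] (σ : Type*)

/-- The set of polynomials over `k` having an `ℓ^N`-th power in `κ(A)[T]`, up to a factor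
from `M`. -/
def PowSet : Set (MvPolynomial σ k) :=
  {f | ∃ N : ℕ, ∃ s ∈ M, ∃ g : MvPolynomial σ A,
    MvPolynomial.C (κ s) * f ^ ℓ ^ N = MvPolynomial.map κ g}

variable {κ M ℓ σ}

omit [ExpChar k ℓ] in
theorem powSet_raise {f : MvPolynomial σ k} {N : ℕ} {s : A} (hs : s ∈ M) {g : MvPolynomial σ A}
    (h : MvPolynomial.C (κ s) * f ^ ℓ ^ N = MvPolynomial.map κ g) (j : ℕ) :
    ∃ s' ∈ M, ∃ g' : MvPolynomial σ A,
      MvPolynomial.C (κ s') * f ^ ℓ ^ (N + j) = MvPolynomial.map κ g' := by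
  refine ⟨s ^ ℓ ^ j, pow_mem hs _, g ^ ℓ ^ j, ?_⟩
  have e : MvPolynomial.map κ (g ^ ℓ ^ j) = (MvPolynomial.C (κ s) * f ^ ℓ ^ N) ^ ℓ ^ j := by
    rw [h, map_pow]
  rw [e, mul_pow, ← map_pow, ← map_pow, ← pow_mul, ← pow_add]

theorem powSet_add {f₁ f₂ : MvPolynomial σ k} (h₁ : f₁ ∈ PowSet κ M ℓ σ)
    (h₂ : f₂ ∈ PowSet κ M ℓ σ) : f₁ + f₂ ∈ PowSet κ M ℓ σ := by
  obtain ⟨N₁, s₁, hs₁, g₁, e₁⟩ := h₁
  obtain ⟨N₂, s₂, hs₂, g₂, e₂⟩ := h₂
  obtain ⟨t₁, ht₁, u₁, eu₁⟩ := powSet_raise hs₁ e₁ N₂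
  obtain ⟨t₂, ht₂, u₂, eu₂⟩ := powSet_raise hs₂ e₂ N₁
  have : ExpChar (MvPolynomial σ k) ℓ :=
    expChar_of_injective_ringHom (MvPolynomial.C_injective σ k) ℓ
  refine ⟨N₁ + N₂, t₁ * t₂, mul_mem ht₁ ht₂,
    MvPolynomial.C t₂ * u₁ + MvPolynomial.C t₁ * u₂, ?_⟩
  have e2' : MvPolynomial.C (κ t₂) * f₂ ^ ℓ ^ (N₁ + N₂) = MvPolynomial.map κ u₂ := by
    rw [Nat.add_comm]; exact eu₂
  calc MvPolynomial.C (κ (t₁ * t₂)) * (f₁ + f₂) ^ ℓ ^ (N₁ + N₂)
      = MvPolynomial.C (κ t₂) * (MvPolynomial.C (κ t₁) * f₁ ^ ℓ ^ (N₁ + N₂)) +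
          MvPolynomial.C (κ t₁) * (MvPolynomial.C (κ t₂) * f₂ ^ ℓ ^ (N₁ + N₂)) := by
        rw [add_pow_expChar_pow, map_mul, map_mul]; ring
    _ = MvPolynomial.map κ (MvPolynomial.C t₂ * u₁ + MvPolynomial.C t₁ * u₂) := by
        rw [eu₁, e2', map_add, map_mul, map_mul, MvPolynomial.map_C, MvPolynomial.map_C]

omit [ExpChar k ℓ] in
theorem powSet_mul_X {f : MvPolynomial σ k} (h : f ∈ PowSet κ M ℓ σ) (i : σ) :
    f * MvPolynomial.X i ∈ PowSet κ M ℓ σ := by
  obtain ⟨N, s, hs, g, e⟩ := h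
  refine ⟨N, s, hs, g * MvPolynomial.X i ^ ℓ ^ N, ?_⟩
  rw [mul_pow, ← mul_assoc, e, map_mul, map_pow, MvPolynomial.map_X]

/-- If every element of `k` has an `ℓ^N`-th power in `κ(A)` (up to a factor `κ(s)`, `s ∈ M`),
the same holds for `k[T]` over `A[T]`. -/
theorem exists_pow_eq_map
    (H : ∀ c : k, ∃ N : ℕ, ∃ s ∈ M, ∃ a : A, κ s * c ^ ℓ ^ N = κ a) (f : MvPolynomial σ k) :
    f ∈ PowSet κ M ℓ σ := by
  induction f using MvPolynomial.induction_on with
  | C c =>
    obtain ⟨N, s, hs, a, e⟩ := H c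
    refine ⟨N, s, hs, MvPolynomial.C a, ?_⟩
    rw [MvPolynomial.map_C, ← e, map_mul, map_pow]
  | add f₁ f₂ h₁ h₂ => exact powSet_add h₁ h₂
  | mul_X f i h => exact powSet_mul_X h i

end poly

end Groth.Agent.Lib.H80GUOpen
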