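/-
helper80: towards "locally quasi-finite over a geometrically unibranch base is universally open".
* `awayMap_map_bijective`: if `S_r → B_r` is bijective (`S ⊆ B`), so is `S[T]_r → B[T]_r`.
* `map_isIntegral`: `MvPolynomial.map` of an integral ring hom is integral.
* `unique_prime_mvPolynomial`: `A_p = D` with local integral closure (in `F`) whose residue field
  is purely inseparable over `κ(p)`: the polynomial ring over the integral closure `A'` of `A` in
  `F` has at most one prime over each prime `P` of `A[T]` with `P ∩ A = p`.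
-/
import Mathlib
import Groth.Prelude.Def_CAlg2
import Groth.Agent.Lib.H80GUOpen1

set_option autoImplicit false
universe u

namespace Groth.Agent.Lib.H80GUOpen

open PrimeSpectrum

theorem awayMap_map_bijective {S B : Type*} [CommRing S] [CommRing B] (ι : S →+* B)
    (hι : Function.Injective ι) (r : S) (hsurj : Function.Surjective (Localization.awayMap ι r))
    (σ : Type*) :
    Function.Bijective (Localization.awayMap (MvPolynomial.map (σ := σ) ι) (MvPolynomial.C r)) := by
  rw [Localization.awayMap_surjective_iff] at hsurj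
  constructor
  · rw [Localization.awayMap_injective_iff]
    intro a ha
    refine ⟨0, ?_⟩
    have : a = 0 := MvPolynomial.map_injective ι hι (by rw [ha, map_zero])
    rw [this, mul_zero]
  · rw [Localization.awayMap_surjective_iff]
    intro g
    induction g using MvPolynomial.induction_on with
    | C b =>
      obtain ⟨c, m, h⟩ := hsurj b
      refine ⟨MvPolynomial.C c, m, ?_⟩
      rw [MvPolynomial.map_C, MvPolynomial.map_C, h, map_mul, map_pow]
    | add g₁ g₂ h₁ h₂ =>
      obtain ⟨c₁, m₁, e₁⟩ := h₁
      obtain ⟨c₂, m₂, e₂⟩ := h₂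
      refine ⟨MvPolynomial.C r ^ m₂ * c₁ + MvPolynomial.C r ^ m₁ * c₂, m₁ + m₂, ?_⟩
      rw [map_add, map_mul, map_mul, e₁, e₂, map_pow, map_pow]
      ring
    | mul_X g i h =>
      obtain ⟨c, m, e⟩ := h
      refine ⟨c * MvPolynomial.X i, m, ?_⟩
      rw [map_mul, e, MvPolynomial.map_X, mul_assoc]

theorem map_isIntegral {R S : Type*} [CommRing R] [CommRing S] (f : R →+* S) (hf : f.IsIntegral)
    (σ : Type*) : (MvPolynomial.map (σ := σ) f).IsIntegral := by
  let _ : Algebra R S := f.toAlgebra
  have : Algebra.IsIntegral R S := ⟨hf⟩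
  let _ : Algebra (MvPolynomial σ R) (MvPolynomial σ S) := MvPolynomial.algebraMvPolynomial
  have h : Algebra.IsIntegral (MvPolynomial σ R) (MvPolynomial σ S) := inferInstance
  exact h.isIntegral

section unique

variable {A : Type u} [CommRing A] (p : Ideal A) [p.IsPrime] (D : Type u) [CommRing D]
  [Algebra A D] (F : Type u) [Field F] [Algebra D F] [Algebra A F] [IsScalarTower A D F]
  [IsLocalization.AtPrime D p] [IsLocalRing (integralClosure D F)]

/-- The residue map `A' → IC(D)/m'`. -/
noncomputable def theta : integralClosure A F →+*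
    integralClosure D F ⧸ IsLocalRing.maximalIdeal (integralClosure D F) :=
  (Ideal.Quotient.mk _).comp (Groth.Agent.Lib.H80UnibranchOpen.toIC (A := A) D F)

theorem ker_theta : RingHom.ker (theta (A := A) D F) =
    (IsLocalRing.maximalIdeal (integralClosure D F)).comap
      (Groth.Agent.Lib.H80UnibranchOpen.toIC (A := A) D F) := by
  rw [theta, ← RingHom.comap_ker, Ideal.mk_ker]

theorem theta_algebraMap (a : A) : theta (A := A) D F (algebraMap A (integralClosure A F) a) =
    Ideal.Quotient.mk _ (algebraMap D (integralClosure D F) (algebraMap A D a)) := by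
  rw [theta, RingHom.comp_apply]
  congr 1
  apply Subtype.ext
  change algebraMap A F a = algebraMap D F (algebraMap A D a)
  rw [← IsScalarTower.algebraMap_apply]

theorem unique_prime_mvPolynomial
    (hPI : ∀ x : integralClosure D F ⧸ IsLocalRing.maximalIdeal (integralClosure D F),
      ∃ n : ℕ, x ^ (ringExpChar
          (integralClosure D F ⧸ IsLocalRing.maximalIdeal (integralClosure D F))) ^ n ∈
        ((Ideal.Quotient.mk (IsLocalRing.maximalIdeal (integralClosure D F))).comp
          (algebraMap D (integralClosure D F))).range)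
    (σ : Type*) (P₁ P₂ : Ideal (MvPolynomial σ (integralClosure A F))) [P₁.IsPrime] [P₂.IsPrime]
    (h : P₁.comap (MvPolynomial.map (algebraMap A (integralClosure A F))) =
      P₂.comap (MvPolynomial.map (algebraMap A (integralClosure A F))))
    (hp : (P₁.comap (MvPolynomial.map (algebraMap A (integralClosure A F)))).comap
      (MvPolynomial.C : A →+* MvPolynomial σ A) = p) : P₁ = P₂ := by
  let k' := integralClosure D F ⧸ IsLocalRing.maximalIdeal (integralClosure D F)
  let ℓ := ringExpChar k'
  have hℓ : ExpChar k' ℓ := ringExpChar.expChar k'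
  let j : A →+* integralClosure A F := algebraMap A (integralClosure A F)
  let θ : integralClosure A F →+* k' := theta (A := A) D F
  let κ : A →+* k' := θ.comp j
  -- the hypothesis of `exists_pow_eq_map`
  have H0 : ∀ c : k', ∃ N : ℕ, ∃ s ∈ p.primeCompl, ∃ a : A, κ s * c ^ ℓ ^ N = κ a := by
    intro c
    obtain ⟨N, d, hd⟩ := hPI c
    obtain ⟨⟨a, s⟩, hs⟩ := IsLocalization.surj p.primeCompl d
    refine ⟨N, s.1, s.2, a, ?_⟩
    change θ (j s.1) * c ^ ℓ ^ N = θ (j a)
    rw [theta_algebraMap, theta_algebraMap, ← hd, RingHom.comp_apply, ← map_mul, ← map_mul,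
      mul_comm]
    exact congrArg _ (congrArg _ hs)
  -- the contraction to `A'`
  have hcontr : ∀ (P : Ideal (MvPolynomial σ (integralClosure A F))) [P.IsPrime],
      (P.comap (MvPolynomial.map j)).comap (MvPolynomial.C : A →+* MvPolynomial σ A) = p →
      Ideal.map (MvPolynomial.C : integralClosure A F →+* _) (RingHom.ker θ) ≤ P := by
    intro P _ hP
    rw [Ideal.map_le_iff_le_comap]
    have h1 : (P.comap (MvPolynomial.C : integralClosure A F →+* _)).comap j = p := by
      rw [← hP, Ideal.comap_comap, Ideal.comap_comap]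
      congr 1
      ext a
      simp [j]
    have h2 := Groth.Agent.Lib.H80UnibranchOpen.eq_of_isLocalRing_integralClosure p D F
      (P.comap (MvPolynomial.C : integralClosure A F →+* _)) h1
    rw [h2, ker_theta]
  have hp₂ : (P₂.comap (MvPolynomial.map j)).comap (MvPolynomial.C : A →+* MvPolynomial σ A) = p := by
    rw [← h]; exact hp
  refine eq_of_forall_pow_mem (MvPolynomial.map j)
    (Ideal.map (MvPolynomial.C : integralClosure A F →+* _) (RingHom.ker θ))
    (p.primeCompl.map (MvPolynomial.C : A →+* MvPolynomial σ A)) ?_ P₁ P₂ (hcontr P₁ hp)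
    (hcontr P₂ hp₂) h ?_
  · intro f
    obtain ⟨N, s, hs, g, e⟩ := exists_pow_eq_map (σ := σ) H0 (MvPolynomial.map θ f)
    refine ⟨ℓ ^ N, pow_pos (expChar_pos k' ℓ) N, MvPolynomial.C s, ⟨s, hs, rfl⟩, g, ?_⟩
    rw [← MvPolynomial.ker_map, RingHom.mem_ker, map_sub, map_mul, map_pow]
    simp only [MvPolynomial.map_map, MvPolynomial.map_C]
    rw [sub_eq_zero]
    exact e
  · rintro _ ⟨s, hs, rfl⟩ hmem
    apply hs
    rw [← hp]
    exact hmem

end unique

end Groth.Agent.Lib.H80GUOpen
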