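/-
helper80: "locally quasi-finite over a geometrically unibranch base is universally open":
the case of domains.  `A ⊆ B` domains, `B` of finite type over `A` and quasi-finite at `q`, with
`A_p` geometrically unibranch: `Spec B[T₁..Tₙ] → Spec A[T₁..Tₙ]` is open at every point over `q`.
-/
import Mathlib
import Groth.Prelude.Def_CAlg2
import Groth.Agent.Lib.H80GUOpen2
import Groth.Agent.Lib.H30NormalSmooth

set_option autoImplicit false
universe u

namespace Groth.Agent.Lib.H80GUOpen

open PrimeSpectrum

theorem map_comp_map {R S T : Type*} [CommRing R] [CommRing S] [CommRing T] (f : R →+* S)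
    (g : S →+* T) (σ : Type*) :
    (MvPolynomial.map (σ := σ) g).comp (MvPolynomial.map f) = MvPolynomial.map (g.comp f) := by
  refine RingHom.ext fun p => ?_
  exact MvPolynomial.map_map f g p

theorem isOpenAt_comap_map_of_quasiFiniteAt {A B : Type u} [CommRing A] [IsDomain A] [CommRing B]
    [IsDomain B] [Algebra A B] (hinj : Function.Injective (algebraMap A B))
    [Algebra.FiniteType A B] (q : PrimeSpectrum B) [Algebra.QuasiFiniteAt A q.asIdeal]
    (D : Type u) [CommRing D] [Algebra A D]
    [hDloc : IsLocalization.AtPrime D (q.asIdeal.comap (algebraMap A B))]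
    (F : Type u) [Field F] [Algebra D F] [IsFractionRing D F] [Algebra A F] [IsScalarTower A D F]
    [IsLocalRing (integralClosure D F)]
    (hPI : ∀ x : integralClosure D F ⧸ IsLocalRing.maximalIdeal (integralClosure D F),
      ∃ n : ℕ, x ^ (ringExpChar
          (integralClosure D F ⧸ IsLocalRing.maximalIdeal (integralClosure D F))) ^ n ∈
        ((Ideal.Quotient.mk (IsLocalRing.maximalIdeal (integralClosure D F))).comp
          (algebraMap D (integralClosure D F))).range)
    (n : ℕ) (Q : PrimeSpectrum (MvPolynomial (Fin n) B))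
    (hQ : comap (MvPolynomial.C : B →+* MvPolynomial (Fin n) B) Q = q) :
    EGA43.IsOpenAt (comap (MvPolynomial.map (σ := Fin n) (algebraMap A B))) Q := by
  obtain ⟨r, hrq, hbij⟩ := Algebra.ZariskisMainProperty.of_finiteType (R := A) q.asIdeal
  let C₀ := integralClosure A B
  let ι : C₀ →+* B := C₀.val.toRingHom
  have hι : Function.Injective ι := Subtype.val_injective
  have hbijₙ := awayMap_map_bijective ι hι r hbij.2 (Fin n)
  have hrQ : MvPolynomial.map (σ := Fin n) ι (MvPolynomial.C r) ∉ Q.asIdeal := by
    rw [MvPolynomial.map_C]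
    intro hmem
    apply hrq
    rw [← hQ]
    exact hmem
  have h1 : EGA43.IsOpenAt (comap (MvPolynomial.map (σ := Fin n) ι)) Q :=
    isOpenAt_comap_of_awayMap_bijective _ (MvPolynomial.C r) hbijₙ Q hrQ
  -- fraction fields
  have hF : IsFractionRing A F :=
    Groth.Agent.Lib.H80UnibranchOpen.isFractionRing_of_atPrime
      (q.asIdeal.comap (algebraMap A B)) D F
  let L := FractionRing B
  have hinjL : Function.Injective (algebraMap A L) := by
    rw [IsScalarTower.algebraMap_eq A B L]
    exact (IsFractionRing.injective B L).comp hinj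
  let φK : F →+* L := IsFractionRing.lift hinjL
  let _ : Algebra F L := φK.toAlgebra
  have : IsScalarTower A F L :=
    IsScalarTower.of_algebraMap_eq (fun x => (IsFractionRing.lift_algebraMap hinjL x).symm)
  let A' := integralClosure A F
  let B' := integralClosure A L
  let ι₁ : A' →ₐ[A] B' := ((IsScalarTower.toAlgHom A F L).comp A'.val).codRestrict B'
    (fun x => (x.2).map (IsScalarTower.toAlgHom A F L))
  let ι₂ : C₀ →ₐ[A] B' := ((IsScalarTower.toAlgHom A B L).comp C₀.val).codRestrict B'
    (fun b => (b.2).map (IsScalarTower.toAlgHom A B L))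
  have hι₁ : Function.Injective ι₁ := by
    intro x y hxy
    have h1 : algebraMap F L x.1 = algebraMap F L y.1 := congrArg Subtype.val hxy
    exact Subtype.ext ((algebraMap F L).injective h1)
  have hι₂ : Function.Injective ι₂ := by
    intro x y hxy
    have h1 : algebraMap B L x.1 = algebraMap B L y.1 := congrArg Subtype.val hxy
    exact Subtype.ext (IsFractionRing.injective B L h1)
  have hintB' : (algebraMap A B').IsIntegral := by
    have : Algebra.IsIntegral A B' := inferInstance
    exact algebraMap_isIntegral_iff.mpr this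
  have hι₁int : ι₁.toRingHom.IsIntegral := by
    have e : ι₁.toRingHom.comp (algebraMap A A') = algebraMap A B' := ι₁.comp_algebraMap
    exact RingHom.IsIntegral.tower_top (algebraMap A A') ι₁.toRingHom (e.symm ▸ hintB')
  have hι₂int : ι₂.toRingHom.IsIntegral := by
    have e : ι₂.toRingHom.comp (algebraMap A C₀) = algebraMap A B' := ι₂.comp_algebraMap
    exact RingHom.IsIntegral.tower_top (algebraMap A C₀) ι₂.toRingHom (e.symm ▸ hintB')
  have hjint : (algebraMap A A').IsIntegral := by
    have : Algebra.IsIntegral A A' := inferInstance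
    exact algebraMap_isIntegral_iff.mpr this
  have hjinj : Function.Injective (algebraMap A A') := by
    intro x y hxy
    apply IsFractionRing.injective A F
    exact congrArg Subtype.val hxy
  have hnormal : IsIntegrallyClosed A' := integralClosure.isIntegrallyClosedOfFiniteExtension F
  have hnormalₙ : IsIntegrallyClosed (MvPolynomial (Fin n) A') :=
    Groth.Agent.Lib.H30NormalSmooth.isIntegrallyClosed_mvPolynomial_fin A' n
  -- the tower lemma
  have h2 : EGA43.IsOpenAt (comap (MvPolynomial.map (σ := Fin n) (algebraMap A C₀)))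
      (comap (MvPolynomial.map (σ := Fin n) ι) Q) := by
    refine isOpenAt_comap_of_tower (R := MvPolynomial (Fin n) A) (S := MvPolynomial (Fin n) C₀)
      (R' := MvPolynomial (Fin n) A') (S' := MvPolynomial (Fin n) B')
      (MvPolynomial.map (σ := Fin n) (algebraMap A C₀))
      (MvPolynomial.map (σ := Fin n) (algebraMap A A'))
      (MvPolynomial.map (σ := Fin n) ι₂.toRingHom) (MvPolynomial.map (σ := Fin n) ι₁.toRingHom)
      ?_ (map_isIntegral _ hjint _) (MvPolynomial.map_injective _ hjinj)
      (map_isIntegral _ hι₁int _) (MvPolynomial.map_injective _ hι₁)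
      (map_isIntegral _ hι₂int _) (MvPolynomial.map_injective _ hι₂) _ ?_
    · have e₁ : ι₁.toRingHom.comp (algebraMap A A') = algebraMap A B' := ι₁.comp_algebraMap
      have e₂ : ι₂.toRingHom.comp (algebraMap A C₀) = algebraMap A B' := ι₂.comp_algebraMap
      rw [map_comp_map, map_comp_map, e₁, e₂]
    · intro P₁ P₂ hP₁ hP₂
      apply PrimeSpectrum.ext
      refine unique_prime_mvPolynomial (q.asIdeal.comap (algebraMap A B)) D F hPI (Fin n)
        P₁.asIdeal P₂.asIdeal ?_ ?_
      · exact (congrArg PrimeSpectrum.asIdeal hP₁).trans (congrArg PrimeSpectrum.asIdeal hP₂).symm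
      · have e1 : P₁.asIdeal.comap (MvPolynomial.map (σ := Fin n) (algebraMap A A')) =
            (Q.asIdeal.comap (MvPolynomial.map (σ := Fin n) ι)).comap
              (MvPolynomial.map (σ := Fin n) (algebraMap A C₀)) :=
          congrArg PrimeSpectrum.asIdeal hP₁
        rw [e1, Ideal.comap_comap, Ideal.comap_comap, ← hQ]
        change _ = (Q.asIdeal.comap _).comap _
        rw [Ideal.comap_comap]
        congr 1
        ext a
        simp [ι]
  have h3 := Groth.Agent.Lib.UnivOpenAt.isOpenAt_comp h1 h2
  have e2 : comap (MvPolynomial.map (σ := Fin n) (algebraMap A B)) =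
      comap (MvPolynomial.map (σ := Fin n) (algebraMap A C₀)) ∘
        comap (MvPolynomial.map (σ := Fin n) ι) := by
    funext t
    rw [Function.comp_apply, ← PrimeSpectrum.comap_comp_apply, map_comp_map]
    rfl
  rw [e2]
  exact h3

end Groth.Agent.Lib.H80GUOpen
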