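/-
helper80: "locally quasi-finite over a geometrically unibranch base is universally open":
reduction from rings with finitely many minimal primes to domains.
* `isOpenAt_of_comm_square'`: transfer of openness at a point along a commutative square whose
  right vertical map is inducing with range a neighbourhood of the relevant point.
* `map_eq_nilradical_of_mem_minimalPrimes`: `S₀ = (A₀)_{p₀}` with prime nilradical, `pm ≤ p₀` a
  minimal prime: `pm S₀ = nil(S₀)`.
* `range_comap_map_mk_mem_nhds`: `V(pm A₀[T])` is a neighbourhood of every prime `P` of `A₀[T]`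
  whose contraction `p₀` contains no other minimal prime (finitely many minimal primes).
-/
import Mathlib
import Groth.Prelude.Def_CAlg2
import Groth.Agent.Lib.H80GUOpen3

set_option autoImplicit false
universe u

namespace Groth.Agent.Lib.H80GUOpen

open PrimeSpectrum

theorem isOpenAt_of_comm_square' {P' P W Y' : Type*} [TopologicalSpace P'] [TopologicalSpace P]
    [TopologicalSpace W] [TopologicalSpace Y'] (i : P' → P) (h' : P' → W) (j : W → Y') (h : P → Y')
    (comm : ∀ t, j (h' t) = h (i t)) (hi : Continuous i) (hj : Topology.IsInducing j) (p' : P')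
    (hrange : Set.range j ∈ nhds (j (h' p')))
    (hopen : EGA43.IsOpenAt h' p') : EGA43.IsOpenAt h (i p') := by
  intro N hN
  have h1 : i ⁻¹' N ∈ nhds p' := hi.continuousAt hN
  have h2 := hopen _ h1
  have h3 : j '' (h' '' (i ⁻¹' N)) ∈ nhds (j (h' p')) := by
    rw [← hj.map_nhds_of_mem _ hrange]
    exact Filter.image_mem_map h2
  rw [comm] at h3
  refine Filter.mem_of_superset h3 ?_
  rintro _ ⟨_, ⟨t, ht, rfl⟩, rfl⟩
  exact ⟨i t, ht, (comm t).symm⟩

section minimal

variable {A₀ : Type*} [CommRing A₀] (p₀ : Ideal A₀) [p₀.IsPrime] (S₀ : Type*) [CommRing S₀]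
  [Algebra A₀ S₀] [IsLocalization.AtPrime S₀ p₀]

include p₀ in
theorem map_eq_nilradical_of_mem_minimalPrimes (hnil : (nilradical S₀).IsPrime) {pm : Ideal A₀}
    (hpm : pm ∈ minimalPrimes A₀) (hle : pm ≤ p₀) :
    Ideal.map (algebraMap A₀ S₀) pm = nilradical S₀ := by
  have hpmprime : pm.IsPrime := hpm.1.1
  have hdisj : Disjoint (p₀.primeCompl : Set A₀) (pm : Set A₀) := by
    rw [Set.disjoint_left]
    intro a ha ha'
    exact ha (hle ha')
  have hmapprime : (Ideal.map (algebraMap A₀ S₀) pm).IsPrime :=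
    IsLocalization.isPrime_of_isPrime_disjoint p₀.primeCompl S₀ pm hpmprime hdisj
  have h1 : nilradical S₀ ≤ Ideal.map (algebraMap A₀ S₀) pm := nilradical_le_prime _
  have h2 : (nilradical S₀).comap (algebraMap A₀ S₀) ≤ pm := by
    have := Ideal.comap_mono (f := algebraMap A₀ S₀) h1
    have e : (Ideal.map (algebraMap A₀ S₀) pm).comap (algebraMap A₀ S₀) = pm :=
      IsLocalization.under_map_of_isPrime_disjoint p₀.primeCompl S₀ hpmprime hdisj
    rwa [e] at this
  have h3 : pm ≤ (nilradical S₀).comap (algebraMap A₀ S₀) :=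
    hpm.2 ⟨Ideal.comap_isPrime _ _, bot_le⟩ h2
  have h4 : pm = (nilradical S₀).comap (algebraMap A₀ S₀) := le_antisymm h3 h2
  rw [h4]
  exact IsLocalization.map_under p₀.primeCompl S₀ _

include p₀ S₀ in
theorem eq_of_mem_minimalPrimes_of_le (hnil : (nilradical S₀).IsPrime) {pm pm₂ : Ideal A₀}
    (hpm : pm ∈ minimalPrimes A₀) (hle : pm ≤ p₀) (hpm₂ : pm₂ ∈ minimalPrimes A₀)
    (hle₂ : pm₂ ≤ p₀) : pm₂ = pm := by
  have e1 := map_eq_nilradical_of_mem_minimalPrimes p₀ S₀ hnil hpm hle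
  have e2 := map_eq_nilradical_of_mem_minimalPrimes p₀ S₀ hnil hpm₂ hle₂
  have hd : ∀ {I : Ideal A₀}, I ≤ p₀ → Disjoint (p₀.primeCompl : Set A₀) (I : Set A₀) := by
    intro I hI
    rw [Set.disjoint_left]
    intro a ha ha'
    exact ha (hI ha')
  have hp1 : pm.IsPrime := hpm.1.1
  have hp2 : pm₂.IsPrime := hpm₂.1.1
  have f1 : (Ideal.map (algebraMap A₀ S₀) pm).comap (algebraMap A₀ S₀) = pm :=
    IsLocalization.under_map_of_isPrime_disjoint p₀.primeCompl S₀ hp1 (hd hle)
  have f2 : (Ideal.map (algebraMap A₀ S₀) pm₂).comap (algebraMap A₀ S₀) = pm₂ :=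
    IsLocalization.under_map_of_isPrime_disjoint p₀.primeCompl S₀ hp2 (hd hle₂)
  rw [← f1, ← f2, e1, e2]

end minimal

/-- `V(pm A₀[T])` is a neighbourhood of `P` when `pm` is the only minimal prime below `P ∩ A₀`. -/
theorem range_comap_map_mk_mem_nhds {A₀ : Type*} [CommRing A₀] (hfin : (minimalPrimes A₀).Finite)
    (pm : Ideal A₀) (σ : Type*) (P : PrimeSpectrum (MvPolynomial σ A₀))
    (huniq : ∀ pm₂ ∈ minimalPrimes A₀,
      pm₂ ≤ P.asIdeal.comap (MvPolynomial.C : A₀ →+* MvPolynomial σ A₀) → pm₂ = pm) :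
    Set.range (comap (MvPolynomial.map (σ := σ) (Ideal.Quotient.mk pm))) ∈ nhds P := by
  have hsurj : Function.Surjective (MvPolynomial.map (σ := σ) (Ideal.Quotient.mk pm)) :=
    MvPolynomial.map_surjective _ Ideal.Quotient.mk_surjective
  rw [range_comap_of_surjective _ _ hsurj, MvPolynomial.ker_map, Ideal.mk_ker]
  -- the open set `W`
  let T : Set (Ideal A₀) := {pm₂ | pm₂ ∈ minimalPrimes A₀ ∧ pm₂ ≠ pm}
  have hTfin : T.Finite := hfin.subset (fun _ h => h.1)
  let Z : Set (PrimeSpectrum (MvPolynomial σ A₀)) :=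
    ⋃ pm₂ ∈ T, comap (MvPolynomial.C : A₀ →+* MvPolynomial σ A₀) ⁻¹' zeroLocus (pm₂ : Set A₀)
  have hZclosed : IsClosed Z :=
    hTfin.isClosed_biUnion fun pm₂ _ =>
      (isClosed_zeroLocus _).preimage (PrimeSpectrum.continuous_comap _)
  have hPZ : P ∈ Zᶜ := by
    intro hP
    simp only [Z, Set.mem_iUnion, Set.mem_preimage, mem_zeroLocus] at hP
    obtain ⟨pm₂, ⟨hpm₂, hne⟩, hle⟩ := hP
    exact hne (huniq pm₂ hpm₂ hle)
  refine Filter.mem_of_superset (hZclosed.isOpen_compl.mem_nhds hPZ) ?_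
  intro P' hP'
  rw [mem_zeroLocus, SetLike.coe_subset_coe, Ideal.map_le_iff_le_comap]
  obtain ⟨pm₂, hpm₂, hle⟩ := Ideal.exists_minimalPrimes_le
    (I := ⊥) (J := P'.asIdeal.comap (MvPolynomial.C : A₀ →+* MvPolynomial σ A₀)) bot_le
  by_cases h : pm₂ = pm
  · rw [← h]; exact hle
  · exfalso
    apply hP'
    simp only [Z, Set.mem_iUnion, Set.mem_preimage, mem_zeroLocus]
    exact ⟨pm₂, ⟨hpm₂, h⟩, hle⟩

end Groth.Agent.Lib.H80GUOpen
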