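/-
helper80: "locally quasi-finite over a geometrically unibranch base is universally open":
the ring-level statement.  `A₀` with finitely many minimal primes, `B₀` of finite type over `A₀`,
quasi-finite at `q₀`, `(A₀)_{p₀}` geometrically unibranch, and some prime `Pm ⊆ q₀` of `B₀`
contracting to a minimal prime of `A₀`: `Spec B₀[T₁..Tₙ] → Spec A₀[T₁..Tₙ]` is open at every
point over `q₀`.
-/
import Mathlib
import Groth.Prelude.Def_CAlg2
import Groth.Agent.Lib.H80GUOpen4

set_option autoImplicit false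
universe u

namespace Groth.Agent.Lib.H80GUOpen

open PrimeSpectrum

theorem isOpenAt_comap_map_of_isGeomUnibranch (A₀ B₀ : Type u) [CommRing A₀] [CommRing B₀]
    [Algebra A₀ B₀] [Algebra.FiniteType A₀ B₀] (hfin : (minimalPrimes A₀).Finite)
    (q₀ : PrimeSpectrum B₀) [Algebra.QuasiFiniteAt A₀ q₀.asIdeal]
    (Pm : Ideal B₀) [hPmprime : Pm.IsPrime] (hPmq : Pm ≤ q₀.asIdeal)
    (hdom : Pm.comap (algebraMap A₀ B₀) ∈ minimalPrimes A₀)
    (S₀ : Type u) [CommRing S₀] [IsLocalRing S₀] [Algebra A₀ S₀]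
    [IsLocalization.AtPrime S₀ (q₀.asIdeal.comap (algebraMap A₀ B₀))]
    (hGU : CAlg2.IsGeomUnibranch S₀)
    (n : ℕ) (Q : PrimeSpectrum (MvPolynomial (Fin n) B₀))
    (hQ : comap (MvPolynomial.C : B₀ →+* MvPolynomial (Fin n) B₀) Q = q₀) :
    EGA43.IsOpenAt (comap (MvPolynomial.map (σ := Fin n) (algebraMap A₀ B₀))) Q := by
  obtain ⟨pm, hpmdef⟩ : ∃ pm : Ideal A₀, pm = Pm.comap (algebraMap A₀ B₀) := ⟨_, rfl⟩
  have hpmprime : pm.IsPrime := hpmdef ▸ Ideal.comap_isPrime _ _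
  have hpmmin : pm ∈ minimalPrimes A₀ := hpmdef ▸ hdom
  have hpmle : pm ≤ q₀.asIdeal.comap (algebraMap A₀ B₀) := hpmdef ▸ Ideal.comap_mono hPmq
  -- the domains `A`, `B`
  let φ : A₀ ⧸ pm →+* B₀ ⧸ Pm := Ideal.quotientMap Pm (algebraMap A₀ B₀) hpmdef.le
  let _ : Algebra (A₀ ⧸ pm) (B₀ ⧸ Pm) := φ.toAlgebra
  have hT1 : IsScalarTower A₀ (A₀ ⧸ pm) (B₀ ⧸ Pm) :=
    IsScalarTower.of_algebraMap_eq (fun a => rfl)
  have hinj : Function.Injective (algebraMap (A₀ ⧸ pm) (B₀ ⧸ Pm)) :=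
    Ideal.quotientMap_injective' hpmdef.ge
  have hft : Algebra.FiniteType (A₀ ⧸ pm) (B₀ ⧸ Pm) := by
    have : Algebra.FiniteType A₀ (B₀ ⧸ Pm) :=
      Algebra.FiniteType.trans (S := B₀) inferInstance inferInstance
    exact Algebra.FiniteType.of_restrictScalars_finiteType A₀ _ _
  -- the prime `q`
  have hqprime : (q₀.asIdeal.map (Ideal.Quotient.mk Pm)).IsPrime :=
    Ideal.map_isPrime_of_surjective Ideal.Quotient.mk_surjective (by rwa [Ideal.mk_ker])
  let q : PrimeSpectrum (B₀ ⧸ Pm) := ⟨_, hqprime⟩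
  have hq : comap (Ideal.Quotient.mk Pm) q = q₀ := by
    apply PrimeSpectrum.ext
    change (q₀.asIdeal.map _).comap _ = _
    rw [Ideal.comap_map_of_surjective _ Ideal.Quotient.mk_surjective, ← RingHom.ker_eq_comap_bot,
      Ideal.mk_ker, sup_eq_left]
    exact hPmq
  -- quasi-finiteness
  have hqf₀ : Algebra.QuasiFiniteAt A₀ q.asIdeal :=
    Algebra.QuasiFiniteAt.of_surjectiveOnStalks q₀.asIdeal
      (Ideal.Quotient.mkₐ A₀ Pm)
      (RingHom.surjectiveOnStalks_of_surjective Ideal.Quotient.mk_surjective) q.asIdeal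
      (congrArg PrimeSpectrum.asIdeal hq).symm
  have hT2 : IsScalarTower A₀ (A₀ ⧸ pm) (Localization.AtPrime q.asIdeal) :=
    IsScalarTower.of_algebraMap_eq (fun a => by
      rw [IsScalarTower.algebraMap_apply A₀ (B₀ ⧸ Pm) (Localization.AtPrime q.asIdeal),
        IsScalarTower.algebraMap_apply (A₀ ⧸ pm) (B₀ ⧸ Pm)
          (Localization.AtPrime q.asIdeal)]
      rfl)
  have hqf : Algebra.QuasiFiniteAt (A₀ ⧸ pm) q.asIdeal :=
    Algebra.QuasiFinite.of_restrictScalars A₀ (A₀ ⧸ pm) _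
  -- the localization `D = red S₀`
  have hD : IsDomain (CAlg2.red S₀) := hGU.1.1
  have hnil : (nilradical S₀).IsPrime := (Ideal.Quotient.isDomain_iff_prime _).mp hD
  have hmapnil : Ideal.map (algebraMap A₀ S₀) pm = nilradical S₀ :=
    map_eq_nilradical_of_mem_minimalPrimes (q₀.asIdeal.comap (algebraMap A₀ B₀)) S₀ hnil hpmmin
      hpmle
  let ψ : A₀ ⧸ pm →+* CAlg2.red S₀ := Ideal.quotientMap (nilradical S₀) (algebraMap A₀ S₀)
    (by rw [← hmapnil]; exact Ideal.le_comap_map)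
  let _ : Algebra (A₀ ⧸ pm) (CAlg2.red S₀) := ψ.toAlgebra
  have hloc : IsLocalization ((q₀.asIdeal.comap (algebraMap A₀ B₀)).primeCompl.map
      (Ideal.Quotient.mk pm)) (CAlg2.red S₀) := by
    refine IsLocalization.of_surjective _ S₀ (Ideal.Quotient.mk pm)
      Ideal.Quotient.mk_surjective (Ideal.Quotient.mk (nilradical S₀))
      Ideal.Quotient.mk_surjective rfl ?_
    rw [Ideal.mk_ker, Ideal.mk_ker]
    exact hmapnil.ge
  have hsub : (q₀.asIdeal.comap (algebraMap A₀ B₀)).primeCompl.map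
      (Ideal.Quotient.mk pm) =
      (q.asIdeal.comap (algebraMap (A₀ ⧸ pm) (B₀ ⧸ Pm))).primeCompl := by
    have key : ∀ a : A₀, (Ideal.Quotient.mk pm a ∈
        q.asIdeal.comap (algebraMap (A₀ ⧸ pm) (B₀ ⧸ Pm))) ↔
        a ∈ q₀.asIdeal.comap (algebraMap A₀ B₀) := by
      intro a
      rw [Ideal.mem_comap, Ideal.mem_comap]
      change (Ideal.Quotient.mk Pm (algebraMap A₀ B₀ a) ∈ q.asIdeal) ↔ _
      rw [← Ideal.mem_comap]
      rw [show q.asIdeal.comap (Ideal.Quotient.mk Pm) = q₀.asIdeal from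
        congrArg PrimeSpectrum.asIdeal hq]
    ext a
    constructor
    · rintro ⟨b, hb, rfl⟩
      exact fun h => hb ((key b).mp h)
    · intro ha
      obtain ⟨a, rfl⟩ := Ideal.Quotient.mk_surjective a
      exact ⟨a, fun h => ha ((key a).mpr h), rfl⟩
  have hDloc : IsLocalization.AtPrime (CAlg2.red S₀)
      (q.asIdeal.comap (algebraMap (A₀ ⧸ pm) (B₀ ⧸ Pm))) := by
    change IsLocalization _ _
    rw [← hsub]
    exact hloc
  -- the fraction field and the integral closure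
  have hlocN : IsLocalRing (integralClosure (CAlg2.red S₀) (FractionRing (CAlg2.red S₀))) :=
    hGU.1.2
  have hPI : ∀ x : integralClosure (CAlg2.red S₀) (FractionRing (CAlg2.red S₀)) ⧸
        IsLocalRing.maximalIdeal (integralClosure (CAlg2.red S₀) (FractionRing (CAlg2.red S₀))),
      ∃ n : ℕ, x ^ (ringExpChar
          (integralClosure (CAlg2.red S₀) (FractionRing (CAlg2.red S₀)) ⧸ IsLocalRing.maximalIdeal
            (integralClosure (CAlg2.red S₀) (FractionRing (CAlg2.red S₀))))) ^ n ∈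
        ((Ideal.Quotient.mk (IsLocalRing.maximalIdeal
            (integralClosure (CAlg2.red S₀) (FractionRing (CAlg2.red S₀))))).comp
          (algebraMap (CAlg2.red S₀)
            (integralClosure (CAlg2.red S₀) (FractionRing (CAlg2.red S₀))))).range := by
    intro x
    obtain ⟨m, s, hs⟩ := hGU.2 (IsLocalRing.maximalIdeal (CAlg2.normRed S₀)) x
    exact ⟨m, Ideal.Quotient.mk (nilradical S₀) s, hs⟩
  -- the prime `Q̄`
  let πB : MvPolynomial (Fin n) B₀ →+* MvPolynomial (Fin n) (B₀ ⧸ Pm) :=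
    MvPolynomial.map (Ideal.Quotient.mk Pm)
  let πA : MvPolynomial (Fin n) A₀ →+* MvPolynomial (Fin n) (A₀ ⧸ pm) :=
    MvPolynomial.map (Ideal.Quotient.mk pm)
  have hπB : Function.Surjective πB := MvPolynomial.map_surjective _ Ideal.Quotient.mk_surjective
  have hπA : Function.Surjective πA := MvPolynomial.map_surjective _ Ideal.Quotient.mk_surjective
  have hkerQ : RingHom.ker πB ≤ Q.asIdeal := by
    rw [MvPolynomial.ker_map, Ideal.mk_ker, Ideal.map_le_iff_le_comap]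
    intro b hb
    have : b ∈ q₀.asIdeal := hPmq hb
    rw [← hQ] at this
    exact this
  have hQbprime : (Q.asIdeal.map πB).IsPrime := Ideal.map_isPrime_of_surjective hπB hkerQ
  let Qb : PrimeSpectrum (MvPolynomial (Fin n) (B₀ ⧸ Pm)) := ⟨_, hQbprime⟩
  have hQb : comap πB Qb = Q := by
    apply PrimeSpectrum.ext
    change (Q.asIdeal.map _).comap _ = _
    rw [Ideal.comap_map_of_surjective _ hπB, ← RingHom.ker_eq_comap_bot, sup_eq_left]
    exact hkerQ
  have hQbq : comap (MvPolynomial.C : B₀ ⧸ Pm →+* MvPolynomial (Fin n) (B₀ ⧸ Pm)) Qb = q := by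
    apply PrimeSpectrum.comap_injective_of_surjective _ (Ideal.Quotient.mk_surjective (I := Pm))
    rw [hq, ← hQ, ← hQb, ← PrimeSpectrum.comap_comp_apply, ← PrimeSpectrum.comap_comp_apply]
    congr 1
    ext b
    simp [πB]
  -- the domain case
  have key := isOpenAt_comap_map_of_quasiFiniteAt hinj q (CAlg2.red S₀)
    (FractionRing (CAlg2.red S₀)) hPI n Qb hQbq
  -- transfer
  have hcomm : (MvPolynomial.map (σ := Fin n) (algebraMap (A₀ ⧸ pm) (B₀ ⧸ Pm))).comp πA =
      πB.comp (MvPolynomial.map (σ := Fin n) (algebraMap A₀ B₀)) := by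
    rw [map_comp_map, map_comp_map]
    rfl
  have hsq : ∀ t : PrimeSpectrum (MvPolynomial (Fin n) (B₀ ⧸ Pm)),
      comap πA (comap (MvPolynomial.map (σ := Fin n) (algebraMap (A₀ ⧸ pm) (B₀ ⧸ Pm))) t) =
        comap (MvPolynomial.map (σ := Fin n) (algebraMap A₀ B₀)) (comap πB t) := by
    intro t
    rw [← PrimeSpectrum.comap_comp_apply, ← PrimeSpectrum.comap_comp_apply, hcomm]
  have hrange : Set.range (comap πA) ∈ nhds (comap πA
      (comap (MvPolynomial.map (σ := Fin n) (algebraMap (A₀ ⧸ pm) (B₀ ⧸ Pm))) Qb)) := by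
    apply range_comap_map_mk_mem_nhds hfin pm (Fin n)
    intro pm₂ hpm₂ hle₂
    refine eq_of_mem_minimalPrimes_of_le (q₀.asIdeal.comap (algebraMap A₀ B₀)) S₀ hnil hpmmin
      hpmle hpm₂ ?_
    refine hle₂.trans (le_of_eq ?_)
    rw [hsq, hQb, ← hQ]
    change ((Q.asIdeal.comap _).comap _) = (Q.asIdeal.comap _).comap _
    rw [Ideal.comap_comap, Ideal.comap_comap]
    congr 1
    ext a
    simp
  have := isOpenAt_of_comm_square' (comap πB)
    (comap (MvPolynomial.map (σ := Fin n) (algebraMap (A₀ ⧸ pm) (B₀ ⧸ Pm))))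
    (comap πA) (comap (MvPolynomial.map (σ := Fin n) (algebraMap A₀ B₀))) hsq
    (PrimeSpectrum.continuous_comap _)
    (PrimeSpectrum.isClosedEmbedding_comap_of_surjective _ πA hπA).isInducing Qb hrange key
  rwa [hQb] at this

end Groth.Agent.Lib.H80GUOpen
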