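import Mathlib
import Groth.Agent.Lib.H30NormalSmooth

/-!
# helper80: the integral closure of a polynomial ring over a domain

For a domain `A` with integral closure `A'` (in `K = Frac A`) and `B = A[T₁, …, Tₙ]`, `F = Frac B`:
* `jF : K →+* F` the canonical map;
* `Phi : A'[T₁, …, Tₙ] →+* F`, injective;
* `exists_eq_Phi_of_isIntegral` : every element of `F` integral over `B` is in the range of `Phi`
  (since `A'[T]` is integrally closed with fraction field `F`).
-/

set_option autoImplicit false
universe u

namespace Groth.Agent.Lib.H80PolyGU

open MvPolynomial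

attribute [local instance] MvPolynomial.algebraMvPolynomial

variable (A : Type u) [CommRing A] [IsDomain A] (n : ℕ)

theorem algebraMap_comp_C_injective :
    Function.Injective ((algebraMap (MvPolynomial (Fin n) A)
      (FractionRing (MvPolynomial (Fin n) A))).comp (C : A →+* MvPolynomial (Fin n) A)) :=
  (IsFractionRing.injective (MvPolynomial (Fin n) A)
    (FractionRing (MvPolynomial (Fin n) A))).comp (C_injective (Fin n) A)

/-- The canonical map `Frac A → Frac A[T]`. -/
noncomputable def jF : FractionRing A →+* FractionRing (MvPolynomial (Fin n) A) :=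
  IsFractionRing.lift (algebraMap_comp_C_injective A n)

theorem jF_algebraMap (a : A) :
    jF A n (algebraMap A (FractionRing A) a) =
      algebraMap (MvPolynomial (Fin n) A) (FractionRing (MvPolynomial (Fin n) A)) (C a) :=
  IsFractionRing.lift_algebraMap _ a

/-- `(Frac A)[T] → Frac A[T]`, as the lift of the localization. -/
noncomputable def Psi : MvPolynomial (Fin n) (FractionRing A) →+*
    FractionRing (MvPolynomial (Fin n) A) :=
  IsLocalization.lift (M := (nonZeroDivisors A).map (C : A →+* MvPolynomial (Fin n) A))
    (S := MvPolynomial (Fin n) (FractionRing A))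
    (g := algebraMap (MvPolynomial (Fin n) A) (FractionRing (MvPolynomial (Fin n) A)))
    (by
      rintro ⟨_, a, ha, rfl⟩
      refine IsUnit.mk0 _ ?_
      have ha0 : a ≠ 0 := nonZeroDivisors.ne_zero ha
      intro h
      have h1 := algebraMap_comp_C_injective A n (a₁ := a) (a₂ := 0) (by simpa using h)
      exact ha0 h1)

theorem Psi_algebraMap (b : MvPolynomial (Fin n) A) :
    Psi A n (algebraMap (MvPolynomial (Fin n) A) (MvPolynomial (Fin n) (FractionRing A)) b) =
      algebraMap (MvPolynomial (Fin n) A) (FractionRing (MvPolynomial (Fin n) A)) b :=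
  IsLocalization.lift_eq _ b

theorem Psi_injective : Function.Injective (Psi A n) := by
  unfold Psi
  rw [IsLocalization.lift_injective_iff]
  intro x y
  rw [(IsFractionRing.injective (MvPolynomial (Fin n) A)
    (FractionRing (MvPolynomial (Fin n) A))).eq_iff]
  have hinj : Function.Injective (algebraMap (MvPolynomial (Fin n) A)
      (MvPolynomial (Fin n) (FractionRing A))) := by
    rw [MvPolynomial.algebraMap_def]
    exact map_injective _ (IsFractionRing.injective A (FractionRing A))
  exact hinj.eq_iff

theorem Psi_C (k : FractionRing A) : Psi A n (C k) = jF A n k := by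
  obtain ⟨a, s, rfl⟩ := IsLocalization.exists_mk'_eq (nonZeroDivisors A) k
  have hs : algebraMap A (FractionRing A) s ≠ 0 := by
    intro h
    exact nonZeroDivisors.ne_zero s.2
      ((IsFractionRing.injective A (FractionRing A)) (by simpa using h))
  have e1 : IsLocalization.mk' (FractionRing A) a s * algebraMap A (FractionRing A) s =
      algebraMap A (FractionRing A) a := IsLocalization.mk'_spec _ a s
  have e2 : Psi A n (C (IsLocalization.mk' (FractionRing A) a s)) *
      Psi A n (C (algebraMap A (FractionRing A) s)) =
      Psi A n (C (algebraMap A (FractionRing A) a)) := by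
    rw [← map_mul, ← map_mul, e1]
  have e3 : jF A n (IsLocalization.mk' (FractionRing A) a s) *
      jF A n (algebraMap A (FractionRing A) s) = jF A n (algebraMap A (FractionRing A) a) := by
    rw [← map_mul, e1]
  have hC : ∀ c : A, Psi A n (C (algebraMap A (FractionRing A) c)) =
      jF A n (algebraMap A (FractionRing A) c) := by
    intro c
    have : (C (algebraMap A (FractionRing A) c) : MvPolynomial (Fin n) (FractionRing A)) =
        algebraMap (MvPolynomial (Fin n) A) (MvPolynomial (Fin n) (FractionRing A)) (C c) := by
      rw [MvPolynomial.algebraMap_def, map_C]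
    rw [this, Psi_algebraMap, jF_algebraMap]
  rw [hC, hC] at e2
  have hne : jF A n (algebraMap A (FractionRing A) s) ≠ 0 := by
    rw [jF_algebraMap]
    intro h
    have h1 := algebraMap_comp_C_injective A n (a₁ := (s : A)) (a₂ := 0) (by simpa using h)
    exact nonZeroDivisors.ne_zero s.2 h1
  exact mul_right_cancel₀ hne (e2.trans e3.symm)

theorem Psi_X (i : Fin n) : Psi A n (X i) =
    algebraMap (MvPolynomial (Fin n) A) (FractionRing (MvPolynomial (Fin n) A)) (X i) := by
  have : (X i : MvPolynomial (Fin n) (FractionRing A)) =
      algebraMap (MvPolynomial (Fin n) A) (MvPolynomial (Fin n) (FractionRing A)) (X i) := by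
    rw [MvPolynomial.algebraMap_def, map_X]
  rw [this, Psi_algebraMap]

/-- `A'[T] → Frac A[T]`, where `A'` is the integral closure of `A` in `Frac A`. -/
noncomputable def Phi : MvPolynomial (Fin n) (integralClosure A (FractionRing A)) →+*
    FractionRing (MvPolynomial (Fin n) A) :=
  (Psi A n).comp (map (integralClosure A (FractionRing A)).val.toRingHom)

theorem Phi_injective : Function.Injective (Phi A n) :=
  (Psi_injective A n).comp (map_injective _ Subtype.val_injective)

theorem Phi_C (a' : integralClosure A (FractionRing A)) : Phi A n (C a') = jF A n a'.1 := by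
  change Psi A n (map _ (C a')) = _
  rw [map_C, Psi_C]
  rfl

theorem Phi_X (i : Fin n) : Phi A n (X i) =
    algebraMap (MvPolynomial (Fin n) A) (FractionRing (MvPolynomial (Fin n) A)) (X i) := by
  change Psi A n (map _ (X i)) = _
  rw [map_X, Psi_X]

theorem Phi_map (b : MvPolynomial (Fin n) A) :
    Phi A n (map (algebraMap A (integralClosure A (FractionRing A))) b) =
      algebraMap (MvPolynomial (Fin n) A) (FractionRing (MvPolynomial (Fin n) A)) b := by
  change Psi A n (map _ (map _ b)) = _
  rw [map_map]
  have : (integralClosure A (FractionRing A)).val.toRingHom.comp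
      (algebraMap A (integralClosure A (FractionRing A))) = algebraMap A (FractionRing A) := by
    ext a; rfl
  rw [this, ← MvPolynomial.algebraMap_def, Psi_algebraMap]

theorem exists_eq_Phi_of_isIntegral (x : FractionRing (MvPolynomial (Fin n) A))
    (hx : IsIntegral (MvPolynomial (Fin n) A) x) : ∃ y, Phi A n y = x := by
  have hic : IsIntegrallyClosed (integralClosure A (FractionRing A)) :=
    integralClosure.isIntegrallyClosedOfFiniteExtension (FractionRing A)
  have hic' : IsIntegrallyClosed (MvPolynomial (Fin n) (integralClosure A (FractionRing A))) :=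
    Groth.Agent.Lib.H30NormalSmooth.isIntegrallyClosed_mvPolynomial_fin _ n
  let _ : Algebra (MvPolynomial (Fin n) (integralClosure A (FractionRing A)))
      (FractionRing (MvPolynomial (Fin n) A)) := (Phi A n).toAlgebra
  have hT : IsScalarTower (MvPolynomial (Fin n) A)
      (MvPolynomial (Fin n) (integralClosure A (FractionRing A)))
      (FractionRing (MvPolynomial (Fin n) A)) := by
    refine IsScalarTower.of_algebraMap_eq fun b => ?_
    change _ = Phi A n (algebraMap _ _ b)
    rw [MvPolynomial.algebraMap_def, Phi_map]
  have hF : FaithfulSMul (MvPolynomial (Fin n) (integralClosure A (FractionRing A)))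
      (FractionRing (MvPolynomial (Fin n) A)) :=
    (faithfulSMul_iff_algebraMap_injective _ _).mpr (Phi_injective A n)
  have hfr : IsFractionRing (MvPolynomial (Fin n) (integralClosure A (FractionRing A)))
      (FractionRing (MvPolynomial (Fin n) A)) := by
    have key : ∀ z : FractionRing (MvPolynomial (Fin n) A),
        ∃ x y : MvPolynomial (Fin n) (integralClosure A (FractionRing A)),
          z = algebraMap _ (FractionRing (MvPolynomial (Fin n) A)) x /
            algebraMap _ (FractionRing (MvPolynomial (Fin n) A)) y := by
      intro z
      obtain ⟨b, s, hs, rfl⟩ := IsFractionRing.div_surjective (A := MvPolynomial (Fin n) A) z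
      refine ⟨algebraMap _ _ b, algebraMap _ _ s, ?_⟩
      rw [← IsScalarTower.algebraMap_apply, ← IsScalarTower.algebraMap_apply]
    exact IsFractionRing.of_field (MvPolynomial (Fin n) (integralClosure A (FractionRing A)))
      (FractionRing (MvPolynomial (Fin n) A)) key
  have hx' : IsIntegral (MvPolynomial (Fin n) (integralClosure A (FractionRing A))) x :=
    hx.tower_top
  exact IsIntegrallyClosed.isIntegral_iff.mp hx'

end Groth.Agent.Lib.H80PolyGU
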