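import Mathlib

/-!
# helper96: the chart ring of the normalization of an integral scheme is a fraction field

For an integral scheme `X` with generic point `η`, `f = X.fromSpecStalk η` and a non-empty affine open
`U`, the ring `Γ(Spec O_{X,η}, f⁻¹ U)` is a fraction ring of `Γ(X, U)` (via `f.app U`).
-/

set_option autoImplicit false
set_option linter.style.haveILetI false
universe u

namespace Groth.Agent.Lib.NormBranches96

open AlgebraicGeometry CategoryTheory Opposite

variable (X : Scheme.{u}) [IsIntegral X] (U : X.Opens)

theorem genericPoint_mem [Nonempty U] : genericPoint X ∈ U :=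
  ((genericPoint_spec X).mem_open_set_iff U.isOpen).mpr (by simpa using ‹Nonempty U›)

theorem preimage_eq_top [Nonempty U] : (X.fromSpecStalk (genericPoint X)) ⁻¹ᵁ U = ⊤ := by
  rw [eq_top_iff]
  intro z _
  show X.fromSpecStalk (genericPoint X) z ∈ U
  have h1 : X.fromSpecStalk (genericPoint X) z ∈ Set.range (X.fromSpecStalk (genericPoint X)) :=
    Set.mem_range_self z
  rw [Scheme.range_fromSpecStalk] at h1
  exact h1.mem_open U.isOpen (genericPoint_mem X U)

set_option backward.isDefEq.respectTransparency false in
theorem isFractionRing_chart (hU : IsAffineOpen U) [Nonempty U] :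
    letI := ((X.fromSpecStalk (genericPoint X)).app U).hom.toAlgebra
    IsFractionRing Γ(X, U)
      Γ(Spec (X.presheaf.stalk (genericPoint X)), (X.fromSpecStalk (genericPoint X)) ⁻¹ᵁ U) := by
  letI := ((X.fromSpecStalk (genericPoint X)).app U).hom.toAlgebra
  have heq := preimage_eq_top X U
  have hiso : IsIso (homOfLE (le_top :
      (X.fromSpecStalk (genericPoint X)) ⁻¹ᵁ U ≤ ⊤)) := by
    have : homOfLE (le_top : (X.fromSpecStalk (genericPoint X)) ⁻¹ᵁ U ≤ ⊤) = eqToHom heq :=
      Subsingleton.elim _ _
    rw [this]
    infer_instance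
  let ε : X.functionField ⟶
      Γ(Spec (X.presheaf.stalk (genericPoint X)), (X.fromSpecStalk (genericPoint X)) ⁻¹ᵁ U) :=
    (Scheme.ΓSpecIso (X.presheaf.stalk (genericPoint X))).inv ≫
      (Spec (X.presheaf.stalk (genericPoint X))).presheaf.map (homOfLE le_top).op
  have hε : IsIso ε := inferInstance
  have hfac : (X.fromSpecStalk (genericPoint X)).app U = X.germToFunctionField U ≫ ε :=
    Scheme.fromSpecStalk_app (genericPoint_mem X U)
  let e : X.functionField ≃ₐ[Γ(X, U)]
      Γ(Spec (X.presheaf.stalk (genericPoint X)), (X.fromSpecStalk (genericPoint X)) ⁻¹ᵁ U) :=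
    { (asIso ε).commRingCatIsoToRingEquiv with
      commutes' := fun b => by
        show ε.hom ((X.germToFunctionField U).hom b) = _
        exact (congrArg (fun k => k.hom b) hfac).symm }
  haveI := functionField_isFractionRing_of_isAffineOpen X U hU
  exact IsLocalization.isLocalization_of_algEquiv (nonZeroDivisors Γ(X, U)) e

end Groth.Agent.Lib.NormBranches96
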