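import Mathlib

/-!
# helper96: generic lemmas on geometric points of fibres

* `card_sigma_tsum`: `ENat.card (Σ i, X i) = ∑' i, ENat.card (X i)`.
* `card_emb_eq`: for an algebraic field extension `E/F` and a ring map `θ : F → Ω` into an
  algebraically closed field, `Field.Emb F E` has as many elements as there are extensions of `θ`
  to `E`.
* `geomPointsEquiv`: morphisms `Spec Ω ⟶ Y'` lying over a given `Spec Ω ⟶ Spec κ(y) ⟶ Y` are pairs of
  a point `z` over `y` and an extension of `κ(y) → Ω` to `κ(z)`.
* `isAlgebraic_residueFieldMap`: residue field extensions of an integral morphism are algebraic.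
-/

set_option autoImplicit false
set_option linter.style.haveILetI false
universe u

namespace Groth.Agent.Lib.NormBranches96

open AlgebraicGeometry CategoryTheory

section Card

theorem tsum_eq_iSup_sum {ι : Type*} (c : ι → ℕ∞) :
    ∑' i, c i = ⨆ s : Finset ι, ∑ i ∈ s, c i :=
  (hasSum_of_isLUB _ isLUB_iSup).tsum_eq

theorem card_sigma_fintype {ι : Type*} [Fintype ι] (X : ι → Type*) :
    ENat.card (Σ i, X i) = ∑ i, ENat.card (X i) := by
  classical
  by_cases h : ∀ i, Finite (X i)
  · haveI := h
    haveI : ∀ i, Fintype (X i) := fun i => Fintype.ofFinite _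
    rw [ENat.card_eq_coe_fintype_card, Fintype.card_sigma]
    push_cast
    exact Finset.sum_congr rfl fun i _ => (ENat.card_eq_coe_fintype_card (α := X i)).symm
  · push Not at h
    obtain ⟨i, hi⟩ := h
    have h1 : ENat.card (X i) = ⊤ := ENat.card_eq_top_of_infinite
    have h2 : ∑ i, ENat.card (X i) = ⊤ := by
      apply top_le_iff.1
      rw [← h1]
      exact Finset.single_le_sum (f := fun i => ENat.card (X i)) (fun _ _ => zero_le)
        (Finset.mem_univ i)
    rw [h2]
    haveI : Infinite (Σ i, X i) := Infinite.of_injective (Sigma.mk i) sigma_mk_injective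
    exact ENat.card_eq_top_of_infinite

theorem card_sigma_tsum {ι : Type*} (X : ι → Type*) :
    ENat.card (Σ i, X i) = ∑' i, ENat.card (X i) := by
  classical
  rw [tsum_eq_iSup_sum]
  apply le_antisymm
  · -- `≤`
    by_cases hfin : (Function.support fun i => ENat.card (X i)).Finite
    · let s : Finset ι := hfin.toFinset
      refine le_trans ?_ (le_iSup (fun s : Finset ι => ∑ i ∈ s, ENat.card (X i)) s)
      rw [← Finset.sum_coe_sort s (fun i => ENat.card (X i)), ← card_sigma_fintype]
      refine ENat.card_le_card_of_injective (f := fun p : Σ i, X i =>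
        (⟨⟨p.1, by
          rw [Set.Finite.mem_toFinset, Function.mem_support]
          intro h0
          have : IsEmpty (X p.1) := (ENat.card_eq_zero_iff_empty _).1 h0
          exact this.false p.2⟩, p.2⟩ : Σ i : s, X i.1)) ?_
      rintro ⟨i, a⟩ ⟨j, b⟩ h
      simp only [Sigma.mk.injEq, Subtype.mk.injEq] at h
      obtain ⟨rfl, h2⟩ := h
      rw [eq_of_heq h2]
    · have : (⨆ s : Finset ι, ∑ i ∈ s, ENat.card (X i)) = ⊤ := by
        rw [eq_top_iff, ← ENat.forall_natCast_le_iff_le]
        intro n _
        have hinf : (Function.support fun i => ENat.card (X i)).Infinite := hfin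
        obtain ⟨t, hts, htc⟩ := hinf.exists_subset_card_eq n
        refine le_trans ?_ (le_iSup (fun s : Finset ι => ∑ i ∈ s, ENat.card (X i)) t)
        calc (n : ℕ∞) = ∑ _i ∈ t, (1 : ℕ∞) := by simp [htc]
          _ ≤ ∑ i ∈ t, ENat.card (X i) := by
            refine Finset.sum_le_sum fun i hi => ?_
            have := hts hi
            rw [Function.mem_support] at this
            exact Order.one_le_iff_ne_zero.2 this
      rw [this]
      exact le_top
  · refine iSup_le fun s => ?_
    rw [← Finset.sum_coe_sort s (fun i => ENat.card (X i)), ← card_sigma_fintype]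
    refine ENat.card_le_card_of_injective (f := fun p : Σ i : s, X i.1 =>
      (⟨p.1.1, p.2⟩ : Σ i, X i)) ?_
    rintro ⟨⟨i, hi⟩, a⟩ ⟨⟨j, hj⟩, b⟩ h
    simp only [Sigma.mk.injEq] at h
    obtain ⟨rfl, h2⟩ := h
    rw [eq_of_heq h2]

end Card

section Emb

/-- Extensions of `θ : F → Ω` to `E` are counted by `Field.Emb F E` when `E/F` is algebraic and `Ω`
is algebraically closed. -/
theorem card_emb_eq (F E Ω : Type u) [Field F] [Field E] [Field Ω] [Algebra F E]
    [Algebra.IsAlgebraic F E] [IsAlgClosed Ω] (θ : F →+* Ω) :
    ENat.card (Field.Emb F E) = ENat.card {σ : E →+* Ω // σ.comp (algebraMap F E) = θ} := by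
  letI : Algebra F Ω := θ.toAlgebra
  refine ENat.card_congr ((Field.embEquivOfIsAlgClosed F E Ω).trans ?_)
  exact
    { toFun := fun σ => ⟨σ.toRingHom, RingHom.ext fun a => σ.commutes a⟩
      invFun := fun σ => { σ.1 with commutes' := fun a => RingHom.congr_fun σ.2 a }
      left_inv := fun σ => by ext; rfl
      right_inv := fun σ => by ext; rfl }

end Emb

end Groth.Agent.Lib.NormBranches96
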