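import Mathlib

/-!
# helper96: geometric points of fibres and residue fields of integral morphisms

* `card_geomPoints`: morphisms `Spec Ω ⟶ Y'` lying over a given `Spec Ω ⟶ Spec κ(y) ⟶ Y` are pairs of
  a point `z` over `y` and an extension of `κ(y) → Ω` to `κ(z)`.
* `isAlgebraic_residueFieldMap`: residue field extensions of an integral morphism are algebraic.
-/

set_option autoImplicit false
set_option linter.style.haveILetI false
universe u

namespace Groth.Agent.Lib.NormBranches96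

open AlgebraicGeometry CategoryTheory

section GeomPoints

variable {Y' Y : Scheme.{u}} (h : Y' ⟶ Y) (y : Y) (Ω : Type u) [Field Ω]
  (θ : Y.residueField y ⟶ CommRingCat.of Ω)

set_option backward.isDefEq.respectTransparency.types false in
theorem comp_eq_iff (t : Spec (CommRingCat.of Ω) ⟶ Y') :
    t ≫ h = Spec.map θ ≫ Y.fromSpecResidueField y ↔
      ∃ e : h ((Scheme.SpecToEquivOfField Ω Y' t).1) = y,
        h.residueFieldMap (Scheme.SpecToEquivOfField Ω Y' t).1 ≫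
          (Scheme.SpecToEquivOfField Ω Y' t).2 = (Y.residueFieldCongr e).hom ≫ θ := by
  have h1 : Spec.map θ ≫ Y.fromSpecResidueField y =
      (Scheme.SpecToEquivOfField Ω Y).symm ⟨y, θ⟩ := rfl
  rw [h1, Equiv.eq_symm_apply, Scheme.SpecToEquivOfField_eq_iff]
  have h2 : (Scheme.SpecToEquivOfField Ω Y (t ≫ h)).2 =
      h.residueFieldMap (t (IsLocalRing.closedPoint Ω)) ≫
        (Scheme.SpecToEquivOfField Ω Y' t).2 :=
    Scheme.descResidueField_stalkClosedPointTo_comp h t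
  constructor
  · rintro ⟨e, he⟩
    exact ⟨e, h2.symm.trans he⟩
  · rintro ⟨e, he⟩
    exact ⟨e, h2.trans he⟩

theorem card_geomPoints :
    ENat.card {t : Spec (CommRingCat.of Ω) ⟶ Y' //
        t ≫ h = Spec.map θ ≫ Y.fromSpecResidueField y} =
      ENat.card (Σ z : {z : Y' // h z = y}, {σ : Y'.residueField z.1 ⟶ CommRingCat.of Ω //
        h.residueFieldMap z.1 ≫ σ = (Y.residueFieldCongr z.2).hom ≫ θ}) := by
  let Q : (Σ z : Y', Y'.residueField z ⟶ CommRingCat.of Ω) → Prop := fun p =>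
    ∃ e : h p.1 = y, h.residueFieldMap p.1 ≫ p.2 = (Y.residueFieldCongr e).hom ≫ θ
  have e1 : {t : Spec (CommRingCat.of Ω) ⟶ Y' //
      t ≫ h = Spec.map θ ≫ Y.fromSpecResidueField y} ≃ {p // Q p} :=
    (Scheme.SpecToEquivOfField Ω Y').subtypeEquiv fun t => comp_eq_iff h y Ω θ t
  have e2 : {p // Q p} ≃ (Σ z : {z : Y' // h z = y},
      {σ : Y'.residueField z.1 ⟶ CommRingCat.of Ω //
        h.residueFieldMap z.1 ≫ σ = (Y.residueFieldCongr z.2).hom ≫ θ}) :=
    { toFun := fun p => ⟨⟨p.1.1, p.2.choose⟩, ⟨p.1.2, p.2.choose_spec⟩⟩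
      invFun := fun q => ⟨⟨q.1.1, q.2.1⟩, ⟨q.1.2, q.2.2⟩⟩
      left_inv := fun p => rfl
      right_inv := fun q => rfl }
  exact ENat.card_congr (e1.trans e2)

end GeomPoints

section Alg

theorem isAlgebraic_residueFieldMap {Y' Y : Scheme.{u}} (h : Y' ⟶ Y) [IsIntegralHom h] (z : Y') :
    letI := (h.residueFieldMap z).hom.toAlgebra
    Algebra.IsAlgebraic (Y.residueField (h z)) (Y'.residueField z) := by
  letI := (h.residueFieldMap z).hom.toAlgebra
  obtain ⟨U, hU, hzU⟩ : ∃ U : Y.Opens, IsAffineOpen U ∧ h z ∈ U := by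
    obtain ⟨_, ⟨U, hU, rfl⟩, hzU, -⟩ :=
      Y.isBasis_affineOpens.exists_subset_of_mem_open (Set.mem_univ (h z)) isOpen_univ
    exact ⟨U, hU, hzU⟩
  have hV : IsAffineOpen (h ⁻¹ᵁ U) := hU.preimage h
  have hint : (h.app U).hom.IsIntegral := h.isIntegral_app U hU
  letI : Algebra Γ(Y, U) Γ(Y', h ⁻¹ᵁ U) := (h.app U).hom.toAlgebra
  have hzV : z ∈ h ⁻¹ᵁ U := hzU
  -- evaluation of sections over `V` is integral over `κ(h z)`
  have hev : ∀ a : Γ(Y', h ⁻¹ᵁ U), IsIntegral (Y.residueField (h z))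
      ((Y'.evaluation (h ⁻¹ᵁ U) z hzV).hom a) := by
    intro a
    refine IsIntegral.map_of_comp_eq (Y.evaluation U (h z) hzU).hom
      (Y'.evaluation (h ⁻¹ᵁ U) z hzV).hom ?_ (hint a)
    have := Scheme.evaluation_naturality h z hzU
    exact congrArg CommRingCat.Hom.hom this
  refine ⟨fun e => ?_⟩
  obtain ⟨s, rfl⟩ : ∃ s, (Y'.residue z).hom s = e := IsLocalRing.residue_surjective e
  letI : Algebra Γ(Y', h ⁻¹ᵁ U) (Y'.presheaf.stalk z) :=
    Y'.presheaf.algebra_section_stalk ⟨z, hzV⟩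
  haveI : IsLocalization.AtPrime (Y'.presheaf.stalk z) (hV.primeIdealOf ⟨z, hzV⟩).asIdeal :=
    hV.isLocalization_stalk ⟨z, hzV⟩
  obtain ⟨a, b, rfl⟩ := IsLocalization.exists_mk'_eq
    (hV.primeIdealOf ⟨z, hzV⟩).asIdeal.primeCompl s
  have hspec := IsLocalization.mk'_spec (Y'.presheaf.stalk z) a b
  have hevb : (Y'.residue z).hom (algebraMap Γ(Y', h ⁻¹ᵁ U) (Y'.presheaf.stalk z) b.1) =
      (Y'.evaluation (h ⁻¹ᵁ U) z hzV).hom b.1 := rfl
  have heva : (Y'.residue z).hom (algebraMap Γ(Y', h ⁻¹ᵁ U) (Y'.presheaf.stalk z) a) =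
      (Y'.evaluation (h ⁻¹ᵁ U) z hzV).hom a := rfl
  have hmul := congrArg (Y'.residue z).hom hspec
  rw [map_mul, hevb, heva] at hmul
  have hbne : (Y'.evaluation (h ⁻¹ᵁ U) z hzV).hom b.1 ≠ 0 := by
    rw [← hevb]
    intro h0
    have hu : IsUnit (algebraMap Γ(Y', h ⁻¹ᵁ U) (Y'.presheaf.stalk z) b.1) :=
      IsLocalization.map_units _ b
    have h1 : algebraMap Γ(Y', h ⁻¹ᵁ U) (Y'.presheaf.stalk z) b.1 ∈
        IsLocalRing.maximalIdeal (Y'.presheaf.stalk z) :=
      (IsLocalRing.residue_eq_zero_iff _).1 h0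
    exact (IsLocalRing.mem_maximalIdeal _).1 h1 hu
  have hfinal : (Y'.residue z).hom (IsLocalization.mk' (Y'.presheaf.stalk z) a b) =
      (Y'.evaluation (h ⁻¹ᵁ U) z hzV).hom a * ((Y'.evaluation (h ⁻¹ᵁ U) z hzV).hom b.1)⁻¹ := by
    rw [← hmul, mul_assoc, mul_inv_cancel₀ hbne, mul_one]
  rw [hfinal]
  exact ((hev a).isAlgebraic).mul ((hev b.1).isAlgebraic).inv

end Alg

end Groth.Agent.Lib.NormBranches96
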