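import Mathlib
import Groth.Agent.Lib.BrnchSum98

/-!
# helper96: ring-level input for "branches = points of the normalization"

* `maxSpecEquiv`: for `B → B'` integral, `p` a prime of `B`, `N` the localization of `B'` at the
  image of `B ∖ p`: maximal ideals of `N` correspond to primes of `B'` over `p`.
* `homOverLocEquiv`: ring maps `N → Ω` over `A = B_p → Ω` correspond to ring maps `B' → Ω` over
  `B → Ω`.
* `normRedEquiv`: for a local domain `A` with fraction field `L`, `CAlg2.normRed A` is isomorphic to
  the integral closure of `A` in `L`, compatibly with the maps from `A`.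
-/

set_option autoImplicit false
set_option linter.style.haveILetI false
universe u

namespace Groth.Agent.Lib.NormBranches96

open Groth.Agent.Lib.BrnchSum98

section Loc

variable {B A B' N : Type*} [CommRing B] [CommRing A] [CommRing B'] [CommRing N]
  [Algebra B A] [Algebra B B'] [Algebra B' N] [Algebra A N] [Algebra B N]
  [IsScalarTower B A N] [IsScalarTower B B' N]
  (p : Ideal B) [p.IsPrime] [IsLocalization.AtPrime A p]
  [IsLocalization (Algebra.algebraMapSubmonoid B' p.primeCompl) N] [Algebra.IsIntegral B B']

omit [IsLocalization (Algebra.algebraMapSubmonoid B' p.primeCompl) N] [Algebra.IsIntegral B B']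
  [Algebra B' N] [Algebra A N] [Algebra B N] [IsScalarTower B A N] [IsScalarTower B B' N]
  [IsLocalization.AtPrime A p] [Algebra B A] in
theorem disjoint_of_comap_eq (P : Ideal B') (hP : P.comap (algebraMap B B') = p) :
    Disjoint (Algebra.algebraMapSubmonoid B' p.primeCompl : Set B') (P : Set B') := by
  rw [Set.disjoint_left]
  rintro _ ⟨b, hb, rfl⟩ hbP
  exact hb (hP ▸ (Ideal.mem_comap.2 hbP))

include p in
omit [IsLocalization.AtPrime A p] [Algebra B A] [Algebra A N] [IsScalarTower B A N]
  [Algebra B N] [IsScalarTower B B' N] in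
theorem comap_comap_eq_of_isMaximal (m' : Ideal N) [hm : m'.IsMaximal] :
    (m'.comap (algebraMap B' N)).comap (algebraMap B B') = p := by
  set M' := Algebra.algebraMapSubmonoid B' p.primeCompl with hM'
  set P := m'.comap (algebraMap B' N) with hPdef
  haveI : P.IsPrime := Ideal.comap_isPrime _ _
  have hle : P.comap (algebraMap B B') ≤ p := by
    intro b hb
    by_contra hbp
    have hu : IsUnit (algebraMap B' N (algebraMap B B' b)) :=
      IsLocalization.map_units N (⟨algebraMap B B' b, b, hbp, rfl⟩ : M')
    exact hm.ne_top (Ideal.eq_top_of_isUnit_mem _ (Ideal.mem_comap.1 (Ideal.mem_comap.1 hb)) hu)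
  obtain ⟨P₂, hP₂le, hP₂p, hP₂⟩ := Ideal.exists_ideal_over_prime_of_isIntegral p P hle
  have hdisj := disjoint_of_comap_eq p P₂ hP₂
  have hprime : (P₂.map (algebraMap B' N)).IsPrime :=
    IsLocalization.isPrime_of_isPrime_disjoint M' N P₂ hP₂p hdisj
  have h1 : m' ≤ P₂.map (algebraMap B' N) := by
    rw [← IsLocalization.map_comap M' N m']
    exact Ideal.map_mono hP₂le
  have h2 : m' = P₂.map (algebraMap B' N) := hm.eq_of_le hprime.ne_top h1
  have h3 : P = P₂ := by
    rw [hPdef, h2]
    exact IsLocalization.comap_map_of_isPrime_disjoint M' N hP₂p hdisj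
  rw [h3, hP₂]

include p in
omit [IsLocalization.AtPrime A p] [Algebra B A] [Algebra A N] [IsScalarTower B A N]
  [Algebra B N] [IsScalarTower B B' N] in
theorem isMaximal_map_of_comap_eq (P : Ideal B') [hP : P.IsPrime]
    (hPp : P.comap (algebraMap B B') = p) : (P.map (algebraMap B' N)).IsMaximal := by
  set M' := Algebra.algebraMapSubmonoid B' p.primeCompl with hM'
  have hdisj := disjoint_of_comap_eq p P hPp
  have hprime : (P.map (algebraMap B' N)).IsPrime :=
    IsLocalization.isPrime_of_isPrime_disjoint M' N P hP hdisj
  obtain ⟨m'', hm'', hle⟩ := Ideal.exists_le_maximal _ hprime.ne_top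
  haveI := hm''
  have h1 := comap_comap_eq_of_isMaximal (B' := B') (N := N) p m''
  set P'' := m''.comap (algebraMap B' N) with hP''
  haveI : P''.IsPrime := Ideal.comap_isPrime _ _
  have hPle : P ≤ P'' := by
    rw [← IsLocalization.comap_map_of_isPrime_disjoint M' N hP hdisj]
    exact Ideal.comap_mono hle
  have hPeq : P = P'' := by
    by_contra hne
    have hlt : P < P'' := lt_of_le_of_ne hPle hne
    have := Ideal.IsIntegral.comap_lt_comap (R := B) (A := B') hlt
    rw [hPp, h1] at this
    exact lt_irrefl _ this
  have : P.map (algebraMap B' N) = m'' := by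
    rw [hPeq, hP'']
    exact IsLocalization.map_comap M' N m''
  rw [this]
  exact hm''

/-- Maximal ideals of the localization `N` of `B'` correspond to the primes of `B'` over `p`. -/
noncomputable def maxSpecEquiv :
    MaximalSpectrum N ≃
      {P : PrimeSpectrum B' // P.asIdeal.comap (algebraMap B B') = p} where
  toFun m' := ⟨⟨m'.asIdeal.comap (algebraMap B' N), Ideal.comap_isPrime _ _⟩,
    haveI := m'.isMaximal
    comap_comap_eq_of_isMaximal (B' := B') (N := N) p m'.asIdeal⟩
  invFun P := ⟨P.1.asIdeal.map (algebraMap B' N),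
    haveI := P.1.isPrime
    isMaximal_map_of_comap_eq (B' := B') (N := N) p P.1.asIdeal P.2⟩
  left_inv m' := MaximalSpectrum.ext
    (IsLocalization.map_comap (Algebra.algebraMapSubmonoid B' p.primeCompl) N m'.asIdeal)
  right_inv P := Subtype.ext (PrimeSpectrum.ext
    (IsLocalization.comap_map_of_isPrime_disjoint (Algebra.algebraMapSubmonoid B' p.primeCompl) N
      P.1.isPrime (disjoint_of_comap_eq p P.1.asIdeal P.2)))

omit [Algebra.IsIntegral B B'] in
/-- Ring maps out of the localization `N` over `A = B_p` are ring maps out of `B'` over `B`. -/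
noncomputable def homOverLocEquiv {Ω : Type*} [CommRing Ω] (g : A →+* Ω) :
    HomOver (algebraMap A N) g ≃ HomOver (algebraMap B B') (g.comp (algebraMap B A)) where
  toFun χ := ⟨χ.1.comp (algebraMap B' N), by
    rw [RingHom.comp_assoc, ← IsScalarTower.algebraMap_eq B B' N,
      IsScalarTower.algebraMap_eq B A N, ← RingHom.comp_assoc, χ.2]⟩
  invFun χ₀ :=
    have hu : ∀ y : Algebra.algebraMapSubmonoid B' p.primeCompl, IsUnit (χ₀.1 y) := by
      rintro ⟨_, b, hb, rfl⟩
      have h1 : χ₀.1 (algebraMap B B' b) = g (algebraMap B A b) := RingHom.congr_fun χ₀.2 b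
      show IsUnit (χ₀.1 (algebraMap B B' b))
      rw [h1]
      exact ((IsLocalization.map_units A (⟨b, hb⟩ : p.primeCompl)).map g)
    ⟨IsLocalization.lift (M := Algebra.algebraMapSubmonoid B' p.primeCompl) (S := N) hu, by
      apply IsLocalization.ringHom_ext p.primeCompl
      rw [RingHom.comp_assoc, ← IsScalarTower.algebraMap_eq B A N,
        IsScalarTower.algebraMap_eq B B' N, ← RingHom.comp_assoc, IsLocalization.lift_comp]
      exact χ₀.2⟩
  left_inv χ := Subtype.ext (by
    apply IsLocalization.ringHom_ext (Algebra.algebraMapSubmonoid B' p.primeCompl)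
    exact IsLocalization.lift_comp _)
  right_inv χ₀ := Subtype.ext (IsLocalization.lift_comp _)

end Loc

section NormRed

open IsLocalRing

variable (A : Type u) [CommRing A] [IsDomain A] [IsLocalRing A]
  (L : Type u) [CommRing L] [Algebra A L] [IsFractionRing A L]

/-- For a domain, the reduction is the ring itself. -/
noncomputable def redEquiv : CAlg2.red A ≃+* A :=
  (Ideal.quotEquivOfEq ((nilradical_eq_zero A).trans Ideal.zero_eq_bot)).trans
    (RingEquiv.quotientBot A)

omit [IsLocalRing A] in
theorem redEquiv_mk (a : A) : redEquiv A (Ideal.Quotient.mk (nilradical A) a) = a := by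
  simp [redEquiv]

/-- `normRed A` is the integral closure of the local domain `A` in any fraction field. -/
noncomputable def normRedEquiv : CAlg2.normRed A ≃+* integralClosure A L :=
  (icEquiv (redEquiv A)).trans
    ((FractionRing.algEquiv A L).mapIntegralClosure).toRingEquiv

omit [IsLocalRing A] in
theorem normRedEquiv_fA (a : A) :
    normRedEquiv A L (fA A a) = algebraMap A (integralClosure A L) a := by
  have h1 : fA A a = algebraMap (CAlg2.red A) (CAlg2.normRed A)
      (Ideal.Quotient.mk (nilradical A) a) := rfl
  rw [normRedEquiv, RingEquiv.trans_apply, h1, icEquiv_algebraMap, redEquiv_mk]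
  exact ((FractionRing.algEquiv A L).mapIntegralClosure).commutes a

end NormRed

end Groth.Agent.Lib.NormBranches96
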