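import Mathlib

/-!
# helper96: fibres and geometric points of the relative normalization via an affine chart

For `f : X ⟶ Y` quasi-compact quasi-separated and an affine open `U` of `Y`, the relative
normalization over `U` is `Spec` of the integral closure `D_U` of `Γ(Y, U)` in `Γ(X, f⁻¹ U)`.
* `card_fibre_eq`: points of the normalization over `y ∈ U` are the primes of `D_U` over `y`.
* `card_geomPoints_chart`: morphisms `Spec Ω ⟶ f.normalization` over a given `Spec Ω ⟶ U` are ring
  maps `D_U → Ω` extending `Γ(Y, U) → Ω`.
-/

set_option autoImplicit false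
set_option linter.style.haveILetI false
universe u

namespace Groth.Agent.Lib.NormBranches96

open AlgebraicGeometry CategoryTheory Opposite

variable {X Y : Scheme.{u}} (f : X ⟶ Y) [QuasiCompact f] [QuasiSeparated f]
  (U : Y.Opens) (hU : IsAffineOpen U)

set_option backward.isDefEq.respectTransparency false in
/-- The affine chart of the relative normalization over the affine open `U`. -/
noncomputable def chart : Spec (f.normalizationDiagram.obj (op U)) ⟶ f.normalization :=
  f.normalizationOpenCover.f (⟨U, hU⟩ : Y.affineOpens)

set_option backward.isDefEq.respectTransparency false in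
instance : IsOpenImmersion (chart f U hU) :=
  f.normalizationOpenCover.map_prop (⟨U, hU⟩ : Y.affineOpens)

set_option backward.isDefEq.respectTransparency false in
theorem chart_fromNormalization :
    chart f U hU ≫ f.fromNormalization =
      Spec.map (f.normalizationDiagramMap.app (op U)) ≫ hU.fromSpec :=
  f.ι_fromNormalization (⟨U, hU⟩ : Y.affineOpens)

set_option backward.isDefEq.respectTransparency false in
theorem preimage_eq_opensRange :
    f.fromNormalization ⁻¹ᵁ U = (chart f U hU).opensRange :=
  f.fromNormalization_preimage (⟨U, hU⟩ : Y.affineOpens)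

theorem mem_range_chart (z : f.normalization) (hz : f.fromNormalization z ∈ U) :
    z ∈ Set.range (chart f U hU) := by
  have h1 : z ∈ f.fromNormalization ⁻¹ᵁ U := hz
  rw [preimage_eq_opensRange f U hU] at h1
  exact h1

theorem fromNormalization_chart_apply
    (P : Spec (f.normalizationDiagram.obj (op U))) :
    f.fromNormalization (chart f U hU P) =
      hU.fromSpec (Spec.map (f.normalizationDiagramMap.app (op U)) P) := by
  have h0 : f.fromNormalization (chart f U hU P) = (chart f U hU ≫ f.fromNormalization) P := rfl
  rw [h0, chart_fromNormalization f U hU]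
  rfl

theorem card_fibre_eq (y : Y) (hy : y ∈ U) :
    ENat.card {z : f.normalization // f.fromNormalization z = y} =
      ENat.card {P : Spec (f.normalizationDiagram.obj (op U)) //
        Spec.map (f.normalizationDiagramMap.app (op U)) P = hU.primeIdealOf ⟨y, hy⟩} := by
  symm
  let G : {P : Spec (f.normalizationDiagram.obj (op U)) //
      Spec.map (f.normalizationDiagramMap.app (op U)) P = hU.primeIdealOf ⟨y, hy⟩} →
      {z : f.normalization // f.fromNormalization z = y} := fun P =>
    ⟨chart f U hU P.1, by
      rw [fromNormalization_chart_apply, P.2, hU.fromSpec_primeIdealOf]⟩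
  refine ENat.card_congr (Equiv.ofBijective G ⟨?_, ?_⟩)
  · intro P₁ P₂ h
    have h1 : chart f U hU P₁.1 = chart f U hU P₂.1 := congrArg Subtype.val h
    exact Subtype.ext ((chart f U hU).isOpenEmbedding.injective h1)
  · rintro ⟨z, hz⟩
    obtain ⟨P, rfl⟩ := mem_range_chart f U hU z (hz ▸ hy)
    refine ⟨⟨P, ?_⟩, rfl⟩
    apply hU.fromSpec.isOpenEmbedding.injective
    rw [← fromNormalization_chart_apply, hz, hU.fromSpec_primeIdealOf]

theorem card_geomPoints_chart (Ω : Type u) [Field Ω] (ψ : Γ(Y, U) ⟶ CommRingCat.of Ω) :
    ENat.card {t : Spec (CommRingCat.of Ω) ⟶ f.normalization //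
        t ≫ f.fromNormalization = Spec.map ψ ≫ hU.fromSpec} =
      ENat.card {χ : f.normalizationDiagram.obj (op U) ⟶ CommRingCat.of Ω //
        f.normalizationDiagramMap.app (op U) ≫ χ = ψ} := by
  symm
  let G : {χ : f.normalizationDiagram.obj (op U) ⟶ CommRingCat.of Ω //
      f.normalizationDiagramMap.app (op U) ≫ χ = ψ} →
      {t : Spec (CommRingCat.of Ω) ⟶ f.normalization //
        t ≫ f.fromNormalization = Spec.map ψ ≫ hU.fromSpec} := fun χ =>
    ⟨Spec.map χ.1 ≫ chart f U hU, by
      rw [Category.assoc, chart_fromNormalization f U hU, ← Spec.map_comp_assoc, χ.2]⟩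
  refine ENat.card_congr (Equiv.ofBijective G ⟨?_, ?_⟩)
  · intro χ₁ χ₂ h
    have h1 : Spec.map χ₁.1 ≫ chart f U hU = Spec.map χ₂.1 ≫ chart f U hU :=
      congrArg Subtype.val h
    rw [cancel_mono] at h1
    exact Subtype.ext (Spec.map_injective h1)
  · rintro ⟨t, ht⟩
    have hrange : Set.range t ⊆ Set.range (chart f U hU) := by
      rintro _ ⟨w, rfl⟩
      apply mem_range_chart f U hU
      have h0 : f.fromNormalization (t w) = (t ≫ f.fromNormalization) w := rfl
      rw [h0, ht]
      have h1 : (Spec.map ψ ≫ hU.fromSpec) w = hU.fromSpec (Spec.map ψ w) := rfl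
      rw [h1]
      have h2 : hU.fromSpec (Spec.map ψ w) ∈ Set.range hU.fromSpec := Set.mem_range_self _
      rw [hU.range_fromSpec] at h2
      exact h2
    let t' : Spec (CommRingCat.of Ω) ⟶ Spec (f.normalizationDiagram.obj (op U)) :=
      IsOpenImmersion.lift (chart f U hU) t hrange
    have ht' : t' ≫ chart f U hU = t := IsOpenImmersion.lift_fac _ _ _
    refine ⟨⟨Spec.preimage t', ?_⟩, ?_⟩
    · apply Spec.map_injective
      rw [Spec.map_comp, Spec.map_preimage, ← cancel_mono hU.fromSpec, Category.assoc,
        ← chart_fromNormalization f U hU, ← Category.assoc, ht', ht]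
    · apply Subtype.ext
      show Spec.map (Spec.preimage t') ≫ chart f U hU = t
      rw [Spec.map_preimage, ht']

end Groth.Agent.Lib.NormBranches96
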