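import Mathlib
import Groth.Agent.Lib.NormBranchesR96
import Groth.Agent.Lib.NormBranchesG96
import Groth.Agent.Lib.NormBranchesH96
import Groth.Agent.Lib.NormBranchesS96
import Groth.Agent.Lib.NormBranchesF96

/-!
# helper96: branches of an integral scheme at a point = points of the normalization over it
-/

set_option autoImplicit false
set_option linter.style.haveILetI false
set_option maxHeartbeats 400000
universe u

namespace Groth.Agent.Lib.NormBranches96

open AlgebraicGeometry CategoryTheory Opposite IsLocalRing Groth.Agent.Lib.BrnchSum98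

section Setup

variable {B A K₀ : Type u} [CommRing B] [IsDomain B] [CommRing A] [CommRing K₀] [Algebra B A]
  [Algebra B K₀] [IsFractionRing B K₀] (p : Ideal B) [p.IsPrime] [IsLocalization.AtPrime A p]

/-- The structure map `A = B_p → K₀` extending `B → K₀`. -/
noncomputable def locToFrac : A →+* K₀ :=
  IsLocalization.lift (M := p.primeCompl) (S := A) (g := algebraMap B K₀) (fun y =>
    IsLocalization.map_units K₀ (⟨y.1, mem_nonZeroDivisors_of_ne_zero (fun h0 =>
      y.2 (h0 ▸ p.zero_mem))⟩ : nonZeroDivisors B))

theorem locToFrac_comp : (locToFrac (A := A) (K₀ := K₀) p).comp (algebraMap B A) =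
    algebraMap B K₀ :=
  IsLocalization.lift_comp _


variable (B A K₀) in
include p in
theorem ring_main [IsLocalRing A] [IsDomain A] :
    ENat.card (MaximalSpectrum (CAlg2.normRed A)) =
        ENat.card {P : PrimeSpectrum (integralClosure B K₀) //
          P.asIdeal.comap (algebraMap B (integralClosure B K₀)) = p} ∧
      ENat.card (HomOver (fA A) (Brnch.toClosure A)) =
        ENat.card (HomOver (algebraMap B (integralClosure B K₀))
          ((Brnch.toClosure A).comp (algebraMap B A))) := by
  letI : Algebra A K₀ := (locToFrac (A := A) (K₀ := K₀) p).toAlgebra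
  haveI : IsScalarTower B A K₀ :=
    IsScalarTower.of_algebraMap_eq' (locToFrac_comp (A := A) (K₀ := K₀) p).symm
  haveI : IsFractionRing A K₀ :=
    IsFractionRing.isFractionRing_of_isDomain_of_isLocalization p.primeCompl A K₀
  let ι' : integralClosure B K₀ →+* integralClosure A K₀ :=
    { toFun := fun b => ⟨b.1, IsIntegral.tower_top b.2⟩
      map_one' := rfl
      map_mul' := fun _ _ => rfl
      map_zero' := rfl
      map_add' := fun _ _ => rfl }
  letI : Algebra (integralClosure B K₀) (integralClosure A K₀) := ι'.toAlgebra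
  haveI : IsScalarTower (integralClosure B K₀) (integralClosure A K₀) K₀ :=
    IsScalarTower.of_algebraMap_eq fun _ => rfl
  haveI : IsScalarTower B (integralClosure B K₀) (integralClosure A K₀) :=
    IsScalarTower.of_algebraMap_eq fun b => Subtype.ext rfl
  haveI : IsLocalization (Algebra.algebraMapSubmonoid K₀ p.primeCompl) K₀ := by
    apply IsLocalization.of_le_isUnit
    rintro _ ⟨b, hb, rfl⟩
    exact IsLocalization.map_units K₀ (⟨b, mem_nonZeroDivisors_of_ne_zero (fun h0 =>
      hb (h0 ▸ p.zero_mem))⟩ : nonZeroDivisors B)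
  haveI : IsLocalization (Algebra.algebraMapSubmonoid (integralClosure B K₀) p.primeCompl)
      (integralClosure A K₀) := IsLocalization.integralClosure p.primeCompl
  constructor
  · rw [card_maximalSpectrum_congr (normRedEquiv A K₀)]
    exact ENat.card_congr (maxSpecEquiv (B' := integralClosure B K₀)
      (N := integralClosure A K₀) p)
  · have h1 : ((normRedEquiv A K₀ : CAlg2.normRed A →+* integralClosure A K₀)).comp (fA A) =
        algebraMap A (integralClosure A K₀) := RingHom.ext fun a => normRedEquiv_fA A K₀ a
    rw [ENat.card_congr (homOverCongr (normRedEquiv A K₀) (fA A) (Brnch.toClosure A)), h1]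
    exact ENat.card_congr (homOverLocEquiv (B' := integralClosure B K₀)
      (N := integralClosure A K₀) p (Brnch.toClosure A))

end Setup

section Main

theorem main (X : Scheme.{u}) [IsIntegral X]
    [QuasiCompact (X.fromSpecStalk (genericPoint X))]
    [QuasiSeparated (X.fromSpecStalk (genericPoint X))] (x : X) :
    Brnch.numBranchesAt X x =
        ENat.card {x' : (X.fromSpecStalk (genericPoint X)).normalization //
          (X.fromSpecStalk (genericPoint X)).fromNormalization x' = x} ∧
      Brnch.numGeomBranchesAt X x =
        ∑' x' : {x' : (X.fromSpecStalk (genericPoint X)).normalization //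
          (X.fromSpecStalk (genericPoint X)).fromNormalization x' = x},
          (letI := (((X.fromSpecStalk (genericPoint X)).fromNormalization).residueFieldMap
              x'.1).hom.toAlgebra
           ENat.card (Field.Emb
             (X.residueField ((X.fromSpecStalk (genericPoint X)).fromNormalization x'.1))
             ((X.fromSpecStalk (genericPoint X)).normalization.residueField x'.1))) := by
  classical
  obtain ⟨U, hU, hxU⟩ : ∃ U : X.Opens, IsAffineOpen U ∧ x ∈ U := by
    obtain ⟨_, ⟨U, hU, rfl⟩, hxU, -⟩ :=
      X.isBasis_affineOpens.exists_subset_of_mem_open (Set.mem_univ x) isOpen_univ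
    exact ⟨U, hU, hxU⟩
  haveI : Nonempty U := ⟨⟨x, hxU⟩⟩
  letI algBK : Algebra Γ(X, U) Γ(Spec (X.presheaf.stalk (genericPoint X)),
      (X.fromSpecStalk (genericPoint X)) ⁻¹ᵁ U) :=
    ((X.fromSpecStalk (genericPoint X)).app U).hom.toAlgebra
  haveI := isFractionRing_chart X U hU
  letI : Algebra Γ(X, U) (X.presheaf.stalk x) := X.presheaf.algebra_section_stalk ⟨x, hxU⟩
  haveI : IsLocalization.AtPrime (X.presheaf.stalk x) (hU.primeIdealOf ⟨x, hxU⟩).asIdeal :=
    hU.isLocalization_stalk ⟨x, hxU⟩
  obtain ⟨h1, h2⟩ := ring_main Γ(X, U) (X.presheaf.stalk x)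
    Γ(Spec (X.presheaf.stalk (genericPoint X)), (X.fromSpecStalk (genericPoint X)) ⁻¹ᵁ U)
    (hU.primeIdealOf ⟨x, hxU⟩).asIdeal
  have hfin : (minimalPrimes (X.presheaf.stalk x)).Finite := by
    rw [IsDomain.minimalPrimes_eq_singleton_bot]
    exact Set.finite_singleton _
  constructor
  · show Brnch.numBranches (X.presheaf.stalk x) = _
    unfold Brnch.numBranches
    rw [if_pos hfin, h1, card_fibre_eq (X.fromSpecStalk (genericPoint X)) U hU x hxU]
    exact ENat.card_congr (Equiv.subtypeEquivRight fun P =>
      ⟨fun h => PrimeSpectrum.ext h, fun h => congrArg PrimeSpectrum.asIdeal h⟩)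
  · show Brnch.numGeomBranches (X.presheaf.stalk x) = _
    unfold Brnch.numGeomBranches
    rw [if_pos hfin, card_sigma_emb, h2]
    let Ω := AlgebraicClosure (ResidueField (X.presheaf.stalk x))
    let gB : Γ(X, U) →+* Ω :=
      (Brnch.toClosure (X.presheaf.stalk x)).comp (algebraMap Γ(X, U) (X.presheaf.stalk x))
    let ψ : Γ(X, U) ⟶ CommRingCat.of Ω := CommRingCat.ofHom gB
    let θ : X.residueField x ⟶ CommRingCat.of Ω :=
      CommRingCat.ofHom (algebraMap (ResidueField (X.presheaf.stalk x)) Ω)
    have e1 : HomOver (algebraMap Γ(X, U) (integralClosure Γ(X, U)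
        Γ(Spec (X.presheaf.stalk (genericPoint X)), (X.fromSpecStalk (genericPoint X)) ⁻¹ᵁ U))) gB ≃
        {χ : (X.fromSpecStalk (genericPoint X)).normalizationDiagram.obj (op U) ⟶
            CommRingCat.of Ω //
          (X.fromSpecStalk (genericPoint X)).normalizationDiagramMap.app (op U) ≫ χ = ψ} :=
      { toFun := fun χ => ⟨CommRingCat.ofHom χ.1, by
          ext b
          exact RingHom.congr_fun χ.2 b⟩
        invFun := fun χ => ⟨χ.1.hom, by
          ext b
          exact congrArg (fun k => k.hom b) χ.2⟩
        left_inv := fun _ => rfl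
        right_inv := fun _ => rfl }
    rw [ENat.card_congr e1,
      ← card_geomPoints_chart (X.fromSpecStalk (genericPoint X)) U hU Ω ψ]
    have hbar : Spec.map ψ ≫ hU.fromSpec = Spec.map θ ≫ X.fromSpecResidueField x := by
      have hψ : ψ = X.presheaf.germ U x hxU ≫ X.residue x ≫ θ := rfl
      rw [hψ, Spec.map_comp, Spec.map_comp, Category.assoc, Category.assoc,
        Scheme.fromSpecResidueField, ← hU.fromSpecStalk_eq_fromSpecStalk hxU,
        IsAffineOpen.fromSpecStalk]
    rw [hbar, card_geomPoints (X.fromSpecStalk (genericPoint X)).fromNormalization x Ω θ,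
      card_sigma_tsum]
    refine tsum_congr fun z => ?_
    letI := (((X.fromSpecStalk (genericPoint X)).fromNormalization).residueFieldMap
      z.1).hom.toAlgebra
    haveI := isAlgebraic_residueFieldMap (X.fromSpecStalk (genericPoint X)).fromNormalization z.1
    rw [card_emb_eq _ _ Ω ((X.residueFieldCongr z.2).hom ≫ θ).hom]
    exact ENat.card_congr
      { toFun := fun σ => ⟨σ.1.hom, by
          ext b
          exact congrArg (fun k => k.hom b) σ.2⟩
        invFun := fun σ => ⟨CommRingCat.ofHom σ.1, by
          ext b
          exact RingHom.congr_fun σ.2 b⟩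
        left_inv := fun _ => rfl
        right_inv := fun _ => rfl }

end Main

end Groth.Agent.Lib.NormBranches96
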