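import Mathlib
import Groth.Agent.Lib.NormBranchesM96
import Groth.Agent.Lib.BrnchPI98
import Groth.Agent.S9236

/-!
# helper96: the integral closure of a domain is radicial over it iff all local rings are
geometrically unibranch

* `descend`: ring maps into a field `L` extending `ψ ∘ g₀` along an integral map land in the image
  of an algebraically closed subfield `ψ : Ω → L`.
* `numGeomBranches_eq`: the number of geometric branches of `A_p` is the number of extensions of
  `A → κ(p)^alg` to the integral closure `A'` of the domain `A`.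
* `isGeomUnibranch_iff`: `A_p` geometrically unibranch iff that extension is unique.
* `injective_comp_iff`: `χ ↦ χ ∘ (A → A')` injective on field-valued points iff all `A_p` are
  geometrically unibranch.
-/

set_option autoImplicit false
set_option linter.style.haveILetI false
universe u

namespace Groth.Agent.Lib.IntClosRadicial96

open IsLocalRing Groth.Agent.Lib.BrnchSum98 Groth.Agent.Lib.NormBranches96

section Descend

theorem isTorsionFree_of_field (k M : Type*) [Field k] [AddCommGroup M] [Module k M] :
    Module.IsTorsionFree k M :=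
  Module.IsTorsionFree.of_smul_eq_zero fun r m h => by
    by_cases hr : r = 0
    · exact Or.inl hr
    · right
      have h2 := congrArg (fun x => r⁻¹ • x) h
      simpa [smul_smul, inv_mul_cancel₀ hr] using h2

theorem mem_range_of_isIntegralElem {Ω L : Type*} [Field Ω] [IsAlgClosed Ω] [Field L]
    (ψ : Ω →+* L) (x : L) (hx : ψ.IsIntegralElem x) : x ∈ ψ.range := by
  letI := ψ.toAlgebra
  have hx' : IsIntegral Ω x := hx
  have h1 := IsAlgClosed.degree_eq_one_of_irreducible Ω (minpoly.irreducible hx')
  exact minpoly.mem_range_of_degree_eq_one Ω x h1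

theorem descend {A A' Ω L : Type*} [CommRing A] [CommRing A'] [Field Ω] [IsAlgClosed Ω] [Field L]
    (φ : A →+* A') (hφ : φ.IsIntegral) (ψ : Ω →+* L) (g₀ : A →+* Ω) (χ : A' →+* L)
    (h : χ.comp φ = ψ.comp g₀) : ∃ χ' : A' →+* Ω, ψ.comp χ' = χ ∧ χ'.comp φ = g₀ := by
  have hr : ∀ a' : A', ∃ w : Ω, ψ w = χ a' := by
    intro a'
    obtain ⟨P, hP, hP0⟩ := hφ a'
    refine mem_range_of_isIntegralElem ψ (χ a') ⟨P.map g₀, hP.map g₀, ?_⟩
    rw [Polynomial.eval₂_map, ← h, ← Polynomial.hom_eval₂, hP0, map_zero]
  choose c hc using hr
  have hinj : Function.Injective ψ := ψ.injective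
  refine ⟨{ toFun := c
            map_one' := hinj (by rw [hc, map_one, map_one])
            map_mul' := fun a b => hinj (by rw [hc, map_mul, map_mul, hc, hc])
            map_zero' := hinj (by rw [hc, map_zero, map_zero])
            map_add' := fun a b => hinj (by rw [hc, map_add, map_add, hc, hc]) },
    RingHom.ext fun a' => hc a', RingHom.ext fun a => hinj ?_⟩
  have := RingHom.congr_fun h a
  simp only [RingHom.comp_apply] at this
  simp only [RingHom.comp_apply, RingHom.coe_mk, MonoidHom.coe_mk, OneHom.coe_mk]
  rw [hc, this]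

end Descend

section Main

variable (A : Type u) [CommRing A] [IsDomain A]

/-- The canonical map `A → A_p → κ(p) → κ(p)^alg`. -/
noncomputable def gP (p : Ideal A) [p.IsPrime] :
    A →+* AlgebraicClosure (ResidueField (Localization.AtPrime p)) :=
  (Brnch.toClosure (Localization.AtPrime p)).comp (algebraMap A (Localization.AtPrime p))

theorem numGeomBranches_eq (p : Ideal A) [p.IsPrime] :
    Brnch.numGeomBranches (Localization.AtPrime p) =
      ENat.card (HomOver (algebraMap A (integralClosure A (FractionRing A))) (gP A p)) := by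
  have hfin : (minimalPrimes (Localization.AtPrime p)).Finite := by
    rw [IsDomain.minimalPrimes_eq_singleton_bot]
    exact Set.finite_singleton _
  unfold Brnch.numGeomBranches
  rw [if_pos hfin, card_sigma_emb]
  exact (ring_main A (Localization.AtPrime p) (FractionRing A) p).2

theorem nonempty_homOver (p : Ideal A) [p.IsPrime] :
    Nonempty (HomOver (algebraMap A (integralClosure A (FractionRing A))) (gP A p)) := by
  rw [← ENat.card_ne_zero_iff_nonempty, ← numGeomBranches_eq]
  have hfin : (minimalPrimes (Localization.AtPrime p)).Finite := by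
    rw [IsDomain.minimalPrimes_eq_singleton_bot]
    exact Set.finite_singleton _
  unfold Brnch.numGeomBranches
  rw [if_pos hfin, ENat.card_ne_zero_iff_nonempty]
  haveI : Nontrivial (CAlg2.red (Localization.AtPrime p)) := by
    rw [Ideal.Quotient.nontrivial_iff]
    intro h
    have : (1 : Localization.AtPrime p) ∈ nilradical (Localization.AtPrime p) :=
      h ▸ Submodule.mem_top
    exact not_isNilpotent_one (mem_nilradical.mp this)
  haveI : Nontrivial (FractionRing (CAlg2.red (Localization.AtPrime p))) := inferInstance
  haveI : Nontrivial (CAlg2.normRed (Localization.AtPrime p)) := inferInstance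
  obtain ⟨m, hm⟩ := Ideal.exists_maximal (CAlg2.normRed (Localization.AtPrime p))
  obtain ⟨σ⟩ := Groth.Agent.Lib.BrnchPI98.nonempty_emb (Localization.AtPrime p) ⟨m, hm⟩
  exact ⟨⟨⟨m, hm⟩, σ⟩⟩

theorem isGeomUnibranch_iff (p : Ideal A) [p.IsPrime] :
    CAlg2.IsGeomUnibranch (Localization.AtPrime p) ↔
      Subsingleton (HomOver (algebraMap A (integralClosure A (FractionRing A))) (gP A p)) := by
  rw [← Groth.Agent.S9236.result, numGeomBranches_eq, ENat.card_eq_one_iff_unique,
    unique_iff_subsingleton_and_nonempty]
  exact and_iff_left (nonempty_homOver A p)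

theorem injective_comp_iff :
    (∀ (K : Type u) [Field K], Function.Injective
      (fun χ : integralClosure A (FractionRing A) →+* K =>
        χ.comp (algebraMap A (integralClosure A (FractionRing A))))) ↔
    ∀ (p : Ideal A) [p.IsPrime], CAlg2.IsGeomUnibranch (Localization.AtPrime p) := by
  constructor
  · intro h p _
    rw [isGeomUnibranch_iff]
    exact ⟨fun χ₁ χ₂ => Subtype.ext (h _ (χ₁.2.trans χ₂.2.symm))⟩
  · intro h K _ χ₁ χ₂ h12
    simp only at h12
    set φ := algebraMap A (integralClosure A (FractionRing A)) with hφ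
    set g : A →+* K := χ₁.comp φ with hg
    have hφint : φ.IsIntegral := algebraMap_isIntegral_iff.mpr inferInstance
    -- the prime `p = ker g`
    let p : Ideal A := RingHom.ker g
    haveI : p.IsPrime := RingHom.ker_isPrime g
    have hsub := (isGeomUnibranch_iff A p).mp (h p)
    -- `θ : κ(p) → K`
    have hf₂ : p.primeCompl ≤ (IsUnit.submonoid K).comap g := by
      intro a ha
      rw [Submonoid.mem_comap, IsUnit.mem_submonoid_iff, isUnit_iff_ne_zero]
      exact fun h0 => ha h0
    let θ : p.ResidueField →+* K := Ideal.ResidueField.lift p g le_rfl hf₂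
    have hθ : ∀ a : A, θ (algebraMap A p.ResidueField a) = g a :=
      fun a => Ideal.ResidueField.lift_algebraMap p g le_rfl hf₂ a
    -- `ψ : κ(p)^alg → K^alg`
    let j : K →+* AlgebraicClosure K := algebraMap K (AlgebraicClosure K)
    letI algκ : Algebra p.ResidueField (AlgebraicClosure K) := (j.comp θ).toAlgebra
    haveI : Module.IsTorsionFree p.ResidueField (AlgebraicClosure p.ResidueField) :=
      isTorsionFree_of_field _ _
    haveI : Module.IsTorsionFree p.ResidueField (AlgebraicClosure K) :=
      isTorsionFree_of_field _ _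
    let ψ₀ : AlgebraicClosure p.ResidueField →ₐ[p.ResidueField] AlgebraicClosure K :=
      IsAlgClosed.lift
    let ψ : AlgebraicClosure p.ResidueField →+* AlgebraicClosure K := ψ₀.toRingHom
    have hψ : ψ.comp (gP A p) = j.comp g := by
      ext a
      have h1 : gP A p a = algebraMap p.ResidueField (AlgebraicClosure p.ResidueField)
          (algebraMap A p.ResidueField a) := rfl
      rw [RingHom.comp_apply, h1]
      have h2 := ψ₀.commutes (algebraMap A p.ResidueField a)
      have h3 : algebraMap p.ResidueField (AlgebraicClosure K) (algebraMap A p.ResidueField a) =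
          j (θ (algebraMap A p.ResidueField a)) := rfl
      rw [h3, hθ] at h2
      exact h2
    obtain ⟨c₁, hc₁, hc₁'⟩ := descend φ hφint ψ (gP A p) (j.comp χ₁)
      (by rw [RingHom.comp_assoc, hψ])
    obtain ⟨c₂, hc₂, hc₂'⟩ := descend φ hφint ψ (gP A p) (j.comp χ₂)
      (by rw [RingHom.comp_assoc, ← h12, hψ])
    have hcc : c₁ = c₂ := congrArg Subtype.val
      (hsub.elim (⟨c₁, hc₁'⟩ : HomOver φ (gP A p)) ⟨c₂, hc₂'⟩)
    have hj : j.comp χ₁ = j.comp χ₂ := by rw [← hc₁, ← hc₂, hcc]
    ext a'
    exact j.injective (RingHom.congr_fun hj a')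

end Main

end Groth.Agent.Lib.IntClosRadicial96
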