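import Mathlib
import Groth.Agent.Lib.H80PolyGU1
import Groth.Agent.Lib.IntClosRadicial96

/-!
# helper80: polynomial rings over a domain, geometric unibranchness at primes (EGA IV 14.4.1-type lemma)

`isGeomUnibranch_atPrime_mvPolynomial` : `A` a domain, `P` a prime of `A[T₁, …, Tₙ]` over `p`.  If `A_p` is
geometrically unibranch then so is `A[T]_P`.  Proof through helper96's criterion
(`IntClosRadicial96.isGeomUnibranch_iff`): `A_p` is geometrically unibranch iff `A → κ(p)^alg` extends uniquely
to the integral closure of `A`.
-/

set_option autoImplicit false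
universe u

namespace Groth.Agent.Lib.H80PolyGU

open MvPolynomial IsLocalRing Groth.Agent.Lib.BrnchSum98 Groth.Agent.Lib.IntClosRadicial96

attribute [local instance] MvPolynomial.algebraMvPolynomial

variable (A : Type u) [CommRing A] [IsDomain A] (n : ℕ)

theorem isIntegral_Phi (y : MvPolynomial (Fin n) (integralClosure A (FractionRing A))) :
    IsIntegral (MvPolynomial (Fin n) A) (Phi A n y) := by
  have hy : IsIntegral (MvPolynomial (Fin n) A) y := Algebra.IsIntegral.isIntegral y
  refine IsIntegral.map_of_comp_eq (RingHom.id (MvPolynomial (Fin n) A)) (Phi A n) ?_ hy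
  refine RingHom.ext fun b => ?_
  simp only [RingHom.comp_apply, RingHom.id_apply]
  rw [MvPolynomial.algebraMap_def, Phi_map]

/-- `A'[T] → B'`, the integral closure of `B = A[T]`. -/
noncomputable def Phi' : MvPolynomial (Fin n) (integralClosure A (FractionRing A)) →+*
    integralClosure (MvPolynomial (Fin n) A) (FractionRing (MvPolynomial (Fin n) A)) :=
  (Phi A n).codRestrict _ (isIntegral_Phi A n)

theorem Phi'_surjective : Function.Surjective (Phi' A n) := by
  rintro ⟨x, hx⟩
  obtain ⟨y, hy⟩ := exists_eq_Phi_of_isIntegral A n x hx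
  exact ⟨y, Subtype.ext hy⟩

theorem Phi'_map (b : MvPolynomial (Fin n) A) :
    Phi' A n (map (algebraMap A (integralClosure A (FractionRing A))) b) =
      algebraMap (MvPolynomial (Fin n) A) _ b :=
  Subtype.ext (Phi_map A n b)

theorem isGeomUnibranch_atPrime_mvPolynomial (p : Ideal A) [p.IsPrime]
    (P : Ideal (MvPolynomial (Fin n) A)) [P.IsPrime]
    (hP : P.comap (C : A →+* MvPolynomial (Fin n) A) = p)
    (h : CAlg2.IsGeomUnibranch (Localization.AtPrime p)) :
    CAlg2.IsGeomUnibranch (Localization.AtPrime P) := by
  rw [isGeomUnibranch_iff] at h ⊢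
  -- the local homomorphism `A_p → B_P` and the residue field map
  obtain ⟨lam, hlam⟩ : ∃ l : Localization.AtPrime p →+* Localization.AtPrime P,
      l = Localization.localRingHom p P C hP.symm := ⟨_, rfl⟩
  have hlamloc : IsLocalHom lam := hlam ▸ Localization.isLocalHom_localRingHom _ _ _ _
  have hlam_map : ∀ a : A, lam (algebraMap A (Localization.AtPrime p) a) =
      algebraMap (MvPolynomial (Fin n) A) (Localization.AtPrime P) (C a) := by
    intro a
    rw [hlam, Localization.localRingHom_to_map]
  -- the embedding of algebraic closures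
  let _ : Algebra (ResidueField (Localization.AtPrime p))
      (AlgebraicClosure (ResidueField (Localization.AtPrime P))) :=
    ((algebraMap (ResidueField (Localization.AtPrime P))
      (AlgebraicClosure (ResidueField (Localization.AtPrime P)))).comp
        (ResidueField.map lam)).toAlgebra
  obtain ⟨psi, hpsi⟩ : ∃ psi : AlgebraicClosure (ResidueField (Localization.AtPrime p)) →+*
      AlgebraicClosure (ResidueField (Localization.AtPrime P)),
      ∀ k, psi (algebraMap (ResidueField (Localization.AtPrime p)) _ k) =
        algebraMap (ResidueField (Localization.AtPrime P)) _ (ResidueField.map lam k) := by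
    let psiA : AlgebraicClosure (ResidueField (Localization.AtPrime p)) →ₐ[
        ResidueField (Localization.AtPrime p)]
        AlgebraicClosure (ResidueField (Localization.AtPrime P)) := IsAlgClosed.lift
    exact ⟨psiA.toRingHom, fun k => psiA.commutes k⟩
  have hg : ∀ a : A, gP (MvPolynomial (Fin n) A) P (C a) = psi (gP A p a) := by
    intro a
    simp only [gP, Brnch.toClosure, RingHom.comp_apply]
    rw [← hlam_map, ← ResidueField.map_residue]
    exact (hpsi _).symm
  have hint : (algebraMap A (integralClosure A (FractionRing A))).IsIntegral :=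
    algebraMap_isIntegral_iff.mpr inferInstance
  constructor
  intro χ₁ χ₂
  apply Subtype.ext
  -- reduce to `A'[T]`
  suffices hs : χ₁.1.comp (Phi' A n) = χ₂.1.comp (Phi' A n) by
    ext x
    obtain ⟨y, rfl⟩ := Phi'_surjective A n x
    exact RingHom.congr_fun hs y
  have hχ : ∀ (χ : HomOver (algebraMap (MvPolynomial (Fin n) A)
      (integralClosure (MvPolynomial (Fin n) A) (FractionRing (MvPolynomial (Fin n) A))))
      (gP (MvPolynomial (Fin n) A) P)) (b : MvPolynomial (Fin n) A),
      χ.1 (Phi' A n (map (algebraMap A (integralClosure A (FractionRing A))) b)) =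
        gP (MvPolynomial (Fin n) A) P b := by
    intro χ b
    rw [Phi'_map]
    exact RingHom.congr_fun χ.2 b
  have key : ∀ (χ : HomOver (algebraMap (MvPolynomial (Fin n) A)
      (integralClosure (MvPolynomial (Fin n) A) (FractionRing (MvPolynomial (Fin n) A))))
      (gP (MvPolynomial (Fin n) A) P)),
      ∃ χ' : HomOver (algebraMap A (integralClosure A (FractionRing A))) (gP A p),
        psi.comp χ'.1 = (χ.1.comp (Phi' A n)).comp C := by
    intro χ
    obtain ⟨χ', h1, h2⟩ := descend (algebraMap A (integralClosure A (FractionRing A))) hint psi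
      (gP A p) ((χ.1.comp (Phi' A n)).comp C) (by
        ext a
        simp only [RingHom.comp_apply]
        have := hχ χ (C a)
        rw [map_C] at this
        rw [this, hg])
    exact ⟨⟨χ', h2⟩, h1⟩
  obtain ⟨χ₁', h₁⟩ := key χ₁
  obtain ⟨χ₂', h₂⟩ := key χ₂
  have heq : χ₁' = χ₂' := Subsingleton.elim _ _
  apply MvPolynomial.ringHom_ext
  · intro a'
    have e1 := RingHom.congr_fun h₁ a'
    have e2 := RingHom.congr_fun h₂ a'
    rw [heq] at e1
    simp only [RingHom.comp_apply] at e1 e2 ⊢
    rw [← e1, ← e2]
  · intro i
    have e1 := hχ χ₁ (X i)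
    have e2 := hχ χ₂ (X i)
    rw [map_X] at e1 e2
    simp only [RingHom.comp_apply]
    rw [e1, e2]

end Groth.Agent.Lib.H80PolyGU
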