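import Mathlib
import Groth.Prelude.Def_CAlg2

/-!
# helper80: geometric unibranchness only depends on the reduction

`isGeomUnibranch_of_red_equiv` : if `red L ≃+* red L'` then `L` geometrically unibranch implies `L'` geometrically
unibranch.  `isGeomUnibranch_iff_of_surjective` : for a surjection `L → D` with nil kernel.
-/

set_option autoImplicit false
universe u

namespace Groth.Agent.Lib.H80PolyGU

open IsLocalRing

section

variable {L L' : Type u} [CommRing L] [CommRing L'] (e : CAlg2.red L ≃+* CAlg2.red L')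

/-- The induced isomorphism of fraction rings. -/
noncomputable def fracEquiv : FractionRing (CAlg2.red L) ≃+* FractionRing (CAlg2.red L') :=
  IsFractionRing.ringEquivOfRingEquiv e

theorem fracEquiv_algebraMap (r : CAlg2.red L) :
    fracEquiv e (algebraMap _ _ r) = algebraMap _ _ (e r) :=
  IsFractionRing.ringEquivOfRingEquiv_algebraMap e r

theorem fracEquiv_symm_algebraMap (r : CAlg2.red L') :
    (fracEquiv e).symm (algebraMap _ _ r) = algebraMap _ _ (e.symm r) := by
  rw [RingEquiv.symm_apply_eq, fracEquiv_algebraMap, RingEquiv.apply_symm_apply]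

theorem isIntegral_fracEquiv (x : FractionRing (CAlg2.red L)) (hx : IsIntegral (CAlg2.red L) x) :
    IsIntegral (CAlg2.red L') (fracEquiv e x) := by
  refine IsIntegral.map_of_comp_eq (e : CAlg2.red L →+* CAlg2.red L')
    (fracEquiv e : FractionRing (CAlg2.red L) →+* FractionRing (CAlg2.red L')) ?_ hx
  refine RingHom.ext fun r => ?_
  simp only [RingHom.comp_apply, RingHom.coe_coe]
  rw [fracEquiv_algebraMap]

theorem isIntegral_fracEquiv_symm (x : FractionRing (CAlg2.red L'))
    (hx : IsIntegral (CAlg2.red L') x) : IsIntegral (CAlg2.red L) ((fracEquiv e).symm x) := by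
  refine IsIntegral.map_of_comp_eq (e.symm : CAlg2.red L' →+* CAlg2.red L)
    ((fracEquiv e).symm : FractionRing (CAlg2.red L') →+* FractionRing (CAlg2.red L)) ?_ hx
  refine RingHom.ext fun r => ?_
  simp only [RingHom.comp_apply, RingHom.coe_coe]
  rw [fracEquiv_symm_algebraMap]

/-- The induced isomorphism of normalizations. -/
noncomputable def normEquiv : CAlg2.normRed L ≃+* CAlg2.normRed L' where
  toFun x := ⟨fracEquiv e x.1, isIntegral_fracEquiv e x.1 x.2⟩
  invFun x := ⟨(fracEquiv e).symm x.1, isIntegral_fracEquiv_symm e x.1 x.2⟩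
  left_inv x := Subtype.ext ((fracEquiv e).symm_apply_apply x.1)
  right_inv x := Subtype.ext ((fracEquiv e).apply_symm_apply x.1)
  map_mul' x y := Subtype.ext (map_mul (fracEquiv e) x.1 y.1)
  map_add' x y := Subtype.ext (map_add (fracEquiv e) x.1 y.1)

theorem normEquiv_algebraMap (r : CAlg2.red L) :
    normEquiv e (algebraMap (CAlg2.red L) (CAlg2.normRed L) r) =
      algebraMap (CAlg2.red L') (CAlg2.normRed L') (e r) :=
  Subtype.ext (fracEquiv_algebraMap e r)

end

theorem isGeomUnibranch_of_red_equiv {L L' : Type u} [CommRing L] [IsLocalRing L] [CommRing L']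
    [IsLocalRing L'] (e : CAlg2.red L ≃+* CAlg2.red L') (h : CAlg2.IsGeomUnibranch L) :
    CAlg2.IsGeomUnibranch L' := by
  obtain ⟨⟨hD, hloc⟩, hpi⟩ := h
  have hD' : IsDomain (CAlg2.red L') := e.symm.toMulEquiv.isDomain (CAlg2.red L)
  have hloc' : IsLocalRing (CAlg2.normRed L') := (normEquiv e).isLocalRing
  refine ⟨⟨hD', hloc'⟩, ?_⟩
  intro m' hm' x'
  -- the corresponding maximal ideal of `normRed L`
  obtain ⟨m, hmdef⟩ : ∃ m : Ideal (CAlg2.normRed L),
      m = m'.comap (normEquiv e : CAlg2.normRed L →+* CAlg2.normRed L') := ⟨_, rfl⟩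
  have hm : m.IsMaximal := by
    rw [hmdef]
    exact Ideal.comap_isMaximal_of_surjective _ (normEquiv e).surjective
  have hmap : m' = m.map (normEquiv e : CAlg2.normRed L →+* CAlg2.normRed L') := by
    rw [hmdef]
    exact (Ideal.map_comap_of_surjective (normEquiv e : CAlg2.normRed L →+* CAlg2.normRed L')
      (normEquiv e).surjective m').symm
  obtain ⟨Q, hQ⟩ : ∃ Q : CAlg2.normRed L ⧸ m ≃+* CAlg2.normRed L' ⧸ m',
      ∀ y, Q (Ideal.Quotient.mk m y) = Ideal.Quotient.mk m' (normEquiv e y) :=
    ⟨Ideal.quotientEquiv m m' (normEquiv e) hmap, fun y => Ideal.quotientEquiv_mk _ _ _ _ y⟩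
  -- exponential characteristics agree
  have hq : ringExpChar (CAlg2.normRed L' ⧸ m') = ringExpChar (CAlg2.normRed L ⧸ m) := by
    have h1 : ExpChar (CAlg2.normRed L ⧸ m) (ringExpChar (CAlg2.normRed L ⧸ m)) :=
      ringExpChar.expChar _
    have h2 : ExpChar (CAlg2.normRed L' ⧸ m') (ringExpChar (CAlg2.normRed L ⧸ m)) :=
      expChar_of_injective_ringHom (f := Q.toRingHom) Q.injective _
    exact ringExpChar.eq _ _
  obtain ⟨k, a, ha⟩ := hpi m (Q.symm x')
  obtain ⟨a', ha'⟩ := Ideal.Quotient.mk_surjective (e (Ideal.Quotient.mk (nilradical L) a))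
  refine ⟨k, a', ?_⟩
  rw [hq]
  have h3 : x' ^ ringExpChar (CAlg2.normRed L ⧸ m) ^ k =
      Q ((Q.symm x') ^ ringExpChar (CAlg2.normRed L ⧸ m) ^ k) := by
    rw [map_pow, RingEquiv.apply_symm_apply]
  rw [h3, ← ha]
  simp only [RingHom.comp_apply]
  rw [hQ, normEquiv_algebraMap, ha']

/-- A surjection with nil kernel induces an isomorphism of reductions. -/
noncomputable def redEquivOfSurjective {L D : Type u} [CommRing L] [CommRing D] (φ : L →+* D)
    (hφ : Function.Surjective φ) (hker : RingHom.ker φ ≤ nilradical L) :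
    CAlg2.red L ≃+* CAlg2.red D :=
  have hle : nilradical L ≤ (nilradical D).comap φ := fun x hx => by
    rw [Ideal.mem_comap, mem_nilradical]
    exact (mem_nilradical.mp hx).map φ
  have hle' : (nilradical D).comap φ ≤ nilradical L := fun x hx => by
    rw [Ideal.mem_comap, mem_nilradical] at hx
    obtain ⟨k, hk⟩ := hx
    rw [← map_pow] at hk
    have : x ^ k ∈ nilradical L := hker hk
    rw [mem_nilradical] at this ⊢
    obtain ⟨j, hj⟩ := this
    exact ⟨k * j, by rw [pow_mul, hj]⟩
  RingEquiv.ofBijective (Ideal.quotientMap (nilradical D) φ hle)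
    ⟨Ideal.quotientMap_injective' hle', Ideal.quotientMap_surjective hφ⟩

theorem isGeomUnibranch_iff_of_surjective {L D : Type u} [CommRing L] [IsLocalRing L] [CommRing D]
    [IsLocalRing D] (φ : L →+* D) (hφ : Function.Surjective φ)
    (hker : RingHom.ker φ ≤ nilradical L) :
    CAlg2.IsGeomUnibranch L ↔ CAlg2.IsGeomUnibranch D :=
  ⟨isGeomUnibranch_of_red_equiv (redEquivOfSurjective φ hφ hker),
    isGeomUnibranch_of_red_equiv (redEquivOfSurjective φ hφ hker).symm⟩

end Groth.Agent.Lib.H80PolyGU
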