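import Mathlib
import Groth.Agent.Lib.H80PolyGU2
import Groth.Agent.Lib.H80PolyGU3

/-!
# helper80: polynomial rings, geometric unibranchness at primes — general base ring

`isGeomUnibranch_atPrime_mvPolynomial'` : `C` any ring, `P₀` a prime of `C[T₁, …, Tₙ]` over `p`.  If `C_p` is
geometrically unibranch then so is `C[T]_{P₀}`  (EGA IV 14.4.1-type lemma; cf. Stacks 06DM for smooth maps).
-/

set_option autoImplicit false
universe u

namespace Groth.Agent.Lib.H80PolyGU

open MvPolynomial IsLocalRing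

theorem isGeomUnibranch_atPrime_iff_of_surjective {R S : Type u} [CommRing R] [CommRing S]
    (f : R →+* S) (hf : Function.Surjective f) (P : Ideal S) [P.IsPrime]
    (hker : RingHom.ker f ≤
      (nilradical (Localization.AtPrime (P.comap f))).comap (algebraMap R _)) :
    CAlg2.IsGeomUnibranch (Localization.AtPrime (P.comap f)) ↔
      CAlg2.IsGeomUnibranch (Localization.AtPrime P) := by
  refine isGeomUnibranch_iff_of_surjective (Localization.localRingHom (P.comap f) P f rfl)
    (RingHom.surjective_localRingHom_of_surjective f hf P) ?_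
  intro z hz
  obtain ⟨x, s, rfl⟩ := IsLocalization.exists_mk'_eq (P.comap f).primeCompl z
  rw [RingHom.mem_ker, Localization.localRingHom_mk', IsLocalization.mk'_eq_zero_iff] at hz
  obtain ⟨⟨t', ht'⟩, htx⟩ := hz
  obtain ⟨t, rfl⟩ := hf t'
  have htx' : t * x ∈ RingHom.ker f := by
    rw [RingHom.mem_ker, map_mul]; exact htx
  have h1 := hker htx'
  rw [Ideal.mem_comap, map_mul] at h1
  have htu : IsUnit (algebraMap R (Localization.AtPrime (P.comap f)) t) :=
    IsLocalization.map_units _ (⟨t, ht'⟩ : (P.comap f).primeCompl)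
  have h2 : algebraMap R (Localization.AtPrime (P.comap f)) x ∈
      nilradical (Localization.AtPrime (P.comap f)) := by
    obtain ⟨u, hu⟩ := htu
    have : algebraMap R (Localization.AtPrime (P.comap f)) x =
        (↑u⁻¹ : Localization.AtPrime (P.comap f)) *
          (algebraMap R _ t * algebraMap R _ x) := by
      rw [← hu, ← mul_assoc, Units.inv_mul, one_mul]
    rw [this]
    exact Ideal.mul_mem_left _ _ h1
  rw [IsLocalization.mk'_eq_mul_mk'_one]
  exact Ideal.mul_mem_right _ _ h2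

theorem isGeomUnibranch_atPrime_iff_of_surjective' {R S : Type u} [CommRing R] [CommRing S]
    (f : R →+* S) (hf : Function.Surjective f) (P : Ideal S) [P.IsPrime] (P' : Ideal R)
    [hP'prime : P'.IsPrime] (hP' : P' = P.comap f)
    (hker : RingHom.ker f ≤ (nilradical (Localization.AtPrime P')).comap (algebraMap R _)) :
    CAlg2.IsGeomUnibranch (Localization.AtPrime P') ↔
      CAlg2.IsGeomUnibranch (Localization.AtPrime P) := by
  subst hP'
  exact isGeomUnibranch_atPrime_iff_of_surjective f hf P hker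

theorem isGeomUnibranch_atPrime_mvPolynomial' (C₀ : Type u) [CommRing C₀] (n : ℕ)
    (P₀ : Ideal (MvPolynomial (Fin n) C₀)) [hP₀ : P₀.IsPrime]
    (h : CAlg2.IsGeomUnibranch
      (Localization.AtPrime (P₀.comap (C : C₀ →+* MvPolynomial (Fin n) C₀)))) :
    CAlg2.IsGeomUnibranch (Localization.AtPrime P₀) := by
  obtain ⟨p, hp⟩ : ∃ p : Ideal C₀, p = P₀.comap (C : C₀ →+* MvPolynomial (Fin n) C₀) := ⟨_, rfl⟩
  have hpprime : p.IsPrime := hp ▸ Ideal.comap_isPrime _ _
  -- the prime `𝔫`
  obtain ⟨N, hN⟩ : ∃ N : Ideal C₀, N = (nilradical (Localization.AtPrime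
      (P₀.comap (C : C₀ →+* MvPolynomial (Fin n) C₀)))).comap (algebraMap C₀ _) := ⟨_, rfl⟩
  have hnilprime : (nilradical (Localization.AtPrime
      (P₀.comap (C : C₀ →+* MvPolynomial (Fin n) C₀)))).IsPrime :=
    (Ideal.Quotient.isDomain_iff_prime _).1 h.1.1
  have hNprime : N.IsPrime := hN ▸ Ideal.comap_isPrime _ _
  have hNp : N ≤ p := by
    intro a ha
    rw [hN, Ideal.mem_comap] at ha
    by_contra hap
    have hu : IsUnit (algebraMap C₀ (Localization.AtPrime
        (P₀.comap (C : C₀ →+* MvPolynomial (Fin n) C₀))) a) :=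
      IsLocalization.map_units _ (⟨a, hp ▸ hap⟩ :
        (P₀.comap (C : C₀ →+* MvPolynomial (Fin n) C₀)).primeCompl)
    exact hnilprime.ne_top (Ideal.eq_top_of_isUnit_mem _ ha hu)
  -- quotient domain
  have hsurj : Function.Surjective (Ideal.Quotient.mk N) := Ideal.Quotient.mk_surjective
  have hdom : IsDomain (C₀ ⧸ N) := (Ideal.Quotient.isDomain_iff_prime N).2 hNprime
  have hsurj' : Function.Surjective (map (σ := Fin n) (Ideal.Quotient.mk N)) :=
    map_surjective _ hsurj
  have hker' : RingHom.ker (map (σ := Fin n) (Ideal.Quotient.mk N)) ≤ P₀ := by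
    rw [MvPolynomial.ker_map, Ideal.mk_ker, Ideal.map_le_iff_le_comap, ← hp]
    exact hNp
  -- the prime `P̄₀` of `(C₀/N)[T]`
  obtain ⟨Pb, hPb⟩ : ∃ Pb : Ideal (MvPolynomial (Fin n) (C₀ ⧸ N)),
      Pb = P₀.map (map (Ideal.Quotient.mk N)) := ⟨_, rfl⟩
  have hPbprime : Pb.IsPrime := hPb ▸ Ideal.map_isPrime_of_surjective hsurj' hker'
  have hPbcomap : Pb.comap (map (Ideal.Quotient.mk N)) = P₀ := by
    rw [hPb, Ideal.comap_map_of_surjective _ hsurj', ← RingHom.ker_eq_comap_bot]
    exact sup_eq_left.mpr hker'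
  -- the prime `p̄` of `C₀/N`
  obtain ⟨pb, hpb⟩ : ∃ pb : Ideal (C₀ ⧸ N), pb = Pb.comap (C : (C₀ ⧸ N) →+* _) := ⟨_, rfl⟩
  have hpbprime : pb.IsPrime := hpb ▸ Ideal.comap_isPrime _ _
  have hpbcomap : pb.comap (Ideal.Quotient.mk N) =
      P₀.comap (C : C₀ →+* MvPolynomial (Fin n) C₀) := by
    rw [hpb, Ideal.comap_comap, ← hPbcomap, Ideal.comap_comap]
    congr 1
    ext a
    simp
  -- step 1: `C_p` GU ⇒ `(C₀/N)_{p̄}` GU
  have h1 : CAlg2.IsGeomUnibranch (Localization.AtPrime pb) := by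
    refine (isGeomUnibranch_atPrime_iff_of_surjective' (Ideal.Quotient.mk N) hsurj pb
      (P₀.comap (C : C₀ →+* MvPolynomial (Fin n) C₀)) hpbcomap.symm ?_).mp h
    rw [Ideal.mk_ker, hN]
  -- step 2: polynomial ring over the domain
  have h2 : CAlg2.IsGeomUnibranch (Localization.AtPrime Pb) :=
    isGeomUnibranch_atPrime_mvPolynomial (C₀ ⧸ N) n pb Pb hpb.symm h1
  -- step 3: back to `C₀[T]`
  refine (isGeomUnibranch_atPrime_iff_of_surjective' (map (σ := Fin n) (Ideal.Quotient.mk N))
    hsurj' Pb P₀ hPbcomap.symm ?_).mpr h2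
  rw [MvPolynomial.ker_map, Ideal.mk_ker, Ideal.map_le_iff_le_comap]
  intro a ha
  rw [Ideal.mem_comap, Ideal.mem_comap]
  -- `a` is nilpotent in `C_p`, hence `C a` is nilpotent in `C[T]_{P₀}`
  rw [hN, Ideal.mem_comap] at ha
  have hl : algebraMap (MvPolynomial (Fin n) C₀) (Localization.AtPrime P₀) (C a) =
      Localization.localRingHom (P₀.comap (C : C₀ →+* MvPolynomial (Fin n) C₀)) P₀ C rfl
        (algebraMap C₀ _ a) := by
    rw [Localization.localRingHom_to_map]
  rw [hl, mem_nilradical]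
  exact (mem_nilradical.mp ha).map _

end Groth.Agent.Lib.H80PolyGU
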