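import Mathlib
import Groth.Agent.Lib.H80PolyGU4

/-!
# helper80: polynomial rings in finitely many variables (any finite index type), geometric unibranchness
-/

set_option autoImplicit false
universe u

namespace Groth.Agent.Lib.H80PolyGU

open MvPolynomial IsLocalRing

theorem isGeomUnibranch_atPrime_congr {R : Type u} [CommRing R] {I J : Ideal R} [hI : I.IsPrime]
    [hJ : J.IsPrime] (h : I = J) :
    CAlg2.IsGeomUnibranch (Localization.AtPrime I) ↔
      CAlg2.IsGeomUnibranch (Localization.AtPrime J) := by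
  subst h
  exact Iff.rfl

theorem isGeomUnibranch_atPrime_mvPolynomial_of_finite (C₀ : Type u) [CommRing C₀] (σ : Type u)
    [Finite σ] (P₀ : Ideal (MvPolynomial σ C₀)) [hP₀ : P₀.IsPrime]
    (h : CAlg2.IsGeomUnibranch
      (Localization.AtPrime (P₀.comap (C : C₀ →+* MvPolynomial σ C₀)))) :
    CAlg2.IsGeomUnibranch (Localization.AtPrime P₀) := by
  obtain ⟨e, he⟩ : ∃ e : MvPolynomial σ C₀ ≃+* MvPolynomial (Fin (Nat.card σ)) C₀,
      ∀ a, e (C a) = C a :=
    ⟨(renameEquiv C₀ (Finite.equivFin σ)).toRingEquiv, fun a => by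
      change rename _ (C a) = C a
      exact rename_C _ a⟩
  obtain ⟨P₁, hP₁⟩ : ∃ P₁ : Ideal (MvPolynomial (Fin (Nat.card σ)) C₀),
      P₁ = P₀.comap e.symm.toRingHom := ⟨_, rfl⟩
  have hP₁prime : P₁.IsPrime := hP₁ ▸ Ideal.comap_isPrime _ _
  have hcomap : P₀ = P₁.comap e.toRingHom := by
    rw [hP₁, Ideal.comap_comap]
    have : e.symm.toRingHom.comp e.toRingHom = RingHom.id _ := by
      refine RingHom.ext fun x => ?_
      simp
    rw [this, Ideal.comap_id]
  have hC : P₁.comap (C : C₀ →+* _) = P₀.comap (C : C₀ →+* MvPolynomial σ C₀) := by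
    rw [hcomap, Ideal.comap_comap]
    congr 1
    ext a
    simp only [RingHom.comp_apply, RingEquiv.toRingHom_eq_coe, RingHom.coe_coe]
    rw [he]
  have h1 : CAlg2.IsGeomUnibranch (Localization.AtPrime P₁) :=
    isGeomUnibranch_atPrime_mvPolynomial' C₀ _ P₁ ((isGeomUnibranch_atPrime_congr hC).mpr h)
  refine (isGeomUnibranch_atPrime_iff_of_surjective' e.toRingHom e.surjective
    P₁ P₀ hcomap ?_).mpr h1
  intro x hx
  have : x = 0 := by
    have := (RingHom.mem_ker).mp hx
    exact e.injective (by simpa using this)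
  rw [this]
  exact Ideal.zero_mem _

end Groth.Agent.Lib.H80PolyGU
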