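import Mathlib
import Groth.Agent.Lib.H80Chev1
import Groth.Agent.Lib.H80Chev2
import Groth.Agent.Lib.H80Chev3
import Groth.Agent.Lib.H80GUOpen5
import Groth.Agent.Lib.H80PolyGU5

/-!
# Chevalley's criterion, ring-level core

`B₂` quasi-finite over `C[T_1..T_d]`, `Spec C` irreducible with geometrically unibranch local
ring at the image of `q₂`, `Spec B₂` irreducible with generic point over the generic point of
`Spec C` and generic fibre of dimension `≥ d`: then `Spec B₂ ⟶ Spec C` is universally open at `q₂`.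
-/

set_option autoImplicit false
open CategoryTheory AlgebraicGeometry
universe u

namespace Groth.Agent.Lib.H80Chev

open Groth.Agent.Lib.H56LocDim PrimeSpectrum

theorem ringKrullDim_fiber_congr {R : Type*} [CommRing R] (B : Type*) [CommRing B] [Algebra R B]
    {p p' : Ideal R} [p.IsPrime] [p'.IsPrime] (h : p = p') :
    ringKrullDim (p.Fiber B) = ringKrullDim (p'.Fiber B) := by
  subst h
  rfl

theorem universallyOpen_SpecMap_C' (C : Type u) [CommRing C] (σ : Type) [Finite σ] :
    UniversallyOpen (Spec.map (CommRingCat.ofHom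
      (algebraMap C (MvPolynomial σ C)))) := by
  have h1 : Flat (Spec.map (CommRingCat.ofHom (algebraMap C (MvPolynomial σ C)))) := by
    rw [HasRingHomProperty.Spec_iff (P := @Flat)]
    change (algebraMap C (MvPolynomial σ C)).Flat
    rw [RingHom.flat_algebraMap_iff]
    infer_instance
  have h2 : LocallyOfFinitePresentation
      (Spec.map (CommRingCat.ofHom (algebraMap C (MvPolynomial σ C)))) := by
    rw [HasRingHomProperty.Spec_iff (P := @LocallyOfFinitePresentation)]
    change (algebraMap C (MvPolynomial σ C)).FinitePresentation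
    rw [RingHom.finitePresentation_algebraMap]
    infer_instance
  infer_instance

theorem isUnivOpenAt_core (C : Type u) [CommRing C] (d : ℕ) (B₂ : Type u) [CommRing B₂]
    [Algebra C B₂] [Algebra (MvPolynomial (Fin d) C) B₂]
    [IsScalarTower C (MvPolynomial (Fin d) C) B₂]
    [Algebra.FiniteType C B₂] [Algebra.QuasiFinite (MvPolynomial (Fin d) C) B₂]
    (hC : (nilradical C).IsPrime)
    (ν : PrimeSpectrum B₂) (hν : ∀ Q : PrimeSpectrum B₂, ν ⤳ Q)
    (hνC : (ν.asIdeal).comap (algebraMap C B₂) = nilradical C)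
    (hdim : (d : WithBot ℕ∞) ≤ fibLocDim (comap (algebraMap C B₂)) ν)
    (q₂ : PrimeSpectrum B₂)
    (hGU : CAlg2.IsGeomUnibranch
      (Localization.AtPrime (q₂.asIdeal.comap (algebraMap C B₂)))) :
    EGA43.IsUnivOpenAt (Spec.map (CommRingCat.ofHom (algebraMap C B₂))) q₂ := by
  have hA₀nil : (nilradical (MvPolynomial (Fin d) C)).IsPrime :=
    isPrime_nilradical_mvPolynomial _ hC
  have hmin : minimalPrimes (MvPolynomial (Fin d) C) = {nilradical (MvPolynomial (Fin d) C)} :=
    minimalPrimes_eq_of_isPrime_nilradical hA₀nil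
  have hfin : (minimalPrimes (MvPolynomial (Fin d) C)).Finite := by
    rw [hmin]
    exact Set.finite_singleton _
  have hft : Algebra.FiniteType (MvPolynomial (Fin d) C) B₂ :=
    Algebra.FiniteType.of_restrictScalars_finiteType C _ _
  have hPmq : ν.asIdeal ≤ q₂.asIdeal := (PrimeSpectrum.le_iff_specializes ν q₂).mpr (hν q₂)
  -- the generic point lies over the generic point
  have hN : ∀ Q : Ideal B₂, Q.IsPrime → ν.asIdeal ≤ Q := fun Q hQ =>
    (PrimeSpectrum.le_iff_specializes ν ⟨Q, hQ⟩).mpr (hν ⟨Q, hQ⟩)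
  have hM : (nilradical (MvPolynomial (Fin d) C)).comap
      (algebraMap C (MvPolynomial (Fin d) C)) = nilradical C := by
    rw [nilradical_mvPolynomial, MvPolynomial.algebraMap_eq]
    exact comap_C_map_C _ _
  have hMle : nilradical (MvPolynomial (Fin d) C) ≤
      ν.asIdeal.comap (algebraMap (MvPolynomial (Fin d) C) B₂) := nilradical_le_prime _
  have hdB : (d : WithBot ℕ∞) ≤ ringKrullDim ((nilradical C).Fiber B₂) := by
    refine hdim.trans ((fibLocDim_le_dim _ _).trans (le_of_eq ?_))
    rw [topologicalKrullDim_fibre_eq]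
    exact ringKrullDim_fiber_congr B₂ hνC
  have hdom : ν.asIdeal.comap (algebraMap (MvPolynomial (Fin d) C) B₂) ∈
      minimalPrimes (MvPolynomial (Fin d) C) := by
    rw [hmin, Set.mem_singleton_iff]
    exact comap_eq_of_quasiFinite_of_dim (R := C) (P := MvPolynomial (Fin d) C) (B := B₂)
      (nilradical C) ν.asIdeal hN (nilradical (MvPolynomial (Fin d) C)) hM hMle d
      (ringKrullDim_fiber_mvPolynomial _ d) hdB
  -- geometric unibranchness upstairs
  have hGU' : CAlg2.IsGeomUnibranch (Localization.AtPrime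
      (q₂.asIdeal.comap (algebraMap (MvPolynomial (Fin d) C) B₂))) := by
    apply Groth.Agent.Lib.H80PolyGU.isGeomUnibranch_atPrime_mvPolynomial'
    have e : (q₂.asIdeal.comap (algebraMap (MvPolynomial (Fin d) C) B₂)).comap
        (MvPolynomial.C : C →+* MvPolynomial (Fin d) C) =
        q₂.asIdeal.comap (algebraMap C B₂) := by
      rw [Ideal.comap_comap, IsScalarTower.algebraMap_eq C (MvPolynomial (Fin d) C) B₂,
        MvPolynomial.algebraMap_eq]
    exact (Groth.Agent.Lib.H80PolyGU.isGeomUnibranch_atPrime_congr e).mpr hGU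
  have h1 : EGA43.IsUnivOpenAt
      (Spec.map (CommRingCat.ofHom (algebraMap (MvPolynomial (Fin d) C) B₂))) q₂ := by
    apply Groth.Agent.Lib.H80UnivOpenPoly.isUnivOpenAt_SpecMap_of_forall_mvPolynomial
    intro n Q hQ
    exact Groth.Agent.Lib.H80GUOpen.isOpenAt_comap_map_of_isGeomUnibranch
      (MvPolynomial (Fin d) C) B₂ hfin q₂ ν.asIdeal hPmq hdom
      (Localization.AtPrime (q₂.asIdeal.comap (algebraMap (MvPolynomial (Fin d) C) B₂)))
      hGU' n Q hQ
  have h2 := universallyOpen_SpecMap_C' C (Fin d)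
  have h3 := isUnivOpenAt_comp_of_universallyOpen
    (Spec.map (CommRingCat.ofHom (algebraMap (MvPolynomial (Fin d) C) B₂)))
    (Spec.map (CommRingCat.ofHom (algebraMap C (MvPolynomial (Fin d) C)))) q₂ h1
  rw [← Spec.map_comp, ← CommRingCat.ofHom_comp,
    ← IsScalarTower.algebraMap_eq C (MvPolynomial (Fin d) C) B₂] at h3
  exact h3

end Groth.Agent.Lib.H80Chev
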