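import Mathlib
import Groth.Agent.Lib.H80Chev4

/-!
# Chevalley's criterion, ring level
-/

set_option autoImplicit false
open CategoryTheory AlgebraicGeometry
universe u

namespace Groth.Agent.Lib.H80Chev

open Groth.Agent.Lib.H56LocDim PrimeSpectrum

section Transport

variable {C B B' : Type u} [CommRing C] [CommRing B] [CommRing B'] [Algebra C B] [Algebra C B']
  [Algebra B B'] [IsScalarTower C B B']

theorem isUnivOpenAt_of_isOpenImmersion_algebraMap
    (hj : IsOpenImmersion (Spec.map (CommRingCat.ofHom (algebraMap B B'))))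
    (q' : PrimeSpectrum B')
    (h : EGA43.IsUnivOpenAt (Spec.map (CommRingCat.ofHom (algebraMap C B'))) q') :
    EGA43.IsUnivOpenAt (Spec.map (CommRingCat.ofHom (algebraMap C B)))
      (comap (algebraMap B B') q') := by
  rw [IsScalarTower.algebraMap_eq C B B', CommRingCat.ofHom_comp, Spec.map_comp] at h
  exact isUnivOpenAt_of_comp_isOpenImmersion
    (Spec.map (CommRingCat.ofHom (algebraMap B B')))
    (Spec.map (CommRingCat.ofHom (algebraMap C B))) q' h

theorem comap_comap_tower (Q' : PrimeSpectrum B') :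
    comap (algebraMap C B) (comap (algebraMap B B') Q') = comap (algebraMap C B') Q' := by
  rw [← PrimeSpectrum.comap_comp_apply, ← IsScalarTower.algebraMap_eq]

theorem exists_generic_lift (hj : Topology.IsOpenEmbedding (comap (algebraMap B B')))
    (ν : PrimeSpectrum B) (hν : ∀ Q, ν ⤳ Q) (q' : PrimeSpectrum B') :
    ∃ ν' : PrimeSpectrum B', comap (algebraMap B B') ν' = ν ∧ (∀ Q', ν' ⤳ Q') ∧
      ν'.asIdeal.comap (algebraMap C B') = ν.asIdeal.comap (algebraMap C B) ∧
      fibLocDim (comap (algebraMap C B')) ν' = fibLocDim (comap (algebraMap C B)) ν := by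
  have hmem : ν ∈ Set.range (comap (algebraMap B B')) :=
    (hν (comap (algebraMap B B') q')).mem_open hj.isOpen_range ⟨q', rfl⟩
  obtain ⟨ν', rfl⟩ := hmem
  refine ⟨ν', rfl, ?_, ?_, ?_⟩
  · intro Q'
    exact hj.isInducing.specializes_iff.mp (hν _)
  · exact congrArg PrimeSpectrum.asIdeal (comap_comap_tower (C := C) ν').symm
  · exact fibLocDim_eq_of_square hj (i := (id : PrimeSpectrum C → PrimeSpectrum C))
      Function.injective_id (comap (algebraMap C B')) (comap (algebraMap C B))
      (fun x' => comap_comap_tower (C := C) x') ν'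

end Transport

theorem isUnivOpenAt_of_quasiFiniteAt (C : Type u) [CommRing C] (d : ℕ) (B₁ : Type u)
    [CommRing B₁] [Algebra C B₁] [Algebra (MvPolynomial (Fin d) C) B₁]
    [IsScalarTower C (MvPolynomial (Fin d) C) B₁] [Algebra.FiniteType C B₁]
    (hC : (nilradical C).IsPrime)
    (ν : PrimeSpectrum B₁) (hν : ∀ Q, ν ⤳ Q)
    (hνC : ν.asIdeal.comap (algebraMap C B₁) = nilradical C)
    (hdim : (d : WithBot ℕ∞) ≤ fibLocDim (comap (algebraMap C B₁)) ν)
    (q₁ : PrimeSpectrum B₁) [Algebra.QuasiFiniteAt (MvPolynomial (Fin d) C) q₁.asIdeal]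
    (hGU : CAlg2.IsGeomUnibranch
      (Localization.AtPrime (q₁.asIdeal.comap (algebraMap C B₁)))) :
    EGA43.IsUnivOpenAt (Spec.map (CommRingCat.ofHom (algebraMap C B₁))) q₁ := by
  have hft : Algebra.FiniteType (MvPolynomial (Fin d) C) B₁ :=
    Algebra.FiniteType.of_restrictScalars_finiteType C _ _
  obtain ⟨r, hr, hqfr⟩ := exists_away_quasiFinite (P := MvPolynomial (Fin d) C) q₁.asIdeal
  have hj : Topology.IsOpenEmbedding (comap (algebraMap B₁ (Localization.Away r))) :=
    PrimeSpectrum.localization_away_isOpenEmbedding (Localization.Away r) r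
  have hq₁r : q₁ ∈ Set.range (comap (algebraMap B₁ (Localization.Away r))) := by
    rw [PrimeSpectrum.localization_away_comap_range (Localization.Away r) r]
    exact hr
  obtain ⟨q₂, hq₂⟩ := hq₁r
  obtain ⟨ν₂, -, hν₂, hν₂C, hν₂dim⟩ := exists_generic_lift (C := C) hj ν hν q₂
  have hftB₂ : Algebra.FiniteType C (Localization.Away r) :=
    Algebra.FiniteType.trans (inferInstance : Algebra.FiniteType C B₁)
      (IsLocalization.finiteType_of_monoid_fg (Submonoid.powers r) (Localization.Away r))
  have hst : IsScalarTower C (MvPolynomial (Fin d) C) (Localization.Away r) := inferInstance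
  have hq₂C : q₂.asIdeal.comap (algebraMap C (Localization.Away r)) =
      q₁.asIdeal.comap (algebraMap C B₁) := by
    rw [← hq₂]
    exact congrArg PrimeSpectrum.asIdeal (comap_comap_tower (C := C) q₂).symm
  have key := isUnivOpenAt_core C d (Localization.Away r) hC ν₂ hν₂ (hν₂C.trans hνC)
    (hdim.trans (le_of_eq hν₂dim.symm)) q₂
    ((Groth.Agent.Lib.H80PolyGU.isGeomUnibranch_atPrime_congr hq₂C).mpr hGU)
  have := isUnivOpenAt_of_isOpenImmersion_algebraMap (C := C) (B := B₁)
    (B' := Localization.Away r) inferInstance q₂ key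
  rw [hq₂] at this
  exact this

theorem isUnivOpenAt_of_fibLocDim (C B : Type u) [CommRing C] [CommRing B] [Algebra C B]
    [Algebra.FiniteType C B] (hC : (nilradical C).IsPrime)
    (ν : PrimeSpectrum B) (hν : ∀ Q, ν ⤳ Q)
    (hνC : ν.asIdeal.comap (algebraMap C B) = nilradical C)
    (q₀ : PrimeSpectrum B) (e : ℕ)
    (h1 : fibLocDim (comap (algebraMap C B)) q₀ ≤ e)
    (h2 : (e : WithBot ℕ∞) ≤ fibLocDim (comap (algebraMap C B)) ν)
    (hGU : CAlg2.IsGeomUnibranch
      (Localization.AtPrime (q₀.asIdeal.comap (algebraMap C B)))) :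
    EGA43.IsUnivOpenAt (Spec.map (CommRingCat.ofHom (algebraMap C B))) q₀ := by
  obtain ⟨g, hg, hdim⟩ := exists_away_dim_fiber_le q₀ e h1
  obtain ⟨p, hp⟩ : ∃ p, p = PrimeSpectrum.comap (algebraMap C B) q₀ := ⟨_, rfl⟩
  rw [← hp] at hdim
  have hftB : Algebra.FiniteType C (Localization.Away g) :=
    Algebra.FiniteType.trans (inferInstance : Algebra.FiniteType C B)
      (IsLocalization.finiteType_of_monoid_fg (Submonoid.powers g) (Localization.Away g))
  have hj : Topology.IsOpenEmbedding (PrimeSpectrum.comap (algebraMap B (Localization.Away g))) :=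
    PrimeSpectrum.localization_away_isOpenEmbedding (Localization.Away g) g
  have hqr : q₀ ∈ Set.range (PrimeSpectrum.comap (algebraMap B (Localization.Away g))) := by
    rw [PrimeSpectrum.localization_away_comap_range (Localization.Away g) g]
    exact hg
  obtain ⟨q₁, hq₁⟩ := hqr
  have hq₁p : PrimeSpectrum.comap (algebraMap C (Localization.Away g)) q₁ = p := by
    rw [hp, ← hq₁]
    exact (comap_comap_tower (C := C) q₁).symm
  have hnt : Nontrivial (p.asIdeal.Fiber (Localization.Away g)) :=
    (PrimeSpectrum.preimageHomeomorphFiber C (Localization.Away g) p ⟨q₁, hq₁p⟩).nontrivial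
  obtain ⟨d, Ψ, hd, hfin⟩ := exists_algHom_fiber_finite (R := C) (B := Localization.Away g)
    p.asIdeal
  have hde : d ≤ e := by
    have : (d : WithBot ℕ∞) ≤ e := hd ▸ hdim
    exact_mod_cast this
  obtain ⟨ν₁, -, hν₁, hν₁C, hν₁dim⟩ := exists_generic_lift (C := C) hj ν hν q₁
  let _ : Algebra (MvPolynomial (Fin d) C) (Localization.Away g) := Ψ.toRingHom.toAlgebra
  have hst : IsScalarTower C (MvPolynomial (Fin d) C) (Localization.Away g) :=
    IsScalarTower.of_algebraMap_eq (fun r => (Ψ.commutes r).symm)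
  have hftP : Algebra.FiniteType (MvPolynomial (Fin d) C) (Localization.Away g) :=
    Algebra.FiniteType.of_restrictScalars_finiteType C _ _
  have hΨ : IsScalarTower.toAlgHom C (MvPolynomial (Fin d) C) (Localization.Away g) = Ψ := by
    ext x; rfl
  have hqf : Algebra.QuasiFiniteAt (MvPolynomial (Fin d) C) q₁.asIdeal :=
    quasiFiniteAt_of_fiber_finite p.asIdeal (by rw [hΨ]; exact hfin) q₁ hq₁p
  have hq₁C : q₁.asIdeal.comap (algebraMap C (Localization.Away g)) =
      q₀.asIdeal.comap (algebraMap C B) := by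
    rw [← hq₁]
    exact congrArg PrimeSpectrum.asIdeal (comap_comap_tower (C := C) q₁).symm
  have hdν : (d : WithBot ℕ∞) ≤ fibLocDim (comap (algebraMap C (Localization.Away g))) ν₁ := by
    rw [hν₁dim]
    refine le_trans ?_ h2
    exact_mod_cast hde
  have key := isUnivOpenAt_of_quasiFiniteAt C d (Localization.Away g) hC ν₁ hν₁
    (hν₁C.trans hνC) hdν q₁
    ((Groth.Agent.Lib.H80PolyGU.isGeomUnibranch_atPrime_congr hq₁C).mpr hGU)
  have := isUnivOpenAt_of_isOpenImmersion_algebraMap (C := C) (B := B)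
    (B' := Localization.Away g) inferInstance q₁ key
  rw [hq₁] at this
  exact this

end Groth.Agent.Lib.H80Chev
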