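/-
helper80: the DVR criterion for universal openness at a point (EGA IV 14.5.x), over a locally
Noetherian base, for morphisms locally of finite type.
* `DvrCond f x`: the DVR condition (every point over `x` and the closed point of a DVR-valued
  base change has a generization over the generic point).
* `isOpenAt_of_dvrCond`: under `DvrCond f x`, every base change of `f` to a locally Noetherian
  scheme is open at the points over `x`.
-/
import Mathlib
import Groth.Agent.S4450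
import Groth.Agent.Lib.OpenAt45
import Groth.Agent.Lib.UnivOpenAt
import Groth.Agent.Lib.H80UnivOpenPoly

set_option autoImplicit false
universe u
open CategoryTheory CategoryTheory.Limits AlgebraicGeometry TensorProduct

namespace Groth.Agent.Lib.H80DvrUnivOpen

/-- The DVR condition of EGA IV 14.5.x at the point `x`. -/
def DvrCond {X Y : Scheme.{u}} (f : X ⟶ Y) (x : X) : Prop :=
  ∀ (A : Type u) [CommRing A] [IsDomain A] [IsDiscreteValuationRing A]
    (g : Spec (CommRingCat.of A) ⟶ Y), g.base (IsLocalRing.closedPoint A) = f.base x →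
    ∀ x' : ↥(pullback f g), (pullback.fst f g).base x' = x →
      (pullback.snd f g).base x' = IsLocalRing.closedPoint A →
      ∃ z' : ↥(pullback f g), z' ⤳ x' ∧ (pullback.snd f g).base z' ≠ IsLocalRing.closedPoint A

/-- In a DVR a prime which is not the closed point is the zero ideal. -/
theorem asIdeal_eq_bot_of_ne_closedPoint {A : Type u} [CommRing A] [IsDomain A]
    [IsDiscreteValuationRing A] (z : PrimeSpectrum A) (hz : z ≠ IsLocalRing.closedPoint A) :
    z.asIdeal = ⊥ := by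
  by_contra hne
  apply hz
  have hmax : z.asIdeal.IsMaximal := IsPrime.to_maximal_ideal hne
  apply PrimeSpectrum.ext
  exact IsLocalRing.eq_maximalIdeal hmax

theorem isOpenAt_of_dvrCond {X Y X' Y' : Scheme.{u}} [IsLocallyNoetherian Y'] (f : X ⟶ Y)
    [LocallyOfFiniteType f] (x : X) (H : DvrCond f x) {g : Y' ⟶ Y} {fst : X' ⟶ X} {f' : X' ⟶ Y'}
    (sq : IsPullback fst f' f g) (x' : X') (hx' : fst.base x' = x) :
    EGA43.IsOpenAt f'.base x' := by
  have : LocallyOfFiniteType f' := MorphismProperty.of_isPullback sq ‹_›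
  have : LocallyOfFinitePresentation f' :=
    LocallyOfFinitePresentation.iff_locallyOfFiniteType.mpr ‹_›
  apply Groth.Agent.Lib.OpenAt45.isOpenAt_of_forall_generization
  intro y'' hy''
  by_cases hne : f'.base x' = y''
  · exact ⟨x', specializes_rfl, hne⟩
  obtain ⟨A, h, hA, hcl, hcomm⟩ := Groth.Agent.S4450.result (𝟙 Y') y'' (f'.base x') hy'' hne
  -- the composite `Spec A ⟶ Y' ⟶ Y`
  have hg' : (h ≫ g).base (IsLocalRing.closedPoint A) = f.base x := by
    rw [Scheme.Hom.comp_apply, hcl, ← Scheme.Hom.comp_apply, ← sq.w, Scheme.Hom.comp_apply, hx']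
  let l : pullback f (h ≫ g) ⟶ X' :=
    sq.lift (pullback.fst f (h ≫ g)) (pullback.snd f (h ≫ g) ≫ h)
      (by rw [pullback.condition, Category.assoc])
  have hl1 : l ≫ fst = pullback.fst f (h ≫ g) := sq.lift_fst _ _ _
  have hl2 : l ≫ f' = pullback.snd f (h ≫ g) ≫ h := sq.lift_snd _ _ _
  have big : IsPullback (l ≫ fst) (pullback.snd f (h ≫ g)) f (h ≫ g) := by
    rw [hl1]; exact IsPullback.of_hasPullback _ _
  have sqL : IsPullback l (pullback.snd f (h ≫ g)) f' h := IsPullback.of_right big hl2 sq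
  obtain ⟨p, hp1, hp2⟩ := Scheme.exists_preimage_of_isPullback sqL x'
    (IsLocalRing.closedPoint A) hcl.symm
  obtain ⟨z, hz1, hz2⟩ := H A (h ≫ g) hg' p (by
    rw [← hl1, Scheme.Hom.comp_apply, hp1, hx']) hp2
  refine ⟨l.base z, ?_, ?_⟩
  · rw [← hp1]
    exact hz1.map l.continuous
  · rw [← Scheme.Hom.comp_apply, hl2, Scheme.Hom.comp_apply]
    have hbot := asIdeal_eq_bot_of_ne_closedPoint _ hz2
    -- the generic point of `Spec A` is the image of `Spec κ(y'')`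
    have hgen : (pullback.snd f (h ≫ g)).base z =
        (Spec.map (CommRingCat.ofHom A.subtype)).base
          (IsLocalRing.closedPoint (Y'.residueField y'')) := by
      apply PrimeSpectrum.ext
      rw [hbot]
      symm
      change Ideal.comap A.subtype (IsLocalRing.maximalIdeal _) = ⊥
      rw [IsLocalRing.maximalIdeal_eq_bot]
      exact (RingHom.injective_iff_ker_eq_bot _).mp Subtype.val_injective
    rw [hgen, ← Scheme.Hom.comp_apply, hcomm, Category.comp_id]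
    exact Scheme.fromSpecResidueField_apply y'' _

/-- Universal openness at a point can be checked on an affine chart. -/
theorem isUnivOpenAt_of_chart {X Y : Scheme.{u}} (f : X ⟶ Y) (x : X) {U : X.Opens} {V : Y.Opens}
    (hU : IsAffineOpen U) (hV : IsAffineOpen V) (e : U ≤ f ⁻¹ᵁ V) (hx : x ∈ U)
    (h : EGA43.IsUnivOpenAt (Spec.map (f.appLE V U e)) (hU.primeIdealOf ⟨x, hx⟩)) :
    EGA43.IsUnivOpenAt f x := by
  intro Y₁ g₁ x₁ hx₁
  have hyW : (pullback.snd f g₁).base x₁ ∈ g₁ ⁻¹ᵁ V := by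
    change g₁.base ((pullback.snd f g₁).base x₁) ∈ V
    rw [← Scheme.Hom.comp_apply, ← pullback.condition, Scheme.Hom.comp_apply, hx₁]
    exact e hx
  let g₀ : ((g₁ ⁻¹ᵁ V : Y₁.Opens) : Scheme.{u}) ⟶ Spec Γ(Y, V) := (g₁ ∣_ V) ≫ hV.isoSpec.hom
  have e₂ : g₀ ≫ hV.fromSpec = (g₁ ⁻¹ᵁ V).ι ≫ g₁ := by
    simp only [g₀, Category.assoc, IsAffineOpen.isoSpec_hom_fromSpec]
    exact morphismRestrict_ι g₁ V
  have e₁ : Spec.map (f.appLE V U e) ≫ hV.fromSpec = hU.fromSpec ≫ f :=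
    IsAffineOpen.SpecMap_appLE_fromSpec f hV hU e
  let m := pullback.map (Spec.map (f.appLE V U e)) g₀ f g₁ hU.fromSpec (g₁ ⁻¹ᵁ V).ι hV.fromSpec
    e₁ e₂
  have hm1 : m ≫ pullback.fst f g₁ = pullback.fst _ _ ≫ hU.fromSpec := pullback.lift_fst _ _ _
  have hm2 : m ≫ pullback.snd f g₁ = pullback.snd _ _ ≫ (g₁ ⁻¹ᵁ V).ι := pullback.lift_snd _ _ _
  have hrange : x₁ ∈ Set.range m.base := by
    rw [Scheme.Pullback.range_map]
    refine ⟨⟨hU.primeIdealOf ⟨x, hx⟩, ?_⟩, ⟨⟨_, hyW⟩, rfl⟩⟩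
    rw [hx₁]
    exact hU.fromSpec_primeIdealOf ⟨x, hx⟩
  obtain ⟨x₀, rfl⟩ := hrange
  have hx₀ : (pullback.fst (Spec.map (f.appLE V U e)) g₀).base x₀ = hU.primeIdealOf ⟨x, hx⟩ := by
    apply hU.fromSpec.isOpenEmbedding.injective
    rw [← Scheme.Hom.comp_apply, ← hm1, Scheme.Hom.comp_apply, hx₁]
    exact (hU.fromSpec_primeIdealOf ⟨x, hx⟩).symm
  have hopen := h _ g₀ x₀ hx₀
  exact Groth.Agent.Lib.H80UnivOpenPoly.isOpenAt_of_comm_square m.base
    (pullback.snd (Spec.map (f.appLE V U e)) g₀).base (g₁ ⁻¹ᵁ V).ι.base (pullback.snd f g₁).base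
    (fun t => by rw [← Scheme.Hom.comp_apply, ← Scheme.Hom.comp_apply, hm2])
    m.continuous (g₁ ⁻¹ᵁ V).ι.isOpenEmbedding.isOpenMap x₀ hopen

/-- Openness at points over `x` of base changes to locally Noetherian schemes passes to an
affine chart. -/
theorem isOpenAt_chart_of_forall {X Y : Scheme.{u}} (f : X ⟶ Y) (x : X) {U : X.Opens}
    {V : Y.Opens} (hU : IsAffineOpen U) (hV : IsAffineOpen V) (e : U ≤ f ⁻¹ᵁ V) (hx : x ∈ U)
    (HP : ∀ (Y' : Scheme.{u}) [IsLocallyNoetherian Y'] (g : Y' ⟶ Y) (x' : ↥(pullback f g)),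
      (pullback.fst f g).base x' = x → EGA43.IsOpenAt (pullback.snd f g).base x')
    {Y₀ P₀ : Scheme.{u}} [IsLocallyNoetherian Y₀] {g₀ : Y₀ ⟶ Spec Γ(Y, V)}
    {fst₀ : P₀ ⟶ Spec Γ(X, U)} {snd₀ : P₀ ⟶ Y₀}
    (sq : IsPullback fst₀ snd₀ (Spec.map (f.appLE V U e)) g₀) (p₀ : P₀)
    (hp₀ : fst₀.base p₀ = hU.primeIdealOf ⟨x, hx⟩) : EGA43.IsOpenAt snd₀.base p₀ := by
  have e₁ : Spec.map (f.appLE V U e) ≫ hV.fromSpec = hU.fromSpec ≫ f :=
    IsAffineOpen.SpecMap_appLE_fromSpec f hV hU e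
  have e₂ : g₀ ≫ hV.fromSpec = 𝟙 Y₀ ≫ (g₀ ≫ hV.fromSpec) := (Category.id_comp _).symm
  let m := pullback.map (Spec.map (f.appLE V U e)) g₀ f (g₀ ≫ hV.fromSpec) hU.fromSpec (𝟙 Y₀)
    hV.fromSpec e₁ e₂
  have hm1 : m ≫ pullback.fst f _ = pullback.fst _ _ ≫ hU.fromSpec := pullback.lift_fst _ _ _
  have hm2 : m ≫ pullback.snd f _ = pullback.snd _ _ ≫ 𝟙 Y₀ := pullback.lift_snd _ _ _
  let m' := sq.isoPullback.hom ≫ m
  have hm'1 : m' ≫ pullback.fst f _ = fst₀ ≫ hU.fromSpec := by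
    simp only [m', Category.assoc, hm1]
    rw [← Category.assoc, sq.isoPullback_hom_fst]
  have hm'2 : m' ≫ pullback.snd f _ = snd₀ := by
    simp only [m', Category.assoc, hm2, Category.comp_id]
    exact sq.isoPullback_hom_snd
  have h1 : EGA43.IsOpenAt (pullback.snd f (g₀ ≫ hV.fromSpec)).base (m'.base p₀) := by
    apply HP
    rw [← Scheme.Hom.comp_apply, hm'1, Scheme.Hom.comp_apply, hp₀]
    exact hU.fromSpec_primeIdealOf ⟨x, hx⟩
  have h2 : EGA43.IsOpenAt m'.base p₀ :=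
    Groth.Agent.Lib.UnivOpenAt.isOpenAt_of_isOpenMap m'.isOpenEmbedding.isOpenMap p₀
  have := Groth.Agent.Lib.UnivOpenAt.isOpenAt_comp h2 h1
  have e3 : (⇑snd₀.base : P₀ → Y₀) = ⇑(pullback.snd f (g₀ ≫ hV.fromSpec)).base ∘ ⇑m'.base := by
    funext t
    exact (congrArg (fun k : P₀ ⟶ Y₀ => k.base t) hm'2).symm
  rw [e3]
  exact this

attribute [local instance] MvPolynomial.algebraMvPolynomial in
/-- **EGA IV 14.5.x (DVR criterion), sufficiency.** -/
theorem isUnivOpenAt_of_dvrCond {X Y : Scheme.{u}} [IsLocallyNoetherian Y] (f : X ⟶ Y)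
    [LocallyOfFiniteType f] (x : X) (H : DvrCond f x) : EGA43.IsUnivOpenAt f x := by
  obtain ⟨_, ⟨V, hV, rfl⟩, hfxV, -⟩ := Y.isBasis_affineOpens.exists_subset_of_mem_open
    (Set.mem_univ (f x)) isOpen_univ
  have hxV : x ∈ f ⁻¹ᵁ V := hfxV
  obtain ⟨_, ⟨U, hU, rfl⟩, hxU, hUV⟩ := X.isBasis_affineOpens.exists_subset_of_mem_open
    hxV (f ⁻¹ᵁ V).isOpen
  replace hV : IsAffineOpen V := hV
  replace hU : IsAffineOpen U := hU
  have e : U ≤ f ⁻¹ᵁ V := hUV
  apply isUnivOpenAt_of_chart f x hU hV e hxU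
  have HP : ∀ (Y' : Scheme.{u}) [IsLocallyNoetherian Y'] (g : Y' ⟶ Y) (x' : ↥(pullback f g)),
      (pullback.fst f g).base x' = x → EGA43.IsOpenAt (pullback.snd f g).base x' :=
    fun Y' _ g x' hx' => isOpenAt_of_dvrCond f x H (IsPullback.of_hasPullback f g) x' hx'
  have hN : IsNoetherianRing Γ(Y, V) := IsLocallyNoetherian.component_noetherian ⟨V, hV⟩
  algebraize [(f.appLE V U e).hom]
  have key := Groth.Agent.Lib.H80UnivOpenPoly.isUnivOpenAt_SpecMap_of_forall_mvPolynomial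
    (A := Γ(Y, V)) (B := Γ(X, U)) (hU.primeIdealOf ⟨x, hxU⟩) ?_
  · exact key
  intro n Q hQ
  have hpb := isPullback_SpecMap_of_isPushout _ _ _ _
    (CommRingCat.isPushout_of_isPushout Γ(Y, V) Γ(X, U) (MvPolynomial (Fin n) Γ(Y, V))
      (MvPolynomial (Fin n) Γ(X, U)))
  exact isOpenAt_chart_of_forall f x hU hV e hxU HP hpb Q hQ

/-- **EGA IV 14.5.x (DVR criterion), necessity.** -/
theorem dvrCond_of_isUnivOpenAt {X Y : Scheme.{u}} (f : X ⟶ Y) (x : X)
    (h : EGA43.IsUnivOpenAt f x) : DvrCond f x := by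
  intro A _ _ _ g _ x' hx' hcl
  have hopen := h _ g x' hx'
  let η : Spec (CommRingCat.of A) := (⟨⊥, Ideal.isPrime_bot⟩ : PrimeSpectrum A)
  have hη : η ⤳ (pullback.snd f g).base x' := by
    rw [hcl]
    exact IsLocalRing.specializes_closedPoint (R := A) η
  obtain ⟨z', hz1, hz2⟩ :=
    Groth.Agent.Lib.OpenAt45.exists_generization_of_isOpenAt (pullback.snd f g) x' hopen η hη
  refine ⟨z', hz1, ?_⟩
  rw [hz2]
  intro hcon
  have : (⊥ : Ideal A) = IsLocalRing.maximalIdeal A := congrArg PrimeSpectrum.asIdeal hcon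
  exact IsDiscreteValuationRing.not_a_field A this.symm

theorem isUnivOpenAt_iff_dvrCond {X Y : Scheme.{u}} [IsLocallyNoetherian Y] (f : X ⟶ Y)
    [LocallyOfFiniteType f] (x : X) : EGA43.IsUnivOpenAt f x ↔ DvrCond f x :=
  ⟨dvrCond_of_isUnivOpenAt f x, isUnivOpenAt_of_dvrCond f x⟩

end Groth.Agent.Lib.H80DvrUnivOpen
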