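/-
helper80: consequences of the DVR criterion for universal openness (EGA IV 14.5.x):
* `universallyOpen_iff_forall_isUnivOpenAt`
* `forall_isUnivOpenAt_fibre_iff_dense`: universally open at all points of the fibre over `y`
  iff for every DVR-valued point through `y` all irreducible components of the base change
  dominate.
* `universallyOpen_iff_dense`.
-/
import Mathlib
import Groth.Agent.Lib.H80DvrUnivOpen

set_option autoImplicit false
universe u
open CategoryTheory CategoryTheory.Limits AlgebraicGeometry TensorProduct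

namespace Groth.Agent.Lib.H80DvrUnivOpen

theorem isOpenMap_of_forall_isOpenAt {α β : Type*} [TopologicalSpace α] [TopologicalSpace β]
    (f : α → β) (h : ∀ x, EGA43.IsOpenAt f x) : IsOpenMap f := by
  intro U hU
  rw [isOpen_iff_mem_nhds]
  rintro _ ⟨x, hx, rfl⟩
  exact h x U (hU.mem_nhds hx)

theorem universallyOpen_iff_forall_isUnivOpenAt {X Y : Scheme.{u}} (f : X ⟶ Y) :
    UniversallyOpen f ↔ ∀ x : X, EGA43.IsUnivOpenAt f x := by
  constructor
  · intro hf x Y' g x' _
    have : UniversallyOpen (pullback.snd f g) := inferInstance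
    exact Groth.Agent.Lib.UnivOpenAt.isOpenAt_of_isOpenMap (pullback.snd f g).isOpenMap x'
  · intro h
    rw [UniversallyOpen.eq]
    intro X' Y' i₁ i₂ f' sq
    apply isOpenMap_of_forall_isOpenAt
    intro p
    exact Groth.Agent.Lib.UnivOpenAt.isOpenAt_snd_of_isPullback sq.flip (h _) p rfl

section DVR

variable {A : Type u} [CommRing A] [IsDomain A] [IsDiscreteValuationRing A]

theorem dense_of_bot_mem (S : Set (PrimeSpectrum A)) (z : PrimeSpectrum A) (hz : z ∈ S)
    (hz' : z ≠ IsLocalRing.closedPoint A) : Dense S := by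
  have hbot := asIdeal_eq_bot_of_ne_closedPoint z hz'
  have : Dense ({z} : Set (PrimeSpectrum A)) := by
    rw [dense_iff_closure_eq, PrimeSpectrum.closure_singleton, hbot]
    simp
  exact this.mono (Set.singleton_subset_iff.mpr hz)

theorem exists_ne_closedPoint_of_dense (S : Set (PrimeSpectrum A)) (hS : Dense S) :
    ∃ z ∈ S, z ≠ IsLocalRing.closedPoint A := by
  have hopen : IsOpen ({IsLocalRing.closedPoint A}ᶜ : Set (PrimeSpectrum A)) :=
    (IsLocalRing.isClosed_singleton_closedPoint A).isOpen_compl
  have hne : ({IsLocalRing.closedPoint A}ᶜ : Set (PrimeSpectrum A)).Nonempty := by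
    refine ⟨⟨⊥, Ideal.isPrime_bot⟩, ?_⟩
    intro hcon
    have : (⊥ : Ideal A) = IsLocalRing.maximalIdeal A := congrArg PrimeSpectrum.asIdeal hcon
    exact IsDiscreteValuationRing.not_a_field A this.symm
  obtain ⟨z, hz1, hz2⟩ := hS.inter_open_nonempty _ hopen hne
  exact ⟨z, hz2, hz1⟩

end DVR

theorem forall_isUnivOpenAt_fibre_iff_dense {X Y : Scheme.{u}} [IsLocallyNoetherian Y]
    (f : X ⟶ Y) [LocallyOfFiniteType f] (y : Y) :
    (∀ x : X, f.base x = y → EGA43.IsUnivOpenAt f x) ↔
      ∀ (A : Type u) [CommRing A] [IsDomain A] [IsDiscreteValuationRing A]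
        (g : Spec (CommRingCat.of A) ⟶ Y), g.base (IsLocalRing.closedPoint A) = y →
        ∀ Z ∈ irreducibleComponents (↥(pullback f g) : Type u),
          Dense ((pullback.snd f g).base '' Z) := by
  constructor
  · intro h A _ _ _ g hg Z hZ
    have hZirr : IsIrreducible Z := hZ.1
    have hZcl : IsClosed Z := isClosed_of_mem_irreducibleComponents Z hZ
    obtain ⟨z, hz⟩ := QuasiSober.sober hZirr hZcl
    have hzZ : z ∈ Z := hz.mem
    refine dense_of_bot_mem _ ((pullback.snd f g).base z) ⟨z, hzZ, rfl⟩ ?_
    intro hcl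
    have hfx : f.base ((pullback.fst f g).base z) = y := by
      rw [← Scheme.Hom.comp_apply, pullback.condition, Scheme.Hom.comp_apply, hcl, hg]
    have hD := dvrCond_of_isUnivOpenAt f _ (h _ hfx)
    obtain ⟨z', hz'1, hz'2⟩ := hD A g (by rw [hg, hfx]) z rfl hcl
    -- `closure {z'}` is irreducible and contains `Z`, hence equals `Z`
    have hsub : Z ⊆ closure {z'} := by
      rw [← hz.def]
      exact closure_minimal (Set.singleton_subset_iff.mpr hz'1.mem_closure) isClosed_closure
    have heq : closure {z'} = Z :=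
      (hZ.2 (isIrreducible_singleton.closure) hsub).antisymm hsub |>.symm ▸ rfl
    have hgen' : IsGenericPoint z' Z := heq
    have : z' = z := hgen'.eq hz
    exact hz'2 (this ▸ hcl)
  · intro h x hx
    apply isUnivOpenAt_of_dvrCond
    intro A _ _ _ g hg x' hx' hcl
    have hZ := irreducibleComponent_mem_irreducibleComponents x'
    have hx'Z : x' ∈ irreducibleComponent x' := mem_irreducibleComponent
    have hD := h A g (by rw [hg, hx]) _ hZ
    obtain ⟨_, ⟨t, htZ, rfl⟩, ht⟩ := exists_ne_closedPoint_of_dense _ hD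
    obtain ⟨z, hz⟩ := QuasiSober.sober hZ.1 (isClosed_of_mem_irreducibleComponents _ hZ)
    have hzt : z ⤳ t := hz.specializes htZ
    have hzx' : z ⤳ x' := hz.specializes hx'Z
    refine ⟨z, hzx', ?_⟩
    intro hcon
    have h1 : (pullback.snd f g).base z ⤳ (pullback.snd f g).base t :=
      hzt.map (pullback.snd f g).continuous
    rw [hcon] at h1
    have h2 : (IsLocalRing.closedPoint A).asIdeal ≤ ((pullback.snd f g).base t).asIdeal :=
      (PrimeSpectrum.le_iff_specializes _ _).mpr h1
    have hbot := asIdeal_eq_bot_of_ne_closedPoint _ ht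
    rw [hbot] at h2
    have : (⊥ : Ideal A) = IsLocalRing.maximalIdeal A := (le_bot_iff.mp h2).symm
    exact IsDiscreteValuationRing.not_a_field A this.symm

theorem universallyOpen_iff_dense {X Y : Scheme.{u}} [IsLocallyNoetherian Y]
    (f : X ⟶ Y) [LocallyOfFiniteType f] :
    UniversallyOpen f ↔
      ∀ (A : Type u) [CommRing A] [IsDomain A] [IsDiscreteValuationRing A]
        (g : Spec (CommRingCat.of A) ⟶ Y),
        ∀ Z ∈ irreducibleComponents (↥(pullback f g) : Type u),
          Dense ((pullback.snd f g).base '' Z) := by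
  rw [universallyOpen_iff_forall_isUnivOpenAt]
  constructor
  · intro h A _ _ _ g Z hZ
    exact (forall_isUnivOpenAt_fibre_iff_dense f (g.base (IsLocalRing.closedPoint A))).mp
      (fun x _ => h x) A g rfl Z hZ
  · intro h x
    exact (forall_isUnivOpenAt_fibre_iff_dense f (f.base x)).mpr
      (fun A _ _ _ g _ Z hZ => h A g Z hZ) x rfl

end Groth.Agent.Lib.H80DvrUnivOpen
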