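import Mathlib
import Groth.Agent.Lib.H80Chev5
import Groth.Agent.Lib.H56LocDimSch
import Groth.Agent.Lib.H56FibDimSup
import Groth.Agent.Lib.H80DvrUnivOpen
import Groth.Agent.Lib.H80DvrUnivOpen2
import Groth.Agent.Lib.OpenAt45
import Groth.Agent.Lib.GeomUnibranchEquiv96

/-!
# Chevalley's criterion for universal openness (irreducible case)
-/

set_option autoImplicit false
open CategoryTheory AlgebraicGeometry
universe u

namespace Groth.Agent.Lib.H80Chev

open Groth.Agent.Lib.H56LocDim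

/-- A point of `Spec R` specializing to every point has the nilradical as its ideal. -/
theorem asIdeal_eq_nilradical_of_forall_specializes {R : Type*} [CommRing R]
    (ν : PrimeSpectrum R) (hν : ∀ Q, ν ⤳ Q) : ν.asIdeal = nilradical R := by
  apply le_antisymm
  · rw [nilradical_eq_sInf]
    refine le_sInf fun J hJ => ?_
    exact (PrimeSpectrum.le_iff_specializes ν ⟨J, hJ⟩).mpr (hν ⟨J, hJ⟩)
  · exact nilradical_le_prime _

/-- The point of an affine chart corresponding to the generic point of an irreducible scheme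
specializes to every point. -/
theorem primeIdealOf_genericPoint_specializes {X : Scheme.{u}} [IrreducibleSpace X]
    {U : X.Opens} (hU : IsAffineOpen U) (hξ : genericPoint X ∈ U) (Q : Spec Γ(X, U)) :
    hU.primeIdealOf ⟨genericPoint X, hξ⟩ ⤳ Q := by
  have h1 := hU.fromSpec.isOpenEmbedding.isInducing.specializes_iff
    (x := hU.primeIdealOf ⟨genericPoint X, hξ⟩) (y := Q)
  apply h1.mp
  rw [hU.fromSpec_primeIdealOf ⟨genericPoint X, hξ⟩]
  exact genericPoint_specializes _

theorem exists_nat_fibreDimAt_eq {X Y : Scheme.{u}} (f : X ⟶ Y) [LocallyOfFiniteType f] (x : X) :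
    ∃ m : ℕ, FlatMor.fibreDimAt f x = (m : WithBot ℕ∞) := by
  obtain ⟨n, hn⟩ := exists_nat_fibreDimAt_le f x
  have h0 := fibreDimAt_nonneg f x
  generalize FlatMor.fibreDimAt f x = v at hn h0
  induction v using WithBot.recBotCoe with
  | bot => simp at h0
  | coe b =>
    have hb : b ≤ (n : ℕ∞) := by exact_mod_cast hn
    obtain ⟨m, rfl⟩ := ENat.ne_top_iff_exists.mp (ne_top_of_le_ne_top (ENat.natCast_ne_top n) hb)
    exact ⟨m, rfl⟩

/-- **Chevalley's criterion** (EGA IV 14.4.4, irreducible case), pointwise form: if `Y` is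
geometrically unibranch at `f x`, `f` is dominant and locally of finite type between irreducible
schemes, and the local fibre dimension at `x` is at most the local fibre dimension at the generic
point, then `f` is universally open at `x`. -/
theorem isUnivOpenAt_of_fibreDimAt_le {X Y : Scheme.{u}} [IrreducibleSpace X]
    [IrreducibleSpace Y] (f : X ⟶ Y) [LocallyOfFiniteType f] [IsDominant f] (x : X)
    (hY : CAlg2.IsGeomUnibranch (Y.presheaf.stalk (f x)))
    (h : FlatMor.fibreDimAt f x ≤ FlatMor.fibreDimAt f (genericPoint X)) :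
    EGA43.IsUnivOpenAt f x := by
  obtain ⟨_, ⟨V, hV, rfl⟩, hfxV, -⟩ := Y.isBasis_affineOpens.exists_subset_of_mem_open
    (Set.mem_univ (f x)) isOpen_univ
  have hxV : x ∈ f ⁻¹ᵁ V := hfxV
  obtain ⟨_, ⟨U, hU, rfl⟩, hxU, hUV⟩ := X.isBasis_affineOpens.exists_subset_of_mem_open
    hxV (f ⁻¹ᵁ V).isOpen
  replace hV : IsAffineOpen V := hV
  replace hU : IsAffineOpen U := hU
  have e : U ≤ f ⁻¹ᵁ V := hUV
  apply Groth.Agent.Lib.H80DvrUnivOpen.isUnivOpenAt_of_chart f x hU hV e hxU
  -- generic points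
  have hξU : genericPoint X ∈ U := (genericPoint_specializes x).mem_open U.isOpen hxU
  have hηV : genericPoint Y ∈ V := (genericPoint_specializes (f x)).mem_open V.isOpen hfxV
  have hfξ : f (genericPoint X) = genericPoint Y := by
    have h1 : IsGenericPoint (f (genericPoint X)) (Set.univ : Set Y) := by
      have := (genericPoint_spec X).image f.continuous
      rwa [Set.image_univ, f.denseRange.closure_range] at this
    exact h1.eq (genericPoint_spec Y)
  -- ring-level data
  have hsq : ∀ t : Spec Γ(X, U), hV.fromSpec.base ((Spec.map (f.appLE V U e)).base t) =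
      f.base (hU.fromSpec.base t) := fun t =>
    (Groth.Agent.Lib.OpenAt45.map_fromSpec f hU hV e t).symm
  algebraize [(f.appLE V U e).hom]
  have hft : Algebra.FiniteType Γ(Y, V) Γ(X, U) := f.finiteType_appLE hV hU e
  have hp : ∀ (z : X) (hz : z ∈ U), (hV.primeIdealOf ⟨f z, e hz⟩).asIdeal =
      (hU.primeIdealOf ⟨z, hz⟩).asIdeal.comap (algebraMap Γ(Y, V) Γ(X, U)) := by
    intro z hz
    have h1 : hV.fromSpec.base (hV.primeIdealOf ⟨f z, e hz⟩) =
        hV.fromSpec.base ((Spec.map (f.appLE V U e)).base (hU.primeIdealOf ⟨z, hz⟩)) := by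
      rw [hsq, hU.fromSpec_primeIdealOf ⟨z, hz⟩]
      exact hV.fromSpec_primeIdealOf ⟨f z, e hz⟩
    exact congrArg PrimeSpectrum.asIdeal (hV.fromSpec.isOpenEmbedding.injective h1)
  -- the generic points in the charts
  have hνspec := primeIdealOf_genericPoint_specializes hU hξU
  have hηspec := primeIdealOf_genericPoint_specializes hV hηV
  have hCnil : (hV.primeIdealOf ⟨genericPoint Y, hηV⟩).asIdeal = nilradical Γ(Y, V) :=
    asIdeal_eq_nilradical_of_forall_specializes _ hηspec
  have hC : (nilradical Γ(Y, V)).IsPrime := hCnil ▸ (hV.primeIdealOf ⟨genericPoint Y, hηV⟩).isPrime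
  have hνC : (hU.primeIdealOf ⟨genericPoint X, hξU⟩).asIdeal.comap
      (algebraMap Γ(Y, V) Γ(X, U)) = nilradical Γ(Y, V) := by
    rw [← hp (genericPoint X) hξU, ← hCnil]
    congr 3
  -- fibre dimensions
  obtain ⟨m, hm⟩ := exists_nat_fibreDimAt_eq f x
  have hd1 : fibLocDim (PrimeSpectrum.comap (algebraMap Γ(Y, V) Γ(X, U)))
      (hU.primeIdealOf ⟨x, hxU⟩) ≤ (m : WithBot ℕ∞) := by
    have := fibreDimAt_fromSpec f hU hV e (hU.primeIdealOf ⟨x, hxU⟩)
    rw [hU.fromSpec_primeIdealOf ⟨x, hxU⟩] at this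
    rw [← hm, this]
    rfl
  have hd2 : (m : WithBot ℕ∞) ≤ fibLocDim (PrimeSpectrum.comap (algebraMap Γ(Y, V) Γ(X, U)))
      (hU.primeIdealOf ⟨genericPoint X, hξU⟩) := by
    have := fibreDimAt_fromSpec f hU hV e (hU.primeIdealOf ⟨genericPoint X, hξU⟩)
    rw [hU.fromSpec_primeIdealOf ⟨genericPoint X, hξU⟩] at this
    rw [← hm]
    refine h.trans (le_of_eq ?_)
    rw [this]
    rfl
  -- geometric unibranchness
  let _ := Y.presheaf.algebra_section_stalk ⟨f x, hfxV⟩
  have hloc := hV.isLocalization_stalk ⟨f x, hfxV⟩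
  have hGU1 : CAlg2.IsGeomUnibranch
      (Localization.AtPrime (hV.primeIdealOf ⟨f x, hfxV⟩).asIdeal) :=
    Groth.Agent.Lib.GeomUnibranchEquiv96.isGeomUnibranch_of_ringEquiv
      (IsLocalization.algEquiv (hV.primeIdealOf ⟨f x, hfxV⟩).asIdeal.primeCompl
        (Localization.AtPrime (hV.primeIdealOf ⟨f x, hfxV⟩).asIdeal)
        (Y.presheaf.stalk (f x))).toRingEquiv hY
  have hGU : CAlg2.IsGeomUnibranch (Localization.AtPrime
      ((hU.primeIdealOf ⟨x, hxU⟩).asIdeal.comap (algebraMap Γ(Y, V) Γ(X, U)))) :=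
    (Groth.Agent.Lib.H80PolyGU.isGeomUnibranch_atPrime_congr (hp x hxU)).mp hGU1
  exact isUnivOpenAt_of_fibLocDim Γ(Y, V) Γ(X, U) hC
    (hU.primeIdealOf ⟨genericPoint X, hξU⟩) hνspec hνC (hU.primeIdealOf ⟨x, hxU⟩) m hd1 hd2 hGU

/-- **Chevalley's criterion** (EGA IV 14.4.4), irreducible case. -/
theorem universallyOpen_of_fibreDimAt_le {X Y : Scheme.{u}} [IrreducibleSpace X]
    [IrreducibleSpace Y] (f : X ⟶ Y) [LocallyOfFiniteType f] [IsDominant f]
    (hY : ∀ y : Y, CAlg2.IsGeomUnibranch (Y.presheaf.stalk y))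
    (h : ∀ x : X, FlatMor.fibreDimAt f x ≤ FlatMor.fibreDimAt f (genericPoint X)) :
    UniversallyOpen f := by
  rw [Groth.Agent.Lib.H80DvrUnivOpen.universallyOpen_iff_forall_isUnivOpenAt]
  intro x
  exact isUnivOpenAt_of_fibreDimAt_le f x (hY (f x)) (h x)

end Groth.Agent.Lib.H80Chev
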