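import Mathlib
import Groth.Agent.Lib.TopKrullDim

/-!
# Topological lemmas on irreducible components and dimension
-/

set_option autoImplicit false
universe u

open TopologicalSpace Topology

namespace Groth.Agent.Lib.H80Equi

variable {X : Type*} [TopologicalSpace X]

/-- Every irreducible set is contained in an irreducible component. -/
theorem exists_irreducibleComponent_superset (s : Set X) (hs : IsIrreducible s) :
    ∃ T ∈ irreducibleComponents X, s ⊆ T := by
  obtain ⟨t, ht, hst, hmax⟩ := exists_preirreducible s hs.isPreirreducible
  have htirr : IsIrreducible t := ⟨hs.nonempty.mono hst, ht⟩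
  refine ⟨t, ⟨htirr, fun u hu htu => ?_⟩, hst⟩
  exact (hmax u hu.isPreirreducible htu).le

/-- If all irreducible components have dimension at most `e`, so does the space. -/
theorem topologicalKrullDim_le_of_forall_irreducibleComponents (e : WithBot ℕ∞)
    (h : ∀ T ∈ irreducibleComponents X, topologicalKrullDim T ≤ e) :
    topologicalKrullDim X ≤ e := by
  unfold topologicalKrullDim Order.krullDim
  refine iSup_le fun p => ?_
  obtain ⟨T, hT, hpT⟩ := exists_irreducibleComponent_superset (p.last : Set X)
    p.last.isIrreducible
  exact (Groth.Agent.Lib.TopKrullDim.length_le_dim_of_last_subset p T hpT).trans (h T hT)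

/-- In a quasi-sober space, the closure of a maximal point is an irreducible component. -/
theorem closure_singleton_mem_irreducibleComponents [QuasiSober X] (ξ : X)
    (hξ : ∀ ζ : X, ζ ⤳ ξ → ξ ⤳ ζ) : closure ({ξ} : Set X) ∈ irreducibleComponents X := by
  refine ⟨isIrreducible_singleton.closure, fun T hT hξT => ?_⟩
  obtain ⟨ζ, hζ⟩ := QuasiSober.sober hT.closure isClosed_closure
  have h1 : ξ ∈ closure T := subset_closure (hξT (subset_closure rfl))
  have h2 : ζ ⤳ ξ := by
    rw [specializes_iff_mem_closure, hζ.def]
    exact h1
  have h3 : ξ ⤳ ζ := hξ ζ h2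
  have h4 : closure T ⊆ closure ({ξ} : Set X) := by
    rw [← hζ.def]
    exact closure_minimal (Set.singleton_subset_iff.mpr (specializes_iff_mem_closure.mp h3))
      isClosed_closure
  exact subset_closure.trans h4

/-- The generic point of an irreducible component is a maximal point. -/
theorem specializes_of_isGenericPoint_of_mem_irreducibleComponents {Z : Set X}
    (hZ : Z ∈ irreducibleComponents X) {ξ : X} (hξ : IsGenericPoint ξ Z) (ζ : X) (h : ζ ⤳ ξ) :
    ξ ⤳ ζ := by
  have h1 : Z ⊆ closure ({ζ} : Set X) := by
    rw [← hξ.def]
    exact closure_minimal (Set.singleton_subset_iff.mpr (specializes_iff_mem_closure.mp h))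
      isClosed_closure
  have h2 : closure ({ζ} : Set X) ⊆ Z := hZ.2 isIrreducible_singleton.closure h1
  rw [specializes_iff_mem_closure, hξ.def]
  exact h2 (subset_closure rfl)

end Groth.Agent.Lib.H80Equi
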