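import Mathlib
import Groth.Prelude.Def_CAlg2
import Groth.Agent.Lib.H80GUOpen4

/-!
# Irreducible affine neighbourhoods of unibranch points
-/

set_option autoImplicit false
open CategoryTheory AlgebraicGeometry
universe u

namespace Groth.Agent.Lib.H80Equi

/-- Ring-level: if `C₀` has finitely many minimal primes and `C₀_p` has prime nilradical, there are
`g ∉ p` and a minimal prime `𝔪₀ ≤ p` contained in every prime not containing `g`. -/
theorem exists_notMem_forall_le {C₀ : Type*} [CommRing C₀] (hfin : (minimalPrimes C₀).Finite)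
    (p : Ideal C₀) [p.IsPrime] (S₀ : Type*) [CommRing S₀] [Algebra C₀ S₀]
    [IsLocalization.AtPrime S₀ p] (hnil : (nilradical S₀).IsPrime) :
    ∃ (g : C₀) (m₀ : Ideal C₀), g ∉ p ∧ m₀ ∈ minimalPrimes C₀ ∧ m₀ ≤ p ∧
      ∀ Q : Ideal C₀, Q.IsPrime → g ∉ Q → m₀ ≤ Q := by
  classical
  obtain ⟨m₀, hm₀, hm₀p⟩ := Ideal.exists_minimalPrimes_le (I := (⊥ : Ideal C₀)) (J := p) bot_le
  have hm₀' : m₀ ∈ minimalPrimes C₀ := hm₀
  have key : ∀ m ∈ minimalPrimes C₀, m ≠ m₀ → ∃ a ∈ m, a ∉ p := by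
    intro m hm hne
    by_contra hcon
    push Not at hcon
    exact hne (Groth.Agent.Lib.H80GUOpen.eq_of_mem_minimalPrimes_of_le p S₀ hnil hm₀' hm₀p hm hcon)
  choose! a ha1 ha2 using key
  let T : Finset (Ideal C₀) := hfin.toFinset.erase m₀
  refine ⟨∏ m ∈ T, a m, m₀, ?_, hm₀', hm₀p, ?_⟩
  · intro hmem
    obtain ⟨m, hmT, hm⟩ := (Ideal.IsPrime.prod_mem_iff).mp hmem
    have hm' := Finset.mem_erase.mp hmT
    exact ha2 m (hfin.mem_toFinset.mp hm'.2) hm'.1 hm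
  · intro Q hQ hgQ
    obtain ⟨m, hm, hmQ⟩ := Ideal.exists_minimalPrimes_le (I := (⊥ : Ideal C₀)) (J := Q) bot_le
    have hm' : m ∈ minimalPrimes C₀ := hm
    by_cases hmm : m = m₀
    · exact hmm ▸ hmQ
    · exfalso
      apply hgQ
      apply hmQ
      have hmT : m ∈ T := Finset.mem_erase.mpr ⟨hmm, hfin.mem_toFinset.mpr hm'⟩
      exact Ideal.mem_of_dvd _ (Finset.dvd_prod_of_mem a hmT) (ha1 m hm' hmm)

end Groth.Agent.Lib.H80Equi

namespace Groth.Agent.Lib.H80Equi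

/-- A point of a locally Noetherian scheme whose local ring has prime nilradical has an affine
open neighbourhood with a generic point. -/
theorem exists_irreducible_affine_nhd {Y : Scheme.{u}} [IsLocallyNoetherian Y] (y : Y)
    (hnil : (nilradical (Y.presheaf.stalk y)).IsPrime) :
    ∃ V : Y.Opens, IsAffineOpen V ∧ y ∈ V ∧ ∃ η ∈ V, ∀ z ∈ V, η ⤳ z := by
  obtain ⟨_, ⟨V₀, hV₀, rfl⟩, hyV₀, -⟩ := Y.isBasis_affineOpens.exists_subset_of_mem_open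
    (Set.mem_univ y) isOpen_univ
  replace hV₀ : IsAffineOpen V₀ := hV₀
  have hnoeth : IsNoetherianRing Γ(Y, V₀) := IsLocallyNoetherian.component_noetherian ⟨V₀, hV₀⟩
  have hfin : (minimalPrimes Γ(Y, V₀)).Finite := minimalPrimes.finite_of_isNoetherianRing _
  let _ := Y.presheaf.algebra_section_stalk ⟨y, hyV₀⟩
  have hloc := hV₀.isLocalization_stalk ⟨y, hyV₀⟩
  obtain ⟨g, m₀, hgp, hm₀, hm₀p, hQ⟩ := exists_notMem_forall_le hfin
    (hV₀.primeIdealOf ⟨y, hyV₀⟩).asIdeal (Y.presheaf.stalk y) hnil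
  have hm₀prime : m₀.IsPrime := hm₀.1.1
  have hmem : ∀ Q : Spec Γ(Y, V₀), hV₀.fromSpec Q ∈ Y.basicOpen g ↔ g ∉ Q.asIdeal := by
    intro Q
    have h1 : hV₀.fromSpec Q ∈ Y.basicOpen g ↔ Q ∈ hV₀.fromSpec ⁻¹ᵁ (Y.basicOpen g) := Iff.rfl
    rw [h1, hV₀.fromSpec_preimage_basicOpen]
    rfl
  refine ⟨Y.basicOpen g, hV₀.basicOpen g, ?_, hV₀.fromSpec ⟨m₀, hm₀prime⟩, ?_, ?_⟩
  · have h1 := (hmem (hV₀.primeIdealOf ⟨y, hyV₀⟩)).mpr hgp
    rw [hV₀.fromSpec_primeIdealOf ⟨y, hyV₀⟩] at h1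
    exact h1
  · exact (hmem _).mpr (fun h => hgp (hm₀p h))
  · intro z hz
    have hzV₀ : z ∈ V₀ := Y.basicOpen_le g hz
    have hz' : hV₀.fromSpec (hV₀.primeIdealOf ⟨z, hzV₀⟩) = z :=
      hV₀.fromSpec_primeIdealOf ⟨z, hzV₀⟩
    rw [← hz'] at hz ⊢
    have hgz := (hmem _).mp hz
    have hle : m₀ ≤ (hV₀.primeIdealOf ⟨z, hzV₀⟩).asIdeal := hQ _ inferInstance hgz
    have hsp : (⟨m₀, hm₀prime⟩ : PrimeSpectrum Γ(Y, V₀)) ⤳ hV₀.primeIdealOf ⟨z, hzV₀⟩ :=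
      (PrimeSpectrum.le_iff_specializes _ _).mp hle
    exact hsp.map hV₀.fromSpec.continuous

end Groth.Agent.Lib.H80Equi
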