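import Mathlib
import Groth.Agent.Lib.H80PolyGU5
import Groth.Agent.Lib.GeomUnibranchEquiv96

/-!
# Affine space over a scheme is geometrically unibranch over geometrically unibranch points

Scheme-level version of `isGeomUnibranch_atPrime_mvPolynomial_of_finite`.
-/

set_option autoImplicit false
open CategoryTheory AlgebraicGeometry
universe u

namespace Groth.Agent.Lib.H80PolyGU

open Groth.Agent.Lib.GeomUnibranchEquiv96

/-- The stalk of `Spec R` at `p` is geometrically unibranch iff `R_p` is. -/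
theorem isGeomUnibranch_stalk_Spec_iff (R : CommRingCat.{u}) (p : Spec R) :
    CAlg2.IsGeomUnibranch ((Spec R).presheaf.stalk p) ↔
      CAlg2.IsGeomUnibranch (Localization.AtPrime p.asIdeal) := by
  let _ : Algebra R ((Spec R).presheaf.stalk p) := StructureSheaf.stalkAlgebra (R := R) p
  have h : IsLocalization.AtPrime ((Spec R).presheaf.stalk p) p.asIdeal :=
    StructureSheaf.IsLocalization.to_stalk (R := R) p
  exact isGeomUnibranch_iff_of_ringEquiv
    (IsLocalization.algEquiv p.asIdeal.primeCompl ((Spec R).presheaf.stalk p)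
      (Localization.AtPrime p.asIdeal)).toRingEquiv

/-- Open immersions preserve and reflect geometric unibranchness of stalks. -/
theorem isGeomUnibranch_stalk_iff_of_isOpenImmersion {X Y : Scheme.{u}} (f : X ⟶ Y)
    [IsOpenImmersion f] (x : X) :
    CAlg2.IsGeomUnibranch (Y.presheaf.stalk (f x)) ↔
      CAlg2.IsGeomUnibranch (X.presheaf.stalk x) :=
  isGeomUnibranch_iff_of_ringEquiv (asIso (f.stalkMap x)).commRingCatIsoToRingEquiv

theorem isGeomUnibranch_stalk_congr {X : Scheme.{u}} {a b : X} (h : a = b) :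
    CAlg2.IsGeomUnibranch (X.presheaf.stalk a) ↔ CAlg2.IsGeomUnibranch (X.presheaf.stalk b) := by
  subst h
  rfl

open AffineSpace in
/-- `𝔸ⁿ_Y` is geometrically unibranch at every point lying over a geometrically unibranch
point of `Y`. -/
theorem isGeomUnibranch_stalk_affineSpace {Y : Scheme.{u}} (σ : Type u) [Finite σ]
    (y' : 𝔸(σ; Y))
    (hy : CAlg2.IsGeomUnibranch (Y.presheaf.stalk ((𝔸(σ; Y) ↘ Y) y'))) :
    CAlg2.IsGeomUnibranch ((𝔸(σ; Y)).presheaf.stalk y') := by
  obtain ⟨_, ⟨V, hV, rfl⟩, hyV, -⟩ := Y.isBasis_affineOpens.exists_subset_of_mem_open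
    (Set.mem_univ ((𝔸(σ; Y) ↘ Y) y')) isOpen_univ
  replace hV : IsAffineOpen V := hV
  obtain ⟨K, hKdef⟩ : ∃ K : Spec (.of (MvPolynomial σ Γ(Y, V))) ⟶ 𝔸(σ; Y),
      K = (AffineSpace.SpecIso σ Γ(Y, V)).inv ≫ AffineSpace.map σ hV.fromSpec := ⟨_, rfl⟩
  have hmap : IsOpenImmersion (AffineSpace.map σ hV.fromSpec) :=
    MorphismProperty.of_isPullback (P := @IsOpenImmersion)
      (AffineSpace.isPullback_map hV.fromSpec).flip inferInstance
  have hK : IsOpenImmersion K := by
    rw [hKdef]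
    infer_instance
  have hKover : K ≫ (𝔸(σ; Y) ↘ Y) =
      Spec.map (CommRingCat.ofHom MvPolynomial.C) ≫ hV.fromSpec := by
    rw [hKdef, Category.assoc, AffineSpace.map_over, AffineSpace.SpecIso_inv_over_assoc]
  -- `y'` is in the range of `K`
  obtain ⟨P₀, rfl⟩ : ∃ P₀, K P₀ = y' := by
    obtain ⟨z, hz⟩ : ∃ z, hV.fromSpec z = (𝔸(σ; Y) ↘ Y) y' := by
      have : (𝔸(σ; Y) ↘ Y) y' ∈ Set.range hV.fromSpec := by
        rw [hV.range_fromSpec]
        exact hyV
      exact this
    obtain ⟨w, hw1, -⟩ := Scheme.exists_preimage_of_isPullback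
      (AffineSpace.isPullback_map (n := σ) hV.fromSpec) y' z hz.symm
    refine ⟨(AffineSpace.SpecIso σ Γ(Y, V)).hom w, ?_⟩
    rw [hKdef, ← Scheme.Hom.comp_apply, Iso.hom_inv_id_assoc]
    exact hw1
  rw [isGeomUnibranch_stalk_iff_of_isOpenImmersion K P₀, isGeomUnibranch_stalk_Spec_iff]
  apply isGeomUnibranch_atPrime_mvPolynomial_of_finite
  have h1 : (𝔸(σ; Y) ↘ Y) (K P₀) =
      hV.fromSpec (Spec.map (CommRingCat.ofHom (MvPolynomial.C (σ := σ))) P₀) := by
    rw [← Scheme.Hom.comp_apply, hKover]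
    rfl
  rw [isGeomUnibranch_stalk_congr h1, isGeomUnibranch_stalk_iff_of_isOpenImmersion hV.fromSpec,
    isGeomUnibranch_stalk_Spec_iff] at hy
  exact hy

end Groth.Agent.Lib.H80PolyGU
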