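import Mathlib

/-!
# helper80: isolated points of fibres

* `isOpen_singleton_of_noetherian_nhd` : in a quasi-sober space, a closed point with a Noetherian open
  neighbourhood and no proper generization is an open point.
* `isOpen_singleton_of_isLocallyNoetherian` : the same in a locally Noetherian scheme.
* `quasiFiniteAt_of_closed_of_maximal` : a morphism locally of finite type is quasi-finite at a point which is
  both closed and maximal in its fibre.
* `irreducibleSpace_of_forall_specializes` : a space with a point specializing to every point is irreducible.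
-/

set_option autoImplicit false
universe u
open CategoryTheory AlgebraicGeometry TopologicalSpace

namespace Groth.Agent.Lib.H80QuasiSec

theorem irreducibleSpace_of_forall_specializes {T : Type*} [TopologicalSpace T] (ζ : T)
    (h : ∀ z : T, ζ ⤳ z) : IrreducibleSpace T := by
  have h1 : closure ({ζ} : Set T) = Set.univ := by
    ext z
    simp only [Set.mem_univ, iff_true]
    exact specializes_iff_mem_closure.mp (h z)
  have h2 : IsIrreducible (Set.univ : Set T) := h1 ▸ isIrreducible_singleton.closure
  exact { isPreirreducible_univ := h2.2, toNonempty := ⟨ζ⟩ }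

theorem isOpen_singleton_of_noetherianSpace {N : Type*} [TopologicalSpace N] [QuasiSober N]
    [NoetherianSpace N] (a : N) (h1 : IsClosed ({a} : Set N)) (h2 : ∀ z : N, z ⤳ a → z = a) :
    IsOpen ({a} : Set N) := by
  classical
  have hfin : (irreducibleComponents N).Finite := NoetherianSpace.finite_irreducibleComponents
  have hfin' : (irreducibleComponents N \ {{a}}).Finite := hfin.subset Set.sdiff_subset
  have hcl : IsClosed (⋃₀ (irreducibleComponents N \ {{a}})) := by
    rw [Set.sUnion_eq_biUnion]
    exact hfin'.isClosed_biUnion fun C hC => isClosed_of_mem_irreducibleComponents C hC.1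
  have heq : ⋃₀ (irreducibleComponents N \ {{a}}) = ({a} : Set N)ᶜ := by
    ext z
    simp only [Set.mem_sUnion, Set.mem_sdiff, Set.mem_singleton_iff, Set.mem_compl_iff]
    constructor
    · rintro ⟨C, ⟨hC, hCa⟩, hzC⟩ rfl
      obtain ⟨ξ, hξ⟩ := QuasiSober.sober hC.1 (isClosed_of_mem_irreducibleComponents C hC)
      have hξz : ξ ⤳ z := by
        rw [specializes_iff_mem_closure, hξ.def]; exact hzC
      have := h2 ξ hξz
      subst this
      apply hCa
      rw [← hξ.def, h1.closure_eq]
    · intro hz
      refine ⟨irreducibleComponent z, ⟨irreducibleComponent_mem_irreducibleComponents z, ?_⟩,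
        mem_irreducibleComponent⟩
      intro h
      have : z ∈ ({a} : Set N) := h ▸ mem_irreducibleComponent
      exact hz this
  rw [heq] at hcl
  exact isClosed_compl_iff.mp hcl

theorem isOpen_singleton_of_isLocallyNoetherian {F : Scheme.{u}} [IsLocallyNoetherian F] (a : F)
    (h1 : ∀ z : F, a ⤳ z → z = a) (h2 : ∀ z : F, z ⤳ a → z = a) : IsOpen ({a} : Set F) := by
  obtain ⟨_, ⟨U, hU, rfl⟩, haU, -⟩ := F.isBasis_affineOpens.exists_subset_of_mem_open
    (Set.mem_univ a) isOpen_univ
  replace hU : IsAffineOpen U := hU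
  have : IsNoetherianRing Γ(F, U) := IsLocallyNoetherian.component_noetherian ⟨U, hU⟩
  have hN : NoetherianSpace U := noetherianSpace_of_isAffineOpen U hU
  have hQ : QuasiSober U := U.isOpenEmbedding'.quasiSober
  have hcl : IsClosed ({a} : Set F) := by
    rw [← closure_eq_iff_isClosed]
    ext z
    rw [← specializes_iff_mem_closure, Set.mem_singleton_iff]
    exact ⟨h1 z, fun h => h ▸ specializes_rfl⟩
  have hopen : IsOpen ({⟨a, haU⟩} : Set U) := by
    apply isOpen_singleton_of_noetherianSpace
    · have : ({⟨a, haU⟩} : Set U) = Subtype.val ⁻¹' ({a} : Set F) := by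
        ext z
        simp only [Set.mem_singleton_iff]
        exact Subtype.ext_iff
      rw [this]
      exact hcl.preimage continuous_subtype_val
    · intro z hz
      have := h2 z.1 ((subtype_specializes_iff z ⟨a, haU⟩).mp hz)
      exact Subtype.ext this
  have := U.isOpenEmbedding'.isOpenMap _ hopen
  have e : (Subtype.val '' ({⟨a, haU⟩} : Set U)) = ({a} : Set F) := by
    ext z
    constructor
    · rintro ⟨w, hw, rfl⟩
      have hw' : w = ⟨a, haU⟩ := hw
      exact (congrArg Subtype.val hw' : (w : F) = a)
    · intro hz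
      have hz' : z = a := hz
      exact ⟨⟨a, haU⟩, rfl, hz'.symm⟩
  exact e ▸ this

set_option backward.isDefEq.respectTransparency false in
theorem locallyOfFiniteType_fiberToSpecResidueField {T Y : Scheme.{u}} (g : T ⟶ Y)
    [LocallyOfFiniteType g] (y : Y) : LocallyOfFiniteType (g.fiberToSpecResidueField y) := by
  dsimp [Scheme.Hom.fiberToSpecResidueField]
  infer_instance

theorem quasiFiniteAt_of_closed_of_maximal {T Y : Scheme.{u}} (g : T ⟶ Y) [LocallyOfFiniteType g]
    (x₀ : T) (h1 : ∀ z : T, g z = g x₀ → x₀ ⤳ z → z = x₀)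
    (h2 : ∀ z : T, g z = g x₀ → z ⤳ x₀ → z = x₀) : g.QuasiFiniteAt x₀ := by
  rw [Scheme.Hom.quasiFiniteAt_iff_isOpen_singleton_asFiber]
  have hlft : LocallyOfFiniteType (g.fiberToSpecResidueField (g x₀)) :=
    locallyOfFiniteType_fiberToSpecResidueField g (g x₀)
  have hN : IsLocallyNoetherian (g.fiber (g x₀)) :=
    LocallyOfFiniteType.isLocallyNoetherian (g.fiberToSpecResidueField (g x₀))
  have key : ∀ z : g.fiber (g x₀), (g.asFiber x₀ ⤳ z ∨ z ⤳ g.asFiber x₀) → z = g.asFiber x₀ := by
    intro z hz
    have hz' : (g.fiberHomeo (g x₀)) (g.asFiber x₀) ⤳ (g.fiberHomeo (g x₀)) z ∨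
        (g.fiberHomeo (g x₀)) z ⤳ (g.fiberHomeo (g x₀)) (g.asFiber x₀) :=
      hz.imp (fun h => h.map (g.fiberHomeo (g x₀)).continuous)
        (fun h => h.map (g.fiberHomeo (g x₀)).continuous)
    have ha : (g.fiberHomeo (g x₀)) (g.asFiber x₀) = ⟨x₀, rfl⟩ := by
      simp [Scheme.Hom.asFiber]
    rw [ha, subtype_specializes_iff, subtype_specializes_iff] at hz'
    have hgz : g ((g.fiberHomeo (g x₀)) z).1 = g x₀ := ((g.fiberHomeo (g x₀)) z).2
    have hzx : ((g.fiberHomeo (g x₀)) z).1 = x₀ := by
      rcases hz' with h | h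
      · exact h1 _ hgz h
      · exact h2 _ hgz h
    apply (g.fiberHomeo (g x₀)).injective
    rw [ha]
    exact Subtype.ext hzx
  exact isOpen_singleton_of_isLocallyNoetherian _ (fun z hz => key z (Or.inl hz))
    (fun z hz => key z (Or.inr hz))

end Groth.Agent.Lib.H80QuasiSec
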