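import Mathlib
import Groth.Agent.Lib.H80Equi1
import Groth.Agent.Lib.H80Equi2
import Groth.Agent.Lib.H80Chev6
import Groth.Agent.Lib.H80PolyGU6
import Groth.Agent.Lib.H69RedInduced
import Groth.Agent.Lib.H56FibDimGen
import Groth.Agent.Lib.H80QuasiSec3

/-!
# Chevalley's criterion: equidimensional morphisms over geometrically unibranch bases are
universally open (EGA IV 14.4.4)
-/

set_option autoImplicit false
open CategoryTheory AlgebraicGeometry Limits TopologicalSpace
universe u

namespace Groth.Agent.Lib.H80Equi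

open Groth.Agent.Lib.H56LocDim Groth.Agent.Lib.UnivOpenAt

/-- If `j ≫ f` is universally open at `u`, then `f` is universally open at `j u`. -/
theorem isUnivOpenAt_of_comp {U X Y : Scheme.{u}} (j : U ⟶ X)
    (f : X ⟶ Y) (u : U) (h : EGA43.IsUnivOpenAt (j ≫ f) u) : EGA43.IsUnivOpenAt f (j.base u) := by
  intro Y' g x' hx'
  have sqX : IsPullback (pullback.fst f g) (pullback.snd f g) f g := IsPullback.of_hasPullback f g
  have sqj : IsPullback (pullback.fst j (pullback.fst f g)) (pullback.snd j (pullback.fst f g))
      j (pullback.fst f g) := IsPullback.of_hasPullback _ _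
  have big : IsPullback (pullback.fst j (pullback.fst f g))
      (pullback.snd j (pullback.fst f g) ≫ pullback.snd f g) (j ≫ f) g :=
    sqj.paste_vert sqX
  obtain ⟨p, hp1, hp2⟩ := Scheme.exists_preimage_of_isPullback sqj u x' hx'.symm
  have h1 : EGA43.IsOpenAt (pullback.snd j (pullback.fst f g) ≫ pullback.snd f g).base p :=
    isOpenAt_snd_of_isPullback big h p hp1
  have := Groth.Agent.Lib.H80UnivOpenPoly.isOpenAt_of_comm_square
    (pullback.snd j (pullback.fst f g)).base
    (pullback.snd j (pullback.fst f g) ≫ pullback.snd f g).base (id : Y' → Y')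
    (pullback.snd f g).base (fun t => rfl) (pullback.snd j (pullback.fst f g)).continuous
    IsOpenMap.id p h1
  rw [hp2] at this
  exact this

theorem isUnivOpenAt_of_subscheme {X Y Z : Scheme.{u}} (V : Y.Opens) (f : X ⟶ Y) (j : Z ⟶ X)
    (g : Z ⟶ V) (hg : g ≫ V.ι = j ≫ f) (z : Z) (h : EGA43.IsUnivOpenAt g z) :
    EGA43.IsUnivOpenAt f (j.base z) := by
  have h1 := Groth.Agent.Lib.H80Chev.isUnivOpenAt_comp_of_universallyOpen g V.ι z h
  rw [hg] at h1
  exact isUnivOpenAt_of_comp j f z h1

/-- A space embedded onto the closure of a point is irreducible, with the preimage of that point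
as generic point. -/
theorem forall_specializes_of_range_eq_closure {Z T : Type*} [TopologicalSpace Z]
    [TopologicalSpace T] (ι : Z → T) (hι : Topology.IsInducing ι) (ξZ : Z)
    (hr : Set.range ι ⊆ closure {ι ξZ}) (z : Z) : ξZ ⤳ z := by
  rw [← hι.specializes_iff, specializes_iff_mem_closure]
  exact hr ⟨z, rfl⟩

end Groth.Agent.Lib.H80Equi
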