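import Mathlib
import Groth.Agent.Lib.H80Equi3

/-!
# Chevalley's criterion: equidimensional morphisms over geometrically unibranch bases are
universally open (EGA IV 14.4.4), main argument
-/

set_option autoImplicit false
open CategoryTheory AlgebraicGeometry Limits TopologicalSpace
universe u

namespace Groth.Agent.Lib.H80Equi

open Groth.Agent.Lib.H56LocDim Groth.Agent.Lib.UnivOpenAt Groth.Agent.Lib.H69RedInduced

theorem isUnivOpenAt_of_isEquidimAt {X Y : Scheme.{u}} [IsLocallyNoetherian Y] (f : X ⟶ Y)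
    [LocallyOfFiniteType f] (x : X)
    (hY : CAlg2.IsGeomUnibranch (Y.presheaf.stalk (f x))) (h : EGA43.IsEquidimAt f x) :
    EGA43.IsUnivOpenAt f x := by
  obtain ⟨e, U₀, hxU₀, hcomp, hfib⟩ := h
  have hnil : (nilradical (Y.presheaf.stalk (f x))).IsPrime :=
    (Ideal.Quotient.isDomain_iff_prime _).1 hY.1.1
  obtain ⟨V, hV, hyV, η, hηV, hη⟩ := exists_irreducible_affine_nhd (f x) hnil
  -- the generic point of a component of `U₀` through `x`
  obtain ⟨x₀, hx₀⟩ : ∃ x₀ : ↥U₀, x₀ = ⟨x, hxU₀⟩ := ⟨_, rfl⟩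
  have hqs : QuasiSober ↥U₀ := U₀.isOpen.isOpenEmbedding_subtypeVal.quasiSober
  obtain ⟨ξ₀, hξ₀⟩ := QuasiSober.sober (isIrreducible_irreducibleComponent (x := x₀))
    isClosed_irreducibleComponent
  have hξ₀x₀ : ξ₀ ⤳ x₀ := by
    rw [specializes_iff_mem_closure, hξ₀.def]
    exact mem_irreducibleComponent
  have hξ₀max : ∀ ζ : ↥U₀, ζ ⤳ ξ₀ → ξ₀ ⤳ ζ :=
    specializes_of_isGenericPoint_of_mem_irreducibleComponents
      (irreducibleComponent_mem_irreducibleComponents x₀) hξ₀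
  obtain ⟨ξ, hξ⟩ : ∃ ξ : X, ξ = ξ₀.1 := ⟨_, rfl⟩
  have hξx : ξ ⤳ x := by
    have := hξ₀x₀.map continuous_subtype_val
    rw [hx₀] at this
    rw [hξ]
    exact this
  have hξU₀ : ξ ∈ U₀ := hξ ▸ ξ₀.2
  have hfξV : f ξ ∈ V := (hξx.map f.continuous).mem_open V.isOpen hyV
  -- `f ξ = η`
  have hfξ : f ξ = η := by
    obtain ⟨W, hW, -, hWcl⟩ := hcomp _ (irreducibleComponent_mem_irreducibleComponents x₀)
    have hc : Continuous (fun t : ↥U₀ => f t.1) := f.continuous.comp continuous_subtype_val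
    have hWcl' : closure ((fun t : ↥U₀ => f t.1) '' irreducibleComponent x₀) = W := hWcl
    have h1 : closure ({f ξ} : Set Y) = W := by
      rw [← hWcl', ← hξ₀.def, closure_image_closure hc, Set.image_singleton, hξ]
    have h2 : η ⤳ f ξ := hη _ hfξV
    have h3 : W ⊆ closure ({η} : Set Y) := by
      rw [← h1]
      exact closure_minimal (Set.singleton_subset_iff.mpr (specializes_iff_mem_closure.mp h2))
        isClosed_closure
    have h4 : closure ({η} : Set Y) ⊆ W := hW.2 isIrreducible_singleton.closure h3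
    have h5 : f ξ ⤳ η := by
      rw [specializes_iff_mem_closure, h1]
      exact h4 (subset_closure rfl)
    exact (h5.antisymm h2).eq
  -- the open `U₁` and the closed subscheme `Z`
  obtain ⟨U₁, hU₁⟩ : ∃ U₁ : X.Opens, U₁ = U₀ ⊓ f ⁻¹ᵁ V := ⟨_, rfl⟩
  have hU₁U₀ : U₁ ≤ U₀ := hU₁ ▸ inf_le_left
  have hU₁V : U₁ ≤ f ⁻¹ᵁ V := hU₁ ▸ inf_le_right
  have hxU₁ : x ∈ U₁ := hU₁ ▸ ⟨hxU₀, hyV⟩
  have hξU₁ : ξ ∈ U₁ := hU₁ ▸ ⟨hξU₀, hfξV⟩
  have hptU₁ : ∀ t : X, t ∈ U₁ → ∃ t₁ : (U₁ : Scheme.{u}), U₁.ι t₁ = t := by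
    intro t ht
    have : t ∈ Set.range U₁.ι := by rw [Scheme.Opens.range_ι]; exact ht
    exact this
  have hU₁pt : ∀ t₁ : (U₁ : Scheme.{u}), U₁.ι t₁ ∈ U₁ := by
    intro t₁
    have : U₁.ι t₁ ∈ Set.range U₁.ι := ⟨t₁, rfl⟩
    rwa [Scheme.Opens.range_ι] at this
  obtain ⟨ξ₁, hξ₁⟩ := hptU₁ ξ hξU₁
  obtain ⟨S, hS⟩ : ∃ S : Closeds (U₁ : Scheme.{u}), (S : Set (U₁ : Scheme.{u})) = closure {ξ₁} :=
    ⟨⟨closure {ξ₁}, isClosed_closure⟩, rfl⟩
  have hrange : Set.range (redSubι S) = closure {ξ₁} := by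
    rw [range_redSubι, hS]
  have hmemS : ∀ t : X, t ∈ U₁ → ξ ⤳ t → ∃ z : ↥(redSub S), U₁.ι (redSubι S z) = t := by
    intro t ht hsp
    obtain ⟨t₁, ht₁⟩ := hptU₁ t ht
    have h1 : t₁ ∈ Set.range (redSubι S) := by
      rw [hrange, ← specializes_iff_mem_closure]
      apply U₁.ι.isEmbedding.isInducing.specializes_iff.mp
      rw [hξ₁, ht₁]
      exact hsp
    obtain ⟨z, hz⟩ := h1
    exact ⟨z, by rw [hz, ht₁]⟩
  obtain ⟨ξZ, hξZ⟩ := hmemS ξ hξU₁ specializes_rfl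
  obtain ⟨xZ, hxZ⟩ := hmemS x hxU₁ hξx
  obtain ⟨j, hj⟩ : ∃ j : redSub S ⟶ X, j = redSubι S ≫ U₁.ι := ⟨_, rfl⟩
  obtain ⟨g, hg⟩ : ∃ g : redSub S ⟶ V, g = redSubι S ≫ f.resLE V U₁ hU₁V := ⟨_, rfl⟩
  have hgj : g ≫ V.ι = j ≫ f := by
    rw [hg, hj, Category.assoc, Category.assoc, Scheme.Hom.resLE_comp_ι]
  have hjξZ : j ξZ = ξ := by
    rw [hj, Scheme.Hom.comp_apply, hξZ]
  have hjxZ : j xZ = x := by
    rw [hj, Scheme.Hom.comp_apply, hxZ]
  have hgpt : ∀ z : ↥(redSub S), V.ι (g z) = f (j z) := by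
    intro z
    have := congrArg (fun k : redSub S ⟶ Y => k.base z) hgj
    simpa using this
  have hVpt : ∀ t₁ : (V : Scheme.{u}), V.ι t₁ ∈ V := by
    intro t₁
    have : V.ι t₁ ∈ Set.range V.ι := ⟨t₁, rfl⟩
    rwa [Scheme.Opens.range_ι] at this
  obtain ⟨ηV, hηV'⟩ : ∃ ηV : (V : Scheme.{u}), V.ι ηV = η := by
    have : η ∈ Set.range V.ι := by rw [Scheme.Opens.range_ι]; exact hηV
    exact this
  have hηVspec : ∀ z : (V : Scheme.{u}), ηV ⤳ z := by
    intro z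
    apply V.ι.isEmbedding.isInducing.specializes_iff.mp
    rw [hηV']
    exact hη _ (hVpt z)
  -- specializations in `Z`
  have hξZ' : redSubι S ξZ = ξ₁ := by
    apply U₁.ι.isEmbedding.injective
    rw [hξZ, hξ₁]
  have hξZspec : ∀ z : ↥(redSub S), ξZ ⤳ z := by
    apply forall_specializes_of_range_eq_closure (redSubι S) (redSubι S).isEmbedding.isInducing
    rw [hξZ', hrange]
  have hjspec : ∀ z : ↥(redSub S), ξ ⤳ j z := fun z => hjξZ ▸ (hξZspec z).map j.continuous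
  have hirrZ : IrreducibleSpace ↥(redSub S) :=
    Groth.Agent.Lib.H80QuasiSec.irreducibleSpace_of_forall_specializes ξZ hξZspec
  have hirrV : IrreducibleSpace ↥(V : Scheme.{u}) :=
    Groth.Agent.Lib.H80QuasiSec.irreducibleSpace_of_forall_specializes ηV hηVspec
  have hgenZ : genericPoint ↥(redSub S) = ξZ := by
    have h1 : IsGenericPoint ξZ (Set.univ : Set ↥(redSub S)) := by
      rw [isGenericPoint_def]
      ext z
      simp only [Set.mem_univ, iff_true]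
      exact specializes_iff_mem_closure.mp (hξZspec z)
    exact (genericPoint_spec _).eq h1
  have hgenV : genericPoint ↥(V : Scheme.{u}) = ηV := by
    have h1 : IsGenericPoint ηV (Set.univ : Set ↥(V : Scheme.{u})) := by
      rw [isGenericPoint_def]
      ext z
      simp only [Set.mem_univ, iff_true]
      exact specializes_iff_mem_closure.mp (hηVspec z)
    exact (genericPoint_spec _).eq h1
  have hgξZ : g ξZ = ηV := by
    apply V.ι.isEmbedding.injective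
    rw [hgpt, hjξZ, hfξ, hηV']
  have hdom : IsDominant g := by
    refine ⟨?_⟩
    have h1 : closure ({g ξZ} : Set ↥(V : Scheme.{u})) = Set.univ := by
      rw [hgξZ, ← hgenV]
      exact (genericPoint_spec ↥(V : Scheme.{u})).def
    have h2 : closure ({g ξZ} : Set ↥(V : Scheme.{u})) ⊆ closure (Set.range g) :=
      closure_mono (Set.singleton_subset_iff.mpr ⟨ξZ, rfl⟩)
    rw [DenseRange, dense_iff_closure_eq]
    exact Set.eq_univ_of_univ_subset (h1 ▸ h2)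
  have hlft : LocallyOfFiniteType g := by
    rw [hg]
    infer_instance
  -- geometric unibranchness
  have hGU : CAlg2.IsGeomUnibranch ((V : Scheme.{u}).presheaf.stalk (g xZ)) := by
    rw [← Groth.Agent.Lib.H80PolyGU.isGeomUnibranch_stalk_iff_of_isOpenImmersion V.ι (g xZ)]
    have e1 : V.ι (g xZ) = f x := by
      rw [hgpt, hjxZ]
    exact (Groth.Agent.Lib.H80PolyGU.isGeomUnibranch_stalk_congr e1).mpr hY
  -- embeddings into `X`
  have hjemb : Topology.IsEmbedding j := by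
    rw [hj]
    exact (redSubι S ≫ U₁.ι).isEmbedding
  -- (4a) the fibre dimension at `xZ`
  have h4a : FlatMor.fibreDimAt g xZ ≤ (e : WithBot ℕ∞) := by
    rw [fibreDimAt_eq_fibLocDim]
    refine (fibLocDim_le_dim _ _).trans ?_
    have hβ : Topology.IsEmbedding
        (fun t : ↥((U₀.ι ≫ f).fiber ((U₀.ι ≫ f) x₀)) => U₀.ι (((U₀.ι ≫ f).fiberι _) t)) :=
      U₀.ι.isEmbedding.comp ((U₀.ι ≫ f).fiberι _).isEmbedding
    have h1 : topologicalKrullDim ↥(g ⁻¹' {g xZ}) ≤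
        topologicalKrullDim ↥((U₀.ι ≫ f).fiber ((U₀.ι ≫ f) x₀)) := by
      refine Groth.Agent.Lib.TopKrullDim.dim_le_of_range_subset
        (fun z : ↥(g ⁻¹' {g xZ}) => j z.1) _
        (hjemb.isInducing.comp Topology.IsInducing.subtypeVal) hβ.isInducing ?_
      rintro _ ⟨⟨z, hz⟩, rfl⟩
      have hz' : g z = g xZ := hz
      have hzU₁ : j z ∈ U₁ := by
        rw [hj, Scheme.Hom.comp_apply]
        exact hU₁pt _
      have hfz : f (j z) = f x := by
        rw [← hgpt, hz', hgpt, hjxZ]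
      have hmem : (⟨j z, hU₁U₀ hzU₁⟩ : ↥U₀) ∈ Set.range ((U₀.ι ≫ f).fiberι ((U₀.ι ≫ f) x₀)) := by
        rw [Scheme.Hom.range_fiberι]
        change f (j z) = f x₀.1
        rw [hfz, hx₀]
      obtain ⟨t, ht⟩ := hmem
      exact ⟨t, by simp only [ht]; rfl⟩
    refine h1.trans ?_
    apply topologicalKrullDim_le_of_forall_irreducibleComponents
    intro T hT
    exact le_of_eq (hfib x₀ T hT)
  -- (4b) the generic fibre dimension
  have h4b : (e : WithBot ℕ∞) ≤ FlatMor.fibreDimAt g (genericPoint ↥(redSub S)) := by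
    have hirrF : IrreducibleSpace ↥(g.fiber (genericPoint ↥(V : Scheme.{u}))) :=
      Groth.Agent.Lib.H77GeomIrr.irreducibleSpace_fiber_genericPoint g hdom.denseRange
    have hgen : g (genericPoint ↥(redSub S)) = genericPoint ↥(V : Scheme.{u}) := by
      rw [hgenZ, hgξZ, hgenV]
    rw [fibreDimAt_eq_dim_fiber_of_irreducible g (genericPoint ↥(V : Scheme.{u})) _ hgen]
    -- the irreducible component of the fibre of `U₀` through `ξ₀`
    have hcompξ : closure ({(U₀.ι ≫ f).asFiber ξ₀} : Set ↥((U₀.ι ≫ f).fiber ((U₀.ι ≫ f) ξ₀))) ∈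
        irreducibleComponents ↥((U₀.ι ≫ f).fiber ((U₀.ι ≫ f) ξ₀)) := by
      apply closure_singleton_mem_irreducibleComponents
      intro ζ hζ
      have h1 : ((U₀.ι ≫ f).fiberι _) ζ ⤳ ξ₀ := by
        have := hζ.map ((U₀.ι ≫ f).fiberι ((U₀.ι ≫ f) ξ₀)).continuous
        rwa [Scheme.Hom.fiberι_asFiber] at this
      have h2 := hξ₀max _ h1
      have h3 : ((U₀.ι ≫ f).fiberι _) ζ = ξ₀ := (h1.antisymm h2).eq
      have h4 : ζ = (U₀.ι ≫ f).asFiber ξ₀ := by
        apply ((U₀.ι ≫ f).fiberι ((U₀.ι ≫ f) ξ₀)).isEmbedding.injective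
        rw [h3, Scheme.Hom.fiberι_asFiber]
      rw [h4]
    rw [← hfib ξ₀ _ hcompξ]
    have hβ : Topology.IsEmbedding
        (fun t : ↥((U₀.ι ≫ f).fiber ((U₀.ι ≫ f) ξ₀)) => U₀.ι (((U₀.ι ≫ f).fiberι _) t)) :=
      U₀.ι.isEmbedding.comp ((U₀.ι ≫ f).fiberι _).isEmbedding
    refine Groth.Agent.Lib.TopKrullDim.dim_le_of_range_subset
      (fun t : ↥(closure ({(U₀.ι ≫ f).asFiber ξ₀} :
        Set ↥((U₀.ι ≫ f).fiber ((U₀.ι ≫ f) ξ₀)))) => U₀.ι (((U₀.ι ≫ f).fiberι _) t.1))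
      (fun z : ↥(g.fiber (genericPoint ↥(V : Scheme.{u}))) => j ((g.fiberι _) z))
      (hβ.isInducing.comp Topology.IsInducing.subtypeVal)
      (hjemb.isInducing.comp (g.fiberι _).isEmbedding.isInducing) ?_
    rintro _ ⟨⟨t, ht⟩, rfl⟩
    -- the point `t' ∈ X`
    obtain ⟨t', ht'⟩ : ∃ t' : X, t' = U₀.ι (((U₀.ι ≫ f).fiberι _) t) := ⟨_, rfl⟩
    have hsp : ξ ⤳ t' := by
      have h1 : (U₀.ι ≫ f).asFiber ξ₀ ⤳ t := specializes_iff_mem_closure.mpr ht
      have h2 := (h1.map ((U₀.ι ≫ f).fiberι ((U₀.ι ≫ f) ξ₀)).continuous).map U₀.ι.continuous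
      rw [Scheme.Hom.fiberι_asFiber] at h2
      rw [ht', hξ]
      exact h2
    have hft' : f t' = η := by
      have h1 : ((U₀.ι ≫ f).fiberι ((U₀.ι ≫ f) ξ₀)) t ∈
          Set.range ((U₀.ι ≫ f).fiberι ((U₀.ι ≫ f) ξ₀)) := ⟨t, rfl⟩
      rw [Scheme.Hom.range_fiberι] at h1
      have h2 : f t' = f ξ₀.1 := by
        rw [ht']
        exact h1
      rw [h2, ← hξ, hfξ]
    have ht'U₁ : t' ∈ U₁ := by
      rw [hU₁]
      refine ⟨?_, ?_⟩
      · rw [ht']
        exact (((U₀.ι ≫ f).fiberι ((U₀.ι ≫ f) ξ₀)) t).2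
      · change f t' ∈ V
        rw [hft']
        exact hηV
    obtain ⟨z, hz⟩ := hmemS t' ht'U₁ hsp
    have hjz : j z = t' := by
      rw [hj, Scheme.Hom.comp_apply, hz]
    have hgz : g z = genericPoint ↥(V : Scheme.{u}) := by
      rw [hgenV]
      apply V.ι.isEmbedding.injective
      rw [hgpt, hjz, hft', hηV']
    have hzr : z ∈ Set.range (g.fiberι (genericPoint ↥(V : Scheme.{u}))) := by
      rw [Scheme.Hom.range_fiberι]
      exact hgz
    obtain ⟨w, hw⟩ := hzr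
    exact ⟨w, by simp only [hw, hjz, ht']⟩
  -- conclusion
  have key := Groth.Agent.Lib.H80Chev.isUnivOpenAt_of_fibreDimAt_le g xZ hGU (h4a.trans h4b)
  have := isUnivOpenAt_of_subscheme V f j g hgj xZ key
  rw [hjxZ] at this
  exact this

end Groth.Agent.Lib.H80Equi
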