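import Mathlib.Topology.Sober
import Mathlib.Topology.Irreducible
import Mathlib.Topology.Inseparable
import Mathlib.Topology.Homeomorph.Lemmas

/-!
# Points lying on a unique irreducible component (helper45)

`UniqueComp x`: the point `x` lies on at most one (hence exactly one) irreducible component.
Transfer along open maps with irreducible fibres (both directions), along generalizing maps
(descent), existence (generic points).
-/

set_option autoImplicit false
open Set

namespace Groth.Agent.Lib.UniqueComp45

variable {X Y : Type*} [TopologicalSpace X] [TopologicalSpace Y]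

/-- `x` lies on at most one irreducible component. -/
def UniqueComp (x : X) : Prop :=
  ∀ ⦃Z₁ : Set X⦄, Z₁ ∈ irreducibleComponents X → ∀ ⦃Z₂ : Set X⦄, Z₂ ∈ irreducibleComponents X →
    x ∈ Z₁ → x ∈ Z₂ → Z₁ = Z₂

lemma UniqueComp.eq_irreducibleComponent {x : X} (hx : UniqueComp x) {Z : Set X}
    (hZ : Z ∈ irreducibleComponents X) (hxZ : x ∈ Z) : Z = irreducibleComponent x :=
  hx hZ (irreducibleComponent_mem_irreducibleComponents _) hxZ mem_irreducibleComponent

lemma uniqueComp_iff_of_isOpenMap (f : X → Y) (hf₁ : Continuous f) (hf₂ : IsOpenMap f)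
    (hf₃ : ∀ y, IsPreirreducible (f ⁻¹' {y})) (hf₄ : Function.Surjective f) (x : X) :
    UniqueComp x ↔ UniqueComp (f x) := by
  let e := irreducibleComponentsEquivOfIsPreirreducibleFiber f hf₁ hf₂ hf₃ hf₄
  constructor
  · intro hx Z₁ hZ₁ Z₂ hZ₂ h1 h2
    have h := hx (e ⟨Z₁, hZ₁⟩).2 (e ⟨Z₂, hZ₂⟩).2 h1 h2
    have h' : e ⟨Z₁, hZ₁⟩ = e ⟨Z₂, hZ₂⟩ := Subtype.ext h
    exact congrArg Subtype.val (e.injective h')
  · intro hx W₁ hW₁ W₂ hW₂ h1 h2
    have h := hx (e.symm ⟨W₁, hW₁⟩).2 (e.symm ⟨W₂, hW₂⟩).2 ⟨x, h1, rfl⟩ ⟨x, h2, rfl⟩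
    have h' : e.symm ⟨W₁, hW₁⟩ = e.symm ⟨W₂, hW₂⟩ := Subtype.ext h
    exact congrArg Subtype.val (e.symm.injective h')

lemma uniqueComp_iff_of_homeomorph (h : X ≃ₜ Y) (x : X) : UniqueComp x ↔ UniqueComp (h x) :=
  uniqueComp_iff_of_isOpenMap h h.continuous h.isOpenMap
    (fun _ => (subsingleton_singleton.preimage h.injective).isPreirreducible) h.surjective x

lemma uniqueComp_of_isGenericPoint {x : X} {Z : Set X} (hZ : Z ∈ irreducibleComponents X)
    (hx : IsGenericPoint x Z) : UniqueComp x := by
  have key : ∀ ⦃Z' : Set X⦄, Z' ∈ irreducibleComponents X → x ∈ Z' → Z' = Z := by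
    intro Z' hZ' hxZ'
    have hsub : Z ⊆ Z' := by
      rw [← hx.def]
      exact (isClosed_of_mem_irreducibleComponents _ hZ').closure_subset_iff.mpr
        (singleton_subset_iff.mpr hxZ')
    exact (hZ.2 hZ'.1 hsub).antisymm hsub |>.symm ▸ rfl
  intro Z₁ hZ₁ Z₂ hZ₂ h1 h2
  rw [key hZ₁ h1, key hZ₂ h2]

lemma exists_uniqueComp [QuasiSober X] [Nonempty X] : ∃ x : X, UniqueComp x := by
  obtain ⟨x₀⟩ := ‹Nonempty X›
  let Z : irreducibleComponents X := ⟨irreducibleComponent x₀,
    (irreducibleComponent_mem_irreducibleComponents _)⟩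
  exact ⟨_, uniqueComp_of_isGenericPoint Z.2 (genericPoints.isGenericPoint_ofComponent Z)⟩

lemma UniqueComp.of_generalizingMap [QuasiSober Y] {f : X → Y} (hf : Continuous f)
    (hg : GeneralizingMap f) {x : X} (hx : UniqueComp x) : UniqueComp (f x) := by
  intro Z₁ hZ₁ Z₂ hZ₂ h1 h2
  -- generic points
  have hg1 := genericPoints.isGenericPoint_ofComponent (⟨Z₁, hZ₁⟩ : irreducibleComponents Y)
  have hg2 := genericPoints.isGenericPoint_ofComponent (⟨Z₂, hZ₂⟩ : irreducibleComponents Y)
  set η₁ : Y := (genericPoints.ofComponent (⟨Z₁, hZ₁⟩ : irreducibleComponents Y)).1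
  set η₂ : Y := (genericPoints.ofComponent (⟨Z₂, hZ₂⟩ : irreducibleComponents Y)).1
  obtain ⟨x₁, hx₁, hfx₁⟩ := hg (hg1.specializes h1)
  obtain ⟨x₂, hx₂, hfx₂⟩ := hg (hg2.specializes h2)
  have hW₁ : x ∈ irreducibleComponent x₁ :=
    hx₁.mem_closed isClosed_irreducibleComponent mem_irreducibleComponent
  have hW₂ : x ∈ irreducibleComponent x₂ :=
    hx₂.mem_closed isClosed_irreducibleComponent mem_irreducibleComponent
  have hWW := hx (irreducibleComponent_mem_irreducibleComponents _)
    (irreducibleComponent_mem_irreducibleComponents _) hW₁ hW₂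
  -- closure of the image of `W`
  have hirr : IsIrreducible (closure (f '' irreducibleComponent x₁)) :=
    (isIrreducible_irreducibleComponent.image f hf.continuousOn).closure
  have hη₁ : η₁ ∈ closure (f '' irreducibleComponent x₁) :=
    subset_closure ⟨x₁, mem_irreducibleComponent, hfx₁⟩
  have hη₂ : η₂ ∈ closure (f '' irreducibleComponent x₁) :=
    subset_closure ⟨x₂, hWW ▸ mem_irreducibleComponent, hfx₂⟩
  have hs1 : Z₁ ⊆ closure (f '' irreducibleComponent x₁) := by
    change (⟨Z₁, hZ₁⟩ : irreducibleComponents Y).1 ⊆ _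
    rw [← hg1.def]
    exact isClosed_closure.closure_subset_iff.mpr (singleton_subset_iff.mpr hη₁)
  have hs2 : Z₂ ⊆ closure (f '' irreducibleComponent x₁) := by
    change (⟨Z₂, hZ₂⟩ : irreducibleComponents Y).1 ⊆ _
    rw [← hg2.def]
    exact isClosed_closure.closure_subset_iff.mpr (singleton_subset_iff.mpr hη₂)
  exact (hs1.antisymm (hZ₁.2 hirr hs1)).trans (hs2.antisymm (hZ₂.2 hirr hs2)).symm

/-- A point without proper generalizations is the generic point of an irreducible component. -/
lemma closure_singleton_mem_irreducibleComponents [QuasiSober X] {y : X}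
    (h : ∀ w : X, w ⤳ y → y ⤳ w) : closure {y} ∈ irreducibleComponents X := by
  refine ⟨isIrreducible_singleton.closure, fun W hW hyW => ?_⟩
  have hcl : IsIrreducible (closure W) := hW.closure
  have hgen := hcl.isGenericPoint_genericPoint_closure
  rw [closure_closure] at hgen
  have h1 : hcl.genericPoint ⤳ y := hgen.specializes (subset_closure (hyW (subset_closure rfl)))
  have h2 : y ⤳ hcl.genericPoint := h _ h1
  calc W ⊆ closure W := subset_closure
    _ = closure {hcl.genericPoint} := hgen.def.symm
    _ ⊆ closure {y} := isClosed_closure.closure_subset_iff.mpr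
        (singleton_subset_iff.mpr h2.mem_closure)

/-- The generic point of an irreducible component has no proper generalizations. -/
lemma specializes_of_isGenericPoint {w w' : X} {W : Set X} (hW : W ∈ irreducibleComponents X)
    (hw : IsGenericPoint w W) (h : w' ⤳ w) : w ⤳ w' := by
  have h1 : W ⊆ closure {w'} := by
    rw [← hw.def]
    exact isClosed_closure.closure_subset_iff.mpr (singleton_subset_iff.mpr h.mem_closure)
  have h2 : closure {w'} ⊆ W := hW.2 isIrreducible_singleton.closure h1
  exact hw.specializes (h2 (subset_closure rfl))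

/-- Topological core of "the unit component is geometrically irreducible": for a continuous,
closed, generalizing map `p : X' → X` between quasi-sober spaces such that every point of `X`
lies on a unique irreducible component, and a point `e'` which is the only point over `p e'` and
lies on a unique irreducible component, the preimage of the irreducible component of `p e'` is
the irreducible component of `e'`. -/
theorem preimage_irreducibleComponent_eq {X' : Type*} [TopologicalSpace X'] [QuasiSober X]
    [QuasiSober X'] {p : X' → X} (hc : Continuous p) (hcl : IsClosedMap p)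
    (hg : GeneralizingMap p) (hX : ∀ x : X, UniqueComp x) {e' : X'} (he' : UniqueComp e')
    (hfib : ∀ x' : X', p x' = p e' → x' = e') :
    p ⁻¹' irreducibleComponent (p e') = irreducibleComponent e' := by
  apply Subset.antisymm
  · intro x' hx'
    set W := irreducibleComponent x' with hWdef
    have hWmem : W ∈ irreducibleComponents X' := irreducibleComponent_mem_irreducibleComponents _
    have hWirr : IsIrreducible W := isIrreducible_irreducibleComponent
    have hWcl : IsClosed W := isClosed_irreducibleComponent
    have hgen : IsGenericPoint hWirr.genericPoint W := by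
      have := hWirr.isGenericPoint_genericPoint_closure
      rwa [hWcl.closure_eq] at this
    set w := hWirr.genericPoint
    have hv : ∀ v' : X, v' ⤳ p w → p w ⤳ v' := by
      intro v' hv'
      obtain ⟨w', hw', rfl⟩ := hg hv'
      exact (specializes_of_isGenericPoint hWmem hgen hw').map hc
    have hcomp := closure_singleton_mem_irreducibleComponents hv
    have hx1 : p x' ∈ closure {p w} :=
      ((hgen.specializes mem_irreducibleComponent).map hc).mem_closure
    have hZ : closure {p w} = irreducibleComponent (p e') :=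
      hX (p x') hcomp (irreducibleComponent_mem_irreducibleComponents _) hx1 hx'
    have hpW : IsClosed (p '' W) := hcl _ hWcl
    have hsub : closure {p w} ⊆ p '' W :=
      hpW.closure_subset_iff.mpr (singleton_subset_iff.mpr ⟨w, hgen.mem, rfl⟩)
    have he : p e' ∈ p '' W := hsub (hZ ▸ mem_irreducibleComponent)
    obtain ⟨w₁, hw₁, hw₁e⟩ := he
    have : e' ∈ W := hfib w₁ hw₁e ▸ hw₁
    rw [← he'.eq_irreducibleComponent hWmem this]
    exact mem_irreducibleComponent
  · intro x' hx'
    have hirr : IsIrreducible (closure (p '' irreducibleComponent e')) :=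
      (isIrreducible_irreducibleComponent.image p hc.continuousOn).closure
    obtain ⟨Z, hZ, hsub⟩ := exists_mem_irreducibleComponents_subset_of_isIrreducible _ hirr
    have heZ : p e' ∈ Z := hsub (subset_closure ⟨e', mem_irreducibleComponent, rfl⟩)
    have := (hX (p e')).eq_irreducibleComponent hZ heZ
    rw [← this]
    exact hsub (subset_closure ⟨x', hx', rfl⟩)

end Groth.Agent.Lib.UniqueComp45
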