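import Mathlib
import Groth.Agent.Lib.UniqueComp45

/-!
# helper96: neighbourhoods with a generic point, from finiteness of the set of irreducible components

* `uniqueComp_of_isPrime_nilradical_stalk`: a point of a scheme whose local ring has prime
  nilradical lies on a unique irreducible component.
* `exists_open_nhd_generic`: in a quasi-sober space with finitely many irreducible components, a
  point on a unique irreducible component has an open neighbourhood with a generic point.
* `exists_opens_nhd_generic`: the combination, for schemes.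
-/

set_option autoImplicit false
open CategoryTheory AlgebraicGeometry TopologicalSpace
universe u

namespace Groth.Agent.Lib.EquiUnivOpen96

open Groth.Agent.Lib.UniqueComp45

/-- If the nilradical is prime, it is the only minimal prime. -/
theorem eq_nilradical_of_mem_minimalPrimes {R : Type*} [CommRing R]
    (hnil : (nilradical R).IsPrime) {p : Ideal R} (hp : p ∈ minimalPrimes R) :
    p = nilradical R := by
  have h1 : nilradical R ≤ p := by
    rw [nilradical_eq_sInf]
    exact sInf_le hp.1.1
  exact le_antisymm (hp.2 ⟨hnil, bot_le⟩ h1) h1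

/-- A point of a scheme whose local ring has prime nilradical lies on a unique irreducible
component. -/
theorem uniqueComp_of_isPrime_nilradical_stalk {X : Scheme.{u}} (x : X)
    (hnil : (nilradical (X.presheaf.stalk x)).IsPrime) : UniqueComp x := by
  let φ := X.fromSpecStalk x
  have hemb : Topology.IsEmbedding φ := φ.isEmbedding
  have key : ∀ Z ∈ irreducibleComponents X, x ∈ Z →
      Z = closure {φ (⟨nilradical (X.presheaf.stalk x), hnil⟩ :
        PrimeSpectrum (X.presheaf.stalk x))} := by
    intro Z hZ hxZ
    obtain ⟨η, hη⟩ := QuasiSober.sober hZ.1 (isClosed_of_mem_irreducibleComponents _ hZ)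
    have hηx : η ⤳ x := hη.specializes hxZ
    have hmem : η ∈ Set.range φ := by
      rw [Scheme.range_fromSpecStalk]
      exact hηx
    obtain ⟨P, rfl⟩ := hmem
    have hPmin : P.asIdeal ∈ minimalPrimes (X.presheaf.stalk x) := by
      refine ⟨⟨P.isPrime, bot_le⟩, fun q hq hqP => ?_⟩
      have hq' : q.IsPrime := hq.1
      have h1 : φ (⟨q, hq'⟩ : PrimeSpectrum (X.presheaf.stalk x)) ⤳ φ P :=
        ((PrimeSpectrum.le_iff_specializes (R := X.presheaf.stalk x) ⟨q, hq'⟩ P).mp hqP).map
          φ.continuous
      have h2 : φ P ⤳ φ (⟨q, hq'⟩ : PrimeSpectrum (X.presheaf.stalk x)) :=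
        specializes_of_isGenericPoint hZ hη h1
      exact (PrimeSpectrum.le_iff_specializes (R := X.presheaf.stalk x) P ⟨q, hq'⟩).mpr
        (hemb.isInducing.specializes_iff.mp h2)
    have hP : P = (⟨nilradical (X.presheaf.stalk x), hnil⟩ :
        PrimeSpectrum (X.presheaf.stalk x)) :=
      PrimeSpectrum.ext (eq_nilradical_of_mem_minimalPrimes hnil hPmin)
    rw [← hP, hη.def]
  intro Z₁ hZ₁ Z₂ hZ₂ h1 h2
  rw [key Z₁ hZ₁ h1, key Z₂ hZ₂ h2]

/-- In a quasi-sober space with finitely many irreducible components, a point on a unique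
irreducible component has an open neighbourhood with a generic point. -/
theorem exists_open_nhd_generic {X : Type*} [TopologicalSpace X] [QuasiSober X]
    (hfin : (irreducibleComponents X).Finite) (y : X) (hy : UniqueComp y) :
    ∃ V : Set X, IsOpen V ∧ y ∈ V ∧ ∃ η ∈ V, ∀ z ∈ V, η ⤳ z := by
  -- the union of the components not containing `y`
  obtain ⟨C, hC⟩ : ∃ C : Set X, C = ⋃ Z ∈ {Z ∈ irreducibleComponents X | y ∉ Z}, Z := ⟨_, rfl⟩
  have hCcl : IsClosed C := by
    rw [hC]
    exact (hfin.subset (Set.sep_subset _ _)).isClosed_biUnion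
      (fun Z hZ => isClosed_of_mem_irreducibleComponents _ hZ.1)
  have hmemC : ∀ z : X, z ∈ C ↔ ∃ Z ∈ irreducibleComponents X, y ∉ Z ∧ z ∈ Z := by
    intro z
    rw [hC]
    simp only [Set.mem_ofPred_eq, Set.mem_iUnion, exists_prop, and_assoc]
  -- the generic point of the component through `y`
  obtain ⟨η, hη⟩ := QuasiSober.sober (isIrreducible_irreducibleComponent (x := y))
    isClosed_irreducibleComponent
  have hZ₀ := irreducibleComponent_mem_irreducibleComponents y
  refine ⟨Cᶜ, hCcl.isOpen_compl, ?_, η, ?_, ?_⟩
  · rw [Set.mem_compl_iff, hmemC]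
    rintro ⟨Z, -, hyZ, hyZ'⟩
    exact hyZ hyZ'
  · rw [Set.mem_compl_iff, hmemC]
    rintro ⟨Z, hZ, hyZ, hηZ⟩
    have h1 : irreducibleComponent y ⊆ Z := by
      rw [← hη.def]
      exact (isClosed_of_mem_irreducibleComponents _ hZ).closure_subset_iff.mpr
        (Set.singleton_subset_iff.mpr hηZ)
    exact hyZ (h1 mem_irreducibleComponent)
  · intro z hz
    rw [Set.mem_compl_iff, hmemC] at hz
    have hyz : y ∈ irreducibleComponent z := by
      by_contra hcon
      exact hz ⟨_, irreducibleComponent_mem_irreducibleComponents z, hcon, mem_irreducibleComponent⟩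
    have heq : irreducibleComponent z = irreducibleComponent y :=
      hy.eq_irreducibleComponent (irreducibleComponent_mem_irreducibleComponents z) hyz
    have hzmem : z ∈ irreducibleComponent y := heq ▸ mem_irreducibleComponent
    exact hη.specializes hzmem

/-- A point of a scheme with finitely many irreducible components whose local ring has prime
nilradical has an open neighbourhood with a generic point. -/
theorem exists_opens_nhd_generic {Y : Scheme.{u}}
    (hfin : (irreducibleComponents (Y : Type u)).Finite) (y : Y)
    (hnil : (nilradical (Y.presheaf.stalk y)).IsPrime) :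
    ∃ V : Y.Opens, y ∈ V ∧ ∃ η ∈ V, ∀ z ∈ V, η ⤳ z := by
  obtain ⟨V, hV, hyV, η, hηV, hη⟩ := exists_open_nhd_generic hfin y
    (uniqueComp_of_isPrime_nilradical_stalk y hnil)
  exact ⟨⟨V, hV⟩, hyV, η, hηV, hη⟩

end Groth.Agent.Lib.EquiUnivOpen96
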