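import Groth.Agent.Lib.H30FlatDim
import Groth.Agent.Lib.H30LocDimTop
import Groth.Agent.Lib.FibreDimAtFormula
import Groth.Agent.S0402
import Groth.Agent.S6462

/-!
# Fibre dimension strata of a morphism of schemes of finite type over a field (helper63)

Tools to compare the dimension of the source of `π : C ⟶ X` with the dimensions of the loci
`B_j = {x | j ≤ dim π⁻¹(x)}`.
-/

set_option autoImplicit false
universe u

open CategoryTheory AlgebraicGeometry TopologicalSpace

namespace Groth.Agent.Lib.FibreDimStrata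

open Groth.Agent.Lib.H30DimField Groth.Agent.Lib.H30DimRel Groth.Agent.Lib.H30FibRes
  Groth.Agent.Lib.H30FlatDim

section Field

variable (k : Type u) [Field k] (X : Scheme.{u}) [X.Over (Spec (CommRingCat.of k))]
  [LocallyOfFiniteType (X ↘ (Spec (CommRingCat.of k)))]

/-- A closed subset all of whose points have transcendence degree at most `N` has dimension at
most `N`. -/
theorem dim_closed_le (Z : Set X) (hZ : IsClosed Z) (N : ℕ) (h : ∀ z ∈ Z, td k X z ≤ N) :
    topologicalKrullDim ↥Z ≤ (N : WithBot ℕ∞) := by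
  haveI : QuasiSober Z := hZ.isClosedEmbedding_subtypeVal.quasiSober
  have hδZ := Groth.Agent.S6462.isDimFun_closed (isDimFun k X) Z hZ
  exact krullDim_le (fun z : Z => td k X z.1) hδZ (fun z => td_nonneg k X z.1) N
    (fun z => h z.1 z.2)

/-- A closed subset has dimension at least the transcendence degree of each of its points. -/
theorem td_le_dim_closed (Z : Set X) (hZ : IsClosed Z) (z : X) (hz : z ∈ Z) :
    (((td k X z).toNat : ℕ) : WithBot ℕ∞) ≤ topologicalKrullDim ↥Z := by
  haveI := jacobsonSpace k X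
  have h1 := Groth.Agent.S6462.part1 (isDimFun k X) (td_eq_zero_of_isClosed k X) z
  rw [← h1]
  exact Groth.Agent.Lib.H30LocDimTop.dim_mono
    (closure_minimal (Set.singleton_subset_iff.mpr hz) hZ)

end Field

section Fibre

variable {C X : Scheme.{u}} (π : C ⟶ X) [LocallyOfFiniteType π]

/-- The fibre through `c` has dimension at least `trdeg κ(c)/κ(π c)`. -/
theorem rt_le_dim_fiber (c : C) :
    ((rt π c : ℕ) : WithBot ℕ∞) ≤ topologicalKrullDim (π.fiber (π c)) := by
  rw [← krullDim_closure_asFiber π c (rt π c) (trdeg_eq_rt π c)]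
  exact topologicalKrullDim_subspace_le _ _

/-- If the fibre over `x` has dimension at least `j`, some point over `x` has relative
transcendence degree at least `j`. -/
theorem exists_rt_ge_of_le_dim_fiber (x : X) (j : ℕ)
    (h : (j : WithBot ℕ∞) ≤ topologicalKrullDim (π.fiber x)) :
    ∃ c : C, π c = x ∧ j ≤ rt π c := by
  by_contra hcon
  push Not at hcon
  letI := fiberOver π x
  haveI := lft_fiber π x
  have hpt : ∀ w : π.fiber x, π (π.fiberι x w) = x := by
    intro w
    have : π.fiberι x w ∈ Set.range (π.fiberι x) := Set.mem_range_self w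
    rw [Scheme.Hom.range_fiberι] at this
    exact this
  have htd : ∀ w : π.fiber x, td (X.residueField x) (π.fiber x) w = (rt π (π.fiberι x w) : ℤ) := by
    intro w
    apply td_eq_of_trdeg_eq
    rw [trdeg_fiber_eq π x w]
    exact trdeg_eq_rt π _
  rcases Nat.eq_zero_or_pos j with h0 | hpos
  · -- the fibre is nonempty
    by_cases hne : Nonempty (π.fiber x)
    · obtain ⟨w⟩ := hne
      have := hcon (π.fiberι x w) (hpt w)
      omega
    · haveI : IsEmpty (π.fiber x) := not_nonempty_iff.mp hne
      haveI : IsEmpty (TopologicalSpace.IrreducibleCloseds (π.fiber x)) :=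
        ⟨fun Z => by
          obtain ⟨t, -⟩ := Z.isIrreducible.nonempty
          exact isEmptyElim t⟩
      have hbot : topologicalKrullDim (π.fiber x) = ⊥ := by
        unfold topologicalKrullDim
        exact Order.krullDim_eq_bot
      rw [hbot] at h
      exact absurd h (by simp)
  · have hle : topologicalKrullDim (π.fiber x) ≤ ((j - 1 : ℕ) : WithBot ℕ∞) := by
      have hδ := isDimensionFunction_of_isDimFun (isDimFun (X.residueField x) (π.fiber x))
      refine krullDim_le _ hδ (fun w => td_nonneg _ _ w) (j - 1) (fun w => ?_)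
      rw [htd w]
      have := hcon (π.fiberι x w) (hpt w)
      have h2 : rt π (π.fiberι x w) ≤ j - 1 := by omega
      exact_mod_cast h2
    have := h.trans hle
    have h3 : j ≤ j - 1 := by exact_mod_cast this
    omega

/-- The local fibre dimension is at most the dimension of the fibre. -/
theorem fibreDimAt_le_dim_fiber (c : C) :
    FlatMor.fibreDimAt π c ≤ topologicalKrullDim (π.fiber (π c)) := by
  unfold FlatMor.fibreDimAt FlatMor.localDim
  exact (iInf_le _ ⟨⊤, trivial⟩).trans (topologicalKrullDim_subspace_le _ _)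

/-- The local fibre dimension is at least the relative transcendence degree. -/
theorem rt_le_fibreDimAt (c : C) : ((rt π c : ℕ) : WithBot ℕ∞) ≤ FlatMor.fibreDimAt π c := by
  rw [Groth.Agent.Lib.FibreDimAtFormula.fibreDimAt_eq_add π c (rt π c) (trdeg_eq_rt π c)]
  exact le_add_of_nonneg_left ringKrullDim_nonneg_of_nontrivial

theorem natCast_le_iff_not_le (j : ℕ) (hj : 1 ≤ j) (v : WithBot ℕ∞) :
    (j : WithBot ℕ∞) ≤ v ↔ ¬ v ≤ ((j - 1 : ℕ) : WithBot ℕ∞) := by
  rw [not_le]
  induction v using WithBot.recBotCoe with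
  | bot => simp
  | coe v =>
    induction v using ENat.recTopCoe with
    | top =>
      have h1 : ((j : ℕ) : WithBot ℕ∞) = (((j : ℕ) : ℕ∞) : WithBot ℕ∞) := rfl
      have h2 : ((j - 1 : ℕ) : WithBot ℕ∞) = (((j - 1 : ℕ) : ℕ∞) : WithBot ℕ∞) := rfl
      rw [h1, h2, WithBot.coe_le_coe, WithBot.coe_lt_coe]
      exact ⟨fun _ => ENat.natCast_lt_top _, fun _ => le_top⟩
    | coe m =>
      have h1 : ((j : ℕ) : WithBot ℕ∞) = (((j : ℕ) : ℕ∞) : WithBot ℕ∞) := rfl
      have h2 : ((j - 1 : ℕ) : WithBot ℕ∞) = (((j - 1 : ℕ) : ℕ∞) : WithBot ℕ∞) := rfl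
      rw [h1, h2, WithBot.coe_le_coe, WithBot.coe_lt_coe, Nat.cast_le, Nat.cast_lt]
      omega

/-- The locus where the local fibre dimension is at least `j` is closed (Chevalley). -/
theorem isClosed_le_fibreDimAt (j : ℕ) : IsClosed {c : C | (j : WithBot ℕ∞) ≤ FlatMor.fibreDimAt π c} := by
  rcases Nat.eq_zero_or_pos j with h0 | hpos
  · have : {c : C | (j : WithBot ℕ∞) ≤ FlatMor.fibreDimAt π c} = Set.univ := by
      ext c
      simp only [Set.mem_ofPred_eq, Set.mem_univ, iff_true]
      refine le_trans ?_ (rt_le_fibreDimAt π c)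
      rw [h0]
      exact_mod_cast Nat.zero_le _
    rw [this]
    exact isClosed_univ
  · have : {c : C | (j : WithBot ℕ∞) ≤ FlatMor.fibreDimAt π c} =
        {c : C | FlatMor.fibreDimAt π c ≤ ((j - 1 : ℕ) : WithBot ℕ∞)}ᶜ := by
      ext c
      simp only [Set.mem_ofPred_eq, Set.mem_compl_iff]
      exact natCast_le_iff_not_le j hpos _
    rw [this]
    exact (Groth.Agent.S0402.result π (j - 1)).isClosed_compl

end Fibre

section Top

/-- In a Noetherian sober space, every point of the closure of the image of a closed set `T` is a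
specialization of the image of a point of `T`. -/
theorem exists_specializes_of_mem_closure_image {α β : Type*} [TopologicalSpace α]
    [TopologicalSpace β] [NoetherianSpace α] [QuasiSober α] (g : α → β) (hg : Continuous g)
    (T : Set α) (hT : IsClosed T) (z : β) (hz : z ∈ closure (g '' T)) : ∃ t ∈ T, g t ⤳ z := by
  obtain ⟨S, hSf, hSc, hSi, hSU⟩ := NoetherianSpace.exists_finite_set_isClosed_irreducible hT
  have hgen : ∀ s ∈ S, ∃ γ, IsGenericPoint γ s := fun s hs => QuasiSober.sober (hSi s hs) (hSc s hs)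
  choose γ hγ using hgen
  have hsub : g '' T ⊆ ⋃ s ∈ S, ⋃ hs : s ∈ S, closure {g (γ s hs)} := by
    rintro _ ⟨t, ht, rfl⟩
    rw [hSU] at ht
    obtain ⟨s, hs, hts⟩ := ht
    simp only [Set.mem_iUnion]
    refine ⟨s, hs, hs, ?_⟩
    exact (((hγ s hs).specializes hts).map hg).mem_closure
  have hclosed : IsClosed (⋃ s ∈ S, ⋃ hs : s ∈ S, closure {g (γ s hs)}) := by
    refine hSf.isClosed_biUnion (fun s hs => ?_)
    have : (⋃ hs : s ∈ S, closure {g (γ s hs)}) = closure {g (γ s hs)} := by
      ext y
      simp only [Set.mem_iUnion]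
      exact ⟨fun ⟨_, h⟩ => h, fun h => ⟨hs, h⟩⟩
    rw [this]
    exact isClosed_closure
  have hz' := closure_minimal hsub hclosed hz
  simp only [Set.mem_iUnion] at hz'
  obtain ⟨s, hs, _, hzs⟩ := hz'
  refine ⟨γ s hs, ?_, specializes_iff_mem_closure.mpr hzs⟩
  rw [hSU]
  exact ⟨s, hs, (hγ s hs).mem⟩

end Top

end Groth.Agent.Lib.FibreDimStrata
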