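import Groth.Agent.Lib.H30EquidimAt
import Groth.Agent.Lib.H56OpenDimSch2
import Groth.Agent.Lib.FibreDimStrata
import Groth.Agent.Lib.GenericFibrePoint2
import Groth.Agent.Lib.DimFormulaScheme2
import Mathlib

/-!
# Openness at the generic points of the fibre components and equidimensionality (helper63)

EGA IV 14.3: for `f : X ⟶ Y` locally of finite type over a locally Noetherian base, if `O_{X,x}` is
equidimensional and `f` is open at the maximal points of the fibre through `x` generizing `x`, then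
`f` is equidimensional at `x`.

* `gen_ineq`: the general dimension inequality `dim O_{X,x}/𝔭_ζ + trdeg κ(x)/κ(f x) ≤
  dim O_{Y,f x}/𝔭_{f ζ} + trdeg κ(ζ)/κ(f ζ)` for a generization `ζ ⤳ x`.
* `rt_le_fibreDimAt_of_specializes`: Chevalley's lower bound at specializations.
* `exists_nhd_max_specializes`: in a locally Noetherian scheme, each point has an open neighbourhood
  all of whose maximal points specialize to it.
* `isEquidimAt_of_isOpenAt`.
-/

set_option autoImplicit false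
universe u
open CategoryTheory AlgebraicGeometry TopologicalSpace

namespace Groth.Agent.Lib.EquidimOpen

open Groth.Agent.Lib.H30GenFib Groth.Agent.Lib.H30DimRel Groth.Agent.Lib.H30IrrFib
  Groth.Agent.Lib.H30EquidimAt Groth.Agent.Lib.H30DimFormulaGen Groth.Agent.Lib.DimIneqScheme
  Groth.Agent.Lib.DimFormulaScheme

section Ineq

variable {X S : Scheme.{u}}

/-- **general dimension inequality**: `ζ ⤳ x` arbitrary, no catenarity -/
theorem gen_ineq_card (f : X ⟶ S) [IsLocallyNoetherian S] [LocallyOfFiniteType f] (x : X)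
    (ζ : X) (h : ζ ⤳ x) :
    ∃ a b : ℕ, ringKrullDim (Cyc.LocQuot x ζ h) = a ∧
      ringKrullDim (Cyc.LocQuot (f x) (f ζ) (h.map f.continuous)) = b ∧
      (letI := (f.residueFieldMap x).hom.toAlgebra;
       letI := (f.residueFieldMap ζ).hom.toAlgebra;
      (a : Cardinal.{u}) + Algebra.trdeg (S.residueField (f x)) (X.residueField x) ≤
        b + Algebra.trdeg (S.residueField (f ζ)) (X.residueField ζ)) := by
  obtain ⟨V, hV, hfxV⟩ : ∃ V : S.Opens, IsAffineOpen V ∧ f x ∈ V := by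
    obtain ⟨_, ⟨V, hV, rfl⟩, hxV, -⟩ := S.isBasis_affineOpens.exists_subset_of_mem_open
      (Set.mem_univ (f x)) isOpen_univ
    exact ⟨V, hV, hxV⟩
  obtain ⟨U, hU, hx, e⟩ : ∃ U : X.Opens, IsAffineOpen U ∧ x ∈ U ∧ U ≤ f ⁻¹ᵁ V := by
    obtain ⟨_, ⟨U, hU, rfl⟩, hxU, hUV⟩ := X.isBasis_affineOpens.exists_subset_of_mem_open
      (show x ∈ ((f ⁻¹ᵁ V : X.Opens) : Set X) from hfxV) (f ⁻¹ᵁ V).isOpen
    exact ⟨U, hU, hxU, hUV⟩
  have hζU : ζ ∈ U := h.mem_open U.isOpen hx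
  letI alg := (f.appLE V U e).hom.toAlgebra
  haveI : IsNoetherianRing Γ(S, V) := IsLocallyNoetherian.component_noetherian ⟨V, hV⟩
  haveI : Algebra.FiniteType Γ(S, V) Γ(X, U) := f.finiteType_appLE hV hU e
  have hunder : (hU.primeIdealOf ⟨x, hx⟩).asIdeal.under Γ(S, V) =
      (hV.primeIdealOf ⟨f x, e hx⟩).asIdeal :=
    congrArg PrimeSpectrum.asIdeal (IsAffineOpen.comap_primeIdealOf_appLE V hV U hU e hx)
  have hle : (hU.primeIdealOf ⟨ζ, hζU⟩).asIdeal ≤ (hU.primeIdealOf ⟨x, hx⟩).asIdeal :=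
    primeIdealOf_le_of_specializes hU x ζ hx h hζU
  have hmain := Groth.Agent.Lib.GenericFibrePoint.ineq_of_prime_le' (R := Γ(S, V)) (B := Γ(X, U))
    dimIneq (hU.primeIdealOf ⟨x, hx⟩).asIdeal (hU.primeIdealOf ⟨ζ, hζU⟩).asIdeal hle
  rw [← trdeg_residueField_eq f hU hV e x hx, ← trdeg_residueField_eq f hU hV e ζ hζU] at hmain
  have hunderζ : (hU.primeIdealOf ⟨ζ, hζU⟩).asIdeal.under Γ(S, V) =
      (hV.primeIdealOf ⟨f ζ, e hζU⟩).asIdeal :=
    congrArg PrimeSpectrum.asIdeal (IsAffineOpen.comap_primeIdealOf_appLE V hV U hU e hζU)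
  have hh1 := ringKrullDim_locQuot_eq_height hU x ζ hx h hζU
  have hh2 : ringKrullDim (Cyc.LocQuot (f x) (f ζ) (h.map f.continuous)) =
      (((hU.primeIdealOf ⟨x, hx⟩).asIdeal.under Γ(S, V)).map
      (Ideal.Quotient.mk ((hU.primeIdealOf ⟨ζ, hζU⟩).asIdeal.under Γ(S, V)))).height := by
    rw [hunder, hunderζ]
    exact ringKrullDim_locQuot_eq_height hV (f x) (f ζ) (e hx) (h.map f.continuous) (e hζU)
  haveI : IsNoetherianRing Γ(X, U) := Algebra.FiniteType.isNoetherianRing Γ(S, V) Γ(X, U)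
  haveI hq' : ((hU.primeIdealOf ⟨x, hx⟩).asIdeal.map
        (Ideal.Quotient.mk (hU.primeIdealOf ⟨ζ, hζU⟩).asIdeal)).IsPrime :=
    Groth.Agent.Lib.DimIneqCore.isPrime_map_mk _ _ hle
  haveI hp' : (((hU.primeIdealOf ⟨x, hx⟩).asIdeal.under Γ(S, V)).map
      (Ideal.Quotient.mk ((hU.primeIdealOf ⟨ζ, hζU⟩).asIdeal.under Γ(S, V)))).IsPrime :=
    Groth.Agent.Lib.DimIneqCore.isPrime_map_mk _ _ (Ideal.comap_mono hle)
  obtain ⟨a, ha⟩ := ENat.ne_top_iff_exists.mp
    (Ideal.height_ne_top_of_isPrime (I := ((hU.primeIdealOf ⟨x, hx⟩).asIdeal.map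
        (Ideal.Quotient.mk (hU.primeIdealOf ⟨ζ, hζU⟩).asIdeal))))
  obtain ⟨b, hb⟩ := ENat.ne_top_iff_exists.mp
    (Ideal.height_ne_top_of_isPrime (I := (((hU.primeIdealOf ⟨x, hx⟩).asIdeal.under Γ(S, V)).map
      (Ideal.Quotient.mk ((hU.primeIdealOf ⟨ζ, hζU⟩).asIdeal.under Γ(S, V))))))
  refine ⟨a, b, ?_, ?_, ?_⟩
  · rw [hh1, ← ha]; rfl
  · rw [hh2, ← hb]; rfl
  · rw [← ha, ← hb] at hmain
    simpa using hmain

/-- the general dimension inequality in `ℕ` -/
theorem gen_ineq (f : X ⟶ S) [IsLocallyNoetherian S] [LocallyOfFiniteType f] (x : X)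
    (ζ : X) (h : ζ ⤳ x) :
    ∃ a b : ℕ, ringKrullDim (Cyc.LocQuot x ζ h) = a ∧
      ringKrullDim (Cyc.LocQuot (f x) (f ζ) (h.map f.continuous)) = b ∧
      a + rt f x ≤ b + rt f ζ := by
  obtain ⟨a, b, ha, hb, hab⟩ := gen_ineq_card f x ζ h
  refine ⟨a, b, ha, hb, ?_⟩
  rw [trdeg_eq_rt f x, trdeg_eq_rt f ζ] at hab
  exact_mod_cast hab

end Ineq

section Top

variable {X Y : Scheme.{u}}

/-- every point of a scheme has a maximal generization -/
theorem exists_max_generization (z : X) : ∃ ζ : X, IsMaxPt ζ ∧ ζ ⤳ z := by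
  obtain ⟨p, hp, -⟩ := Ideal.exists_minimalPrimes_le
    (bot_le : (⊥ : Ideal (X.presheaf.stalk z)) ≤ IsLocalRing.maximalIdeal _)
  haveI : p.IsPrime := hp.1.1
  obtain ⟨ζ, hζ, hker⟩ := exists_specializes_ker_eq z p
  refine ⟨ζ, ?_, hζ⟩
  rw [← ker_mem_minimalPrimes_iff z ζ hζ, hker]
  exact hp

/-- in a locally Noetherian scheme every point has an open neighbourhood all of whose maximal
points specialize to it -/
theorem exists_nhd_max_specializes [IsLocallyNoetherian X] (x : X) :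
    ∃ U : X.Opens, x ∈ U ∧ ∀ ζ : X, ζ ∈ U → IsMaxPt ζ → ζ ⤳ x := by
  obtain ⟨V, hV, hxV, -⟩ := exists_isAffineOpen_mem_and_subset (x := x) (U := ⊤) trivial
  haveI : IsNoetherianRing Γ(X, V) := IsLocallyNoetherian.component_noetherian ⟨V, hV⟩
  haveI : NoetherianSpace V := noetherianSpace_of_isAffineOpen V hV
  have hSfin : {ζ : X | ζ ∈ V ∧ IsMaxPt ζ ∧ ¬ ζ ⤳ x}.Finite := by
    refine ((Groth.Agent.S2594.finite_isMax V.toScheme).image V.ι).subset ?_
    rintro ζ ⟨hζV, hζmax, -⟩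
    obtain ⟨ζ₀, rfl⟩ : ζ ∈ Set.range V.ι := by rw [Scheme.Opens.range_ι]; exact hζV
    exact ⟨ζ₀, Groth.Agent.S2594.isMax_of_ι V ζ₀ hζmax, rfl⟩
  have hclosed : IsClosed (⋃ ζ ∈ {ζ : X | ζ ∈ V ∧ IsMaxPt ζ ∧ ¬ ζ ⤳ x},
      closure ({ζ} : Set X)) :=
    hSfin.isClosed_biUnion (fun _ _ => isClosed_closure)
  refine ⟨V ⊓ ⟨_, hclosed.isOpen_compl⟩, ⟨hxV, ?_⟩, ?_⟩
  · show x ∉ _
    simp only [Set.mem_iUnion, not_exists]
    rintro ζ ⟨-, -, hζ⟩ hmem
    exact hζ (specializes_iff_mem_closure.mpr hmem)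
  · intro ζ hζU hζmax
    by_contra hcon
    apply hζU.2
    show ζ ∈ ⋃ _, _
    simp only [Set.mem_iUnion]
    exact ⟨ζ, ⟨hζU.1, hζmax, hcon⟩, subset_closure rfl⟩

/-- Chevalley's lower bound: the local fibre dimension at a specialization of `ζ` is at least
`trdeg κ(ζ)/κ(f ζ)` -/
theorem rt_le_fibreDimAt_of_specializes (f : X ⟶ Y) [LocallyOfFiniteType f] (ζ z : X)
    (h : ζ ⤳ z) : ((rt f ζ : ℕ) : WithBot ℕ∞) ≤ FlatMor.fibreDimAt f z :=
  h.mem_closed (Groth.Agent.Lib.FibreDimStrata.isClosed_le_fibreDimAt f (rt f ζ))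
    (Groth.Agent.Lib.FibreDimStrata.rt_le_fibreDimAt f ζ)

/-- a prime whose quotient has the (finite) dimension of the ring is minimal -/
theorem mem_minimalPrimes_of_dim_quot_eq {R : Type*} [CommRing R] (q : Ideal R) [q.IsPrime]
    (n : ℕ) (hn : ringKrullDim R = n) (hq : ringKrullDim (R ⧸ q) = n) : q ∈ minimalPrimes R := by
  obtain ⟨p, hp, hpq⟩ := Ideal.exists_minimalPrimes_le (bot_le : (⊥ : Ideal R) ≤ q)
  haveI : p.IsPrime := hp.1.1
  rcases eq_or_lt_of_le hpq with heq | hlt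
  · rw [← heq]; exact hp
  · exfalso
    have h1 : (⟨p, hp.1.1⟩ : PrimeSpectrum R) < ⟨q, inferInstance⟩ := hlt
    have h2 := Order.coheight_add_one_le h1
    have h3 := Groth.Agent.Lib.H56OpenDim.ringKrullDim_quotient_eq_coheight
      (⟨q, inferInstance⟩ : PrimeSpectrum R)
    have h4 : ((Order.coheight (⟨p, hp.1.1⟩ : PrimeSpectrum R) : ℕ∞) : WithBot ℕ∞) ≤
        ringKrullDim R := Order.coheight_le_krullDim _
    rw [hq] at h3
    rw [hn] at h4
    have h5 : Order.coheight (⟨q, inferInstance⟩ : PrimeSpectrum R) = (n : ℕ∞) := by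
      have : ((n : ℕ∞) : WithBot ℕ∞) = ((Order.coheight (⟨q, inferInstance⟩ :
          PrimeSpectrum R) : ℕ∞) : WithBot ℕ∞) := h3
      exact (WithBot.coe_injective this).symm
    rw [h5] at h2
    have h6 : Order.coheight (⟨p, hp.1.1⟩ : PrimeSpectrum R) ≤ (n : ℕ∞) := by
      exact_mod_cast h4
    have h7 : ((n + 1 : ℕ) : ℕ∞) ≤ (n : ℕ∞) := by
      refine le_trans ?_ (h2.trans h6)
      push_cast; rfl
    have : n + 1 ≤ n := by exact_mod_cast h7
    omega

end Top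

section Main

variable {X Y : Scheme.{u}}

theorem exists_nat_eq_of_ne_bot_top (v : WithBot ℕ∞) (h1 : v ≠ ⊥) (h2 : v ≠ ⊤) :
    ∃ n : ℕ, v = n := by
  induction v using WithBot.recBotCoe with
  | bot => exact absurd rfl h1
  | coe v =>
    induction v using ENat.recTopCoe with
    | top => exact absurd rfl h2
    | coe n => exact ⟨n, rfl⟩

theorem exists_nat_of_add_eq (c : WithBot ℕ∞) (r e : ℕ)
    (h : c + (r : WithBot ℕ∞) = (e : WithBot ℕ∞)) : ∃ C : ℕ, c = C ∧ e = C + r := by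
  induction c using WithBot.recBotCoe with
  | bot => simp at h
  | coe c =>
    induction c using ENat.recTopCoe with
    | top =>
      exfalso
      have h1 : (((⊤ : ℕ∞) + (r : ℕ∞) : ℕ∞) : WithBot ℕ∞) = ((e : ℕ∞) : WithBot ℕ∞) := h
      rw [top_add] at h1
      have h2 := WithBot.coe_injective h1
      exact absurd h2.symm (ENat.coe_ne_top e)
    | coe n =>
      refine ⟨n, rfl, ?_⟩
      have h1 : (((n + r : ℕ) : ℕ∞) : WithBot ℕ∞) = ((e : ℕ∞) : WithBot ℕ∞) := by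
        push_cast; exact h
      have h2 := WithBot.coe_injective h1
      have h3 : n + r = e := by exact_mod_cast h2
      omega

/-- **EGA IV 14.3.**  If `O_{X,x}` is equidimensional and `f` is open at the maximal points of the
fibre through `x` which generize `x`, then `f` is equidimensional at `x`. -/
theorem isEquidimAt_of_isOpenAt [IsLocallyNoetherian Y] (f : X ⟶ Y) [LocallyOfFiniteType f] (x : X)
    (hX : EGA4.IsEquidim (X.presheaf.stalk x))
    (h : ∀ w : X, f w = f x → w ⤳ x → (∀ w' : X, f w' = f x → w' ⤳ w → w' = w) →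
      EGA43.IsOpenAt f.base w) :
    EGA43.IsEquidimAt f x := by
  haveI : IsLocallyNoetherian X := LocallyOfFiniteType.isLocallyNoetherian f
  -- EGA IV 14.2.1
  have hK3 := Groth.Agent.Lib.H56OpenDim.ringKrullDim_stalk_eq_add_of_isOpenAt f x (by
    intro z hzx hfz h0
    refine h z hfz hzx ?_
    intro w' hfw' hw'z
    exact Groth.Agent.Lib.H56OpenDim.eq_of_specializes_of_fibre_stalk_dim_zero f z h0 w' hw'z
      (hfw'.trans hfz.symm))
  obtain ⟨w, -, -, -, hw⟩ := exists_rt_eq_fibreDimAt f x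
  obtain ⟨e, he⟩ : ∃ e : ℕ, e = rt f w := ⟨_, rfl⟩
  rw [← he] at hw
  have hfd := Groth.Agent.Lib.FibreDimAtFormula.fibreDimAt_eq_add f x (rt f x) (trdeg_eq_rt f x)
  obtain ⟨N, hN⟩ : ∃ N : ℕ, ringKrullDim (Y.presheaf.stalk (f x)) = N :=
    exists_nat_eq_of_ne_bot_top _ ringKrullDim_ne_bot ringKrullDim_ne_top
  obtain ⟨C, hC, heC⟩ : ∃ C : ℕ,
      ringKrullDim ((f.fiber (f x)).presheaf.stalk (f.asFiber x)) = C ∧ e = C + rt f x := by
    rw [← hw] at hfd
    exact exists_nat_of_add_eq _ _ _ hfd.symm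
  have hd : ringKrullDim (X.presheaf.stalk x) = ((N + C : ℕ) : WithBot ℕ∞) := by
    rw [hK3, hN, hC]; push_cast; rfl
  have hclaim : ∀ ζ : X, IsMaxPt ζ → ζ ⤳ x → rt f ζ = e ∧ IsMaxPt (f ζ) := by
    intro ζ hζmax hζx
    obtain ⟨a, b, ha, hb, hab⟩ := gen_ineq f x ζ hζx
    have hmin := (ker_mem_minimalPrimes_iff x ζ hζx).mpr hζmax
    have ha' : a = N + C := by
      have h1 : ringKrullDim (Cyc.LocQuot x ζ hζx) = ringKrullDim (X.presheaf.stalk x) :=
        hX _ hmin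
      rw [ha, hd] at h1
      exact_mod_cast h1
    have hbN : b ≤ N := by
      have h1 : ringKrullDim (Cyc.LocQuot (f x) (f ζ) (hζx.map f.continuous)) ≤
          ringKrullDim (Y.presheaf.stalk (f x)) := ringKrullDim_quotient_le _
      rw [hb, hN] at h1
      exact_mod_cast h1
    have hrt : rt f ζ ≤ e := by
      have h1 := rt_le_fibreDimAt_of_specializes f ζ x hζx
      rw [← hw] at h1
      exact_mod_cast h1
    have hbN' : b = N := by omega
    refine ⟨by omega, ?_⟩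
    haveI := RingHom.ker_isPrime (Cyc.specMap (f x) (f ζ) (hζx.map f.continuous))
    rw [← ker_mem_minimalPrimes_iff (f x) (f ζ) (hζx.map f.continuous)]
    exact mem_minimalPrimes_of_dim_quot_eq _ N hN (by rw [hb, hbN'])
  obtain ⟨U₁, hxU₁, hU₁⟩ := exists_nhd_max_specializes x
  rw [isEquidimAt_iff]
  refine ⟨e, U₁ ⊓ ⟨{z | FlatMor.fibreDimAt f z ≤ ((e : ℕ) : WithBot ℕ∞)},
    Groth.Agent.S0402.result f _⟩, ⟨hxU₁, hw.symm.le⟩, ?_, ?_⟩
  · intro ζ hζU hζmax
    exact ⟨(hclaim ζ hζmax (hU₁ ζ hζU.1 hζmax)).2, (hU₁ ζ hζU.1 hζmax).map f.continuous⟩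
  · intro z hz
    apply le_antisymm hz.2
    obtain ⟨ζ, hζmax, hζz⟩ := exists_max_generization z
    have hζU₁ : ζ ∈ U₁ := hζz.mem_open U₁.isOpen hz.1
    have h1 := (hclaim ζ hζmax (hU₁ ζ hζU₁ hζmax)).1
    rw [← h1]
    exact rt_le_fibreDimAt_of_specializes f ζ z hζz

end Main

end Groth.Agent.Lib.EquidimOpen
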