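import Groth.Agent.Lib.EquidimOpen
import Groth.Agent.Lib.H69RedInduced
import Groth.Agent.Lib.H56LocDimSch
import Groth.Agent.Lib.H80Equi4
import Mathlib

/-!
# Restriction of an equidimensional morphism to a reduced irreducible closed subscheme (helper63)

* `localDim_le_of_isInducing`, `fibLocDim_le_of_square`, `fibreDimAt_comp_le`: the local fibre
  dimension does not increase under restriction to a subscheme.
* `RedPt`: the reduced closed subscheme on the closure of a point, its generic point.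
* `isEquidimAt_redSub`: `f` restricted to the closure `Z` of `ζ` is equidimensional at `w` as soon
  as `f ζ` is a maximal point and the local fibre dimension of `f|_Z` at `w` is at most
  `trdeg κ(ζ)/κ(f ζ)`.
* `ringKrullDim_stalk_redSub_le`: `dim O_{Z,w} ≤ dim O_{X,j w}/𝔭_ζ`.
-/

set_option autoImplicit false
universe u
open CategoryTheory AlgebraicGeometry TopologicalSpace Topology

namespace Groth.Agent.Lib.EquidimRestrict

open Groth.Agent.Lib.H30GenFib Groth.Agent.Lib.H30DimRel Groth.Agent.Lib.H30IrrFib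
  Groth.Agent.Lib.H30EquidimAt Groth.Agent.Lib.EquidimOpen Groth.Agent.Lib.H56LocDim
  Groth.Agent.Lib.H69RedInduced

section Top

variable {X Y X' Y' : Type*} [TopologicalSpace X] [TopologicalSpace X']

/-- Local dimension does not increase under inducing maps. -/
theorem localDim_le_of_isInducing {j : X' → X} (hj : IsInducing j) (x' : X') :
    FlatMor.localDim X' x' ≤ FlatMor.localDim X (j x') := by
  unfold FlatMor.localDim
  refine le_iInf fun U => ?_
  obtain ⟨U, hU⟩ := U
  let W : Opens X' := ⟨j ⁻¹' (U : Set X), U.2.preimage hj.continuous⟩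
  have hW : x' ∈ W := hU
  refine (iInf_le _ (⟨W, hW⟩ : {W : Opens X' // x' ∈ W})).trans ?_
  change topologicalKrullDim (j ⁻¹' (U : Set X)) ≤ topologicalKrullDim (U : Set X)
  have : IsInducing (fun z : (j ⁻¹' (U : Set X)) => (⟨j z.1, z.2⟩ : (U : Set X))) := by
    have h1 : IsInducing (fun z : (j ⁻¹' (U : Set X)) => j z.1) :=
      hj.comp IsInducing.subtypeVal
    exact IsInducing.of_comp (Continuous.subtype_mk h1.continuous _) continuous_subtype_val h1
  exact this.topologicalKrullDim_le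

/-- The local dimension of fibres does not increase in a commutative square whose top map is
inducing. -/
theorem fibLocDim_le_of_square {j : X' → X} (hj : IsInducing j) {i : Y' → Y}
    (φ' : X' → Y') (φ : X → Y) (h : ∀ x', φ (j x') = i (φ' x'))
    (x' : X') : fibLocDim φ' x' ≤ fibLocDim φ (j x') := by
  unfold fibLocDim
  let J : (φ' ⁻¹' {φ' x'}) → (φ ⁻¹' {φ (j x')}) := fun z =>
    ⟨j z.1, by
      have := z.2
      simp only [Set.mem_preimage, Set.mem_singleton_iff] at this ⊢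
      rw [h, h, this]⟩
  have hJ : IsInducing J := by
    have h1 : IsInducing (fun z : (φ' ⁻¹' {φ' x'}) => j z.1) :=
      hj.comp IsInducing.subtypeVal
    exact IsInducing.of_comp (Continuous.subtype_mk h1.continuous _) continuous_subtype_val h1
  exact localDim_le_of_isInducing hJ ⟨x', rfl⟩

end Top

section Sch

variable {X Y Z : Scheme.{u}}

/-- The local fibre dimension does not increase under restriction along a topological
embedding. -/
theorem fibreDimAt_comp_le (j : Z ⟶ X) (hj : IsInducing j) (f : X ⟶ Y) (z : Z) :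
    FlatMor.fibreDimAt (j ≫ f) z ≤ FlatMor.fibreDimAt f (j z) := by
  rw [fibreDimAt_eq_fibLocDim, fibreDimAt_eq_fibLocDim]
  exact fibLocDim_le_of_square hj (i := id) (fun a => (j ≫ f) a) (fun a => f a) (fun _ => rfl) z

end Sch

section Irr

variable {X Y Z : Scheme.{u}}

/-- **Equidimensionality on an irreducible source.**  Let `Z` have a generic point `ξZ` whose image
is a maximal point of `Y`.  If the local fibre dimension of `g` at `w` is at most
`trdeg κ(ξZ)/κ(g ξZ)`, then `g` is equidimensional at `w`. -/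
theorem isEquidimAt_of_generic (g : Z ⟶ Y) [LocallyOfFiniteType g] (ξZ : Z)
    (hξ : ∀ z : Z, ξZ ⤳ z) (hmax : IsMaxPt (g ξZ)) (w : Z)
    (hle : FlatMor.fibreDimAt g w ≤ ((rt g ξZ : ℕ) : WithBot ℕ∞)) : EGA43.IsEquidimAt g w := by
  rw [isEquidimAt_iff]
  refine ⟨rt g ξZ, ⟨{z | FlatMor.fibreDimAt g z ≤ ((rt g ξZ : ℕ) : WithBot ℕ∞)},
    Groth.Agent.S0402.result g _⟩, hle, ?_, ?_⟩
  · intro ζ _ hζmax
    have : ζ = ξZ := (hζmax ξZ (hξ ζ)).symm
    subst this
    exact ⟨hmax, (hξ w).map g.continuous⟩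
  · intro z hz
    exact le_antisymm hz (rt_le_fibreDimAt_of_specializes g ξZ z (hξ z))

/-- On a scheme with a generic point, the quotient of a local ring by the prime of the generic
point has the dimension of the local ring. -/
theorem ringKrullDim_locQuot_generic [IsLocallyNoetherian Z] (ξZ : Z) (hξ : ∀ z : Z, ξZ ⤳ z)
    (w : Z) : ringKrullDim (Cyc.LocQuot w ξZ (hξ w)) = ringKrullDim (Z.presheaf.stalk w) := by
  obtain ⟨p, hp, hdim⟩ := exists_minimalPrimes_dim_eq (Z.presheaf.stalk w) ringKrullDim_lt_top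
  haveI : p.IsPrime := hp.1.1
  obtain ⟨ζ', hζ', hker⟩ := exists_specializes_ker_eq w p
  have hmax : IsMaxPt ζ' := by
    rw [← ker_mem_minimalPrimes_iff w ζ' hζ', hker]; exact hp
  have : ξZ = ζ' := hmax ξZ (hξ ζ')
  subst this
  rw [← hdim, ← hker]

/-- For a preimmersion `j : Z ⟶ X` from a scheme with generic point `ξZ`:
`dim O_{Z,w} ≤ dim O_{X,j w}/𝔭_{j ξZ}`. -/
theorem ringKrullDim_stalk_le_locQuot [IsLocallyNoetherian X] (j : Z ⟶ X) [IsPreimmersion j]
    [LocallyOfFiniteType j] (ξZ : Z) (hξ : ∀ z : Z, ξZ ⤳ z) (w : Z) :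
    ringKrullDim (Z.presheaf.stalk w) ≤
      ringKrullDim (Cyc.LocQuot (j w) (j ξZ) ((hξ w).map j.continuous)) := by
  haveI : IsLocallyNoetherian Z := LocallyOfFiniteType.isLocallyNoetherian j
  obtain ⟨a, b, ha, hb, hab⟩ := gen_ineq j w ξZ (hξ w)
  rw [rt_of_isPreimmersion j w, rt_of_isPreimmersion j ξZ] at hab
  rw [← ringKrullDim_locQuot_generic ξZ hξ w, ha, hb]
  have : a ≤ b := by omega
  exact_mod_cast this

end Irr

section Red

variable {X : Scheme.{u}}

/-- the closure of a point, as a closed subset -/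
def clos (ζ : X) : Closeds X := ⟨closure {ζ}, isClosed_closure⟩

/-- points of the reduced closed subscheme on the closure of `ζ` -/
theorem exists_redSub_pt (ζ t : X) (h : ζ ⤳ t) : ∃ z : ↥(redSub (clos ζ)), redSubι (clos ζ) z = t := by
  have : t ∈ Set.range (redSubι (clos ζ)) := by
    rw [range_redSubι]
    exact specializes_iff_mem_closure.mp h
  exact this

theorem specializes_redSubι (ζ : X) (z : ↥(redSub (clos ζ))) : ζ ⤳ redSubι (clos ζ) z := by
  have : redSubι (clos ζ) z ∈ Set.range (redSubι (clos ζ)) := ⟨z, rfl⟩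
  rw [range_redSubι] at this
  exact specializes_iff_mem_closure.mpr this

/-- the generic point of the reduced closed subscheme on the closure of `ζ` -/
theorem exists_redSub_generic (ζ : X) : ∃ ξZ : ↥(redSub (clos ζ)),
    redSubι (clos ζ) ξZ = ζ ∧ ∀ z : ↥(redSub (clos ζ)), ξZ ⤳ z := by
  obtain ⟨ξZ, hξZ⟩ := exists_redSub_pt ζ ζ specializes_rfl
  refine ⟨ξZ, hξZ, fun z => ?_⟩
  apply (redSubι (clos ζ)).isEmbedding.isInducing.specializes_iff.mp
  rw [hξZ]
  exact specializes_redSubι ζ z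

end Red

section Main

variable {X Y : Scheme.{u}}

theorem isOpenAt_of_isUnivOpenAt (f : X ⟶ Y) (x : X) (h : EGA43.IsUnivOpenAt f x) :
    EGA43.IsOpenAt f.base x :=
  Groth.Agent.Lib.UnivOpenAt.isOpenAt_snd_of_isPullback (IsPullback.id_horiz f) h x rfl

/-- equidimensionality at `x` passes to the generizations of `x` in the fibre through `x` -/
theorem isEquidimAt_of_specializes (f : X ⟶ Y) [LocallyOfFiniteType f] (x w : X) (hwx : w ⤳ x)
    (hfw : f w = f x) (h : EGA43.IsEquidimAt f x) : EGA43.IsEquidimAt f w := by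
  obtain ⟨e, U, hxU, hmaxU, hfibU⟩ := (isEquidimAt_iff f x).mp h
  refine (isEquidimAt_iff f w).mpr ⟨e, U, hwx.mem_open U.isOpen hxU, ?_, hfibU⟩
  intro ζ hζ hm
  rw [hfw]
  exact hmaxU ζ hζ hm

theorem ringKrullDim_locQuot_congr (x ζ ζ' : X) (h : ζ ⤳ x) (h' : ζ' ⤳ x) (heq : ζ' = ζ) :
    ringKrullDim (Cyc.LocQuot x ζ' h') = ringKrullDim (Cyc.LocQuot x ζ h) := by
  subst heq; rfl

theorem isGeomUnibranch_of_eq (y y' : Y) (h : y' = y)
    (hy : CAlg2.IsGeomUnibranch (Y.presheaf.stalk y)) :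
    CAlg2.IsGeomUnibranch (Y.presheaf.stalk y') := by
  subst h; exact hy

/-- **EGA IV 14.4.6, a) ⇒ b).**  If `f` is equidimensional at `x` and `f x` is a geometrically
unibranch point, then `O_{X,x}` is equidimensional. -/
theorem isEquidim_stalk_of_isEquidimAt [IsLocallyNoetherian Y] (f : X ⟶ Y)
    [LocallyOfFiniteType f] (x : X)
    (hy : CAlg2.IsGeomUnibranch (Y.presheaf.stalk (f x))) (h : EGA43.IsEquidimAt f x) :
    EGA4.IsEquidim (X.presheaf.stalk x) := by
  haveI : IsLocallyNoetherian X := LocallyOfFiniteType.isLocallyNoetherian f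
  obtain ⟨e, U, hxU, hmaxU, hfibU⟩ := (isEquidimAt_iff f x).mp h
  have hopen : ∀ w : X, f w = f x → w ⤳ x → EGA43.IsOpenAt f.base w := by
    intro w hfw hwx
    exact isOpenAt_of_isUnivOpenAt f w
      (Groth.Agent.Lib.H80Equi.isUnivOpenAt_of_isEquidimAt f w (isGeomUnibranch_of_eq _ _ hfw hy)
        (isEquidimAt_of_specializes f x w hwx hfw h))
  -- EGA IV 14.2.1 for `f`
  have hK3 := Groth.Agent.Lib.H56OpenDim.ringKrullDim_stalk_eq_add_of_isOpenAt f x
    (fun z hzx hfz _ => hopen z hfz hzx)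
  have hfd := Groth.Agent.Lib.FibreDimAtFormula.fibreDimAt_eq_add f x (rt f x) (trdeg_eq_rt f x)
  rw [hfibU x hxU] at hfd
  obtain ⟨N, hN⟩ : ∃ N : ℕ, ringKrullDim (Y.presheaf.stalk (f x)) = N :=
    exists_nat_eq_of_ne_bot_top _ ringKrullDim_ne_bot ringKrullDim_ne_top
  obtain ⟨C, hC, heC⟩ := exists_nat_of_add_eq _ _ _ hfd.symm
  have hd : ringKrullDim (X.presheaf.stalk x) = ((N + C : ℕ) : WithBot ℕ∞) := by
    rw [hK3, hN, hC]; push_cast; rfl
  intro p hp
  haveI : p.IsPrime := hp.1.1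
  obtain ⟨ζ, hζx, rfl⟩ := exists_specializes_ker_eq x p
  have hζmax : IsMaxPt ζ := (ker_mem_minimalPrimes_iff x ζ hζx).mp hp
  have hζU : ζ ∈ U := hζx.mem_open U.isOpen hxU
  obtain ⟨hfζmax, -⟩ := hmaxU ζ hζU hζmax
  have hrtζ : rt f ζ = e := by
    have h1 := fibreDimAt_of_maximal f ζ hζmax
    rw [hfibU ζ hζU] at h1
    exact_mod_cast h1.symm
  -- the reduced closed subscheme on the closure of `ζ`
  obtain ⟨ξZ, hξZ, hξ⟩ := exists_redSub_generic ζ
  obtain ⟨xZ, hxZ⟩ := exists_redSub_pt ζ x hζx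
  obtain ⟨j, hj⟩ : ∃ j : redSub (clos ζ) ⟶ X, j = redSubι (clos ζ) := ⟨_, rfl⟩
  rw [← hj] at hξZ hxZ
  haveI : IsClosedImmersion j := by rw [hj]; infer_instance
  obtain ⟨g, hg⟩ : ∃ g : redSub (clos ζ) ⟶ Y, g = j ≫ f := ⟨_, rfl⟩
  haveI : LocallyOfFiniteType g := by rw [hg]; infer_instance
  have hgpt : ∀ z : ↥(redSub (clos ζ)), g z = f (j z) := by
    intro z; rw [hg]; rfl
  have hrtg : ∀ z : ↥(redSub (clos ζ)), rt g z = rt f (j z) := by
    intro z; rw [hg]; exact rt_comp_of_isPreimmersion f j z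
  have hrtgξ : rt g ξZ = e := by rw [hrtg, hξZ, hrtζ]
  have hgξ : IsMaxPt (g ξZ) := by rw [hgpt, hξZ]; exact hfζmax
  have hfdle : ∀ w : ↥(redSub (clos ζ)), j w ∈ U →
      FlatMor.fibreDimAt g w ≤ ((e : ℕ) : WithBot ℕ∞) := by
    intro w hw
    rw [hg]
    exact (fibreDimAt_comp_le j j.isEmbedding.isInducing f w).trans (hfibU _ hw).le
  have hEg : ∀ w : ↥(redSub (clos ζ)), j w ∈ U → EGA43.IsEquidimAt g w := by
    intro w hw
    apply isEquidimAt_of_generic g ξZ hξ hgξ w
    rw [hrtgξ]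
    exact hfdle w hw
  have hgxZ : g xZ = f x := by rw [hgpt, hxZ]
  have hgopen : ∀ w : ↥(redSub (clos ζ)), w ⤳ xZ → g w = g xZ → EGA43.IsOpenAt g.base w := by
    intro w hw hgw
    have hjw : j w ⤳ x := by rw [← hxZ]; exact hw.map j.continuous
    have hjwU : j w ∈ U := hjw.mem_open U.isOpen hxU
    exact isOpenAt_of_isUnivOpenAt g w
      (Groth.Agent.Lib.H80Equi.isUnivOpenAt_of_isEquidimAt g w
        (isGeomUnibranch_of_eq _ _ (hgw.trans hgxZ) hy) (hEg w hjwU))
  haveI : IsLocallyNoetherian (redSub (clos ζ)) := LocallyOfFiniteType.isLocallyNoetherian g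
  have hK3g := Groth.Agent.Lib.H56OpenDim.ringKrullDim_stalk_eq_add_of_isOpenAt g xZ
    (fun z hz hgz _ => hgopen z hz hgz)
  have hfdg := Groth.Agent.Lib.FibreDimAtFormula.fibreDimAt_eq_add g xZ (rt g xZ)
    (trdeg_eq_rt g xZ)
  have hgfd : FlatMor.fibreDimAt g xZ = ((e : ℕ) : WithBot ℕ∞) := by
    apply le_antisymm (hfdle xZ (by rw [hxZ]; exact hxU))
    rw [← hrtgξ]
    exact rt_le_fibreDimAt_of_specializes g ξZ xZ (hξ xZ)
  rw [hgfd, hrtg xZ, hxZ] at hfdg
  obtain ⟨C', hC', heC'⟩ := exists_nat_of_add_eq _ _ _ hfdg.symm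
  have hCC' : C' = C := by omega
  rw [hC', hgxZ, hN, hCC'] at hK3g
  have hE := ringKrullDim_stalk_le_locQuot j ξZ hξ xZ
  rw [hK3g] at hE
  apply le_antisymm (ringKrullDim_quotient_le _)
  rw [hd]
  subst hxZ
  rw [ringKrullDim_locQuot_congr (j xZ) ζ (j ξZ) hζx ((hξ xZ).map j.continuous) hξZ] at hE
  refine le_trans ?_ hE
  push_cast
  rfl

end Main

end Groth.Agent.Lib.EquidimRestrict
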