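import Groth.Agent.Lib.EquidimRestrict
import Mathlib

/-!
# Restriction of an equidimensional morphism to an irreducible closed subset (helper63)

* `fibLocDim_eq_localDim_inter`: the local dimension of the fibres of the restriction of `φ` to an
  embedded subspace `S` is the local dimension of `S ∩ φ⁻¹(φ x)`.
* `isMaxPt_of_stalk_dim_zero`.
* `restrict_main`: EGA IV 13.3.? (`S4943`).
-/

set_option autoImplicit false
universe u
open CategoryTheory AlgebraicGeometry TopologicalSpace Topology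

namespace Groth.Agent.Lib.EquidimRestrict

open Groth.Agent.Lib.H30GenFib Groth.Agent.Lib.H30DimRel Groth.Agent.Lib.H30IrrFib
  Groth.Agent.Lib.H30EquidimAt Groth.Agent.Lib.EquidimOpen Groth.Agent.Lib.H56LocDim
  Groth.Agent.Lib.H69RedInduced

section Top

variable {A B C : Type*} [TopologicalSpace A] [TopologicalSpace B]

theorem fibLocDim_eq_localDim_inter (j : A → B) (hj : IsEmbedding j) (φ : B → C) (φ' : A → C)
    (h : ∀ a, φ' a = φ (j a)) (a : A) (S : Set B) (hS : Set.range j = S) (hx : j a ∈ S) :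
    fibLocDim φ' a = FlatMor.localDim ↥(S ∩ φ ⁻¹' {φ (j a)}) ⟨j a, ⟨hx, rfl⟩⟩ := by
  unfold fibLocDim
  let J : (φ' ⁻¹' {φ' a}) → ↥(S ∩ φ ⁻¹' {φ (j a)}) := fun z =>
    ⟨j z.1, ⟨hS ▸ ⟨z.1, rfl⟩, by
      have := z.2
      simp only [Set.mem_preimage, Set.mem_singleton_iff] at this ⊢
      rw [← h, ← h, this]⟩⟩
  have hJ : IsEmbedding J := by
    have h1 : IsEmbedding (fun z : (φ' ⁻¹' {φ' a}) => j z.1) :=
      hj.comp IsEmbedding.subtypeVal
    exact IsEmbedding.of_comp (Continuous.subtype_mk h1.continuous _) continuous_subtype_val h1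
  have hsurj : Function.Surjective J := by
    rintro ⟨b, hbS, hbφ⟩
    rw [← hS] at hbS
    obtain ⟨z, rfl⟩ := hbS
    refine ⟨⟨z, ?_⟩, rfl⟩
    simp only [Set.mem_preimage, Set.mem_singleton_iff] at hbφ ⊢
    rw [h, h, hbφ]
  exact localDim_eq_of_homeomorph (hJ.toHomeomorphOfSurjective hsurj) ⟨a, rfl⟩

end Top

section Main

variable {X Y : Scheme.{u}}

theorem isMaxPt_of_stalk_dim_zero (w : X) (h : ringKrullDim (X.presheaf.stalk w) = 0) :
    IsMaxPt w := by
  rw [ringKrullDim_stalk_eq_coheight] at h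
  have h0 : Order.coheight w = 0 := by exact_mod_cast h
  have hmax : IsMax w := Order.coheight_eq_zero.mp h0
  intro ξ hξ
  have hle : w ≤ ξ := hξ
  have hge : ξ ≤ w := hmax hle
  have hsp : w ⤳ ξ := hge
  exact (hξ.antisymm hsp).eq

theorem exists_nat_of_add_le (c : WithBot ℕ∞) (r e : ℕ) (h0 : (0 : WithBot ℕ∞) ≤ c)
    (h : c + (r : WithBot ℕ∞) ≤ (e : WithBot ℕ∞)) : ∃ l : ℕ, c = l ∧ l + r ≤ e := by
  induction c using WithBot.recBotCoe with
  | bot => simp at h0
  | coe c =>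
    induction c using ENat.recTopCoe with
    | top =>
      exfalso
      have h1 : (((⊤ : ℕ∞) + (r : ℕ∞) : ℕ∞) : WithBot ℕ∞) ≤ ((e : ℕ∞) : WithBot ℕ∞) := h
      rw [top_add] at h1
      have h2 : (⊤ : ℕ∞) ≤ (e : ℕ∞) := WithBot.coe_le_coe.mp h1
      exact absurd (top_le_iff.mp h2) (ENat.coe_ne_top e)
    | coe l =>
      refine ⟨l, rfl, ?_⟩
      have h1 : (((l + r : ℕ) : ℕ∞) : WithBot ℕ∞) ≤ ((e : ℕ∞) : WithBot ℕ∞) := by
        push_cast; exact h
      have h2 : ((l + r : ℕ) : ℕ∞) ≤ (e : ℕ∞) := WithBot.coe_le_coe.mp h1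
      exact_mod_cast h2

/-- **EGA IV 13.3.**  Restriction of a morphism equidimensional at `x` to an irreducible closed
subset through `x` of small codimension and small fibre dimension. -/
theorem restrict_main [IsLocallyNoetherian Y] (f : X ⟶ Y) [LocallyOfFiniteType f] (x : X)
    (hf : EGA43.IsEquidimAt f x) (X' : Closeds X) (x' : X)
    (hx' : closure ({x'} : Set X) = (X' : Set X)) (hx : x ∈ X') (n : ℕ)
    (hcodim : ringKrullDim (X.presheaf.stalk x') ≤ n)
    (hdim : FlatMor.localDim ↥((X' : Set X) ∩ f.base ⁻¹' {f.base x}) ⟨x, ⟨hx, rfl⟩⟩ + n ≤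
      FlatMor.fibreDimAt f x) :
    ringKrullDim (X.presheaf.stalk x') = n ∧
      FlatMor.localDim ↥((X' : Set X) ∩ f.base ⁻¹' {f.base x}) ⟨x, ⟨hx, rfl⟩⟩ + n =
        FlatMor.fibreDimAt f x ∧
      ∀ w : ↥(redSub X'), (redSubι X').base w = x →
        EGA43.IsEquidimAt (redSubι X' ≫ f) w := by
  haveI : IsLocallyNoetherian X := LocallyOfFiniteType.isLocallyNoetherian f
  obtain ⟨e, U, hxU, hmaxU, hfibU⟩ := (isEquidimAt_iff f x).mp hf
  have hx'x : x' ⤳ x := by rw [specializes_iff_mem_closure, hx']; exact hx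
  have hx'U : x' ∈ U := hx'x.mem_open U.isOpen hxU
  -- the subscheme
  obtain ⟨j, hj⟩ : ∃ j : redSub X' ⟶ X, j = redSubι X' := ⟨_, rfl⟩
  have hrange : Set.range j = (X' : Set X) := by rw [hj]; exact range_redSubι X'
  obtain ⟨ξZ, hξZ⟩ : ∃ ξZ, j ξZ = x' := by
    have : x' ∈ Set.range j := by rw [hrange, ← hx']; exact subset_closure rfl
    exact this
  obtain ⟨xZ, hxZ⟩ : ∃ xZ, j xZ = x := by
    have : x ∈ Set.range j := by rw [hrange]; exact hx
    exact this
  haveI : IsClosedImmersion j := by rw [hj]; infer_instance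
  have hξ : ∀ z : ↥(redSub X'), ξZ ⤳ z := by
    intro z
    apply j.isEmbedding.isInducing.specializes_iff.mp
    rw [hξZ, specializes_iff_mem_closure, hx', ← hrange]
    exact ⟨z, rfl⟩
  obtain ⟨g, hg⟩ : ∃ g : redSub X' ⟶ Y, g = j ≫ f := ⟨_, rfl⟩
  haveI : LocallyOfFiniteType g := by rw [hg]; infer_instance
  have hgpt : ∀ z : ↥(redSub X'), g z = f (j z) := by
    intro z; rw [hg]; rfl
  have hrtg : ∀ z : ↥(redSub X'), rt g z = rt f (j z) := by
    intro z; rw [hg]; exact rt_comp_of_isPreimmersion f j z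
  -- the local dimension in the statement is the local fibre dimension of `g`
  have hL : FlatMor.fibreDimAt g xZ =
      FlatMor.localDim ↥((X' : Set X) ∩ f.base ⁻¹' {f.base x}) ⟨x, ⟨hx, rfl⟩⟩ := by
    subst hxZ
    rw [fibreDimAt_eq_fibLocDim]
    exact fibLocDim_eq_localDim_inter j j.isEmbedding f.base g.base hgpt xZ (X' : Set X) hrange hx
  rw [← hL, hfibU x hxU] at hdim ⊢
  have h1 : ((rt g ξZ : ℕ) : WithBot ℕ∞) ≤ FlatMor.fibreDimAt g xZ :=
    rt_le_fibreDimAt_of_specializes g ξZ xZ (hξ xZ)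
  obtain ⟨l, hl, hle⟩ := exists_nat_of_add_le _ n e
    (le_trans (by exact_mod_cast Nat.zero_le _) h1) hdim
  rw [hl] at h1 ⊢
  have hrt' : rt f x' ≤ l := by
    rw [hrtg, hξZ] at h1
    exact_mod_cast h1
  -- the fibre through `x'`
  have hfd := Groth.Agent.Lib.FibreDimAtFormula.fibreDimAt_eq_add f x' (rt f x') (trdeg_eq_rt f x')
  rw [hfibU x' hx'U] at hfd
  obtain ⟨c', hc', hec'⟩ := exists_nat_of_add_eq _ _ _ hfd.symm
  obtain ⟨w, hwx', hfw, -, hwsum⟩ :=
    Groth.Agent.Lib.H56OpenDim.exists_generization_fibre_generic' f x'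
  rw [hc'] at hwsum
  obtain ⟨dw, hdw⟩ : ∃ dw : ℕ, ringKrullDim (X.presheaf.stalk w) = dw :=
    exists_nat_eq_of_ne_bot_top _ ringKrullDim_ne_bot ringKrullDim_ne_top
  obtain ⟨dx, hdx⟩ : ∃ dx : ℕ, ringKrullDim (X.presheaf.stalk x') = dx :=
    exists_nat_eq_of_ne_bot_top _ ringKrullDim_ne_bot ringKrullDim_ne_top
  rw [hdw, hdx] at hwsum
  rw [hdx] at hcodim ⊢
  have hwsum' : dw + c' ≤ dx := by exact_mod_cast hwsum
  have hcodim' : dx ≤ n := by exact_mod_cast hcodim
  have hdw0 : dw = 0 := by omega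
  have hc'n : c' = n := by omega
  have hle' : l = rt f x' := by omega
  refine ⟨?_, ?_, ?_⟩
  · have : dx = n := by omega
    rw [this]
  · have : l + n = e := by omega
    exact_mod_cast this
  · have hwmax : IsMaxPt w := isMaxPt_of_stalk_dim_zero w (by rw [hdw, hdw0]; rfl)
    have hwU : w ∈ U := (hwx'.trans hx'x).mem_open U.isOpen hxU
    obtain ⟨hfwmax, -⟩ := hmaxU w hwU hwmax
    have hgξmax : IsMaxPt (g ξZ) := by rw [hgpt, hξZ, ← hfw]; exact hfwmax
    intro w' hw'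
    have hw'x : w' = xZ := by
      apply j.isEmbedding.injective
      rw [hxZ, hj]
      exact hw'
    subst hw'x
    have hgg : redSubι X' ≫ f = g := by rw [hg, hj]
    rw [hgg]
    apply isEquidimAt_of_generic g ξZ hξ hgξmax w'
    rw [hl, hrtg, hξZ, hle']

end Main

end Groth.Agent.Lib.EquidimRestrict
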