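import Mathlib
import Groth.Prelude.Def_Magnet

/-!
# Equivariant maps out of a universal pushout (helper24)

If a square of `A`-objects `B₁ → B₂ → B₄`, `B₁ → B₃ → B₄` with equivariant maps stays a pushout
after `- ▷ W` and `A ◁ (- ▷ W)`, then the square of functors `eqvHom ρ₄ a → eqvHom ρ₂ a`, ... is
cartesian.
-/

set_option autoImplicit false
universe v₁ u₁

namespace Groth.Agent.Lib.EqvHomPullback24

open CategoryTheory CategoryTheory.Limits MonoidalCategory CartesianMonoidalCategory MonObj Opposite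
open Magnet Magnet.MonAct

variable {C : Type u₁} [Category.{v₁} C] [CartesianMonoidalCategory C]
variable {A X : C} [MonObj A]

/-- whiskering an equivariant map is equivariant for the product actions with the trivial one -/
theorem isEquivariant_whiskerRight {B B' : C} {ρ : MonAct A B} {ρ' : MonAct A B'} {ψ : B' ⟶ B}
    (hψ : IsEquivariant ρ' ρ ψ) (T : C) :
    IsEquivariant (ρ'.prod (trivial A T)) (ρ.prod (trivial A T)) (ψ ▷ T) := by
  rw [isEquivariant_iff] at hψ ⊢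
  intro T' g x
  rw [← lift_comp_fst_snd x]
  rw [lift_prod_act_assoc, lift_trivial_act, lift_whiskerRight, lift_whiskerRight, lift_prod_act,
    lift_trivial_act, Category.assoc, hψ]

theorem isPullback_eqvHom_precomp (a : MonAct A X) {B₁ B₂ B₃ B₄ : C}
    {ρ₁ : MonAct A B₁} {ρ₂ : MonAct A B₂} {ρ₃ : MonAct A B₃} {ρ₄ : MonAct A B₄}
    {i : B₁ ⟶ B₂} {j : B₁ ⟶ B₃} {p : B₂ ⟶ B₄} {q : B₃ ⟶ B₄}
    (hi : IsEquivariant ρ₁ ρ₂ i) (hj : IsEquivariant ρ₁ ρ₃ j) (hp : IsEquivariant ρ₂ ρ₄ p)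
    (hq : IsEquivariant ρ₃ ρ₄ q)
    (h1 : ∀ W : C, IsPushout (i ▷ W) (j ▷ W) (p ▷ W) (q ▷ W))
    (h2 : ∀ W : C, IsPushout (A ◁ (i ▷ W)) (A ◁ (j ▷ W)) (A ◁ (p ▷ W)) (A ◁ (q ▷ W))) :
    IsPullback (eqvHom.precomp a p hp) (eqvHom.precomp a q hq) (eqvHom.precomp a i hi)
      (eqvHom.precomp a j hj) := by
  refine IsPullback.of_forall_isPullback_app fun T => ?_
  rw [Types.isPullback_iff]
  refine ⟨?_, ?_, ?_⟩
  · ext φ
    apply Subtype.ext
    change (i ▷ unop T) ≫ (p ▷ unop T) ≫ φ.1 = (j ▷ unop T) ≫ (q ▷ unop T) ≫ φ.1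
    rw [← Category.assoc, ← Category.assoc, (h1 (unop T)).w]
  · rintro φ₁ φ₂ ⟨e₁, e₂⟩
    apply Subtype.ext
    apply (h1 (unop T)).hom_ext
    · exact congrArg Subtype.val e₁
    · exact congrArg Subtype.val e₂
  · intro φ' φ h
    have h' : (i ▷ unop T) ≫ φ'.1 = (j ▷ unop T) ≫ φ.1 := congrArg Subtype.val h
    have e₁ : (p ▷ unop T) ≫ (h1 (unop T)).desc φ'.1 φ.1 h' = φ'.1 := (h1 (unop T)).inl_desc _ _ _
    have e₂ : (q ▷ unop T) ≫ (h1 (unop T)).desc φ'.1 φ.1 h' = φ.1 := (h1 (unop T)).inr_desc _ _ _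
    refine ⟨⟨(h1 (unop T)).desc φ'.1 φ.1 h', ?_⟩, Subtype.ext e₁, Subtype.ext e₂⟩
    have hφ' := φ'.2
    have hφ := φ.2
    unfold IsEquivariant at hφ' hφ ⊢
    apply (h2 (unop T)).hom_ext
    · have := isEquivariant_whiskerRight hp (unop T)
      unfold IsEquivariant at this
      rw [← reassoc_of% this, e₁, hφ', ← MonoidalCategory.whiskerLeft_comp_assoc, e₁]
    · have := isEquivariant_whiskerRight hq (unop T)
      unfold IsEquivariant at this
      rw [← reassoc_of% this, e₂, hφ, ← MonoidalCategory.whiskerLeft_comp_assoc, e₂]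

end Groth.Agent.Lib.EqvHomPullback24
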