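import Groth.Prelude.Def_EssEt
import Mathlib.RingTheory.Unramified.Finite
import Mathlib.RingTheory.Unramified.LocalRing
import Mathlib.RingTheory.Etale.Basic

set_option autoImplicit false
universe u

namespace Groth.Agent.Lib.EssEtale

open TensorProduct IsLocalRing

/-- Two algebra maps from a formally unramified algebra (essentially of finite type) to a local
ring which agree modulo the maximal ideal are equal. -/
theorem algHom_ext_of_residue_eq {A C B : Type*} [CommRing A] [CommRing C] [Algebra A C]
    [CommRing B] [IsLocalRing B] [Algebra A B]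
    [Algebra.FormallyUnramified A C] [Algebra.EssFiniteType A C]
    (f g : C →ₐ[A] B) (h : ∀ x, residue B (f x) = residue B (g x)) : f = g := by
  let φ : C ⊗[A] C →ₐ[A] B := Algebra.TensorProduct.productMap f g
  let t := Algebra.FormallyUnramified.elem A C
  -- the image of `t` is congruent to `1` modulo the maximal ideal
  have key : ∀ z : C ⊗[A] C, residue B (φ z) = residue B (f (Algebra.TensorProduct.lmul' A z)) := by
    intro z
    induction z using TensorProduct.induction_on with
    | zero => simp
    | add x y hx hy => simp only [map_add, hx, hy]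
    | tmul x y =>
      simp only [φ, Algebra.TensorProduct.productMap_apply_tmul,
        Algebra.TensorProduct.lmul'_apply_tmul, map_mul, h]
  have hu : IsUnit (φ t) := by
    have h1 : residue B (φ t) = 1 := by
      rw [key, Algebra.FormallyUnramified.lmul_elem]
      simp
    have : IsUnit (residue B (φ t)) := by rw [h1]; exact isUnit_one
    exact (isUnit_map_iff (residue B) _).mp this
  ext s
  have h2 := congrArg φ (Algebra.FormallyUnramified.one_tmul_sub_tmul_one_mul_elem (R := A) s)
  simp only [map_mul, map_sub, map_zero, φ, Algebra.TensorProduct.productMap_apply_tmul,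
    map_one, one_mul, mul_one] at h2
  have h3 := hu.mul_left_eq_zero.mp h2
  exact (sub_eq_zero.mp h3).symm

section

variable {A B : Type u} [CommRing A] [IsLocalRing A] [CommRing B] [Algebra A B]

theorem formallyUnramified_of_isEssentiallyEtale (h : EGA4loc.IsEssentiallyEtale A B) :
    Algebra.FormallyUnramified A B := by
  obtain ⟨C, _, _, q, _, hC, -, ⟨e⟩⟩ := h
  have : Algebra.FormallyUnramified C (Localization.AtPrime q) :=
    Algebra.FormallyUnramified.of_isLocalization q.primeCompl
  have : Algebra.FormallyUnramified A (Localization.AtPrime q) :=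
    Algebra.FormallyUnramified.comp A C _
  exact Algebra.FormallyUnramified.of_equiv e.symm

theorem essFiniteType_of_isEssentiallyEtale (h : EGA4loc.IsEssentiallyEtale A B) :
    Algebra.EssFiniteType A B := by
  obtain ⟨C, _, _, q, _, hC, -, ⟨e⟩⟩ := h
  have : Algebra.EssFiniteType C (Localization.AtPrime q) :=
    Algebra.EssFiniteType.of_isLocalization _ q.primeCompl
  have : Algebra.EssFiniteType A (Localization.AtPrime q) :=
    Algebra.EssFiniteType.comp A C _
  exact Algebra.EssFiniteType.of_surjective e.symm.toAlgHom e.symm.surjective

end

/-- An algebra map between local algebras over a local ring, the source being essentially etale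
with local structure map, and the target having local structure map, is local. -/
theorem isLocalHom_of_isEssentiallyEtale {A A₁ A₂ : Type u} [CommRing A] [IsLocalRing A]
    [CommRing A₁] [IsLocalRing A₁] [Algebra A A₁] [IsLocalHom (algebraMap A A₁)]
    [CommRing A₂] [IsLocalRing A₂] [Algebra A A₂] [IsLocalHom (algebraMap A A₂)]
    (h₁ : EGA4loc.IsEssentiallyEtale A A₁) (f : A₁ →ₐ[A] A₂) :
    ∀ x ∈ maximalIdeal A₁, f x ∈ maximalIdeal A₂ := by
  have := formallyUnramified_of_isEssentiallyEtale h₁
  have := essFiniteType_of_isEssentiallyEtale h₁
  have hm : (maximalIdeal A).map (algebraMap A A₁) = maximalIdeal A₁ :=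
    Algebra.FormallyUnramified.map_maximalIdeal
  have hle : (maximalIdeal A).map (algebraMap A A₂) ≤ maximalIdeal A₂ :=
    ((local_hom_TFAE (algebraMap A A₂)).out 0 2 rfl rfl).mp ‹_›
  intro x hx
  rw [← hm] at hx
  have : f x ∈ ((maximalIdeal A).map (algebraMap A A₁)).map f.toRingHom :=
    Ideal.mem_map_of_mem _ hx
  rw [Ideal.map_map, AlgHom.toRingHom_eq_coe, f.comp_algebraMap] at this
  exact hle this

end Groth.Agent.Lib.EssEtale
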