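import Groth.Prelude.Def_EssEt
import Mathlib.RingTheory.Etale.Basic
import Mathlib.RingTheory.Unramified.LocalStructure
import Mathlib.RingTheory.QuasiFinite.Basic
import Mathlib.RingTheory.Localization.AtPrime.Basic
import Mathlib.RingTheory.LocalRing.RingHom.Basic

/-!
Algebra maps from an essentially étale local algebra to a local algebra (with local structure
map) are local.
-/

set_option autoImplicit false
universe u

namespace Groth.Agent.Lib.EssEtaleLocal

theorem isLocalHom_algHom (A : Type u) [CommRing A] [IsLocalRing A]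
    (B : Type u) [CommRing B] [Algebra A B] (hB : EGA4loc.IsEssentiallyEtale A B)
    (C : Type u) [CommRing C] [IsLocalRing C] [Algebra A C] [IsLocalHom (algebraMap A C)]
    (φ : B →ₐ[A] C) : IsLocalHom φ.toRingHom := by
  obtain ⟨C', _, _, q, _, hEt, hq, ⟨e⟩⟩ := hB
  let θ : Localization.AtPrime q →ₐ[A] C := φ.comp (e.symm : Localization.AtPrime q →ₐ[A] B)
  let ψ : C' →ₐ[A] C := θ.comp (IsScalarTower.toAlgHom A C' (Localization.AtPrime q))
  have hψ : ∀ c, ψ c = θ (algebraMap C' (Localization.AtPrime q) c) := fun c => rfl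
  let P' : Ideal C' := (IsLocalRing.maximalIdeal C).comap ψ.toRingHom
  have hP'prime : P'.IsPrime := Ideal.comap_isPrime _ _
  have hmem : ∀ c, c ∈ P' ↔ ¬ IsUnit (ψ c) := by
    intro c
    show ψ c ∈ IsLocalRing.maximalIdeal C ↔ _
    exact IsLocalRing.mem_maximalIdeal _
  have hle : P' ≤ q := by
    intro x hx
    by_contra hxq
    have h1 : IsUnit (algebraMap C' (Localization.AtPrime q) x) :=
      IsLocalization.map_units (Localization.AtPrime q) (⟨x, hxq⟩ : q.primeCompl)
    exact (hmem x).mp hx (hψ x ▸ h1.map θ)
  have hunder : P'.under A = q.under A := by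
    show Ideal.comap (algebraMap A C') P' = Ideal.comap (algebraMap A C') q
    rw [hq]
    show Ideal.comap (algebraMap A C') (Ideal.comap ψ.toRingHom (IsLocalRing.maximalIdeal C)) = _
    rw [Ideal.comap_comap]
    have : ψ.toRingHom.comp (algebraMap A C') = algebraMap A C := ψ.comp_algebraMap
    rw [this]
    exact IsLocalRing.maximalIdeal_comap (algebraMap A C)
  have hPq : P' = q := Algebra.QuasiFinite.eq_of_le_of_under_eq (R := A) P' q hle hunder
  refine ⟨fun b hb => ?_⟩
  obtain ⟨c, s, hy⟩ := IsLocalization.exists_mk'_eq q.primeCompl (e b)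
  have hspec : e b * algebraMap C' (Localization.AtPrime q) s =
      algebraMap C' (Localization.AtPrime q) c := by
    rw [← hy]; exact IsLocalization.mk'_spec _ c s
  have hθb : θ (e b) = φ b := by
    show φ (e.symm (e b)) = φ b
    rw [e.symm_apply_apply]
  have hsu : IsUnit (algebraMap C' (Localization.AtPrime q) (s : C')) :=
    IsLocalization.map_units (Localization.AtPrime q) s
  have hcu : IsUnit (ψ c) := by
    rw [hψ, ← hspec, map_mul, hθb]
    exact IsUnit.mul hb (hsu.map θ)
  have hcq : c ∉ q := by
    rw [← hPq, hmem]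
    exact not_not.mpr hcu
  have hcu' : IsUnit (algebraMap C' (Localization.AtPrime q) c) :=
    IsLocalization.map_units (Localization.AtPrime q) (⟨c, hcq⟩ : q.primeCompl)
  have hyu : IsUnit (e b) := by
    rw [← hspec] at hcu'
    exact isUnit_of_mul_isUnit_left hcu'
  have := hyu.map (e.symm : Localization.AtPrime q →ₐ[A] B)
  simpa using this

end Groth.Agent.Lib.EssEtaleLocal
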