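import Groth.Prelude.Def_EssEt
import Groth.Agent.Lib.UnramEq
import Mathlib.RingTheory.Etale.Basic
import Mathlib.RingTheory.Localization.AtPrime.Basic

/-!
Maps out of essentially étale local algebras are determined by their effect on residue fields.
-/

set_option autoImplicit false
universe u

namespace Groth.Agent.Lib.EssEtaleMaps

theorem algHom_eq_of_residue_comp_eq (A : Type u) [CommRing A] [IsLocalRing A]
    (B : Type u) [CommRing B] [Algebra A B] (hB : EGA4loc.IsEssentiallyEtale A B)
    (C : Type u) [CommRing C] [IsLocalRing C] [Algebra A C]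
    (u v : B →ₐ[A] C)
    (h : (IsLocalRing.residue C).comp u.toRingHom = (IsLocalRing.residue C).comp v.toRingHom) :
    u = v := by
  obtain ⟨C', _, _, q, _, hEt, -, ⟨e⟩⟩ := hB
  -- the maps from `C'`
  let ι : C' →ₐ[A] B := (e.symm : Localization.AtPrime q →ₐ[A] B).comp
    (IsScalarTower.toAlgHom A C' (Localization.AtPrime q))
  let u' : C' →ₐ[A] C := u.comp ι
  let v' : C' →ₐ[A] C := v.comp ι
  have h1 : ∀ c, u' c - v' c ∈ IsLocalRing.maximalIdeal C := by
    intro c
    have := RingHom.congr_fun h (ι c)
    simp only [RingHom.comp_apply] at this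
    rw [← IsLocalRing.residue_eq_zero_iff, map_sub, sub_eq_zero]
    exact this
  obtain ⟨f, hf, hfe⟩ := Groth.Agent.Lib.UnramEq.exists_away_eq (IsLocalRing.maximalIdeal C) u' v' h1
  have hfu : IsUnit f := by
    by_contra hnu
    exact hf ((IsLocalRing.mem_maximalIdeal f).mpr hnu)
  have hinj : Function.Injective (algebraMap C (Localization.Away f)) := by
    apply IsLocalization.injective (Localization.Away f) (M := Submonoid.powers f)
    intro x hx
    obtain ⟨n, rfl⟩ := hx
    exact (hfu.pow n).mem_nonZeroDivisors
  have huv' : ∀ c, u' c = v' c := fun c => hinj (hfe c)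
  -- extend to the localization
  have h2 : (u.toRingHom.comp (e.symm : Localization.AtPrime q →ₐ[A] B).toRingHom) =
      (v.toRingHom.comp (e.symm : Localization.AtPrime q →ₐ[A] B).toRingHom) := by
    apply IsLocalization.ringHom_ext q.primeCompl
    ext c
    exact huv' c
  ext b
  have := RingHom.congr_fun h2 (e b)
  simpa using this

end Groth.Agent.Lib.EssEtaleMaps
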