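import Mathlib
import Groth.Prelude.Def_EssEt

/-!
# Total ring of fractions of essentially étale algebras over reduced rings (helper6)

* `isArtinianRing_of_reduced_finite`: reduced + finitely many primes, all maximal ⇒ artinian (CRT).
* `mem_minimalPrimes_of_disjoint`: in a reduced ring with finitely many minimal primes, a prime
  disjoint from the non-zero-divisors is a minimal prime.
* `isArtinianRing_fractionRing`: the total ring of fractions of a reduced ring with finitely many
  minimal primes is artinian.
* `lemmaY`: for `E` essentially of finite type and formally unramified over such `A`, the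
  localization `L` of `E` at the image of `nonZeroDivisors A` is artinian and "finite over K_A".
* `main`: if moreover `E` is flat over `A`, then `FractionRing E` is that localization.
* `instances_of_essEtale`: `EGA4loc.IsEssentiallyEtale A E` gives ess. finite type, formally étale, flat.
-/

set_option autoImplicit false
universe u

namespace Groth.Agent.Lib.FracEssEtale6


open scoped nonZeroDivisors

/-- A reduced zero-dimensional ring with finitely many primes is artinian. -/
theorem isArtinianRing_of_reduced_finite (R : Type*) [CommRing R] [IsReduced R]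
    [Finite (PrimeSpectrum R)] (h : ∀ P : Ideal R, P.IsPrime → P.IsMaximal) :
    IsArtinianRing R := by
  have hcop : Pairwise (Function.onFun IsCoprime (fun i : PrimeSpectrum R => i.asIdeal)) := by
    intro i j hij
    have := h _ i.2
    have := h _ j.2
    exact Ideal.isCoprime_of_isMaximal (fun e => hij (PrimeSpectrum.ext e))
  let e := Ideal.quotientInfRingEquivPiQuotient (fun i : PrimeSpectrum R => i.asIdeal) hcop
  have hinf : ⨅ i : PrimeSpectrum R, i.asIdeal = ⊥ := by
    rw [eq_bot_iff]
    intro x hx
    have : x ∈ nilradical R := by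
      rw [nilradical_eq_sInf, Ideal.mem_sInf]
      intro J hJ
      exact (Ideal.mem_iInf.mp hx) ⟨J, hJ⟩
    rw [nilradical_eq_bot_iff.mpr inferInstance] at this
    exact this
  have : ∀ i : PrimeSpectrum R, IsArtinianRing (R ⧸ i.asIdeal) := fun i => by
    have := h _ i.2
    let _ := Ideal.Quotient.field i.asIdeal
    infer_instance
  have h1 : IsArtinianRing (∀ i : PrimeSpectrum R, R ⧸ i.asIdeal) := inferInstance
  have h2 : IsArtinianRing (R ⧸ ⨅ i : PrimeSpectrum R, i.asIdeal) :=
    e.symm.surjective.isArtinianRing
  rw [hinf] at h2
  exact (RingEquiv.quotientBot R).surjective.isArtinianRing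

/-- In a reduced ring with finitely many minimal primes, a prime consisting of zero divisors
is a minimal prime. -/
theorem mem_minimalPrimes_of_disjoint {A : Type*} [CommRing A] [IsReduced A]
    (hmin : (minimalPrimes A).Finite) (p : Ideal A) [hp : p.IsPrime]
    (hd : Disjoint ((nonZeroDivisors A : Submonoid A) : Set A) (p : Set A)) :
    p ∈ minimalPrimes A := by
  classical
  have hsub : (p : Set A) ⊆ ⋃ q ∈ ((hmin.toFinset : Finset (Ideal A)) : Set (Ideal A)),
      ((fun q : Ideal A => q) q : Set A) := by
    intro x hx
    have hx' : x ∉ nonZeroDivisors A := fun h => Set.disjoint_left.mp hd h hx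
    rw [mem_nonZeroDivisors_iff_right] at hx'
    push Not at hx'
    obtain ⟨y, hyx, hy0⟩ := hx'
    have hy : y ∉ sInf (minimalPrimes A) := by
      have h1 : sInf (minimalPrimes A) = nilradical A := Ideal.sInf_minimalPrimes
      rw [h1, nilradical_eq_bot_iff.mpr inferInstance]; exact hy0
    rw [Ideal.mem_sInf] at hy
    push Not at hy
    obtain ⟨q, hq, hyq⟩ := hy
    have hqp : q.IsPrime := hq.1.1
    have hxq : x ∈ q := (hqp.mem_or_mem (hyx ▸ q.zero_mem)).resolve_left hyq
    exact Set.mem_biUnion (by simpa using hq) hxq
  obtain ⟨q, hq, hpq⟩ := (Ideal.subset_union_prime (R := A) (s := hmin.toFinset)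
    (f := fun q : Ideal A => q) ⊥ ⊥ (fun i hi _ _ => by
      have : i ∈ minimalPrimes A := by simpa using hi
      exact this.1.1)).mp hsub
  have hq' : q ∈ minimalPrimes A := by simpa using hq
  have : q ≤ p := hq'.2 ⟨hp, bot_le⟩ hpq
  rw [le_antisymm hpq this]
  exact hq'

/-- The total ring of fractions of a reduced ring with finitely many minimal primes is artinian. -/
theorem isArtinianRing_fractionRing {A : Type u} [CommRing A] [IsReduced A]
    (hmin : (minimalPrimes A).Finite) (K : Type u) [CommRing K] [Algebra A K]
    [IsFractionRing A K] : IsArtinianRing K := by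
  have hred : IsReduced K := isReduced_localizationPreserves (nonZeroDivisors A) K inferInstance
  have hinj := PrimeSpectrum.localization_comap_injective K (nonZeroDivisors A)
  have hmem : ∀ P : PrimeSpectrum K,
      (PrimeSpectrum.comap (algebraMap A K) P).asIdeal ∈ minimalPrimes A := by
    intro P
    have : PrimeSpectrum.comap (algebraMap A K) P ∈
        Set.range (PrimeSpectrum.comap (algebraMap A K)) := ⟨P, rfl⟩
    rw [PrimeSpectrum.localization_comap_range K (nonZeroDivisors A)] at this
    exact mem_minimalPrimes_of_disjoint hmin _ this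
  have hfin : Finite (PrimeSpectrum K) := by
    have : Finite (minimalPrimes A) := hmin
    exact Finite.of_injective (fun P => (⟨_, hmem P⟩ : minimalPrimes A))
      (fun P Q h => hinj (PrimeSpectrum.ext (congrArg Subtype.val h)))
  refine isArtinianRing_of_reduced_finite K fun P hP => ?_
  obtain ⟨M, hM, hPM⟩ := Ideal.exists_le_maximal P hP.ne_top
  have h1 := hmem ⟨P, hP⟩
  have h2 := hmem ⟨M, hM.isPrime⟩
  have hle : (PrimeSpectrum.comap (algebraMap A K) ⟨P, hP⟩).asIdeal ≤
      (PrimeSpectrum.comap (algebraMap A K) ⟨M, hM.isPrime⟩).asIdeal :=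
    Ideal.comap_mono hPM
  have hge := h2.2 ⟨h1.1.1, bot_le⟩ hle
  have : (⟨P, hP⟩ : PrimeSpectrum K) = ⟨M, hM.isPrime⟩ :=
    hinj (PrimeSpectrum.ext (le_antisymm hle hge))
  have : P = M := congrArg PrimeSpectrum.asIdeal this
  rw [this]; exact hM




section Y

theorem lemmaY {A : Type u} (E : Type u) [CommRing A] [IsReduced A]
    (hmin : (minimalPrimes A).Finite)
    [CommRing E] [Algebra A E] [Algebra.EssFiniteType A E] [Algebra.FormallyUnramified A E]
    (L : Type u) [CommRing L] [Algebra E L] [Algebra A L] [IsScalarTower A E L]
    [IsLocalization ((nonZeroDivisors A).map (algebraMap A E)) L] :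
    IsArtinianRing L ∧ ∃ t : Finset L, ∀ x : L, ∃ a ∈ nonZeroDivisors A,
      algebraMap A L a * x ∈ Submodule.span A (t : Set L) := by
  have hunits : ∀ s : nonZeroDivisors A, IsUnit (algebraMap A L s) := by
    intro s
    rw [IsScalarTower.algebraMap_apply A E L]
    exact IsLocalization.map_units L
      (⟨algebraMap A E s, Submonoid.mem_map_of_mem _ s.2⟩ :
        (nonZeroDivisors A).map (algebraMap A E))
  let _ : Algebra (FractionRing A) L :=
    (IsLocalization.lift (M := nonZeroDivisors A) (g := algebraMap A L) hunits).toAlgebra
  have : IsScalarTower A (FractionRing A) L :=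
    IsScalarTower.of_algebraMap_eq (fun x => (IsLocalization.lift_eq hunits x).symm)
  have hart : IsArtinianRing (FractionRing A) := isArtinianRing_fractionRing hmin _
  have : Algebra.EssFiniteType E L :=
    Algebra.EssFiniteType.of_isLocalization L ((nonZeroDivisors A).map (algebraMap A E))
  have : Algebra.EssFiniteType A L := Algebra.EssFiniteType.comp A E L
  have : Algebra.EssFiniteType (FractionRing A) L := Algebra.EssFiniteType.of_comp A _ L
  have : Algebra.FormallyUnramified E L :=
    Algebra.FormallyUnramified.of_isLocalization ((nonZeroDivisors A).map (algebraMap A E))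
  have : Algebra.FormallyUnramified A L := Algebra.FormallyUnramified.comp A E L
  have : Algebra.FormallyUnramified (FractionRing A) L :=
    Algebra.FormallyUnramified.of_restrictScalars A _ L
  have hfin : Module.Finite (FractionRing A) L := Module.Finite.of_quasiFinite
  refine ⟨IsArtinianRing.of_finite (FractionRing A) L, ?_⟩
  obtain ⟨t, ht⟩ := hfin.fg_top
  refine ⟨t, fun x => ?_⟩
  have hx : x ∈ Submodule.span (FractionRing A) (t : Set L) := by rw [ht]; trivial
  induction hx using Submodule.span_induction with
  | mem x hx => exact ⟨1, one_mem _, by rw [map_one, one_mul]; exact Submodule.subset_span hx⟩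
  | zero => exact ⟨1, one_mem _, by simp⟩
  | add x y _ _ hx hy =>
    obtain ⟨a, ha, hax⟩ := hx
    obtain ⟨b, hb, hby⟩ := hy
    refine ⟨a * b, mul_mem ha hb, ?_⟩
    have h1 : algebraMap A L (a * b) * (x + y) =
        b • (algebraMap A L a * x) + a • (algebraMap A L b * y) := by
      simp only [Algebra.smul_def, map_mul]; ring
    rw [h1]
    exact add_mem (Submodule.smul_mem _ _ hax) (Submodule.smul_mem _ _ hby)
  | smul c x _ hx =>
    obtain ⟨a, ha, hax⟩ := hx
    obtain ⟨⟨r, s⟩, hrs⟩ := IsLocalization.surj (nonZeroDivisors A) c
    refine ⟨s * a, mul_mem s.2 ha, ?_⟩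
    have h1 : algebraMap A L (s * a) * (c • x) = r • (algebraMap A L a * x) := by
      have h2 : algebraMap (FractionRing A) L (c * algebraMap A (FractionRing A) s) =
          algebraMap (FractionRing A) L (algebraMap A (FractionRing A) r) := by rw [hrs]
      rw [map_mul, ← IsScalarTower.algebraMap_apply, ← IsScalarTower.algebraMap_apply] at h2
      simp only [Algebra.smul_def, map_mul]
      linear_combination (algebraMap A L a * x) * h2
    rw [h1]
    exact Submodule.smul_mem _ _ hax

end Y

theorem main {A : Type u} (E : Type u) [CommRing A] [IsReduced A]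
    (hmin : (minimalPrimes A).Finite)
    [CommRing E] [Algebra A E] [Algebra.EssFiniteType A E] [Algebra.FormallyUnramified A E]
    [Module.Flat A E] :
    IsLocalization ((nonZeroDivisors A).map (algebraMap A E)) (FractionRing E) ∧
      ∃ t : Finset (FractionRing E), ∀ x : FractionRing E, ∃ a ∈ nonZeroDivisors A,
        algebraMap A (FractionRing E) a * x ∈ Submodule.span A (t : Set (FractionRing E)) := by
  have hS' : (nonZeroDivisors A).map (algebraMap A E) ≤ nonZeroDivisors E := by
    rintro _ ⟨a, ha, rfl⟩
    have h1 : IsSMulRegular E a := Module.Flat.isSMulRegular_of_nonZeroDivisors ha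
    rw [mem_nonZeroDivisors_iff_right]
    intro x hx
    apply h1
    simp only [Algebra.smul_def]
    rw [mul_comm, hx, mul_zero]
  obtain ⟨hart, -⟩ := lemmaY E hmin (Localization ((nonZeroDivisors A).map (algebraMap A E)))
  have hunit : ∀ e ∈ nonZeroDivisors E, IsUnit (algebraMap E
      (Localization ((nonZeroDivisors A).map (algebraMap A E))) e) := by
    intro e he
    exact IsArtinianRing.isUnit_of_mem_nonZeroDivisors
      (IsLocalization.map_nonZeroDivisors_le ((nonZeroDivisors A).map (algebraMap A E)) _
        ⟨e, he, rfl⟩)
  have : IsLocalization (nonZeroDivisors E)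
      (Localization ((nonZeroDivisors A).map (algebraMap A E))) :=
    IsLocalization.of_le ((nonZeroDivisors A).map (algebraMap A E)) _ hS' hunit
  let e : Localization ((nonZeroDivisors A).map (algebraMap A E)) ≃ₐ[E] FractionRing E :=
    IsLocalization.algEquiv (nonZeroDivisors E) _ _
  have hloc : IsLocalization ((nonZeroDivisors A).map (algebraMap A E)) (FractionRing E) :=
    IsLocalization.isLocalization_of_algEquiv _ e
  exact ⟨hloc, (lemmaY E hmin (FractionRing E)).2⟩


theorem instances_of_essEtale (A E : Type u) [CommRing A] [IsLocalRing A] [CommRing E] [Algebra A E]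
    (hE : EGA4loc.IsEssentiallyEtale A E) :
    Algebra.EssFiniteType A E ∧ Algebra.FormallyEtale A E ∧ Module.Flat A E := by
  obtain ⟨C, _, _, q, _, hC, hq, ⟨e⟩⟩ := hE
  have : Algebra.EssFiniteType A (Localization.AtPrime q) := Algebra.EssFiniteType.comp A C _
  have h1 : Algebra.EssFiniteType A E := (Algebra.EssFiniteType.iff_of_algEquiv e).mpr inferInstance
  have : Algebra.FormallyEtale C (Localization.AtPrime q) :=
    Algebra.FormallyEtale.of_isLocalization q.primeCompl
  have : Algebra.FormallyEtale A (Localization.AtPrime q) := Algebra.FormallyEtale.comp A C _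
  have h2 : Algebra.FormallyEtale A E := Algebra.FormallyEtale.of_equiv e.symm
  have : Module.Flat A (Localization.AtPrime q) := Module.Flat.trans A C _
  have h3 : Module.Flat A E := Module.Flat.of_linearEquiv e.toLinearEquiv
  exact ⟨h1, h2, h3⟩


/-- Version of `lemmaY` with a prescribed algebra structure over a fraction ring `K` of `A`:
the localization `L` of `E` at the image of `nonZeroDivisors A` is a finite `K`-module. -/
theorem finite_fractionRing_tower {A : Type u} (E : Type u) [CommRing A] [IsReduced A]
    (hmin : (minimalPrimes A).Finite)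
    [CommRing E] [Algebra A E] [Algebra.EssFiniteType A E] [Algebra.FormallyUnramified A E]
    (L : Type u) [CommRing L] [Algebra E L] [Algebra A L] [IsScalarTower A E L]
    [IsLocalization ((nonZeroDivisors A).map (algebraMap A E)) L]
    (K : Type u) [CommRing K] [Algebra A K] [IsFractionRing A K] [Algebra K L]
    [IsScalarTower A K L] : Module.Finite K L := by
  have hart : IsArtinianRing K := isArtinianRing_fractionRing hmin _
  have : Algebra.EssFiniteType E L :=
    Algebra.EssFiniteType.of_isLocalization L ((nonZeroDivisors A).map (algebraMap A E))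
  have : Algebra.EssFiniteType A L := Algebra.EssFiniteType.comp A E L
  have : Algebra.EssFiniteType K L := Algebra.EssFiniteType.of_comp A _ L
  have : Algebra.FormallyUnramified E L :=
    Algebra.FormallyUnramified.of_isLocalization ((nonZeroDivisors A).map (algebraMap A E))
  have : Algebra.FormallyUnramified A L := Algebra.FormallyUnramified.comp A E L
  have : Algebra.FormallyUnramified K L :=
    Algebra.FormallyUnramified.of_restrictScalars A _ L
  exact Module.Finite.of_quasiFinite


/-- A finite module over a fraction ring `K` of `A` is "finite over `A` up to non-zero-divisors". -/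
theorem exists_finset_span_of_finite {A : Type*} [CommRing A] (K : Type*) [CommRing K]
    [Algebra A K] [IsFractionRing A K] (L : Type*) [CommRing L] [Algebra A L] [Algebra K L]
    [IsScalarTower A K L] [hfin : Module.Finite K L] :
    ∃ t : Finset L, ∀ x : L, ∃ a ∈ nonZeroDivisors A,
      algebraMap A L a * x ∈ Submodule.span A (t : Set L) := by
  obtain ⟨t, ht⟩ := hfin.fg_top
  refine ⟨t, fun x => ?_⟩
  have hx : x ∈ Submodule.span K (t : Set L) := by rw [ht]; trivial
  induction hx using Submodule.span_induction with
  | mem x hx => exact ⟨1, one_mem _, by rw [map_one, one_mul]; exact Submodule.subset_span hx⟩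
  | zero => exact ⟨1, one_mem _, by simp⟩
  | add x y _ _ hx hy =>
    obtain ⟨a, ha, hax⟩ := hx
    obtain ⟨b, hb, hby⟩ := hy
    refine ⟨a * b, mul_mem ha hb, ?_⟩
    have h1 : algebraMap A L (a * b) * (x + y) =
        b • (algebraMap A L a * x) + a • (algebraMap A L b * y) := by
      simp only [Algebra.smul_def, map_mul]; ring
    rw [h1]
    exact add_mem (Submodule.smul_mem _ _ hax) (Submodule.smul_mem _ _ hby)
  | smul c x _ hx =>
    obtain ⟨a, ha, hax⟩ := hx
    obtain ⟨⟨r, s⟩, hrs⟩ := IsLocalization.surj (nonZeroDivisors A) c
    refine ⟨s * a, mul_mem s.2 ha, ?_⟩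
    have h1 : algebraMap A L (s * a) * (c • x) = r • (algebraMap A L a * x) := by
      have h2 : algebraMap K L (c * algebraMap A K s) =
          algebraMap K L (algebraMap A K r) := by rw [hrs]
      rw [map_mul, ← IsScalarTower.algebraMap_apply, ← IsScalarTower.algebraMap_apply] at h2
      simp only [Algebra.smul_def, map_mul]
      linear_combination (algebraMap A L a * x) * h2
    rw [h1]
    exact Submodule.smul_mem _ _ hax


end Groth.Agent.Lib.FracEssEtale6
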