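import Mathlib
import Groth.Agent.Lib.NagataNormFin96F
import Groth.Agent.S9407

/-!
# helper96: the Nagata property descends along smooth faithfully flat ring maps (Stacks 07TL-type)

* `finite_integralClosure_of_essFiniteType`: the integral closure of a Nagata ring in a reduced
  Noetherian algebra essentially of finite type is finite.
* `finite_integralClosure_of_smooth`: `S` smooth and faithfully flat over `R`, `S` Nagata, `L` a
  field essentially of finite type over `R`: the integral closure of `R` in `L` is a finite
  `R`-module (normalization commutes with smooth base change + faithfully flat descent).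
* `isNagata_of_smooth_of_faithfullyFlat`.
-/

set_option autoImplicit false
set_option linter.style.haveILetI false
universe u

open TensorProduct

namespace Groth.Agent.Lib.NagataSmoothDescent96

open Groth.Agent.Lib.NagataNormFin96

/-- The integral closure of a Nagata ring in a reduced Noetherian algebra essentially of finite
type is finite. -/
theorem finite_integralClosure_of_essFiniteType {R : Type u} [CommRing R] (hR : CAlg.IsNagata R)
    (S : Type u) [CommRing S] [IsReduced S] [IsNoetherianRing S] [Algebra R S]
    [Algebra.EssFiniteType R S] :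
    Module.Finite R (integralClosure R S) := by
  haveI : IsNoetherianRing R := hR.1
  have hfin : (minimalPrimes S).Finite := minimalPrimes.finite_of_isNoetherianRing S
  haveI : Finite (minimalPrimes S) := hfin
  haveI : ∀ q : minimalPrimes S, q.1.IsPrime := fun q => q.2.1.1
  let φ : S →ₐ[R] (∀ q : minimalPrimes S, FractionRing (S ⧸ q.1)) :=
    AlgHom.pi (fun q => (IsScalarTower.toAlgHom R (S ⧸ q.1) (FractionRing (S ⧸ q.1))).comp
      (Ideal.Quotient.mkₐ R q.1))
  have hφ : Function.Injective φ := by
    rw [injective_iff_map_eq_zero]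
    intro s hs
    have hs' : s ∈ nilradical S := by
      rw [nilradical_eq_sInf, Ideal.mem_sInf]
      intro J hJ
      haveI : J.IsPrime := hJ
      obtain ⟨q, hq, hqJ⟩ := Ideal.exists_minimalPrimes_le (bot_le : ⊥ ≤ J)
      have h1 : algebraMap (S ⧸ q) (FractionRing (S ⧸ q)) (Ideal.Quotient.mk q s) = 0 :=
        congrFun hs ⟨q, hq⟩
      haveI : q.IsPrime := hq.1.1
      have h2 : Ideal.Quotient.mk q s = 0 :=
        IsFractionRing.injective (S ⧸ q) (FractionRing (S ⧸ q)) (by rw [h1, map_zero])
      exact hqJ (Ideal.Quotient.eq_zero_iff_mem.mp h2)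
    rwa [nilradical_eq_zero, Ideal.zero_eq_bot, Ideal.mem_bot] at hs'
  refine finite_integralClosure_of_injective_pi
    (fun q : minimalPrimes S => FractionRing (S ⧸ q.1)) φ hφ (fun q => ?_)
  haveI : Algebra.EssFiniteType R (S ⧸ q.1) := inferInstance
  haveI : Algebra.EssFiniteType (S ⧸ q.1) (FractionRing (S ⧸ q.1)) :=
    Algebra.EssFiniteType.of_isLocalization _ (nonZeroDivisors (S ⧸ q.1))
  haveI : Algebra.EssFiniteType R (FractionRing (S ⧸ q.1)) :=
    Algebra.EssFiniteType.comp R (S ⧸ q.1) (FractionRing (S ⧸ q.1))
  exact finite_integralClosure_field' hR (FractionRing (S ⧸ q.1))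

/-- `S` smooth and faithfully flat over `R`, `S` Nagata, `L` a field essentially of finite type
over `R`: the integral closure of `R` in `L` is a finite `R`-module. -/
theorem finite_integralClosure_of_smooth (R S : Type u) [CommRing R] [CommRing S] [Algebra R S]
    [Algebra.Smooth R S] [Module.FaithfullyFlat R S] (hS : CAlg.IsNagata S)
    (L : Type u) [Field L] [Algebra R L] [Algebra.EssFiniteType R L] :
    Module.Finite R (integralClosure R L) := by
  -- `L ⊗[R] S` is smooth over the field `L`, hence reduced and Noetherian
  haveI h1 : IsReduced (L ⊗[R] S) := Groth.Agent.S9407.result L (L ⊗[R] S)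
  haveI h2 : IsNoetherianRing (L ⊗[R] S) := Algebra.FiniteType.isNoetherianRing L (L ⊗[R] S)
  let e : (L ⊗[R] S) ≃ₐ[R] (S ⊗[R] L) := Algebra.TensorProduct.comm R L S
  haveI h3 : IsReduced (S ⊗[R] L) :=
    isReduced_of_injective e.symm.toRingEquiv.toRingHom e.symm.injective
  haveI h4 : IsNoetherianRing (S ⊗[R] L) := isNoetherianRing_of_ringEquiv _ e.toRingEquiv
  haveI h5 : Module.Finite S (integralClosure S (S ⊗[R] L)) :=
    finite_integralClosure_of_essFiniteType hS (S ⊗[R] L)
  -- normalization commutes with smooth base change
  have hbij := TensorProduct.toIntegralClosure_bijective_of_smooth (R := R) (S := S) (B := L)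
  let ε : (S ⊗[R] integralClosure R L) ≃ₐ[S] integralClosure S (S ⊗[R] L) :=
    AlgEquiv.ofBijective (TensorProduct.toIntegralClosure R S L) hbij
  haveI h6 : Module.Finite S (S ⊗[R] integralClosure R L) :=
    Module.Finite.equiv ε.symm.toLinearEquiv
  exact Module.Finite.of_finite_tensorProduct_of_faithfullyFlat S

/-- The integral closure of `R ⧸ p` in an `R ⧸ p`-algebra `L` is finite as soon as the integral
closure of `R` in `L` is finite. -/
theorem finite_integralClosure_quotient {R : Type*} [CommRing R] (p : Ideal R) (L : Type*)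
    [CommRing L] [Algebra R L] [Algebra (R ⧸ p) L] [IsScalarTower R (R ⧸ p) L]
    (h : Module.Finite R (integralClosure R L)) :
    Module.Finite (R ⧸ p) (integralClosure (R ⧸ p) L) := by
  haveI : Algebra.IsIntegral R (R ⧸ p) :=
    Algebra.isIntegral_of_surjective Ideal.Quotient.mk_surjective
  let f : integralClosure R L →ₗ[R] integralClosure (R ⧸ p) L :=
    { toFun := fun x => ⟨x.1, IsIntegral.tower_top x.2⟩
      map_add' := fun x y => rfl
      map_smul' := fun r x => by
        apply Subtype.ext
        change r • (x : L) = r • (x : L)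
        rfl }
  have hf : Function.Surjective f := by
    rintro ⟨y, hy⟩
    exact ⟨⟨y, isIntegral_trans (A := R ⧸ p) y hy⟩, rfl⟩
  haveI : Module.Finite R (integralClosure (R ⧸ p) L) := Module.Finite.of_surjective f hf
  exact Module.Finite.of_restrictScalars_finite R (R ⧸ p) _

/-- The Nagata property descends along smooth faithfully flat ring maps. -/
theorem isNagata_of_smooth_of_faithfullyFlat (R S : Type u) [CommRing R] [CommRing S]
    [Algebra R S] [Algebra.Smooth R S] [Module.FaithfullyFlat R S] (hS : CAlg.IsNagata S) :
    CAlg.IsNagata R := by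
  haveI : IsNoetherianRing S := hS.1
  have hN : IsNoetherianRing R := by
    have h1 : IsNoetherian S (S ⊗[R] R) :=
      isNoetherian_of_linearEquiv (AlgebraTensorModule.rid R S S).symm
    exact Submodule.IsNoetherian.of_isNoetherian_tensorProduct_of_faithfullyFlat h1
  refine ⟨hN, fun p _ => ?_⟩
  intro L _ _ _ _ hfd
  letI algL : Algebra R L := ((algebraMap (R ⧸ p) L).comp (Ideal.Quotient.mk p)).toAlgebra
  haveI : IsScalarTower R (R ⧸ p) L := .of_algebraMap_eq (fun r => rfl)
  haveI : IsScalarTower R (FractionRing (R ⧸ p)) L := .of_algebraMap_eq (fun r => by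
    rw [IsScalarTower.algebraMap_apply R (R ⧸ p) L,
      IsScalarTower.algebraMap_apply (R ⧸ p) (FractionRing (R ⧸ p)) L,
      ← IsScalarTower.algebraMap_apply R (R ⧸ p) (FractionRing (R ⧸ p))])
  haveI : Algebra.EssFiniteType (R ⧸ p) (FractionRing (R ⧸ p)) :=
    Algebra.EssFiniteType.of_isLocalization _ (nonZeroDivisors (R ⧸ p))
  haveI : Algebra.EssFiniteType R (FractionRing (R ⧸ p)) :=
    Algebra.EssFiniteType.comp R (R ⧸ p) (FractionRing (R ⧸ p))
  haveI : Module.Finite (FractionRing (R ⧸ p)) L := hfd
  haveI : Algebra.EssFiniteType R L := Algebra.EssFiniteType.comp R (FractionRing (R ⧸ p)) L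
  exact finite_integralClosure_quotient p L (finite_integralClosure_of_smooth R S hS L)

end Groth.Agent.Lib.NagataSmoothDescent96
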