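import Mathlib

/-!
# Colon ideals of integral closures under flat base change with "integral closure commutes" (helper61)

Abstract form of the following: `A → E` flat such that integral closure commutes with the base
change `E ⊗[A] -` (e.g. `E` a localization of a smooth `A`-algebra), `K` an `E`-algebra, `LD ⊆ K`
an `A`-subalgebra with `E ⊗[A] LD` reduced artinian, `B` the integral closure of `A` in `LD`.
If `x ∈ LD` is integral over `E`, then the colon ideal `(B : x)` generates the unit ideal of `E[B]`.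
-/

set_option autoImplicit false
universe u

namespace Groth.Agent.Lib.NormEtaleColon61

open TensorProduct Polynomial

section idem

variable {T : Type*} [CommRing T]

/-- In a reduced artinian ring every element is a multiple of its square. -/
theorem exists_eq_mul_sq [IsArtinianRing T] [IsReduced T] (r : T) : ∃ y : T, r = r ^ 2 * y := by
  obtain ⟨n, y, hy⟩ := IsArtinian.exists_pow_succ_smul_dvd r (1 : T)
  simp only [smul_eq_mul, mul_one, Nat.succ_eq_add_one] at hy
  refine ⟨y, ?_⟩
  have h1 : r ^ n * (r - r ^ 2 * y) = 0 := by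
    have : r ^ n * (r - r ^ 2 * y) = r * (r ^ n - r ^ (n + 1) * y) := by ring
    rw [this, hy, sub_self, mul_zero]
  have h2 : (r - r ^ 2 * y) ^ (n + 1) = 0 := by
    have h3 : r - r ^ 2 * y = r * (1 - r * y) := by ring
    have h4 : (r - r ^ 2 * y) ^ n = r ^ n * (1 - r * y) ^ n := by rw [h3, mul_pow]
    rw [pow_succ, h4, mul_comm (r ^ n), mul_assoc, h1, mul_zero]
  have h5 : r - r ^ 2 * y = 0 := IsReduced.eq_zero _ ⟨n + 1, h2⟩
  exact sub_eq_zero.mp h5

/-- In a reduced artinian ring every ideal is generated by an idempotent. -/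
theorem exists_idempotent_span_eq [IsArtinianRing T] [IsReduced T] (I : Ideal T) :
    ∃ e : T, IsIdempotentElem e ∧ I = Ideal.span {e} := by
  have hfg : I.FG := (isNoetherianRing_iff_ideal_fg T).mp inferInstance I
  refine (Ideal.isIdempotentElem_iff_of_fg I hfg).mp ?_
  refine le_antisymm Ideal.mul_le_right ?_
  intro r hr
  obtain ⟨y, hy⟩ := exists_eq_mul_sq r
  rw [hy, pow_two, mul_assoc]
  exact Ideal.mul_mem_mul hr (I.mul_mem_right _ hr)

/-- `ε * aeval (ε * X₀) P = ε * aeval X₀ P` for an idempotent `ε`. -/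
theorem idem_mul_aeval {E : Type*} [CommRing E] [Algebra E T] (ε X₀ : T)
    (hε : IsIdempotentElem ε) (P : E[X]) :
    ε * aeval (ε * X₀) P = ε * aeval X₀ P := by
  induction P using Polynomial.induction_on with
  | C c => simp
  | add p q hp hq => rw [map_add, map_add, mul_add, mul_add, hp, hq]
  | monomial n c _ =>
    simp only [map_mul, aeval_C, map_pow, aeval_X]
    rw [mul_pow, hε.pow_succ_eq]
    have : ε * ε = ε := hε
    calc ε * (algebraMap E T c * (ε * X₀ ^ (n + 1)))
        = (ε * ε) * (algebraMap E T c * X₀ ^ (n + 1)) := by ring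
      _ = ε * (algebraMap E T c * X₀ ^ (n + 1)) := by rw [this]

/-- If `ε * aeval X₀ P = 0` for a monic `P`, then `ε * X₀` is integral. -/
theorem isIntegral_idem_mul {E : Type*} [CommRing E] [Algebra E T] (ε X₀ : T)
    (hε : IsIdempotentElem ε) (P : E[X]) (hP : P.Monic) (h : ε * aeval X₀ P = 0) :
    IsIntegral E (ε * X₀) := by
  refine ⟨X * P, monic_X.mul hP, ?_⟩
  rw [← aeval_def, map_mul, aeval_X]
  calc ε * X₀ * aeval (ε * X₀) P = X₀ * (ε * aeval (ε * X₀) P) := by ring
    _ = X₀ * (ε * aeval X₀ P) := by rw [idem_mul_aeval ε X₀ hε P]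
    _ = 0 := by rw [h, mul_zero]

theorem isIntegral_of_isIdempotentElem {E : Type*} [CommRing E] [Algebra E T] (ε : T)
    (hε : IsIdempotentElem ε) : IsIntegral E ε := by
  refine ⟨X ^ 2 - X, monic_X_pow_sub (lt_of_le_of_lt degree_X_le (by norm_num)), ?_⟩
  rw [← aeval_def]
  simp only [map_sub, map_pow, aeval_X]
  rw [pow_two, hε.eq, sub_self]

end idem

section colon
variable {A E B : Type u} [CommRing A] [CommRing E] [Algebra A E] [CommRing B] [Algebra A B]

/-- The colon submodule `{t | u * t ∈ a B}`. -/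
def colon (u : B) (a : A) : Submodule A B where
  carrier := {t | ∃ b : B, a • b = u * t}
  add_mem' := by
    rintro t₁ t₂ ⟨b₁, h₁⟩ ⟨b₂, h₂⟩
    exact ⟨b₁ + b₂, by rw [smul_add, h₁, h₂, mul_add]⟩
  zero_mem' := ⟨0, by simp⟩
  smul_mem' := by
    rintro c t ⟨b, h⟩
    exact ⟨c • b, by rw [smul_comm, h, mul_smul_comm]⟩

theorem lTensor_mulLeft (u : B) (τ : E ⊗[A] B) :
    LinearMap.lTensor E (LinearMap.mulLeft A u) τ = τ * ((1 : E) ⊗ₜ[A] u) := by
  induction τ with
  | zero => simp
  | add p r hp hr => rw [map_add, hp, hr, add_mul]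
  | tmul e b =>
    rw [LinearMap.lTensor_tmul, Algebra.TensorProduct.tmul_mul_tmul, mul_one,
      LinearMap.mulLeft_apply, mul_comm]

theorem lTensor_lsmul (a : A) (τ : E ⊗[A] B) :
    LinearMap.lTensor E (LinearMap.lsmul A B a) τ = a • τ := by
  induction τ with
  | zero => simp
  | add p r hp hr => rw [map_add, hp, hr, smul_add]
  | tmul e b =>
    rw [LinearMap.lTensor_tmul, LinearMap.lsmul_apply, TensorProduct.tmul_smul]

theorem exists_of_flat [Module.Flat A E] (u : B) (a : A) (τ₁ τ₂ : E ⊗[A] B)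
    (hrel : a • τ₂ = τ₁ * ((1 : E) ⊗ₜ[A] u)) :
    ∃ σ : E ⊗[A] (colon u a), LinearMap.lTensor E (colon u a).subtype σ = τ₁ := by
  let g : B →ₗ[A] B := LinearMap.mulLeft A u
  let h : B →ₗ[A] B := LinearMap.lsmul A B a
  let q : B →ₗ[A] (B ⧸ LinearMap.range h) := (LinearMap.range h).mkQ ∘ₗ g
  have hker : LinearMap.ker q = colon u a := by
    ext t
    rw [LinearMap.mem_ker]
    show (LinearMap.range h).mkQ (g t) = 0 ↔ _
    rw [Submodule.mkQ_apply, Submodule.Quotient.mk_eq_zero]
    rfl
  have hexact : Function.Exact (colon u a).subtype q := by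
    rw [← hker]; exact LinearMap.exact_subtype_ker_map q
  have hexact' := Module.Flat.lTensor_exact E hexact
  have hqτ₁ : LinearMap.lTensor E q τ₁ = 0 := by
    show LinearMap.lTensor E ((LinearMap.range h).mkQ ∘ₗ g) τ₁ = 0
    rw [LinearMap.lTensor_comp, LinearMap.comp_apply, lTensor_mulLeft, ← hrel, ← lTensor_lsmul,
      ← LinearMap.comp_apply, ← LinearMap.lTensor_comp, LinearMap.range_mkQ_comp,
      LinearMap.lTensor_zero, LinearMap.zero_apply]
  exact (hexact' τ₁).mp hqτ₁

end colon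

section main

variable {A E K : Type u} [CommRing A] [CommRing E] [CommRing K] [Algebra A E] [Algebra A K]
  [Algebra E K] [IsScalarTower A E K] [Module.Flat A E]

/-- Main abstract statement, see the module docstring. -/
theorem one_mem_span (LD : Subalgebra A K)
    (hsurj : Function.Surjective (TensorProduct.toIntegralClosure A E LD))
    [IsArtinianRing (E ⊗[A] LD)] [IsReduced (E ⊗[A] LD)]
    (x : K) (hx : x ∈ LD) (hxint : IsIntegral E x) (a : A)
    (ha : ∀ z : K, a • z = 0 → z = 0) (hax : IsIntegral A (a • x)) :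
    (1 : K) ∈ Submodule.span E {t : K | t ∈ LD ∧ IsIntegral A t ∧ IsIntegral A (t * x)} := by
  classical
  let μ : E ⊗[A] LD →ₐ[E] K :=
    Algebra.TensorProduct.lift (Algebra.ofId E K) LD.val (fun _ _ => Commute.all _ _)
  have hμ : ∀ (e : E) (l : LD), μ (e ⊗ₜ l) = algebraMap E K e * (l : K) := fun e l => by
    simp [μ, Algebra.ofId_apply]
  obtain ⟨ε', hε', hker⟩ := exists_idempotent_span_eq (RingHom.ker μ)
  have hμε' : μ ε' = 0 := by
    have : ε' ∈ RingHom.ker μ := hker ▸ Ideal.subset_span rfl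
    exact this
  obtain ⟨ε, hεdef⟩ : ∃ ε, ε = 1 - ε' := ⟨_, rfl⟩
  have hε : IsIdempotentElem ε := hεdef ▸ hε'.one_sub
  have hμε : μ ε = 1 := by rw [hεdef, map_sub, map_one, hμε', sub_zero]
  have hkill : ∀ z, μ z = 0 → ε * z = 0 := by
    intro z hz
    have hz' : z ∈ RingHom.ker μ := hz
    rw [hker, Ideal.mem_span_singleton'] at hz'
    obtain ⟨r, rfl⟩ := hz'
    have h1 : ε' * ε' = ε' := hε'
    rw [hεdef]
    calc (1 - ε') * (r * ε') = r * (ε' - ε' * ε') := by ring
      _ = 0 := by rw [h1, sub_self, mul_zero]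
  obtain ⟨X₀, hX₀def⟩ : ∃ X₀ : E ⊗[A] LD, X₀ = (1 : E) ⊗ₜ[A] (⟨x, hx⟩ : LD) := ⟨_, rfl⟩
  have hμX₀ : μ X₀ = x := by rw [hX₀def, hμ, map_one, one_mul]
  obtain ⟨P, hP, hPx⟩ := hxint
  have h0 : ε * aeval X₀ P = 0 := by
    apply hkill
    rw [← aeval_algHom_apply, hμX₀, aeval_def]
    exact hPx
  have hξint : IsIntegral E (ε * X₀) := isIntegral_idem_mul ε X₀ hε P hP h0
  have hεint : IsIntegral E ε := isIntegral_of_isIdempotentElem ε hε
  obtain ⟨τ₁, hτ₁⟩ := hsurj ⟨ε, hεint⟩
  obtain ⟨τ₂, hτ₂⟩ := hsurj ⟨ε * X₀, hξint⟩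
  let ι : E ⊗[A] (integralClosure A LD) →ₐ[E] E ⊗[A] LD :=
    Algebra.TensorProduct.map (AlgHom.id E E) (integralClosure A LD).val
  have hιt : ∀ (e : E) (b : integralClosure A LD), ι (e ⊗ₜ[A] b) = e ⊗ₜ[A] (b : LD) :=
    fun e b => by simp [ι]
  have hι₁ : ι τ₁ = ε := congrArg Subtype.val hτ₁
  have hι₂ : ι τ₂ = ε * X₀ := congrArg Subtype.val hτ₂
  have hιinj : Function.Injective ι :=
    Module.Flat.lTensor_preserves_injective_linearMap (M := E)
      (integralClosure A LD).val.toLinearMap Subtype.val_injective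
  have hu : IsIntegral A (⟨a • x, LD.smul_mem hx a⟩ : LD) :=
    (isIntegral_algHom_iff LD.val Subtype.val_injective).mp hax
  obtain ⟨u, hudef⟩ : ∃ u : integralClosure A LD, u = ⟨⟨a • x, LD.smul_mem hx a⟩, hu⟩ :=
    ⟨_, rfl⟩
  have huval : ((u : LD) : K) = a • x := by rw [hudef]
  have hrelE : a • τ₂ = τ₁ * ((1 : E) ⊗ₜ[A] u) := by
    apply hιinj
    rw [← algebraMap_smul E a τ₂, map_smul, algebraMap_smul, map_mul, hι₁, hι₂]
    have h2 : (u : LD) = a • (⟨x, hx⟩ : LD) := by rw [hudef]; rfl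
    rw [hιt, h2, TensorProduct.tmul_smul, ← hX₀def, mul_smul_comm]
  -- the colon ideal and flatness
  obtain ⟨σ, hσ⟩ := exists_of_flat (E := E) u a τ₁ τ₂ hrelE
  have hmemI : ∀ t : colon u a, (((t : integralClosure A LD) : LD) : K) ∈
      {t : K | t ∈ LD ∧ IsIntegral A t ∧ IsIntegral A (t * x)} := by
    intro t
    obtain ⟨b, hb'⟩ : ∃ b : integralClosure A LD, a • b = u * (t : integralClosure A LD) := t.2
    have hbK : a • ((b : LD) : K) = (a • x) * (((t : integralClosure A LD) : LD) : K) := by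
      have h5 : (((a • b : integralClosure A LD) : LD) : K) =
          (((u * (t : integralClosure A LD) : integralClosure A LD) : LD) : K) := by rw [hb']
      rw [← huval]
      exact h5
    have h3 : a • ((((t : integralClosure A LD) : LD) : K) * x - ((b : LD) : K)) = 0 := by
      rw [smul_sub, hbK, smul_mul_assoc, mul_comm, sub_self]
    have h4 := sub_eq_zero.mp (ha _ h3)
    have hc0 : IsIntegral A ((((t : integralClosure A LD) : LD)) : K) :=
      ((t : integralClosure A LD).2 : IsIntegral A ((t : integralClosure A LD) : LD)).map LD.val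
    have hc1 : IsIntegral A ((b : LD) : K) := (b.2 : IsIntegral A (b : LD)).map LD.val
    exact ⟨((t : integralClosure A LD) : LD).2, hc0, h4 ▸ hc1⟩
  have hspan : ∀ σ : E ⊗[A] (colon u a),
      μ (ι (LinearMap.lTensor E (colon u a).subtype σ)) ∈
        Submodule.span E {t : K | t ∈ LD ∧ IsIntegral A t ∧ IsIntegral A (t * x)} := by
    intro σ
    induction σ with
    | zero => simp
    | add p r hp hr => rw [map_add, map_add, map_add]; exact Submodule.add_mem _ hp hr
    | tmul e t =>
      rw [LinearMap.lTensor_tmul, Submodule.subtype_apply, hιt, hμ, ← Algebra.smul_def]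
      exact Submodule.smul_mem _ _ (Submodule.subset_span (hmemI t))
  have := hspan σ
  rwa [hσ, hι₁, hμε] at this

end main

end Groth.Agent.Lib.NormEtaleColon61
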