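import Mathlib
import Groth.Agent.S9237
import Groth.Agent.S9407
import Groth.Agent.Lib.HenselizationConstr
import Groth.Agent.Lib.HenselizationNoeth
import Groth.Agent.Lib.BrnchSum98
import Groth.Prelude.Def_EssEt

/-!
# helper61: the normalization of a Noetherian local ring is semilocal

* `finite_maximalSpectrum_normRed`: for a Noetherian local ring `E`, `CAlg2.normRed E` (the integral
  closure of `E_red` in its total ring of fractions) has finitely many maximal ideals.  Proof: the
  number of maximal ideals is the number of minimal primes of the henselization (helper98's S9237),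
  and the henselization of a Noetherian local ring is Noetherian (helper22).
* `finite_maximalSpectrum_integralClosure`: for a reduced Noetherian local ring `E`, the integral
  closure of `E` in `FractionRing E` has finitely many maximal ideals.
* `isReduced_of_essEtale`: an essentially étale local algebra over a reduced local ring is reduced.
-/

set_option autoImplicit false
universe u

namespace Groth.Agent.Lib.NormFiniteMax61

open Groth.Agent.Lib.HenselizationConstr Groth.Agent.Lib.HenselizationNoeth
  Groth.Agent.Lib.BrnchSum98

theorem finite_maximalSpectrum_normRed (E : Type u) [CommRing E] [IsLocalRing E]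
    [IsNoetherianRing E] : Finite (MaximalSpectrum (CAlg2.normRed E)) := by
  have h1 := Groth.Agent.S9237.result E (Hzn E)
  have hN : IsNoetherianRing (Hzn E) := isNoetherianRing_Hzn E
  have hfin : (minimalPrimes (Hzn E)).Finite := minimalPrimes.finite_of_isNoetherianRing _
  have hfinE : (minimalPrimes E).Finite := minimalPrimes.finite_of_isNoetherianRing _
  rw [Brnch.numBranches, if_pos hfinE] at h1
  have h2 : ENat.card (minimalPrimes (Hzn E)) < ⊤ := by
    have : Finite (minimalPrimes (Hzn E)) := hfin
    exact ENat.card_lt_top_of_finite
  rw [h1] at h2
  exact ENat.card_lt_top.mp h2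

/-- For a reduced ring, the reduction is the ring itself. -/
noncomputable def redEquiv (E : Type u) [CommRing E] [IsReduced E] : CAlg2.red E ≃+* E :=
  (Ideal.quotEquivOfEq ((nilradical_eq_zero E).trans Ideal.zero_eq_bot)).trans
    (RingEquiv.quotientBot E)

theorem finite_maximalSpectrum_integralClosure (E : Type u) [CommRing E] [IsLocalRing E]
    [IsNoetherianRing E] [IsReduced E] :
    Finite (MaximalSpectrum (integralClosure E (FractionRing E))) := by
  have h1 := finite_maximalSpectrum_normRed E
  have h2 := card_maximalSpectrum_congr (icEquiv (redEquiv E))
  have h3 : ENat.card (MaximalSpectrum (CAlg2.normRed E)) < ⊤ := ENat.card_lt_top_of_finite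
  rw [h2] at h3
  exact ENat.card_lt_top.mp h3

theorem isReduced_of_essEtale (A E : Type u) [CommRing A] [IsLocalRing A] [IsReduced A]
    [CommRing E] [Algebra A E] (hE : EGA4loc.IsEssentiallyEtale A E) : IsReduced E := by
  obtain ⟨C, _, _, q, _, hC, hq, ⟨e⟩⟩ := hE
  have : IsReduced C := Groth.Agent.S9407.result A C
  have : IsReduced (Localization.AtPrime q) :=
    isReduced_localizationPreserves q.primeCompl _ inferInstance
  exact isReduced_of_injective e.toRingHom e.injective

end Groth.Agent.Lib.NormFiniteMax61
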