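/-
helper98: openness of the locus where the local rings of a Noetherian domain are integrally
closed, given that some `R_f` (`f ≠ 0`) is integrally closed (Stacks 0332), with an elementwise
criterion for a localization of a domain to be integrally closed.
-/
import Mathlib.RingTheory.IntegralClosure.IntegrallyClosed
import Mathlib.RingTheory.Localization.Integral
import Mathlib.RingTheory.Localization.LocalizationLocalization
import Mathlib.RingTheory.Localization.AtPrime.Basic
import Mathlib.RingTheory.Localization.Away.Basic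
import Mathlib.RingTheory.Ideal.AssociatedPrime.Finiteness
import Mathlib.RingTheory.Ideal.MinimalPrime.Colon
import Mathlib.RingTheory.Spectrum.Prime.Topology

set_option autoImplicit false
set_option maxHeartbeats 400000

namespace Groth.Agent.Lib.NormalLocus98

variable {R : Type*} [CommRing R] [IsDomain R]

/-- A localization `S = M⁻¹R` of a domain is integrally closed iff every element of `Frac R`
integral over `R` becomes an element of `R` after multiplication by some element of `M`. -/
theorem isIntegrallyClosed_iff_of_isLocalization (M : Submonoid R) (hM : M ≤ nonZeroDivisors R)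
    (S : Type*) [CommRing S] [Algebra R S] [IsLocalization M S]
    (K : Type*) [Field K] [Algebra R K] [IsFractionRing R K] :
    IsIntegrallyClosed S ↔
      ∀ x : K, IsIntegral R x → ∃ m ∈ M, ∃ a : R, algebraMap R K m * x = algebraMap R K a := by
  have hunit : ∀ m : M, IsUnit (algebraMap R K m) := fun m =>
    IsLocalization.map_units K (⟨m, hM m.2⟩ : nonZeroDivisors R)
  let _ : Algebra S K := (IsLocalization.lift hunit).toAlgebra
  have : IsScalarTower R S K := IsScalarTower.of_algebraMap_eq (fun r => by
    rw [RingHom.algebraMap_toAlgebra, IsLocalization.lift_eq])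
  have : IsDomain S := IsLocalization.isDomain_of_le_nonZeroDivisors S hM
  have : IsFractionRing S K := IsFractionRing.isFractionRing_of_isDomain_of_isLocalization M S K
  rw [isIntegrallyClosed_iff K]
  constructor
  · intro h x hx
    obtain ⟨y, hy⟩ := h (hx.tower_top (A := S))
    obtain ⟨a, m, rfl⟩ := IsLocalization.exists_mk'_eq M y
    refine ⟨m, m.2, a, ?_⟩
    rw [← hy, IsScalarTower.algebraMap_apply R S K, IsScalarTower.algebraMap_apply R S K a,
      ← map_mul, mul_comm, IsLocalization.mk'_spec]
  · intro h x hx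
    obtain ⟨m, hm⟩ := IsIntegral.exists_multiple_integral_of_isLocalization M x hx
    rw [Submonoid.smul_def, Algebra.smul_def] at hm
    obtain ⟨m', hm', a, ha⟩ := h _ hm
    refine ⟨IsLocalization.mk' S a (⟨m', hm'⟩ * m), ?_⟩
    have h0 : algebraMap R K ((⟨m', hm'⟩ * m : M) : R) ≠ 0 := (hunit _).ne_zero
    apply mul_right_cancel₀ h0
    have e1 : algebraMap S K (IsLocalization.mk' S a (⟨m', hm'⟩ * m))
        * algebraMap R K ((⟨m', hm'⟩ * m : M) : R) = algebraMap R K a := by
      rw [IsScalarTower.algebraMap_apply R S K ((⟨m', hm'⟩ * m : M) : R), ← map_mul,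
        IsLocalization.mk'_spec, ← IsScalarTower.algebraMap_apply]
    rw [e1, ← ha, Submonoid.coe_mul, map_mul]
    ring

theorem isIntegrallyClosed_atPrime_iff (p : Ideal R) [p.IsPrime]
    (K : Type*) [Field K] [Algebra R K] [IsFractionRing R K] :
    IsIntegrallyClosed (Localization.AtPrime p) ↔
      ∀ x : K, IsIntegral R x → ∃ s, s ∉ p ∧ ∃ a : R, algebraMap R K s * x = algebraMap R K a := by
  rw [isIntegrallyClosed_iff_of_isLocalization p.primeCompl p.primeCompl_le_nonZeroDivisors _ K]
  rfl

theorem exists_pow_mul_of_isIntegrallyClosed_away (f : R) (hf : f ≠ 0)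
    (hn : IsIntegrallyClosed (Localization.Away f))
    (K : Type*) [Field K] [Algebra R K] [IsFractionRing R K] (x : K) (hx : IsIntegral R x) :
    ∃ n : ℕ, ∃ a : R, algebraMap R K (f ^ n) * x = algebraMap R K a := by
  obtain ⟨m, ⟨n, rfl⟩, a, ha⟩ := (isIntegrallyClosed_iff_of_isLocalization (Submonoid.powers f)
    (powers_le_nonZeroDivisors_of_noZeroDivisors hf) (Localization.Away f) K).mp hn x hx
  exact ⟨n, a, ha⟩

/-- Key step: if `R_f` is integrally closed and `R_q` is integrally closed for all
`q ∈ Ass(R/fR)` contained in `p`, then `R_p` is integrally closed (in elementwise form). -/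
theorem key [IsNoetherianRing R] (f : R) (hf : f ≠ 0)
    (hn : IsIntegrallyClosed (Localization.Away f))
    (K : Type*) [Field K] [Algebra R K] [IsFractionRing R K] (p : Ideal R) [hp : p.IsPrime]
    (H : ∀ q ∈ associatedPrimes R (R ⧸ Ideal.span {f}), q ≤ p → ∀ x : K, IsIntegral R x →
      ∃ s, s ∉ q ∧ ∃ a : R, algebraMap R K s * x = algebraMap R K a) :
    ∀ x : K, IsIntegral R x → ∃ s, s ∉ p ∧ ∃ a : R, algebraMap R K s * x = algebraMap R K a := by
  intro x hx
  by_contra hcon
  push Not at hcon
  have hex : ∃ n : ℕ, ∃ s, s ∉ p ∧ ∃ a : R, algebraMap R K (s * f ^ n) * x = algebraMap R K a := by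
    obtain ⟨n, a, ha⟩ := exists_pow_mul_of_isIntegrallyClosed_away f hf hn K x hx
    exact ⟨n, 1, (p.ne_top_iff_one.mp hp.ne_top), a, by simpa using ha⟩
  classical
  obtain ⟨s, hs, a, ha⟩ := Nat.find_spec hex
  have hn0 : Nat.find hex ≠ 0 := by
    intro h0
    rw [h0, pow_zero, mul_one] at ha
    exact hcon s hs a ha
  obtain ⟨k, hk⟩ := Nat.exists_eq_succ_of_ne_zero hn0
  set z : K := algebraMap R K (s * f ^ k) * x with hz
  have hzint : IsIntegral R z := IsIntegral.mul isIntegral_algebraMap hx
  have hfz : algebraMap R K f * z = algebraMap R K a := by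
    rw [← ha, hk, hz, pow_succ]
    simp only [map_mul]
    ring
  have hznot : ∀ t, t ∉ p → ∀ b : R, algebraMap R K t * z ≠ algebraMap R K b := by
    intro t ht b hb
    have hlt : k < Nat.find hex := by omega
    apply Nat.find_min hex hlt
    refine ⟨t * s, ?_, b, ?_⟩
    · exact fun h => (hp.mem_or_mem h).elim ht hs
    · rw [← hb, hz]
      simp only [map_mul]
      ring
  have hfK : algebraMap R K f ≠ 0 := by
    simpa using hf
  have hJ : ∀ t : R, t ∈ (⊥ : Submodule R (R ⧸ Ideal.span {f})).colon
      {Ideal.Quotient.mk (Ideal.span {f}) a} ↔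
      ∃ b : R, algebraMap R K t * z = algebraMap R K b := by
    intro t
    rw [Submodule.mem_colon_singleton, Submodule.mem_bot]
    have h1 : t • Ideal.Quotient.mk (Ideal.span {f}) a
        = Ideal.Quotient.mk (Ideal.span {f}) (t * a) := rfl
    rw [h1, Ideal.Quotient.eq_zero_iff_mem, Ideal.mem_span_singleton']
    constructor
    · rintro ⟨b, hb⟩
      refine ⟨b, ?_⟩
      apply mul_left_cancel₀ hfK
      calc algebraMap R K f * (algebraMap R K t * z)
          = algebraMap R K t * (algebraMap R K f * z) := by ring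
        _ = algebraMap R K (t * a) := by rw [hfz, map_mul]
        _ = algebraMap R K (b * f) := by rw [hb]
        _ = algebraMap R K f * algebraMap R K b := by rw [map_mul]; ring
    · rintro ⟨b, hb⟩
      refine ⟨b, ?_⟩
      apply IsFractionRing.injective R K
      calc algebraMap R K (b * f) = algebraMap R K f * (algebraMap R K t * z) := by
            rw [hb, map_mul]; ring
        _ = algebraMap R K t * (algebraMap R K f * z) := by ring
        _ = algebraMap R K (t * a) := by rw [hfz, map_mul]
  have hJp : (⊥ : Submodule R (R ⧸ Ideal.span {f})).colon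
      {Ideal.Quotient.mk (Ideal.span {f}) a} ≤ p := by
    intro t ht
    by_contra htp
    obtain ⟨b, hb⟩ := (hJ t).mp ht
    exact hznot t htp b hb
  obtain ⟨q, hq, hqp⟩ := Ideal.exists_minimalPrimes_le hJp
  have hqass : q ∈ associatedPrimes R (R ⧸ Ideal.span {f}) := by
    obtain ⟨y, hy⟩ := Submodule.exists_eq_colon_of_mem_minimalPrimes hq
    exact (isAssociatedPrime_iff).mpr ⟨hq.1.1, y, hy⟩
  obtain ⟨t, htq, b, hb⟩ := H q hqass hqp z hzint
  exact htq (hq.1.2 ((hJ t).mpr ⟨b, hb⟩))

/-- Stacks 0332: for a Noetherian domain `R` with `R_f` integrally closed (`f ≠ 0`), the set of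
primes `p` with `R_p` integrally closed is open. -/
theorem isOpen_setOf_isIntegrallyClosed_atPrime [IsNoetherianRing R] (f : R) (hf : f ≠ 0)
    (hn : IsIntegrallyClosed (Localization.Away f)) :
    IsOpen {p : PrimeSpectrum R | IsIntegrallyClosed (Localization.AtPrime p.asIdeal)} := by
  classical
  let K := FractionRing R
  let Bad : Set (Ideal R) := {q | q ∈ associatedPrimes R (R ⧸ Ideal.span {f}) ∧
    ¬ (∀ x : K, IsIntegral R x → ∃ s, s ∉ q ∧ ∃ a : R, algebraMap R K s * x = algebraMap R K a)}
  have hfin : Bad.Finite :=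
    (associatedPrimes.finite R (R ⧸ Ideal.span {f})).subset (fun q hq => hq.1)
  have hclosed : IsClosed (⋃ q ∈ Bad, PrimeSpectrum.zeroLocus (q : Set R)) :=
    hfin.isClosed_biUnion (fun q _ => PrimeSpectrum.isClosed_zeroLocus _)
  convert hclosed.isOpen_compl using 1
  ext p
  simp only [Set.mem_ofPred_eq, Set.mem_compl_iff, Set.mem_iUnion, PrimeSpectrum.mem_zeroLocus,
    SetLike.coe_subset_coe, not_exists]
  rw [isIntegrallyClosed_atPrime_iff p.asIdeal K]
  constructor
  · intro hp q hqBad hqp
    apply hqBad.2
    intro x hx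
    obtain ⟨s, hs, a, ha⟩ := hp x hx
    exact ⟨s, fun h => hs (hqp h), a, ha⟩
  · intro h
    apply key f hf hn K p.asIdeal
    intro q hq hqp
    by_contra hcon
    exact h q ⟨hq, hcon⟩ hqp

section Tools

variable {A : Type*} [CommRing A]

/-- If `B = M⁻¹A` and `P` is a prime of `B` with contraction `q`, then `A_q ≃ B_P`. -/
theorem nonempty_ringEquiv_atPrime_comap {B : Type*} [CommRing B] [Algebra A B]
    (M : Submonoid A) [IsLocalization M B] (P : Ideal B) [P.IsPrime] :
    Nonempty (Localization.AtPrime (P.comap (algebraMap A B)) ≃+* Localization.AtPrime P) := by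
  have : IsLocalization.AtPrime (Localization.AtPrime P) (P.comap (algebraMap A B)) :=
    IsLocalization.isLocalization_isLocalization_atPrime_isLocalization M
      (Localization.AtPrime P) P
  exact ⟨(IsLocalization.algEquiv (P.comap (algebraMap A B)).primeCompl _ _).toRingEquiv⟩

theorem nonempty_ringEquiv_atPrime_of_comap_eq {B : Type*} [CommRing B] [Algebra A B]
    (M : Submonoid A) [IsLocalization M B] (P : Ideal B) [P.IsPrime] (q : Ideal A) [q.IsPrime]
    (hq : P.comap (algebraMap A B) = q) :
    Nonempty (Localization.AtPrime q ≃+* Localization.AtPrime P) := by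
  subst hq
  exact nonempty_ringEquiv_atPrime_comap M P

/-- For a Noetherian ring `A` and a prime `p` with `A_p` a domain, some `A_h` (`h ∉ p`) is a
domain. -/
theorem exists_away_isDomain [IsNoetherianRing A] (p : Ideal A) [hp : p.IsPrime]
    [IsDomain (Localization.AtPrime p)] :
    ∃ h : A, h ∉ p ∧ IsDomain (Localization.Away h) := by
  classical
  obtain ⟨S, hS⟩ : (RingHom.ker (algebraMap A (Localization.AtPrime p))).FG :=
    IsNoetherian.noetherian _
  have hs : ∀ k ∈ S, ∃ s : A, s ∉ p ∧ s * k = 0 := by
    intro k hk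
    have hkK : k ∈ RingHom.ker (algebraMap A (Localization.AtPrime p)) :=
      hS ▸ Ideal.subset_span hk
    rw [RingHom.mem_ker, IsLocalization.map_eq_zero_iff p.primeCompl] at hkK
    obtain ⟨m, hm⟩ := hkK
    exact ⟨m, m.2, hm⟩
  choose! s hs1 hs2 using hs
  have hhp : ∏ k ∈ S, s k ∉ p := by
    intro hmem
    obtain ⟨k, hk, hkp⟩ := (hp.prod_mem_iff).mp hmem
    exact hs1 k hk hkp
  have hhk : ∀ k ∈ S, (∏ k ∈ S, s k) * k = 0 := by
    intro k hk
    obtain ⟨c, hc⟩ := Finset.dvd_prod_of_mem s hk
    rw [hc, mul_comm (s k) c, mul_assoc, hs2 k hk, mul_zero]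
  have hK : ∀ a ∈ RingHom.ker (algebraMap A (Localization.AtPrime p)),
      (∏ k ∈ S, s k) * a = 0 := by
    intro a ha
    rw [← hS] at ha
    induction ha using Submodule.span_induction with
    | mem k hk => exact hhk k hk
    | zero => exact mul_zero _
    | add x y _ _ hx hy => rw [mul_add, hx, hy, add_zero]
    | smul c x _ hx => rw [smul_eq_mul, mul_left_comm, hx, mul_zero]
  refine ⟨∏ k ∈ S, s k, hhp, ?_⟩
  set h := ∏ k ∈ S, s k with hh
  have hu : IsUnit (algebraMap A (Localization.AtPrime p) h) :=
    IsLocalization.map_units (Localization.AtPrime p) (⟨h, hhp⟩ : p.primeCompl)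
  let φ : Localization.Away h →+* Localization.AtPrime p := IsLocalization.Away.lift h hu
  have hinj : Function.Injective φ := by
    rw [injective_iff_map_eq_zero]
    intro x hx
    obtain ⟨a, m, rfl⟩ := IsLocalization.exists_mk'_eq (Submonoid.powers h) x
    have h1 : algebraMap A (Localization.AtPrime p) a = 0 := by
      have h2 := congrArg φ (IsLocalization.mk'_spec (Localization.Away h) a m)
      rw [map_mul, hx, zero_mul, IsLocalization.Away.lift_eq] at h2
      exact h2.symm
    rw [IsLocalization.mk'_eq_zero_iff]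
    exact ⟨⟨h, Submonoid.mem_powers h⟩, hK a h1⟩
  exact hinj.isDomain φ

theorem isIntegrallyClosed_atPrime_bot (B : Type*) [CommRing B] [IsDomain B] :
    IsIntegrallyClosed (Localization.AtPrime (⊥ : Ideal B)) := by
  rw [isIntegrallyClosed_atPrime_iff (⊥ : Ideal B) (FractionRing B)]
  intro x _
  obtain ⟨a, s, hs, rfl⟩ := IsFractionRing.div_surjective (A := B) x
  have hs0 : algebraMap B (FractionRing B) s ≠ 0 :=
    IsFractionRing.to_map_ne_zero_of_mem_nonZeroDivisors hs
  exact ⟨s, fun h => nonZeroDivisors.ne_zero hs (by simpa using h), a, mul_div_cancel₀ _ hs0⟩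

end Tools

end Groth.Agent.Lib.NormalLocus98
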