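/-
helper98: finiteness of the integral closure of a Noetherian domain from generic + local
finiteness (EGA IV 6.13 / Stacks 0333 style).
-/
import Groth.Agent.Lib.NormalLocus98
import Mathlib.RingTheory.Ideal.GoingUp
import Mathlib.RingTheory.Algebraic.Integral
import Mathlib.RingTheory.Localization.Finiteness
import Mathlib.RingTheory.Localization.Integral
import Mathlib.Algebra.Module.LocalizedModule.Submodule

set_option autoImplicit false
set_option maxHeartbeats 400000

namespace Groth.Agent.Lib.FiniteIntClosure98

open Groth.Agent.Lib.NormalLocus98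

section Core

variable {A : Type*} [CommRing A] [IsDomain A] [IsNoetherianRing A]
  {K' : Type*} [Field K'] [Algebra A K']

/-- Primes at which `adjoin A T` and the integral closure of `A` in `K'` agree locally. -/
def U (T : Set K') : Set (PrimeSpectrum A) :=
  {p | ∀ x : K', IsIntegral A x → ∃ s : A, s ∉ p.asIdeal ∧ s • x ∈ Algebra.adjoin A T}

theorem isOpen_U (hinj : Function.Injective (algebraMap A K')) [Algebra.IsAlgebraic A K']
    (f : A) (hf : f ≠ 0) (T : Finset K') (hT : ∀ x ∈ T, IsIntegral A x)
    (ha : ∀ x : K', IsIntegral A x → ∃ n : ℕ, f ^ n • x ∈ Algebra.adjoin A (T : Set K')) :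
    IsOpen (U (A := A) (T : Set K')) := by
  classical
  set B : Subalgebra A K' := Algebra.adjoin A (T : Set K') with hB
  haveI hfin : Module.Finite A B :=
    Algebra.finite_adjoin_of_finite_of_isIntegral T.finite_toSet hT
  haveI : IsNoetherianRing B := IsNoetherianRing.of_finite A B
  haveI : Algebra.IsIntegral A B := Algebra.IsIntegral.of_finite A B
  have hinjB : Function.Injective (algebraMap A B) := by
    intro a b hab
    apply hinj
    have h1 := congrArg (algebraMap B K') hab
    rwa [← IsScalarTower.algebraMap_apply, ← IsScalarTower.algebraMap_apply] at h1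
  haveI : FaithfulSMul B K' :=
    (faithfulSMul_iff_algebraMap_injective B K').mpr Subtype.val_injective
  haveI : IsFractionRing B K' := by
    apply IsFractionRing.of_field
    intro z
    obtain ⟨a, ha0, haz⟩ := (Algebra.IsAlgebraic.isAlgebraic (R := A) z).exists_integral_multiple
    obtain ⟨n, hn⟩ := ha _ haz
    refine ⟨⟨f ^ n • a • z, hn⟩, algebraMap A B (f ^ n * a), ?_⟩
    have h0 : algebraMap A K' (f ^ n * a) ≠ 0 := by
      rw [Ne, map_eq_zero_iff _ hinj]; exact mul_ne_zero (pow_ne_zero n hf) ha0
    rw [eq_div_iff (by rwa [← IsScalarTower.algebraMap_apply]), ← IsScalarTower.algebraMap_apply]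
    show z * algebraMap A K' (f ^ n * a) = f ^ n • a • z
    rw [Algebra.smul_def, Algebra.smul_def, map_mul]; ring
  have hfB : algebraMap A B f ≠ 0 := by
    rw [Ne, map_eq_zero_iff _ hinjB]; exact hf
  have hC : IsIntegrallyClosed (Localization.Away (algebraMap A B f)) := by
    rw [isIntegrallyClosed_iff_of_isLocalization (Submonoid.powers (algebraMap A B f))
      (powers_le_nonZeroDivisors_of_noZeroDivisors hfB) (Localization.Away (algebraMap A B f)) K']
    intro x hx
    have hxA : IsIntegral A x := isIntegral_trans x hx
    obtain ⟨n, hn⟩ := ha x hxA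
    refine ⟨(algebraMap A B f) ^ n, ⟨n, rfl⟩, ⟨f ^ n • x, hn⟩, ?_⟩
    show algebraMap B K' ((algebraMap A B f) ^ n) * x = f ^ n • x
    rw [map_pow, ← IsScalarTower.algebraMap_apply, Algebra.smul_def, map_pow]
  have hVopen := isOpen_setOf_isIntegrallyClosed_atPrime (R := B) (algebraMap A B f) hfB hC
  have hclosed : IsClosedMap (PrimeSpectrum.comap (algebraMap A B)) :=
    PrimeSpectrum.isClosedMap_comap_of_isIntegral _ (algebraMap_isIntegral_iff.mpr inferInstance)
  have hU : U (A := A) (T : Set K') = (PrimeSpectrum.comap (algebraMap A B) ''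
      {P : PrimeSpectrum B | IsIntegrallyClosed (Localization.AtPrime P.asIdeal)}ᶜ)ᶜ := by
    ext p
    rw [Set.mem_compl_iff]
    constructor
    · intro hp
      rintro ⟨P, hPV, hPp⟩
      apply hPV
      show IsIntegrallyClosed (Localization.AtPrime P.asIdeal)
      rw [isIntegrallyClosed_atPrime_iff P.asIdeal K']
      intro x hx
      have hxA : IsIntegral A x := isIntegral_trans x hx
      obtain ⟨s, hs, hsx⟩ := hp x hxA
      refine ⟨algebraMap A B s, ?_, ⟨s • x, hsx⟩, ?_⟩
      · intro hmem
        apply hs
        rw [← hPp]
        exact hmem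
      · show algebraMap B K' (algebraMap A B s) * x = s • x
        rw [← IsScalarTower.algebraMap_apply, Algebra.smul_def]
    · intro hp x hx
      by_contra hcon
      push Not at hcon
      let I : Ideal B :=
        { carrier := {b | (b : K') * x ∈ B}
          add_mem' := by
            intro a b ha hb
            show ((a + b : B) : K') * x ∈ B
            rw [Subalgebra.coe_add, add_mul]
            exact B.add_mem ha hb
          zero_mem' := by
            show ((0 : B) : K') * x ∈ B
            rw [Subalgebra.coe_zero, zero_mul]; exact B.zero_mem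
          smul_mem' := by
            intro c b hb
            show ((c • b : B) : K') * x ∈ B
            rw [smul_eq_mul, Subalgebra.coe_mul, mul_assoc]
            exact B.mul_mem c.2 hb }
      have hle : I.comap (algebraMap A B) ≤ p.asIdeal := by
        intro s hs
        by_contra hsp
        apply hcon s hsp
        have h1 : ((algebraMap A B s : B) : K') * x ∈ B := hs
        rwa [show ((algebraMap A B s : B) : K') = algebraMap A K' s from rfl,
          ← Algebra.smul_def] at h1
      haveI := p.2
      obtain ⟨Q, hQI, hQprime, hQp⟩ :=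
        Ideal.exists_ideal_over_prime_of_isIntegral p.asIdeal I hle
      have hQV : IsIntegrallyClosed (Localization.AtPrime Q) := by
        by_contra hnot
        exact hp ⟨⟨Q, hQprime⟩, hnot, PrimeSpectrum.ext hQp⟩
      rw [isIntegrallyClosed_atPrime_iff Q K'] at hQV
      obtain ⟨s, hsQ, b, hsb⟩ := hQV x (hx.tower_top)
      apply hsQ
      apply hQI
      show (s : K') * x ∈ B
      rw [show (s : K') = algebraMap B K' s from rfl, hsb]
      exact b.2
  rw [hU]
  exact (hclosed _ hVopen.isClosed_compl).isOpen_compl

/-- Core: generic + local (at maximal ideals) finiteness of the integral closure of a Noetherian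
domain in an algebraic field extension implies finiteness. -/
theorem finite_integralClosure_of_local (hinj : Function.Injective (algebraMap A K'))
    [Algebra.IsAlgebraic A K'] (f : A) (hf : f ≠ 0) (T₀ : Finset K')
    (hT₀ : ∀ x ∈ T₀, IsIntegral A x)
    (ha : ∀ x : K', IsIntegral A x → ∃ n : ℕ, f ^ n • x ∈ Algebra.adjoin A (T₀ : Set K'))
    (hb : ∀ m : Ideal A, m.IsMaximal → ∃ T : Finset K', (∀ x ∈ T, IsIntegral A x) ∧
      ∀ x : K', IsIntegral A x → ∃ s : A, s ∉ m ∧ s • x ∈ Algebra.adjoin A (T : Set K')) :
    Module.Finite A (integralClosure A K') := by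
  classical
  have hex : ∀ p : PrimeSpectrum A, ∃ T : Finset K', (∀ x ∈ T, IsIntegral A x) ∧ T₀ ⊆ T ∧
      p ∈ U (A := A) (T : Set K') := by
    intro p
    obtain ⟨m, hm, hpm⟩ := Ideal.exists_le_maximal p.asIdeal p.2.ne_top
    obtain ⟨T, hT, hTm⟩ := hb m hm
    refine ⟨T₀ ∪ T, ?_, Finset.subset_union_left, ?_⟩
    · intro x hx
      rcases Finset.mem_union.mp hx with h | h
      · exact hT₀ x h
      · exact hT x h
    · intro x hx
      obtain ⟨s, hs, hsx⟩ := hTm x hx
      refine ⟨s, fun h => hs (hpm h), Algebra.adjoin_mono ?_ hsx⟩
      rw [Finset.coe_union]; exact Set.subset_union_right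
  choose T hT hT₀T hpT using hex
  have hopen : ∀ p, IsOpen (U (A := A) (T p : Set K')) := fun p =>
    isOpen_U hinj f hf (T p) (hT p) (fun x hx => by
      obtain ⟨n, hn⟩ := ha x hx
      exact ⟨n, Algebra.adjoin_mono (by exact_mod_cast hT₀T p) hn⟩)
  obtain ⟨t, ht⟩ := isCompact_univ.elim_finite_subcover (fun p => U (A := A) (T p : Set K')) hopen
    (fun p _ => Set.mem_iUnion.2 ⟨p, hpT p⟩)
  set Tfin : Finset K' := t.biUnion T with hTfin
  have hTfin_int : ∀ x ∈ Tfin, IsIntegral A x := by
    intro x hx
    obtain ⟨p, _, hxp⟩ := Finset.mem_biUnion.mp hx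
    exact hT p x hxp
  have heq : integralClosure A K' = Algebra.adjoin A (Tfin : Set K') := by
    apply le_antisymm
    · intro x hx
      by_contra hxB
      let I : Ideal A :=
        { carrier := {a | a • x ∈ Algebra.adjoin A (Tfin : Set K')}
          add_mem' := by
            intro a b ha hb
            show (a + b) • x ∈ Algebra.adjoin A (Tfin : Set K')
            rw [add_smul]; exact Subalgebra.add_mem _ ha hb
          zero_mem' := by
            show (0 : A) • x ∈ Algebra.adjoin A (Tfin : Set K')
            rw [zero_smul]; exact Subalgebra.zero_mem _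
          smul_mem' := by
            intro c a ha
            show (c • a) • x ∈ Algebra.adjoin A (Tfin : Set K')
            rw [smul_eq_mul, mul_smul]; exact Subalgebra.smul_mem _ ha c }
      have hI : I ≠ ⊤ := by
        intro h
        have h1 : (1 : A) ∈ I := h ▸ Submodule.mem_top
        apply hxB
        have h2 : (1 : A) • x ∈ Algebra.adjoin A (Tfin : Set K') := h1
        rwa [one_smul] at h2
      obtain ⟨m, hm, hIm⟩ := Ideal.exists_le_maximal I hI
      have hmem := ht (Set.mem_univ (⟨m, hm.isPrime⟩ : PrimeSpectrum A))
      simp only [Set.mem_iUnion] at hmem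
      obtain ⟨p, hpt, hpU⟩ := hmem
      obtain ⟨s, hs, hsx⟩ := hpU x hx
      apply hs
      apply hIm
      show s • x ∈ Algebra.adjoin A (Tfin : Set K')
      refine Algebra.adjoin_mono ?_ hsx
      intro y hy
      exact Finset.mem_coe.mpr (Finset.mem_biUnion.mpr ⟨p, hpt, hy⟩)
    · exact Algebra.adjoin_le (fun x hx => hTfin_int x hx)
  rw [heq]
  exact Algebra.finite_adjoin_of_finite_of_isIntegral Tfin.finite_toSet hTfin_int

end Core

section LocalToElementwise

variable {A : Type*} [CommRing A] {K' : Type*} [Field K'] [Algebra A K']

/-- If the localization of the integral closure at `S` is a finite module, then finitely many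
integral elements generate it up to denominators in `S`. -/
theorem exists_finset_of_finite_localizedModule (S : Submonoid A)
    (h : Module.Finite (Localization S) (LocalizedModule S (integralClosure A K'))) :
    ∃ T : Finset K', (∀ x ∈ T, IsIntegral A x) ∧
      ∀ x : K', IsIntegral A x → ∃ s ∈ S, s • x ∈ Algebra.adjoin A (T : Set K') := by
  classical
  set M := integralClosure A K' with hM
  set φ := LocalizedModule.mkLinearMap S M with hφ
  obtain ⟨G, hG⟩ := h.fg_top
  have hrep : ∀ g : LocalizedModule S M, ∃ m : M, ∃ s : S, IsLocalizedModule.mk' φ m s = g := by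
    intro g
    obtain ⟨⟨m, s⟩, hms⟩ := IsLocalizedModule.mk'_surjective S φ g
    exact ⟨m, s, hms⟩
  choose mg sg hmg using hrep
  set T₁ : Finset M := G.image mg with hT₁
  set N : Submodule A M := Submodule.span A (T₁ : Set M) with hN
  have hNtop : N.localized' (Localization S) S φ = ⊤ := by
    rw [hN, Submodule.localized'_span, eq_top_iff, ← hG, Submodule.span_le]
    intro g hg
    have h1 : φ (mg g) ∈ Submodule.span (Localization S) (φ '' (T₁ : Set M)) :=
      Submodule.subset_span ⟨mg g, Finset.mem_coe.mpr (Finset.mem_image_of_mem _ hg), rfl⟩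
    have h2 : g = (IsLocalization.mk' (Localization S) (1 : A) (sg g)) • φ (mg g) := by
      have h3 := (IsLocalizedModule.mk'_eq_iff (f := φ)).mp (hmg g)
      rw [h3, Submonoid.smul_def, ← algebraMap_smul (Localization S) ((sg g : S) : A) g, smul_smul,
        IsLocalization.mk'_spec, map_one, one_smul]
    rw [SetLike.mem_coe, h2]
    exact Submodule.smul_mem _ _ h1
  refine ⟨T₁.image (fun m : M => (m : K')), ?_, ?_⟩
  · intro x hx
    obtain ⟨m, _, rfl⟩ := Finset.mem_image.mp hx
    exact m.2
  · intro x hx
    have hx' : φ ⟨x, hx⟩ ∈ N.localized' (Localization S) S φ := by rw [hNtop]; trivial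
    rw [Submodule.mem_localized'] at hx'
    obtain ⟨n, hnN, s, hns⟩ := hx'
    rw [IsLocalizedModule.mk'_eq_iff, Submonoid.smul_def, ← map_smul] at hns
    obtain ⟨c, hc⟩ := IsLocalizedModule.exists_of_eq (S := S) hns
    refine ⟨(c : A) * (s : A), S.mul_mem c.2 s.2, ?_⟩
    have h5 : ((c • n : M) : K') = ((c • ((s : A) • (⟨x, hx⟩ : M)) : M) : K') :=
      congrArg (fun y : M => (y : K')) hc
    have h4 : ((c : A) * (s : A)) • x = ((c • n : M) : K') := by
      rw [h5, mul_smul]; rfl
    rw [h4]
    -- c • n ∈ N ⇒ its image lies in the span of the images ⊆ adjoin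
    have h6 : c • n ∈ N := N.smul_mem _ hnN
    have h7 : ∀ y ∈ N, ((y : M) : K') ∈ Algebra.adjoin A
        ((T₁.image (fun m : M => (m : K')) : Finset K') : Set K') := by
      intro y hy
      induction hy using Submodule.span_induction with
      | mem y hy =>
        exact Algebra.subset_adjoin (Finset.mem_coe.mpr (Finset.mem_image_of_mem _ hy))
      | zero => exact Subalgebra.zero_mem _
      | add y z _ _ hy hz => exact Subalgebra.add_mem _ hy hz
      | smul a y _ hy => exact Subalgebra.smul_mem _ hy a
    exact h7 _ h6

end LocalToElementwise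

section LocalizationN1

variable {R : Type*} [CommRing R] [IsDomain R] (M : Submonoid R)
  (S : Type*) [CommRing S] [Algebra R S] [IsLocalization M S]
  (K : Type*) [Field K] [Algebra R K] [Algebra S K] [IsScalarTower R S K]

/-- If the integral closure of `S = M⁻¹R` in `K` is a finite `S`-module, then finitely many
elements integral over `R` generate the integral closure of `R` up to denominators in `M`. -/
theorem exists_finset_of_finite_integralClosure_localization
    (h : Module.Finite S (integralClosure S K)) :
    ∃ T : Finset K, (∀ x ∈ T, IsIntegral R x) ∧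
      ∀ x : K, IsIntegral R x → ∃ s ∈ M, s • x ∈ Algebra.adjoin R (T : Set K) := by
  classical
  obtain ⟨G, hG⟩ := h.fg_top
  have hmul : ∀ g : integralClosure S K, ∃ s : M, IsIntegral R ((s : R) • (g : K)) := fun g => by
    obtain ⟨s, hs⟩ := IsIntegral.exists_multiple_integral_of_isLocalization M (g : K) g.2
    exact ⟨s, by rwa [Submonoid.smul_def] at hs⟩
  choose sg hsg using hmul
  refine ⟨G.image (fun g : integralClosure S K => ((sg g : M) : R) • (g : K)), ?_, ?_⟩
  · intro x hx
    obtain ⟨g, _, rfl⟩ := Finset.mem_image.mp hx
    exact hsg g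
  · intro x hx
    set T : Finset K := G.image (fun g : integralClosure S K => ((sg g : M) : R) • (g : K)) with hT
    have key : ∀ z : integralClosure S K,
        ∃ s ∈ M, s • (z : K) ∈ Submodule.span R (T : Set K) := by
      intro z
      have hz : z ∈ Submodule.span S (G : Set (integralClosure S K)) := by rw [hG]; trivial
      induction hz using Submodule.span_induction with
      | mem g hg =>
        exact ⟨sg g, (sg g).2,
          Submodule.subset_span (Finset.mem_coe.mpr (Finset.mem_image_of_mem _ hg))⟩
      | zero => exact ⟨1, M.one_mem, by simp⟩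
      | add y z _ _ hy hz =>
        obtain ⟨s₁, hs₁, h₁⟩ := hy
        obtain ⟨s₂, hs₂, h₂⟩ := hz
        refine ⟨s₁ * s₂, M.mul_mem hs₁ hs₂, ?_⟩
        have e : (s₁ * s₂) • (((y + z : integralClosure S K)) : K)
            = s₂ • (s₁ • (y : K)) + s₁ • (s₂ • (z : K)) := by
          rw [show (((y + z : integralClosure S K)) : K) = (y : K) + (z : K) from rfl,
            smul_add, mul_smul, mul_smul, smul_comm s₁ s₂ (y : K)]
        rw [e]
        exact Submodule.add_mem _ (Submodule.smul_mem _ _ h₁) (Submodule.smul_mem _ _ h₂)
      | smul c y _ hy =>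
        obtain ⟨s, hs, h₁⟩ := hy
        obtain ⟨a, t, rfl⟩ := IsLocalization.exists_mk'_eq M c
        refine ⟨s * t, M.mul_mem hs t.2, ?_⟩
        have e : (s * (t : R)) • (((IsLocalization.mk' S a t • y : integralClosure S K)) : K)
            = a • (s • (y : K)) := by
          rw [show (((IsLocalization.mk' S a t • y : integralClosure S K)) : K)
              = IsLocalization.mk' S a t • (y : K) from rfl,
            mul_smul, ← smul_assoc (t : R) (IsLocalization.mk' S a t) (y : K),
            IsLocalization.smul_mk'_self, algebraMap_smul, smul_comm]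
        rw [e]
        exact Submodule.smul_mem _ _ h₁
    obtain ⟨s, hs, hsx⟩ := key ⟨x, hx.tower_top⟩
    exact ⟨s, hs, Algebra.span_le_adjoin R _ hsx⟩

include M in
/-- If the integral closure of `R` in `K` is finite over `R`, then the integral closure of
`S = M⁻¹R` in `K` is finite over `S`. -/
theorem finite_integralClosure_localization_of_finite
    (h : Module.Finite R (integralClosure R K)) : Module.Finite S (integralClosure S K) := by
  classical
  obtain ⟨G, hG⟩ := h.fg_top
  refine ⟨⟨G.image (fun g : integralClosure R K => (⟨(g : K), g.2.tower_top⟩ : integralClosure S K)), ?_⟩⟩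
  rw [eq_top_iff]
  rintro y -
  obtain ⟨s, hs⟩ := IsIntegral.exists_multiple_integral_of_isLocalization M (y : K) y.2
  rw [Submonoid.smul_def] at hs
  set G' : Finset (integralClosure S K) :=
    G.image (fun g : integralClosure R K => (⟨(g : K), g.2.tower_top⟩ : integralClosure S K)) with hG'
  have key : ∀ z : integralClosure R K, (⟨(z : K), z.2.tower_top⟩ : integralClosure S K) ∈
      Submodule.span S (G' : Set (integralClosure S K)) := by
    intro z
    have hz : z ∈ Submodule.span R (G : Set (integralClosure R K)) := by rw [hG]; trivial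
    induction hz using Submodule.span_induction with
    | mem g hg =>
      exact Submodule.subset_span (Finset.mem_coe.mpr (Finset.mem_image_of_mem _ hg))
    | zero =>
      have e : (⟨((0 : integralClosure R K) : K), (0 : integralClosure R K).2.tower_top⟩ :
          integralClosure S K) = 0 := rfl
      rw [e]; exact Submodule.zero_mem _
    | add u v _ _ hu hv =>
      have e : (⟨((u + v : integralClosure R K) : K), (u + v).2.tower_top⟩ :
          integralClosure S K) = ⟨(u : K), u.2.tower_top⟩ + ⟨(v : K), v.2.tower_top⟩ := rfl
      rw [e]; exact Submodule.add_mem _ hu hv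
    | smul a u _ hu =>
      have e : (⟨((a • u : integralClosure R K) : K), (a • u).2.tower_top⟩ :
          integralClosure S K) = algebraMap R S a • ⟨(u : K), u.2.tower_top⟩ := by
        apply Subtype.ext
        show a • (u : K) = algebraMap R S a • (u : K)
        rw [algebraMap_smul]
      rw [e]; exact Submodule.smul_mem _ _ hu
  have h1 := key ⟨(s : R) • (y : K), hs⟩
  have h2 : y = IsLocalization.mk' S (1 : R) s •
      (⟨(s : R) • (y : K), hs.tower_top⟩ : integralClosure S K) := by
    apply Subtype.ext
    show (y : K) = IsLocalization.mk' S (1 : R) s • ((s : R) • (y : K))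
    rw [← algebraMap_smul S (s : R) (y : K), smul_smul, IsLocalization.mk'_spec, map_one, one_smul]
  rw [h2]
  exact Submodule.smul_mem _ _ h1

omit [IsDomain R] [IsLocalization M S] [Algebra R S] [Algebra R K] [IsScalarTower R S K] in
theorem finite_integralClosure_fractionRing_iff [IsFractionRing S K] :
    Module.Finite S (integralClosure S (FractionRing S)) ↔
      Module.Finite S (integralClosure S K) := by
  let e : integralClosure S (FractionRing S) ≃ₐ[S] integralClosure S K :=
    (FractionRing.algEquiv S K).mapIntegralClosure
  exact ⟨fun h => by haveI := h; exact Module.Finite.equiv e.toLinearEquiv,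
    fun h => by haveI := h; exact Module.Finite.equiv e.symm.toLinearEquiv⟩

end LocalizationN1

section N1

variable {R : Type*} [CommRing R] [IsDomain R]

/-- N-1 for a localization, in both directions, with the map to the fraction field of `R`
constructed internally. -/
theorem isN1_localization (M : Submonoid R) (hM : M ≤ nonZeroDivisors R)
    (S : Type*) [CommRing S] [Algebra R S] [IsLocalization M S]
    (K : Type*) [Field K] [Algebra R K] [IsFractionRing R K] :
    (Module.Finite S (integralClosure S (FractionRing S)) →
      ∃ T : Finset K, (∀ x ∈ T, IsIntegral R x) ∧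
        ∀ x : K, IsIntegral R x → ∃ s ∈ M, s • x ∈ Algebra.adjoin R (T : Set K)) ∧
    (Module.Finite R (integralClosure R K) →
      Module.Finite S (integralClosure S (FractionRing S))) := by
  have hunit : ∀ m : M, IsUnit (algebraMap R K m) := fun m =>
    IsLocalization.map_units K (⟨m, hM m.2⟩ : nonZeroDivisors R)
  let _ : Algebra S K := (IsLocalization.lift hunit).toAlgebra
  have : IsScalarTower R S K := IsScalarTower.of_algebraMap_eq (fun r => by
    rw [RingHom.algebraMap_toAlgebra, IsLocalization.lift_eq])
  have : IsFractionRing S K := IsFractionRing.isFractionRing_of_isDomain_of_isLocalization M S K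
  constructor
  · intro h
    exact exists_finset_of_finite_integralClosure_localization M S K
      ((finite_integralClosure_fractionRing_iff S K).mp h)
  · intro h
    exact (finite_integralClosure_fractionRing_iff S K).mpr
      (finite_integralClosure_localization_of_finite M S K h)

/-- Conductor element for a domain with finite integral closure. -/
theorem exists_conductor (K : Type*) [Field K] [Algebra R K] [IsFractionRing R K]
    (h : Module.Finite R (integralClosure R K)) :
    ∃ f : R, f ≠ 0 ∧ ∀ x : K, IsIntegral R x →
      ∃ a : R, algebraMap R K f * x = algebraMap R K a := by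
  classical
  obtain ⟨S, hS⟩ := h.fg_top
  obtain ⟨⟨f, hf⟩, hfS⟩ := IsLocalization.exist_integer_multiples_of_finset (nonZeroDivisors R)
    (S.image (fun y : integralClosure R K => (y : K)))
  have key : ∀ y : integralClosure R K, ∃ a : R,
      algebraMap R K f * (y : K) = algebraMap R K a := by
    intro y
    have hy : y ∈ Submodule.span R (S : Set (integralClosure R K)) := by
      rw [hS]; trivial
    induction hy using Submodule.span_induction with
    | mem y hyS =>
      obtain ⟨a, ha⟩ := hfS (y : K) (Finset.mem_image_of_mem _ hyS)
      exact ⟨a, by rw [ha, Algebra.smul_def]⟩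
    | zero => exact ⟨0, by simp⟩
    | add y z _ _ hy hz =>
      obtain ⟨a, ha⟩ := hy
      obtain ⟨b, hb⟩ := hz
      refine ⟨a + b, ?_⟩
      have hc : ((y + z : integralClosure R K) : K) = (y : K) + (z : K) := rfl
      rw [hc, mul_add, ha, hb, map_add]
    | smul c y _ hy =>
      obtain ⟨a, ha⟩ := hy
      refine ⟨c * a, ?_⟩
      have hc : ((c • y : integralClosure R K) : K) = algebraMap R K c * (y : K) := by
        rw [← Algebra.smul_def]; rfl
      rw [hc, mul_left_comm, ha, map_mul]
  exact ⟨f, nonZeroDivisors.ne_zero hf, fun x hx => key ⟨x, hx⟩⟩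

end N1

end Groth.Agent.Lib.FiniteIntClosure98
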