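import Mathlib
import Groth.Agent.Lib.AdicPi

/-!
# Normal decompositions via idempotent lifting

* `isAdicComplete_of_finite_projective`: a finite projective module over a `J`-adically complete ring
  is `J`-adically complete.
* `newton`: the Newton iteration polynomials for `X² = X`; `exists_idempotent_lift`: an endomorphism
  of a `J`-adically complete module which is idempotent modulo `J` lifts to an idempotent
  endomorphism congruent to it modulo `J`.
* `exists_normal_of_complement`: if `Q ⊔ C = ⊤` and `Q ⊓ C = J • ⊤` in a finite projective module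
  `P` over a `J`-adically complete ring then `P = L ⊕ T` with `Q = L ⊔ J • T`
  (normal decomposition of Zink's displays).
-/

set_option autoImplicit false
universe u v

namespace Groth.Agent.Lib.NormalDecomp58

open Polynomial

section Complete

variable {W : Type u} [CommRing W] {P : Type v} [AddCommGroup P] [Module W P]

theorem map_mem_smul_top {N : Type*} [AddCommGroup N] [Module W N] (J : Ideal W) (ψ : P →ₗ[W] N)
    {x : P} (hx : x ∈ J • (⊤ : Submodule W P)) : ψ x ∈ J • (⊤ : Submodule W N) := by
  have : ψ x ∈ (J • (⊤ : Submodule W P)).map ψ := Submodule.mem_map_of_mem hx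
  rw [Submodule.map_smul''] at this
  exact Submodule.smul_mono le_rfl le_top this

theorem isAdicComplete_pi (J : Ideal W) [IsAdicComplete J W] (ι : Type*) [Finite ι] :
    IsAdicComplete J (ι → W) := by
  have h1 : IsPrecomplete J (ι → W) := Groth.Agent.Lib.AdicPi.isPrecomplete_pi J ι
  have h2 : IsHausdorff J (ι → W) := by
    refine ⟨fun x hx => ?_⟩
    funext i
    apply IsHausdorff.haus' (I := J)
    intro n
    have := hx n
    rw [SModEq.zero] at this ⊢
    have h3 := (Groth.Agent.Lib.AdicPi.mem_smul_top_pi_iff (J ^ n) ι x).1 this i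
    simpa using h3
  exact { h1, h2 with }

theorem isAdicComplete_of_finite_projective (J : Ideal W) [IsAdicComplete J W]
    [Module.Finite W P] [Module.Projective W P] : IsAdicComplete J P := by
  obtain ⟨n, f, hf⟩ := Module.Finite.exists_fin' W P
  obtain ⟨i, hi⟩ := Module.projective_lifting_property f LinearMap.id hf
  have hi' : ∀ x, f (i x) = x := fun x => LinearMap.congr_fun hi x
  have : IsAdicComplete J (Fin n → W) := isAdicComplete_pi J (Fin n)
  refine { haus' := ?_, prec' := ?_ }
  · intro x hx
    have : i x = 0 := by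
      apply IsHausdorff.haus' (I := J)
      intro n
      have := hx n
      rw [SModEq.zero] at this ⊢
      exact map_mem_smul_top (J ^ n) i this
    rw [← hi' x, this, map_zero]
  · intro g hg
    obtain ⟨L, hL⟩ := IsPrecomplete.prec' (I := J) (fun n => i (g n)) (by
      intro m n hmn
      have := hg hmn
      rw [SModEq.sub_mem] at this ⊢
      rw [← map_sub]
      exact map_mem_smul_top (J ^ m) i this)
    refine ⟨f L, fun n => ?_⟩
    have := hL n
    rw [SModEq.sub_mem] at this ⊢
    have h2 := map_mem_smul_top (J ^ n) f this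
    rwa [map_sub, hi'] at h2

end Complete


section Newton

variable (W : Type u) [CommRing W]

/-- Newton iteration polynomials for the equation `X² = X`. -/
noncomputable def newton : ℕ → W[X]
  | 0 => X
  | n + 1 => newton n + (1 - 2 * newton n) * (newton n ^ 2 - newton n)

theorem newton_zero : newton W 0 = X := rfl

theorem newton_succ (n : ℕ) :
    newton W (n + 1) = newton W n + (1 - 2 * newton W n) * (newton W n ^ 2 - newton W n) := rfl

theorem dvd_newton_sq_sub (n : ℕ) :
    (X ^ 2 - X : W[X]) ^ (n + 1) ∣ newton W n ^ 2 - newton W n := by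
  induction n with
  | zero => simp [newton_zero]
  | succ n ih =>
    obtain ⟨h, hh⟩ := ih
    have key : newton W (n + 1) ^ 2 - newton W (n + 1) =
        (newton W n ^ 2 - newton W n) ^ 2 * (4 * (newton W n ^ 2 - newton W n) - 3) := by
      rw [newton_succ]; ring
    rw [key, hh]
    refine ⟨(X ^ 2 - X) ^ n * h ^ 2 * (4 * ((X ^ 2 - X) ^ (n + 1) * h) - 3), ?_⟩
    ring

theorem dvd_newton_succ_sub (n : ℕ) :
    (X ^ 2 - X : W[X]) ^ (n + 1) ∣ newton W (n + 1) - newton W n := by
  have : newton W (n + 1) - newton W n = (1 - 2 * newton W n) * (newton W n ^ 2 - newton W n) := by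
    rw [newton_succ]; ring
  rw [this]
  exact Dvd.dvd.mul_left (dvd_newton_sq_sub W n) _

end Newton

section Lift

variable {W : Type u} [CommRing W] {P : Type v} [AddCommGroup P] [Module W P] (J : Ideal W)

theorem mul_apply_mem (k : ℕ) (y x : Module.End W P)
    (hy : ∀ m, y m ∈ J ^ k • (⊤ : Submodule W P)) (hx : ∀ m, x m ∈ J • (⊤ : Submodule W P))
    (m : P) : (y * x) m ∈ J ^ (k + 1) • (⊤ : Submodule W P) := by
  rw [Module.End.mul_apply]
  refine Submodule.smul_induction_on (hx m) (fun j hj m' _ => ?_) (fun a b ha hb => ?_)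
  · rw [map_smul, pow_succ', Submodule.mul_smul]
    exact Submodule.smul_mem_smul hj (hy m')
  · rw [map_add]
    exact Submodule.add_mem _ ha hb

theorem pow_apply_mem (x : Module.End W P) (hx : ∀ m, x m ∈ J • (⊤ : Submodule W P)) (k : ℕ)
    (m : P) : (x ^ k) m ∈ J ^ k • (⊤ : Submodule W P) := by
  induction k generalizing m with
  | zero => simp
  | succ k ih =>
    rw [pow_succ]
    exact mul_apply_mem J k (x ^ k) x ih hx m

theorem aeval_apply_mem_of_dvd (f₀ : Module.End W P)
    (h₀ : ∀ m, f₀ (f₀ m) - f₀ m ∈ J • (⊤ : Submodule W P)) (k : ℕ) (q : W[X])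
    (hq : (X ^ 2 - X : W[X]) ^ k ∣ q) (m : P) :
    (aeval f₀ q) m ∈ J ^ k • (⊤ : Submodule W P) := by
  obtain ⟨h, rfl⟩ := hq
  rw [map_mul, map_pow, Module.End.mul_apply]
  apply pow_apply_mem J
  intro m'
  simpa [pow_two, Module.End.mul_apply] using h₀ m'

/-- Lifting an idempotent modulo `J` to an honest idempotent, for a `J`-adically complete
module. -/
theorem exists_idempotent_lift [IsAdicComplete J P] (f₀ : Module.End W P)
    (h₀ : ∀ m, f₀ (f₀ m) - f₀ m ∈ J • (⊤ : Submodule W P)) :
    ∃ e : Module.End W P, (∀ m, e (e m) = e m) ∧ ∀ m, e m - f₀ m ∈ J • (⊤ : Submodule W P) := by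
  set f : ℕ → Module.End W P := fun n => aeval f₀ (newton W n) with hf
  have hsq : ∀ n m, f n (f n m) - f n m ∈ J ^ (n + 1) • (⊤ : Submodule W P) := by
    intro n m
    have := aeval_apply_mem_of_dvd J f₀ h₀ (n + 1) _ (dvd_newton_sq_sub W n) m
    simpa [hf, pow_two, Module.End.mul_apply] using this
  have hstep : ∀ n m, f (n + 1) m - f n m ∈ J ^ (n + 1) • (⊤ : Submodule W P) := by
    intro n m
    have := aeval_apply_mem_of_dvd J f₀ h₀ (n + 1) _ (dvd_newton_succ_sub W n) m
    simpa [hf] using this
  have hmono : ∀ {a b : ℕ}, a ≤ b → J ^ b • (⊤ : Submodule W P) ≤ J ^ a • (⊤ : Submodule W P) :=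
    fun hab => Submodule.smul_mono (Ideal.pow_le_pow_right hab) le_rfl
  have hcauchy : ∀ (x : P) {a b : ℕ}, a ≤ b →
      f a x ≡ f b x [SMOD (J ^ a • ⊤ : Submodule W P)] := by
    intro x a b hab
    induction b, hab using Nat.le_induction with
    | base => exact SModEq.rfl
    | succ b hab ih =>
      refine ih.trans ?_
      rw [SModEq.sub_mem]
      have := hstep b x
      have h2 : f b x - f (b + 1) x = -(f (b + 1) x - f b x) := by abel
      rw [h2]
      exact Submodule.neg_mem _ (hmono (by omega) this)
  have hlim : ∀ x : P, ∃ L : P, ∀ n, f n x ≡ L [SMOD (J ^ n • ⊤ : Submodule W P)] :=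
    fun x => IsPrecomplete.prec' (I := J) (fun n => f n x) (fun hab => hcauchy x hab)
  choose e he using hlim
  have he' : ∀ x n, e x - f n x ∈ J ^ n • (⊤ : Submodule W P) := by
    intro x n
    have := (he x n).symm
    rwa [SModEq.sub_mem] at this
  have huniq : ∀ y z : P, (∀ n, y - z ∈ J ^ n • (⊤ : Submodule W P)) → y = z := by
    intro y z h
    have : y - z = 0 := by
      apply IsHausdorff.haus' (I := J)
      intro n
      rw [SModEq.zero]
      exact h n
    exact sub_eq_zero.mp this
  have hadd : ∀ x y, e (x + y) = e x + e y := by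
    intro x y
    apply huniq
    intro n
    have : e (x + y) - (e x + e y) =
        (e (x + y) - f n (x + y)) - (e x - f n x) - (e y - f n y) := by
      rw [map_add]; abel
    rw [this]
    exact Submodule.sub_mem _ (Submodule.sub_mem _ (he' _ n) (he' _ n)) (he' _ n)
  have hsmul : ∀ (c : W) x, e (c • x) = c • e x := by
    intro c x
    apply huniq
    intro n
    have : e (c • x) - c • e x = (e (c • x) - f n (c • x)) - c • (e x - f n x) := by
      rw [map_smul, smul_sub]; abel
    rw [this]
    exact Submodule.sub_mem _ (he' _ n) (Submodule.smul_mem _ _ (he' _ n))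
  let E : Module.End W P :=
    { toFun := e
      map_add' := hadd
      map_smul' := fun c x => by simpa using hsmul c x }
  refine ⟨E, fun m => ?_, fun m => ?_⟩
  · show e (e m) = e m
    apply huniq
    intro n
    have h1 : e (e m) - f n (e m) ∈ J ^ n • (⊤ : Submodule W P) := he' _ n
    have h2 : f n (e m - f n m) ∈ J ^ n • (⊤ : Submodule W P) :=
      map_mem_smul_top (J ^ n) (f n) (he' m n)
    have h3 : f n (f n m) - f n m ∈ J ^ n • (⊤ : Submodule W P) := hmono (by omega) (hsq n m)
    have h4 : e m - f n m ∈ J ^ n • (⊤ : Submodule W P) := he' m n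
    have : e (e m) - e m = (e (e m) - f n (e m)) + f n (e m - f n m) + (f n (f n m) - f n m)
        - (e m - f n m) := by
      rw [map_sub]; abel
    rw [this]
    exact Submodule.sub_mem _ (Submodule.add_mem _ (Submodule.add_mem _ h1 h2) h3) h4
  · show e m - f₀ m ∈ J • (⊤ : Submodule W P)
    have h1 : e m - f 1 m ∈ J ^ 1 • (⊤ : Submodule W P) := he' m 1
    have h2 : f 1 m - f 0 m ∈ J ^ 1 • (⊤ : Submodule W P) := hstep 0 m
    have h3 : f 0 m = f₀ m := by simp [hf, newton_zero]
    rw [pow_one] at h1 h2
    have : e m - f₀ m = (e m - f 1 m) + (f 1 m - f 0 m) := by rw [h3]; abel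
    rw [this]
    exact Submodule.add_mem _ h1 h2

end Lift


section Normal

variable {W : Type u} [CommRing W] {P : Type v} [AddCommGroup P] [Module W P]

/-- Normal decomposition: if `Q` has a complement modulo `J • P` in the finite projective module
`P` over the `J`-adically complete ring `W`, then `P = L ⊕ T` with `Q = L + J • T`. -/
theorem exists_normal_of_complement (J : Ideal W) [IsAdicComplete J W] [Module.Finite W P]
    [Module.Projective W P] (Q C : Submodule W P) (hsup : Q ⊔ C = ⊤)
    (hinf : Q ⊓ C = J • (⊤ : Submodule W P)) :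
    ∃ L T : Submodule W P, IsCompl L T ∧ Q = L ⊔ J • T := by
  have hcomplete : IsAdicComplete J P := isAdicComplete_of_finite_projective J
  let g : (Q × C) →ₗ[W] P := Q.subtype.coprod C.subtype
  have hg : Function.Surjective g := by
    rw [← LinearMap.range_eq_top, LinearMap.range_coprod, Submodule.range_subtype,
      Submodule.range_subtype, hsup]
  obtain ⟨s, hs⟩ := Module.projective_lifting_property g LinearMap.id hg
  have hs' : ∀ x, ((s x).1 : P) + ((s x).2 : P) = x := by
    intro x
    have := LinearMap.congr_fun hs x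
    simpa [g] using this
  let f₀ : Module.End W P := Q.subtype ∘ₗ (LinearMap.fst W Q C) ∘ₗ s
  have hf₀ : ∀ x, f₀ x = ((s x).1 : P) := fun x => rfl
  have hf₀Q : ∀ x, f₀ x ∈ Q := fun x => (s x).1.2
  have hf₀C : ∀ x, x - f₀ x ∈ C := by
    intro x
    have : x - f₀ x = ((s x).2 : P) := by
      rw [hf₀]; nth_rewrite 1 [← hs' x]; abel
    rw [this]; exact (s x).2.2
  have hJQ : J • (⊤ : Submodule W P) ≤ Q := hinf ▸ inf_le_left
  have h₀ : ∀ m, f₀ (f₀ m) - f₀ m ∈ J • (⊤ : Submodule W P) := by
    intro m
    rw [← hinf]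
    refine ⟨Submodule.sub_mem _ (hf₀Q _) (hf₀Q _), ?_⟩
    have : f₀ (f₀ m) - f₀ m = -(f₀ m - f₀ (f₀ m)) := by abel
    rw [this]
    exact Submodule.neg_mem _ (hf₀C _)
  obtain ⟨e, he2, he0⟩ := exists_idempotent_lift J f₀ h₀
  refine ⟨LinearMap.range e, LinearMap.ker e, ?_, ?_⟩
  · constructor
    · rw [Submodule.disjoint_def]
      rintro x ⟨y, rfl⟩ hx
      rw [LinearMap.mem_ker, he2] at hx
      exact hx
    · rw [codisjoint_iff, eq_top_iff]
      intro x _
      have : x = e x + (x - e x) := by abel
      rw [this]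
      refine Submodule.add_mem_sup ⟨x, rfl⟩ ?_
      rw [LinearMap.mem_ker, map_sub, he2, sub_self]
  · have hT : ∀ y ∈ J • (⊤ : Submodule W P), y - e y ∈ J • LinearMap.ker e := by
      intro y hy
      refine Submodule.smul_induction_on hy (fun j hj m _ => ?_) (fun a b ha hb => ?_)
      · rw [map_smul, ← smul_sub]
        refine Submodule.smul_mem_smul hj ?_
        rw [LinearMap.mem_ker, map_sub, he2, sub_self]
      · have : a + b - e (a + b) = (a - e a) + (b - e b) := by rw [map_add]; abel
        rw [this]
        exact Submodule.add_mem _ ha hb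
    apply le_antisymm
    · intro q hq
      have ht : q - e q ∈ J • (⊤ : Submodule W P) := by
        have h1 : q - f₀ q ∈ J • (⊤ : Submodule W P) := by
          rw [← hinf]
          exact ⟨Submodule.sub_mem _ hq (hf₀Q q), hf₀C q⟩
        have : q - e q = (q - f₀ q) - (e q - f₀ q) := by abel
        rw [this]
        exact Submodule.sub_mem _ h1 (he0 q)
      have ht2 : q - e q ∈ J • LinearMap.ker e := by
        have := hT _ ht
        have h2 : e (q - e q) = 0 := by rw [map_sub, he2, sub_self]
        rwa [h2, sub_zero] at this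
      have : q = e q + (q - e q) := by abel
      rw [this]
      exact Submodule.add_mem_sup ⟨q, rfl⟩ ht2
    · refine sup_le ?_ ((Submodule.smul_mono le_rfl le_top).trans hJQ)
      rintro _ ⟨y, rfl⟩
      have : e y = f₀ y + (e y - f₀ y) := by abel
      rw [this]
      exact Submodule.add_mem _ (hf₀Q y) (hJQ (he0 y))

end Normal

end Groth.Agent.Lib.NormalDecomp58
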