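import Mathlib

/-!
# Descent of separable generation from the perfect closure to a finite subextension

For a finitely generated field extension `K/k` there is a finite (purely inseparable) extension
`L/k` inside the algebraic closure `Ω` of `K` such that the compositum `L(K)` is formally smooth
(separably generated) over `L`.
-/

set_option autoImplicit false

namespace Groth.Agent.Lib.H87SepDescent

open IntermediateField

section FL

variable {k Ω : Type*} [Field k] [Field Ω] [Algebra k Ω]

/-- An element of `P(T)`, with `P/k` algebraic, lies in `L(T)` for a finite subextension `L ≤ P`. -/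
theorem exists_finite_le_mem_adjoin (P : IntermediateField k Ω) [Algebra.IsAlgebraic k P]
    (T : Set Ω) {x : Ω} (hx : x ∈ adjoin P T) :
    ∃ L : IntermediateField k Ω, L ≤ P ∧ FiniteDimensional k L ∧ x ∈ adjoin L T := by
  classical
  have hx' : x ∈ adjoin k ((P : Set Ω) ∪ T) := by
    rw [← restrictScalars_adjoin]; exact hx
  obtain ⟨U, hU, hxU⟩ := exists_finset_of_mem_adjoin hx'
  let U₁ : Finset Ω := U.filter (· ∈ P)
  refine ⟨adjoin k (U₁ : Set Ω), ?_, ?_, ?_⟩
  · rw [adjoin_le_iff]
    intro u hu
    have : u ∈ U₁ := hu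
    exact (Finset.mem_filter.mp this).2
  · apply finiteDimensional_adjoin
    intro u hu
    have hu' : u ∈ U₁ := hu
    have huP : u ∈ P := (Finset.mem_filter.mp hu').2
    have := (Algebra.IsAlgebraic.isAlgebraic (R := k) (⟨u, huP⟩ : P)).isIntegral
    exact (isIntegral_algHom_iff P.val Subtype.val_injective (x := (⟨u, huP⟩ : P))).mpr this
  · have h2 : x ∈ adjoin k (((adjoin k (U₁ : Set Ω) : IntermediateField k Ω) : Set Ω) ∪ T) := by
      refine adjoin.mono k _ _ ?_ hxU
      intro u hu
      rcases hU hu with h | h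
      · left
        exact subset_adjoin k _ (Finset.mem_filter.mpr ⟨hu, h⟩)
      · right; exact h
    rw [← restrictScalars_adjoin] at h2
    exact h2

/-- Finite-set version. -/
theorem exists_finite_le_forall_mem_adjoin (P : IntermediateField k Ω) [Algebra.IsAlgebraic k P]
    (T : Set Ω) (X : Finset Ω) (hX : ∀ x ∈ X, x ∈ adjoin P T) :
    ∃ L : IntermediateField k Ω, L ≤ P ∧ FiniteDimensional k L ∧ ∀ x ∈ X, x ∈ adjoin L T := by
  classical
  induction X using Finset.induction_on with
  | empty => exact ⟨⊥, bot_le, inferInstance, by simp⟩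
  | insert a X ha ih =>
    obtain ⟨L₁, h1, h2, h3⟩ := ih (fun x hx => hX x (Finset.mem_insert_of_mem hx))
    obtain ⟨L₂, g1, g2, g3⟩ := exists_finite_le_mem_adjoin P T (hX a (Finset.mem_insert_self _ _))
    refine ⟨L₁ ⊔ L₂, sup_le h1 g1, inferInstance, ?_⟩
    have mono : ∀ (L L' : IntermediateField k Ω), L ≤ L' → ∀ y, y ∈ adjoin L T → y ∈ adjoin L' T := by
      intro L L' hLL y hy
      have hy' : y ∈ adjoin k ((L : Set Ω) ∪ T) := by
        rw [← restrictScalars_adjoin]; exact hy
      have : y ∈ adjoin k ((L' : Set Ω) ∪ T) :=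
        adjoin.mono k _ _ (Set.union_subset_union_left _ hLL) hy'
      rw [← restrictScalars_adjoin] at this
      exact this
    intro x hx
    rcases Finset.mem_insert.mp hx with rfl | hx
    · exact mono L₂ _ le_sup_right _ g3
    · exact mono L₁ _ le_sup_left _ (h3 x hx)

theorem mem_adjoin_of_le {L L' : IntermediateField k Ω} (hLL : L ≤ L') (T : Set Ω) {y : Ω}
    (hy : y ∈ adjoin L T) : y ∈ adjoin L' T := by
  have hy' : y ∈ adjoin k ((L : Set Ω) ∪ T) := by
    rw [← restrictScalars_adjoin]; exact hy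
  have : y ∈ adjoin k ((L' : Set Ω) ∪ T) :=
    adjoin.mono k _ _ (Set.union_subset_union_left _ hLL) hy'
  rw [← restrictScalars_adjoin] at this
  exact this

/-- Descent of separability of an element over `P(s)` to `L(s)` for a finite `L ≤ P`:
the finitely many coefficients of the minimal polynomial. -/
theorem exists_coeff_finset (P : IntermediateField k Ω) (s : Set Ω) {x : Ω}
    (hx : IsSeparable (adjoin P s) x) :
    ∃ ν : Polynomial Ω, ν.Separable ∧ ν.eval x = 0 ∧ ∀ n, ν.coeff n ∈ adjoin P s := by
  refine ⟨(minpoly (adjoin P s) x).map (algebraMap (adjoin P s) Ω),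
    Polynomial.Separable.map hx, ?_, ?_⟩
  · rw [Polynomial.eval_map_algebraMap, minpoly.aeval]
  · intro n
    rw [Polynomial.coeff_map]
    exact ((minpoly (adjoin P s) x).coeff n).2

theorem isSeparable_of_coeff_mem {F : Type*} [Field F] [Algebra F Ω] (E : IntermediateField F Ω)
    {x : Ω} (ν : Polynomial Ω) (hsep : ν.Separable) (hev : ν.eval x = 0)
    (hc : ∀ n, ν.coeff n ∈ E) : IsSeparable E x := by
  have hl : ν ∈ Polynomial.lifts (algebraMap E Ω) := by
    rw [Polynomial.lifts_iff_coeff_lifts]
    intro n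
    exact ⟨⟨ν.coeff n, hc n⟩, rfl⟩
  obtain ⟨ν₀, hν₀⟩ := hl
  replace hν₀ : ν₀.map (algebraMap E Ω) = ν := hν₀
  have hsep₀ : ν₀.Separable := by
    rw [← Polynomial.separable_map (algebraMap E Ω), hν₀]; exact hsep
  have hroot : Polynomial.aeval x ν₀ = 0 := by
    rw [← Polynomial.eval_map_algebraMap, hν₀, hev]
  exact hsep₀.of_dvd (minpoly.dvd _ _ hroot)

theorem algebraicIndependent_of_le {L P : IntermediateField k Ω} (h : L ≤ P) {ι : Type*}
    {v : ι → Ω} (hv : AlgebraicIndependent P v) : AlgebraicIndependent L v :=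
  AlgebraicIndependent.of_ringHom_of_comp_eq (IntermediateField.inclusion h) (RingHom.id Ω)
    (by simpa using hv) (IntermediateField.inclusion_injective h) (by ext; rfl)

/-- Descent of the data of a separating transcendence basis to a finite subextension. -/
theorem descent (P : IntermediateField k Ω) [Algebra.IsAlgebraic k P] (T s : Finset Ω)
    (ha : ∀ x ∈ s, x ∈ adjoin P (T : Set Ω))
    (hc : ∀ x ∈ T, IsSeparable (adjoin P (s : Set Ω)) x) :
    ∃ L : IntermediateField k Ω, L ≤ P ∧ FiniteDimensional k L ∧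
      (∀ x ∈ s, x ∈ adjoin L (T : Set Ω)) ∧ ∀ x ∈ T, IsSeparable (adjoin L (s : Set Ω)) x := by
  classical
  choose! ν hνsep hνev hνc using
    fun x (hx : x ∈ T) => exists_coeff_finset P (s : Set Ω) (hc x hx)
  let X : Finset Ω := T.biUnion fun x => (ν x).coeffs
  have hX : ∀ c ∈ X, c ∈ adjoin P (s : Set Ω) := by
    intro c hcX
    obtain ⟨x, hxT, hcx⟩ := Finset.mem_biUnion.mp hcX
    obtain ⟨n, -, rfl⟩ := Polynomial.mem_coeffs_iff.mp hcx
    exact hνc x hxT n
  obtain ⟨L₁, h1, h2, h3⟩ := exists_finite_le_forall_mem_adjoin P (T : Set Ω) s ha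
  obtain ⟨L₂, g1, g2, g3⟩ := exists_finite_le_forall_mem_adjoin P (s : Set Ω) X hX
  refine ⟨L₁ ⊔ L₂, sup_le h1 g1, inferInstance,
    fun x hx => mem_adjoin_of_le le_sup_left _ (h3 x hx), fun x hxT => ?_⟩
  refine isSeparable_of_coeff_mem _ (ν x) (hνsep x hxT) (hνev x hxT) fun n => ?_
  by_cases h0 : (ν x).coeff n = 0
  · rw [h0]; exact zero_mem _
  · refine mem_adjoin_of_le le_sup_right _ (g3 _ ?_)
    exact Finset.mem_biUnion.mpr ⟨x, hxT, Polynomial.coeff_mem_coeffs h0⟩

/-- From a separating transcendence basis to formal smoothness of the compositum. -/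
theorem formallySmooth_adjoin (L : IntermediateField k Ω) (T s : Finset Ω) (R : Set Ω)
    (hTR : (T : Set Ω) ⊆ R) (hRT : R ⊆ adjoin k (T : Set Ω))
    (ha : ∀ x ∈ s, x ∈ adjoin L (T : Set Ω))
    (hb : AlgebraicIndependent L ((↑) : s → Ω))
    (hc : ∀ x ∈ T, IsSeparable (adjoin L (s : Set Ω)) x) :
    Algebra.FormallySmooth L (adjoin L R) := by
  have h1 : Algebra.FormallySmooth L (adjoin L (Set.range ((↑) : s → Ω))) :=
    Algebra.FormallySmooth.adjoin_of_algebraicIndependent hb
  have hr : Set.range ((↑) : s → Ω) = (s : Set Ω) := Subtype.range_coe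
  rw [hr] at h1
  have h2 : Algebra.IsSeparable (adjoin L (s : Set Ω))
      (adjoin (adjoin L (s : Set Ω)) (T : Set Ω)) :=
    (isSeparable_adjoin_iff_isSeparable _ Ω).mpr hc
  have h3 : Algebra.FormallyEtale (adjoin L (s : Set Ω))
      (adjoin (adjoin L (s : Set Ω)) (T : Set Ω)) := .of_isSeparable _ _
  have h4 : Algebra.FormallySmooth L (adjoin (adjoin L (s : Set Ω)) (T : Set Ω)) :=
    .comp L (adjoin L (s : Set Ω)) _
  have heq : (adjoin (adjoin L (s : Set Ω)) (T : Set Ω)).restrictScalars L = adjoin L R := by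
    rw [adjoin_adjoin_left]
    apply le_antisymm
    · rw [adjoin_le_iff]
      rintro x (hx | hx)
      · exact adjoin.mono L _ _ hTR (ha x hx)
      · exact subset_adjoin L _ (hTR hx)
    · rw [adjoin_le_iff]
      intro x hx
      have h5 : adjoin k (T : Set Ω) ≤ (adjoin L (T : Set Ω)).restrictScalars k := by
        rw [adjoin_le_iff]
        intro y hy
        exact subset_adjoin L _ hy
      exact adjoin.mono L _ _ Set.subset_union_right (h5 (hRT hx))
  have hmem : ∀ x : Ω, x ∈ adjoin (adjoin L (s : Set Ω)) (T : Set Ω) ↔ x ∈ adjoin L R := by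
    intro x
    rw [← heq]
    rfl
  let e : (adjoin (adjoin L (s : Set Ω)) (T : Set Ω)) ≃ₐ[L] (adjoin L R) :=
    { toFun := fun x => ⟨x.1, (hmem _).mp x.2⟩
      invFun := fun y => ⟨y.1, (hmem _).mpr y.2⟩
      left_inv := fun _ => rfl
      right_inv := fun _ => rfl
      map_mul' := fun _ _ => rfl
      map_add' := fun _ _ => rfl
      commutes' := fun _ => rfl }
  exact .of_equiv e

end FL

section Main

universe u
variable (k K : Type u) [Field k] [Field K] [Algebra k K] [Algebra.EssFiniteType k K]

/-- For a finitely generated field extension `K/k`, there is a finite extension `L/k` inside the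
algebraic closure of `K` such that the compositum `L(K)` is formally smooth over `L`. -/
theorem exists_finite_formallySmooth :
    ∃ L : IntermediateField k (AlgebraicClosure K), FiniteDimensional k L ∧
      Algebra.FormallySmooth L (adjoin L (Set.range (algebraMap K (AlgebraicClosure K)))) := by
  classical
  obtain ⟨θ, hθ⟩ := IntermediateField.fg_top k K
  let φ : K →ₐ[k] AlgebraicClosure K := IsScalarTower.toAlgHom k K (AlgebraicClosure K)
  let T : Finset (AlgebraicClosure K) := θ.image φ
  have hTR : (T : Set (AlgebraicClosure K)) ⊆ Set.range (algebraMap K (AlgebraicClosure K)) := by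
    intro x hx
    obtain ⟨y, -, rfl⟩ := Finset.mem_image.mp hx
    exact ⟨y, rfl⟩
  have hRT : Set.range (algebraMap K (AlgebraicClosure K)) ⊆
      adjoin k (T : Set (AlgebraicClosure K)) := by
    rintro _ ⟨x, rfl⟩
    have hx : x ∈ adjoin k (θ : Set K) := hθ ▸ mem_top
    have h1 : φ x ∈ (adjoin k (θ : Set K)).map φ := ⟨x, hx, rfl⟩
    rw [adjoin_map] at h1
    have h2 : (φ '' (θ : Set K)) = (T : Set (AlgebraicClosure K)) := by
      simp [T]
    rw [h2] at h1
    exact h1
  let P : IntermediateField k (AlgebraicClosure K) := perfectClosure k (AlgebraicClosure K)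
  let M : IntermediateField P (AlgebraicClosure K) := adjoin P (T : Set (AlgebraicClosure K))
  have hess : Algebra.EssFiniteType P M := essFiniteType_iff.mpr ⟨T, rfl⟩
  obtain ⟨s, hs, hsep⟩ := exists_isTranscendenceBasis_and_isSeparable_of_perfectField P M
  let sΩ : Finset (AlgebraicClosure K) := s.image (fun x : M => (x : AlgebraicClosure K))
  have hsΩ : (sΩ : Set (AlgebraicClosure K)) = M.val '' (s : Set M) := by
    simp [sΩ]
  have ha : ∀ x ∈ sΩ, x ∈ adjoin P (T : Set (AlgebraicClosure K)) := by
    intro x hx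
    obtain ⟨y, -, rfl⟩ := Finset.mem_image.mp hx
    exact y.2
  have hb : AlgebraicIndependent P ((↑) : sΩ → AlgebraicClosure K) := by
    have h1 : AlgebraicIndependent P (M.val ∘ ((↑) : s → M)) :=
      hs.1.map' (f := M.val) Subtype.val_injective
    have h2 := h1.to_subtype_range' (t := (sΩ : Set (AlgebraicClosure K))) (by
      rw [hsΩ, Set.range_comp, Subtype.range_coe])
    exact h2
  have hmap : ∀ c : M, c ∈ adjoin P (s : Set M) →
      (c : AlgebraicClosure K) ∈ adjoin P (sΩ : Set (AlgebraicClosure K)) := by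
    intro c hc
    have h1 : M.val c ∈ (adjoin P (s : Set M)).map M.val := ⟨c, hc, rfl⟩
    rw [adjoin_map, ← hsΩ] at h1
    exact h1
  have hc : ∀ x ∈ T, IsSeparable (adjoin P (sΩ : Set (AlgebraicClosure K))) x := by
    intro x hx
    have hxM : x ∈ M := subset_adjoin P _ hx
    have h1 : IsSeparable (adjoin P (s : Set M)) (⟨x, hxM⟩ : M) :=
      Algebra.IsSeparable.isSeparable _ _
    refine isSeparable_of_coeff_mem (adjoin P (sΩ : Set (AlgebraicClosure K)))
      ((minpoly (adjoin P (s : Set M)) (⟨x, hxM⟩ : M)).map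
        ((algebraMap M (AlgebraicClosure K)).comp (algebraMap (adjoin P (s : Set M)) M)))
      (Polynomial.Separable.map h1) ?_ ?_
    · rw [← Polynomial.map_map, Polynomial.eval_map_algebraMap]
      have h3 : Polynomial.aeval (⟨x, hxM⟩ : M) ((minpoly (adjoin P (s : Set M)) (⟨x, hxM⟩ : M)).map
          (algebraMap (adjoin P (s : Set M)) M)) = 0 := by
        rw [Polynomial.aeval_map_algebraMap, minpoly.aeval]
      have h4 := congrArg (algebraMap M (AlgebraicClosure K)) h3
      rw [map_zero, ← Polynomial.aeval_algebraMap_apply] at h4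
      exact h4
    · intro n
      rw [Polynomial.coeff_map]
      exact hmap _ (SetLike.coe_mem _)
  obtain ⟨L, hLP, hLfin, ha', hc'⟩ := descent P T sΩ ha hc
  exact ⟨L, hLfin, formallySmooth_adjoin L T sΩ _ hTR hRT ha'
    (algebraicIndependent_of_le hLP hb) hc'⟩

end Main

end Groth.Agent.Lib.H87SepDescent
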