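import Groth.Agent.Lib.H87J0
import Groth.Agent.Lib.H87SepDescent

/-!
# The J-2 criterion (helper87)
-/

set_option autoImplicit false
universe u
open PrimeSpectrum

namespace Groth.Agent.Lib.H87J2

open Groth.Agent.Lib.H87J0 Groth.Agent.Lib.H87Nagata Groth.Agent.Lib.H87SepDescent

/-- An order with prescribed fraction field in a finite extension of the fraction field. -/
theorem exists_order (A : Type*) [CommRing A] [IsDomain A] (k : Type*) [Field k] [Algebra A k]
    [IsFractionRing A k] (L : Type*) [Field L] [Algebra k L] [Algebra A L] [IsScalarTower A k L]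
    [FiniteDimensional k L] :
    ∃ A' : Subalgebra A L, Module.Finite A A' ∧ IsFractionRing A' L := by
  classical
  obtain ⟨s, b, hb⟩ := FiniteDimensional.exists_is_basis_integral A k L
  let A' : Subalgebra A L := Algebra.adjoin A (Set.range b)
  have hfin : Module.Finite A A' := by
    have := fg_adjoin_of_finite (R := A) (Set.finite_range b)
      (by rintro _ ⟨i, rfl⟩; exact hb i)
    exact Module.Finite.of_fg this
  refine ⟨A', hfin, ?_⟩
  have hinj : Function.Injective (algebraMap A' L) := Subtype.val_injective
  have : FaithfulSMul A' L := (faithfulSMul_iff_algebraMap_injective A' L).mpr hinj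
  apply IsFractionRing.of_field
  intro z
  obtain ⟨d, hd⟩ := IsLocalization.exist_integer_multiples_of_finset (nonZeroDivisors A)
    (Finset.univ.image fun i => b.repr z i)
  have hdz : (d : A) • z ∈ A' := by
    have hz : (d : A) • z = (d : A) • ∑ i, b.repr z i • b i := by rw [b.sum_repr z]
    rw [hz, Finset.smul_sum]
    apply Subalgebra.sum_mem
    intro i _
    obtain ⟨n, hn⟩ := hd (b.repr z i) (Finset.mem_image.mpr ⟨i, Finset.mem_univ _, rfl⟩)
    rw [← smul_assoc, ← hn, algebraMap_smul]
    exact A'.smul_mem (Algebra.subset_adjoin ⟨i, rfl⟩) n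
  refine ⟨⟨(d : A) • z, hdz⟩, ⟨algebraMap A L d, A'.algebraMap_mem d⟩, ?_⟩
  have hd0 : algebraMap A L (d : A) ≠ 0 := by
    have h1 : Function.Injective (algebraMap A L) := by
      rw [IsScalarTower.algebraMap_eq A k L]
      exact (algebraMap k L).injective.comp (IsFractionRing.injective A k)
    rw [Ne, map_eq_zero_iff _ h1]
    exact nonZeroDivisors.ne_zero d.2
  show z = ((d : A) • z) / algebraMap A L (d : A)
  rw [Algebra.smul_def, mul_div_cancel_left₀ _ hd0]

section Core

open TensorProduct in
/-- Core of the J-2 criterion: `A ⊆ B` finite type, `A'` a finite `A`-algebra with fraction field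
`L`, `M ⊇ L` a field generated by `A'` and `B` and formally smooth over `L`. If `A'` is J-0 then
so is `B`. -/
theorem J0_of_core (A B A' : Type u) [CommRing A] [CommRing B] [CommRing A'] [IsDomain A]
    [IsDomain B] [IsDomain A'] [IsNoetherianRing A] [Algebra A B] [Algebra.FiniteType A B]
    [Algebra A A'] [Module.Finite A A']
    (L M : Type*) [Field L] [Field M] [Algebra L M] [Algebra A' L] [IsFractionRing A' L]
    [Algebra A M] [Algebra A' M] [IsScalarTower A A' M] [IsScalarTower A' L M]
    (fB : B →ₐ[A] M) (hfB : Function.Injective fB) [Algebra.FormallySmooth L M]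
    (hgen : ∀ z : M, z ∈ Subfield.closure (Set.range (algebraMap A' M) ∪ Set.range fB))
    (hJ : J0 A') : J0 B := by
  have hBN : IsNoetherianRing B := Algebra.FiniteType.isNoetherianRing A B
  have hA'N : IsNoetherianRing A' := Algebra.FiniteType.isNoetherianRing A A'
  have hA'M : Function.Injective (algebraMap A' M) := by
    rw [IsScalarTower.algebraMap_eq A' L M]
    exact (algebraMap L M).injective.comp (IsFractionRing.injective A' L)
  let f : B ⊗[A] A' →ₐ[A] M :=
    Algebra.TensorProduct.productMap fB (IsScalarTower.toAlgHom A A' M)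
  have hprime : (RingHom.ker f.toRingHom).IsPrime := RingHom.ker_isPrime f.toRingHom
  have hdom : IsDomain ((B ⊗[A] A') ⧸ RingHom.ker f.toRingHom) := Ideal.Quotient.isDomain _
  have hιinj : Function.Injective (RingHom.kerLift f.toRingHom) :=
    RingHom.kerLift_injective f.toRingHom
  have hfinB : Module.Finite B ((B ⊗[A] A') ⧸ RingHom.ker f.toRingHom) := inferInstance
  letI algA' : Algebra A' ((B ⊗[A] A') ⧸ RingHom.ker f.toRingHom) :=
    ((Ideal.Quotient.mk (RingHom.ker f.toRingHom)).comp
      (Algebra.TensorProduct.includeRight (R := A) (A := B) (B := A')).toRingHom).toAlgebra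
  letI algM : Algebra ((B ⊗[A] A') ⧸ RingHom.ker f.toRingHom) M :=
    (RingHom.kerLift f.toRingHom).toAlgebra
  have hιB : ∀ b : B, algebraMap ((B ⊗[A] A') ⧸ RingHom.ker f.toRingHom) M
      (algebraMap B _ b) = fB b := by
    intro b
    show RingHom.kerLift f.toRingHom (Ideal.Quotient.mk _ (b ⊗ₜ 1)) = fB b
    rw [RingHom.kerLift_mk]
    show f (b ⊗ₜ 1) = fB b
    simp [f]
  have hιA' : ∀ a : A', algebraMap ((B ⊗[A] A') ⧸ RingHom.ker f.toRingHom) M
      (algebraMap A' _ a) = algebraMap A' M a := by
    intro a
    show RingHom.kerLift f.toRingHom (Ideal.Quotient.mk _ (1 ⊗ₜ a)) = algebraMap A' M a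
    rw [RingHom.kerLift_mk]
    show f (1 ⊗ₜ a) = algebraMap A' M a
    simp [f]
  have hfaithB : FaithfulSMul B ((B ⊗[A] A') ⧸ RingHom.ker f.toRingHom) := by
    rw [faithfulSMul_iff_algebraMap_injective]
    intro b b' hbb
    apply hfB
    rw [← hιB, ← hιB, hbb]
  have hfaithA' : FaithfulSMul A' ((B ⊗[A] A') ⧸ RingHom.ker f.toRingHom) := by
    rw [faithfulSMul_iff_algebraMap_injective]
    intro a a' haa
    apply hA'M
    rw [← hιA', ← hιA', haa]
  have htowM : IsScalarTower A' ((B ⊗[A] A') ⧸ RingHom.ker f.toRingHom) M :=
    IsScalarTower.of_algebraMap_eq (fun a => (hιA' a).symm)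
  have htowA : IsScalarTower A A' ((B ⊗[A] A') ⧸ RingHom.ker f.toRingHom) := by
    refine IsScalarTower.of_algebraMap_eq (fun a => ?_)
    apply hιinj
    show algebraMap _ M (algebraMap A _ a) = algebraMap _ M (algebraMap A' _ (algebraMap A A' a))
    rw [hιA', ← IsScalarTower.algebraMap_apply A A' M]
    show RingHom.kerLift f.toRingHom (Ideal.Quotient.mk _ (algebraMap A (B ⊗[A] A') a)) = _
    rw [RingHom.kerLift_mk]
    exact f.commutes a
  have hftA : Algebra.FiniteType A ((B ⊗[A] A') ⧸ RingHom.ker f.toRingHom) :=
    Algebra.FiniteType.trans (S := B) inferInstance inferInstance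
  have hftA' : Algebra.FiniteType A' ((B ⊗[A] A') ⧸ RingHom.ker f.toRingHom) :=
    Algebra.FiniteType.of_restrictScalars_finiteType A A' _
  have hsmL : Algebra.FormallySmooth A' L := .of_isLocalization (nonZeroDivisors A')
  have hsmM : Algebra.FormallySmooth A' M := .comp A' L M
  have hfaithM : FaithfulSMul ((B ⊗[A] A') ⧸ RingHom.ker f.toRingHom) M :=
    (faithfulSMul_iff_algebraMap_injective _ _).mpr hιinj
  have hfrac : IsFractionRing ((B ⊗[A] A') ⧸ RingHom.ker f.toRingHom) M := by
    apply IsFractionRing.of_field
    intro z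
    have hz := hgen z
    have hle : Subfield.closure (Set.range (algebraMap A' M) ∪ Set.range fB) ≤
        Subfield.closure ((RingHom.kerLift f.toRingHom).range : Set M) := by
      apply Subfield.closure_mono
      rintro x (⟨a, rfl⟩ | ⟨b, rfl⟩)
      · exact ⟨algebraMap A' _ a, hιA' a⟩
      · exact ⟨algebraMap B _ b, hιB b⟩
    obtain ⟨y, hy, w, hw, rfl⟩ := Subfield.mem_closure_iff.mp (hle hz)
    rw [Subring.closure_eq] at hy hw
    obtain ⟨y', rfl⟩ := hy
    obtain ⟨w', rfl⟩ := hw
    exact ⟨y', w', rfl⟩
  have hJB' : J0 ((B ⊗[A] A') ⧸ RingHom.ker f.toRingHom) :=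
    J0_of_formallySmooth A' _ M hJ
  exact J0_of_finite_injective B _ hJB'

end Core

section Injective

variable (A : Type u) [CommRing A] [IsDomain A] [IsNoetherianRing A]
  (B : Type u) [CommRing B] [IsDomain B] [Algebra A B] [FaithfulSMul A B] [Algebra.FiniteType A B]

open TensorProduct IntermediateField in
/-- Injective case of the key step of the J-2 criterion. -/
theorem J0_of_finiteType_of_injective
    (H : ∀ (A' : Type u) [CommRing A'] [IsDomain A'] [Algebra A A'], Module.Finite A A' → J0 A') :
    J0 B := by
  have hAB : Function.Injective (algebraMap A B) := FaithfulSMul.algebraMap_injective A B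
  have hBN : IsNoetherianRing B := Algebra.FiniteType.isNoetherianRing A B
  have hAK : Function.Injective (algebraMap A (FractionRing B)) := by
    rw [IsScalarTower.algebraMap_eq A B (FractionRing B)]
    exact (IsFractionRing.injective B (FractionRing B)).comp hAB
  have : FaithfulSMul A (FractionRing B) := (faithfulSMul_iff_algebraMap_injective _ _).mpr hAK
  letI : Algebra (FractionRing A) (FractionRing B) := FractionRing.liftAlgebra A (FractionRing B)
  have hess : Algebra.EssFiniteType (FractionRing A) (FractionRing B) := by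
    have h1 : Algebra.EssFiniteType B (FractionRing B) :=
      Algebra.EssFiniteType.of_isLocalization _ (nonZeroDivisors B)
    have h2 : Algebra.EssFiniteType A (FractionRing B) := Algebra.EssFiniteType.comp A B _
    exact Algebra.EssFiniteType.of_comp A (FractionRing A) (FractionRing B)
  obtain ⟨L, hLfin, hsm⟩ := exists_finite_formallySmooth (FractionRing A) (FractionRing B)
  have htow : IsScalarTower A (FractionRing A) (AlgebraicClosure (FractionRing B)) := by
    refine IsScalarTower.of_algebraMap_eq fun x => ?_
    rw [IsScalarTower.algebraMap_apply A (FractionRing B) (AlgebraicClosure (FractionRing B)),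
      IsScalarTower.algebraMap_apply (FractionRing A) (FractionRing B)
        (AlgebraicClosure (FractionRing B)),
      ← IsScalarTower.algebraMap_apply A (FractionRing A) (FractionRing B)]
  obtain ⟨A', hA'fin, hA'frac⟩ := exists_order A (FractionRing A) L
  have hA'N : IsNoetherianRing A' := Algebra.FiniteType.isNoetherianRing A A'
  have htow2 : IsScalarTower A L (AlgebraicClosure (FractionRing B)) :=
    IsScalarTower.of_algebraMap_eq (fun x => rfl)
  have hJA' : J0 A' := H A' hA'fin
  have i2 : IsScalarTower A L (adjoin L (Set.range (algebraMap (FractionRing B)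
    (AlgebraicClosure (FractionRing B))))) := inferInstance
  have i4 : IsScalarTower A' L (adjoin L (Set.range (algebraMap (FractionRing B)
    (AlgebraicClosure (FractionRing B))))) := inferInstance
  have i5 : IsScalarTower A A' (adjoin L (Set.range (algebraMap (FractionRing B)
    (AlgebraicClosure (FractionRing B))))) := inferInstance
  let fB : B →ₐ[A] (adjoin L (Set.range (algebraMap (FractionRing B)
      (AlgebraicClosure (FractionRing B))))) :=
    { toFun := fun b => ⟨algebraMap (FractionRing B) (AlgebraicClosure (FractionRing B))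
        (algebraMap B (FractionRing B) b), subset_adjoin _ _ ⟨_, rfl⟩⟩
      map_one' := Subtype.ext (by simp)
      map_mul' := fun x y => Subtype.ext (by simp)
      map_zero' := Subtype.ext (by simp)
      map_add' := fun x y => Subtype.ext (by simp)
      commutes' := fun a => Subtype.ext (by
        show algebraMap (FractionRing B) (AlgebraicClosure (FractionRing B))
          (algebraMap B (FractionRing B) (algebraMap A B a)) =
          algebraMap A (AlgebraicClosure (FractionRing B)) a
        rw [← IsScalarTower.algebraMap_apply A B (FractionRing B),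
          ← IsScalarTower.algebraMap_apply A (FractionRing B)
            (AlgebraicClosure (FractionRing B))]) }
  have hfB : Function.Injective fB := by
    intro b b' hbb
    have h1 := congrArg Subtype.val hbb
    exact IsFractionRing.injective B (FractionRing B)
      ((algebraMap (FractionRing B) (AlgebraicClosure (FractionRing B))).injective h1)
  refine J0_of_core A B A' L (adjoin L (Set.range (algebraMap (FractionRing B)
    (AlgebraicClosure (FractionRing B))))) fB hfB ?_ hJA'
  have hval : ∀ {F : Subfield (adjoin L (Set.range (algebraMap (FractionRing B)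
      (AlgebraicClosure (FractionRing B)))))} {w w' : (adjoin L (Set.range (algebraMap
      (FractionRing B) (AlgebraicClosure (FractionRing B)))))}, w.1 = w'.1 → w' ∈ F → w ∈ F := by
    intro F w w' h hw'
    rwa [Subtype.ext h]
  rintro ⟨z, hz⟩
  induction hz using IntermediateField.adjoin_induction with
  | mem x hx =>
    obtain ⟨κ, rfl⟩ := hx
    obtain ⟨b₁, b₂, hb₂, rfl⟩ := IsFractionRing.div_surjective (A := B) κ
    refine hval (w' := fB b₁ / fB b₂) ?_ (div_mem (Subfield.subset_closure (Or.inr ⟨b₁, rfl⟩))
      (Subfield.subset_closure (Or.inr ⟨b₂, rfl⟩)))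
    simp [fB]
  | algebraMap l =>
    obtain ⟨a₁, a₂, ha₂, rfl⟩ := IsFractionRing.div_surjective (A := A') l
    refine hval (w' := algebraMap A' _ a₁ / algebraMap A' _ a₂) ?_
      (div_mem (Subfield.subset_closure (Or.inl ⟨a₁, rfl⟩))
      (Subfield.subset_closure (Or.inl ⟨a₂, rfl⟩)))
    simp
    rfl
  | add x y hx hy h1 h2 => exact hval rfl (add_mem h1 h2)
  | inv x hx h1 => exact hval rfl (inv_mem h1)
  | mul x y hx hy h1 h2 => exact hval rfl (mul_mem h1 h2)

end Injective

/-- Key step of the J-2 criterion: if all finite `A`-algebra domains are J-0, then so are all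
finite type `A`-algebra domains. -/
theorem J0_of_finiteType (A : Type u) [CommRing A] [IsNoetherianRing A]
    (H : ∀ (A' : Type u) [CommRing A'] [IsDomain A'] [Algebra A A'], Module.Finite A A' → J0 A')
    (B : Type u) [CommRing B] [IsDomain B] [Algebra A B] [Algebra.FiniteType A B] : J0 B := by
  have hprime : (RingHom.ker (algebraMap A B)).IsPrime := RingHom.ker_isPrime _
  have hdom : IsDomain (A ⧸ RingHom.ker (algebraMap A B)) := Ideal.Quotient.isDomain _
  letI alg0 : Algebra (A ⧸ RingHom.ker (algebraMap A B)) B :=
    (RingHom.kerLift (algebraMap A B)).toAlgebra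
  have htow : IsScalarTower A (A ⧸ RingHom.ker (algebraMap A B)) B :=
    IsScalarTower.of_algebraMap_eq (fun x => rfl)
  have hfaith : FaithfulSMul (A ⧸ RingHom.ker (algebraMap A B)) B :=
    (faithfulSMul_iff_algebraMap_injective _ _).mpr (RingHom.kerLift_injective _)
  have hft : Algebra.FiniteType (A ⧸ RingHom.ker (algebraMap A B)) B :=
    Algebra.FiniteType.of_restrictScalars_finiteType A _ B
  refine J0_of_finiteType_of_injective (A ⧸ RingHom.ker (algebraMap A B)) B ?_
  intro A' _ _ algA' hfin
  letI algA : Algebra A A' := Algebra.compHom A' (algebraMap A (A ⧸ RingHom.ker (algebraMap A B)))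
  have htow' : IsScalarTower A (A ⧸ RingHom.ker (algebraMap A B)) A' :=
    IsScalarTower.of_algebraMap_eq (fun x => rfl)
  have hfinA : Module.Finite A A' := Module.Finite.trans (A ⧸ RingHom.ker (algebraMap A B)) A'
  exact H A' hfinA

/-- **The J-2 criterion** (Matsumura 32.B, Stacks 07PB): a Noetherian ring all of whose finite
algebra domains are J-0 is J-2. -/
theorem isJ2_of_forall_finite (A : Type u) [CommRing A] [IsNoetherianRing A]
    (H : ∀ (A' : Type u) [CommRing A'] [IsDomain A'] [Algebra A A'], Module.Finite A A' →
      ∃ U : Set (PrimeSpectrum A'), IsOpen U ∧ U.Nonempty ∧ U ⊆ EGA4.regLocus A') :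
    EGA4.IsJ2 A := by
  intro S _ _ hS
  have : IsNoetherianRing S := Algebra.FiniteType.isNoetherianRing A S
  apply isOpen_regLocus_of_quotients
  intro p hp
  have hpr : p.asIdeal.IsPrime := p.2
  have hd : IsDomain (S ⧸ p.asIdeal) := Ideal.Quotient.isDomain _
  have hft : Algebra.FiniteType A (S ⧸ p.asIdeal) :=
    Algebra.FiniteType.of_surjective (Ideal.Quotient.mkₐ A p.asIdeal)
      Ideal.Quotient.mk_surjective
  exact J0_of_finiteType A H (S ⧸ p.asIdeal)

end Groth.Agent.Lib.H87J2
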