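import Mathlib

/-!
# Flat modules over a product of Bézout domains (helper22)

For `P = Π j, V j` a product of Bézout domains (e.g. valuation rings), `P` is a Bézout ring in which
every principal ideal is projective (generated by an idempotent times a nonzerodivisor), hence `P`
has weak dimension `≤ 1`.  Concretely:

* `zeroIdem g` : the idempotent which is `1` exactly on the coordinates where `g` vanishes;
* `isBezout_pi`, `annIdem_pi` : `P` is Bézout and annihilators of elements are generated by
  idempotents (class `AnnIdem`);
* `flat_iff` : over a Bézout `AnnIdem` ring, `M` is flat iff `g • m = 0 → e • m = m` for the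
  idempotent `e` generating `ann g`;
* `flat_of_injective` : submodules of flat `P`-modules are flat.

This is the key input (Stacks 092S–092W) for the proof that integral closure commutes with
weakly étale base change over normal domains.
-/

set_option autoImplicit false

namespace Groth.Agent.Lib.PiValFlat22

open TensorProduct

variable {J : Type*} (V : J → Type*) [∀ j, CommRing (V j)]

open Classical in
/-- The idempotent of `Π j, V j` supported on the zero set of `g`. -/
noncomputable def zeroIdem (g : ∀ j, V j) : ∀ j, V j := fun j => if g j = 0 then 1 else 0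

variable {V}

theorem zeroIdem_mul_self (g : ∀ j, V j) : zeroIdem V g * g = 0 := by
  classical
  funext j
  simp only [Pi.mul_apply, zeroIdem, Pi.zero_apply]
  split_ifs with h
  · rw [h, mul_zero]
  · rw [zero_mul]

theorem zeroIdem_eq_zero_of_forall_ne (g : ∀ j, V j) (hg : ∀ j, g j ≠ 0) : zeroIdem V g = 0 := by
  classical
  funext j
  simp [zeroIdem, hg j]

theorem zeroIdem_mul_eq_of_mul_eq_zero [∀ j, IsDomain (V j)] (g a : ∀ j, V j) (h : g * a = 0) :
    zeroIdem V g * a = a := by
  classical
  funext j
  simp only [Pi.mul_apply, zeroIdem]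
  split_ifs with hj
  · rw [one_mul]
  · have := congrFun h j
    simp only [Pi.mul_apply, Pi.zero_apply, mul_eq_zero] at this
    rw [zero_mul]
    exact (this.resolve_left hj).symm

instance isBezout_pi [∀ j, IsBezout (V j)] : IsBezout (∀ j, V j) := by
  rw [IsBezout.iff_span_pair_isPrincipal]
  intro x y
  refine ⟨⟨fun j => IsBezout.gcd (x j) (y j), ?_⟩⟩
  have h1 : ∀ j, ∃ a, x j = IsBezout.gcd (x j) (y j) * a := fun j => IsBezout.gcd_dvd_left (x j) (y j)
  have h2 : ∀ j, ∃ a, y j = IsBezout.gcd (x j) (y j) * a := fun j => IsBezout.gcd_dvd_right (x j) (y j)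
  have h3 : ∀ j, ∃ a b, a * x j + b * y j = IsBezout.gcd (x j) (y j) :=
    fun j => IsBezout.gcd_eq_sum (x j) (y j)
  choose a ha using h1
  choose b hb using h2
  choose c d hcd using h3
  apply le_antisymm
  · rw [Ideal.submodule_span_eq, Ideal.span_le]
    intro z hz
    simp only [Set.mem_insert_iff, Set.mem_singleton_iff] at hz
    rcases hz with hz | hz <;> rw [SetLike.mem_coe, hz]
    · refine Ideal.mem_span_singleton'.2 ⟨a, ?_⟩
      funext j
      show a j * IsBezout.gcd (x j) (y j) = x j
      rw [mul_comm]
      exact (ha j).symm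
    · refine Ideal.mem_span_singleton'.2 ⟨b, ?_⟩
      funext j
      show b j * IsBezout.gcd (x j) (y j) = y j
      rw [mul_comm]
      exact (hb j).symm
  · rw [Ideal.submodule_span_eq, Ideal.span_le]
    rintro z rfl
    have : (fun j => IsBezout.gcd (x j) (y j)) = c * x + d * y := by
      funext j
      simp [hcd j]
    rw [SetLike.mem_coe, this]
    exact Ideal.add_mem _ (Ideal.mul_mem_left _ _ (Ideal.subset_span (by simp)))
      (Ideal.mul_mem_left _ _ (Ideal.subset_span (by simp)))

/-- A commutative ring in which the annihilator of every element is generated by an idempotent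
(e.g. a product of domains). -/
class AnnIdem (P : Type*) [CommRing P] : Prop where
  exists_idem : ∀ g : P, ∃ e : P, e * g = 0 ∧ ∀ a, g * a = 0 → e * a = a

instance annIdem_pi [∀ j, IsDomain (V j)] : AnnIdem (∀ j, V j) :=
  ⟨fun g => ⟨zeroIdem V g, zeroIdem_mul_self g, fun a h => zeroIdem_mul_eq_of_mul_eq_zero g a h⟩⟩

section general

variable {P : Type*} [CommRing P] [IsBezout P] [AnnIdem P]

/-- Flatness criterion over a Bézout ring whose annihilators are generated by idempotents. -/
theorem flat_iff (M : Type*) [AddCommGroup M] [Module P M] :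
    Module.Flat P M ↔
      ∀ (g e : P) (m : M), e * g = 0 → (∀ a, g * a = 0 → e * a = a) → g • m = 0 → e • m = m := by
  constructor
  · intro hM g e m heg he hgm
    have hrel : ∑ _i : Unit, (fun _ : Unit => g) _i • (fun _ : Unit => m) _i = 0 := by
      simpa using hgm
    obtain ⟨k, a, y, hxy, hfa⟩ := Module.Flat.isTrivialRelation_of_sum_smul_eq_zero hrel
    have hm : m = ∑ j, a () j • y j := hxy ()
    have ha : ∀ j, g * a () j = 0 := fun j => by simpa using hfa j
    rw [hm, Finset.smul_sum]
    refine Finset.sum_congr rfl fun j _ => ?_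
    rw [smul_smul, he _ (ha j)]
  · intro h
    rw [Module.Flat.iff_lift_lsmul_comp_subtype_injective]
    intro I hI
    have hP : I.IsPrincipal := IsBezout.isPrincipal_of_FG I hI
    obtain ⟨g, rfl⟩ : ∃ g, I = Ideal.span {g} := ⟨_, (Ideal.span_singleton_generator I).symm⟩
    have hg : g ∈ Ideal.span {g} := Ideal.mem_span_singleton_self g
    obtain ⟨e, heg, he⟩ := AnnIdem.exists_idem g
    rw [injective_iff_map_eq_zero]
    have key : ∀ t : (Ideal.span {g} : Ideal P) ⊗[P] M,
        ∃ m : M, t = (⟨g, hg⟩ : Ideal.span {g}) ⊗ₜ[P] m := by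
      intro t
      induction t using TensorProduct.induction_on with
      | zero => exact ⟨0, by simp⟩
      | tmul i m =>
        obtain ⟨r, hr⟩ := Ideal.mem_span_singleton'.1 i.2
        refine ⟨r • m, ?_⟩
        have : i = r • (⟨g, hg⟩ : Ideal.span {g}) := Subtype.ext (by simp [hr])
        rw [this, TensorProduct.smul_tmul]
      | add x y hx hy =>
        obtain ⟨m₁, rfl⟩ := hx
        obtain ⟨m₂, rfl⟩ := hy
        exact ⟨m₁ + m₂, by rw [TensorProduct.tmul_add]⟩
    intro t ht
    obtain ⟨m, rfl⟩ := key t
    have hgm : g • m = 0 := by simpa using ht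
    have hz := h g e m heg he hgm
    rw [← hz, ← TensorProduct.smul_tmul]
    have : e • (⟨g, hg⟩ : Ideal.span {g}) = 0 :=
      Subtype.ext (by simpa using heg)
    rw [this, TensorProduct.zero_tmul]

/-- Over such a ring, submodules of flat modules are flat (weak dimension `≤ 1`). -/
theorem flat_of_injective {M N : Type*} [AddCommGroup M] [Module P M]
    [AddCommGroup N] [Module P N] (f : N →ₗ[P] M)
    (hf : Function.Injective f) [Module.Flat P M] : Module.Flat P N := by
  rw [flat_iff]
  intro g e n heg he hgn
  apply hf
  rw [map_smul]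
  exact (flat_iff M).1 inferInstance g e (f n) heg he (by rw [← map_smul, hgn, map_zero])

end general

end Groth.Agent.Lib.PiValFlat22
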