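import Mathlib
import Groth.Agent.Lib.PiValFlat22
import Groth.Agent.Lib.DiagFlat

/-!
# Weakly étale algebras over a product of Bézout domains are "integrally closed in their
generic fibre" (helper22)

`exists_algebraMap_eq_of_isIntegral`: let `P` be a Bézout ring whose annihilators are generated by
idempotents (e.g. a product of valuation rings, see `Lib/PiValFlat22`), `C` a weakly
étale `P`-algebra and `D` a `C`-algebra, flat over `P`, such that every element of `D` is carried
into the image of `C` by some regular `s ∈ P`.  Then every element of `D`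
integral over `C` comes from `C`.  (Stacks 092W, core step.)
-/

set_option autoImplicit false

namespace Groth.Agent.Lib.WEtaleIntClosed22

open TensorProduct Groth.Agent.Lib.PiValFlat22 Groth.Agent.Lib.DiagFlat

variable {P : Type*} [CommRing P] [IsBezout P] [AnnIdem P]

theorem exists_algebraMap_eq_of_isIntegral
    {C D : Type*} [CommRing C] [CommRing D] [Algebra P C]
    [Algebra.WeaklyEtale P C] [Algebra C D] [Algebra P D]
    [IsScalarTower P C D] [Module.Flat P D]
    (hloc : ∀ d : D, ∃ s : P, IsRegular s ∧ ∃ c : C, s • d = algebraMap C D c)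
    (x : D) (hx : IsIntegral C x) : ∃ c : C, algebraMap C D c = x := by
  let C' : Subalgebra C D := Algebra.adjoin C {x}
  have hfin : Module.Finite C C' := by
    have : Module.Finite C (Subalgebra.toSubmodule C') :=
      Module.Finite.iff_fg.2 hx.fg_adjoin_singleton
    exact this
  -- `C'` is flat over `P`
  have hflatP : Module.Flat P C' := by
    refine flat_of_injective (M := D) ((C'.val.toLinearMap).restrictScalars P) ?_
    exact Subtype.val_injective
  have hflatC : Module.Flat C C' :=
    flat_of_flat_lmul' (Algebra.WeaklyEtale.flat_lmul' P C) C'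
  have hflatT : Module.Flat P (C' ⊗[C] C') := Module.Flat.trans P C _
  have hepi : Algebra.IsEpi C C' := by
    rw [Algebra.isEpi_iff_forall_one_tmul_eq]
    intro a
    obtain ⟨s, hs, c, hc⟩ := hloc (a : D)
    have h1 : s • ((1 : C') ⊗ₜ[C] a - a ⊗ₜ[C] (1 : C')) = 0 := by
      have hsa : (algebraMap P C s) • a = algebraMap C C' c := by
        apply Subtype.ext
        have : ((algebraMap P C s) • a : C') = (algebraMap P C s) • (a : D) := rfl
        rw [this, algebraMap_smul, hc]
        rfl
      rw [← algebraMap_smul C s, smul_sub, ← TensorProduct.tmul_smul, TensorProduct.smul_tmul',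
        hsa, Algebra.algebraMap_eq_smul_one, TensorProduct.smul_tmul, sub_self]
    have hreg : IsSMulRegular (C' ⊗[C] C') s := Module.Flat.isSMulRegular_of_isRegular hs
    exact sub_eq_zero.1 (hreg (by simpa using h1))
  have hsurj : Function.Surjective (algebraMap C C') :=
    Algebra.isEpi_iff_surjective_algebraMap_of_finite.1 hepi
  obtain ⟨c, hc⟩ := hsurj ⟨x, Algebra.subset_adjoin (Set.mem_singleton x)⟩
  exact ⟨c, by simpa using congrArg Subtype.val hc⟩

end Groth.Agent.Lib.WEtaleIntClosed22
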