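import Mathlib
import Groth.Agent.Lib.WEtaleIntClosed22

/-!
# Integral closure and weakly étale base change over a normal domain (helper22)

Stacks 092W–092X (Olivier): if `A` is a normal domain with fraction field `K` and `B` is a weakly
étale `A`-algebra then `B` is integrally closed in `B ⊗[A] K`.

The proof uses the product `P` of all valuation rings of `K` containing `A`: the square
`A → K`, `P → Π K` is cartesian (normality), stays cartesian after the flat base change `A → B`,
and `P` has weak dimension `≤ 1` (`Lib/PiValFlat22`, `Lib/WEtaleIntClosed22`).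

* `VIdx A K`, `VRing A K j`, `exists_eq_mul_of_forall` (cartesian-ness);
* `exists_eq_smul_of_tmul_eq` (descent of divisibility along `B → P ⊗[A] B`);
* `exists_tmul_one_eq_of_isIntegral`, `isIntegrallyClosedIn_tensor` (= S1967);
* `exists_tmul_one_eq_of_isIdempotentElem` (idempotents of the generic fibre come from `B`).
-/

set_option autoImplicit false

namespace Groth.Agent.Lib.WEtaleNormal22

open TensorProduct Groth.Agent.Lib.PiValFlat22 Groth.Agent.Lib.WEtaleIntClosed22

universe u v

section loc

variable {A : Type*} [CommRing A] [IsDomain A] {K : Type*} [Field K] [Algebra A K]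
  [IsFractionRing A K]

/-- Elements of `N ⊗[A] K` have denominators. -/
theorem exists_smul_eq_tmul_one (N : Type*) [AddCommGroup N] [Module A N] (t : N ⊗[A] K) :
    ∃ s : A, s ≠ 0 ∧ ∃ n : N, s • t = n ⊗ₜ[A] (1 : K) := by
  induction t using TensorProduct.induction_on with
  | zero => exact ⟨1, one_ne_zero, 0, by simp⟩
  | tmul n k =>
    obtain ⟨a, s, hs, rfl⟩ := IsFractionRing.div_surjective (A := A) k
    have hs0 : s ≠ 0 := nonZeroDivisors.ne_zero hs
    have hsK : algebraMap A K s ≠ 0 := by
      rwa [Ne, map_eq_zero_iff _ (IsFractionRing.injective A K)]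
    refine ⟨s, hs0, a • n, ?_⟩
    rw [← TensorProduct.tmul_smul, TensorProduct.smul_tmul]
    congr 1
    rw [Algebra.smul_def, Algebra.smul_def, mul_one, mul_div_cancel₀ _ hsK]
  | add x y hx hy =>
    obtain ⟨s₁, hs₁, n₁, h₁⟩ := hx
    obtain ⟨s₂, hs₂, n₂, h₂⟩ := hy
    refine ⟨s₁ * s₂, mul_ne_zero hs₁ hs₂, s₂ • n₁ + s₁ • n₂, ?_⟩
    rw [smul_add, TensorProduct.add_tmul, mul_comm s₁ s₂, mul_smul, h₁, mul_comm s₂ s₁, mul_smul,
      h₂, TensorProduct.smul_tmul', TensorProduct.smul_tmul']

/-- The kernel of `N → N ⊗[A] K` is torsion. -/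
theorem exists_smul_eq_zero_of_tmul_one_eq_zero (N : Type*) [AddCommGroup N] [Module A N] (n : N)
    (h : n ⊗ₜ[A] (1 : K) = 0) : ∃ s : A, s ≠ 0 ∧ s • n = 0 := by
  have h' : TensorProduct.mk A K N 1 n = 0 := by
    have := congrArg (TensorProduct.comm A N K) h
    simpa using this
  obtain ⟨c, hc⟩ := (IsLocalizedModule.eq_zero_iff (nonZeroDivisors A)
    (TensorProduct.mk A K N 1)).1 h'
  exact ⟨c, nonZeroDivisors.ne_zero c.2, hc⟩

end loc

variable (A : Type u) [CommRing A] (K : Type u) [Field K] [Algebra A K]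

/-- The valuation subrings of `K` containing the image of `A`. -/
def VIdx : Type u := {V : ValuationSubring K // ∀ a : A, algebraMap A K a ∈ V}

/-- The valuation ring attached to an index. -/
def VRing (j : VIdx A K) : Type u := ↥j.1

noncomputable instance (j : VIdx A K) : CommRing (VRing A K j) := inferInstanceAs (CommRing ↥j.1)
instance (j : VIdx A K) : IsDomain (VRing A K j) := inferInstanceAs (IsDomain ↥j.1)
instance (j : VIdx A K) : ValuationRing (VRing A K j) := inferInstanceAs (ValuationRing ↥j.1)
instance (j : VIdx A K) : IsBezout (VRing A K j) := inferInstance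

noncomputable instance (j : VIdx A K) : Algebra A (VRing A K j) :=
  ((algebraMap A K).codRestrict j.1.toSubring j.2).toAlgebra

/-- The inclusion of the valuation ring in `K`. -/
def VRing.val {j : VIdx A K} (v : VRing A K j) : K := Subtype.val (p := fun x => x ∈ j.1) v

theorem VRing.val_algebraMap (j : VIdx A K) (a : A) :
    VRing.val A K (algebraMap A (VRing A K j) a) = algebraMap A K a := rfl

theorem VRing.val_mul {j : VIdx A K} (v w : VRing A K j) :
    VRing.val A K (v * w) = VRing.val A K v * VRing.val A K w := rfl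

theorem VRing.val_injective (j : VIdx A K) : Function.Injective (VRing.val A K (j := j)) :=
  Subtype.val_injective

/-- The product of all valuation rings of `K` containing `A` (a `def`, so that instance search
treats it as an opaque ring). -/
def PVal : Type u := ∀ j : VIdx A K, VRing A K j

noncomputable instance : CommRing (PVal A K) :=
  inferInstanceAs (CommRing (∀ j : VIdx A K, VRing A K j))

noncomputable instance : Algebra A (PVal A K) :=
  inferInstanceAs (Algebra A (∀ j : VIdx A K, VRing A K j))

instance : IsBezout (PVal A K) := inferInstanceAs (IsBezout (∀ j : VIdx A K, VRing A K j))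

instance : AnnIdem (PVal A K) := inferInstanceAs (AnnIdem (∀ j : VIdx A K, VRing A K j))

variable {A K}

theorem PVal.ext {p q : PVal A K} (h : ∀ j, p j = q j) : p = q := funext h

theorem PVal.algebraMap_apply (a : A) (j : VIdx A K) :
    (algebraMap A (PVal A K) a) j = algebraMap A (VRing A K j) a := rfl

theorem PVal.mul_apply (p q : PVal A K) (j : VIdx A K) : (p * q) j = p j * q j := rfl

theorem PVal.zero_apply (j : VIdx A K) : (0 : PVal A K) j = 0 := rfl

theorem algebraMap_VRing_ne_zero [IsDomain A] [IsFractionRing A K] (s : A) (hs : s ≠ 0)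
    (j : VIdx A K) : algebraMap A (VRing A K j) s ≠ 0 := by
  intro h
  have h1 : VRing.val A K (algebraMap A (VRing A K j) s) = 0 := by
    rw [h]
    rfl
  rw [VRing.val_algebraMap, map_eq_zero_iff _ (IsFractionRing.injective A K)] at h1
  exact hs h1

theorem isRegular_algebraMap_PVal [IsDomain A] [IsFractionRing A K] (s : A) (hs : s ≠ 0) :
    IsRegular (algebraMap A (PVal A K) s) := by
  rw [← isLeftRegular_iff_isRegular]
  intro p q hpq
  refine PVal.ext fun j => ?_
  have := congrFun hpq j
  simp only [PVal.mul_apply, PVal.algebraMap_apply] at this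
  exact mul_left_cancel₀ (algebraMap_VRing_ne_zero s hs j) this

variable [IsDomain A] [IsIntegrallyClosed A] [IsFractionRing A K]

omit [IsDomain A] in
/-- Normality: the square `A → K`, `P → Π K` is cartesian. -/
theorem exists_eq_mul_of_forall (s a : A) (hs : s ≠ 0)
    (h : ∀ j : VIdx A K, ∃ v : VRing A K j,
      algebraMap A (VRing A K j) a = algebraMap A (VRing A K j) s * v) : ∃ a', a = s * a' := by
  have hsK : algebraMap A K s ≠ 0 := by
    rwa [Ne, map_eq_zero_iff _ (IsFractionRing.injective A K)]
  set x : K := algebraMap A K a / algebraMap A K s with hx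
  let R : Subring K := (algebraMap A K).range
  letI : Algebra A R := (algebraMap A K).rangeRestrict.toAlgebra
  haveI : IsScalarTower A R K := IsScalarTower.of_algebraMap_eq fun _ => rfl
  haveI : Algebra.IsIntegral A R :=
    Algebra.isIntegral_of_surjective (algebraMap A K).rangeRestrict_surjective
  haveI : IsIntegrallyClosedIn R K := by
    rw [Subring.isIntegrallyClosedIn_iff]
    intro y hy
    have hyA : IsIntegral A y := isIntegral_trans (A := R) y hy
    obtain ⟨z, hz⟩ := IsIntegrallyClosed.algebraMap_eq_of_integral hyA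
    exact ⟨z, hz⟩
  have hxR : x ∈ R := by
    by_contra hxR
    obtain ⟨W, hW, hxW⟩ := Subring.exists_le_valuationSubring_of_isIntegrallyClosedIn hxR
    let j : VIdx A K := ⟨W, fun a => hW ⟨a, rfl⟩⟩
    obtain ⟨v, hv⟩ := h j
    have h2 := congrArg (VRing.val A K) hv
    rw [VRing.val_mul, VRing.val_algebraMap, VRing.val_algebraMap] at h2
    have : x = VRing.val A K v := by
      rw [hx, h2, mul_div_cancel_left₀ _ hsK]
    exact hxW (this ▸ v.2)
  obtain ⟨a', ha'⟩ := hxR
  refine ⟨a', IsFractionRing.injective A K ?_⟩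
  rw [map_mul, ha', hx, mul_div_cancel₀ _ hsK]

omit [IsDomain A] in
/-- Descent of divisibility along `B → P ⊗[A] B` for flat `B`. -/
theorem exists_eq_smul_of_tmul_eq (B : Type*) [CommRing B] [Algebra A B] [Module.Flat A B]
    (s : A) (hs : s ≠ 0) (b : B) (c : PVal A K ⊗[A] B)
    (h : (1 : PVal A K) ⊗ₜ[A] b = s • c) : ∃ b', b = s • b' := by
  let I : Ideal (PVal A K) := Ideal.span {algebraMap A (PVal A K) s}
  let f : A →ₗ[A] A := LinearMap.lsmul A A s
  let g : A →ₗ[A] (PVal A K ⧸ I) := Algebra.linearMap A (PVal A K ⧸ I)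
  have hexact : Function.Exact f g := by
    intro a
    constructor
    · intro ha
      have ha' : algebraMap A (PVal A K) a ∈ I := by
        rw [← Ideal.Quotient.eq_zero_iff_mem]
        exact ha
      obtain ⟨p, hp⟩ := Ideal.mem_span_singleton'.1 ha'
      obtain ⟨a', rfl⟩ := exists_eq_mul_of_forall s a hs fun j => ⟨p j, by
        have := congrFun hp j
        rw [PVal.mul_apply, PVal.algebraMap_apply, PVal.algebraMap_apply] at this
        rw [mul_comm]
        exact this.symm⟩
      exact ⟨a', rfl⟩
    · rintro ⟨a', rfl⟩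
      show algebraMap A (PVal A K ⧸ I) (s • a') = 0
      rw [smul_eq_mul, map_mul, IsScalarTower.algebraMap_apply A (PVal A K) (PVal A K ⧸ I) s,
        Ideal.Quotient.algebraMap_eq, Ideal.Quotient.eq_zero_iff_mem.2
          (Ideal.mem_span_singleton_self _), zero_mul]
  have hex2 := Module.Flat.lTensor_exact B hexact
  -- `s` kills `B ⊗ P/I`
  have hkill : ∀ t : B ⊗[A] (PVal A K ⧸ I), s • t = 0 := by
    intro t
    induction t using TensorProduct.induction_on with
    | zero => simp
    | tmul b' q =>
      obtain ⟨p, rfl⟩ := Ideal.Quotient.mk_surjective q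
      have : s • (Ideal.Quotient.mk I p) = 0 := by
        have e : s • (Ideal.Quotient.mk I p) = Ideal.Quotient.mk I (s • p) := rfl
        rw [e, Ideal.Quotient.eq_zero_iff_mem, Algebra.smul_def]
        exact Ideal.mul_mem_right _ _ (Ideal.mem_span_singleton_self _)
      rw [← TensorProduct.tmul_smul, this, TensorProduct.tmul_zero]
    | add x y hx hy => rw [smul_add, hx, hy, add_zero]
  let θ : PVal A K ⊗[A] B →ₗ[A] B ⊗[A] (PVal A K ⧸ I) :=
    (LinearMap.lTensor B ((Ideal.Quotient.mkₐ A I).toLinearMap)) ∘ₗ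
      (TensorProduct.comm A (PVal A K) B).toLinearMap
  have h0 : (g.lTensor B) (b ⊗ₜ[A] (1 : A)) = 0 := by
    have h1 : θ ((1 : PVal A K) ⊗ₜ[A] b) = (g.lTensor B) (b ⊗ₜ[A] (1 : A)) := by
      simp [θ, g]
    rw [← h1, h, map_smul, hkill]
  obtain ⟨t, ht⟩ := (hex2 _).1 h0
  have hrid : ∀ t : B ⊗[A] A, TensorProduct.rid A B ((f.lTensor B) t) =
      s • TensorProduct.rid A B t := by
    intro t
    induction t using TensorProduct.induction_on with
    | zero => simp
    | tmul b' a => simp [f, smul_smul]
    | add x y hx hy => simp only [map_add, hx, hy, smul_add]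
  refine ⟨TensorProduct.rid A B t, ?_⟩
  rw [← hrid, ht]
  simp

variable (A K)

/-- The base change of `B` to the product of valuation rings. -/
abbrev CP (B : Type u) [CommRing B] [Algebra A B] : Type u := PVal A K ⊗[A] B

/-- The generic fibre of `CP`. -/
abbrev DP (B : Type u) [CommRing B] [Algebra A B] : Type u := (PVal A K ⊗[A] B) ⊗[A] K

/-- **Stacks 092W/092X** (Olivier): for `A` a normal domain with fraction field `K` and `B` weakly
étale over `A`, every element of `B ⊗[A] K` integral over `B` comes from `B`. -/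
theorem exists_tmul_one_eq_of_isIntegral (B : Type u) [CommRing B] [Algebra A B]
    [Algebra.WeaklyEtale A B] (x : B ⊗[A] K) (hx : IsIntegral B x) :
    ∃ b : B, b ⊗ₜ[A] (1 : K) = x := by
  haveI : Module.Flat A K := IsLocalization.flat K (nonZeroDivisors A)
  haveI : Module.Flat (PVal A K) (DP A K B) := Module.Flat.trans (PVal A K) (CP A K B) (DP A K B)
  let φ : B →ₐ[A] CP A K B := Algebra.TensorProduct.includeRight
  let ψ : B ⊗[A] K →ₐ[A] DP A K B := Algebra.TensorProduct.map φ (AlgHom.id A K)
  have hψx : IsIntegral (CP A K B) (ψ x) := by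
    refine IsIntegral.map_of_comp_eq (R := B) (S := B ⊗[A] K) (T := CP A K B) (U := DP A K B)
      φ.toRingHom ψ.toRingHom ?_ hx
    ext b
    simp [ψ, φ, Algebra.TensorProduct.algebraMap_apply]
  have key : ∃ c : CP A K B, algebraMap (CP A K B) (DP A K B) c = ψ x := by
    refine exists_algebraMap_eq_of_isIntegral (P := PVal A K) (C := CP A K B) (D := DP A K B)
      (fun d => ?_) (ψ x) hψx
    obtain ⟨s, hs, n, hn⟩ := exists_smul_eq_tmul_one (A := A) (K := K) (CP A K B) d
    refine ⟨algebraMap A (PVal A K) s, isRegular_algebraMap_PVal s hs, n, ?_⟩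
    rw [algebraMap_smul]
    exact hn
  obtain ⟨c, hc⟩ := key
  obtain ⟨s, hs, b, hb⟩ := exists_smul_eq_tmul_one (A := A) (K := K) B x
  have h1 : ((1 : PVal A K) ⊗ₜ[A] b - s • c) ⊗ₜ[A] (1 : K) = 0 := by
    have e1 : ψ (s • x) = ((1 : PVal A K) ⊗ₜ[A] b) ⊗ₜ[A] (1 : K) := by
      rw [hb]
      simp [ψ, φ]
    have e2 : ψ (s • x) = (s • c) ⊗ₜ[A] (1 : K) := by
      rw [map_smul, ← hc, Algebra.TensorProduct.algebraMap_apply, TensorProduct.smul_tmul']
      rfl
    rw [TensorProduct.sub_tmul, ← e1, ← e2, sub_self]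
  obtain ⟨s₁, hs₁, h2⟩ :=
    exists_smul_eq_zero_of_tmul_one_eq_zero (A := A) (K := K) (CP A K B) _ h1
  have h3 : (1 : PVal A K) ⊗ₜ[A] b - s • c = 0 := by
    have hreg : IsSMulRegular (CP A K B) (algebraMap A (PVal A K) s₁) :=
      Module.Flat.isSMulRegular_of_isRegular (isRegular_algebraMap_PVal s₁ hs₁)
    apply hreg
    show algebraMap A (PVal A K) s₁ • _ = algebraMap A (PVal A K) s₁ • (0 : CP A K B)
    rw [algebraMap_smul, h2, smul_zero]
  obtain ⟨b', rfl⟩ := exists_eq_smul_of_tmul_eq B s hs b c (sub_eq_zero.1 h3)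
  refine ⟨b', ?_⟩
  have hreg : IsSMulRegular (B ⊗[A] K) s :=
    Module.Flat.isSMulRegular_of_isRegular (IsRegular.of_ne_zero hs)
  apply hreg
  show s • (b' ⊗ₜ[A] (1 : K)) = s • x
  rw [hb, TensorProduct.smul_tmul']

/-- **S1967**: `B` is integrally closed in `B ⊗[A] K`. -/
theorem isIntegrallyClosedIn_tensor (B : Type u) [CommRing B] [Algebra A B]
    [Algebra.WeaklyEtale A B] : IsIntegrallyClosedIn B (B ⊗[A] K) := by
  have hinj : Function.Injective (algebraMap B (B ⊗[A] K)) := by
    have h1 : Function.Injective ((Algebra.linearMap A K).lTensor B) :=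
      Module.Flat.lTensor_preserves_injective_linearMap _ (IsFractionRing.injective A K)
    intro b₁ b₂ h
    have h2 : (Algebra.linearMap A K).lTensor B (b₁ ⊗ₜ 1) =
        (Algebra.linearMap A K).lTensor B (b₂ ⊗ₜ 1) := by
      simpa [Algebra.TensorProduct.algebraMap_apply] using h
    have h3 := h1 h2
    simpa using congrArg (TensorProduct.rid A B) h3
  refine ⟨hinj, fun {x} => ⟨fun hx => ?_, ?_⟩⟩
  · obtain ⟨b, hb⟩ := exists_tmul_one_eq_of_isIntegral A K B x hx
    exact ⟨b, by rw [Algebra.TensorProduct.algebraMap_apply]; simpa using hb⟩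
  · rintro ⟨b, rfl⟩
    exact isIntegral_algebraMap

/-- Idempotents of the generic fibre of a weakly étale algebra over a normal domain come from
(idempotents of) the algebra. -/
theorem exists_tmul_one_eq_of_isIdempotentElem (B : Type u) [CommRing B] [Algebra A B]
    [Algebra.WeaklyEtale A B] (e : B ⊗[A] K) (he : IsIdempotentElem e) :
    ∃ b : B, IsIdempotentElem b ∧ b ⊗ₜ[A] (1 : K) = e := by
  have hint : IsIntegral B e := by
    refine ⟨Polynomial.X * (Polynomial.X - Polynomial.C 1),
      Polynomial.monic_X.mul (Polynomial.monic_X_sub_C 1), ?_⟩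
    simp [mul_sub, he.eq]
  obtain ⟨b, hb⟩ := exists_tmul_one_eq_of_isIntegral A K B e hint
  refine ⟨b, ?_, hb⟩
  have hinj := (isIntegrallyClosedIn_tensor A K B).1
  apply hinj
  rw [map_mul, Algebra.TensorProduct.algebraMap_apply]
  simp only [Algebra.algebraMap_self, RingHom.id_apply]
  rw [hb, he.eq]

end Groth.Agent.Lib.WEtaleNormal22
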