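import Groth.Agent.Lib.AbsFlat
import Groth.Agent.Lib.DiagFlat
import Groth.Agent.S0426
import Mathlib.RingTheory.HopkinsLevitzki
import Mathlib.RingTheory.Artinian.Module

/-!
# Noetherian weakly étale algebras over a field (helper96)

* `vnr_of_weaklyEtale_field`: a weakly étale algebra over a field is von Neumann regular.
* `exists_pi_separable_of_weaklyEtale_field`: a Noetherian weakly étale algebra over a field `K` is
  a finite product of separable algebraic field extensions of `K`.
-/

namespace Groth.Agent.Lib.WeaklyEtaleFibre96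

open TensorProduct

universe u

section

theorem vnr_field (K : Type u) [Field K] : ∀ a : K, ∃ b, a * b * a = a := by
  intro a
  by_cases ha : a = 0
  · exact ⟨0, by simp [ha]⟩
  · exact ⟨a⁻¹, by field_simp⟩

variable (K F : Type u) [Field K] [CommRing F] [Algebra K F] [Algebra.WeaklyEtale K F]

include K in
theorem flat_of_weaklyEtale_field (N : Type*) [AddCommGroup N] [Module F N] : Module.Flat F N :=
  Groth.Agent.Lib.AbsFlat.flat_of_weaklyEtale_of_vnr (K := K) (vnr_field K) N

include K in
theorem vnr_of_weaklyEtale_field : ∀ a : F, ∃ b, a * b * a = a := by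
  intro a
  haveI : (Ideal.span {a}).Pure := flat_of_weaklyEtale_field K F _
  obtain ⟨y, hy, hxy⟩ := Ideal.exists_eq_mul_of_pure (Ideal.mem_span_singleton_self a)
  obtain ⟨c, rfl⟩ := Ideal.mem_span_singleton'.mp hy
  exact ⟨c, by rw [mul_assoc]; exact hxy.symm⟩

include K in
theorem isReduced_of_weaklyEtale_field : IsReduced F :=
  Groth.Agent.Lib.AbsFlat.isReduced_of_weaklyEtale_of_vnr (K := K) (vnr_field K)

include K in
theorem krullDimLE_zero_of_weaklyEtale_field : Ring.KrullDimLE 0 F := by
  refine Ring.KrullDimLE.mk₀ fun P hP => ?_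
  refine Ideal.isMaximal_iff.mpr ⟨fun h1 => hP.ne_top ((Ideal.eq_top_iff_one P).mpr h1), ?_⟩
  intro J a hPJ haP haJ
  obtain ⟨b, hb⟩ := vnr_of_weaklyEtale_field K F a
  have h0 : a * (b * a - 1) ∈ P := by
    have : a * (b * a - 1) = 0 := by rw [mul_sub, mul_one, ← mul_assoc, hb, sub_self]
    rw [this]; exact P.zero_mem
  have h1 : b * a - 1 ∈ P := (hP.mem_or_mem h0).resolve_left haP
  have h2 : b * a - 1 ∈ J := hPJ h1
  have h3 : b * a ∈ J := J.mul_mem_left b haJ
  have : (1 : F) = b * a - (b * a - 1) := by ring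
  rw [this]
  exact J.sub_mem h3 h2

/-- The quotient of a weakly étale algebra over a field by an ideal is weakly étale. -/
theorem weaklyEtale_quotient (I : Ideal F) : Algebra.WeaklyEtale K (F ⧸ I) := by
  haveI : Algebra.WeaklyEtale F (F ⧸ I) :=
    { flat := flat_of_weaklyEtale_field K F _
      flat_lmul' := RingHom.Flat.of_bijective
        (LinearMap.mul'_bijective_of_surjective (R := F) (A := F ⧸ I)
          Ideal.Quotient.mk_surjective) }
  exact Algebra.WeaklyEtale.trans K F (F ⧸ I)

/-- A Noetherian weakly étale algebra over a field `K` is a finite product of separable algebraic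
field extensions of `K`. -/
theorem exists_pi_separable_of_weaklyEtale_field [IsNoetherianRing F] :
    ∃ (n : ℕ) (L : Fin n → Type u) (_ : ∀ i, Field (L i)) (_ : ∀ i, Algebra K (L i)),
      (∀ i, Algebra.IsSeparable K (L i)) ∧ Nonempty (F ≃ₐ[K] (Π i, L i)) := by
  haveI := isReduced_of_weaklyEtale_field K F
  haveI := krullDimLE_zero_of_weaklyEtale_field K F
  haveI : IsArtinianRing F := isArtinianRing_iff_isNoetherianRing_krullDimLE_zero.mpr ⟨‹_›, ‹_›⟩
  let e0 : F ≃ₐ[K] (∀ I : MaximalSpectrum F, F ⧸ I.asIdeal) :=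
    (IsArtinianRing.equivPi F).restrictScalars K
  let n := Nat.card (MaximalSpectrum F)
  let σ : MaximalSpectrum F ≃ Fin n := Finite.equivFin _
  let e1 : (∀ I : MaximalSpectrum F, F ⧸ I.asIdeal) ≃ₐ[K]
      (∀ i : Fin n, F ⧸ (σ.symm i).asIdeal) :=
    AlgEquiv.piCongrLeft' K (fun I : MaximalSpectrum F => F ⧸ I.asIdeal) σ
  refine ⟨n, fun i => F ⧸ (σ.symm i).asIdeal,
    fun i => @Ideal.Quotient.field _ _ (σ.symm i).asIdeal (σ.symm i).isMaximal,
    fun i => inferInstance, fun i => ?_, ⟨e0.trans e1⟩⟩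
  letI : Field (F ⧸ (σ.symm i).asIdeal) :=
    @Ideal.Quotient.field _ _ (σ.symm i).asIdeal (σ.symm i).isMaximal
  haveI : Algebra.WeaklyEtale K (F ⧸ (σ.symm i).asIdeal) := weaklyEtale_quotient K F _
  exact Groth.Agent.S0426.result

end

end Groth.Agent.Lib.WeaklyEtaleFibre96
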