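import Mathlib
import Groth.Agent.Lib.WEtaleNormal22
import Groth.Agent.Lib.WeaklyEtaleFibre96
import Groth.Agent.Lib.DiagFlat

/-!
# Weakly étale over normal is normal (Stacks 0950), ring level (helper22)

* `isEpi_of_isLocalization`, `weaklyEtale_of_isLocalization` (copied from helper's S0707):
  localizations are weakly étale;
* `weaklyEtale_localization_of_weaklyEtale`: if `R → S` is weakly étale, `A` a localization of `R`,
  `B` a localization of `S` and `A → B` compatible, then `A → B` is weakly étale;
* `isDomain_and_isIntegrallyClosed_of_weaklyEtale`: a connected (e.g. local) weakly étale algebra over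
  a normal domain is a normal domain.
-/

set_option autoImplicit false

namespace Groth.Agent.Lib.WEtaleNormalLocal22

open TensorProduct

universe u

theorem isEpi_of_isLocalization {A : Type*} [CommRing A] (S : Submonoid A) (B : Type*) [CommRing B]
    [Algebra A B] [IsLocalization S B] : Algebra.IsEpi A B := by
  refine (Algebra.isEpi_iff_forall_one_tmul_eq A B).mpr fun x ↦ ?_
  obtain ⟨a, s, rfl⟩ := IsLocalization.exists_mk'_eq S x
  have hu : (s : A) • IsLocalization.mk' B (1 : A) s = 1 := by
    rw [Algebra.smul_def, mul_comm, IsLocalization.mk'_spec, map_one]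
  have hb : IsLocalization.mk' B a s = a • IsLocalization.mk' B (1 : A) s := by
    rw [Algebra.smul_def, IsLocalization.mul_mk'_eq_mk'_of_mul, mul_one]
  calc (1 : B) ⊗ₜ[A] IsLocalization.mk' B a s
      = a • ((1 : B) ⊗ₜ[A] IsLocalization.mk' B (1 : A) s) := by rw [hb, TensorProduct.tmul_smul]
    _ = a • (((s : A) • IsLocalization.mk' B (1 : A) s) ⊗ₜ[A] IsLocalization.mk' B (1 : A) s) := by
        rw [hu]
    _ = a • (IsLocalization.mk' B (1 : A) s ⊗ₜ[A] ((s : A) • IsLocalization.mk' B (1 : A) s)) := by
        rw [TensorProduct.smul_tmul]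
    _ = IsLocalization.mk' B a s ⊗ₜ[A] (1 : B) := by
        rw [hu, hb, TensorProduct.smul_tmul']

/-- A localization is weakly étale. -/
theorem weaklyEtale_of_isLocalization {A : Type*} [CommRing A] (S : Submonoid A) (B : Type*)
    [CommRing B] [Algebra A B] [IsLocalization S B] : Algebra.WeaklyEtale A B where
  flat := IsLocalization.flat B S
  flat_lmul' := by
    haveI := isEpi_of_isLocalization S B
    refine RingHom.Flat.of_bijective ⟨?_, fun b => ⟨b ⊗ₜ 1, by simp⟩⟩
    exact Algebra.IsEpi.injective_lift_mul (R := A) (A := B)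

/-- Weak étaleness passes to localizations of source and target. -/
theorem weaklyEtale_localization_of_weaklyEtale (R S A B : Type*) [CommRing R] [CommRing S]
    [CommRing A] [CommRing B] [Algebra R S] [Algebra R A] [Algebra S B] [Algebra A B] [Algebra R B]
    [IsScalarTower R S B] [IsScalarTower R A B] (M : Submonoid R) [IsLocalization M A]
    (N : Submonoid S) [IsLocalization N B] [Algebra.WeaklyEtale R S] : Algebra.WeaklyEtale A B := by
  haveI : Algebra.WeaklyEtale S B := weaklyEtale_of_isLocalization N B
  haveI : Algebra.WeaklyEtale R B := Algebra.WeaklyEtale.trans R S B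
  haveI : Algebra.WeaklyEtale R A := weaklyEtale_of_isLocalization M A
  exact Groth.Agent.Lib.DiagFlat.weaklyEtale_of_tower R A B

/-- **Stacks 0950**, ring level: a weakly étale algebra `B` over a normal domain `A`, such that `B`
is nontrivial with only trivial idempotents (e.g. `B` local), is a normal domain. -/
theorem isDomain_and_isIntegrallyClosed_of_weaklyEtale (A B : Type u) [CommRing A] [IsDomain A]
    [IsIntegrallyClosed A] [CommRing B] [Nontrivial B] [Algebra A B] [Algebra.WeaklyEtale A B]
    (hB : ∀ e : B, IsIdempotentElem e → e = 0 ∨ e = 1) : IsDomain B ∧ IsIntegrallyClosed B := by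
  have hicl := Groth.Agent.Lib.WEtaleNormal22.isIntegrallyClosedIn_tensor A (FractionRing A) B
  have hinj : Function.Injective (algebraMap B (B ⊗[A] FractionRing A)) := hicl.1
  haveI : Nontrivial (B ⊗[A] FractionRing A) := hinj.nontrivial
  -- von Neumann regularity of the generic fibre
  have hvnr : ∀ x : B ⊗[A] FractionRing A, ∃ y, x * y * x = x := by
    intro x
    obtain ⟨y, hy⟩ := Groth.Agent.Lib.WeaklyEtaleFibre96.vnr_of_weaklyEtale_field (FractionRing A)
      (FractionRing A ⊗[A] B) (Algebra.TensorProduct.comm A B (FractionRing A) x)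
    refine ⟨(Algebra.TensorProduct.comm A B (FractionRing A)).symm y, ?_⟩
    apply (Algebra.TensorProduct.comm A B (FractionRing A)).injective
    rw [map_mul, map_mul, AlgEquiv.apply_symm_apply, hy]
  have hfield : IsField (B ⊗[A] FractionRing A) := by
    refine ⟨exists_pair_ne _, mul_comm, fun {x} hx => ?_⟩
    obtain ⟨y, hy⟩ := hvnr x
    have hidem : IsIdempotentElem (x * y) := by
      show x * y * (x * y) = x * y
      calc x * y * (x * y) = (x * y * x) * y := by ring
        _ = x * y := by rw [hy]
    obtain ⟨b, hb, hbe⟩ := Groth.Agent.Lib.WEtaleNormal22.exists_tmul_one_eq_of_isIdempotentElem A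
      (FractionRing A) B (x * y) hidem
    rcases hB b hb with h0 | h1
    · exfalso
      apply hx
      rw [h0, TensorProduct.zero_tmul] at hbe
      rw [← hy, ← hbe, zero_mul]
    · refine ⟨y, ?_⟩
      rw [← hbe, h1]
      rfl
  letI : Field (B ⊗[A] FractionRing A) := hfield.toField
  haveI : IsDomain B := hinj.isDomain (algebraMap B (B ⊗[A] FractionRing A))
  haveI : FaithfulSMul B (B ⊗[A] FractionRing A) := (faithfulSMul_iff_algebraMap_injective _ _).2 hinj
  exact ⟨inferInstance,
    IsIntegrallyClosed.of_isIntegrallyClosed_of_isIntegrallyClosedIn B (B ⊗[A] FractionRing A)⟩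

/-- Idempotents of a local ring are trivial. -/
theorem eq_zero_or_eq_one_of_isLocalRing {B : Type*} [CommRing B] [IsLocalRing B] (e : B)
    (he : IsIdempotentElem e) : e = 0 ∨ e = 1 := by
  rcases IsLocalRing.isUnit_or_isUnit_one_sub_self e with h | h
  · right
    have : e * (e - 1) = 0 := by rw [mul_sub, mul_one, he.eq, sub_self]
    exact sub_eq_zero.1 (h.mul_right_eq_zero.1 this)
  · left
    have : (1 - e) * e = 0 := by rw [sub_mul, one_mul, he.eq, sub_self]
    exact h.mul_right_eq_zero.1 this

end Groth.Agent.Lib.WEtaleNormalLocal22
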