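import Mathlib
import Groth.Prelude.Def_EssEt
import Groth.Prelude.Def_EGA4b
import Groth.Agent.Lib.FracEssEtale6
import Groth.Agent.Lib.NormFiniteMax61
import Groth.Agent.Lib.AbsFlat
import Groth.Agent.Lib.WEtaleNormalLocal22
import Groth.Agent.Lib.NagataSmoothDescent96
import Groth.Agent.Lib.QENagata51
import Groth.Agent.Lib.NormEtaleColon61

/-!
# Colon ideals of normalizations inside the fraction ring of an essentially étale algebra (helper61)

`A` a reduced Noetherian local ring, `E` an essentially étale local `A`-algebra, `K = Frac E`,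
`LD ⊆ K` an `A`-subalgebra containing the inverses of the non-zero-divisors of `A`, `B` the integral
closure of `A` in `LD`.  If `x ∈ LD` is integral over `E`, then the elements `t ∈ B` with `t x ∈ B`
generate the unit ideal over `E` (`one_mem_span_of_essEtale`).  If `A` is excellent, the integral
closure of `A` in `K` is a finite `A`-module (`finite_integralClosure`).
-/

set_option autoImplicit false
universe u

namespace Groth.Agent.Lib.EssEtaleNormColon61

open TensorProduct

section

variable (A E : Type u) [CommRing A] [IsLocalRing A] [IsReduced A] [IsNoetherianRing A]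
  [CommRing E] [IsLocalRing E] [Algebra A E] [IsLocalHom (algebraMap A E)]

/-- Integral closure commutes with the base change `E ⊗[A] -` for essentially étale `E`. -/
theorem toIntegralClosure_bijective (hE : EGA4loc.IsEssentiallyEtale A E) (Λ : Type u)
    [CommRing Λ] [Algebra A Λ] :
    Function.Bijective (TensorProduct.toIntegralClosure A E Λ) := by
  obtain ⟨C, _, _, q, _, hC, hqm, ⟨e⟩⟩ := hE
  let φ : C →+* E := (e.symm : Localization.AtPrime q →+* E).comp
    (algebraMap C (Localization.AtPrime q))
  let _ : Algebra C E := φ.toAlgebra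
  have hCE : ∀ c : C, algebraMap C E c = e.symm (algebraMap C (Localization.AtPrime q) c) :=
    fun c => rfl
  have : IsScalarTower A C E := IsScalarTower.of_algebraMap_eq fun a => by
    rw [hCE, ← IsScalarTower.algebraMap_apply A C (Localization.AtPrime q), e.symm.commutes]
  have : IsLocalization.AtPrime E q := by
    let e' : Localization.AtPrime q ≃ₐ[C] E :=
      AlgEquiv.ofRingEquiv (f := (e.symm : Localization.AtPrime q ≃+* E)) (fun c => rfl)
    exact IsLocalization.isLocalization_of_algEquiv q.primeCompl e'
  exact TensorProduct.toIntegralClosure_bijective_of_tower (R := A) (S := C) (T := E) (B := Λ)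
    TensorProduct.toIntegralClosure_bijective_of_smooth
    (TensorProduct.toIntegralClosure_bijective_of_isLocalization q.primeCompl)

/-- `E` is weakly étale over `A`. -/
theorem weaklyEtale (hE : EGA4loc.IsEssentiallyEtale A E) : Algebra.WeaklyEtale A E := by
  obtain ⟨C, _, _, q, _, hC, hqm, ⟨e⟩⟩ := hE
  let φ : C →+* E := (e.symm : Localization.AtPrime q →+* E).comp
    (algebraMap C (Localization.AtPrime q))
  let _ : Algebra C E := φ.toAlgebra
  have hCE : ∀ c : C, algebraMap C E c = e.symm (algebraMap C (Localization.AtPrime q) c) :=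
    fun c => rfl
  have : IsScalarTower A C E := IsScalarTower.of_algebraMap_eq fun a => by
    rw [hCE, ← IsScalarTower.algebraMap_apply A C (Localization.AtPrime q), e.symm.commutes]
  have : IsLocalization.AtPrime E q := by
    let e' : Localization.AtPrime q ≃ₐ[C] E :=
      AlgEquiv.ofRingEquiv (f := (e.symm : Localization.AtPrime q ≃+* E)) (fun c => rfl)
    exact IsLocalization.isLocalization_of_algEquiv q.primeCompl e'
  have : Algebra.WeaklyEtale C E :=
    Groth.Agent.Lib.WEtaleNormalLocal22.weaklyEtale_of_isLocalization q.primeCompl E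
  exact Algebra.WeaklyEtale.trans A C E

/-- Base change of `E` to a reduced artinian `A`-algebra is reduced artinian. -/
theorem isArtinianRing_isReduced_tensor (hE : EGA4loc.IsEssentiallyEtale A E) (Λ : Type u)
    [CommRing Λ] [Algebra A Λ] [IsArtinianRing Λ] [IsReduced Λ] :
    IsArtinianRing (E ⊗[A] Λ) ∧ IsReduced (E ⊗[A] Λ) := by
  obtain ⟨hft, hfe, hflat⟩ := Groth.Agent.Lib.FracEssEtale6.instances_of_essEtale A E hE
  have hwe : Algebra.WeaklyEtale A E := weaklyEtale A E hE
  have hred1 : IsReduced (Λ ⊗[A] E) :=
    Groth.Agent.Lib.AbsFlat.isReduced_of_weaklyEtale Λ (Λ ⊗[A] E)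
  have hfin1 : Module.Finite Λ (Λ ⊗[A] E) := Module.Finite.of_quasiFinite
  have hart1 : IsArtinianRing (Λ ⊗[A] E) := IsArtinianRing.of_finite Λ _
  let κ : Λ ⊗[A] E ≃ₐ[A] E ⊗[A] Λ := Algebra.TensorProduct.comm A Λ E
  have hred2 : IsReduced (E ⊗[A] Λ) := isReduced_of_injective κ.symm κ.symm.injective
  have hart2 : IsArtinianRing (E ⊗[A] Λ) :=
    Function.Surjective.isArtinianRing (f := (κ : Λ ⊗[A] E →+* E ⊗[A] Λ)) κ.surjective
  exact ⟨hart2, hred2⟩

/-- Main statement (colon ideals generate the unit ideal). -/
theorem one_mem_span_of_essEtale (hE : EGA4loc.IsEssentiallyEtale A E)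
    (LD : Subalgebra A (FractionRing E))
    (hLD : ∀ s ∈ nonZeroDivisors A, ∃ y ∈ LD, algebraMap A (FractionRing E) s * y = 1)
    (x : FractionRing E) (hx : x ∈ LD) (hxint : IsIntegral E x) :
    (1 : FractionRing E) ∈ Submodule.span E
      {t : FractionRing E | t ∈ LD ∧ IsIntegral A t ∧ IsIntegral A (t * x)} := by
  obtain ⟨hft, hfe, hflat⟩ := Groth.Agent.Lib.FracEssEtale6.instances_of_essEtale A E hE
  have hmin : (minimalPrimes A).Finite := minimalPrimes.finite_of_isNoetherianRing A
  have hNE : IsNoetherianRing E := Algebra.EssFiniteType.isNoetherianRing A E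
  have hredE : IsReduced E := Groth.Agent.Lib.NormFiniteMax61.isReduced_of_essEtale A E hE
  obtain ⟨hloc, -⟩ := Groth.Agent.Lib.FracEssEtale6.main E hmin
  have hunits : ∀ s : nonZeroDivisors A, IsUnit (algebraMap A (FractionRing E) s) := by
    intro s
    rw [IsScalarTower.algebraMap_apply A E (FractionRing E)]
    exact IsLocalization.map_units (FractionRing E)
      (⟨algebraMap A E s, Submonoid.mem_map_of_mem _ s.2⟩ :
        (nonZeroDivisors A).map (algebraMap A E))
  let _ : Algebra (FractionRing A) (FractionRing E) :=
    (IsLocalization.lift (M := nonZeroDivisors A) (g := algebraMap A (FractionRing E))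
      hunits).toAlgebra
  have hst : IsScalarTower A (FractionRing A) (FractionRing E) :=
    IsScalarTower.of_algebraMap_eq fun a => (IsLocalization.lift_eq _ a).symm
  have hart : IsArtinianRing (FractionRing A) :=
    Groth.Agent.Lib.FracEssEtale6.isArtinianRing_fractionRing hmin _
  have hfinK : Module.Finite (FractionRing A) (FractionRing E) :=
    Groth.Agent.Lib.FracEssEtale6.finite_fractionRing_tower E hmin (FractionRing E) _
  -- `LD` as an algebra over `Frac A`
  have hunitsLD : ∀ s : nonZeroDivisors A, IsUnit (algebraMap A LD s) := by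
    intro s
    obtain ⟨y, hy, hsy⟩ := hLD s s.2
    refine IsUnit.of_mul_eq_one (⟨y, hy⟩ : LD) (Subtype.ext ?_)
    exact hsy
  let _ : Algebra (FractionRing A) LD :=
    (IsLocalization.lift (M := nonZeroDivisors A) (g := algebraMap A LD) hunitsLD).toAlgebra
  have hst2 : IsScalarTower A (FractionRing A) LD :=
    IsScalarTower.of_algebraMap_eq fun a => (IsLocalization.lift_eq _ a).symm
  have hst3 : IsScalarTower (FractionRing A) LD (FractionRing E) := by
    refine IsScalarTower.of_algebraMap_eq' ?_
    refine IsLocalization.ringHom_ext (nonZeroDivisors A) ?_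
    ext a
    simp only [RingHom.comp_apply]
    rw [← IsScalarTower.algebraMap_apply A (FractionRing A) (FractionRing E),
      ← IsScalarTower.algebraMap_apply A (FractionRing A) LD]
    rfl
  have hNoethK : IsNoetherian (FractionRing A) (FractionRing E) :=
    isNoetherian_of_isNoetherianRing_of_finite _ _
  have hfinLD : Module.Finite (FractionRing A) LD :=
    Module.Finite.of_injective
      (IsScalarTower.toAlgHom (FractionRing A) LD (FractionRing E)).toLinearMap
      Subtype.val_injective
  have hartLD : IsArtinianRing LD := IsArtinianRing.of_finite (FractionRing A) LD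
  have hredK : IsReduced (FractionRing E) := inferInstance
  have hredLD : IsReduced LD := isReduced_of_injective LD.val Subtype.val_injective
  obtain ⟨hart2, hred2⟩ := isArtinianRing_isReduced_tensor A E hE LD
  have hxK : IsIntegral (FractionRing A) x := Algebra.IsIntegral.isIntegral x
  obtain ⟨a, ha⟩ :=
    IsIntegral.exists_multiple_integral_of_isLocalization (nonZeroDivisors A) x hxK
  refine Groth.Agent.Lib.NormEtaleColon61.one_mem_span LD
    (toIntegralClosure_bijective A E hE LD).2 x hx hxint (a : A) ?_ ha
  intro z hz
  rw [Algebra.smul_def] at hz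
  exact (hunits a).mul_right_eq_zero.mp hz

/-- Over an excellent base, the integral closure of `A` in `Frac E` is finite. -/
theorem finite_integralClosure (hA : EGA4.IsExcellent A) (hE : EGA4loc.IsEssentiallyEtale A E) :
    Module.Finite A (integralClosure A (FractionRing E)) := by
  obtain ⟨hft, hfe, hflat⟩ := Groth.Agent.Lib.FracEssEtale6.instances_of_essEtale A E hE
  have hNE : IsNoetherianRing E := Algebra.EssFiniteType.isNoetherianRing A E
  have hredE : IsReduced E := Groth.Agent.Lib.NormFiniteMax61.isReduced_of_essEtale A E hE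
  have hNag : CAlg.IsNagata A :=
    Groth.Agent.Lib.QENagata51.isNagata_of_isQuasiExcellent A ⟨hA.1, hA.2.2.1, hA.2.2.2⟩
  have h1 : Algebra.EssFiniteType E (FractionRing E) :=
    Algebra.EssFiniteType.of_isLocalization _ (nonZeroDivisors E)
  have h2 : Algebra.EssFiniteType A (FractionRing E) := Algebra.EssFiniteType.comp A E _
  have h3 : IsNoetherianRing (FractionRing E) :=
    IsLocalization.isNoetherianRing (nonZeroDivisors E) _ inferInstance
  exact Groth.Agent.Lib.NagataSmoothDescent96.finite_integralClosure_of_essFiniteType hNag _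

end

end Groth.Agent.Lib.EssEtaleNormColon61
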