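import Mathlib
import Groth.Prelude.Def_EssEt
import Groth.Prelude.Def_EGA4b
import Groth.Agent.Lib.EssEtaleNormColon61
import Groth.Agent.Lib.ArtinTateEss61

/-!
# Essential finite type from a semilocal normalization (helper61)

Setting of S16449: `A` excellent reduced local, `E` essentially étale local over `A`, `D ⊆ E` a local
`A`-subalgebra dominated by `E`, `D'` the normalization of `D` inside `Frac E`.  If every maximal
ideal of `D'` is the contraction of a maximal ideal of the normalization of `E` and there are
finitely many of them, then `D` is essentially of finite type over `A`.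
-/

set_option autoImplicit false
universe u

namespace Groth.Agent.Lib.EssFTNormSemilocal61

open IsLocalRing

section

variable (A E : Type u) [CommRing A] [CommRing E] [Algebra A E]

/-- `D[1/nzd A]` inside `Frac E`. -/
def fracSub (D : Subalgebra A E) : Subalgebra A (FractionRing E) where
  carrier := {x | ∃ a ∈ nonZeroDivisors A, ∃ d ∈ D,
    algebraMap A (FractionRing E) a * x = algebraMap E (FractionRing E) d}
  mul_mem' := by
    rintro x₁ x₂ ⟨a₁, ha₁, d₁, hd₁, h₁⟩ ⟨a₂, ha₂, d₂, hd₂, h₂⟩
    refine ⟨a₁ * a₂, Submonoid.mul_mem _ ha₁ ha₂, d₁ * d₂, D.mul_mem hd₁ hd₂, ?_⟩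
    rw [map_mul, map_mul, ← h₁, ← h₂]; ring
  add_mem' := by
    rintro x₁ x₂ ⟨a₁, ha₁, d₁, hd₁, h₁⟩ ⟨a₂, ha₂, d₂, hd₂, h₂⟩
    refine ⟨a₁ * a₂, Submonoid.mul_mem _ ha₁ ha₂, algebraMap A E a₂ * d₁ + algebraMap A E a₁ * d₂,
      D.add_mem (D.mul_mem (D.algebraMap_mem _) hd₁) (D.mul_mem (D.algebraMap_mem _) hd₂), ?_⟩
    rw [map_add, map_mul, map_mul, map_mul, ← h₁, ← h₂,
      ← IsScalarTower.algebraMap_apply A E (FractionRing E),
      ← IsScalarTower.algebraMap_apply A E (FractionRing E)]
    ring
  algebraMap_mem' := by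
    intro r
    refine ⟨1, Submonoid.one_mem _, algebraMap A E r, D.algebraMap_mem r, ?_⟩
    rw [map_one, one_mul, ← IsScalarTower.algebraMap_apply A E (FractionRing E)]

theorem mem_fracSub (D : Subalgebra A E) (x : FractionRing E) :
    x ∈ fracSub A E D ↔ ∃ a ∈ nonZeroDivisors A, ∃ d ∈ D,
      algebraMap A (FractionRing E) a * x = algebraMap E (FractionRing E) d := Iff.rfl

end

section main

variable (A E : Type u) [CommRing A] [IsLocalRing A] [IsReduced A]
  [CommRing E] [IsLocalRing E] [Algebra A E] [IsLocalHom (algebraMap A E)]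

theorem essFiniteType_of_semilocal (hA : EGA4.IsExcellent A)
    (hE : EGA4loc.IsEssentiallyEtale A E)
    (D : Subalgebra A E) [IsLocalRing D]
    (D' : Subalgebra A (FractionRing E))
    (hD' : ∀ x : (FractionRing E), x ∈ D' ↔ (IsIntegral D x ∧
      ∃ a ∈ nonZeroDivisors A, ∃ d ∈ D,
        algebraMap A (FractionRing E) a * x = algebraMap E (FractionRing E) d))
    (hle : D' ≤ ((integralClosure E (FractionRing E)).restrictScalars A))
    (hfin : {N : Ideal D' | N.IsMaximal}.Finite)
    (hsurj : ∀ N : Ideal D', N.IsMaximal →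
      ∃ M : Ideal ((integralClosure E (FractionRing E)).restrictScalars A),
        M.IsMaximal ∧ M.comap (Subalgebra.inclusion hle) = N) :
    Algebra.EssFiniteType A D := by
  classical
  have hAN : IsNoetherianRing A := hA.1
  obtain ⟨hft, hfe, hflat⟩ := Groth.Agent.Lib.FracEssEtale6.instances_of_essEtale A E hE
  have hmin : (minimalPrimes A).Finite := minimalPrimes.finite_of_isNoetherianRing A
  obtain ⟨hloc, -⟩ := Groth.Agent.Lib.FracEssEtale6.main E hmin
  have hunits : ∀ s : nonZeroDivisors A, IsUnit (algebraMap A (FractionRing E) s) := by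
    intro s
    rw [IsScalarTower.algebraMap_apply A E (FractionRing E)]
    exact IsLocalization.map_units (FractionRing E)
      (⟨algebraMap A E s, Submonoid.mem_map_of_mem _ s.2⟩ :
        (nonZeroDivisors A).map (algebraMap A E))
  -- the subalgebra `LD`
  obtain ⟨LD, hLDdef⟩ : ∃ LD : Subalgebra A (FractionRing E), LD = fracSub A E D := ⟨_, rfl⟩
  have hLDmem : ∀ x : FractionRing E, x ∈ LD ↔ ∃ a ∈ nonZeroDivisors A, ∃ d ∈ D,
      algebraMap A (FractionRing E) a * x = algebraMap E (FractionRing E) d := by
    intro x; rw [hLDdef]; exact mem_fracSub A E D x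
  have hLD : ∀ s ∈ nonZeroDivisors A, ∃ y ∈ LD, algebraMap A (FractionRing E) s * y = 1 := by
    intro s hs
    obtain ⟨u, hu⟩ := hunits ⟨s, hs⟩
    refine ⟨((u⁻¹ : (FractionRing E)ˣ) : FractionRing E), ?_, ?_⟩
    · rw [hLDmem]
      refine ⟨s, hs, 1, D.one_mem, ?_⟩
      rw [map_one]
      show algebraMap A (FractionRing E) s * _ = 1
      rw [← show (u : FractionRing E) = algebraMap A (FractionRing E) s from hu]
      exact Units.mul_inv u
    · rw [← show (u : FractionRing E) = algebraMap A (FractionRing E) s from hu]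
      exact Units.mul_inv u
  have hD'mem : ∀ x : FractionRing E, x ∈ D' ↔ IsIntegral D x ∧ x ∈ LD := by
    intro x; rw [hD', hLDmem]
  -- the map `D → D'`
  have hDD' : ∀ d : D, algebraMap E (FractionRing E) d ∈ D' := by
    intro d
    rw [hD']
    refine ⟨isIntegral_algebraMap (R := D) (A := FractionRing E) (x := d), 1,
      Submonoid.one_mem _, d, d.2, ?_⟩
    rw [map_one, one_mul]
  let ι : D →ₐ[A] D' :=
    AlgHom.codRestrict ((IsScalarTower.toAlgHom A E (FractionRing E)).comp D.val) D' hDD'
  have hι : ∀ d : D, ((ι d : D') : FractionRing E) = algebraMap E (FractionRing E) d :=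
    fun d => rfl
  let _ : Algebra D D' := ι.toRingHom.toAlgebra
  have hst1 : IsScalarTower A D D' := IsScalarTower.of_algebraMap_eq fun a => (ι.commutes a).symm
  have hst2 : IsScalarTower D D' (FractionRing E) := IsScalarTower.of_algebraMap_eq fun d => rfl
  have hinj : Function.Injective (algebraMap D D') := by
    intro d₁ d₂ h
    have h1 : algebraMap E (FractionRing E) d₁ = algebraMap E (FractionRing E) d₂ := by
      rw [← hι, ← hι]; exact congrArg (fun z : D' => (z : FractionRing E)) h
    exact Subtype.ext (IsFractionRing.injective E (FractionRing E) h1)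
  have hint : Algebra.IsIntegral D D' := ⟨fun x' => by
    have h1 : IsIntegral D (x' : FractionRing E) := ((hD'mem _).mp x'.2).1
    exact (isIntegral_algHom_iff (IsScalarTower.toAlgHom D D' (FractionRing E))
      Subtype.val_injective).mp h1⟩
  -- the finite subalgebra `B`
  obtain ⟨B, hBdef⟩ : ∃ B : Subalgebra A D', B = integralClosure A D' := ⟨_, rfl⟩
  have hBmem : ∀ z : D', z ∈ B ↔ IsIntegral A (z : FractionRing E) := by
    intro z
    rw [hBdef, mem_integralClosure_iff]
    exact (isIntegral_algHom_iff D'.val Subtype.val_injective).symm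
  have hfinIC : Module.Finite A (integralClosure A (FractionRing E)) :=
    Groth.Agent.Lib.EssEtaleNormColon61.finite_integralClosure A E hA hE
  have hBfin : Module.Finite A B := by
    let j : B →ₗ[A] integralClosure A (FractionRing E) :=
      { toFun := fun b => ⟨((b : D') : FractionRing E), (hBmem b).mp b.2⟩
        map_add' := fun _ _ => rfl
        map_smul' := fun _ _ => rfl }
    have hj : Function.Injective j := by
      intro b₁ b₂ h
      have : ((b₁ : D') : FractionRing E) = ((b₂ : D') : FractionRing E) :=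
        congrArg (fun z : integralClosure A (FractionRing E) => (z : FractionRing E)) h
      exact Subtype.ext (Subtype.ext this)
    have : IsNoetherian A (integralClosure A (FractionRing E)) :=
      isNoetherian_of_isNoetherianRing_of_finite _ _
    exact Module.Finite.of_injective j hj
  -- elements of `S` give elements of `B`
  have hS : ∀ t : FractionRing E, t ∈ LD → IsIntegral A t → ∃ ht : t ∈ D', (⟨t, ht⟩ : D') ∈ B := by
    intro t htLD htint
    have ht : t ∈ D' := (hD'mem t).mpr ⟨htint.tower_top, htLD⟩
    exact ⟨ht, (hBmem _).mpr htint⟩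
  -- the key property
  have H : ∀ x' : D', ∃ t ∈ B, IsUnit t ∧ t * x' ∈ B := by
    intro x'
    have hxLD : (x' : FractionRing E) ∈ LD := ((hD'mem _).mp x'.2).2
    have hxint : IsIntegral E (x' : FractionRing E) := hle x'.2
    have h1 := Groth.Agent.Lib.EssEtaleNormColon61.one_mem_span_of_essEtale A E hE LD hLD
      (x' : FractionRing E) hxLD hxint
    -- the colon ideal
    let I : Ideal B :=
      { carrier := {t | (t : D') * x' ∈ B}
        add_mem' := fun {t₁ t₂} h₁ h₂ => by
          show ((t₁ + t₂ : B) : D') * x' ∈ B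
          rw [Subalgebra.coe_add, add_mul]; exact B.add_mem h₁ h₂
        zero_mem' := by
          show ((0 : B) : D') * x' ∈ B
          rw [Subalgebra.coe_zero, zero_mul]; exact B.zero_mem
        smul_mem' := fun c t ht => by
          show ((c * t : B) : D') * x' ∈ B
          rw [Subalgebra.coe_mul, mul_assoc]; exact B.mul_mem c.2 ht }
    have hI : ∀ N : Ideal D', N.IsMaximal → ¬ I ≤ N.comap B.val := by
      intro N hN hIN
      obtain ⟨M, hM, hMN⟩ := hsurj N hN
      have hp : ∀ z ∈ Submodule.span E {t : FractionRing E | t ∈ LD ∧ IsIntegral A t ∧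
          IsIntegral A (t * (x' : FractionRing E))},
          ∃ hz : z ∈ integralClosure E (FractionRing E),
            (⟨z, hz⟩ : ((integralClosure E (FractionRing E)).restrictScalars A)) ∈ M := by
        intro z hz
        induction hz using Submodule.span_induction with
        | mem t ht =>
          obtain ⟨htLD, htint, htxint⟩ := ht
          obtain ⟨htD', htB⟩ := hS t htLD htint
          have htI : (⟨⟨t, htD'⟩, htB⟩ : B) ∈ I := by
            show (⟨t, htD'⟩ : D') * x' ∈ B
            rw [hBmem]
            exact htxint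
          have htN : (⟨t, htD'⟩ : D') ∈ N := hIN htI
          rw [← hMN] at htN
          exact ⟨hle htD', htN⟩
        | zero => exact ⟨Subalgebra.zero_mem _, M.zero_mem⟩
        | add z₁ z₂ _ _ h₁ h₂ =>
          obtain ⟨hz₁, hm₁⟩ := h₁
          obtain ⟨hz₂, hm₂⟩ := h₂
          exact ⟨Subalgebra.add_mem _ hz₁ hz₂, M.add_mem hm₁ hm₂⟩
        | smul e z _ h₁ =>
          obtain ⟨hz₁, hm₁⟩ := h₁
          refine ⟨Subalgebra.smul_mem _ hz₁ e, ?_⟩
          have : (⟨e • z, Subalgebra.smul_mem _ hz₁ e⟩ :
              ((integralClosure E (FractionRing E)).restrictScalars A)) =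
              (⟨algebraMap E (FractionRing E) e, Subalgebra.algebraMap_mem _ e⟩ :
                ((integralClosure E (FractionRing E)).restrictScalars A)) * ⟨z, hz₁⟩ := by
            apply Subtype.ext
            show e • z = algebraMap E (FractionRing E) e * z
            rw [Algebra.smul_def]
          rw [this]
          exact M.mul_mem_left _ hm₁
      obtain ⟨h1', h1M⟩ := hp 1 h1
      have : (1 : ((integralClosure E (FractionRing E)).restrictScalars A)) ∈ M := h1M
      exact hM.ne_top ((Ideal.eq_top_iff_one M).mpr this)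
    -- prime avoidance
    have hne : ¬ ((I : Set B) ⊆ ⋃ N ∈ (hfin.toFinset : Set (Ideal D')), (N.comap B.val : Set B)) := by
      intro hsub
      have hp : ∀ N ∈ hfin.toFinset, N ≠ ⊥ → N ≠ ⊥ → (N.comap B.val).IsPrime := by
        intro N hN _ _
        have : N.IsMaximal := hfin.mem_toFinset.mp hN
        have : N.IsPrime := this.isPrime
        exact Ideal.comap_isPrime _ _
      let f : Ideal D' → Ideal B := fun N => N.comap B.val
      have key := Ideal.subset_union_prime (R := B) (s := hfin.toFinset) (f := f) ⊥ ⊥ hp (I := I)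
      obtain ⟨N, hN, hIN⟩ := key.mp hsub
      exact hI N (hfin.mem_toFinset.mp hN) hIN
    obtain ⟨t, htI, htU⟩ := Set.not_subset.mp hne
    refine ⟨(t : D'), t.2, ?_, htI⟩
    by_contra hnu
    obtain ⟨N, hNmax, hNt⟩ := exists_max_ideal_of_mem_nonunits (mem_nonunits_iff.mpr hnu)
    apply htU
    simp only [Set.mem_iUnion]
    exact ⟨N, Finset.mem_coe.mpr (hfin.mem_toFinset.mpr hNmax), hNt⟩
  exact Groth.Agent.Lib.ArtinTateEss61.essFiniteType_of_integral A D D' hinj B H

end main

end Groth.Agent.Lib.EssFTNormSemilocal61
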