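import Mathlib

/-!
# Essentially finite type algebras between local rings (helper99)

`exists_localization_atPrime` (Stacks-type presentation): for local rings `R`, `S` and `R → S`
essentially of finite type (not necessarily local), there are `n`, a maximal ideal `m` of
`R[x_1, …, x_n]` over `m_R` and `φ : R[x]_m →ₐ[R] S` such that `S` is a localization of the image.
The generators are re-chosen using a valuation ring of the residue field of `S` dominating the
image of `R`.
-/

set_option autoImplicit false
universe u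

namespace Groth.Agent.Lib.EssFinLocal99

open IsLocalRing

/-- A ring which is "fractions with denominators units" over a subalgebra is a localization of it. -/
theorem isLocalization_of_forall {R S : Type*} [CommRing R] [CommRing S] [Algebra R S]
    (A' : Subalgebra R S) (h : ∀ s : S, ∃ t ∈ A', IsUnit t ∧ s * t ∈ A') :
    IsLocalization ((IsUnit.submonoid S).comap (algebraMap A' S)) S := by
  constructor; constructor
  · exact fun y ↦ y.prop
  · intro s
    obtain ⟨t, ht, ht', h⟩ := h s
    exact ⟨⟨⟨_, h⟩, ⟨t, ht⟩, ht'⟩, rfl⟩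
  · intro x y e
    exact ⟨1, by simpa using Subtype.ext e⟩

theorem exists_localization_atPrime {R S : Type u} [CommRing R] [CommRing S] [Algebra R S]
    [IsLocalRing R] [IsLocalRing S] [Algebra.EssFiniteType R S] :
    ∃ (n : ℕ) (m : Ideal (MvPolynomial (Fin n) R)) (_ : m.IsMaximal),
      m.under R = IsLocalRing.maximalIdeal R ∧
      ∃ (φ : Localization.AtPrime m →ₐ[R] S) (T : Submonoid φ.range), IsLocalization T S := by
  classical
  obtain ⟨σ, hσ⟩ := (Algebra.essFiniteType_iff R S).mp inferInstance
  -- index the generators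
  let k := σ.card
  let s : Fin k → S := fun i => (σ.equivFin.symm i : S)
  have hs : ∀ a ∈ σ, ∃ i, s i = a := by
    intro a ha
    exact ⟨σ.equivFin ⟨a, ha⟩, by simp [s]⟩
  let s' : Fin (k + 1) → S := Fin.cons 1 s
  let res : S →+* ResidueField S := residue S
  let f : R →+* ResidueField S := res.comp (algebraMap R S)
  obtain ⟨V, hV, hloc⟩ := IsLocalRing.exists_factor_valuationRing f
  let v := V.valuation
  obtain ⟨i₀, -, hi₀⟩ := Finset.exists_max_image Finset.univ (fun i => v (res (s' i)))
    ⟨0, Finset.mem_univ _⟩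
  have h1 : (1 : V.ValueGroup) ≤ v (res (s' i₀)) := by
    have := hi₀ 0 (Finset.mem_univ _)
    simpa [s'] using this
  have hne : res (s' i₀) ≠ 0 := by
    intro h0
    rw [h0, map_zero] at h1
    exact absurd h1 (by simp)
  have hu : IsUnit (s' i₀) := by
    rw [← IsLocalRing.notMem_maximalIdeal]
    intro hmem
    exact hne ((IsLocalRing.residue_eq_zero_iff _).mpr hmem)
  let u : S := ↑hu.unit⁻¹
  have hu_mul : s' i₀ * u = 1 := hu.mul_val_inv
  have huu : IsUnit u := ⟨hu.unit⁻¹, rfl⟩
  let g : Fin (k + 1) → S := fun j => s' j * u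
  have hgV : ∀ j, res (g j) ∈ V := by
    intro j
    rw [← V.valuation_le_one_iff]
    have hres : res (s' i₀) * res u = 1 := by rw [← map_mul, hu_mul, map_one]
    have hvu : v (res (s' i₀)) * v (res u) = 1 := by rw [← map_mul, hres, map_one]
    have hle := hi₀ j (Finset.mem_univ _)
    calc V.valuation (res (g j)) = v (res (s' j)) * v (res u) := by
          simp only [g, map_mul, v]
      _ ≤ v (res (s' i₀)) * v (res u) := by gcongr
      _ = 1 := hvu
  let ψ : MvPolynomial (Fin (k + 1)) R →ₐ[R] S := MvPolynomial.aeval g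
  have hψV : ∀ p, res (ψ p) ∈ V.toSubring := by
    intro p
    induction p using MvPolynomial.induction_on with
    | C r =>
      have : ψ (MvPolynomial.C r) = algebraMap R S r := by simp [ψ]
      rw [this]
      exact hV r
    | add p q hp hq =>
      rw [map_add, map_add]
      exact V.toSubring.add_mem hp hq
    | mul_X p j hp =>
      rw [map_mul, map_mul]
      refine V.toSubring.mul_mem hp ?_
      have : ψ (MvPolynomial.X j) = g j := by simp [ψ]
      rw [this]
      exact hgV j
  let ρ : MvPolynomial (Fin (k + 1)) R →+* V.toSubring :=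
    (res.comp ψ.toRingHom).codRestrict V.toSubring hψV
  have hρ : ∀ p, ((ρ p : V.toSubring) : ResidueField S) = res (ψ p) := fun p => rfl
  have : IsLocalRing V.toSubring := (inferInstance : IsLocalRing V)
  let q' : Ideal (MvPolynomial (Fin (k + 1)) R) := Ideal.comap ρ (maximalIdeal V.toSubring)
  have hq'prime : q'.IsPrime := Ideal.comap_isPrime ρ _
  obtain ⟨m, hm, hq'm⟩ := Ideal.exists_le_maximal q' hq'prime.ne_top
  -- elements mapping into `m_S` are in `q'`
  have hq : ∀ p, ψ p ∈ maximalIdeal S → p ∈ q' := by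
    intro p hp
    have h0 : ρ p = 0 := by
      apply Subtype.ext
      rw [hρ]
      exact (IsLocalRing.residue_eq_zero_iff _).mpr hp
    change ρ p ∈ maximalIdeal V.toSubring
    rw [h0]
    exact zero_mem _
  -- `m` lies over `m_R`
  have hmR : maximalIdeal R ≤ m.under R := by
    intro r hr
    change MvPolynomial.C r ∈ m
    apply hq'm
    change ρ (MvPolynomial.C r) ∈ maximalIdeal V.toSubring
    have e : ρ (MvPolynomial.C r) = f.codRestrict V.toSubring hV r := by
      apply Subtype.ext
      rw [hρ]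
      have : ψ (MvPolynomial.C r) = algebraMap R S r := by simp [ψ]
      rw [this]
      rfl
    rw [e, IsLocalRing.mem_maximalIdeal, mem_nonunits_iff]
    intro hunit
    have := hloc.map_nonunit r hunit
    exact (IsLocalRing.mem_maximalIdeal r).mp hr this
  have hunder : m.under R = maximalIdeal R := by
    have hne : m.under R ≠ ⊤ := Ideal.comap_ne_top _ hm.ne_top
    exact ((IsLocalRing.maximalIdeal.isMaximal R).eq_of_le hne hmR).symm
  have hunits : ∀ y : m.primeCompl, IsUnit (ψ y) := by
    intro y
    rw [← IsLocalRing.notMem_maximalIdeal]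
    intro hy
    exact y.2 (hq'm (hq y hy))
  let φ : Localization.AtPrime m →ₐ[R] S := IsLocalization.liftAlgHom (M := m.primeCompl) hunits
  have hφ : ∀ p, φ (algebraMap _ _ p) = ψ p := fun p => IsLocalization.lift_eq _ p
  have hrange : ∀ p, ψ p ∈ φ.range := fun p => ⟨algebraMap _ _ p, hφ p⟩
  have hu_mem : u ∈ φ.range := by
    have : ψ (MvPolynomial.X 0) = u := by simp [ψ, g, s']
    rw [← this]
    exact hrange _
  -- every element of `R[σ]` is `u^{-D}` times an element of the new subalgebra
  have key : ∀ a ∈ Algebra.adjoin R (σ : Set S), ∃ D : ℕ, a * u ^ D ∈ φ.range := by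
    intro a ha
    induction ha using Algebra.adjoin_induction with
    | mem a ha =>
      obtain ⟨i, rfl⟩ := hs a ha
      refine ⟨1, ?_⟩
      have : ψ (MvPolynomial.X i.succ) = s i * u ^ 1 := by simp [ψ, g, s']
      rw [← this]
      exact hrange _
    | algebraMap r =>
      exact ⟨0, by simp⟩
    | add a b _ _ ha hb =>
      obtain ⟨D₁, h₁⟩ := ha
      obtain ⟨D₂, h₂⟩ := hb
      refine ⟨D₁ + D₂, ?_⟩
      have : (a + b) * u ^ (D₁ + D₂) = a * u ^ D₁ * u ^ D₂ + b * u ^ D₂ * u ^ D₁ := by ring
      rw [this]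
      exact add_mem (mul_mem h₁ (pow_mem hu_mem _)) (mul_mem h₂ (pow_mem hu_mem _))
    | mul a b _ _ ha hb =>
      obtain ⟨D₁, h₁⟩ := ha
      obtain ⟨D₂, h₂⟩ := hb
      refine ⟨D₁ + D₂, ?_⟩
      have : (a * b) * u ^ (D₁ + D₂) = (a * u ^ D₁) * (b * u ^ D₂) := by ring
      rw [this]
      exact mul_mem h₁ h₂
  refine ⟨k + 1, m, hm, hunder, φ, (IsUnit.submonoid S).comap (algebraMap φ.range S), ?_⟩
  apply isLocalization_of_forall
  intro z
  obtain ⟨t₀, ht₀, ht₀u, hzt₀⟩ := hσ z
  obtain ⟨D₁, h₁⟩ := key t₀ ht₀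
  obtain ⟨D₂, h₂⟩ := key (z * t₀) hzt₀
  refine ⟨t₀ * u ^ (D₁ + D₂), ?_, ht₀u.mul (huu.pow _), ?_⟩
  · rw [pow_add, ← mul_assoc]
    exact mul_mem h₁ (pow_mem hu_mem _)
  · have : z * (t₀ * u ^ (D₁ + D₂)) = z * t₀ * u ^ D₂ * u ^ D₁ := by ring
    rw [this]
    exact mul_mem h₂ (pow_mem hu_mem _)

end Groth.Agent.Lib.EssFinLocal99
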