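import Mathlib

/-!
# Affine communication for essentially-of-finite-type charts (helper37)

`exists_affine_essFiniteType`: if `Γ(Y,U₁) → Γ(X,V)` is essentially of finite type (`V ≤ f⁻¹U₁` affine
opens) and `x ∈ V` maps into another affine open `U`, then there is an affine open `V' ∋ x`,
`V' ≤ f⁻¹U`, with `Γ(Y,U) → Γ(X,V')` essentially of finite type.
-/

set_option autoImplicit false
universe u
open CategoryTheory AlgebraicGeometry

namespace Groth.Agent.Lib.EssFiniteTypeLocal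

lemma essFiniteType_of_isLocalization_away {R S : CommRingCat.{u}} (φ : R ⟶ S) (r : R)
    (h : @IsLocalization.Away _ _ r S _ φ.hom.toAlgebra) : φ.hom.EssFiniteType := by
  let := φ.hom.toAlgebra
  have : IsLocalization (Submonoid.powers r) S := h
  exact (Algebra.EssFiniteType.of_isLocalization S (Submonoid.powers r) :
    Algebra.EssFiniteType R S)

theorem exists_affine_essFiniteType {X Y : Scheme.{u}} (f : X ⟶ Y) {U U₁ : Y.Opens}
    (hU : IsAffineOpen U) (hU₁ : IsAffineOpen U₁) {V : X.Opens} (hV : IsAffineOpen V)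
    (e : V ≤ f ⁻¹ᵁ U₁) (h : (f.appLE U₁ V e).hom.EssFiniteType)
    (x : X) (hxV : x ∈ V) (hxU : f x ∈ U) :
    ∃ (V' : X.Opens) (_ : IsAffineOpen V') (e' : V' ≤ f ⁻¹ᵁ U), x ∈ V' ∧
      (f.appLE U V' e').hom.EssFiniteType := by
  obtain ⟨a, a₁, hab, hx⟩ := exists_basicOpen_le_affine_inter hU hU₁ (f x) ⟨hxU, e hxV⟩
  set D : Y.Opens := Y.basicOpen a₁ with hD
  have hDU₁ : D ≤ U₁ := Y.basicOpen_le a₁
  have hDU : D ≤ U := hab ▸ Y.basicOpen_le a
  set b := (f.appLE U₁ V e).hom a₁ with hb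
  set V' : X.Opens := X.basicOpen b with hV'
  have hV'V : V' ≤ V := X.basicOpen_le b
  have hV'eq : V' = V ⊓ f ⁻¹ᵁ D := Scheme.basicOpen_appLE f V U₁ e a₁
  have hV'D : V' ≤ f ⁻¹ᵁ D := hV'eq ▸ inf_le_right
  have hxV' : x ∈ V' := by
    rw [hV'eq]
    exact ⟨hxV, (hab ▸ hx : f x ∈ D)⟩
  refine ⟨V', hV.basicOpen b, hV'D.trans (f.preimage_mono hDU), hxV', ?_⟩
  -- the three maps
  have h1 : (Y.presheaf.map (homOfLE hDU).op).hom.EssFiniteType :=
    essFiniteType_of_isLocalization_away _ a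
      (hU.isLocalization_of_eq_basicOpen a (homOfLE hDU) hab.symm)
  have h2 : (X.presheaf.map (homOfLE hV'V).op).hom.EssFiniteType :=
    essFiniteType_of_isLocalization_away _ b
      (hV.isLocalization_of_eq_basicOpen b (homOfLE hV'V) rfl)
  have h3 : (f.appLE D V' hV'D).hom.EssFiniteType := by
    have h4 : (Y.presheaf.map (homOfLE hDU₁).op ≫ f.appLE D V' hV'D).hom.EssFiniteType := by
      rw [Scheme.Hom.map_appLE]
      have : f.appLE U₁ V' (hV'V.trans e) = f.appLE U₁ V e ≫ X.presheaf.map (homOfLE hV'V).op :=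
        (Scheme.Hom.appLE_map f e (homOfLE hV'V).op).symm
      rw [this, CommRingCat.hom_comp]
      exact h.comp h2
    rw [CommRingCat.hom_comp] at h4
    exact RingHom.EssFiniteType.of_comp _ h4
  have h5 : f.appLE U V' (hV'D.trans (f.preimage_mono hDU)) =
      Y.presheaf.map (homOfLE hDU).op ≫ f.appLE D V' hV'D := (Scheme.Hom.map_appLE f hV'D _).symm
  rw [h5, CommRingCat.hom_comp]
  exact h1.comp h3

/-- affine opens cover (as a union over the universal set of affine opens). -/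
lemma iUnion_affineOpens_univ (Y : Scheme.{u}) :
    (⋃ U ∈ (Set.univ : Set Y.affineOpens), ((U : Y.Opens) : Set ↥Y)) = Set.univ := by
  apply Set.eq_univ_of_forall
  intro y
  obtain ⟨_, ⟨V, hV, rfl⟩, hyV, -⟩ :=
    Y.isBasis_affineOpens.exists_subset_of_mem_open (Set.mem_univ y) isOpen_univ
  simp only [Set.mem_iUnion]
  exact ⟨⟨V, hV⟩, Set.mem_univ _, hyV⟩

/-- The main direction: a local-on-a-cover description gives, for every affine open `U`,
that the family of *all* good affine opens covers `f⁻¹U`. -/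
theorem good_cover_of_exists {X Y : Scheme.{u}} (f : X ⟶ Y)
    (h : ∃ S : Set Y.affineOpens, (⋃ U ∈ S, ((U : Y.Opens) : Set ↥Y)) = Set.univ ∧
      ∀ U ∈ S, ∃ T : Set X.affineOpens,
        (⋃ V ∈ T, ((V : X.Opens) : Set ↥X)) = ((f ⁻¹ᵁ (U : Y.Opens)) : Set ↥X) ∧
        ∀ V ∈ T, ∃ e : (V : X.Opens) ≤ f ⁻¹ᵁ (U : Y.Opens),
          (f.appLE (U : Y.Opens) (V : X.Opens) e).hom.EssFiniteType)
    (U : Y.affineOpens) :
    (⋃ V ∈ {V : X.affineOpens | ∃ e : (V : X.Opens) ≤ f ⁻¹ᵁ (U : Y.Opens),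
        (f.appLE (U : Y.Opens) (V : X.Opens) e).hom.EssFiniteType}, ((V : X.Opens) : Set ↥X)) =
      ((f ⁻¹ᵁ (U : Y.Opens)) : Set ↥X) := by
  obtain ⟨S, hS, hST⟩ := h
  apply Set.Subset.antisymm
  · intro x hx
    simp only [Set.mem_iUnion] at hx
    obtain ⟨V, ⟨e, _⟩, hxV⟩ := hx
    exact e hxV
  · intro x hx
    have hfx : f x ∈ (⋃ U ∈ S, ((U : Y.Opens) : Set ↥Y)) := hS ▸ Set.mem_univ _
    simp only [Set.mem_iUnion] at hfx
    obtain ⟨U₁, hU₁S, hfxU₁⟩ := hfx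
    obtain ⟨T, hT, hTV⟩ := hST U₁ hU₁S
    have hx1 : x ∈ ((f ⁻¹ᵁ (U₁ : Y.Opens)) : Set ↥X) := hfxU₁
    rw [← hT] at hx1
    simp only [Set.mem_iUnion] at hx1
    obtain ⟨V, hVT, hxV⟩ := hx1
    obtain ⟨e, he⟩ := hTV V hVT
    obtain ⟨V', hV', e', hxV', h'⟩ :=
      exists_affine_essFiniteType f U.2 U₁.2 V.2 e he x hxV hx
    simp only [Set.mem_iUnion]
    exact ⟨⟨V', hV'⟩, ⟨e', h'⟩, hxV'⟩

end Groth.Agent.Lib.EssFiniteTypeLocal
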