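import Groth.Agent.Lib.HznWeaklyEtale96
import Mathlib.RingTheory.Flat.EquationalCriterion

/-!
# Flatness over a weakly étale algebra (helper61)

`flat_of_weaklyEtale`: if `A → B` is weakly étale and `M` is a `B`-module which is flat over `A`,
then `M` is flat over `B` (Stacks 092C-type statement, proved with the equational criterion).
-/

namespace Groth.Agent.Lib.WeaklyEtaleFlat61

open TensorProduct
open Groth.Agent.Lib.StepWeaklyEtale96 Groth.Agent.Lib.HznWeaklyEtale96

section

variable {A B M : Type*} [CommRing A] [CommRing B] [Algebra A B] [AddCommGroup M] [Module A M]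
  [Module B M] [IsScalarTower A B M]

/-- `p ⊗ q ↦ p ⊗ q • x`. -/
noncomputable def Φ (x : M) : B ⊗[A] B →ₗ[B] B ⊗[A] M :=
  TensorProduct.AlgebraTensorModule.map (LinearMap.id : B →ₗ[B] B)
    ((LinearMap.toSpanSingleton B M x).restrictScalars A)

@[simp] theorem Φ_tmul (x : M) (p q : B) : Φ (A := A) x (p ⊗ₜ[A] q) = p ⊗ₜ[A] (q • x) := by
  simp [Φ]

theorem Φ_mul_right (x : M) (f : B) (c : B ⊗[A] B) :
    Φ (A := A) x (c * ((1 : B) ⊗ₜ[A] f)) = Φ (A := A) (f • x) c := by
  induction c using TensorProduct.induction_on with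
  | zero => simp
  | tmul p q => simp [Algebra.TensorProduct.tmul_mul_tmul, mul_smul]
  | add a b ha hb => simp only [add_mul, map_add, ha, hb]

theorem Φ_sum {ι : Type*} (s : Finset ι) (z : ι → M) (c : B ⊗[A] B) :
    Φ (A := A) (∑ i ∈ s, z i) c = ∑ i ∈ s, Φ (A := A) (z i) c := by
  induction c using TensorProduct.induction_on with
  | zero => simp
  | tmul p q => simp [Finset.smul_sum, TensorProduct.tmul_sum]
  | add a b ha hb => simp only [map_add, ha, hb, Finset.sum_add_distrib]

theorem Φ_zero (c : B ⊗[A] B) : Φ (A := A) (0 : M) c = 0 := by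
  induction c using TensorProduct.induction_on with
  | zero => simp
  | tmul p q => simp
  | add a b ha hb => simp only [map_add, ha, hb, add_zero]

end

/-- A module over a weakly étale `A`-algebra `B` which is flat over `A` is flat over `B`. -/
theorem flat_of_weaklyEtale (A B M : Type*) [CommRing A] [CommRing B] [Algebra A B]
    [AddCommGroup M] [Module A M] [Module B M] [IsScalarTower A B M] [Algebra.WeaklyEtale A B]
    [Module.Flat A M] : Module.Flat B M := by
  classical
  apply Module.Flat.of_forall_isTrivialRelation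
  intro l f x hfx
  -- Step A: an element `c₁` with `μ c₁ = 1` and `c₁ (1 ⊗ f i) = c₁ (f i ⊗ 1)`.
  have hK : ∀ i, Killed A (f i) := fun i => killed_of_weaklyEtale (A := A) (f i)
  choose c hc hc0 using hK
  have hu : IsUnit (Algebra.TensorProduct.lmul' A (S := B) (∏ i, c i)) := by
    rw [map_prod]
    exact IsUnit.prod_univ_iff.mpr hc
  have hc₀ : ∀ i, (∏ j, c j) * ((1 : B) ⊗ₜ[A] f i - f i ⊗ₜ[A] (1 : B)) = 0 := by
    intro i
    rw [← Finset.mul_prod_erase _ _ (Finset.mem_univ i), mul_right_comm, hc0, zero_mul]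
  obtain ⟨u, hu⟩ := hu
  set c₁ : B ⊗[A] B := (∏ j, c j) * ((↑u⁻¹ : B) ⊗ₜ[A] (1 : B)) with hc₁def
  have h1 : Algebra.TensorProduct.lmul' A (S := B) c₁ = 1 := by
    rw [hc₁def, map_mul, ← hu]
    simp
  have hc₁ : ∀ i, c₁ * ((1 : B) ⊗ₜ[A] f i) = f i • c₁ := by
    intro i
    have h := hc₀ i
    rw [mul_sub, sub_eq_zero] at h
    rw [hc₁def, mul_right_comm, h, Algebra.smul_def, Algebra.TensorProduct.algebraMap_apply]
    simp only [Algebra.algebraMap_self, RingHom.id_apply]
    ring
  -- the key vanishing in `B ⊗[A] M`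
  have hkey : ∑ i, f i • Φ (A := A) (x i) c₁ = 0 := by
    have h2 : ∀ i, f i • Φ (A := A) (x i) c₁ = Φ (A := A) (f i • x i) c₁ := by
      intro i
      rw [← map_smul, ← hc₁ i, Φ_mul_right]
    rw [Finset.sum_congr rfl (fun i _ => h2 i), ← Φ_sum, hfx, Φ_zero]
  -- Step B: write `c₁` as a finite sum of pure tensors
  obtain ⟨S, hS⟩ := TensorProduct.exists_finset c₁
  have hΦ : ∀ z : M, Φ (A := A) z c₁ = ∑ s ∈ S, s.1 ⊗ₜ[A] (s.2 • z) := by
    intro z
    rw [hS, map_sum]
    exact Finset.sum_congr rfl fun s _ => Φ_tmul z s.1 s.2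
  have hμ : ∑ s ∈ S, s.1 * s.2 = (1 : B) := by
    rw [← h1, hS, map_sum]
    exact Finset.sum_congr rfl fun s _ => (Algebra.TensorProduct.lmul'_apply_tmul _ _).symm
  -- Step C: the relation over `A`
  let m : Fin l × S → B := fun p => f p.1 * p.2.1.1
  let n : Fin l × S → M := fun p => p.2.1.2 • x p.1
  have hmn : ∑ p, m p ⊗ₜ[A] n p = (0 : B ⊗[A] M) := by
    rw [Fintype.sum_prod_type, ← hkey]
    refine Finset.sum_congr rfl fun i _ => ?_
    rw [hΦ, Finset.smul_sum, ← Finset.sum_coe_sort S]
    refine Finset.sum_congr rfl fun s _ => ?_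
    rw [TensorProduct.smul_tmul', smul_eq_mul]
  have hinj : Function.Injective
      (LinearMap.rTensor M (Submodule.span A (Set.range m)).subtype) :=
    Module.Flat.rTensor_preserves_injective_linearMap _ (Submodule.injective_subtype _)
  obtain ⟨k, a, y, hn, hm⟩ :=
    TensorProduct.vanishesTrivially_of_sum_tmul_eq_zero_of_rTensor_injective A hinj hmn
  -- Step E
  refine ⟨k, fun i j => ∑ s : S, a (i, s) j • s.1.1, y, fun i => ?_, fun j => ?_⟩
  · have h3 : ∀ s : S, s.1.1 • (s.1.2 • x i) = ∑ j, (a (i, s) j • s.1.1) • y j := by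
      intro s
      have := hn (i, s)
      simp only [n] at this
      rw [this, Finset.smul_sum]
      refine Finset.sum_congr rfl fun j _ => ?_
      rw [smul_assoc, smul_comm]
    calc x i = (∑ s ∈ S, s.1 * s.2) • x i := by rw [hμ, one_smul]
      _ = ∑ s : S, s.1.1 • (s.1.2 • x i) := by
          rw [Finset.sum_smul, ← Finset.sum_coe_sort S]
          exact Finset.sum_congr rfl fun s _ => mul_smul _ _ _
      _ = ∑ s : S, ∑ j, (a (i, s) j • s.1.1) • y j := Finset.sum_congr rfl fun s _ => h3 s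
      _ = ∑ j, (∑ s : S, a (i, s) j • s.1.1) • y j := by
          rw [Finset.sum_comm]
          exact Finset.sum_congr rfl fun j _ => (Finset.sum_smul ..).symm
  · have := hm j
    rw [Fintype.sum_prod_type] at this
    rw [← this]
    refine Finset.sum_congr rfl fun i _ => ?_
    rw [Finset.mul_sum]
    refine Finset.sum_congr rfl fun s _ => ?_
    simp only [m]
    rw [mul_smul_comm]

end Groth.Agent.Lib.WeaklyEtaleFlat61
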