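import Mathlib
import Groth.Agent.Lib.WeaklyEtaleFlat61

/-!
# Descent of essential finite type along an essentially étale overring (helper61)

Setting: `A → D → E` ring maps, `D` a Noetherian local ring, `E` a local ring, `D → E` local and
flat, and `E` is the localization of an étale `A`-algebra `C` at a prime `q`.

* `exists_kill`: there is `u : D ⊗[A] C` whose image in `E` is a unit and which kills the kernel
  of `D ⊗[A] C → E` (uses that `D ⊗[A] C` is Noetherian and that `E` is flat over it).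
* `essFiniteType_of_forall_exists_mul_eq`: if moreover, for some finite `Z ⊆ D`, every `d : D`
  satisfies `s * d = b` with `s b ∈ A[Z]`, `s` a non-zero-divisor of `D`, then `D` is essentially
  of finite type over `A`.
-/

set_option autoImplicit false
universe u

namespace Groth.Agent.Lib.EssFiniteTypeSub61

open IsLocalRing TensorProduct

section

variable (A D E C : Type u) [CommRing A] [CommRing D] [CommRing E] [CommRing C]
  [Algebra A D] [Algebra A E] [Algebra D E] [IsScalarTower A D E]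
  [Algebra A C] [Algebra C E] [IsScalarTower A C E]

/-- The canonical map `D ⊗[A] C → E`. -/
noncomputable def pi : D ⊗[A] C →ₐ[D] E :=
  Algebra.TensorProduct.lift (Algebra.ofId D E) (IsScalarTower.toAlgHom A C E)
    (fun _ _ => Commute.all _ _)

@[simp] theorem pi_tmul (d : D) (c : C) :
    pi A D E C (d ⊗ₜ[A] c) = algebraMap D E d * algebraMap C E c := by
  simp [pi, Algebra.ofId_apply]

variable [Algebra.Etale A C] [IsLocalRing E] [Module.Flat D E]

/-- A single element of the kernel of `D ⊗[A] C → E` is killed by an element which becomes a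
unit in `E`. -/
theorem exists_kill_one (x : D ⊗[A] C) (hx : pi A D E C x = 0) :
    ∃ u : D ⊗[A] C, IsUnit (pi A D E C u) ∧ u * x = 0 := by
  let _ : Algebra (D ⊗[A] C) E := (pi A D E C).toRingHom.toAlgebra
  have : IsScalarTower D (D ⊗[A] C) E :=
    IsScalarTower.of_algebraMap_eq fun r => ((pi A D E C).commutes r).symm
  have : Module.Flat (D ⊗[A] C) E :=
    Groth.Agent.Lib.WeaklyEtaleFlat61.flat_of_weaklyEtale D (D ⊗[A] C) E
  have hrel : ∑ i : Fin 1, (fun _ : Fin 1 => x) i • (fun _ : Fin 1 => (1 : E)) i = 0 := by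
    simp only [Finset.univ_unique, Finset.sum_singleton]
    show pi A D E C x * 1 = 0
    rw [hx, zero_mul]
  obtain ⟨k, a, y, h1, h2⟩ := Module.Flat.isTrivialRelation_of_sum_smul_eq_zero
    (R := D ⊗[A] C) (M := E) (f := fun _ : Fin 1 => x) (x := fun _ : Fin 1 => (1 : E)) hrel
  have h1' : (1 : E) = ∑ j, a 0 j • y j := h1 0
  have hex : ∃ j, a 0 j • y j ∉ maximalIdeal E := by
    by_contra hcon
    push Not at hcon
    have : (1 : E) ∈ maximalIdeal E := by
      rw [h1']
      exact Ideal.sum_mem _ fun j _ => hcon j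
    exact (Ideal.ne_top_iff_one _).mp (Ideal.IsPrime.ne_top inferInstance) this
  obtain ⟨j, hj⟩ := hex
  refine ⟨a 0 j, ?_, ?_⟩
  · by_contra hcon
    apply hj
    show pi A D E C (a 0 j) * y j ∈ _
    exact Ideal.mul_mem_right _ _ hcon
  · have := h2 j
    simp only [Finset.univ_unique, Finset.sum_singleton] at this
    rw [mul_comm]
    exact this

variable [IsNoetherianRing D]

/-- The kernel of `D ⊗[A] C → E` is killed by an element which becomes a unit in `E`. -/
theorem exists_kill :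
    ∃ u : D ⊗[A] C, IsUnit (pi A D E C u) ∧ ∀ x, pi A D E C x = 0 → u * x = 0 := by
  classical
  have : Algebra.FiniteType D (D ⊗[A] C) := inferInstance
  have : IsNoetherianRing (D ⊗[A] C) := Algebra.FiniteType.isNoetherianRing D _
  obtain ⟨s, hs⟩ := (isNoetherianRing_iff_ideal_fg (D ⊗[A] C)).mp inferInstance
    (RingHom.ker (pi A D E C).toRingHom)
  have hmem : ∀ x ∈ s, pi A D E C x = 0 := by
    intro x hx
    have : x ∈ RingHom.ker (pi A D E C).toRingHom := hs ▸ Ideal.subset_span hx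
    exact this
  have hch : ∀ x : D ⊗[A] C, ∃ u : D ⊗[A] C, x ∈ s → IsUnit (pi A D E C u) ∧ u * x = 0 := by
    intro x
    by_cases hx : x ∈ s
    · obtain ⟨u, hu⟩ := exists_kill_one A D E C x (hmem x hx)
      exact ⟨u, fun _ => hu⟩
    · exact ⟨0, fun h => absurd h hx⟩
  choose w hw using hch
  refine ⟨∏ x ∈ s, w x, ?_, ?_⟩
  · rw [map_prod]
    exact IsUnit.prod_iff.mpr fun x hx => (hw x hx).1
  · intro x hx
    have hxk : x ∈ Ideal.span (s : Set (D ⊗[A] C)) := by
      rw [hs]; exact hx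
    refine Submodule.span_induction ?_ ?_ ?_ ?_ hxk
    · intro z hz
      rw [← Finset.mul_prod_erase s w hz, mul_right_comm, (hw z hz).2, zero_mul]
    · simp
    · intro a b _ _ ha hb
      rw [mul_add, ha, hb, add_zero]
    · intro a b _ hb
      rw [smul_eq_mul, mul_left_comm, hb, mul_zero]

end


section main

variable (A D E C : Type u) [CommRing A] [CommRing D] [CommRing E] [CommRing C]
  [Algebra A D] [Algebra A E] [Algebra D E] [IsScalarTower A D E]
  [Algebra A C] [Algebra C E] [IsScalarTower A C E]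

/-- Every element of `D ⊗[A] C` comes from `B ⊗[A] C` for all subalgebras `B` of `D` containing a
suitable finite set. -/
theorem exists_finset_mem_range (u : D ⊗[A] C) :
    ∃ Z : Finset D, ∀ B : Subalgebra A D, (Z : Set D) ⊆ B →
      u ∈ Set.range (Algebra.TensorProduct.map B.val (AlgHom.id A C)) := by
  classical
  induction u using TensorProduct.induction_on with
  | zero => exact ⟨∅, fun B _ => ⟨0, map_zero _⟩⟩
  | tmul d c =>
    refine ⟨{d}, fun B hB => ⟨(⟨d, hB (by simp)⟩ : B) ⊗ₜ[A] c, ?_⟩⟩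
    simp
  | add x y hx hy =>
    obtain ⟨Zx, hZx⟩ := hx
    obtain ⟨Zy, hZy⟩ := hy
    refine ⟨Zx ∪ Zy, fun B hB => ?_⟩
    obtain ⟨x', hx'⟩ := hZx B (fun z hz => hB (by simp [hz]))
    obtain ⟨y', hy'⟩ := hZy B (fun z hz => hB (by simp [hz]))
    exact ⟨x' + y', by rw [map_add, hx', hy']⟩

end main

/-- Core step: `L` a local ring with an injective local `A`-algebra map `ψ : L → D`, and an
element `u₀ : L ⊗[A] C` whose image in `E` is a unit and whose image in `D ⊗[A] C` kills the kernel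
of `D ⊗[A] C → E`.  If `ψ s * d = ψ b` with `ψ s` a non-zero-divisor, then `d` is in the range of
`ψ`. -/
theorem exists_preimage_of_mul_eq (A D E C L : Type u) [CommRing A] [CommRing D]
    [CommRing E] [CommRing C] [CommRing L] [Algebra A D] [Algebra A E] [Algebra D E]
    [IsScalarTower A D E] [Algebra A C] [Algebra C E] [IsScalarTower A C E] [Algebra.Etale A C]
    [IsLocalRing D] [IsLocalRing E] [IsLocalHom (algebraMap D E)] [IsLocalRing L] [Algebra A L]
    (q : Ideal C) [q.IsPrime] [IsLocalization.AtPrime E q]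
    (ψ : L →ₐ[A] D) (hψinj : Function.Injective ψ) (hψloc : ∀ l : L, IsUnit (ψ l) → IsUnit l)
    (u₀ : L ⊗[A] C)
    (hu : IsUnit (pi A D E C (Algebra.TensorProduct.map ψ (AlgHom.id A C) u₀)))
    (hukill : ∀ x, pi A D E C x = 0 → Algebra.TensorProduct.map ψ (AlgHom.id A C) u₀ * x = 0)
    (d : D) (s b : L) (hsnzd : ψ s ∈ nonZeroDivisors D) (hsd : ψ s * d = ψ b) :
    ∃ l : L, ψ l = d := by
  classical
  let ι₀ : L ⊗[A] C →ₐ[A] D ⊗[A] C := Algebra.TensorProduct.map ψ (AlgHom.id A C)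
  have hι₀inj : Function.Injective ι₀ := by
    have : Function.Injective (LinearMap.rTensor C ψ.toLinearMap) :=
      Module.Flat.rTensor_preserves_injective_linearMap _ hψinj
    intro x y hxy
    apply this
    exact hxy
  let ρ : L ⊗[A] C →+* E := (pi A D E C).toRingHom.comp ι₀.toRingHom
  have hρ : ∀ z, ρ z = pi A D E C (ι₀ z) := fun _ => rfl
  obtain ⟨𝔯₀, h𝔯₀def⟩ : ∃ I : Ideal (L ⊗[A] C), I = (maximalIdeal E).comap ρ := ⟨_, rfl⟩
  have h𝔯₀ : 𝔯₀.IsPrime := h𝔯₀def ▸ Ideal.comap_isPrime _ _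
  have hunit_iff : ∀ z : L ⊗[A] C,
      IsUnit (algebraMap (L ⊗[A] C) (Localization.AtPrime 𝔯₀) z) ↔ IsUnit (ρ z) := by
    intro z
    rw [IsLocalization.AtPrime.isUnit_to_map_iff (Localization.AtPrime 𝔯₀) 𝔯₀ z]
    show z ∉ 𝔯₀ ↔ _
    rw [h𝔯₀def, Ideal.mem_comap, mem_maximalIdeal, mem_nonunits_iff, not_not]
  have hflat : Module.Flat L (Localization.AtPrime 𝔯₀) :=
    Module.Flat.trans L (L ⊗[A] C) (Localization.AtPrime 𝔯₀)
  have hloc : IsLocalHom (algebraMap L (Localization.AtPrime 𝔯₀)) := by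
    refine ⟨fun l hl => ?_⟩
    rw [IsScalarTower.algebraMap_apply L (L ⊗[A] C) (Localization.AtPrime 𝔯₀), hunit_iff,
      Algebra.TensorProduct.algebraMap_apply, hρ] at hl
    apply hψloc
    have h2 : pi A D E C (ι₀ (l ⊗ₜ[A] (1 : C))) = algebraMap D E (ψ l) := by
      simp [ι₀]
    rw [Algebra.algebraMap_self, RingHom.id_apply, h2] at hl
    exact isUnit_of_map_unit (algebraMap D E) _ hl
  have hff : Module.FaithfullyFlat L (Localization.AtPrime 𝔯₀) :=
    Module.FaithfullyFlat.of_flat_of_isLocalHom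
  -- the map `E → (L ⊗ C)_𝔯₀`
  let g : C →+* Localization.AtPrime 𝔯₀ := (algebraMap (L ⊗[A] C) (Localization.AtPrime 𝔯₀)).comp
    (Algebra.TensorProduct.includeRight : C →ₐ[A] L ⊗[A] C).toRingHom
  have hgapp : ∀ c : C, g c =
      algebraMap (L ⊗[A] C) (Localization.AtPrime 𝔯₀) ((1 : L) ⊗ₜ[A] c) := fun _ => rfl
  have hg : ∀ y : q.primeCompl, IsUnit (g y) := by
    intro y
    rw [hgapp, hunit_iff, hρ]
    have h2 : pi A D E C (ι₀ ((1 : L) ⊗ₜ[A] (y : C))) = algebraMap C E y := by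
      simp [ι₀]
    rw [h2]
    exact IsLocalization.map_units E y
  let j : E →+* Localization.AtPrime 𝔯₀ := IsLocalization.lift (M := q.primeCompl) (S := E) hg
  have hj : ∀ c : C, j (algebraMap C E c) =
      algebraMap (L ⊗[A] C) (Localization.AtPrime 𝔯₀) ((1 : L) ⊗ₜ[A] c) :=
    fun c => IsLocalization.lift_eq _ c
  have hu₀unit : IsUnit (algebraMap (L ⊗[A] C) (Localization.AtPrime 𝔯₀) u₀) := by
    rw [hunit_iff, hρ]
    exact hu
  have compat : ∀ l : L, j (algebraMap D E (ψ l)) = algebraMap L (Localization.AtPrime 𝔯₀) l := by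
    intro l
    obtain ⟨⟨c₁, c₂⟩, h⟩ := IsLocalization.surj q.primeCompl (algebraMap D E (ψ l))
    simp only at h
    let x : L ⊗[A] C := l ⊗ₜ[A] (c₂ : C) - (1 : L) ⊗ₜ[A] c₁
    have hx : pi A D E C (ι₀ x) = 0 := by
      simp only [x, map_sub, ι₀, Algebra.TensorProduct.map_tmul, AlgHom.coe_id, id_eq, pi_tmul,
        map_one, one_mul, h, sub_self]
    have h3 : ι₀ (u₀ * x) = 0 := by
      rw [map_mul]
      exact hukill _ hx
    have hu₀x : u₀ * x = 0 := hι₀inj (by rw [h3, map_zero])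
    have hx0 : algebraMap (L ⊗[A] C) (Localization.AtPrime 𝔯₀) x = 0 :=
      hu₀unit.mul_right_eq_zero.mp (by rw [← map_mul, hu₀x, map_zero])
    have hx1 : algebraMap (L ⊗[A] C) (Localization.AtPrime 𝔯₀) (l ⊗ₜ[A] (c₂ : C)) =
        algebraMap (L ⊗[A] C) (Localization.AtPrime 𝔯₀) ((1 : L) ⊗ₜ[A] c₁) := by
      have h5 : algebraMap (L ⊗[A] C) (Localization.AtPrime 𝔯₀) (l ⊗ₜ[A] (c₂ : C)) -
          algebraMap (L ⊗[A] C) (Localization.AtPrime 𝔯₀) ((1 : L) ⊗ₜ[A] c₁) = 0 := by
        rw [← map_sub]; exact hx0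
      exact sub_eq_zero.mp h5
    have hc₂ : IsUnit (algebraMap (L ⊗[A] C) (Localization.AtPrime 𝔯₀)
        ((1 : L) ⊗ₜ[A] (c₂ : C))) := hg c₂
    have key : j (algebraMap D E (ψ l)) *
        algebraMap (L ⊗[A] C) (Localization.AtPrime 𝔯₀) ((1 : L) ⊗ₜ[A] (c₂ : C)) =
        algebraMap L (Localization.AtPrime 𝔯₀) l *
          algebraMap (L ⊗[A] C) (Localization.AtPrime 𝔯₀) ((1 : L) ⊗ₜ[A] (c₂ : C)) := by
      have e1 : j (algebraMap D E (ψ l)) *
          algebraMap (L ⊗[A] C) (Localization.AtPrime 𝔯₀) ((1 : L) ⊗ₜ[A] (c₂ : C)) =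
          algebraMap (L ⊗[A] C) (Localization.AtPrime 𝔯₀) ((1 : L) ⊗ₜ[A] c₁) := by
        rw [← hj, ← map_mul, h, hj]
      have e2 : algebraMap L (Localization.AtPrime 𝔯₀) l *
          algebraMap (L ⊗[A] C) (Localization.AtPrime 𝔯₀) ((1 : L) ⊗ₜ[A] (c₂ : C)) =
          algebraMap (L ⊗[A] C) (Localization.AtPrime 𝔯₀) (l ⊗ₜ[A] (c₂ : C)) := by
        rw [IsScalarTower.algebraMap_apply L (L ⊗[A] C) (Localization.AtPrime 𝔯₀),
          Algebra.TensorProduct.algebraMap_apply, ← map_mul, Algebra.TensorProduct.tmul_mul_tmul,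
          Algebra.algebraMap_self, RingHom.id_apply, mul_one, one_mul]
      rw [e1, e2, hx1]
    exact hc₂.mul_left_injective key
  have h1 : algebraMap L (Localization.AtPrime 𝔯₀) s * j (algebraMap D E d) =
      algebraMap L (Localization.AtPrime 𝔯₀) b := by
    rw [← compat s, ← compat b, ← map_mul, ← map_mul, hsd]
  have hmem : b ∈ ((Ideal.span {s}).map (algebraMap L (Localization.AtPrime 𝔯₀))).comap
      (algebraMap L (Localization.AtPrime 𝔯₀)) := by
    rw [Ideal.mem_comap, ← h1]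
    exact Ideal.mul_mem_right _ _
      (Ideal.mem_map_of_mem _ (Ideal.mem_span_singleton_self _))
  rw [Ideal.comap_map_eq_self_of_faithfullyFlat] at hmem
  obtain ⟨l, hl⟩ := Ideal.mem_span_singleton'.mp hmem
  refine ⟨l, ?_⟩
  have h2 : ψ l * ψ s = ψ b := by
    rw [← map_mul, hl]
  have h3 : (ψ l - d) * ψ s = 0 := by
    rw [sub_mul, h2, ← hsd, mul_comm, sub_self]
  have := (mem_nonZeroDivisors_iff.mp hsnzd).2 _ h3
  exact sub_eq_zero.mp this

/-- Main descent statement: `D` is essentially of finite type over `A` as soon as every element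
of `D` is a "fraction" of elements of a fixed finitely generated subalgebra. -/
theorem essFiniteType_of_forall_exists_mul_eq (A D E C : Type u) [CommRing A] [CommRing D]
    [CommRing E] [CommRing C] [Algebra A D] [Algebra A E] [Algebra D E] [IsScalarTower A D E]
    [Algebra A C] [Algebra C E] [IsScalarTower A C E] [Algebra.Etale A C] [IsLocalRing D]
    [IsLocalRing E] [IsLocalHom (algebraMap D E)] [Module.Flat D E] [IsNoetherianRing D]
    (q : Ideal C) [q.IsPrime] [IsLocalization.AtPrime E q] (Z₁ : Finset D)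
    (H : ∀ d : D, ∃ s b : D, s ∈ Algebra.adjoin A (Z₁ : Set D) ∧
      b ∈ Algebra.adjoin A (Z₁ : Set D) ∧ s ∈ nonZeroDivisors D ∧ s * d = b) :
    Algebra.EssFiniteType A D := by
  classical
  obtain ⟨u, hu, hukill⟩ := exists_kill A D E C
  obtain ⟨Zu, hZu⟩ := exists_finset_mem_range A D C u
  obtain ⟨Z, hZdef⟩ : ∃ Z : Finset D, Z = Z₁ ∪ Zu := ⟨_, rfl⟩
  obtain ⟨D₀, hD₀def⟩ : ∃ D₀ : Subalgebra A D, D₀ = Algebra.adjoin A (Z : Set D) := ⟨_, rfl⟩
  have hZ₁ : Algebra.adjoin A (Z₁ : Set D) ≤ D₀ := by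
    rw [hD₀def]
    exact Algebra.adjoin_mono (by intro z hz; simp [hZdef, Finset.mem_coe.mp hz])
  have hZu' : (Zu : Set D) ⊆ D₀ := fun z hz => by
    rw [hD₀def]
    exact Algebra.subset_adjoin (by simp [hZdef, Finset.mem_coe.mp hz])
  obtain ⟨p₀, hp₀def⟩ : ∃ p₀ : Ideal D₀, p₀ = (maximalIdeal D).comap (algebraMap D₀ D) :=
    ⟨_, rfl⟩
  have hp₀ : p₀.IsPrime := hp₀def ▸ Ideal.comap_isPrime _ _
  have hmem_iff : ∀ z : D₀, z ∈ p₀ ↔ D₀.val z ∈ maximalIdeal D := fun z => by
    rw [hp₀def]; rfl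
  have hunits : ∀ y : p₀.primeCompl, IsUnit (D₀.val y) := by
    intro y
    have hy : (y : D₀) ∉ p₀ := y.2
    rw [hmem_iff] at hy
    simpa [mem_maximalIdeal, mem_nonunits_iff] using hy
  let ψ : Localization.AtPrime p₀ →ₐ[A] D :=
    IsLocalization.liftAlgHom (M := p₀.primeCompl) (f := D₀.val) hunits
  have hψ : ∀ z : D₀, ψ (algebraMap D₀ (Localization.AtPrime p₀) z) = z :=
    fun z => IsLocalization.lift_eq _ z
  have hψinj : Function.Injective ψ := by
    show Function.Injective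
      (IsLocalization.lift (M := p₀.primeCompl) (g := (D₀.val : D₀ →+* D)) hunits)
    rw [IsLocalization.lift_injective_iff]
    intro x y
    constructor
    · intro h
      have := congrArg ψ h
      rwa [hψ, hψ] at this
    · intro h
      rw [Subtype.ext h]
  have hmk : ∀ (a : D₀) (t : p₀.primeCompl),
      ψ (IsLocalization.mk' (Localization.AtPrime p₀) a t) * (D₀.val t) = D₀.val a := by
    intro a t
    have h0 : ψ (IsLocalization.mk' (Localization.AtPrime p₀) a t) *
        ψ (algebraMap D₀ (Localization.AtPrime p₀) t) =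
        ψ (algebraMap D₀ (Localization.AtPrime p₀) a) := by
      rw [← map_mul, IsLocalization.mk'_spec]
    rw [hψ, hψ] at h0
    exact h0
  have hψloc : ∀ l : Localization.AtPrime p₀, IsUnit (ψ l) → IsUnit l := by
    intro l hl
    obtain ⟨a, s, rfl⟩ := IsLocalization.exists_mk'_eq p₀.primeCompl l
    rw [IsLocalization.AtPrime.isUnit_mk'_iff (Localization.AtPrime p₀) p₀]
    have h2 : IsUnit (D₀.val a) := hmk a s ▸ hl.mul (hunits s)
    intro hmem
    have : D₀.val a ∈ maximalIdeal D := (hmem_iff a).mp hmem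
    exact this h2
  obtain ⟨u₀, hu₀⟩ : ∃ u₀, Algebra.TensorProduct.map ψ (AlgHom.id A C) u₀ = u := by
    obtain ⟨v, hv⟩ := hZu D₀ hZu'
    refine ⟨Algebra.TensorProduct.map
      (IsScalarTower.toAlgHom A D₀ (Localization.AtPrime p₀)) (AlgHom.id A C) v, ?_⟩
    rw [← hv]
    show ((Algebra.TensorProduct.map ψ (AlgHom.id A C)).comp (Algebra.TensorProduct.map
      (IsScalarTower.toAlgHom A D₀ (Localization.AtPrime p₀)) (AlgHom.id A C))) v = _
    congr 1
    ext z
    · simp [hψ]
    · simp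
  -- every element of `D` comes from the localization
  have hsurj : ∀ d : D, ∃ l : Localization.AtPrime p₀, ψ l = d := by
    intro d
    obtain ⟨s, b, hs, hb, hsnzd, hsd⟩ := H d
    refine exists_preimage_of_mul_eq A D E C (Localization.AtPrime p₀) q ψ hψinj hψloc u₀
      (hu₀ ▸ hu) (fun x hx => hu₀ ▸ hukill x hx) d
      (algebraMap D₀ (Localization.AtPrime p₀) ⟨s, hZ₁ hs⟩)
      (algebraMap D₀ (Localization.AtPrime p₀) ⟨b, hZ₁ hb⟩) ?_ ?_
    · rw [hψ]; exact hsnzd
    · rw [hψ, hψ]; exact hsd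
  rw [Algebra.essFiniteType_iff]
  refine ⟨Z, fun d => ?_⟩
  obtain ⟨l, rfl⟩ := hsurj d
  obtain ⟨a, t, rfl⟩ := IsLocalization.exists_mk'_eq p₀.primeCompl l
  have ht : D₀.val t ∈ Algebra.adjoin A (Z : Set D) := hD₀def ▸ (t : D₀).2
  have ha : D₀.val a ∈ Algebra.adjoin A (Z : Set D) := hD₀def ▸ a.2
  refine ⟨D₀.val t, ht, hunits t, ?_⟩
  rw [hmk a t]
  exact ha

end Groth.Agent.Lib.EssFiniteTypeSub61
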