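import Mathlib
import Groth.Prelude.Def_EssEt
import Groth.Agent.S0392
import Groth.Agent.Lib.FracEssEtale6
import Groth.Agent.Lib.EssFiniteTypeSub61

/-!
# Essential finite type of a local ring under an essentially étale overring (helper61)

`A → D → E` local homomorphisms of local rings, `A`, `D` Noetherian, `E` essentially étale over
`A`, `𝔪_A D = 𝔪_D`, and the total ring of fractions of `D` finitely generated over that of `A` (in
the sense of EGA IV 18.6/18.8 statements).  Then `D` is flat over `A`, `E` is flat over `D`, and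
`D` is essentially of finite type over `A`.
-/

set_option autoImplicit false
universe u

namespace Groth.Agent.Lib.EssFiniteTypeSubB61

open IsLocalRing TensorProduct

section

variable (A D E : Type u) [CommRing A] [IsLocalRing A] [IsNoetherianRing A] [CommRing D]
  [IsLocalRing D] [IsNoetherianRing D] [CommRing E] [IsLocalRing E] [Algebra A D] [Algebra A E]
  [Algebra D E] [IsScalarTower A D E] [IsLocalHom (algebraMap A D)]
  [IsLocalHom (algebraMap D E)]

/-- Flatness of `A → D` and `D → E` from the fibre criterion: the fibre `D/𝔪_A D` is a field. -/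
theorem flat_of_essEtale (hE : EGA4loc.IsEssentiallyEtale A E)
    (hm : Ideal.map (algebraMap A D) (maximalIdeal A) = maximalIdeal D) :
    Module.Flat A D ∧ Module.Flat D E := by
  obtain ⟨h1, h2, h3⟩ := Groth.Agent.Lib.FracEssEtale6.instances_of_essEtale A E hE
  have hEn : IsNoetherianRing E := Algebra.EssFiniteType.isNoetherianRing A E
  refine Groth.Agent.S0392.result (R := A) (S := D) (S' := E) (M := E) ?_
  have hmax : ((maximalIdeal A).map (algebraMap A D)).IsMaximal := by
    rw [hm]; infer_instance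
  let _ : Field (D ⧸ ((maximalIdeal A).map (algebraMap A D))) := Ideal.Quotient.field _
  infer_instance

end

section

variable (A D : Type u) [CommRing A] [CommRing D] [Algebra A D]

/-- From finite generation of `Frac D` over `A` (up to non-zero-divisors of `A`) to a "bounded
denominators" statement inside `D`. -/
theorem exists_finset_forall_exists_mul_eq [Module.Flat A D]
    (hfg : ∃ t : Finset (FractionRing D), ∀ x : FractionRing D, ∃ a ∈ nonZeroDivisors A,
      algebraMap A (FractionRing D) a * x ∈ Algebra.adjoin A (t : Set (FractionRing D))) :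
    ∃ Z₁ : Finset D, ∀ d : D, ∃ s b : D, s ∈ Algebra.adjoin A (Z₁ : Set D) ∧
      b ∈ Algebra.adjoin A (Z₁ : Set D) ∧ s ∈ nonZeroDivisors D ∧ s * d = b := by
  classical
  obtain ⟨t, ht⟩ := hfg
  have hsurj : ∀ τ : FractionRing D, ∃ x : D × nonZeroDivisors D,
      τ * algebraMap D (FractionRing D) x.2 = algebraMap D (FractionRing D) x.1 :=
    fun τ => IsLocalization.surj (nonZeroDivisors D) τ
  choose f hf using hsurj
  refine ⟨t.image (fun τ => (f τ).1) ∪ t.image (fun τ => ((f τ).2 : D)), ?_⟩
  set Z₁ : Finset D := t.image (fun τ => (f τ).1) ∪ t.image (fun τ => ((f τ).2 : D)) with hZ₁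
  have key : ∀ y ∈ Algebra.adjoin A (t : Set (FractionRing D)),
      ∃ s b : D, s ∈ Algebra.adjoin A (Z₁ : Set D) ∧ b ∈ Algebra.adjoin A (Z₁ : Set D) ∧
        s ∈ nonZeroDivisors D ∧
        algebraMap D (FractionRing D) s * y = algebraMap D (FractionRing D) b := by
    intro y hy
    induction hy using Algebra.adjoin_induction with
    | mem τ hτ =>
      have hτ' : τ ∈ t := Finset.mem_coe.mp hτ
      refine ⟨((f τ).2 : D), (f τ).1, Algebra.subset_adjoin ?_, Algebra.subset_adjoin ?_,
        (f τ).2.2, ?_⟩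
      · rw [hZ₁, Finset.coe_union]
        exact Or.inr (Finset.mem_coe.mpr (Finset.mem_image_of_mem _ hτ'))
      · rw [hZ₁, Finset.coe_union]
        exact Or.inl (Finset.mem_coe.mpr (Finset.mem_image_of_mem _ hτ'))
      · rw [mul_comm]; exact hf τ
    | algebraMap a =>
      refine ⟨1, algebraMap A D a, Subalgebra.one_mem _, Subalgebra.algebraMap_mem _ a,
        Submonoid.one_mem _, ?_⟩
      rw [map_one, one_mul, ← IsScalarTower.algebraMap_apply]
    | add y₁ y₂ _ _ h₁ h₂ =>
      obtain ⟨s₁, b₁, hs₁, hb₁, hs₁', e₁⟩ := h₁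
      obtain ⟨s₂, b₂, hs₂, hb₂, hs₂', e₂⟩ := h₂
      refine ⟨s₁ * s₂, s₂ * b₁ + s₁ * b₂, Subalgebra.mul_mem _ hs₁ hs₂,
        Subalgebra.add_mem _ (Subalgebra.mul_mem _ hs₂ hb₁) (Subalgebra.mul_mem _ hs₁ hb₂),
        Submonoid.mul_mem _ hs₁' hs₂', ?_⟩
      simp only [map_mul, map_add]
      rw [← e₁, ← e₂]; ring
    | mul y₁ y₂ _ _ h₁ h₂ =>
      obtain ⟨s₁, b₁, hs₁, hb₁, hs₁', e₁⟩ := h₁
      obtain ⟨s₂, b₂, hs₂, hb₂, hs₂', e₂⟩ := h₂
      refine ⟨s₁ * s₂, b₁ * b₂, Subalgebra.mul_mem _ hs₁ hs₂, Subalgebra.mul_mem _ hb₁ hb₂,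
        Submonoid.mul_mem _ hs₁' hs₂', ?_⟩
      simp only [map_mul]
      rw [← e₁, ← e₂]; ring
  intro d
  obtain ⟨a, ha, hmem⟩ := ht (algebraMap D (FractionRing D) d)
  obtain ⟨s, b, hs, hb, hs', e⟩ := key _ hmem
  have haD : algebraMap A D a ∈ nonZeroDivisors D := by
    have hreg : IsSMulRegular D a := Module.Flat.isSMulRegular_of_nonZeroDivisors ha
    rw [mem_nonZeroDivisors_iff_right]
    intro z hz
    apply hreg
    simp only [smul_zero]
    rw [Algebra.smul_def, mul_comm]; exact hz
  refine ⟨s * algebraMap A D a, b, Subalgebra.mul_mem _ hs (Subalgebra.algebraMap_mem _ a),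
    hb, Submonoid.mul_mem _ hs' haD, ?_⟩
  apply IsFractionRing.injective D (FractionRing D)
  rw [← e, map_mul, map_mul, ← IsScalarTower.algebraMap_apply A D (FractionRing D)]
  ring

end

section

variable (A D E : Type u) [CommRing A] [IsLocalRing A] [IsNoetherianRing A] [CommRing D]
  [IsLocalRing D] [IsNoetherianRing D] [CommRing E] [IsLocalRing E] [Algebra A D] [Algebra A E]
  [Algebra D E] [IsScalarTower A D E] [IsLocalHom (algebraMap A D)]
  [IsLocalHom (algebraMap D E)]

/-- Main statement. -/
theorem essFiniteType_of_essEtale (hE : EGA4loc.IsEssentiallyEtale A E)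
    (hm : Ideal.map (algebraMap A D) (maximalIdeal A) = maximalIdeal D)
    (hfg : ∃ t : Finset (FractionRing D), ∀ x : FractionRing D, ∃ a ∈ nonZeroDivisors A,
      algebraMap A (FractionRing D) a * x ∈ Algebra.adjoin A (t : Set (FractionRing D))) :
    Algebra.EssFiniteType A D := by
  obtain ⟨hAD, hDE⟩ := flat_of_essEtale A D E hE hm
  obtain ⟨Z₁, H⟩ := exists_finset_forall_exists_mul_eq A D hfg
  obtain ⟨C, _, _, q, _, hC, hqm, ⟨e⟩⟩ := hE
  let φ : C →+* E := (e.symm : Localization.AtPrime q →+* E).comp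
    (algebraMap C (Localization.AtPrime q))
  let _ : Algebra C E := φ.toAlgebra
  have hCE : ∀ c : C, algebraMap C E c = e.symm (algebraMap C (Localization.AtPrime q) c) :=
    fun c => rfl
  have : IsScalarTower A C E := IsScalarTower.of_algebraMap_eq fun a => by
    rw [hCE, ← IsScalarTower.algebraMap_apply A C (Localization.AtPrime q), e.symm.commutes]
  have : IsLocalization.AtPrime E q := by
    let e' : Localization.AtPrime q ≃ₐ[C] E :=
      AlgEquiv.ofRingEquiv (f := (e.symm : Localization.AtPrime q ≃+* E)) (fun c => rfl)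
    exact IsLocalization.isLocalization_of_algEquiv q.primeCompl e'
  exact Groth.Agent.Lib.EssFiniteTypeSub61.essFiniteType_of_forall_exists_mul_eq A D E C q Z₁ H

end

end Groth.Agent.Lib.EssFiniteTypeSubB61
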