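import Groth.Agent.Lib.EtConstKernel39
import Groth.Agent.Lib.AICSpecGlue39

/-!
# Vanishing of the cohomology of finite constant sheaves on affine schemes via Gabber's criterion
(helper39)

* `subsingleton_H_const_of_glue`: `Z` affine with strictly henselian local rings such that locally
  constant functions on `D(f(f+g)) ∩ D(g(f+g))` are differences of locally constant functions on
  `D(f(f+g))` and `D(g(f+g))`: then `H^q(Z, M) = 0` for `q ≥ 1` and `M` finite;
* `glue_basicOpen_of_spec`: the gluing hypothesis may be checked on `PrimeSpectrum Γ(Z, ⊤)`;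
* `subsingleton_H_const_of_isAIC`: `Z` affine with `Γ(Z, ⊤)` absolutely integrally closed.
-/

set_option autoImplicit false
universe u
open CategoryTheory CategoryTheory.Limits AlgebraicGeometry Opposite

namespace Groth.Agent.Lib.EtAICVanish39

open Groth.Agent.Lib.AICLocal39 Groth.Agent.Lib.AICSpecGlue39 Groth.Agent.Lib.AICTop39
  Groth.Agent.Lib.EtConstKernel39 Groth.Agent.Lib.EtGabber39 Groth.Agent.Lib.EtConst

variable (Z : Scheme.{u}) [IsAffine Z]

/-- Gabber's criterion for finite constant sheaves in terms of gluing of locally constant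
functions -/
theorem subsingleton_H_const_of_glue
    (hZ : ∀ z : Z, EtCoh.IsStrictlyHenselianLocalRing (Z.presheaf.stalk z))
    (M : Type) [AddCommGroup M] [Finite M]
    (hglue : ∀ f g : Γ(Z, ⊤), Glue ((Z.basicOpen (f * (f + g)) : Z.Opens) : Set Z)
      ((Z.basicOpen (g * (f + g)) : Z.Opens) : Set Z) (ULift.{u + 1} M))
    (q : ℕ) (hq : 1 ≤ q) : Subsingleton (EtCoh.H Z (EtCoh.const Z M) q) := by
  apply subsingleton_H_of_kernelCondition
    (constSh Z (AddCommGrpCat.of (ULift.{u + 1} M))) hZ ?_ q hq
  exact kernelCondition_const _ hglue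

/-- the gluing hypothesis may be checked on the prime spectrum of the ring of global functions -/
theorem glue_basicOpen_of_spec (M : Type*) [AddCommGroup M] (f g : Γ(Z, ⊤))
    (h : Glue {x : PrimeSpectrum Γ(Z, ⊤) | f * (f + g) ∉ x.asIdeal}
      {x : PrimeSpectrum Γ(Z, ⊤) | g * (f + g) ∉ x.asIdeal} M) :
    Glue ((Z.basicOpen (f * (f + g)) : Z.Opens) : Set Z)
      ((Z.basicOpen (g * (f + g)) : Z.Opens) : Set Z) M := by
  have hU := isAffineOpen_top Z
  have hrange : Set.range hU.fromSpec = Set.univ := by
    rw [hU.range_fromSpec]; rfl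
  refine Glue.of_isOpenEmbedding (fun x => hU.fromSpec x) hU.fromSpec.isOpenEmbedding
    (by rw [hrange]; exact Set.subset_univ _) (by rw [hrange]; exact Set.subset_univ _) M ?_
  have key : ∀ a : Γ(Z, ⊤), (fun x => hU.fromSpec x) ⁻¹' ((Z.basicOpen a : Z.Opens) : Set Z) =
      {x : PrimeSpectrum Γ(Z, ⊤) | a ∉ x.asIdeal} := by
    intro a
    have := congrArg (fun W : (Spec Γ(Z, ⊤)).Opens => (W : Set (Spec Γ(Z, ⊤))))
      (hU.fromSpec_preimage_basicOpen a)
    exact this
  rw [key, key]
  exact h

/-- the local rings of an affine scheme with absolutely integrally closed ring of functions are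
strictly henselian -/
theorem isStrictlyHenselian_stalk_of_isAIC (h : Curves.IsAIC Γ(Z, ⊤)) (z : Z) :
    EtCoh.IsStrictlyHenselianLocalRing (Z.presheaf.stalk z) := by
  have hU := isAffineOpen_top Z
  let _ : Algebra Γ(Z, ⊤) (Z.presheaf.stalk z) :=
    Z.presheaf.algebra_section_stalk (U := ⊤) ⟨z, trivial⟩
  have hloc := hU.isLocalization_stalk ⟨z, trivial⟩
  have hA : Curves.IsAIC (Z.presheaf.stalk z) :=
    isAIC_of_isLocalization h (hU.primeIdealOf ⟨z, trivial⟩).asIdeal.primeCompl _
  refine ⟨henselianLocalRing_of_isAIC hA, ?_⟩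
  have := isAlgClosed_residueField_of_isAIC hA
  infer_instance

/-- finite constant sheaves on an affine scheme with absolutely integrally closed ring of functions
have no higher cohomology -/
theorem subsingleton_H_const_of_isAIC (h : Curves.IsAIC Γ(Z, ⊤))
    (M : Type) [AddCommGroup M] [Finite M] (q : ℕ) (hq : 1 ≤ q) :
    Subsingleton (EtCoh.H Z (EtCoh.const Z M) q) :=
  subsingleton_H_const_of_glue Z (isStrictlyHenselian_stalk_of_isAIC Z h) M
    (fun f g => glue_basicOpen_of_spec Z _ f g (glue_of_isAIC h f g _)) q hq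

end Groth.Agent.Lib.EtAICVanish39
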