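import Groth.Agent.Lib.EtGaAmitsur65

/-!
# `G_a` is Čech-acyclic on affine étale objects; `H^p(S_et, G_a) = 0` for `S` affine (helper65)

* `isZero_cechH_Ga`: exactness of the Čech complex of `G_a` for a faithfully flat affine cover
  (comparison with helper66's Amitsur complex);
* `affCechAcyclic_Ga`, `subsingleton_H_Ga` (S0109).
-/

set_option autoImplicit false
universe u
open CategoryTheory CategoryTheory.Limits AlgebraicGeometry Opposite

namespace Groth.Agent.Lib.EtGaCech65

open Groth.Agent.Lib.EtAffProd65 Groth.Agent.Lib.Amitsur66 Groth.Agent.Lib.EtAffCartan65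
  Groth.Agent.Lib.EtGaAmitsur65 Groth.Agent.Lib.CechLow

variable {X : Scheme.{u}} (U : X.Etale) (V : Over U) [hU : IsAffine U.left]
  [hV : IsAffine V.left.left]

/-- the restriction of `G_a` to `Over U` -/
noncomputable abbrev P : (Over U)ᵒᵖ ⥤ AddCommGrpCat.{u + 1} := (Over.forget U).op ⋙ (EtCoh.Ga X).obj

/-- the unique multi-index -/
abbrev a₀ (n : ℕ) : Fin (n + 1) → PUnit.{u + 2} := fun _ => PUnit.unit

/-- the Čech complex of `G_a` for the single cover `V ⟶ U` -/
noncomputable abbrev K : CochainComplex AddCommGrpCat.{u + 1} ℕ :=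
  (cechComplexFunctor (cov V)).obj (P U)

/-- the value of a cochain (a function on the `(n+1)`-fold fibre product) -/
noncomputable def val (n : ℕ) (x : (K U V).X n) : Bn U V n :=
  ULift.down.{u + 1} (show ULift.{u + 1} Γ((∏ᶜ Zn U V n).left.left, ⊤) from
    comp (cov V) (P U) n (a₀ n) x)

lemma val_add (n : ℕ) (x y : (K U V).X n) : val U V n (x + y) = val U V n x + val U V n y := by
  unfold val
  rw [map_add]
  rfl

lemma val_injective (n : ℕ) : Function.Injective (val U V n) := by
  intro x y h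
  apply cochain_ext (cov V) (P U) n
  intro a
  obtain rfl : a = a₀ n := funext fun _ => rfl
  exact ULift.ext _ _ h

lemma val_surjective (n : ℕ) : Function.Surjective (val U V n) := by
  intro b
  refine ⟨mkCochain (cov V) (P U) n (fun a => (ULift.up b :
    ULift.{u + 1} Γ((∏ᶜ fun k => cov V (a k)).left.left, ⊤))), ?_⟩
  unfold val
  rw [comp_mkCochain]

lemma down_sum_zsmul {α : Type u} [AddCommGroup α] {β : Type*} (s : Finset β) (c : β → ℤ)
    (y : β → ULift.{u + 1} α) :
    (∑ j ∈ s, c j • y j).down = ∑ j ∈ s, c j • (y j).down := by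
  have := map_sum (AddEquiv.ulift.{u, u + 1} (α := α)) (fun j => c j • y j) s
  simp only [map_zsmul] at this
  exact this

lemma val_d (n : ℕ) (x : (K U V).X n) :
    val U V (n + 1) ((K U V).d n (n + 1) x) =
      ∑ j : Fin (n + 2), (-1 : ℤ) ^ (j : ℕ) • (fm U V n j).left.left.appTop.hom (val U V n x) := by
  unfold val
  have h := d_comp_apply (cov V) (P U) n x (a₀ (n + 1))
  rw [h]
  exact down_sum_zsmul _ _ _

lemma ψ_val_d (n : ℕ) (x : (K U V).X n) :
    (ψ U V (n + 1)).hom (val U V (n + 1) ((K U V).d n (n + 1) x)) =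
      dR (Rr U) (Aa U V) n ((ψ U V n).hom (val U V n x)) := by
  rw [val_d, map_sum]
  simp only [map_zsmul]
  unfold dR
  rw [LinearMap.sum_apply]
  refine Finset.sum_congr rfl (fun j _ => ?_)
  rw [LinearMap.smul_apply]
  congr 1
  exact congrArg (fun f => f.hom (val U V n x)) (fm_ψ U V n j)

variable [Module.FaithfullyFlat (Rr U) (Aa U V)]

/-- **exactness of the Čech complex of `G_a`** for a faithfully flat affine cover -/
theorem isZero_cechH_Ga (p : ℕ) : IsZero (EtCech.cechH (cov V) (EtCoh.Ga X).obj (p + 1)) := by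
  apply isZero_homology_of_forall (K U V) p
  intro x hx
  have h1 : dR (Rr U) (Aa U V) (p + 1) ((ψ U V (p + 1)).hom (val U V (p + 1) x)) = 0 := by
    rw [← ψ_val_d, hx]
    have : val U V (p + 2) 0 = 0 := by
      have := val_add U V (p + 2) 0 0
      rw [add_zero] at this
      exact left_eq_add.mp this
    rw [this, map_zero]
  obtain ⟨w, hw⟩ := (dR_exact (Rr U) (Aa U V) p _).1 h1
  obtain ⟨b, hb⟩ := (ψ_bijective U V p).2 w
  obtain ⟨y, hy⟩ := val_surjective U V p b
  refine ⟨y, ?_⟩
  apply val_injective U V (p + 1)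
  apply (ψ_bijective U V (p + 1)).1
  rw [ψ_val_d, hy, hb, hw]

omit hU hV in
/-- `G_a` is Čech-acyclic for single affine surjective covers of affine étale objects -/
theorem affCechAcyclic_Ga (X : Scheme.{u}) : AffCechAcyclic (EtCoh.Ga X) := by
  intro U V hU hV hsurj p
  have hE : Etale V.hom.left := etale_left V.hom
  have hF : Flat V.hom.left := inferInstance
  have hs : Surjective V.hom.left := ⟨hsurj⟩
  have hff : (V.hom.left.appTop).hom.FaithfullyFlat :=
    (Flat.flat_and_surjective_iff_faithfullyFlat_of_isAffine _).1 ⟨hF, hs⟩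
  have : Module.FaithfullyFlat (Rr U) (Aa U V) := hff
  exact isZero_cechH_Ga U V p

/-- **S0109**: the higher étale cohomology of `G_a` on an affine scheme vanishes -/
theorem subsingleton_H_Ga (S : Scheme.{u}) [IsAffine S] (p : ℕ) (hp : 1 ≤ p) :
    Subsingleton (EtCoh.H S (EtCoh.Ga S) p) := by
  obtain ⟨q, rfl⟩ : ∃ q, p = q + 1 := ⟨p - 1, by omega⟩
  exact subsingleton_H_of_affCechAcyclic (EtCoh.Ga S) (affCechAcyclic_Ga S) q

end Groth.Agent.Lib.EtGaCech65
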