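import Groth.Agent.Lib.EtMuConst
import Groth.Agent.Lib.EtGaCech65
import Groth.Agent.S18415
import Groth.Prelude.Def_W4c5etcohweilstudentAS
import Mathlib.FieldTheory.Finite.Basic

/-!
# The Artin–Schreier sequence `0 → ℤ/p → G_a → G_a → 0` on the small étale site (helper65)

* `psi' : ℤ/p → G_a`, `k ↦ k·1`; `psi : ℤ/p → ker (F - 1)`; `nonempty_kernel_iso_const`;
* `subsingleton_H_const_ZMod` (S0103): `H^q(S_et, ℤ/p) = 0` for `q ≥ 2`, `S` affine of char. `p`.
-/

set_option autoImplicit false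
universe u
open CategoryTheory CategoryTheory.Limits AlgebraicGeometry Opposite

namespace Groth.Agent.Lib.EtASConst65

open Groth.Agent.Lib.EtConst Groth.Agent.Lib.EtGerm
  Groth.Agent.Lib.EtStalkPullGerm Groth.Agent.Lib.EtRootCover Groth.Agent.Lib.EtMuConst
open W4c5etcohweilstudent

/-- Fermat: `k ^ p = k` in a ring where `p = 0` -/
lemma intCast_pow_prime {R : Type*} [CommRing R] (p : ℕ) (hp : p.Prime) (h0 : (p : R) = 0) (k : ℤ) :
    (k : R) ^ p = (k : R) := by
  have : Fact p.Prime := ⟨hp⟩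
  have h1 : ((k ^ p - k : ℤ) : ZMod p) = 0 := by
    push_cast
    rw [ZMod.pow_card, sub_self]
  obtain ⟨m, hm⟩ := (ZMod.intCast_zmod_eq_zero_iff_dvd _ p).1 h1
  have h2 := congrArg (Int.cast : ℤ → R) hm
  push_cast at h2
  rw [h0, zero_mul, sub_eq_zero] at h2
  exact h2

section construction

variable {S : Scheme.{u}} (p : ℕ) (h0 : (p : Γ(S, ⊤)) = 0)

/-- `k ↦ k·1` as a map `ℤ/p → Γ(U)` -/
noncomputable def etaLift (U : S.Etale) : ZMod p →+ Γ(U.left, ⊤) :=
  ZMod.lift p ⟨zmultiplesHom _ (1 : Γ(U.left, ⊤)), by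
    show (p : ℤ) • (1 : Γ(U.left, ⊤)) = 0
    rw [natCast_zsmul, nsmul_one]
    exact natCast_eq_zero_etale p h0 U⟩

lemma etaLift_intCast (U : S.Etale) (k : ℤ) :
    etaLift p h0 U (k : ZMod p) = (k : Γ(U.left, ⊤)) := by
  rw [etaLift, ZMod.lift_coe]
  simp

/-- `k ↦ k·1` as a map `ℤ/p → G_a(U)` -/
noncomputable def etaFun (U : S.Etale) :
    ULift.{u + 1} (ZMod p) →+ EtCoh.sect (EtCoh.Ga S) U :=
  (AddEquiv.ulift (α := Γ(U.left, ⊤))).symm.toAddMonoidHom.comp
    ((etaLift p h0 U).comp AddEquiv.ulift.toAddMonoidHom)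

lemma etaFun_intCast (U : S.Etale) (k : ℤ) :
    etaFun p h0 U ⟨(k : ZMod p)⟩ = ⟨(k : Γ(U.left, ⊤))⟩ := by
  apply ULift.ext
  exact etaLift_intCast p h0 U k

lemma etaFun_res {U V : S.Etale} (g : V ⟶ U) (m : ULift.{u + 1} (ZMod p)) :
    (EtCoh.Ga S).obj.map g.op (etaFun p h0 U m) = etaFun p h0 V m := by
  obtain ⟨k⟩ := m
  obtain ⟨k, rfl⟩ := ZMod.intCast_surjective k
  rw [etaFun_intCast, etaFun_intCast]
  apply ULift.ext
  exact map_intCast g.left.appTop.hom k

/-- the map from the constant presheaf `ℤ/p` to `G_a` -/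
noncomputable def etaPre :
    constPre S (AddCommGrpCat.of (ULift.{u + 1} (ZMod p))) ⟶ (EtCoh.Ga S).obj where
  app U := AddCommGrpCat.ofHom (etaFun p h0 U.unop)
  naturality U V g := by
    ext m
    exact (etaFun_res p h0 g.unop m).symm

/-- the map `ℤ/p → G_a`, `k ↦ k·1` -/
noncomputable def psi' : constSh S (AddCommGrpCat.of (ULift.{u + 1} (ZMod p))) ⟶ EtCoh.Ga S :=
  constLift (EtCoh.Ga S) (etaPre p h0)

lemma psi'_constSec (U : S.Etale) (m : ULift.{u + 1} (ZMod p)) :
    (psi' p h0).hom.app (op U) (constSec _ U m) = etaFun p h0 U m :=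
  constLift_constSec (EtCoh.Ga S) (etaPre p h0) U m

lemma AS_app (hp : p.Prime) (U : S.Etale) (y : Γ(U.left, ⊤)) :
    (artinSchreierEndo S p hp h0).hom.app (op U) (ULift.up y : EtCoh.sect (EtCoh.Ga S) U) =
      (ULift.up (y ^ p - y) : EtCoh.sect (EtCoh.Ga S) U) := rfl

lemma psi'_AS (hp : p.Prime) : psi' p h0 ≫ artinSchreierEndo S p hp h0 = 0 := by
  apply const_hom_ext
  intro U m
  have h1 : (psi' p h0 ≫ artinSchreierEndo S p hp h0).hom.app (op U) (constSec _ U m) =
      (artinSchreierEndo S p hp h0).hom.app (op U)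
        ((psi' p h0).hom.app (op U) (constSec _ U m)) := rfl
  rw [h1, psi'_constSec]
  obtain ⟨k⟩ := m
  obtain ⟨k, rfl⟩ := ZMod.intCast_surjective k
  rw [etaFun_intCast, AS_app]
  apply ULift.ext
  show (k : Γ(U.left, ⊤)) ^ p - (k : Γ(U.left, ⊤)) = 0
  rw [intCast_pow_prime p hp (natCast_eq_zero_etale p h0 U), sub_self]

end construction

section main

variable (S : Scheme.{u}) (p : ℕ) (hp : p.Prime) (h0 : (p : Γ(S, ⊤)) = 0)

include h0 in
/-- the residue fields of étale `S`-schemes have characteristic `p` -/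
lemma charP_residueField (U : S.Etale) (x : U.left) (hp : p.Prime) :
    CharP (U.left.residueField x) p := by
  have h1 : (p : U.left.residueField x) = 0 := by
    have := congrArg (U.left.evaluation ⊤ x trivial).hom (natCast_eq_zero_etale p h0 U)
    simpa using this
  have hc : ringChar (U.left.residueField x) = p := CharP.ringChar_of_prime_eq_zero hp h1
  exact hc ▸ (ringChar.charP _)

include hp in
/-- `k ↦ k·1 : ℤ/p → G_a` is a monomorphism -/
lemma mono_psi' : Mono (psi' p h0) := by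
  apply mono_of_injective_app
  intro U
  rw [injective_iff_map_eq_zero]
  intro s hs
  apply section_eq_zero_of_forall_pt
  intro x
  obtain ⟨V, g, m, hx, hm⟩ := exists_constSec_eq_pt _ s x
  refine ⟨V, g, hx, ?_⟩
  rw [hm]
  have h1 : (psi' p h0).hom.app (op V) (constSec _ V m) = 0 := by
    rw [← hm]
    have hnat := (psi' p h0).hom.naturality g.op
    have h2 := congrArg (fun f => f.hom s) hnat
    refine h2.trans ?_
    show (EtCoh.Ga S).obj.map g.op ((psi' p h0).hom.app (op U) s) = 0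
    rw [hs, map_zero]
  rw [psi'_constSec] at h1
  obtain ⟨k⟩ := m
  obtain ⟨k, rfl⟩ := ZMod.intCast_surjective k
  rw [etaFun_intCast] at h1
  have h3 : (k : Γ(V.left, ⊤)) = 0 := congrArg ULift.down h1
  obtain ⟨v, -⟩ := hx
  have hch := charP_residueField S p h0 V v hp
  have h4 : ((k : ℤ) : V.left.residueField v) = 0 := by
    have := congrArg (V.left.evaluation ⊤ v trivial).hom h3
    simpa using this
  have h5 : (p : ℤ) ∣ k := (CharP.intCast_eq_zero_iff (V.left.residueField v) p k).1 h4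
  have h6 : ((k : ℤ) : ZMod p) = 0 := (ZMod.intCast_zmod_eq_zero_iff_dvd k p).2 h5
  rw [h6]
  exact map_zero _

/-- the comparison map `ℤ/p → ker (F - 1)` -/
noncomputable def psi :
    constSh S (AddCommGrpCat.of (ULift.{u + 1} (ZMod p))) ⟶ kernel (artinSchreierEndo S p hp h0) :=
  kernel.lift (artinSchreierEndo S p hp h0) (psi' p h0) (psi'_AS p h0 hp)

lemma psi_ι : psi S p hp h0 ≫ kernel.ι (artinSchreierEndo S p hp h0) = psi' p h0 :=
  kernel.lift_ι _ _ _

include hp in
/-- a solution of `a ^ p = a` is locally an integer -/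
lemma exists_basicOpen_eq_intCast {Y : Scheme.{u}} (hY : (p : Γ(Y, ⊤)) = 0) (a : Γ(Y, ⊤))
    (ha : a ^ p - a = 0) (y : Y) (hch : CharP (Y.residueField y) p) :
    ∃ (k : ℤ) (g : Γ(Y, ⊤)), y ∈ Y.basicOpen g ∧
      (Y.basicOpen g).ι.appTop.hom a = (k : Γ(Y.basicOpen g, ⊤)) := by
  have : Fact p.Prime := ⟨hp⟩
  let ev : Γ(Y, ⊤) →+* Y.residueField y := (Y.evaluation ⊤ y trivial).hom
  have hev : (ev a) ^ p = ev a := by
    rw [← map_pow, ← sub_eq_zero, ← map_sub, ha, map_zero]
  obtain ⟨k, hk⟩ := (mem_bot_iff_intCast p (Y.residueField y)).1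
    ((Subfield.mem_bot_iff_pow_eq_self (Y.residueField y) p).2 hev)
  let w : Γ(Y, ⊤) := a - (k : Γ(Y, ⊤))
  have hw : w ^ p - w = 0 := by
    have h1 := (W4c5etcohweilstudent.asHom Γ(Y, ⊤) p hp hY).map_sub a (k : Γ(Y, ⊤))
    rw [W4c5etcohweilstudent.asHom_apply, W4c5etcohweilstudent.asHom_apply,
      W4c5etcohweilstudent.asHom_apply, ha, intCast_pow_prime p hp hY, sub_self,
      sub_zero] at h1
    exact h1
  have hevw : ev w = 0 := by
    show ev (a - (k : Γ(Y, ⊤))) = 0
    rw [map_sub, map_intCast, hk, sub_self]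
  let g : Γ(Y, ⊤) := 1 - w ^ (p - 1)
  have hevg : ev g = 1 := by
    show ev (1 - w ^ (p - 1)) = 1
    have hp1 : p - 1 ≠ 0 := by have := hp.two_le; omega
    rw [map_sub, map_one, map_pow, hevw, zero_pow hp1, sub_zero]
  have hyg : y ∈ Y.basicOpen g := by
    refine (Scheme.evaluation_ne_zero_iff_mem_basicOpen Y (U := ⊤) y trivial g).1 ?_
    show ev g ≠ 0
    rw [hevg]
    exact one_ne_zero
  have hmul : ((w + 1) - 1) * g = 0 := by
    have hpp : w * w ^ (p - 1) = w ^ p := by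
      rw [← pow_succ']
      congr 1
      have := hp.two_le
      omega
    show ((w + 1) - 1) * (1 - w ^ (p - 1)) = 0
    rw [add_sub_cancel_right, mul_sub, mul_one, hpp]
    rw [← neg_sub, hw, neg_zero]
  have h1 := appTop_eq_one_of_mul_eq_zero (w + 1) g hmul
  refine ⟨k, g, hyg, ?_⟩
  rw [map_add, map_one, add_eq_right] at h1
  have h2 : (Y.basicOpen g).ι.appTop.hom (a - (k : Γ(Y, ⊤))) = 0 := h1
  rw [map_sub, map_intCast, sub_eq_zero] at h2
  exact h2

lemma epi_psi : Epi (psi S p hp h0) := by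
  apply epi_of_forall_exists_lift
  intro V a v
  let b0 : EtCoh.sect (EtCoh.Ga S) V := (kernel.ι (artinSchreierEndo S p hp h0)).hom.app (op V) a
  let a0 : Γ(V.left, ⊤) := b0.down
  have hb0 : b0 = ⟨a0⟩ := rfl
  have ha0 : a0 ^ p - a0 = 0 := by
    have hc : kernel.ι (artinSchreierEndo S p hp h0) ≫ artinSchreierEndo S p hp h0 = 0 :=
      kernel.condition _
    have h1 := congrArg (fun f : kernel (artinSchreierEndo S p hp h0) ⟶ EtCoh.Ga S =>
      f.hom.app (op V) a) hc
    have h2 : (artinSchreierEndo S p hp h0).hom.app (op V) b0 = 0 := h1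
    rw [hb0, AS_app] at h2
    exact congrArg ULift.down h2
  obtain ⟨k, g, hvg, hk⟩ := exists_basicOpen_eq_intCast p hp (natCast_eq_zero_etale p h0 V) a0 ha0 v
    (charP_residueField S p h0 V v hp)
  refine ⟨openSub V (V.left.basicOpen g), openSubι V (V.left.basicOpen g),
    constSec _ _ ⟨((k : ℤ) : ZMod p)⟩, ⟨⟨v, hvg⟩, rfl⟩, ?_⟩
  have hmono : Mono (kernel.ι (artinSchreierEndo S p hp h0)) := equalizer.ι_mono
  apply injective_app_of_mono (kernel.ι (artinSchreierEndo S p hp h0))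
  have hL : (kernel.ι (artinSchreierEndo S p hp h0)).hom.app (op (openSub V (V.left.basicOpen g)))
      ((psi S p hp h0).hom.app (op (openSub V (V.left.basicOpen g)))
        (constSec _ _ ⟨((k : ℤ) : ZMod p)⟩)) =
      ⟨(k : Γ((openSub V (V.left.basicOpen g)).left, ⊤))⟩ := by
    have h1 := congrArg (fun f : constSh S (AddCommGrpCat.of (ULift.{u + 1} (ZMod p))) ⟶ EtCoh.Ga S =>
      f.hom.app (op (openSub V (V.left.basicOpen g))) (constSec _ _ ⟨((k : ℤ) : ZMod p)⟩))
      (psi_ι S p hp h0)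
    refine h1.trans ?_
    rw [psi'_constSec, etaFun_intCast]
  have hR : (kernel.ι (artinSchreierEndo S p hp h0)).hom.app (op (openSub V (V.left.basicOpen g)))
      ((kernel (artinSchreierEndo S p hp h0)).obj.map (openSubι V (V.left.basicOpen g)).op a) =
      ⟨(V.left.basicOpen g).ι.appTop.hom a0⟩ := by
    have hnat := (kernel.ι (artinSchreierEndo S p hp h0)).hom.naturality
      (openSubι V (V.left.basicOpen g)).op
    have h2 := congrArg (fun f => f.hom a) hnat
    refine h2.trans ?_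
    show (EtCoh.Ga S).obj.map (openSubι V (V.left.basicOpen g)).op b0 = _
    rw [hb0]
    rfl
  rw [hL, hR, hk]
  rfl

/-- `ker (F - 1 : G_a → G_a) ≅ ℤ/p` -/
theorem nonempty_kernel_iso_const :
    Nonempty (kernel (artinSchreierEndo S p hp h0) ≅ EtCoh.const S (ZMod p)) := by
  have hm' : Mono (psi' p h0) := mono_psi' S p hp h0
  have hm : Mono (psi S p hp h0) := by
    have := psi_ι S p hp h0
    rw [← this] at hm'
    exact mono_of_mono (psi S p hp h0) (kernel.ι (artinSchreierEndo S p hp h0))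
  have he : Epi (psi S p hp h0) := epi_psi S p hp h0
  have hi : IsIso (psi S p hp h0) := isIso_of_mono_of_epi _
  exact ⟨(asIso (psi S p hp h0)).symm⟩

/-- `H^q(S_et, ker (F - 1)) = 0` for `q ≥ 2` on an affine scheme where `p = 0` -/
theorem subsingleton_H_kernel [IsAffine S] (q : ℕ) (hq : 2 ≤ q) :
    Subsingleton (EtCoh.H S (kernel (artinSchreierEndo S p hp h0)) q) := by
  have hepi : Epi (artinSchreierEndo S p hp h0) := Groth.Agent.S18415.result p hp h0
  let T : ShortComplex (EtCoh.Ab S) := ShortComplex.mk (kernel.ι (artinSchreierEndo S p hp h0))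
    (artinSchreierEndo S p hp h0) (kernel.condition _)
  have hmono : Mono T.f := equalizer.ι_mono
  have hepi' : Epi T.g := hepi
  have hT : T.ShortExact :=
    { exact := ShortComplex.exact_of_f_is_kernel _ (kernelIsKernel _) }
  obtain ⟨n, rfl⟩ : ∃ n, q = n + 2 := ⟨q - 2, by omega⟩
  have h2 : Subsingleton (EtCoh.H S (EtCoh.Ga S) (n + 2)) :=
    Groth.Agent.Lib.EtGaCech65.subsingleton_H_Ga S (n + 2) (by omega)
  have h1 : Subsingleton (EtCoh.H S (EtCoh.Ga S) (n + 1)) :=
    Groth.Agent.Lib.EtGaCech65.subsingleton_H_Ga S (n + 1) (by omega)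
  have key : ∀ x : EtCoh.H S T.X₁ (n + 2), x = 0 := by
    intro x
    obtain ⟨x₃, hx₃⟩ := Abelian.Ext.covariant_sequence_exact₁ _ hT x
      (@Subsingleton.elim _ h2 _ _) (rfl : n + 1 + 1 = n + 2)
    rw [← hx₃, @Subsingleton.elim _ h1 x₃ 0, Abelian.Ext.zero_comp]
  exact ⟨fun x y => (key x).trans (key y).symm⟩

include hp h0 in
/-- **S0103**: `H^q(S_et, ℤ/p) = 0` for `q ≥ 2` on an affine scheme where `p = 0` -/
theorem subsingleton_H_const_ZMod [IsAffine S] (q : ℕ) (hq : 2 ≤ q) :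
    Subsingleton (EtCoh.H S (EtCoh.const S (ZMod p)) q) := by
  obtain ⟨e⟩ := nonempty_kernel_iso_const S p hp h0
  have h : Subsingleton ((EtCoh.HF S q).obj (kernel (artinSchreierEndo S p hp h0))) :=
    subsingleton_H_kernel S p hp h0 q hq
  exact ((EtCoh.HF S q).mapIso e).symm.addCommGroupIsoToAddEquiv.toEquiv.subsingleton

end main

end Groth.Agent.Lib.EtASConst65
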