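import Groth.Agent.Lib.EtStalkConservative
import Groth.Prelude.Def_EtBase
import Mathlib.CategoryTheory.Sites.EpiMono
import Mathlib.CategoryTheory.Sites.LocallySurjective
import Mathlib.CategoryTheory.Sites.Point.Skyscraper
import Mathlib.Algebra.Category.Grp.FilteredColimits
import Mathlib.Algebra.Category.Grp.AB
import Mathlib.Algebra.Homology.ShortComplex.ExactFunctor
import Mathlib.CategoryTheory.Abelian.GrothendieckAxioms.Basic
import Mathlib.CategoryTheory.Preadditive.AdditiveFunctor

/-!
# Stalks of abelian sheaves on the small etale site are conservative (helper39)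

`EtCoh.Ab X` is valued in `AddCommGrpCat.{u+1}`, one universe above the universe of the points, so
Mathlib's `IsConservativeFamilyOfPoints.jointlyReflect...` does not apply directly.  Following
helper32's `Lib/EtStalkConservative` (sheaves of sets), we prove for abelian sheaves:

* `mono_of_forall_stdPt`, `epi_of_forall_stdPt`, `isIso_of_forall_stdPt`, `isZero_of_forall_stdPt`:
  detection on the stalks at the standard geometric points `stdPt x`;
* `stalk_map_injective_of_mono`, `stalk_map_surjective_of_epi` (any geometric point);
* exactness of `EtCoh.stalk ξ` (instances `PreservesFiniteLimits`, `PreservesFiniteColimits`) and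
  `exact_of_forall_stdPt`, `exact_map_stalk`.
-/

set_option autoImplicit false
universe u
open CategoryTheory CategoryTheory.Limits AlgebraicGeometry Opposite

namespace Groth.Agent.Lib.EtAbStalk

open Groth.Agent.Lib.EtStalkConservative

variable {X : Scheme.{u}}

instance : PreservesFilteredColimitsOfSize.{u, u} (forget AddCommGrpCat.{u + 1}) :=
  preservesFilteredColimitsOfSize_of_univLE.{u + 1, u + 1, u, u} _

section

variable {F G : EtCoh.Ab X} (v : F ⟶ G)

/-- injectivity on the stalks at the standard geometric points implies monomorphism -/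
lemma mono_of_forall_stdPt
    (h : ∀ x : X, Function.Injective ((EtCoh.stalk (stdPt x)).map v)) : Mono v := by
  have : Presheaf.IsLocallyInjective X.smallEtaleTopology v.hom := ⟨fun {U} a b hab => by
    apply sieve_mem_of_forall_stdPt
    intro x t
    have h1 : (Scheme.pointSmallEtale (stdPt x)).toPresheafFiber U.unop t F.obj a =
        (Scheme.pointSmallEtale (stdPt x)).toPresheafFiber U.unop t F.obj b := by
      apply h x
      have e1 := (Scheme.pointSmallEtale (stdPt x)).toPresheafFiber_naturality_apply
        v.hom U.unop t a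
      have e2 := (Scheme.pointSmallEtale (stdPt x)).toPresheafFiber_naturality_apply
        v.hom U.unop t b
      exact e1.trans ((congrArg _ hab).trans e2.symm)
    obtain ⟨V, g, y, hy, hg⟩ :=
      ((Scheme.pointSmallEtale (stdPt x)).toPresheafFiber_eq_iff' _ _ _ _).1 h1
    exact ⟨V, g, hg, y, hy⟩⟩
  exact Sheaf.mono_of_isLocallyInjective v

/-- surjectivity on the stalks at the standard geometric points implies epimorphism -/
lemma epi_of_forall_stdPt
    (h : ∀ x : X, Function.Surjective ((EtCoh.stalk (stdPt x)).map v)) : Epi v := by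
  have : Presheaf.IsLocallySurjective X.smallEtaleTopology v.hom := ⟨fun {U} s => by
    apply sieve_mem_of_forall_stdPt
    intro x t
    obtain ⟨p, hp⟩ := h x ((Scheme.pointSmallEtale (stdPt x)).toPresheafFiber U t G.obj s)
    obtain ⟨W, w, z, rfl⟩ :=
      (Scheme.pointSmallEtale (stdPt x)).toPresheafFiber_jointly_surjective (P := F.obj) p
    have e1 := (Scheme.pointSmallEtale (stdPt x)).toPresheafFiber_naturality_apply
        v.hom W w z
    replace hp := e1.symm.trans hp
    obtain ⟨V₀, g₀, h₀, y₀, hg₀, hh₀⟩ :=
      exists_common_refinement (Scheme.pointSmallEtale (stdPt x)) U W t w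
    have e2 := (Scheme.pointSmallEtale (stdPt x)).toPresheafFiber_w_apply g₀ y₀ G.obj s
    have e3 := (Scheme.pointSmallEtale (stdPt x)).toPresheafFiber_w_apply h₀ y₀ G.obj
      (v.hom.app (op W) z)
    rw [hg₀] at e2
    rw [hh₀] at e3
    have e4 := (e3.trans hp).trans e2.symm
    obtain ⟨V, f, y, hy, hf⟩ :=
      ((Scheme.pointSmallEtale (stdPt x)).toPresheafFiber_eq_iff' _ _ _ _).1 e4
    refine ⟨V, f ≫ g₀, ⟨F.obj.map (f ≫ h₀).op z, ?_⟩, y, ?_⟩
    · have n1 := NatTrans.naturality_apply v.hom (f ≫ h₀).op z
      rw [n1, op_comp, Functor.map_comp, op_comp, Functor.map_comp]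
      exact hf
    · have := ConcreteCategory.congr_hom
        ((Scheme.pointSmallEtale (stdPt x)).fiber.map_comp f g₀) y
      rw [this]
      change (Scheme.pointSmallEtale (stdPt x)).fiber.map g₀
        ((Scheme.pointSmallEtale (stdPt x)).fiber.map f y) = t
      rw [hy, hg₀]⟩
  have : Sheaf.IsLocallySurjective v := this
  exact (Sheaf.isLocallySurjective_iff_epi' (φ := v)).1 this

/-- bijectivity on the stalks at the standard geometric points implies isomorphism -/
lemma isIso_of_forall_stdPt
    (h : ∀ x : X, Function.Bijective ((EtCoh.stalk (stdPt x)).map v)) : IsIso v := by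
  have := mono_of_forall_stdPt v (fun x => (h x).1)
  have := epi_of_forall_stdPt v (fun x => (h x).2)
  exact isIso_of_mono_of_epi v

end

/-- an abelian sheaf all of whose stalks at the standard geometric points vanish is zero -/
lemma isZero_of_forall_stdPt (F : EtCoh.Ab X)
    (h : ∀ x : X, IsZero ((EtCoh.stalk (stdPt x)).obj F)) : IsZero F := by
  have hm : Mono (0 : F ⟶ F) := by
    apply mono_of_forall_stdPt
    intro x a b _
    exact (AddCommGrpCat.subsingleton_of_isZero (h x)).elim a b
  exact IsZero.of_mono_zero F F

section exactness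

instance : AB5OfSize.{u, u} AddCommGrpCat.{u + 1} := AB5OfSize_shrink.{u, u, u + 1, u + 1} _

variable {Ω : Type u} [Field Ω] [IsSepClosed Ω] (ξ : Spec (CommRingCat.of Ω) ⟶ X)

instance : PreservesFiniteLimits (EtCoh.stalk ξ) := by
  infer_instance

instance : PreservesFiniteColimits (EtCoh.stalk ξ) := by
  infer_instance

instance : (EtCoh.stalk ξ).Additive := Functor.additive_of_preserves_binary_products _

instance : (EtCoh.stalk ξ).PreservesHomology := by infer_instance

lemma stalk_map_injective_of_mono {F G : EtCoh.Ab X} (v : F ⟶ G) [Mono v] :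
    Function.Injective ((EtCoh.stalk ξ).map v) := by
  have : Mono ((EtCoh.stalk ξ).map v) := inferInstance
  exact (AddCommGrpCat.mono_iff_injective _).1 this

lemma stalk_map_surjective_of_epi {F G : EtCoh.Ab X} (v : F ⟶ G) [Epi v] :
    Function.Surjective ((EtCoh.stalk ξ).map v) := by
  have : Epi ((EtCoh.stalk ξ).map v) := inferInstance
  exact (AddCommGrpCat.epi_iff_surjective _).1 this

lemma exact_map_stalk (S : ShortComplex (EtCoh.Ab X)) (hS : S.Exact) :
    (S.map (EtCoh.stalk ξ)).Exact :=
  hS.map _

omit ξ in
lemma exact_of_forall_stdPt (S : ShortComplex (EtCoh.Ab X))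
    (h : ∀ x : X, (S.map (EtCoh.stalk (stdPt x))).Exact) : S.Exact := by
  rw [S.exact_iff_isZero_homology]
  apply isZero_of_forall_stdPt
  intro x
  exact IsZero.of_iso ((ShortComplex.exact_iff_isZero_homology _).1 (h x))
    (S.mapHomologyIso (EtCoh.stalk (stdPt x))).symm

end exactness

end Groth.Agent.Lib.EtAbStalk
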