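import Groth.Agent.Lib.EtStalkPullGerm

/-!
# Detecting mono/epi/iso on arbitrary geometric points (helper39)

Generalisation of `Lib/EtAbStalk`: instead of the standard geometric points `stdPt x`, any choice
of a geometric point over each point of `X` detects monomorphisms, epimorphisms and isomorphisms
of abelian sheaves on the small etale site.
-/

set_option autoImplicit false
universe u
open CategoryTheory CategoryTheory.Limits AlgebraicGeometry Opposite

namespace Groth.Agent.Lib.EtAbStalk2

open Groth.Agent.Lib.EtGerm Groth.Agent.Lib.EtStalkPullGerm Groth.Agent.Lib.EtAbStalk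

variable {X : Scheme.{u}} {F G : EtCoh.Ab X} (v : F ⟶ G)

/-- injectivity on the stalks at some geometric point over every point implies monomorphism -/
lemma mono_of_forall_exists_geomPt
    (h : ∀ x : X, ∃ (Ω : Type u) (_ : Field Ω) (_ : IsSepClosed Ω)
      (ξ : Spec (CommRingCat.of Ω) ⟶ X), ξ default = x ∧
        Function.Injective ((EtCoh.stalk ξ).map v)) : Mono v := by
  have hinj : ∀ U : X.Etaleᵒᵖ, Function.Injective (v.hom.app U) := by
    intro U
    rw [injective_iff_map_eq_zero]
    intro s hs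
    apply section_eq_zero_of_forall_germ
    intro u
    obtain ⟨Ω, _, _, ξ, hξ, hinj⟩ := h (U.unop.hom u)
    obtain ⟨y, hy⟩ := exists_nbhd_of_pt ξ U.unop u hξ.symm
    refine ⟨Ω, inferInstance, inferInstance, ξ, y, hy, ?_⟩
    apply hinj
    rw [map_zero]
    refine (germ_naturality ξ v y s).trans ?_
    have : v.hom.app (op U.unop) s = 0 := hs
    rw [this, map_zero]
  have : Presheaf.IsLocallyInjective X.smallEtaleTopology v.hom :=
    Presheaf.isLocallyInjective_of_injective _ _ hinj
  exact Sheaf.mono_of_isLocallyInjective _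

/-- surjectivity on the stalks at some geometric point over every point implies epimorphism -/
lemma epi_of_forall_exists_geomPt
    (h : ∀ x : X, ∃ (Ω : Type u) (_ : Field Ω) (_ : IsSepClosed Ω)
      (ξ : Spec (CommRingCat.of Ω) ⟶ X), ξ default = x ∧
        Function.Surjective ((EtCoh.stalk ξ).map v)) : Epi v := by
  have : Presheaf.IsLocallySurjective X.smallEtaleTopology v.hom := ⟨fun {U} t => by
    apply sieve_mem_of_forall_pt
    intro u
    obtain ⟨Ω, _, _, ξ, hξ, hsurj⟩ := h (U.hom u)
    obtain ⟨y, hy⟩ := exists_nbhd_of_pt ξ U u hξ.symm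
    obtain ⟨τ, hτ⟩ := hsurj (germ ξ G y t)
    obtain ⟨U', y', s', rfl⟩ := germ_jointly_surjective ξ F τ
    obtain ⟨W, a, b, w, haw, hbw⟩ := exists_common_nbhd ξ y' y
    have e1 : germ ξ G w (v.hom.app (op W) (F.obj.map a.op s')) = germ ξ G w (G.obj.map b.op t) := by
      rw [germ_res, hbw, ← hτ, germ_naturality, ← germ_naturality, germ_res, haw, germ_naturality]
    obtain ⟨W', c, w', hcw, hc⟩ := (germ_eq_iff ξ G w _ _).1 e1
    refine ⟨W', c ≫ b, ⟨F.obj.map (c ≫ a).op s', ?_⟩, ⟨Nbhd.pt ξ w', ?_⟩⟩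
    · have n1 := NatTrans.naturality_apply v.hom (c ≫ a).op s'
      rw [n1, op_comp, Functor.map_comp, op_comp, Functor.map_comp]
      have n2 := NatTrans.naturality_apply v.hom a.op s'
      have : G.obj.map c.op (G.obj.map a.op (v.hom.app (op U') s')) =
          G.obj.map c.op (v.hom.app (op W) (F.obj.map a.op s')) := congrArg _ n2.symm
      exact this.trans hc
    · have h1 : Nbhd.pt ξ (Nbhd.map ξ c w') = c.left (Nbhd.pt ξ w') := Nbhd.pt_map ξ c w'
      rw [hcw] at h1
      have h2 : Nbhd.pt ξ (Nbhd.map ξ b w) = b.left (Nbhd.pt ξ w) := Nbhd.pt_map ξ b w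
      rw [hbw, hy] at h2
      show b.left (c.left (Nbhd.pt ξ w')) = u
      rw [← h1, ← h2]⟩
  have : Sheaf.IsLocallySurjective v := this
  exact (Sheaf.isLocallySurjective_iff_epi' (φ := v)).1 this

/-- bijectivity on the stalks at some geometric point over every point implies isomorphism -/
lemma isIso_of_forall_exists_geomPt
    (h : ∀ x : X, ∃ (Ω : Type u) (_ : Field Ω) (_ : IsSepClosed Ω)
      (ξ : Spec (CommRingCat.of Ω) ⟶ X), ξ default = x ∧
        Function.Bijective ((EtCoh.stalk ξ).map v)) : IsIso v := by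
  have := mono_of_forall_exists_geomPt v (fun x => by
    obtain ⟨Ω, i1, i2, ξ, hξ, hb⟩ := h x
    exact ⟨Ω, i1, i2, ξ, hξ, hb.1⟩)
  have := epi_of_forall_exists_geomPt v (fun x => by
    obtain ⟨Ω, i1, i2, ξ, hξ, hb⟩ := h x
    exact ⟨Ω, i1, i2, ξ, hξ, hb.2⟩)
  exact isIso_of_mono_of_epi v

end Groth.Agent.Lib.EtAbStalk2
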