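import Groth.Agent.Lib.EtAbStalk2

/-!
# Detecting zero objects and exactness on arbitrary geometric points (helper39)

Complements `Lib/EtAbStalk2`: any choice of a geometric point over each point of `X` detects zero
objects and exactness of short complexes of abelian sheaves on the small etale site.
-/

set_option autoImplicit false
universe u
open CategoryTheory CategoryTheory.Limits AlgebraicGeometry Opposite

namespace Groth.Agent.Lib.EtAbStalk3

open Groth.Agent.Lib.EtGerm Groth.Agent.Lib.EtStalkPullGerm Groth.Agent.Lib.EtAbStalk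
  Groth.Agent.Lib.EtAbStalk2

variable {X : Scheme.{u}}

/-- an abelian sheaf whose stalks at some geometric point over every point vanish is zero -/
lemma isZero_of_forall_exists_geomPt (F : EtCoh.Ab X)
    (h : ∀ x : X, ∃ (Ω : Type u) (_ : Field Ω) (_ : IsSepClosed Ω)
      (ξ : Spec (CommRingCat.of Ω) ⟶ X), ξ default = x ∧ IsZero ((EtCoh.stalk ξ).obj F)) :
    IsZero F := by
  have hm : Mono (0 : F ⟶ F) := by
    apply mono_of_forall_exists_geomPt
    intro x
    obtain ⟨Ω, i1, i2, ξ, hξ, hz⟩ := h x
    exact ⟨Ω, i1, i2, ξ, hξ, fun a b _ => (AddCommGrpCat.subsingleton_of_isZero hz).elim a b⟩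
  exact IsZero.of_mono_zero F F

/-- exactness of a short complex can be checked on the stalks at some geometric point over every
point -/
lemma exact_of_forall_exists_geomPt (S : ShortComplex (EtCoh.Ab X))
    (h : ∀ x : X, ∃ (Ω : Type u) (_ : Field Ω) (_ : IsSepClosed Ω)
      (ξ : Spec (CommRingCat.of Ω) ⟶ X), ξ default = x ∧ (S.map (EtCoh.stalk ξ)).Exact) :
    S.Exact := by
  rw [S.exact_iff_isZero_homology]
  apply isZero_of_forall_exists_geomPt
  intro x
  obtain ⟨Ω, i1, i2, ξ, hξ, hz⟩ := h x
  exact ⟨Ω, i1, i2, ξ, hξ, IsZero.of_iso ((ShortComplex.exact_iff_isZero_homology _).1 hz)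
    (S.mapHomologyIso (EtCoh.stalk ξ)).symm⟩

/-- a morphism between zero groups is bijective -/
lemma bijective_of_isZero {A B : AddCommGrpCat.{u+1}} (f : A ⟶ B) (hA : IsZero A) (hB : IsZero B) :
    Function.Bijective f := by
  have := AddCommGrpCat.subsingleton_of_isZero hA
  have := AddCommGrpCat.subsingleton_of_isZero hB
  exact ⟨fun a b _ => Subsingleton.elim a b, fun b => ⟨0, Subsingleton.elim _ _⟩⟩

/-- a short complex of abelian sheaves is short exact as soon as, at some geometric point over
every point, either the first term has zero stalk and the second map is an isomorphism on stalks, or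
the third term has zero stalk and the first map is an isomorphism on stalks -/
lemma shortExact_of_forall_exists_geomPt (S : ShortComplex (EtCoh.Ab X))
    (h : ∀ x : X, ∃ (Ω : Type u) (_ : Field Ω) (_ : IsSepClosed Ω)
      (ξ : Spec (CommRingCat.of Ω) ⟶ X), ξ default = x ∧
        ((IsZero ((EtCoh.stalk ξ).obj S.X₁) ∧ IsIso ((EtCoh.stalk ξ).map S.g)) ∨
         (IsZero ((EtCoh.stalk ξ).obj S.X₃) ∧ IsIso ((EtCoh.stalk ξ).map S.f)))) :
    S.ShortExact := by
  have hex : S.Exact := by
    apply exact_of_forall_exists_geomPt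
    intro x
    obtain ⟨Ω, i1, i2, ξ, hξ, hz⟩ := h x
    refine ⟨Ω, i1, i2, ξ, hξ, ?_⟩
    rcases hz with ⟨hz, hiso⟩ | ⟨hz, hiso⟩
    · have hf : (S.map (EtCoh.stalk ξ)).f = 0 := hz.eq_of_src _ _
      rw [ShortComplex.exact_iff_mono _ hf]
      show Mono ((EtCoh.stalk ξ).map S.g)
      infer_instance
    · have hg : (S.map (EtCoh.stalk ξ)).g = 0 := hz.eq_of_tgt _ _
      rw [ShortComplex.exact_iff_epi _ hg]
      show Epi ((EtCoh.stalk ξ).map S.f)
      infer_instance
  have hmono : Mono S.f := by
    apply mono_of_forall_exists_geomPt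
    intro x
    obtain ⟨Ω, i1, i2, ξ, hξ, hz⟩ := h x
    refine ⟨Ω, i1, i2, ξ, hξ, ?_⟩
    rcases hz with ⟨hz, hiso⟩ | ⟨hz, hiso⟩
    · intro a b _
      exact (AddCommGrpCat.subsingleton_of_isZero hz).elim a b
    · exact (ConcreteCategory.bijective_of_isIso _).1
  have hepi : Epi S.g := by
    apply epi_of_forall_exists_geomPt
    intro x
    obtain ⟨Ω, i1, i2, ξ, hξ, hz⟩ := h x
    refine ⟨Ω, i1, i2, ξ, hξ, ?_⟩
    rcases hz with ⟨hz, hiso⟩ | ⟨hz, hiso⟩
    · exact (ConcreteCategory.bijective_of_isIso _).2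
    · intro b
      exact ⟨0, (AddCommGrpCat.subsingleton_of_isZero hz).elim _ _⟩
  exact { exact := hex, mono_f := hmono, epi_g := hepi }

end Groth.Agent.Lib.EtAbStalk3
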