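import Groth.Agent.Lib.LanExact95
import Groth.Prelude.Def_EtBase

/-!
# Inverse image of abelian étale sheaves is exact (helper95)

`EtCoh.pull f` preserves finite limits for every morphism of schemes `f`.  More generally, for a
continuous functor `u : C ⥤ D` between categories with objects in `Type (v+1)` and morphisms in
`Type v`, where `C` has fibre products and equalizers preserved by `u`, the pullback of sheaves
of abelian groups (in `Type (v+1)`) is exact.
-/

set_option autoImplicit false

universe v u

open CategoryTheory CategoryTheory.Limits Opposite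

namespace Groth.Agent.Lib.EtPullExact95

section General

variable {C : Type (v + 1)} [Category.{v} C] {D : Type (v + 1)} [Category.{v} D] (F : C ⥤ D)
  [HasPullbacks C] [HasEqualizers C]
  [PreservesLimitsOfShape WalkingCospan F] [PreservesLimitsOfShape WalkingParallelPair F]

instance hasPushouts_costructuredArrow (V : Dᵒᵖ) : HasPushouts (CostructuredArrow F.op V) := by
  have : PreservesColimitsOfShape WalkingSpan F.op := by
    have : PreservesLimitsOfShape WalkingSpanᵒᵖ F :=
      preservesLimitsOfShape_of_equiv walkingSpanOpEquiv.symm F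
    exact preservesColimitsOfShape_op _ _
  infer_instance

instance hasCoequalizers_costructuredArrow (V : Dᵒᵖ) :
    HasCoequalizers (CostructuredArrow F.op V) := by
  have : PreservesColimitsOfShape WalkingParallelPair F.op := by
    have : PreservesLimitsOfShape WalkingParallelPairᵒᵖ F :=
      preservesLimitsOfShape_of_equiv walkingParallelPairOpEquiv F
    exact preservesColimitsOfShape_op _ _
  infer_instance

lemma hasExactColimitsOfShape_of_hasPushouts (E : Type (v + 1)) [Category.{v} E] [HasPushouts E]
    [HasCoequalizers E] : HasExactColimitsOfShape E AddCommGrpCat.{v + 1} := by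
  let e : E ≌ AsSmall.{v + 1} E := AsSmall.equiv
  have : HasPushouts (AsSmall.{v + 1} E) :=
    Adjunction.hasColimitsOfShape_of_equivalence e.inverse
  have : HasCoequalizers (AsSmall.{v + 1} E) :=
    Adjunction.hasColimitsOfShape_of_equivalence e.inverse
  have h : HasExactColimitsOfShape (AsSmall.{v + 1} E) AddCommGrpCat.{v + 1} :=
    Groth.Agent.Lib.LanExact95.hasExactColimitsOfShape
  exact HasExactColimitsOfShape.of_domain_equivalence AddCommGrpCat.{v + 1} e.symm

instance (V : Dᵒᵖ) : HasExactColimitsOfShape (CostructuredArrow F.op V) AddCommGrpCat.{v + 1} :=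
  hasExactColimitsOfShape_of_hasPushouts _

/-- the left Kan extension of abelian presheaves along `F.op` is exact -/
instance preservesFiniteLimits_lan :
    PreservesFiniteLimits (F.op.lan : (Cᵒᵖ ⥤ AddCommGrpCat.{v + 1}) ⥤ (Dᵒᵖ ⥤ AddCommGrpCat.{v + 1})) :=
  Groth.Agent.Lib.LanExact.preservesFiniteLimits_lan F.op

end General

open AlgebraicGeometry

set_option backward.isDefEq.respectTransparency.types false in
/-- **inverse image of abelian étale sheaves is exact** -/
instance preservesFiniteLimits_pull {X Y : Scheme.{u}} (f : X ⟶ Y) :
    PreservesFiniteLimits (EtCoh.pull f) := by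
  have : PreservesFiniteLimits ((EtCoh.bc f).op.lan :
      (Y.Etaleᵒᵖ ⥤ AddCommGrpCat.{u + 1}) ⥤ (X.Etaleᵒᵖ ⥤ AddCommGrpCat.{u + 1})) :=
    preservesFiniteLimits_lan (EtCoh.bc f)
  exact Functor.sheafPullbackConstruction.preservesFiniteLimits (EtCoh.bc f) AddCommGrpCat.{u + 1}
    Y.smallEtaleTopology X.smallEtaleTopology

end Groth.Agent.Lib.EtPullExact95
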