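import Groth.Agent.Lib.EtHpullComp
import Groth.Agent.Lib.EtPullExact95
import Mathlib.CategoryTheory.Limits.Shapes.Pullback.Iso

/-!
# Pullback on étale cohomology along a morphism with a section is split injective (helper95)

* `pullId : EtCoh.pull (𝟙 X) ≅ 𝟭 _`;
* `Hpull_id_bijective`: `EtCore.Hpull (𝟙 X) G n` is bijective;
* `exists_retraction_Hpull`: if `a ≫ t = 𝟙`, then `EtCore.Hpull t G n` has a retraction;
* `exists_retraction_HpullVia`: the relative version.
-/

set_option autoImplicit false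

universe u

open CategoryTheory CategoryTheory.Limits AlgebraicGeometry Opposite

namespace Groth.Agent.Lib.EtHpullId95

open EtCore EtCoh Groth.Agent.Lib.EtPullExact95

instance isIso_fst {X : Scheme.{u}} (V : X.Etale) : IsIso (pullback.fst V.hom (𝟙 X)) :=
  pullback_fst_iso_of_right_iso V.hom (𝟙 X)

set_option backward.isDefEq.respectTransparency.types false in
/-- base change along the identity is the identity -/
noncomputable def bcId (X : Scheme.{u}) : EtCoh.bc (𝟙 X) ≅ 𝟭 X.Etale :=
  NatIso.ofComponents (fun V => MorphismProperty.Over.isoMk (@asIso _ _ _ _ (pullback.fst V.hom (𝟙 X)) (isIso_fst V))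
    (by
      dsimp [EtCoh.bc]
      rw [MorphismProperty.Over.pullback_obj_hom]
      exact pullback.condition.trans (Category.comp_id _)))
    (by
      intro V W g
      apply MorphismProperty.Over.Hom.ext
      dsimp [EtCoh.bc]
      show ((MorphismProperty.Over.pullback etaleMP ⊤ (𝟙 X)).map g).left ≫
        pullback.fst W.hom (𝟙 X) = pullback.fst V.hom (𝟙 X) ≫ g.left
      rw [MorphismProperty.Over.pullback_map_left]
      exact pullback.lift_fst _ _ _)

set_option backward.isDefEq.respectTransparency.types false in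
/-- direct image along the identity is the identity -/
noncomputable def pushId (X : Scheme.{u}) : EtCoh.push (𝟙 X) ≅ 𝟭 (EtCoh.Ab X) :=
  Functor.sheafPushforwardContinuousId' (bcId X) AddCommGrpCat.{u + 1} X.smallEtaleTopology

/-- inverse image along the identity is the identity -/
noncomputable def pullId (X : Scheme.{u}) : EtCoh.pull (𝟙 X) ≅ 𝟭 (EtCoh.Ab X) :=
  Adjunction.leftAdjointUniq (EtCoh.pullPushAdj (𝟙 X))
    (Adjunction.id.ofNatIsoRight (pushId X).symm)

instance (X : Scheme.{u}) : (EtCoh.pull (𝟙 X)).IsEquivalence :=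
  Functor.isEquivalence_of_iso (pullId X).symm

open CategoryTheory.Abelian in
/-- pullback along the identity is bijective on cohomology -/
theorem Hpull_id_bijective (X : Scheme.{u}) (G : EtCoh.Ab X) (n : ℕ) :
    Function.Bijective (Hpull (𝟙 X) G n) := by
  have h1 : Function.Bijective ((EtCoh.pull (𝟙 X)).mapExtAddHom
      ((constantSheaf X.smallEtaleTopology AddCommGrpCat.{u+1}).obj
        (AddCommGrpCat.of (ULift.{u+1} ℤ))) G n) :=
    Functor.mapExt_bijective_of_preservesInjectiveObjects _ _ _ _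
  have h2 : Function.Bijective (fun e : Ext ((EtCoh.pull (𝟙 X)).obj (EtCoh.const X ℤ))
      ((EtCoh.pull (𝟙 X)).obj G) n => (Ext.mk₀ (pullConst (𝟙 X) ℤ).inv).comp e (zero_add n)) := by
    refine Function.bijective_iff_has_inverse.2
      ⟨fun e => (Ext.mk₀ (pullConst (𝟙 X) ℤ).hom).comp e (zero_add n), fun e => ?_, fun e => ?_⟩
    · dsimp only
      rw [← Ext.comp_assoc_of_second_deg_zero, Ext.mk₀_comp_mk₀, Iso.hom_inv_id, Ext.mk₀_id_comp]
    · dsimp only
      rw [← Ext.comp_assoc_of_second_deg_zero, Ext.mk₀_comp_mk₀, Iso.inv_hom_id, Ext.mk₀_id_comp]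
  exact h2.comp h1

/-- if `t` has a section `a`, pullback along `t` on cohomology has a retraction -/
theorem exists_retraction_Hpull {U X : Scheme.{u}} (a : X ⟶ U) (t : U ⟶ X) (w : a ≫ t = 𝟙 X)
    (G : EtCoh.Ab X) (n : ℕ) :
    ∃ r : EtCoh.H U ((EtCoh.pull t).obj G) n →+ EtCoh.H X G n, ∀ x, r (Hpull t G n x) = x := by
  let φ := AddEquiv.ofBijective (Hpull (𝟙 X) G n) (Hpull_id_bijective X G n)
  refine ⟨φ.symm.toAddMonoidHom.comp (HpullVia a t (𝟙 X) w G n), fun x => ?_⟩
  rw [AddMonoidHom.comp_apply, Groth.Agent.Lib.EtHpullComp.HpullVia_Hpull a t w G n x]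
  exact φ.symm_apply_apply x

/-- relative version: if `g` has a section, `HpullVia g t f₀ w G n` has a retraction -/
theorem exists_retraction_HpullVia {W U X : Scheme.{u}} (g : W ⟶ U) (t : U ⟶ X) (f₀ : W ⟶ X)
    (w : g ≫ t = f₀) (σ : U ⟶ W) (hσ : σ ≫ g = 𝟙 U) (G : EtCoh.Ab X) (n : ℕ) :
    ∃ r : EtCoh.H W ((EtCoh.pull f₀).obj G) n →+ EtCoh.H U ((EtCoh.pull t).obj G) n,
      ∀ y, r (HpullVia g t f₀ w G n y) = y := by
  obtain ⟨r₀, hr₀⟩ := exists_retraction_Hpull σ g hσ ((EtCoh.pull t).obj G) n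
  let κ := ((pullComp g t).symm ≪≫ pullCongr w).app G
  refine ⟨r₀.comp ((EtCoh.HF W n).map κ.inv).hom, fun y => ?_⟩
  have h1 : HpullVia g t f₀ w G n y =
      ((EtCoh.HF W n).map κ.hom).hom (Hpull g ((EtCoh.pull t).obj G) n y) := rfl
  have h2 : ∀ z, ((EtCoh.HF W n).map κ.inv).hom (((EtCoh.HF W n).map κ.hom).hom z) = z := by
    intro z
    rw [← AddCommGrpCat.comp_apply, ← Functor.map_comp, Iso.hom_inv_id,
      CategoryTheory.Functor.map_id]
    rfl
  rw [AddMonoidHom.comp_apply, h1]
  exact (congrArg r₀ (h2 _)).trans (hr₀ y)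

end Groth.Agent.Lib.EtHpullId95
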