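import Groth.Prelude.Def_EtAcyc
import Groth.Agent.Lib.EtHpullId95
import Groth.Agent.Lib.EtStalkPullGerm

/-!
# Composition of `n`-acyclic morphisms (helper95)

* `pullEquiv`, `Hpull_bijective_of_isIso`: inverse image along an isomorphism of schemes is an
  equivalence and `Hpull` is bijective;
* `Hpull_comp_factor`, `Hpull_iso_comp_factor`: `Hpull` of a composite;
* `isLTorsion_pull`: inverse images of `L`-torsion sheaves are `L`-torsion;
* `eIso`, `Hpull_prj_comp_factor`, `isAcyclicN_comp_iff`;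
* `pullShId`, `pullShEquiv`, `isZeroAcyclic_iff` (0-acyclic iff all `g'^*` fully faithful),
  `isZeroAcyclic_comp_iff`.
-/

set_option autoImplicit false
universe u
open CategoryTheory CategoryTheory.Limits AlgebraicGeometry Opposite

namespace Groth.Agent.Lib.EtAcycComp95

open EtCore EtCoh Groth.Agent.Lib.EtPullExact95 Groth.Agent.Lib.EtHpullId95

section iso

variable {X Y : Scheme.{u}} (f : X ⟶ Y) [IsIso f]

/-- inverse image along an isomorphism is an equivalence -/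
noncomputable def pullEquiv : EtCoh.Ab Y ≌ EtCoh.Ab X :=
  CategoryTheory.Equivalence.mk (EtCoh.pull f) (EtCoh.pull (inv f))
    ((pullId Y).symm ≪≫ pullCongr (IsIso.inv_hom_id f).symm ≪≫ pullComp (inv f) f)
    ((pullComp f (inv f)).symm ≪≫ pullCongr (IsIso.hom_inv_id f) ≪≫ pullId X)

instance : (EtCoh.pull f).IsEquivalence := (pullEquiv f).isEquivalence_functor

open CategoryTheory.Abelian in
/-- pullback along an isomorphism is bijective on cohomology -/
theorem Hpull_bijective_of_isIso (G : EtCoh.Ab Y) (n : ℕ) :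
    Function.Bijective (Hpull f G n) := by
  have h1 : Function.Bijective ((EtCoh.pull f).mapExtAddHom
      ((constantSheaf Y.smallEtaleTopology AddCommGrpCat.{u+1}).obj
        (AddCommGrpCat.of (ULift.{u+1} ℤ))) G n) :=
    Functor.mapExt_bijective_of_preservesInjectiveObjects _ _ _ _
  have h2 : Function.Bijective (fun e : Ext ((EtCoh.pull f).obj (EtCoh.const Y ℤ))
      ((EtCoh.pull f).obj G) n => (Ext.mk₀ (pullConst f ℤ).inv).comp e (zero_add n)) := by
    refine Function.bijective_iff_has_inverse.2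
      ⟨fun e => (Ext.mk₀ (pullConst f ℤ).hom).comp e (zero_add n), fun e => ?_, fun e => ?_⟩
    · dsimp only
      rw [← Ext.comp_assoc_of_second_deg_zero, Ext.mk₀_comp_mk₀, Iso.hom_inv_id, Ext.mk₀_id_comp]
    · dsimp only
      rw [← Ext.comp_assoc_of_second_deg_zero, Ext.mk₀_comp_mk₀, Iso.inv_hom_id, Ext.mk₀_id_comp]
  exact h2.comp h1

end iso

section comp

variable {W U X : Scheme.{u}} (a : W ⟶ U) (t : U ⟶ X) (f₀ : W ⟶ X) (w : a ≫ t = f₀)

include w in
/-- `Hpull` of a composite factors, up to a bijection, through the two `Hpull`s -/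
lemma Hpull_comp_factor (G : EtCoh.Ab X) (n : ℕ) :
    ∃ β : EtCoh.H W ((EtCoh.pull a).obj ((EtCoh.pull t).obj G)) n →
        EtCoh.H W ((EtCoh.pull f₀).obj G) n,
      Function.Bijective β ∧
        ∀ x, Hpull f₀ G n x = β (Hpull a ((EtCoh.pull t).obj G) n (Hpull t G n x)) := by
  let κ := ((pullComp a t).symm ≪≫ pullCongr w).app G
  refine ⟨((EtCoh.HF W n).map κ.hom).hom, ?_, fun x => ?_⟩
  · have : IsIso ((EtCoh.HF W n).map κ.hom) := inferInstance
    exact (ConcreteCategory.isIso_iff_bijective _).1 this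
  · exact (Groth.Agent.Lib.EtHpullComp.HpullVia_Hpull a t w G n x).symm

include w in
/-- if the first map is an isomorphism of schemes -/
lemma Hpull_iso_comp_factor [IsIso a] (G : EtCoh.Ab X) (n : ℕ) :
    ∃ β : EtCoh.H U ((EtCoh.pull t).obj G) n → EtCoh.H W ((EtCoh.pull f₀).obj G) n,
      Function.Bijective β ∧ ∀ x, Hpull f₀ G n x = β (Hpull t G n x) := by
  obtain ⟨β, hβ, h⟩ := Hpull_comp_factor a t f₀ w G n
  exact ⟨β ∘ Hpull a ((EtCoh.pull t).obj G) n,
    hβ.comp (Hpull_bijective_of_isIso a _ n), h⟩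

end comp

section torsion

open Groth.Agent.Lib.EtGerm Groth.Agent.Lib.EtStalkPull Groth.Agent.Lib.EtStalkPullGerm
  Groth.Agent.Lib.EtStalkConservative

variable {P Q : Scheme.{u}} (b : P ⟶ Q)

lemma isLTorsion_pull_aux (L : Set ℕ) (F : EtCoh.Ab Q) (hF : EtAcyc.IsLTorsion L F)
    {Ω : Type u} [Field Ω] [IsSepClosed Ω] (ξ : Spec (CommRingCat.of Ω) ⟶ P)
    {U : P.Etale} (s : EtCoh.sect ((EtCoh.pull b).obj F) U) (y : Nbhd ξ U) :
    ∃ (V : P.Etale) (g : V ⟶ U) (z : Nbhd ξ V) (m : ℕ), Nbhd.map ξ g z = y ∧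
      EtAcyc.PrimesIn L m ∧ m • ((EtCoh.pull b).obj F).obj.map g.op s = 0 := by
  set σ := germ ξ ((EtCoh.pull b).obj F) y s with hσ
  set τ := (stalkPullIso b ξ).hom.app F σ with hτ
  obtain ⟨U', y', t, ht⟩ := germ_jointly_surjective (ξ ≫ b) F τ
  obtain ⟨V', g', m, ⟨v', hv'⟩, hm, hmt⟩ := hF U' t (Nbhd.pt (ξ ≫ b) y')
  obtain ⟨z', hz', -⟩ := exists_nbhd_lift (ξ ≫ b) g' y' v' hv'
  have h1 : m • τ = 0 := by
    rw [← ht, ← hz', ← germ_res, ← map_nsmul, hmt, map_zero]
  have h2 : m • σ = 0 := by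
    have h3 : (stalkPullIso b ξ).hom.app F (m • σ) = 0 := by
      rw [map_nsmul]; exact h1
    have h4 := congrArg ((stalkPullIso b ξ).inv.app F) h3
    rw [map_zero] at h4
    rw [← h4]
    exact (Iso.hom_inv_id_app_apply (stalkPullIso b ξ) F _).symm
  rw [hσ, ← map_nsmul] at h2
  obtain ⟨V, g, z, hz, hg⟩ := (germ_eq_zero_iff ξ _ y _).1 h2
  refine ⟨V, g, z, m, hz, hm, ?_⟩
  rw [← map_nsmul]; exact hg

/-- inverse images of `L`-torsion sheaves are `L`-torsion -/
theorem isLTorsion_pull (L : Set ℕ) (F : EtCoh.Ab Q) (hF : EtAcyc.IsLTorsion L F) :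
    EtAcyc.IsLTorsion L ((EtCoh.pull b).obj F) := by
  intro U s x
  obtain ⟨y, hy⟩ := exists_stdPt_nbhd U x
  obtain ⟨V, g, z, m, hz, hm, hg⟩ := isLTorsion_pull_aux b L F hF (stdPt (U.hom x)) s y
  refine ⟨V, g, m, ⟨Nbhd.pt _ z, ?_⟩, hm, hg⟩
  exact ((Nbhd.pt_map _ g z).symm.trans (congrArg (Nbhd.pt _) hz)).trans hy

end torsion

section main

variable {X Y Z : Scheme.{u}} (g : X ⟶ Y) (h : Y ⟶ Z)

/-- `Y ×_Z W` as an etale `Y`-scheme -/
noncomputable abbrev VV (W : Z.Etale) : Y.Etale := (EtCoh.bc h).obj W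

set_option backward.isDefEq.respectTransparency.types false in
/-- `X ×_Z W ≅ X ×_Y (Y ×_Z W)` -/
noncomputable def eIso (W : Z.Etale) : pullback W.hom (g ≫ h) ≅ pullback (VV h W).hom g :=
  (pullbackLeftPullbackSndIso W.hom h g).symm

set_option backward.isDefEq.respectTransparency.types false in
lemma eIso_fac (W : Z.Etale) :
    (eIso g h W).hom ≫ EtAcyc.prj g (VV h W) ≫ EtAcyc.prj h W = EtAcyc.prj (g ≫ h) W := by
  have h1 := pullbackLeftPullbackSndIso_hom_fst W.hom h g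
  have h2 : (pullbackLeftPullbackSndIso W.hom h g).inv ≫
      pullback.fst (pullback.snd W.hom h) g ≫ pullback.fst W.hom h =
      pullback.fst W.hom (g ≫ h) := by
    rw [← h1, Iso.inv_hom_id_assoc]
  exact h2

set_option backward.isDefEq.respectTransparency.types false in
lemma Hpull_prj_comp_factor (W : Z.Etale) (F : EtCoh.Ab W.left) (q : ℕ) :
    ∃ β : EtCoh.H _ ((EtCoh.pull (EtAcyc.prj g (VV h W))).obj
          ((EtCoh.pull (EtAcyc.prj h W)).obj F)) q →
        EtCoh.H _ ((EtCoh.pull (EtAcyc.prj (g ≫ h) W)).obj F) q,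
      Function.Bijective β ∧
        ∀ x, Hpull (EtAcyc.prj (g ≫ h) W) F q x =
          β (Hpull (EtAcyc.prj g (VV h W)) ((EtCoh.pull (EtAcyc.prj h W)).obj F) q
            (Hpull (EtAcyc.prj h W) F q x)) := by
  obtain ⟨β₁, hβ₁, h1⟩ := Hpull_iso_comp_factor (eIso g h W).hom
    (EtAcyc.prj g (VV h W) ≫ EtAcyc.prj h W) (EtAcyc.prj (g ≫ h) W) (eIso_fac g h W) F q
  obtain ⟨β₂, hβ₂, h2⟩ := Hpull_comp_factor (EtAcyc.prj g (VV h W)) (EtAcyc.prj h W) _ rfl F q
  refine ⟨β₁ ∘ β₂, hβ₁.comp hβ₂, fun x => ?_⟩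
  rw [h1, h2]
  rfl

/-- abelian case of the composition property of `n`-acyclic morphisms -/
theorem isAcyclicN_comp_iff (L : Set ℕ) (n : ℕ) (hg : EtAcyc.IsAcyclicN g L n) :
    EtAcyc.IsAcyclicN h L n ↔ EtAcyc.IsAcyclicN (g ≫ h) L n := by
  constructor
  · intro hh W F hF _
    have hP := hg (VV h W) ((EtCoh.pull (EtAcyc.prj h W)).obj F) (isLTorsion_pull _ L F hF)
    have hT := hh W F hF
    refine ⟨fun q hq => ?_, ?_⟩
    · obtain ⟨β, hβ, hx⟩ := Hpull_prj_comp_factor g h W F q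
      have e : ⇑(Hpull (EtAcyc.prj (g ≫ h) W) F q) = β ∘
          (Hpull (EtAcyc.prj g (VV h W)) ((EtCoh.pull (EtAcyc.prj h W)).obj F) q) ∘
          (Hpull (EtAcyc.prj h W) F q) := funext hx
      rw [e]
      exact hβ.comp ((hP.1 q hq).comp (hT.1 q hq))
    · obtain ⟨β, hβ, hx⟩ := Hpull_prj_comp_factor g h W F (n + 1)
      have e : ⇑(Hpull (EtAcyc.prj (g ≫ h) W) F (n + 1)) = β ∘
          (Hpull (EtAcyc.prj g (VV h W)) ((EtCoh.pull (EtAcyc.prj h W)).obj F) (n + 1)) ∘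
          (Hpull (EtAcyc.prj h W) F (n + 1)) := funext hx
      rw [e]
      exact hβ.injective.comp (hP.2.comp hT.2)
  · intro hgh W F hF _
    have hP := hg (VV h W) ((EtCoh.pull (EtAcyc.prj h W)).obj F) (isLTorsion_pull _ L F hF)
    have hT := hgh W F hF
    refine ⟨fun q hq => ?_, ?_⟩
    · obtain ⟨β, hβ, hx⟩ := Hpull_prj_comp_factor g h W F q
      have e : ⇑(Hpull (EtAcyc.prj (g ≫ h) W) F q) = (β ∘
          (Hpull (EtAcyc.prj g (VV h W)) ((EtCoh.pull (EtAcyc.prj h W)).obj F) q)) ∘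
          (Hpull (EtAcyc.prj h W) F q) := funext hx
      have h1 := hT.1 q hq
      rw [e] at h1
      exact (Function.Bijective.of_comp_iff' (hβ.comp (hP.1 q hq)) _).1 h1
    · obtain ⟨β, hβ, hx⟩ := Hpull_prj_comp_factor g h W F (n + 1)
      have e : ⇑(Hpull (EtAcyc.prj (g ≫ h) W) F (n + 1)) = (β ∘
          (Hpull (EtAcyc.prj g (VV h W)) ((EtCoh.pull (EtAcyc.prj h W)).obj F) (n + 1))) ∘
          (Hpull (EtAcyc.prj h W) F (n + 1)) := funext hx
      have h1 := hT.2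
      rw [e] at h1
      exact Function.Injective.of_comp h1

end main

section sets

open EtDesc

set_option backward.isDefEq.respectTransparency.types false in
/-- direct image of sheaves of sets along the identity is the identity -/
noncomputable def pushShId (X : Scheme.{u}) : pushSh (𝟙 X) ≅ 𝟭 (Sh X) :=
  Functor.sheafPushforwardContinuousId' (bcId X) (Type (u + 1)) X.smallEtaleTopology

/-- inverse image of sheaves of sets along the identity is the identity -/
noncomputable def pullShId (X : Scheme.{u}) : pullSh (𝟙 X) ≅ 𝟭 (Sh X) :=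
  Adjunction.leftAdjointUniq (adjSh (𝟙 X)) (Adjunction.id.ofNatIsoRight (pushShId X).symm)

/-- inverse image of sheaves of sets along an isomorphism is an equivalence -/
noncomputable def pullShEquiv {X Y : Scheme.{u}} (f : X ⟶ Y) [IsIso f] : Sh Y ≌ Sh X :=
  CategoryTheory.Equivalence.mk (pullSh f) (pullSh (inv f))
    ((pullShId Y).symm ≪≫ pullCongrSh (IsIso.inv_hom_id f).symm ≪≫ pullCompSh (inv f) f)
    ((pullCompSh f (inv f)).symm ≪≫ pullCongrSh (IsIso.hom_inv_id f) ≪≫ pullShId X)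

instance {X Y : Scheme.{u}} (f : X ⟶ Y) [IsIso f] : (pullSh f).IsEquivalence :=
  (pullShEquiv f).isEquivalence_functor

variable {X Y : Scheme.{u}} (g : X ⟶ Y)

lemma isZeroAcyclic_iff :
    EtAcyc.IsZeroAcyclic g ↔
      ∀ V : Y.Etale, (pullSh (EtAcyc.prj g V)).Full ∧ (pullSh (EtAcyc.prj g V)).Faithful := by
  constructor
  · intro hg V
    have : ∀ F, IsIso ((adjSh (EtAcyc.prj g V)).unit.app F) := hg V
    have : IsIso (adjSh (EtAcyc.prj g V)).unit := NatIso.isIso_of_isIso_app _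
    have ff := (adjSh (EtAcyc.prj g V)).fullyFaithfulLOfIsIsoUnit
    exact ⟨ff.full, ff.faithful⟩
  · intro hg V F
    obtain ⟨h1, h2⟩ := hg V
    infer_instance

variable {Z : Scheme.{u}} (h : Y ⟶ Z)

/-- `((g ≫ h)_W)^* ≅ (h_W)^* ⋙ (g_V)^* ⋙ e^*` -/
noncomputable def pullShPrjComp (W : Z.Etale) :
    pullSh (EtAcyc.prj (g ≫ h) W) ≅
      pullSh (EtAcyc.prj h W) ⋙ pullSh (EtAcyc.prj g (VV h W)) ⋙ pullSh (eIso g h W).hom :=
  pullCongrSh (eIso_fac g h W).symm ≪≫
    pullCompSh (eIso g h W).hom (EtAcyc.prj g (VV h W) ≫ EtAcyc.prj h W) ≪≫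
    Functor.isoWhiskerRight (pullCompSh (EtAcyc.prj g (VV h W)) (EtAcyc.prj h W)) _ ≪≫
    Functor.associator _ _ _

/-- sets case of the composition property of `0`-acyclic morphisms -/
theorem isZeroAcyclic_comp_iff (hg : EtAcyc.IsZeroAcyclic g) :
    EtAcyc.IsZeroAcyclic h ↔ EtAcyc.IsZeroAcyclic (g ≫ h) := by
  rw [isZeroAcyclic_iff, isZeroAcyclic_iff]
  rw [isZeroAcyclic_iff] at hg
  constructor
  · intro hh W
    obtain ⟨h1, h2⟩ := hh W
    obtain ⟨h3, h4⟩ := hg (VV h W)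
    have h7 : (pullSh (eIso g h W).hom).Full := inferInstance
    have h8 : (pullSh (eIso g h W).hom).Faithful := inferInstance
    have h9 : (pullSh (EtAcyc.prj g (VV h W)) ⋙ pullSh (eIso g h W).hom).Full := inferInstance
    have h10 : (pullSh (EtAcyc.prj g (VV h W)) ⋙ pullSh (eIso g h W).hom).Faithful :=
      inferInstance
    have h11 : (pullSh (EtAcyc.prj h W) ⋙ pullSh (EtAcyc.prj g (VV h W)) ⋙
        pullSh (eIso g h W).hom).Full := @Functor.Full.comp _ _ _ _ _ _ _ _ h1 h9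
    have h12 : (pullSh (EtAcyc.prj h W) ⋙ pullSh (EtAcyc.prj g (VV h W)) ⋙
        pullSh (eIso g h W).hom).Faithful := @Functor.Faithful.comp _ _ _ _ _ _ _ _ h2 h10
    exact ⟨Functor.Full.of_iso (pullShPrjComp g h W).symm,
      Functor.Faithful.of_iso (pullShPrjComp g h W).symm⟩
  · intro hgh W
    obtain ⟨h1, h2⟩ := hgh W
    obtain ⟨h3, h4⟩ := hg (VV h W)
    have h5 : (pullSh (EtAcyc.prj h W) ⋙ pullSh (EtAcyc.prj g (VV h W)) ⋙
        pullSh (eIso g h W).hom).Full := Functor.Full.of_iso (pullShPrjComp g h W)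
    have h6 : (pullSh (EtAcyc.prj h W) ⋙ pullSh (EtAcyc.prj g (VV h W)) ⋙
        pullSh (eIso g h W).hom).Faithful := Functor.Faithful.of_iso (pullShPrjComp g h W)
    have h8 : (pullSh (eIso g h W).hom).Faithful := inferInstance
    have h10 : (pullSh (EtAcyc.prj g (VV h W)) ⋙ pullSh (eIso g h W).hom).Faithful :=
      inferInstance
    exact ⟨@Functor.Full.of_comp_faithful _ _ _ _ _ _ (pullSh (EtAcyc.prj h W))
        (pullSh (EtAcyc.prj g (VV h W)) ⋙ pullSh (eIso g h W).hom) h5 h10,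
      @Functor.Faithful.of_comp _ _ _ _ _ _ (pullSh (EtAcyc.prj h W))
        (pullSh (EtAcyc.prj g (VV h W)) ⋙ pullSh (eIso g h W).hom) h6⟩

end sets

end Groth.Agent.Lib.EtAcycComp95
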