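import Groth.Agent.Lib.EtBCHpull39
import Groth.Prelude.Def_LefMon

/-!
# Functoriality of `EtAdic.Hmap` (pullback on `H^i(-, ℤ/ℓ^ν)`) (helper39)
-/

set_option autoImplicit false
universe u
open CategoryTheory CategoryTheory.Limits AlgebraicGeometry Opposite

namespace Groth.Agent.Lib.EtAdicHmap39

open EtCore EtCoh CategoryTheory.Abelian Groth.Agent.Lib.EtHpullComp Groth.Agent.Lib.EtBCHpull39

variable {X Y Z : Scheme.{u}}

lemma Hmap_apply (ℓ : ℕ) (b : Y ⟶ X) (hb : PreservesFiniteLimits (EtCoh.pull b)) (i ν : ℕ)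
    (x : EtAdic.Hmod X ℓ i ν) :
    EtAdic.Hmap ℓ b hb i ν x =
      (@Hpull _ _ b hb (EtCoh.const X (ZMod (ℓ ^ ν))) i x).comp
        (Ext.mk₀ (pullConst b (ZMod (ℓ ^ ν))).hom) (add_zero i) := rfl

lemma pullConst_hom_comp (a : Z ⟶ Y) (b : Y ⟶ X) {c : Z ⟶ X} (w : a ≫ b = c) (M : Type)
    [AddCommGroup M] :
    (pullConst c M).hom =
      (((pullComp a b).symm ≪≫ pullCongr w).app (EtCoh.const X M)).inv ≫
        (EtCoh.pull a).map (pullConst b M).hom ≫ (pullConst a M).hom := by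
  have h := pullConst_inv_comp a b w M
  rw [← cancel_epi (pullConst c M).inv, Iso.inv_hom_id, h]
  simp only [Category.assoc, Iso.hom_inv_id_assoc]
  rw [← Functor.map_comp_assoc, Iso.inv_hom_id, CategoryTheory.Functor.map_id, Category.id_comp,
    Iso.inv_hom_id]

/-- functoriality of `EtAdic.Hmap` -/
theorem Hmap_comp (ℓ : ℕ) (a : Z ⟶ Y) (b : Y ⟶ X) {c : Z ⟶ X} (w : a ≫ b = c)
    (ha : PreservesFiniteLimits (EtCoh.pull a)) (hb : PreservesFiniteLimits (EtCoh.pull b))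
    (hc : PreservesFiniteLimits (EtCoh.pull c)) (i ν : ℕ) (x : EtAdic.Hmod X ℓ i ν) :
    EtAdic.Hmap ℓ a ha i ν (EtAdic.Hmap ℓ b hb i ν x) = EtAdic.Hmap ℓ c hc i ν x := by
  rw [Hmap_apply, Hmap_apply, Hmap_apply, Hpull_comp_mk₀, Hpull_Hpull a b w,
    Ext.comp_assoc_of_third_deg_zero, Ext.comp_assoc_of_third_deg_zero, Ext.mk₀_comp_mk₀,
    Ext.mk₀_comp_mk₀, pullConst_hom_comp a b w]

end Groth.Agent.Lib.EtAdicHmap39
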