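import Mathlib
import Groth.Prelude.Def_EtBase

/-!
# Finite products in `Over U` for `U` in the small étale site, seen in schemes (helper65)

For `U : X.Etale` and `Z : Fin n → Over U`, the underlying scheme of `∏ᶜ Z` is the wide pullback of
the `(Z k).left.left` over `U.left`.  If all of them are affine, so is the product, and its ring of
global functions is the wide pushout of the rings `Γ((Z k).left.left)` over `Γ(U.left)`.
-/

set_option autoImplicit false
universe u
open CategoryTheory CategoryTheory.Limits AlgebraicGeometry Opposite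

namespace Groth.Agent.Lib.EtAffProd65

variable {X : Scheme.{u}} (U : X.Etale) {n : ℕ} (Z : Fin n → Over U)

/-- the forgetful functor from the small étale site to schemes -/
abbrev Φ (X : Scheme.{u}) : X.Etale ⥤ Scheme.{u} := Scheme.Etale.forget X ⋙ Over.forget X

/-- the wide pullback diagram in `X.Etale` -/
abbrev diag : WidePullbackShape (Fin n) ⥤ X.Etale :=
  Over.ConstructProducts.widePullbackDiagramOfDiagramOver U (Discrete.functor Z)

/-- the wide pullback cone given by the product in `Over U` -/
noncomputable def coneE : Cone (diag U Z) :=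
  (Over.ConstructProducts.conesEquiv U (Discrete.functor Z)).inverse.obj
    (limit.cone (Discrete.functor Z))

noncomputable def isLimitConeE : IsLimit (coneE U Z) :=
  (IsLimit.ofConeEquiv (Over.ConstructProducts.conesEquiv U (Discrete.functor Z)).symm).symm
    (limit.isLimit (Discrete.functor Z))

lemma coneE_pt : (coneE U Z).pt = (∏ᶜ Z).left := rfl

lemma coneE_π_none : (coneE U Z).π.app none = (∏ᶜ Z).hom := rfl

lemma coneE_π_some (k : Fin n) : (coneE U Z).π.app (some k) = (Pi.π Z k).left := rfl

/-- the wide pullback cone in schemes -/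
noncomputable def coneS : Cone (diag U Z ⋙ Φ X) := (Φ X).mapCone (coneE U Z)

noncomputable def isLimitConeS : IsLimit (coneS U Z) :=
  isLimitOfPreserves (Φ X) (isLimitConeE U Z)

section Affine

variable [hU : IsAffine U.left] [hZ : ∀ k, IsAffine (Z k).left.left]

instance isAffine_diag_obj (i : WidePullbackShape (Fin n)) :
    IsAffine ((diag U Z ⋙ Φ X).obj i) := by
  cases i with
  | none => exact hU
  | some k => exact hZ k

/-- a finite product in `Over U` of affine objects over an affine object is affine -/
instance isAffine_pi : IsAffine (∏ᶜ Z).left.left :=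
  Scheme.isAffine_of_isLimit (coneS U Z) (isLimitConeS U Z)

/-- the cone in `CommRingCatᵒᵖ` -/
noncomputable def isLimitConeR : IsLimit (Scheme.Γ.rightOp.mapCone (coneS U Z)) :=
  isLimitOfPreserves Scheme.Γ.rightOp (isLimitConeS U Z)

/-- **universal property of the ring of functions on a finite product of affines** -/
theorem existsUnique_ringHom (T : CommRingCat.{u}) (f : ∀ k, Γ((Z k).left.left, ⊤) ⟶ T)
    (h : Γ(U.left, ⊤) ⟶ T) (hf : ∀ k, (Z k).hom.left.appTop ≫ f k = h) :
    ∃! φ : Γ((∏ᶜ Z).left.left, ⊤) ⟶ T, (∏ᶜ Z).hom.left.appTop ≫ φ = h ∧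
      ∀ k, (Pi.π Z k).left.left.appTop ≫ φ = f k := by
  let s : Cone ((diag U Z ⋙ Φ X) ⋙ Scheme.Γ.rightOp) :=
    WidePullbackShape.mkCone (X := op T) h.op (fun k => (f k).op) (fun k => by
      show (f k).op ≫ ((Z k).hom.left.appTop).op = h.op
      rw [← op_comp, hf k])
  refine ⟨((isLimitConeR U Z).lift s).unop, ⟨?_, fun k => ?_⟩, ?_⟩
  · have := (isLimitConeR U Z).fac s none
    exact congrArg Quiver.Hom.unop this
  · have := (isLimitConeR U Z).fac s (some k)
    exact congrArg Quiver.Hom.unop this
  · intro φ ⟨hφ0, hφ⟩
    have := (isLimitConeR U Z).uniq s φ.op (fun i => by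
      cases i with
      | none => exact congrArg Quiver.Hom.op hφ0
      | some k => exact congrArg Quiver.Hom.op (hφ k))
    exact congrArg Quiver.Hom.unop this

end Affine

end Groth.Agent.Lib.EtAffProd65
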