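import Groth.Agent.Lib.EtCechFlasque65
import Groth.Agent.Lib.CechInjGen
import Groth.Agent.Lib.CechAcyc1
import Groth.Agent.Lib.EtAffProd65
import Groth.Prelude.Def_EtCore

/-!
# Cartan's criterion on the small étale site, restricted to affine objects (helper65)

`AffCechAcyclic F`: the Čech complex of `F` for every single affine surjective cover `V ⟶ U` of an
affine étale `X`-scheme is exact in positive degrees.  Then the higher cohomology of `F` vanishes on
every affine étale `X`-scheme (formulated via representing objects: `Ext (M, F) = 0` for every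
`M` representing sections over `U`).
-/

set_option autoImplicit false
universe u
open CategoryTheory CategoryTheory.Limits AlgebraicGeometry Opposite Abelian

namespace Groth.Agent.Lib.EtAffCartan65

open Groth.Agent.Lib.CechLow Groth.Agent.Lib.CechLES Groth.Agent.Lib.EtCechFlasque65

variable {X : Scheme.{u}}

/-- an injective abelian étale sheaf is injective as a presheaf -/
lemma injective_obj (I : EtCoh.Ab X) [Injective I] : Injective I.obj := by
  have : (presheafToSheaf X.smallEtaleTopology AddCommGrpCat.{u + 1}).PreservesMonomorphisms :=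
    inferInstance
  exact Injective.injective_of_adjoint
    (sheafificationAdjunction X.smallEtaleTopology AddCommGrpCat.{u + 1}) I

/-- Čech cohomology of an injective abelian étale sheaf vanishes in positive degrees, for every
family. -/
theorem isZero_cechH_of_injective (I : EtCoh.Ab X) [Injective I] (U : X.Etale)
    {ι : Type (u + 1)} (Y : ι → Over U) (p : ℕ) : IsZero (EtCech.cechH Y I.obj (p + 1)) := by
  have := injective_obj I
  exact Groth.Agent.Lib.CechInjGen.isZero_homology_of_injective Y I.obj p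

/-- **gluing local lifts**: if Čech `H¹` of `S.X₁` vanishes for a jointly surjective family `Y`
over `W`, then a section of `S.X₃` over `W` which lifts to `S.X₂` over each member of the family
lifts over `W`. -/
theorem exists_lift_of_cechH1 {S : ShortComplex (EtCoh.Ab X)} (hS : S.ShortExact) (W : X.Etale)
    {ι : Type (u + 1)} (Y : ι → Over W)
    (hcov : ∀ x : ↥(W.left), ∃ (i : ι) (y : ↥((Y i).left.left)), (Y i).hom.left.base y = x)
    (h1 : IsZero (EtCech.cechH Y S.X₁.obj 1)) (s : S.X₃.obj.obj (op W))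
    (t₀ : ∀ i, S.X₂.obj.obj (op (Y i).left))
    (ht : ∀ i, S.g.hom.app (op (Y i).left) (t₀ i) = S.X₃.obj.map (Y i).hom.op s) :
    ∃ t' : S.X₂.obj.obj (op W), S.g.hom.app (op W) t' = s := by
  have hepi := hS.epi_g
  have hmono := hS.mono_f
  let t : ∀ i : ι, (pre W S.X₂).obj (op (Y i)) := t₀
  let f' : pre W S.X₁ ⟶ pre W S.X₂ := Functor.whiskerLeft (Over.forget W).op S.f.hom
  have hf' : ∀ V, Function.Injective (f'.app V) := fun V => injective_app_of_mono S.f _
  have ht' : ∀ a : Fin 2 → ι, ∃ e : (pre W S.X₁).obj (op (∏ᶜ fun k => Y (a k))),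
      f'.app _ e = (pre W S.X₂).map (Pi.π (fun k => Y (a k)) 1).op (t (a 1)) -
        (pre W S.X₂).map (Pi.π (fun k => Y (a k)) 0).op (t (a 0)) := by
    intro a
    have key : ∀ m : Fin 2, S.g.hom.app (op (∏ᶜ fun k => Y (a k)).left)
        (S.X₂.obj.map (Pi.π (fun k => Y (a k)) m).left.op (t₀ (a m))) =
        S.X₃.obj.map (∏ᶜ fun k => Y (a k)).hom.op s := by
      intro m
      have n := NatTrans.naturality_apply S.g.hom (Pi.π (fun k => Y (a k)) m).left.op (t₀ (a m))
      have w : (Pi.π (fun k => Y (a k)) m).left ≫ (Y (a m)).hom = (∏ᶜ fun k => Y (a k)).hom :=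
        Over.w (Pi.π (fun k => Y (a k)) m)
      refine n.trans ((congrArg _ (ht (a m))).trans ?_)
      rw [← ConcreteCategory.comp_apply, ← S.X₃.obj.map_comp, ← op_comp, w]
    apply exists_of_app_g_eq_zero hS
    rw [map_sub, sub_eq_zero]
    exact (key 1).trans (key 0).symm
  obtain ⟨b, hb⟩ := exists_correction_of_H1_zero Y f' hf' h1 t ht'
  -- glue
  have hmem : Sieve.generate (Presieve.ofArrows (fun i : ι => (Y i).left) (fun i => (Y i).hom)) ∈
      X.smallEtaleTopology W := by
    rw [Groth.Agent.Lib.EtPushEpi39.mem_smallEtale_iff]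
    intro x
    obtain ⟨i, y, hy⟩ := hcov x
    exact ⟨(Y i).left, (Y i).hom, y, ⟨_, 𝟙 _, _, Presieve.ofArrows.mk i, Category.id_comp _⟩, hy⟩
  have hsf := isSheafFor_ofArrows S.X₂ (fun i : ι => (Y i).hom) hmem
  have hsf3 := isSheafFor_ofArrows S.X₃ (fun i : ι => (Y i).hom) hmem
  rw [Presieve.isSheafFor_arrows_iff] at hsf hsf3
  let x : ∀ i : ι, (pre W S.X₂).obj (op (Y i)) := fun i => t i - f'.app (op (Y i)) (b i)
  obtain ⟨t', ht', -⟩ := hsf x (by
    intro i j Z ga gb hab
    let a : Fin 2 → ι := Fin.cons i (fun _ => j)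
    let Z' : Over W := Over.mk (ga ≫ (Y i).hom)
    let φ : ∀ k : Fin 2, Z' ⟶ Y (a k) :=
      Fin.cons (α := fun k => Z' ⟶ Y (a k)) (Over.homMk ga rfl) (fun _ => Over.homMk gb hab.symm)
    have h2 := congrArg (S.X₂.obj.map (Pi.lift φ).left.op) (hb a)
    change S.X₂.obj.map (Pi.lift φ).left.op (S.X₂.obj.map (Pi.π (fun k => Y (a k)) 1).left.op _) =
      S.X₂.obj.map (Pi.lift φ).left.op (S.X₂.obj.map (Pi.π (fun k => Y (a k)) 0).left.op _) at h2
    rw [← ConcreteCategory.comp_apply, ← ConcreteCategory.comp_apply, ← S.X₂.obj.map_comp,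
      ← S.X₂.obj.map_comp, ← op_comp, ← op_comp, ← Over.comp_left, ← Over.comp_left,
      Pi.lift_π, Pi.lift_π] at h2
    show S.X₂.obj.map ga.op (x i) = S.X₂.obj.map gb.op (x j)
    exact h2.symm)
  refine ⟨t', ?_⟩
  have hx : Presieve.Arrows.Compatible (S.X₃.obj ⋙ forget AddCommGrpCat.{u + 1})
      (fun i : ι => (Y i).hom) (fun i => S.X₃.obj.map (Y i).hom.op s) := by
    intro i j Z ga gb hab
    change S.X₃.obj.map ga.op (S.X₃.obj.map (Y i).hom.op s) =
      S.X₃.obj.map gb.op (S.X₃.obj.map (Y j).hom.op s)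
    rw [← ConcreteCategory.comp_apply, ← ConcreteCategory.comp_apply, ← S.X₃.obj.map_comp,
      ← S.X₃.obj.map_comp, ← op_comp, ← op_comp, hab]
  obtain ⟨s', -, hs'⟩ := hsf3 _ hx
  refine (hs' _ (fun i => ?_)).trans (hs' s (fun _ => rfl)).symm
  change S.X₃.obj.map (Y i).hom.op (S.g.hom.app (op W) t') = S.X₃.obj.map (Y i).hom.op s
  have n := NatTrans.naturality_apply S.g.hom (Y i).hom.op t'
  rw [← n]
  have e1 : S.X₂.obj.map (Y i).hom.op t' = x i := ht' i
  rw [e1]
  have e3 : S.g.hom.app (op (Y i).left) (x i) = S.g.hom.app (op (Y i).left) (t₀ i) -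
      S.g.hom.app (op (Y i).left) (S.f.hom.app (op (Y i).left) (b i)) :=
    map_sub (S.g.hom.app (op (Y i).left)).hom (t₀ i) (S.f.hom.app (op (Y i).left) (b i))
  have e2 : S.g.hom.app (op (Y i).left) (S.f.hom.app (op (Y i).left) (b i)) = 0 := by
    have := congrArg (fun m => m.hom.app (op (Y i).left) (b i)) S.zero
    exact this
  rw [e3, e2, sub_zero]
  exact ht i

lemma etale_left {Z W : X.Etale} (k : Z ⟶ W) : Etale k.left :=
  EtCoh.etaleMP.of_postcomp (W' := EtCoh.etaleMP) k.left W.hom W.prop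
    (by rw [MorphismProperty.Over.w k]; exact Z.prop)

/-- an epimorphism of abelian étale sheaves is surjective on sections after passing to a single
affine surjective cover of a quasi-compact étale `X`-scheme -/
theorem exists_affine_cover_lift {F G : EtCoh.Ab X} (a : F ⟶ G) [Epi a] (W : X.Etale)
    [CompactSpace W.left] (s : G.obj.obj (op W)) :
    ∃ V : Over W, IsAffine V.left.left ∧ Function.Surjective V.hom.left.base ∧
      ∃ t : F.obj.obj (op V.left), a.hom.app (op V.left) t = G.obj.map V.hom.op s := by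
  choose Z k z hz s' hs' using fun x : W.left =>
    Groth.Agent.Lib.EtPushEpi39.exists_lift_of_epi a s x
  have hA : ∀ x, ∃ A : (Z x).left.Opens, IsAffineOpen A ∧ z x ∈ A := fun x => by
    obtain ⟨A, hA, hzA, -⟩ := TopologicalSpace.Opens.isBasis_iff_nbhd.1
      (Z x).left.isBasis_affineOpens (show z x ∈ (⊤ : (Z x).left.Opens) from trivial)
    exact ⟨A, hA, hzA⟩
  choose A hAaff hzA using hA
  have hke : ∀ x, Etale (k x).left := fun x => etale_left (k x)
  have hopen : ∀ x, IsOpen ((k x).left.base '' (A x : Set (Z x).left)) := fun x =>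
    (k x).left.isOpenMap _ (A x).isOpen
  obtain ⟨T, hT⟩ := isCompact_univ.elim_finite_subcover
    (fun x : W.left => (k x).left.base '' (A x : Set (Z x).left)) hopen (fun x _ => by
      exact Set.mem_iUnion.2 ⟨x, z x, hzA x, hz x⟩)
  let μ : Type u := {x // x ∈ T}
  let g : μ → Scheme.{u} := fun i => (A i.1 : Scheme.{u})
  have hgaff : ∀ i, IsAffine (g i) := fun i => hAaff i.1
  let qX : ∀ i : μ, g i ⟶ X := fun i => (A i.1).ι ≫ (Z i.1).hom
  have hqX : ∀ i, Etale (qX i) := fun i => by
    have := (Z i.1).prop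
    have : Etale (Z i.1).hom := this
    exact inferInstanceAs (Etale ((A i.1).ι ≫ (Z i.1).hom))
  have hdesc : Etale (Sigma.desc qX) := IsZariskiLocalAtSource.sigmaDesc hqX
  let Vet : X.Etale := Scheme.Etale.mk (Sigma.desc qX)
  let qW : ∀ i : μ, g i ⟶ W.left := fun i => (A i.1).ι ≫ (k i.1).left
  have hqW : Sigma.desc qW ≫ W.hom = Sigma.desc qX := by
    apply Sigma.hom_ext
    intro i
    rw [Sigma.ι_desc_assoc, Sigma.ι_desc]
    show ((A i.1).ι ≫ (k i.1).left) ≫ W.hom = (A i.1).ι ≫ (Z i.1).hom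
    rw [Category.assoc, MorphismProperty.Over.w (k i.1)]
  let v : Vet ⟶ W := MorphismProperty.Over.homMk (Sigma.desc qW) hqW
  let Wa : μ → X.Etale := fun i => Scheme.Etale.mk (qX i)
  let ia : ∀ i, Wa i ⟶ Vet := fun i =>
    MorphismProperty.Over.homMk (Sigma.ι g i) (Sigma.ι_desc qX i)
  let ja : ∀ i : μ, Wa i ⟶ Z i.1 := fun i => MorphismProperty.Over.homMk (A i.1).ι rfl
  have hfac : ∀ i, ia i ≫ v = ja i ≫ k i.1 := fun i => by
    apply MorphismProperty.Over.Hom.ext
    show Sigma.ι g i ≫ Sigma.desc qW = (A i.1).ι ≫ (k i.1).left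
    rw [Sigma.ι_desc]
  have hmono : ∀ i, Mono (ia i).left := fun i => by
    show Mono (Sigma.ι g i)
    infer_instance
  have hdisj : ∀ i j, i ≠ j → Disjoint (Set.range (ia i).left) (Set.range (ia j).left) := by
    intro i j hij
    have := disjoint_opensRange_sigmaι g i j hij
    rw [← TopologicalSpace.Opens.coe_disjoint] at this
    exact this
  have hcov : ⋃ i, Set.range (ia i).left = Set.univ := (sigmaOpenCover g).iUnion_range
  refine ⟨Over.mk v, ?_, ?_, ?_⟩
  · show IsAffine (∐ g)
    infer_instance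
  · intro w
    have hw := hT (Set.mem_univ w)
    simp only [Set.mem_iUnion, Set.mem_image, SetLike.mem_coe, exists_prop] at hw
    obtain ⟨x, hx, y, hy, hyw⟩ := hw
    refine ⟨(Sigma.ι g ⟨x, hx⟩).base ⟨y, hy⟩, ?_⟩
    show (Sigma.desc qW).base ((Sigma.ι g ⟨x, hx⟩).base ⟨y, hy⟩) = w
    rw [← Scheme.Hom.comp_apply, Sigma.ι_desc]
    exact hyw
  · obtain ⟨t, ht, -⟩ := Groth.Agent.Lib.EtPushEpi39.glue_disjoint F Vet Wa ia hmono hdisj hcov
      (fun i => F.obj.map (ja i).op (s' i.1))
    refine ⟨t, ?_⟩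
    obtain ⟨t₂, -, ht₂⟩ := Groth.Agent.Lib.EtPushEpi39.glue_disjoint G Vet Wa ia hmono hdisj hcov
      (fun i => G.obj.map (ia i ≫ v).op s)
    refine (ht₂ _ (fun i => ?_)).trans (ht₂ _ (fun i => ?_)).symm
    · have n := NatTrans.naturality_apply a.hom (ia i).op t
      refine n.symm.trans ?_
      rw [ht i]
      have n2 := NatTrans.naturality_apply a.hom (ja i).op (s' i.1)
      rw [n2, hs' i.1, hfac i, op_comp, G.obj.map_comp]
      rfl
    · show G.obj.map (ia i).op (G.obj.map v.op s) = G.obj.map (ia i ≫ v).op s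
      rw [op_comp, G.obj.map_comp]
      rfl


/-- the single-member family attached to `V : Over U` -/
abbrev cov {U : X.Etale} (V : Over U) : PUnit.{u + 2} → Over U := fun _ => V

/-- `F` is Čech-acyclic for every single affine surjective cover of an affine étale `X`-scheme -/
def AffCechAcyclic (F : EtCoh.Ab X) : Prop :=
  ∀ (U : X.Etale) (V : Over U), IsAffine U.left → IsAffine V.left.left →
    Function.Surjective V.hom.left.base → ∀ p : ℕ, IsZero (EtCech.cechH (cov V) F.obj (p + 1))

/-- surjectivity on sections over affine objects -/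
theorem surjective_app_g_of_affine {S : ShortComplex (EtCoh.Ab X)} (hS : S.ShortExact)
    (h1 : AffCechAcyclic S.X₁) (W : X.Etale) [hW : IsAffine W.left] :
    Function.Surjective (S.g.hom.app (op W)) := by
  intro s
  have := hS.epi_g
  obtain ⟨V, hV, hsurj, t, ht⟩ := exists_affine_cover_lift S.g W s
  exact exists_lift_of_cechH1 hS W (cov V) (fun x => by
      obtain ⟨y, hy⟩ := hsurj x
      exact ⟨PUnit.unit, y, hy⟩) (h1 W V hW hV hsurj 0) s (fun _ => t) (fun _ => ht)

/-- two-out-of-three -/
theorem affCechAcyclic_X₃ {S : ShortComplex (EtCoh.Ab X)} (hS : S.ShortExact)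
    (h1 : AffCechAcyclic S.X₁) [Injective S.X₂] : AffCechAcyclic S.X₃ := by
  intro U V hU hV hsurj p
  have hmono := hS.mono_f
  refine isZero_homology_three (cov V) (Functor.whiskerLeft (Over.forget U).op S.f.hom)
    (Functor.whiskerLeft (Over.forget U).op S.g.hom) ?_ ?_ ?_ ?_ p
    (h1 U V hU hV hsurj (p + 1)) (isZero_cechH_of_injective S.X₂ U (cov V) p)
  · ext W : 2
    have := congrArg (fun m => m.hom.app (op W.unop.left)) S.zero
    exact this
  · intro n a
    exact injective_app_of_mono S.f _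
  · intro n a y hy
    exact exists_of_app_g_eq_zero hS _ y hy
  · intro n a
    have : ∀ k, IsAffine ((cov V) (a k)).left.left := fun _ => hV
    have : IsAffine (∏ᶜ fun k => (cov V) (a k)).left.left :=
      Groth.Agent.Lib.EtAffProd65.isAffine_pi U (fun k => (cov V) (a k))
    exact surjective_app_g_of_affine (hW := this) hS h1 (∏ᶜ fun k => (cov V) (a k)).left

/-- an object representing sections over `U` -/
structure Repr (U : X.Etale) where
  /-- the representing object -/
  M : EtCoh.Ab X
  /-- the representing bijection -/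
  e : ∀ G : EtCoh.Ab X, (M ⟶ G) ≃ G.obj.obj (op U)
  e_symm_comp : ∀ {G G' : EtCoh.Ab X} (s : G.obj.obj (op U)) (φ : G ⟶ G'),
    (e G).symm s ≫ φ = (e G').symm (φ.hom.app (op U) s)

/-- **Cartan's criterion on affine étale objects.** -/
theorem subsingleton_ext_of_affCechAcyclic (p : ℕ) :
    ∀ (F : EtCoh.Ab X), AffCechAcyclic F → ∀ (U : X.Etale), IsAffine U.left → ∀ R : Repr U,
      Subsingleton (Ext R.M F (p + 1)) := by
  induction p with
  | zero =>
    intro F hF U hU R
    refine Groth.Agent.Lib.CechAcyc1.subsingleton_ext_one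
      (Groth.Agent.Lib.CechAcyc1.injSC_shortExact F) R.M (fun φ => ?_)
    obtain ⟨t, ht⟩ := surjective_app_g_of_affine (hW := hU)
      (Groth.Agent.Lib.CechAcyc1.injSC_shortExact F) hF U (R.e _ φ)
    refine ⟨(R.e _).symm t, ?_⟩
    rw [R.e_symm_comp, ht, Equiv.symm_apply_apply]
  | succ p ih =>
    intro F hF U hU R
    exact Groth.Agent.Lib.CechAcyc1.subsingleton_ext_succ_succ
      (Groth.Agent.Lib.CechAcyc1.injSC_shortExact F) R.M p
      (ih _ (affCechAcyclic_X₃ (Groth.Agent.Lib.CechAcyc1.injSC_shortExact F) hF) U hU R)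

lemma uliftZ_symm_comp {M M' : AddCommGrpCat.{u + 1}} (s : M) (ψ : M ⟶ M') :
    (AddCommGrpCat.uliftZMultiplesAddEquiv M).symm s ≫ ψ =
      (AddCommGrpCat.uliftZMultiplesAddEquiv M').symm (ψ s) := by
  apply (AddCommGrpCat.uliftZMultiplesAddEquiv M').injective
  rw [AddEquiv.apply_symm_apply]
  have h1 : ∀ (N : AddCommGrpCat.{u + 1}) (f : AddCommGrpCat.of (ULift.{u + 1} ℤ) ⟶ N),
      AddCommGrpCat.uliftZMultiplesAddEquiv N f = f (AddEquiv.ulift.symm 1) := fun N f => by
    rw [AddCommGrpCat.uliftZMultiplesAddEquiv_apply]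
    exact uliftZMultiplesHom_symm_apply N f.hom
  have h2 : (AddCommGrpCat.uliftZMultiplesAddEquiv M).symm s (AddEquiv.ulift.symm 1) = s := by
    rw [← h1, AddEquiv.apply_symm_apply]
  rw [h1, ConcreteCategory.comp_apply, h2]

/-- the constant sheaf `ℤ` represents global sections -/
noncomputable def reprTop (X : Scheme.{u}) : Repr (EtCoh.top X) where
  M := (constantSheaf X.smallEtaleTopology AddCommGrpCat.{u + 1}).obj
    (AddCommGrpCat.of (ULift.{u + 1} ℤ))
  e G := ((constantSheafAdj X.smallEtaleTopology AddCommGrpCat.{u + 1}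
      (EtCore.topIsTerminal X)).homEquiv _ G).trans
    (AddCommGrpCat.uliftZMultiplesAddEquiv (G.obj.obj (op (EtCoh.top X)))).toEquiv
  e_symm_comp {G G'} s φ := by
    simp only [Equiv.symm_trans_apply]
    rw [← Adjunction.homEquiv_naturality_right_symm]
    congr 1
    exact uliftZ_symm_comp s (φ.hom.app (op (EtCoh.top X)))

/-- **Cartan's criterion, global form**: on an affine scheme, an abelian étale sheaf which is
Čech-acyclic for single affine covers of affine étale objects has no higher cohomology. -/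
theorem subsingleton_H_of_affCechAcyclic [IsAffine X] (F : EtCoh.Ab X) (hF : AffCechAcyclic F)
    (p : ℕ) : Subsingleton (EtCoh.H X F (p + 1)) :=
  subsingleton_ext_of_affCechAcyclic p F hF (EtCoh.top X)
    (inferInstanceAs (IsAffine X)) (reprTop X)

end Groth.Agent.Lib.EtAffCartan65
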