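import Mathlib

/-!
# Maps from étale algebras into `L ⊗ K` for geometrically connected `K` (helper42)

`k` a field, `Ω` an algebraically closed extension, `K` a `k`-algebra such that `Ω ⊗[k] K` has only trivial
idempotents, `L`, `L'` étale `k`-algebras.  Then every `k`-algebra map `L' → L ⊗[k] K` lands in `L ⊗ 1`
(`mem_range_includeLeft`).
-/

set_option autoImplicit false
universe u

open TensorProduct

namespace Groth.Agent.Lib.EtAlgConn42

/-- characters into an algebraically closed field separate the points of an étale algebra over a field -/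
theorem eq_zero_of_forall_algHom_eq_zero {k : Type u} [Field k] (Ω : Type u) [Field Ω] [Algebra k Ω]
    [IsAlgClosed Ω] {L : Type u} [CommRing L] [Algebra k L] [Algebra.Etale k L] (l : L)
    (h : ∀ χ : L →ₐ[k] Ω, χ l = 0) : l = 0 := by
  obtain ⟨I, _, F, _, _, e, hF⟩ := (Algebra.Etale.iff_exists_algEquiv_prod k L).mp inferInstance
  apply e.injective
  rw [map_zero]
  funext i
  haveI := (hF i).1
  haveI : Algebra.IsAlgebraic k (F i) := Algebra.IsAlgebraic.of_finite k (F i)
  let χ : L →ₐ[k] Ω :=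
    (IsAlgClosed.lift : F i →ₐ[k] Ω).comp ((Pi.evalAlgHom k F i).comp e.toAlgHom)
  have h1 := h χ
  have h2 : (IsAlgClosed.lift : F i →ₐ[k] Ω) (e l i) = 0 := h1
  exact (map_eq_zero_iff _ (IsAlgClosed.lift : F i →ₐ[k] Ω).injective).mp h2

/-- an algebra map from an étale algebra over a separably closed field to an algebra with only trivial
idempotents takes values in the scalars -/
theorem exists_algebraMap_eq_of_etale {Ω : Type u} [Field Ω] [IsSepClosed Ω] {E R : Type u}
    [CommRing E] [Algebra Ω E] [Algebra.Etale Ω E] [CommRing R] [Algebra Ω R]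
    (hid : ∀ e : R, IsIdempotentElem e → e = 0 ∨ e = 1) (σ : E →ₐ[Ω] R) (y : E) :
    ∃ c : Ω, σ y = algebraMap Ω R c := by
  classical
  haveI := Algebra.FormallyUnramified.finite_of_free Ω E
  haveI : IsArtinianRing E := isArtinian_of_tower Ω inferInstance
  haveI : Fintype (PrimeSpectrum E) := Fintype.ofFinite _
  let ε := Algebra.FormallyEtale.equivPiOfIsSepClosed Ω E
  let τ : (PrimeSpectrum E → Ω) →ₐ[Ω] R := σ.comp ε.symm.toAlgHom
  have hδ : ∀ p : PrimeSpectrum E, ∃ c : Ω, τ (Pi.single p 1) = algebraMap Ω R c := by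
    intro p
    have hidem : IsIdempotentElem (τ (Pi.single p (1 : Ω))) := by
      change τ _ * τ _ = τ _
      rw [← map_mul, ← Pi.single_mul, mul_one]
    rcases hid _ hidem with h0 | h1
    · exact ⟨0, by rw [h0, map_zero]⟩
    · exact ⟨1, by rw [h1, map_one]⟩
  choose c hc using hδ
  have hv : ∀ v : PrimeSpectrum E → Ω, τ v = algebraMap Ω R (∑ p, v p * c p) := by
    intro v
    have : v = ∑ p, v p • (Pi.single p (1 : Ω) : PrimeSpectrum E → Ω) := by
      funext q
      simp [Finset.sum_apply, Pi.single_apply]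
    conv_lhs => rw [this]
    rw [map_sum, map_sum]
    refine Finset.sum_congr rfl fun p _ => ?_
    rw [map_smul, hc, Algebra.smul_def, ← map_mul]
  refine ⟨∑ p, ε y p * c p, ?_⟩
  rw [← hv (ε y)]
  change σ y = σ (ε.symm (ε y))
  rw [AlgEquiv.symm_apply_apply]

section Core

variable {k Ω K L L' : Type u} [Field k] [Field Ω] [Algebra k Ω] [IsAlgClosed Ω]
  [CommRing K] [Algebra k K] [CommRing L] [Algebra k L] [CommRing L'] [Algebra k L']

/-- joint injectivity of the maps `χ ⊗ id : L ⊗ K → Ω ⊗ K` over all characters `χ` of an étale algebra `L` -/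
theorem eq_zero_of_forall_map_eq_zero [Algebra.Etale k L] (s : L ⊗[k] K)
    (h : ∀ χ : L →ₐ[k] Ω, Algebra.TensorProduct.map χ (AlgHom.id k K) s = 0) : s = 0 := by
  classical
  let 𝒷 := Module.Free.chooseBasis k K
  obtain ⟨m, rfl⟩ := TensorProduct.eq_repr_basis_right 𝒷 s
  have hm : m = 0 := by
    ext i
    refine eq_zero_of_forall_algHom_eq_zero (k := k) Ω (m i) fun χ => ?_
    have h1 := h χ
    have h2 : Algebra.TensorProduct.map χ (AlgHom.id k K) (m.sum fun i l => l ⊗ₜ[k] 𝒷 i) =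
        (m.mapRange χ (map_zero χ)).sum fun i c => c ⊗ₜ[k] 𝒷 i := by
      rw [Finsupp.sum, map_sum, Finsupp.sum_mapRange_index (by intro i; exact zero_tmul _ _)]
      rfl
    rw [h2] at h1
    have h3 := TensorProduct.sum_tmul_basis_right_eq_zero 𝒷 _ h1
    have h4 := DFunLike.congr_fun h3 i
    simpa using h4
  rw [hm]
  simp

/-- **Key algebraic fact**: for étale `k`-algebras `L`, `L'` and a `k`-algebra `K` with `Ω ⊗[k] K` having only trivial
idempotents, every `k`-algebra map `L' → L ⊗[k] K` lands in `L ⊗ 1`. -/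
theorem mem_range_includeLeft [Nontrivial K] [Algebra.Etale k L] [Algebra.Etale k L']
    (hid : ∀ e : Ω ⊗[k] K, IsIdempotentElem e → e = 0 ∨ e = 1)
    (θ : L' →ₐ[k] L ⊗[k] K) (b : L') : ∃ l : L, θ b = l ⊗ₜ[k] 1 := by
  -- a retraction of `k → K`
  obtain ⟨lam, hlam⟩ := LinearMap.exists_leftInverse_of_injective (Algebra.linearMap k K)
    (LinearMap.ker_eq_bot.mpr (algebraMap k K).injective)
  have hlam1 : lam 1 = 1 := by
    have := DFunLike.congr_fun hlam (1 : k)
    simpa using this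
  let πL : L ⊗[k] K →ₗ[k] L := (TensorProduct.rid k L).toLinearMap ∘ₗ LinearMap.lTensor L lam
  let πΩ : Ω ⊗[k] K →ₗ[k] Ω := (TensorProduct.rid k Ω).toLinearMap ∘ₗ LinearMap.lTensor Ω lam
  have hπL : ∀ (l : L) (κ : K), πL (l ⊗ₜ κ) = lam κ • l := fun l κ => by simp [πL]
  have hπΩ : ∀ (c : Ω) (κ : K), πΩ (c ⊗ₜ κ) = lam κ • c := fun c κ => by simp [πΩ]
  refine ⟨πL (θ b), ?_⟩
  rw [← sub_eq_zero]
  refine eq_zero_of_forall_map_eq_zero (Ω := Ω) _ fun χ => ?_
  set g := Algebra.TensorProduct.map χ (AlgHom.id k K) with hg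
  have hnat : ∀ x : L ⊗[k] K, πΩ (g x) = χ (πL x) := by
    intro x
    induction x using TensorProduct.induction_on with
    | zero => simp
    | tmul l κ =>
      rw [hg, Algebra.TensorProduct.map_tmul, hπΩ, hπL, map_smul]
      rfl
    | add x y hx hy => rw [map_add, map_add, map_add, map_add, hx, hy]
  -- the induced `Ω`-algebra map `Ω ⊗ L' → Ω ⊗ K`
  let ρ : L' →ₐ[k] Ω ⊗[k] K := g.comp θ
  let σ : Ω ⊗[k] L' →ₐ[Ω] Ω ⊗[k] K :=
    Algebra.TensorProduct.lift (Algebra.ofId Ω (Ω ⊗[k] K)) ρ (fun _ _ => Commute.all _ _)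
  obtain ⟨c, hc⟩ := exists_algebraMap_eq_of_etale hid σ ((1 : Ω) ⊗ₜ[k] b)
  have hσ : σ ((1 : Ω) ⊗ₜ[k] b) = g (θ b) := by
    simp only [σ, ρ, Algebra.TensorProduct.lift_tmul, map_one, AlgHom.comp_apply]
    rw [one_mul]
  rw [hσ] at hc
  have hc' : g (θ b) = c ⊗ₜ[k] (1 : K) := by
    rw [hc, Algebra.TensorProduct.algebraMap_apply]
    rfl
  have hχ : χ (πL (θ b)) = c := by
    rw [← hnat, hc', hπΩ, hlam1, one_smul]
  rw [map_sub, hg, Algebra.TensorProduct.map_tmul, ← hg, hχ, hc']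
  simp

end Core


section Cat

open CategoryTheory CategoryTheory.Limits

/-- ring-hom (unbundled, `CommRingCat`-pushout) form of `mem_range_includeLeft`, together with injectivity of
`L → T = L ⊗ K` -/
theorem mem_range_of_isPushout {k Ω : Type u} [Field k] [Field Ω] [IsAlgClosed Ω] (j : k →+* Ω)
    {K L L' T RΩ : Type u} [CommRing K] [CommRing L] [CommRing L'] [CommRing T] [CommRing RΩ]
    [Nontrivial K]
    (φK : k →+* K) (φL : k →+* L) (φL' : k →+* L') (iL : L →+* T) (iK : K →+* T)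
    (hT : IsPushout (CommRingCat.ofHom φL) (CommRingCat.ofHom φK) (CommRingCat.ofHom iL)
      (CommRingCat.ofHom iK))
    (jΩ : Ω →+* RΩ) (jK : K →+* RΩ)
    (hΩ : IsPushout (CommRingCat.ofHom j) (CommRingCat.ofHom φK) (CommRingCat.ofHom jΩ)
      (CommRingCat.ofHom jK))
    (hL : φL.Etale) (hL' : φL'.Etale)
    (hid : ∀ e : RΩ, IsIdempotentElem e → e = 0 ∨ e = 1)
    (θ : L' →+* T) (hθ : θ.comp φL' = iL.comp φL) :
    Function.Injective iL ∧ ∀ b : L', ∃ l : L, θ b = iL l := by
  algebraize [j, φK, φL, φL', iL, iK, jΩ, jK, iL.comp φL, jΩ.comp j]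
  have t1 : IsScalarTower k L T := .of_algebraMap_eq' rfl
  have t2 : IsScalarTower k K T := .of_algebraMap_eq' (congr($(hT.w).hom))
  have t3 : IsScalarTower k Ω RΩ := .of_algebraMap_eq' rfl
  have t4 : IsScalarTower k K RΩ := .of_algebraMap_eq' (congr($(hΩ.w).hom))
  have hpoT : Algebra.IsPushout k L K T := CommRingCat.isPushout_iff_isPushout.mp hT
  have hpoΩ : Algebra.IsPushout k Ω K RΩ := CommRingCat.isPushout_iff_isPushout.mp hΩ
  let e₁ : L ⊗[k] K ≃ₐ[L] T := Algebra.IsPushout.equiv k L K T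
  let e₂ : Ω ⊗[k] K ≃ₐ[Ω] RΩ := Algebra.IsPushout.equiv k Ω K RΩ
  have hid' : ∀ e : Ω ⊗[k] K, IsIdempotentElem e → e = 0 ∨ e = 1 := by
    intro e he
    rcases hid (e₂ e) (he.map e₂) with h | h
    · left
      exact e₂.injective (by rw [h, map_zero])
    · right
      exact e₂.injective (by rw [h, map_one])
  have he₁ : ∀ l : L, e₁ (l ⊗ₜ[k] (1 : K)) = iL l := by
    intro l
    rw [Algebra.IsPushout.equiv_tmul, map_one, mul_one]
    rfl
  constructor
  · intro l₁ l₂ h
    have hinc : Function.Injective (Algebra.TensorProduct.includeLeft : L →ₐ[k] L ⊗[k] K) :=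
      Algebra.TensorProduct.includeLeft_injective (algebraMap k K).injective
    apply hinc
    apply e₁.injective
    change e₁ (l₁ ⊗ₜ[k] (1 : K)) = e₁ (l₂ ⊗ₜ[k] (1 : K))
    rw [he₁, he₁, h]
  · intro b
    let θa : L' →ₐ[k] T :=
      { θ with
        commutes' := fun r => by
          have := congr($hθ r)
          exact this }
    let θ' : L' →ₐ[k] L ⊗[k] K := ((e₁.symm.restrictScalars k : T ≃ₐ[k] L ⊗[k] K) : T →ₐ[k] L ⊗[k] K).comp θa
    obtain ⟨l, hl⟩ := mem_range_includeLeft (Ω := Ω) hid' θ' b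
    refine ⟨l, ?_⟩
    have h1 : e₁ (θ' b) = θ b := e₁.apply_symm_apply _
    rw [← h1, hl, he₁]

end Cat

end Groth.Agent.Lib.EtAlgConn42
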