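import Mathlib.Algebra.Homology.DerivedCategory.Ext.MapBijective
import Mathlib.CategoryTheory.Adjunction.Additive

/-!
# Ext and adjunctions

For an adjunction `adj : L ⊣ R` between abelian categories with `R` exact (and additive),
`R` preserving injective objects and `D` having enough injectives, the natural map
`Ext^n(L A, F) → Ext^n(A, R F)`, `e ↦ [unit_A] ∘ R(e)`, is bijective.

Also: for a natural transformation `α : G ⟶ G'` between exact functors,
`G(e) ∘ [α_Y] = [α_X] ∘ G'(e)` (naturality of `mapExactFunctor`) — when the target has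
enough injectives... (proved here under `EnoughInjectives` of the source category).
-/

universe w w' w'' v v' u u'

namespace Groth.Agent.Lib.ExtAdj

open CategoryTheory CategoryTheory.Limits CategoryTheory.Abelian

variable {C : Type u} [Category.{v} C] [Abelian C]
variable {D : Type u'} [Category.{v'} D] [Abelian D]

section Adj

variable {L : C ⥤ D} {R : D ⥤ C} (adj : L ⊣ R)
  [R.Additive] [PreservesFiniteLimits R] [PreservesFiniteColimits R]
  [HasExt.{w} C] [HasExt.{w'} D]

/-- The adjunction map on Ext groups `Ext^n(L A, F) → Ext^n(A, R F)`. -/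
noncomputable def extAdj (A : C) (F : D) (n : ℕ) : Ext.{w'} (L.obj A) F n →+ Ext.{w} A (R.obj F) n :=
  ((Ext.mk₀ (adj.unit.app A)).precomp (R.obj F) (zero_add n)).comp (R.mapExtAddHom (L.obj A) F n)

lemma extAdj_apply (A : C) (F : D) (n : ℕ) (e : Ext.{w'} (L.obj A) F n) :
    extAdj adj A F n e = (Ext.mk₀ (adj.unit.app A)).comp (e.mapExactFunctor R) (zero_add n) := rfl

lemma extAdj_comp_mk₀ (A : C) {F G : D} (g : F ⟶ G) (n : ℕ) (e : Ext.{w'} (L.obj A) F n) :
    extAdj adj A G n (e.comp (Ext.mk₀ g) (add_zero n)) =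
      (extAdj adj A F n e).comp (Ext.mk₀ (R.map g)) (add_zero n) := by
  simp only [extAdj_apply, Ext.mapExactFunctor_comp, Ext.mapExactFunctor_mk₀]
  rw [Ext.comp_assoc_of_third_deg_zero]

lemma extAdj_comp_extClass (A : C) {S : ShortComplex D} (hS : S.ShortExact) (n : ℕ)
    (e : Ext.{w'} (L.obj A) S.X₃ n) :
    extAdj adj A S.X₁ (n + 1) (e.comp hS.extClass rfl) =
      (extAdj adj A S.X₃ n e).comp (hS.map_of_exact R).extClass rfl := by
  simp only [extAdj_apply, Ext.mapExactFunctor_comp, Ext.mapExactFunctor_extClass]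
  exact (Ext.comp_assoc _ _ _ (zero_add n) rfl (by omega)).symm

lemma extAdj_mk₀_comp {A B : C} (a : A ⟶ B) (F : D) (n : ℕ) (e : Ext.{w'} (L.obj B) F n) :
    extAdj adj A F n ((Ext.mk₀ (L.map a)).comp e (zero_add n)) =
      (Ext.mk₀ a).comp (extAdj adj B F n e) (zero_add n) := by
  simp only [extAdj_apply, Ext.mapExactFunctor_comp, Ext.mapExactFunctor_mk₀]
  rw [← Ext.comp_assoc _ _ _ (zero_add 0) (zero_add n) (by omega), Ext.mk₀_comp_mk₀,
    ← Ext.comp_assoc _ _ _ (zero_add 0) (zero_add n) (by omega), Ext.mk₀_comp_mk₀]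
  congr 2
  exact (adj.unit.naturality a).symm

lemma extAdj_mk₀_comp' (A : C) {B F : D} (f : L.obj A ⟶ B) (n : ℕ) (e : Ext.{w'} B F n) :
    extAdj adj A F n ((Ext.mk₀ f).comp e (zero_add n)) =
      (Ext.mk₀ (adj.homEquiv A B f)).comp (e.mapExactFunctor R) (zero_add n) := by
  simp only [extAdj_apply, Ext.mapExactFunctor_comp, Ext.mapExactFunctor_mk₀]
  rw [← Ext.comp_assoc _ _ _ (zero_add 0) (zero_add n) (by omega), Ext.mk₀_comp_mk₀,
    Adjunction.homEquiv_unit]

lemma extAdj_zero_mk₀ (A : C) (F : D) (f : L.obj A ⟶ F) :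
    extAdj adj A F 0 (Ext.mk₀ f) = Ext.mk₀ (adj.homEquiv A F f) := by
  simp only [extAdj_apply, Ext.mapExactFunctor_mk₀, Ext.mk₀_comp_mk₀]
  rw [Adjunction.homEquiv_unit]

attribute [local instance] Ext.subsingleton_of_injective in
theorem extAdj_bijective [EnoughInjectives D] [R.PreservesInjectiveObjects] (A : C) (F : D) (n : ℕ) :
    Function.Bijective (extAdj adj A F n) := by
  induction n generalizing F with
  | zero =>
    constructor
    · intro x y h
      obtain ⟨f, rfl⟩ := (Ext.mk₀_bijective _ _).2 x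
      obtain ⟨g, rfl⟩ := (Ext.mk₀_bijective _ _).2 y
      rw [extAdj_zero_mk₀, extAdj_zero_mk₀] at h
      have := (Ext.mk₀_bijective _ _).1 h
      rw [(adj.homEquiv A F).injective this]
    · intro y
      obtain ⟨g, rfl⟩ := (Ext.mk₀_bijective _ _).2 y
      exact ⟨Ext.mk₀ ((adj.homEquiv A F).symm g), by rw [extAdj_zero_mk₀, Equiv.apply_symm_apply]⟩
  | succ n hn =>
    let I : InjectivePresentation F := Classical.arbitrary _
    let S := ShortComplex.mk _ _ (cokernel.condition I.f)
    have : Injective (S.map R).X₂ := Functor.PreservesInjectiveObjects.injective_obj I.injective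
    have : Injective S.X₂ := I.injective
    have hS : S.ShortExact := { exact := ShortComplex.exact_cokernel I.f }
    exact AddMonoidHom.bijective_of_surjective_of_bijective_of_right_exact _ _ _ _
      (extAdj adj A S.X₂ n) (extAdj adj A S.X₃ n) (extAdj adj A S.X₁ (n + 1))
      (by ext e; exact (extAdj_comp_mk₀ adj A S.g n e).symm)
      (by ext e; exact (extAdj_comp_extClass adj A hS n e).symm)
      ((ShortComplex.ab_exact_iff_function_exact _).mp
        (Ext.covariant_sequence_exact₃' (L.obj A) hS n (n + 1) rfl))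
      ((ShortComplex.ab_exact_iff_function_exact _).mp
        (Ext.covariant_sequence_exact₃' A (hS.map_of_exact R) n (n + 1) rfl))
      (hn _).surjective (hn _)
      (fun x₁ ↦ Ext.covariant_sequence_exact₁ _ hS x₁ (by subsingleton) rfl)
      (fun y₁ ↦ Ext.covariant_sequence_exact₁ _ (hS.map_of_exact R) y₁ (by subsingleton) rfl)

/-- The adjunction isomorphism `Ext^n(L A, F) ≃+ Ext^n(A, R F)`. -/
noncomputable def extAdjEquiv [EnoughInjectives D] [R.PreservesInjectiveObjects] (A : C) (F : D)
    (n : ℕ) : Ext.{w'} (L.obj A) F n ≃+ Ext.{w} A (R.obj F) n :=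
  AddEquiv.ofBijective (extAdj adj A F n) (extAdj_bijective adj A F n)

end Adj

section Nat

variable {G G' : C ⥤ D} [G.Additive] [PreservesFiniteLimits G] [PreservesFiniteColimits G]
  [G'.Additive] [PreservesFiniteLimits G'] [PreservesFiniteColimits G']
  [HasExt.{w} C] [HasExt.{w'} D]

attribute [local instance] Ext.subsingleton_of_injective in
/-- Naturality of `Ext.mapExactFunctor` with respect to a natural transformation of exact functors. -/
theorem mapExactFunctor_naturality [EnoughInjectives C] (α : G ⟶ G') {X Y : C} {n : ℕ}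
    (e : Ext.{w} X Y n) :
    (e.mapExactFunctor G).comp (Ext.mk₀ (α.app Y)) (add_zero n) =
      (Ext.mk₀ (α.app X)).comp (e.mapExactFunctor G') (zero_add n) := by
  induction n generalizing Y with
  | zero =>
    obtain ⟨f, rfl⟩ := (Ext.mk₀_bijective _ _).2 e
    simp only [Ext.mapExactFunctor_mk₀, Ext.mk₀_comp_mk₀]
    rw [α.naturality]
  | succ n hn =>
    let I : InjectivePresentation Y := Classical.arbitrary _
    let S := ShortComplex.mk _ _ (cokernel.condition I.f)
    have : Injective S.X₂ := I.injective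
    have hS : S.ShortExact := { exact := ShortComplex.exact_cokernel I.f }
    obtain ⟨x₃, rfl⟩ := Ext.covariant_sequence_exact₁ _ hS e (by subsingleton) rfl
    have h1 : (hS.map_of_exact G).extClass.comp (Ext.mk₀ (α.app Y)) (add_zero 1) =
        (Ext.mk₀ (α.app S.X₃)).comp (hS.map_of_exact G').extClass (zero_add 1) :=
      ShortComplex.ShortExact.extClass_naturality (hS.map_of_exact G)
        (hS.map_of_exact G') (S.mapNatTrans α)
    calc ((x₃.comp hS.extClass rfl).mapExactFunctor G).comp (Ext.mk₀ (α.app Y)) (add_zero (n+1))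
        = ((x₃.mapExactFunctor G).comp (hS.map_of_exact G).extClass rfl).comp
            (Ext.mk₀ (α.app Y)) (add_zero (n+1)) := by
          rw [Ext.mapExactFunctor_comp, Ext.mapExactFunctor_extClass]; rfl
      _ = (x₃.mapExactFunctor G).comp
            ((hS.map_of_exact G).extClass.comp (Ext.mk₀ (α.app Y)) (add_zero 1)) rfl :=
          Ext.comp_assoc _ _ _ rfl (add_zero 1) (by omega)
      _ = (x₃.mapExactFunctor G).comp
            ((Ext.mk₀ (α.app S.X₃)).comp (hS.map_of_exact G').extClass (zero_add 1)) rfl := by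
          exact congrArg (fun z => (x₃.mapExactFunctor G).comp z rfl) h1
      _ = ((x₃.mapExactFunctor G).comp (Ext.mk₀ (α.app S.X₃)) (add_zero n)).comp
            (hS.map_of_exact G').extClass rfl :=
          (Ext.comp_assoc _ _ _ (add_zero n) (zero_add 1) (by omega)).symm
      _ = ((Ext.mk₀ (α.app X)).comp (x₃.mapExactFunctor G') (zero_add n)).comp
            (hS.map_of_exact G').extClass rfl := by rw [hn x₃]
      _ = (Ext.mk₀ (α.app X)).comp
            ((x₃.mapExactFunctor G').comp (hS.map_of_exact G').extClass rfl) (zero_add (n+1)) :=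
          Ext.comp_assoc _ _ _ (zero_add n) rfl (by omega)
      _ = _ := by rw [Ext.mapExactFunctor_comp, Ext.mapExactFunctor_extClass]; rfl

end Nat


section CompFunctor

variable {E : Type*} [Category E] [Abelian E]
  (G₁ : C ⥤ D) [G₁.Additive] [PreservesFiniteLimits G₁] [PreservesFiniteColimits G₁]
  (G₂ : D ⥤ E) [G₂.Additive] [PreservesFiniteLimits G₂] [PreservesFiniteColimits G₂]
  [HasExt.{w} C] [HasExt.{w'} D] [HasExt.{w''} E]
  [PreservesFiniteLimits (G₁ ⋙ G₂)] [PreservesFiniteColimits (G₁ ⋙ G₂)]

attribute [local instance] Ext.subsingleton_of_injective in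
/-- `mapExactFunctor` is compatible with composition of exact functors. -/
theorem mapExactFunctor_mapExactFunctor [EnoughInjectives C] {X Y : C} {n : ℕ}
    (e : Ext.{w} X Y n) :
    (e.mapExactFunctor G₁).mapExactFunctor G₂ = e.mapExactFunctor (G₁ ⋙ G₂) := by
  induction n generalizing Y with
  | zero =>
    obtain ⟨f, rfl⟩ := (Ext.mk₀_bijective _ _).2 e
    simp only [Ext.mapExactFunctor_mk₀]
    rfl
  | succ n hn =>
    let I : InjectivePresentation Y := Classical.arbitrary _
    let S := ShortComplex.mk _ _ (cokernel.condition I.f)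
    have : Injective S.X₂ := I.injective
    have hS : S.ShortExact := { exact := ShortComplex.exact_cokernel I.f }
    obtain ⟨x₃, rfl⟩ := Ext.covariant_sequence_exact₁ _ hS e (by subsingleton) rfl
    have h1 : (hS.extClass.mapExactFunctor G₁).mapExactFunctor G₂ =
        hS.extClass.mapExactFunctor (G₁ ⋙ G₂) := by
      have e1 : hS.extClass.mapExactFunctor G₁ = (hS.map_of_exact G₁).extClass :=
        Ext.mapExactFunctor_extClass G₁ hS
      have e2 := Ext.mapExactFunctor_extClass G₂ (hS.map_of_exact G₁)
      have e3 := Ext.mapExactFunctor_extClass (G₁ ⋙ G₂) hS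
      exact (congrArg (Ext.mapExactFunctor G₂) e1).trans (e2.trans e3.symm)
    rw [Ext.mapExactFunctor_comp, Ext.mapExactFunctor_comp, Ext.mapExactFunctor_comp, hn x₃, h1]

end CompFunctor

end Groth.Agent.Lib.ExtAdj
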