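import Groth.Prelude.Def_EtCore
import Groth.Agent.Lib.AdjUniqComp
import Groth.Agent.Lib.ExtAdj

/-!
# Functoriality of pullback on etale cohomology (helper39)

* `pushGsec_comp`: compatibility of `EtCore.pushGsecIso` with `EtCoh.pushComp`;
* `pullConst_comp`: compatibility of `EtCore.pullConstIso` with `EtCore.pullComp`;
* `HpullVia_Hpull`: `HpullVia a t f₀ w G n (Hpull t G n x) = Hpull f₀ G n x`.
-/

set_option autoImplicit false
universe u
open CategoryTheory CategoryTheory.Limits AlgebraicGeometry Opposite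

namespace Groth.Agent.Lib.EtHpullComp

open EtCore EtCoh

variable {W U X : Scheme.{u}} (a : W ⟶ U) (t : U ⟶ X)

lemma pushGsecIso_hom_app {X Y : Scheme.{u}} (f : X ⟶ Y) (F : EtCoh.Ab X) :
    (pushGsecIso f).hom.app F = F.obj.map (bcTopIso f).inv.op := rfl

lemma gsec_map {X : Scheme.{u}} {F G : EtCoh.Ab X} (φ : F ⟶ G) :
    (gsec X).map φ = φ.hom.app (op (EtCoh.top X)) := rfl

set_option backward.isDefEq.respectTransparency.types false in
lemma pushComp_hom_app_hom_app (B : EtCoh.Ab W) (V : X.Etale) :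
    ((EtCoh.pushComp t a).hom.app B).hom.app (op V) =
      B.obj.map (((MorphismProperty.Over.pullbackComp (P := etaleMP) (Q := ⊤) a t).hom.app V).op) := by
  rfl


lemma map_op_comp_eq {C : Type*} [Category C] {A : Type*} [Category A] (P : Cᵒᵖ ⥤ A)
    {X Y Z Z' : C} (p : Y ⟶ X) (q : Z ⟶ Y) (r : Z' ⟶ X) (s : Z ⟶ Z') (h : q ≫ p = s ≫ r) :
    P.map p.op ≫ P.map q.op = P.map r.op ≫ P.map s.op := by
  rw [← P.map_comp, ← P.map_comp, ← op_comp, ← op_comp, h]

set_option backward.isDefEq.respectTransparency.types false in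
/-- compatibility of `pushGsecIso` with composition of direct images -/
lemma pushGsec_comp (B : EtCoh.Ab W) :
    (gsec X).map ((EtCoh.pushComp t a).hom.app B) ≫ (pushGsecIso (a ≫ t)).hom.app B =
      (pushGsecIso t).hom.app ((EtCoh.push a).obj B) ≫ (pushGsecIso a).hom.app B := by
  rw [gsec_map, pushComp_hom_app_hom_app, pushGsecIso_hom_app, pushGsecIso_hom_app,
    pushGsecIso_hom_app]
  refine map_op_comp_eq B.obj _ _ ((bc a).map (bcTopIso t).inv) _ ?_
  exact (IsTerminal.isTerminalObj (bc a) _ (bcTopIsTerminal t)).hom_ext _ _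


/-- compatibility of `pullConstIso` with composition of pullbacks -/
theorem pullConst_comp (M : AddCommGrpCat.{u+1}) :
    (pullConstIso (a ≫ t)).hom.app M =
      (pullComp a t).hom.app ((constantSheaf X.smallEtaleTopology AddCommGrpCat.{u+1}).obj M) ≫
        (EtCoh.pull a).map ((pullConstIso t).hom.app M) ≫ (pullConstIso a).hom.app M :=
  Groth.Agent.Lib.AdjUniqComp.constIso_comp (constAdj X) (constAdj U) (constAdj W)
    (EtCoh.pullPushAdj t) (EtCoh.pullPushAdj a) (EtCoh.pullPushAdj (a ≫ t))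
    (pushGsecIso t) (pushGsecIso a) (pushGsecIso (a ≫ t)) (EtCoh.pushComp t a)
    (pushGsec_comp a t) M


/-- inverse form of `pullConst_comp`, with the transport isomorphism used by `EtCore.HpullVia` -/
theorem pullConst_inv_comp {f₀ : W ⟶ X} (w : a ≫ t = f₀) (M : Type) [AddCommGroup M] :
    (pullConst f₀ M).inv = (pullConst a M).inv ≫ (EtCoh.pull a).map (pullConst t M).inv ≫
      (((pullComp a t).symm ≪≫ pullCongr w).app (EtCoh.const X M)).hom := by
  subst w
  have h := pullConst_comp a t (AddCommGrpCat.of (ULift.{u+1} M))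
  rw [← cancel_epi (pullConst (a ≫ t) M).hom, Iso.hom_inv_id]
  have h' : (pullConst (a ≫ t) M).hom =
      (pullComp a t).hom.app (EtCoh.const X M) ≫
        (EtCoh.pull a).map (pullConst t M).hom ≫ (pullConst a M).hom := h
  have hκ : (((pullComp a t).symm ≪≫ pullCongr rfl).app (EtCoh.const X M)).hom =
      (pullComp a t).inv.app (EtCoh.const X M) := by
    simp [pullCongr]
  rw [h', hκ, Category.assoc, Category.assoc, Iso.hom_inv_id_assoc, ← Functor.map_comp_assoc,
    Iso.hom_inv_id, CategoryTheory.Functor.map_id, Category.id_comp, Iso.hom_inv_id_app]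


open CategoryTheory.Abelian in
lemma Hpull_apply {X Y : Scheme.{u}} (f : X ⟶ Y) [PreservesFiniteLimits (EtCoh.pull f)]
    (G : EtCoh.Ab Y) (n : ℕ) (x : EtCoh.H Y G n) :
    Hpull f G n x =
      (Ext.mk₀ (pullConst f ℤ).inv).comp (x.mapExactFunctor (EtCoh.pull f)) (zero_add n) := rfl

open CategoryTheory.Abelian in
lemma HpullVia_apply {f₀ : W ⟶ X} (w : a ≫ t = f₀) [PreservesFiniteLimits (EtCoh.pull a)]
    (G : EtCoh.Ab X) (n : ℕ) (y : EtCoh.H U ((EtCoh.pull t).obj G) n) :
    HpullVia a t f₀ w G n y =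
      (Hpull a ((EtCoh.pull t).obj G) n y).comp
        (Ext.mk₀ (((pullComp a t).symm ≪≫ pullCongr w).app G).hom) (add_zero n) := rfl


open CategoryTheory.Abelian Groth.Agent.Lib.ExtAdj in
/-- functoriality of pullback on etale cohomology -/
theorem HpullVia_Hpull {f₀ : W ⟶ X} (w : a ≫ t = f₀)
    [PreservesFiniteLimits (EtCoh.pull a)] [PreservesFiniteLimits (EtCoh.pull t)]
    [PreservesFiniteLimits (EtCoh.pull f₀)] (G : EtCoh.Ab X) (n : ℕ) (x : EtCoh.H X G n) :
    HpullVia a t f₀ w G n (Hpull t G n x) = Hpull f₀ G n x := by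
  have : PreservesFiniteLimits (EtCoh.pull t ⋙ EtCoh.pull a) := comp_preservesFiniteLimits _ _
  have : PreservesFiniteColimits (EtCoh.pull t ⋙ EtCoh.pull a) :=
    comp_preservesFiniteColimits _ _
  set κ := (pullComp a t).symm ≪≫ pullCongr w with hκ
  rw [HpullVia_apply, Hpull_apply, Hpull_apply, Hpull_apply]
  have h2 : (x.mapExactFunctor (EtCoh.pull t)).mapExactFunctor (EtCoh.pull a) =
      x.mapExactFunctor (EtCoh.pull t ⋙ EtCoh.pull a) :=
    mapExactFunctor_mapExactFunctor (EtCoh.pull t) (EtCoh.pull a) x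
  have h3 : (x.mapExactFunctor (EtCoh.pull t ⋙ EtCoh.pull a)).comp (Ext.mk₀ (κ.hom.app G))
      (add_zero n) = (Ext.mk₀ (κ.hom.app (EtCoh.const X ℤ))).comp
        (x.mapExactFunctor (EtCoh.pull f₀)) (zero_add n) :=
    mapExactFunctor_naturality κ.hom x
  have h4 := pullConst_inv_comp a t w ℤ
  calc ((Ext.mk₀ (pullConst a ℤ).inv).comp
        (((Ext.mk₀ (pullConst t ℤ).inv).comp (x.mapExactFunctor (EtCoh.pull t))
          (zero_add n)).mapExactFunctor (EtCoh.pull a)) (zero_add n)).comp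
        (Ext.mk₀ (κ.app G).hom) (add_zero n)
      = ((Ext.mk₀ (pullConst a ℤ).inv).comp
          ((Ext.mk₀ ((EtCoh.pull a).map (pullConst t ℤ).inv)).comp
            (x.mapExactFunctor (EtCoh.pull t ⋙ EtCoh.pull a)) (zero_add n)) (zero_add n)).comp
          (Ext.mk₀ (κ.hom.app G)) (add_zero n) := by
        rw [Ext.mapExactFunctor_comp, Ext.mapExactFunctor_mk₀, h2]
        rfl
    _ = (Ext.mk₀ (pullConst a ℤ).inv).comp
          ((Ext.mk₀ ((EtCoh.pull a).map (pullConst t ℤ).inv)).comp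
            ((x.mapExactFunctor (EtCoh.pull t ⋙ EtCoh.pull a)).comp
              (Ext.mk₀ (κ.hom.app G)) (add_zero n)) (zero_add n)) (zero_add n) := by
        rw [Ext.comp_assoc_of_third_deg_zero, Ext.comp_assoc_of_third_deg_zero]
    _ = (Ext.mk₀ (pullConst a ℤ).inv).comp
          ((Ext.mk₀ ((EtCoh.pull a).map (pullConst t ℤ).inv)).comp
            ((Ext.mk₀ (κ.hom.app (EtCoh.const X ℤ))).comp
              (x.mapExactFunctor (EtCoh.pull f₀)) (zero_add n)) (zero_add n)) (zero_add n) := by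
        rw [h3]
    _ = (Ext.mk₀ (pullConst f₀ ℤ).inv).comp (x.mapExactFunctor (EtCoh.pull f₀)) (zero_add n) := by
        rw [Ext.mk₀_comp_mk₀_assoc, Ext.mk₀_comp_mk₀_assoc, h4]
        rfl

end Groth.Agent.Lib.EtHpullComp
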