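import Mathlib.Algebra.Homology.DerivedCategory.Ext.Map
import Mathlib.Algebra.Homology.DerivedCategory.Ext.ExactSequences

/-!
# Twisted pullback maps on Ext groups along an exact functor (helper49)

For an exact functor `Φ : C ⥤ D` of abelian categories, objects `Z : C`, `Z' : D` and `c : Z' ⟶ Φ Z`,
the maps `P Φ c F n : Ext Z F n → Ext Z' (Φ F) n`, `e ↦ c ≫ Φ(e)` form a morphism of δ-functors:
`P_comp_mk₀` (naturality) and `P_comp_extClass` (compatibility with connecting maps).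
`mem_range_of_mono` is the diagram chase: for `0 → X₁ → X₂ → X₃ → 0`, if `P X₃ (n+1)` is injective and
`P X₃ n` surjective, a class `ξ ∈ Ext Z' (Φ X₁) (n+1)` whose image in `Ext Z' (Φ X₂) (n+1)` is in the range
of `P X₂ (n+1)` is in the range of `P X₁ (n+1)`.
This is the shape of the prelude's `EtCore.Hpull` (with `c = (pullConst f ℤ).inv`).
-/

set_option autoImplicit false
universe w w' v v' u u'
open CategoryTheory CategoryTheory.Limits CategoryTheory.Abelian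

namespace Groth.Agent.Lib.ExtPull

variable {C : Type u} [Category.{v} C] [Abelian C] {D : Type u'} [Category.{v'} D] [Abelian D]
  [HasExt.{w} C] [HasExt.{w'} D]
  (Φ : C ⥤ D) [Φ.Additive] [PreservesFiniteLimits Φ] [PreservesFiniteColimits Φ]
  {Z : C} {Z' : D} (c : Z' ⟶ Φ.obj Z)

/-- The twisted map on Ext: `e ↦ c ≫ Φ(e)`. -/
noncomputable def P (F : C) (n : ℕ) (e : Ext.{w} Z F n) : Ext.{w'} Z' (Φ.obj F) n :=
  (Ext.mk₀ c).comp (e.mapExactFunctor Φ) (zero_add n)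

lemma P_zero (F : C) (n : ℕ) : P Φ c F n 0 = 0 := by
  simp [P, Ext.mapExactFunctor_zero]

lemma P_add (F : C) (n : ℕ) (e e' : Ext.{w} Z F n) : P Φ c F n (e + e') = P Φ c F n e + P Φ c F n e' := by
  simp [P, Ext.mapExactFunctor_add]

lemma P_sub (F : C) (n : ℕ) (e e' : Ext.{w} Z F n) : P Φ c F n (e - e') = P Φ c F n e - P Φ c F n e' := by
  have h := P_add Φ c F n (e - e') e'
  rw [sub_add_cancel] at h
  rw [h, add_sub_cancel_right]

lemma P_comp_mk₀ {F G : C} (φ : F ⟶ G) (n : ℕ) (e : Ext.{w} Z F n) :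
    P Φ c G n (e.comp (Ext.mk₀ φ) (add_zero n)) =
      (P Φ c F n e).comp (Ext.mk₀ (Φ.map φ)) (add_zero n) := by
  simp only [P, Ext.mapExactFunctor_comp, Ext.mapExactFunctor_mk₀]
  rw [Ext.comp_assoc_of_third_deg_zero]

lemma P_comp_extClass (S : ShortComplex C) (hS : S.ShortExact) (n₀ n₁ : ℕ) (h : n₀ + 1 = n₁)
    (e : Ext.{w} Z S.X₃ n₀) :
    P Φ c S.X₁ n₁ (e.comp hS.extClass h) =
      (P Φ c S.X₃ n₀ e).comp (hS.map_of_exact Φ).extClass h := by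
  simp only [P, Ext.mapExactFunctor_comp, Ext.mapExactFunctor_extClass]
  rw [Ext.comp_assoc _ _ _ (zero_add n₀) h (by omega)]
  rfl

/-- The diagram chase. -/
theorem mem_range_of_mono (S : ShortComplex C) (hS : S.ShortExact) (n : ℕ)
    (hinj : Function.Injective (P.{w, w'} Φ c S.X₃ (n + 1)))
    (hsurj : Function.Surjective (P.{w, w'} Φ c S.X₃ n))
    (ξ : Ext.{w'} Z' (Φ.obj S.X₁) (n + 1)) (η : Ext.{w} Z S.X₂ (n + 1))
    (h : ξ.comp (Ext.mk₀ (Φ.map S.f)) (add_zero _) = P Φ c S.X₂ (n + 1) η) :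
    ∃ ζ : Ext.{w} Z S.X₁ (n + 1), P Φ c S.X₁ (n + 1) ζ = ξ := by
  -- step 1: `η` dies in `Ext Z X₃ (n+1)`
  have h1 : η.comp (Ext.mk₀ S.g) (add_zero _) = 0 := by
    apply hinj
    rw [P_comp_mk₀, ← h, P_zero, Ext.comp_assoc_of_third_deg_zero, Ext.mk₀_comp_mk₀, ← Φ.map_comp,
      S.zero, Φ.map_zero, Ext.mk₀_zero, Ext.comp_zero]
  obtain ⟨ζ, hζ⟩ := Ext.covariant_sequence_exact₂ _ hS η h1
  -- step 2: `P ζ - ξ` dies in `Ext Z' (Φ X₂) (n+1)`
  have h2 : (P Φ c S.X₁ (n + 1) ζ - ξ).comp (Ext.mk₀ (S.map Φ).f) (add_zero _) = 0 := by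
    rw [sub_eq_add_neg, Ext.add_comp, Ext.neg_comp, ← sub_eq_add_neg, sub_eq_zero]
    change (P Φ c S.X₁ (n + 1) ζ).comp (Ext.mk₀ (Φ.map S.f)) _ = ξ.comp (Ext.mk₀ (Φ.map S.f)) _
    rw [← P_comp_mk₀, hζ, h]
  obtain ⟨q', hq'⟩ := Ext.covariant_sequence_exact₁ _ (hS.map_of_exact Φ) _ h2 (n₀ := n) rfl
  obtain ⟨q, rfl⟩ := hsurj q'
  refine ⟨ζ - q.comp hS.extClass rfl, ?_⟩
  rw [P_sub, P_comp_extClass]
  erw [hq']
  rw [sub_sub_cancel]

end Groth.Agent.Lib.ExtPull
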