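import Groth.Agent.Lib.MateBC39
import Groth.Agent.Lib.EtHpullComp
import Groth.Agent.Lib.EtPullExact95
import Groth.Agent.Lib.ExtPull
import Groth.Prelude.Def_EtLim

/-!
# Compatibility of `Hpull`, `HofPush` and `baseChange0` (helper39)
-/

set_option autoImplicit false
universe u
open CategoryTheory CategoryTheory.Limits AlgebraicGeometry Opposite

namespace Groth.Agent.Lib.EtBCHpull39

open EtCore EtCoh

section congr

variable {X Y : Scheme.{u}}

set_option backward.isDefEq.respectTransparency false in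
lemma pullbackCongr_refl_inv_app (k : X ⟶ Y) (V : Y.Etale) :
    (MorphismProperty.Over.pullbackCongr (P := etaleMP) (Q := ⊤) (rfl : k = k)).inv.app V = 𝟙 _ := by
  ext
  simp [MorphismProperty.Over.pullbackCongr]
  rfl

lemma pushCongr_refl_hom_app (k : X ⟶ Y) (N : EtCoh.Ab X) :
    (EtCoh.pushCongr (rfl : k = k)).hom.app N = 𝟙 _ := by
  apply Sheaf.hom_ext
  ext V s
  show N.obj.map ((MorphismProperty.Over.pullbackCongr (P := etaleMP) (Q := ⊤)
    (rfl : k = k)).inv.app V.unop).op s = s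
  rw [pullbackCongr_refl_inv_app]
  have : N.obj.map (𝟙 ((bc k).obj V.unop)).op = 𝟙 _ := by rw [op_id, N.obj.map_id]
  exact (congrArg (fun t => (ConcreteCategory.hom t) s) this).trans rfl

lemma homEquiv_pullCongr {k k' : X ⟶ Y} (w : k = k') (M : EtCoh.Ab Y) (N : EtCoh.Ab X)
    (ψ : (EtCoh.pull k').obj M ⟶ N) :
    (EtCoh.pullPushAdj k).homEquiv _ _ ((pullCongr w).hom.app M ≫ ψ) ≫ (EtCoh.pushCongr w).hom.app N =
      (EtCoh.pullPushAdj k').homEquiv _ _ ψ := by
  subst w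
  rw [pushCongr_refl_hom_app, Category.comp_id]
  simp [pullCongr]

end congr

section mate

variable {X Y X' Y' : Scheme.{u}} (f : X ⟶ Y) (g : Y' ⟶ Y) (f' : X' ⟶ Y') (g' : X' ⟶ X)
  (w : g' ≫ f = f' ≫ g) (F : EtCoh.Ab X)

/-- the mate identity relating the base change map and the counits -/
theorem pullComp_counit_eq :
    (pullComp g' f).hom.app ((EtCoh.push f).obj F) ≫
        (EtCoh.pull g').map ((EtCoh.pullPushAdj f).counit.app F) =
      (pullCongr w).hom.app ((EtCoh.push f).obj F) ≫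
        (pullComp f' g).hom.app ((EtCoh.push f).obj F) ≫
          (EtCoh.pull f').map (EtCoh.baseChange0 f g f' g' w F) ≫
            (EtCoh.pullPushAdj f').counit.app ((EtCoh.pull g').obj F) :=
  Groth.Agent.Lib.MateBC39.mate_identity (EtCoh.pullPushAdj f) (EtCoh.pullPushAdj g)
    (EtCoh.pullPushAdj f') (EtCoh.pullPushAdj g') (EtCoh.pullPushAdj (g' ≫ f))
    (EtCoh.pullPushAdj (f' ≫ g)) (EtCoh.pushComp f g') (EtCoh.pushComp g f') (EtCoh.pushCongr w)
    (pullCongr w) (fun M N ψ => homEquiv_pullCongr w M N ψ) F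

open CategoryTheory.Abelian Groth.Agent.Lib.EtHpullComp

lemma HF_map_apply {Z : Scheme.{u}} {A B : EtCoh.Ab Z} (φ : A ⟶ B) (q : ℕ) (y : EtCoh.H Z A q) :
    ((EtCoh.HF Z q).map φ).hom y = y.comp (Ext.mk₀ φ) (add_zero q) := rfl

lemma Hpull_comp_mk₀ {Z W : Scheme.{u}} (a : W ⟶ Z) [PreservesFiniteLimits (EtCoh.pull a)]
    {A B : EtCoh.Ab Z} (φ : A ⟶ B) (q : ℕ) (y : EtCoh.H Z A q) :
    Hpull a B q (y.comp (Ext.mk₀ φ) (add_zero q)) =
      (Hpull a A q y).comp (Ext.mk₀ ((EtCoh.pull a).map φ)) (add_zero q) :=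
  Groth.Agent.Lib.ExtPull.P_comp_mk₀ (EtCoh.pull a) (pullConst a ℤ).inv φ q y

/-- `Hpull a (t^* G) (Hpull t G x)` in terms of `Hpull (a ≫ t) G x` -/
lemma Hpull_Hpull {Z W V : Scheme.{u}} (a : V ⟶ W) (t : W ⟶ Z) {f₀ : V ⟶ Z} (w : a ≫ t = f₀)
    [PreservesFiniteLimits (EtCoh.pull a)] [PreservesFiniteLimits (EtCoh.pull t)]
    [PreservesFiniteLimits (EtCoh.pull f₀)] (G : EtCoh.Ab Z) (q : ℕ) (x : EtCoh.H Z G q) :
    Hpull a ((EtCoh.pull t).obj G) q (Hpull t G q x) =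
      (Hpull f₀ G q x).comp
        (Ext.mk₀ (((pullComp a t).symm ≪≫ pullCongr w).app G).inv) (add_zero q) := by
  rw [← HpullVia_Hpull a t w G q x, HpullVia_apply,
    Ext.comp_assoc_of_third_deg_zero, Ext.mk₀_comp_mk₀, Iso.hom_inv_id, Ext.comp_mk₀_id]

variable [PreservesFiniteLimits (EtCoh.pull f)] [PreservesFiniteLimits (EtCoh.pull g)]
  [PreservesFiniteLimits (EtCoh.pull f')] [PreservesFiniteLimits (EtCoh.pull g')]

omit [PreservesFiniteLimits (EtCoh.pull g)] [PreservesFiniteLimits (EtCoh.pull f')]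
  [PreservesFiniteLimits (EtCoh.pull g')] in
lemma HofPush_apply (q : ℕ) (ζ : EtCoh.H Y ((EtCoh.push f).obj F) q) :
    EtLim.HofPush f F q ζ =
      (Hpull f ((EtCoh.push f).obj F) q ζ).comp
        (Ext.mk₀ ((EtCoh.pullPushAdj f).counit.app F)) (add_zero q) := rfl

omit [PreservesFiniteLimits (EtCoh.pull f)] [PreservesFiniteLimits (EtCoh.pull g)]
  [PreservesFiniteLimits (EtCoh.pull g')] in
lemma HofPush_HF_map {A : EtCoh.Ab Y'} (φ : A ⟶ (EtCoh.push f').obj ((EtCoh.pull g').obj F)) (q : ℕ)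
    (y : EtCoh.H Y' A q) :
    EtLim.HofPush f' ((EtCoh.pull g').obj F) q (((EtCoh.HF Y' q).map φ).hom y) =
      (Hpull f' _ q (y.comp (Ext.mk₀ φ) (add_zero q))).comp
        (Ext.mk₀ ((EtCoh.pullPushAdj f').counit.app ((EtCoh.pull g').obj F))) (add_zero q) := rfl

lemma pullCongr_rfl_inv_app {Z W : Scheme.{u}} (k : W ⟶ Z) (M : EtCoh.Ab Z) :
    (pullCongr (rfl : k = k)).inv.app M = 𝟙 _ := by
  simp [pullCongr]

lemma pullCongr_symm_inv_app {Z W : Scheme.{u}} {k k' : W ⟶ Z} (h : k = k') (M : EtCoh.Ab Z) :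
    (pullCongr h.symm).inv.app M = (pullCongr h).hom.app M := by
  subst h
  rfl

omit [PreservesFiniteLimits (EtCoh.pull f)] [PreservesFiniteLimits (EtCoh.pull g)]
  [PreservesFiniteLimits (EtCoh.pull f')] [PreservesFiniteLimits (EtCoh.pull g')] in
lemma key :
    (((pullComp g' f).symm ≪≫ pullCongr rfl).app ((EtCoh.push f).obj F)).inv ≫
      (EtCoh.pull g').map ((EtCoh.pullPushAdj f).counit.app F) =
      (((pullComp f' g).symm ≪≫ pullCongr w.symm).app ((EtCoh.push f).obj F)).inv ≫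
        (EtCoh.pull f').map (EtCoh.baseChange0 f g f' g' w F) ≫
          (EtCoh.pullPushAdj f').counit.app ((EtCoh.pull g').obj F) := by
  have h3 := pullComp_counit_eq f g f' g' w F
  simp only [Iso.trans_inv, Iso.symm_inv, Iso.app_inv, NatTrans.comp_app, Category.assoc]
  rw [pullCongr_rfl_inv_app, pullCongr_symm_inv_app, Category.id_comp]
  exact h3

theorem Hpull_HofPush (q : ℕ) (ζ : EtCoh.H Y ((EtCoh.push f).obj F) q) :
    EtCore.Hpull g' F q (EtLim.HofPush f F q ζ) =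
      EtLim.HofPush f' ((EtCoh.pull g').obj F) q
        (((EtCoh.HF Y' q).map (EtCoh.baseChange0 f g f' g' w F)).hom
          (EtCore.Hpull g ((EtCoh.push f).obj F) q ζ)) := by
  have : PreservesFiniteLimits (EtCoh.pull (g' ≫ f)) :=
    Groth.Agent.Lib.EtPullExact95.preservesFiniteLimits_pull _
  rw [HofPush_apply, HofPush_HF_map, Hpull_comp_mk₀, Hpull_comp_mk₀,
    Hpull_Hpull g' f rfl, Hpull_Hpull f' g w.symm,
    Ext.comp_assoc_of_third_deg_zero, Ext.comp_assoc_of_third_deg_zero,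
    Ext.comp_assoc_of_third_deg_zero, Ext.mk₀_comp_mk₀, Ext.mk₀_comp_mk₀, Ext.mk₀_comp_mk₀,
    key f g f' g' w F]

end mate

end Groth.Agent.Lib.EtBCHpull39
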