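import Groth.Agent.Lib.EtStalkPullGerm
import Groth.Agent.Lib.EtGermB
import Groth.Prelude.Def_BigSite
import Groth.Prelude.Def_SGA4b
import Groth.Agent.Lib.H60ExactDerived

/-!
# Condition (B) implies that `f_*` preserves epimorphisms of abelian etale sheaves (helper39)

Abelian version of helper43's `S6629` (which treats sheaves of sets).

* `glue_disjoint`: gluing sections of an abelian sheaf over a family of pairwise disjoint "open"
  pieces covering an etale scheme;
* `push_preservesEpimorphisms_of_propB`.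
-/

set_option autoImplicit false
universe u
open CategoryTheory CategoryTheory.Limits AlgebraicGeometry Opposite

namespace Groth.Agent.Lib.EtPushEpi39

open Groth.Agent.Lib.EtGerm Groth.Agent.Lib.EtStalkPullGerm

variable {X Y : Scheme.{u}}

/-- Gluing of sections over a disjoint covering family of monomorphisms. -/
lemma glue_disjoint (F : EtCoh.Ab X) (Q : X.Etale) {μ : Type u} (Wa : μ → X.Etale)
    (ia : ∀ a, Wa a ⟶ Q) (hmono : ∀ a, Mono (ia a).left)
    (hdisj : ∀ a b, a ≠ b → Disjoint (Set.range (ia a).left) (Set.range (ia b).left))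
    (hcov : ⋃ a, Set.range (ia a).left = Set.univ) (s : ∀ a, EtCoh.sect F (Wa a)) :
    ∃! t : EtCoh.sect F Q, ∀ a, F.obj.map (ia a).op t = s a := by
  have hmem : Sieve.generate (Presieve.ofArrows _ ia) ∈ X.smallEtaleTopology Q := by
    apply sieve_mem_of_forall_pt
    intro q
    have hq : q ∈ ⋃ a, Set.range (ia a).left := by rw [hcov]; trivial
    obtain ⟨a, ha⟩ := Set.mem_iUnion.1 hq
    exact ⟨Wa a, ia a, ⟨_, 𝟙 _, _, Presieve.ofArrows.mk a, Category.id_comp _⟩, ha⟩
  have hsh : Presieve.IsSheaf X.smallEtaleTopology (F.obj ⋙ forget AddCommGrpCat.{u + 1}) :=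
    (isSheaf_iff_isSheaf_of_type _ _).1
      ((sheafCompose X.smallEtaleTopology (forget AddCommGrpCat.{u + 1})).obj F).2
  have h1 := hsh.isSheafFor _ hmem
  rw [Presieve.isSheafFor_arrows_iff] at h1
  refine h1 s ?_
  intro a b Z ga gb hab
  by_cases h : a = b
  · subst h
    have : ga = gb := by
      apply MorphismProperty.Over.Hom.ext
      have h1 : ga.left ≫ (ia a).left = gb.left ≫ (ia a).left :=
        congrArg (fun m => m.left) hab
      exact (cancel_mono (ia a).left).1 h1
    rw [this]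
  · have : IsEmpty Z.left := by
      refine ⟨fun z => ?_⟩
      have h1 : (ga.left ≫ (ia a).left) z = (gb.left ≫ (ia b).left) z :=
        congrArg (fun m : Z ⟶ Q => m.left z) hab
      refine Set.disjoint_left.1 (hdisj a b h) ⟨ga.left z, rfl⟩ ⟨gb.left z, ?_⟩
      exact h1.symm
    exact (subsingleton_sect_of_isEmpty F Z).elim _ _

set_option backward.isDefEq.respectTransparency.types false in
/-- Pointwise criterion for covering sieves of the small etale site (from helper43's `S6629`). -/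
lemma mem_smallEtale_iff (W : X.Etale) (R : Sieve W) :
    R ∈ X.smallEtaleTopology W ↔
      ∀ x : W.left, ∃ (Z : X.Etale) (k : Z ⟶ W) (z : Z.left), R k ∧ k.left z = x := by
  have eX : X.smallEtaleTopology =
      (X.smallPretopology (P := EtCoh.etaleMP) (Q := EtCoh.etaleMP)).toGrothendieck :=
    Scheme.smallGrothendieckTopology_eq_toGrothendieck_smallPretopology X le_rfl
  constructor
  · intro h x
    rw [eX] at h
    obtain ⟨Z, k, z, hk, -, hz⟩ := (Scheme.mem_toGrothendieck_smallPretopology W R).1 h x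
    exact ⟨Z, k, z, hk, hz⟩
  · intro h
    rw [eX]
    refine (Scheme.mem_toGrothendieck_smallPretopology W R).2 fun x => ?_
    obtain ⟨Z, k, z, hk, hz⟩ := h x
    exact ⟨Z, k, z, hk, inferInstance, hz⟩

/-- epimorphisms of abelian etale sheaves are locally surjective, pointwise form -/
lemma exists_lift_of_epi {F G : EtCoh.Ab X} (a : F ⟶ G) [Epi a] {P : X.Etale}
    (t : EtCoh.sect G P) (x : P.left) :
    ∃ (Z : X.Etale) (k : Z ⟶ P) (z : Z.left), k.left z = x ∧
      ∃ s : EtCoh.sect F Z, a.hom.app (op Z) s = G.obj.map k.op t := by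
  have hls : Sheaf.IsLocallySurjective a :=
    (Sheaf.isLocallySurjective_iff_epi' (φ := a)).2 inferInstance
  have hS := Presheaf.imageSieve_mem X.smallEtaleTopology a.hom (U := op P) t
  obtain ⟨Z, k, z, hk, hz⟩ := (mem_smallEtale_iff P _).1 hS x
  exact ⟨Z, k, z, hz, hk⟩

set_option backward.isDefEq.respectTransparency false in
/-- condition (B) implies that `f_*` preserves epimorphisms of abelian sheaves -/
theorem push_preservesEpimorphisms_of_propB (f : X ⟶ Y) (hB : BigSite.PropB f) :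
    (EtCoh.push f).PreservesEpimorphisms := by
  refine ⟨fun {F G} a ha => ?_⟩
  have hls : Presheaf.IsLocallySurjective Y.smallEtaleTopology ((EtCoh.push f).map a).hom :=
    ⟨fun {V₁} t => ?_⟩
  · have : Sheaf.IsLocallySurjective ((EtCoh.push f).map a) := hls
    exact (Sheaf.isLocallySurjective_iff_epi' (φ := (EtCoh.push f).map a)).1 this
  rw [mem_smallEtale_iff]
  intro y
  let P := (EtCoh.bc f).obj V₁
  let t' : EtCoh.sect G P := t
  choose Z k z hz hk using fun x => exists_lift_of_epi a t' x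
  let σ := pullbackSymmetry V₁.hom f
  obtain ⟨κ, V', v', hv', hsurj, hW⟩ := hB V₁.left V₁.hom P.left (fun x => (Z x).left)
    (fun x => (k x).left ≫ σ.hom) (fun x => inferInstance) (by
      intro x'
      refine ⟨σ.inv x', z (σ.inv x'), ?_⟩
      rw [Scheme.Hom.comp_apply, hz]
      exact Scheme.inv_hom_apply σ x')
  obtain ⟨j, y', rfl⟩ := hsurj y
  have hvj := hv' j
  let Vj : Y.Etale := Scheme.Etale.mk (v' j ≫ V₁.hom)
  let gj : Vj ⟶ V₁ := MorphismProperty.Over.homMk (v' j) rfl trivial
  refine ⟨Vj, gj, y', ?_, rfl⟩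
  obtain ⟨μ, W, hdisj, hsup, hfac⟩ := hW j
  choose xa h hh using hfac
  let Q := (EtCoh.bc f).obj Vj
  let τ := pullbackSymmetry (v' j ≫ V₁.hom) f
  let Wa : μ → X.Etale := fun a => Scheme.Etale.mk ((W a).ι ≫ τ.inv ≫ Q.hom)
  let ia : ∀ a, Wa a ⟶ Q := fun a =>
    MorphismProperty.Over.homMk ((W a).ι ≫ τ.inv) (Category.assoc _ _ _) trivial
  let bg : pullback (v' j ≫ V₁.hom) f ⟶ pullback V₁.hom f := ((EtCoh.bc f).map gj).left
  have hbg1 : bg ≫ pullback.fst V₁.hom f = pullback.fst (v' j ≫ V₁.hom) f ≫ v' j :=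
    (EtCoh.isPullback_bc_map f gj).w
  have hbg2 : bg ≫ pullback.snd V₁.hom f = pullback.snd (v' j ≫ V₁.hom) f :=
    Over.w ((EtCoh.bc f).map gj).hom
  have hmap : pullback.map f (v' j ≫ V₁.hom) f V₁.hom (𝟙 X) (v' j) (𝟙 Y) (by simp) (by simp) =
      τ.inv ≫ bg ≫ σ.hom := by
    apply pullback.hom_ext
    · simp only [pullback.lift_fst, Category.assoc, Category.comp_id, σ, τ,
        pullbackSymmetry_hom_comp_fst, hbg2, pullbackSymmetry_inv_comp_snd]
    · simp only [pullback.lift_snd, Category.assoc, σ, τ,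
        pullbackSymmetry_hom_comp_snd, hbg1, pullbackSymmetry_inv_comp_fst_assoc]
  have e3 : ∀ a, h a ≫ (k (xa a)).left = (W a).ι ≫ τ.inv ≫ bg := fun a => by
    rw [← cancel_mono σ.hom, Category.assoc, hh a, hmap]
    simp only [Category.assoc]
  have e4 : ∀ a, h a ≫ (Z (xa a)).hom = (Wa a).hom := fun a => by
    have hk' : (k (xa a)).left ≫ P.hom = (Z (xa a)).hom := Over.w (k (xa a)).hom
    rw [← hk', ← Category.assoc, e3 a]
    change ((W a).ι ≫ τ.inv ≫ bg) ≫ pullback.snd V₁.hom f =
      (W a).ι ≫ τ.inv ≫ pullback.snd (v' j ≫ V₁.hom) f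
    simp only [Category.assoc, hbg2]
  let ha' : ∀ a, Wa a ⟶ Z (xa a) := fun a => MorphismProperty.Over.homMk (h a) (e4 a) trivial
  have hkey : ∀ a, ha' a ≫ k (xa a) = ia a ≫ (EtCoh.bc f).map gj := fun a => by
    apply MorphismProperty.Over.Hom.ext
    exact (e3 a).trans (Category.assoc _ _ _).symm
  choose s₀ hs₀ using hk
  have hmono : ∀ a, Mono (ia a).left := fun a => by
    change Mono ((W a).ι ≫ τ.inv)
    infer_instance
  have hdisj' : ∀ a b, a ≠ b → Disjoint (Set.range (ia a).left) (Set.range (ia b).left) := by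
    intro a b hab
    rw [Set.disjoint_left]
    rintro _ ⟨p, rfl⟩ ⟨p', hp'⟩
    have h1 : ((W b).ι ≫ τ.inv) p' = ((W a).ι ≫ τ.inv) p := hp'
    have h2 : (W b).ι p' = (W a).ι p := by
      have := congrArg (fun q => τ.hom q) h1
      simpa [Scheme.Hom.comp_apply, Scheme.inv_hom_apply] using this
    have h3 : (W a).ι p ∈ W a ⊓ W b := ⟨p.2, h2 ▸ p'.2⟩
    rw [(disjoint_iff.1 (hdisj a b hab))] at h3
    exact h3
  have hcov : ⋃ a, Set.range (ia a).left = Set.univ := by
    ext q
    simp only [Set.mem_iUnion, Set.mem_range, Set.mem_univ, iff_true]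
    have hq : τ.hom q ∈ (⨆ a, W a) := by rw [hsup]; trivial
    obtain ⟨a, ha⟩ := TopologicalSpace.Opens.mem_iSup.1 hq
    refine ⟨a, ⟨τ.hom q, ha⟩, ?_⟩
    change ((W a).ι ≫ τ.inv) ⟨τ.hom q, ha⟩ = q
    rw [Scheme.Hom.comp_apply]
    exact Scheme.hom_inv_apply τ q
  let s : ∀ a, EtCoh.sect F (Wa a) := fun a => F.obj.map (ha' a).op (s₀ (xa a))
  obtain ⟨sQ, hsQ, -⟩ := glue_disjoint F Q Wa ia hmono hdisj' hcov s
  refine ⟨sQ, ?_⟩
  change a.hom.app (op Q) sQ = G.obj.map ((EtCoh.bc f).map gj).op t'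
  obtain ⟨u₀, -, hu₀⟩ := glue_disjoint G Q Wa ia hmono hdisj' hcov
    (fun a => G.obj.map (ia a).op (G.obj.map ((EtCoh.bc f).map gj).op t'))
  have h1 : a.hom.app (op Q) sQ = u₀ := by
    apply hu₀
    intro b
    have n1 := congrArg (fun m => m.hom sQ) (a.hom.naturality (ia b).op)
    have n1' : a.hom.app (op (Wa b)) (F.obj.map (ia b).op sQ) =
        G.obj.map (ia b).op (a.hom.app (op Q) sQ) := n1
    rw [← n1', hsQ b]
    have n2 := congrArg (fun m => m.hom (s₀ (xa b))) (a.hom.naturality (ha' b).op)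
    have n2' : a.hom.app (op (Wa b)) (F.obj.map (ha' b).op (s₀ (xa b))) =
        G.obj.map (ha' b).op (a.hom.app (op (Z (xa b))) (s₀ (xa b))) := n2
    change a.hom.app (op (Wa b)) (F.obj.map (ha' b).op (s₀ (xa b))) = _
    rw [n2', hs₀]
    have e5 : G.obj.map (ha' b).op (G.obj.map (k (xa b)).op t') =
        G.obj.map (ha' b ≫ k (xa b)).op t' := by
      rw [op_comp, Functor.map_comp]
      rfl
    have e6 : G.obj.map (ia b).op (G.obj.map ((EtCoh.bc f).map gj).op t') =
        G.obj.map (ia b ≫ (EtCoh.bc f).map gj).op t' := by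
      rw [op_comp, Functor.map_comp]
      rfl
    rw [e5, e6, hkey b]
  have h2 : G.obj.map ((EtCoh.bc f).map gj).op t' = u₀ := hu₀ _ fun b => rfl
  rw [h1, h2]

instance preservesFiniteLimits_push (f : X ⟶ Y) : PreservesFiniteLimits (EtCoh.push f) := by
  have : PreservesLimitsOfSize.{0, 0} (EtCoh.push f) :=
    (EtCoh.pullPushAdj f).rightAdjoint_preservesLimits
  infer_instance

/-- condition (B) implies that `f_*` is exact -/
theorem push_preservesFiniteColimits_of_propB (f : X ⟶ Y) (hB : BigSite.PropB f) :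
    PreservesFiniteColimits (EtCoh.push f) := by
  have h := push_preservesEpimorphisms_of_propB f hB
  exact Groth.Agent.Lib.H60ExactDerived.preservesFiniteColimits_of_preservesEpi (EtCoh.push f)
    (fun g hg => by
      have := hg
      infer_instance)

/-- condition (B) implies that the higher direct images vanish -/
theorem isZero_Rpush_of_propB (f : X ⟶ Y) (hB : BigSite.PropB f) (F : EtCoh.Ab X) (q : ℕ)
    (hq : 0 < q) : IsZero ((EtCoh.Rpush f q).obj F) := by
  have := push_preservesFiniteColimits_of_propB f hB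
  obtain ⟨q, rfl⟩ : ∃ k, q = k + 1 := ⟨q - 1, by omega⟩
  exact Groth.Agent.Lib.H60ExactDerived.isZero_rightDerived_succ_of_exact (EtCoh.push f) F q

end Groth.Agent.Lib.EtPushEpi39
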