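import Groth.Agent.Lib.CechLES
import Groth.Agent.Lib.EtPushEpi39
import Groth.Prelude.Def_EtCech

/-!
# Čech-flasque abelian étale sheaves: two-out-of-three (helper65) — S14628

Uses helper92's `CechLow.exists_correction_of_H1_zero` and `CechLES.isZero_homology_three`.
-/

set_option autoImplicit false
universe u
open CategoryTheory CategoryTheory.Limits AlgebraicGeometry Opposite

namespace Groth.Agent.Lib.EtCechFlasque65

open Groth.Agent.Lib.CechLow Groth.Agent.Lib.CechLES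

variable {X : Scheme.{u}}

lemma injective_app_of_mono {F G : EtCoh.Ab X} (a : F ⟶ G) [Mono a] (W : X.Etaleᵒᵖ) :
    Function.Injective (a.hom.app W) := by
  have : Mono ((sheafToPresheaf _ _).map a) := inferInstance
  have : Mono (a.hom.app W) := inferInstance
  exact (AddCommGrpCat.mono_iff_injective _).1 this

/-- left exactness of sections for a short exact sequence of abelian étale sheaves -/
theorem exists_of_app_g_eq_zero {S : ShortComplex (EtCoh.Ab X)} (hS : S.ShortExact)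
    (V : X.Etale) (c : S.X₂.obj.obj (op V)) (hc : S.g.hom.app (op V) c = 0) :
    ∃ e : S.X₁.obj.obj (op V), S.f.hom.app (op V) e = c := by
  let F : EtCoh.Ab X ⥤ AddCommGrpCat.{u + 1} :=
    sheafToPresheaf X.smallEtaleTopology AddCommGrpCat.{u + 1} ⋙
      (evaluation X.Etaleᵒᵖ AddCommGrpCat.{u + 1}).obj (op V)
  have : F.PreservesZeroMorphisms := ⟨fun _ _ => rfl⟩
  have hm := hS.mono_f
  have h := hS.exact.map_of_mono_of_preservesKernel F hm inferInstance
  rw [ShortComplex.ab_exact_iff] at h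
  exact h c hc

lemma isSheafFor_ofArrows (F : EtCoh.Ab X) {I : Type*} {W : X.Etale} {V : I → X.Etale}
    (k : ∀ i, V i ⟶ W) (hk : Sieve.generate (Presieve.ofArrows V k) ∈ X.smallEtaleTopology W) :
    (Presieve.ofArrows V k).IsSheafFor (F.obj ⋙ forget AddCommGrpCat.{u + 1}) := by
  have hsh : Presieve.IsSheaf X.smallEtaleTopology (F.obj ⋙ forget AddCommGrpCat.{u + 1}) :=
    (isSheaf_iff_isSheaf_of_type _ _).1
      ((sheafCompose X.smallEtaleTopology (forget AddCommGrpCat.{u + 1})).obj F).2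
  exact hsh.isSheafFor _ hk

variable [∀ U : X.Etale, HasFiniteProducts (Over U)]

/-- the restriction of an abelian étale sheaf to `Over W` -/
abbrev pre (W : X.Etale) (F : EtCoh.Ab X) : (Over W)ᵒᵖ ⥤ AddCommGrpCat.{u + 1} :=
  (Over.forget W).op ⋙ F.obj

/-- vanishing of Čech `H¹` for all jointly surjective families -/
def CechH1Zero (F : EtCoh.Ab X) : Prop :=
  ∀ (U : X.Etale) (ι : Type (u + 1)) (Uf : ι → Over U),
    (∀ x : ↥(U.left), ∃ (i : ι) (y : ↥((Uf i).left.left)), (Uf i).hom.left.base y = x) →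
      IsZero (EtCech.cechH Uf F.obj 1)

/-- if Čech `H¹` of `S.X₁` vanishes for all covering families, `S.X₂ → S.X₃` is surjective on
sections -/
theorem surjective_app_g {S : ShortComplex (EtCoh.Ab X)} (hS : S.ShortExact)
    (h1 : CechH1Zero S.X₁) (W : X.Etale) : Function.Surjective (S.g.hom.app (op W)) := by
  intro s
  have hepi := hS.epi_g
  have hmono := hS.mono_f
  let ι' : Type (u + 1) := Σ (V : X.Etale), {k : V ⟶ W //
    ∃ t : S.X₂.obj.obj (op V), S.g.hom.app (op V) t = S.X₃.obj.map k.op s}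
  let Y' : ι' → Over W := fun i => Over.mk i.2.1
  choose t₀ ht using fun i : ι' => i.2.2
  let t : ∀ i : ι', (pre W S.X₂).obj (op (Y' i)) := t₀
  have hcov : ∀ x : ↥(W.left), ∃ (i : ι') (y : ↥((Y' i).left.left)),
      (Y' i).hom.left.base y = x := by
    intro x
    obtain ⟨Z, k, z, hz, s', hs'⟩ := Groth.Agent.Lib.EtPushEpi39.exists_lift_of_epi S.g s x
    exact ⟨⟨Z, k, s', hs'⟩, z, hz⟩
  let f' : pre W S.X₁ ⟶ pre W S.X₂ := Functor.whiskerLeft (Over.forget W).op S.f.hom
  have hf' : ∀ V, Function.Injective (f'.app V) := fun V => injective_app_of_mono S.f _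
  have ht' : ∀ a : Fin 2 → ι', ∃ e : (pre W S.X₁).obj (op (∏ᶜ fun k => Y' (a k))),
      f'.app _ e = (pre W S.X₂).map (Pi.π (fun k => Y' (a k)) 1).op (t (a 1)) -
        (pre W S.X₂).map (Pi.π (fun k => Y' (a k)) 0).op (t (a 0)) := by
    intro a
    have key : ∀ m : Fin 2, S.g.hom.app (op (∏ᶜ fun k => Y' (a k)).left)
        (S.X₂.obj.map (Pi.π (fun k => Y' (a k)) m).left.op (t₀ (a m))) =
        S.X₃.obj.map (∏ᶜ fun k => Y' (a k)).hom.op s := by
      intro m
      have n := NatTrans.naturality_apply S.g.hom (Pi.π (fun k => Y' (a k)) m).left.op (t₀ (a m))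
      have w : (Pi.π (fun k => Y' (a k)) m).left ≫ (a m).2.1 = (∏ᶜ fun k => Y' (a k)).hom :=
        Over.w (Pi.π (fun k => Y' (a k)) m)
      refine n.trans ((congrArg _ (ht (a m))).trans ?_)
      rw [← ConcreteCategory.comp_apply, ← S.X₃.obj.map_comp, ← op_comp, w]
    apply exists_of_app_g_eq_zero hS
    rw [map_sub, sub_eq_zero]
    exact (key 1).trans (key 0).symm
  obtain ⟨b, hb⟩ := exists_correction_of_H1_zero Y' f' hf' (h1 W ι' Y' hcov) t ht'
  -- glue
  have hmem : Sieve.generate (Presieve.ofArrows (fun i : ι' => i.1) (fun i => i.2.1)) ∈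
      X.smallEtaleTopology W := by
    rw [Groth.Agent.Lib.EtPushEpi39.mem_smallEtale_iff]
    intro x
    obtain ⟨i, y, hy⟩ := hcov x
    exact ⟨i.1, i.2.1, y, ⟨_, 𝟙 _, _, Presieve.ofArrows.mk i, Category.id_comp _⟩, hy⟩
  have hsf := isSheafFor_ofArrows S.X₂ (fun i : ι' => i.2.1) hmem
  have hsf3 := isSheafFor_ofArrows S.X₃ (fun i : ι' => i.2.1) hmem
  rw [Presieve.isSheafFor_arrows_iff] at hsf hsf3
  let x : ∀ i : ι', (pre W S.X₂).obj (op (Y' i)) := fun i => t i - f'.app (op (Y' i)) (b i)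
  obtain ⟨t', ht', -⟩ := hsf x (by
    intro i j Z ga gb hab
    let a : Fin 2 → ι' := Fin.cons i (fun _ => j)
    let Z' : Over W := Over.mk (ga ≫ i.2.1)
    let φ : ∀ k : Fin 2, Z' ⟶ Y' (a k) :=
      Fin.cons (α := fun k => Z' ⟶ Y' (a k)) (Over.homMk ga rfl) (fun _ => Over.homMk gb hab.symm)
    have h2 := congrArg (S.X₂.obj.map (Pi.lift φ).left.op) (hb a)
    change S.X₂.obj.map (Pi.lift φ).left.op (S.X₂.obj.map (Pi.π (fun k => Y' (a k)) 1).left.op _) =
      S.X₂.obj.map (Pi.lift φ).left.op (S.X₂.obj.map (Pi.π (fun k => Y' (a k)) 0).left.op _) at h2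
    rw [← ConcreteCategory.comp_apply, ← ConcreteCategory.comp_apply, ← S.X₂.obj.map_comp,
      ← S.X₂.obj.map_comp, ← op_comp, ← op_comp, ← Over.comp_left, ← Over.comp_left,
      Pi.lift_π, Pi.lift_π] at h2
    show S.X₂.obj.map ga.op (x i) = S.X₂.obj.map gb.op (x j)
    exact h2.symm)
  refine ⟨t', ?_⟩
  have hx : Presieve.Arrows.Compatible (S.X₃.obj ⋙ forget AddCommGrpCat.{u + 1})
      (fun i : ι' => i.2.1) (fun i => S.X₃.obj.map i.2.1.op s) := by
    intro i j Z ga gb hab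
    change S.X₃.obj.map ga.op (S.X₃.obj.map i.2.1.op s) =
      S.X₃.obj.map gb.op (S.X₃.obj.map j.2.1.op s)
    rw [← ConcreteCategory.comp_apply, ← ConcreteCategory.comp_apply, ← S.X₃.obj.map_comp,
      ← S.X₃.obj.map_comp, ← op_comp, ← op_comp, hab]
  obtain ⟨s', -, hs'⟩ := hsf3 _ hx
  refine (hs' _ (fun i => ?_)).trans (hs' s (fun _ => rfl)).symm
  change S.X₃.obj.map i.2.1.op (S.g.hom.app (op W) t') = S.X₃.obj.map i.2.1.op s
  have n := NatTrans.naturality_apply S.g.hom i.2.1.op t'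
  rw [← n]
  have e1 : S.X₂.obj.map i.2.1.op t' = x i := ht' i
  rw [e1]
  have e3 : S.g.hom.app (op i.1) (x i) = S.g.hom.app (op i.1) (t₀ i) -
      S.g.hom.app (op i.1) (S.f.hom.app (op i.1) (b i)) :=
    map_sub (S.g.hom.app (op i.1)).hom (t₀ i) (S.f.hom.app (op i.1) (b i))
  have e2 : S.g.hom.app (op i.1) (S.f.hom.app (op i.1) (b i)) = 0 := by
    have := congrArg (fun m => m.hom.app (op i.1) (b i)) S.zero
    exact this
  rw [e3, e2, sub_zero]
  exact ht i

/-- S14628 -/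
theorem main (S : ShortComplex (EtCoh.Ab X)) (hS : S.ShortExact)
    (h1 : (∀ (U : X.Etale) (ι : Type (u + 1)) (Uf : ι → Over U),
      (∀ x : ↥(U.left), ∃ (i : ι) (y : ↥((Uf i).left.left)), (Uf i).hom.left.base y = x) →
      ∀ p : ℕ, 0 < p → IsZero (EtCech.cechH Uf S.X₁.obj p)))
    (h2 : (∀ (U : X.Etale) (ι : Type (u + 1)) (Uf : ι → Over U),
      (∀ x : ↥(U.left), ∃ (i : ι) (y : ↥((Uf i).left.left)), (Uf i).hom.left.base y = x) →
      ∀ p : ℕ, 0 < p → IsZero (EtCech.cechH Uf S.X₂.obj p)))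
    (U : X.Etale) (ι : Type (u + 1)) (Uf : ι → Over U)
    (hU : ∀ x : ↥(U.left), ∃ (i : ι) (y : ↥((Uf i).left.left)), (Uf i).hom.left.base y = x)
    (p : ℕ) (hp : 0 < p) :
    IsZero (EtCech.cechH Uf S.X₃.obj p) := by
  obtain ⟨p, rfl⟩ : ∃ q, p = q + 1 := ⟨p - 1, by omega⟩
  have hmono := hS.mono_f
  have h1' : CechH1Zero S.X₁ := fun U ι Uf hU => h1 U ι Uf hU 1 Nat.one_pos
  refine isZero_homology_three Uf (Functor.whiskerLeft (Over.forget U).op S.f.hom)
    (Functor.whiskerLeft (Over.forget U).op S.g.hom) ?_ ?_ ?_ ?_ p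
    (h1 U ι Uf hU (p + 2) (by omega)) (h2 U ι Uf hU (p + 1) (by omega))
  · ext V : 2
    have := congrArg (fun m => m.hom.app (op V.unop.left)) S.zero
    exact this
  · intro n a
    exact injective_app_of_mono S.f _
  · intro n a y hy
    exact exists_of_app_g_eq_zero hS _ y hy
  · intro n a
    exact surjective_app_g hS h1' _

end Groth.Agent.Lib.EtCechFlasque65
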