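import Groth.Agent.Lib.CechTransfer
import Groth.Prelude.Def_EtCech
import Mathlib.CategoryTheory.Limits.Preserves.Shapes.Over

/-!
# Čech cohomology of a direct image on small étale sites (helper65) — S14626

The Čech complex of `f_* F` for a family `Vf` over `V` is the Čech complex of `F` for the base
changed family over `V ×_Y X`.
-/

set_option autoImplicit false
universe u
open CategoryTheory CategoryTheory.Limits AlgebraicGeometry Opposite

namespace Groth.Agent.Lib.EtCechPush65

variable {X Y : Scheme.{u}} (f : X ⟶ Y)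

/-- base change of a jointly surjective family is jointly surjective -/
lemma surj_bc (V : Y.Etale) {ι : Type (u + 1)} (Vf : ι → Over V)
    (hV : ∀ x : ↥(V.left), ∃ (i : ι) (y : ↥((Vf i).left.left)), (Vf i).hom.left.base y = x)
    (x : ↥(((EtCoh.bc f).obj V).left)) :
    ∃ (i : ι) (y : ↥(((Over.post (EtCoh.bc f)).obj (Vf i)).left.left)),
      ((Over.post (EtCoh.bc f)).obj (Vf i)).hom.left.base y = x := by
  obtain ⟨i, v, hv⟩ := hV ((pullback.fst V.hom f : ((EtCoh.bc f).obj V).left ⟶ V.left) x)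
  have sq := EtCoh.isPullback_bc_map f (Vf i).hom
  obtain ⟨z, hz1, -⟩ := Scheme.Pullback.exists_preimage_pullback
    (f := (pullback.fst V.hom f : ((EtCoh.bc f).obj V).left ⟶ V.left)) (g := (Vf i).hom.left) x v
    hv.symm
  refine ⟨i, sq.isoPullback.inv z, ?_⟩
  rw [← hz1]
  show (((EtCoh.bc f).map (Vf i).hom).left) (sq.isoPullback.inv z) = _
  rw [← Scheme.Hom.comp_apply, IsPullback.isoPullback_inv_fst]
  rfl

variable [∀ U : X.Etale, HasFiniteProducts (Over U)] [∀ V : Y.Etale, HasFiniteProducts (Over V)]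

theorem isZero_cechH_push (F : EtCoh.Ab X) (V : Y.Etale) {ι : Type (u + 1)} (Vf : ι → Over V)
    (p : ℕ)
    (h : IsZero (EtCech.cechH (fun i => (Over.post (EtCoh.bc f)).obj (Vf i)) F.obj p)) :
    IsZero (EtCech.cechH Vf ((EtCoh.push f).obj F).obj p) := by
  have hG : ∀ (n : ℕ) (a : Fin (n + 1) → ι),
      IsIso (piComparison (Over.post (X := V) (EtCoh.bc f)) (fun k => Vf (a k))) := by
    intro n a
    infer_instance
  exact (Groth.Agent.Lib.CechTransfer.isZero_homology_iff (Over.post (X := V) (EtCoh.bc f)) Vf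
    ((Over.forget ((EtCoh.bc f).obj V)).op ⋙ F.obj) hG p).1 h

/-- S14626 -/
theorem main (F : EtCoh.Ab X)
    (hF : ∀ (U : X.Etale) (ι : Type (u + 1)) (Uf : ι → Over U),
      (∀ x : ↥(U.left), ∃ (i : ι) (y : ↥((Uf i).left.left)), (Uf i).hom.left.base y = x) →
      ∀ p : ℕ, 0 < p → IsZero (EtCech.cechH Uf F.obj p))
    (V : Y.Etale) (ι : Type (u + 1)) (Vf : ι → Over V)
    (hV : ∀ x : ↥(V.left), ∃ (i : ι) (y : ↥((Vf i).left.left)), (Vf i).hom.left.base y = x)
    (p : ℕ) (hp : 0 < p) :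
    IsZero (EtCech.cechH Vf ((EtCoh.push f).obj F).obj p) :=
  isZero_cechH_push f F V Vf p
    (hF ((EtCoh.bc f).obj V) ι (fun i => (Over.post (EtCoh.bc f)).obj (Vf i))
      (surj_bc f V Vf hV) p hp)

end Groth.Agent.Lib.EtCechPush65
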