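import Groth.Agent.Lib.EtStalkPullGerm

/-!
# Sections of etale sheaves over open and closed subschemes (helper39)

For an abelian sheaf `F` on the small etale site of `X`, an etale `X`-scheme `P` and an open and
closed subset `W` of `P`, every section of `F` over `W` extends (by zero on the complement) to a
section over `P`: `exists_section_extending_of_clopen`.
-/

set_option autoImplicit false
universe u

open CategoryTheory CategoryTheory.Limits AlgebraicGeometry Opposite

namespace Groth.Agent.Lib.EtClopen

open Groth.Agent.Lib.EtGerm Groth.Agent.Lib.EtStalkPullGerm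

variable {X : Scheme.{u}}

/-- the inclusion of an open subscheme is a monomorphism of the small etale site -/
lemma openSubι_cancel (P : X.Etale) (W : P.left.Opens) {Z : X.Etale}
    (a b : Z ⟶ openSub P W) (h : a ≫ openSubι P W = b ≫ openSubι P W) : a = b := by
  apply MorphismProperty.Over.Hom.ext
  have h1 : a.left ≫ W.ι = b.left ≫ W.ι := congrArg (fun k => k.left) h
  exact (cancel_mono W.ι).1 h1

/-- the family of the two inclusions `W ⟶ P`, `Wᶜ ⟶ P` -/
noncomputable def fam (P : X.Etale) (W W' : P.left.Opens) : Bool → X.Etale :=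
  fun b => Bool.rec (openSub P W') (openSub P W) b

noncomputable def famι (P : X.Etale) (W W' : P.left.Opens) : (b : Bool) → (fam P W W' b ⟶ P) :=
  fun b => Bool.rec (openSubι P W') (openSubι P W) b

lemma generate_fam_mem (P : X.Etale) (W W' : P.left.Opens)
    (hWW' : ∀ p : P.left, p ∈ W ∨ p ∈ W') :
    Sieve.generate (Presieve.ofArrows (fam P W W') (famι P W W')) ∈ X.smallEtaleTopology P := by
  apply sieve_mem_of_forall_pt
  intro p
  rcases hWW' p with h | h
  · exact ⟨openSub P W, openSubι P W,
      ⟨_, 𝟙 _, _, Presieve.ofArrows.mk (f := famι P W W') true, Category.id_comp _⟩,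
      ⟨⟨p, h⟩, rfl⟩⟩
  · exact ⟨openSub P W', openSubι P W',
      ⟨_, 𝟙 _, _, Presieve.ofArrows.mk (f := famι P W W') false, Category.id_comp _⟩,
      ⟨⟨p, h⟩, rfl⟩⟩

/-- gluing two sections over two disjoint opens covering `P` -/
lemma exists_section_of_disjoint_cover (F : EtCoh.Ab X) (P : X.Etale) (W W' : P.left.Opens)
    (hWW' : ∀ p : P.left, p ∈ W ∨ p ∈ W') (hdisj : ∀ p : P.left, p ∈ W → p ∈ W' → False)
    (t : EtCoh.sect F (openSub P W)) (t' : EtCoh.sect F (openSub P W')) :
    ∃ s : EtCoh.sect F P, F.obj.map (openSubι P W).op s = t ∧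
      F.obj.map (openSubι P W').op s = t' := by
  have hsh : Presieve.IsSheaf X.smallEtaleTopology (F.obj ⋙ forget AddCommGrpCat.{u + 1}) :=
    (isSheaf_iff_isSheaf_of_type _ _).1
      ((sheafCompose X.smallEtaleTopology (forget AddCommGrpCat.{u + 1})).obj F).2
  have h1 := hsh.isSheafFor _ (generate_fam_mem P W W' hWW')
  rw [Presieve.isSheafFor_arrows_iff] at h1
  let x : (b : Bool) → (F.obj ⋙ forget AddCommGrpCat.{u + 1}).obj (op (fam P W W' b)) :=
    fun b => Bool.rec t' t b
  have hx : Presieve.Arrows.Compatible (F.obj ⋙ forget AddCommGrpCat.{u + 1}) (famι P W W') x := by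
    intro i j Z gi gj hij
    have hempty : ∀ (a : Z ⟶ openSub P W) (b : Z ⟶ openSub P W'),
        a ≫ openSubι P W = b ≫ openSubι P W' → IsEmpty Z.left := by
      intro a b hab
      refine ⟨fun z => ?_⟩
      have e : W.ι (a.left z) = W'.ι (b.left z) :=
        congrArg (fun k : Z ⟶ P => k.left z) hab
      refine hdisj (W.ι (a.left z)) ?_ ?_
      · exact (a.left z).2
      · rw [e]
        exact (b.left z).2
    cases i <;> cases j
    · have : gi = gj := openSubι_cancel P W' gi gj hij
      rw [this]
    · have := hempty gj gi hij.symm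
      exact (subsingleton_sect_of_isEmpty F Z).elim _ _
    · have := hempty gi gj hij
      exact (subsingleton_sect_of_isEmpty F Z).elim _ _
    · have : gi = gj := openSubι_cancel P W gi gj hij
      rw [this]
  obtain ⟨s, hs, -⟩ := h1 x hx
  exact ⟨s, hs true, hs false⟩

/-- sections over an open and closed subscheme extend -/
lemma exists_section_extending_of_clopen (F : EtCoh.Ab X) (P : X.Etale) (W : P.left.Opens)
    (hW : IsClosed (W : Set P.left)) (t : EtCoh.sect F (openSub P W)) :
    ∃ s : EtCoh.sect F P, F.obj.map (openSubι P W).op s = t := by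
  obtain ⟨s, hs, -⟩ := exists_section_of_disjoint_cover F P W ⟨(W : Set P.left)ᶜ, hW.isOpen_compl⟩
    (fun p => Classical.em (p ∈ W)) (fun p h h' => h' h) t 0
  exact ⟨s, hs⟩

end Groth.Agent.Lib.EtClopen
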