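import Groth.Agent.Lib.EtLiftClosed
import Groth.Agent.Lib.EtStalkPullGerm

/-!
# Stalks of direct images along closed immersions (helper39)

For a closed immersion `i : Z ⟶ X`:
* `pushNbhd_left`, `pt_pushNbhd`, `pushNbhd_map`, `pullNbhd_map`: more on the correspondence of etale
  neighbourhoods under base change;
* `isOpenImmersion_equalizer_ι_left`, `exists_open_eq_of_nbhd_eq`: two morphisms of the small etale
  site agreeing at a geometric point agree on an open neighbourhood;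
* `stalk_counit_germ`, `bijective_stalk_counit`, `isIso_counit_of_isClosedImmersion`: the counit
  `i⁻¹ i_* G ⟶ G` is an isomorphism;
* `stalkPushIso`: `(i_* G)_{i ζ} ≅ G_ζ`.
-/

set_option autoImplicit false
universe u
open CategoryTheory CategoryTheory.Limits AlgebraicGeometry Opposite

namespace Groth.Agent.Lib.EtClosedStalk

open Groth.Agent.Lib.EtGerm Groth.Agent.Lib.EtStalkPull Groth.Agent.Lib.EtStalkPullGerm
  Groth.Agent.Lib.EtLiftClosed Groth.Agent.Lib.EtStalkConservative Groth.Agent.Lib.EtAbStalk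

section nbhd

variable {X Y : Scheme.{u}} (f : X ⟶ Y) {Ω : Type u} [Field Ω] [IsSepClosed Ω]
  (ξ : Spec (CommRingCat.of Ω) ⟶ X)

lemma pushNbhd_left {U : Y.Etale} (y : Nbhd ξ ((EtCoh.bc f).obj U)) :
    (CommaMorphism.left (pushNbhd f ξ y) : Spec (CommRingCat.of Ω) ⟶ U.left) =
      (CommaMorphism.left y : Spec (CommRingCat.of Ω) ⟶ pullback U.hom f) ≫
        pullback.fst U.hom f := by
  rfl

lemma pt_pushNbhd {U : Y.Etale} (y : Nbhd ξ ((EtCoh.bc f).obj U)) :
    Nbhd.pt (ξ ≫ f) (pushNbhd f ξ y) = (pullback.fst U.hom f) (Nbhd.pt ξ y) :=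
  congrArg (fun k : Spec (CommRingCat.of Ω) ⟶ U.left => k (default : Spec (CommRingCat.of Ω)))
    (pushNbhd_left f ξ y)

set_option maxHeartbeats 400000 in
lemma pushNbhd_map {U V : Y.Etale} (g : V ⟶ U) (y : Nbhd ξ ((EtCoh.bc f).obj V)) :
    pushNbhd f ξ (Nbhd.map ξ ((EtCoh.bc f).map g) y) = Nbhd.map (ξ ≫ f) g (pushNbhd f ξ y) := by
  unfold pushNbhd
  generalize fiberIso f ξ = e
  exact ConcreteCategory.congr_hom (e.hom.naturality g) y

set_option maxHeartbeats 400000 in
lemma pullNbhd_map {U V : Y.Etale} (g : V ⟶ U) (y : Nbhd (ξ ≫ f) V) :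
    pullNbhd f ξ (Nbhd.map (ξ ≫ f) g y) = Nbhd.map ξ ((EtCoh.bc f).map g) (pullNbhd f ξ y) := by
  unfold pullNbhd
  generalize fiberIso f ξ = e
  exact ConcreteCategory.congr_hom (e.inv.naturality g) y

end nbhd

section equalizer

set_option backward.isDefEq.respectTransparency false in
/-- the equalizer of two morphisms into a scheme with open diagonal is an open subscheme -/
lemma isOpenImmersion_equalizer_ι_left {S : Scheme.{u}} {X Y : Over S}
    [IsOpenImmersion (pullback.diagonal Y.hom)]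
    (f g : X ⟶ Y) : IsOpenImmersion (equalizer.ι f g).left := by
  refine MorphismProperty.of_isPullback
    ((Limits.isPullback_equalizer_prod f g).map (Over.forget _)).flip ?_
  rw [← MorphismProperty.cancel_right_of_respectsIso @IsOpenImmersion _
    (Over.prodLeftIsoPullback Y Y).hom]
  convert! (inferInstance : IsOpenImmersion (pullback.diagonal Y.hom))
  ext1 <;> simp [← Over.comp_left]

variable {Z : Scheme.{u}} {Ω : Type u} [Field Ω] [IsSepClosed Ω] (ζ : Spec (CommRingCat.of Ω) ⟶ Z)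

/-- two morphisms of the small etale site agreeing at a geometric point agree on an open
neighbourhood of it -/
lemma exists_open_eq_of_nbhd_eq {W V : Z.Etale} (b₁ b₂ : W ⟶ V) (n : Nbhd ζ W)
    (h : Nbhd.map ζ b₁ n = Nbhd.map ζ b₂ n) :
    ∃ O : W.left.Opens, Nbhd.pt ζ n ∈ O ∧ openSubι W O ≫ b₁ = openSubι W O ≫ b₂ := by
  let W' : Over Z := (Scheme.Etale.forget Z).obj W
  let V' : Over Z := (Scheme.Etale.forget Z).obj V
  let c₁ : W' ⟶ V' := (Scheme.Etale.forget Z).map b₁
  let c₂ : W' ⟶ V' := (Scheme.Etale.forget Z).map b₂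
  have : IsOpenImmersion (pullback.diagonal V'.hom) := by
    show IsOpenImmersion (pullback.diagonal V.hom)
    infer_instance
  have hE : IsOpenImmersion (equalizer.ι c₁ c₂).left := isOpenImmersion_equalizer_ι_left c₁ c₂
  let l : Over.mk ζ ⟶ equalizer c₁ c₂ := equalizer.lift (n : Over.mk ζ ⟶ W') h
  have hl : l ≫ equalizer.ι c₁ c₂ = n := equalizer.lift_ι _ _
  refine ⟨(equalizer.ι c₁ c₂).left.opensRange, ?_, ?_⟩
  · refine ⟨(CommaMorphism.left l : Spec (CommRingCat.of Ω) ⟶ (equalizer c₁ c₂).left)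
      (default : Spec (CommRingCat.of Ω)), ?_⟩
    have := congrArg (fun k : Over.mk ζ ⟶ W' =>
      (CommaMorphism.left k : Spec (CommRingCat.of Ω) ⟶ W.left) (default : Spec (CommRingCat.of Ω))) hl
    exact this
  · apply MorphismProperty.Over.Hom.ext
    show ((equalizer.ι c₁ c₂).left.opensRange).ι ≫ b₁.left = ((equalizer.ι c₁ c₂).left.opensRange).ι ≫ b₂.left
    have e1 : (equalizer.ι c₁ c₂).left ≫ b₁.left = (equalizer.ι c₁ c₂).left ≫ b₂.left :=
      congrArg (fun k => k.left) (equalizer.condition c₁ c₂)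
    have e2 := (equalizer.ι c₁ c₂).left.isoOpensRange_inv_comp
    rw [← e2, Category.assoc, Category.assoc, e1]

end equalizer

section closed

variable {Z X : Scheme.{u}} (i : Z ⟶ X) {Ω : Type u} [Field Ω] [IsSepClosed Ω]
  (ζ : Spec (CommRingCat.of Ω) ⟶ Z)

/-- on germs, `(i⁻¹ i_* G)_ζ ≅ (i_* G)_{iζ} ⟶ G_ζ` sends the germ of `s` at `y` to its germ at the
induced neighbourhood -/
lemma stalk_counit_germ (G : EtCoh.Ab Z) {V : X.Etale} (y : Nbhd (ζ ≫ i) V)
    (s : EtCoh.sect ((EtCoh.push i).obj G) V) :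
    (EtCoh.stalk ζ).map ((EtCoh.pullPushAdj i).counit.app G)
      ((stalkPullIso i ζ).inv.app ((EtCoh.push i).obj G)
        (germ (ζ ≫ i) ((EtCoh.push i).obj G) y s)) = germ ζ G (pullNbhd i ζ y) s := by
  rw [stalkPullIso_inv_germ]
  refine (germ_naturality ζ ((EtCoh.pullPushAdj i).counit.app G) (pullNbhd i ζ y) _).trans ?_
  congr 1
  have h := (EtCoh.pullPushAdj i).right_triangle_components G
  have h2 := congrArg (fun (k : (EtCoh.push i).obj G ⟶ (EtCoh.push i).obj G) => k.hom.app (op V) s) h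
  exact h2


variable [IsClosedImmersion i]

lemma surjective_stalk_counit (G : EtCoh.Ab Z) :
    Function.Surjective ((EtCoh.stalk ζ).map ((EtCoh.pullPushAdj i).counit.app G)) := by
  intro τ
  obtain ⟨T, t, σ, rfl⟩ := germ_jointly_surjective ζ G τ
  obtain ⟨V, h, p, hp⟩ := exists_lift_etale_nbhd i T (Nbhd.pt ζ t)
  obtain ⟨z', hz', -⟩ := exists_nbhd_lift ζ h t p hp
  refine ⟨(stalkPullIso i ζ).inv.app ((EtCoh.push i).obj G)
    (germ (ζ ≫ i) ((EtCoh.push i).obj G) (pushNbhd i ζ z') (G.obj.map h.op σ)), ?_⟩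
  rw [stalk_counit_germ, pullNbhd_pushNbhd, germ_res, hz']


omit [IsClosedImmersion i] in
lemma Nbhd_map_comp {A B C : Z.Etale} (f : A ⟶ B) (g : B ⟶ C) (y : Nbhd ζ A) :
    Nbhd.map ζ (f ≫ g) y = Nbhd.map ζ g (Nbhd.map ζ f y) :=
  ConcreteCategory.congr_hom ((Scheme.pointSmallEtale ζ).fiber.map_comp f g) y

lemma germ_push_eq_zero_of_germ_eq_zero (G : EtCoh.Ab Z) {V : X.Etale} (y : Nbhd (ζ ≫ i) V)
    (s : EtCoh.sect ((EtCoh.push i).obj G) V) (h0 : germ ζ G (pullNbhd i ζ y) s = 0) :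
    germ (ζ ≫ i) ((EtCoh.push i).obj G) y s = 0 := by
  obtain ⟨T, k, t, hkt, hks⟩ := (germ_eq_zero_iff ζ G (pullNbhd i ζ y) s).1 h0
  obtain ⟨V', h, p, hp⟩ := exists_lift_etale_nbhd i T (Nbhd.pt ζ t)
  obtain ⟨z', hz', -⟩ := exists_nbhd_lift ζ h t p hp
  obtain ⟨W, a, b, w, haw, hbw⟩ := exists_common_nbhd (ζ ≫ i) (pushNbhd i ζ z') y
  let b₁ : (EtCoh.bc i).obj W ⟶ (EtCoh.bc i).obj V := (EtCoh.bc i).map b
  let b₂ : (EtCoh.bc i).obj W ⟶ (EtCoh.bc i).obj V := (EtCoh.bc i).map a ≫ h ≫ k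
  have hn : Nbhd.map ζ b₁ (pullNbhd i ζ w) = Nbhd.map ζ b₂ (pullNbhd i ζ w) := by
    have e1 : Nbhd.map ζ b₁ (pullNbhd i ζ w) = pullNbhd i ζ y := by
      rw [← pullNbhd_map, hbw]
    have e2 : Nbhd.map ζ b₂ (pullNbhd i ζ w) = pullNbhd i ζ y := by
      rw [Nbhd_map_comp, Nbhd_map_comp, ← pullNbhd_map, haw, pullNbhd_pushNbhd, hz', hkt]
    rw [e1, e2]
  obtain ⟨O, hnO, hO⟩ := exists_open_eq_of_nbhd_eq ζ b₁ b₂ (pullNbhd i ζ w) hn
  -- `O` comes from an open of `W`
  have hcl : IsClosedImmersion (pullback.fst W.hom i) := inferInstance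
  obtain ⟨O's, hO's, hO'eq⟩ :=
    (Scheme.Hom.isClosedEmbedding (pullback.fst W.hom i)).toIsEmbedding.toIsInducing.isOpen_iff.1 O.2
  let O' : W.left.Opens := ⟨O's, hO's⟩
  have hmemO : ∀ q : ((EtCoh.bc i).obj W).left, q ∈ O ↔ (pullback.fst W.hom i) q ∈ O' := by
    intro q
    have : q ∈ (O : Set _) ↔ q ∈ (pullback.fst W.hom i) ⁻¹' O's := by rw [hO'eq]; rfl
    exact this
  have hw : Nbhd.pt (ζ ≫ i) w ∈ O' := by
    have h1 := (hmemO _).1 hnO
    rw [← pt_pushNbhd, pushNbhd_pullNbhd] at h1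
    exact h1
  obtain ⟨z, hz⟩ := exists_nbhd_openSub (ζ ≫ i) O' w hw
  refine (germ_eq_zero_iff (ζ ≫ i) ((EtCoh.push i).obj G) y s).2
    ⟨openSub W O', openSubι W O' ≫ b, z, ?_, ?_⟩
  · rw [Nbhd_map_comp, hz, hbw]
  · -- the comparison map `c`
    have hrange : Set.range ((EtCoh.bc i).map (openSubι W O')).left ⊆ Set.range O.ι := by
      rintro _ ⟨q, rfl⟩
      rw [Scheme.Opens.range_ι]
      show ((EtCoh.bc i).map (openSubι W O')).left q ∈ O
      rw [hmemO]
      have e := (EtCoh.isPullback_bc_map i (openSubι W O')).w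
      have e' := congrArg (fun k : ((EtCoh.bc i).obj (openSub W O')).left ⟶ W.left => k q) e
      refine (congrArg (· ∈ O') e').mpr ?_
      exact ((pullback.fst (openSub W O').hom i) q).2
    have hOι : IsOpenImmersion O.ι :=
      inferInstanceAs (IsOpenImmersion (Scheme.Opens.ι (X := pullback W.hom i) O))
    let cl : ((EtCoh.bc i).obj (openSub W O')).left ⟶ (openSub ((EtCoh.bc i).obj W) O).left :=
      @IsOpenImmersion.lift _ _ _ O.ι ((EtCoh.bc i).map (openSubι W O')).left hOι hrange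
    have hcl' : cl ≫ O.ι = ((EtCoh.bc i).map (openSubι W O')).left :=
      @IsOpenImmersion.lift_fac _ _ _ O.ι ((EtCoh.bc i).map (openSubι W O')).left hOι hrange
    let c : (EtCoh.bc i).obj (openSub W O') ⟶ openSub ((EtCoh.bc i).obj W) O :=
      MorphismProperty.Over.homMk cl (by
        show cl ≫ O.ι ≫ ((EtCoh.bc i).obj W).hom = _
        rw [← Category.assoc, hcl']
        exact Over.w ((EtCoh.bc i).map (openSubι W O')).hom) trivial
    have hc : c ≫ openSubι ((EtCoh.bc i).obj W) O = (EtCoh.bc i).map (openSubι W O') := by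
      apply MorphismProperty.Over.Hom.ext
      exact hcl'
    have hfact : (EtCoh.bc i).map (openSubι W O' ≫ b) =
        ((c ≫ openSubι ((EtCoh.bc i).obj W) O ≫ (EtCoh.bc i).map a ≫ h) ≫ k) := by
      rw [Functor.map_comp, ← hc]
      simp only [Category.assoc]
      exact congrArg (fun m => c ≫ m) hO
    show G.obj.map ((EtCoh.bc i).map (openSubι W O' ≫ b)).op s = 0
    rw [hfact, op_comp, Functor.map_comp]
    show G.obj.map _ (G.obj.map k.op s) = 0
    rw [hks, map_zero]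


lemma injective_stalk_counit (G : EtCoh.Ab Z) :
    Function.Injective ((EtCoh.stalk ζ).map ((EtCoh.pullPushAdj i).counit.app G)) := by
  rw [injective_iff_map_eq_zero]
  intro a ha
  obtain ⟨V, y, s, hs⟩ := germ_jointly_surjective (ζ ≫ i) ((EtCoh.push i).obj G)
    ((stalkPullIso i ζ).hom.app ((EtCoh.push i).obj G) a)
  have ha' : a = (stalkPullIso i ζ).inv.app ((EtCoh.push i).obj G)
      (germ (ζ ≫ i) ((EtCoh.push i).obj G) y s) := by
    rw [hs]
    exact (Iso.hom_inv_id_app_apply (stalkPullIso i ζ) ((EtCoh.push i).obj G) a).symm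
  rw [ha', stalk_counit_germ] at ha
  rw [ha', germ_push_eq_zero_of_germ_eq_zero i ζ G y s ha, map_zero]

/-- for a closed immersion `i`, the counit `i⁻¹ i_* G ⟶ G` is an isomorphism -/
theorem isIso_counit_app (G : EtCoh.Ab Z) : IsIso ((EtCoh.pullPushAdj i).counit.app G) :=
  isIso_of_forall_stdPt _ (fun z =>
    ⟨injective_stalk_counit i (stdPt z) G, surjective_stalk_counit i (stdPt z) G⟩)

instance isIso_counit : IsIso (EtCoh.pullPushAdj i).counit :=
  have := isIso_counit_app i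
  NatIso.isIso_of_isIso_app _

/-- direct image along a closed immersion is fully faithful -/
noncomputable def fullyFaithfulPush : (EtCoh.push i).FullyFaithful :=
  (EtCoh.pullPushAdj i).fullyFaithfulROfIsIsoCounit

/-- stalks of the direct image along a closed immersion -/
noncomputable def stalkPushIso (G : EtCoh.Ab Z) :
    (EtCoh.stalk (ζ ≫ i)).obj ((EtCoh.push i).obj G) ≅ (EtCoh.stalk ζ).obj G :=
  (stalkPullIso i ζ).symm.app ((EtCoh.push i).obj G) ≪≫
    (EtCoh.stalk ζ).mapIso (@asIso _ _ _ _ _ (isIso_counit_app i G))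

end closed

end Groth.Agent.Lib.EtClosedStalk
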