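import Groth.Agent.Lib.EtExtZero
import Groth.Agent.Lib.EtClosedStalk
import Groth.Agent.Lib.EtAbStalk3
import Groth.Agent.S0069

/-!
# Extension by zero, restriction and closed complements: stalkwise statements (helper39)

* `isIso_stalk_map_of_isIso_restr`: if `j⁻¹ v` is an isomorphism then `v` is an isomorphism on the
  stalks at the geometric points `u ≫ j`;
* `isIso_restr_counit`: for a monomorphism `j`, `j⁻¹ (j_! j⁻¹ F ⟶ F)` is an isomorphism;
  `isIso_stalk_counit`: `(j_! j⁻¹ F)_{j u} ⟶ F_{j u}` is an isomorphism;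
* `isEmpty_lifts`: geometric points outside the image of `j` do not lift;
* `isIso_stalk_unit_closed`: for a closed immersion `i`, `F_{i ζ} ⟶ (i_* i⁻¹ F)_{i ζ}` is an
  isomorphism;
* `isZero_restr_push`: `j⁻¹ i_* G = 0` if the images of `i` and `j` are disjoint.
-/

set_option autoImplicit false
set_option linter.unusedSectionVars false
universe u
open CategoryTheory CategoryTheory.Limits AlgebraicGeometry Opposite

namespace Groth.Agent.Lib.EtExtZero

open Groth.Agent.Lib.EtGerm Groth.Agent.Lib.EtStalkPull Groth.Agent.Lib.EtStalkPullGerm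
  Groth.Agent.Lib.EtClosedStalk Groth.Agent.Lib.EtStalkConservative Groth.Agent.Lib.EtAbStalk
  Groth.Agent.Lib.EtAbStalk2 Groth.Agent.Lib.EtAbStalk3

section

variable {U X : Scheme.{u}} (j : U ⟶ X) [hj : AlgebraicGeometry.Etale j] [EtShriek.JCont j]
  {Ω : Type u} [Field Ω] [IsSepClosed Ω]

/-- if `j⁻¹ v` is an isomorphism then `v` is an isomorphism on stalks at points of `U` -/
lemma isIso_stalk_map_of_isIso_restr {P Q : EtCoh.Ab X} (v : P ⟶ Q)
    (h : IsIso ((EtShriek.restrAlong j).map v)) (u : Spec (CommRingCat.of Ω) ⟶ U) :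
    IsIso ((EtCoh.stalk (u ≫ j)).map v) := by
  have hnat := (stalkRestrIso j u).hom.naturality v
  have h2 : IsIso ((EtShriek.restrAlong j ⋙ EtCoh.stalk u).map v) := by
    show IsIso ((EtCoh.stalk u).map ((EtShriek.restrAlong j).map v))
    infer_instance
  have h4 : IsIso ((stalkRestrIso j u).hom.app _ ≫ (EtCoh.stalk (u ≫ j)).map v) := by
    rw [← hnat]
    infer_instance
  exact IsIso.of_isIso_comp_left ((stalkRestrIso j u).hom.app _) _

/-- for a monomorphism `j`, the counit `j_! j⁻¹ F ⟶ F` becomes an isomorphism after restriction -/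
lemma isIso_restr_counit [Mono j] (F : EtCoh.Ab X) :
    IsIso ((EtShriek.restrAlong j).map ((EtShriek.extZeroAdj j).counit.app F)) := by
  have htri := (EtShriek.extZeroAdj j).right_triangle_components F
  have hη : IsIso ((EtShriek.extZeroAdj j).unit.app ((EtShriek.restrAlong j).obj F)) :=
    inferInstance
  have hid : IsIso (𝟙 ((EtShriek.restrAlong j).obj F)) := IsIso.id _
  exact @IsIso.of_isIso_fac_left _ _ _ _ _ _ _ _ hη hid htri

/-- for a monomorphism `j`, the counit `j_! j⁻¹ F ⟶ F` is an isomorphism on stalks at points of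
`U` -/
lemma isIso_stalk_counit [Mono j] (F : EtCoh.Ab X) (u : Spec (CommRingCat.of Ω) ⟶ U) :
    IsIso ((EtCoh.stalk (u ≫ j)).map ((EtShriek.extZeroAdj j).counit.app F)) :=
  isIso_stalk_map_of_isIso_restr j _ (isIso_restr_counit j F) u

omit [EtShriek.JCont j] in
/-- geometric points outside the image of `j` do not lift to `U` -/
lemma isEmpty_lifts (ξ : Spec (CommRingCat.of Ω) ⟶ X) (h : ξ default ∉ Set.range j) :
    IsEmpty (Lifts j ξ) := by
  refine ⟨fun u => h ⟨u.1 default, ?_⟩⟩
  have := congrArg (fun k : Spec (CommRingCat.of Ω) ⟶ X => k (default : Spec (CommRingCat.of Ω)))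
    u.2
  exact this

end

section closed

variable {Z X : Scheme.{u}} (i : Z ⟶ X) [IsClosedImmersion i]
  {Ω : Type u} [Field Ω] [IsSepClosed Ω]

/-- for a closed immersion `i`, the unit `F ⟶ i_* i⁻¹ F` is an isomorphism on stalks at points of
`Z` -/
lemma isIso_stalk_unit_closed (F : EtCoh.Ab X) (ζ : Spec (CommRingCat.of Ω) ⟶ Z) :
    IsIso ((EtCoh.stalk (ζ ≫ i)).map ((EtCoh.pullPushAdj i).unit.app F)) := by
  have h1 : IsIso ((EtCoh.pull i).map ((EtCoh.pullPushAdj i).unit.app F)) := by
    have htri := (EtCoh.pullPushAdj i).left_triangle_components F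
    have hε : IsIso ((EtCoh.pullPushAdj i).counit.app ((EtCoh.pull i).obj F)) :=
      isIso_counit_app i _
    have hid : IsIso (𝟙 ((EtCoh.pull i).obj F)) := IsIso.id _
    exact @IsIso.of_isIso_fac_right _ _ _ _ _ _ _ _ hε hid htri
  have hnat := (stalkPullIso i ζ).hom.naturality ((EtCoh.pullPushAdj i).unit.app F)
  have h2 : IsIso ((EtCoh.pull i ⋙ EtCoh.stalk ζ).map ((EtCoh.pullPushAdj i).unit.app F)) := by
    show IsIso ((EtCoh.stalk ζ).map ((EtCoh.pull i).map _))
    infer_instance
  have h4 : IsIso ((stalkPullIso i ζ).hom.app _ ≫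
      (EtCoh.stalk (ζ ≫ i)).map ((EtCoh.pullPushAdj i).unit.app F)) := by
    rw [← hnat]
    infer_instance
  exact IsIso.of_isIso_comp_left ((stalkPullIso i ζ).hom.app _) _

variable {U : Scheme.{u}} (j : U ⟶ X) [hj : AlgebraicGeometry.Etale j] [EtShriek.JCont j]

/-- `j⁻¹ i_* G = 0` if the images of `i` and `j` are disjoint -/
lemma isZero_restr_push (G : EtCoh.Ab Z) (hd : Disjoint (Set.range j) (Set.range i)) :
    IsZero ((EtShriek.restrAlong j).obj ((EtCoh.push i).obj G)) := by
  apply isZero_of_forall_stdPt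
  intro u
  refine IsZero.of_iso ?_ ((stalkRestrIso j (stdPt u)).app ((EtCoh.push i).obj G))
  apply Groth.Agent.S0069.result i G (stdPt u ≫ j)
  rw [Set.disjoint_left]
  rintro _ ⟨a, rfl⟩ hb
  refine Set.disjoint_left.1 hd ⟨(stdPt u) a, ?_⟩ hb
  rfl

end closed

end Groth.Agent.Lib.EtExtZero
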