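import Groth.Agent.Lib.EtLocPI2

/-!
# Étale localization of quasi-finite separated morphisms, purely inseparable clopen version
(helper34) — Stacks 02LP.
-/

set_option autoImplicit false
universe u
open AlgebraicGeometry CategoryTheory Limits Polynomial

namespace Groth.Agent.Lib.EtLocQF

/-- a closed sub-open of an open finite over `U` is finite over `U` -/
theorem isFinite_ι_comp_of_le_of_isClosed {Y U : Scheme.{u}} (h : Y ⟶ U) {W V : Y.Opens}
    (hle : W ≤ V) (hW : IsClosed (W : Set Y)) (hV : IsFinite (V.ι ≫ h)) :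
    IsFinite (W.ι ≫ h) := by
  have hci : IsClosedImmersion (Y.homOfLE hle) := by
    apply IsClosedImmersion.of_isPreimmersion
    have : Set.range (Y.homOfLE hle) = V.ι ⁻¹' (W : Set Y) := by
      have h1 := congrArg (fun O : V.toScheme.Opens => (O : Set V.toScheme))
        (Scheme.opensRange_homOfLE (X := Y) hle)
      exact h1
    rw [this]
    exact hW.preimage V.ι.continuous
  rw [← Y.homOfLE_ι hle, Category.assoc]
  infer_instance

variable {X S : Scheme.{u}}

/-- **Stacks 02LP**: as `exists_etaleNbhd_purelyInseparable`, for separated `f`: the opens `V m`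
can be taken open and closed and pairwise disjoint. -/
theorem exists_etaleNbhd_purelyInseparable_clopen (f : X ⟶ S) [LocallyOfFiniteType f]
    [IsSeparated f] (s : S) {ι : Type} [Finite ι] (x : ι → X) (hs : ∀ i, f (x i) = s)
    (hx : ∀ i, f.QuasiFiniteAt (x i)) :
    ∃ (U : Scheme.{u}) (g : U ⟶ S) (u : U), Etale g ∧ g u = s ∧
      ∃ (n : ℕ) (V : Fin n → (pullback f g).Opens) (v : Fin n → ↑(pullback f g)),
        (∀ m, IsClopen (V m : Set ↑(pullback f g)) ∧ v m ∈ V m ∧
          IsFinite ((V m).ι ≫ pullback.snd f g) ∧ pullback.snd f g (v m) = u ∧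
          (∀ w, w ∈ V m → pullback.snd f g w = u → w = v m) ∧
          ((pullback.snd f g).residueFieldMap (v m)).hom.IsPurelyInseparable ∧
          ((pullback.snd f g).residueFieldMap (v m)).hom.Finite ∧
          ∃ i, pullback.fst f g (v m) = x i) ∧
        (∀ m m', ((V m : Set ↑(pullback f g)) ∩ V m').Nonempty → m = m') ∧
        ∀ w : ↑(pullback f g), pullback.snd f g w = u → (∃ i, pullback.fst f g w = x i) →
          ∃ m, w = v m := by
  obtain ⟨U, g, u, hg, hgu, n, V, v, H, hvinj, hcov⟩ :=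
    exists_etaleNbhd_purelyInseparable f s x hs hx
  have hclosed : ∀ m, IsClosed (V m : Set ↑(pullback f g)) := fun m =>
    isClosed_of_isFinite_of_isSeparated f g (V m) (H m).2.1
  have hAc : ∀ m, IsClosed (⋃ (m' : Fin n) (_ : m' ≠ m), (V m' : Set ↑(pullback f g))) := fun m =>
    isClosed_iUnion_of_finite fun m' => isClosed_iUnion_of_finite fun _ => hclosed m'
  have hAo : ∀ m, IsOpen (⋃ (m' : Fin n) (_ : m' ≠ m), (V m' : Set ↑(pullback f g))) := fun m =>
    isOpen_iUnion fun m' => isOpen_iUnion fun _ => (V m').isOpen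
  let W : Fin n → (pullback f g).Opens := fun m =>
    ⟨(V m : Set ↑(pullback f g)) \ ⋃ (m' : Fin n) (_ : m' ≠ m), (V m' : Set ↑(pullback f g)),
      (V m).isOpen.sdiff (hAc m)⟩
  have hWV : ∀ m, W m ≤ V m := fun m t ht => ht.1
  have hWclopen : ∀ m, IsClopen (W m : Set ↑(pullback f g)) := fun m =>
    IsClopen.diff ⟨hclosed m, (V m).isOpen⟩ ⟨hAc m, hAo m⟩
  have hvW : ∀ m, v m ∈ W m := fun m => by
    refine ⟨(H m).1, ?_⟩
    simp only [Set.mem_iUnion, not_exists]
    intro m' hne hmem
    exact hne (hvinj ((H m').2.2.2.1 (v m) hmem (H m).2.2.1)).symm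
  refine ⟨U, g, u, hg, hgu, n, W, v, fun m => ?_, ?_, hcov⟩
  · obtain ⟨h1, h2, h3, h4, h5, h6, h7⟩ := H m
    exact ⟨hWclopen m, hvW m, isFinite_ι_comp_of_le_of_isClosed _ (hWV m) (hWclopen m).1 h2, h3,
      fun t ht => h4 t (hWV m ht), h5, h6, h7⟩
  · rintro m m' ⟨t, ht1, ht2⟩
    by_contra hne
    apply ht1.2
    simp only [Set.mem_iUnion]
    exact ⟨m', fun h => hne h.symm, ht2.1⟩

end Groth.Agent.Lib.EtLocQF
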