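import Groth.Agent.Lib.ZMTFin
import Groth.Agent.Lib.HenselIdem

/-! # Finite part of a separated quasi-finite scheme over a henselian local ring / pair (helper34)

Uses `ZMTFin.zmt_finite` and helper22's idempotent lifting `HenselIdem`. -/

universe u
open CategoryTheory AlgebraicGeometry Limits

namespace Groth.Agent.Lib.HenselFin

open PrimeSpectrum in
/-- Key algebra lemma: `(A, I)` henselian pair, `B` integral over `A`, `U ⊆ Spec B` open such that
`U ∩ V(IB)` is closed. Then there is an idempotent `e` of `B` with `D(e) ⊆ U` and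
`U ∩ V(IB) ⊆ D(e)`. -/
theorem exists_idempotent_basicOpen {A B : Type u} [CommRing A] [CommRing B] [Algebra A B]
    [Algebra.IsIntegral A B] (I : Ideal A) [HenselianRing A I] (U : Set (PrimeSpectrum B))
    (hU : IsOpen U) (hcl : IsClosed (U ∩ zeroLocus (I.map (algebraMap A B) : Set B))) :
    ∃ e : B, IsIdempotentElem e ∧ (basicOpen e : Set (PrimeSpectrum B)) ⊆ U ∧
      U ∩ zeroLocus (I.map (algebraMap A B) : Set B) ⊆ basicOpen e := by
  set J := I.map (algebraMap A B) with hJ
  let q := Ideal.Quotient.mk J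
  have hq : Function.Surjective q := Ideal.Quotient.mk_surjective
  have hemb := isClosedEmbedding_comap_of_surjective (B ⧸ J) q hq
  have hrange : Set.range (comap q) = zeroLocus (J : Set B) := by
    rw [range_comap_of_surjective _ q hq, Ideal.mk_ker]
  have hclopen : IsClopen (comap q ⁻¹' U) := by
    refine ⟨?_, hU.preimage (continuous_comap q)⟩
    have : comap q ⁻¹' U = comap q ⁻¹' (U ∩ zeroLocus (J : Set B)) := by
      ext p
      simp only [Set.mem_preimage, Set.mem_inter_iff, iff_self_and]
      intro _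
      rw [← hrange]
      exact ⟨p, rfl⟩
    rw [this]
    exact hcl.preimage (continuous_comap q)
  obtain ⟨ē, hē, hēU⟩ := PrimeSpectrum.isClopen_iff.mp hclopen
  obtain ⟨b, rfl⟩ := hq ē
  have hb : b * b - b ∈ J := by
    rw [← Ideal.Quotient.eq, map_mul]
    exact hē
  obtain ⟨e, he, heb⟩ := Groth.Agent.Lib.HenselIdem.exists_idempotent_lift_of_isIntegral I b hb
  have hqe : q e = q b := Ideal.Quotient.eq.mpr heb
  -- points of `V(J)`
  have key : ∀ p : PrimeSpectrum B, p ∈ zeroLocus (J : Set B) → (p ∈ U ↔ e ∉ p.asIdeal) := by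
    intro p hp
    obtain ⟨p', rfl⟩ : p ∈ Set.range (comap q) := hrange ▸ hp
    have h1 : comap q p' ∈ U ↔ p' ∈ (basicOpen (q b) : Set (PrimeSpectrum (B ⧸ J))) := by
      rw [← hēU]; rfl
    rw [h1, ← hqe]
    rfl
  refine ⟨e, he, ?_, ?_⟩
  · intro p hp
    by_contra hpU
    have hp' : e ∉ p.asIdeal := hp
    obtain ⟨M, hM, hpM⟩ := Ideal.exists_le_maximal p.asIdeal p.2.ne_top
    have h1e : 1 - e ∈ p.asIdeal := by
      have : e * (1 - e) ∈ p.asIdeal := by
        rw [mul_sub, mul_one, he.eq, sub_self]; exact zero_mem _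
      exact (p.2.mem_or_mem this).resolve_left hp'
    have heM : e ∉ M := by
      intro h
      apply hM.ne_top
      rw [Ideal.eq_top_iff_one]
      have := M.add_mem h (hpM h1e)
      rwa [add_sub_cancel] at this
    let Mp : PrimeSpectrum B := ⟨M, hM.isPrime⟩
    have hMJ : Mp ∈ zeroLocus (J : Set B) := by
      rw [mem_zeroLocus, SetLike.coe_subset_coe, hJ, Ideal.map_le_iff_le_comap]
      have hmax : (M.comap (algebraMap A B)).IsMaximal :=
        Ideal.isMaximal_comap_of_isIntegral_of_isMaximal M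
      exact (HenselianRing.jac (R := A) (I := I)).trans (sInf_le ⟨bot_le, hmax⟩)
    have hMU : Mp ∈ U := (key Mp hMJ).mpr heM
    apply hpU
    have hsp : p ⤳ Mp := (PrimeSpectrum.le_iff_specializes p Mp).mp hpM
    exact hsp.mem_open hU hMU
  · rintro p ⟨hpU, hpJ⟩
    exact (key p hpJ).mp hpU

open Groth.Agent.Lib.ZMTFin in
/-- finite form of Zariski's main theorem over an affine base, in ring-theoretic terms. -/
theorem zmt_finite_affine {X : Scheme.{u}} {A : CommRingCat.{u}} (f : X ⟶ Spec A)
    [LocallyQuasiFinite f] [LocallyOfFiniteType f] [QuasiCompact f] [IsSeparated f] :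
    ∃ (B : CommRingCat.{u}) (φ : A ⟶ B) (j : X ⟶ Spec B), φ.hom.Finite ∧ IsOpenImmersion j ∧
      j ≫ Spec.map φ = f := by
  obtain ⟨T, j, π, hj, hjqc, hπ, hjπ⟩ := zmt_finite f
  have : IsAffine T := isAffine_of_isAffineHom π
  let φ : A ⟶ Γ(T, ⊤) := (Scheme.ΓSpecIso A).inv ≫ π.appTop
  have h2 : T.isoSpec.hom ≫ Spec.map φ = π := by
    have h := Scheme.isoSpec_hom_naturality π
    rw [Scheme.isoSpec_Spec_hom] at h
    dsimp only [φ]
    rw [Spec.map_comp, ← Category.assoc, h, Category.assoc, ← Spec.map_comp, Iso.inv_hom_id,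
      Spec.map_id, Category.comp_id]
  refine ⟨Γ(T, ⊤), φ, j ≫ T.isoSpec.hom, ?_, inferInstance, ?_⟩
  · have h1 : IsFinite (T.isoSpec.inv ≫ π) := inferInstance
    rw [← h2, Iso.inv_hom_id_assoc] at h1
    exact (IsFinite.SpecMap_iff φ).mp h1
  · rw [Category.assoc, h2, hjπ]

/-- `(A, I)` henselian pair, `X` open in `Spec B` with `B` finite over `A`, such that
`X ∩ V(IB)` is closed in `Spec B`. Then `X` has an open and closed part, finite over `A`, containing
all points over `V(I)`. -/
theorem exists_clopen_finite {A B : CommRingCat.{u}} (I : Ideal A) [HenselianRing A I] (φ : A ⟶ B)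
    (hφ : φ.hom.Finite) {X : Scheme.{u}} (j : X ⟶ Spec B) [IsOpenImmersion j]
    (hcl : IsClosed ((Set.range j : Set (PrimeSpectrum B)) ∩
      PrimeSpectrum.zeroLocus (I.map φ.hom : Set B))) :
    ∃ W : X.Opens, IsClosed (W : Set X) ∧ IsFinite (W.ι ≫ j ≫ Spec.map φ) ∧
      ∀ x : X, I ≤ ((j ≫ Spec.map φ) x).asIdeal → x ∈ W := by
  algebraize [φ.hom]
  have hint : Algebra.IsIntegral A B := Algebra.IsIntegral.of_finite A B
  obtain ⟨e, he, heU, hUe⟩ := exists_idempotent_basicOpen I (Set.range j : Set (PrimeSpectrum B))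
    j.isOpenEmbedding.isOpen_range hcl
  let D : (Spec B).Opens := PrimeSpectrum.basicOpen e
  have hDcl : IsClosed (D : Set (Spec B)) := (PrimeSpectrum.isClopen_iff.mpr ⟨e, he, rfl⟩).1
  refine ⟨j ⁻¹ᵁ D, hDcl.preimage j.continuous, ?_, ?_⟩
  · have hr : Set.range ((j ⁻¹ᵁ D).ι ≫ j) = (D : Set (Spec B)) := by
      rw [Scheme.Hom.comp_base, TopCat.coe_comp, Set.range_comp, Scheme.Opens.range_ι]
      show j '' (j ⁻¹' (D : Set (Spec B))) = D
      rw [Set.image_preimage_eq_inter_range]
      exact Set.inter_eq_left.mpr heU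
    have h1 : IsClosedImmersion ((j ⁻¹ᵁ D).ι ≫ j) := .of_isPreimmersion _ (hr ▸ hDcl)
    have h2 : IsFinite (Spec.map φ) := (IsFinite.SpecMap_iff φ).mpr hφ
    rw [← Category.assoc]
    infer_instance
  · intro x hx
    refine hUe ⟨⟨x, rfl⟩, ?_⟩
    rw [PrimeSpectrum.mem_zeroLocus, SetLike.coe_subset_coe, Ideal.map_le_iff_le_comap]
    rw [Scheme.Hom.comp_apply, Spec.map_apply] at hx
    exact hx

open PrimeSpectrum IsLocalRing in
/-- over a local ring, every set of primes of a finite algebra lying over the closed point is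
closed. -/
lemma isClosed_of_subset_zeroLocus_maximalIdeal {R B : Type u} [CommRing R] [IsLocalRing R]
    [CommRing B] [Algebra R B] [Module.Finite R B] (S : Set (PrimeSpectrum B))
    (hS : S ⊆ zeroLocus ((maximalIdeal R).map (algebraMap R B) : Set B)) : IsClosed S := by
  set Z := comap (algebraMap R B) ⁻¹' {closedPoint R} with hZdef
  have hZd : _root_.IsDiscrete Z := Algebra.QuasiFinite.isDiscrete_comap_preimage_singleton _
  have hZc : IsClosed Z :=
    (isClosed_singleton_closedPoint R).preimage (continuous_comap _)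
  have hSZ : S ⊆ Z := by
    intro p hp
    have h1 := hS hp
    rw [mem_zeroLocus, SetLike.coe_subset_coe, Ideal.map_le_iff_le_comap] at h1
    show comap (algebraMap R B) p = closedPoint R
    apply PrimeSpectrum.ext
    have hmax : (maximalIdeal R).IsMaximal := inferInstance
    exact (hmax.eq_of_le (comap (algebraMap R B) p).2.ne_top h1).symm
  have := hZd.to_subtype
  have h2 : IsClosed ((↑) ⁻¹' S : Set Z) := isClosed_discrete _
  have h3 := hZc.isClosedMap_subtype_val _ h2
  rwa [Subtype.image_preimage_coe, Set.inter_eq_right.mpr hSZ] at h3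

open IsLocalRing in
/-- **finite part over a henselian local ring**: a separated quasi-finite scheme over a henselian
local ring has an open and closed part which is finite and contains the closed fibre. -/
theorem exists_clopen_finite_of_henselianLocalRing (R : Type u) [CommRing R] [HenselianLocalRing R]
    {X : Scheme.{u}} (f : X ⟶ Spec (CommRingCat.of R))
    [LocallyQuasiFinite f] [LocallyOfFiniteType f] [QuasiCompact f] [IsSeparated f] :
    ∃ W : X.Opens, IsClosed (W : Set X) ∧ IsFinite (W.ι ≫ f) ∧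
      ∀ x : X, f x = closedPoint R → x ∈ W := by
  obtain ⟨B, φ, j, hφ, hj, hjφ⟩ := zmt_finite_affine f
  have hcl : IsClosed ((Set.range j : Set (PrimeSpectrum B)) ∩
      PrimeSpectrum.zeroLocus ((maximalIdeal R).map φ.hom : Set B)) := by
    algebraize [φ.hom]
    exact isClosed_of_subset_zeroLocus_maximalIdeal (R := R) (B := B) _ Set.inter_subset_right
  obtain ⟨W, hWc, hWf, hW⟩ := exists_clopen_finite (A := CommRingCat.of R) (maximalIdeal R) φ hφ j hcl
  rw [hjφ] at hWf hW
  refine ⟨W, hWc, hWf, fun x hx => hW x ?_⟩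
  have h1 : (f x).asIdeal = maximalIdeal R := by rw [hx]; rfl
  exact h1.ge

open IsLocalRing in
/-- an open part finite over a local base is contained in any open containing the closed fibre. -/
lemma le_of_isFinite_of_closedFibre (R : Type u) [CommRing R] [IsLocalRing R] {X : Scheme.{u}}
    (f : X ⟶ Spec (CommRingCat.of R)) (W W' : X.Opens) (hW : IsFinite (W.ι ≫ f))
    (hW' : ∀ x : X, f x = closedPoint R → x ∈ W') : W ≤ W' := by
  intro w hw
  by_contra hw'
  let C : Set W.toScheme := W.ι ⁻¹' ((W' : Set X)ᶜ)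
  have hC : IsClosed C := W'.isOpen.isClosed_compl.preimage W.ι.continuous
  have hCne : C.Nonempty := ⟨⟨w, hw⟩, hw'⟩
  have hcl : IsClosed ((W.ι ≫ f) '' C) := (W.ι ≫ f).isClosedMap C hC
  obtain ⟨c, hc⟩ := hCne
  have hsp : ((W.ι ≫ f) c : PrimeSpectrum R) ⤳ closedPoint R :=
    IsLocalRing.specializes_closedPoint _
  have hmem : closedPoint R ∈ ((W.ι ≫ f) '' C : Set (PrimeSpectrum R)) :=
    hsp.mem_closed hcl ⟨c, hc, rfl⟩
  obtain ⟨c', hc', hc'eq⟩ := hmem
  apply hc'
  apply hW'
  rw [← hc'eq, Scheme.Hom.comp_apply]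

/-- étale morphisms are locally quasi-finite (same proof as helper46's `AlgSpBasic`). -/
theorem locallyQuasiFinite_of_etale {X Y : Scheme.{u}} (f : X ⟶ Y) [Etale f] :
    LocallyQuasiFinite f where
  quasiFinite_appLE {U} hU {V} hV e := by
    have h := f.etale_appLE hU hV e
    algebraize [(f.appLE U V e).hom]
    rw [RingHom.QuasiFinite]
    infer_instance

/-- if the base change of `g` to `Spec (A/I)` is finite and `g` factors through an open immersion
into `Spec B` with `B` finite over `A`, then the part of `X` over `V(I)` is closed in `Spec B`. -/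
lemma isClosed_of_isFinite_pullback (A : Type u) [CommRing A] (I : Ideal A) {B : CommRingCat.{u}}
    (φ : CommRingCat.of A ⟶ B) {X : Scheme.{u}} (j : X ⟶ Spec B)
    (g : X ⟶ Spec (CommRingCat.of A)) (hjφ : j ≫ Spec.map φ = g)
    (hfin : IsFinite (pullback.snd g (Spec.map (CommRingCat.ofHom (Ideal.Quotient.mk I))))) :
    IsClosed ((Set.range j : Set (PrimeSpectrum B)) ∩
      PrimeSpectrum.zeroLocus (I.map φ.hom : Set B)) := by
  set q := Spec.map (CommRingCat.ofHom (Ideal.Quotient.mk I)) with hq
  have hqc : IsClosedImmersion q :=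
    IsClosedImmersion.spec_of_surjective _ Ideal.Quotient.mk_surjective
  have hcomm : (pullback.fst g q ≫ j) ≫ Spec.map φ = pullback.snd g q ≫ q := by
    rw [Category.assoc, hjφ, pullback.condition]
  have h1 : IsProper ((pullback.fst g q ≫ j) ≫ Spec.map φ) := by
    rw [hcomm]; infer_instance
  have h2 : IsProper (pullback.fst g q ≫ j) := IsProper.of_comp _ (Spec.map φ)
  have hrange : Set.range (pullback.fst g q ≫ j) =
      ((Set.range j : Set (PrimeSpectrum B)) ∩
        PrimeSpectrum.zeroLocus (I.map φ.hom : Set B)) := by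
    have hrq : Set.range q = PrimeSpectrum.zeroLocus (I : Set A) := by
      have := _root_.range_comap_of_surjective _ (Ideal.Quotient.mk I)
        Ideal.Quotient.mk_surjective
      rw [Ideal.mk_ker] at this
      exact this
    rw [Scheme.Hom.comp_base, TopCat.coe_comp, Set.range_comp, Scheme.Pullback.range_fst, hrq]
    ext p
    constructor
    · rintro ⟨x, hx, rfl⟩
      refine ⟨⟨x, rfl⟩, ?_⟩
      rw [PrimeSpectrum.mem_zeroLocus, SetLike.coe_subset_coe, Ideal.map_le_iff_le_comap]
      have hx' : I ≤ (g x).asIdeal := hx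
      rw [← hjφ, Scheme.Hom.comp_apply, Spec.map_apply] at hx'
      exact hx'
    · rintro ⟨⟨x, rfl⟩, hp⟩
      refine ⟨x, ?_, rfl⟩
      rw [PrimeSpectrum.mem_zeroLocus, SetLike.coe_subset_coe, Ideal.map_le_iff_le_comap] at hp
      show I ≤ (g x).asIdeal
      rw [← hjφ, Scheme.Hom.comp_apply, Spec.map_apply]
      exact hp
  rw [← hrange]
  exact (pullback.fst g q ≫ j).isClosedMap.isClosed_range

/-- **finite part over a henselian pair**: `g : X → Spec A` separated, quasi-finite, whose base
change to `A/I` is finite, `(A, I)` henselian: there is an open and closed part of `X` finite over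
`A` containing everything over `V(I)`. -/
theorem exists_clopen_finite_of_henselianRing (A : Type u) [CommRing A] (I : Ideal A)
    [HenselianRing A I] {X : Scheme.{u}} (g : X ⟶ Spec (CommRingCat.of A))
    [LocallyQuasiFinite g] [LocallyOfFiniteType g] [QuasiCompact g] [IsSeparated g]
    (hfin : IsFinite (pullback.snd g (Spec.map (CommRingCat.ofHom (Ideal.Quotient.mk I))))) :
    ∃ W : X.Opens, IsClosed (W : Set X) ∧ IsFinite (W.ι ≫ g) ∧
      ∀ x : X, I ≤ (g x).asIdeal → x ∈ W := by
  obtain ⟨B, φ, j, hφ, hj, hjφ⟩ := zmt_finite_affine g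
  have hcl := isClosed_of_isFinite_pullback A I φ j g hjφ hfin
  obtain ⟨W, hWc, hWf, hW⟩ := exists_clopen_finite (A := CommRingCat.of A) I φ hφ j hcl
  rw [hjφ] at hWf hW
  exact ⟨W, hWc, hWf, hW⟩

/-- a local ring complete with respect to its maximal ideal is a henselian local ring. -/
theorem henselianLocalRing_of_isAdicComplete (A : Type u) [CommRing A] [IsLocalRing A]
    [IsAdicComplete (IsLocalRing.maximalIdeal A) A] : HenselianLocalRing A := by
  have h : HenselianRing A (IsLocalRing.maximalIdeal A) := inferInstance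
  refine ⟨fun f hf a₀ h₁ h₂ => ?_⟩
  exact h.is_henselian f hf a₀ h₁ (h₂.map _)

end Groth.Agent.Lib.HenselFin
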