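import Mathlib
import Groth.Agent.Lib.EtLocPI3
import Groth.Agent.Lib.HenselFin
import Groth.Prelude.Def_BigSite

/-!
# Condition (A) for separated locally quasi-finite morphisms (helper34)

* `finrank_eq_one_of_unique`: a finite étale morphism has rank one at the image of a point alone in
  its fibre with trivial residue field extension.
* `exists_clopen_iso`: a finite étale morphism is an isomorphism over the clopen rank-one locus.
* `isIso_residueFieldMap_of_etale_of_isPurelyInseparable`.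
* `core`: from a clopen finite piece `B ⊆ U₀ ×_Y V` with a single purely inseparable point over
  `v`, produce a clopen `W ⊆ X ×_Y V` and an `X`-morphism `W ⟶ U₀`.
* `propA`: `BigSite.PropA f` for `f` separated, locally quasi-finite (statement S6627).
-/

set_option autoImplicit false
universe u
open CategoryTheory CategoryTheory.Limits AlgebraicGeometry

namespace Groth.Agent.Lib.PropA34

/-- a finite étale morphism has rank one at the image of a point `b` which is alone in its fibre
and has trivial residue field extension -/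
theorem finrank_eq_one_of_unique {B P : Scheme.{u}} (ψ : B ⟶ P) [IsFinite ψ] [Etale ψ] (b : B)
    (huniq : ∀ w : B, ψ w = ψ b → w = b) (hiso : IsIso (ψ.residueFieldMap b)) :
    ψ.finrank (ψ b) = 1 := by
  obtain ⟨pt⟩ : Nonempty (Spec (P.residueField (ψ b))) := inferInstance
  have hpt : P.fromSpecResidueField (ψ b) pt = ψ b := Scheme.fromSpecResidueField_apply _ _
  rw [← hpt, ← Scheme.Hom.finrank_pullback_fst ψ (P.fromSpecResidueField (ψ b)) pt]
  let τ : Spec (P.residueField (ψ b)) ⟶ B :=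
    Spec.map (inv (ψ.residueFieldMap b)) ≫ B.fromSpecResidueField b
  have hτ : τ ≫ ψ = P.fromSpecResidueField (ψ b) := by
    dsimp only [τ]
    rw [Category.assoc, ← Scheme.Hom.SpecMap_residueFieldMap_fromSpecResidueField,
      ← Spec.map_comp_assoc, IsIso.hom_inv_id, Spec.map_id, Category.id_comp]
  let σ : Spec (P.residueField (ψ b)) ⟶ pullback (P.fromSpecResidueField (ψ b)) ψ :=
    pullback.lift (𝟙 _) τ (by rw [Category.id_comp, hτ])
  have hσ : σ ≫ pullback.fst (P.fromSpecResidueField (ψ b)) ψ = 𝟙 _ := pullback.lift_fst _ _ _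
  have hsub : ∀ w w' : ↑(pullback (P.fromSpecResidueField (ψ b)) ψ), w = w' := by
    intro w w'
    have h2 : ∀ w'' : ↑(pullback (P.fromSpecResidueField (ψ b)) ψ),
        pullback.snd (P.fromSpecResidueField (ψ b)) ψ w'' = b := fun w'' => huniq _ (by
      have hc := congr($(pullback.condition (f := P.fromSpecResidueField (ψ b)) (g := ψ)) w'')
      simp only [Scheme.Hom.comp_apply] at hc
      rw [← hc, Scheme.fromSpecResidueField_apply])
    apply Groth.Agent.Lib.EtLocQF.eq_of_fst_eq_of_snd_eq (P.fromSpecResidueField (ψ b)) ψ w w'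
      (Subsingleton.elim _ _) ((h2 w).trans (h2 w').symm)
    rw [h2 w']; exact hiso
  have h1 : Etale (σ ≫ pullback.fst (P.fromSpecResidueField (ψ b)) ψ) := by rw [hσ]; infer_instance
  have h2 : Etale σ := Etale.of_comp σ (pullback.fst (P.fromSpecResidueField (ψ b)) ψ)
  have h3 : Mono σ := mono_of_mono_fac hσ
  have h4 : IsOpenImmersion σ := IsOpenImmersion.of_flat_of_mono σ
  have h5 : Surjective σ := ⟨fun w => ⟨pt, hsub _ _⟩⟩
  have h6 : IsIso σ := (isIso_iff_isOpenImmersion_and_surjective σ).mpr ⟨h4, h5⟩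
  have h7 : IsIso (pullback.fst (P.fromSpecResidueField (ψ b)) ψ) := by
    have : pullback.fst (P.fromSpecResidueField (ψ b)) ψ = inv σ := by
      rw [← cancel_epi σ, hσ, IsIso.hom_inv_id]
    rw [this]; infer_instance
  rw [Scheme.Hom.finrank_eq_one_of_isIso]; rfl

lemma bijective_of_comp_isPurelyInseparable {F E K : Type*} [Field F] [Field E] [Field K]
    (f : F →+* E) (g : E →+* K) (h : (g.comp f).IsPurelyInseparable)
    (hs : letI := g.toAlgebra; Algebra.IsSeparable E K) : Function.Bijective g := by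
  algebraize [f, g, g.comp f]
  have : IsPurelyInseparable E K := IsPurelyInseparable.tower_top F E K
  exact IsPurelyInseparable.bijective_algebraMap_of_isSeparable E K

set_option backward.isDefEq.respectTransparency false in
/-- if `φ ≫ q` has purely inseparable residue field extension at `b` and `φ` is étale, the
residue field extension of `φ` at `b` is trivial -/
theorem isIso_residueFieldMap_of_etale_of_isPurelyInseparable {A P V : Scheme.{u}} (φ : A ⟶ P)
    [Etale φ] (q : P ⟶ V) (r : A ⟶ V) (hr : φ ≫ q = r) (b : A)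
    (hpi : (r.residueFieldMap b).hom.IsPurelyInseparable) : IsIso (φ.residueFieldMap b) := by
  subst hr
  have hpi' : ((φ.residueFieldMap b).hom.comp (q.residueFieldMap (φ b)).hom).IsPurelyInseparable := by
    have := Scheme.residueFieldMap_comp φ q b
    rw [this] at hpi
    exact hpi
  have hsep : letI := (φ.residueFieldMap b).hom.toAlgebra
      Algebra.IsSeparable (P.residueField (φ b)) (A.residueField b) := inferInstance
  have := bijective_of_comp_isPurelyInseparable _ _ hpi' hsep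
  exact (ConcreteCategory.isIso_iff_bijective _).mpr this

/-- a finite étale morphism is an isomorphism over the clopen locus where its rank is one -/
theorem exists_clopen_iso {B P : Scheme.{u}} (ψ : B ⟶ P) [IsFinite ψ] [Etale ψ] :
    ∃ W : P.Opens, IsClosed (W : Set P) ∧ IsIso (ψ ∣_ W) ∧ ∀ p : P, p ∈ W ↔ ψ.finrank p = 1 := by
  have hlc := Scheme.Hom.isLocallyConstant_finrank ψ
  let W : P.Opens := ⟨ψ.finrank ⁻¹' {1}, hlc.isOpen_fiber 1⟩
  refine ⟨W, hlc.isClosed_fiber 1, ?_, fun p => Iff.rfl⟩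
  have hpb := isPullback_morphismRestrict ψ W
  have i1 : IsFinite (ψ ∣_ W) := MorphismProperty.of_isPullback hpb.flip inferInstance
  have i2 : Etale (ψ ∣_ W) := MorphismProperty.of_isPullback hpb.flip inferInstance
  rw [Scheme.Hom.isIso_iff_finrank_eq]
  ext w
  rw [Scheme.Hom.finrank_of_isPullback (ψ ⁻¹ᵁ W).ι (ψ ∣_ W) ψ W.ι hpb.flip w]
  exact w.2

theorem core {X Y U₀ V : Scheme.{u}} (f : X ⟶ Y) [IsSeparated f] (g₀ : U₀ ⟶ X) [Etale g₀]
    (k : U₀ ⟶ Y) (hk : k = g₀ ≫ f) (e : V ⟶ Y) (B : (pullback k e).Opens)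
    (hfin : IsFinite (B.ι ≫ pullback.snd k e)) (b : ↑(pullback k e)) (hb : b ∈ B)
    (huniq : ∀ w, w ∈ B → pullback.snd k e w = pullback.snd k e b → w = b)
    (hpi : ((pullback.snd k e).residueFieldMap b).hom.IsPurelyInseparable) :
    ∃ (W : (pullback f e).Opens) (_ : IsClosed (W : Set ↑(pullback f e)))
      (h : (W : Scheme.{u}) ⟶ U₀),
      h ≫ g₀ = W.ι ≫ pullback.fst f e ∧ pullback.fst k e b ∈ Set.range h := by
  let φ : pullback k e ⟶ pullback f e :=
    pullback.map k e f e g₀ (𝟙 V) (𝟙 Y) ((Category.comp_id _).trans hk)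
      ((Category.comp_id _).trans (Category.id_comp e).symm)
  have hφet : Etale φ :=
    MorphismProperty.pullbackMap (P := @Etale) (inferInstance : Etale g₀)
      (inferInstance : Etale (𝟙 V)) hk (Category.id_comp e).symm
  have hφ1 : φ ≫ pullback.fst f e = pullback.fst k e ≫ g₀ := pullback.lift_fst _ _ _
  have hφ2 : φ ≫ pullback.snd f e = pullback.snd k e :=
    (pullback.lift_snd _ _ _).trans (Category.comp_id _)
  let ψ : (B : Scheme.{u}) ⟶ pullback f e := B.ι ≫ φ
  have hψet : Etale ψ := inferInstance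
  have hψ2 : ψ ≫ pullback.snd f e = B.ι ≫ pullback.snd k e := by
    dsimp only [ψ]; rw [Category.assoc, hφ2]
  have hψfin : IsFinite ψ := by
    have : IsFinite (ψ ≫ pullback.snd f e) := by rw [hψ2]; exact hfin
    exact IsFinite.of_comp ψ (pullback.snd f e)
  obtain ⟨W, hWc, hWiso, hW⟩ := exists_clopen_iso ψ
  let b' : (B : Scheme.{u}) := ⟨b, hb⟩
  have hb' : B.ι b' = b := rfl
  -- uniqueness in the fibre of ψ
  have hu : ∀ w : (B : Scheme.{u}), ψ w = ψ b' → w = b' := by
    intro w hw
    have h1 : pullback.snd k e (B.ι w) = pullback.snd k e (B.ι b') := by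
      have e1 := congr($hψ2 w)
      have e2 := congr($hψ2 b')
      simp only [Scheme.Hom.comp_apply] at e1 e2
      rw [← e1, ← e2, hw]
    have h2 := huniq (B.ι w) w.2 h1
    exact Subtype.ext h2
  -- residue field at b'
  have hres : IsIso (ψ.residueFieldMap b') := by
    have h1 : IsIso (φ.residueFieldMap (B.ι b')) :=
      isIso_residueFieldMap_of_etale_of_isPurelyInseparable φ (pullback.snd f e)
        (pullback.snd k e) hφ2 b hpi
    have h0 : IsIso (B.ι.residueFieldMap b') := inferInstance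
    rw [show ψ = B.ι ≫ φ from rfl, Scheme.residueFieldMap_comp]
    exact @IsIso.comp_isIso _ _ _ _ _ _ _ h1 h0
  have hab : ψ b' ∈ W := (hW _).mpr (finrank_eq_one_of_unique ψ b' hu hres)
  refine ⟨W, hWc, inv (ψ ∣_ W) ≫ (ψ ⁻¹ᵁ W).ι ≫ B.ι ≫ pullback.fst k e, ?_, ?_⟩
  · simp only [Category.assoc]
    rw [IsIso.inv_comp_eq, ← hφ1, morphismRestrict_ι_assoc]
    simp only [ψ, Category.assoc]
  · refine ⟨⟨ψ b', hab⟩, ?_⟩
    have h1 : (ψ ∣_ W) ⟨b', hab⟩ = ⟨ψ b', hab⟩ := by
      apply Subtype.ext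
      rw [morphismRestrict_base_coe]
    have h2 : inv (ψ ∣_ W) ⟨ψ b', hab⟩ = ⟨b', hab⟩ := by
      rw [← h1, ← Scheme.Hom.comp_apply, IsIso.hom_inv_id]; rfl
    simp only [Scheme.Hom.comp_apply]
    rw [h2]; rfl

theorem propA {X Y : Scheme.{u}} (f : X ⟶ Y) [IsSeparated f]
    [LocallyQuasiFinite f] [LocallyOfFiniteType f] : BigSite.PropA f := by
  intro U g _ u
  obtain ⟨U₀, hU₀, hu⟩ : ∃ U₀ : U.Opens, IsAffineOpen U₀ ∧ u ∈ U₀ := by
    obtain ⟨_, ⟨U₀, hU₀, rfl⟩, hu, -⟩ :=
      U.isBasis_affineOpens.exists_subset_of_mem_open (Set.mem_univ u) isOpen_univ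
    exact ⟨U₀, hU₀, hu⟩
  have : IsAffine (U₀ : Scheme.{u}) := hU₀
  let u₀ : (U₀ : Scheme.{u}) := ⟨u, hu⟩
  let g₀ : (U₀ : Scheme.{u}) ⟶ X := U₀.ι ≫ g
  let k : (U₀ : Scheme.{u}) ⟶ Y := g₀ ≫ f
  have hsep : IsSeparated k := by
    have : IsSeparated (k ≫ terminal.from Y) := by
      rw [show k ≫ terminal.from Y = terminal.from _ from terminal.hom_ext _ _]
      infer_instance
    exact IsSeparated.of_comp k (terminal.from Y)
  have hg₀qf : LocallyQuasiFinite g₀ := Groth.Agent.Lib.HenselFin.locallyQuasiFinite_of_etale g₀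
  have hkqf : LocallyQuasiFinite k := inferInstance
  have hklft : LocallyOfFiniteType k := inferInstance
  obtain ⟨V, e, v₀, he, hev, n, B, b, H, -, hcov⟩ :=
    Groth.Agent.Lib.EtLocQF.exists_etaleNbhd_purelyInseparable_clopen k (k u₀)
      (fun _ : Unit => u₀) (fun _ => rfl) (fun _ => k.quasiFiniteAt u₀)
  obtain ⟨w, hw1, hw2⟩ := Scheme.Pullback.exists_preimage_pullback (f := k) (g := e) u₀ v₀ hev.symm
  obtain ⟨m, hm⟩ := hcov w hw2 ⟨(), hw1⟩
  obtain ⟨hclopen, hbB, hfin, hbu, huniq, hpi, -, -⟩ := H m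
  obtain ⟨W, hWc, h, hh, hr⟩ := core f g₀ k rfl e (B m) hfin (b m) hbB
    (fun w hw hw' => huniq w hw (hw'.trans hbu)) hpi
  refine ⟨V, e, he, W, hWc, h ≫ U₀.ι, ?_, ?_⟩
  · rw [Category.assoc, ← hh]
  · obtain ⟨z, hz⟩ := hr
    refine ⟨z, ?_⟩
    rw [Scheme.Hom.comp_apply, hz, ← hm, hw1]
    rfl

end Groth.Agent.Lib.PropA34
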