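import Mathlib
import Groth.Agent.Lib.PropA34

/-!
# Condition (A) for integral morphisms (helper34)

* `AtPt f g u`: pointwise form of `BigSite.PropA`.
* `atPt_of_isPullback`: condition (A) may be checked on any pullback square.
* `atPt_of_descent`: descent of condition (A) along `X ⟶ Xl` when `U = Ul ×_{Xl} X`.
* `atPt_of_open`, `atPt_of_restrict`: shrinking `U`; locality on the target.
* `exists_finite_descent`: an étale algebra over an integral `A`-algebra `B` is the base change of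
  an étale algebra over a finite `A`-subalgebra of `B`.
* `propA_integral`: `BigSite.PropA f` for integral `f` (statement S6628).
-/

set_option autoImplicit false
universe u
open CategoryTheory CategoryTheory.Limits AlgebraicGeometry TensorProduct

namespace Groth.Agent.Lib.PropA34

/-- pointwise condition (A) -/
def AtPt {X Y U : Scheme.{u}} (f : X ⟶ Y) (g : U ⟶ X) (u : U) : Prop :=
  ∃ (V : Scheme.{u}) (v : V ⟶ Y) (_ : Etale v) (W : (pullback f v).Opens)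
    (_ : IsClosed (W : Set ↥(pullback f v))) (h : (W : Scheme.{u}) ⟶ U),
    h ≫ g = W.ι ≫ pullback.fst f v ∧ u ∈ Set.range h.base

theorem propA_iff {X Y : Scheme.{u}} (f : X ⟶ Y) :
    BigSite.PropA f ↔ ∀ (U : Scheme.{u}) (g : U ⟶ X) [Etale g] (u : U), AtPt f g u := Iff.rfl

lemma exists_preimage_of_isPullback {P X Y Z : Scheme.{u}} {fst : P ⟶ X} {snd : P ⟶ Y}
    {f : X ⟶ Z} {g : Y ⟶ Z} (h : IsPullback fst snd f g) (x : X) (y : Y) (hxy : f x = g y) :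
    ∃ p : P, fst p = x ∧ snd p = y := by
  obtain ⟨z, hz1, hz2⟩ := Scheme.Pullback.exists_preimage_pullback (f := f) (g := g) x y hxy
  refine ⟨h.isoPullback.inv z, ?_, ?_⟩
  · rw [← Scheme.Hom.comp_apply, h.isoPullback_inv_fst, hz1]
  · rw [← Scheme.Hom.comp_apply, h.isoPullback_inv_snd, hz2]

/-- condition (A) at a point may be checked on any pullback square -/
theorem atPt_of_isPullback {X Y U : Scheme.{u}} (f : X ⟶ Y) (g : U ⟶ X) (u : U)
    {V P : Scheme.{u}} (v : V ⟶ Y) [Etale v] (p₁ : P ⟶ X) (p₂ : P ⟶ V)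
    (hP : IsPullback p₁ p₂ f v) (W : P.Opens) (hW : IsClosed (W : Set P))
    (h : (W : Scheme.{u}) ⟶ U) (hh : h ≫ g = W.ι ≫ p₁) (hu : u ∈ Set.range h.base) :
    AtPt f g u := by
  let θ := hP.isoPullback
  have hθ : θ.inv ≫ p₁ = pullback.fst f v := hP.isoPullback_inv_fst
  refine ⟨V, v, inferInstance, θ.inv ⁻¹ᵁ W, hW.preimage θ.inv.continuous, (θ.inv ∣_ W) ≫ h, ?_, ?_⟩
  · rw [Category.assoc, hh, morphismRestrict_ι_assoc, hθ]
  · obtain ⟨w, hw⟩ := hu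
    obtain ⟨w', hw'⟩ := (θ.inv ∣_ W).surjective w
    exact ⟨w', by rw [← hw, ← hw']; rfl⟩

/-- descent of condition (A): if `U = Ul ×_{Xl} X` and `f` factors through `fl : Xl ⟶ Y`, then
condition (A) for `fl` at `s u` gives condition (A) for `f` at `u` -/
theorem atPt_of_descent {X Y U Xl Ul : Scheme.{u}} (f : X ⟶ Y) (g : U ⟶ X) (u : U)
    (fl : Xl ⟶ Y) (r : X ⟶ Xl) (hr : r ≫ fl = f) (gl : Ul ⟶ Xl) (s : U ⟶ Ul)
    (hU : IsPullback s g gl r) (H : AtPt fl gl (s u)) : AtPt f g u := by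
  obtain ⟨V, v, hv, Wl, hWl, hl, hhl, wl, hwl⟩ := H
  let ρ : pullback f v ⟶ pullback fl v :=
    pullback.map f v fl v r (𝟙 V) (𝟙 Y) (by rw [Category.comp_id, hr]) (by simp)
  have hρ1 : ρ ≫ pullback.fst fl v = pullback.fst f v ≫ r := pullback.lift_fst _ _ _
  have hρ2 : ρ ≫ pullback.snd fl v = pullback.snd f v :=
    (pullback.lift_snd _ _ _).trans (Category.comp_id _)
  have hsq : IsPullback ρ (pullback.fst f v) (pullback.fst fl v) r := by
    refine IsPullback.of_right (h₁₂ := pullback.snd fl v) (v₁₃ := v) (h₂₂ := fl) ?_ hρ1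
      (IsPullback.of_hasPullback fl v).flip
    rw [hρ2, hr]
    exact (IsPullback.of_hasPullback f v).flip
  let W : (pullback f v).Opens := ρ ⁻¹ᵁ Wl
  have hcompat : ((ρ ∣_ Wl) ≫ hl) ≫ gl = (W.ι ≫ pullback.fst f v) ≫ r := by
    rw [Category.assoc, hhl, morphismRestrict_ι_assoc, hρ1, Category.assoc]
  let h : (W : Scheme.{u}) ⟶ U := hU.lift ((ρ ∣_ Wl) ≫ hl) (W.ι ≫ pullback.fst f v) hcompat
  have hh1 : h ≫ s = (ρ ∣_ Wl) ≫ hl := hU.lift_fst _ _ _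
  have hh2 : h ≫ g = W.ι ≫ pullback.fst f v := hU.lift_snd _ _ _
  refine ⟨V, v, hv, W, hWl.preimage ρ.continuous, h, hh2, ?_⟩
  have hbig : IsPullback (ρ ∣_ Wl) (h ≫ g) (hl ≫ gl) r := by
    rw [hh2, hhl]
    exact (isPullback_morphismRestrict ρ Wl).paste_vert hsq
  have htop : IsPullback (ρ ∣_ Wl) h hl s := IsPullback.of_bot hbig hh1.symm hU
  obtain ⟨w, -, hw⟩ := exists_preimage_of_isPullback htop wl u hwl
  exact ⟨w, hw⟩

/-- condition (A) at `u` follows from condition (A) for an open neighbourhood of `u` -/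
theorem atPt_of_open {X Y U : Scheme.{u}} (f : X ⟶ Y) (g : U ⟶ X) (U₁ : U.Opens)
    (u₁ : (U₁ : Scheme.{u})) (H : AtPt f (U₁.ι ≫ g) u₁) : AtPt f g (U₁.ι u₁) := by
  obtain ⟨V, v, hv, W, hW, h, hh, w, hw⟩ := H
  refine ⟨V, v, hv, W, hW, h ≫ U₁.ι, by rw [Category.assoc, hh], w, ?_⟩
  rw [← hw]; rfl

/-- condition (A) is local on the target -/
theorem atPt_of_restrict {X Y U : Scheme.{u}} (f : X ⟶ Y) (g : U ⟶ X) [Etale g] (u : U)
    (Y₀ : Y.Opens) (hy : f (g u) ∈ Y₀)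
    (H : ∀ {U' : Scheme.{u}} (g' : U' ⟶ (f ⁻¹ᵁ Y₀ : Scheme.{u})) [Etale g'] (u' : U'),
      AtPt (f ∣_ Y₀) g' u') : AtPt f g u := by
  let u' : (g ⁻¹ᵁ (f ⁻¹ᵁ Y₀) : Scheme.{u}) := ⟨u, hy⟩
  have : Etale (g ∣_ (f ⁻¹ᵁ Y₀)) :=
    MorphismProperty.of_isPullback (isPullback_morphismRestrict g (f ⁻¹ᵁ Y₀)).flip inferInstance
  obtain ⟨V, v, hv, W, hW, h, hh, w, hw⟩ := H (g ∣_ (f ⁻¹ᵁ Y₀)) u'
  have hP : IsPullback (pullback.fst (f ∣_ Y₀) v ≫ (f ⁻¹ᵁ Y₀).ι) (pullback.snd (f ∣_ Y₀) v) f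
      (v ≫ Y₀.ι) :=
    (IsPullback.of_hasPullback (f ∣_ Y₀) v).paste_horiz (isPullback_morphismRestrict f Y₀).flip
  refine atPt_of_isPullback f g u (v ≫ Y₀.ι) _ _ hP W hW (h ≫ (g ⁻¹ᵁ (f ⁻¹ᵁ Y₀)).ι) ?_ ⟨w, ?_⟩
  · rw [Category.assoc, ← morphismRestrict_ι, reassoc_of% hh]
  · change (g ⁻¹ᵁ (f ⁻¹ᵁ Y₀)).ι (h w) = u
    rw [show h w = u' from hw]; rfl

/-- ring-level input: an étale algebra over an integral algebra descends to a finite subalgebra -/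
theorem exists_finite_descent (A B C : Type u) [CommRing A] [CommRing B] [CommRing C]
    [Algebra A B] [Algebra B C] [Algebra.IsIntegral A B] [Algebra.Etale B C] :
    ∃ (B₀ : Subalgebra A B) (C₀ : Type u) (_ : CommRing C₀) (_ : Algebra B₀ C₀),
      Module.Finite A B₀ ∧ Algebra.Etale B₀ C₀ ∧ Nonempty (C ≃ₐ[B] B ⊗[B₀] C₀) := by
  obtain ⟨B₀, C₀, _, _, hfg, hE, he⟩ := Algebra.Etale.exists_subalgebra_fg A B C
  refine ⟨B₀, C₀, inferInstance, inferInstance, ?_, hE, he⟩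
  have : Algebra.FiniteType A B₀ := (Subalgebra.fg_iff_finiteType B₀).mp hfg
  have : Algebra.IsIntegral A B₀ := Algebra.IsIntegral.of_injective B₀.val Subtype.val_injective
  exact Algebra.IsIntegral.finite

/-- a pushout square of rings gives a pullback square of affine schemes -/
theorem isPullback_of_isPushout_appTop {X U₁ : Scheme.{u}} [IsAffine X] [IsAffine U₁]
    (g₁ : U₁ ⟶ X) {B₀ C₀ : CommRingCat.{u}} (β : B₀ ⟶ Γ(X, ⊤)) (γ₀ : B₀ ⟶ C₀)
    (σ : C₀ ⟶ Γ(U₁, ⊤)) (hpo : IsPushout β γ₀ g₁.appTop σ) :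
    IsPullback (U₁.isoSpec.hom ≫ Spec.map σ) g₁ (Spec.map γ₀) (X.isoSpec.hom ≫ Spec.map β) := by
  have h₀ := (isPullback_SpecMap_of_isPushout β γ₀ g₁.appTop σ hpo).flip
  refine h₀.of_iso U₁.isoSpec.symm (Iso.refl _) X.isoSpec.symm (Iso.refl _) ?_ ?_ ?_ ?_
  · simp
  · simp [Scheme.isoSpec_inv_naturality]
  · simp
  · simp

theorem atPt_integral_of_isAffine_aux {X Y U₁ : Scheme.{u}} [IsAffine Y] [IsAffine X] [IsAffine U₁]
    (f : X ⟶ Y) [IsIntegralHom f] (g₁ : U₁ ⟶ X) [Etale g₁] (u₁ : U₁) : AtPt f g₁ u₁ := by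
  have hφint : (f.appTop).hom.IsIntegral := by
    have := f.isIntegral_app ⊤ (isAffineOpen_top Y)
    exact this
  have hγet : (g₁.appTop).hom.Etale := (HasRingHomProperty.iff_of_isAffine (P := @Etale)).mp ‹_›
  algebraize [(f.appTop).hom, (g₁.appTop).hom]
  have hint : Algebra.IsIntegral Γ(Y, ⊤) Γ(X, ⊤) := ⟨fun x => hφint x⟩
  obtain ⟨B₀, C₀, _, _, hfin, hE, ⟨e⟩⟩ := exists_finite_descent Γ(Y, ⊤) Γ(X, ⊤) Γ(U₁, ⊤)
  let β : CommRingCat.of B₀ ⟶ Γ(X, ⊤) := CommRingCat.ofHom (algebraMap B₀ Γ(X, ⊤))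
  let γ₀ : CommRingCat.of B₀ ⟶ CommRingCat.of C₀ := CommRingCat.ofHom (algebraMap B₀ C₀)
  let σ : CommRingCat.of C₀ ⟶ Γ(U₁, ⊤) := CommRingCat.ofHom
    ((e.symm : (Γ(X, ⊤) ⊗[B₀] C₀) →+* Γ(U₁, ⊤)).comp
      (Algebra.TensorProduct.includeRight : C₀ →ₐ[B₀] Γ(X, ⊤) ⊗[B₀] C₀).toRingHom)
  let α : Γ(Y, ⊤) ⟶ CommRingCat.of B₀ := CommRingCat.ofHom (algebraMap Γ(Y, ⊤) B₀)
  have hpo : IsPushout β γ₀ g₁.appTop σ := by
    refine (CommRingCat.isPushout_tensorProduct B₀ Γ(X, ⊤) C₀).of_iso (Iso.refl _) (Iso.refl _)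
      (Iso.refl _) e.symm.toRingEquiv.toCommRingCatIso ?_ ?_ ?_ ?_
    · rfl
    · rfl
    · ext b
      simp only [Iso.refl_hom, Category.id_comp]
      change e.symm (b ⊗ₜ 1) = algebraMap Γ(X, ⊤) Γ(U₁, ⊤) b
      rw [← e.symm.commutes b]
      rfl
    · ext c
      rfl
  have hU := isPullback_of_isPushout_appTop g₁ β γ₀ σ hpo
  have hαβ : α ≫ β = f.appTop := by
    ext a
    rfl
  let fl : Spec (CommRingCat.of B₀) ⟶ Y := Spec.map α ≫ Y.isoSpec.inv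
  have hr : (X.isoSpec.hom ≫ Spec.map β) ≫ fl = f := by
    dsimp only [fl]
    rw [Category.assoc, ← Spec.map_comp_assoc, hαβ, ← Category.assoc, Scheme.isoSpec_hom_naturality,
      Category.assoc, Iso.hom_inv_id, Category.comp_id]
  have hflfin : IsFinite fl := by
    have : IsFinite (Spec.map α) := by
      rw [IsFinite.SpecMap_iff]
      change (algebraMap Γ(Y, ⊤) B₀).Finite
      exact RingHom.finite_algebraMap.mpr hfin
    infer_instance
  have hglet : Etale (Spec.map γ₀) := by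
    rw [HasRingHomProperty.Spec_iff (P := @Etale)]
    exact RingHom.etale_algebraMap.mpr hE
  refine atPt_of_descent f g₁ u₁ fl _ hr (Spec.map γ₀) _ hU ?_
  exact Groth.Agent.Lib.PropA34.propA fl _ (Spec.map γ₀) _


theorem atPt_integral_of_isAffine {X Y U : Scheme.{u}} [IsAffine Y] (f : X ⟶ Y) [IsIntegralHom f]
    (g : U ⟶ X) [Etale g] (u : U) : AtPt f g u := by
  have : IsAffine X := isAffine_of_isAffineHom f
  obtain ⟨U₁, hU₁, hu⟩ : ∃ U₁ : U.Opens, IsAffineOpen U₁ ∧ u ∈ U₁ := by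
    obtain ⟨_, ⟨U₁, hU₁, rfl⟩, hu, -⟩ :=
      U.isBasis_affineOpens.exists_subset_of_mem_open (Set.mem_univ u) isOpen_univ
    exact ⟨U₁, hU₁, hu⟩
  have : IsAffine (U₁ : Scheme.{u}) := hU₁
  exact atPt_of_open f g U₁ ⟨u, hu⟩ (atPt_integral_of_isAffine_aux f (U₁.ι ≫ g) ⟨u, hu⟩)

/-- **Condition (A) for integral morphisms** (statement S6628). -/
theorem propA_integral {X Y : Scheme.{u}} (f : X ⟶ Y) [IsIntegralHom f] : BigSite.PropA f := by
  intro U g _ u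
  obtain ⟨Y₀, hY₀, hy⟩ : ∃ Y₀ : Y.Opens, IsAffineOpen Y₀ ∧ f (g u) ∈ Y₀ := by
    obtain ⟨_, ⟨Y₀, hY₀, rfl⟩, hy, -⟩ :=
      Y.isBasis_affineOpens.exists_subset_of_mem_open (Set.mem_univ (f (g u))) isOpen_univ
    exact ⟨Y₀, hY₀, hy⟩
  have : IsAffine (Y₀ : Scheme.{u}) := hY₀
  have : IsIntegralHom (f ∣_ Y₀) :=
    MorphismProperty.of_isPullback (isPullback_morphismRestrict f Y₀).flip inferInstance
  exact atPt_of_restrict f g u Y₀ hy (fun g' _ u' => atPt_integral_of_isAffine (f ∣_ Y₀) g' u')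

end Groth.Agent.Lib.PropA34
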