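import Mathlib.AlgebraicGeometry.Morphisms.UniversallyInjective
import Mathlib.AlgebraicGeometry.ResidueField
import Mathlib.AlgebraicGeometry.Pullbacks
import Mathlib.FieldTheory.PurelyInseparable.Basic
import Mathlib.RingTheory.LocalRing.ResidueField.Ideal

set_option autoImplicit false
universe u

/-!
Ring-level radicial maps (injective on spectra, purely inseparable residue field extensions) vs
`UniversallyInjective (Spec.map φ)` (helper77).
-/

namespace Groth.Agent.Lib.H77Radicial

section helpers

open TensorProduct AlgebraicGeometry CategoryTheory CategoryTheory.Limits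

/-- The ring-level radicial condition. -/
def IsRad {R S : Type u} [CommRing R] [CommRing S] (φ : R →+* S) : Prop :=
  Function.Injective (PrimeSpectrum.comap φ) ∧
    ∀ (q : Ideal S) [q.IsPrime] (x : q.ResidueField), ∃ n : ℕ,
      x ^ (ringExpChar (q.comap φ).ResidueField) ^ n ∈
        Set.range (Ideal.ResidueField.map (q.comap φ) q φ rfl)

variable {R S : Type u} [CommRing R] [CommRing S]

/-- A radicial ring map is injective on points with values in fields. -/
theorem IsRad.kpt_injective {φ : R →+* S} (h : IsRad φ) (K : Type u) [Field K]
    (a b : S →+* K) (hab : a.comp φ = b.comp φ) : a = b := by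
  obtain ⟨hinj, hpi⟩ := h
  have hker : RingHom.ker b = RingHom.ker a := by
    have h1 : (⟨RingHom.ker a, RingHom.ker_isPrime a⟩ : PrimeSpectrum S) =
        ⟨RingHom.ker b, RingHom.ker_isPrime b⟩ := by
      apply hinj
      ext r
      simp only [PrimeSpectrum.comap_asIdeal, Ideal.mem_comap, RingHom.mem_ker]
      rw [← RingHom.comp_apply, ← RingHom.comp_apply, hab]
    exact (congrArg PrimeSpectrum.asIdeal h1).symm
  set q : Ideal S := RingHom.ker a with hq
  have hqp : q.IsPrime := RingHom.ker_isPrime a
  have hunit : ∀ c : S →+* K, RingHom.ker c = q →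
      q.primeCompl ≤ (IsUnit.submonoid K).comap c := by
    intro c hc x hx
    rw [Submonoid.mem_comap, IsUnit.mem_submonoid_iff, isUnit_iff_ne_zero]
    intro h0
    exact hx (by rw [← hc]; exact h0)
  let abar : q.ResidueField →+* K := Ideal.ResidueField.lift q a le_rfl (hunit a rfl)
  let bbar : q.ResidueField →+* K := Ideal.ResidueField.lift q b hker.ge (hunit b hker)
  let m := Ideal.ResidueField.map (q.comap φ) q φ rfl
  have hm : abar.comp m = bbar.comp m := by
    apply Ideal.ResidueField.ringHom_ext
    ext r
    simp only [RingHom.comp_apply, m, abar, bbar, Ideal.ResidueField.map_algebraMap,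
      Ideal.ResidueField.lift_algebraMap]
    rw [← RingHom.comp_apply, ← RingHom.comp_apply, hab]
  let _ : Algebra (q.comap φ).ResidueField q.ResidueField := m.toAlgebra
  have hpurely : IsPurelyInseparable (q.comap φ).ResidueField q.ResidueField := by
    rw [isPurelyInseparable_iff_pow_mem _ (ringExpChar (q.comap φ).ResidueField)]
    intro x
    obtain ⟨n, y, hy⟩ := hpi q x
    exact ⟨n, y, hy⟩
  have hbar : abar = bbar :=
    IsPurelyInseparable.injective_comp_algebraMap (q.comap φ).ResidueField q.ResidueField K hm
  ext x
  have := congrArg (fun f : q.ResidueField →+* K => f (algebraMap S q.ResidueField x)) hbar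
  simpa [abar, bbar] using this

/-- Point-injectivity is stable under base change. -/
theorem kpt_injective_baseChange {R' : Type u} [CommRing R'] [Algebra R S] [Algebra R R']
    (h : ∀ (K : Type u) [Field K] (a b : S →+* K),
      a.comp (algebraMap R S) = b.comp (algebraMap R S) → a = b)
    (K : Type u) [Field K] (a b : R' ⊗[R] S →+* K)
    (hab : a.comp (algebraMap R' (R' ⊗[R] S)) = b.comp (algebraMap R' (R' ⊗[R] S))) : a = b := by
  have h1 : a.comp (Algebra.TensorProduct.includeRight (R := R) (A := R') (B := S)).toRingHom =
      b.comp (Algebra.TensorProduct.includeRight (R := R) (A := R') (B := S)).toRingHom := by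
    apply h K
    have e : ∀ c : R' ⊗[R] S →+* K,
        (c.comp (Algebra.TensorProduct.includeRight (R := R) (A := R') (B := S)).toRingHom).comp
          (algebraMap R S) = (c.comp (algebraMap R' (R' ⊗[R] S))).comp (algebraMap R R') := by
      intro c
      ext r
      simp only [RingHom.comp_apply]
      congr 1
      exact ((Algebra.TensorProduct.includeRight (R := R) (A := R') (B := S)).commutes r).trans
        (IsScalarTower.algebraMap_apply R R' _ r)
    rw [e a, e b, hab]
  apply RingHom.ext
  intro z
  induction z using TensorProduct.induction_on with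
  | zero => simp
  | tmul x y =>
    have e : x ⊗ₜ[R] y = algebraMap R' (R' ⊗[R] S) x *
        (Algebra.TensorProduct.includeRight (R := R) (A := R') (B := S)) y := by
      simp [Algebra.TensorProduct.algebraMap_apply]
    rw [e, map_mul, map_mul]
    congr 1
    · exact congrArg (fun f : R' →+* K => f x) hab
    · exact congrArg (fun f : S →+* K => f y) h1
  | add x y hx hy => rw [map_add, map_add, hx, hy]

/-- Point-injectivity implies universal injectivity of `Spec`. -/
theorem universallyInjective_of_kpt {φ : R →+* S}
    (h : ∀ (K : Type u) [Field K] (a b : S →+* K), a.comp φ = b.comp φ → a = b) :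
    UniversallyInjective (Spec.map (CommRingCat.ofHom φ)) := by
  refine ((tfae_universallyInjective (Spec.map (CommRingCat.ofHom φ))).out 0 1).mpr ?_
  intro L _ g₁ g₂ hg
  obtain ⟨φ₁, rfl⟩ := Spec.map_surjective g₁
  obtain ⟨φ₂, rfl⟩ := Spec.map_surjective g₂
  simp only [← Spec.map_comp] at hg
  have h1 := Spec.map_injective hg
  have h2 : φ₁.hom.comp φ = φ₂.hom.comp φ := by
    have := congrArg CommRingCat.Hom.hom h1
    simpa using this
  have h3 : φ₁.hom = φ₂.hom := h L φ₁.hom φ₂.hom h2
  congr 1
  exact CommRingCat.hom_ext h3

/-- Universal injectivity of `Spec` implies the ring-level radicial condition. -/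
theorem isRad_of_universallyInjective {φ : R →+* S}
    (h : UniversallyInjective (Spec.map (CommRingCat.ofHom φ))) : IsRad φ := by
  set f := Spec.map (CommRingCat.ofHom φ) with hf
  obtain ⟨hinj, hpi⟩ := ((tfae_universallyInjective f).out 0 2).mp h
  refine ⟨?_, ?_⟩
  · intro x y hxy
    exact hinj hxy
  · intro q hq x'
    let x : Spec (CommRingCat.of S) := ⟨q, hq⟩
    let isoT := Scheme.Spec.residueFieldIso (CommRingCat.of S) x
    let isoR := Scheme.Spec.residueFieldIso (CommRingCat.of R) (f x)
    let rfm := f.residueFieldMap x
    let ψ : CommRingCat.of (f x).asIdeal.ResidueField ⟶ CommRingCat.of x.asIdeal.ResidueField :=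
      isoR.inv ≫ rfm ≫ isoT.hom
    have hcomm : CommRingCat.ofHom (algebraMap R (f x).asIdeal.ResidueField) ≫ ψ =
        CommRingCat.ofHom φ ≫ CommRingCat.ofHom (algebraMap S x.asIdeal.ResidueField) := by
      have h1 := f.SpecMap_residueFieldMap_fromSpecResidueField x
      rw [← Scheme.Spec.map_residueFieldIso_inv_eq_fromSpecResidueField,
        ← Scheme.Spec.map_residueFieldIso_inv_eq_fromSpecResidueField, hf] at h1
      simp only [← Spec.map_comp] at h1
      have h2 := Spec.map_injective h1
      have h3 := congrArg (fun t => t ≫ isoT.hom) h2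
      simp only [isoT, Category.assoc, Iso.inv_hom_id, Category.comp_id] at h3
      exact h3
    have hψ : (show (q.comap φ).ResidueField →+* q.ResidueField from ψ.hom) =
        Ideal.ResidueField.map (q.comap φ) q φ rfl := by
      apply Ideal.ResidueField.ringHom_ext
      ext r
      have := congrArg (fun t => t.hom r) hcomm
      rw [RingHom.comp_apply, RingHom.comp_apply, Ideal.ResidueField.map_algebraMap]
      exact this
    have hpx := hpi x
    let _ : Algebra ((Spec (CommRingCat.of R)).residueField (f x))
        ((Spec (CommRingCat.of S)).residueField x) := rfm.hom.toAlgebra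
    have hpx' : IsPurelyInseparable ((Spec (CommRingCat.of R)).residueField (f x))
        ((Spec (CommRingCat.of S)).residueField x) := hpx
    have hpm := (isPurelyInseparable_iff_pow_mem ((Spec (CommRingCat.of R)).residueField (f x))
      (ringExpChar ((Spec (CommRingCat.of R)).residueField (f x)))).mp hpx' (isoT.inv.hom x')
    obtain ⟨n, z, hz⟩ := hpm
    have hz' : rfm.hom z = (isoT.inv.hom x') ^
        (ringExpChar ((Spec (CommRingCat.of R)).residueField (f x))) ^ n := hz
    have hexp : ringExpChar ((Spec (CommRingCat.of R)).residueField (f x)) =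
        ringExpChar (q.comap φ).ResidueField := by
      have : ExpChar (q.comap φ).ResidueField
          (ringExpChar ((Spec (CommRingCat.of R)).residueField (f x))) :=
        expChar_of_injective_ringHom (f := isoR.hom.hom) (RingHom.injective _) _
      exact (ringExpChar.eq _ _).symm
    have h5 : isoT.hom.hom (isoT.inv.hom x') = x' :=
      congrArg (fun t : CommRingCat.of x.asIdeal.ResidueField ⟶ _ => t.hom x') isoT.inv_hom_id
    have h6 : isoR.inv.hom (isoR.hom.hom z) = z :=
      congrArg (fun t : (Spec (CommRingCat.of R)).residueField (f x) ⟶ _ => t.hom z)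
        isoR.hom_inv_id
    refine ⟨n, isoR.hom.hom z, ?_⟩
    rw [← hψ, ← hexp]
    show isoT.hom.hom (rfm.hom (isoR.inv.hom (isoR.hom.hom z))) = _
    rw [h6, hz', map_pow, h5]

end helpers

end Groth.Agent.Lib.H77Radicial
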