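import Groth.Agent.Lib.EtLocPI3
import Groth.Agent.Lib.H77Radicial

/-!
# Topological lemmas for weightings (helper34)

* `exists_open_nhds_forall_mem_iff`: two opens of `P`, finite over `T`, with the same points over
  `t₀` coincide over a neighbourhood of `t₀`.
* `eventually_of_isOpenMap`: a property holding near `t₀'` after an open map holds near the image.
* `eq_of_fst_eq_of_snd_eq_of_isPurelyInseparable`: at most one point of `X ×_S Y` over `(x, y)`
  when `κ(x)/κ(s)` is purely inseparable.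
-/

set_option autoImplicit false
universe u
open AlgebraicGeometry CategoryTheory Limits Topology

namespace Groth.Agent.Lib.Weight34

theorem exists_open_nhds_forall_mem_iff {P T : Scheme.{u}} (p : P ⟶ T) (A B : P.Opens)
    (hA : IsFinite (A.ι ≫ p)) (hB : IsFinite (B.ι ≫ p)) (t₀ : T)
    (h : ∀ z, p z = t₀ → (z ∈ A ↔ z ∈ B)) :
    ∃ N : T.Opens, t₀ ∈ N ∧ ∀ z, p z ∈ N → (z ∈ A ↔ z ∈ B) := by
  have key : ∀ (A B : P.Opens), IsFinite (A.ι ≫ p) → (∀ z, p z = t₀ → (z ∈ A → z ∈ B)) →
      ∃ C : Set T, IsClosed C ∧ t₀ ∉ C ∧ ∀ z, z ∈ A → z ∉ B → p z ∈ C := by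
    intro A B hA h
    refine ⟨(A.ι ≫ p) '' (A.ι ⁻¹' ((B : Set P)ᶜ)), ?_, ?_, ?_⟩
    · apply (A.ι ≫ p).isClosedMap
      exact (B.isOpen.isClosed_compl).preimage A.ι.continuous
    · rintro ⟨a, ha, hat⟩
      exact ha (h _ hat a.2)
    · intro z hzA hzB
      exact ⟨⟨z, hzA⟩, hzB, rfl⟩
  obtain ⟨C₁, hC₁, ht₁, H₁⟩ := key A B hA (fun z hz => (h z hz).mp)
  obtain ⟨C₂, hC₂, ht₂, H₂⟩ := key B A hB (fun z hz => (h z hz).mpr)
  refine ⟨⟨(C₁ ∪ C₂)ᶜ, (hC₁.union hC₂).isOpen_compl⟩, ?_, ?_⟩
  · rintro (h | h)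
    · exact ht₁ h
    · exact ht₂ h
  · intro z hz
    constructor
    · intro hzA
      by_contra hzB
      exact hz (Or.inl (H₁ z hzA hzB))
    · intro hzB
      by_contra hzA
      exact hz (Or.inr (H₂ z hzB hzA))

theorem eventually_of_isOpenMap {T T' : Type*} [TopologicalSpace T] [TopologicalSpace T']
    (b : T' → T) (hb : IsOpenMap b) (Q : T → Prop) (t₀' : T')
    (h : ∀ᶠ t' in 𝓝 t₀', Q (b t')) : ∀ᶠ t in 𝓝 (b t₀'), Q t :=
  hb.nhds_le t₀' h

section PI

variable {X Y S : Scheme.{u}} (f : X ⟶ S) (g : Y ⟶ S)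

/-- If `κ(f x) → κ(x)` is purely inseparable, there is at most one point of `X ×_S Y` over
`(x, y)`. -/
theorem eq_of_fst_eq_of_snd_eq_of_isPurelyInseparable (w w' : ↑(pullback f g))
    (h1 : pullback.fst f g w = pullback.fst f g w') (h2 : pullback.snd f g w = pullback.snd f g w')
    (hpi : (f.residueFieldMap (pullback.fst f g w')).hom.IsPurelyInseparable) : w = w' := by
  apply (Scheme.Pullback.carrierEquiv (f := f) (g := g)).injective
  rw [Scheme.Pullback.carrierEquiv_eq_iff]
  refine ⟨Scheme.Pullback.Triplet.ext h1 h2, ?_⟩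
  set T' := (Scheme.Pullback.carrierEquiv w').1 with hT'
  have ha : ((S.residueFieldCongr T'.hx).inv ≫ f.residueFieldMap T'.x).hom.IsPurelyInseparable := by
    rw [CommRingCat.hom_comp]
    refine RingHom.IsPurelyInseparable.comp ?_ hpi
    exact Groth.Agent.Lib.SpecResidueH52.isPurelyInseparable_of_bijective _
      ((ConcreteCategory.isIso_iff_bijective (S.residueFieldCongr T'.hx).inv).mp inferInstance)
  have hui : UniversallyInjective
      (Spec.map ((S.residueFieldCongr T'.hx).inv ≫ f.residueFieldMap T'.x)) := by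
    apply Groth.Agent.Lib.H77Radicial.universallyInjective_of_kpt
      (φ := ((S.residueFieldCongr T'.hx).inv ≫ f.residueFieldMap T'.x).hom)
    intro K _ a b hab
    algebraize [((S.residueFieldCongr T'.hx).inv ≫ f.residueFieldMap T'.x).hom]
    exact IsPurelyInseparable.injective_comp_algebraMap (S.residueField T'.s)
      (X.residueField T'.x) K hab
  have hui' : UniversallyInjective (Spec.map T'.tensorInr) :=
    MorphismProperty.of_isPullback T'.isPullback_SpecMap_tensor hui
  apply (Spec.map T'.tensorInr).injective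
  exact Subsingleton.elim _ _

end PI

end Groth.Agent.Lib.Weight34
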