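import Groth.Agent.Lib.Weight34A
import Groth.Agent.Lib.Weight34B
import Groth.Agent.S1418

/-!
# Weightings: local constancy of fibre integrals over an arbitrary base (Stacks 0F3A core)

Main result `eventually_FI`: for a weighting `w` of a locally quasi-finite, locally finite type `f`,
any pullback square over `q : T ⟶ Y`, and any open `A` of the pullback finite over `T`, the fibre
integral of `w` over `A` is locally constant on `T`.
-/

set_option autoImplicit false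
universe u
open AlgebraicGeometry CategoryTheory Limits Topology

namespace Groth.Agent.Lib.Weight34

/-- the fibre integral of `W` over an open `A` of `P` along `p` -/
noncomputable abbrev FI {P T : Scheme.{u}} (p : P ⟶ T) (A : P.Opens) (W : P → ℤ) : T → ℤ :=
  MoreMor.fibreIntegral (A.ι ≫ p) (fun a => W (A.ι a))

theorem finite_preimage_of_isFinite {P T : Scheme.{u}} (π : P ⟶ T) [IsFinite π] (t : T) :
    (π ⁻¹' {t}).Finite := π.finite_preimage_singleton t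

/-- base change of the fibre integral over an open along any morphism -/
theorem FI_baseChange {P T T₁ : Scheme.{u}} (p : P ⟶ T) (A : P.Opens) (hA : IsFinite (A.ι ≫ p))
    (W : P → ℤ) (b : T₁ ⟶ T) (t : T₁) :
    FI (pullback.snd p b) (pullback.fst p b ⁻¹ᵁ A) (fun z => W (pullback.fst p b z)) t =
      FI p A W (b t) := by
  have sq : IsPullback (pullback.fst p b ∣_ A) ((pullback.fst p b ⁻¹ᵁ A).ι ≫ pullback.snd p b)
      (A.ι ≫ p) b :=
    (isPullback_morphismRestrict (pullback.fst p b) A).paste_vert (IsPullback.of_hasPullback p b)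
  have h := Groth.Agent.S1418.result (A.ι ≫ p) (fun v => finite_preimage_of_isFinite _ v)
    ((pullback.fst p b ⁻¹ᵁ A).ι ≫ pullback.snd p b) (pullback.fst p b ∣_ A) b sq
    (fun a => W (A.ι a)) t
  unfold FI
  rw [← h]
  congr 1
  ext a
  simp only [Function.comp_apply]
  congr 1
  rw [← Scheme.Hom.comp_apply, ← Scheme.Hom.comp_apply, morphismRestrict_ι]

theorem isOpenMap_of_etale {T₁ T : Scheme.{u}} (b : T₁ ⟶ T) [Etale b] : IsOpenMap b :=
  b.isOpenMap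

theorem eventually_FI_of_etale {P T T₁ : Scheme.{u}} (p : P ⟶ T) (A : P.Opens)
    (hA : IsFinite (A.ι ≫ p)) (W : P → ℤ) (b : T₁ ⟶ T) [Etale b] (t₁ : T₁)
    (h : ∀ᶠ t in 𝓝 t₁,
      FI (pullback.snd p b) (pullback.fst p b ⁻¹ᵁ A) (fun z => W (pullback.fst p b z)) t =
      FI (pullback.snd p b) (pullback.fst p b ⁻¹ᵁ A) (fun z => W (pullback.fst p b z)) t₁) :
    ∀ᶠ t in 𝓝 (b t₁), FI p A W t = FI p A W (b t₁) := by
  apply eventually_of_isOpenMap b (isOpenMap_of_etale b) (fun t => FI p A W t = FI p A W (b t₁)) t₁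
  refine h.mono fun t ht => ?_
  rw [← FI_baseChange p A hA W b t, ← FI_baseChange p A hA W b t₁]
  exact ht

theorem finite_setOf_mem_of_isFinite {P T : Scheme.{u}} (p : P ⟶ T) (A : P.Opens)
    (hA : IsFinite (A.ι ≫ p)) (t : T) : {z : P | z ∈ A ∧ p z = t}.Finite := by
  have h := ((A.ι ≫ p).finite_preimage_singleton t).image A.ι
  refine h.subset ?_
  rintro z ⟨hzA, hz⟩
  exact ⟨⟨z, hzA⟩, hz, rfl⟩

/-- decomposition of the fibre integral -/
theorem FI_decomp {P T : Scheme.{u}} (p : P ⟶ T) (W : P → ℤ) (t : T) (A R : P.Opens)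
    {ι : Type*} [Finite ι] (D : ι → P.Opens)
    (hcov : ∀ z, p z = t → (z ∈ A ↔ z ∈ R ∨ ∃ i, z ∈ D i))
    (hRD : ∀ i z, z ∈ R → z ∈ D i → False) (hDD : ∀ i j z, z ∈ D i → z ∈ D j → i = j)
    (hfin : {z : P | z ∈ A ∧ p z = t}.Finite) :
    FI p A W t = FI p R W t + ∑ᶠ i, FI p (D i) W t := by
  unfold FI
  rw [fibreIntegral_ι_comp, fibreIntegral_ι_comp]
  simp_rw [fibreIntegral_ι_comp]
  have hset : {z : P | z ∈ A ∧ p z = t} =
      {z : P | z ∈ R ∧ p z = t} ∪ ⋃ i, {z : P | z ∈ D i ∧ p z = t} := by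
    ext z
    simp only [Set.mem_ofPred_eq, Set.mem_union, Set.mem_iUnion]
    constructor
    · rintro ⟨h1, h2⟩
      rcases (hcov z h2).mp h1 with h | ⟨i, hi⟩
      · exact Or.inl ⟨h, h2⟩
      · exact Or.inr ⟨i, hi, h2⟩
    · rintro (⟨h1, h2⟩ | ⟨i, h1, h2⟩)
      · exact ⟨(hcov z h2).mpr (Or.inl h1), h2⟩
      · exact ⟨(hcov z h2).mpr (Or.inr ⟨i, h1⟩), h2⟩
  have hfinR : {z : P | z ∈ R ∧ p z = t}.Finite :=
    hfin.subset (by rw [hset]; exact Set.subset_union_left)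
  have hfinD : ∀ i, {z : P | z ∈ D i ∧ p z = t}.Finite := fun i =>
    hfin.subset (by
      rw [hset]
      exact (Set.subset_iUnion (fun i => {z : P | z ∈ D i ∧ p z = t}) i).trans
        Set.subset_union_right)
  rw [hset, finsum_mem_union _ hfinR (Set.finite_iUnion hfinD), finsum_mem_iUnion _ hfinD]
  · intro i j hij
    rw [Function.onFun, Set.disjoint_left]
    intro z hz1 hz2
    exact hij (hDD i j z hz1.1 hz2.1)
  · rw [Set.disjoint_left]
    intro z hz1 hz2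
    simp only [Set.mem_iUnion] at hz2
    obtain ⟨i, hi⟩ := hz2
    exact hRD i z hz1.1 hi.1

set_option backward.isDefEq.respectTransparency false in
theorem isPurelyInseparable_of_comp {Q P T : Scheme.{u}} (j : Q ⟶ P) (p : P ⟶ T) (y : Q)
    [IsIso (j.residueFieldMap y)]
    (h : ((j ≫ p).residueFieldMap y).hom.IsPurelyInseparable) :
    (p.residueFieldMap (j y)).hom.IsPurelyInseparable := by
  have e : p.residueFieldMap (j y) = (j ≫ p).residueFieldMap y ≫ inv (j.residueFieldMap y) := by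
    rw [Scheme.residueFieldMap_comp, Category.assoc, IsIso.hom_inv_id, Category.comp_id]
  rw [e, CommRingCat.hom_comp]
  refine RingHom.IsPurelyInseparable.comp h ?_
  exact Groth.Agent.Lib.SpecResidueH52.isPurelyInseparable_of_bijective _
    ((ConcreteCategory.isIso_iff_bijective (inv (j.residueFieldMap y))).mp inferInstance)

theorem isFinite_image_ι_comp {Q P T : Scheme.{u}} (j : Q ⟶ P) [IsOpenImmersion j] (p : P ⟶ T)
    (V : Q.Opens) (h : IsFinite (V.ι ≫ j ≫ p)) : IsFinite ((j ''ᵁ V).ι ≫ p) := by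
  rw [← j.isoImage_inv_ι V, Category.assoc, Category.assoc]
  infer_instance

/-- abstract-square version of `eq_of_fst_eq_of_snd_eq_of_isPurelyInseparable` -/
theorem eq_of_isPullback_of_isPurelyInseparable {X Y S P : Scheme.{u}} {f : X ⟶ S} {g : Y ⟶ S}
    {a : P ⟶ X} {b : P ⟶ Y} (hP : IsPullback a b f g) (w w' : P) (h1 : a w = a w')
    (h2 : b w = b w') (hpi : (f.residueFieldMap (a w')).hom.IsPurelyInseparable) : w = w' := by
  have e1 : hP.isoPullback.hom ≫ pullback.fst f g = a := hP.isoPullback_hom_fst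
  have e2 : hP.isoPullback.hom ≫ pullback.snd f g = b := hP.isoPullback_hom_snd
  have key : hP.isoPullback.hom w = hP.isoPullback.hom w' := by
    apply eq_of_fst_eq_of_snd_eq_of_isPurelyInseparable f g
    · rw [← Scheme.Hom.comp_apply, ← Scheme.Hom.comp_apply, e1, h1]
    · rw [← Scheme.Hom.comp_apply, ← Scheme.Hom.comp_apply, e2, h2]
    · have : pullback.fst f g (hP.isoPullback.hom w') = a w' := by
        rw [← Scheme.Hom.comp_apply, e1]
      rw [this]; exact hpi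
  have hinv : ∀ z, hP.isoPullback.inv (hP.isoPullback.hom z) = z := fun z => by
    rw [← Scheme.Hom.comp_apply, Iso.hom_inv_id]; rfl
  rw [← hinv w, ← hinv w', key]

set_option maxHeartbeats 800000 in
/-- base case: an open finite over `T` with a unique point over `t₀`, with purely inseparable
residue field: the fibre integral is constant near `t₀`. -/
theorem eventually_FI_of_unique {X Y T P : Scheme.{u}} (f : X ⟶ Y) [LocallyQuasiFinite f]
    [LocallyOfFiniteType f] (w : X → ℤ) (hw : MoreMor.IsWeighting f w)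
    (q : T ⟶ Y) (c : P ⟶ X) (p : P ⟶ T) (hP : IsPullback c p f q)
    (D : P.Opens) (hD : IsFinite (D.ι ≫ p)) (t₀ : T) (d : P) (hdD : d ∈ D) (hdt : p d = t₀)
    (huniq : ∀ z, z ∈ D → p z = t₀ → z = d)
    (hpi : (p.residueFieldMap d).hom.IsPurelyInseparable) :
    ∀ᶠ t in 𝓝 t₀, FI p D (fun z => w (c z)) t = FI p D (fun z => w (c z)) t₀ := by
  have hxy : f (c d) = q t₀ := by
    have := congr($(hP.w) d)
    rw [Scheme.Hom.comp_apply, Scheme.Hom.comp_apply, hdt] at this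
    exact this
  obtain ⟨V, gV, v, hgV, hgv, n, B, bpt, HB, -, hcovB⟩ :=
    Groth.Agent.Lib.EtLocQF.exists_etaleNbhd_purelyInseparable f (q t₀) (fun _ : Unit => c d)
      (fun _ => hxy) (fun _ => f.quasiFiniteAt (c d))
  obtain ⟨t₂, ht₂a, ht₂b⟩ := Scheme.Pullback.exists_preimage_pullback (f := q) (g := gV) t₀ v
    hgv.symm
  rw [← ht₂a]
  apply eventually_FI_of_etale p D hD _ (pullback.fst q gV) t₂
  -- notation
  obtain ⟨b₂, hb₂⟩ : ∃ b₂, b₂ = pullback.fst q gV := ⟨_, rfl⟩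
  obtain ⟨r, hr⟩ : ∃ r, r = pullback.snd q gV := ⟨_, rfl⟩
  have hbr : b₂ ≫ q = r ≫ gV := by rw [hb₂, hr]; exact pullback.condition
  rw [← hb₂] at ht₂a ⊢
  rw [← hr] at ht₂b
  obtain ⟨φ, hφ⟩ : ∃ φ, φ = pullback.fst p b₂ := ⟨_, rfl⟩
  obtain ⟨p₂, hp₂⟩ : ∃ p₂, p₂ = pullback.snd p b₂ := ⟨_, rfl⟩
  have hφp : φ ≫ p = p₂ ≫ b₂ := by rw [hφ, hp₂]; exact pullback.condition
  have hP₂ : IsPullback φ p₂ p b₂ := by rw [hφ, hp₂]; exact IsPullback.of_hasPullback p b₂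
  rw [← hφ, ← hp₂]
  -- the unique point of `D₂` over `t₂`
  obtain ⟨d₂, hd₂a, hd₂b⟩ : ∃ d₂, φ d₂ = d ∧ p₂ d₂ = t₂ := by
    rw [hφ, hp₂]
    exact Scheme.Pullback.exists_preimage_pullback (f := p) (g := b₂) d t₂ (hdt.trans ht₂a.symm)
  have hD₂ : IsFinite ((φ ⁻¹ᵁ D).ι ≫ p₂) :=
    MorphismProperty.of_isPullback ((isPullback_morphismRestrict φ D).paste_vert hP₂) hD
  have hd₂D : d₂ ∈ φ ⁻¹ᵁ D := by change φ d₂ ∈ D; rw [hd₂a]; exact hdD
  have huniq₂ : ∀ z, z ∈ φ ⁻¹ᵁ D → p₂ z = t₂ → z = d₂ := by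
    intro z hz hzt
    have h1 : φ z = d := by
      apply huniq _ hz
      have := congr($(hφp) z)
      rw [Scheme.Hom.comp_apply, Scheme.Hom.comp_apply, hzt, ht₂a] at this
      exact this
    exact eq_of_isPullback_of_isPurelyInseparable hP₂ z d₂ (h1.trans hd₂a.symm)
      (hzt.trans hd₂b.symm) (by rw [hd₂a]; exact hpi)
  -- the map to `X_V`
  have hρc : (φ ≫ c) ≫ f = (p₂ ≫ r) ≫ gV := by
    rw [Category.assoc, hP.w, ← Category.assoc, hφp, Category.assoc, hbr, Category.assoc]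
  obtain ⟨ρ, hρ⟩ : ∃ ρ, ρ = pullback.lift (φ ≫ c) (p₂ ≫ r) hρc := ⟨_, rfl⟩
  have hρ1 : ρ ≫ pullback.fst f gV = φ ≫ c := by rw [hρ]; exact pullback.lift_fst _ _ _
  have hρ2 : ρ ≫ pullback.snd f gV = p₂ ≫ r := by rw [hρ]; exact pullback.lift_snd _ _ _
  have hρP : IsPullback ρ p₂ (pullback.snd f gV) r := by
    apply IsPullback.of_right _ hρ2 (IsPullback.of_hasPullback f gV)
    rw [hρ1, ← hbr]
    exact hP₂.paste_horiz hP
  have hρd1 : pullback.fst f gV (ρ d₂) = c d := by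
    rw [← Scheme.Hom.comp_apply, hρ1, Scheme.Hom.comp_apply, hd₂a]
  have hρd2 : pullback.snd f gV (ρ d₂) = v := by
    rw [← Scheme.Hom.comp_apply, hρ2, Scheme.Hom.comp_apply, hd₂b, ht₂b]
  obtain ⟨m, hm⟩ := hcovB (ρ d₂) hρd2 ⟨(), hρd1⟩
  obtain ⟨hB1, hB2, hB3, hB4, hB5, -, -⟩ := HB m
  have sqE : IsPullback (ρ ∣_ B m) ((ρ ⁻¹ᵁ B m).ι ≫ p₂) ((B m).ι ≫ pullback.snd f gV) r :=
    (isPullback_morphismRestrict ρ (B m)).paste_vert hρP
  have hE : IsFinite ((ρ ⁻¹ᵁ B m).ι ≫ p₂) := MorphismProperty.of_isPullback sqE hB2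
  have hd₂E : d₂ ∈ ρ ⁻¹ᵁ B m := by change ρ d₂ ∈ B m; rw [hm]; exact hB1
  have huniqE : ∀ z, z ∈ ρ ⁻¹ᵁ B m → p₂ z = t₂ → z = d₂ := by
    intro z hz hzt
    have h1 : ρ z = bpt m := by
      apply hB4 _ hz
      rw [← Scheme.Hom.comp_apply, hρ2, Scheme.Hom.comp_apply, hzt, ht₂b]
    exact eq_of_isPullback_of_isPurelyInseparable hρP z d₂ (h1.trans hm.symm)
      (hzt.trans hd₂b.symm) (by rw [hm]; exact hB5)
  obtain ⟨N, ht₂N, hN⟩ := exists_open_nhds_forall_mem_iff p₂ (φ ⁻¹ᵁ D) (ρ ⁻¹ᵁ B m) hD₂ hE t₂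
    (fun z hz => ⟨fun h => (huniq₂ z h hz) ▸ hd₂E, fun h => (huniqE z h hz) ▸ hd₂D⟩)
  -- the integral over `E` is pulled back from `B m`
  have hG := hw V gV (B m) hB2
  have hFE : ∀ t, FI p₂ (ρ ⁻¹ᵁ B m) (fun z => w (c (φ z))) t =
      MoreMor.fibreIntegral ((B m).ι ≫ pullback.snd f gV)
        (fun u => w (pullback.fst f gV ((B m).ι u))) (r t) := by
    intro t
    haveI : IsFinite ((B m).ι ≫ pullback.snd f gV) := hB2
    have h := Groth.Agent.S1418.result ((B m).ι ≫ pullback.snd f gV)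
      (fun v => ((B m).ι ≫ pullback.snd f gV).finite_preimage_singleton v)
      ((ρ ⁻¹ᵁ B m).ι ≫ p₂) (ρ ∣_ B m) r sqE
      (fun u => w (pullback.fst f gV ((B m).ι u))) t
    rw [← h]
    unfold FI
    congr 1
    ext a
    simp only [Function.comp_apply]
    have h1 : (B m).ι ((ρ ∣_ B m) a) = ρ ((ρ ⁻¹ᵁ B m).ι a) := by
      rw [← Scheme.Hom.comp_apply, morphismRestrict_ι, Scheme.Hom.comp_apply]
    rw [h1, ← Scheme.Hom.comp_apply (f := ρ), hρ1, Scheme.Hom.comp_apply]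
  have hev : ∀ᶠ t in 𝓝 t₂, MoreMor.fibreIntegral ((B m).ι ≫ pullback.snd f gV)
        (fun u => w (pullback.fst f gV ((B m).ι u))) (r t) =
      MoreMor.fibreIntegral ((B m).ι ≫ pullback.snd f gV)
        (fun u => w (pullback.fst f gV ((B m).ι u))) (r t₂) :=
    (hG.comp_continuous r.continuous).eventually_eq t₂
  have hNev : ∀ᶠ t in 𝓝 t₂, t ∈ N := N.isOpen.mem_nhds ht₂N
  filter_upwards [hev, hNev] with t ht htN
  have e1 : ∀ t, t ∈ N → FI p₂ (φ ⁻¹ᵁ D) (fun z => w (c (φ z))) t =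
      FI p₂ (ρ ⁻¹ᵁ B m) (fun z => w (c (φ z))) t := fun t htN =>
    fibreIntegral_ι_comp_congr _ _ p₂ (fun z => w (c (φ z))) t (fun z hz => hN z (hz ▸ htN))
  rw [e1 t htN, e1 t₂ ht₂N, hFE, hFE]
  exact ht

set_option maxHeartbeats 800000 in
/-- **Weightings over an arbitrary base**: for a weighting `w` of `f`, any pullback square over
`q : T ⟶ Y` and any open `A` of the pullback finite over `T`, the fibre integral of `w` over `A`
is locally constant on `T`. -/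
theorem eventually_FI {X Y T P : Scheme.{u}} (f : X ⟶ Y) [LocallyQuasiFinite f]
    [LocallyOfFiniteType f] (w : X → ℤ) (hw : MoreMor.IsWeighting f w)
    (q : T ⟶ Y) (c : P ⟶ X) (p : P ⟶ T) (hP : IsPullback c p f q)
    (A : P.Opens) (hA : IsFinite (A.ι ≫ p)) (t₀ : T) :
    ∀ᶠ t in 𝓝 t₀, FI p A (fun z => w (c z)) t = FI p A (fun z => w (c z)) t₀ := by
  -- the points of `A` over `t₀`
  have hfib : Finite ↥((A.ι ≫ p) ⁻¹' {t₀}) := ((A.ι ≫ p).finite_preimage_singleton t₀).to_subtype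
  obtain ⟨r, ⟨e⟩⟩ := Finite.exists_equiv_fin ↥((A.ι ≫ p) ⁻¹' {t₀})
  obtain ⟨T₁, b, t₁, hb, hbt, n, V, v, HV, hdisj, hcov⟩ :=
    Groth.Agent.Lib.EtLocQF.exists_etaleNbhd_purelyInseparable_clopen (A.ι ≫ p) t₀
      (fun i : Fin r => (e.symm i).1) (fun i => (e.symm i).2)
      (fun i => (A.ι ≫ p).quasiFiniteAt _)
  have hcov' : ∀ y : ↑(pullback (A.ι ≫ p) b), pullback.snd (A.ι ≫ p) b y = t₁ → ∃ m, y = v m := by
    intro y hy
    apply hcov y hy
    have hmem : pullback.fst (A.ι ≫ p) b y ∈ (A.ι ≫ p) ⁻¹' {t₀} := by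
      have := congr($(pullback.condition (f := A.ι ≫ p) (g := b)) y)
      rw [Scheme.Hom.comp_apply, Scheme.Hom.comp_apply (f := pullback.snd _ _), hy, hbt] at this
      exact this
    exact ⟨e ⟨_, hmem⟩, by rw [Equiv.symm_apply_apply]⟩
  rw [← hbt]
  apply eventually_FI_of_etale p A hA _ b t₁
  obtain ⟨φ, hφ⟩ : ∃ φ, φ = pullback.fst p b := ⟨_, rfl⟩
  obtain ⟨p₁, hp₁⟩ : ∃ p₁, p₁ = pullback.snd p b := ⟨_, rfl⟩
  have hP₁ : IsPullback φ p₁ p b := by rw [hφ, hp₁]; exact IsPullback.of_hasPullback p b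
  have hP₁' : IsPullback (φ ≫ c) p₁ f (b ≫ q) := hP₁.paste_horiz hP
  rw [← hφ, ← hp₁]
  -- the open immersion `ψ`
  obtain ⟨ψ, hψ⟩ : ∃ ψ, ψ = pullback.map (A.ι ≫ p) b p b A.ι (𝟙 _) (𝟙 _)
      (by rw [Category.comp_id]) (by rw [Category.comp_id, Category.id_comp]) :=
    ⟨_, rfl⟩
  have hψo : IsOpenImmersion ψ := by rw [hψ]; infer_instance
  have hψ1 : ψ ≫ φ = pullback.fst (A.ι ≫ p) b ≫ A.ι := by
    rw [hψ, hφ]; exact pullback.lift_fst _ _ _
  have hψ2 : ψ ≫ p₁ = pullback.snd (A.ι ≫ p) b := by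
    rw [hψ, hp₁]; exact (pullback.lift_snd _ _ _).trans (Category.comp_id _)
  have hψrange : ∀ z, z ∈ φ ⁻¹ᵁ A ↔ z ∈ Set.range ψ := by
    intro z
    rw [hψ, Scheme.Pullback.range_map]
    simp only [Scheme.Opens.range_ι, Scheme.Hom.id_base, TopCat.hom_id,
      ContinuousMap.coe_id, Set.range_id, Set.preimage_univ, Set.inter_univ, hφ]
    rfl
  have hA₁ : IsFinite ((φ ⁻¹ᵁ A).ι ≫ p₁) :=
    MorphismProperty.of_isPullback ((isPullback_morphismRestrict φ A).paste_vert hP₁) hA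
  have hQfin : IsFinite (pullback.snd (A.ι ≫ p) b) := MorphismProperty.pullback_snd _ _ hA
  -- the pieces
  have hVc : IsClosed (⋃ m, (V m : Set ↑(pullback (A.ι ≫ p) b))) :=
    isClosed_iUnion_of_finite fun m => (HV m).1.1
  have hVo : IsOpen (⋃ m, (V m : Set ↑(pullback (A.ι ≫ p) b))) :=
    isOpen_iUnion fun m => (V m).isOpen
  let Rc : (pullback (A.ι ≫ p) b).Opens :=
    ⟨(⋃ m, (V m : Set ↑(pullback (A.ι ≫ p) b)))ᶜ, hVc.isOpen_compl⟩
  have hRcfin : IsFinite (Rc.ι ≫ pullback.snd (A.ι ≫ p) b) := by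
    apply Groth.Agent.Lib.EtLocQF.isFinite_ι_comp_of_le_of_isClosed _ (le_top : Rc ≤ ⊤)
      hVo.isClosed_compl
    have : IsIso (⊤ : (pullback (A.ι ≫ p) b).Opens).ι :=
      inferInstanceAs (IsIso (Scheme.topIso _).hom)
    infer_instance
  have hDfin : ∀ m, IsFinite ((ψ ''ᵁ V m).ι ≫ p₁) := fun m =>
    isFinite_image_ι_comp ψ p₁ (V m) (by rw [hψ2]; exact (HV m).2.2.1)
  have hRfin : IsFinite ((ψ ''ᵁ Rc).ι ≫ p₁) :=
    isFinite_image_ι_comp ψ p₁ Rc (by rw [hψ2]; exact hRcfin)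
  -- the integrals over the `D m` are eventually constant
  have hDev : ∀ m, ∀ᶠ t in 𝓝 t₁, FI p₁ (ψ ''ᵁ V m) (fun z => w (c (φ z))) t =
      FI p₁ (ψ ''ᵁ V m) (fun z => w (c (φ z))) t₁ := by
    intro m
    obtain ⟨-, h1, h2, h3, h4, h5, -, -⟩ := HV m
    refine eventually_FI_of_unique f w hw (b ≫ q) (φ ≫ c) p₁ hP₁' (ψ ''ᵁ V m) (hDfin m) t₁
      (ψ (v m)) ⟨v m, h1, rfl⟩ ?_ ?_ ?_
    · rw [← Scheme.Hom.comp_apply, hψ2, h3]
    · rintro z ⟨y, hy, rfl⟩ hz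
      change p₁ (ψ y) = t₁ at hz
      rw [← Scheme.Hom.comp_apply, hψ2] at hz
      rw [h4 y hy hz]
      rfl
    · apply isPurelyInseparable_of_comp ψ p₁ (v m)
      rw [hψ2]; exact h5
  -- the integral over `R` vanishes near `t₁`
  have hRev : ∀ᶠ t in 𝓝 t₁, ∀ z, z ∈ ψ ''ᵁ Rc → p₁ z ≠ t := by
    have hcl : IsClosed (Set.range ((ψ ''ᵁ Rc).ι ≫ p₁)) :=
      ((ψ ''ᵁ Rc).ι ≫ p₁).isClosedMap.isClosed_range
    have ht₁ : t₁ ∉ Set.range ((ψ ''ᵁ Rc).ι ≫ p₁) := by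
      rintro ⟨⟨z, y, hy, rfl⟩, hz⟩
      have hz' : p₁ (ψ y) = t₁ := hz
      rw [← Scheme.Hom.comp_apply, hψ2] at hz'
      obtain ⟨m, rfl⟩ := hcov' y hz'
      exact hy (Set.mem_iUnion.mpr ⟨m, (HV m).2.1⟩)
    filter_upwards [hcl.isOpen_compl.mem_nhds ht₁] with t ht z hz hzt
    exact ht ⟨⟨z, hz⟩, hzt⟩
  have hall : ∀ᶠ t in 𝓝 t₁, ∀ m, FI p₁ (ψ ''ᵁ V m) (fun z => w (c (φ z))) t =
      FI p₁ (ψ ''ᵁ V m) (fun z => w (c (φ z))) t₁ := Filter.eventually_all.mpr hDev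
  -- decomposition
  have hdec : ∀ t, FI p₁ (φ ⁻¹ᵁ A) (fun z => w (c (φ z))) t =
      FI p₁ (ψ ''ᵁ Rc) (fun z => w (c (φ z))) t +
        ∑ᶠ m, FI p₁ (ψ ''ᵁ V m) (fun z => w (c (φ z))) t := by
    intro t
    apply FI_decomp p₁ _ t (φ ⁻¹ᵁ A) (ψ ''ᵁ Rc) (fun m => ψ ''ᵁ V m)
    · intro z _
      rw [hψrange]
      constructor
      · rintro ⟨y, rfl⟩
        by_cases hy : y ∈ ⋃ m, (V m : Set ↑(pullback (A.ι ≫ p) b))
        · obtain ⟨m, hm⟩ := Set.mem_iUnion.mp hy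
          exact Or.inr ⟨m, y, hm, rfl⟩
        · exact Or.inl ⟨y, hy, rfl⟩
      · rintro (⟨y, -, rfl⟩ | ⟨m, y, -, rfl⟩)
        · exact ⟨y, rfl⟩
        · exact ⟨y, rfl⟩
    · rintro m z ⟨y, hy, rfl⟩ ⟨y', hy', h⟩
      obtain rfl := ψ.injective h
      exact hy (Set.mem_iUnion.mpr ⟨m, hy'⟩)
    · rintro m m' z ⟨y, hy, rfl⟩ ⟨y', hy', h⟩
      obtain rfl := ψ.injective h
      exact hdisj m m' ⟨y', hy, hy'⟩
    · exact finite_setOf_mem_of_isFinite p₁ _ hA₁ t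
  have hR0 : ∀ t, (∀ z, z ∈ ψ ''ᵁ Rc → p₁ z ≠ t) →
      FI p₁ (ψ ''ᵁ Rc) (fun z => w (c (φ z))) t = 0 := fun t ht =>
    fibreIntegral_ι_comp_eq_zero (ψ ''ᵁ Rc) p₁ (fun z => w (c (φ z))) t ht
  have hRt₁ : ∀ z, z ∈ ψ ''ᵁ Rc → p₁ z ≠ t₁ := hRev.self_of_nhds
  filter_upwards [hall, hRev] with t ht1 ht2
  rw [hdec t, hdec t₁, hR0 t ht2, hR0 t₁ hRt₁]
  congr 1
  exact finsum_congr ht1

end Groth.Agent.Lib.Weight34
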