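import Mathlib
import Groth.Agent.Lib.PropA34b
import Groth.Agent.Lib.Weight34C

/-!
# Condition (B) for integral morphisms (helper34)

* `Pieces p₁ g u₀`: finitely many disjoint opens covering `P`, each mapping to `U` over `X`
  (`p₁ : P ⟶ X`, `g : U ⟶ X`), a marked one hitting `u₀`.
* `pieces_of_cover`: disjointification of a finite clopen cover.
* `LocB f g y₀ u₀`: after an étale neighbourhood `V'` of `y₀`, `X ×_Y V'` has `Pieces`.
* `locB_finite`: `LocB` for finite `f`, étale `g` whose image contains the fibre over `y₀`.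
* `locB_of_descent`, `locB_of_refine`, `locB_of_restrict`: formal properties.
* `locB_integral`: `LocB` for integral `f` (descent to a finite subalgebra).
* `refine_pieces`, `propB_integral`: `BigSite.PropB f` for integral `f` (statement S6630).
-/

set_option autoImplicit false
universe u
open CategoryTheory CategoryTheory.Limits AlgebraicGeometry TensorProduct

namespace Groth.Agent.Lib.PropB34

open Groth.Agent.Lib.PropA34

/-- pieces of `P` mapping to `U` over `X`, one of them hitting `u₀` -/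
def Pieces {P X U : Scheme.{u}} (p₁ : P ⟶ X) (g : U ⟶ X) (u₀ : U) : Prop :=
  ∃ (ι : Type) (_ : Finite ι) (W : ι → P.Opens),
    (∀ a b, a ≠ b → Disjoint (W a) (W b)) ∧ (⨆ a, W a) = ⊤ ∧
    ∃ a₀, ∀ a, ∃ h : (W a : Scheme.{u}) ⟶ U, h ≫ g = (W a).ι ≫ p₁ ∧ (a = a₀ → u₀ ∈ Set.range h.base)

/-- disjointification of a finite clopen cover by pieces -/
theorem pieces_of_cover {P X U : Scheme.{u}} (p₁ : P ⟶ X) (g : U ⟶ X) (u₀ : U) {n : ℕ}
    (W : Fin n → P.Opens) (hWc : ∀ j, IsClosed (W j : Set P))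
    (h : ∀ j, (W j : Scheme.{u}) ⟶ U) (hh : ∀ j, h j ≫ g = (W j).ι ≫ p₁)
    (hcov : ∀ p : P, ∃ j, p ∈ W j) (j₀ : Fin n) (hj₀ : u₀ ∈ Set.range (h j₀).base) :
    Pieces p₁ g u₀ := by
  let bad : Fin n → Set P := fun j => (W j₀ : Set P) ∪ ⋃ (j' : Fin n) (_ : j' < j), (W j' : Set P)
  have hbadc : ∀ j, IsClosed (bad j) := fun j =>
    (hWc j₀).union (isClosed_iUnion_of_finite fun j' => isClosed_iUnion_of_finite fun _ => hWc j')
  let W' : Option (Fin n) → P.Opens := fun a =>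
    match a with
    | none => W j₀
    | some j => ⟨(W j : Set P) \ bad j, (W j).isOpen.sdiff (hbadc j)⟩
  refine ⟨Option (Fin n), inferInstance, W', ?_, ?_, none, ?_⟩
  · -- disjoint
    have key : ∀ (j j' : Fin n), j' < j → Disjoint (W' (some j)) (W' (some j')) := by
      intro j j' hlt
      rw [disjoint_iff, eq_bot_iff]
      rintro p ⟨hp1, hp2⟩
      exact (hp1.2 (Or.inr (Set.mem_iUnion₂.mpr ⟨j', hlt, hp2.1⟩))).elim
    have key0 : ∀ j : Fin n, Disjoint (W' (some j)) (W' none) := by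
      intro j
      rw [disjoint_iff, eq_bot_iff]
      rintro p ⟨hp1, hp2⟩
      exact (hp1.2 (Or.inl hp2)).elim
    intro a b hab
    rcases a with _ | j <;> rcases b with _ | j'
    · exact (hab rfl).elim
    · exact (key0 j').symm
    · exact key0 j
    · rcases lt_trichotomy j j' with hlt | heq | hgt
      · exact (key j' j hlt).symm
      · exact (hab (by rw [heq])).elim
      · exact key j j' hgt
  · -- cover
    rw [eq_top_iff]
    rintro p -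
    by_cases hp0 : p ∈ W j₀
    · exact TopologicalSpace.Opens.mem_iSup.mpr ⟨none, hp0⟩
    · -- minimal index containing p
      have hex' : ∃ k, ∃ hk : k < n, p ∈ W ⟨k, hk⟩ := by
        obtain ⟨j, hj⟩ := hcov p
        exact ⟨j.1, j.2, hj⟩
      classical
      obtain ⟨hjn, hpj⟩ := Nat.find_spec hex'
      refine TopologicalSpace.Opens.mem_iSup.mpr ⟨some ⟨Nat.find hex', hjn⟩, hpj, ?_⟩
      rintro (h0 | hmem)
      · exact hp0 h0
      · obtain ⟨j', hlt, hp'⟩ := Set.mem_iUnion₂.mp hmem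
        exact Nat.find_min hex' hlt ⟨j'.2, hp'⟩
  · intro a
    rcases a with _ | j
    · exact ⟨h j₀, hh j₀, fun _ => hj₀⟩
    · have hle : W' (some j) ≤ W j := fun p hp => hp.1
      refine ⟨P.homOfLE hle ≫ h j, ?_, fun hc => (Option.some_ne_none j hc).elim⟩
      rw [Category.assoc, hh j, Scheme.homOfLE_ι_assoc]

theorem core' {X Y U₀ V : Scheme.{u}} (f : X ⟶ Y) [IsSeparated f] (g₀ : U₀ ⟶ X) [Etale g₀]
    (k : U₀ ⟶ Y) (hk : k = g₀ ≫ f) (e : V ⟶ Y) (B : (pullback k e).Opens)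
    (hfin : IsFinite (B.ι ≫ pullback.snd k e)) (b : ↑(pullback k e)) (hb : b ∈ B)
    (huniq : ∀ w, w ∈ B → pullback.snd k e w = pullback.snd k e b → w = b)
    (hpi : ((pullback.snd k e).residueFieldMap b).hom.IsPurelyInseparable) :
    ∃ (W : (pullback f e).Opens) (_ : IsClosed (W : Set ↑(pullback f e)))
      (h : (W : Scheme.{u}) ⟶ U₀),
      h ≫ g₀ = W.ι ≫ pullback.fst f e ∧ ∃ w : (W : Scheme.{u}), h w = pullback.fst k e b ∧
        pullback.snd f e (W.ι w) = pullback.snd k e b := by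
  let φ : pullback k e ⟶ pullback f e :=
    pullback.map k e f e g₀ (𝟙 V) (𝟙 Y) ((Category.comp_id _).trans hk)
      ((Category.comp_id _).trans (Category.id_comp e).symm)
  have hφet : Etale φ :=
    MorphismProperty.pullbackMap (P := @Etale) (inferInstance : Etale g₀)
      (inferInstance : Etale (𝟙 V)) hk (Category.id_comp e).symm
  have hφ1 : φ ≫ pullback.fst f e = pullback.fst k e ≫ g₀ := pullback.lift_fst _ _ _
  have hφ2 : φ ≫ pullback.snd f e = pullback.snd k e :=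
    (pullback.lift_snd _ _ _).trans (Category.comp_id _)
  let ψ : (B : Scheme.{u}) ⟶ pullback f e := B.ι ≫ φ
  have hψet : Etale ψ := inferInstance
  have hψ2 : ψ ≫ pullback.snd f e = B.ι ≫ pullback.snd k e := by
    dsimp only [ψ]; rw [Category.assoc, hφ2]
  have hψfin : IsFinite ψ := by
    have : IsFinite (ψ ≫ pullback.snd f e) := by rw [hψ2]; exact hfin
    exact IsFinite.of_comp ψ (pullback.snd f e)
  obtain ⟨W, hWc, hWiso, hW⟩ := exists_clopen_iso ψ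
  let b' : (B : Scheme.{u}) := ⟨b, hb⟩
  have hb' : B.ι b' = b := rfl
  -- uniqueness in the fibre of ψ
  have hu : ∀ w : (B : Scheme.{u}), ψ w = ψ b' → w = b' := by
    intro w hw
    have h1 : pullback.snd k e (B.ι w) = pullback.snd k e (B.ι b') := by
      have e1 := congr($hψ2 w)
      have e2 := congr($hψ2 b')
      simp only [Scheme.Hom.comp_apply] at e1 e2
      rw [← e1, ← e2, hw]
    have h2 := huniq (B.ι w) w.2 h1
    exact Subtype.ext h2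
  -- residue field at b'
  have hres : IsIso (ψ.residueFieldMap b') := by
    have h1 : IsIso (φ.residueFieldMap (B.ι b')) :=
      isIso_residueFieldMap_of_etale_of_isPurelyInseparable φ (pullback.snd f e)
        (pullback.snd k e) hφ2 b hpi
    have h0 : IsIso (B.ι.residueFieldMap b') := inferInstance
    rw [show ψ = B.ι ≫ φ from rfl, Scheme.residueFieldMap_comp]
    exact @IsIso.comp_isIso _ _ _ _ _ _ _ h1 h0
  have hab : ψ b' ∈ W := (hW _).mpr (finrank_eq_one_of_unique ψ b' hu hres)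
  refine ⟨W, hWc, inv (ψ ∣_ W) ≫ (ψ ⁻¹ᵁ W).ι ≫ B.ι ≫ pullback.fst k e, ?_, ?_⟩
  · simp only [Category.assoc]
    rw [IsIso.inv_comp_eq, ← hφ1, morphismRestrict_ι_assoc]
    simp only [ψ, Category.assoc]
  · refine ⟨⟨ψ b', hab⟩, ?_, ?_⟩
    swap
    · have e1 := congr($hφ2 b)
      simp only [Scheme.Hom.comp_apply] at e1
      exact e1
    have h1 : (ψ ∣_ W) ⟨b', hab⟩ = ⟨ψ b', hab⟩ := by
      apply Subtype.ext
      rw [morphismRestrict_base_coe]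
    have h2 : inv (ψ ∣_ W) ⟨ψ b', hab⟩ = ⟨b', hab⟩ := by
      rw [← h1, ← Scheme.Hom.comp_apply, IsIso.hom_inv_id]; rfl
    simp only [Scheme.Hom.comp_apply]
    rw [h2]; rfl


/-- local form of condition (B) at `y₀`: after an étale neighbourhood of `y₀` the base change of
`X` splits into finitely many disjoint opens each mapping to `U` over `X`, one hitting `u₀` -/
def LocB {X Y U : Scheme.{u}} (f : X ⟶ Y) (g : U ⟶ X) (y₀ : Y) (u₀ : U) : Prop :=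
  ∃ (V' : Scheme.{u}) (v' : V' ⟶ Y) (y' : V'), Etale v' ∧ v' y' = y₀ ∧
    ∃ (P : Scheme.{u}) (p₁ : P ⟶ X) (p₂ : P ⟶ V'), IsPullback p₁ p₂ f v' ∧ Pieces p₁ g u₀

set_option maxHeartbeats 1000000 in
theorem locB_finite {X Y U : Scheme.{u}} (f : X ⟶ Y) [IsFinite f] (g : U ⟶ X) [Etale g]
    (y₀ : Y) (hfib : f ⁻¹' {y₀} ⊆ Set.range g) (u₀ : U) (hu₀ : f (g u₀) = y₀) :
    LocB f g y₀ u₀ := by
  unfold LocB
  -- Step 1: the fibre is finite
  have hfin : (f ⁻¹' {y₀}).Finite := f.finite_preimage_singleton y₀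
  have : Finite ↥(f ⁻¹' {y₀}) := hfin.to_subtype
  obtain ⟨N, ⟨eq⟩⟩ := Finite.exists_equiv_fin ↥(f ⁻¹' {y₀})
  let x : Fin N → X := fun i => (eq.symm i).1
  have hxs : ∀ i, f (x i) = y₀ := fun i => (eq.symm i).2
  have hxall : ∀ z : X, f z = y₀ → ∃ i, z = x i := fun z hz =>
    ⟨eq ⟨z, hz⟩, by simp [x]⟩
  -- Step 2: étale localization of `f`
  obtain ⟨V₁, e₁, y₁, he₁, hy₁, n, A, a, HA, -, hAcov⟩ :=
    Groth.Agent.Lib.EtLocQF.exists_etaleNbhd_purelyInseparable_clopen f y₀ x hxs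
      (fun i => f.quasiFiniteAt (x i))
  -- Step 3
  let f₁ := pullback.snd f e₁
  let g₁ := pullback.snd g (pullback.fst f e₁)
  let q := pullback.fst g (pullback.fst f e₁)
  have hq : q ≫ g = g₁ ≫ pullback.fst f e₁ := pullback.condition
  have hf₁a : ∀ m, f₁ (a m) = y₁ := fun m => (HA m).2.2.2.1
  obtain ⟨w₀, hw₀1, hw₀2⟩ := Scheme.Pullback.exists_preimage_pullback (f := f) (g := e₁)
    (g u₀) y₁ (hu₀.trans hy₁.symm)
  obtain ⟨m₀, hm₀⟩ := hAcov w₀ hw₀2 (by rw [hw₀1]; exact hxall _ hu₀)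
  have ht : ∀ m, ∃ t : U, g t = pullback.fst f e₁ (a m) ∧ (m = m₀ → t = u₀) := by
    intro m
    by_cases hm : m = m₀
    · subst hm
      exact ⟨u₀, by rw [← hm₀, hw₀1], fun _ => rfl⟩
    · have hmem : pullback.fst f e₁ (a m) ∈ f ⁻¹' {y₀} := by
        have hc := congr($(pullback.condition (f := f) (g := e₁)) (a m))
        simp only [Scheme.Hom.comp_apply] at hc
        change f (pullback.fst f e₁ (a m)) = y₀
        rw [hc]
        change e₁ (f₁ (a m)) = y₀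
        rw [hf₁a m, hy₁]
      obtain ⟨t, ht⟩ := hfib hmem
      exact ⟨t, ht, fun h => (hm h).elim⟩
  choose t ht1 ht2 using ht
  have hc : ∀ m, ∃ c : ↑(pullback g (pullback.fst f e₁)), q c = t m ∧ g₁ c = a m := fun m =>
    Scheme.Pullback.exists_preimage_pullback (f := g) (g := pullback.fst f e₁) (t m) (a m) (ht1 m)
  choose c hc1 hc2 using hc
  -- Step 4
  let k := g₁ ≫ f₁
  have hg₁qf : LocallyQuasiFinite g₁ := Groth.Agent.Lib.HenselFin.locallyQuasiFinite_of_etale g₁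
  have hkqf : LocallyQuasiFinite k := inferInstance
  have hks : ∀ m, k (c m) = y₁ := fun m => by
    change f₁ (g₁ (c m)) = y₁
    rw [hc2 m, hf₁a m]
  obtain ⟨V₂, e₂, y₂, he₂, hy₂, n', B, b, HB, -, hBcov⟩ :=
    Groth.Agent.Lib.EtLocQF.exists_etaleNbhd_purelyInseparable k y₁ c hks
      (fun m => k.quasiFiniteAt (c m))
  -- Step 5
  have hcore : ∀ j, ∃ (W : (pullback f₁ e₂).Opens) (_ : IsClosed (W : Set ↑(pullback f₁ e₂)))
      (h : (W : Scheme.{u}) ⟶ pullback g (pullback.fst f e₁)),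
      h ≫ g₁ = W.ι ≫ pullback.fst f₁ e₂ ∧ ∃ w : (W : Scheme.{u}), h w = pullback.fst k e₂ (b j) ∧
        pullback.snd f₁ e₂ (W.ι w) = y₂ := by
    intro j
    obtain ⟨hbB, hBfin, hby, hBuniq, hBpi, -, -⟩ := HB j
    obtain ⟨W, hWc, h, hh, w, hw1, hw2⟩ := core' f₁ g₁ k rfl e₂ (B j) hBfin (b j) hbB
      (fun z hz hz' => hBuniq z hz (hz'.trans hby)) hBpi
    exact ⟨W, hWc, h, hh, w, hw1, hw2.trans hby⟩
  choose W hWc h hh w hw1 hw2 using hcore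
  let f₂ := pullback.snd f₁ e₂
  -- fst of the marked points
  have hwfst : ∀ j, pullback.fst f₁ e₂ ((W j).ι (w j)) = g₁ (pullback.fst k e₂ (b j)) := by
    intro j
    have e1 := congr($(hh j) (w j))
    simp only [Scheme.Hom.comp_apply] at e1
    rw [← e1, hw1 j]
  -- Step 6: key: for each `m` there is `j` with `fst (b j) = c m`
  have hjm : ∀ m, ∃ j, pullback.fst k e₂ (b j) = c m := by
    intro m
    obtain ⟨β, hβ1, hβ2⟩ := Scheme.Pullback.exists_preimage_pullback (f := k) (g := e₂)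
      (c m) y₂ ((hks m).trans hy₂.symm)
    obtain ⟨j, hj⟩ := hBcov β hβ2 ⟨m, hβ1⟩
    exact ⟨j, by rw [← hj, hβ1]⟩
  have hcovfib : ∀ z : ↑(pullback f₁ e₂), f₂ z = y₂ → ∃ j, z ∈ W j := by
    intro z hz
    have hz1 : f₁ (pullback.fst f₁ e₂ z) = y₁ := by
      have hc := congr($(pullback.condition (f := f₁) (g := e₂)) z)
      simp only [Scheme.Hom.comp_apply] at hc
      rw [hc]
      change e₂ (f₂ z) = y₁
      rw [hz, hy₂]
    have hz2 : f (pullback.fst f e₁ (pullback.fst f₁ e₂ z)) = y₀ := by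
      have hc := congr($(pullback.condition (f := f) (g := e₁)) (pullback.fst f₁ e₂ z))
      simp only [Scheme.Hom.comp_apply] at hc
      rw [hc]
      change e₁ (f₁ _) = y₀
      rw [hz1, hy₁]
    obtain ⟨m, hm⟩ := hAcov (pullback.fst f₁ e₂ z) hz1 (hxall _ hz2)
    obtain ⟨j, hj⟩ := hjm m
    refine ⟨j, ?_⟩
    have hfst : pullback.fst f₁ e₂ ((W j).ι (w j)) = a m := by rw [hwfst j, hj, hc2 m]
    have : z = (W j).ι (w j) := by
      refine Groth.Agent.Lib.Weight34.eq_of_isPullback_of_isPurelyInseparable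
        (IsPullback.of_hasPullback f₁ e₂) z _ (by rw [hfst, hm]) (hz.trans (hw2 j).symm) ?_
      rw [hfst]
      exact (HA m).2.2.2.2.2.1
    rw [this]
    exact (w j).2
  -- the special index
  obtain ⟨j₀, hj₀⟩ := hjm m₀
  -- Step 7: shrink
  have hUc : IsClosed (⋃ j, (W j : Set ↑(pullback f₁ e₂))) := isClosed_iUnion_of_finite hWc
  have hUo : IsOpen (⋃ j, (W j : Set ↑(pullback f₁ e₂))) := isOpen_iUnion fun j => (W j).isOpen
  have hRc : IsClosed (⋃ j, (W j : Set ↑(pullback f₁ e₂)))ᶜ := hUo.isClosed_compl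
  have hf₂cl : IsClosedMap f₂ := f₂.isClosedMap
  let V₃ : V₂.Opens := ⟨(f₂ '' (⋃ j, (W j : Set ↑(pullback f₁ e₂)))ᶜ)ᶜ, (hf₂cl _ hRc).isOpen_compl⟩
  have hy₂V₃ : y₂ ∈ V₃ := by
    rintro ⟨z, hzR, hz⟩
    obtain ⟨j, hj⟩ := hcovfib z hz
    exact hzR (Set.mem_iUnion.mpr ⟨j, hj⟩)
  have hP : IsPullback ((f₂ ⁻¹ᵁ V₃).ι ≫ pullback.fst f₁ e₂ ≫ pullback.fst f e₁) (f₂ ∣_ V₃) f
      (V₃.ι ≫ e₂ ≫ e₁) := by
    have sq1 := (isPullback_morphismRestrict f₂ V₃).flip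
    have sq2 := IsPullback.of_hasPullback f₁ e₂
    have sq3 := IsPullback.of_hasPullback f e₁
    have := (sq1.paste_horiz sq2).paste_horiz sq3
    simpa only [Category.assoc] using this
  refine ⟨V₃, V₃.ι ≫ e₂ ≫ e₁, ⟨y₂, hy₂V₃⟩, inferInstance, ?_, _, _, _, hP, ?_⟩
  · change e₁ (e₂ y₂) = y₀
    rw [hy₂, hy₁]
  -- Step 8: the pieces
  let ιP := (f₂ ⁻¹ᵁ V₃).ι
  refine pieces_of_cover _ g u₀ (fun j => ιP ⁻¹ᵁ (W j)) (fun j => (hWc j).preimage ιP.continuous)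
    (fun j => (ιP ∣_ (W j)) ≫ h j ≫ q) ?_ ?_ j₀ ?_
  · intro j
    simp only [Category.assoc]
    rw [hq, reassoc_of% (hh j), morphismRestrict_ι_assoc]
  · intro p
    have hp : f₂ (ιP p) ∈ V₃ := p.2
    have : ιP p ∈ ⋃ j, (W j : Set ↑(pullback f₁ e₂)) := by
      by_contra hcon
      exact hp ⟨ιP p, hcon, rfl⟩
    obtain ⟨j, hj⟩ := Set.mem_iUnion.mp this
    exact ⟨j, hj⟩
  · have hmem : (W j₀).ι (w j₀) ∈ f₂ ⁻¹ᵁ V₃ := by
      change f₂ ((W j₀).ι (w j₀)) ∈ V₃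
      rw [hw2 j₀]; exact hy₂V₃
    let p₀ : (f₂ ⁻¹ᵁ V₃ : Scheme.{u}) := ⟨(W j₀).ι (w j₀), hmem⟩
    have hp₀ : ιP p₀ ∈ W j₀ := (w j₀).2
    refine ⟨⟨p₀, hp₀⟩, ?_⟩
    have e1 : (ιP ∣_ (W j₀)) ⟨p₀, hp₀⟩ = w j₀ := by
      apply Subtype.ext
      rw [morphismRestrict_base_coe]
      rfl
    change q (h j₀ ((ιP ∣_ (W j₀)) ⟨p₀, hp₀⟩)) = u₀
    rw [e1, hw1 j₀, hj₀, hc1 m₀, ht2 m₀ rfl]

/-- descent of one piece -/
theorem piece_descent {X U Xl Ul P Pl : Scheme.{u}} (g : U ⟶ X) (gl : Ul ⟶ Xl) (r : X ⟶ Xl)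
    (s : U ⟶ Ul) (hU : IsPullback s g gl r) (p₁ : P ⟶ X) (p₁l : Pl ⟶ Xl) (ρ : P ⟶ Pl)
    (hsq : IsPullback ρ p₁ p₁l r) (Wl : Pl.Opens) (hl : (Wl : Scheme.{u}) ⟶ Ul)
    (hhl : hl ≫ gl = Wl.ι ≫ p₁l) :
    ∃ h : (ρ ⁻¹ᵁ Wl : Scheme.{u}) ⟶ U, h ≫ g = (ρ ⁻¹ᵁ Wl).ι ≫ p₁ ∧
      ∀ u : U, s u ∈ Set.range hl.base → u ∈ Set.range h.base := by
  have hcompat : ((ρ ∣_ Wl) ≫ hl) ≫ gl = ((ρ ⁻¹ᵁ Wl).ι ≫ p₁) ≫ r := by
    rw [Category.assoc, hhl, morphismRestrict_ι_assoc, hsq.w, Category.assoc]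
  let h : (ρ ⁻¹ᵁ Wl : Scheme.{u}) ⟶ U := hU.lift ((ρ ∣_ Wl) ≫ hl) ((ρ ⁻¹ᵁ Wl).ι ≫ p₁) hcompat
  have hh1 : h ≫ s = (ρ ∣_ Wl) ≫ hl := hU.lift_fst _ _ _
  have hh2 : h ≫ g = (ρ ⁻¹ᵁ Wl).ι ≫ p₁ := hU.lift_snd _ _ _
  refine ⟨h, hh2, ?_⟩
  rintro u ⟨wl, hwl⟩
  have hbig : IsPullback (ρ ∣_ Wl) (h ≫ g) (hl ≫ gl) r := by
    rw [hh2, hhl]
    exact (isPullback_morphismRestrict ρ Wl).paste_vert hsq
  have htop : IsPullback (ρ ∣_ Wl) h hl s := IsPullback.of_bot hbig hh1.symm hU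
  obtain ⟨w, -, hw⟩ := exists_preimage_of_isPullback htop wl u hwl
  exact ⟨w, hw⟩

theorem locB_of_descent {X Y U Xl Ul : Scheme.{u}} (f : X ⟶ Y) (g : U ⟶ X) (y₀ : Y) (u : U)
    (fl : Xl ⟶ Y) (r : X ⟶ Xl) (hr : r ≫ fl = f) (gl : Ul ⟶ Xl) (s : U ⟶ Ul)
    (hU : IsPullback s g gl r) (H : LocB fl gl y₀ (s u)) : LocB f g y₀ u := by
  obtain ⟨V', v', y', hv', hy', Pl, p₁l, p₂l, hPl, ι, hι, Wl, hdisj, hcov, a₀, hmaps⟩ := H
  let ρ : pullback f v' ⟶ Pl := hPl.lift (pullback.fst f v' ≫ r) (pullback.snd f v')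
    (by rw [Category.assoc, hr, pullback.condition])
  have hρ1 : ρ ≫ p₁l = pullback.fst f v' ≫ r := hPl.lift_fst _ _ _
  have hρ2 : ρ ≫ p₂l = pullback.snd f v' := hPl.lift_snd _ _ _
  have hsq : IsPullback ρ (pullback.fst f v') p₁l r := by
    refine IsPullback.of_right (h₁₂ := p₂l) (v₁₃ := v') (h₂₂ := fl) ?_ hρ1 hPl.flip
    rw [hρ2, hr]
    exact (IsPullback.of_hasPullback f v').flip
  refine ⟨V', v', y', hv', hy', pullback f v', pullback.fst f v', pullback.snd f v',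
    IsPullback.of_hasPullback f v', ι, hι, fun a => ρ ⁻¹ᵁ (Wl a), ?_, ?_, a₀, ?_⟩
  · intro a b hab
    have := hdisj a b hab
    rw [disjoint_iff, eq_bot_iff] at this ⊢
    intro p hp
    exact this ⟨hp.1, hp.2⟩
  · rw [eq_top_iff]
    rintro p -
    have : ρ p ∈ (⨆ a, Wl a) := by rw [hcov]; trivial
    obtain ⟨a, ha⟩ := TopologicalSpace.Opens.mem_iSup.mp this
    exact TopologicalSpace.Opens.mem_iSup.mpr ⟨a, ha⟩
  · intro a
    obtain ⟨hl, hhl, hhit⟩ := hmaps a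
    obtain ⟨h, hh, hhit'⟩ := piece_descent g gl r s hU (pullback.fst f v') p₁l ρ hsq (Wl a) hl hhl
    exact ⟨h, hh, fun ha => hhit' u (hhit ha)⟩

theorem locB_of_refine {X Y U U₁ : Scheme.{u}} (f : X ⟶ Y) (g : U ⟶ X) (y₀ : Y) (j : U₁ ⟶ U)
    (u₁ : U₁) (H : LocB f (j ≫ g) y₀ u₁) : LocB f g y₀ (j u₁) := by
  obtain ⟨V', v', y', hv', hy', P, p₁, p₂, hP, ι, hι, W, hdisj, hcov, a₀, hmaps⟩ := H
  refine ⟨V', v', y', hv', hy', P, p₁, p₂, hP, ι, hι, W, hdisj, hcov, a₀, fun a => ?_⟩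
  obtain ⟨h, hh, hhit⟩ := hmaps a
  refine ⟨h ≫ j, by rw [Category.assoc, hh], fun ha => ?_⟩
  obtain ⟨w, hw⟩ := hhit ha
  exact ⟨w, by rw [← hw]; rfl⟩

theorem locB_integral_affine_aux {X Y U₁ : Scheme.{u}} [IsAffine Y] [IsAffine X] [IsAffine U₁]
    (f : X ⟶ Y) [IsIntegralHom f] (g₁ : U₁ ⟶ X) [Etale g₁] (y₀ : Y)
    (hfib : f ⁻¹' {y₀} ⊆ Set.range g₁) (u₁ : U₁) (hu₁ : f (g₁ u₁) = y₀) : LocB f g₁ y₀ u₁ := by
  have hφint : (f.appTop).hom.IsIntegral := f.isIntegral_app ⊤ (isAffineOpen_top Y)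
  have hγet : (g₁.appTop).hom.Etale := (HasRingHomProperty.iff_of_isAffine (P := @Etale)).mp ‹_›
  algebraize [(f.appTop).hom, (g₁.appTop).hom]
  have hint : Algebra.IsIntegral Γ(Y, ⊤) Γ(X, ⊤) := ⟨fun x => hφint x⟩
  obtain ⟨B₀, C₀, _, _, hfin, hE, ⟨e⟩⟩ := exists_finite_descent Γ(Y, ⊤) Γ(X, ⊤) Γ(U₁, ⊤)
  let β : CommRingCat.of B₀ ⟶ Γ(X, ⊤) := CommRingCat.ofHom (algebraMap B₀ Γ(X, ⊤))
  let γ₀ : CommRingCat.of B₀ ⟶ CommRingCat.of C₀ := CommRingCat.ofHom (algebraMap B₀ C₀)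
  let σ : CommRingCat.of C₀ ⟶ Γ(U₁, ⊤) := CommRingCat.ofHom
    ((e.symm : (Γ(X, ⊤) ⊗[B₀] C₀) →+* Γ(U₁, ⊤)).comp
      (Algebra.TensorProduct.includeRight : C₀ →ₐ[B₀] Γ(X, ⊤) ⊗[B₀] C₀).toRingHom)
  let α : Γ(Y, ⊤) ⟶ CommRingCat.of B₀ := CommRingCat.ofHom (algebraMap Γ(Y, ⊤) B₀)
  have hpo : IsPushout β γ₀ g₁.appTop σ := by
    refine (CommRingCat.isPushout_tensorProduct B₀ Γ(X, ⊤) C₀).of_iso (Iso.refl _) (Iso.refl _)
      (Iso.refl _) e.symm.toRingEquiv.toCommRingCatIso ?_ ?_ ?_ ?_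
    · rfl
    · rfl
    · ext b
      simp only [Iso.refl_hom, Category.id_comp]
      change e.symm (b ⊗ₜ 1) = algebraMap Γ(X, ⊤) Γ(U₁, ⊤) b
      rw [← e.symm.commutes b]
      rfl
    · ext c
      rfl
  have hU := isPullback_of_isPushout_appTop g₁ β γ₀ σ hpo
  have hαβ : α ≫ β = f.appTop := by
    ext a
    rfl
  let fl : Spec (CommRingCat.of B₀) ⟶ Y := Spec.map α ≫ Y.isoSpec.inv
  let r : X ⟶ Spec (CommRingCat.of B₀) := X.isoSpec.hom ≫ Spec.map β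
  have hr : r ≫ fl = f := by
    dsimp only [fl, r]
    rw [Category.assoc, ← Spec.map_comp_assoc, hαβ, ← Category.assoc, Scheme.isoSpec_hom_naturality,
      Category.assoc, Iso.hom_inv_id, Category.comp_id]
  have hflfin : IsFinite fl := by
    have : IsFinite (Spec.map α) := by
      rw [IsFinite.SpecMap_iff]
      change (algebraMap Γ(Y, ⊤) B₀).Finite
      exact RingHom.finite_algebraMap.mpr hfin
    infer_instance
  have hglet : Etale (Spec.map γ₀) := by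
    rw [HasRingHomProperty.Spec_iff (P := @Etale)]
    exact RingHom.etale_algebraMap.mpr hE
  -- `r` is surjective
  have hrsurj : Function.Surjective r := by
    have h1 : Function.Surjective (Spec.map β) := by
      have hβint : (algebraMap B₀ Γ(X, ⊤)).IsIntegral := by
        have : Algebra.IsIntegral B₀ Γ(X, ⊤) := Algebra.IsIntegral.tower_top (R := Γ(Y, ⊤))
        exact fun x => Algebra.IsIntegral.isIntegral x
      exact hβint.comap_surjective Subtype.val_injective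
    intro z
    obtain ⟨z', hz'⟩ := h1 z
    obtain ⟨z'', hz''⟩ := X.isoSpec.hom.surjective z'
    exact ⟨z'', by rw [← hz', ← hz'']; rfl⟩
  refine locB_of_descent f g₁ y₀ u₁ fl r hr (Spec.map γ₀) _ hU ?_
  refine locB_finite fl (Spec.map γ₀) y₀ ?_ _ ?_
  · intro z hz
    obtain ⟨x, rfl⟩ := hrsurj z
    have hx : x ∈ f ⁻¹' {y₀} := by
      change f x = y₀
      rw [← hr]; exact hz
    obtain ⟨t, rfl⟩ := hfib hx
    refine ⟨(U₁.isoSpec.hom ≫ Spec.map σ) t, ?_⟩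
    exact congr($(hU.w) t)
  · have e1 : (Spec.map γ₀) ((U₁.isoSpec.hom ≫ Spec.map σ) u₁) = r (g₁ u₁) := congr($(hU.w) u₁)
    have e2 : fl (r (g₁ u₁)) = f (g₁ u₁) := by rw [← hr]; rfl
    rw [e1, e2]
    exact hu₁

theorem locB_integral_of_isAffine {X Y U : Scheme.{u}} [IsAffine Y] (f : X ⟶ Y) [IsIntegralHom f]
    (g : U ⟶ X) [Etale g] (y₀ : Y) (hfib : f ⁻¹' {y₀} ⊆ Set.range g) (u₀ : U)
    (hu₀ : f (g u₀) = y₀) : LocB f g y₀ u₀ := by
  have : IsAffine X := isAffine_of_isAffineHom f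
  have hF : IsCompact (f ⁻¹' {y₀}) := by
    rw [← f.range_fiberι y₀]; exact isCompact_range (f.fiberι y₀).continuous
  have haff : ∀ t : U, ∃ U₁ : U.Opens, IsAffineOpen U₁ ∧ t ∈ U₁ := by
    intro t
    obtain ⟨_, ⟨U₁, hU₁, rfl⟩, ht, -⟩ :=
      U.isBasis_affineOpens.exists_subset_of_mem_open (Set.mem_univ t) isOpen_univ
    exact ⟨U₁, hU₁, ht⟩
  -- choose preimages and affine neighbourhoods
  have hch : ∀ x ∈ f ⁻¹' {y₀}, ∃ U₁ : U.Opens, IsAffineOpen U₁ ∧ x ∈ g '' (U₁ : Set U) := by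
    intro x hx
    obtain ⟨t, rfl⟩ := hfib hx
    obtain ⟨U₁, hU₁, ht⟩ := haff t
    exact ⟨U₁, hU₁, t, ht, rfl⟩
  choose Ux hUx hxUx using hch
  obtain ⟨T, hT⟩ := hF.elim_nhds_subcover' (fun x hx => g '' (Ux x hx : Set U))
    (fun x hx => (g.isOpenMap _ (Ux x hx).isOpen).mem_nhds (hxUx x hx))
  obtain ⟨U₀, hU₀, hu₀U₀⟩ := haff u₀
  -- the family of affine opens
  let Uop : Option ↥T → U.Opens := fun a =>
    match a with
    | none => U₀
    | some x => Ux x.1.1 x.1.2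
  have hUop : ∀ a, IsAffine (Uop a : Scheme.{u}) := fun a => by
    rcases a with _ | x
    · exact hU₀
    · exact hUx x.1.1 x.1.2
  let j : (∐ fun a => (Uop a : Scheme.{u})) ⟶ U := Sigma.desc fun a => (Uop a).ι
  have hj : ∀ a, Sigma.ι (fun a => (Uop a : Scheme.{u})) a ≫ j = (Uop a).ι := fun a =>
    Sigma.ι_desc _ _
  have hjet : Etale j := IsZariskiLocalAtSource.sigmaDesc (fun a => inferInstance)
  let u₁ : ↑(∐ fun a => (Uop a : Scheme.{u})) :=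
    Sigma.ι (fun a => (Uop a : Scheme.{u})) none ⟨u₀, hu₀U₀⟩
  have hu₁ : j u₁ = u₀ := by
    change (Sigma.ι (fun a => (Uop a : Scheme.{u})) none ≫ j) ⟨u₀, hu₀U₀⟩ = u₀
    rw [hj none]; rfl
  rw [← hu₁]
  refine locB_of_refine f g y₀ j u₁ (locB_integral_affine_aux f (j ≫ g) y₀ ?_ u₁ ?_)
  · intro x hx
    have := hT hx
    simp only [Set.mem_iUnion] at this
    obtain ⟨x', hx'T, t, ht, rfl⟩ := this
    refine ⟨Sigma.ι (fun a => (Uop a : Scheme.{u})) (some ⟨x', hx'T⟩) ⟨t, ht⟩, ?_⟩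
    change g ((Sigma.ι (fun a => (Uop a : Scheme.{u})) (some ⟨x', hx'T⟩) ≫ j) ⟨t, ht⟩) = g t
    rw [hj]; rfl
  · change f (g (j u₁)) = y₀
    rw [hu₁]; exact hu₀

theorem locB_of_restrict {X Y U : Scheme.{u}} (f : X ⟶ Y) (g : U ⟶ X) (y₀ : Y) (u₀ : U)
    (Y₀ : Y.Opens) (hy : y₀ ∈ Y₀) (hu₀ : f (g u₀) ∈ Y₀)
    (H : LocB (f ∣_ Y₀) (g ∣_ (f ⁻¹ᵁ Y₀)) ⟨y₀, hy⟩ ⟨u₀, hu₀⟩) : LocB f g y₀ u₀ := by
  obtain ⟨V', v', y', hv', hy', P, p₁, p₂, hP, ι, hι, W, hdisj, hcov, a₀, hmaps⟩ := H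
  refine ⟨V', v' ≫ Y₀.ι, y', inferInstance, ?_, P, p₁ ≫ (f ⁻¹ᵁ Y₀).ι, p₂,
    hP.paste_horiz (isPullback_morphismRestrict f Y₀).flip, ι, hι, W, hdisj, hcov, a₀, fun a => ?_⟩
  · change Y₀.ι (v' y') = y₀
    rw [hy']; rfl
  · obtain ⟨h, hh, hhit⟩ := hmaps a
    refine ⟨h ≫ (g ⁻¹ᵁ (f ⁻¹ᵁ Y₀)).ι, ?_, fun ha => ?_⟩
    · rw [Category.assoc, ← morphismRestrict_ι, reassoc_of% hh]
    · obtain ⟨w, hw⟩ := hhit ha
      refine ⟨w, ?_⟩
      change (g ⁻¹ᵁ (f ⁻¹ᵁ Y₀)).ι (h w) = u₀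
      rw [show h w = ⟨u₀, hu₀⟩ from hw]; rfl

/-- the local form of condition (B) for integral morphisms -/
theorem locB_integral {X Y U : Scheme.{u}} (f : X ⟶ Y) [IsIntegralHom f]
    (g : U ⟶ X) [Etale g] (y₀ : Y) (hfib : f ⁻¹' {y₀} ⊆ Set.range g) (u₀ : U)
    (hu₀ : f (g u₀) = y₀) : LocB f g y₀ u₀ := by
  obtain ⟨Y₀, hY₀, hy⟩ : ∃ Y₀ : Y.Opens, IsAffineOpen Y₀ ∧ y₀ ∈ Y₀ := by
    obtain ⟨_, ⟨Y₀, hY₀, rfl⟩, hy, -⟩ :=
      Y.isBasis_affineOpens.exists_subset_of_mem_open (Set.mem_univ y₀) isOpen_univ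
    exact ⟨Y₀, hY₀, hy⟩
  have : IsAffine (Y₀ : Scheme.{u}) := hY₀
  have : IsIntegralHom (f ∣_ Y₀) :=
    MorphismProperty.of_isPullback (isPullback_morphismRestrict f Y₀).flip inferInstance
  have : Etale (g ∣_ (f ⁻¹ᵁ Y₀)) :=
    MorphismProperty.of_isPullback (isPullback_morphismRestrict g (f ⁻¹ᵁ Y₀)).flip inferInstance
  have hu₀' : f (g u₀) ∈ Y₀ := by rw [hu₀]; exact hy
  refine locB_of_restrict f g y₀ u₀ Y₀ hy hu₀' (locB_integral_of_isAffine _ _ _ ?_ _ ?_)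
  · rintro x' hx'
    have hx1 : f x'.1 = y₀ := by
      have := congrArg Subtype.val hx'
      rwa [morphismRestrict_base_coe] at this
    obtain ⟨t, ht⟩ := hfib hx1
    have htm : t ∈ g ⁻¹ᵁ (f ⁻¹ᵁ Y₀) := by
      change g t ∈ f ⁻¹ᵁ Y₀
      rw [ht]; exact x'.2
    refine ⟨⟨t, htm⟩, ?_⟩
    apply Subtype.ext
    rw [morphismRestrict_base_coe]
    exact ht
  · apply Subtype.ext
    rw [morphismRestrict_base_coe]
    change f ((g ∣_ (f ⁻¹ᵁ Y₀)) ⟨u₀, hu₀'⟩).1 = y₀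
    rw [morphismRestrict_base_coe]
    exact hu₀

/-- refine pieces mapping to a coproduct into pieces mapping to the components -/
theorem refine_pieces {Q P XV : Scheme.{u}} {ι : Type u} (U : ι → Scheme.{u})
    (g : ∀ i, U i ⟶ XV) (p₁ : P ⟶ XV) (m : Q ⟶ XV) (θ : Q ⟶ P) (hθ : θ ≫ p₁ = m)
    (u₀ : ↑(∐ U)) (H : Pieces p₁ (Sigma.desc g) u₀) :
    ∃ (μ : Type u) (W : μ → Q.Opens), (∀ a b, a ≠ b → Disjoint (W a) (W b)) ∧ (⨆ a, W a) = ⊤ ∧
      ∀ a, ∃ (i : ι) (h : (W a : Scheme.{u}) ⟶ U i), h ≫ g i = (W a).ι ≫ m := by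
  obtain ⟨ι', hι', W', hdisj, hcov, a₀, hmaps⟩ := H
  choose h hh _ using hmaps
  let D : ι' × ι → P.Opens := fun ai =>
    (W' ai.1).ι ''ᵁ ((h ai.1) ⁻¹ᵁ (Sigma.ι U ai.2).opensRange)
  have hDle : ∀ ai, D ai ≤ W' ai.1 := by
    rintro ai _ ⟨w, -, rfl⟩
    exact w.2
  have hDmem : ∀ ai (p : P), p ∈ D ai ↔ ∃ w : (W' ai.1 : Scheme.{u}), (W' ai.1).ι w = p ∧
      h ai.1 w ∈ Set.range (Sigma.ι U ai.2) := by
    intro ai p
    constructor
    · rintro ⟨w, hw, rfl⟩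
      exact ⟨w, rfl, hw⟩
    · rintro ⟨w, rfl, hw⟩
      exact ⟨w, hw, rfl⟩
  refine ⟨ι' × ι, fun ai => θ ⁻¹ᵁ (D ai), ?_, ?_, ?_⟩
  · rintro ⟨a, i⟩ ⟨b, i'⟩ hab
    rw [disjoint_iff, eq_bot_iff]
    rintro q ⟨hq1, hq2⟩
    obtain ⟨w, hw, hwi⟩ := (hDmem (a, i) (θ q)).mp hq1
    obtain ⟨w', hw', hwi'⟩ := (hDmem (b, i') (θ q)).mp hq2
    by_cases hab' : a = b
    · subst hab'
      have hww : w = w' := (W' a).ι.injective (hw.trans hw'.symm)
      subst hww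
      have hii : i ≠ i' := fun hc => hab (by rw [hc])
      have := disjoint_opensRange_sigmaι U i i' hii
      rw [disjoint_iff, eq_bot_iff] at this
      exact (this ⟨hwi, hwi'⟩).elim
    · have := hdisj a b hab'
      rw [disjoint_iff, eq_bot_iff] at this
      exact (this ⟨hDle (a, i) hq1, hDle (b, i') hq2⟩).elim
  · rw [eq_top_iff]
    rintro q -
    have : θ q ∈ (⨆ a, W' a) := by rw [hcov]; trivial
    obtain ⟨a, ha⟩ := TopologicalSpace.Opens.mem_iSup.mp this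
    obtain ⟨i, y, hy⟩ := (AlgebraicGeometry.sigmaOpenCover U).exists_eq (h a ⟨θ q, ha⟩)
    refine TopologicalSpace.Opens.mem_iSup.mpr ⟨(a, i), ?_⟩
    exact (hDmem (a, i) (θ q)).mpr ⟨⟨θ q, ha⟩, rfl, ⟨y, hy⟩⟩
  · rintro ⟨a, i⟩
    let k : (θ ⁻¹ᵁ (D (a, i)) : Scheme.{u}) ⟶ ∐ U :=
      (θ ∣_ (D (a, i))) ≫ P.homOfLE (hDle (a, i)) ≫ h a
    have hk : Set.range k ⊆ Set.range (Sigma.ι U i) := by
      rintro _ ⟨z, rfl⟩
      obtain ⟨w, hw, hwi⟩ := (hDmem (a, i) _).mp ((θ ∣_ (D (a, i))) z).2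
      have : P.homOfLE (hDle (a, i)) ((θ ∣_ (D (a, i))) z) = w := by
        apply (W' a).ι.injective
        rw [hw, ← Scheme.Hom.comp_apply, Scheme.homOfLE_ι]
        rfl
      change h a (P.homOfLE (hDle (a, i)) ((θ ∣_ (D (a, i))) z)) ∈ _
      rw [this]; exact hwi
    refine ⟨i, IsOpenImmersion.lift (Sigma.ι U i) k hk, ?_⟩
    have hg : g i = Sigma.ι U i ≫ Sigma.desc g := (Sigma.ι_desc _ _).symm
    rw [hg, IsOpenImmersion.lift_fac_assoc]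
    dsimp only [k]
    simp only [Category.assoc]
    rw [hh a, Scheme.homOfLE_ι_assoc, morphismRestrict_ι_assoc, hθ]

theorem propB_integral {X Y : Scheme.{u}} (f : X ⟶ Y) [IsIntegralHom f] : BigSite.PropB f := by
  intro V v _ ι U g hg hcov
  have hπcl : IsClosed (Set.range (pullback.snd f v)) := (pullback.snd f v).isClosedMap.isClosed_range
  have hget : Etale (Sigma.desc g) := IsZariskiLocalAtSource.sigmaDesc hg
  have hgsurj : ∀ x : ↑(pullback f v), ∃ t : ↑(∐ U), (Sigma.desc g) t = x := by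
    intro x
    obtain ⟨i, t, ht⟩ := hcov x
    refine ⟨Sigma.ι U i t, ?_⟩
    rw [← Scheme.Hom.comp_apply, Sigma.ι_desc]
    exact ht
  have key : ∀ y₀ : V, ∃ (V' : Scheme.{u}) (v' : V' ⟶ V), Etale v' ∧ y₀ ∈ Set.range v'.base ∧
      ∃ (μ : Type u) (W : μ → (pullback f (v' ≫ v)).Opens),
        (∀ a b, a ≠ b → Disjoint (W a) (W b)) ∧ (⨆ a, W a) = ⊤ ∧
        ∀ a, ∃ (i : ι) (h : ((W a : (pullback f (v' ≫ v)).Opens) : Scheme.{u}) ⟶ U i),
          h ≫ g i = (W a).ι ≫ pullback.map f (v' ≫ v) f v (𝟙 X) v' (𝟙 Y) (by simp) (by simp) := by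
    intro y₀
    by_cases hy₀ : y₀ ∈ Set.range (pullback.snd f v)
    · obtain ⟨x₀, hx₀⟩ := hy₀
      obtain ⟨u₀, hu₀⟩ := hgsurj x₀
      obtain ⟨V', v', y', hv', hy', P, p₁, p₂, hP, hpieces⟩ :=
        locB_integral (pullback.snd f v) (Sigma.desc g) y₀
          (fun x _ => hgsurj x) u₀ (by rw [hu₀, hx₀])
      refine ⟨V', v', hv', ⟨y', hy'⟩, ?_⟩
      -- the pullback square for `pullback f (v' ≫ v)`
      have hm2 : pullback.map f (v' ≫ v) f v (𝟙 X) v' (𝟙 Y) (by simp) (by simp) ≫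
          pullback.snd f v = pullback.snd f (v' ≫ v) ≫ v' := pullback.lift_snd _ _ _
      have hm1 : pullback.map f (v' ≫ v) f v (𝟙 X) v' (𝟙 Y) (by simp) (by simp) ≫
          pullback.fst f v = pullback.fst f (v' ≫ v) :=
        (pullback.lift_fst _ _ _).trans (Category.comp_id _)
      have hQ : IsPullback (pullback.map f (v' ≫ v) f v (𝟙 X) v' (𝟙 Y) (by simp) (by simp))
          (pullback.snd f (v' ≫ v)) (pullback.snd f v) v' := by
        refine IsPullback.of_right (h₁₂ := pullback.fst f v) (v₁₃ := f) (h₂₂ := v) ?_ hm2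
          (IsPullback.of_hasPullback f v)
        rw [hm1]
        exact IsPullback.of_hasPullback f (v' ≫ v)
      exact refine_pieces U g p₁ _ (hQ.isoIsPullback _ _ hP).hom (hQ.isoIsPullback_hom_fst _ _ hP)
        u₀ hpieces
    · -- empty fibre
      let O : V.Opens := ⟨(Set.range (pullback.snd f v))ᶜ, hπcl.isOpen_compl⟩
      refine ⟨O, O.ι, inferInstance, ⟨⟨y₀, hy₀⟩, rfl⟩, PEmpty, PEmpty.elim, fun a => a.elim, ?_,
        fun a => a.elim⟩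
      rw [eq_top_iff]
      rintro z -
      exfalso
      have hm2 : pullback.map f (O.ι ≫ v) f v (𝟙 X) O.ι (𝟙 Y) (by simp) (by simp) ≫
          pullback.snd f v = pullback.snd f (O.ι ≫ v) ≫ O.ι := pullback.lift_snd _ _ _
      have := congr($hm2 z)
      simp only [Scheme.Hom.comp_apply] at this
      exact (pullback.snd f (O.ι ≫ v) z).2 ⟨_, this⟩
  choose V' v' hv' hy' μ W hdisj hcovW hmaps using key
  exact ⟨V, V', v', hv', fun y => ⟨y, hy' y⟩, fun j => ⟨μ j, W j, hdisj j, hcovW j, hmaps j⟩⟩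

end Groth.Agent.Lib.PropB34
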