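import Mathlib
import Groth.Agent.Lib.PropB34
import Groth.Prelude.Def_BigSite

/-!
# Condition (C) for integral closed embeddings (helper34)

* `glue_of_disjoint_cover`: glue morphisms along an open cover with pairwise disjoint members.
* `glue_pieces`: from `Pieces p₁ g u₀` a single `H : P ⟶ U` over `X` hitting `u₀`.
* `propC_of_locB`: if `LocB f g (f (g u)) u` holds for all `u` then condition (C) holds for `g`.
-/

set_option autoImplicit false
universe u
open CategoryTheory CategoryTheory.Limits AlgebraicGeometry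

namespace Groth.Agent.Lib.PropC34

open Groth.Agent.Lib.PropB34

/-- glue morphisms along an open cover whose members have pairwise disjoint ranges -/
theorem glue_of_disjoint_cover {P U : Scheme.{u}} (𝒰 : P.OpenCover)
    (hdisj : ∀ a b, a ≠ b → Disjoint (Set.range (𝒰.f a)) (Set.range (𝒰.f b)))
    (h : ∀ a, 𝒰.X a ⟶ U) : ∃ H : P ⟶ U, ∀ a, 𝒰.f a ≫ H = h a := by
  refine ⟨𝒰.glueMorphisms h ?_, fun a => 𝒰.ι_glueMorphisms h _ a⟩
  intro a b
  by_cases hab : a = b
  · subst hab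
    have : pullback.fst (𝒰.f a) (𝒰.f a) = pullback.snd (𝒰.f a) (𝒰.f a) := by
      rw [← cancel_mono (𝒰.f a)]
      exact pullback.condition
    rw [this]
  · have : IsEmpty ↑(pullback (𝒰.f a) (𝒰.f b)) := by
      refine ⟨fun z => ?_⟩
      have h1 := congr($(pullback.condition (f := 𝒰.f a) (g := 𝒰.f b)) z)
      simp only [Scheme.Hom.comp_apply] at h1
      exact Set.disjoint_left.1 (hdisj a b hab) ⟨_, rfl⟩ ⟨_, h1.symm⟩
    exact (isInitialOfIsEmpty (X := pullback (𝒰.f a) (𝒰.f b))).hom_ext _ _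

/-- glue the pieces into one morphism -/
theorem glue_pieces {P X U : Scheme.{u}} (p₁ : P ⟶ X) (g : U ⟶ X) (u₀ : U)
    (hP : Pieces p₁ g u₀) : ∃ H : P ⟶ U, H ≫ g = p₁ ∧ u₀ ∈ Set.range H := by
  obtain ⟨ι, _, W, hdisj, hcov, a₀, hW⟩ := hP
  choose h hh hu using hW
  let 𝒰 : P.OpenCover := P.openCoverOfIsOpenCover W hcov
  obtain ⟨H, hH⟩ := glue_of_disjoint_cover 𝒰 (fun a b hab => by
    have := hdisj a b hab
    change Disjoint (Set.range (W a).ι) (Set.range (W b).ι)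
    rw [Scheme.Opens.range_ι, Scheme.Opens.range_ι]
    exact (TopologicalSpace.Opens.coe_disjoint).2 this) h
  refine ⟨H, ?_, ?_⟩
  · refine 𝒰.hom_ext _ _ fun a => ?_
    rw [← Category.assoc, hH a]
    exact hh a
  · obtain ⟨w, hw⟩ := hu a₀ rfl
    refine ⟨(W a₀).ι w, ?_⟩
    rw [← hw, ← hH a₀]
    rfl

set_option backward.isDefEq.respectTransparency false in
theorem propC_of_locB {X Y U : Scheme.{u}} (f : X ⟶ Y) (g : U ⟶ X)
    (hloc : ∀ u : U, LocB f g (f (g u)) u) :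
    ∃ (V : Scheme.{u}) (v : V ⟶ Y) (_ : Etale v) (h : pullback f v ⟶ U),
      h ≫ g = pullback.fst f v ∧ Surjective h := by
  choose V' v' y' hv' hy' P p₁ p₂ hpb hP using hloc
  have hglue := fun u => glue_pieces (p₁ u) g u (hP u)
  choose H hHg hHu using hglue
  let V : Scheme.{u} := ∐ V'
  let v : V ⟶ Y := Sigma.desc v'
  have hv : Etale v := IsZariskiLocalAtSource.sigmaDesc hv'
  let 𝒱 : V.OpenCover := sigmaOpenCover V'
  let 𝒰 : (pullback f v).OpenCover := Scheme.Pullback.openCoverOfRight 𝒱 f v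
  have hιv : ∀ u, Sigma.ι V' u ≫ v = v' u := fun u => Sigma.ι_desc _ _
  let θ : ∀ u, pullback f (Sigma.ι V' u ≫ v) ⟶ P u := fun u =>
    (hpb u).lift (pullback.fst _ _) (pullback.snd _ _) (by rw [pullback.condition, hιv])
  let θ' : ∀ u, P u ⟶ pullback f (Sigma.ι V' u ≫ v) := fun u =>
    pullback.lift (p₁ u) (p₂ u) (by rw [hιv]; exact (hpb u).w)
  have hθ : ∀ u, θ' u ≫ θ u = 𝟙 _ := by
    intro u
    apply (hpb u).hom_ext
    · simp [θ, θ']
    · simp [θ, θ']
  have hdisj : ∀ a b, a ≠ b → Disjoint (Set.range (𝒰.f a)) (Set.range (𝒰.f b)) := by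
    intro a b hab
    rw [Set.disjoint_left]
    rintro z ⟨za, rfl⟩ ⟨zb, hzb⟩
    have h1 : 𝒰.f a ≫ pullback.snd f v = pullback.snd _ _ ≫ Sigma.ι V' a := by
      simp [𝒰, 𝒱, Scheme.Pullback.openCoverOfRight]
    have h2 : 𝒰.f b ≫ pullback.snd f v = pullback.snd _ _ ≫ Sigma.ι V' b := by
      simp [𝒰, 𝒱, Scheme.Pullback.openCoverOfRight]
    have e1 := congr($h1 za)
    have e2 := congr($h2 zb)
    simp only [Scheme.Hom.comp_apply] at e1 e2
    rw [hzb, e1] at e2
    have := disjoint_opensRange_sigmaι V' a b hab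
    exact Set.disjoint_left.1 ((TopologicalSpace.Opens.coe_disjoint).2 this) ⟨_, rfl⟩ ⟨_, e2.symm⟩
  obtain ⟨h, hh⟩ := glue_of_disjoint_cover 𝒰 hdisj (fun u => θ u ≫ H u)
  refine ⟨V, v, hv, h, ?_, ⟨fun u => ?_⟩⟩
  · refine 𝒰.hom_ext _ _ fun a => ?_
    rw [← Category.assoc, hh a, Category.assoc, hHg a]
    simp [θ, 𝒰, 𝒱, Scheme.Pullback.openCoverOfRight]
    rfl
  · obtain ⟨w, hw⟩ := hHu u
    have e : (θ' u ≫ 𝒰.f u ≫ h) w = u := by
      rw [hh u, ← Category.assoc, hθ u, Category.id_comp]; exact hw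
    exact ⟨𝒰.f u (θ' u w), e⟩

end Groth.Agent.Lib.PropC34
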