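import Mathlib
import Groth.Agent.Lib.PropC34
import Groth.Prelude.Def_EtBase

/-!
# Lifting étale neighbourhoods along integral morphisms (helper34)

Generalises helper39's `EtLiftClosed.exists_lift_etale_nbhd` (closed immersions) to integral
morphisms, in the small-étale-site form.

* `exists_lift_etale_nbhd_of_fibre`: `f : X ⟶ Y` integral, `U` étale over `X`, `u ∈ U` such that the
  whole fibre of `f` through the image of `u` lies in the image of `U`: there are `V` étale over `Y`,
  `h : (EtCoh.bc f).obj V ⟶ U` in `X.Etale` and a point `p` with `h p = u`.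
* `exists_lift_etale_nbhd_of_injective`: the same for integral `f` injective on points (e.g. integral
  and universally injective), with no condition on `u`.
* `isInducing_fst_of_integral_injective`: for integral, universally injective `f`, every base change
  `pullback.fst W.hom f` is a topological embedding (closed embedding).
-/

set_option autoImplicit false
universe u
open CategoryTheory CategoryTheory.Limits AlgebraicGeometry

namespace Groth.Agent.Lib.EtLiftInt34

open Groth.Agent.Lib.PropB34 Groth.Agent.Lib.PropC34

theorem exists_lift_etale_nbhd_of_fibre {X Y : Scheme.{u}} (f : X ⟶ Y) [IsIntegralHom f]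
    (U : X.Etale) (u : U.left) (hfib : f ⁻¹' {f (U.hom u)} ⊆ Set.range U.hom) :
    ∃ (V : Y.Etale) (h : (EtCoh.bc f).obj V ⟶ U) (p : ((EtCoh.bc f).obj V).left), h.left p = u := by
  obtain ⟨V', v', y', hv', -, P, p₁, p₂, hpb, hP⟩ := locB_integral f U.hom (f (U.hom u)) hfib u rfl
  obtain ⟨H, hH, w, hw⟩ := glue_pieces p₁ U.hom u hP
  let e : P ≅ pullback v' f := hpb.flip.isoPullback
  refine ⟨Scheme.Etale.mk v', MorphismProperty.Over.homMk (e.inv ≫ H) ?_ trivial, e.hom w, ?_⟩
  · change (e.inv ≫ H) ≫ U.hom = pullback.snd v' f
    rw [Category.assoc, hH]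
    exact hpb.flip.isoPullback_inv_snd
  · change (e.inv ≫ H) (e.hom w) = u
    rw [← Scheme.Hom.comp_apply, ← Category.assoc, e.hom_inv_id, Category.id_comp]
    exact hw

theorem exists_lift_etale_nbhd_of_injective {X Y : Scheme.{u}} (f : X ⟶ Y) [IsIntegralHom f]
    (hf : Function.Injective f) (U : X.Etale) (u : U.left) :
    ∃ (V : Y.Etale) (h : (EtCoh.bc f).obj V ⟶ U) (p : ((EtCoh.bc f).obj V).left), h.left p = u :=
  exists_lift_etale_nbhd_of_fibre f U u fun _ hx' => ⟨u, (hf hx').symm⟩

/-- base changes of an integral universally injective morphism are closed embeddings -/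
theorem isClosedEmbedding_fst {X Y W : Scheme.{u}} (f : X ⟶ Y) [IsIntegralHom f]
    [UniversallyInjective f] (w : W ⟶ Y) :
    Topology.IsClosedEmbedding (pullback.fst w f) := by
  have h1 : IsIntegralHom (pullback.fst w f) := inferInstance
  have h2 : UniversallyInjective (pullback.fst w f) :=
    MorphismProperty.pullback_fst (P := @UniversallyInjective) w f inferInstance
  exact Topology.IsClosedEmbedding.of_continuous_injective_isClosedMap
    (pullback.fst w f).continuous (pullback.fst w f).injective (pullback.fst w f).isClosedMap

end Groth.Agent.Lib.EtLiftInt34
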