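import Groth.Agent.Lib.EtClosedStalk
import Groth.Agent.Lib.EtLiftInt34

/-!
# Stalks of direct images along integral universally injective morphisms (helper34)

Generalisation of helper39's `Lib/EtClosedStalk` (closed immersions; the proofs below are theirs with
the two uses of the closed-immersion hypothesis abstracted) to morphisms `i : Z ⟶ X` such that
* étale neighbourhoods lift along `i` (`HasLift i`), and
* every base change of `i` along an étale map is a topological embedding (`HasInd i`).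
Both hold for integral universally injective `i`.

* `isIso_counit_app`: the counit `i⁻¹ i_* G ⟶ G` is an isomorphism;
* `fullyFaithfulPush`, `stalkPushIso`.
-/

set_option autoImplicit false
universe u
open CategoryTheory CategoryTheory.Limits AlgebraicGeometry Opposite

namespace Groth.Agent.Lib.EtIntStalk34

open Groth.Agent.Lib.EtGerm Groth.Agent.Lib.EtStalkPull Groth.Agent.Lib.EtStalkPullGerm
  Groth.Agent.Lib.EtStalkConservative Groth.Agent.Lib.EtAbStalk
  Groth.Agent.Lib.EtClosedStalk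

variable {Z X : Scheme.{u}} (i : Z ⟶ X)

/-- étale neighbourhoods lift along `i` -/
def HasLift : Prop :=
  ∀ (T : Z.Etale) (t : T.left), ∃ (V : X.Etale) (h : (EtCoh.bc i).obj V ⟶ T)
    (p : ((EtCoh.bc i).obj V).left), h.left p = t

/-- étale base changes of `i` are topological embeddings -/
def HasInd : Prop :=
  ∀ W : X.Etale, Topology.IsInducing (pullback.fst W.hom i)

theorem hasLift_of_integral [IsIntegralHom i] (hi : Function.Injective i) : HasLift i :=
  fun T t => Groth.Agent.Lib.EtLiftInt34.exists_lift_etale_nbhd_of_injective i hi T t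

theorem hasInd_of_integral [IsIntegralHom i] [UniversallyInjective i] : HasInd i :=
  fun W => (Groth.Agent.Lib.EtLiftInt34.isClosedEmbedding_fst i W.hom).toIsEmbedding.toIsInducing

variable {Ω : Type u} [Field Ω] [IsSepClosed Ω] (ζ : Spec (CommRingCat.of Ω) ⟶ Z)

lemma surjective_stalk_counit (hL : HasLift i) (G : EtCoh.Ab Z) :
    Function.Surjective ((EtCoh.stalk ζ).map ((EtCoh.pullPushAdj i).counit.app G)) := by
  intro τ
  obtain ⟨T, t, σ, rfl⟩ := germ_jointly_surjective ζ G τ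
  obtain ⟨V, h, p, hp⟩ := hL T (Nbhd.pt ζ t)
  obtain ⟨z', hz', -⟩ := exists_nbhd_lift ζ h t p hp
  refine ⟨(stalkPullIso i ζ).inv.app ((EtCoh.push i).obj G)
    (germ (ζ ≫ i) ((EtCoh.push i).obj G) (pushNbhd i ζ z') (G.obj.map h.op σ)), ?_⟩
  rw [stalk_counit_germ, pullNbhd_pushNbhd, germ_res, hz']

lemma germ_push_eq_zero_of_germ_eq_zero (hL : HasLift i) (hI : HasInd i)
    (G : EtCoh.Ab Z) {V : X.Etale} (y : Nbhd (ζ ≫ i) V)
    (s : EtCoh.sect ((EtCoh.push i).obj G) V) (h0 : germ ζ G (pullNbhd i ζ y) s = 0) :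
    germ (ζ ≫ i) ((EtCoh.push i).obj G) y s = 0 := by
  obtain ⟨T, k, t, hkt, hks⟩ := (germ_eq_zero_iff ζ G (pullNbhd i ζ y) s).1 h0
  obtain ⟨V', h, p, hp⟩ := hL T (Nbhd.pt ζ t)
  obtain ⟨z', hz', -⟩ := exists_nbhd_lift ζ h t p hp
  obtain ⟨W, a, b, w, haw, hbw⟩ := exists_common_nbhd (ζ ≫ i) (pushNbhd i ζ z') y
  let b₁ : (EtCoh.bc i).obj W ⟶ (EtCoh.bc i).obj V := (EtCoh.bc i).map b
  let b₂ : (EtCoh.bc i).obj W ⟶ (EtCoh.bc i).obj V := (EtCoh.bc i).map a ≫ h ≫ k
  have hn : Nbhd.map ζ b₁ (pullNbhd i ζ w) = Nbhd.map ζ b₂ (pullNbhd i ζ w) := by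
    have e1 : Nbhd.map ζ b₁ (pullNbhd i ζ w) = pullNbhd i ζ y := by
      rw [← pullNbhd_map, hbw]
    have e2 : Nbhd.map ζ b₂ (pullNbhd i ζ w) = pullNbhd i ζ y := by
      rw [Nbhd_map_comp, Nbhd_map_comp, ← pullNbhd_map, haw, pullNbhd_pushNbhd, hz', hkt]
    rw [e1, e2]
  obtain ⟨O, hnO, hO⟩ := exists_open_eq_of_nbhd_eq ζ b₁ b₂ (pullNbhd i ζ w) hn
  -- `O` comes from an open of `W`
  obtain ⟨O's, hO's, hO'eq⟩ := (hI W).isOpen_iff.1 O.2
  let O' : W.left.Opens := ⟨O's, hO's⟩
  have hmemO : ∀ q : ((EtCoh.bc i).obj W).left, q ∈ O ↔ (pullback.fst W.hom i) q ∈ O' := by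
    intro q
    have : q ∈ (O : Set _) ↔ q ∈ (pullback.fst W.hom i) ⁻¹' O's := by rw [hO'eq]; rfl
    exact this
  have hw : Nbhd.pt (ζ ≫ i) w ∈ O' := by
    have h1 := (hmemO _).1 hnO
    rw [← pt_pushNbhd, pushNbhd_pullNbhd] at h1
    exact h1
  obtain ⟨z, hz⟩ := exists_nbhd_openSub (ζ ≫ i) O' w hw
  refine (germ_eq_zero_iff (ζ ≫ i) ((EtCoh.push i).obj G) y s).2
    ⟨openSub W O', openSubι W O' ≫ b, z, ?_, ?_⟩
  · rw [Nbhd_map_comp, hz, hbw]
  · -- the comparison map `c`
    have hrange : Set.range ((EtCoh.bc i).map (openSubι W O')).left ⊆ Set.range O.ι := by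
      rintro _ ⟨q, rfl⟩
      rw [Scheme.Opens.range_ι]
      show ((EtCoh.bc i).map (openSubι W O')).left q ∈ O
      rw [hmemO]
      have e := (EtCoh.isPullback_bc_map i (openSubι W O')).w
      have e' := congrArg (fun k : ((EtCoh.bc i).obj (openSub W O')).left ⟶ W.left => k q) e
      refine (congrArg (· ∈ O') e').mpr ?_
      exact ((pullback.fst (openSub W O').hom i) q).2
    have hOι : IsOpenImmersion O.ι :=
      inferInstanceAs (IsOpenImmersion (Scheme.Opens.ι (X := pullback W.hom i) O))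
    let cl : ((EtCoh.bc i).obj (openSub W O')).left ⟶ (openSub ((EtCoh.bc i).obj W) O).left :=
      @IsOpenImmersion.lift _ _ _ O.ι ((EtCoh.bc i).map (openSubι W O')).left hOι hrange
    have hcl' : cl ≫ O.ι = ((EtCoh.bc i).map (openSubι W O')).left :=
      @IsOpenImmersion.lift_fac _ _ _ O.ι ((EtCoh.bc i).map (openSubι W O')).left hOι hrange
    let c : (EtCoh.bc i).obj (openSub W O') ⟶ openSub ((EtCoh.bc i).obj W) O :=
      MorphismProperty.Over.homMk cl (by
        show cl ≫ O.ι ≫ ((EtCoh.bc i).obj W).hom = _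
        rw [← Category.assoc, hcl']
        exact Over.w ((EtCoh.bc i).map (openSubι W O')).hom) trivial
    have hc : c ≫ openSubι ((EtCoh.bc i).obj W) O = (EtCoh.bc i).map (openSubι W O') := by
      apply MorphismProperty.Over.Hom.ext
      exact hcl'
    have hfact : (EtCoh.bc i).map (openSubι W O' ≫ b) =
        ((c ≫ openSubι ((EtCoh.bc i).obj W) O ≫ (EtCoh.bc i).map a ≫ h) ≫ k) := by
      rw [Functor.map_comp, ← hc]
      simp only [Category.assoc]
      exact congrArg (fun m => c ≫ m) hO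
    show G.obj.map ((EtCoh.bc i).map (openSubι W O' ≫ b)).op s = 0
    rw [hfact, op_comp, Functor.map_comp]
    show G.obj.map _ (G.obj.map k.op s) = 0
    rw [hks, map_zero]

lemma injective_stalk_counit (hL : HasLift i) (hI : HasInd i) (G : EtCoh.Ab Z) :
    Function.Injective ((EtCoh.stalk ζ).map ((EtCoh.pullPushAdj i).counit.app G)) := by
  rw [injective_iff_map_eq_zero]
  intro a ha
  obtain ⟨V, y, s, hs⟩ := germ_jointly_surjective (ζ ≫ i) ((EtCoh.push i).obj G)
    ((stalkPullIso i ζ).hom.app ((EtCoh.push i).obj G) a)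
  have ha' : a = (stalkPullIso i ζ).inv.app ((EtCoh.push i).obj G)
      (germ (ζ ≫ i) ((EtCoh.push i).obj G) y s) := by
    rw [hs]
    exact (Iso.hom_inv_id_app_apply (stalkPullIso i ζ) ((EtCoh.push i).obj G) a).symm
  rw [ha', stalk_counit_germ] at ha
  rw [ha', germ_push_eq_zero_of_germ_eq_zero i ζ hL hI G y s ha, map_zero]

/-- the counit `i⁻¹ i_* G ⟶ G` is an isomorphism -/
theorem isIso_counit_app (hL : HasLift i) (hI : HasInd i) (G : EtCoh.Ab Z) :
    IsIso ((EtCoh.pullPushAdj i).counit.app G) :=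
  isIso_of_forall_stdPt _ (fun z =>
    ⟨injective_stalk_counit i (stdPt z) hL hI G, surjective_stalk_counit i (stdPt z) hL G⟩)

theorem isIso_counit (hL : HasLift i) (hI : HasInd i) : IsIso (EtCoh.pullPushAdj i).counit :=
  have := isIso_counit_app i hL hI
  NatIso.isIso_of_isIso_app _

/-- direct image is fully faithful -/
noncomputable def fullyFaithfulPush (hL : HasLift i) (hI : HasInd i) :
    (EtCoh.push i).FullyFaithful :=
  have := isIso_counit i hL hI
  (EtCoh.pullPushAdj i).fullyFaithfulROfIsIsoCounit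

/-- stalks of the direct image -/
noncomputable def stalkPushIso (hL : HasLift i) (hI : HasInd i) (G : EtCoh.Ab Z) :
    (EtCoh.stalk (ζ ≫ i)).obj ((EtCoh.push i).obj G) ≅ (EtCoh.stalk ζ).obj G :=
  (stalkPullIso i ζ).symm.app ((EtCoh.push i).obj G) ≪≫
    (EtCoh.stalk ζ).mapIso (@asIso _ _ _ _ _ (isIso_counit_app i hL hI G))

end Groth.Agent.Lib.EtIntStalk34
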