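import Groth.Agent.Lib.DerivedFFExact65
import Groth.Agent.Lib.EtIntStalk34
import Groth.Agent.Lib.EtExtZero2
import Groth.Agent.Lib.EtGeomPtConservative39
import Groth.Agent.Lib.EtPullExact95
import Groth.Prelude.Def_DCoh2

/-!
# `i_* : D(Z_et) → D(X_et)` for a closed immersion (helper65) — S6659
-/

set_option autoImplicit false
universe u
open CategoryTheory CategoryTheory.Limits AlgebraicGeometry Opposite
attribute [local instance] HasDerivedCategory.standard

namespace Groth.Agent.Lib.EtClosedDerived65

open Groth.Agent.Lib.EtGerm Groth.Agent.Lib.EtStalkConservative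

variable {Z X U : Scheme.{u}} (i : Z ⟶ X) [IsClosedImmersion i] (j : U ⟶ X) [IsOpenImmersion j]

lemma isIso_counit : IsIso (EtCoh.pullPushAdj i).counit :=
  Groth.Agent.Lib.EtIntStalk34.isIso_counit i
    (Groth.Agent.Lib.EtIntStalk34.hasLift_of_integral i i.isClosedEmbedding.injective)
    (Groth.Agent.Lib.EtIntStalk34.hasInd_of_integral i)

lemma bijective_of_isZero {A B : AddCommGrpCat.{u + 1}} (f : A ⟶ B) (hA : IsZero A)
    (hB : IsZero B) : Function.Bijective f := by
  have := AddCommGrpCat.subsingleton_of_isZero hA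
  have := AddCommGrpCat.subsingleton_of_isZero hB
  exact ⟨fun a b _ => Subsingleton.elim a b, fun b => ⟨0, Subsingleton.elim _ _⟩⟩

variable (hZU : Set.range j = (Set.range i)ᶜ)

include hZU in
lemma isZero_pull_push (G : EtCoh.Ab Z) : IsZero ((EtCoh.pull j).obj ((EtCoh.push i).obj G)) := by
  refine (Groth.Agent.Lib.EtExtZero.isZero_restr_push i j G ?_).of_iso
    ((Groth.Agent.Lib.EtExtZero.restrIsoPull j).symm.app _)
  rw [hZU]
  exact disjoint_compl_left

include hZU in
/-- `F ≅ i_* i⁻¹ F` iff `F|_U = 0` -/
theorem isIso_unit_iff (F : EtCoh.Ab X) :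
    IsIso ((EtCoh.pullPushAdj i).unit.app F) ↔ IsZero ((EtCoh.pull j).obj F) := by
  constructor
  · intro h
    exact (isZero_pull_push i j hZU _).of_iso
      ((EtCoh.pull j).mapIso (asIso ((EtCoh.pullPushAdj i).unit.app F)))
  · intro h
    apply Groth.Agent.Lib.EtGeomPtConservative39.isIso_of_forall_geomPt
    intro x
    by_cases hx : x ∈ Set.range i
    · obtain ⟨z, rfl⟩ := hx
      refine ⟨_, inferInstance, inferInstance, stdPt z ≫ i, ?_, ?_⟩
      · show i (stdPt z default) = i z
        rw [stdPt_default]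
      · have := Groth.Agent.Lib.EtExtZero.isIso_stalk_unit_closed i F (stdPt z)
        exact (ConcreteCategory.isIso_iff_bijective _).1 this
    · have hx' : x ∈ Set.range j := by rw [hZU]; exact hx
      obtain ⟨u, rfl⟩ := hx'
      refine ⟨_, inferInstance, inferInstance, stdPt u ≫ j, ?_, ?_⟩
      · show j (stdPt u default) = j u
        rw [stdPt_default]
      · apply bijective_of_isZero
        · exact ((EtCoh.stalk (stdPt u)).map_isZero h).of_iso
            ((Groth.Agent.Lib.EtStalkPull.stalkPullIso j (stdPt u)).app F).symm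
        · exact ((EtCoh.stalk (stdPt u)).map_isZero (isZero_pull_push i j hZU _)).of_iso
            ((Groth.Agent.Lib.EtStalkPull.stalkPullIso j (stdPt u)).app _).symm

include hZU in
/-- S6659 -/
theorem main [PreservesFiniteColimits (EtCoh.push i)] :
    ((EtCoh.push i).mapDerivedCategory.Full ∧ (EtCoh.push i).mapDerivedCategory.Faithful) ∧
      ∀ K : DCoh.DEt X,
        (EtCoh.push i).mapDerivedCategory.essImage K ↔
          ∀ n : ℤ, IsZero ((EtCoh.pull j).obj (DCoh.HDEt K n)) := by
  have := isIso_counit i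
  have : PreservesFiniteLimits (EtCoh.push i) := by
    have : PreservesLimitsOfSize.{0, 0} (EtCoh.push i) :=
      (EtCoh.pullPushAdj i).rightAdjoint_preservesLimits
    exact PreservesLimitsOfSize.preservesFiniteLimits _
  refine ⟨Groth.Agent.Lib.DerivedFFExact65.full_faithful_mapDerivedCategory (EtCoh.pullPushAdj i),
    fun K => ?_⟩
  rw [Groth.Agent.Lib.DerivedFFExact65.essImage_mapDerivedCategory_iff (EtCoh.pullPushAdj i)]
  exact forall_congr' fun n => isIso_unit_iff i j hZU _

end Groth.Agent.Lib.EtClosedDerived65
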