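import Groth.Agent.Lib.EtQcqs95c
import Groth.Agent.Lib.FiltColimRecog

/-!
# Recognition of filtered colimits of abelian etale sheaves (helper34)

`isColimit_of_locally_et`: a cocone `c` over a filtered diagram `D : I ⥤ EtCoh.Ab X`
(`I : Type (u+1)` small) is a colimit as soon as
* sections over qcqs etale `U` dying in `c.pt` die at a later stage, and
* every section of `c.pt` over a qcqs `U` comes, locally on `U` (on qcqs pieces), from a stage.
(Wrapper of lead's `FiltColimRecog.isColimit_of_locally` through helper95's qcqs-source site.)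
-/

set_option autoImplicit false
universe u

open CategoryTheory CategoryTheory.Limits AlgebraicGeometry Opposite

namespace Groth.Agent.Lib.EtColimRecog34

open Groth.Agent.Lib.EtQcqs95 Groth.Agent.Lib.FiltColimRecog

variable {X : Scheme.{u}}

set_option backward.isDefEq.respectTransparency false in
theorem isColimit_of_locally_et {I : Type (u + 1)} [SmallCategory I] [IsFiltered I]
    (D : I ⥤ EtCoh.Ab X) (c : Cocone D)
    (hinj : ∀ (i : I) (U : X.Etale), CompactSpace U.left → QuasiSeparatedSpace U.left →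
      ∀ t : (D.obj i).obj.obj (op U), (c.ι.app i).hom.app (op U) t = 0 →
        ∃ (j : I) (f : i ⟶ j), (D.map f).hom.app (op U) t = 0)
    (hsurj : ∀ (U : X.Etale), CompactSpace U.left → QuasiSeparatedSpace U.left →
      ∀ (s : c.pt.obj.obj (op U)) (x : U.left), ∃ (W : X.Etale) (g : W ⟶ U),
        CompactSpace W.left ∧ QuasiSeparatedSpace W.left ∧ x ∈ Set.range g.left ∧
        ∃ (i : I) (t : (D.obj i).obj.obj (op W)),
          (c.ι.app i).hom.app (op W) t = c.pt.obj.map g.op s) :
    Nonempty (IsColimit c) := by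
  have h := isColimit_of_locally (D ⋙ Ψ₁ X) ((Ψ₁ X).mapCocone c)
    (fun i V t ht => hinj i ((G₁ X).obj V) (p₁_g₁ X V).1 (p₁_g₁ X V).2 t ht)
    (fun V s => by
      -- the sieve of morphisms along which `s` comes from a stage
      let T : Sieve V :=
        { arrows := fun W g => ∃ (i : I) (t : (D.obj i).obj.obj (op ((G₁ X).obj W))),
            (c.ι.app i).hom.app (op ((G₁ X).obj W)) t = c.pt.obj.map ((G₁ X).map g).op s
          downward_closed := by
            rintro W W' g ⟨i, t, ht⟩ k
            refine ⟨i, (D.obj i).obj.map ((G₁ X).map k).op t, ?_⟩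
            have h1 := NatTrans.naturality_apply (c.ι.app i).hom ((G₁ X).map k).op t
            rw [h1, ht, Functor.map_comp, op_comp, Functor.map_comp]
            rfl }
      refine ⟨T, ?_, fun W g hg => hg⟩
      rw [Functor.mem_inducedTopology_iff_of_isCoverDense, mem_smallEtaleTopology_iff]
      intro x
      obtain ⟨W, g, hW1, hW2, ⟨y, hy⟩, i, t, ht⟩ :=
        hsurj ((G₁ X).obj V) (p₁_g₁ X V).1 (p₁_g₁ X V).2 s x
      let W' : C₁ X := mk₁ X W ⟨hW1, hW2⟩
      let g' : W' ⟶ V := (G₁ X).preimage (g : (G₁ X).obj W' ⟶ (G₁ X).obj V)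
      have hg' : (G₁ X).map g' = g := (G₁ X).map_preimage _
      refine ⟨W, g, y, ⟨W', g', 𝟙 _, ⟨i, t, ?_⟩, ?_⟩, hy⟩
      · rw [hg']; exact ht
      · rw [hg']; exact (Category.id_comp _).symm)
  obtain ⟨hc'⟩ := h
  exact ⟨isColimitOfReflects (Ψ₁ X) hc'⟩

end Groth.Agent.Lib.EtColimRecog34
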