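import Groth.Agent.Lib.EtExtZero

/-!
# Extension by zero commutes with base change (helper39)

For a morphism `f : X ⟶ Y` and an etale morphism `j : V ⟶ Y`, with `U = X ×_Y V`,
`f' = pullback.snd f j : U ⟶ V`, `j' = pullback.fst f j : U ⟶ X`:
* `siteIso f j : compEtale j ⋙ bc f ≅ bc f' ⋙ compEtale j'`;
* `pushRestrIso f j : push f ⋙ restrAlong j ≅ restrAlong j' ⋙ push f'`;
* `extZeroPullIso f j : extZero j ⋙ pull f ≅ pull f' ⋙ extZero j'`.
-/

set_option autoImplicit false
set_option linter.unusedSectionVars false
universe u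
open CategoryTheory CategoryTheory.Limits AlgebraicGeometry Opposite

namespace Groth.Agent.Lib.EtExtZeroBC

section plain

variable {X Y V : Scheme.{u}} (f : X ⟶ Y) (j : V ⟶ Y)

/-- the pasted pullback square -/
lemma isPullback_paste {W : Scheme.{u}} (w : W ⟶ V) :
    IsPullback (pullback.fst w (pullback.snd f j))
      (pullback.snd w (pullback.snd f j) ≫ pullback.fst f j) (w ≫ j) f :=
  (IsPullback.of_hasPullback w (pullback.snd f j)).paste_vert
    (IsPullback.of_hasPullback f j).flip

/-- `W ×_Y X ≅ W ×_V (X ×_Y V)` -/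
noncomputable def leftIso {W : Scheme.{u}} (w : W ⟶ V) :
    pullback (w ≫ j) f ≅ pullback w (pullback.snd f j) :=
  (isPullback_paste f j w).isoPullback.symm

@[reassoc]
lemma leftIso_hom_fst {W : Scheme.{u}} (w : W ⟶ V) :
    (leftIso f j w).hom ≫ pullback.fst w (pullback.snd f j) = pullback.fst (w ≫ j) f :=
  (isPullback_paste f j w).isoPullback_inv_fst

@[reassoc]
lemma leftIso_hom_snd {W : Scheme.{u}} (w : W ⟶ V) :
    (leftIso f j w).hom ≫ pullback.snd w (pullback.snd f j) ≫ pullback.fst f j =
      pullback.snd (w ≫ j) f :=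
  (isPullback_paste f j w).isoPullback_inv_snd

lemma leftIso_natural {W W' : Scheme.{u}} (w : W ⟶ V) (w' : W' ⟶ V) (g : W ⟶ W')
    (hg : g ≫ w' = w) (a : pullback (w ≫ j) f ⟶ pullback (w' ≫ j) f)
    (ha1 : a ≫ pullback.fst (w' ≫ j) f = pullback.fst (w ≫ j) f ≫ g)
    (ha2 : a ≫ pullback.snd (w' ≫ j) f = pullback.snd (w ≫ j) f)
    (b : pullback w (pullback.snd f j) ⟶ pullback w' (pullback.snd f j))
    (hb1 : b ≫ pullback.fst w' (pullback.snd f j) = pullback.fst w (pullback.snd f j) ≫ g)
    (hb2 : b ≫ pullback.snd w' (pullback.snd f j) = pullback.snd w (pullback.snd f j)) :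
    a ≫ (leftIso f j w').hom = (leftIso f j w).hom ≫ b := by
  apply pullback.hom_ext
  · rw [Category.assoc, leftIso_hom_fst, ha1, Category.assoc, hb1, leftIso_hom_fst_assoc]
  · apply pullback.hom_ext
    · rw [Category.assoc, Category.assoc, leftIso_hom_snd, ha2, Category.assoc, Category.assoc,
        reassoc_of% hb2, leftIso_hom_snd]
    · have c1 : pullback.snd w' (pullback.snd f j) ≫ pullback.snd f j =
          pullback.fst w' (pullback.snd f j) ≫ w' := pullback.condition.symm
      have c2 : pullback.snd w (pullback.snd f j) ≫ pullback.snd f j =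
          pullback.fst w (pullback.snd f j) ≫ w := pullback.condition.symm
      rw [Category.assoc, Category.assoc, c1, leftIso_hom_fst_assoc, reassoc_of% ha1, hg,
        Category.assoc, Category.assoc, reassoc_of% hb2, c2, leftIso_hom_fst_assoc]

end plain

variable {X Y V : Scheme.{u}} (f : X ⟶ Y) (j : V ⟶ Y) [hj : AlgebraicGeometry.Etale j]

instance etale_fst : AlgebraicGeometry.Etale (pullback.fst f j) :=
  MorphismProperty.pullback_fst (P := @AlgebraicGeometry.Etale) f j hj

lemma bc_map_left_fst {X Y : Scheme.{u}} (f : X ⟶ Y) {W W' : Y.Etale} (g : W ⟶ W') :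
    ((EtCoh.bc f).map g).left ≫ pullback.fst W'.hom f = pullback.fst W.hom f ≫ g.left :=
  (EtCoh.isPullback_bc_map f g).w

lemma bc_map_left_snd {X Y : Scheme.{u}} (f : X ⟶ Y) {W W' : Y.Etale} (g : W ⟶ W') :
    ((EtCoh.bc f).map g).left ≫ pullback.snd W'.hom f = pullback.snd W.hom f :=
  Over.w ((EtCoh.bc f).map g).hom

/-- the two ways of going from etale `V`-schemes to etale `X`-schemes agree -/
noncomputable def siteIso :
    EtShriek.compEtale j ⋙ EtCoh.bc f ≅
      EtCoh.bc (pullback.snd f j) ⋙ EtShriek.compEtale (pullback.fst f j) :=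
  NatIso.ofComponents
    (fun W => MorphismProperty.Over.isoMk (leftIso f j W.hom) (leftIso_hom_snd f j W.hom))
    (by
      intro W W' g
      apply MorphismProperty.Over.Hom.ext
      exact leftIso_natural f j W.hom W'.hom g.left (Over.w g.hom)
        ((EtCoh.bc f).map ((EtShriek.compEtale j).map g)).left
        (bc_map_left_fst f ((EtShriek.compEtale j).map g))
        (bc_map_left_snd f ((EtShriek.compEtale j).map g))
        ((EtCoh.bc (pullback.snd f j)).map g).left
        (bc_map_left_fst (pullback.snd f j) g) (bc_map_left_snd (pullback.snd f j) g))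


variable [EtShriek.JCont j] [EtShriek.JCont (pullback.fst f j)]

instance isContinuous_comp' :
    (EtCoh.bc (pullback.snd f j) ⋙ EtShriek.compEtale (pullback.fst f j)).IsContinuous
      V.smallEtaleTopology X.smallEtaleTopology :=
  Functor.isContinuous_comp _ _ _ (pullback f j).smallEtaleTopology _

/-- restriction to `V` of a direct image is the direct image of the restriction -/
noncomputable def pushRestrIso :
    EtCoh.push f ⋙ EtShriek.restrAlong j ≅
      EtShriek.restrAlong (pullback.fst f j) ⋙ EtCoh.push (pullback.snd f j) :=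
  Functor.sheafPushforwardContinuousComp' (siteIso f j) AddCommGrpCat.{u + 1}
    V.smallEtaleTopology Y.smallEtaleTopology X.smallEtaleTopology ≪≫
    (Functor.sheafPushforwardContinuousComp (EtCoh.bc (pullback.snd f j))
      (EtShriek.compEtale (pullback.fst f j)) AddCommGrpCat.{u + 1} V.smallEtaleTopology
      (pullback f j).smallEtaleTopology X.smallEtaleTopology).symm

/-- extension by zero commutes with inverse images -/
noncomputable def extZeroPullIso :
    EtShriek.extZero j ⋙ EtCoh.pull f ≅
      EtCoh.pull (pullback.snd f j) ⋙ EtShriek.extZero (pullback.fst f j) :=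
  (((EtShriek.extZeroAdj j).comp (EtCoh.pullPushAdj f)).ofNatIsoRight
    (pushRestrIso f j)).leftAdjointUniq
    ((EtCoh.pullPushAdj (pullback.snd f j)).comp (EtShriek.extZeroAdj (pullback.fst f j)))

end Groth.Agent.Lib.EtExtZeroBC
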