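import Groth.Agent.Lib.EtClosedStalk
import Groth.Agent.Lib.NormBranchesH96

/-!
# Stalks of direct images along integral morphisms, I (helper39)

For `f : X ⟶ Y` and geometric points `ξ` of `X`, `η` of `Y` with `ξ ≫ f = η`:
* `pushGermOf f ξ η h F : (f_* F)_η ⟶ F_ξ`, the canonical map (stalk of the counit), with its
  description on germs `pushGermOf_germ`;
* `exists_geomPt_lift`: lifting geometric points (with algebraically closed field) along integral
  morphisms;
* `eq_zero_of_pushGermOf_eq_zero`: for `f` integral and `Ω` algebraically closed the maps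
  `(f_* F)_η ⟶ F_ξ`, `ξ` over `η`, are jointly injective.
-/

set_option autoImplicit false
universe u
open CategoryTheory CategoryTheory.Limits AlgebraicGeometry Opposite

namespace Groth.Agent.Lib.EtFinStalk39

open Groth.Agent.Lib.EtGerm Groth.Agent.Lib.EtStalkPull Groth.Agent.Lib.EtStalkPullGerm
  Groth.Agent.Lib.EtClosedStalk Groth.Agent.Lib.EtAbStalk

section defs

variable {X Y : Scheme.{u}} (f : X ⟶ Y) {Ω : Type u} [Field Ω] [IsSepClosed Ω]
  (ξ : Spec (CommRingCat.of Ω) ⟶ X)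

/-- the canonical map `(f_* F)_{f ξ} ⟶ F_ξ` -/
noncomputable def pushGerm (F : EtCoh.Ab X) :
    (EtCoh.stalk (ξ ≫ f)).obj ((EtCoh.push f).obj F) ⟶ (EtCoh.stalk ξ).obj F :=
  (stalkPullIso f ξ).inv.app ((EtCoh.push f).obj F) ≫
    (EtCoh.stalk ξ).map ((EtCoh.pullPushAdj f).counit.app F)

lemma pushGerm_germ (F : EtCoh.Ab X) {V : Y.Etale} (y : Nbhd (ξ ≫ f) V)
    (s : EtCoh.sect ((EtCoh.push f).obj F) V) :
    pushGerm f ξ F (germ (ξ ≫ f) ((EtCoh.push f).obj F) y s) = germ ξ F (pullNbhd f ξ y) s :=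
  stalk_counit_germ f ξ F y s

lemma pushGerm_naturality {F G : EtCoh.Ab X} (a : F ⟶ G) :
    (EtCoh.stalk (ξ ≫ f)).map ((EtCoh.push f).map a) ≫ pushGerm f ξ G =
      pushGerm f ξ F ≫ (EtCoh.stalk ξ).map a := by
  unfold pushGerm
  have h1 := (stalkPullIso f ξ).inv.naturality ((EtCoh.push f).map a)
  have h2 := (EtCoh.pullPushAdj f).counit.naturality a
  simp only [Functor.comp_map, Functor.id_map] at h1 h2
  rw [← Category.assoc, h1, Category.assoc, Category.assoc, ← Functor.map_comp, h2,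
    Functor.map_comp]

variable (η : Spec (CommRingCat.of Ω) ⟶ Y) (h : ξ ≫ f = η)

/-- the canonical map `(f_* F)_η ⟶ F_ξ` for `ξ` over `η` -/
noncomputable def pushGermOf (F : EtCoh.Ab X) :
    (EtCoh.stalk η).obj ((EtCoh.push f).obj F) ⟶ (EtCoh.stalk ξ).obj F := by
  subst h
  exact pushGerm f ξ F

/-- the neighbourhood of `ξ` in `V ×_Y X` induced by a neighbourhood of `η` in `V` -/
noncomputable def pullNbhdOf {V : Y.Etale} (y : Nbhd η V) : Nbhd ξ ((EtCoh.bc f).obj V) := by
  subst h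
  exact pullNbhd f ξ y

lemma pushGermOf_germ (F : EtCoh.Ab X) {V : Y.Etale} (y : Nbhd η V)
    (s : EtCoh.sect ((EtCoh.push f).obj F) V) :
    pushGermOf f ξ η h F (germ η ((EtCoh.push f).obj F) y s) =
      germ ξ F (pullNbhdOf f ξ η h y) s := by
  subst h
  exact pushGerm_germ f ξ F y s

lemma pushGermOf_naturality {F G : EtCoh.Ab X} (a : F ⟶ G) :
    (EtCoh.stalk η).map ((EtCoh.push f).map a) ≫ pushGermOf f ξ η h G =
      pushGermOf f ξ η h F ≫ (EtCoh.stalk ξ).map a := by
  subst h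
  exact pushGerm_naturality f ξ a

lemma pullNbhdOf_map {U V : Y.Etale} (g : V ⟶ U) (y : Nbhd η V) :
    pullNbhdOf f ξ η h (Nbhd.map η g y) = Nbhd.map ξ ((EtCoh.bc f).map g) (pullNbhdOf f ξ η h y) := by
  subst h
  exact pullNbhd_map f ξ g y

lemma pullNbhd_left_fst {V : Y.Etale} (y : Nbhd (ξ ≫ f) V) :
    (CommaMorphism.left (pullNbhd f ξ y) : Spec (CommRingCat.of Ω) ⟶ pullback V.hom f) ≫
      pullback.fst V.hom f = (CommaMorphism.left y : Spec (CommRingCat.of Ω) ⟶ V.left) := by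
  have h1 := pushNbhd_left f ξ (pullNbhd f ξ y)
  rw [pushNbhd_pullNbhd] at h1
  exact h1.symm

lemma pullNbhd_left_snd {V : Y.Etale} (y : Nbhd (ξ ≫ f) V) :
    (CommaMorphism.left (pullNbhd f ξ y) : Spec (CommRingCat.of Ω) ⟶ pullback V.hom f) ≫
      pullback.snd V.hom f = ξ :=
  Over.w (pullNbhd f ξ y)

lemma pullNbhdOf_left_fst {V : Y.Etale} (y : Nbhd η V) :
    (CommaMorphism.left (pullNbhdOf f ξ η h y) : Spec (CommRingCat.of Ω) ⟶ pullback V.hom f) ≫
      pullback.fst V.hom f = (CommaMorphism.left y : Spec (CommRingCat.of Ω) ⟶ V.left) := by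
  subst h
  exact pullNbhd_left_fst f ξ y

lemma pullNbhdOf_left_snd {V : Y.Etale} (y : Nbhd η V) :
    (CommaMorphism.left (pullNbhdOf f ξ η h y) : Spec (CommRingCat.of Ω) ⟶ pullback V.hom f) ≫
      pullback.snd V.hom f = ξ :=
  Over.w (pullNbhdOf f ξ η h y)

/-- a neighbourhood of `ξ` in `V ×_Y X` is determined by its two projections -/
lemma nbhd_bc_ext {V : Y.Etale} (z z' : Nbhd ξ ((EtCoh.bc f).obj V))
    (h1 : (CommaMorphism.left z : Spec (CommRingCat.of Ω) ⟶ pullback V.hom f) ≫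
      pullback.fst V.hom f =
      (CommaMorphism.left z' : Spec (CommRingCat.of Ω) ⟶ pullback V.hom f) ≫
        pullback.fst V.hom f) : z = z' := by
  apply Over.OverMorphism.ext
  apply pullback.hom_ext h1
  exact (Over.w z).trans (Over.w z').symm

end defs

section lift

set_option backward.isDefEq.respectTransparency.types false in
/-- lifting geometric points with algebraically closed field along integral morphisms -/
lemma exists_geomPt_lift {W V : Scheme.{u}} (p : W ⟶ V) [IsIntegralHom p]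
    {Ω : Type u} [Field Ω] [IsAlgClosed Ω] (s : Spec (CommRingCat.of Ω) ⟶ V)
    (w : W) (hw : p w = s default) :
    ∃ (l : Spec (CommRingCat.of Ω) ⟶ W), l ≫ p = s ∧ l default = w := by
  obtain ⟨⟨s, a⟩, rfl⟩ := (Scheme.SpecToEquivOfField Ω V).symm.surjective s
  obtain rfl : p w = s := by simp [hw, Scheme.SpecToEquivOfField]
  let m := (p.residueFieldMap w).hom
  dsimp at m
  algebraize [m, a.hom]
  have : Algebra.IsAlgebraic (V.residueField (p w)) (W.residueField w) :=
    Groth.Agent.Lib.NormBranches96.isAlgebraic_residueFieldMap p w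
  let b : W.residueField w →ₐ[V.residueField (p w)] Ω := IsAlgClosed.lift
  have : p.residueFieldMap w ≫ CommRingCat.ofHom b.toRingHom = a := by
    ext1; exact b.comp_algebraMap
  refine ⟨Spec.map (CommRingCat.ofHom b.toRingHom) ≫ W.fromSpecResidueField w, ?_, ?_⟩
  · simp [Scheme.SpecToEquivOfField, ← this]
    rfl
  · dsimp
    apply Scheme.fromSpecResidueField_apply

end lift

section injective

open Groth.Agent.Lib.EtStalkConservative

variable {X : Scheme.{u}}

/-- the restriction of a section along `m` vanishes if it vanishes etale locally around every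
point of the image of `m` -/
lemma res_eq_zero_of_forall_pt (F : EtCoh.Ab X) {P Q : X.Etale} (m : Q ⟶ P) (s : EtCoh.sect F P)
    (h : ∀ q' : Q.left, ∃ (Z : X.Etale) (k : Z ⟶ P), m.left q' ∈ Set.range k.left ∧
      F.obj.map k.op s = 0) : F.obj.map m.op s = 0 := by
  apply section_eq_zero_of_forall_germ
  intro q'
  obtain ⟨Z, k, ⟨z, hz⟩, hk⟩ := h q'
  obtain ⟨n', hn'⟩ := exists_stdPt_nbhd Q q'
  refine ⟨_, inferInstance, inferInstance, stdPt (Q.hom q'), n', hn', ?_⟩
  rw [germ_res]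
  obtain ⟨nz, hnz, -⟩ := exists_nbhd_lift (stdPt (Q.hom q')) k (Nbhd.map _ m n') z (by
    rw [hz, Nbhd.pt_map, hn'])
  rw [← hnz, ← germ_res, hk, map_zero]

variable {Y : Scheme.{u}} (f : X ⟶ Y) [IsIntegralHom f] {Ω : Type u} [Field Ω] [IsAlgClosed Ω]
  (η : Spec (CommRingCat.of Ω) ⟶ Y)

set_option backward.isDefEq.respectTransparency false in
/-- for `f` integral the maps `(f_* F)_η ⟶ F_ξ`, `ξ` over `η`, are jointly injective -/
theorem eq_zero_of_pushGermOf_eq_zero (F : EtCoh.Ab X)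
    (σ : (EtCoh.stalk η).obj ((EtCoh.push f).obj F))
    (h0 : ∀ (ξ : Spec (CommRingCat.of Ω) ⟶ X) (h : ξ ≫ f = η), pushGermOf f ξ η h F σ = 0) :
    σ = 0 := by
  obtain ⟨V, y, s, rfl⟩ := germ_jointly_surjective η ((EtCoh.push f).obj F) σ
  let P : X.Etale := (EtCoh.bc f).obj V
  let s' : EtCoh.sect F P := s
  let p₁ : P.left ⟶ V.left := pullback.fst V.hom f
  have hp₁ : IsIntegralHom p₁ := inferInstanceAs (IsIntegralHom (pullback.fst V.hom f))
  -- the open locus where `s` vanishes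
  let O : Set P.left := {q | ∃ (Z : X.Etale) (k : Z ⟶ P), q ∈ Set.range k.left ∧
    F.obj.map k.op s' = 0}
  have hO : IsOpen O := by
    have : O = ⋃ (Z : X.Etale) (k : Z ⟶ P) (_ : F.obj.map k.op s' = 0), Set.range k.left := by
      ext q
      simp only [Set.mem_iUnion, exists_prop]
      constructor
      · rintro ⟨Z, k, hq, hk⟩
        exact ⟨Z, k, hk, hq⟩
      · rintro ⟨Z, k, hk, hq⟩
        exact ⟨Z, k, hq, hk⟩
    rw [this]
    refine isOpen_iUnion fun Z => isOpen_iUnion fun k => isOpen_iUnion fun _ => ?_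
    exact k.left.isOpenMap.isOpen_range
  -- the fibre over the point of `y` is contained in `O`
  have hfib : ∀ q : P.left, p₁ q = Nbhd.pt η y → q ∈ O := by
    intro q hq
    obtain ⟨l, hl1, hl2⟩ := exists_geomPt_lift p₁
      (CommaMorphism.left y : Spec (CommRingCat.of Ω) ⟶ V.left) q hq
    let ξ : Spec (CommRingCat.of Ω) ⟶ X := l ≫ P.hom
    have hξ : ξ ≫ f = η := by
      show (l ≫ pullback.snd V.hom f) ≫ f = η
      rw [Category.assoc, ← pullback.condition, ← Category.assoc]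
      exact (congrArg (· ≫ V.hom) hl1).trans (Over.w y)
    let z : Nbhd ξ P := Over.homMk l rfl
    have hz : pullNbhdOf f ξ η hξ y = z := by
      apply nbhd_bc_ext
      rw [pullNbhdOf_left_fst]
      exact hl1.symm
    have h1 := h0 ξ hξ
    rw [pushGermOf_germ, hz] at h1
    obtain ⟨Z, k, nz, hnz, hk⟩ := (germ_eq_zero_iff ξ F z s').1 h1
    refine ⟨Z, k, ⟨Nbhd.pt ξ nz, ?_⟩, hk⟩
    have := (Nbhd.pt_map ξ k nz).symm.trans (congrArg (Nbhd.pt ξ) hnz)
    exact this.trans hl2
  -- shrink `V`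
  have hcl : IsClosed (p₁ '' Oᶜ) := p₁.isClosedMap _ hO.isClosed_compl
  let V₀ : V.left.Opens := ⟨(p₁ '' Oᶜ)ᶜ, hcl.isOpen_compl⟩
  have hyV₀ : Nbhd.pt η y ∈ V₀ := by
    rintro ⟨q, hq, hqy⟩
    exact hq (hfib q hqy)
  obtain ⟨y', hy'⟩ := Groth.Agent.Lib.EtGerm.exists_nbhd_openSub η V₀ y hyV₀
  rw [← hy', ← germ_res]
  have : ((EtCoh.push f).obj F).obj.map (openSubι V V₀).op s = 0 := by
    show F.obj.map ((EtCoh.bc f).map (openSubι V V₀)).op s' = 0
    apply res_eq_zero_of_forall_pt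
    intro q'
    by_contra hcon
    have hq : ((EtCoh.bc f).map (openSubι V V₀)).left q' ∉ O := fun hmem => by
      obtain ⟨Z, k, hr, hk⟩ := hmem
      exact hcon ⟨Z, k, hr, hk⟩
    have h2 : p₁ (((EtCoh.bc f).map (openSubι V V₀)).left q') ∈ V₀ := by
      have e1 : ((EtCoh.bc f).map (openSubι V V₀)).left ≫ p₁ =
          pullback.fst (openSub V V₀).hom f ≫ (openSubι V V₀).left := pullback.lift_fst _ _ _
      have e2 := congrArg (fun k : ((EtCoh.bc f).obj (openSub V V₀)).left ⟶ V.left => k q') e1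
      simp only [Scheme.Hom.comp_apply] at e2
      rw [e2]
      exact (pullback.fst (openSub V V₀).hom f q').2
    exact h2 ⟨_, hq, rfl⟩
  rw [this, map_zero]

end injective

end Groth.Agent.Lib.EtFinStalk39
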