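import Groth.Agent.Lib.EtSepClosedConst39
import Groth.Agent.Lib.EtSepClosedPush39
import Groth.Agent.Lib.EtFinStalk39A
import Groth.Agent.Lib.EtGermB
import Groth.Agent.Lib.EtExtZeroBC

/-!
# Sections of pullbacks along universally submersive morphisms with connected geometric fibres
(helper39)

* `germ_eq_zero_of_fibre`: a section of `f⁻¹F` has vanishing germs at all geometric points of a
  connected geometric fibre as soon as it has at one of them;
* `isIso_unit_of_connected_fibres`: for `f` universally submersive with connected geometric fibres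
  the unit `F ⟶ f_* f⁻¹ F` is an isomorphism.
-/

set_option autoImplicit false
universe u
open CategoryTheory CategoryTheory.Limits AlgebraicGeometry Opposite

namespace Groth.Agent.Lib.EtConnFibre39

open EtCore EtCoh Groth.Agent.Lib.EtConst Groth.Agent.Lib.EtGerm Groth.Agent.Lib.EtStalkPullGerm
  Groth.Agent.Lib.EtStalkPull Groth.Agent.Lib.EtClosedStalk
  Groth.Agent.Lib.EtGeomPtConservative39 Groth.Agent.Lib.EtSepClosedConst39
  Groth.Agent.Lib.EtFinStalk39

variable {X S : Scheme.{u}} (f : X ⟶ S)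

section rigidity

variable {Ω : Type u} [Field Ω] [IsSepClosed Ω] (s : Spec (CommRingCat.of Ω) ⟶ S)
  (F : EtCoh.Ab S) (P : X.Etale) (m : pullback f s ⟶ P.left)
  (hm : m ≫ P.hom = pullback.fst f s)

/-- the neighbourhood in `P` of a geometric point of the fibre, induced by `m` -/
noncomputable def fibreNbhd {K : Type u} [Field K] [IsSepClosed K]
    (ζ : Spec (CommRingCat.of K) ⟶ pullback f s) : Nbhd (ζ ≫ pullback.fst f s) P :=
  Over.homMk (ζ ≫ m) (by
    show (ζ ≫ m) ≫ P.hom = ζ ≫ pullback.fst f s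
    rw [Category.assoc, hm])

omit [IsSepClosed Ω] in
lemma fibreNbhd_left {K : Type u} [Field K] [IsSepClosed K]
    (ζ : Spec (CommRingCat.of K) ⟶ pullback f s) :
    (CommaMorphism.left (fibreNbhd f s P m hm ζ) : Spec (CommRingCat.of K) ⟶ P.left) = ζ ≫ m :=
  rfl

/-- the morphism `Z ⟶ P ×_X Z` of etale `Z`-schemes induced by `m`, for `Z` the fibre -/
noncomputable def fibreSection :
    EtCoh.top (pullback f s) ⟶ (EtCoh.bc (pullback.fst f s)).obj P :=
  MorphismProperty.Over.homMk
    (pullback.lift m (𝟙 (pullback f s)) (hm.trans (Category.id_comp _).symm))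
    (pullback.lift_snd _ _ _) trivial

/-- the restriction of a section of `f⁻¹F` to the fibre -/
noncomputable def fibreRes (d : EtCoh.sect ((EtCoh.pull f).obj F) P) :
    EtCoh.sect ((EtCoh.pull (pullback.fst f s)).obj ((EtCoh.pull f).obj F))
      (EtCoh.top (pullback f s)) :=
  ((EtCoh.pull (pullback.fst f s)).obj ((EtCoh.pull f).obj F)).obj.map
    (fibreSection f s P m hm).op
    (((EtCoh.pullPushAdj (pullback.fst f s)).unit.app ((EtCoh.pull f).obj F)).hom.app (op P) d)

omit [IsSepClosed Ω] in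
set_option backward.isDefEq.respectTransparency false in
lemma germ_fibreRes (d : EtCoh.sect ((EtCoh.pull f).obj F) P)
    {K : Type u} [Field K] [IsSepClosed K] (ζ : Spec (CommRingCat.of K) ⟶ pullback f s) :
    germ ζ _ (topNbhd ζ) (fibreRes f s F P m hm d) =
      (stalkPullIso (pullback.fst f s) ζ).inv.app ((EtCoh.pull f).obj F)
        (germ (ζ ≫ pullback.fst f s) ((EtCoh.pull f).obj F) (fibreNbhd f s P m hm ζ) d) := by
  rw [stalkPullIso_inv_germ]
  unfold fibreRes
  rw [germ_res]
  have key : Nbhd.map ζ (fibreSection f s P m hm) (topNbhd ζ) =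
      pullNbhd (pullback.fst f s) ζ (fibreNbhd f s P m hm ζ) := by
    apply nbhd_bc_ext
    rw [pullNbhd_left_fst, fibreNbhd_left]
    show (ζ ≫ pullback.lift m (𝟙 _) _) ≫ pullback.fst P.hom (pullback.fst f s) = ζ ≫ m
    rw [Category.assoc, pullback.lift_fst]
  rw [key]

/-- rigidity on connected geometric fibres: if one germ of `d` along the fibre vanishes then all
of them do -/
theorem germ_eq_zero_of_fibre [ConnectedSpace ↥(pullback f s)]
    (d : EtCoh.sect ((EtCoh.pull f).obj F) P)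
    {K K' : Type u} [Field K] [IsSepClosed K] [Field K'] [IsSepClosed K']
    (ζ : Spec (CommRingCat.of K) ⟶ pullback f s) (ζ' : Spec (CommRingCat.of K') ⟶ pullback f s)
    (h : germ (ζ ≫ pullback.fst f s) ((EtCoh.pull f).obj F) (fibreNbhd f s P m hm ζ) d = 0) :
    germ (ζ' ≫ pullback.fst f s) ((EtCoh.pull f).obj F) (fibreNbhd f s P m hm ζ') d = 0 := by
  have h1 : germ ζ _ (topNbhd ζ) (fibreRes f s F P m hm d) = 0 := by
    rw [germ_fibreRes, h, map_zero]
  have h2 := eq_zero_of_germ_eq_zero_fibre f s F _ ζ h1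
  have h3 : germ ζ' _ (topNbhd ζ') (fibreRes f s F P m hm d) = 0 := by
    rw [h2, map_zero]
  rw [germ_fibreRes] at h3
  have h4 := congrArg ((stalkPullIso (pullback.fst f s) ζ').hom.app ((EtCoh.pull f).obj F)) h3
  rw [map_zero, Iso.inv_hom_id_app_apply (stalkPullIso (pullback.fst f s) ζ')] at h4
  exact h4

end rigidity

section locus

/-- the open locus where a section vanishes -/
def vanishLocus (G : EtCoh.Ab X) {P : X.Etale} (d : EtCoh.sect G P) : Set P.left :=
  {q | ∃ (W : X.Etale) (k : W ⟶ P), q ∈ Set.range k.left ∧ G.obj.map k.op d = 0}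

lemma isOpen_vanishLocus (G : EtCoh.Ab X) {P : X.Etale} (d : EtCoh.sect G P) :
    IsOpen (vanishLocus G d) := by
  rw [isOpen_iff_forall_mem_open]
  rintro q ⟨W, k, hq, hk⟩
  refine ⟨Set.range k.left, ?_, k.left.isOpenMap.isOpen_range, hq⟩
  rintro q' hq'
  exact ⟨W, k, hq', hk⟩

lemma pt_mem_vanishLocus_iff (G : EtCoh.Ab X) {P : X.Etale} (d : EtCoh.sect G P)
    {K : Type u} [Field K] [IsSepClosed K] (ξ : Spec (CommRingCat.of K) ⟶ X) (y : Nbhd ξ P) :
    Nbhd.pt ξ y ∈ vanishLocus G d ↔ germ ξ G y d = 0 := by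
  constructor
  · rintro ⟨W, k, ⟨w, hw⟩, hk⟩
    obtain ⟨z, hz, -⟩ := exists_nbhd_lift ξ k y w hw
    rw [← hz, ← germ_res, hk, map_zero]
  · intro h
    obtain ⟨W, k, z, hz, hk⟩ := (germ_eq_zero_iff ξ G y d).1 h
    refine ⟨W, k, ⟨Nbhd.pt ξ z, ?_⟩, hk⟩
    rw [← Nbhd.pt_map, hz]

end locus

section saturated

variable (hc : ∀ (Ω : Type u) [Field Ω] [IsAlgClosed Ω] (s : Spec (CommRingCat.of Ω) ⟶ S),
  ConnectedSpace ↥(pullback f s))

include hc in
set_option backward.isDefEq.respectTransparency false in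
/-- the vanishing locus of a section of `f⁻¹F` over `V ×_S X` is saturated for the projection to
`V` -/
theorem mem_vanishLocus_of_fibre (F : EtCoh.Ab S) (V : S.Etale)
    (d : EtCoh.sect ((EtCoh.pull f).obj F) ((EtCoh.bc f).obj V))
    (x x' : ((EtCoh.bc f).obj V).left)
    (hxx' : pullback.fst V.hom f x = pullback.fst V.hom f x')
    (hx : x ∈ vanishLocus ((EtCoh.pull f).obj F) d) :
    x' ∈ vanishLocus ((EtCoh.pull f).obj F) d := by
  obtain ⟨w, hw1, hw2⟩ := Scheme.Pullback.exists_preimage_pullback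
    (f := pullback.fst V.hom f) (g := pullback.fst V.hom f) x x' hxx'
  let K := AlgebraicClosure ((pullback (pullback.fst V.hom f) (pullback.fst V.hom f)).residueField w)
  let wg : Spec (CommRingCat.of K) ⟶ pullback (pullback.fst V.hom f) (pullback.fst V.hom f) :=
    algPt w
  let χ : Spec (CommRingCat.of K) ⟶ pullback V.hom f := wg ≫ pullback.fst _ _
  let χ' : Spec (CommRingCat.of K) ⟶ pullback V.hom f := wg ≫ pullback.snd _ _
  have hχχ' : χ ≫ pullback.fst V.hom f = χ' ≫ pullback.fst V.hom f := by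
    simp only [χ, χ', Category.assoc, pullback.condition]
  let vg : Spec (CommRingCat.of K) ⟶ V.left := χ ≫ pullback.fst V.hom f
  let s : Spec (CommRingCat.of K) ⟶ S := vg ≫ V.hom
  have := hc K s
  have hχ : (χ ≫ pullback.snd V.hom f) ≫ f = 𝟙 _ ≫ s := by
    rw [Category.assoc, ← pullback.condition, Category.id_comp, ← Category.assoc]
  have hχ' : (χ' ≫ pullback.snd V.hom f) ≫ f = 𝟙 _ ≫ s := by
    rw [Category.assoc, ← pullback.condition, Category.id_comp, ← Category.assoc, ← hχχ']
  let ζ : Spec (CommRingCat.of K) ⟶ pullback f s := pullback.lift (χ ≫ pullback.snd V.hom f) (𝟙 _) hχ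
  let ζ' : Spec (CommRingCat.of K) ⟶ pullback f s :=
    pullback.lift (χ' ≫ pullback.snd V.hom f) (𝟙 _) hχ'
  let m : pullback f s ⟶ ((EtCoh.bc f).obj V).left :=
    pullback.lift (pullback.snd f s ≫ vg) (pullback.fst f s) (by
      rw [Category.assoc, pullback.condition])
  have hm : m ≫ ((EtCoh.bc f).obj V).hom = pullback.fst f s := pullback.lift_snd _ _ _
  have hζm : ζ ≫ m = χ := by
    apply pullback.hom_ext
    · simp only [ζ, m, Category.assoc, pullback.lift_fst, pullback.lift_snd_assoc,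
        Category.id_comp, vg]
    · simp only [ζ, m, Category.assoc, pullback.lift_snd, pullback.lift_fst]
  have hζ'm : ζ' ≫ m = χ' := by
    apply pullback.hom_ext
    · simp only [ζ', m, Category.assoc, pullback.lift_fst, pullback.lift_snd_assoc,
        Category.id_comp, vg, hχχ']
    · simp only [ζ', m, Category.assoc, pullback.lift_snd, pullback.lift_fst]
  have hpt : Nbhd.pt _ (fibreNbhd f s ((EtCoh.bc f).obj V) m hm ζ) = x := by
    show (ζ ≫ m) default = x
    rw [hζm]
    show (pullback.fst (pullback.fst V.hom f) (pullback.fst V.hom f)) (wg default) = x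
    rw [algPt_default, hw1]
  have hpt' : Nbhd.pt _ (fibreNbhd f s ((EtCoh.bc f).obj V) m hm ζ') = x' := by
    show (ζ' ≫ m) default = x'
    rw [hζ'm]
    show (pullback.snd (pullback.fst V.hom f) (pullback.fst V.hom f)) (wg default) = x'
    rw [algPt_default, hw2]
  rw [← hpt'] 
  rw [← hpt] at hx
  rw [pt_mem_vanishLocus_iff] at hx ⊢
  exact germ_eq_zero_of_fibre f s F _ m hm d ζ ζ' hx

end saturated

section main

variable (hsub : ∀ (S' : Scheme.{u}) (g : S' ⟶ S), Topology.IsQuotientMap (pullback.snd f g).base)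

include hsub in
lemma isQuotientMap_fst (V : S.Etale) : Topology.IsQuotientMap (pullback.fst V.hom f) := by
  have h1 : pullback.fst V.hom f = (pullbackSymmetry V.hom f).hom ≫ pullback.snd f V.hom :=
    (pullbackSymmetry_hom_comp_snd V.hom f).symm
  rw [h1]
  exact (hsub V.left V.hom).comp (Scheme.homeoOfIso (pullbackSymmetry V.hom f)).isQuotientMap

include hsub in
set_option backward.isDefEq.respectTransparency false in
/-- the unit is injective on sections -/
theorem unit_app_injective (F : EtCoh.Ab S) (V : S.Etale) :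
    Function.Injective (((EtCoh.pullPushAdj f).unit.app F).hom.app (op V)) := by
  rw [injective_iff_map_eq_zero]
  intro σ hσ
  apply section_eq_zero_of_forall_germ
  intro u
  obtain ⟨x', hx'⟩ := (isQuotientMap_fst f hsub V).surjective u
  let K := AlgebraicClosure ((pullback V.hom f).residueField x')
  let χ : Spec (CommRingCat.of K) ⟶ pullback V.hom f := algPt x'
  let ξ : Spec (CommRingCat.of K) ⟶ X := χ ≫ pullback.snd V.hom f
  let y : Nbhd (ξ ≫ f) V := Over.homMk (χ ≫ pullback.fst V.hom f) (by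
    show (χ ≫ pullback.fst V.hom f) ≫ V.hom = (χ ≫ pullback.snd V.hom f) ≫ f
    rw [Category.assoc, pullback.condition, Category.assoc])
  refine ⟨K, inferInstance, inferInstance, ξ ≫ f, y, ?_, ?_⟩
  · show (χ ≫ pullback.fst V.hom f) default = u
    show (pullback.fst V.hom f) (χ default) = u
    rw [algPt_default, hx']
  · have h1 := (germ_unit_eq_zero_iff f ξ F y σ).1
    apply h1
    have h2 : ((EtCoh.pullPushAdj f).unit.app F).hom.app (op V) σ = 0 := hσ
    rw [h2, map_zero]

variable (hc : ∀ (Ω : Type u) [Field Ω] [IsAlgClosed Ω] (s : Spec (CommRingCat.of Ω) ⟶ S),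
  ConnectedSpace ↥(pullback f s))

include hsub hc in
set_option backward.isDefEq.respectTransparency false in
/-- sections of `f⁻¹F` over `V₀ ×_S X` come from sections of `F`, etale locally on `V₀` -/
theorem exists_section_of_fibre (F : EtCoh.Ab S) (V₀ : S.Etale)
    (t : EtCoh.sect ((EtCoh.pull f).obj F) ((EtCoh.bc f).obj V₀))
    {Ω : Type u} [Field Ω] [IsAlgClosed Ω] (s : Spec (CommRingCat.of Ω) ⟶ S) (v₀ : Nbhd s V₀) :
    ∃ (V₂ : S.Etale) (e : V₂ ⟶ V₀) (v₂ : Nbhd s V₂) (σ : EtCoh.sect F V₂),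
      Nbhd.map s e v₂ = v₀ ∧
      ((EtCoh.pull f).obj F).obj.map ((EtCoh.bc f).map e).op t =
        ((EtCoh.pullPushAdj f).unit.app F).hom.app (op V₂) σ := by
  have hZ := hc Ω s
  obtain ⟨z⟩ := (inferInstance : Nonempty ↥(pullback f s))
  let Ω' := AlgebraicClosure ((pullback f s).residueField z)
  let zg : Spec (CommRingCat.of Ω') ⟶ pullback f s := algPt z
  let c : Spec (CommRingCat.of Ω') ⟶ Spec (CommRingCat.of Ω) := zg ≫ pullback.snd f s
  let xg : Spec (CommRingCat.of Ω') ⟶ X := zg ≫ pullback.fst f s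
  have hxg : xg ≫ f = c ≫ s := by simp only [xg, c, Category.assoc, pullback.condition]
  let v₀l : Spec (CommRingCat.of Ω) ⟶ V₀.left := CommaMorphism.left v₀
  have hv₀ : v₀l ≫ V₀.hom = s := Over.w v₀
  let y₀ : Nbhd (xg ≫ f) V₀ := Over.homMk (c ≫ v₀l) (by
    show (c ≫ v₀l) ≫ V₀.hom = xg ≫ f
    rw [Category.assoc, hv₀, hxg])
  -- represent the germ of `t`
  obtain ⟨V₁', v₁', σ₁', h1⟩ := germ_jointly_surjective (xg ≫ f) F
    ((stalkPullIso f xg).hom.app F (germ xg ((EtCoh.pull f).obj F) (pullNbhd f xg y₀) t))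
  obtain ⟨V₁, a, e₁₀, v₁, hv₁a, hv₁e⟩ := exists_common_nbhd (xg ≫ f) v₁' y₀
  let σ₁ : EtCoh.sect F V₁ := F.obj.map a.op σ₁'
  have h2 : germ (xg ≫ f) F v₁ σ₁ =
      (stalkPullIso f xg).hom.app F (germ xg ((EtCoh.pull f).obj F) (pullNbhd f xg y₀) t) := by
    rw [← h1]
    show germ (xg ≫ f) F v₁ (F.obj.map a.op σ₁') = _
    rw [germ_res, hv₁a]
  let u₁ : EtCoh.sect ((EtCoh.pull f).obj F) ((EtCoh.bc f).obj V₁) :=
    ((EtCoh.pullPushAdj f).unit.app F).hom.app (op V₁) σ₁
  let d : EtCoh.sect ((EtCoh.pull f).obj F) ((EtCoh.bc f).obj V₁) :=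
    ((EtCoh.pull f).obj F).obj.map ((EtCoh.bc f).map e₁₀).op t - u₁
  have hd : germ xg ((EtCoh.pull f).obj F) (pullNbhd f xg v₁) d = 0 := by
    show germ xg ((EtCoh.pull f).obj F) (pullNbhd f xg v₁)
      (((EtCoh.pull f).obj F).obj.map ((EtCoh.bc f).map e₁₀).op t - u₁) = 0
    rw [map_sub, sub_eq_zero, germ_res, ← pullNbhd_map, hv₁e]
    show _ = germ xg ((EtCoh.pull f).obj F) (pullNbhd f xg v₁)
      (((EtCoh.pullPushAdj f).unit.app F).hom.app (op V₁) σ₁)
    rw [← stalkPullIso_inv_germ, h2, Iso.hom_inv_id_app_apply (stalkPullIso f xg)]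
  -- an `Ω`-point of `V₁`
  let e₁₀l : V₁.left ⟶ V₀.left := e₁₀.left
  let v₁l : Spec (CommRingCat.of Ω') ⟶ V₁.left := CommaMorphism.left v₁
  have hv₁l : v₁l ≫ e₁₀l = c ≫ v₀l := congrArg CommaMorphism.left hv₁e
  let P := pullback e₁₀l v₀l
  let π : P ⟶ Spec (CommRingCat.of Ω) := pullback.snd e₁₀l v₀l
  have hπ : Etale π := inferInstanceAs (Etale (pullback.snd e₁₀.left v₀l))
  let w : Spec (CommRingCat.of Ω') ⟶ P := pullback.lift v₁l c hv₁l
  obtain ⟨σs, hσ1, hσ2, hσ3, hσ4⟩ :=
    Groth.Agent.Lib.EtSepClosedPush39.exists_section_through Ω π (w default)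
  have hrange : Set.range w ⊆ Set.range σs := by
    rw [hσ4]
    rintro _ ⟨b, rfl⟩
    rw [Subsingleton.elim b default]
    rfl
  let l := IsOpenImmersion.lift σs w hrange
  have hl : l ≫ σs = w := IsOpenImmersion.lift_fac _ _ _
  have hlc : l = c := by
    have h3 : l ≫ σs ≫ π = w ≫ π := by rw [← Category.assoc, hl]
    rw [hσ1, Category.comp_id] at h3
    rw [h3]
    exact pullback.lift_snd _ _ _
  have hw : c ≫ σs = w := hlc ▸ hl
  let v₁g : Spec (CommRingCat.of Ω) ⟶ V₁.left := σs ≫ pullback.fst e₁₀l v₀l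
  have hv₁g_e : v₁g ≫ e₁₀l = v₀l := by
    show (σs ≫ pullback.fst e₁₀l v₀l) ≫ e₁₀l = v₀l
    rw [Category.assoc, pullback.condition, ← Category.assoc]
    show (σs ≫ π) ≫ v₀l = v₀l
    rw [hσ1, Category.id_comp]
  have hcv₁g : c ≫ v₁g = v₁l := by
    show c ≫ σs ≫ pullback.fst e₁₀l v₀l = v₁l
    rw [← Category.assoc, hw]
    exact pullback.lift_fst _ _ _
  have he₁₀ : e₁₀l ≫ V₀.hom = V₁.hom := Over.w e₁₀.hom
  have hv₁g_s : v₁g ≫ V₁.hom = s := by
    rw [← he₁₀, ← Category.assoc, hv₁g_e, hv₀]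
  let v₁n : Nbhd s V₁ := Over.homMk v₁g hv₁g_s
  have hv₁n : Nbhd.map s e₁₀ v₁n = v₀ := by
    apply Over.OverMorphism.ext
    exact hv₁g_e
  -- the fibre
  let m : pullback f s ⟶ ((EtCoh.bc f).obj V₁).left :=
    pullback.lift (pullback.snd f s ≫ v₁g) (pullback.fst f s) (by
      rw [Category.assoc, hv₁g_s, pullback.condition])
  have hm : m ≫ ((EtCoh.bc f).obj V₁).hom = pullback.fst f s := pullback.lift_snd _ _ _
  have hnb : fibreNbhd f s ((EtCoh.bc f).obj V₁) m hm zg = pullNbhd f xg v₁ := by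
    apply nbhd_bc_ext
    rw [pullNbhd_left_fst, fibreNbhd_left]
    show (zg ≫ m) ≫ pullback.fst V₁.hom f = v₁l
    rw [Category.assoc, pullback.lift_fst, ← Category.assoc]
    exact hcv₁g
  -- the vanishing locus of `d`
  let E : Set ((EtCoh.bc f).obj V₁).left := vanishLocus ((EtCoh.pull f).obj F) d
  have hEopen : IsOpen E := isOpen_vanishLocus _ d
  have hEsat : (pullback.fst V₁.hom f) ⁻¹' ((pullback.fst V₁.hom f) '' E) = E := by
    ext x'
    constructor
    · rintro ⟨x, hx, hxx'⟩
      exact mem_vanishLocus_of_fibre f hc F V₁ d x x' hxx' hx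
    · intro hx'
      exact ⟨x', hx', rfl⟩
  have hOopen : IsOpen ((pullback.fst V₁.hom f) '' E) := by
    rw [← (isQuotientMap_fst f hsub V₁).isOpen_preimage, hEsat]
    exact hEopen
  let O : V₁.left.Opens := ⟨_, hOopen⟩
  have hx₀ : Nbhd.pt xg (pullNbhd f xg v₁) ∈ E := (pt_mem_vanishLocus_iff _ d xg _).2 hd
  have hptO : Nbhd.pt s v₁n ∈ O := by
    refine ⟨_, hx₀, ?_⟩
    have h3 : (pullback.fst V₁.hom f) (Nbhd.pt xg (pullNbhd f xg v₁)) = v₁l default := by
      have h4 := pullNbhd_left_fst f xg v₁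
      exact congrArg (fun k : Spec (CommRingCat.of Ω') ⟶ V₁.left => k default) h4
    rw [h3, ← hcv₁g]
    show v₁g (c default) = v₁g default
    rw [Subsingleton.elim (c default) default]
  obtain ⟨v₂, hv₂⟩ := exists_nbhd_openSub s O v₁n hptO
  have hd0 : ((EtCoh.pull f).obj F).obj.map ((EtCoh.bc f).map (openSubι V₁ O)).op d = 0 := by
    apply res_eq_zero_of_forall_pt
    intro q'
    have hq : ((EtCoh.bc f).map (openSubι V₁ O)).left q' ∈ E := by
      rw [← hEsat]
      show (pullback.fst V₁.hom f) (((EtCoh.bc f).map (openSubι V₁ O)).left q') ∈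
        (pullback.fst V₁.hom f) '' E
      have h5 := Groth.Agent.Lib.EtExtZeroBC.bc_map_left_fst f (openSubι V₁ O)
      have h6 : (pullback.fst V₁.hom f) (((EtCoh.bc f).map (openSubι V₁ O)).left q') =
          (openSubι V₁ O).left ((pullback.fst (openSub V₁ O).hom f) q') :=
        congrArg (fun k : ((EtCoh.bc f).obj (openSub V₁ O)).left ⟶ V₁.left => k q') h5
      rw [h6]
      exact ((pullback.fst (openSub V₁ O).hom f) q').2
    exact hq
  refine ⟨openSub V₁ O, openSubι V₁ O ≫ e₁₀, v₂, F.obj.map (openSubι V₁ O).op σ₁, ?_, ?_⟩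
  · have h7 : Nbhd.map s (openSubι V₁ O ≫ e₁₀) v₂ = Nbhd.map s e₁₀ (Nbhd.map s (openSubι V₁ O) v₂) :=
      ConcreteCategory.congr_hom ((Scheme.pointSmallEtale s).fiber.map_comp _ _) v₂
    rw [h7, hv₂, hv₁n]
  · have h8 : ((EtCoh.pull f).obj F).obj.map ((EtCoh.bc f).map e₁₀).op t =
        d + u₁ := (sub_add_cancel _ _).symm
    rw [Functor.map_comp, op_comp, Functor.map_comp]
    show ((EtCoh.pull f).obj F).obj.map ((EtCoh.bc f).map (openSubι V₁ O)).op
      (((EtCoh.pull f).obj F).obj.map ((EtCoh.bc f).map e₁₀).op t) = _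
    rw [h8, map_add, hd0, zero_add]
    exact (NatTrans.naturality_apply ((EtCoh.pullPushAdj f).unit.app F).hom (openSubι V₁ O).op
      σ₁).symm

include hsub hc in
set_option backward.isDefEq.respectTransparency false in
/-- for `f` universally submersive with connected geometric fibres the unit `F ⟶ f_* f⁻¹ F` is an
isomorphism -/
theorem isIso_unit_of_connected_fibres (F : EtCoh.Ab S) :
    IsIso ((EtCoh.pullPushAdj f).unit.app F) := by
  apply isIso_of_forall_geomPt
  intro x
  refine ⟨AlgebraicClosure (S.residueField x), inferInstance, inferInstance, algPt x,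
    algPt_default x, ?_⟩
  constructor
  · rw [injective_iff_map_eq_zero]
    intro p hp
    obtain ⟨V, v, σ, rfl⟩ := germ_jointly_surjective (algPt x) F p
    have hp' : germ (algPt x) ((EtCoh.push f).obj ((EtCoh.pull f).obj F)) v
        (((EtCoh.pullPushAdj f).unit.app F).hom.app (op V) σ) = 0 := by
      rw [← hp]
      exact (germ_naturality (algPt x) ((EtCoh.pullPushAdj f).unit.app F) v σ).symm
    obtain ⟨V', g, v', hv', hg⟩ := (germ_eq_zero_iff _ _ v _).1 hp'
    have h1 : ((EtCoh.pullPushAdj f).unit.app F).hom.app (op V') (F.obj.map g.op σ) = 0 := by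
      rw [← hg]
      exact NatTrans.naturality_apply ((EtCoh.pullPushAdj f).unit.app F).hom g.op σ
    have h2 : F.obj.map g.op σ = 0 :=
      unit_app_injective f hsub F V' (h1.trans (map_zero _).symm)
    have h3 : germ (algPt x) F v σ = germ (algPt x) F v' (F.obj.map g.op σ) := by
      rw [germ_res, hv']
    exact h3.trans (by rw [h2, map_zero])
  · intro b
    obtain ⟨V₀, v₀, t, rfl⟩ := germ_jointly_surjective (algPt x)
      ((EtCoh.push f).obj ((EtCoh.pull f).obj F)) b
    obtain ⟨V₂, e, v₂, σ, hv₂, hσ⟩ := exists_section_of_fibre f hsub hc F V₀ t (algPt x) v₀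
    refine ⟨germ (algPt x) F v₂ σ, ?_⟩
    refine (germ_naturality (algPt x) ((EtCoh.pullPushAdj f).unit.app F) v₂ σ).trans ?_
    have h4 : germ (algPt x) ((EtCoh.push f).obj ((EtCoh.pull f).obj F)) v₀ t =
        germ (algPt x) ((EtCoh.push f).obj ((EtCoh.pull f).obj F)) v₂
          (((EtCoh.push f).obj ((EtCoh.pull f).obj F)).obj.map e.op t) := by
      rw [germ_res, hv₂]
    rw [h4]
    exact congrArg _ hσ.symm

include hsub hc in
/-- for `f` universally submersive with connected geometric fibres, `Γ(S, F) ⟶ Γ(X, f⁻¹F)` is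
bijective -/
theorem unit_app_top_bijective (F : EtCoh.Ab S) :
    Function.Bijective (((EtCoh.pullPushAdj f).unit.app F).hom.app (op (EtCoh.top S))) := by
  have := isIso_unit_of_connected_fibres f hsub hc F
  have h1 : IsIso (((EtCoh.pullPushAdj f).unit.app F).hom.app (op (EtCoh.top S))) := by
    have : IsIso ((EtCoh.pullPushAdj f).unit.app F).hom :=
      (inferInstance : IsIso ((sheafToPresheaf _ _).map ((EtCoh.pullPushAdj f).unit.app F)))
    infer_instance
  exact (ConcreteCategory.isIso_iff_bijective _).1 h1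

end main

end Groth.Agent.Lib.EtConnFibre39
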