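import Groth.Agent.Lib.EtStalkPullGerm
import Mathlib.CategoryTheory.Sites.LocallyBijective

/-!
# Constant abelian sheaves on the small etale site (helper39)

`constSh M = (constantSheaf _ _).obj M` is the sheafification of the constant presheaf.

* `constSec M U : M →+ sect (constSh M) U`, the constant sections, with `constSec_res`
  (compatibility with restriction) and `constSec_map` (functoriality in `M`);
* `exists_constSec_eq`: every section of `constSh M` is, on a suitable etale neighbourhood of any
  geometric point, a constant section;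
* `exists_constSec_eq_pt`: same around ordinary points;
* `constLift G η : constSh M ⟶ G` for a map `η` from the constant presheaf to `G`, and
  `constLift_constSec`;
* `const_hom_ext`: morphisms out of `constSh M` are determined on constant sections.
-/

set_option autoImplicit false
universe u
open CategoryTheory CategoryTheory.Limits AlgebraicGeometry Opposite

namespace Groth.Agent.Lib.EtConst

open Groth.Agent.Lib.EtGerm Groth.Agent.Lib.EtStalkConservative Groth.Agent.Lib.EtStalkPullGerm

variable {X : Scheme.{u}}

/-- the constant presheaf with value `M` -/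
abbrev constPre (X : Scheme.{u}) (M : AddCommGrpCat.{u + 1}) : X.Etaleᵒᵖ ⥤ AddCommGrpCat.{u + 1} :=
  (Functor.const _).obj M

/-- the constant sheaf with value `M` -/
noncomputable abbrev constSh (X : Scheme.{u}) (M : AddCommGrpCat.{u + 1}) : EtCoh.Ab X :=
  (constantSheaf X.smallEtaleTopology AddCommGrpCat.{u + 1}).obj M

/-- constant sections of the constant sheaf -/
noncomputable def constSec (M : AddCommGrpCat.{u + 1}) (U : X.Etale) :
    M →+ EtCoh.sect (constSh X M) U :=
  ((toSheafify X.smallEtaleTopology (constPre X M)).app (op U)).hom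

lemma constSec_res (M : AddCommGrpCat.{u + 1}) {U V : X.Etale} (g : V ⟶ U) (m : M) :
    (constSh X M).obj.map g.op (constSec M U m) = constSec M V m := by
  have h := (toSheafify X.smallEtaleTopology (constPre X M)).naturality g.op
  have h2 := congrArg (fun f => f.hom m) h
  exact h2.symm

lemma constSec_map {M N : AddCommGrpCat.{u + 1}} (h : M ⟶ N) (U : X.Etale) (m : M) :
    ((constantSheaf X.smallEtaleTopology AddCommGrpCat.{u + 1}).map h).hom.app (op U)
      (constSec M U m) = constSec N U (h m) := by
  have h1 := toSheafify_naturality X.smallEtaleTopology ((Functor.const X.Etaleᵒᵖ).map h)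
  have h2 := congrArg (fun f => (f.app (op U)).hom m) h1
  exact h2.symm

/-- every section of a constant sheaf is constant on a suitable etale neighbourhood of a given
geometric point -/
lemma exists_constSec_eq {Ω : Type u} [Field Ω] [IsSepClosed Ω] (ξ : Spec (CommRingCat.of Ω) ⟶ X)
    (M : AddCommGrpCat.{u + 1}) {U : X.Etale} (s : EtCoh.sect (constSh X M) U) (y : Nbhd ξ U) :
    ∃ (V : X.Etale) (g : V ⟶ U) (z : Nbhd ξ V) (m : M), Nbhd.map ξ g z = y ∧
      (constSh X M).obj.map g.op s = constSec M V m := by
  have hS := Presheaf.imageSieve_mem X.smallEtaleTopology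
    (toSheafify X.smallEtaleTopology (constPre X M)) s
  obtain ⟨V, g, ⟨m, hm⟩, z, hz⟩ := (Scheme.pointSmallEtale ξ).jointly_surjective _ hS y
  exact ⟨V, g, z, m, hz, hm.symm⟩

/-- every section of a constant sheaf is constant etale locally around any point -/
lemma exists_constSec_eq_pt (M : AddCommGrpCat.{u + 1}) {U : X.Etale}
    (s : EtCoh.sect (constSh X M) U) (x : U.left) :
    ∃ (V : X.Etale) (g : V ⟶ U) (m : M), x ∈ Set.range g.left ∧
      (constSh X M).obj.map g.op s = constSec M V m := by
  obtain ⟨y, hy⟩ := exists_stdPt_nbhd U x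
  obtain ⟨V, g, z, m, hz, hm⟩ := exists_constSec_eq (stdPt (U.hom x)) M s y
  refine ⟨V, g, m, ⟨Nbhd.pt _ z, ?_⟩, hm⟩
  rw [← Nbhd.pt_map, hz, hy]

/-- morphisms out of a constant sheaf from maps of presheaves -/
noncomputable def constLift {M : AddCommGrpCat.{u + 1}} (G : EtCoh.Ab X)
    (η : constPre X M ⟶ G.obj) : constSh X M ⟶ G :=
  ⟨sheafifyLift X.smallEtaleTopology η G.property⟩

lemma constLift_constSec {M : AddCommGrpCat.{u + 1}} (G : EtCoh.Ab X)
    (η : constPre X M ⟶ G.obj) (U : X.Etale) (m : M) :
    (constLift G η).hom.app (op U) (constSec M U m) = η.app (op U) m := by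
  have h := toSheafify_sheafifyLift X.smallEtaleTopology η G.property
  exact congrArg (fun f => (f.app (op U)).hom m) h

lemma const_hom_ext {M : AddCommGrpCat.{u + 1}} {G : EtCoh.Ab X} (f g : constSh X M ⟶ G)
    (h : ∀ (U : X.Etale) (m : M), f.hom.app (op U) (constSec M U m) =
      g.hom.app (op U) (constSec M U m)) : f = g := by
  apply Sheaf.hom_ext
  apply sheafify_hom_ext _ _ _ G.property
  ext U m
  exact h U.unop m

end Groth.Agent.Lib.EtConst
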