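import Groth.Agent.Lib.EtConstVal39
import Groth.Agent.Lib.AICTop39

/-!
# Gabber's kernel condition for constant sheaves from gluing of locally constant functions
(helper39)

`kernelCondition_const`: if for all global functions `f g` every `M`-valued function locally
constant on `D(f(f+g)) ∩ D(g(f+g))` is a difference of functions locally constant on
`D(f(f+g))` and `D(g(f+g))`, then the constant sheaf `M_X` (`M` finite) satisfies the kernel
condition of Gabber's criterion (`EtGabber39.KernelCondition`).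
-/

set_option autoImplicit false
universe u
open CategoryTheory CategoryTheory.Limits AlgebraicGeometry Opposite

namespace Groth.Agent.Lib.EtConstKernel39

open EtCore EtCoh CategoryTheory.Abelian Groth.Agent.Lib.EtShriekConst Groth.Agent.Lib.ExtMV
  Groth.Agent.Lib.EtOpensExt39 Groth.Agent.Lib.EtConst Groth.Agent.Lib.EtConstVal39
  Groth.Agent.Lib.EtGabber39 Groth.Agent.Lib.AICTop39

variable {X : Scheme.{u}} (M : AddCommGrpCat.{u + 1}) [Finite M]

/-- sections over `U ⊓ V` are differences of sections over `U` and `V` as soon as this holds for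
locally constant functions -/
theorem exists_sub_of_glue (U V : X.Opens) (hglue : Glue (U : Set X) (V : Set X) M)
    (w : Ext (Zsh (U ⊓ V).ι) (constSh X M) 0) :
    ∃ (u : Ext (Zsh U.ι) (constSh X M) 0) (v : Ext (Zsh V.ι) (constSh X M) 0),
      w = res (constSh X M) 0 (inf_le_left : U ⊓ V ≤ U) u -
        res (constSh X M) 0 (inf_le_right : U ⊓ V ≤ V) v := by
  set φw := Ext.homEquiv₀ w with hφw
  have hc : LC ((U : Set X) ∩ (V : Set X)) (val M φw) := by
    intro m
    exact isOpen_val_eq φw m
  obtain ⟨a, b, ha, hb, hab⟩ := hglue (val M φw) hc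
  obtain ⟨φa, hφa⟩ := exists_val_eq U a ha
  obtain ⟨φb, hφb⟩ := exists_val_eq V b hb
  refine ⟨Ext.mk₀ φa, Ext.mk₀ φb, ?_⟩
  rw [mk₀_iotaLE_comp, mk₀_iotaLE_comp, ← Ext.mk₀_homEquiv₀_apply w]
  have key : Ext.homEquiv₀ w = iotaLE (inf_le_left : U ⊓ V ≤ U) ≫ φa -
      iotaLE (inf_le_right : U ⊓ V ≤ V) ≫ φb := by
    apply eq_of_val_eq
    intro x hx
    rw [val_sub, val_iotaLE _ _ x hx, val_iotaLE _ _ x hx, hφa x hx.1, hφb x hx.2]
    exact hab x hx
  rw [key]
  exact map_sub Ext.addEquiv₀.symm _ _

/-- the kernel condition of Gabber's criterion for a constant sheaf with finite value group -/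
theorem kernelCondition_const
    (hglue : ∀ f g : Γ(X, ⊤), Glue ((X.basicOpen (f * (f + g)) : X.Opens) : Set X)
      ((X.basicOpen (g * (f + g)) : X.Opens) : Set X) M) :
    KernelCondition (constSh X M) := by
  intro f g ζ hf hg
  have hU₀ := basicOpen_mul_le_right f (f + g)
  have hV₀ := basicOpen_mul_le_right g (f + g)
  have hsup : X.basicOpen (f * (f + g)) ⊔ X.basicOpen (g * (f + g)) ≤ X.basicOpen (f + g) :=
    sup_le hU₀ hV₀
  have hsup' : X.basicOpen (f + g) ≤ X.basicOpen (f * (f + g)) ⊔ X.basicOpen (g * (f + g)) := by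
    intro x hx
    rcases (TopologicalSpace.Opens.mem_sup.1 (X.basicOpen_add_le f g hx)) with h' | h'
    · apply TopologicalSpace.Opens.mem_sup.2
      left
      rw [Scheme.basicOpen_mul]
      exact ⟨h', hx⟩
    · apply TopologicalSpace.Opens.mem_sup.2
      right
      rw [Scheme.basicOpen_mul]
      exact ⟨h', hx⟩
  apply eq_zero_of_res_eq_zero (constSh X M) _ hsup hsup'
  obtain ⟨δ, -, h2, -, h4⟩ := isMV_opens (X.basicOpen (f * (f + g))) (X.basicOpen (g * (f + g))) (constSh X M)
  have hmem : res (constSh X M) 1 hsup ζ ∈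
      (AddMonoidHom.prod
        (res (constSh X M) (0 + 1) (le_sup_left : X.basicOpen (f * (f + g)) ≤ _ ⊔ X.basicOpen (g * (f + g))))
        (res (constSh X M) (0 + 1) (le_sup_right :
          X.basicOpen (g * (f + g)) ≤ X.basicOpen (f * (f + g)) ⊔ _))).ker := by
    rw [AddMonoidHom.mem_ker, AddMonoidHom.prod_apply, Prod.mk_eq_zero]
    constructor
    · exact (res_res (constSh X M) 1 _ hsup ζ).trans hf
    · exact (res_res (constSh X M) 1 _ hsup ζ).trans hg
  rw [h2 0] at hmem
  obtain ⟨w, hw⟩ := hmem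
  obtain ⟨u, v, huv⟩ := exists_sub_of_glue M _ _ (hglue f g) w
  have hker : w ∈ (δ 0).ker := by
    rw [h4 0]
    refine ⟨(u, v), ?_⟩
    rw [AddMonoidHom.sub_apply, AddMonoidHom.comp_apply, AddMonoidHom.comp_apply]
    simp only [AddMonoidHom.coe_fst, AddMonoidHom.coe_snd]
    exact huv.symm
  rw [← hw]
  exact hker

end Groth.Agent.Lib.EtConstKernel39
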