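import Groth.Agent.Lib.EtConstStalk
import Groth.Agent.Lib.AdjUniqComp
import Groth.Agent.Lib.EtMuConst
import Groth.Prelude.Def_EtCore

/-!
# Direct image of a constant sheaf (helper39)

For `f : Y ⟶ X` and an abelian group `M`:
* `phi f M : M_X ⟶ f_* M_Y`, adjoint of `pullConstIso f`; `phi_constSec` (it maps constant
  sections to constant sections); `isIso_unit_iff_isIso_phi`;
* `constSec_injective`, `exists_constSec_eq_of_connected` (sections of a constant sheaf over a
  connected etale scheme are constant);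
* `isIso_phi_of_connected`: if every point of every etale `V → X` has an etale neighbourhood `V'`
  whose base change `V' ×_X Y` is connected, then `M_X ⟶ f_* M_Y` is an isomorphism.
-/

set_option autoImplicit false
universe u
open CategoryTheory CategoryTheory.Limits AlgebraicGeometry Opposite

namespace Groth.Agent.Lib.EtConstPush

open EtCore EtCoh Groth.Agent.Lib.EtConst Groth.Agent.Lib.EtGerm Groth.Agent.Lib.EtStalkPullGerm
  Groth.Agent.Lib.EtStalkConservative

variable {Y X : Scheme.{u}} (f : Y ⟶ X) (M : AddCommGrpCat.{u+1})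

/-- the canonical map `M_X ⟶ f_* M_Y` -/
noncomputable def phi : constSh X M ⟶ (EtCoh.push f).obj (constSh Y M) :=
  (EtCoh.pullPushAdj f).homEquiv _ _ ((pullConstIso f).hom.app M)

lemma unit_comp : (EtCoh.pullPushAdj f).unit.app (constSh X M) ≫
    (EtCoh.push f).map ((pullConstIso f).hom.app M) = phi f M :=
  ((EtCoh.pullPushAdj f).homEquiv_unit _ _ _).symm

lemma isIso_unit_iff_isIso_phi :
    IsIso ((EtCoh.pullPushAdj f).unit.app (constSh X M)) ↔ IsIso (phi f M) := by
  rw [← unit_comp]
  constructor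
  · intro h
    infer_instance
  · intro h
    exact IsIso.of_isIso_comp_right _ ((EtCoh.push f).map ((pullConstIso f).hom.app M))

lemma constAdj_unit (X : Scheme.{u}) (M : AddCommGrpCat.{u+1}) (m : M) :
    ((constAdj X).unit.app M).hom m = constSec M (EtCoh.top X) m := by
  rfl


lemma phi_top (m : M) :
    (pushGsecIso f).hom.app (constSh Y M)
      ((phi f M).hom.app (op (EtCoh.top X)) (constSec M (EtCoh.top X) m)) =
    constSec M (EtCoh.top Y) m := by
  have h := Groth.Agent.Lib.AdjUniqComp.homEquiv_constIso (constAdj X) (constAdj Y)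
    (EtCoh.pullPushAdj f) (pushGsecIso f) M
  have h2 := congrArg (fun k => k.hom m) h
  exact h2

lemma phi_constSec_top (m : M) :
    (phi f M).hom.app (op (EtCoh.top X)) (constSec M (EtCoh.top X) m) =
      constSec M ((EtCoh.bc f).obj (EtCoh.top X)) m := by
  have h := phi_top f M m
  have h1 : (constSh Y M).obj.map (bcTopIso f).hom.op
      ((constSh Y M).obj.map (bcTopIso f).inv.op
        ((phi f M).hom.app (op (EtCoh.top X)) (constSec M (EtCoh.top X) m))) =
      (constSh Y M).obj.map (bcTopIso f).hom.op (constSec M (EtCoh.top Y) m) :=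
    congrArg _ h
  rw [constSec_res] at h1
  rw [← h1]
  have h3 : (bcTopIso f).inv.op ≫ (bcTopIso f).hom.op = 𝟙 _ := by
    rw [← op_comp, Iso.hom_inv_id, op_id]
  have h4 := congrArg (fun k => (constSh Y M).obj.map k) h3
  simp only [Functor.map_comp, CategoryTheory.Functor.map_id] at h4
  exact (congrArg (fun k => k.hom ((phi f M).hom.app (op (EtCoh.top X))
    (constSec M (EtCoh.top X) m))) h4).symm

/-- `phi` maps constant sections to constant sections -/
lemma phi_constSec (V : X.Etale) (m : M) :
    (phi f M).hom.app (op V) (constSec M V m) = constSec M ((EtCoh.bc f).obj V) m := by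
  let g : V ⟶ EtCoh.top X := toTop V
  have hn := (phi f M).hom.naturality g.op
  have h1 := congrArg (fun k => k.hom (constSec M (EtCoh.top X) m)) hn
  have h2 : (constSh X M).obj.map g.op (constSec M (EtCoh.top X) m) = constSec M V m :=
    constSec_res M g m
  have h3 : (phi f M).hom.app (op V) ((constSh X M).obj.map g.op (constSec M (EtCoh.top X) m)) =
      (constSh Y M).obj.map ((EtCoh.bc f).map g).op
        ((phi f M).hom.app (op (EtCoh.top X)) (constSec M (EtCoh.top X) m)) := h1
  rw [h2, phi_constSec_top, constSec_res] at h3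
  exact h3


section connected

variable {Y : Scheme.{u}} (M : AddCommGrpCat.{u+1})

lemma exists_geomNbhd (W : Y.Etale) (w : W.left) :
    ∃ (Ω : Type u) (_ : Field Ω) (_ : IsSepClosed Ω) (ξ : Spec (CommRingCat.of Ω) ⟶ Y)
      (y : Nbhd ξ W), Nbhd.pt ξ y = w := by
  obtain ⟨y, hy⟩ := exists_stdPt_nbhd W w
  exact ⟨_, inferInstance, inferInstance, _, y, hy⟩

/-- constant sections over a nonempty etale scheme determine their value -/
lemma constSec_injective (W : Y.Etale) [Nonempty W.left] : Function.Injective (constSec M W) := by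
  rw [injective_iff_map_eq_zero]
  intro m hm
  obtain ⟨w⟩ := (inferInstance : Nonempty W.left)
  obtain ⟨Ω, _, _, ξ, y, -⟩ := exists_geomNbhd W w
  exact constSec_eq_zero_of_nbhd ξ M y m hm

/-- the set of points near which `t` is the constant section with value `m` -/
def constLocus {W : Y.Etale} (t : EtCoh.sect (constSh Y M) W) (m : M) : Set W.left :=
  {w | ∃ (V : Y.Etale) (g : V ⟶ W), w ∈ Set.range g.left ∧
    (constSh Y M).obj.map g.op t = constSec M V m}

lemma isOpen_constLocus {W : Y.Etale} (t : EtCoh.sect (constSh Y M) W) (m : M) :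
    IsOpen (constLocus M t m) := by
  rw [isOpen_iff_forall_mem_open]
  rintro w ⟨V, g, hw, hg⟩
  refine ⟨Set.range g.left, ?_, g.left.isOpenMap.isOpen_range, hw⟩
  rintro w' hw'
  exact ⟨V, g, hw', hg⟩

lemma constLocus_disjoint {W : Y.Etale} (t : EtCoh.sect (constSh Y M) W) (m m' : M) (w : W.left)
    (h : w ∈ constLocus M t m) (h' : w ∈ constLocus M t m') : m = m' := by
  obtain ⟨V, g, ⟨v, hv⟩, hg⟩ := h
  obtain ⟨V', g', ⟨v', hv'⟩, hg'⟩ := h'
  obtain ⟨Ω, _, _, ξ, y, hy⟩ := exists_geomNbhd W w
  obtain ⟨z, hz, -⟩ := exists_nbhd_lift ξ g y v (hv.trans hy.symm)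
  obtain ⟨z', hz', -⟩ := exists_nbhd_lift ξ g' y v' (hv'.trans hy.symm)
  apply constGerm_injective ξ M
  rw [← germ_constSec ξ M z m, ← hg, germ_res, hz,
    ← germ_constSec ξ M z' m', ← hg', germ_res, hz']

/-- sections of a constant sheaf over a connected etale scheme are constant -/
lemma exists_constSec_eq_of_connected (W : Y.Etale) [ConnectedSpace W.left]
    (t : EtCoh.sect (constSh Y M) W) : ∃ m : M, t = constSec M W m := by
  obtain ⟨w₀⟩ := (inferInstance : Nonempty W.left)
  obtain ⟨V₀, g₀, m₀, hw₀, hg₀⟩ := exists_constSec_eq_pt M t w₀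
  have hmem : w₀ ∈ constLocus M t m₀ := ⟨V₀, g₀, hw₀, hg₀⟩
  have hcl : IsClopen (constLocus M t m₀) := by
    refine ⟨?_, isOpen_constLocus M t m₀⟩
    rw [← isOpen_compl_iff]
    have : (constLocus M t m₀)ᶜ = ⋃ m ∈ {m : M | m ≠ m₀}, constLocus M t m := by
      ext w
      simp only [Set.mem_compl_iff, Set.mem_iUnion, Set.mem_ofPred_eq, exists_prop]
      constructor
      · intro hw
        obtain ⟨V, g, m, hwV, hg⟩ := exists_constSec_eq_pt M t w
        refine ⟨m, ?_, V, g, hwV, hg⟩
        rintro rfl
        exact hw ⟨V, g, hwV, hg⟩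
      · rintro ⟨m, hm, hw⟩ hw'
        exact hm (constLocus_disjoint M t m m₀ w hw hw')
    rw [this]
    exact isOpen_biUnion (fun m _ => isOpen_constLocus M t m)
  have huniv : constLocus M t m₀ = Set.univ := hcl.eq_univ ⟨w₀, hmem⟩
  refine ⟨m₀, ?_⟩
  apply section_ext_of_forall_pt
  intro w
  obtain ⟨V, g, hwV, hg⟩ : w ∈ constLocus M t m₀ := by rw [huniv]; trivial
  exact ⟨V, g, hwV, by rw [hg, constSec_res]⟩

end connected


section criterion

variable {Y X : Scheme.{u}} (f : Y ⟶ X) (M : AddCommGrpCat.{u+1})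

/-- If every point of every etale `X`-scheme has an etale neighbourhood whose base change to `Y`
is connected, then `M_X ⟶ f_* M_Y` is an isomorphism. -/
theorem isIso_phi_of_connected
    (H : ∀ (V : X.Etale) (v : V.left), ∃ (V' : X.Etale) (g : V' ⟶ V),
      v ∈ Set.range g.left ∧ ConnectedSpace ((EtCoh.bc f).obj V').left) :
    IsIso (phi f M) := by
  have hmono : Mono (phi f M) := by
    apply Groth.Agent.Lib.EtMuConst.mono_of_injective_app
    intro V
    rw [injective_iff_map_eq_zero]
    intro s hs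
    apply section_eq_zero_of_forall_pt
    intro v
    obtain ⟨V₁, g₁, m, ⟨v₁, hv₁⟩, hg₁⟩ := exists_constSec_eq_pt M s v
    obtain ⟨V₂, g₂, ⟨v₂, hv₂⟩, hconn⟩ := H V₁ v₁
    refine ⟨V₂, g₂ ≫ g₁, ⟨v₂, ?_⟩, ?_⟩
    · show g₁.left (g₂.left v₂) = v
      rw [hv₂, hv₁]
    · have h1 : (constSh X M).obj.map (g₂ ≫ g₁).op s = constSec M V₂ m := by
        rw [op_comp, Functor.map_comp]
        show (constSh X M).obj.map g₂.op ((constSh X M).obj.map g₁.op s) = _
        rw [hg₁, constSec_res]
      rw [h1]
      have hn := (phi f M).hom.naturality (g₂ ≫ g₁).op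
      have h2 := congrArg (fun k => k.hom s) hn
      have h3 : (phi f M).hom.app (op V₂) ((constSh X M).obj.map (g₂ ≫ g₁).op s) =
          (constSh Y M).obj.map ((EtCoh.bc f).map (g₂ ≫ g₁)).op ((phi f M).hom.app (op V) s) := h2
      rw [h1, hs, phi_constSec] at h3
      have h4 : constSec M ((EtCoh.bc f).obj V₂) m = 0 :=
        h3.trans (map_zero ((constSh Y M).obj.map ((EtCoh.bc f).map (g₂ ≫ g₁)).op).hom)
      have : m = 0 := by
        apply constSec_injective M ((EtCoh.bc f).obj V₂)
        rw [h4, map_zero]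
      rw [this, map_zero]
  have hepi : Epi (phi f M) := by
    have hls : Presheaf.IsLocallySurjective X.smallEtaleTopology (phi f M).hom := ⟨fun {V} t => by
      apply sieve_mem_of_forall_pt
      intro v
      obtain ⟨V', g, hv, hconn⟩ := H V v
      refine ⟨V', g, ?_, hv⟩
      obtain ⟨m, hm⟩ := exists_constSec_eq_of_connected M ((EtCoh.bc f).obj V')
        ((constSh Y M).obj.map ((EtCoh.bc f).map g).op t)
      exact ⟨constSec M V' m, (phi_constSec f M V' m).trans hm.symm⟩⟩
    have : Sheaf.IsLocallySurjective (phi f M) := hls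
    exact (Sheaf.isLocallySurjective_iff_epi' (φ := phi f M)).1 this
  exact isIso_of_mono_of_epi _

end criterion

end Groth.Agent.Lib.EtConstPush
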