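/-
helper96: EGA IV 18.10.1 continued — version over a base ring `A` which is only locally (at `p`) a
geometrically unibranch domain: `B_q` is flat over `A`.
-/
import Groth.Agent.Lib.UnramGeomUnibranch96
import Groth.Agent.Lib.GeomUnibranchEquiv96

set_option autoImplicit false
universe u

namespace Groth.Agent.Lib.UnramGeomUnibranch96

open IsLocalRing Polynomial TensorProduct

section MainGeneral

variable {A C S Bq : Type u} [CommRing A] [CommRing C] [Algebra A C]
  [Algebra.Etale A C] [CommRing S] [IsLocalRing S] [IsDomain S] [Algebra A S] [Module.Flat A S]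
  [CommRing Bq] [IsLocalRing Bq] [Algebra A Bq]

/-- Key step of EGA IV 18.10.1, general base: the kernel of `ψ : C → B_q` dies in the domain `S`,
provided `ker (A → B_q) ⊆ ker (A → S)`. -/
theorem map_eq_zero_of_map_eq_zero' (σ : C →ₐ[A] S) (ψ : C →ₐ[A] Bq)
    (hσψ : (maximalIdeal S).comap (σ : C →+* S) = (maximalIdeal Bq).comap (ψ : C →+* Bq))
    (hker : ∀ a : A, algebraMap A Bq a = 0 → algebraMap A S a = 0) (x : C) (hx : ψ x = 0) :
    σ x = 0 := by
  by_contra hne
  let N : Ideal C := RingHom.ker (σ : C →+* S)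
  have hNprime : N.IsPrime := RingHom.ker_isPrime _
  let 𝔫 : Ideal A := N.comap (algebraMap A C)
  have h𝔫prime : 𝔫.IsPrime := Ideal.comap_isPrime _ _
  have hqf : Algebra.QuasiFinite (A ⧸ 𝔫) (C ⧸ N) := Algebra.QuasiFinite.of_restrictScalars A _ _
  have hxN : Ideal.Quotient.mk N x ≠ 0 := by
    rw [Ne, Ideal.Quotient.eq_zero_iff_mem]
    exact hne
  obtain ⟨P, hP0, hP⟩ := exists_polynomial_aeval_eq_zero (A := A ⧸ 𝔫) (Ideal.Quotient.mk N x)
  let J : Ideal (C ⧸ N) := (RingHom.ker (ψ : C →+* Bq)).map (Ideal.Quotient.mk N)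
  have hxJ : Ideal.Quotient.mk N x ∈ J := Ideal.mem_map_of_mem _ hx
  have hJ := Ideal.comap_ne_bot_of_algebraic_mem (R := A ⧸ 𝔫) hxN hxJ ⟨P, hP0, hP⟩
  obtain ⟨abar, habar, habar0⟩ := Submodule.exists_mem_ne_zero_of_ne_bot hJ
  obtain ⟨a, rfl⟩ := Ideal.Quotient.mk_surjective abar
  have h1 : Ideal.Quotient.mk N (algebraMap A C a) ∈ J := habar
  obtain ⟨x', hx', hx'a⟩ :=
    (Ideal.mem_map_iff_of_surjective _ Ideal.Quotient.mk_surjective).1 h1
  have h2 : σ (algebraMap A C a - x') = 0 := by
    have : algebraMap A C a - x' ∈ N := by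
      rw [← Ideal.Quotient.eq, hx'a]
    exact this
  obtain ⟨t, ht, htx⟩ := exists_mul_eq_zero_of_map_eq_zero σ _ h2
  have htu : IsUnit (ψ t) := by
    have h5 : t ∉ (maximalIdeal S).comap (σ : C →+* S) := ht
    rw [hσψ] at h5
    have h6 : ψ t ∉ maximalIdeal Bq := h5
    simpa [mem_maximalIdeal, mem_nonunits_iff] using h6
  have h7 : ψ t * algebraMap A Bq a = 0 := by
    have := congrArg ψ htx
    rw [map_mul, map_sub, show ψ x' = 0 from hx', sub_zero, ψ.commutes, map_zero] at this
    exact this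
  have h8 : algebraMap A Bq a = 0 := (htu.mul_right_eq_zero).1 h7
  have h9 : algebraMap A S a = 0 := hker a h8
  apply habar0
  rw [Ideal.Quotient.eq_zero_iff_mem]
  change σ (algebraMap A C a) = 0
  rw [σ.commutes, h9]

/-- Consequence: the kernel of `ψ` dies in the localization of `C` at the centre of `ψ`. -/
theorem exists_mul_eq_zero_of_ker' (σ : C →ₐ[A] S) (ψ : C →ₐ[A] Bq)
    (hσψ : (maximalIdeal S).comap (σ : C →+* S) = (maximalIdeal Bq).comap (ψ : C →+* Bq))
    (hker : ∀ a : A, algebraMap A Bq a = 0 → algebraMap A S a = 0) (x : C) (hx : ψ x = 0) :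
    ∃ t : C, IsUnit (ψ t) ∧ t * x = 0 := by
  obtain ⟨t, ht, htx⟩ := exists_mul_eq_zero_of_map_eq_zero σ x
    (map_eq_zero_of_map_eq_zero' σ ψ hσψ hker x hx)
  refine ⟨t, ?_, htx⟩
  have h5 : t ∉ (maximalIdeal S).comap (σ : C →+* S) := ht
  rw [hσψ] at h5
  have h6 : ψ t ∉ maximalIdeal Bq := h5
  simpa [mem_maximalIdeal, mem_nonunits_iff] using h6

end MainGeneral

section FinalFlat

open Groth.Agent.Lib.StrictHenselization

/-- EGA IV 18.10.1, local form: if `A_p` is a geometrically unibranch domain, `B` is of finite type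
over `A` and unramified at `q`, and `A_p → B_q` is injective, then `B_q` is the local ring of an
étale `A`-algebra; in particular it is flat over `A`. -/
theorem flat_localization_of_unramified_geomUnibranch {A B : Type u} [CommRing A] [CommRing B]
    [Algebra A B] (q : Ideal B) [q.IsPrime] (p : Ideal A) [p.IsPrime] [q.LiesOver p]
    [IsDomain (Localization.AtPrime p)]
    (hA : CAlg2.IsGeomUnibranch (Localization.AtPrime p)) [Algebra.FiniteType A B]
    [Algebra.IsUnramifiedAt A q]
    (hinj : Function.Injective (Localization.localRingHom p q (algebraMap A B) (q.over_def p))) :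
    Module.Flat A (Localization.AtPrime q) := by
  classical
  obtain ⟨f, hfq, P, φ, hφ⟩ :=
    Algebra.IsUnramifiedAt.exists_hasStandardEtaleSurjectionOn (R := A) q
  let Ap := Localization.AtPrime p
  let Bq := Localization.AtPrime q
  let Bf := Localization.Away f
  let S := Sh Ap
  have hSdom : IsDomain S := (Groth.Agent.S2750.result Ap S).1 ⟨inferInstance, hA⟩
  let _ : Algebra A S := ((algebraMap Ap S).comp (algebraMap A Ap)).toAlgebra
  have htow : IsScalarTower A Ap S := IsScalarTower.of_algebraMap_eq (fun _ => rfl)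
  have hflat : Module.Flat A S := Module.Flat.trans A Ap S
  have hfu : ∀ y : Submonoid.powers f, IsUnit (IsScalarTower.toAlgHom A B Bq y) := by
    rintro ⟨_, n, rfl⟩
    change IsUnit (algebraMap B Bq (f ^ n))
    rw [map_pow]
    exact ((IsLocalization.AtPrime.isUnit_to_map_iff Bq q f).2 hfq).pow n
  let θ : Bf →ₐ[A] Bq := IsLocalization.liftAlgHom (M := Submonoid.powers f)
    (f := IsScalarTower.toAlgHom A B Bq) hfu
  have hθ : ∀ b : B, θ (algebraMap B Bf b) = algebraMap B Bq b := fun b =>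
    IsLocalization.lift_eq _ _
  let ψ : P.Ring →ₐ[A] Bq := θ.comp φ
  let Q : Ideal P.Ring := (maximalIdeal Bq).comap (ψ : P.Ring →+* Bq)
  have hQprime : Q.IsPrime := Ideal.comap_isPrime _ _
  have hQp : Q.LiesOver p := by
    refine ⟨?_⟩
    ext a
    rw [Ideal.under_def, Ideal.mem_comap]
    change a ∈ p ↔ ψ (algebraMap A P.Ring a) ∈ maximalIdeal Bq
    rw [ψ.commutes, IsScalarTower.algebraMap_apply A B Bq,
      IsLocalization.AtPrime.to_map_mem_maximal_iff Bq q, q.over_def p, Ideal.under_def,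
      Ideal.mem_comap]
  have hSp : (maximalIdeal S).comap (algebraMap A S) = p := by
    ext a
    rw [Ideal.mem_comap, IsScalarTower.algebraMap_apply A Ap S, ← Ideal.mem_comap,
      IsLocalRing.maximalIdeal_comap, IsLocalization.AtPrime.to_map_mem_maximal_iff Ap p]
  obtain ⟨σ, hσ⟩ := exists_algHom_comap_eq (A := A) (C := P.Ring) (S := S) Q p hSp
  have hker : ∀ a : A, algebraMap A Bq a = 0 → algebraMap A S a = 0 := by
    intro a ha
    have h1 : algebraMap A Bq a =
        Localization.localRingHom p q (algebraMap A B) (q.over_def p) (algebraMap A Ap a) := by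
      rw [Localization.localRingHom_to_map, IsScalarTower.algebraMap_apply A B Bq]
    rw [h1] at ha
    have h2 : algebraMap A Ap a = 0 := hinj (ha.trans (map_zero _).symm)
    rw [IsScalarTower.algebraMap_apply A Ap S, h2, map_zero]
  have hunit : ∀ c : P.Ring, c ∉ Q → IsUnit (ψ c) := by
    intro c hc
    have h6 : ψ c ∉ maximalIdeal Bq := hc
    simpa [mem_maximalIdeal, mem_nonunits_iff] using h6
  let Λ : Localization.AtPrime Q →ₐ[A] Bq := IsLocalization.liftAlgHom (M := Q.primeCompl)
    (f := ψ) (fun y => hunit y.1 y.2)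
  have hΛinj : Function.Injective Λ := by
    rw [injective_iff_map_eq_zero]
    intro z hz
    obtain ⟨c, s, rfl⟩ := IsLocalization.exists_mk'_eq Q.primeCompl z
    have h1 : ψ c = 0 := by
      have h2 := (IsLocalization.lift_mk'_spec (M := Q.primeCompl) (g := (ψ : P.Ring →+* Bq))
        (fun y => hunit y.1 y.2) c (0 : Bq) s).1 hz
      rw [mul_zero] at h2
      exact h2
    obtain ⟨t, htu, htc⟩ := exists_mul_eq_zero_of_ker' σ ψ hσ hker c h1
    have htQ : t ∈ Q.primeCompl := by
      intro htQ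
      have h2 : ψ t ∈ maximalIdeal Bq := htQ
      exact (mem_maximalIdeal _).1 h2 htu
    exact (IsLocalization.mk'_eq_zero_iff c s).2 ⟨⟨t, htQ⟩, htc⟩
  have hΛsurj : Function.Surjective Λ := by
    intro w
    obtain ⟨b, s, rfl⟩ := IsLocalization.exists_mk'_eq q.primeCompl w
    obtain ⟨cb, hcb⟩ := hφ (algebraMap B Bf b)
    obtain ⟨cs, hcs⟩ := hφ (algebraMap B Bf s.1)
    have hψcb : ψ cb = algebraMap B Bq b := by
      change θ (φ cb) = _
      rw [hcb, hθ]
    have hψcs : ψ cs = algebraMap B Bq s.1 := by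
      change θ (φ cs) = _
      rw [hcs, hθ]
    have hcsQ : cs ∈ Q.primeCompl := by
      intro h
      have h2 : ψ cs ∈ maximalIdeal Bq := h
      rw [hψcs] at h2
      exact (mem_maximalIdeal _).1 h2 (IsLocalization.map_units Bq s)
    refine ⟨IsLocalization.mk' _ cb ⟨cs, hcsQ⟩, ?_⟩
    refine (IsLocalization.lift_mk'_spec (M := Q.primeCompl) (g := (ψ : P.Ring →+* Bq))
      (fun y => hunit y.1 y.2) cb _ ⟨cs, hcsQ⟩).2 ?_
    change ψ cb = ψ cs * _
    rw [hψcb, hψcs, IsLocalization.mk'_spec']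
  let e : Localization.AtPrime Q ≃ₐ[A] Bq := AlgEquiv.ofBijective Λ ⟨hΛinj, hΛsurj⟩
  have hfl1 : Module.Flat A P.Ring := inferInstance
  have hfl2 : Module.Flat A (Localization.AtPrime Q) :=
    Module.Flat.trans A P.Ring (Localization.AtPrime Q)
  exact Module.Flat.of_linearEquiv e.symm.toLinearEquiv

end FinalFlat

end Groth.Agent.Lib.UnramGeomUnibranch96
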