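/-
helper96: local rings of étale algebras over a geometrically unibranch local domain are again
geometrically unibranch domains (EGA IV 18.10.? / 18.8.?): the strict henselization does not change.
-/
import Groth.Agent.Lib.UnramGeomUnibranchB96

set_option autoImplicit false
set_option linter.style.haveILetI false
universe u

namespace Groth.Agent.Lib.UnramGeomUnibranch96

open IsLocalRing Groth.Agent.Lib.HznNormal96

section ShLoc

variable {A C S : Type u} [CommRing A] [CommRing C] [Algebra A C] [Algebra.Etale A C]
  (p : Ideal A) [p.IsPrime]
  [CommRing S] [IsLocalRing S] [Algebra A S] [Algebra (Localization.AtPrime p) S]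
  [IsScalarTower A (Localization.AtPrime p) S]
  [IsLocalHom (algebraMap (Localization.AtPrime p) S)]
  [Hensel.IsStrictHenselization (Localization.AtPrime p) S]
  (σ : C →ₐ[A] S)

/-- The strict henselization `S` of `A_p` is also a strict henselization of the local ring of an
étale `A`-algebra `C` at the centre of any `A`-algebra map `σ : C → S`. -/
theorem isStrictHenselization_toLoc (hQ : (nbhdPrime σ).LiesOver p) :
    letI : Algebra (Localization.AtPrime (nbhdPrime σ)) S := (toLoc σ).toAlgebra
    haveI : IsLocalHom (algebraMap (Localization.AtPrime (nbhdPrime σ)) S) :=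
      Groth.Agent.Lib.H56ShNormal.isLocalHom_toLoc σ
    Hensel.IsStrictHenselization (Localization.AtPrime (nbhdPrime σ)) S := by
  let Ap := Localization.AtPrime p
  let Q := nbhdPrime σ
  let L := Localization.AtPrime Q
  letI : Algebra L S := (toLoc σ).toAlgebra
  haveI hloc : IsLocalHom (algebraMap L S) := Groth.Agent.Lib.H56ShNormal.isLocalHom_toLoc σ
  haveI hhens : HenselianLocalRing S := Hensel.IsStrictHenselization.henselian (R := Ap)
  let ι : Ap →+* L := Localization.localRingHom p Q (algebraMap A C) (Q.over_def p)
  letI : Algebra Ap L := ι.toAlgebra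
  haveI hιloc : IsLocalHom (algebraMap Ap L) :=
    Localization.isLocalHom_localRingHom p Q (algebraMap A C) (Q.over_def p)
  have hcomp : (algebraMap L S).comp ι = algebraMap Ap S := by
    apply IsLocalization.ringHom_ext p.primeCompl
    ext a
    change toLoc σ (ι (algebraMap A Ap a)) = algebraMap Ap S (algebraMap A Ap a)
    rw [Localization.localRingHom_to_map, toLoc_algebraMap, σ.commutes,
      ← IsScalarTower.algebraMap_apply]
  haveI htow : IsScalarTower Ap L S := IsScalarTower.of_algebraMap_eq
    (fun x => (congrArg (fun k => k x) hcomp).symm)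
  refine ⟨hhens, ?_, ?_⟩
  · -- separable closure
    have h := Hensel.IsStrictHenselization.isSepClosure (R := Ap) (S := S)
    refine ⟨h.sep_closed, ?_⟩
    have := h.separable
    exact Algebra.isSeparable_tower_top_of_isSeparable (ResidueField Ap) (ResidueField L)
      (ResidueField S)
  · -- universal property
    intro T _ _ g _ τ hτ
    let f₀ : Ap →+* T := g.comp ι
    haveI hf₀ : IsLocalHom f₀ := RingHom.isLocalHom_comp g ι
    have hτ₀ : τ.comp (ResidueField.map (algebraMap Ap S)) = ResidueField.map f₀ := by
      have h1 : ResidueField.map (algebraMap Ap S) =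
          (ResidueField.map (algebraMap L S)).comp (ResidueField.map ι) := by
        refine RingHom.ext fun x => ?_
        obtain ⟨x, rfl⟩ := residue_surjective x
        simp only [RingHom.comp_apply, ResidueField.map_residue]
        exact congrArg (residue S) (congrArg (fun k => k x) hcomp).symm
      have h2 : ResidueField.map f₀ = (ResidueField.map g).comp (ResidueField.map ι) := by
        refine RingHom.ext fun x => ?_
        obtain ⟨x, rfl⟩ := residue_surjective x
        simp only [RingHom.comp_apply, ResidueField.map_residue]
        rfl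
      rw [h1, h2, ← RingHom.comp_assoc, hτ]
    obtain ⟨h, ⟨hh1, hh2⟩, huniq⟩ :=
      Hensel.IsStrictHenselization.universal (R := Ap) (S := S) T f₀ τ hτ₀
    -- `T` as an `A`-algebra
    letI : Algebra A T := (f₀.comp (algebraMap A Ap)).toAlgebra
    have hkey : h.comp (algebraMap L S) = g := by
      apply IsLocalization.ringHom_ext Q.primeCompl
      let σ₁ : C →ₐ[A] T :=
        { toRingHom := h.comp (σ : C →+* S)
          commutes' := fun a => by
            change h (σ (algebraMap A C a)) = f₀ (algebraMap A Ap a)
            rw [σ.commutes, IsScalarTower.algebraMap_apply A Ap S]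
            exact congrArg (fun k => k (algebraMap A Ap a)) hh1 }
      let σ₂ : C →ₐ[A] T :=
        { toRingHom := g.comp (algebraMap C L)
          commutes' := fun a => by
            change g (algebraMap C L (algebraMap A C a)) = g (ι (algebraMap A Ap a))
            rw [Localization.localRingHom_to_map] }
      have hσ12 : σ₁ = σ₂ := by
        refine Groth.Agent.Lib.HenselEtaleLift.lift_unique_of_algebra (A := A) (S := C) (C := T)
          (maximalIdeal T) ?_ σ₁ σ₂ ?_
        · rw [IsLocalRing.jacobson_eq_maximalIdeal ⊥ bot_ne_top]
        · ext c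
          change residue T (h (σ c)) = residue T (g (algebraMap C L c))
          rw [hh2]
          have h3 := congrArg (fun k => k (residue L (algebraMap C L c))) hτ
          change τ (residue S (toLoc σ (algebraMap C L c))) = residue T (g (algebraMap C L c)) at h3
          rw [toLoc_algebraMap] at h3
          exact h3
      ext c
      have := congrArg (fun k : C →ₐ[A] T => k c) hσ12
      change h (toLoc σ (algebraMap C L c)) = g (algebraMap C L c)
      rw [toLoc_algebraMap]
      exact this
    refine ⟨h, ⟨hkey, hh2⟩, ?_⟩
    rintro h' ⟨hh'1, hh'2⟩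
    refine huniq h' ⟨?_, hh'2⟩
    rw [← hcomp, ← RingHom.comp_assoc, hh'1]

end ShLoc

section RingLevel

open Groth.Agent.Lib.StrictHenselization

/-- Local rings of an étale algebra over (a ring which is locally) a geometrically unibranch domain
are geometrically unibranch domains. -/
theorem isDomain_and_isGeomUnibranch_localization_of_etale {A C : Type u} [CommRing A]
    [CommRing C] [Algebra A C] [Algebra.Etale A C] (p : Ideal A) [p.IsPrime] (Q : Ideal C)
    [Q.IsPrime] [Q.LiesOver p] [IsDomain (Localization.AtPrime p)]
    (hA : CAlg2.IsGeomUnibranch (Localization.AtPrime p)) :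
    IsDomain (Localization.AtPrime Q) ∧ CAlg2.IsGeomUnibranch (Localization.AtPrime Q) := by
  let Ap := Localization.AtPrime p
  let S := Sh Ap
  have hSdom : IsDomain S := (Groth.Agent.S2750.result Ap S).1 ⟨inferInstance, hA⟩
  let _ : Algebra A S := ((algebraMap Ap S).comp (algebraMap A Ap)).toAlgebra
  have htow : IsScalarTower A Ap S := IsScalarTower.of_algebraMap_eq (fun _ => rfl)
  have hflat : Module.Flat A S := Module.Flat.trans A Ap S
  have hSp : (maximalIdeal S).comap (algebraMap A S) = p := by
    ext a
    rw [Ideal.mem_comap, IsScalarTower.algebraMap_apply A Ap S, ← Ideal.mem_comap,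
      IsLocalRing.maximalIdeal_comap, IsLocalization.AtPrime.to_map_mem_maximal_iff Ap p]
  obtain ⟨σ, hσ⟩ := exists_algHom_comap_eq (A := A) (C := C) (S := S) Q p hSp
  have hQ' : nbhdPrime σ = Q := hσ
  subst hQ'
  letI : Algebra (Localization.AtPrime (nbhdPrime σ)) S := (toLoc σ).toAlgebra
  haveI : IsLocalHom (algebraMap (Localization.AtPrime (nbhdPrime σ)) S) :=
    Groth.Agent.Lib.H56ShNormal.isLocalHom_toLoc σ
  haveI hsh : Hensel.IsStrictHenselization (Localization.AtPrime (nbhdPrime σ)) S :=
    isStrictHenselization_toLoc p σ inferInstance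
  have hdom : IsDomain (Localization.AtPrime (nbhdPrime σ)) :=
    (Groth.Agent.Lib.H56ShNormal.toLoc_injective σ).isDomain (toLoc σ)
  exact ⟨hdom, ((Groth.Agent.S2750.result (Localization.AtPrime (nbhdPrime σ)) S).2 hSdom).2⟩

end RingLevel

end Groth.Agent.Lib.UnramGeomUnibranch96
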