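/-
helper96: EGA IV 18.10.1, scheme forms.
-/
import Groth.Agent.Lib.UnramGeomUnibranchB96
import Groth.Agent.Lib.H80EtaleStalk
import Groth.Agent.Lib.EtaleDescend45
import Groth.Agent.Lib.EtaleLocusBC

set_option autoImplicit false
universe u

open CategoryTheory AlgebraicGeometry IsLocalRing

namespace Groth.Agent.Lib.UnramGeomUnibranchSch96

open Groth.Agent.Lib.UnramGeomUnibranch96 Groth.Agent.Lib.H80EtaleStalk

/-- EGA IV 18.10.1 (⇐), local form: `f` locally of finite presentation, the local ring of `Y` at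
`f x` a geometrically unibranch domain, `f` unramified at `x` and `O_{Y,f x} → O_{X,x}` injective.
Then `f` is étale near `x`. -/
theorem exists_etale_nhd_of_stalk {X Y : Scheme.{u}} (f : X ⟶ Y) [LocallyOfFinitePresentation f]
    (x : X) (hY : IsDomain (Y.presheaf.stalk (f x)))
    (hY' : CAlg2.IsGeomUnibranch (Y.presheaf.stalk (f x)))
    (hunr : (f.stalkMap x).hom.FormallyUnramified)
    (hinj : Function.Injective (f.stalkMap x).hom) :
    ∃ U : X.Opens, x ∈ U ∧ Etale (U.ι ≫ f) := by
  obtain ⟨_, ⟨V, hV, rfl⟩, hyV, -⟩ :=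
    Y.isBasis_affineOpens.exists_subset_of_mem_open (Set.mem_univ (f x)) isOpen_univ
  replace hV : IsAffineOpen V := hV
  obtain ⟨_, ⟨U, hU, rfl⟩, hxU, hUV⟩ :=
    X.isBasis_affineOpens.exists_subset_of_mem_open (show x ∈ f ⁻¹ᵁ V from hyV) (f ⁻¹ᵁ V).isOpen
  replace hU : IsAffineOpen U := hU
  have e : U ≤ f ⁻¹ᵁ V := hUV
  have hft := f.finiteType_appLE hV hU e
  algebraize [(f.appLE V U e).hom]
  let p := (hV.primeIdealOf ⟨f x, e hxU⟩).asIdeal
  let q := (hU.primeIdealOf ⟨x, hxU⟩).asIdeal
  have hqp : q.LiesOver p :=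
    ⟨congr($(IsAffineOpen.comap_primeIdealOf_appLE V hV U hU e hxU).1).symm⟩
  let α := IsAffineOpen.arrowStalkMapIso f V hV U hU e hxU
  let eL : Y.presheaf.stalk (f x) ≃+* Localization.AtPrime p :=
    (Arrow.leftFunc.mapIso α).commRingCatIsoToRingEquiv
  have hdom : IsDomain (Localization.AtPrime p) := eL.symm.injective.isDomain eL.symm.toRingHom
  have hgu : CAlg2.IsGeomUnibranch (Localization.AtPrime p) :=
    Groth.Agent.Lib.GeomUnibranchEquiv96.isGeomUnibranch_of_ringEquiv eL.symm hY'
  have hinj' : Function.Injective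
      (Localization.localRingHom p q (algebraMap Γ(Y, V) Γ(X, U)) (q.over_def p)) :=
    (RingHom.injective_respectsIso.arrow_mk_iso_iff α).mp hinj
  have hun' : Algebra.IsUnramifiedAt Γ(Y, V) q := by
    let _ := Localization.AtPrime.algebraOfLiesOver p q
    have h1 : Algebra.FormallyUnramified (Localization.AtPrime p) (Localization.AtPrime q) := by
      rw [← RingHom.formallyUnramified_algebraMap]
      exact (RingHom.FormallyUnramified.respectsIso.arrow_mk_iso_iff α).mp hunr
    exact Algebra.FormallyUnramified.comp _ (Localization.AtPrime p) _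
  have hfl : Module.Flat Γ(Y, V) (Localization.AtPrime q) :=
    flat_localization_of_unramified_geomUnibranch q p hgu hinj'
  have hfl' : (f.stalkMap x).hom.Flat :=
    (Groth.Agent.Lib.EtaleLocusBC.flat_stalkMap_iff V hV U hU e hxU).2 hfl
  exact Groth.Agent.Lib.EtaleDescend45.exists_nhd_etale_of_stalk f x hfl' hunr

end Groth.Agent.Lib.UnramGeomUnibranchSch96
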