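/-
helper96: stalks of a scheme étale (near `x`) over a scheme whose local ring at `f x` is a
geometrically unibranch domain are again geometrically unibranch domains.
-/
import Groth.Agent.Lib.EtaleLocGeomUnibranch96
import Groth.Agent.Lib.UnramGeomUnibranchSch96

set_option autoImplicit false
universe u

open CategoryTheory AlgebraicGeometry IsLocalRing

namespace Groth.Agent.Lib.UnramGeomUnibranchSch96

open Groth.Agent.Lib.UnramGeomUnibranch96

theorem isDomain_and_isGeomUnibranch_stalk_of_etale {X Y : Scheme.{u}} (f : X ⟶ Y) (x : X)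
    (hY : IsDomain (Y.presheaf.stalk (f x)))
    (hY' : CAlg2.IsGeomUnibranch (Y.presheaf.stalk (f x)))
    (hf : ∃ U : X.Opens, x ∈ U ∧ Etale (U.ι ≫ f)) :
    IsDomain (X.presheaf.stalk x) ∧ CAlg2.IsGeomUnibranch (X.presheaf.stalk x) := by
  obtain ⟨W, hxW, hW⟩ := hf
  obtain ⟨_, ⟨V, hV, rfl⟩, hyV, -⟩ :=
    Y.isBasis_affineOpens.exists_subset_of_mem_open (Set.mem_univ (f x)) isOpen_univ
  replace hV : IsAffineOpen V := hV
  obtain ⟨U, hU, hxU, hUle⟩ : ∃ U : X.Opens, IsAffineOpen U ∧ x ∈ U ∧ U ≤ W ⊓ f ⁻¹ᵁ V := by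
    obtain ⟨_, ⟨U, hU, rfl⟩, hxU, hUle⟩ :=
      X.isBasis_affineOpens.exists_subset_of_mem_open
        (show x ∈ ((W ⊓ f ⁻¹ᵁ V : X.Opens) : Set X) from ⟨hxW, hyV⟩) (W ⊓ f ⁻¹ᵁ V).2
    exact ⟨U, hU, hxU, hUle⟩
  have hUW : U ≤ W := fun y hy => (hUle hy).1
  have e : U ≤ f ⁻¹ᵁ V := fun y hy => (hUle hy).2
  have het : Etale (U.ι ≫ f) := by
    rw [← X.homOfLE_ι hUW, Category.assoc]
    infer_instance
  have hQ : (f.appLE V U e).hom.Etale :=
    Groth.Agent.S9721.appLE_of_ι_comp (P := @Etale) f hU hV e het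
  algebraize [(f.appLE V U e).hom]
  have hetA : Algebra.Etale Γ(Y, V) Γ(X, U) := RingHom.etale_algebraMap.mp hQ
  let p := (hV.primeIdealOf ⟨f x, e hxU⟩).asIdeal
  let q := (hU.primeIdealOf ⟨x, hxU⟩).asIdeal
  have hqp : q.LiesOver p :=
    ⟨congr($(IsAffineOpen.comap_primeIdealOf_appLE V hV U hU e hxU).1).symm⟩
  let α := IsAffineOpen.arrowStalkMapIso f V hV U hU e hxU
  let eL : Y.presheaf.stalk (f x) ≃+* Localization.AtPrime p :=
    (Arrow.leftFunc.mapIso α).commRingCatIsoToRingEquiv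
  let eR : X.presheaf.stalk x ≃+* Localization.AtPrime q :=
    (Arrow.rightFunc.mapIso α).commRingCatIsoToRingEquiv
  have hdom : IsDomain (Localization.AtPrime p) := eL.symm.injective.isDomain eL.symm.toRingHom
  have hgu : CAlg2.IsGeomUnibranch (Localization.AtPrime p) :=
    Groth.Agent.Lib.GeomUnibranchEquiv96.isGeomUnibranch_of_ringEquiv eL.symm hY'
  obtain ⟨h1, h2⟩ := isDomain_and_isGeomUnibranch_localization_of_etale p q hgu
  exact ⟨eR.injective.isDomain eR.toRingHom,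
    Groth.Agent.Lib.GeomUnibranchEquiv96.isGeomUnibranch_of_ringEquiv eR h2⟩

end Groth.Agent.Lib.UnramGeomUnibranchSch96
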