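import Mathlib

/-!
# Extending locally constant data from a dense quasi-compact open (helper39)

`exists_open_inter_subset`: let `T` be a reduced affine scheme, `v : T` a point whose local ring is
a domain, `D ⊆ T` a dense compact subset covered by pairwise disjoint open sets `C m`.  Then there
are an open neighbourhood `O` of `v` and an index `m₀` with `O ∩ D ⊆ C m₀`.
(Mathlib only.)
-/

set_option autoImplicit false
universe u
open CategoryTheory AlgebraicGeometry TopologicalSpace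

namespace Groth.Agent.Lib.LocConstExtend39

/-- a section whose germ at `v` vanishes has basic open disjoint from a neighbourhood of `v` -/
lemma exists_open_disjoint_basicOpen {T : Scheme.{u}} (v : T) (f : Γ(T, ⊤))
    (h : T.presheaf.germ ⊤ v trivial f = 0) :
    ∃ O : T.Opens, v ∈ O ∧ O ⊓ T.basicOpen f = ⊥ := by
  have h' : T.presheaf.germ ⊤ v trivial f = T.presheaf.germ ⊤ v trivial 0 := by
    rw [h, map_zero]
  obtain ⟨O, hvO, i₁, i₂, e⟩ := T.presheaf.germ_eq (U := ⊤) (V := ⊤) v trivial trivial f 0 h'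
  refine ⟨O, hvO, ?_⟩
  rw [← Scheme.basicOpen_res T f i₁.op, e, map_zero, Scheme.basicOpen_zero]

theorem exists_open_inter_subset {T : Scheme.{u}} [IsAffine T] [IsReduced T] (v : T)
    [IsDomain (T.presheaf.stalk v)] {ι : Type*} (C : ι → Set T) (hCo : ∀ m, IsOpen (C m))
    (hCd : ∀ m m', m ≠ m' → Disjoint (C m) (C m')) (D : Set T) (hD : D ⊆ ⋃ m, C m)
    (hDc : IsCompact D) (hDd : Dense D) :
    ∃ O : T.Opens, v ∈ O ∧ ∃ m₀, (O : Set T) ∩ D ⊆ C m₀ := by
  classical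
  -- the index set: pairs (f, m) with `D(f) ⊆ C m`
  let S : Type _ := {p : Γ(T, ⊤) × ι // (T.basicOpen p.1 : Set T) ⊆ C p.2}
  have hcov : D ⊆ ⋃ p : S, (T.basicOpen p.1.1 : Set T) := by
    intro q hq
    obtain ⟨m, hm⟩ := Set.mem_iUnion.1 (hD hq)
    obtain ⟨_, ⟨f, rfl⟩, hqf, hfC⟩ := Opens.isBasis_iff_nbhd.1 (isBasis_basicOpen T)
      (show q ∈ (⟨C m, hCo m⟩ : T.Opens) from hm)
    exact Set.mem_iUnion.2 ⟨⟨(f, m), hfC⟩, hqf⟩
  obtain ⟨F, hF⟩ := hDc.elim_finite_subcover (fun p : S => (T.basicOpen p.1.1 : Set T))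
    (fun p => (T.basicOpen p.1.1).2) hcov
  -- for those with vanishing germ choose a neighbourhood
  have hex : ∀ p : S, ∃ O : T.Opens, v ∈ O ∧
      (T.presheaf.germ ⊤ v trivial p.1.1 = 0 → O ⊓ T.basicOpen p.1.1 = ⊥) := by
    intro p
    by_cases h0 : T.presheaf.germ ⊤ v trivial p.1.1 = 0
    · obtain ⟨O, hvO, hO⟩ := exists_open_disjoint_basicOpen v p.1.1 h0
      exact ⟨O, hvO, fun _ => hO⟩
    · exact ⟨⊤, trivial, fun h => (h0 h).elim⟩
  choose Op hvOp hOp using hex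
  let O : T.Opens := F.inf Op
  have hvO : v ∈ O := by
    have : ∀ G : Finset S, v ∈ G.inf Op := by
      intro G
      induction G using Finset.induction_on with
      | empty => simp
      | insert a G _ ih =>
        rw [Finset.inf_insert]
        exact ⟨hvOp a, ih⟩
    exact this F
  have hOle : ∀ p ∈ F, O ≤ Op p := fun p hp => Finset.inf_le hp
  -- every point of `O ∩ D` lies in some `D(f)`, `(f, m) ∈ F`, with nonvanishing germ
  have hkey : ∀ q ∈ (O : Set T) ∩ D, ∃ p ∈ F, q ∈ T.basicOpen p.1.1 ∧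
      T.presheaf.germ ⊤ v trivial p.1.1 ≠ 0 := by
    rintro q ⟨hqO, hqD⟩
    obtain ⟨p, hp⟩ := Set.mem_iUnion.1 (hF hqD)
    obtain ⟨hpF, hqp⟩ := Set.mem_iUnion.1 hp
    refine ⟨p, hpF, hqp, fun h0 => ?_⟩
    have h1 : q ∈ Op p ⊓ T.basicOpen p.1.1 := ⟨hOle p hpF hqO, hqp⟩
    rw [hOp p h0] at h1
    exact h1
  -- `O ∩ D` is nonempty
  obtain ⟨q₀, hq₀D, hq₀O⟩ := hDd.exists_mem_open O.2 ⟨v, hvO⟩
  obtain ⟨p₀, hp₀F, hq₀p₀, hp₀⟩ := hkey q₀ ⟨hq₀O, hq₀D⟩
  refine ⟨O, hvO, p₀.1.2, ?_⟩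
  intro q hq
  obtain ⟨p, hpF, hqp, hp⟩ := hkey q hq
  have hm : p.1.2 = p₀.1.2 := by
    by_contra hne
    have hdisj : T.basicOpen (p.1.1 * p₀.1.1) = ⊥ := by
      rw [Scheme.basicOpen_mul]
      ext x
      simp only [Opens.coe_inf, Set.mem_inter_iff, SetLike.mem_coe, Opens.coe_bot,
        Set.mem_empty_iff_false, iff_false, not_and]
      intro hx hx'
      exact (Set.disjoint_left.1 (hCd _ _ hne)) (p.2 hx) (p₀.2 hx')
    have hzero : p.1.1 * p₀.1.1 = 0 := (basicOpen_eq_bot_iff _).1 hdisj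
    have hg := congrArg (T.presheaf.germ ⊤ v trivial) hzero
    rw [map_mul, map_zero] at hg
    rcases mul_eq_zero.1 hg with h | h
    · exact hp h
    · exact hp₀ h
  rw [← hm]
  exact p.2 hqp

end Groth.Agent.Lib.LocConstExtend39
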