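import Groth.Agent.Lib.EtConstPushNormal
import Groth.Agent.Lib.LocConstExtend39
import Groth.Agent.Lib.EtaleLocGeomUnibranchSch96

/-!
# `M_X ≅ j_* M_U` for a dense quasi-compact open immersion into a normal scheme (helper39)

* `isIso_phi_of_locally_const`: refined criterion for `M_X ⟶ f_* M_Y` to be an isomorphism
  (no connectedness: sections of `M_Y` over `V ×_X Y` are locally on `V` constant);
* `isIso_unit_of_dense_open`: `X` normal (local rings integrally closed domains, `X` not necessarily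
  irreducible), `j : U ⟶ X` a quasi-compact open immersion with dense range: the unit
  `M_X ⟶ j_* j^* M_X` is an isomorphism.
-/

set_option autoImplicit false
universe u
open CategoryTheory CategoryTheory.Limits AlgebraicGeometry Opposite

namespace Groth.Agent.Lib.EtConstPushDense

open EtCore EtCoh Groth.Agent.Lib.EtConst Groth.Agent.Lib.EtGerm Groth.Agent.Lib.EtConstPush
  Groth.Agent.Lib.EtStalkPullGerm Groth.Agent.Lib.EtStalkConservative

section locus

variable {Y : Scheme.{u}} (M : AddCommGrpCat.{u+1})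

lemma exists_mem_constLocus {W : Y.Etale} (t : EtCoh.sect (constSh Y M) W) (w : W.left) :
    ∃ m : M, w ∈ constLocus M t m := by
  obtain ⟨V, g, m, hw, hg⟩ := exists_constSec_eq_pt M t w
  exact ⟨m, V, g, hw, hg⟩

lemma germ_eq_of_mem_constLocus {Ω : Type u} [Field Ω] [IsSepClosed Ω]
    (ξ : Spec (CommRingCat.of Ω) ⟶ Y) {W : Y.Etale} (t : EtCoh.sect (constSh Y M) W)
    (y : Nbhd ξ W) (m : M) (h : Nbhd.pt ξ y ∈ constLocus M t m) :
    germ ξ (constSh Y M) y t = constGerm ξ M m := by
  obtain ⟨V, g, ⟨v, hv⟩, hg⟩ := h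
  obtain ⟨z, hz, -⟩ := exists_nbhd_lift ξ g y v hv
  rw [← germ_constSec ξ M z m, ← hg, germ_res, hz]

/-- if `g` maps all of `W'` into the locus where `t` is constant with value `m₀`, then the
restriction of `t` along `g` is the constant section `m₀` -/
lemma res_eq_constSec_of_forall_mem_constLocus {W W' : Y.Etale} (g : W' ⟶ W)
    (t : EtCoh.sect (constSh Y M) W) (m₀ : M)
    (h : ∀ w' : W'.left, g.left w' ∈ constLocus M t m₀) :
    (constSh Y M).obj.map g.op t = constSec M W' m₀ := by
  apply section_ext_of_germs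
  intro x y
  rw [germ_res, germ_constSec]
  apply germ_eq_of_mem_constLocus
  rw [Nbhd.pt_map]
  exact h _

end locus

section criterion

variable {Y X : Scheme.{u}} (f : Y ⟶ X) (M : AddCommGrpCat.{u+1})

/-- refined criterion: `M_X ⟶ f_* M_Y` is an isomorphism if nonempty etale `X`-schemes have nonempty
base change and sections of `M_Y` over base changes are locally (on the `X`-scheme) constant -/
theorem isIso_phi_of_locally_const
    (H1 : ∀ V : X.Etale, Nonempty V.left → Nonempty ((EtCoh.bc f).obj V).left)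
    (H2 : ∀ (V : X.Etale) (v : V.left) (t : EtCoh.sect (constSh Y M) ((EtCoh.bc f).obj V)),
      ∃ (V' : X.Etale) (g : V' ⟶ V), v ∈ Set.range g.left ∧ ∃ m : M,
        (constSh Y M).obj.map ((EtCoh.bc f).map g).op t = constSec M ((EtCoh.bc f).obj V') m) :
    IsIso (phi f M) := by
  have hmono : Mono (phi f M) := by
    apply Groth.Agent.Lib.EtMuConst.mono_of_injective_app
    intro V
    rw [injective_iff_map_eq_zero]
    intro s hs
    apply section_eq_zero_of_forall_pt
    intro v
    obtain ⟨V₁, g₁, m, ⟨v₁, hv₁⟩, hg₁⟩ := exists_constSec_eq_pt M s v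
    refine ⟨V₁, g₁, ⟨v₁, hv₁⟩, ?_⟩
    rw [hg₁]
    have hn := (phi f M).hom.naturality g₁.op
    have h2 := congrArg (fun k => k.hom s) hn
    have h3 : (phi f M).hom.app (op V₁) ((constSh X M).obj.map g₁.op s) =
        (constSh Y M).obj.map ((EtCoh.bc f).map g₁).op ((phi f M).hom.app (op V) s) := h2
    rw [hg₁, hs, phi_constSec] at h3
    have h4 : constSec M ((EtCoh.bc f).obj V₁) m = 0 :=
      h3.trans (map_zero ((constSh Y M).obj.map ((EtCoh.bc f).map g₁).op).hom)
    have hne : Nonempty ((EtCoh.bc f).obj V₁).left := H1 V₁ ⟨v₁⟩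
    have : m = 0 := by
      apply constSec_injective M ((EtCoh.bc f).obj V₁)
      rw [h4, map_zero]
    rw [this, map_zero]
  have hepi : Epi (phi f M) := by
    have hls : Presheaf.IsLocallySurjective X.smallEtaleTopology (phi f M).hom := ⟨fun {V} t => by
      apply sieve_mem_of_forall_pt
      intro v
      obtain ⟨V', g, hv, m, hm⟩ := H2 V v t
      exact ⟨V', g, ⟨constSec M V' m, (phi_constSec f M V' m).trans hm.symm⟩, hv⟩⟩
    have : Sheaf.IsLocallySurjective (phi f M) := hls
    exact (Sheaf.isLocallySurjective_iff_epi' (φ := phi f M)).1 this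
  exact isIso_of_mono_of_epi _

end criterion

section dense

variable {X U : Scheme.{u}} (j : U ⟶ X)

lemma nonempty_bc_of_dense (hj : Dense (Set.range j)) (V : X.Etale) (h : Nonempty V.left) :
    Nonempty ((EtCoh.bc j).obj V).left := by
  have hV : Etale (V.hom : V.left ⟶ X) := V.prop
  obtain ⟨v⟩ := h
  have hopen : IsOpen (Set.range (V.hom : V.left ⟶ X)) :=
    (V.hom : V.left ⟶ X).isOpenMap.isOpen_range
  obtain ⟨x, hxj, v', hv'⟩ := hj.exists_mem_open hopen ⟨_, v, rfl⟩
  have hmem : v' ∈ Set.range (pullback.fst (V.hom : V.left ⟶ X) j) := by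
    rw [Scheme.Pullback.range_fst]
    show (V.hom : V.left ⟶ X) v' ∈ Set.range j
    rw [hv']
    exact hxj
  obtain ⟨q, -⟩ := hmem
  exact ⟨q⟩

variable [IsOpenImmersion j] [QuasiCompact j]

open Groth.Agent.Lib.LocConstExtend39 in
theorem exists_const_nbhd
    (hX : ∀ x : X, IsDomain (X.presheaf.stalk x) ∧ IsIntegrallyClosed (X.presheaf.stalk x))
    (hj : Dense (Set.range j)) (M : AddCommGrpCat.{u+1}) (V : X.Etale) (v : V.left)
    (t : EtCoh.sect (constSh U M) ((EtCoh.bc j).obj V)) :
    ∃ (V' : X.Etale) (g : V' ⟶ V), v ∈ Set.range g.left ∧ ∃ m : M,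
      (constSh U M).obj.map ((EtCoh.bc j).map g).op t =
        constSec M ((EtCoh.bc j).obj V') m := by
  have hV : Etale (V.hom : V.left ⟶ X) := V.prop
  obtain ⟨W, hW, hvW⟩ : ∃ W : V.left.Opens, IsAffineOpen W ∧ v ∈ W := by
    obtain ⟨_, ⟨W, hW, rfl⟩, hvW, -⟩ :=
      V.left.isBasis_affineOpens.exists_subset_of_mem_open (Set.mem_univ v) isOpen_univ
    exact ⟨W, hW, hvW⟩
  let V₁ : X.Etale := openSub V W
  let ι₁ : V₁ ⟶ V := openSubι V W
  let t₁ : EtCoh.sect (constSh U M) ((EtCoh.bc j).obj V₁) :=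
    (constSh U M).obj.map ((EtCoh.bc j).map ι₁).op t
  let T : Scheme.{u} := W.toScheme
  have hTaff : IsAffine T := hW
  let g₁ : T ⟶ X := W.ι ≫ (V.hom : V.left ⟶ X)
  have hg₁ : Etale g₁ := inferInstance
  have hdom : ∀ x : T, IsDomain (T.presheaf.stalk x) := fun x =>
    have := (hX (g₁ x)).2
    have := (hX (g₁ x)).1
    (Groth.Agent.Lib.UnramGeomUnibranchSch96.isDomain_and_isGeomUnibranch_stalk_of_etale g₁ x
      (hX (g₁ x)).1 (Groth.Agent.S9812.result (X.presheaf.stalk (g₁ x)))
      ⟨⊤, trivial, inferInstance⟩).1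
  have hTred : IsReduced T := by
    have : ∀ x : T, _root_.IsReduced (T.presheaf.stalk x) := fun x => by
      have := hdom x
      infer_instance
    exact isReduced_of_isReduced_stalk T
  let p : ((EtCoh.bc j).obj V₁).left ⟶ T := pullback.fst g₁ j
  have hp : IsOpenImmersion p := (inferInstance : IsOpenImmersion (pullback.fst g₁ j))
  have hcpt : CompactSpace ((EtCoh.bc j).obj V₁).left :=
    (inferInstance : CompactSpace ↑(pullback g₁ j))
  let C : M → Set T := fun m => p '' constLocus M t₁ m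
  let D : Set T := Set.range p
  have hCo : ∀ m, IsOpen (C m) := fun m =>
    p.isOpenEmbedding.isOpenMap _ (isOpen_constLocus M t₁ m)
  have hCd : ∀ m m', m ≠ m' → Disjoint (C m) (C m') := by
    intro m m' hne
    rw [Set.disjoint_left]
    rintro _ ⟨w, hw, rfl⟩ ⟨w', hw', hww'⟩
    have : w' = w := p.isOpenEmbedding.injective hww'
    subst this
    exact hne (constLocus_disjoint M t₁ m m' w' hw hw')
  have hD : D ⊆ ⋃ m, C m := by
    rintro _ ⟨w, rfl⟩
    obtain ⟨m, hm⟩ := exists_mem_constLocus M t₁ w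
    exact Set.mem_iUnion.2 ⟨m, w, hm, rfl⟩
  have hDc : IsCompact D := isCompact_range p.continuous
  have hDd : Dense D := by
    show Dense (Set.range (pullback.fst g₁ j))
    rw [Scheme.Pullback.range_fst]
    exact hj.preimage g₁.isOpenMap
  have hdv := hdom ⟨v, hvW⟩
  obtain ⟨O, hvO, m₀, hO⟩ := exists_open_inter_subset (⟨v, hvW⟩ : T) C hCo hCd D hD hDc hDd
  refine ⟨openSub V₁ O, openSubι V₁ O ≫ ι₁, ?_, m₀, ?_⟩
  · exact ⟨⟨⟨v, hvW⟩, hvO⟩, rfl⟩
  · rw [Functor.map_comp, op_comp, Functor.map_comp]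
    show (constSh U M).obj.map ((EtCoh.bc j).map (openSubι V₁ O)).op t₁ = _
    apply res_eq_constSec_of_forall_mem_constLocus
    intro w'
    have hcomm : ((EtCoh.bc j).map (openSubι V₁ O)).left ≫ p =
        pullback.fst (O.ι ≫ g₁) j ≫ O.ι := by
      exact pullback.lift_fst _ _ _
    have h1 : p (((EtCoh.bc j).map (openSubι V₁ O)).left w') ∈ (O : Set T) ∩ D := by
      refine ⟨?_, _, rfl⟩
      have h2 : p (((EtCoh.bc j).map (openSubι V₁ O)).left w') =
          O.ι (pullback.fst (O.ι ≫ g₁) j w') :=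
        congrArg (fun k : (((EtCoh.bc j).obj (openSub V₁ O)).left ⟶ T) => k w') hcomm
      rw [h2]
      exact (pullback.fst (O.ι ≫ g₁) j w').2
    obtain ⟨w₂, hw₂, hw₂'⟩ := hO h1
    have := p.isOpenEmbedding.injective hw₂'
    rw [← this]
    exact hw₂

/-- `M_X ⟶ j_* M_U` is an isomorphism for a dense quasi-compact open immersion `j` into a normal
scheme -/
theorem isIso_phi_of_dense_open
    (hX : ∀ x : X, IsDomain (X.presheaf.stalk x) ∧ IsIntegrallyClosed (X.presheaf.stalk x))
    (hj : Dense (Set.range j)) (M : AddCommGrpCat.{u+1}) : IsIso (phi j M) :=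
  isIso_phi_of_locally_const j M (nonempty_bc_of_dense j hj) (exists_const_nbhd j hX hj M)

/-- the unit `M_X ⟶ j_* j^* M_X` is an isomorphism for a dense quasi-compact open immersion `j`
into a normal scheme -/
theorem isIso_unit_of_dense_open
    (hX : ∀ x : X, IsDomain (X.presheaf.stalk x) ∧ IsIntegrallyClosed (X.presheaf.stalk x))
    (hj : Dense (Set.range j)) (M : AddCommGrpCat.{u+1}) :
    IsIso ((EtCoh.pullPushAdj j).unit.app (constSh X M)) :=
  (isIso_unit_iff_isIso_phi j M).2 (isIso_phi_of_dense_open j hX hj M)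

end dense

end Groth.Agent.Lib.EtConstPushDense
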