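/-
helper96: EGA IV 18.10.1/18.10.2 over an integral base scheme.
-/
import Groth.Agent.Lib.UnramGeomUnibranchSch96

set_option autoImplicit false
universe u

open CategoryTheory AlgebraicGeometry IsLocalRing

namespace Groth.Agent.Lib.UnramGeomUnibranchSch96

open Groth.Agent.Lib.UnramGeomUnibranch96 Groth.Agent.Lib.H80EtaleStalk


theorem stalkSpecializes_injective_of_eq_genericPoint {Y : Scheme.{u}} [IsIntegral Y] (η y : Y)
    (hη : η = genericPoint Y) (h : η ⤳ y) :
    Function.Injective (Y.presheaf.stalkSpecializes h).hom := by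
  subst hη
  exact IsFractionRing.injective (Y.presheaf.stalk y) Y.functionField

theorem isField_stalk_of_eq_genericPoint {Y : Scheme.{u}} [IsIntegral Y] (η : Y)
    (hη : η = genericPoint Y) : IsField (Y.presheaf.stalk η) := by
  subst hη
  exact Field.toIsField Y.functionField

/-- If `Y` is integral and some generization of `x` maps to the generic point of `Y`, then
`O_{Y,f x} → O_{X,x}` is injective. -/
theorem stalkMap_injective_of_specializes {X Y : Scheme.{u}} (f : X ⟶ Y) [IsIntegral Y] (x x' : X)
    (h : x' ⤳ x) (hx' : f x' = genericPoint Y) : Function.Injective (f.stalkMap x).hom := by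
  have h1 := Scheme.Hom.stalkSpecializes_stalkMap f x' x h
  have h2 : Function.Injective (Y.presheaf.stalkSpecializes (f.base.hom.map_specializes h)).hom :=
    stalkSpecializes_injective_of_eq_genericPoint _ _ hx' _
  have h3 : Function.Injective (f.stalkMap x').hom := by
    let _ : Field (Y.presheaf.stalk (f x')) := (isField_stalk_of_eq_genericPoint _ hx').toField
    exact RingHom.injective _
  have h4 : Function.Injective
      (Y.presheaf.stalkSpecializes (f.base.hom.map_specializes h) ≫ f.stalkMap x').hom := by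
    rw [CommRingCat.hom_comp, RingHom.coe_comp]
    exact h3.comp h2
  rw [h1, CommRingCat.hom_comp, RingHom.coe_comp] at h4
  exact Function.Injective.of_comp h4




/-- EGA IV 18.10.1 over an integral base: `f` locally of finite type suffices. -/
theorem exists_etale_nhd_of_stalk_of_isIntegral {X Y : Scheme.{u}} (f : X ⟶ Y) [IsIntegral Y]
    [LocallyOfFiniteType f] (x : X)
    (hY' : CAlg2.IsGeomUnibranch (Y.presheaf.stalk (f x)))
    (hunr : (f.stalkMap x).hom.FormallyUnramified)
    (hinj : Function.Injective (f.stalkMap x).hom) :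
    ∃ U : X.Opens, x ∈ U ∧ Etale (U.ι ≫ f) := by
  obtain ⟨_, ⟨V, hV, rfl⟩, hyV, -⟩ :=
    Y.isBasis_affineOpens.exists_subset_of_mem_open (Set.mem_univ (f x)) isOpen_univ
  replace hV : IsAffineOpen V := hV
  obtain ⟨_, ⟨U, hU, rfl⟩, hxU, hUV⟩ :=
    X.isBasis_affineOpens.exists_subset_of_mem_open (show x ∈ f ⁻¹ᵁ V from hyV) (f ⁻¹ᵁ V).isOpen
  replace hU : IsAffineOpen U := hU
  have e : U ≤ f ⁻¹ᵁ V := hUV
  have hne : Nonempty V := ⟨⟨f x, hyV⟩⟩
  have hft := f.finiteType_appLE hV hU e
  algebraize [(f.appLE V U e).hom]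
  let p := (hV.primeIdealOf ⟨f x, e hxU⟩).asIdeal
  let q := (hU.primeIdealOf ⟨x, hxU⟩).asIdeal
  have hqp : q.LiesOver p :=
    ⟨congr($(IsAffineOpen.comap_primeIdealOf_appLE V hV U hU e hxU).1).symm⟩
  let α := IsAffineOpen.arrowStalkMapIso f V hV U hU e hxU
  let eL : Y.presheaf.stalk (f x) ≃+* Localization.AtPrime p :=
    (Arrow.leftFunc.mapIso α).commRingCatIsoToRingEquiv
  have hgu : CAlg2.IsGeomUnibranch (Localization.AtPrime p) :=
    Groth.Agent.Lib.GeomUnibranchEquiv96.isGeomUnibranch_of_ringEquiv eL.symm hY'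
  have hinj' : Function.Injective
      (Localization.localRingHom p q (algebraMap Γ(Y, V) Γ(X, U)) (q.over_def p)) :=
    (RingHom.injective_respectsIso.arrow_mk_iso_iff α).mp hinj
  have hun' : Algebra.IsUnramifiedAt Γ(Y, V) q := by
    let _ := Localization.AtPrime.algebraOfLiesOver p q
    have h1 : Algebra.FormallyUnramified (Localization.AtPrime p) (Localization.AtPrime q) := by
      rw [← RingHom.formallyUnramified_algebraMap]
      exact (RingHom.FormallyUnramified.respectsIso.arrow_mk_iso_iff α).mp hunr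
    exact Algebra.FormallyUnramified.comp _ (Localization.AtPrime p) _
  obtain ⟨r, hr, het⟩ := exists_etale_away q p hgu hinj'
  refine ⟨X.basicOpen r, mem_basicOpen_of_notMem_primeIdealOf hU hxU r hr, ?_⟩
  rw [← Scheme.Hom.resLE_comp_ι f ((X.basicOpen_le r).trans e)]
  have : Etale (f.resLE V (X.basicOpen r) ((X.basicOpen_le r).trans e)) := by
    rw [Groth.Agent.S9721.resLE_iff (P := @Etale) f (hU.basicOpen r) hV]
    apply appLE_basicOpen_of_away RingHom.Etale.respectsIso f hU e r
    rw [RingHom.etale_algebraMap]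
    exact het
  infer_instance

end Groth.Agent.Lib.UnramGeomUnibranchSch96
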