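/-
helper96: EGA IV 18.10.7-type global statement: an unramified morphism from a connected scheme to an
integral scheme with geometrically unibranch local rings, hitting the generic point, is étale with
irreducible source.
-/
import Groth.Agent.Lib.UnramGeomUnibranchInt96
import Groth.Agent.Lib.EtaleLocGeomUnibranchSch96

set_option autoImplicit false
universe u

open CategoryTheory AlgebraicGeometry

namespace Groth.Agent.Lib.UnramGeomUnibranchSch96


/-- Locally finite unions of point closures are closed. -/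
theorem isClosed_biUnion_closure_of_locallyFinite {X : Type*} [TopologicalSpace X] (F : Set X)
    (hF : ∀ x : X, ∃ U : Set X, IsOpen U ∧ x ∈ U ∧ (F ∩ U).Finite) (G : Set X) (hG : G ⊆ F) :
    IsClosed (⋃ ξ ∈ G, closure {ξ}) := by
  rw [← closure_subset_iff_isClosed]
  intro x hx
  obtain ⟨U, hU, hxU, hfin⟩ := hF x
  let Z' : Set X := ⋃ ξ ∈ G ∩ U, closure {ξ}
  have hZ'closed : IsClosed Z' :=
    (hfin.subset (Set.inter_subset_inter_left U hG)).isClosed_biUnion fun _ _ => isClosed_closure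
  have hsub : (⋃ ξ ∈ G, closure {ξ}) ∩ U ⊆ Z' := by
    rintro z ⟨hz, hzU⟩
    simp only [Set.mem_iUnion, exists_prop] at hz
    obtain ⟨ξ, hξG, hξz⟩ := hz
    have hspec : ξ ⤳ z := specializes_iff_mem_closure.2 hξz
    have hξU : ξ ∈ U := hspec.mem_open hU hzU
    simp only [Z', Set.mem_iUnion, exists_prop]
    exact ⟨ξ, ⟨hξG, hξU⟩, hξz⟩
  have h1 : x ∈ closure ((⋃ ξ ∈ G, closure {ξ}) ∩ U) := by
    rw [mem_closure_iff]
    intro W hW hxW
    obtain ⟨z, hzWU, hz⟩ := mem_closure_iff.1 hx (W ∩ U) (hW.inter hU) ⟨hxW, hxU⟩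
    exact ⟨z, hzWU.1, hz, hzWU.2⟩
  have h2 : x ∈ Z' := (closure_minimal hsub hZ'closed) h1
  simp only [Z', Set.mem_iUnion, exists_prop] at h2
  obtain ⟨ξ, hξ, hξx⟩ := h2
  simp only [Set.mem_iUnion, exists_prop]
  exact ⟨ξ, hξ.1, hξx⟩



/-- Unramified morphisms (formally unramified, locally of finite type) are locally quasi-finite. -/
theorem locallyQuasiFinite_of_unramified {X Y : Scheme.{u}} (f : X ⟶ Y)
    [h1 : LocallyOfFiniteType f] [h2 : FormallyUnramified f] : LocallyQuasiFinite f := by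
  refine ⟨fun {U} hU {V} hV e => ?_⟩
  have hft : (f.appLE U V e).hom.FiniteType := h1.finiteType_appLE hU hV e
  have hfu : (f.appLE U V e).hom.FormallyUnramified := h2.formallyUnramified_appLE hU hV e
  algebraize [(f.appLE U V e).hom]
  have : Algebra.EssFiniteType Γ(Y, U) Γ(X, V) := inferInstance
  show Algebra.QuasiFinite Γ(Y, U) Γ(X, V)
  infer_instance

/-- Fibres of a locally quasi-finite morphism are locally finite. -/
theorem exists_open_finite_fibre {X Y : Scheme.{u}} (f : X ⟶ Y) [LocallyQuasiFinite f] (y : Y)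
    (x : X) : ∃ U : Set X, IsOpen U ∧ x ∈ U ∧ (f ⁻¹' {y} ∩ U).Finite := by
  obtain ⟨V, hV, hyV⟩ : ∃ V : Y.Opens, IsAffineOpen V ∧ f x ∈ V := by
    obtain ⟨_, ⟨V, hV, rfl⟩, hyV, -⟩ :=
      Y.isBasis_affineOpens.exists_subset_of_mem_open (Set.mem_univ (f x)) isOpen_univ
    exact ⟨V, hV, hyV⟩
  obtain ⟨U, hU, hxU, e⟩ : ∃ U : X.Opens, IsAffineOpen U ∧ x ∈ U ∧ U ≤ f ⁻¹ᵁ V := by
    obtain ⟨_, ⟨U, hU, rfl⟩, hxU, hUV⟩ :=
      X.isBasis_affineOpens.exists_subset_of_mem_open (show x ∈ f ⁻¹ᵁ V from hyV)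
        (f ⁻¹ᵁ V).isOpen
    exact ⟨U, hU, hxU, hUV⟩
  refine ⟨U, U.isOpen, hxU, ?_⟩
  by_cases hy : y ∈ V
  · have : IsAffine U.toScheme := hU
    have : IsAffine V.toScheme := hV
    have hfin := (f.resLE V U e).finite_preimage_singleton ⟨y, hy⟩
    refine (hfin.image Subtype.val).subset ?_
    rintro z ⟨hz, hzU⟩
    refine ⟨⟨z, hzU⟩, ?_, rfl⟩
    change f.resLE V U e ⟨z, hzU⟩ = ⟨y, hy⟩
    apply Subtype.ext
    rw [Scheme.Hom.coe_resLE_apply]
    exact hz
  · convert Set.finite_empty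
    ext z
    simp only [Set.mem_inter_iff, Set.mem_preimage, Set.mem_singleton_iff, Set.mem_empty_iff_false,
      iff_false, not_and]
    intro hz hzU
    exact hy (hz ▸ e hzU)


section GenFibre

variable {X Y : Scheme.{u}} [IsIntegral Y] (f : X ⟶ Y)

/-- Points of the generic fibre of a locally quasi-finite morphism are maximal points
(helper30, `H30FEtNormal.eq_of_specializes_mem_genFibre`). -/
theorem eq_of_specializes_mem_genFibre [LocallyQuasiFinite f] (z y' : X)
    (hy' : f y' = genericPoint Y) (hz : z ⤳ y') : z = y' := by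
  have hfz : f z ⤳ genericPoint Y := by
    have := hz.map f.continuous
    rwa [hy'] at this
  have hzF : z ∈ f ⁻¹' {genericPoint Y} := ((genericPoint_specializes (f z)).antisymm hfz).eq.symm
  have := (f.isDiscrete_preimage_singleton (genericPoint Y)).to_subtype
  have hs : (⟨z, hzF⟩ : f ⁻¹' {genericPoint Y}) ⤳ ⟨y', hy'⟩ :=
    (subtype_specializes_iff _ _).mpr hz
  exact congrArg Subtype.val hs.eq

/-- If the stalk at `y` is a domain, `y` has at most one generalization in the generic fibre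
(helper30, `H30FEtNormal.eq_of_specializes_of_isDomain`). -/
theorem eq_of_specializes_of_isDomain [LocallyQuasiFinite f] (y y1 y2 : X)
    [IsDomain (X.presheaf.stalk y)] (hy1 : f y1 = genericPoint Y) (hy2 : f y2 = genericPoint Y)
    (h1y : y1 ⤳ y) (h2y : y2 ⤳ y) : y1 = y2 := by
  let g := X.fromSpecStalk y
  have key : ∀ y', f y' = genericPoint Y → y' ⤳ y →
      g (genericPoint (Spec (X.presheaf.stalk y))) = y' := by
    intro y' hy' hy'y
    obtain ⟨p, rfl⟩ : y' ∈ Set.range g := by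
      rw [Scheme.range_fromSpecStalk]
      exact hy'y
    exact eq_of_specializes_mem_genFibre f _ _ hy' ((genericPoint_specializes p).map g.continuous)
  rw [← key y1 hy1 h1y, ← key y2 hy2 h2y]

end GenFibre

/-- EGA IV 18.10.7-type statement. -/
theorem etale_irreducible_of_unramified {X Y : Scheme.{u}} (f : X ⟶ Y) [IsIntegral Y]
    (hY : ∀ y : Y, CAlg2.IsGeomUnibranch (Y.presheaf.stalk y))
    [ConnectedSpace X] [FormallyUnramified f] [LocallyOfFiniteType f]
    (hdom : genericPoint Y ∈ Set.range f) :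
    Etale f ∧ IrreducibleSpace X ∧
      ∀ x : X, IsDomain (X.presheaf.stalk x) ∧ CAlg2.IsGeomUnibranch (X.presheaf.stalk x) := by
  have hlqf : LocallyQuasiFinite f := locallyQuasiFinite_of_unramified f
  let η := genericPoint Y
  let F : Set X := f ⁻¹' {η}
  have hFloc : ∀ x : X, ∃ U : Set X, IsOpen U ∧ x ∈ U ∧ (F ∩ U).Finite :=
    exists_open_finite_fibre f η
  let X' : Set X := ⋃ ξ ∈ F, closure {ξ}
  have hX'mem : ∀ x, x ∈ X' ↔ ∃ x', x' ⤳ x ∧ f x' = η := by
    intro x
    simp only [X', Set.mem_iUnion, exists_prop, ← specializes_iff_mem_closure]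
    exact ⟨fun ⟨ξ, h1, h2⟩ => ⟨ξ, h2, h1⟩, fun ⟨ξ, h1, h2⟩ => ⟨ξ, h2, h1⟩⟩
  have hX'closed : IsClosed X' :=
    isClosed_biUnion_closure_of_locallyFinite F hFloc F subset_rfl
  have hetale_at : ∀ x ∈ X', ∃ U : X.Opens, x ∈ U ∧ Etale (U.ι ≫ f) := by
    intro x hx
    obtain ⟨x', h1, h2⟩ := (hX'mem x).1 hx
    exact exists_etale_nhd_of_stalk_of_isIntegral f x (hY _) (FormallyUnramified.stalkMap f x)
      (stalkMap_injective_of_specializes f x x' h1 h2)
  have hX'open : IsOpen X' := by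
    rw [isOpen_iff_forall_mem_open]
    intro x hx
    obtain ⟨U, hxU, hU⟩ := hetale_at x hx
    refine ⟨U, ?_, U.isOpen, hxU⟩
    intro u hu
    have hgen := Flat.generalizingMap (f := U.ι ≫ f)
    obtain ⟨u', hu'u, hfu'⟩ := hgen (a := ⟨u, hu⟩)
      (genericPoint_specializes ((U.ι ≫ f) ⟨u, hu⟩))
    exact (hX'mem u).2 ⟨u'.1, (subtype_specializes_iff _ _).1 hu'u, hfu'⟩
  have hX'ne : X'.Nonempty := by
    obtain ⟨x₀, hx₀⟩ := hdom
    exact ⟨x₀, (hX'mem x₀).2 ⟨x₀, specializes_rfl, hx₀⟩⟩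
  have hX'univ : X' = Set.univ := IsClopen.eq_univ ⟨hX'closed, hX'open⟩ hX'ne
  have het : ∀ x : X, ∃ U : X.Opens, x ∈ U ∧ Etale (U.ι ≫ f) := fun x =>
    hetale_at x (hX'univ ▸ Set.mem_univ x)
  have hEtale : Etale f := by
    have : IsZariskiLocalAtSource @Etale.{u} := HasRingHomProperty.instIsZariskiLocalAtSource
    choose U hxU hU using het
    have hsup : iSup U = ⊤ := by
      rw [eq_top_iff]
      intro x _
      exact TopologicalSpace.Opens.mem_iSup.2 ⟨x, hxU x⟩
    exact (IsZariskiLocalAtSource.iff_of_iSup_eq_top (P := @Etale) U hsup).2 hU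
  have hstalk : ∀ x : X, IsDomain (X.presheaf.stalk x) ∧
      CAlg2.IsGeomUnibranch (X.presheaf.stalk x) := fun x =>
    isDomain_and_isGeomUnibranch_stalk_of_etale f x inferInstance (hY _) (het x)
  refine ⟨hEtale, ?_, hstalk⟩
  obtain ⟨x₀, hx₀⟩ := hdom
  have hcompl : (closure {x₀})ᶜ = ⋃ ξ ∈ F \ {x₀}, closure {ξ} := by
    ext x
    simp only [Set.mem_compl_iff, Set.mem_iUnion, exists_prop, ← specializes_iff_mem_closure]
    constructor
    · intro hx
      obtain ⟨ξ, hξx, hξ⟩ := (hX'mem x).1 (hX'univ ▸ Set.mem_univ x)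
      refine ⟨ξ, ⟨hξ, ?_⟩, hξx⟩
      rintro rfl
      exact hx hξx
    · rintro ⟨ξ, ⟨hξF, hξne⟩, hξx⟩ hx0x
      have := (hstalk x).1
      exact hξne (eq_of_specializes_of_isDomain f x ξ x₀ hξF hx₀ hξx hx0x)
  have hcl_open : IsOpen (closure {x₀}) := by
    rw [← isClosed_compl_iff, hcompl]
    exact isClosed_biUnion_closure_of_locallyFinite F hFloc _ Set.sdiff_subset
  have hcl_univ : closure {x₀} = Set.univ :=
    IsClopen.eq_univ ⟨isClosed_closure, hcl_open⟩ ⟨x₀, subset_closure rfl⟩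
  have hirr : IsIrreducible (Set.univ : Set X) := hcl_univ ▸ isIrreducible_singleton.closure
  exact (irreducibleSpace_def X).2 hirr

end Groth.Agent.Lib.UnramGeomUnibranchSch96
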