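/-
helper96: étale schemes over an irreducible scheme with geometrically unibranch local rings:
irreducible components are open, disjoint, and correspond to the points of the generic fibre
(EGA IV 18.10.7-type; no reducedness assumption).
-/
import Groth.Agent.Lib.UnramGeomUnibranchGlobal96

set_option autoImplicit false
set_option linter.style.haveILetI false
universe u

open CategoryTheory AlgebraicGeometry

namespace Groth.Agent.Lib.UnramGeomUnibranch96

open IsLocalRing Groth.Agent.Lib.HznNormal96 Groth.Agent.Lib.StrictHenselization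

/-- Local rings of an étale algebra over a ring which is geometrically unibranch at `p` are
geometrically unibranch (no reducedness assumption). -/
theorem isGeomUnibranch_localization_of_etale {A C : Type u} [CommRing A]
    [CommRing C] [Algebra A C] [Algebra.Etale A C] (p : Ideal A) [p.IsPrime] (Q : Ideal C)
    [Q.IsPrime] [Q.LiesOver p]
    (hA : CAlg2.IsGeomUnibranch (Localization.AtPrime p)) :
    CAlg2.IsGeomUnibranch (Localization.AtPrime Q) := by
  let Ap := Localization.AtPrime p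
  let S := Sh Ap
  have hS : CAlgX.HasUniqueMinimalPrime S := (Groth.Agent.S2135.result (A := Ap) (Ash := S)).1 hA
  let _ : Algebra A S := ((algebraMap Ap S).comp (algebraMap A Ap)).toAlgebra
  have htow : IsScalarTower A Ap S := IsScalarTower.of_algebraMap_eq (fun _ => rfl)
  have hSp : (maximalIdeal S).comap (algebraMap A S) = p := by
    ext a
    rw [Ideal.mem_comap, IsScalarTower.algebraMap_apply A Ap S, ← Ideal.mem_comap,
      IsLocalRing.maximalIdeal_comap, IsLocalization.AtPrime.to_map_mem_maximal_iff Ap p]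
  obtain ⟨σ, hσ⟩ := exists_algHom_comap_eq (A := A) (C := C) (S := S) Q p hSp
  have hQ' : nbhdPrime σ = Q := hσ
  subst hQ'
  letI : Algebra (Localization.AtPrime (nbhdPrime σ)) S := (toLoc σ).toAlgebra
  haveI : IsLocalHom (algebraMap (Localization.AtPrime (nbhdPrime σ)) S) :=
    Groth.Agent.Lib.H56ShNormal.isLocalHom_toLoc σ
  haveI hsh : Hensel.IsStrictHenselization (Localization.AtPrime (nbhdPrime σ)) S :=
    isStrictHenselization_toLoc p σ inferInstance
  exact (Groth.Agent.S2135.result (A := Localization.AtPrime (nbhdPrime σ)) (Ash := S)).2 hS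

/-- The nilradical of a geometrically unibranch local ring is prime. -/
theorem isPrime_nilradical_of_isGeomUnibranch {R : Type u} [CommRing R] [IsLocalRing R]
    (h : CAlg2.IsGeomUnibranch R) : (nilradical R).IsPrime :=
  (Ideal.Quotient.isDomain_iff_prime (nilradical R)).1 h.1.1

end Groth.Agent.Lib.UnramGeomUnibranch96

namespace Groth.Agent.Lib.UnramGeomUnibranchSch96

open Groth.Agent.Lib.UnramGeomUnibranch96

/-- Stalks of a scheme étale (near `x`) over a scheme whose local ring at `f x` is geometrically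
unibranch are geometrically unibranch. -/
theorem isGeomUnibranch_stalk_of_etale {X Y : Scheme.{u}} (f : X ⟶ Y) (x : X)
    (hY' : CAlg2.IsGeomUnibranch (Y.presheaf.stalk (f x)))
    (hf : ∃ U : X.Opens, x ∈ U ∧ Etale (U.ι ≫ f)) :
    CAlg2.IsGeomUnibranch (X.presheaf.stalk x) := by
  obtain ⟨W, hxW, hW⟩ := hf
  obtain ⟨V, hV, hyV⟩ : ∃ V : Y.Opens, IsAffineOpen V ∧ f x ∈ V := by
    obtain ⟨_, ⟨V, hV, rfl⟩, hyV, -⟩ :=
      Y.isBasis_affineOpens.exists_subset_of_mem_open (Set.mem_univ (f x)) isOpen_univ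
    exact ⟨V, hV, hyV⟩
  obtain ⟨U, hU, hxU, hUle⟩ : ∃ U : X.Opens, IsAffineOpen U ∧ x ∈ U ∧ U ≤ W ⊓ f ⁻¹ᵁ V := by
    obtain ⟨_, ⟨U, hU, rfl⟩, hxU, hUle⟩ :=
      X.isBasis_affineOpens.exists_subset_of_mem_open
        (show x ∈ ((W ⊓ f ⁻¹ᵁ V : X.Opens) : Set X) from ⟨hxW, hyV⟩) (W ⊓ f ⁻¹ᵁ V).2
    exact ⟨U, hU, hxU, hUle⟩
  have hUW : U ≤ W := fun y hy => (hUle hy).1
  have e : U ≤ f ⁻¹ᵁ V := fun y hy => (hUle hy).2
  have het : Etale (U.ι ≫ f) := by
    rw [← X.homOfLE_ι hUW, Category.assoc]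
    infer_instance
  have hQ : (f.appLE V U e).hom.Etale :=
    Groth.Agent.S9721.appLE_of_ι_comp (P := @Etale) f hU hV e het
  algebraize [(f.appLE V U e).hom]
  have hetA : Algebra.Etale Γ(Y, V) Γ(X, U) := RingHom.etale_algebraMap.mp hQ
  let p := (hV.primeIdealOf ⟨f x, e hxU⟩).asIdeal
  let q := (hU.primeIdealOf ⟨x, hxU⟩).asIdeal
  have hqp : q.LiesOver p :=
    ⟨congr($(IsAffineOpen.comap_primeIdealOf_appLE V hV U hU e hxU).1).symm⟩
  let α := IsAffineOpen.arrowStalkMapIso f V hV U hU e hxU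
  let eL : Y.presheaf.stalk (f x) ≃+* Localization.AtPrime p :=
    (Arrow.leftFunc.mapIso α).commRingCatIsoToRingEquiv
  let eR : X.presheaf.stalk x ≃+* Localization.AtPrime q :=
    (Arrow.rightFunc.mapIso α).commRingCatIsoToRingEquiv
  have hgu : CAlg2.IsGeomUnibranch (Localization.AtPrime p) :=
    Groth.Agent.Lib.GeomUnibranchEquiv96.isGeomUnibranch_of_ringEquiv eL.symm hY'
  exact Groth.Agent.Lib.GeomUnibranchEquiv96.isGeomUnibranch_of_ringEquiv eR
    (isGeomUnibranch_localization_of_etale p q hgu)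

section Top

variable {X : Type*} [TopologicalSpace X] (F : Set X)
  (h1 : ∀ x : X, ∃ ξ ∈ F, ξ ⤳ x)
  (h2 : ∀ x ξ₁ ξ₂, ξ₁ ∈ F → ξ₂ ∈ F → ξ₁ ⤳ x → ξ₂ ⤳ x → ξ₁ = ξ₂)
  (h3 : ∀ x : X, ∃ U : Set X, IsOpen U ∧ x ∈ U ∧ (F ∩ U).Finite)

include h1 h2 h3 in
theorem isOpen_closure_singleton_of_mem {ξ : X} (hξ : ξ ∈ F) : IsOpen (closure {ξ}) := by
  have hcompl : (closure {ξ})ᶜ = ⋃ ξ' ∈ F \ {ξ}, closure {ξ'} := by
    ext x
    simp only [Set.mem_compl_iff, Set.mem_iUnion, exists_prop, ← specializes_iff_mem_closure]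
    constructor
    · intro hx
      obtain ⟨ξ', hξ'F, hξ'x⟩ := h1 x
      refine ⟨ξ', ⟨hξ'F, ?_⟩, hξ'x⟩
      rintro rfl
      exact hx hξ'x
    · rintro ⟨ξ', ⟨hξ'F, hξne⟩, hξ'x⟩ hξx
      exact hξne (h2 x ξ' ξ hξ'F hξ hξ'x hξx)
  rw [← isClosed_compl_iff, hcompl]
  exact isClosed_biUnion_closure_of_locallyFinite F h3 _ Set.sdiff_subset

include h1 h2 h3 in
theorem subset_closure_of_isIrreducible {ξ : X} (hξ : ξ ∈ F) {Z : Set X} (hZ : IsIrreducible Z)
    (hne : (Z ∩ closure {ξ}).Nonempty) : Z ⊆ closure {ξ} := by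
  intro z hz
  by_contra hzn
  have hopen := isOpen_closure_singleton_of_mem F h1 h2 h3 hξ
  obtain ⟨w, -, hw1, hw2⟩ := hZ.2 (closure {ξ}) (closure {ξ})ᶜ hopen isClosed_closure.isOpen_compl
    hne ⟨z, hz, hzn⟩
  exact hw2 hw1

include h1 h2 h3 in
theorem irreducibleComponents_eq_image : irreducibleComponents X = (fun ξ => closure {ξ}) '' F := by
  ext Z
  constructor
  · intro hZ
    have hZirr : IsIrreducible Z := hZ.1
    obtain ⟨z, hz⟩ := hZirr.1
    obtain ⟨ξ, hξF, hξz⟩ := h1 z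
    have hsub : Z ⊆ closure {ξ} := subset_closure_of_isIrreducible F h1 h2 h3 hξF hZirr
      ⟨z, hz, specializes_iff_mem_closure.1 hξz⟩
    refine ⟨ξ, hξF, ?_⟩
    exact (hsub.antisymm (hZ.2 isIrreducible_singleton.closure hsub)).symm
  · rintro ⟨ξ, hξF, rfl⟩
    refine ⟨isIrreducible_singleton.closure, fun Z' hZ' hle => ?_⟩
    exact subset_closure_of_isIrreducible F h1 h2 h3 hξF hZ'
      ⟨ξ, hle (subset_closure rfl), subset_closure rfl⟩

include h1 h2 h3 in
theorem existsUnique_irreducibleComponent (x : X) :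
    ∃! Z, Z ∈ irreducibleComponents X ∧ x ∈ Z := by
  rw [irreducibleComponents_eq_image F h1 h2 h3]
  obtain ⟨ξ, hξF, hξx⟩ := h1 x
  refine ⟨closure {ξ}, ⟨⟨ξ, hξF, rfl⟩, specializes_iff_mem_closure.1 hξx⟩, ?_⟩
  rintro _ ⟨⟨ξ', hξ'F, rfl⟩, hx⟩
  rw [h2 x ξ' ξ hξ'F hξF (specializes_iff_mem_closure.2 hx) hξx]

include h1 h2 h3 in
theorem isOpen_and_existsUnique_of_mem_irreducibleComponents {Z : Set X}
    (hZ : Z ∈ irreducibleComponents X) : IsOpen Z ∧ ∃! ξ, ξ ∈ Z ∧ ξ ∈ F := by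
  rw [irreducibleComponents_eq_image F h1 h2 h3] at hZ
  obtain ⟨ξ, hξF, rfl⟩ := hZ
  refine ⟨isOpen_closure_singleton_of_mem F h1 h2 h3 hξF, ξ, ⟨subset_closure rfl, hξF⟩, ?_⟩
  rintro ξ' ⟨hξ'Z, hξ'F⟩
  exact h2 ξ' ξ' ξ hξ'F hξF specializes_rfl (specializes_iff_mem_closure.2 hξ'Z)

end Top


section GenFibreIrr

variable {X Y : Scheme.{u}} [IrreducibleSpace Y] (f : X ⟶ Y)

/-- Points of the generic fibre of a locally quasi-finite morphism are maximal points. -/
theorem eq_of_specializes_mem_genFibre' [LocallyQuasiFinite f] (z y' : X)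
    (hy' : f y' = genericPoint Y) (hz : z ⤳ y') : z = y' := by
  have hfz : f z ⤳ genericPoint Y := by
    have := hz.map f.continuous
    rwa [hy'] at this
  have hzF : z ∈ f ⁻¹' {genericPoint Y} := ((genericPoint_specializes (f z)).antisymm hfz).eq.symm
  have := (f.isDiscrete_preimage_singleton (genericPoint Y)).to_subtype
  have hs : (⟨z, hzF⟩ : f ⁻¹' {genericPoint Y}) ⤳ ⟨y', hy'⟩ :=
    (subtype_specializes_iff _ _).mpr hz
  exact congrArg Subtype.val hs.eq

/-- If the nilradical of the stalk at `y` is prime, `y` has at most one generalization in the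
generic fibre. -/
theorem eq_of_specializes_of_isPrime_nilradical [LocallyQuasiFinite f] (y y1 y2 : X)
    (hy : (nilradical (X.presheaf.stalk y)).IsPrime) (hy1 : f y1 = genericPoint Y)
    (hy2 : f y2 = genericPoint Y) (h1y : y1 ⤳ y) (h2y : y2 ⤳ y) : y1 = y2 := by
  let g := X.fromSpecStalk y
  have : IrreducibleSpace (Spec (X.presheaf.stalk y)) :=
    PrimeSpectrum.irreducibleSpace_iff_isPrime_nilradical.2 hy
  have key : ∀ y', f y' = genericPoint Y → y' ⤳ y →
      g (genericPoint (Spec (X.presheaf.stalk y))) = y' := by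
    intro y' hy' hy'y
    obtain ⟨p, rfl⟩ : y' ∈ Set.range g := by
      rw [Scheme.range_fromSpecStalk]
      exact hy'y
    exact eq_of_specializes_mem_genFibre' f _ _ hy' ((genericPoint_specializes p).map g.continuous)
  rw [← key y1 hy1 h1y, ← key y2 hy2 h2y]

end GenFibreIrr

/-- EGA IV 18.10.7-type statement on irreducible components. -/
theorem irreducibleComponents_of_etale {X Y : Scheme.{u}} (f : X ⟶ Y) [Etale f]
    [IrreducibleSpace Y] (hY : ∀ y : Y, CAlg2.IsGeomUnibranch (Y.presheaf.stalk y)) :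
    (∀ x : X, ∃! Z, Z ∈ irreducibleComponents ↥X ∧ x ∈ Z) ∧
    (∀ Z ∈ irreducibleComponents ↥X, IsOpen Z ∧ ∃! x : X, x ∈ Z ∧ f x = genericPoint Y) := by
  have hlqf : LocallyQuasiFinite f := locallyQuasiFinite_of_unramified f
  let F : Set X := f ⁻¹' {genericPoint Y}
  have h1 : ∀ x : X, ∃ ξ ∈ F, ξ ⤳ x := by
    intro x
    obtain ⟨ξ, hξx, hξ⟩ := Flat.generalizingMap (f := f) (genericPoint_specializes (f x))
    exact ⟨ξ, hξ, hξx⟩
  have hnil : ∀ x : X, (nilradical (X.presheaf.stalk x)).IsPrime := fun x =>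
    isPrime_nilradical_of_isGeomUnibranch
      (isGeomUnibranch_stalk_of_etale f x (hY _) ⟨⊤, trivial, inferInstance⟩)
  have h2 : ∀ x ξ₁ ξ₂, ξ₁ ∈ F → ξ₂ ∈ F → ξ₁ ⤳ x → ξ₂ ⤳ x → ξ₁ = ξ₂ := fun x ξ₁ ξ₂ a b c d =>
    eq_of_specializes_of_isPrime_nilradical f x ξ₁ ξ₂ (hnil x) a b c d
  have h3 : ∀ x : X, ∃ U : Set X, IsOpen U ∧ x ∈ U ∧ (F ∩ U).Finite :=
    exists_open_finite_fibre f (genericPoint Y)
  refine ⟨existsUnique_irreducibleComponent F h1 h2 h3, fun Z hZ => ?_⟩
  exact isOpen_and_existsUnique_of_mem_irreducibleComponents F h1 h2 h3 hZ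

end Groth.Agent.Lib.UnramGeomUnibranchSch96
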