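import Groth.Agent.Lib.EtConstPush
import Groth.Agent.Lib.EtGermB
import Groth.Agent.Lib.EtaleIrredComp96
import Groth.Agent.S9812

/-!
# `M_X ≅ f_* M_Y` for normal (geometrically unibranch) `X` (helper39)

If `X` is an irreducible scheme all of whose local rings are geometrically unibranch (e.g. integral
normal) and `f : Y ⟶ X` is a preimmersion whose range contains the generic point (a nonempty open
immersion, `Spec O_{X,η} → X`, `Spec κ(η) → X`), then `M_X ⟶ f_* M_Y` is an isomorphism, hence so
is the unit `M_X ⟶ f_* f^* M_X`.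
-/

set_option autoImplicit false
universe u
open CategoryTheory CategoryTheory.Limits AlgebraicGeometry Opposite

namespace Groth.Agent.Lib.EtConstPushNormal

open EtCore EtCoh Groth.Agent.Lib.EtConst Groth.Agent.Lib.EtGerm Groth.Agent.Lib.EtConstPush

/-- the pullback of an irreducible scheme `Z → X` whose generic point maps into the range of a
preimmersion `f : Y ⟶ X` is irreducible, in particular connected -/
lemma connectedSpace_pullback {Z X Y : Scheme.{u}} (g : Z ⟶ X) (f : Y ⟶ X) [IsPreimmersion f]
    [IrreducibleSpace Z] (h : g (genericPoint Z) ∈ Set.range f) :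
    ConnectedSpace ↥(pullback g f) := by
  have hmem : genericPoint Z ∈ Set.range (pullback.fst g f) := by
    rw [Scheme.Pullback.range_fst]
    exact h
  obtain ⟨ζ, hζ⟩ := hmem
  have hind : Topology.IsInducing (pullback.fst g f) :=
    (pullback.fst g f).isEmbedding.isInducing
  have hcl : closure ({ζ} : Set ↥(pullback g f)) = Set.univ := by
    rw [hind.closure_eq_preimage_closure_image, Set.image_singleton, hζ,
      (genericPoint_spec Z).def]
    rfl
  have hirr : IsIrreducible (Set.univ : Set ↥(pullback g f)) := by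
    rw [← hcl]
    exact isIrreducible_singleton.closure
  have : IrreducibleSpace ↥(pullback g f) :=
    { isPreirreducible_univ := hirr.2
      toNonempty := ⟨ζ⟩ }
  infer_instance

/-- the generic point of an irreducible scheme which is flat over an irreducible scheme maps to
the generic point -/
lemma map_genericPoint_of_flat {Z X : Scheme.{u}} (g : Z ⟶ X) [Flat g] [IrreducibleSpace Z]
    [IrreducibleSpace X] : g (genericPoint Z) = genericPoint X := by
  obtain ⟨ζ', hζ', hg⟩ := Flat.generalizingMap (f := g)
    (genericPoint_specializes (g (genericPoint Z)))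
  have : ζ' = genericPoint Z := ((genericPoint_specializes ζ').antisymm hζ').eq.symm
  rw [← this]
  exact hg

variable {X Y : Scheme.{u}}

/-- the key geometric input: connected neighbourhoods -/
theorem exists_connected_nbhd [IrreducibleSpace X]
    (hX : ∀ x : X, CAlg2.IsGeomUnibranch (X.presheaf.stalk x))
    (f : Y ⟶ X) [IsPreimmersion f] (hf : genericPoint X ∈ Set.range f)
    (V : X.Etale) (v : V.left) :
    ∃ (V' : X.Etale) (g : V' ⟶ V), v ∈ Set.range g.left ∧
      ConnectedSpace ((EtCoh.bc f).obj V').left := by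
  have hV : Etale V.hom := V.prop
  obtain ⟨h1, h2⟩ :=
    Groth.Agent.Lib.UnramGeomUnibranchSch96.irreducibleComponents_of_etale (Y := X) V.hom hX
  obtain ⟨Z, ⟨hZ, hvZ⟩, -⟩ := h1 v
  obtain ⟨hZo, -⟩ := h2 Z hZ
  let U : V.left.Opens := ⟨Z, hZo⟩
  refine ⟨openSub V U, openSubι V U, ?_, ?_⟩
  · rw [openSubι_left]
    exact ⟨⟨v, hvZ⟩, rfl⟩
  · have hirrZ : IsIrreducible Z := hZ.1
    have : IrreducibleSpace U.toScheme := Subtype.irreducibleSpace hirrZ
    have hfl : Flat ((U.ι ≫ V.hom : U.toScheme ⟶ X)) := inferInstance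
    have hgen : (U.ι ≫ V.hom : U.toScheme ⟶ X) (genericPoint U.toScheme) ∈ Set.range f := by
      rw [map_genericPoint_of_flat (U.ι ≫ V.hom : U.toScheme ⟶ X)]
      exact hf
    exact connectedSpace_pullback (U.ι ≫ V.hom : U.toScheme ⟶ X) f hgen

/-- `M_X ⟶ f_* M_Y` is an isomorphism -/
theorem isIso_phi [IrreducibleSpace X]
    (hX : ∀ x : X, CAlg2.IsGeomUnibranch (X.presheaf.stalk x))
    (f : Y ⟶ X) [IsPreimmersion f] (hf : genericPoint X ∈ Set.range f)
    (M : AddCommGrpCat.{u+1}) : IsIso (phi f M) :=
  isIso_phi_of_connected f M (exists_connected_nbhd hX f hf)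

/-- the unit `M_X ⟶ f_* f^* M_X` is an isomorphism -/
theorem isIso_unit [IrreducibleSpace X]
    (hX : ∀ x : X, CAlg2.IsGeomUnibranch (X.presheaf.stalk x))
    (f : Y ⟶ X) [IsPreimmersion f] (hf : genericPoint X ∈ Set.range f)
    (M : AddCommGrpCat.{u+1}) :
    IsIso ((EtCoh.pullPushAdj f).unit.app (constSh X M)) :=
  (isIso_unit_iff_isIso_phi f M).2 (isIso_phi hX f hf M)

/-- normal integral schemes are geometrically unibranch -/
lemma isGeomUnibranch_of_normal [IsIntegral X]
    (hN : ∀ x : X, IsIntegrallyClosed (X.presheaf.stalk x)) (x : X) :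
    CAlg2.IsGeomUnibranch (X.presheaf.stalk x) :=
  have := hN x
  Groth.Agent.S9812.result (X.presheaf.stalk x)

end Groth.Agent.Lib.EtConstPushNormal
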