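import Groth.Agent.Lib.EtConst

/-!
# Stalks of constant abelian etale sheaves (helper39)

`constGerm ξ M : M →+ (EtCoh.stalk ξ).obj (constSh X M)` is bijective (`constGerm_bijective`),
compatible with germs of constant sections (`germ_constSec`) and natural in `M`
(`stalk_map_constGerm`).
-/

set_option autoImplicit false
universe u
open CategoryTheory CategoryTheory.Limits AlgebraicGeometry Opposite

namespace Groth.Agent.Lib.EtConst

open Groth.Agent.Lib.EtGerm Groth.Agent.Lib.EtStalkConservative Groth.Agent.Lib.EtStalkPullGerm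

variable {X : Scheme.{u}} {Ω : Type u} [Field Ω] [IsSepClosed Ω] (ξ : Spec (CommRingCat.of Ω) ⟶ X)

/-- the trivial neighbourhood of a geometric point -/
noncomputable abbrev topNbhd : Nbhd ξ (EtCoh.top X) := Over.homMk ξ (Category.comp_id _)

lemma nbhd_top_eq (y : Nbhd ξ (EtCoh.top X)) : y = topNbhd ξ := by
  apply Over.OverMorphism.ext
  have h : (CommaMorphism.left y : Spec (CommRingCat.of Ω) ⟶ X) ≫ 𝟙 X = ξ := Over.w y
  exact (Category.comp_id _).symm.trans h

/-- the germ of the constant section with value `m` -/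
noncomputable def constGerm (M : AddCommGrpCat.{u + 1}) :
    M →+ (EtCoh.stalk ξ).obj (constSh X M) :=
  (germ ξ (constSh X M) (topNbhd ξ)).comp (constSec M (EtCoh.top X))

/-- the morphism to the terminal object of the small etale site -/
noncomputable def toTop (U : X.Etale) : U ⟶ EtCoh.top X :=
  MorphismProperty.Over.homMk U.hom (Category.comp_id _) trivial

lemma germ_constSec (M : AddCommGrpCat.{u + 1}) {U : X.Etale} (y : Nbhd ξ U) (m : M) :
    germ ξ (constSh X M) y (constSec M U m) = constGerm ξ M m := by
  rw [← constSec_res M (toTop U) m, germ_res, nbhd_top_eq ξ (Nbhd.map ξ (toTop U) y)]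
  rfl

lemma constGerm_surjective (M : AddCommGrpCat.{u + 1}) :
    Function.Surjective (constGerm ξ M) := by
  intro p
  obtain ⟨U, y, s, rfl⟩ := germ_jointly_surjective ξ (constSh X M) p
  obtain ⟨V, g, z, m, hz, hm⟩ := exists_constSec_eq ξ M s y
  refine ⟨m, ?_⟩
  rw [← germ_constSec ξ M z m, ← hm, germ_res, hz]

lemma constSec_eq_zero_of_nbhd (M : AddCommGrpCat.{u + 1}) {V : X.Etale} (z : Nbhd ξ V) (m : M)
    (h : constSec M V m = 0) : m = 0 := by
  by_contra hm
  have hinj : Presheaf.IsLocallyInjective X.smallEtaleTopology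
      (toSheafify X.smallEtaleTopology (constPre X M)) := inferInstance
  have h1 : (toSheafify X.smallEtaleTopology (constPre X M)).app (op V) m =
      (toSheafify X.smallEtaleTopology (constPre X M)).app (op V) 0 := by
    rw [map_zero]
    exact h
  have h2 := Presheaf.equalizerSieve_mem X.smallEtaleTopology
    (toSheafify X.smallEtaleTopology (constPre X M)) (X := op V) m 0 h1
  obtain ⟨W, g, hg, -, -⟩ := (Scheme.pointSmallEtale ξ).jointly_surjective _ h2 z
  exact hm hg

lemma constGerm_injective (M : AddCommGrpCat.{u + 1}) :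
    Function.Injective (constGerm ξ M) := by
  rw [injective_iff_map_eq_zero]
  intro m hm
  obtain ⟨V, g, z, -, hz⟩ := (germ_eq_zero_iff ξ (constSh X M) (topNbhd ξ) _).1 hm
  rw [constSec_res] at hz
  exact constSec_eq_zero_of_nbhd ξ M z m hz

lemma constGerm_bijective (M : AddCommGrpCat.{u + 1}) :
    Function.Bijective (constGerm ξ M) :=
  ⟨constGerm_injective ξ M, constGerm_surjective ξ M⟩

/-- the stalk of a constant sheaf is its value group -/
noncomputable def stalkConstEquiv (M : AddCommGrpCat.{u + 1}) :
    M ≃+ (EtCoh.stalk ξ).obj (constSh X M) :=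
  AddEquiv.ofBijective (constGerm ξ M) (constGerm_bijective ξ M)

lemma stalk_map_constGerm {M N : AddCommGrpCat.{u + 1}} (h : M ⟶ N) (m : M) :
    (EtCoh.stalk ξ).map ((constantSheaf X.smallEtaleTopology AddCommGrpCat.{u + 1}).map h)
      (constGerm ξ M m) = constGerm ξ N (h m) := by
  show (EtCoh.stalk ξ).map _ (germ ξ (constSh X M) (topNbhd ξ) (constSec M _ m)) = _
  rw [germ_naturality, constSec_map]
  rfl

end Groth.Agent.Lib.EtConst
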