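import Groth.Agent.Lib.EtOpensExt39

/-!
# Gabber's criterion for the vanishing of higher etale cohomology of an affine scheme whose local
rings are strictly henselian (helper39)

`subsingleton_H_of_kernel_condition`: Stacks 09AZ in the `Ext(j_! ℤ, F)` formulation.
-/

set_option autoImplicit false
universe u
open CategoryTheory CategoryTheory.Limits AlgebraicGeometry Opposite

namespace Groth.Agent.Lib.EtGabber39

open EtCore EtCoh CategoryTheory.Abelian Groth.Agent.Lib.EtShriekConst Groth.Agent.Lib.ExtMV
  Groth.Agent.Lib.EtGerm Groth.Agent.Lib.EtStalkConservative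
  Groth.Agent.Lib.EtGeomPtConservative39 Groth.Agent.Lib.EtOpensExt39

variable {X : Scheme.{u}} (F : EtCoh.Ab X)

lemma isZero_Zsh_of_eq_bot (W : X.Opens) (hW : W = ⊥) : IsZero (Zsh W.ι) := by
  have : Mono (0 : Zsh W.ι ⟶ Zsh W.ι) := by
    apply mono_of_forall_geomPt
    intro x
    refine ⟨_, inferInstance, inferInstance, stdPt x, stdPt_default x, ?_⟩
    have hz := isZero_stalk_Zsh_opens W (stdPt x) (by rw [hW]; exact fun h => h)
    have := AddCommGrpCat.subsingleton_of_isZero hz
    intro a b _
    exact Subsingleton.elim a b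
  exact IsZero.of_mono_zero (Zsh W.ι) (Zsh W.ι)

lemma ext_eq_zero_of_eq_bot (W : X.Opens) (hW : W = ⊥) (q : ℕ) (ξ : Ext (Zsh W.ι) F q) :
    ξ = 0 := by
  have h1 : 𝟙 (Zsh W.ι) = 0 := (isZero_Zsh_of_eq_bot W hW).eq_of_src _ _
  rw [← Ext.mk₀_id_comp ξ, h1, Ext.mk₀_zero, Ext.zero_comp]

lemma eq_zero_of_res_eq_zero (q : ℕ) {W' W : X.Opens} (h₁ : W' ≤ W) (h₂ : W ≤ W')
    (ξ : Ext (Zsh W.ι) F q) (h : res F q h₁ ξ = 0) : ξ = 0 := by
  have h3 := res_res F q h₂ h₁ ξ
  rw [h, map_zero] at h3
  exact (res_refl F q W ξ).symm.trans h3.symm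

section core

variable [IsAffine X]

omit [IsAffine X] in
lemma basicOpen_mul_le_left (a b : Γ(X, ⊤)) : X.basicOpen (a * b) ≤ X.basicOpen a :=
  (X.basicOpen_mul a b).trans_le inf_le_left

omit [IsAffine X] in
lemma basicOpen_mul_le_right (a b : Γ(X, ⊤)) : X.basicOpen (a * b) ≤ X.basicOpen b :=
  (X.basicOpen_mul a b).trans_le inf_le_right

/-- the hypothesis of Gabber's criterion in the `Ext(j_! ℤ, F)` formulation -/
def KernelCondition : Prop :=
  ∀ (f g : Γ(X, ⊤)) (ζ : Ext (Zsh (X.basicOpen (f + g)).ι) F 1),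
    res F 1 (basicOpen_mul_le_right f (f + g)) ζ = 0 →
    res F 1 (basicOpen_mul_le_right g (f + g)) ζ = 0 → ζ = 0

variable (hX : ∀ x : X, EtCoh.IsStrictlyHenselianLocalRing (X.presheaf.stalk x))
  (hker : KernelCondition F)

include hX hker in
theorem gabber_step (i : ℕ)
    (IH : ∀ (h : Γ(X, ⊤)) (q : ℕ), 1 ≤ q → q ≤ i →
      ∀ ξ : Ext (Zsh (X.basicOpen h).ι) F q, ξ = 0)
    (h : Γ(X, ⊤)) (ξ : Ext (Zsh (X.basicOpen h).ι) F (i + 1)) : ξ = 0 := by
  -- the ideal of functions `f` such that `ξ` dies on `D(h f)`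
  let I' : Ideal Γ(X, ⊤) :=
    { carrier := {f | res F (i + 1) (basicOpen_mul_le_left h f) ξ = 0}
      zero_mem' := by
        show res F (i + 1) (basicOpen_mul_le_left h 0) ξ = 0
        apply ext_eq_zero_of_eq_bot
        rw [mul_zero, Scheme.basicOpen_zero]
      add_mem' := by
        intro f g hf hg
        show res F (i + 1) (basicOpen_mul_le_left h (f + g)) ξ = 0
        have hf' : res F (i + 1) (basicOpen_mul_le_left h f) ξ = 0 := hf
        have hg' : res F (i + 1) (basicOpen_mul_le_left h g) ξ = 0 := hg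
        -- notation
        have hD₀ : X.basicOpen (h * f + h * g) ≤ X.basicOpen h :=
          (X.basicOpen_add_le (h * f) (h * g)).trans
            (sup_le (basicOpen_mul_le_left h f) (basicOpen_mul_le_left h g))
        have hU₀ : X.basicOpen (h * f * (h * f + h * g)) ≤ X.basicOpen (h * f + h * g) :=
          basicOpen_mul_le_right _ _
        have hV₀ : X.basicOpen (h * g * (h * f + h * g)) ≤ X.basicOpen (h * f + h * g) :=
          basicOpen_mul_le_right _ _
        have hU : res F (i + 1) hU₀ (res F (i + 1) hD₀ ξ) = 0 := by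
          rw [res_res, ← res_res F (i + 1) (basicOpen_mul_le_left (h * f) (h * f + h * g))
            (basicOpen_mul_le_left h f) ξ, hf', map_zero]
        have hV : res F (i + 1) hV₀ (res F (i + 1) hD₀ ξ) = 0 := by
          rw [res_res, ← res_res F (i + 1) (basicOpen_mul_le_left (h * g) (h * f + h * g))
            (basicOpen_mul_le_left h g) ξ, hg', map_zero]
        have hζ : res F (i + 1) hD₀ ξ = 0 := by
          rcases i with _ | i'
          · exact hker (h * f) (h * g) _ hU hV
          · obtain ⟨δ, -, h2, -, -⟩ := isMV_opens (X.basicOpen (h * f * (h * f + h * g)))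
              (X.basicOpen (h * g * (h * f + h * g))) F
            have hsup : X.basicOpen (h * f * (h * f + h * g)) ⊔
                X.basicOpen (h * g * (h * f + h * g)) ≤ X.basicOpen (h * f + h * g) :=
              sup_le hU₀ hV₀
            have hsup' : X.basicOpen (h * f + h * g) ≤ X.basicOpen (h * f * (h * f + h * g)) ⊔
                X.basicOpen (h * g * (h * f + h * g)) := by
              intro x hx
              rcases (TopologicalSpace.Opens.mem_sup.1 (X.basicOpen_add_le (h * f) (h * g) hx))
                with h' | h'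
              · apply TopologicalSpace.Opens.mem_sup.2
                left
                rw [Scheme.basicOpen_mul]
                exact ⟨h', hx⟩
              · apply TopologicalSpace.Opens.mem_sup.2
                right
                rw [Scheme.basicOpen_mul]
                exact ⟨h', hx⟩
            apply eq_zero_of_res_eq_zero F _ hsup hsup'
            have hmem : res F (i' + 1 + 1) hsup (res F (i' + 1 + 1) hD₀ ξ) ∈
                (AddMonoidHom.prod
                  (res F (i' + 1 + 1) (le_sup_left :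
                    X.basicOpen (h * f * (h * f + h * g)) ≤ _ ⊔
                      X.basicOpen (h * g * (h * f + h * g))))
                  (res F (i' + 1 + 1) (le_sup_right :
                    X.basicOpen (h * g * (h * f + h * g)) ≤
                      X.basicOpen (h * f * (h * f + h * g)) ⊔ _))).ker := by
              rw [AddMonoidHom.mem_ker, AddMonoidHom.prod_apply, Prod.mk_eq_zero]
              constructor
              · rw [res_res]
                exact hU
              · rw [res_res]
                exact hV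
            rw [h2 (i' + 1)] at hmem
            obtain ⟨y, hy⟩ := hmem
            have hy0 : y = 0 := by
              have hk : X.basicOpen (h * f * (h * f + h * g) * (h * g * (h * f + h * g))) =
                  X.basicOpen (h * f * (h * f + h * g)) ⊓
                    X.basicOpen (h * g * (h * f + h * g)) := X.basicOpen_mul _ _
              apply eq_zero_of_res_eq_zero F _ hk.le hk.ge
              exact IH _ (i' + 1) (by omega) (by omega) _
            rw [← hy, hy0, map_zero]
        rw [← res_res F (i + 1) (by rw [mul_add]) hD₀ ξ, hζ, map_zero]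
      smul_mem' := by
        intro c f hf
        show res F (i + 1) (basicOpen_mul_le_left h (c * f)) ξ = 0
        have hf' : res F (i + 1) (basicOpen_mul_le_left h f) ξ = 0 := hf
        have hle : X.basicOpen (h * (c * f)) ≤ X.basicOpen (h * f) := by
          rw [show h * (c * f) = c * (h * f) by ring]
          exact basicOpen_mul_le_right _ _
        rw [← res_res F (i + 1) hle (basicOpen_mul_le_left h f) ξ, hf', map_zero] }
  -- `h` lies in the radical of `I'`
  have hrad : h ∈ I'.radical := by
    rw [Ideal.radical_eq_sInf, Ideal.mem_sInf]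
    rintro J ⟨hIJ, hJ⟩
    by_contra hhJ
    let p : PrimeSpectrum Γ(X, ⊤) := ⟨J, hJ⟩
    let x : X := X.isoSpec.inv p
    have hxp : X.isoSpec.hom x = p := by
      show (X.isoSpec.inv ≫ X.isoSpec.hom) p = p
      rw [Iso.inv_hom_id]
      rfl
    have hmem : ∀ f : Γ(X, ⊤), x ∈ X.basicOpen f ↔ f ∉ J := by
      intro f
      rw [← Scheme.map_PrimeSpectrum_basicOpen_of_affine X f]
      show X.isoSpec.hom x ∈ PrimeSpectrum.basicOpen f ↔ _
      rw [hxp]
      rfl
    have hxh : x ∈ X.basicOpen h := (hmem h).2 hhJ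
    obtain ⟨W', hW', hxW', h0⟩ := exists_open_res_eq_zero hX F i (X.basicOpen h) ξ x hxh
    obtain ⟨_, ⟨_, ⟨f, rfl⟩, rfl⟩, hxf, hfW⟩ :=
      (isBasis_basicOpen X).exists_subset_of_mem_open hxW' W'.isOpen
    have hfI : f ∈ I' := by
      show res F (i + 1) (basicOpen_mul_le_left h f) ξ = 0
      have hle : X.basicOpen (h * f) ≤ W' := (basicOpen_mul_le_right h f).trans hfW
      rw [← res_res F (i + 1) hle hW' ξ, h0, map_zero]
    exact (hmem f).1 hxf (hIJ hfI)
  obtain ⟨n, hn⟩ := hrad
  have hn' : res F (i + 1) (basicOpen_mul_le_left h (h ^ n)) ξ = 0 := hn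
  apply eq_zero_of_res_eq_zero F _ (basicOpen_mul_le_left h (h ^ n)) ?_ ξ hn'
  rw [Scheme.basicOpen_mul]
  rcases Nat.eq_zero_or_pos n with rfl | hpos
  · rw [pow_zero, Scheme.basicOpen_one]
    exact le_inf le_rfl le_top
  · rw [X.basicOpen_pow h hpos]
    exact le_inf le_rfl le_rfl

include hX hker in
theorem ext_basicOpen_eq_zero (i : ℕ) : ∀ (h : Γ(X, ⊤)) (q : ℕ), 1 ≤ q → q ≤ i →
    ∀ ξ : Ext (Zsh (X.basicOpen h).ι) F q, ξ = 0 := by
  induction i with
  | zero =>
    intro h q h1 h2
    omega
  | succ i ih =>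
    intro h q h1 h2 ξ
    rcases Nat.lt_or_ge q (i + 1) with hlt | hge
    · exact ih h q h1 (by omega) ξ
    · obtain rfl : q = i + 1 := by omega
      exact gabber_step F hX hker i ih h ξ

omit [IsAffine X] in
theorem isIso_eps_top : IsIso (eps (⊤ : X.Opens).ι) := by
  apply isIso_of_forall_geomPt
  intro x
  refine ⟨_, inferInstance, inferInstance, stdPt x, stdPt_default x, ?_⟩
  have hr : Set.range (stdPt x) ⊆ Set.range (⊤ : X.Opens).ι := by
    rw [Scheme.Opens.range_ι]
    exact fun _ _ => trivial
  have := isIso_stalk_eps (⊤ : X.Opens).ι (stdPt x)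
    (IsOpenImmersion.lift (⊤ : X.Opens).ι (stdPt x) hr) (IsOpenImmersion.lift_fac _ _ _)
  exact ConcreteCategory.bijective_of_isIso _

include hX hker in
/-- Gabber's criterion -/
theorem subsingleton_H_of_kernelCondition (q : ℕ) (hq : 1 ≤ q) :
    Subsingleton (EtCoh.H X F q) := by
  refine ⟨fun a b => ?_⟩
  suffices h : ∀ x : EtCoh.H X F q, x = 0 by rw [h a, h b]
  intro x
  have hζ : (Ext.mk₀ (eps (⊤ : X.Opens).ι)).comp x (zero_add q) = 0 := by
    apply eq_zero_of_res_eq_zero F q (le_top : X.basicOpen (1 : Γ(X, ⊤)) ≤ ⊤)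
      (X.basicOpen_one).ge
    exact ext_basicOpen_eq_zero F hX hker q 1 q hq le_rfl _
  have := isIso_eps_top (X := X)
  have h1 : (Ext.mk₀ (inv (eps (⊤ : X.Opens).ι))).comp
      ((Ext.mk₀ (eps (⊤ : X.Opens).ι)).comp x (zero_add q)) (zero_add q) = x := by
    rw [← Ext.comp_assoc _ _ _ (zero_add 0) (zero_add q) (by omega), Ext.mk₀_comp_mk₀,
      IsIso.inv_hom_id, Ext.mk₀_id_comp]
  rw [← h1, hζ, Ext.comp_zero]

end core

end Groth.Agent.Lib.EtGabber39
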