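import Groth.Agent.Lib.EtOpensExt39
import Groth.Agent.Lib.EtConstStalk
import Groth.Agent.Lib.EtGabber39

/-!
# Values of sections of constant sheaves over opens (helper39)

For `W : X.Opens` and `φ : j_{W!} ℤ ⟶ M_X` (a section of the constant sheaf `M_X` over `W`) we
define the value function `val φ : X → M` (meaningful on `W`) and prove:

* `val_add`, `val_sub`, `val_iotaLE` (compatibility with restriction), `val_const`;
* `eq_of_val_eq`: sections are determined by their values on `W`;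
* `isOpen_val_eq`: the level sets `{x ∈ W | val φ x = m}` are open.
-/

set_option autoImplicit false
universe u
open CategoryTheory CategoryTheory.Limits AlgebraicGeometry Opposite

namespace Groth.Agent.Lib.EtConstVal39

open EtCore EtCoh CategoryTheory.Abelian Groth.Agent.Lib.EtShriekConst Groth.Agent.Lib.ExtMV
  Groth.Agent.Lib.EtGerm Groth.Agent.Lib.EtStalkConservative Groth.Agent.Lib.EtOpensExt39
  Groth.Agent.Lib.EtConst

variable {X : Scheme.{u}}

/-- the group `ℤ` in the universe of the coefficients -/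
abbrev Zgrp : AddCommGrpCat.{u + 1} := AddCommGrpCat.of (ULift.{u + 1} ℤ)

section eps

variable {Ω : Type u} [Field Ω] [IsSepClosed Ω]

lemma isIso_stalk_eps_opens (W : X.Opens) (ξ : Spec (CommRingCat.of Ω) ⟶ X)
    (hξ : ξ default ∈ W) : IsIso ((EtCoh.stalk ξ).map (eps W.ι)) := by
  have hr : Set.range ξ ⊆ Set.range W.ι := by
    rw [Scheme.Opens.range_ι]
    rintro _ ⟨a, rfl⟩
    rw [Subsingleton.elim a default]
    exact hξ
  exact isIso_stalk_eps W.ι ξ (IsOpenImmersion.lift W.ι ξ hr) (IsOpenImmersion.lift_fac _ _ _)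

lemma bijective_stalk_eps (W : X.Opens) (ξ : Spec (CommRingCat.of Ω) ⟶ X)
    (hξ : ξ default ∈ W) : Function.Bijective ((EtCoh.stalk ξ).map (eps W.ι)) := by
  have := isIso_stalk_eps_opens W ξ hξ
  exact ConcreteCategory.bijective_of_isIso _

end eps

/-- the canonical generator of the stalk of `j_{W!} ℤ` at a point of `W` -/
noncomputable def gen (W : X.Opens) (x : X) : (EtCoh.stalk (stdPt x)).obj (Zsh W.ι) :=
  Function.invFun ((EtCoh.stalk (stdPt x)).map (eps W.ι))
    (constGerm (stdPt x) Zgrp (ULift.up 1))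

lemma map_eps_gen (W : X.Opens) (x : X) (hx : x ∈ W) :
    (EtCoh.stalk (stdPt x)).map (eps W.ι) (gen W x) = constGerm (stdPt x) Zgrp (ULift.up 1) :=
  Function.invFun_eq ((bijective_stalk_eps W (stdPt x) (by rw [stdPt_default]; exact hx)).2 _)

lemma injective_stalk_eps (W : X.Opens) (x : X) (hx : x ∈ W) :
    Function.Injective ((EtCoh.stalk (stdPt x)).map (eps W.ι)) :=
  (bijective_stalk_eps W (stdPt x) (by rw [stdPt_default]; exact hx)).1

lemma map_iotaLE_gen {W' W : X.Opens} (h : W' ≤ W) (x : X) (hx : x ∈ W') :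
    (EtCoh.stalk (stdPt x)).map (iotaLE h) (gen W' x) = gen W x := by
  apply injective_stalk_eps W x (h hx)
  rw [map_eps_gen W x (h hx), ← map_eps_gen W' x hx, ← iotaLE_eps h, Functor.map_comp]
  rfl

/-- every element of the stalk of `j_{W!} ℤ` at a point of `W` is a multiple of the generator -/
lemma exists_zsmul_gen (W : X.Opens) (x : X) (hx : x ∈ W)
    (e : (EtCoh.stalk (stdPt x)).obj (Zsh W.ι)) : ∃ n : ℤ, e = n • gen W x := by
  obtain ⟨n, hn⟩ := constGerm_surjective (stdPt x) Zgrp ((EtCoh.stalk (stdPt x)).map (eps W.ι) e)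
  refine ⟨n.down, ?_⟩
  apply injective_stalk_eps W x hx
  rw [← hn, map_zsmul, map_eps_gen W x hx, ← map_zsmul]
  congr 1
  apply ULift.ext
  simp

variable (M : AddCommGrpCat.{u + 1})

/-- the value at `x` of a section of the constant sheaf over `W` -/
noncomputable def val {W : X.Opens} (φ : Zsh W.ι ⟶ constSh X M) (x : X) : M :=
  (stalkConstEquiv (stdPt x) M).symm ((EtCoh.stalk (stdPt x)).map φ (gen W x))

variable {M}

lemma constGerm_val {W : X.Opens} (φ : Zsh W.ι ⟶ constSh X M) (x : X) :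
    constGerm (stdPt x) M (val M φ x) = (EtCoh.stalk (stdPt x)).map φ (gen W x) :=
  (stalkConstEquiv (stdPt x) M).apply_symm_apply _

lemma val_add {W : X.Opens} (φ ψ : Zsh W.ι ⟶ constSh X M) (x : X) :
    val M (φ + ψ) x = val M φ x + val M ψ x := by
  unfold val
  rw [Functor.map_add, ← map_add]
  rfl

lemma val_sub {W : X.Opens} (φ ψ : Zsh W.ι ⟶ constSh X M) (x : X) :
    val M (φ - ψ) x = val M φ x - val M ψ x := by
  unfold val
  rw [Functor.map_sub, ← map_sub]
  rfl

lemma val_zero {W : X.Opens} (x : X) : val M (0 : Zsh W.ι ⟶ constSh X M) x = 0 := by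
  unfold val
  rw [Functor.map_zero]
  exact map_zero _

lemma val_iotaLE {W' W : X.Opens} (h : W' ≤ W) (φ : Zsh W.ι ⟶ constSh X M) (x : X)
    (hx : x ∈ W') : val M (iotaLE h ≫ φ) x = val M φ x := by
  unfold val
  rw [Functor.map_comp, ← map_iotaLE_gen h x hx]
  rfl

section const

/-- the homomorphism `ℤ → M`, `1 ↦ m` -/
noncomputable def zhom (m : M) : Zgrp ⟶ M :=
  AddCommGrpCat.ofHom (((zmultiplesHom M) m).comp AddEquiv.ulift.toAddMonoidHom)

lemma zhom_one (m : M) : zhom m (ULift.up 1) = m := by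
  show (zmultiplesHom M) m ((AddEquiv.ulift (ULift.up.{u + 1} (1 : ℤ)))) = m
  rw [zmultiplesHom_apply]
  show (1 : ℤ) • m = m
  exact one_smul ℤ m

/-- the constant section `m` of `M_X` over `X`, as a map `ℤ_X ⟶ M_X` -/
noncomputable def cst (X : Scheme.{u}) (m : M) : EtCoh.const X ℤ ⟶ constSh X M :=
  (constantSheaf X.smallEtaleTopology AddCommGrpCat.{u + 1}).map (zhom m)

lemma val_const (W : X.Opens) (m : M) (x : X) (hx : x ∈ W) :
    val M (eps W.ι ≫ cst X m) x = m := by
  unfold val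
  rw [Functor.map_comp]
  have h1 : ((EtCoh.stalk (stdPt x)).map (eps W.ι) ≫ (EtCoh.stalk (stdPt x)).map (cst X m))
      (gen W x) = (EtCoh.stalk (stdPt x)).map (cst X m)
        ((EtCoh.stalk (stdPt x)).map (eps W.ι) (gen W x)) := rfl
  rw [h1, map_eps_gen W x hx]
  have h2 := stalk_map_constGerm (stdPt x) (zhom m) (ULift.up 1)
  rw [zhom_one] at h2
  have h3 : (EtCoh.stalk (stdPt x)).map (cst X m) (constGerm (stdPt x) Zgrp (ULift.up 1)) =
      constGerm (stdPt x) M m := h2
  rw [h3]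
  exact (stalkConstEquiv (stdPt x) M).symm_apply_apply m

end const

section ext

/-- sections of the constant sheaf over `W` are determined by their values on `W` -/
theorem eq_zero_of_val_eq_zero {W : X.Opens} (χ : Zsh W.ι ⟶ constSh X M)
    (h : ∀ x ∈ W, val M χ x = 0) : χ = 0 := by
  apply Sheaf.hom_ext
  ext N t
  show χ.hom.app N t = 0
  apply section_eq_zero_of_germs
  intro x y
  rw [← germ_naturality]
  by_cases hx : x ∈ W
  · obtain ⟨n, hn⟩ := exists_zsmul_gen W x hx (germ (stdPt x) (Zsh W.ι) y t)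
    rw [hn, map_zsmul, ← constGerm_val, h x hx, map_zero, smul_zero]
  · have hz := isZero_stalk_Zsh_opens W (stdPt x) (by rw [stdPt_default]; exact hx)
    have := AddCommGrpCat.subsingleton_of_isZero hz
    rw [Subsingleton.elim (germ (stdPt x) (Zsh W.ι) y t) 0, map_zero]

theorem eq_of_val_eq {W : X.Opens} (φ ψ : Zsh W.ι ⟶ constSh X M)
    (h : ∀ x ∈ W, val M φ x = val M ψ x) : φ = ψ := by
  rw [← sub_eq_zero]
  apply eq_zero_of_val_eq_zero
  intro x hx
  rw [val_sub, h x hx, sub_self]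

end ext

section open_

lemma val_eq_zero_iff {W : X.Opens} (φ : Zsh W.ι ⟶ constSh X M) (x : X) :
    val M φ x = 0 ↔ (EtCoh.stalk (stdPt x)).map φ (gen W x) = 0 := by
  rw [← constGerm_val]
  constructor
  · intro h; rw [h, map_zero]
  · intro h
    exact constGerm_injective (stdPt x) M (h.trans (map_zero _).symm)

/-- a local representative of the generator: around a point of `W` there is an etale neighbourhood
`N` and a section `t` of `j_{W!} ℤ` over `N` with `eps t = 1` and germ `gen W x` -/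
lemma exists_section_gen (W : X.Opens) (x : X) (hx : x ∈ W) :
    ∃ (N : X.Etale) (y : Nbhd (stdPt x) N) (t : EtCoh.sect (Zsh W.ι) N),
      germ (stdPt x) (Zsh W.ι) y t = gen W x ∧
      (eps W.ι).hom.app (op N) t = constSec Zgrp N (ULift.up 1) := by
  obtain ⟨N, y, t, ht⟩ := germ_jointly_surjective (stdPt x) (Zsh W.ι) (gen W x)
  have h1 : germ (stdPt x) (EtCoh.const X ℤ) y ((eps W.ι).hom.app (op N) t) =
      germ (stdPt x) (EtCoh.const X ℤ) y (constSec Zgrp N (ULift.up 1)) := by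
    rw [← germ_naturality, ht, map_eps_gen W x hx]
    exact (germ_constSec (stdPt x) Zgrp y (ULift.up 1)).symm
  obtain ⟨N', g, z, hz, hg⟩ := (germ_eq_iff (stdPt x) (EtCoh.const X ℤ) y _ _).1 h1
  refine ⟨N', z, (Zsh W.ι).obj.map g.op t, ?_, ?_⟩
  · rw [germ_res, hz, ht]
  · have hnat := (eps W.ι).hom.naturality g.op
    have h2 : (eps W.ι).hom.app (op N') ((Zsh W.ι).obj.map g.op t) =
        (EtCoh.const X ℤ).obj.map g.op ((eps W.ι).hom.app (op N) t) :=
      congrArg (fun f => f.hom t) hnat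
    rw [h2, hg]
    exact constSec_res Zgrp g (ULift.up 1)

/-- if `eps t = 1` then the germs of `t` are the canonical generators -/
lemma germ_eq_gen (W : X.Opens) {N : X.Etale} (t : EtCoh.sect (Zsh W.ι) N)
    (ht : (eps W.ι).hom.app (op N) t = constSec Zgrp N (ULift.up 1))
    (x : X) (hx : x ∈ W) (y : Nbhd (stdPt x) N) :
    germ (stdPt x) (Zsh W.ι) y t = gen W x := by
  apply injective_stalk_eps W x hx
  rw [germ_naturality, ht, map_eps_gen W x hx]
  exact germ_constSec (stdPt x) Zgrp y (ULift.up 1)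

theorem isOpen_val_eq_zero {W : X.Opens} (φ : Zsh W.ι ⟶ constSh X M) :
    IsOpen {x : X | x ∈ W ∧ val M φ x = 0} := by
  rw [isOpen_iff_forall_mem_open]
  rintro x ⟨hx, hv⟩
  obtain ⟨N, y, t, ht, ht1⟩ := exists_section_gen W x hx
  have h0 : germ (stdPt x) (constSh X M) y (φ.hom.app (op N) t) = 0 := by
    rw [← germ_naturality, ht]
    exact (val_eq_zero_iff φ x).1 hv
  obtain ⟨N', g, z, hz, hg⟩ := (germ_eq_zero_iff (stdPt x) (constSh X M) y _).1 h0
  -- the restricted section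
  set t' := (Zsh W.ι).obj.map g.op t with ht'
  have ht1' : (eps W.ι).hom.app (op N') t' = constSec Zgrp N' (ULift.up 1) := by
    have hnat := (eps W.ι).hom.naturality g.op
    have h2 : (eps W.ι).hom.app (op N') ((Zsh W.ι).obj.map g.op t) =
        (EtCoh.const X ℤ).obj.map g.op ((eps W.ι).hom.app (op N) t) :=
      congrArg (fun f => f.hom t) hnat
    rw [ht', h2, ht1]
    exact constSec_res Zgrp g (ULift.up 1)
  have hφ' : φ.hom.app (op N') t' = 0 := by
    have hnat := φ.hom.naturality g.op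
    have h2 : φ.hom.app (op N') ((Zsh W.ι).obj.map g.op t) =
        (constSh X M).obj.map g.op (φ.hom.app (op N) t) :=
      congrArg (fun f => f.hom t) hnat
    rw [ht', h2, hg]
  have hN' : Etale (N'.hom : N'.left ⟶ X) := N'.prop
  refine ⟨(W : Set X) ∩ Set.range (N'.hom : N'.left ⟶ X), ?_,
    W.isOpen.inter (N'.hom : N'.left ⟶ X).isOpenMap.isOpen_range, ⟨hx, Nbhd.pt _ z, ?_⟩⟩
  · rintro x' ⟨hx', n', rfl⟩
    refine ⟨hx', ?_⟩
    obtain ⟨y', -⟩ := exists_stdPt_nbhd N' n'
    rw [val_eq_zero_iff, ← germ_eq_gen W t' ht1' _ hx' y', germ_naturality, hφ', map_zero]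
  · rw [Nbhd.hom_pt, stdPt_default]

theorem isOpen_val_eq {W : X.Opens} (φ : Zsh W.ι ⟶ constSh X M) (m : M) :
    IsOpen {x : X | x ∈ W ∧ val M φ x = m} := by
  have h := isOpen_val_eq_zero (φ - eps W.ι ≫ cst X m)
  have : {x : X | x ∈ W ∧ val M φ x = m} =
      {x : X | x ∈ W ∧ val M (φ - eps W.ι ≫ cst X m) x = 0} := by
    ext x
    constructor
    · rintro ⟨hx, hm⟩
      refine ⟨hx, ?_⟩
      rw [val_sub, val_const W m x hx, hm, sub_self]
    · rintro ⟨hx, hm⟩
      refine ⟨hx, ?_⟩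
      rw [val_sub, val_const W m x hx, sub_eq_zero] at hm
      exact hm
  rw [this]
  exact h

end open_

section glue

open Groth.Agent.Lib.EtGabber39

lemma mk₀_iotaLE_comp {W' W : X.Opens} (h : W' ≤ W) (F : EtCoh.Ab X) (φ : Zsh W.ι ⟶ F) :
    res F 0 h (Ext.mk₀ φ) = Ext.mk₀ (iotaLE h ≫ φ) := by
  rw [res_apply, Ext.mk₀_comp_mk₀]

/-- extension by zero of a section over a relatively open and closed piece -/
lemma exists_extend {U A B : X.Opens} (hA : A ≤ U) (hB : B ≤ U) (hbot : A ⊓ B = ⊥)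
    (hU : U ≤ A ⊔ B) (F : EtCoh.Ab X) (φ : Zsh A.ι ⟶ F) :
    ∃ ψ : Zsh U.ι ⟶ F, iotaLE hA ≫ ψ = φ ∧ iotaLE hB ≫ ψ = 0 := by
  obtain ⟨δ, -, -, h3, -⟩ := isMV_opens A B F
  have hmem : ((Ext.mk₀ φ, 0) : Ext (Zsh A.ι) F 0 × Ext (Zsh B.ι) F 0) ∈
      ((res F 0 (inf_le_left : A ⊓ B ≤ A)).comp (AddMonoidHom.fst _ _) -
        (res F 0 (inf_le_right : A ⊓ B ≤ B)).comp (AddMonoidHom.snd _ _)).ker := by
    rw [AddMonoidHom.mem_ker]
    exact ext_eq_zero_of_eq_bot F _ hbot 0 _
  rw [h3 0] at hmem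
  obtain ⟨u, hu⟩ := hmem
  rw [AddMonoidHom.prod_apply, Prod.mk.injEq] at hu
  refine ⟨Ext.homEquiv₀ (res F 0 hU u), ?_, ?_⟩
  · apply (Ext.mk₀_bijective _ _).1
    rw [← mk₀_iotaLE_comp, Ext.mk₀_homEquiv₀_apply, res_res]
    exact hu.1
  · apply (Ext.mk₀_bijective _ _).1
    rw [← mk₀_iotaLE_comp, Ext.mk₀_homEquiv₀_apply, res_res, Ext.mk₀_zero]
    exact hu.2

/-- the value at `x`, as a homomorphism -/
noncomputable def valHom (M : AddCommGrpCat.{u + 1}) (W : X.Opens) (x : X) :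
    (Zsh W.ι ⟶ constSh X M) →+ M where
  toFun φ := val M φ x
  map_zero' := val_zero x
  map_add' φ ψ := val_add φ ψ x

/-- a function with finitely many values which is locally constant on `U` is the value function of
a section of the constant sheaf over `U` -/
theorem exists_val_eq [Finite M] (U : X.Opens) (a : X → M)
    (ha : ∀ m, IsOpen ((U : Set X) ∩ a ⁻¹' {m})) :
    ∃ φ : Zsh U.ι ⟶ constSh X M, ∀ x ∈ U, val M φ x = a x := by
  classical
  have := Fintype.ofFinite M
  let A : M → X.Opens := fun m => ⟨(U : Set X) ∩ a ⁻¹' {m}, ha m⟩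
  let B : M → X.Opens := fun m => ⟨(U : Set X) ∩ a ⁻¹' {m}ᶜ, by
    have : (U : Set X) ∩ a ⁻¹' {m}ᶜ = ⋃ m' ∈ ({m}ᶜ : Set M), (U : Set X) ∩ a ⁻¹' {m'} := by
      ext x
      simp only [Set.mem_inter_iff, Set.mem_preimage, Set.mem_compl_iff, Set.mem_singleton_iff,
        Set.mem_iUnion, exists_prop]
      constructor
      · rintro ⟨hx, h⟩
        exact ⟨a x, h, hx, rfl⟩
      · rintro ⟨m', hm', hx, rfl⟩
        exact ⟨hx, hm'⟩
    rw [this]
    exact isOpen_biUnion fun m' _ => ha m'⟩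
  have hA : ∀ m, A m ≤ U := fun m x hx => hx.1
  have hB : ∀ m, B m ≤ U := fun m x hx => hx.1
  have hbot : ∀ m, A m ⊓ B m = ⊥ := by
    intro m
    ext x
    constructor
    · rintro ⟨⟨-, h1⟩, -, h2⟩
      exact (h2 h1).elim
    · intro hx
      exact hx.elim
  have hU : ∀ m, U ≤ A m ⊔ B m := by
    intro m x hx
    apply TopologicalSpace.Opens.mem_sup.2
    by_cases h : a x = m
    · exact Or.inl ⟨hx, h⟩
    · exact Or.inr ⟨hx, h⟩
  choose ψ hψA hψB using fun m =>
    exists_extend (hA m) (hB m) (hbot m) (hU m) (constSh X M) (eps (A m).ι ≫ cst X m)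
  refine ⟨∑ m, ψ m, fun x hx => ?_⟩
  have h1 : val M (∑ m, ψ m) x = ∑ m, val M (ψ m) x := map_sum (valHom M U x) ψ Finset.univ
  rw [h1, Finset.sum_eq_single (a x)]
  · have hxA : x ∈ A (a x) := ⟨hx, rfl⟩
    rw [← val_iotaLE (hA (a x)) (ψ (a x)) x hxA, hψA, val_const _ _ x hxA]
  · intro m _ hm
    have hxB : x ∈ B m := ⟨hx, fun h => hm h.symm⟩
    rw [← val_iotaLE (hB m) (ψ m) x hxB, hψB, val_zero]
  · intro h
    exact (h (Finset.mem_univ _)).elim

end glue

end Groth.Agent.Lib.EtConstVal39
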