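import Groth.Agent.Lib.EtLocConst22b
import Mathlib.AlgebraicGeometry.Morphisms.FinitePresentation
import Mathlib.AlgebraicGeometry.IdealSheaf.Subscheme

/-!
# Constructible étale sheaves with general coefficients: definitions and topology (helper22)

* `ConsIn S R`: the subset `R` of `X` is constructible in the subspace `S`;
* `StrataA A P F S`: a finite stratification of `S` adapted to `F` (finite index type);
* `AdaptedStrataA`, `IsConstructibleA`: the forms with `Fin n` used in the prelude.
-/

set_option autoImplicit false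
set_option linter.style.haveILetI false
set_option linter.unusedSectionVars false
universe u

open CategoryTheory AlgebraicGeometry Limits MorphismProperty Opposite Topology

namespace Groth.Agent.Lib.EtConstr22

open Groth.Agent.Lib.EtOverSite22 Groth.Agent.Lib.EtLocConst22

section top

variable {X : Type*} [TopologicalSpace X]

/-- `R` is constructible in the subspace `S`. -/
def ConsIn (S R : Set X) : Prop := IsConstructible ((Subtype.val : S → X) ⁻¹' R)

theorem ConsIn.inter {S R₁ R₂ : Set X} (h₁ : ConsIn S R₁) (h₂ : ConsIn S R₂) :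
    ConsIn S (R₁ ∩ R₂) := by
  unfold ConsIn at *
  rw [Set.preimage_inter]
  exact IsConstructible.inter h₁ h₂

theorem ConsIn.union {S R₁ R₂ : Set X} (h₁ : ConsIn S R₁) (h₂ : ConsIn S R₂) :
    ConsIn S (R₁ ∪ R₂) := by
  unfold ConsIn at *
  rw [Set.preimage_union]
  exact IsConstructible.union h₁ h₂

theorem ConsIn.compl {S R : Set X} (h : ConsIn S R) : ConsIn S Rᶜ := by
  unfold ConsIn at *
  rw [Set.preimage_compl]
  exact IsConstructible.compl h

theorem ConsIn.iUnion {ι : Type*} [Finite ι] {S : Set X} {R : ι → Set X}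
    (h : ∀ i, ConsIn S (R i)) : ConsIn S (⋃ i, R i) := by
  unfold ConsIn at *
  rw [Set.preimage_iUnion]
  exact IsConstructible.iUnion h

theorem ConsIn.congr {S R R' : Set X} (h : ConsIn S R) (e : R ∩ S = R' ∩ S) : ConsIn S R' := by
  unfold ConsIn at h ⊢
  have : (Subtype.val : S → X) ⁻¹' R' = (Subtype.val : S → X) ⁻¹' R := by
    ext ⟨x, hx⟩
    constructor
    · intro h'
      exact ((Set.ext_iff.1 e x).2 ⟨h', hx⟩).1
    · intro h'
      exact ((Set.ext_iff.1 e x).1 ⟨h', hx⟩).1
  rw [this]
  exact h

/-- Transitivity: constructible in a retrocompact open part of `S` implies constructible in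
`S`. -/
theorem ConsIn.trans_open {S V R : Set X} (hVS : V ⊆ S) (hVo : IsOpen V)
    (hVr : IsRetrocompact ((Subtype.val : S → X) ⁻¹' V)) (hRV : R ⊆ V) (h : ConsIn V R) :
    ConsIn S R := by
  unfold ConsIn at h ⊢
  let ι : V → S := Set.inclusion hVS
  have hι : IsOpenEmbedding ι := by
    refine ⟨(IsEmbedding.inclusion hVS), ?_⟩
    rw [Set.range_inclusion]
    exact hVo.preimage continuous_subtype_val
  have hr : Set.range ι = (Subtype.val : S → X) ⁻¹' V := Set.range_inclusion hVS
  have e : (Subtype.val : S → X) ⁻¹' R = ι '' ((Subtype.val : V → X) ⁻¹' R) := by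
    ext ⟨x, hx⟩
    constructor
    · intro h'
      exact ⟨⟨x, hRV h'⟩, h', rfl⟩
    · rintro ⟨⟨y, hy⟩, h', e⟩
      have : y = x := congrArg Subtype.val e
      subst this
      exact h'
  rw [e]
  exact IsConstructible.image_of_isOpenEmbedding hι (hr ▸ hVr) h

end top

section defs

variable (A : Type (u + 2)) [Category.{u + 1} A]
  [∀ {X Y : Scheme.{u}} (f : X ⟶ Y), (pushA A f).IsRightAdjoint]
  [∀ (Y : Scheme.{u}) (V : Y.Etale), HasWeakSheafify (Y.smallEtaleTopology.over V) A]

/-- A finite stratification of `S` adapted to `F`, indexed by a finite type. -/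
def StrataA (P : A → Prop) {X : Scheme.{u}} (F : Sheaf X.smallEtaleTopology A) (S : Set X) :
    Prop :=
  ∃ (ι : Type) (_ : Finite ι) (T : ι → Scheme.{u}) (g : ∀ i, T i ⟶ X),
    (∀ i, IsImmersion (g i)) ∧ (∀ i, ConsIn S (Set.range (g i))) ∧
    Pairwise (fun i j => Disjoint (Set.range (g i)) (Set.range (g j))) ∧
    (⋃ i, Set.range (g i)) = S ∧ ∀ i, IsLC A P ((pullA A (g i)).obj F)

/-- A finite stratification of `S` adapted to `F`, indexed by `Fin n` (prelude form). -/
def AdaptedStrataA (P : A → Prop) {X : Scheme.{u}} (F : Sheaf X.smallEtaleTopology A)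
    (S : Set X) : Prop :=
  ∃ (n : ℕ) (T : Fin n → Scheme.{u}) (g : ∀ i, T i ⟶ X),
    (∀ i, IsImmersion (g i)) ∧
    (∀ i, Topology.IsConstructible ((Subtype.val : S → X) ⁻¹' Set.range (g i))) ∧
    Pairwise (fun i j => Disjoint (Set.range (g i)) (Set.range (g j))) ∧
    (⋃ i, Set.range (g i)) = S ∧ ∀ i, IsLC A P ((pullA A (g i)).obj F)

/-- Constructible sheaves with coefficients in `A` and local values in `P`. -/
def IsConstructibleA (P : A → Prop) {X : Scheme.{u}} (F : Sheaf X.smallEtaleTopology A) : Prop :=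
  ∀ U : X.Opens, IsAffineOpen U → AdaptedStrataA A P F (U : Set X)

variable {A} {P : A → Prop} {X : Scheme.{u}} {F : Sheaf X.smallEtaleTopology A} {S : Set X}

theorem adaptedStrataA_iff_strataA : AdaptedStrataA A P F S ↔ StrataA A P F S := by
  constructor
  · rintro ⟨n, T, g, h1, h2, h3, h4, h5⟩
    exact ⟨Fin n, inferInstance, T, g, h1, h2, h3, h4, h5⟩
  · rintro ⟨ι, hι, T, g, h1, h2, h3, h4, h5⟩
    let e : ι ≃ Fin (Nat.card ι) := Finite.equivFin ι
    refine ⟨Nat.card ι, fun k => T (e.symm k), fun k => g (e.symm k), fun k => h1 _,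
      fun k => h2 _, ?_, ?_, fun k => h5 _⟩
    · intro k k' hkk'
      exact h3 (fun h => hkk' (e.symm.injective h))
    · rw [← h4]
      exact e.symm.surjective.iUnion_comp (fun i => Set.range (g i))

end defs

end Groth.Agent.Lib.EtConstr22
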