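import Groth.Agent.Lib.EtConstr22a

/-!
# Constructible étale sheaves: cutting strata and gluing stratifications (helper22)

* `exists_cut`: a stratum can be cut by a closed subset of the ambient scheme;
* `StrataA.of_finite_open_cover`: gluing of adapted stratifications along a finite cover of `U` by
  retrocompact open subsets.
-/

set_option autoImplicit false
set_option linter.style.haveILetI false
set_option linter.unusedSectionVars false
universe u

open CategoryTheory AlgebraicGeometry Limits MorphismProperty Opposite Topology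

namespace Groth.Agent.Lib.EtConstr22

open Groth.Agent.Lib.EtOverSite22 Groth.Agent.Lib.EtLocConst22

variable {A : Type (u + 2)} [Category.{u + 1} A]
  [∀ {X Y : Scheme.{u}} (f : X ⟶ Y), (pushA A f).IsRightAdjoint]
  [∀ (Y : Scheme.{u}), HasWeakSheafify Y.smallEtaleTopology A]
  [∀ (Y : Scheme.{u}) (V : Y.Etale), HasWeakSheafify (Y.smallEtaleTopology.over V) A]
  [∀ (Y : Scheme.{u}) (V : Y.Etale) W, HasLimitsOfShape (StructuredArrow W (toOver V).op) A]
  {P : A → Prop}

/-- Local constancy of `g⁻¹ F` passes to `(h ≫ g)⁻¹ F`. -/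
theorem IsLC.comp {X T Z : Scheme.{u}} (g : T ⟶ X) (h : Z ⟶ T) {F : Sheaf X.smallEtaleTopology A}
    (hF : IsLC A P ((pullA A g).obj F)) : IsLC A P ((pullA A (h ≫ g)).obj F) :=
  (hF.pull h).of_iso ((pullCompA A h g).app F).symm

/-- A stratum `g : T ⟶ X` can be cut by a closed subset `C` of `X`. -/
theorem exists_cut {X T : Scheme.{u}} (g : T ⟶ X) [IsImmersion g] (C : Set X) (hC : IsClosed C)
    {F : Sheaf X.smallEtaleTopology A} (hF : IsLC A P ((pullA A g).obj F)) :
    ∃ (Z : Scheme.{u}) (g' : Z ⟶ X), IsImmersion g' ∧ Set.range g' = Set.range g ∩ C ∧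
      IsLC A P ((pullA A g').obj F) := by
  let C' : TopologicalSpace.Closeds T := ⟨g ⁻¹' C, hC.preimage g.continuous⟩
  let I := Scheme.IdealSheafData.vanishingIdeal C'
  refine ⟨I.subscheme, I.subschemeι ≫ g, inferInstance, ?_, IsLC.comp g I.subschemeι hF⟩
  rw [Scheme.Hom.comp_base, TopCat.coe_comp, Set.range_comp, I.range_subschemeι,
    Scheme.IdealSheafData.coe_support_vanishingIdeal]
  change g '' (g ⁻¹' C) = _
  rw [Set.image_preimage_eq_inter_range, Set.inter_comm]

/-- Gluing of adapted stratifications along a finite cover by retrocompact open subsets. -/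
theorem StrataA.of_finite_open_cover {X : Scheme.{u}} {F : Sheaf X.smallEtaleTopology A}
    (U : Set X) {m : ℕ} (D : Fin m → Set X) (hDo : ∀ l, IsOpen (D l)) (hDU : ∀ l, D l ⊆ U)
    (hDr : ∀ l, IsRetrocompact ((Subtype.val : U → X) ⁻¹' D l)) (hcov : (⋃ l, D l) = U)
    (h : ∀ l, StrataA A P F (D l)) : StrataA A P F U := by
  classical
  choose ι hι T g h1 h2 h3 h4 h5 using h
  let E : Fin m → Set X := fun l => (⋃ l' : {l' : Fin m // l' < l}, D l'.1)ᶜ
  have hE : ∀ l, IsClosed (E l) := fun l =>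
    (isOpen_iUnion fun l' : {l' : Fin m // l' < l} => hDo l'.1).isClosed_compl
  have hcut := fun (q : Σ l, ι l) => exists_cut (g q.1 q.2) (E q.1) (hE q.1) (h5 q.1 q.2)
  choose Z g' hg'1 hg'2 hg'3 using hcut
  haveI : ∀ l, Finite (ι l) := hι
  have hsub : ∀ l (a : ι l), Set.range (g l a) ⊆ D l := fun l a => by
    rw [← h4 l]
    exact Set.subset_iUnion (fun a => Set.range (g l a)) a
  have hDc : ∀ l, ConsIn U (D l) := fun l =>
    IsRetrocompact.isConstructible ((hDo l).preimage continuous_subtype_val) (hDr l)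
  refine ⟨Σ l, ι l, inferInstance, Z, g', hg'1, ?_, ?_, ?_, hg'3⟩
  · rintro ⟨l, a⟩
    rw [hg'2]
    refine ConsIn.inter ?_ ?_
    · exact ConsIn.trans_open (hDU l) (hDo l) (hDr l) (hsub l a) (h2 l a)
    · exact ConsIn.compl (ConsIn.iUnion fun l' : {l' : Fin m // l' < l} => hDc l'.1)
  · rintro ⟨l, a⟩ ⟨l', a'⟩ hne
    rw [hg'2, hg'2]
    rcases lt_trichotomy l l' with hlt | heq | hgt
    · refine Set.disjoint_left.2 fun x hx hx' => ?_
      exact hx'.2 (Set.mem_iUnion.2 ⟨⟨l, hlt⟩, hsub l a hx.1⟩)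
    · subst heq
      have hne' : a ≠ a' := fun e => hne (by rw [e])
      exact (h3 l hne').mono Set.inter_subset_left Set.inter_subset_left
    · refine Set.disjoint_left.2 fun x hx hx' => ?_
      exact hx.2 (Set.mem_iUnion.2 ⟨⟨l', hgt⟩, hsub l' a' hx'.1⟩)
  · apply Set.Subset.antisymm
    · refine Set.iUnion_subset fun q => ?_
      rw [hg'2]
      exact Set.inter_subset_left.trans ((hsub q.1 q.2).trans (hDU q.1))
    · intro x hx
      rw [← hcov] at hx
      have hex : ∃ k : ℕ, ∃ hk : k < m, x ∈ D ⟨k, hk⟩ := by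
        obtain ⟨l, hl⟩ := Set.mem_iUnion.1 hx
        exact ⟨l.1, l.2, hl⟩
      obtain ⟨hk, hxk⟩ := Nat.find_spec hex
      let l : Fin m := ⟨Nat.find hex, hk⟩
      have hxl : x ∈ D l := hxk
      rw [← h4 l] at hxl
      obtain ⟨a, ha⟩ := Set.mem_iUnion.1 hxl
      refine Set.mem_iUnion.2 ⟨⟨l, a⟩, ?_⟩
      rw [hg'2]
      refine ⟨ha, ?_⟩
      intro hmem
      obtain ⟨⟨l', hl'⟩, hx'⟩ := Set.mem_iUnion.1 hmem
      exact Nat.find_min hex (show l'.1 < Nat.find hex from hl') ⟨l'.2, hx'⟩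

end Groth.Agent.Lib.EtConstr22
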