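import Groth.Agent.Lib.EtConstr22b
import Mathlib.AlgebraicGeometry.Morphisms.QuasiSeparated

/-!
# Constructible étale sheaves: transport along open immersions and basic-open covers (helper22)

* `ConsIn.image_of_isEmbedding`;
* `StrataA.of_open_ι`: strata for `V.ι⁻¹ F` on `W ⊆ V` give strata for `F` on `V.ι '' W`;
* `exists_finite_basicOpen_cover`: an affine open covered by opens admits a finite refinement by
  basic opens;
* `StrataA.of_basicOpen_cover`.
-/

set_option autoImplicit false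
set_option linter.style.haveILetI false
set_option linter.unusedSectionVars false
universe u

open CategoryTheory AlgebraicGeometry Limits MorphismProperty Opposite Topology

namespace Groth.Agent.Lib.EtConstr22

open Groth.Agent.Lib.EtOverSite22 Groth.Agent.Lib.EtLocConst22

section top

variable {X Y : Type*} [TopologicalSpace X] [TopologicalSpace Y]

theorem ConsIn.image_of_isEmbedding {f : X → Y} (hf : IsEmbedding f) {S R : Set X}
    (h : ConsIn S R) : ConsIn (f '' S) (f '' R) := by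
  unfold ConsIn at *
  let φ : S ≃ₜ f '' S := hf.homeomorphImage S
  have hφ : ∀ x : S, (φ x : Y) = f x := fun x => rfl
  have e : (Subtype.val : (f '' S) → Y) ⁻¹' (f '' R) = φ.symm ⁻¹' ((Subtype.val : S → X) ⁻¹' R) := by
    ext y
    obtain ⟨x, rfl⟩ := φ.surjective y
    simp only [Set.mem_preimage, Homeomorph.symm_apply_apply, hφ]
    exact hf.injective.mem_set_image
  rw [e]
  exact IsConstructible.preimage_of_isOpenEmbedding φ.symm.isOpenEmbedding h

end top

variable {A : Type (u + 2)} [Category.{u + 1} A]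
  [∀ {X Y : Scheme.{u}} (f : X ⟶ Y), (pushA A f).IsRightAdjoint]
  [∀ (Y : Scheme.{u}), HasWeakSheafify Y.smallEtaleTopology A]
  [∀ (Y : Scheme.{u}) (V : Y.Etale), HasWeakSheafify (Y.smallEtaleTopology.over V) A]
  [∀ (Y : Scheme.{u}) (V : Y.Etale) W, HasLimitsOfShape (StructuredArrow W (toOver V).op) A]
  {P : A → Prop}

/-- Strata for `j⁻¹ F` on `W` give strata for `F` on `j '' W`, for an open immersion `j`. -/
theorem StrataA.of_openImmersion {X V : Scheme.{u}} (j : V ⟶ X) [IsOpenImmersion j]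
    {F : Sheaf X.smallEtaleTopology A} (W : Set V)
    (h : StrataA A P ((pullA A j).obj F) W) : StrataA A P F (j '' W) := by
  obtain ⟨ι, hι, T, g, h1, h2, h3, h4, h5⟩ := h
  have hr : ∀ i, Set.range (g i ≫ j) = j '' Set.range (g i) := fun i => by
    rw [Scheme.Hom.comp_base, TopCat.coe_comp, Set.range_comp]
  refine ⟨ι, hι, T, fun i => g i ≫ j, fun i => inferInstance, fun i => ?_, ?_, ?_, fun i => ?_⟩
  · rw [hr]
    exact (h2 i).image_of_isEmbedding j.isEmbedding
  · intro i i' hne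
    change Disjoint (Set.range (g i ≫ j)) (Set.range (g i' ≫ j))
    rw [hr, hr]
    exact (Set.disjoint_image_iff j.isEmbedding.injective).2 (h3 hne)
  · simp_rw [hr]
    rw [← Set.image_iUnion, h4]
  · exact (h5 i).of_iso ((pullCompA A (g i) j).app F).symm

/-- An affine open covered by open subsets has a finite refinement by basic opens. -/
theorem exists_finite_basicOpen_cover {X : Scheme.{u}} {U : X.Opens} (hU : IsAffineOpen U)
    {ι : Type*} (𝒱 : ι → X.Opens) (hcov : (U : Set X) ⊆ ⋃ i, (𝒱 i : Set X)) :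
    ∃ (m : ℕ) (h : Fin m → Γ(X, U)) (i : Fin m → ι), (∀ l, X.basicOpen (h l) ≤ 𝒱 (i l)) ∧
      (⋃ l, (X.basicOpen (h l) : Set X)) = U := by
  classical
  have hx : ∀ x : U, ∃ (i : ι) (f : Γ(X, U)), X.basicOpen f ≤ 𝒱 i ∧ x.1 ∈ X.basicOpen f := by
    intro x
    obtain ⟨i, hi⟩ := Set.mem_iUnion.1 (hcov x.2)
    obtain ⟨f, hf1, hf2⟩ := hU.exists_basicOpen_le (V := 𝒱 i) ⟨x.1, hi⟩ x.2
    exact ⟨i, f, hf1, hf2⟩
  choose i f hf1 hf2 using hx
  obtain ⟨t, ht⟩ := hU.isCompact.elim_finite_subcover (fun x : U => (X.basicOpen (f x) : Set X))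
    (fun x => (X.basicOpen (f x)).isOpen) (fun x hxU => Set.mem_iUnion.2 ⟨⟨x, hxU⟩, hf2 ⟨x, hxU⟩⟩)
  let e : Fin t.card ≃ t := t.equivFin.symm
  refine ⟨t.card, fun l => f (e l).1, fun l => i (e l).1, fun l => hf1 _, ?_⟩
  apply Set.Subset.antisymm
  · refine Set.iUnion_subset fun l => ?_
    exact X.basicOpen_le (f (e l).1)
  · intro x hxU
    obtain ⟨y, hy⟩ := Set.mem_iUnion.1 (ht hxU)
    obtain ⟨hyt, hxy⟩ := Set.mem_iUnion.1 hy
    refine Set.mem_iUnion.2 ⟨e.symm ⟨y, hyt⟩, ?_⟩
    change x ∈ (X.basicOpen (f (e (e.symm ⟨y, hyt⟩)).1) : Set X)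
    rw [Equiv.apply_symm_apply]
    exact hxy

/-- Basic opens of an affine open `U` are retrocompact in the subspace `U`. -/
theorem isRetrocompact_basicOpen {X : Scheme.{u}} {U : X.Opens} (hU : IsAffineOpen U)
    (f : Γ(X, U)) :
    IsRetrocompact ((Subtype.val : ↥(U : Set X) → X) ⁻¹' (X.basicOpen f : Set X)) := by
  intro K hKc hKo
  have hemb : IsEmbedding (Subtype.val : ↥(U : Set X) → X) := IsEmbedding.subtypeVal
  rw [hemb.isCompact_iff]
  have e : (Subtype.val : ↥(U : Set X) → X) ''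
      ((Subtype.val : ↥(U : Set X) → X) ⁻¹' (X.basicOpen f : Set X) ∩ K) =
      (X.basicOpen f : Set X) ∩ (Subtype.val : ↥(U : Set X) → X) '' K := by
    ext x
    constructor
    · rintro ⟨y, ⟨hy1, hy2⟩, rfl⟩
      exact ⟨hy1, y, hy2, rfl⟩
    · rintro ⟨hx1, y, hy2, rfl⟩
      exact ⟨y, ⟨hx1, hy2⟩, rfl⟩
  rw [e]
  have hoe : IsOpenEmbedding (Subtype.val : ↥(U : Set X) → X) := U.isOpen.isOpenEmbedding_subtypeVal
  refine hU.isQuasiSeparated _ _ (X.basicOpen_le f) (X.basicOpen f).isOpen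
    (hU.basicOpen f).isCompact ?_ (hoe.isOpenMap _ hKo) (hKc.image continuous_subtype_val)
  rintro _ ⟨y, -, rfl⟩
  exact y.2

/-- Gluing of adapted stratifications along a finite cover of an affine open by basic opens. -/
theorem StrataA.of_basicOpen_cover {X : Scheme.{u}} {F : Sheaf X.smallEtaleTopology A}
    {U : X.Opens} (hU : IsAffineOpen U) {m : ℕ} (h : Fin m → Γ(X, U))
    (hcov : (⋃ l, (X.basicOpen (h l) : Set X)) = U)
    (hs : ∀ l, StrataA A P F (X.basicOpen (h l) : Set X)) : StrataA A P F (U : Set X) :=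
  StrataA.of_finite_open_cover (U : Set X) (fun l => (X.basicOpen (h l) : Set X))
    (fun l => (X.basicOpen (h l)).isOpen) (fun l => X.basicOpen_le (h l))
    (fun l => isRetrocompact_basicOpen hU (h l)) hcov hs

end Groth.Agent.Lib.EtConstr22
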