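import Groth.Agent.Lib.EtConstr22c

/-!
# Constructible étale sheaves: Zariski-local nature and pullback (helper22)

* `IsConstructibleA.of_openCover`: constructibility can be checked on an open cover;
* `StrataA.pull`: pullback of strata along a morphism mapping an open `D` into an open `V`;
* `IsConstructibleA.pull`: the inverse image of a constructible sheaf is constructible.
-/

set_option autoImplicit false
set_option linter.style.haveILetI false
set_option linter.unusedSectionVars false
universe u

open CategoryTheory AlgebraicGeometry Limits MorphismProperty Opposite Topology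

namespace Groth.Agent.Lib.EtConstr22

open Groth.Agent.Lib.EtOverSite22 Groth.Agent.Lib.EtLocConst22

variable {A : Type (u + 2)} [Category.{u + 1} A]
  [∀ {X Y : Scheme.{u}} (f : X ⟶ Y), (pushA A f).IsRightAdjoint]
  [∀ (Y : Scheme.{u}), HasWeakSheafify Y.smallEtaleTopology A]
  [∀ (Y : Scheme.{u}) (V : Y.Etale), HasWeakSheafify (Y.smallEtaleTopology.over V) A]
  [∀ (Y : Scheme.{u}) (V : Y.Etale) W, HasLimitsOfShape (StructuredArrow W (toOver V).op) A]
  {P : A → Prop}

/-- Strata of `V.ι⁻¹ F` on the preimage of an affine open `D ≤ V` give strata of `F` on `D`. -/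
theorem strataA_of_le {X : Scheme.{u}} {F : Sheaf X.smallEtaleTopology A} (V D : X.Opens)
    (hD : IsAffineOpen D) (hle : D ≤ V)
    (h : IsConstructibleA A P ((pullA A V.ι).obj F)) : StrataA A P F (D : Set X) := by
  let W : V.toScheme.Opens := V.ι ⁻¹ᵁ D
  have himgO : V.ι ''ᵁ W = D := by
    rw [Scheme.Hom.image_preimage_eq_opensRange_inf, Scheme.Opens.opensRange_ι]
    exact inf_eq_right.mpr hle
  have hW : IsAffineOpen W := by
    rw [← V.ι.isAffineOpen_iff_of_isOpenImmersion, himgO]
    exact hD
  have himg : V.ι '' (W : Set V.toScheme) = (D : Set X) := congrArg (fun O : X.Opens => (O : Set X)) himgO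
  have h1 := adaptedStrataA_iff_strataA.1 (h W hW)
  rw [← himg]
  exact StrataA.of_openImmersion V.ι _ h1

/-- Constructibility can be checked on an open cover. -/
theorem IsConstructibleA.of_openCover {X : Scheme.{u}} {F : Sheaf X.smallEtaleTopology A}
    {ι : Type*} (𝒱 : ι → X.Opens) (hcov : ⨆ i, 𝒱 i = ⊤)
    (h : ∀ i, IsConstructibleA A P ((pullA A (𝒱 i).ι).obj F)) : IsConstructibleA A P F := by
  intro U hU
  rw [adaptedStrataA_iff_strataA]
  have hc : (U : Set X) ⊆ ⋃ i, (𝒱 i : Set X) := by
    intro x _
    have : x ∈ (⨆ i, 𝒱 i : X.Opens) := by rw [hcov]; trivial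
    obtain ⟨i, hi⟩ := TopologicalSpace.Opens.mem_iSup.1 this
    exact Set.mem_iUnion.2 ⟨i, hi⟩
  obtain ⟨m, hh, i, hle, hUcov⟩ := exists_finite_basicOpen_cover hU 𝒱 hc
  exact StrataA.of_basicOpen_cover hU hh hUcov fun l =>
    strataA_of_le (𝒱 (i l)) (X.basicOpen (hh l)) (hU.basicOpen (hh l)) (hle l) (h (i l))

end Groth.Agent.Lib.EtConstr22
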