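import Groth.Agent.Lib.EtConstr22d

/-!
# Bridges: `EtPBC.IsConstructible` and `EtModW.IsConstructible` vs `IsConstructibleA` (helper22)
-/

set_option autoImplicit false
set_option linter.style.haveILetI false
set_option linter.unusedSectionVars false
universe u

open CategoryTheory AlgebraicGeometry Limits MorphismProperty Opposite Topology

namespace Groth.Agent.Lib.EtConstr22

open Groth.Agent.Lib.EtOverSite22 Groth.Agent.Lib.EtLocConst22

section ab

variable {X : Scheme.{u}} (F : EtCoh.Ab X)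

theorem adaptedStrata_iff (S : Set X) :
    EtPBC.AdaptedStrata F S ↔ AdaptedStrataA AddCommGrpCat.{u + 1} PFin F S := by
  constructor
  · rintro ⟨n, T, g, h1, h2, h3, h4, h5⟩
    exact ⟨n, T, g, h1, h2, h3, h4, fun i => (isFLC_iff_isLC _).1 (h5 i)⟩
  · rintro ⟨n, T, g, h1, h2, h3, h4, h5⟩
    exact ⟨n, T, g, h1, h2, h3, h4, fun i _ => (isFLC_iff_isLC _).2 (h5 i)⟩

theorem isConstructible_iff :
    EtPBC.IsConstructible F ↔ IsConstructibleA AddCommGrpCat.{u + 1} PFin F := by
  constructor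
  · intro h U hU
    exact (adaptedStrata_iff F _).1 (h U hU)
  · intro h U hU
    exact (adaptedStrata_iff F _).2 (h U hU)

end ab

section mod

variable (Λ : Type (u + 1)) [CommRing Λ] {X : Scheme.{u}} (F : EtModW.Mod Λ X)

theorem adaptedStrataMod_iff (S : Set X) :
    EtModW.AdaptedStrata Λ F S ↔ AdaptedStrataA (ModuleCat.{u + 1} Λ) (PFT Λ) F S := by
  constructor
  · rintro ⟨n, T, g, h1, h2, h3, h4, h5⟩
    exact ⟨n, T, g, h1, h2, h3, h4, fun i => (isFTLC_iff_isLC Λ _).1 (h5 i)⟩
  · rintro ⟨n, T, g, h1, h2, h3, h4, h5⟩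
    exact ⟨n, T, g, h1, h2, h3, h4, fun i => (isFTLC_iff_isLC Λ _).2 (h5 i)⟩

theorem isConstructibleMod_iff :
    EtModW.IsConstructible Λ F ↔ IsConstructibleA (ModuleCat.{u + 1} Λ) (PFT Λ) F := by
  constructor
  · intro h U hU
    exact (adaptedStrataMod_iff Λ F _).1 (h U hU)
  · intro h U hU
    exact (adaptedStrataMod_iff Λ F _).2 (h U hU)

end mod

end Groth.Agent.Lib.EtConstr22
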