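import Groth.Agent.Lib.EtConstr22e

/-!
# The inverse image of a constructible étale sheaf is constructible (helper22)

* `StrataA.pull`: pullback of strata along a morphism mapping an open `D` into an open `V`;
* `IsConstructibleA.pull`, `isConstructible_pull`, `isConstructibleMod_pull`.
-/

set_option autoImplicit false
set_option linter.style.haveILetI false
set_option linter.unusedSectionVars false
universe u

open CategoryTheory AlgebraicGeometry Limits MorphismProperty Opposite Topology

namespace Groth.Agent.Lib.EtConstr22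

open Groth.Agent.Lib.EtOverSite22 Groth.Agent.Lib.EtLocConst22

variable {A : Type (u + 2)} [Category.{u + 1} A]
  [∀ {X Y : Scheme.{u}} (f : X ⟶ Y), (pushA A f).IsRightAdjoint]
  [∀ (Y : Scheme.{u}), HasWeakSheafify Y.smallEtaleTopology A]
  [∀ (Y : Scheme.{u}) (V : Y.Etale), HasWeakSheafify (Y.smallEtaleTopology.over V) A]
  [∀ (Y : Scheme.{u}) (V : Y.Etale) W, HasLimitsOfShape (StructuredArrow W (toOver V).op) A]
  {P : A → Prop}

/-- Pullback of an adapted stratification of `V` to an open `D` mapping into `V`. -/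
theorem StrataA.pull {X Y : Scheme.{u}} (f : X ⟶ Y) {F : Sheaf Y.smallEtaleTopology A}
    (V : Y.Opens) (D : X.Opens) (e : D ≤ f ⁻¹ᵁ V) (h : StrataA A P F (V : Set Y)) :
    StrataA A P ((pullA A f).obj F) (D : Set X) := by
  obtain ⟨ι, hι, T, g, h1, h2, h3, h4, h5⟩ := h
  let T' : ι → Scheme.{u} := fun a => pullback (g a) (D.ι ≫ f)
  let g' : ∀ a, T' a ⟶ X := fun a => pullback.snd (g a) (D.ι ≫ f) ≫ D.ι
  have hr : ∀ a, Set.range (g' a) = (D : Set X) ∩ f ⁻¹' Set.range (g a) := fun a => by
    change Set.range (pullback.snd (g a) (D.ι ≫ f) ≫ D.ι) = _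
    rw [Scheme.Hom.comp_base, TopCat.coe_comp, Set.range_comp, Scheme.Pullback.range_snd]
    ext x
    constructor
    · rintro ⟨d, hd, rfl⟩
      exact ⟨d.2, hd⟩
    · rintro ⟨hxD, hx⟩
      exact ⟨⟨x, hxD⟩, hx, rfl⟩
  refine ⟨ι, hι, T', g', fun a => inferInstance, fun a => ?_, ?_, ?_, fun a => ?_⟩
  · -- constructibility
    have hc := Scheme.Hom.isConstructible_preimage (f.resLE V D e) (h2 a)
    unfold ConsIn
    rw [hr]
    have key : (Subtype.val : ↥(D : Set X) → X) ⁻¹' ((D : Set X) ∩ f ⁻¹' Set.range (g a)) =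
        (f.resLE V D e) ⁻¹' ((Subtype.val : ↥(V : Set Y) → Y) ⁻¹' Set.range (g a)) := by
      ext d
      have hd : V.ι ((f.resLE V D e) d) = f (D.ι d) := by
        rw [← Scheme.Hom.comp_apply, Scheme.Hom.resLE_comp_ι, Scheme.Hom.comp_apply]
      constructor
      · rintro ⟨-, hx⟩
        change V.ι ((f.resLE V D e) d) ∈ Set.range (g a)
        rw [hd]
        exact hx
      · intro hx
        refine ⟨d.2, ?_⟩
        change V.ι ((f.resLE V D e) d) ∈ Set.range (g a) at hx
        rw [hd] at hx
        exact hx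
    rw [key]
    exact hc
  · intro a a' hne
    rw [hr, hr]
    exact ((h3 hne).preimage f).mono Set.inter_subset_right Set.inter_subset_right
  · simp_rw [hr]
    rw [← Set.inter_iUnion, ← Set.preimage_iUnion, h4]
    exact Set.inter_eq_left.2 e
  · -- local constancy
    have hcond : pullback.fst (g a) (D.ι ≫ f) ≫ g a = g' a ≫ f := by
      change _ = (pullback.snd (g a) (D.ι ≫ f) ≫ D.ι) ≫ f
      rw [Category.assoc]
      exact pullback.condition
    have h6 : IsLC A P ((pullA A (pullback.fst (g a) (D.ι ≫ f) ≫ g a)).obj F) :=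
      IsLC.comp (g a) _ (h5 a)
    have h7 : IsLC A P ((pullA A (g' a ≫ f)).obj F) := h6.of_iso ((pullCongrA A hcond).app F)
    exact h7.of_iso ((pullCompA A (g' a) f).app F)

/-- The inverse image of a constructible sheaf is constructible. -/
theorem IsConstructibleA.pull {X Y : Scheme.{u}} (f : X ⟶ Y) {F : Sheaf Y.smallEtaleTopology A}
    (h : IsConstructibleA A P F) : IsConstructibleA A P ((pullA A f).obj F) := by
  intro U hU
  rw [adaptedStrataA_iff_strataA]
  let 𝒱 : Y.affineOpens → X.Opens := fun V => f ⁻¹ᵁ V.1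
  have hc : (U : Set X) ⊆ ⋃ V, (𝒱 V : Set X) := fun x _ => by
    obtain ⟨V, hV, hxV, -⟩ := exists_isAffineOpen_mem_and_subset (U := ⊤) (x := f x) (by simp)
    exact Set.mem_iUnion.2 ⟨⟨V, hV⟩, hxV⟩
  obtain ⟨m, hh, i, hle, hUcov⟩ := exists_finite_basicOpen_cover hU 𝒱 hc
  exact StrataA.of_basicOpen_cover hU hh hUcov fun l =>
    StrataA.pull f (i l).1 (X.basicOpen (hh l)) (hle l)
      (adaptedStrataA_iff_strataA.1 (h (i l).1 (i l).2))

/-- The inverse image of a constructible abelian sheaf is constructible. -/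
theorem isConstructible_pull {X Y : Scheme.{u}} (f : X ⟶ Y) {F : EtCoh.Ab Y}
    (h : EtPBC.IsConstructible F) : EtPBC.IsConstructible ((EtCoh.pull f).obj F) :=
  (isConstructible_iff _).2 (((isConstructible_iff F).1 h).pull f)

/-- The inverse image of a constructible sheaf of modules is constructible. -/
theorem isConstructibleMod_pull (Λ : Type (u + 1)) [CommRing Λ] {X Y : Scheme.{u}} (f : X ⟶ Y)
    {F : EtModW.Mod Λ Y} (h : EtModW.IsConstructible Λ F) :
    EtModW.IsConstructible Λ ((EtModW.pull Λ f).obj F) :=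
  (isConstructibleMod_iff Λ _).2 (((isConstructibleMod_iff Λ F).1 h).pull f)

end Groth.Agent.Lib.EtConstr22
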