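import Groth.Agent.Lib.EtConstr22f

/-!
# Constructible étale sheaves on quasi-compact quasi-separated schemes (helper22)

* `StrataA.inter_open`: restriction of an adapted stratification to an open subset;
* `isConstructibleA_iff_strataA_univ`: on a qcqs scheme, `F` is constructible iff the whole
  scheme admits an adapted stratification.
-/

set_option autoImplicit false
set_option linter.style.haveILetI false
set_option linter.unusedSectionVars false
universe u

open CategoryTheory AlgebraicGeometry Limits MorphismProperty Opposite Topology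

namespace Groth.Agent.Lib.EtConstr22

open Groth.Agent.Lib.EtOverSite22 Groth.Agent.Lib.EtLocConst22

section top

variable {X : Type*} [TopologicalSpace X]

theorem ConsIn.inter_open {S R U : Set X} (hU : IsOpen U) (h : ConsIn S R) :
    ConsIn (S ∩ U) (R ∩ U) := by
  unfold ConsIn at *
  let ι : ↥(S ∩ U) → S := Set.inclusion Set.inter_subset_left
  have hι : IsOpenEmbedding ι := by
    refine ⟨IsEmbedding.inclusion Set.inter_subset_left, ?_⟩
    rw [Set.range_inclusion]
    have : {x : S | (x : X) ∈ S ∩ U} = (Subtype.val : S → X) ⁻¹' U := by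
      ext x
      exact ⟨fun h => h.2, fun h => ⟨x.2, h⟩⟩
    rw [this]
    exact hU.preimage continuous_subtype_val
  have e : (Subtype.val : ↥(S ∩ U) → X) ⁻¹' (R ∩ U) = ι ⁻¹' ((Subtype.val : S → X) ⁻¹' R) := by
    ext x
    exact ⟨fun h => h.1, fun h => ⟨h, x.2.2⟩⟩
  rw [e]
  exact IsConstructible.preimage_of_isOpenEmbedding hι h

theorem consIn_univ_iff {R : Set X} : ConsIn Set.univ R ↔ IsConstructible R := by
  unfold ConsIn
  let φ : (Set.univ : Set X) ≃ₜ X := Homeomorph.Set.univ X
  have e : (Subtype.val : ↥(Set.univ : Set X) → X) ⁻¹' R = φ ⁻¹' R := rfl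
  rw [e]
  constructor
  · intro h
    have := IsConstructible.preimage_of_isOpenEmbedding φ.symm.isOpenEmbedding h
    rwa [← Set.preimage_comp, φ.self_comp_symm, Set.preimage_id] at this
  · intro h
    exact IsConstructible.preimage_of_isOpenEmbedding φ.isOpenEmbedding h

end top

variable {A : Type (u + 2)} [Category.{u + 1} A]
  [∀ {X Y : Scheme.{u}} (f : X ⟶ Y), (pushA A f).IsRightAdjoint]
  [∀ (Y : Scheme.{u}), HasWeakSheafify Y.smallEtaleTopology A]
  [∀ (Y : Scheme.{u}) (V : Y.Etale), HasWeakSheafify (Y.smallEtaleTopology.over V) A]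
  [∀ (Y : Scheme.{u}) (V : Y.Etale) W, HasLimitsOfShape (StructuredArrow W (toOver V).op) A]
  {P : A → Prop}

/-- Restriction of an adapted stratification to an open subset. -/
theorem StrataA.inter_open {X : Scheme.{u}} {F : Sheaf X.smallEtaleTopology A} {S : Set X}
    (U : X.Opens) (h : StrataA A P F S) : StrataA A P F (S ∩ (U : Set X)) := by
  obtain ⟨ι, hι, T, g, h1, h2, h3, h4, h5⟩ := h
  let g' : ∀ a, ((g a) ⁻¹ᵁ U).toScheme ⟶ X := fun a => ((g a) ⁻¹ᵁ U).ι ≫ g a
  have hr : ∀ a, Set.range (g' a) = Set.range (g a) ∩ (U : Set X) := fun a => by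
    change Set.range (((g a) ⁻¹ᵁ U).ι ≫ g a) = _
    rw [Scheme.Hom.comp_base, TopCat.coe_comp, Set.range_comp, Scheme.Opens.range_ι]
    change (g a) '' ((g a) ⁻¹' (U : Set X)) = _
    rw [Set.image_preimage_eq_inter_range, Set.inter_comm]
  refine ⟨ι, hι, _, g', fun a => inferInstance, fun a => ?_, ?_, ?_, fun a => ?_⟩
  · rw [hr]
    exact (h2 a).inter_open U.isOpen
  · intro a a' hne
    rw [hr, hr]
    exact (h3 hne).mono Set.inter_subset_left Set.inter_subset_left
  · simp_rw [hr]
    rw [← Set.iUnion_inter, h4]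
  · exact IsLC.comp (g a) _ (h5 a)

/-- On a quasi-compact quasi-separated scheme, a sheaf is constructible iff the whole scheme has an
adapted stratification. -/
theorem isConstructibleA_iff_strataA_univ {X : Scheme.{u}} [CompactSpace X] [QuasiSeparatedSpace X]
    (F : Sheaf X.smallEtaleTopology A) :
    IsConstructibleA A P F ↔ StrataA A P F (Set.univ : Set X) := by
  classical
  constructor
  · intro h
    obtain ⟨t, ht⟩ := isCompact_univ.elim_finite_subcover
      (fun V : X.affineOpens => (V.1 : Set X)) (fun V => V.1.isOpen) (fun x _ => by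
        obtain ⟨V, hV, hxV, -⟩ := exists_isAffineOpen_mem_and_subset (U := ⊤) (x := x) (by simp)
        exact Set.mem_iUnion.2 ⟨⟨V, hV⟩, hxV⟩)
    let e : Fin t.card ≃ t := t.equivFin.symm
    refine StrataA.of_finite_open_cover (Set.univ : Set X) (fun l => ((e l).1.1 : Set X))
      (fun l => (e l).1.1.isOpen) (fun l => Set.subset_univ _) (fun l => ?_) ?_
      (fun l => adaptedStrataA_iff_strataA.1 (h (e l).1.1 (e l).1.2))
    · have hoe : IsOpenEmbedding (Subtype.val : ↥(Set.univ : Set X) → X) :=
        isOpen_univ.isOpenEmbedding_subtypeVal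
      exact IsRetrocompact.preimage_of_isOpenEmbedding hoe
        ((e l).1.2.isCompact.isRetrocompact (e l).1.1.isOpen)
    · apply Set.eq_univ_of_univ_subset
      intro x hx
      obtain ⟨V, hV⟩ := Set.mem_iUnion.1 (ht hx)
      obtain ⟨hVt, hxV⟩ := Set.mem_iUnion.1 hV
      refine Set.mem_iUnion.2 ⟨e.symm ⟨V, hVt⟩, ?_⟩
      rw [Equiv.apply_symm_apply]
      exact hxV
  · intro h U hU
    rw [adaptedStrataA_iff_strataA]
    have := h.inter_open U
    rwa [Set.univ_inter] at this

end Groth.Agent.Lib.EtConstr22
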