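import Groth.Agent.Lib.EtConstr22g

/-!
# Constructibility is invariant under isomorphism (helper22)

* `StrataA.of_iso`, `IsConstructibleA.of_iso`;
* `isConstructible_of_iso` (`EtPBC.IsConstructible`), `isConstructibleMod_of_iso`
  (`EtModW.IsConstructible`).
-/

set_option autoImplicit false
set_option linter.style.haveILetI false
set_option linter.unusedSectionVars false
universe u

open CategoryTheory AlgebraicGeometry Limits MorphismProperty Opposite Topology

namespace Groth.Agent.Lib.EtConstr22

open Groth.Agent.Lib.EtOverSite22 Groth.Agent.Lib.EtLocConst22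

variable {A : Type (u + 2)} [Category.{u + 1} A]
  [∀ {X Y : Scheme.{u}} (f : X ⟶ Y), (pushA A f).IsRightAdjoint]
  [∀ (Y : Scheme.{u}), HasWeakSheafify Y.smallEtaleTopology A]
  [∀ (Y : Scheme.{u}) (V : Y.Etale), HasWeakSheafify (Y.smallEtaleTopology.over V) A]
  [∀ (Y : Scheme.{u}) (V : Y.Etale) W, HasLimitsOfShape (StructuredArrow W (toOver V).op) A]
  {P : A → Prop}

theorem StrataA.of_iso {X : Scheme.{u}} {F G : Sheaf X.smallEtaleTopology A} (e : F ≅ G)
    {S : Set X} (h : StrataA A P F S) : StrataA A P G S := by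
  obtain ⟨ι, hι, T, g, h1, h2, h3, h4, h5⟩ := h
  exact ⟨ι, hι, T, g, h1, h2, h3, h4, fun i => (h5 i).of_iso ((pullA A (g i)).mapIso e)⟩

theorem IsConstructibleA.of_iso {X : Scheme.{u}} {F G : Sheaf X.smallEtaleTopology A} (e : F ≅ G)
    (h : IsConstructibleA A P F) : IsConstructibleA A P G := fun U hU =>
  adaptedStrataA_iff_strataA.2 ((adaptedStrataA_iff_strataA.1 (h U hU)).of_iso e)

/-- Constructibility of abelian étale sheaves is invariant under isomorphism. -/
theorem isConstructible_of_iso {X : Scheme.{u}} {F G : EtCoh.Ab X} (e : F ≅ G)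
    (h : EtPBC.IsConstructible F) : EtPBC.IsConstructible G :=
  (isConstructible_iff _).2 (((isConstructible_iff F).1 h).of_iso e)

/-- Constructibility of étale sheaves of modules is invariant under isomorphism. -/
theorem isConstructibleMod_of_iso (Λ : Type (u + 1)) [CommRing Λ] {X : Scheme.{u}}
    {F G : EtModW.Mod Λ X} (e : F ≅ G) (h : EtModW.IsConstructible Λ F) :
    EtModW.IsConstructible Λ G :=
  (isConstructibleMod_iff Λ _).2 (((isConstructibleMod_iff Λ F).1 h).of_iso e)

end Groth.Agent.Lib.EtConstr22
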