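import Groth.Agent.Lib.EtConstr22h
import Groth.Agent.Lib.ConsAtoms22

/-!
# Adapted stratifications from finite constructible covers (helper22)

`StrataA.of_finite_cover`: finitely many immersions `h a : Z a ⟶ X` with constructible ranges
covering `X`, along each of which `F` becomes locally constant, can be refined to an adapted
stratification of `X` (the strata are the atoms of a finite family of retrocompact opens).
-/

set_option autoImplicit false
set_option linter.style.haveILetI false
set_option linter.unusedSectionVars false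
universe u

open CategoryTheory AlgebraicGeometry Limits MorphismProperty Opposite Topology

namespace Groth.Agent.Lib.EtConstr22

open Groth.Agent.Lib.EtOverSite22 Groth.Agent.Lib.EtLocConst22 Groth.Agent.Lib.ConsAtoms22

variable {A : Type (u + 2)} [Category.{u + 1} A]
  [∀ {X Y : Scheme.{u}} (f : X ⟶ Y), (pushA A f).IsRightAdjoint]
  [∀ (Y : Scheme.{u}), HasWeakSheafify Y.smallEtaleTopology A]
  [∀ (Y : Scheme.{u}) (V : Y.Etale), HasWeakSheafify (Y.smallEtaleTopology.over V) A]
  [∀ (Y : Scheme.{u}) (V : Y.Etale) W, HasLimitsOfShape (StructuredArrow W (toOver V).op) A]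
  {P : A → Prop}

/-- A stratum `g : T ⟶ X` can be cut by an open subset `O` of `X`. -/
theorem exists_cut_open {X T : Scheme.{u}} (g : T ⟶ X) [IsImmersion g] (O : Set X) (hO : IsOpen O)
    {F : Sheaf X.smallEtaleTopology A} (hF : IsLC A P ((pullA A g).obj F)) :
    ∃ (Z : Scheme.{u}) (g' : Z ⟶ X), IsImmersion g' ∧ Set.range g' = Set.range g ∩ O ∧
      IsLC A P ((pullA A g').obj F) := by
  let U : X.Opens := ⟨O, hO⟩
  refine ⟨(g ⁻¹ᵁ U).toScheme, (g ⁻¹ᵁ U).ι ≫ g, inferInstance, ?_, IsLC.comp g _ hF⟩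
  rw [Scheme.Hom.comp_base, TopCat.coe_comp, Set.range_comp, Scheme.Opens.range_ι]
  change g '' (g ⁻¹' O) = _
  rw [Set.image_preimage_eq_inter_range, Set.inter_comm]

/-- A stratum can be cut by a locally closed subset `O ∩ C`. -/
theorem exists_cut_open_closed {X T : Scheme.{u}} (g : T ⟶ X) [IsImmersion g] (O C : Set X)
    (hO : IsOpen O) (hC : IsClosed C) {F : Sheaf X.smallEtaleTopology A}
    (hF : IsLC A P ((pullA A g).obj F)) :
    ∃ (Z : Scheme.{u}) (g' : Z ⟶ X), IsImmersion g' ∧ Set.range g' = Set.range g ∩ (O ∩ C) ∧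
      IsLC A P ((pullA A g').obj F) := by
  obtain ⟨Z₁, g₁, h1, h2, h3⟩ := exists_cut_open g O hO hF
  haveI := h1
  obtain ⟨Z₂, g₂, k1, k2, k3⟩ := exists_cut g₁ C hC h3
  refine ⟨Z₂, g₂, k1, ?_, k3⟩
  rw [k2, h2, Set.inter_assoc]

/-- Finitely many immersions with constructible ranges covering `X`, along which `F` is locally
constant, give an adapted stratification of `X`. -/
theorem StrataA.of_finite_cover {X : Scheme.{u}} {F : Sheaf X.smallEtaleTopology A}
    {κ : Type*} [Finite κ] (Z : κ → Scheme.{u}) (h : ∀ a, Z a ⟶ X) (himm : ∀ a, IsImmersion (h a))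
    (hc : ∀ a, IsConstructible (Set.range (h a)))
    (hcov : (⋃ a, Set.range (h a)) = Set.univ)
    (hF : ∀ a, IsLC A P ((pullA A (h a)).obj F)) : StrataA A P F (Set.univ : Set X) := by
  classical
  obtain ⟨𝒰, h𝒰, hm⟩ := exists_family_finite (fun a => Set.range (h a)) hc
  let I : Type u := ↥(Set.range (atom 𝒰 : X → Set X))
  haveI : Finite I := (finite_range_atom 𝒰).to_subtype
  let e : I ≃ Fin (Nat.card I) := Finite.equivFin I
  have hrep : ∀ a : I, ∃ x : X, atom 𝒰 x = a.1 := fun a => a.2
  choose rep hrep' using hrep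
  have hk : ∀ a : I, ∃ k : κ, rep a ∈ Set.range (h k) := fun a => by
    have : rep a ∈ ⋃ k, Set.range (h k) := by rw [hcov]; trivial
    exact Set.mem_iUnion.1 this
  choose k hk' using hk
  have hsub : ∀ a : I, a.1 ⊆ Set.range (h (k a)) := fun a => by
    rw [← hrep' a]
    exact (hm (k a)).atom_subset (hk' a)
  have hcut := fun a : I =>
    @exists_cut_open_closed A _ _ _ _ _ P X (Z (k a)) (h (k a)) (himm (k a))
      (atomO 𝒰 (rep a)) (atomC 𝒰 (rep a)) (isOpen_atomO h𝒰 (rep a)) (isClosed_atomC h𝒰 (rep a))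
      F (hF (k a))
  choose Z' g' hg1 hg2 hg3 using hcut
  have hrange : ∀ a : I, Set.range (g' a) = a.1 := fun a => by
    rw [hg2 a, ← atom_eq_inter, hrep' a]
    exact Set.inter_eq_right.2 (hsub a)
  refine ⟨Fin (Nat.card I), inferInstance, fun j => Z' (e.symm j), fun j => g' (e.symm j),
    fun j => hg1 _, fun j => ?_, ?_, ?_, fun j => hg3 _⟩
  · rw [hrange, consIn_univ_iff, ← hrep']
    exact isConstructible_atom h𝒰 _
  · intro j j' hne
    change Disjoint (Set.range (g' (e.symm j))) (Set.range (g' (e.symm j')))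
    rw [hrange, hrange, ← hrep', ← hrep']
    rcases atom_disjoint_or_eq 𝒰 (rep (e.symm j)) (rep (e.symm j')) with heq | hd
    · exfalso
      apply hne
      have : (e.symm j).1 = (e.symm j').1 := by rw [← hrep', ← hrep', heq]
      exact e.symm.injective (Subtype.ext this)
    · exact hd
  · apply Set.eq_univ_of_forall
    intro x
    let a : I := ⟨atom 𝒰 x, x, rfl⟩
    refine Set.mem_iUnion.2 ⟨e a, ?_⟩
    change x ∈ Set.range (g' (e.symm (e a)))
    rw [Equiv.symm_apply_apply, hrange]
    exact mem_atom_self 𝒰 x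

end Groth.Agent.Lib.EtConstr22
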