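import Groth.Agent.Lib.EtConstr22i
import Groth.Agent.Lib.ConsTrans22

/-!
# Constructibility can be checked on a constructible locally closed cover (helper22)

`IsConstructibleA.of_constructible_cover`: on a quasi-compact quasi-separated scheme `X`, if
`g i : T i ⟶ X` are immersions with constructible ranges covering `X` and each `(g i)⁻¹ F` is
constructible, then `F` is constructible.
-/

set_option autoImplicit false
set_option linter.style.haveILetI false
set_option linter.unusedSectionVars false
universe u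

open CategoryTheory AlgebraicGeometry Limits MorphismProperty Opposite Topology

namespace Groth.Agent.Lib.EtConstr22

open Groth.Agent.Lib.EtOverSite22 Groth.Agent.Lib.EtLocConst22 Groth.Agent.Lib.ConsAtoms22

variable {A : Type (u + 2)} [Category.{u + 1} A]
  [∀ {X Y : Scheme.{u}} (f : X ⟶ Y), (pushA A f).IsRightAdjoint]
  [∀ (Y : Scheme.{u}), HasWeakSheafify Y.smallEtaleTopology A]
  [∀ (Y : Scheme.{u}) (V : Y.Etale), HasWeakSheafify (Y.smallEtaleTopology.over V) A]
  [∀ (Y : Scheme.{u}) (V : Y.Etale) W, HasLimitsOfShape (StructuredArrow W (toOver V).op) A]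
  {P : A → Prop}

/-- Through every point of a constructible locally closed piece on which `F` is constructible
passes a constructible stratum on which `F` is locally constant. -/
theorem exists_stratum_through {X T : Scheme.{u}} [QuasiSeparatedSpace X] (g : T ⟶ X)
    [IsImmersion g] (hc : IsConstructible (Set.range g)) {F : Sheaf X.smallEtaleTopology A}
    (hF : IsConstructibleA A P ((pullA A g).obj F)) (t : T) :
    ∃ (Z : Scheme.{u}) (h : Z ⟶ X), IsImmersion h ∧ IsConstructible (Set.range h) ∧
      g t ∈ Set.range h ∧ IsLC A P ((pullA A h).obj F) := by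
  obtain ⟨W, hW, htW, -⟩ := exists_isAffineOpen_mem_and_subset (U := (⊤ : T.Opens)) (x := t)
    (by simp)
  obtain ⟨n, T', g', h1, h2, h3, h4, h5⟩ := hF W hW
  have htU : t ∈ ⋃ k, Set.range (g' k) := by rw [h4]; exact htW
  obtain ⟨k, t', ht'⟩ := Set.mem_iUnion.1 htU
  haveI := h1 k
  have hsub : Set.range (g' k) ⊆ (W : Set T) := by
    rw [← h4]
    exact Set.subset_iUnion (fun k => Set.range (g' k)) k
  have hr : Set.range (g' k ≫ g) = g '' Set.range (g' k) := by
    rw [Scheme.Hom.comp_base, TopCat.coe_comp, Set.range_comp]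
  refine ⟨T' k, g' k ≫ g, inferInstance, ?_, ?_, ?_⟩
  · rw [hr]
    exact isConstructible_image_of_consIn g.isEmbedding hc W.isOpen hW.isCompact hsub (h2 k)
  · rw [hr]
    exact ⟨t, ⟨t', ht'⟩, rfl⟩
  · exact (h5 k).of_iso ((pullCompA A (g' k) g).app F).symm

/-- Constructibility can be checked on a cover by constructible locally closed pieces. -/
theorem IsConstructibleA.of_constructible_cover {X : Scheme.{u}} [CompactSpace X]
    [QuasiSeparatedSpace X] {F : Sheaf X.smallEtaleTopology A} {ι : Type*}
    (T : ι → Scheme.{u}) (g : ∀ i, T i ⟶ X) [∀ i, IsImmersion (g i)]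
    (hc : ∀ i, IsConstructible (Set.range (g i)))
    (hcov : (⋃ i, Set.range (g i)) = Set.univ)
    (h : ∀ i, IsConstructibleA A P ((pullA A (g i)).obj F)) : IsConstructibleA A P F := by
  have hx : ∀ x : X, ∃ (Z : Scheme.{u}) (k : Z ⟶ X), IsImmersion k ∧
      IsConstructible (Set.range k) ∧ x ∈ Set.range k ∧ IsLC A P ((pullA A k).obj F) := by
    intro x
    have : x ∈ ⋃ i, Set.range (g i) := by rw [hcov]; trivial
    obtain ⟨i, t, rfl⟩ := Set.mem_iUnion.1 this
    exact exists_stratum_through (g i) (hc i) (h i) t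
  choose Z k hk1 hk2 hk3 hk4 using hx
  obtain ⟨s, hs⟩ := exists_finite_subcover_of_isConstructible
    (fun x : X => Set.range (k x)) hk2 (fun x => ⟨x, hk3 x⟩)
  rw [isConstructibleA_iff_strataA_univ]
  refine StrataA.of_finite_cover (κ := ↥s) (fun a => Z a.1) (fun a => k a.1) (fun a => hk1 a.1)
    (fun a => hk2 a.1) ?_ (fun a => hk4 a.1)
  apply Set.eq_univ_of_forall
  intro x
  obtain ⟨y, hy, hxy⟩ := hs x
  exact Set.mem_iUnion.2 ⟨⟨y, hy⟩, hxy⟩

end Groth.Agent.Lib.EtConstr22
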