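import Groth.Agent.Lib.EtConstr22j
import Mathlib.AlgebraicGeometry.Noetherian

/-!
# Constructibility from locally closed covers, Noetherian case (helper22)

* `IsConstructibleA.of_lc_cover`: on a qcqs scheme, a cover by immersions with constructible
  ranges along which `F` is locally constant makes `F` constructible;
* `isConstructible_of_isLocallyClosed`: in a Noetherian space locally closed sets are
  constructible;
* `isConstructibleA_iff_closure_nhds`: on a locally Noetherian scheme, `F` is constructible iff
  every point `x` has an open neighbourhood `V` such that `F` is locally constant along an immersion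
  with range `V ∩ closure {x}`.
-/

set_option autoImplicit false
set_option linter.style.haveILetI false
set_option linter.unusedSectionVars false
universe u

open CategoryTheory AlgebraicGeometry Limits MorphismProperty Opposite Topology

namespace Groth.Agent.Lib.EtConstr22

open Groth.Agent.Lib.EtOverSite22 Groth.Agent.Lib.EtLocConst22 Groth.Agent.Lib.ConsAtoms22

theorem isConstructible_of_isLocallyClosed {X : Type*} [TopologicalSpace X] [TopologicalSpace.NoetherianSpace X]
    {s : Set X} (hs : IsLocallyClosed s) : IsConstructible s := by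
  obtain ⟨O, C, hO, hC, rfl⟩ := hs
  have hr : ∀ V : Set X, IsOpen V → IsConstructible V := fun V hV =>
    IsRetrocompact.isConstructible hV (fun K _ _ => TopologicalSpace.NoetherianSpace.isCompact _)
  exact (hr O hO).inter (hr Cᶜ hC.isOpen_compl).of_compl

variable {A : Type (u + 2)} [Category.{u + 1} A]
  [∀ {X Y : Scheme.{u}} (f : X ⟶ Y), (pushA A f).IsRightAdjoint]
  [∀ (Y : Scheme.{u}), HasWeakSheafify Y.smallEtaleTopology A]
  [∀ (Y : Scheme.{u}) (V : Y.Etale), HasWeakSheafify (Y.smallEtaleTopology.over V) A]
  [∀ (Y : Scheme.{u}) (V : Y.Etale) W, HasLimitsOfShape (StructuredArrow W (toOver V).op) A]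
  {P : A → Prop}

/-- A cover by constructible locally closed pieces along which `F` is locally constant makes `F`
constructible. -/
theorem IsConstructibleA.of_lc_cover {X : Scheme.{u}} [CompactSpace X]
    [QuasiSeparatedSpace X] {F : Sheaf X.smallEtaleTopology A} {ι : Type*}
    (T : ι → Scheme.{u}) (g : ∀ i, T i ⟶ X) (hi : ∀ i, IsImmersion (g i))
    (hc : ∀ i, IsConstructible (Set.range (g i)))
    (hcov : ∀ x : X, ∃ i, x ∈ Set.range (g i))
    (h : ∀ i, IsLC A P ((pullA A (g i)).obj F)) : IsConstructibleA A P F := by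
  obtain ⟨s, hs⟩ := exists_finite_subcover_of_isConstructible
    (fun i => Set.range (g i)) hc hcov
  rw [isConstructibleA_iff_strataA_univ]
  refine StrataA.of_finite_cover (κ := ↥s) (fun a => T a.1) (fun a => g a.1) (fun a => hi a.1)
    (fun a => hc a.1) ?_ (fun a => h a.1)
  apply Set.eq_univ_of_forall
  intro x
  obtain ⟨y, hy, hxy⟩ := hs x
  exact Set.mem_iUnion.2 ⟨⟨y, hy⟩, hxy⟩

/-- Constructibility on locally Noetherian schemes via open parts of closures of points. -/
theorem isConstructibleA_iff_closure_nhds {X : Scheme.{u}} [IsLocallyNoetherian X]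
    (F : Sheaf X.smallEtaleTopology A) :
    IsConstructibleA A P F ↔
      ∀ x : X, ∃ (V : X.Opens) (T : Scheme.{u}) (g : T ⟶ X), IsImmersion g ∧ x ∈ V ∧
        Set.range g = (V : Set X) ∩ closure {x} ∧ IsLC A P ((pullA A g).obj F) := by
  constructor
  · intro hF x
    obtain ⟨U, hU, hxU, -⟩ := exists_isAffineOpen_mem_and_subset (U := (⊤ : X.Opens)) (x := x)
      (by simp)
    obtain ⟨n, T, g, h1, h2, h3, h4, h5⟩ := hF U hU
    have hx : x ∈ ⋃ k, Set.range (g k) := by rw [h4]; exact hxU
    obtain ⟨k, hk⟩ := Set.mem_iUnion.1 hx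
    haveI := h1 k
    obtain ⟨O, C, hO, hC, hOC⟩ := (g k).isLocallyClosed_range
    have hxOC : x ∈ O ∩ C := hOC ▸ hk
    let V : X.Opens := ⟨O, hO⟩ ⊓ U
    have hsub : (V : Set X) ∩ closure {x} ⊆ Set.range (g k) := by
      intro y hy
      rw [hOC]
      exact ⟨hy.1.1, closure_minimal (Set.singleton_subset_iff.2 hxOC.2) hC hy.2⟩
    obtain ⟨Z, g', hg1, hg2, hg3⟩ := exists_cut_open_closed (g k) (V : Set X) (closure {x})
      V.isOpen isClosed_closure (h5 k)
    refine ⟨V, Z, g', hg1, ⟨hxOC.1, hxU⟩, ?_, hg3⟩
    rw [hg2]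
    exact Set.inter_eq_right.2 hsub
  · intro h U hU
    rw [adaptedStrataA_iff_strataA]
    haveI : CompactSpace U.toScheme := isCompact_iff_compactSpace.1 hU.isCompact
    haveI : IsNoetherianRing Γ(X, U) := IsLocallyNoetherian.component_noetherian ⟨U, hU⟩
    haveI : TopologicalSpace.NoetherianSpace U.toScheme := noetherianSpace_of_isAffineOpen U hU
    choose V T g hg1 hg2 hg3 hg4 using h
    let FU := (pullA A U.ι).obj F
    have hFU : IsConstructibleA A P FU := by
      refine IsConstructibleA.of_lc_cover (X := U.toScheme) (ι := ↥U)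
        (fun u => pullback (g (U.ι u)) U.ι) (fun u => pullback.snd (g (U.ι u)) U.ι)
        (fun u => by haveI := hg1 (U.ι u); infer_instance) (fun u => ?_) (fun u => ?_) (fun u => ?_)
      · haveI := hg1 (U.ι u)
        exact isConstructible_of_isLocallyClosed
          (pullback.snd (g (U.ι u)) U.ι).isLocallyClosed_range
      · refine ⟨u, ?_⟩
        rw [Scheme.Pullback.range_snd, Set.mem_preimage, hg3]
        exact ⟨hg2 (U.ι u), subset_closure rfl⟩
      · have hcond : pullback.snd (g (U.ι u)) U.ι ≫ U.ι =
            pullback.fst (g (U.ι u)) U.ι ≫ g (U.ι u) := pullback.condition.symm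
        exact (IsLC.comp (g (U.ι u)) (pullback.fst (g (U.ι u)) U.ι) (hg4 (U.ι u))).of_iso
          ((pullCongrA A hcond).symm.app F ≪≫ (pullCompA A _ U.ι).app F)
    have hS : StrataA A P FU (Set.univ : Set ↥U) := (isConstructibleA_iff_strataA_univ FU).1 hFU
    have hfin := StrataA.of_openImmersion U.ι (Set.univ : Set ↥U) hS
    have e : (U.ι '' (Set.univ : Set ↥U) : Set X) = (U : Set X) :=
      Set.image_univ.trans (Scheme.Opens.range_ι U)
    exact e ▸ hfin

end Groth.Agent.Lib.EtConstr22
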