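import Groth.Agent.Lib.EtCutTop22
import Groth.Agent.Lib.H69RedInduced
import Mathlib.AlgebraicGeometry.Morphisms.Immersion

/-!
# Lifting through immersions from reduced schemes; reduced locally closed subschemes (helper22)

* `exists_lift_of_isReduced`: a morphism from a reduced scheme whose range lies in the range of an
  immersion `k` factors through `k`;
* `exists_reduced_immersion`: a reduced scheme structure on `C ∩ O` (`C` closed, `O` open).
-/

set_option autoImplicit false
set_option linter.style.haveILetI false
universe u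

open CategoryTheory CategoryTheory.Limits AlgebraicGeometry Topology TopologicalSpace

namespace Groth.Agent.Lib.EtConstrEtLocal22

/-- Étale morphisms are locally quasi-finite (copied from helper59/helper91). -/
theorem locallyQuasiFinite_of_etale {X Y : Scheme.{u}} (f : X ⟶ Y) [Etale f] :
    LocallyQuasiFinite f where
  quasiFinite_appLE {U} hU {V} hV e := by
    have h := f.etale_appLE hU hV e
    algebraize [(f.appLE U V e).hom]
    rw [RingHom.QuasiFinite]
    infer_instance

theorem exists_lift_of_isReduced {Z V T : Scheme.{u}} [IsReduced Z] (a : Z ⟶ V) (k : T ⟶ V)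
    [IsImmersion k] (h : Set.range a ⊆ Set.range k) : ∃ l : Z ⟶ T, l ≫ k = a := by
  let p := pullback.fst a k
  have hsurj : Function.Surjective p := by
    intro z
    obtain ⟨t, ht⟩ := h ⟨z, rfl⟩
    obtain ⟨w, hw1, -⟩ := Scheme.Pullback.exists_preimage_pullback (f := a) (g := k) z t ht.symm
    exact ⟨w, hw1⟩
  haveI : Surjective p := ⟨hsurj⟩
  haveI : IsClosedImmersion p := by
    apply IsClosedImmersion.of_isPreimmersion
    rw [hsurj.range_eq]
    exact isClosed_univ
  haveI : IsIso p := isIso_of_isClosedImmersion_of_surjective p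
  refine ⟨inv p ≫ pullback.snd a k, ?_⟩
  rw [Category.assoc, ← pullback.condition, IsIso.inv_hom_id_assoc]

open Groth.Agent.Lib.H69RedInduced in
theorem exists_reduced_immersion {Y : Scheme.{u}} (C O : Set Y) (hC : IsClosed C) (hO : IsOpen O) :
    ∃ (T : Scheme.{u}) (h : T ⟶ Y), IsReduced T ∧ IsImmersion h ∧ Set.range h = C ∩ O := by
  let W : Closeds Y := ⟨C, hC⟩
  let U : Y.Opens := ⟨O, hO⟩
  let U' : (redSub W).Opens := redSubι W ⁻¹ᵁ U
  refine ⟨U', U'.ι ≫ redSubι W, inferInstance, inferInstance, ?_⟩
  rw [Scheme.Hom.comp_base, TopCat.coe_comp, Set.range_comp, Scheme.Opens.range_ι]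
  change redSubι W '' (redSubι W ⁻¹' O) = _
  rw [Set.image_preimage_eq_inter_range, range_redSubι, Set.inter_comm]
  rfl

end Groth.Agent.Lib.EtConstrEtLocal22
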