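import Groth.Agent.Lib.EtConstrEtLocal22a
import Groth.Agent.Lib.EtConstr22k

/-!
# Constructibility is étale local (helper22)

* `exists_lc_stratum_of_etale`: if `π⁻¹ G` is constructible for an étale `π : V ⟶ Y` with `V` qcqs,
  then every point of `π(V)` lies in a constructible locally closed stratum of `Y` along which `G` is
  locally constant;
* `IsConstructibleA.of_etale_local`: on a qcqs scheme, constructibility can be checked étale locally.
-/

set_option autoImplicit false
set_option linter.style.haveILetI false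
set_option linter.unusedSectionVars false
universe u

open CategoryTheory CategoryTheory.Limits AlgebraicGeometry MorphismProperty Opposite Topology

namespace Groth.Agent.Lib.EtConstr22

open Groth.Agent.Lib.EtOverSite22 Groth.Agent.Lib.EtLocConst22 Groth.Agent.Lib.ConsAtoms22
  Groth.Agent.Lib.EtCutTop22 Groth.Agent.Lib.EtConstrEtLocal22

variable {A : Type (u + 2)} [Category.{u + 1} A]
  [∀ {X Y : Scheme.{u}} (f : X ⟶ Y), (pushA A f).IsRightAdjoint]
  [∀ (Y : Scheme.{u}), HasWeakSheafify Y.smallEtaleTopology A]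
  [∀ (Y : Scheme.{u}) (V : Y.Etale), HasWeakSheafify (Y.smallEtaleTopology.over V) A]
  [∀ (Y : Scheme.{u}) (V : Y.Etale) W, HasLimitsOfShape (StructuredArrow W (toOver V).op) A]
  {P : A → Prop}

theorem exists_lc_stratum_of_etale {Y V : Scheme.{u}} [QuasiSeparatedSpace Y] (π : V ⟶ Y) [Etale π]
    [CompactSpace V] [QuasiSeparatedSpace V] {G : Sheaf Y.smallEtaleTopology A}
    (hG : IsConstructibleA A P ((pullA A π).obj G)) (v : V) :
    ∃ (T : Scheme.{u}) (h : T ⟶ Y), IsImmersion h ∧ IsConstructible (Set.range h) ∧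
      π v ∈ Set.range h ∧ IsLC A P ((pullA A h).obj G) := by
  obtain ⟨ι, hι, T', k, h1, h2, h3, h4, h5⟩ := (isConstructibleA_iff_strataA_univ _).1 hG
  have hv : v ∈ ⋃ i, Set.range (k i) := by rw [h4]; trivial
  obtain ⟨i, hvi⟩ := Set.mem_iUnion.1 hv
  haveI := h1 i
  have hE : IsConstructible (Set.range (k i)) := consIn_univ_iff.1 (h2 i)
  haveI : LocallyQuasiFinite π := locallyQuasiFinite_of_etale π
  obtain ⟨O, C, hO1, hO2, hvO, hC1, hC2, hvC, hsub⟩ := exists_open_closed_cut π hE hvi
  have hπO1 : IsOpen (π '' O) := π.isOpenMap O hO1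
  have hπO2 : IsCompact (π '' O) := hO2.image π.continuous
  obtain ⟨T, h, hred, himm, hrange⟩ := exists_reduced_immersion C (π '' O) hC1 hπO1
  haveI := hred
  haveI := himm
  refine ⟨T, h, himm, ?_, ?_, ?_⟩
  · rw [hrange]
    have hCc : IsConstructible C := by
      have := (hC2.isConstructible hC1.isOpen_compl).compl
      rwa [compl_compl] at this
    exact hCc.inter (hπO2.isConstructible hπO1)
  · rw [hrange]
    exact ⟨hvC, v, hvO, rfl⟩
  · let pr₁ := pullback.fst π h
    let pr₂ := pullback.snd π h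
    let Uo : (pullback π h).Opens := pr₁ ⁻¹ᵁ ⟨O, hO1⟩
    let j : (Uo : Scheme.{u}) ⟶ T := Uo.ι ≫ pr₂
    haveI : Etale j := inferInstance
    let J : T.Etale := Scheme.Etale.mk j
    have hcov : EtCoh.Covers (fun _ : PUnit.{u + 1} => J) := by
      intro t
      have ht : h t ∈ C ∩ π '' O := by rw [← hrange]; exact ⟨t, rfl⟩
      obtain ⟨o, hoO, ho⟩ := ht.2
      obtain ⟨w, hw1, hw2⟩ := Scheme.Pullback.exists_preimage_pullback (f := π) (g := h) o t ho
      have hwU : w ∈ Uo := by
        show pr₁ w ∈ O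
        rw [hw1]; exact hoO
      refine ⟨PUnit.unit, ⟨w, hwU⟩, ?_⟩
      show pr₂ (Uo.ι ⟨w, hwU⟩) = t
      exact hw2
    refine IsLC.of_cover (fun _ : PUnit.{u + 1} => J) hcov fun _ => ?_
    haveI : IsReduced (pullback π h) := Groth.Agent.Lib.H69SchReduced.isReduced_of_smooth pr₂
    let a : (Uo : Scheme.{u}) ⟶ V := Uo.ι ≫ pr₁
    have ha : Set.range a ⊆ Set.range (k i) := by
      rintro _ ⟨z, rfl⟩
      apply hsub
      refine ⟨z.2, ?_⟩
      show π (pr₁ (Uo.ι z)) ∈ C
      have hc : π (pr₁ (Uo.ι z)) = h (pr₂ (Uo.ι z)) := by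
        have := congrArg (fun f : pullback π h ⟶ Y => f (Uo.ι z))
          (pullback.condition (f := π) (g := h))
        simpa only [Scheme.Hom.comp_apply] using this
      rw [hc]
      have : h (pr₂ (Uo.ι z)) ∈ Set.range h := ⟨_, rfl⟩
      rw [hrange] at this
      exact this.1
    obtain ⟨l, hl⟩ := exists_lift_of_isReduced a (k i) ha
    have heq : l ≫ (k i ≫ π) = j ≫ h := by
      rw [← Category.assoc, hl]
      show (Uo.ι ≫ pr₁) ≫ π = (Uo.ι ≫ pr₂) ≫ h
      rw [Category.assoc, Category.assoc, pullback.condition]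
    have s1 : IsLC A P ((pullA A (k i ≫ π)).obj G) :=
      (h5 i).of_iso ((pullCompA A (k i) π).app G).symm
    have s2 : IsLC A P ((pullA A (l ≫ (k i ≫ π))).obj G) := IsLC.comp (k i ≫ π) l s1
    have s3 : IsLC A P ((pullA A (j ≫ h)).obj G) := s2.of_iso ((pullCongrA A heq).app G)
    exact s3.of_iso ((pullCompA A j h).app G)

/-- On a quasi-compact quasi-separated scheme, constructibility can be checked étale locally. -/
theorem IsConstructibleA.of_etale_local {Y : Scheme.{u}} [CompactSpace Y] [QuasiSeparatedSpace Y]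
    {G : Sheaf Y.smallEtaleTopology A}
    (h : ∀ y : Y, ∃ (V : Scheme.{u}) (π : V ⟶ Y) (v : V), Etale π ∧ CompactSpace V ∧
      QuasiSeparatedSpace V ∧ π v = y ∧ IsConstructibleA A P ((pullA A π).obj G)) :
    IsConstructibleA A P G := by
  have h' : ∀ y : Y, ∃ (T : Scheme.{u}) (g : T ⟶ Y), IsImmersion g ∧
      IsConstructible (Set.range g) ∧ y ∈ Set.range g ∧ IsLC A P ((pullA A g).obj G) := by
    intro y
    obtain ⟨V, π, v, h1, h2, h3, rfl, h5⟩ := h y
    haveI := h1
    haveI := h2
    haveI := h3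
    exact exists_lc_stratum_of_etale π h5 v
  choose T g hi hc hy hlc using h'
  exact IsConstructibleA.of_lc_cover T g hi hc (fun y => ⟨y, hy y⟩) hlc

end Groth.Agent.Lib.EtConstr22
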