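import Groth.Agent.Lib.ModSubLC22c
import Groth.Prelude.Def_WeakSerre

/-!
# Constructible sheaves of modules form a weak Serre subcategory (helper22)

For a Noetherian ring `Λ` and an arbitrary scheme `X`:
* `isConstructibleMod_of_isZero`: a zero sheaf of modules is constructible;
* `isWeakSerre_isConstructibleMod`: `EtModW.IsConstructible Λ` is a weak Serre class in
  `EtModW.Mod Λ X`.
-/

set_option autoImplicit false
set_option linter.style.haveILetI false
universe u

open CategoryTheory AlgebraicGeometry Limits MorphismProperty Opposite Topology ZeroObject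

namespace Groth.Agent.Lib.EtConstrSerre22

open Groth.Agent.Lib.ModSubLC22 Groth.Agent.Lib.EtConstr22

variable (Λ : Type (u + 1)) [CommRing Λ]

instance {C : Type*} [Category* C] (J : GrothendieckTopology C) (A : Type*) [Category* A]
    [Preadditive A] (V : C) : (J.overPullback A V).PreservesZeroMorphisms where

theorem isZero_restr {X : Scheme.{u}} (F : EtModW.Mod Λ X) (hF : IsZero F) (V : X.Etale) :
    IsZero (EtModW.restr Λ F V) :=
  (X.smallEtaleTopology.overPullback (ModuleCat.{u + 1} Λ) V).map_isZero hF

/-- A zero sheaf of modules is finite type locally constant. -/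
theorem isFTLC_of_isZero {X : Scheme.{u}} (F : EtModW.Mod Λ X) (hF : IsZero F) :
    EtModW.IsFTLocConst Λ F := by
  refine ⟨PUnit.{u + 1}, fun _ => EtCoh.top X, fun x => ⟨PUnit.unit, x, rfl⟩, fun _ => ?_⟩
  refine ⟨PUnit.{u + 2}, inferInstance, inferInstance, inferInstance, ⟨?_⟩⟩
  have h1 := isZero_restr Λ F hF (EtCoh.top X)
  have h2 : IsZero ((constantSheaf (X.smallEtaleTopology.over (EtCoh.top X))
      (ModuleCat.{u + 1} Λ)).obj (ModuleCat.of Λ PUnit.{u + 2})) :=
    Functor.map_isZero _ (ModuleCat.isZero_of_subsingleton _)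
  exact h1.iso h2

variable [IsNoetherianRing Λ]

omit [IsNoetherianRing Λ] in
/-- A zero sheaf of modules is constructible. -/
theorem isConstructibleMod_of_isZero {X : Scheme.{u}} (F : EtModW.Mod Λ X) (hF : IsZero F) :
    EtModW.IsConstructible Λ F := by
  intro U hU
  refine ⟨1, fun _ => U.toScheme, fun _ => U.ι, fun _ => inferInstance, fun _ => ?_,
    Subsingleton.pairwise, ?_, fun _ => ?_⟩
  · have : (Subtype.val : ((U : Set X) : Type u) → X) ⁻¹' Set.range U.ι = Set.univ := by
      rw [Scheme.Opens.range_ι]
      ext x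
      simp
    rw [this]
    exact IsConstructible.univ
  · rw [Set.iUnion_const, Scheme.Opens.range_ι]
  · apply isFTLC_of_isZero
    haveI : (EtModW.pull Λ U.ι).Additive := additive_pullAM (Λ := Λ) U.ι
    exact Functor.map_isZero _ hF

instance isWeakSerre_isConstructibleMod (X : Scheme.{u}) :
    WSerre.IsWeakSerre (fun E : EtModW.Mod Λ X => EtModW.IsConstructible Λ E) where
  exists_zero := ⟨0, isZero_zero _, isConstructibleMod_of_isZero Λ _ (isZero_zero _)⟩
  kernels_le := by
    rintro _ ⟨f, k, hk, hX, hY⟩
    exact isConstructibleMod_of_iso Λ (IsLimit.conePointUniqueUpToIso (kernelIsKernel f) hk)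
      (isConstructibleMod_ker_coker f hX hY).1
  cokernels_le := by
    rintro _ ⟨f, k, hk, hX, hY⟩
    exact isConstructibleMod_of_iso Λ
      (IsColimit.coconePointUniqueUpToIso (cokernelIsCokernel f) hk)
      (isConstructibleMod_ker_coker f hX hY).2
  prop_X₂_of_shortExact := fun hS h₁ h₃ => isConstructibleMod_of_ext _ hS h₁ h₃

end Groth.Agent.Lib.EtConstrSerre22
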