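import Groth.Prelude.Def_EtCore
import Mathlib.AlgebraicGeometry.Morphisms.UniversallyOpen

/-!
# Coproducts in the small etale site are jointly surjective (helper49)
-/

set_option autoImplicit false
universe u
open CategoryTheory CategoryTheory.Limits AlgebraicGeometry Opposite

namespace Groth.Agent.Lib.EtCoprod

/-- An open of the total space of a colimit cofan in `X.Etale` containing the images of all structure maps is
everything. -/
theorem opens_eq_top_of_isColimit {X : Scheme.{u}} {W : X.Etale} {ι : Type*}
    (Z : ι → X.Etale) (f : ∀ i, Z i ⟶ W) (hc : IsColimit (Cofan.mk W f)) (O : W.left.Opens)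
    (hsub : ∀ i, Set.range (f i).left.base ⊆ Set.range O.ι.base) (w : W.left) : w ∈ O := by
  let W' : X.Etale := Scheme.Etale.mk (O.ι ≫ W.hom)
  let J : W' ⟶ W := MorphismProperty.Over.homMk O.ι rfl
  let l : ∀ i, (Z i).left ⟶ (O : Scheme) := fun i => IsOpenImmersion.lift O.ι (f i).left (hsub i)
  have hl : ∀ i, l i ≫ O.ι = (f i).left := fun i => IsOpenImmersion.lift_fac _ _ _
  let κ : ∀ i, Z i ⟶ W' := fun i =>
    MorphismProperty.Over.homMk (l i) (by
      change l i ≫ O.ι ≫ W.hom = (Z i).hom
      rw [← Category.assoc, hl]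
      exact Over.w (f i).hom)
  have hκ : ∀ i, κ i ≫ J = f i := by
    intro i
    apply MorphismProperty.Over.Hom.ext
    exact hl i
  let d : W ⟶ W' := Cofan.IsColimit.desc hc κ
  have hd : ∀ i, f i ≫ d = κ i := fun i => Cofan.IsColimit.fac hc κ i
  have hdJ : d ≫ J = 𝟙 W := by
    apply Cofan.IsColimit.hom_ext hc
    intro i
    change f i ≫ d ≫ J = f i ≫ 𝟙 W
    rw [← Category.assoc, hd, hκ, Category.comp_id]
  have h1 : (d ≫ J).left.base w = w := by rw [hdJ]; rfl
  have h2 : (d ≫ J).left.base w = O.ι.base (d.left.base w) := rfl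
  rw [← h1, h2]
  exact (d.left.base w).2

/-- The structure maps of a colimit cofan in `X.Etale` are jointly surjective on points. -/
theorem iUnion_range_eq_univ_of_isColimit {X : Scheme.{u}} {W : X.Etale} {ι : Type*}
    (Z : ι → X.Etale) (f : ∀ i, Z i ⟶ W) (hc : IsColimit (Cofan.mk W f)) :
    ⋃ i, Set.range (f i).left.base = Set.univ := by
  let O : W.left.Opens := ⟨⋃ i, Set.range (f i).left.base,
    isOpen_iUnion fun i => (f i).left.isOpenMap.isOpen_range⟩
  apply Set.eq_univ_of_forall
  intro w
  exact opens_eq_top_of_isColimit Z f hc O (fun i => by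
    rw [Scheme.Opens.range_ι]
    exact Set.subset_iUnion (fun i => Set.range (f i).left.base) i) w

end Groth.Agent.Lib.EtCoprod
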