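import Groth.Agent.Lib.ExtAdj
import Groth.Agent.Lib.EtPushEpi39
import Groth.Agent.S0101
import Groth.Prelude.Def_EtCore

/-!
# Cohomology and exact direct images (helper39)

If `f_*` is exact on abelian etale sheaves (e.g. `f` integral) then
`H^n(X, F) ≃+ H^n(Y, f_* F)` (degenerate Leray spectral sequence).
-/

set_option autoImplicit false
universe u
open CategoryTheory CategoryTheory.Limits AlgebraicGeometry Opposite

namespace Groth.Agent.Lib.EtHExactPush39

variable {X Y : Scheme.{u}}

instance push_preservesInjectiveObjects (f : X ⟶ Y) :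
    (EtCoh.push f).PreservesInjectiveObjects := by
  have : PreservesFiniteLimits (EtCoh.pull f) := Groth.Agent.S0101.result f
  have : (EtCoh.pull f).PreservesMonomorphisms := inferInstance
  exact Functor.preservesInjectiveObjects_of_adjunction_of_preservesMonomorphisms
    (EtCoh.pullPushAdj f)

/-- Ext groups are invariant under isomorphism in the first variable. -/
noncomputable def extAddEquivOfIso {A : Type*} [Category A] [Abelian A] [HasExt.{u+1} A]
    {X X' : A} (e : X ≅ X') (Y : A) (n : ℕ) :
    Abelian.Ext.{u+1} X' Y n ≃+ Abelian.Ext.{u+1} X Y n :=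
  (((Abelian.extFunctor n).mapIso e.op).app Y).addCommGroupIsoToAddEquiv

/-- if `f_*` is exact then `H^n(X, F) ≃+ H^n(Y, f_* F)`. -/
theorem nonempty_H_push_addEquiv (f : X ⟶ Y) [PreservesFiniteColimits (EtCoh.push f)]
    (F : EtCoh.Ab X) (n : ℕ) :
    Nonempty (EtCoh.H X F n ≃+ EtCoh.H Y ((EtCoh.push f).obj F) n) := by
  have e1 := extAddEquivOfIso (EtCore.pullConst f ℤ) F n
  have e2 := Groth.Agent.Lib.ExtAdj.extAdjEquiv.{u+1, u+1} (EtCoh.pullPushAdj f)
    (EtCoh.const Y ℤ) F n
  exact ⟨e1.trans e2⟩

end Groth.Agent.Lib.EtHExactPush39
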