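import Groth.Agent.Lib.EtGerm
import Groth.Agent.Lib.EtRootCover
import Groth.Agent.Lib.EssEtaleLift
import Groth.Prelude.Def_EtCore
import Mathlib.Algebra.Homology.DerivedCategory.Ext.EnoughProjectives

/-!
# Etale neighbourhoods of the closed geometric point of a strictly henselian local ring (helper39)

`R` henselian local with separably closed residue field `k`, `X = Spec R`, `ξ : Spec k ⟶ X`.
Every etale neighbourhood `(U, y)` of `ξ` receives a morphism from the trivial neighbourhood
`(X, ξ)` (`exists_section`).  Consequently global sections of an abelian etale sheaf map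
bijectively onto the stalk at `ξ` (`bijective_germ_top`), and the global section functor
preserves epimorphisms (`surjective_app_top_of_epi`).
-/

set_option autoImplicit false
universe u
open CategoryTheory CategoryTheory.Limits AlgebraicGeometry Opposite

namespace Groth.Agent.Lib.EtHensSect

open Groth.Agent.Lib.EtGerm Groth.Agent.Lib.EtAbStalk

variable (R : Type u) [CommRing R] [HenselianLocalRing R]
  [IsSepClosed (IsLocalRing.ResidueField R)]

/-- the closed geometric point of `Spec R` -/
noncomputable abbrev clPt : Spec (CommRingCat.of (IsLocalRing.ResidueField R)) ⟶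
    Spec (CommRingCat.of R) :=
  Spec.map (CommRingCat.ofHom (IsLocalRing.residue R))

/-- the trivial neighbourhood of the closed geometric point -/
noncomputable abbrev topNbhd : Nbhd (clPt R) (EtCoh.top (Spec (CommRingCat.of R))) :=
  Over.homMk (clPt R) (Category.comp_id _)

variable {R}

/-- every etale neighbourhood of the closed geometric point of a strictly henselian local scheme
has a section through the geometric point -/
theorem exists_section (U : (Spec (CommRingCat.of R)).Etale) (y : Nbhd (clPt R) U) :
    ∃ g : EtCoh.top (Spec (CommRingCat.of R)) ⟶ U, Nbhd.map (clPt R) g (topNbhd R) = y := by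
  obtain ⟨C, ι, hι, 𝔭, h𝔭⟩ := Groth.Agent.Lib.EtRootCover.exists_affine_nbhd U (Nbhd.pt (clPt R) y)
  have hU : Etale U.hom := U.prop
  have hιU : Etale (ι ≫ U.hom) := inferInstance
  -- the ring map
  let φ : CommRingCat.of R ⟶ C := Spec.preimage (ι ≫ U.hom)
  have hφ : Spec.map φ = ι ≫ U.hom := Spec.map_preimage _
  have hφe : φ.hom.Etale := by
    have := hιU
    rw [← hφ] at this
    exact (HasRingHomProperty.Spec_iff (P := @Etale)).1 this
  let _ : Algebra R C := φ.hom.toAlgebra
  have hAlg : Algebra.Etale R C := RingHom.etale_algebraMap.1 hφe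
  -- the point
  let yl : Spec (CommRingCat.of (IsLocalRing.ResidueField R)) ⟶ U.left := CommaMorphism.left y
  have hyw : yl ≫ U.hom = clPt R := Over.w y
  have hrange : Set.range yl ⊆ Set.range ι := by
    rintro _ ⟨a, rfl⟩
    have : a = default := Subsingleton.elim _ _
    subst this
    exact ⟨𝔭, h𝔭⟩
  let l : Spec (CommRingCat.of (IsLocalRing.ResidueField R)) ⟶ Spec C :=
    IsOpenImmersion.lift ι yl hrange
  have hl : l ≫ ι = yl := IsOpenImmersion.lift_fac _ _ _
  let χ₀ : C ⟶ CommRingCat.of (IsLocalRing.ResidueField R) := Spec.preimage l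
  have hχ₀ : Spec.map χ₀ = l := Spec.map_preimage _
  have hφχ : φ ≫ χ₀ = CommRingCat.ofHom (IsLocalRing.residue R) := by
    apply Spec.map_injective
    rw [Spec.map_comp, hχ₀, hφ, ← Category.assoc, hl, hyw]
  let χ : C →ₐ[R] IsLocalRing.ResidueField R :=
    { χ₀.hom with
      commutes' := fun r => by
        have := congrArg (fun f => f.hom r) hφχ
        exact this }
  have hχ : ∀ x, χ x = χ₀.hom x := fun _ => rfl
  have : (RingHom.ker χ.toRingHom).IsPrime := RingHom.ker_isPrime _
  obtain ⟨σ, hσ⟩ := Groth.Agent.Lib.EssEtaleLift.exists_algHom_lift (A := R) (C := C) (B := R)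
    (RingHom.ker χ.toRingHom) χ (fun x hx => hx)
  let σ₀ : C ⟶ CommRingCat.of R := CommRingCat.ofHom σ.toRingHom
  have hφσ : φ ≫ σ₀ = 𝟙 _ := by
    ext r
    exact σ.commutes r
  have hσχ : σ₀ ≫ CommRingCat.ofHom (IsLocalRing.residue R) = χ₀ := by
    ext x
    exact (hσ x).trans (hχ x)
  have hcond : (Spec.map σ₀ ≫ ι) ≫ U.hom = (EtCoh.top (Spec (CommRingCat.of R))).hom := by
    rw [Category.assoc, ← hφ, ← Spec.map_comp, hφσ, Spec.map_id]
    rfl
  refine ⟨MorphismProperty.Over.homMk (Spec.map σ₀ ≫ ι) hcond trivial, ?_⟩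
  apply Over.OverMorphism.ext
  show clPt R ≫ Spec.map σ₀ ≫ ι = yl
  rw [← Category.assoc, ← Spec.map_comp, hσχ, hχ₀, hl]


/-- an endomorphism of the terminal object of the small etale site is the identity -/
lemma top_endo_eq_id {X : Scheme.{u}} (e : EtCoh.top X ⟶ EtCoh.top X) : e = 𝟙 _ :=
  (EtCore.topIsTerminal X).hom_ext _ _

/-- global sections of an abelian etale sheaf on a strictly henselian local scheme map
bijectively onto the stalk at the closed geometric point -/
theorem bijective_toPresheafFiber_top (F : EtCoh.Ab (Spec (CommRingCat.of R))) :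
    Function.Bijective ((Scheme.pointSmallEtale (clPt R)).toPresheafFiber
      (EtCoh.top (Spec (CommRingCat.of R))) (topNbhd R) F.obj) := by
  constructor
  · intro a b hab
    have hab' : germ (clPt R) F (topNbhd R) a = germ (clPt R) F (topNbhd R) b := hab
    obtain ⟨V, g, z, -, hz⟩ := (germ_eq_iff (clPt R) F (topNbhd R) a b).1 hab'
    obtain ⟨h, -⟩ := exists_section V z
    have hid : h ≫ g = 𝟙 _ := top_endo_eq_id _
    have h1 : ∀ c : EtCoh.sect F (EtCoh.top (Spec (CommRingCat.of R))),
        F.obj.map h.op (F.obj.map g.op c) = c := by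
      intro c
      have : F.obj.map g.op ≫ F.obj.map h.op = 𝟙 _ := by
        rw [← F.obj.map_comp, ← op_comp, hid, op_id, F.obj.map_id]
      exact congrArg (fun f => f.hom c) this
    rw [← h1 a, ← h1 b, hz]
  · intro p
    obtain ⟨U, y, s, hs⟩ := germ_jointly_surjective (clPt R) F p
    obtain ⟨g, hg⟩ := exists_section U y
    refine ⟨F.obj.map g.op s, ?_⟩
    have := germ_res (clPt R) F g (topNbhd R) s
    rw [hg, hs] at this
    exact this

/-- on a strictly henselian local scheme the global section functor preserves epimorphisms -/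
theorem surjective_app_top_of_epi {F G : EtCoh.Ab (Spec (CommRingCat.of R))} (φ : F ⟶ G) [Epi φ] :
    Function.Surjective (φ.hom.app (op (EtCoh.top (Spec (CommRingCat.of R))))) := by
  intro t
  have hepi : Epi ((EtCoh.stalk (clPt R)).map φ) := inferInstance
  have hsurj : Function.Surjective ((EtCoh.stalk (clPt R)).map φ) :=
    (AddCommGrpCat.epi_iff_surjective _).1 hepi
  obtain ⟨p, hp⟩ := hsurj (germ (clPt R) G (topNbhd R) t)
  obtain ⟨s, hs⟩ := (bijective_toPresheafFiber_top F).2 p
  refine ⟨s, ?_⟩
  apply (bijective_toPresheafFiber_top G).1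
  have h1 := germ_naturality (clPt R) φ (topNbhd R) s
  have hs' : germ (clPt R) F (topNbhd R) s = p := hs
  rw [hs', hp] at h1
  exact h1.symm

instance preservesEpimorphisms_gsec :
    (EtCore.gsec (Spec (CommRingCat.of R))).PreservesEpimorphisms where
  preserves {F G} φ hφ := by
    rw [AddCommGrpCat.epi_iff_surjective]
    exact surjective_app_top_of_epi φ

/-- `ULift ℤ` is a projective abelian group -/
instance projective_uliftInt : Projective (AddCommGrpCat.of (ULift.{u + 1} ℤ)) where
  factors {E X} f e he := by
    have hsurj : Function.Surjective e := (AddCommGrpCat.epi_iff_surjective _).1 he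
    obtain ⟨x, hx⟩ := hsurj (f (ULift.up 1))
    let l : ULift.{u + 1} ℤ →+ E :=
      ((zmultiplesHom E) x).comp AddEquiv.ulift.toAddMonoidHom
    refine ⟨AddCommGrpCat.ofHom l, ?_⟩
    ext ⟨n⟩
    have hn : (ULift.up n : ULift.{u + 1} ℤ) = n • ULift.up 1 := by
      apply ULift.ext
      simp
    have h1 : l (ULift.up 1) = x := by
      show (1 : ℤ) • x = x
      exact one_zsmul x
    show e (l (ULift.up n)) = f (ULift.up n)
    rw [hn, map_zsmul, map_zsmul, map_zsmul, h1, hx]

/-- the constant sheaf `ℤ` on a strictly henselian local scheme is projective -/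
instance projective_constantSheaf :
    Projective ((constantSheaf (Spec (CommRingCat.of R)).smallEtaleTopology AddCommGrpCat.{u + 1}).obj
      (AddCommGrpCat.of (ULift.{u + 1} ℤ))) :=
  (EtCore.constAdj (Spec (CommRingCat.of R))).map_projective _ inferInstance

/-- etale cohomology of a strictly henselian local scheme vanishes in positive degrees -/
theorem subsingleton_H (F : EtCoh.Ab (Spec (CommRingCat.of R))) (p : ℕ) (hp : 1 ≤ p) :
    Subsingleton (EtCoh.H (Spec (CommRingCat.of R)) F p) := by
  obtain ⟨n, rfl⟩ : ∃ n, p = n + 1 := ⟨p - 1, by omega⟩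
  exact Abelian.Ext.subsingleton_of_projective _ _ n

end Groth.Agent.Lib.EtHensSect
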