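import Groth.Agent.Lib.EtQcqs95b
import Groth.Agent.Lib.EtSepClosedPush39
import Groth.Agent.Lib.EtHExactPush39
import Groth.Agent.Lib.EtHensSect
import Mathlib.AlgebraicGeometry.AlgClosed.Basic
import Mathlib.CategoryTheory.Limits.Constructions.Filtered

/-!
# Cohomology of a direct sum of skyscraper-type sheaves at closed points (helper65) — S6641, S8615

On a qcqs scheme étale cohomology commutes with arbitrary coproducts (helper95's S0099 plus
`coproduct = filtered colimit of finite coproducts`); direct image along the inclusion of a closed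
point with separably closed residue field is exact and acyclic.
-/

set_option autoImplicit false
universe u
open CategoryTheory CategoryTheory.Limits AlgebraicGeometry Opposite

namespace Groth.Agent.Lib.EtCoprodClosedPts65

section Abstract

universe v₁ v₂ u₁ u₂ w
variable {J : Type*} [Category J] {C : Type u₁} [Category.{v₁} C] {D : Type u₂} [Category.{v₂} D]
  [HasZeroMorphisms D]

lemma isZero_of_isColimit_of_forall_isZero {F : J ⥤ D} {c : Cocone F} (hc : IsColimit c)
    (h : ∀ j, IsZero (F.obj j)) : IsZero c.pt := by
  rw [IsZero.iff_id_eq_zero]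
  apply hc.hom_ext
  intro j
  exact (h j).eq_of_src _ _

lemma isZero_map_of_isColimit (H : C ⥤ D) {F : J ⥤ C} {c : Cocone F} (hc : IsColimit c)
    [PreservesColimit F H] (h : ∀ j, IsZero (H.obj (F.obj j))) : IsZero (H.obj c.pt) :=
  isZero_of_isColimit_of_forall_isZero (isColimitOfPreserves H hc) h

open CoproductsFromFiniteFiltered in
lemma isZero_map_sigma [HasFiniteCoproducts C] (H : C ⥤ D) [PreservesFiniteCoproducts H]
    {α : Type w} (f : α → C) [HasCoproduct f] [HasColimitsOfShape (Finset (Discrete α)) C]
    [PreservesColimitsOfShape (Finset (Discrete α)) H]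
    (h : ∀ a, IsZero (H.obj (f a))) : IsZero (H.obj (∐ f)) := by
  show IsZero (H.obj (finiteSubcoproductsCocone f).pt)
  refine isZero_map_of_isColimit H (isColimitFiniteSubproductsCocone f) ?_
  intro S
  exact isZero_map_of_isColimit H
    (coproductIsCoproduct (fun x : S => (Discrete.functor f).obj x)) (fun j => h _)

end Abstract

section Coprod

variable {X : Scheme.{u}} [CompactSpace X] [QuasiSeparatedSpace X]

/-- étale cohomology of a qcqs scheme kills coproducts of acyclic sheaves -/
theorem subsingleton_H_coprod {α : Type u} (f : α → EtCoh.Ab X) (c : Cofan f) (hc : IsColimit c)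
    (q : ℕ) (h : ∀ a, Subsingleton (EtCoh.H X (f a) q)) : Subsingleton (EtCoh.H X c.pt q) := by
  have hp : PreservesColimitsOfShape (Finset (Discrete α)) (EtCoh.HF X q) :=
    Groth.Agent.Lib.EtQcqs95.preservesColimitsOfShape_HF X q _
  have : (EtCoh.HF X q).Additive := by
    unfold EtCoh.HF
    infer_instance
  have h1 : IsZero ((EtCoh.HF X q).obj (∐ f)) :=
    isZero_map_sigma (EtCoh.HF X q) f (fun a => by
      have := h a
      exact AddCommGrpCat.isZero_of_subsingleton (AddCommGrpCat.of (EtCoh.H X (f a) q)))
  have e : c.pt ≅ ∐ f := hc.coconePointUniqueUpToIso (coproductIsCoproduct f)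
  have h2 : IsZero ((EtCoh.HF X q).obj c.pt) := h1.of_iso ((EtCoh.HF X q).mapIso e)
  exact AddCommGrpCat.subsingleton_of_isZero h2

end Coprod

section ClosedPoint

variable {k : Type u} [Field k] [IsAlgClosed k] {X : Scheme.{u}}
  (f : X ⟶ Spec (CommRingCat.of k)) [LocallyOfFiniteType f]

include f in
lemma isAlgClosed_residueField (x : X) (hx : IsClosed ({x} : Set X)) :
    IsAlgClosed (X.residueField x) :=
  IsAlgClosed.of_ringEquiv k (X.residueField x)
    (residueFieldIsoBase f x hx).commRingCatIsoToRingEquiv.symm

lemma isAlgClosed_residueField_field (κ : Type u) [Field κ] [IsAlgClosed κ] :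
    IsAlgClosed (IsLocalRing.ResidueField κ) :=
  IsAlgClosed.of_ringEquiv κ (IsLocalRing.ResidueField κ)
    (RingEquiv.ofBijective (IsLocalRing.residue κ)
      ⟨(IsLocalRing.residue κ).injective, Ideal.Quotient.mk_surjective⟩)

include f in
theorem subsingleton_H_push_closedPoint (x : X) (hx : IsClosed ({x} : Set X))
    (G : EtCoh.Ab (Spec (X.residueField x))) (q : ℕ) (hq : 1 ≤ q) :
    Subsingleton (EtCoh.H X ((EtCoh.push (X.fromSpecResidueField x)).obj G) q) := by
  have h1 : IsAlgClosed (X.residueField x) := isAlgClosed_residueField f x hx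
  have hh : HenselianLocalRing (X.residueField x) := by
    have := Field.henselian (X.residueField x)
    exact this
  have h2 : IsSepClosed (IsLocalRing.ResidueField (X.residueField x)) := by
    have h2' := isAlgClosed_residueField_field (X.residueField x)
    have h2'' : IsSepClosed (IsLocalRing.ResidueField (X.residueField x)) := inferInstance
    exact h2''
  have hB := Groth.Agent.Lib.EtSepClosedPush39.propB_of_isSepClosed (X.residueField x)
    (X.fromSpecResidueField x)
  have : PreservesFiniteColimits (EtCoh.push (X.fromSpecResidueField x)) :=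
    Groth.Agent.Lib.EtPushEpi39.push_preservesFiniteColimits_of_propB _ hB
  obtain ⟨e⟩ := Groth.Agent.Lib.EtHExactPush39.nonempty_H_push_addEquiv
    (X.fromSpecResidueField x) G q
  have h3 : Subsingleton (EtCoh.H (Spec (X.residueField x)) G q) :=
    @Groth.Agent.Lib.EtHensSect.subsingleton_H (X.residueField x) _ hh h2 G q hq
  exact e.symm.toEquiv.subsingleton

end ClosedPoint

section Main

variable {k : Type u} [Field k] [IsAlgClosed k] {X : Scheme.{u}}
  (f : X ⟶ Spec (CommRingCat.of k)) [LocallyOfFiniteType f] [QuasiCompact f] [QuasiSeparated f]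

include f in
theorem main
    (c : Cofan fun x : {x : ↥X // IsClosed ({x} : Set ↥X)} =>
      (EtCoh.push (X.fromSpecResidueField x.1)).obj (EtCoh.const (Spec (X.residueField x.1)) ℤ))
    (hc : IsColimit c) (q : ℕ) (hq : 1 ≤ q) :
    Subsingleton (EtCoh.H X c.pt q) := by
  have : CompactSpace X := (quasiCompact_iff_compactSpace f).1 inferInstance
  have : QuasiSeparatedSpace X := quasiSeparatedSpace_of_quasiSeparated f
  exact subsingleton_H_coprod _ c hc q
    (fun x => subsingleton_H_push_closedPoint f x.1 x.2 _ q hq)

end Main

end Groth.Agent.Lib.EtCoprodClosedPts65
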