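import Groth.Agent.Lib.ConsAtoms22
import Mathlib.AlgebraicGeometry.Morphisms.QuasiFinite
import Mathlib.AlgebraicGeometry.Morphisms.FinitePresentation

/-!
# A separation lemma for quasi-finite morphisms of qcqs schemes (helper22)

* `exists_open_closed_cut`: for `π : V ⟶ Y` locally quasi-finite between qcqs schemes, `E ⊆ V`
  constructible and `v ∈ E`, there are a quasi-compact open `O ∋ v` of `V` and a closed subset `C ∋ π v`
  of `Y` with quasi-compact complement such that `O ∩ π⁻¹ C ⊆ E`.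
-/

set_option autoImplicit false
universe u

open CategoryTheory AlgebraicGeometry Topology

namespace Groth.Agent.Lib.EtCutTop22

open Groth.Agent.Lib.ConsAtoms22

theorem exists_isCompact_isOpen_subset_of_finset {X : Type*} [TopologicalSpace X] [CompactSpace X]
    [QuasiSeparatedSpace X] (x : X) (s : Finset (Set X))
    (h : ∀ O ∈ s, IsOpen O ∧ IsCompact O ∧ x ∈ O) :
    ∃ O : Set X, IsOpen O ∧ IsCompact O ∧ x ∈ O ∧ ∀ O' ∈ s, O ⊆ O' := by
  classical
  induction s using Finset.induction_on with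
  | empty => exact ⟨Set.univ, isOpen_univ, isCompact_univ, trivial, by simp⟩
  | insert a s _ ih =>
    obtain ⟨O, h1, h2, h3, h4⟩ := ih fun O hO => h O (Finset.mem_insert_of_mem hO)
    obtain ⟨k1, k2, k3⟩ := h a (Finset.mem_insert_self a s)
    refine ⟨a ∩ O, k1.inter h1, k2.inter_of_isOpen h2 k1 h1, ⟨k3, h3⟩, ?_⟩
    intro O' hO'
    rcases Finset.mem_insert.1 hO' with rfl | hO'
    · exact Set.inter_subset_left
    · exact Set.inter_subset_right.trans (h4 O' hO')

theorem exists_open_closed_cut {V Y : Scheme.{u}} (π : V ⟶ Y) [LocallyQuasiFinite π]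
    [CompactSpace V] [QuasiSeparatedSpace V] [QuasiSeparatedSpace Y]
    {E : Set V} (hE : IsConstructible E) {v : V} (hv : v ∈ E) :
    ∃ (O : Set V) (C : Set Y), IsOpen O ∧ IsCompact O ∧ v ∈ O ∧ IsClosed C ∧ IsCompact Cᶜ ∧
      π v ∈ C ∧ O ∩ π ⁻¹' C ⊆ E := by
  classical
  let I₁ := {O : Set V // IsOpen O ∧ IsCompact O ∧ v ∈ O}
  let I₂ := {D : Set Y // IsOpen D ∧ IsCompact D ∧ π v ∉ D}
  let S : Unit ⊕ (I₁ ⊕ I₂) → Set V := fun i =>
    match i with
    | Sum.inl _ => E
    | Sum.inr (Sum.inl O) => (O.1)ᶜ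
    | Sum.inr (Sum.inr D) => π ⁻¹' D.1
  have hS : ∀ i, IsConstructible (S i) := by
    rintro (_ | O | D)
    · exact hE
    · exact (O.2.2.1.isConstructible O.2.1).compl
    · exact π.isConstructible_preimage (D.2.2.1.isConstructible D.2.1)
  have hcov : ∀ w : V, ∃ i, w ∈ S i := by
    intro w
    by_contra hcon
    rw [not_exists] at hcon
    have hwE : w ∉ E := hcon (Sum.inl ())
    have hw1 : ∀ O : I₁, w ∈ O.1 := fun O => by
      have := hcon (Sum.inr (Sum.inl O))
      by_contra h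
      exact this h
    have hw2 : ∀ D : I₂, π w ∉ D.1 := fun D => hcon (Sum.inr (Sum.inr D))
    -- `w ⤳ v`
    have hsp : w ⤳ v := by
      rw [specializes_iff_forall_open]
      intro U hU hvU
      obtain ⟨O, ⟨hO1, hO2⟩, hvO, hOU⟩ :=
        (PrespectralSpace.isTopologicalBasis (X := V)).exists_subset_of_mem_open hvU hU
      exact hOU (hw1 ⟨O, hO1, hO2, hvO⟩)
    -- `π v ⤳ π w`
    have hsp2 : π v ⤳ π w := by
      rw [specializes_iff_forall_open]
      intro U hU hwU
      obtain ⟨D, ⟨hD1, hD2⟩, hwD, hDU⟩ :=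
        (PrespectralSpace.isTopologicalBasis (X := Y)).exists_subset_of_mem_open hwU hU
      by_contra hvU
      exact hw2 ⟨D, hD1, hD2, fun h => hvU (hDU h)⟩ hwD
    have hsp3 : π w ⤳ π v := hsp.map π.continuous
    have heq : π w = π v := (hsp3.antisymm hsp2).eq
    -- both lie in the discrete fibre
    have hdisc := π.isDiscrete_preimage_singleton (π v)
    have hwv : w = v := by
      have : DiscreteTopology ↥(π ⁻¹' {π v}) := hdisc.to_subtype
      have h1 : (⟨w, heq⟩ : ↥(π ⁻¹' {π v})) ⤳ ⟨v, rfl⟩ :=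
        (Topology.IsInducing.subtypeVal.specializes_iff).1 hsp
      exact congrArg Subtype.val h1.eq
    exact hwE (hwv ▸ hv)
  obtain ⟨s, hs⟩ := exists_finite_subcover_of_isConstructible S hS hcov
  -- the finitely many opens of `V`
  let s₁ : Finset (Set V) := s.biUnion fun i =>
    match i with
    | Sum.inr (Sum.inl O) => {O.1}
    | _ => ∅
  have hs₁ : ∀ O ∈ s₁, IsOpen O ∧ IsCompact O ∧ v ∈ O := by
    intro O hO
    obtain ⟨i, -, hi⟩ := Finset.mem_biUnion.1 hO
    rcases i with _ | O' | D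
    · simp at hi
    · rw [Finset.mem_singleton] at hi
      rw [hi]; exact O'.2
    · simp at hi
  obtain ⟨O, hO1, hO2, hO3, hO4⟩ := exists_isCompact_isOpen_subset_of_finset v s₁ hs₁
  -- the finitely many opens of `Y`
  let s₂ : Finset (Set Y) := s.biUnion fun i =>
    match i with
    | Sum.inr (Sum.inr D) => {D.1}
    | _ => ∅
  have hs₂ : ∀ D ∈ s₂, IsOpen D ∧ IsCompact D ∧ π v ∉ D := by
    intro D hD
    obtain ⟨i, -, hi⟩ := Finset.mem_biUnion.1 hD
    rcases i with _ | O' | D'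
    · simp at hi
    · simp at hi
    · rw [Finset.mem_singleton] at hi
      rw [hi]; exact D'.2
  let D₀ : Set Y := ⋃ D ∈ s₂, D
  have hD₀o : IsOpen D₀ := isOpen_biUnion fun D hD => (hs₂ D hD).1
  have hD₀c : IsCompact D₀ := s₂.isCompact_biUnion fun D hD => (hs₂ D hD).2.1
  have hD₀v : π v ∉ D₀ := by
    intro h
    obtain ⟨D, hD, hvD⟩ := Set.mem_iUnion₂.1 h
    exact (hs₂ D hD).2.2 hvD
  refine ⟨O, D₀ᶜ, hO1, hO2, hO3, hD₀o.isClosed_compl, by rwa [compl_compl], hD₀v, ?_⟩
  rintro w ⟨hwO, hwC⟩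
  obtain ⟨i, his, hwi⟩ := hs w
  rcases i with _ | O' | D'
  · exact hwi
  · exfalso
    have : O'.1 ∈ s₁ := Finset.mem_biUnion.2 ⟨_, his, by simp⟩
    exact hwi (hO4 _ this hwO)
  · exfalso
    have : D'.1 ∈ s₂ := Finset.mem_biUnion.2 ⟨_, his, by simp⟩
    exact hwC (Set.mem_iUnion₂.2 ⟨_, this, hwi⟩)

end Groth.Agent.Lib.EtCutTop22
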