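import Groth.Agent.Lib.EtMuConst

/-!
# Étale neighbourhoods containing a primitive `n`-th root of unity (helper65)

* `cycloPair R n u hu : StandardEtalePair R` with `f = cyclotomic n R`, `g = 1` when `n` is
  invertible in `R` (`u * n = 1`).
* `exists_etale_nbhd_mu_iso_const`: if `n ≥ 1` is invertible on `X`, every point of `X` has an étale
  neighbourhood `g : V ⟶ X` with `μ_{n,V} ≅ ℤ/n`.
-/

set_option autoImplicit false
universe u
open CategoryTheory CategoryTheory.Limits AlgebraicGeometry Opposite Polynomial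

namespace Groth.Agent.Lib.EtCycloNbhd65

section Pair

variable (R : Type u) [CommRing R] (n : ℕ) (hn : 1 ≤ n) (v : R) (hv : v * (n : R) = 1)

include hn hv in
lemma cyclo_cond : ∃ p₁ p₂ : R[X], ∃ m : ℕ,
    derivative (cyclotomic n R) * p₁ + cyclotomic n R * p₂ = (1 : R[X]) ^ m := by
  obtain ⟨Ψ, hΨ⟩ := cyclotomic.dvd_X_pow_sub_one n R
  have h2 := congrArg derivative hΨ
  rw [derivative_sub, derivative_X_pow, derivative_one, sub_zero, derivative_mul] at h2
  have h3 : (C v : R[X]) * C (n : R) = 1 := by rw [← C_mul, hv, C_1]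
  have h4 : (X : R[X]) * X ^ (n - 1) = X ^ n := by
    rw [← pow_succ']
    congr 1
    omega
  refine ⟨C v * X * Ψ, C v * X * derivative Ψ - Ψ, 0, ?_⟩
  rw [pow_zero]
  linear_combination (C v * X) * h2.symm - hΨ.symm + (X * X ^ (n - 1)) * h3 + h4

/-- the standard étale pair `(Φ_n, 1)` -/
noncomputable def cycloPair : StandardEtalePair R where
  f := cyclotomic n R
  monic_f := cyclotomic.monic n R
  g := 1
  cond := cyclo_cond R n hn v hv

end Pair

section Nbhd

open Groth.Agent.Lib.EtRootCover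

lemma aeval_int_of_ringHom {A B : Type*} [CommRing A] [CommRing B] (φ : A →+* B) (p : ℤ[X]) (a : A) :
    aeval (φ a) p = φ (aeval a p) := by
  rw [aeval_def, aeval_def, hom_eval₂]
  have h5 : algebraMap ℤ B = φ.comp (algebraMap ℤ A) := Subsingleton.elim _ _
  rw [h5]

theorem exists_etale_nbhd_mu_iso_const (X : Scheme.{u}) (n : ℕ) (hn : 1 ≤ n)
    (hunit : IsUnit (n : Γ(X, ⊤))) (x : X) :
    ∃ (V : Scheme.{u}) (g : V ⟶ X) (_ : Etale g) (w : V), g w = x ∧
      Nonempty (EtCoh.mu V n ≅ EtCoh.const V (ZMod n)) := by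
  obtain ⟨R, ι, hι, 𝔭, h𝔭⟩ := exists_affine_nbhd (EtCoh.top X) x
  let φ : Γ(X, ⊤) →+* R := (Scheme.ΓSpecIso R).hom.hom.comp ι.appTop.hom
  have hunitR : IsUnit ((n : ℕ) : R) := by
    have := hunit.map φ
    rwa [map_natCast] at this
  obtain ⟨v, hv⟩ := hunitR.exists_left_inv
  let P := cycloPair R n hn v hv
  -- a root in the separable closure of the residue field
  let K := SeparableClosure 𝔭.asIdeal.ResidueField
  have hnK : ((n : ℕ) : K) ≠ 0 := by
    have := hunitR.map (sepPt 𝔭)
    rw [map_natCast] at this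
    exact this.ne_zero
  have : NeZero ((n : ℕ) : K) := ⟨hnK⟩
  have hsep : (cyclotomic n K).Separable := separable_cyclotomic n K
  have hdeg : (cyclotomic n K).degree ≠ 0 := (degree_cyclotomic_pos n K (by omega)).ne'
  obtain ⟨ω, hω⟩ := IsSepClosed.exists_root (cyclotomic n K) hdeg hsep
  have hmap : letI := (sepPt 𝔭).toAlgebra; P.HasMap ω := by
    let _ := (sepPt 𝔭).toAlgebra
    refine ⟨?_, ?_⟩
    · show aeval ω (cyclotomic n R) = 0
      rw [aeval_def, eval₂_eq_eval_map, map_cyclotomic]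
      exact hω
    · show IsUnit (aeval ω (1 : R[X]))
      rw [map_one]
      exact isUnit_one
  obtain ⟨w, hw⟩ := exists_point_rootCover (EtCoh.top X) ι P 𝔭 ω hmap
  refine ⟨(rootCover (EtCoh.top X) ι P).left, (rootCoverHom (EtCoh.top X) ι P).left, ?_, w,
    hw.trans h𝔭, ?_⟩
  · show @Etale (rootCover (EtCoh.top X) ι P).left (EtCoh.top X).left
      (rootCoverHom (EtCoh.top X) ι P).left
    infer_instance
  · let ψ : P.Ring →+* Γ(Spec (CommRingCat.of P.Ring), ⊤) :=
      (Scheme.ΓSpecIso (CommRingCat.of P.Ring)).inv.hom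
    have hζ0 : aeval (ψ P.X) (cyclotomic n ℤ) = 0 := by
      rw [aeval_int_of_ringHom]
      have h1 : aeval P.X (cyclotomic n R) = 0 := (StandardEtalePair.hasMap_X (P := P)).1
      have h2 : aeval P.X (cyclotomic n ℤ) = aeval P.X (cyclotomic n R) := by
        rw [← map_cyclotomic_int n R, ← algebraMap_int_eq, aeval_map_algebraMap]
      rw [h2, h1, map_zero]
    have hunitV : IsUnit ((n : ℕ) : Γ((rootCover (EtCoh.top X) ι P).left, ⊤)) := by
      have := hunit.map (rootCoverHom (EtCoh.top X) ι P).left.appTop.hom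
      rwa [map_natCast] at this
    exact Groth.Agent.Lib.EtMuConst.nonempty_mu_iso_const _ n hn hunitV (ψ P.X) hζ0

end Nbhd

end Groth.Agent.Lib.EtCycloNbhd65
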