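import Mathlib.AlgebraicGeometry.Modules.Sheaf
import Groth.Agent.Lib.H78TensorGen
import Groth.Agent.Lib.H90DevAtom

/-!
# Decomposition of a pushforward along a clopen decomposition of the source (helper42)
-/

set_option autoImplicit false
universe u
open CategoryTheory CategoryTheory.Limits AlgebraicGeometry Opposite TopologicalSpace
open Groth.Agent.Lib.H78TensorGen Groth.Agent.Lib.H90DevAtom

namespace Groth.Agent.Lib.EtDeg42

variable {Z X : Scheme.{u}} (p : Z ⟶ X) (U : Z.Opens) (M : Z.Modules)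

/-- the pushforward of the restriction of `M` to the open `U` -/
noncomputable def resPush : X.Modules :=
  (Scheme.Modules.pushforward (U.ι ≫ p)).obj (M.restrict U.ι)

/-- the restriction map `p_* M ⟶ (p|_U)_* (M|_U)` -/
noncomputable def toResPush : (Scheme.Modules.pushforward p).obj M ⟶ resPush p U M :=
  (Scheme.Modules.pushforward p).map ((Scheme.Modules.restrictAdjunction U.ι).unit.app M) ≫
    (Scheme.Modules.pushforwardComp U.ι p).hom.app (M.restrict U.ι)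

lemma image_preimage_eq (V : X.Opens) : U.ι ''ᵁ ((U.ι ≫ p) ⁻¹ᵁ V) = U ⊓ p ⁻¹ᵁ V := by
  change U.ι ''ᵁ (U.ι ⁻¹ᵁ (p ⁻¹ᵁ V)) = _
  rw [Scheme.Hom.image_preimage_eq_opensRange_inf, Scheme.Opens.opensRange_ι]

lemma image_preimage_le (V : X.Opens) : U.ι ''ᵁ ((U.ι ≫ p) ⁻¹ᵁ V) ≤ p ⁻¹ᵁ V := by
  rw [image_preimage_eq]
  exact inf_le_right

lemma toResPush_app (V : X.Opens) (x : Γ(M, p ⁻¹ᵁ V)) :
    (toResPush p U M).app V x = rs M (image_preimage_le p U V) x := rfl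


section Decomp

variable (U₁ U₂ : Z.Opens) (hdisj : U₁ ⊓ U₂ = ⊥) (hcov : U₁ ⊔ U₂ = ⊤)

/-- the comparison map `p_* M ⟶ (p|_{U₁})_* (M|_{U₁}) ⊞ (p|_{U₂})_* (M|_{U₂})` -/
noncomputable def decompHom : (Scheme.Modules.pushforward p).obj M ⟶ resPush p U₁ M ⊞ resPush p U₂ M :=
  biprod.lift (toResPush p U₁ M) (toResPush p U₂ M)

lemma fst_decompHom_app (V : X.Opens) (x : Γ(M, p ⁻¹ᵁ V)) :
    (biprod.fst : resPush p U₁ M ⊞ resPush p U₂ M ⟶ _).app V ((decompHom p M U₁ U₂).app V x) =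
      rs M (image_preimage_le p U₁ V) x := by
  change ((decompHom p M U₁ U₂) ≫ biprod.fst).app V x = _
  rw [decompHom, biprod.lift_fst]
  rfl

lemma snd_decompHom_app (V : X.Opens) (x : Γ(M, p ⁻¹ᵁ V)) :
    (biprod.snd : resPush p U₁ M ⊞ resPush p U₂ M ⟶ _).app V ((decompHom p M U₁ U₂).app V x) =
      rs M (image_preimage_le p U₂ V) x := by
  change ((decompHom p M U₁ U₂) ≫ biprod.snd).app V x = _
  rw [decompHom, biprod.lift_snd]
  rfl

include hdisj hcov in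
theorem bijective_decompHom_app (V : X.Opens) : Function.Bijective ((decompHom p M U₁ U₂).app V) := by
  have hW : ∀ (b : Bool), (if b then U₁.ι ''ᵁ ((U₁.ι ≫ p) ⁻¹ᵁ V) else U₂.ι ''ᵁ ((U₂.ι ≫ p) ⁻¹ᵁ V)) ≤
      p ⁻¹ᵁ V := by
    intro b
    cases b
    · exact image_preimage_le p U₂ V
    · exact image_preimage_le p U₁ V
  have hcover : p ⁻¹ᵁ V ≤ ⨆ b : Bool, (if b then U₁.ι ''ᵁ ((U₁.ι ≫ p) ⁻¹ᵁ V) else
      U₂.ι ''ᵁ ((U₂.ι ≫ p) ⁻¹ᵁ V)) := by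
    intro z hz
    have hz' : z ∈ U₁ ⊔ U₂ := by rw [hcov]; trivial
    rcases hz' with h1 | h2
    · refine Opens.mem_iSup.2 ⟨true, ?_⟩
      change z ∈ U₁.ι ''ᵁ ((U₁.ι ≫ p) ⁻¹ᵁ V)
      rw [image_preimage_eq]
      exact ⟨h1, hz⟩
    · refine Opens.mem_iSup.2 ⟨false, ?_⟩
      change z ∈ U₂.ι ''ᵁ ((U₂.ι ≫ p) ⁻¹ᵁ V)
      rw [image_preimage_eq]
      exact ⟨h2, hz⟩
  constructor
  · rw [injective_iff_map_eq_zero]
    intro x hx
    have h1 := fst_decompHom_app p M U₁ U₂ V x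
    have h2 := snd_decompHom_app p M U₁ U₂ V x
    rw [hx, map_zero] at h1 h2
    refine sec_ext M x 0 (fun z hz => ?_)
    have hz' : z ∈ U₁ ⊔ U₂ := by rw [hcov]; trivial
    rcases hz' with hz1 | hz2
    · refine ⟨U₁.ι ''ᵁ ((U₁.ι ≫ p) ⁻¹ᵁ V), image_preimage_le p U₁ V, ?_, ?_⟩
      · rw [image_preimage_eq]; exact ⟨hz1, hz⟩
      · rw [← h1]; exact (map_zero _).symm
    · refine ⟨U₂.ι ''ᵁ ((U₂.ι ≫ p) ⁻¹ᵁ V), image_preimage_le p U₂ V, ?_, ?_⟩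
      · rw [image_preimage_eq]; exact ⟨hz2, hz⟩
      · rw [← h2]; exact (map_zero _).symm
  · intro y
    let y₁ : Γ(M, U₁.ι ''ᵁ ((U₁.ι ≫ p) ⁻¹ᵁ V)) :=
      (biprod.fst : resPush p U₁ M ⊞ resPush p U₂ M ⟶ _).app V y
    let y₂ : Γ(M, U₂.ι ''ᵁ ((U₂.ι ≫ p) ⁻¹ᵁ V)) :=
      (biprod.snd : resPush p U₁ M ⊞ resPush p U₂ M ⟶ _).app V y
    let sf : ∀ b : Bool, Γ(M, (if b then U₁.ι ''ᵁ ((U₁.ι ≫ p) ⁻¹ᵁ V) else
        U₂.ι ''ᵁ ((U₂.ι ≫ p) ⁻¹ᵁ V))) := fun b =>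
      match b with
      | true => y₁
      | false => y₂
    have hbot : U₁.ι ''ᵁ ((U₁.ι ≫ p) ⁻¹ᵁ V) ⊓ U₂.ι ''ᵁ ((U₂.ι ≫ p) ⁻¹ᵁ V) ≤ ⊥ := by
      rw [image_preimage_eq, image_preimage_eq, ← hdisj]
      exact inf_le_inf inf_le_left inf_le_left
    have hsub : ∀ (W : Z.Opens) (hW : W ≤ ⊥) (a b : Γ(M, W)), a = b := by
      intro W hW a b
      refine sec_ext M a b (fun z hz => ?_)
      exact absurd (hW hz) (by simp)
    obtain ⟨x, hx⟩ := sec_glue M (fun b : Bool => (if b then U₁.ι ''ᵁ ((U₁.ι ≫ p) ⁻¹ᵁ V) else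
        U₂.ι ''ᵁ ((U₂.ι ≫ p) ⁻¹ᵁ V))) hW hcover sf (by
      intro b b'
      cases b <;> cases b'
      · rfl
      · exact hsub _ (by rw [inf_comm]; exact hbot) _ _
      · exact hsub _ hbot _ _
      · rfl)
    refine ⟨x, ?_⟩
    rw [biprod_decomp _ _ V ((decompHom p M U₁ U₂).app V x), biprod_decomp _ _ V y,
      fst_decompHom_app, snd_decompHom_app]
    have e1 : rs M (image_preimage_le p U₁ V) x = y₁ := hx true
    have e2 : rs M (image_preimage_le p U₂ V) x = y₂ := hx false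
    rw [e1, e2]

include hdisj hcov in
theorem isIso_decompHom : IsIso (decompHom p M U₁ U₂) := by
  rw [Scheme.Modules.Hom.isIso_iff_isIso_app]
  intro V
  exact (ConcreteCategory.isIso_iff_bijective _).mpr (bijective_decompHom_app p M U₁ U₂ hdisj hcov V)

end Decomp

end Groth.Agent.Lib.EtDeg42
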