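/-
helper90: Stacks 01YO.  For `g : Z' ⟶ X` a closed map from an integral scheme with generic point `z'`, the module `g_* O_{Z'}` has
support `closure {g z'}` and its stalk at `g z'` is killed by the maximal ideal.  Consequence: for `f : Y ⟶ X` finite surjective and
`Z ⊆ X` an integral closed subscheme there is a coherent `F` on `Y` with `Supp f_* F = Z` and `𝔪_ξ (f_* F)_ξ = 0`.
-/
import Mathlib
import Groth.Agent.Lib.H90DevTwo2

set_option autoImplicit false
set_option linter.style.haveILetI false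
universe u

open CategoryTheory CategoryTheory.Limits AlgebraicGeometry TopologicalSpace Opposite

namespace Groth.Agent.Lib.H90FiniteSurjHub

open Groth.Agent.Lib.QCohStalk Groth.Agent.Lib.H90OXModSections Groth.Agent.Lib.H90OXModExt
  Groth.Agent.Lib.H90DevAtom Groth.Agent.Lib.H90DevFilt Groth.Agent.Lib.H90DevFiltP
  Groth.Agent.Lib.H90DevCanon Groth.Agent.Lib.H90DevHub Groth.Agent.Lib.H90DevHub2
  Groth.Agent.Lib.ModStalkLin Groth.Agent.Lib.ModStalk Groth.Agent.Lib.H90DevTwo
  Groth.Agent.Lib.H90DevTwo2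

variable {X Z' : Scheme.{u}} (g : Z' ⟶ X)

/-- a section of `O_X` near `g z'` whose germ is in the maximal ideal pulls back to zero on `Z'` -/
theorem app_eq_zero_of_germ_mem_maximalIdeal [IsIntegral Z'] (V : X.Opens)
    (hV : g (genericPoint Z') ∈ V) (a' : Γ(X, V))
    (ha : X.presheaf.germ V (g (genericPoint Z')) hV a' ∈
      IsLocalRing.maximalIdeal (X.presheaf.stalk (g (genericPoint Z')))) :
    (g.app V).hom a' = 0 := by
  have hnot : g (genericPoint Z') ∉ X.basicOpen a' := by
    intro hmem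
    have hu : IsUnit (X.presheaf.germ V (g (genericPoint Z')) hV a') :=
      (X.mem_basicOpen _ _ hV).mp hmem
    exact (IsLocalRing.mem_maximalIdeal _).mp ha hu
  rw [← basicOpen_eq_bot_iff, ← Scheme.preimage_basicOpen]
  by_contra hne
  obtain ⟨y, hy⟩ : ((g ⁻¹ᵁ X.basicOpen a' : Z'.Opens) : Set Z').Nonempty := by
    rw [Set.nonempty_iff_ne_empty]
    intro h
    exact hne (Opens.ext h)
  have hz : genericPoint Z' ∈ g ⁻¹ᵁ X.basicOpen a' :=
    ((genericPoint_spec Z').mem_open_set_iff (g ⁻¹ᵁ X.basicOpen a').2).mpr ⟨y, trivial, hy⟩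
  exact hnot hz

/-- the stalk of `g_* O_{Z'}` at the image of the generic point is killed by the maximal ideal -/
theorem smul_eq_zero_of_mem_maximalIdeal [IsIntegral Z']
    (a : X.presheaf.stalk (g (genericPoint Z')))
    (ha : a ∈ IsLocalRing.maximalIdeal (X.presheaf.stalk (g (genericPoint Z'))))
    (m : ↑((OZ g).presheaf.stalk (g (genericPoint Z')))) : a • m = 0 := by
  obtain ⟨V₁, hV₁, r, hr⟩ := TopCat.Presheaf.exists_germ_eq X.presheaf a
  obtain ⟨V₂, hV₂, s, hs⟩ := TopCat.Presheaf.exists_germ_eq (OZ g).presheaf m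
  let V : X.Opens := V₁ ⊓ V₂
  have hV : g (genericPoint Z') ∈ V := ⟨hV₁, hV₂⟩
  rw [← germO_res X (inf_le_left : V ≤ V₁) _ hV r] at hr
  rw [← germ_res (OZ g) (inf_le_right : V ≤ V₂) _ hV s] at hs
  obtain ⟨w, hw⟩ := ofFun_surjective g V (res (OZ g) (inf_le_right : V ≤ V₂) s)
  have h0 := app_eq_zero_of_germ_mem_maximalIdeal g V hV (resO X (inf_le_left : V ≤ V₁) r)
    (by rw [hr]; exact ha)
  rw [← hr, ← hs, ← hw, ← germ_smul, smul_ofFun, h0, zero_mul, ofFun_zero, map_zero]

/-- the support of `g_* O_{Z'}` for a closed map `g` from an integral scheme -/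
theorem support_OZ [IsIntegral Z'] (hg : IsClosedMap g.base) :
    CohB1.support (OZ g) = closure {g (genericPoint Z')} := by
  set ξ := g (genericPoint Z') with hξ
  have hrange : Set.range g ⊆ closure {ξ} := by
    rintro _ ⟨y, rfl⟩
    have hy : y ∈ closure {genericPoint Z'} := by
      rw [(genericPoint_spec Z').def]; trivial
    have := image_closure_subset_closure_image g.continuous (Set.mem_image_of_mem g hy)
    rwa [Set.image_singleton] at this
  apply Set.Subset.antisymm
  · intro x hx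
    by_contra hxc
    rw [mem_support_iff] at hx
    obtain ⟨a, b, hab⟩ := hx
    apply hab
    let V₀ : X.Opens := ⟨(closure {ξ})ᶜ, isClosed_closure.isOpen_compl⟩
    have key : ∀ w : ↑((OZ g).presheaf.stalk x), w = 0 := by
      intro w
      obtain ⟨V, hV, s, rfl⟩ := TopCat.Presheaf.exists_germ_eq (OZ g).presheaf w
      have hxW : x ∈ V ⊓ V₀ := ⟨hV, hxc⟩
      rw [← germ_res (OZ g) (inf_le_left : V ⊓ V₀ ≤ V) x hxW s]
      obtain ⟨w', hw'⟩ := ofFun_surjective g _ (res (OZ g) (inf_le_left : V ⊓ V₀ ≤ V) s)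
      have hbot : g ⁻¹ᵁ (V ⊓ V₀) ≤ ⊥ := by
        intro y hy
        exact (hy.2 (hrange ⟨y, rfl⟩)).elim
      have : w' = 0 :=
        Groth.Agent.Lib.H90DevMin.eq_zero_of_le_bot (F := Coh.structureModule Z') hbot _
      rw [← hw', this]
      exact map_zero _
    rw [key a, key b]
  · intro x hx
    have hcl : IsClosed (Set.range g) := by
      rw [← Set.image_univ]; exact hg _ isClosed_univ
    have hxr : x ∈ Set.range g :=
      closure_minimal (Set.singleton_subset_iff.mpr (Set.mem_range_self (genericPoint Z'))) hcl hx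
    obtain ⟨y, rfl⟩ := hxr
    rw [mem_support_iff]
    refine nontrivial_of_ne (α := ↑((OZ g).presheaf.stalk (g y)))
      ((OZ g).presheaf.germ ⊤ (g y) trivial (ofFun g ⊤ 1)) 0 (fun h0 => ?_)
    have h1 : (OZ g).presheaf.germ ⊤ (g y) trivial (ofFun g ⊤ 1) =
        (OZ g).presheaf.germ ⊤ (g y) trivial 0 := by
      rw [map_zero]; exact h0
    obtain ⟨W, hξW, iU, iV, hW⟩ := TopCat.Presheaf.germ_eq (OZ g).presheaf (g y)
      (show g y ∈ (⊤ : X.Opens) from trivial) (show g y ∈ (⊤ : X.Opens) from trivial) _ _ h1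
    have h2 : res (OZ g) iU.le (ofFun g ⊤ 1) = 0 := by
      change (OZ g).presheaf.map (homOfLE iU.le).op _ = 0
      rw [show (homOfLE iU.le) = iU from rfl, hW, map_zero]
    rw [res_ofFun] at h2
    have h3 : resO Z' (g.preimage_mono iU.le) (1 : Γ(Z', g ⁻¹ᵁ ⊤)) = 0 :=
      ofFun_injective g W h2
    have h4 : (1 : Γ(Z', g ⁻¹ᵁ W)) = 0 := by
      rw [← h3]
      exact (map_one _).symm
    haveI : Nonempty (g ⁻¹ᵁ W : Z'.Opens) := ⟨⟨y, hξW⟩⟩
    haveI : IsDomain Γ(Z', g ⁻¹ᵁ W) := inferInstance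
    exact one_ne_zero h4

theorem support_eq_of_iso {A B : X.Modules} (e : A ≅ B) : CohB1.support A = CohB1.support B :=
  Set.Subset.antisymm (support_subset_of_mono e.hom) (support_subset_of_mono e.inv)

/-- Stacks 01YO (the key step of Chevalley's theorem): for `f : Y ⟶ X` finite surjective and `ξ : X`, there is a coherent
`F` on `Y` with `Supp f_* F = closure {ξ}` and `𝔪_ξ (f_* F)_ξ = 0`. -/
theorem exists_coherent_pushforward {Y : Scheme.{u}} (f : Y ⟶ X) [IsFinite f] [Surjective f] (ξ : X) :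
    ∃ F : Y.Modules, Coh.IsCoh F ∧ CohB1.support ((Scheme.Modules.pushforward f).obj F) = closure {ξ} ∧
      ∀ a ∈ IsLocalRing.maximalIdeal (X.presheaf.stalk ξ),
        ∀ m : ↑(((Scheme.Modules.pushforward f).obj F).presheaf.stalk ξ), a • m = 0 := by
  obtain ⟨ξ', hξ'⟩ := f.surjective ξ
  let Zc' : Closeds Y := ⟨closure {ξ'}, isClosed_closure⟩
  have hirr : IsIrreducible (Zc' : Set Y) := isIrreducible_singleton.closure
  haveI := isIntegral_subscheme Zc' hirr
  have hgen : closure {ξ'} = (Zc' : Set Y) := rfl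
  have hz : (iZ Zc') (genericPoint (ZZ Zc')) = ξ' := by
    have h1 : IsGenericPoint ((iZ Zc') (genericPoint (ZZ Zc'))) (Zc' : Set Y) := by
      have := isGenericPoint_image_genericPoint (iZ Zc')
      rw [range_iZ] at this
      exact this
    have h2 : IsGenericPoint ξ' (Zc' : Set Y) := hgen
    exact h1.eq h2
  have hgz : (iZ Zc' ≫ f) (genericPoint (ZZ Zc')) = ξ := by
    rw [Scheme.Hom.comp_apply, hz, hξ']
  have hg : IsClosedMap (iZ Zc' ≫ f).base := by
    have h1 : IsClosedMap (iZ Zc') := (iZ Zc').isClosedEmbedding.isClosedMap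
    have h2 : IsClosedMap f := f.isClosedMap
    have : ⇑(iZ Zc' ≫ f).base = ⇑f ∘ ⇑(iZ Zc') := by
      ext y; exact Scheme.Hom.comp_apply _ _ _
    rw [this]
    exact h2.comp h1
  let e : (Scheme.Modules.pushforward f).obj (hub Zc') ≅ OZ (iZ Zc' ≫ f) :=
    (Scheme.Modules.pushforwardComp (iZ Zc') f).app (Coh.structureModule (ZZ Zc'))
  subst hgz
  refine ⟨hub Zc', isCoh_hub Zc', ?_, ?_⟩
  · rw [support_eq_of_iso e, support_OZ _ hg]
  · intro a ha m
    have h := smul_eq_zero_of_mem_maximalIdeal (iZ Zc' ≫ f) a ha (stalkLinEquiv e _ m)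
    rw [← _root_.map_smul] at h
    exact (stalkLinEquiv e _).injective (h.trans (map_zero _).symm)

end Groth.Agent.Lib.H90FiniteSurjHub
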