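/-
helper90: Hartshorne III Ex. 4.2 (a): for `f : X ⟶ Y` finite surjective of integral Noetherian schemes there are `r ≥ 1`, a coherent
`M` on `X` and `α : O_Y^r ⟶ f_* M` which is an isomorphism at the generic point of `Y`.
`M` is the image of `O_X^r ⟶ j_* O_U` given by sections of `O_X` over `U = f⁻¹V` forming a basis of the generic stalk of `f_* O_X`.
-/
import Mathlib
import Groth.Agent.Lib.H90FiniteSurjHub
import Groth.Agent.Lib.GenericFree
import Groth.Agent.Lib.H90InvertiblePullback
import Groth.Agent.Lib.H77QCohKernel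

set_option autoImplicit false
set_option linter.style.haveILetI false
universe u

open CategoryTheory CategoryTheory.Limits AlgebraicGeometry TopologicalSpace Opposite

namespace Groth.Agent.Lib.H90GenericBasis

open Groth.Agent.Lib.QCohStalk Groth.Agent.Lib.H90OXModSections Groth.Agent.Lib.H90OXModExt
  Groth.Agent.Lib.H90DevAtom Groth.Agent.Lib.H90DevHub2
  Groth.Agent.Lib.ModStalkLin Groth.Agent.Lib.ModStalk Groth.Agent.Lib.FreeModSch
  Groth.Agent.Lib.FreeModStalk

variable {Y : Scheme.{u}}

/-- a morphism of modules which is bijective on sections over all opens inside `V` is bijective on stalks at points of `V` -/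
theorem bijective_stalkLin_of_bijective_app {A B : Y.Modules} (φ : A ⟶ B) (V : Y.Opens)
    (h : ∀ W : Y.Opens, W ≤ V → Function.Bijective (φ.app W)) (y : Y) (hy : y ∈ V) :
    Function.Bijective (stalkLin φ y) := by
  constructor
  · rw [← LinearMap.ker_eq_bot, LinearMap.ker_eq_bot']
    intro a ha
    obtain ⟨W, hW, s, rfl⟩ := TopCat.Presheaf.exists_germ_eq A.presheaf a
    have hyW : y ∈ W ⊓ V := ⟨hW, hy⟩
    rw [← germ_res A (inf_le_left : W ⊓ V ≤ W) y hyW s] at ha ⊢
    rw [stalkLin_germ] at ha
    have h0 : B.presheaf.germ (W ⊓ V) y hyW (φ.app (W ⊓ V) (res A (inf_le_left : W ⊓ V ≤ W) s)) =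
        B.presheaf.germ (W ⊓ V) y hyW 0 := by rw [ha, map_zero]
    obtain ⟨W', hyW', iU, iV, hW'⟩ := TopCat.Presheaf.germ_eq B.presheaf y hyW hyW _ _ h0
    have h2 : res B iU.le (φ.app (W ⊓ V) (res A (inf_le_left : W ⊓ V ≤ W) s)) = 0 := by
      change B.presheaf.map (homOfLE iU.le).op _ = 0
      rw [show (homOfLE iU.le) = iU from rfl, hW', map_zero]
    rw [← app_res] at h2
    have h3 : res A iU.le (res A (inf_le_left : W ⊓ V ≤ W) s) = 0 :=
      (h W' (iU.le.trans inf_le_right)).1 (h2.trans (map_zero _).symm)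
    rw [← germ_res A iU.le y hyW', h3, map_zero]
  · intro b
    obtain ⟨W, hW, t, rfl⟩ := TopCat.Presheaf.exists_germ_eq B.presheaf b
    have hyW : y ∈ W ⊓ V := ⟨hW, hy⟩
    obtain ⟨s, hs⟩ := (h (W ⊓ V) inf_le_right).2 (res B (inf_le_left : W ⊓ V ≤ W) t)
    refine ⟨A.presheaf.germ (W ⊓ V) y hyW s, ?_⟩
    rw [stalkLin_germ, hs, germ_res]

section Generic

open Groth.Agent.Lib.GenericFree Groth.Agent.Lib.LocFreeRank in
/-- sections of a finite type module near the generic point of an integral scheme whose germs form a basis of the generic stalk -/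
theorem exists_sections_basis_generic [IsIntegral Y] (F : Y.Modules) [F.IsFiniteType] :
    ∃ (W : Y.Opens) (hW : genericPoint Y ∈ W)
      (t : Fin (Module.finrank ↑(Y.presheaf.stalk (genericPoint Y))
        ↑(F.presheaf.stalk (genericPoint Y))) → Γ(F, W)),
      LinearIndependent (Y.presheaf.stalk (genericPoint Y))
        (fun i => F.presheaf.germ W (genericPoint Y) hW (t i)) ∧
      Submodule.span (Y.presheaf.stalk (genericPoint Y))
        (Set.range fun i => F.presheaf.germ W (genericPoint Y) hW (t i)) = ⊤ := by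
  let η := genericPoint Y
  let K := Y.presheaf.stalk η
  let _ : Field K := inferInstanceAs (Field Y.functionField)
  set r := Module.finrank K (F.presheaf.stalk η) with hr
  have hfin : Module.Finite K (F.presheaf.stalk η) :=
    Groth.Agent.Lib.CohFinite.finite_stalk_of_isFiniteType F η
  have hrank : fibreRank F η = r :=
    finrank_residueField_tensor_of_isField (K := K) (F.presheaf.stalk η)
  obtain ⟨W, hηW, t, hspan⟩ := exists_sections_span_near F η hrank
  refine ⟨W, hηW, t, ?_, hspan ⟨η, hηW⟩⟩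
  apply linearIndependent_of_top_le_span_of_card_eq_finrank
  · exact (hspan ⟨η, hηW⟩).ge
  · rw [Fintype.card_fin]

theorem exists_sections_basis_generic' [IsIntegral Y] (F : Y.Modules) [F.IsFiniteType] :
    ∃ (r : ℕ) (W : Y.Opens) (hW : genericPoint Y ∈ W) (t : Fin r → Γ(F, W)),
      r = Module.finrank ↑(Y.presheaf.stalk (genericPoint Y)) ↑(F.presheaf.stalk (genericPoint Y)) ∧
      LinearIndependent (Y.presheaf.stalk (genericPoint Y))
        (fun i => F.presheaf.germ W (genericPoint Y) hW (t i)) ∧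
      Submodule.span (Y.presheaf.stalk (genericPoint Y))
        (Set.range fun i => F.presheaf.germ W (genericPoint Y) hW (t i)) = ⊤ := by
  obtain ⟨W, hW, t, h1, h2⟩ := exists_sections_basis_generic F
  exact ⟨_, W, hW, t, rfl, h1, h2⟩

end Generic

section Unit

variable {X Z : Scheme.{u}} (j : Z ⟶ X)

theorem ofSections_app_basisSec {N : X.Modules} {r : ℕ} (a : Fin r → Γ(N, ⊤)) (i : Fin r) :
    (ofSections N a).app ⊤ (basisSec X r i) = a i := by
  unfold basisSec
  rw [← toSection_comp, ι_ofSections, toSection_ofSection]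

/-- the canonical map `O_X ⟶ j_* O_Z` -/
noncomputable def unitOZ : Coh.structureModule X ⟶ OZ j :=
  Groth.Agent.Lib.H90Invertible.ofSection (M := OZ j) (ofFun j ⊤ 1)

theorem unitOZ_app (W : X.Opens) (c : Γ(X, W)) :
    (unitOZ j).app W (Groth.Agent.Lib.StructureModule.toSec W c) = ofFun j W ((j.app W).hom c) := by
  unfold unitOZ
  rw [Groth.Agent.Lib.H90Invertible.ofSection_app]
  change c • res (OZ j) le_top (ofFun j ⊤ 1) = _
  rw [res_ofFun, smul_ofFun]
  congr 1
  rw [show resO Z (j.preimage_mono (le_top : W ≤ ⊤)) (1 : Γ(Z, j ⁻¹ᵁ ⊤)) = 1 from map_one _, mul_one]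

theorem bijective_unitOZ_app [IsOpenImmersion j] (W : X.Opens) (hW : W ≤ j.opensRange) :
    Function.Bijective ((unitOZ j).app W) := by
  haveI := Scheme.Hom.isIso_app j W hW
  have hb : Function.Bijective (j.app W).hom :=
    (ConcreteCategory.isIso_iff_bijective (j.app W)).mp inferInstance
  have : ⇑(ConcreteCategory.hom ((unitOZ j).app W)) = fun c => ofFun j W ((j.app W).hom c) := by
    funext c
    exact unitOZ_app j W c
  rw [this]
  exact hb

end Unit

section Main

variable {X : Scheme.{u}} (f : X ⟶ Y)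

set_option backward.isDefEq.respectTransparency false in
/-- Hartshorne III Ex. 4.2 (a). -/
theorem exists_free_to_pushforward [IsIntegral X] [IsIntegral Y] [AlgebraicGeometry.IsNoetherian X]
    [IsFinite f] [Surjective f] :
    ∃ (r : ℕ) (M : X.Modules) (α : FlatMod.freeMod Y r ⟶ (Scheme.Modules.pushforward f).obj M),
      0 < r ∧ Coh.IsCoh M ∧ Function.Bijective (stalkLin α (genericPoint Y)) := by
  classical
  have hFc : Coh.IsCoh (OZ f) :=
    Groth.Agent.Lib.H90OXModPushFinite.isCoh_pushforward f _ (isCoh_structureModule X)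
  haveI : (OZ f).IsFiniteType := hFc.2
  obtain ⟨r, V', hηV', t, hr, hli, hsp⟩ := exists_sections_basis_generic' (OZ f)
  -- the rank is positive
  have hr0 : 0 < Module.finrank ↑(Y.presheaf.stalk (genericPoint Y))
      ↑((OZ f).presheaf.stalk (genericPoint Y)) := by
    let _ : Field (Y.presheaf.stalk (genericPoint Y)) := inferInstanceAs (Field Y.functionField)
    haveI : Module.Finite (Y.presheaf.stalk (genericPoint Y)) ((OZ f).presheaf.stalk (genericPoint Y)) :=
      Groth.Agent.Lib.CohFinite.finite_stalk_of_isFiniteType (OZ f) _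
    haveI : Nontrivial ↑((OZ f).presheaf.stalk (genericPoint Y)) := by
      rw [← mem_support_iff, Groth.Agent.Lib.H90FiniteSurjHub.support_OZ f f.isClosedMap]
      have h1 : closure {f (genericPoint X)} = Set.univ := by
        have h2 := (f.isClosedMap).closure_image_eq_of_continuous f.continuous {genericPoint X}
        rw [Set.image_singleton] at h2
        rw [h2, genericPoint_closure, Set.image_univ]
        exact Set.range_eq_univ.mpr f.surjective
      rw [h1]; trivial
    exact Module.finrank_pos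
  rw [← hr] at hr0
  -- the open `U = f⁻¹V'` and the ambient module `N = j_* O_U`
  let U : X.Opens := f ⁻¹ᵁ V'
  let j : (U : Scheme.{u}) ⟶ X := U.ι
  haveI : (Coh.structureModule (U : Scheme.{u})).IsQuasicoherent :=
    (isCoh_structureModule (U : Scheme.{u})).1
  haveI : (OZ j).IsQuasicoherent :=
    Groth.Agent.Lib.H90OXModQcqs.isQuasicoherent_pushforward_of_qcqs j _
  choose w hw using fun i => ofFun_surjective f V' (t i)
  have hle : (j ⁻¹ᵁ ⊤ : (U : Scheme.{u}).Opens) ≤ j ⁻¹ᵁ U := by
    rw [Scheme.Opens.ι_preimage_self]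
    exact le_top
  let a : Fin r → Γ(OZ j, ⊤) := fun i => ofFun j ⊤ (resO _ hle ((j.app U).hom (w i)))
  let β' : FlatMod.freeMod X r ⟶ OZ j := ofSections (OZ j) a
  let M : X.Modules := Abelian.image β'
  let p : FlatMod.freeMod X r ⟶ M := Abelian.factorThruImage β'
  let ιM : M ⟶ OZ j := Abelian.image.ι β'
  have hfac : p ≫ ιM = β' := Abelian.image.fac β'
  haveI : Epi p := inferInstanceAs (Epi (Abelian.factorThruImage β'))
  haveI : Mono ιM := inferInstanceAs (Mono (Abelian.image.ι β'))
  have hfree : Coh.IsCoh (FlatMod.freeMod X r) :=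
    Groth.Agent.Lib.H90Invertible.isCoh_of_isFinLocFree
      (Groth.Agent.Lib.H90Invertible.isFinLocFree_freeMod X r)
  haveI : (FlatMod.freeMod X r).IsQuasicoherent := hfree.1
  haveI : (cokernel β').IsQuasicoherent := Groth.Agent.Lib.H90OXModExact.isQuasicoherent_cokernel β'
  have hMq : M.IsQuasicoherent :=
    Groth.Agent.Lib.H77QCohKernel.isQuasicoherent_kernel (M := OZ j) (N := cokernel β') (cokernel.π β')
  have hMc : Coh.IsCoh M := Groth.Agent.Lib.H90OXModExact.isCoh_of_epi p hfree hMq
  -- the sections of `f_* M`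
  let m' : Fin r → Γ((Scheme.Modules.pushforward f).obj M, ⊤) := fun i =>
    p.app (f ⁻¹ᵁ ⊤) (res (FlatMod.freeMod X r) le_top (basisSec X r i))
  let α : FlatMod.freeMod Y r ⟶ (Scheme.Modules.pushforward f).obj M := ofSections _ m'
  refine ⟨r, M, α, hr0, hMc, ?_⟩
  -- the comparison maps
  let Φ : (Scheme.Modules.pushforward f).obj M ⟶ (Scheme.Modules.pushforward f).obj (OZ j) :=
    (Scheme.Modules.pushforward f).map ιM
  let Ρ : OZ f ⟶ (Scheme.Modules.pushforward f).obj (OZ j) :=
    (Scheme.Modules.pushforward f).map (unitOZ j)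
  haveI : Mono Φ := inferInstance
  have hφ : Function.Injective (stalkLin Φ (genericPoint Y)) := stalkLin_injective_of_mono Φ _
  have hψ : Function.Bijective (stalkLin Ρ (genericPoint Y)) := by
    refine bijective_stalkLin_of_bijective_app Ρ V' (fun W hW => ?_) _ hηV'
    have hWU : f ⁻¹ᵁ W ≤ j.opensRange := by
      rw [Scheme.Opens.opensRange_ι]
      exact f.preimage_mono hW
    exact bijective_unitOZ_app j (f ⁻¹ᵁ W) hWU
  have hsec : ∀ i, res ((Scheme.Modules.pushforward f).obj (OZ j)) (le_top : V' ≤ ⊤) (Φ.app ⊤ (m' i)) =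
      Ρ.app V' (t i) := by
    intro i
    rw [← hw i]
    have h1 : Φ.app ⊤ (m' i) = res (OZ j) (le_top : f ⁻¹ᵁ ⊤ ≤ ⊤) (a i) := by
      change ιM.app (f ⁻¹ᵁ ⊤) (p.app (f ⁻¹ᵁ ⊤) (res (FlatMod.freeMod X r) le_top (basisSec X r i))) = _
      have h0 : ιM.app (f ⁻¹ᵁ ⊤) (p.app (f ⁻¹ᵁ ⊤)
          (res (FlatMod.freeMod X r) le_top (basisSec X r i))) =
          β'.app (f ⁻¹ᵁ ⊤) (res (FlatMod.freeMod X r) le_top (basisSec X r i)) := by
        rw [← hfac]; rfl
      rw [h0, app_res, ofSections_app_basisSec]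
    rw [h1]
    have h2 : Ρ.app V' (ofFun f V' (w i)) = ofFun j (f ⁻¹ᵁ V') ((j.app (f ⁻¹ᵁ V')).hom (w i)) :=
      unitOZ_app j (f ⁻¹ᵁ V') (w i)
    rw [h2]
    change ofFun j (f ⁻¹ᵁ V') (resO _ (j.preimage_mono (f.preimage_mono (le_top : V' ≤ ⊤)))
      (resO _ (j.preimage_mono (le_top : f ⁻¹ᵁ ⊤ ≤ ⊤)) (resO _ hle ((j.app U).hom (w i))))) = _
    congr 1
    rw [resO_resO, resO_resO]
    change (U : Scheme.{u}).presheaf.map _ _ = _
    rw [Subsingleton.elim (homOfLE _).op (𝟙 _), (U : Scheme.{u}).presheaf.map_id]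
    rfl
  have hkey : ∀ i, stalkLin Φ (genericPoint Y)
      (((Scheme.Modules.pushforward f).obj M).presheaf.germ ⊤ (genericPoint Y) trivial (m' i)) =
      stalkLin Ρ (genericPoint Y) ((OZ f).presheaf.germ V' (genericPoint Y) hηV' (t i)) := by
    intro i
    rw [stalkLin_germ, stalkLin_germ, ← hsec i, germ_res]
  apply bijective_stalkLin_ofSections
  · have h1 : LinearIndependent (Y.presheaf.stalk (genericPoint Y))
        (fun i => stalkLin Ρ (genericPoint Y) ((OZ f).presheaf.germ V' (genericPoint Y) hηV' (t i))) :=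
      hli.map' (stalkLin Ρ (genericPoint Y)) (LinearMap.ker_eq_bot.mpr hψ.1)
    have h2 : LinearIndependent (Y.presheaf.stalk (genericPoint Y))
        (fun i => stalkLin Φ (genericPoint Y)
          (((Scheme.Modules.pushforward f).obj M).presheaf.germ ⊤ (genericPoint Y) trivial (m' i))) := by
      rw [show (fun i => stalkLin Φ (genericPoint Y)
          (((Scheme.Modules.pushforward f).obj M).presheaf.germ ⊤ (genericPoint Y) trivial (m' i))) =
          fun i => stalkLin Ρ (genericPoint Y) ((OZ f).presheaf.germ V' (genericPoint Y) hηV' (t i)) from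
        funext hkey]
      exact h1
    exact LinearIndependent.of_comp (stalkLin Φ (genericPoint Y)) h2
  · rw [eq_top_iff]
    intro x _
    obtain ⟨y, hy⟩ := hψ.2 (stalkLin Φ (genericPoint Y) x)
    have hy' : y ∈ Submodule.span (Y.presheaf.stalk (genericPoint Y))
        (Set.range fun i => (OZ f).presheaf.germ V' (genericPoint Y) hηV' (t i)) := by
      rw [hsp]; trivial
    have h3 := Submodule.mem_map_of_mem (f := stalkLin Ρ (genericPoint Y)) hy'
    rw [Submodule.map_span, ← Set.range_comp] at h3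
    have h4 : (⇑(stalkLin Ρ (genericPoint Y)) ∘
        fun i => (OZ f).presheaf.germ V' (genericPoint Y) hηV' (t i)) =
        (⇑(stalkLin Φ (genericPoint Y)) ∘ fun i =>
          ((Scheme.Modules.pushforward f).obj M).presheaf.germ ⊤ (genericPoint Y) trivial (m' i)) :=
      funext fun i => (hkey i).symm
    rw [h4, Set.range_comp, ← Submodule.map_span, hy] at h3
    obtain ⟨z, hz, hzx⟩ := h3
    rwa [← hφ hzx]

set_option backward.isDefEq.respectTransparency false in
/-- Hartshorne III Ex. 4.2 (a), in the form of the statement S10948. -/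
theorem exists_free_to_pushforward' [IsIntegral X] [IsIntegral Y] [AlgebraicGeometry.IsNoetherian X]
    [IsFinite f] [Surjective f] :
    ∃ (r : ℕ) (M : X.Modules) (α : (SheafOfModules.free (ULift.{u} (Fin r)) : Y.Modules) ⟶
        (Scheme.Modules.pushforward f).obj M),
      0 < r ∧ Coh.IsCoh M ∧
      IsIso ((TopCat.Presheaf.stalkFunctor AddCommGrpCat.{u} (genericPoint ↥Y)).map
        ((SheafOfModules.toSheaf Y.ringCatSheaf).map α).hom) := by
  obtain ⟨r, M, α, hr, hM, hα⟩ := exists_free_to_pushforward f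
  refine ⟨r, M, (Groth.Agent.Lib.H90Invertible.freeModIso Y r).hom ≫ α, hr, hM, ?_⟩
  have h1 : Function.Bijective (stalkLin
      ((Groth.Agent.Lib.H90Invertible.freeModIso Y r).hom ≫ α) (genericPoint Y)) := by
    rw [stalkLin_comp]
    exact hα.comp (stalkLinEquiv (Groth.Agent.Lib.H90Invertible.freeModIso Y r) (genericPoint Y)).bijective
  exact (ConcreteCategory.isIso_iff_bijective _).mpr h1

end Main

end Groth.Agent.Lib.H90GenericBasis
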