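import Groth.Agent.Lib.EtDeg42a
import Groth.Agent.Lib.AffineBaseChange
import Groth.Agent.Lib.H78PullSec
import Groth.Agent.Lib.H90GenericBasis
import Mathlib.AlgebraicGeometry.Morphisms.Etale
import Mathlib.AlgebraicGeometry.Morphisms.FormallyUnramified
import Mathlib.AlgebraicGeometry.Morphisms.Finite

/-!
# The diagonal decomposition of `X ×_Y X` for a finite étale `X ⟶ Y` (helper42)
-/

set_option autoImplicit false
universe u
open CategoryTheory CategoryTheory.Limits AlgebraicGeometry Opposite TopologicalSpace
open Groth.Agent.Lib.H78TensorGen Groth.Agent.Lib.H90DevAtom Groth.Agent.Lib.StructureModule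

namespace Groth.Agent.Lib.EtDeg42

section Diag

variable {X Y : Scheme.{u}} (h : X ⟶ Y) [IsFinite h] [Etale h]

instance : IsOpenImmersion (pullback.diagonal h) := inferInstance

instance : IsClosedImmersion (pullback.diagonal h) := IsSeparated.isClosedImmersion_diagonal

/-- the diagonal component of `X ×_Y X` -/
noncomputable abbrev diagOpen : (pullback h h).Opens := (pullback.diagonal h).opensRange

/-- the complement of the diagonal in `X ×_Y X` -/
noncomputable abbrev offDiagOpen : (pullback h h).Opens :=
  ⟨(Set.range (pullback.diagonal h))ᶜ, (pullback.diagonal h).isClosedEmbedding.isClosed_range.isOpen_compl⟩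

lemma diag_inf_offDiag : diagOpen h ⊓ offDiagOpen h = ⊥ := by
  ext z
  simp only [diagOpen, offDiagOpen, Opens.coe_inf, Opens.coe_bot, Set.mem_inter_iff,
    Set.mem_empty_iff_false, iff_false, not_and]
  intro h1 h2
  exact h2 h1

lemma diag_sup_offDiag : diagOpen h ⊔ offDiagOpen h = ⊤ := by
  ext z
  simp only [Opens.coe_sup, Opens.coe_top, Set.mem_union, Set.mem_univ, iff_true]
  by_cases hz : z ∈ Set.range (pullback.diagonal h)
  · exact Or.inl hz
  · exact Or.inr hz

/-- the diagonal component maps isomorphically to `X` -/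
instance isIso_diag_snd : IsIso ((diagOpen h).ι ≫ pullback.snd h h) := by
  have h1 : (pullback.diagonal h).isoOpensRange.hom ≫ ((diagOpen h).ι ≫ pullback.snd h h) = 𝟙 X := by
    rw [← Category.assoc]
    change ((pullback.diagonal h).isoOpensRange.hom ≫ (pullback.diagonal h).opensRange.ι) ≫ _ = _
    rw [Scheme.Hom.isoOpensRange_hom_ι, pullback.diagonal_snd]
  have h2 : (diagOpen h).ι ≫ pullback.snd h h = (pullback.diagonal h).isoOpensRange.inv := by
    rw [← cancel_epi (pullback.diagonal h).isoOpensRange.hom, h1, Iso.hom_inv_id]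
  rw [h2]
  infer_instance

instance isClosedImmersion_offDiag_ι : IsClosedImmersion (offDiagOpen h).ι := by
  apply IsClosedImmersion.of_isPreimmersion
  rw [Scheme.Opens.range_ι]
  change IsClosed ((Set.range (pullback.diagonal h))ᶜ)
  exact (pullback.diagonal h).isOpenEmbedding.isOpen_range.isClosed_compl

instance isFinite_offDiag_snd : IsFinite ((offDiagOpen h).ι ≫ pullback.snd h h) := inferInstance

instance etale_offDiag_snd : Etale ((offDiagOpen h).ι ≫ pullback.snd h h) := inferInstance

end Diag


section Mod

open Groth.Agent.Lib.AffineBaseChange Groth.Agent.Lib.H90GenericBasis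

/-- for an isomorphism `φ`, `φ_* O ≅ O` -/
noncomputable def pushUnitIsoOfIsIso {U X : Scheme.{u}} (φ : U ⟶ X) [IsIso φ] :
    Coh.structureModule X ≅ (Scheme.Modules.pushforward φ).obj (Coh.structureModule U) := by
  haveI : IsIso (unitOZ φ) := by
    rw [Scheme.Modules.Hom.isIso_iff_isIso_app]
    intro V
    refine (ConcreteCategory.isIso_iff_bijective _).mpr (bijective_unitOZ_app φ V ?_)
    intro x _
    exact ⟨(inv φ) x, by rw [← Scheme.Hom.comp_apply, IsIso.inv_hom_id]; rfl⟩
  exact asIso (unitOZ φ)

variable {X Y : Scheme.{u}} (h : X ⟶ Y) [IsFinite h] [Etale h]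

/-- the complement of the diagonal, as a finite étale cover of `X` -/
noncomputable abbrev offDiag : Scheme.{u} := (offDiagOpen h : Scheme.{u})

/-- the projection of the complement of the diagonal -/
noncomputable abbrev offDiagMap : offDiag h ⟶ X := (offDiagOpen h).ι ≫ pullback.snd h h

/-- `h^* h_* O_X ≅ snd_* O_{X ×_Y X}` (affine base change) -/
noncomputable def baseIso :
    (Scheme.Modules.pullback h).obj ((Scheme.Modules.pushforward h).obj (Coh.structureModule X)) ≅
      (Scheme.Modules.pushforward (pullback.snd h h)).obj (Coh.structureModule (pullback h h)) := by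
  haveI := isQuasicoherent_structureModule X
  haveI := isIso_uMap h h (pullback.fst h h) (pullback.snd h h) (IsPullback.of_hasPullback h h)
    (Coh.structureModule X)
  exact asIso (uMap h h (pullback.fst h h) (pullback.snd h h) (IsPullback.of_hasPullback h h)
    (Coh.structureModule X)) ≪≫
    (Scheme.Modules.pushforward (pullback.snd h h)).mapIso
      (Groth.Agent.Lib.H78PullSec.unitIso (pullback.fst h h))

/-- `(p|_U)_* (O_Z|_U) ≅ (p|_U)_* O_U` -/
noncomputable def resPushUnitIso {Z X : Scheme.{u}} (p : Z ⟶ X) (U : Z.Opens) :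
    resPush p U (Coh.structureModule Z) ≅
      (Scheme.Modules.pushforward (U.ι ≫ p)).obj (Coh.structureModule (U : Scheme.{u})) :=
  (Scheme.Modules.pushforward (U.ι ≫ p)).mapIso (Scheme.Modules.restrictUnitIso U.ι)

/-- **`h^* h_* O_X ≅ O_X ⊞ q_* O_W`** for `h` finite étale, `W` the complement of the diagonal in `X ×_Y X` -/
noncomputable def pullPushIso :
    (Scheme.Modules.pullback h).obj ((Scheme.Modules.pushforward h).obj (Coh.structureModule X)) ≅
      Coh.structureModule X ⊞
        (Scheme.Modules.pushforward (offDiagMap h)).obj (Coh.structureModule (offDiag h)) := by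
  haveI := isIso_decompHom (pullback.snd h h) (Coh.structureModule (pullback h h)) (diagOpen h)
    (offDiagOpen h) (diag_inf_offDiag h) (diag_sup_offDiag h)
  exact baseIso h ≪≫
    asIso (decompHom (pullback.snd h h) (Coh.structureModule (pullback h h)) (diagOpen h) (offDiagOpen h)) ≪≫
    biprod.mapIso
      (resPushUnitIso (pullback.snd h h) (diagOpen h) ≪≫
        (pushUnitIsoOfIsIso ((diagOpen h).ι ≫ pullback.snd h h)).symm)
      (resPushUnitIso (pullback.snd h h) (offDiagOpen h))

end Mod

end Groth.Agent.Lib.EtDeg42
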