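import Mathlib
import Groth.Agent.Lib.ColimTensor96
import Groth.Agent.Lib.H72PullbackDescent

/-!
# Descending zero / surjective / bijective through weak filtered colimits of algebras (helper72)

`hW : IsWeakColimAlg G g` (helper96) a weak filtered colimit system of `R`-algebras `G i → A`,
`u : P →ₗ[R] Q` a linear map.
* `exists_lTensor_eq_zero`: `P` finite, `A ⊗ u = 0` ⟹ `G i ⊗ u = 0` for some `i` and all later stages.
* `exists_lTensor_surjective`: `Q` finite, `A ⊗ u` surjective ⟹ `G i ⊗ u` surjective for some `i` and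
  all later stages.
* `exists_lTensor_bijective`: `P` finite, `Q` finitely presented, `A ⊗ u` bijective ⟹ `G i ⊗ u`
  bijective for some `i` and all later stages.
-/

set_option autoImplicit false
set_option linter.style.haveILetI false
universe u

open TensorProduct

namespace Groth.Agent.Lib.H72LimAlg

open Groth.Agent.Lib.ColimTensor96

variable {R : Type*} [CommRing R] {ι : Type*} {G : ι → Type*} [∀ i, CommRing (G i)]
  [∀ i, Algebra R (G i)] {A : Type*} [CommRing A] [Algebra R A] {g : ∀ i, G i →ₐ[R] A}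
  {P Q : Type*} [AddCommGroup P] [Module R P] [AddCommGroup Q] [Module R Q] (u : P →ₗ[R] Q)

/-- naturality of `lTensor` w.r.t. change of the algebra -/
theorem lTensor_rTensor {L L' : Type*} [CommRing L] [Algebra R L] [CommRing L'] [Algebra R L']
    (h : L →ₐ[R] L') (z : L ⊗[R] P) :
    u.lTensor L' (h.toLinearMap.rTensor P z) = h.toLinearMap.rTensor Q (u.lTensor L z) := by
  rw [← LinearMap.comp_apply, ← LinearMap.comp_apply, LinearMap.lTensor_comp_rTensor,
    LinearMap.rTensor_comp_lTensor]

theorem lTensor_eq_zero_of_span {L : Type*} [CommRing L] [Algebra R L] (S : Set P)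
    (hS : Submodule.span R S = ⊤) (h : ∀ p ∈ S, (1 : L) ⊗ₜ[R] u p = 0) : u.lTensor L = 0 := by
  refine TensorProduct.ext' fun t p => ?_
  rw [LinearMap.lTensor_tmul, LinearMap.zero_apply]
  have hp : p ∈ Submodule.span R S := by rw [hS]; trivial
  induction hp using Submodule.span_induction with
  | mem x hx =>
    have : t ⊗ₜ[R] u x = t • ((1 : L) ⊗ₜ[R] u x) := by
      rw [TensorProduct.smul_tmul', smul_eq_mul, mul_one]
    rw [this, h x hx, smul_zero]
  | zero => rw [map_zero, TensorProduct.tmul_zero]
  | add x y _ _ hx hy => rw [map_add, TensorProduct.tmul_add, hx, hy, add_zero]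
  | smul r x _ hx => rw [map_smul, TensorProduct.tmul_smul, hx, smul_zero]

/-- **Zero descends to a finite stage.** -/
theorem exists_lTensor_eq_zero (hW : IsWeakColimAlg G g) [Module.Finite R P]
    (h0 : u.lTensor A = 0) :
    ∃ i : ι, ∀ (j : ι) (_ : G i →ₐ[R] G j), u.lTensor (G j) = 0 := by
  classical
  obtain ⟨S, hS⟩ := (Module.finite_def.mp ‹Module.Finite R P›)
  obtain ⟨i₀⟩ := hW.nonempty
  have hT : ∀ z ∈ S.image (fun p => (1 : G i₀) ⊗ₜ[R] u p),
      (g i₀).toLinearMap.rTensor Q z = 0 := by
    intro z hz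
    obtain ⟨p, -, rfl⟩ := Finset.mem_image.mp hz
    rw [LinearMap.rTensor_tmul, AlgHom.toLinearMap_apply, map_one]
    have := congrArg (fun f => f ((1 : A) ⊗ₜ[R] p)) h0
    simpa using this
  obtain ⟨i, h, -, hk⟩ := hW.kill_rTensor_finset Q i₀ _ hT
  refine ⟨i, fun j h' => lTensor_eq_zero_of_span u (S : Set P) hS fun p hp => ?_⟩
  have h1 := hk _ (Finset.mem_image_of_mem _ hp)
  rw [LinearMap.rTensor_tmul, AlgHom.toLinearMap_apply, map_one] at h1
  have h2 := congrArg (h'.toLinearMap.rTensor Q) h1
  rw [LinearMap.rTensor_tmul, AlgHom.toLinearMap_apply, map_one, map_zero] at h2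
  exact h2

/-- the range of `L ⊗ u` is everything as soon as it contains the `1 ⊗ q`, `q` in a spanning set -/
theorem lTensor_surjective_of_span {L : Type*} [CommRing L] [Algebra R L] (S : Set Q)
    (hS : Submodule.span R S = ⊤)
    (h : ∀ q ∈ S, (1 : L) ⊗ₜ[R] q ∈ LinearMap.range (u.lTensor L)) :
    Function.Surjective (u.lTensor L) := by
  have hr : ∀ z, z ∈ LinearMap.range (u.baseChange L) ↔ z ∈ LinearMap.range (u.lTensor L) := by
    intro z; rfl
  intro z
  suffices hz : z ∈ LinearMap.range (u.baseChange L) from (hr z).mp hz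
  induction z using TensorProduct.induction_on with
  | zero => exact zero_mem _
  | tmul t q =>
    have hq : q ∈ Submodule.span R S := by rw [hS]; trivial
    induction hq using Submodule.span_induction with
    | mem x hx =>
      have : t ⊗ₜ[R] x = t • ((1 : L) ⊗ₜ[R] x) := by
        rw [TensorProduct.smul_tmul', smul_eq_mul, mul_one]
      rw [this]
      exact Submodule.smul_mem _ _ ((hr _).mpr (h x hx))
    | zero => rw [TensorProduct.tmul_zero]; exact zero_mem _
    | add x y _ _ hx hy => rw [TensorProduct.tmul_add]; exact add_mem hx hy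
    | smul r x _ hx =>
      rw [TensorProduct.tmul_smul]
      have : r • t ⊗ₜ[R] x = (algebraMap R L r) • (t ⊗ₜ[R] x) := by
        rw [algebraMap_smul]
      rw [this]
      exact Submodule.smul_mem _ _ hx
  | add x y hx hy => exact add_mem hx hy

/-- `1 ⊗ q` is in the range at stage `i`. -/
def Good (i : ι) (q : Q) : Prop := (1 : G i) ⊗ₜ[R] q ∈ LinearMap.range (u.lTensor (G i))

theorem Good.mono {i j : ι} {q : Q} (hq : Good (G := G) u i q) (h : G i →ₐ[R] G j) :
    Good (G := G) u j q := by
  obtain ⟨z, hz⟩ := hq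
  refine ⟨h.toLinearMap.rTensor P z, ?_⟩
  rw [lTensor_rTensor, hz, LinearMap.rTensor_tmul, AlgHom.toLinearMap_apply, map_one]

theorem exists_good (hW : IsWeakColimAlg G g) (hs : Function.Surjective (u.lTensor A)) (q : Q) :
    ∃ i, Good (G := G) u i q := by
  obtain ⟨w, hw⟩ := hs ((1 : A) ⊗ₜ[R] q)
  obtain ⟨i, z, hz⟩ := hW.lift_rTensor P w
  have h0 : (g i).toLinearMap.rTensor Q (u.lTensor (G i) z - (1 : G i) ⊗ₜ[R] q) = 0 := by
    rw [map_sub, ← lTensor_rTensor, hz, hw, LinearMap.rTensor_tmul, AlgHom.toLinearMap_apply,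
      map_one, sub_self]
  obtain ⟨j, h, -, hk⟩ := hW.kill_rTensor Q i _ h0
  refine ⟨j, h.toLinearMap.rTensor P z, ?_⟩
  rw [map_sub, sub_eq_zero, LinearMap.rTensor_tmul, AlgHom.toLinearMap_apply, map_one] at hk
  rw [lTensor_rTensor, hk]

theorem exists_good_finset (hW : IsWeakColimAlg G g) (hs : Function.Surjective (u.lTensor A))
    (S : Finset Q) : ∃ i, ∀ q ∈ S, Good (G := G) u i q := by
  classical
  induction S using Finset.induction_on with
  | empty => exact ⟨hW.nonempty.some, by simp⟩
  | insert a T _ ih =>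
    obtain ⟨i, hi⟩ := ih
    obtain ⟨i', hi'⟩ := exists_good u hW hs a
    obtain ⟨j, h, h', -, -⟩ := hW.dir i i'
    refine ⟨j, fun q hq => ?_⟩
    rcases Finset.mem_insert.mp hq with rfl | hq
    · exact hi'.mono u h'
    · exact (hi q hq).mono u h

/-- **Surjectivity descends to a finite stage.** -/
theorem exists_lTensor_surjective (hW : IsWeakColimAlg G g) [Module.Finite R Q]
    (hs : Function.Surjective (u.lTensor A)) :
    ∃ i : ι, ∀ (j : ι) (_ : G i →ₐ[R] G j), Function.Surjective (u.lTensor (G j)) := by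
  obtain ⟨S, hS⟩ := (Module.finite_def.mp ‹Module.Finite R Q›)
  obtain ⟨i, hi⟩ := exists_good_finset u hW hs S
  exact ⟨i, fun j h => lTensor_surjective_of_span u (S : Set Q) hS
    fun q hq => (hi q hq).mono u h⟩

section Bij

variable {L₁ L : Type*} [CommRing L₁] [Algebra R L₁] [CommRing L] [Algebra R L]

set_option maxHeartbeats 800000 in
/-- Key step for injectivity: if `L₁ ⊗ u` is surjective and its kernel is generated over `L₁` by
elements killed by `h ⊗ P`, then `L ⊗ u` is injective. -/
theorem lTensor_injective_of_kill (h : L₁ →ₐ[R] L) (hs : Function.Surjective (u.lTensor L₁))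
    (S : Set (L₁ ⊗[R] P)) (hS : Submodule.span L₁ S = LinearMap.ker (u.baseChange L₁))
    (hk : ∀ κ ∈ S, h.toLinearMap.rTensor P κ = 0) : Function.Injective (u.lTensor L) := by
  letI : Algebra L₁ L := h.toRingHom.toAlgebra
  haveI : IsScalarTower R L₁ L := IsScalarTower.of_algebraMap_eq (fun r => (h.commutes r).symm)
  let τP : L₁ ⊗[R] P →ₗ[L₁] L ⊗[R] P :=
    TensorProduct.AlgebraTensorModule.map (Algebra.linearMap L₁ L) (LinearMap.id : P →ₗ[R] P)
  let τQ : L₁ ⊗[R] Q →ₗ[L₁] L ⊗[R] Q :=
    TensorProduct.AlgebraTensorModule.map (Algebra.linearMap L₁ L) (LinearMap.id : Q →ₗ[R] Q)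
  have hτP : IsBaseChange L τP := by
    refine IsBaseChange.of_comp (TensorProduct.isBaseChange R P L₁) ?_
    have : ((τP : L₁ ⊗[R] P →ₗ[R] L ⊗[R] P) ∘ₗ (TensorProduct.mk R L₁ P 1)) =
        TensorProduct.mk R L P 1 := by
      ext p
      simp [τP]
    rw [this]
    exact TensorProduct.isBaseChange R P L
  have hτQ : IsBaseChange L τQ := by
    refine IsBaseChange.of_comp (TensorProduct.isBaseChange R Q L₁) ?_
    have : ((τQ : L₁ ⊗[R] Q →ₗ[R] L ⊗[R] Q) ∘ₗ (TensorProduct.mk R L₁ Q 1)) =
        TensorProduct.mk R L Q 1 := by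
      ext p
      simp [τQ]
    rw [this]
    exact TensorProduct.isBaseChange R Q L
  have hτP_eq : ∀ z, τP z = h.toLinearMap.rTensor P z := by
    intro z
    induction z using TensorProduct.induction_on with
    | zero => simp
    | tmul t p => simp [τP]; rfl
    | add x y hx hy => rw [map_add, map_add, hx, hy]
  have hnat : ∀ m, τQ (u.baseChange L₁ m) = u.baseChange L (τP m) := by
    intro m
    induction m using TensorProduct.induction_on with
    | zero => simp
    | tmul t p => simp [τP, τQ]
    | add x y hx hy => rw [map_add, map_add, map_add, map_add, hx, hy]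
  have key := (Groth.Agent.Lib.H72PullbackDescent.BCNat.injective_iff_lTensor τP τQ hτP hτQ
    (u.baseChange L₁) (u.baseChange L) hnat)
  have hgoal : Function.Injective (u.baseChange L) := by
    rw [key]
    have hex : Function.Exact (LinearMap.ker (u.baseChange L₁)).subtype (u.baseChange L₁) :=
      LinearMap.exact_subtype_ker_map _
    have hex' := lTensor_exact (R := L₁) (M := LinearMap.ker (u.baseChange L₁))
      (N := L₁ ⊗[R] P) (P := L₁ ⊗[R] Q) (f := (LinearMap.ker (u.baseChange L₁)).subtype)
      (g := u.baseChange L₁) L hex (show Function.Surjective (u.baseChange L₁) from hs)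
    have hspan : ∀ x ∈ Submodule.span L₁ S, τP x = 0 := by
      intro x hx
      induction hx using Submodule.span_induction with
      | mem x hx => rw [hτP_eq]; exact hk x hx
      | zero => exact map_zero _
      | add x y _ _ hx hy => rw [map_add, hx, hy, add_zero]
      | smul r x _ hx => rw [map_smul, hx, smul_zero]
    have hK : ∀ κ : LinearMap.ker (u.baseChange L₁), τP κ.1 = 0 := by
      rintro ⟨κ, hκ⟩
      exact hspan κ (by rw [hS]; exact hκ)
    have hzero : ∀ k : L ⊗[L₁] (LinearMap.ker (u.baseChange L₁)),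
        (LinearMap.ker (u.baseChange L₁)).subtype.lTensor L k = 0 := by
      intro k
      induction k using TensorProduct.induction_on with
      | zero => simp
      | tmul t κ =>
        apply hτP.equiv.injective
        rw [LinearMap.lTensor_tmul, IsBaseChange.equiv_tmul, map_zero]
        change t • τP κ.1 = 0
        rw [hK, smul_zero]
      | add x y hx hy => rw [map_add, hx, hy, add_zero]
    rw [injective_iff_map_eq_zero]
    intro y hy
    obtain ⟨k, rfl⟩ := (hex' y).mp hy
    exact hzero k
  exact hgoal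

/-- **Bijectivity descends to a finite stage.** -/
theorem exists_lTensor_bijective (hW : IsWeakColimAlg G g) [Module.Finite R P]
    [Module.FinitePresentation R Q] (hb : Function.Bijective (u.lTensor A)) :
    ∃ i : ι, ∀ (j : ι) (_ : G i →ₐ[R] G j), Function.Bijective (u.lTensor (G j)) := by
  classical
  obtain ⟨i₁, hi₁⟩ := exists_lTensor_surjective u hW hb.2
  have hs₁ : Function.Surjective (u.lTensor (G i₁)) := hi₁ i₁ (AlgHom.id R _)
  have hfg : (LinearMap.ker (u.baseChange (G i₁))).FG :=
    Module.FinitePresentation.fg_ker (u.baseChange (G i₁)) hs₁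
  obtain ⟨S, hS⟩ := hfg
  have hT : ∀ κ ∈ S, (g i₁).toLinearMap.rTensor P κ = 0 := by
    intro κ hκ
    have hκ' : u.baseChange (G i₁) κ = 0 := by
      have : κ ∈ Submodule.span (G i₁) (S : Set (G i₁ ⊗[R] P)) := Submodule.subset_span hκ
      rw [hS] at this
      exact this
    apply hb.1
    rw [map_zero, lTensor_rTensor]
    have : u.lTensor (G i₁) κ = 0 := hκ'
    rw [this, map_zero]
  obtain ⟨i₂, h₂, -, hk₂⟩ := hW.kill_rTensor_finset P i₁ S hT
  refine ⟨i₂, fun j h' => ⟨?_, hi₁ j (h'.comp h₂)⟩⟩
  refine lTensor_injective_of_kill u (h'.comp h₂) hs₁ (S : Set (G i₁ ⊗[R] P)) hS fun κ hκ => ?_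
  rw [AlgHom.comp_toLinearMap, LinearMap.rTensor_comp, LinearMap.comp_apply, hk₂ κ hκ, map_zero]

end Bij

end Groth.Agent.Lib.H72LimAlg
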