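import Mathlib
import Groth.Agent.Lib.ColimTensor96
import Groth.Agent.Lib.H72LimAlg

/-!
# Homomorphisms out of finitely presented modules and weak filtered colimits of algebras (helper72)

`hW : IsWeakColimAlg G g` (helper96): a weak filtered colimit system of `R`-algebras `G i → A`.

* `lift_rTensor_fun` : a finite family of elements of `A ⊗ N` comes from one stage;
* `exists_hom_eq_later` : `M` finite, two `R`-linear maps `M → G i ⊗ N` that agree in `A ⊗ N` agree at a
  later stage;
* `exists_hom_lift` : `M` finitely presented, every `R`-linear `M → A ⊗ N` lifts to some `G i ⊗ N`;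
* `exists_projective` : `M` finitely presented with `A ⊗ M` projective over `A` ⟹ `G j ⊗ M` projective
  over `G j` for all sufficiently late `j`.
-/

set_option autoImplicit false
set_option linter.style.haveILetI false
universe u

open TensorProduct

namespace Groth.Agent.Lib.H72LimHomAlg

open Groth.Agent.Lib.ColimTensor96

variable {R : Type*} [CommRing R] {ι : Type*} {G : ι → Type*} [∀ i, CommRing (G i)]
  [∀ i, Algebra R (G i)] {A : Type*} [CommRing A] [Algebra R A] {g : ∀ i, G i →ₐ[R] A}
  {M N : Type*} [AddCommGroup M] [Module R M] [AddCommGroup N] [Module R N]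

/-- A finite family of elements of `A ⊗ N` comes from one stage. -/
theorem lift_rTensor_finset (hW : IsWeakColimAlg G g) (T : Finset (A ⊗[R] N)) :
    ∃ (i : ι), ∀ w ∈ T, ∃ z : G i ⊗[R] N, (g i).toLinearMap.rTensor N z = w := by
  classical
  induction T using Finset.induction_on with
  | empty => exact ⟨hW.nonempty.some, by simp⟩
  | insert a T _ ih =>
    obtain ⟨i, hi⟩ := ih
    obtain ⟨i', z', hz'⟩ := hW.lift_rTensor N a
    obtain ⟨j, h, h', hh, hh'⟩ := hW.dir i i'
    refine ⟨j, fun w hw => ?_⟩
    rcases Finset.mem_insert.mp hw with rfl | hw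
    · exact ⟨h'.toLinearMap.rTensor N z', by rw [rTensor_comp_eq hh', hz']⟩
    · obtain ⟨z, hz⟩ := hi w hw
      exact ⟨h.toLinearMap.rTensor N z, by rw [rTensor_comp_eq hh, hz]⟩

theorem lift_rTensor_fun (hW : IsWeakColimAlg G g) {κ : Type*} [Finite κ] (w : κ → A ⊗[R] N) :
    ∃ (i : ι) (z : κ → G i ⊗[R] N), ∀ t, (g i).toLinearMap.rTensor N (z t) = w t := by
  classical
  have := Fintype.ofFinite κ
  obtain ⟨i, hi⟩ := lift_rTensor_finset hW (Finset.univ.image w)
  choose z hz using fun t => hi (w t) (Finset.mem_image_of_mem w (Finset.mem_univ t))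
  exact ⟨i, z, hz⟩

/-- Two maps out of a finite module which agree in the colimit agree at a later stage. -/
theorem exists_hom_eq_later (hW : IsWeakColimAlg G g) [Module.Finite R M] {i : ι}
    (v v' : M →ₗ[R] G i ⊗[R] N)
    (h : ∀ m, (g i).toLinearMap.rTensor N (v m) = (g i).toLinearMap.rTensor N (v' m)) :
    ∃ (j : ι) (h : G i →ₐ[R] G j), (g j).comp h = g i ∧
      ∀ m, h.toLinearMap.rTensor N (v m) = h.toLinearMap.rTensor N (v' m) := by
  classical
  obtain ⟨S, hS⟩ := (Module.finite_def.mp ‹Module.Finite R M›)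
  obtain ⟨j, hj, hc, hk⟩ := hW.kill_rTensor_finset N i (S.image fun m => v m - v' m) (by
    intro z hz
    obtain ⟨m, -, rfl⟩ := Finset.mem_image.mp hz
    rw [map_sub, h m, sub_self])
  refine ⟨j, hj, hc, fun m => ?_⟩
  have hm : m ∈ Submodule.span R (S : Set M) := by rw [hS]; trivial
  induction hm using Submodule.span_induction with
  | mem x hx =>
    have := hk _ (Finset.mem_image_of_mem _ hx)
    rwa [map_sub, sub_eq_zero] at this
  | zero => simp
  | add x y _ _ hx hy => simp only [map_add, hx, hy]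
  | smul r x _ hx => simp only [map_smul, hx]

/-- **Homomorphisms out of a finitely presented module lift to a finite stage.** -/
theorem exists_hom_lift (hW : IsWeakColimAlg G g) [Module.FinitePresentation R M]
    (v : M →ₗ[R] A ⊗[R] N) :
    ∃ (i : ι) (vi : M →ₗ[R] G i ⊗[R] N), ∀ m, (g i).toLinearMap.rTensor N (vi m) = v m := by
  classical
  obtain ⟨n, m, f, r, hf, hex⟩ := Module.FinitePresentation.exists_fin' R M
  obtain ⟨i, z, hz⟩ := lift_rTensor_fun hW (fun k : Fin n => v (f (Pi.single k 1)))
  let ui : (Fin n → R) →ₗ[R] G i ⊗[R] N := (Pi.basisFun R (Fin n)).constr R z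
  have hui : ∀ x, (g i).toLinearMap.rTensor N (ui x) = v (f x) := by
    intro x
    have : ((g i).toLinearMap.rTensor N) ∘ₗ ui = v ∘ₗ f := by
      apply (Pi.basisFun R (Fin n)).ext
      intro k
      rw [LinearMap.comp_apply, LinearMap.comp_apply]
      change (g i).toLinearMap.rTensor N
        ((Pi.basisFun R (Fin n)).constr R z (Pi.basisFun R (Fin n) k)) = _
      rw [Module.Basis.constr_basis, hz, Pi.basisFun_apply]
    exact congrArg (fun l => l x) this
  obtain ⟨j, h, hc, hk⟩ := hW.kill_rTensor_finset N i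
    (Finset.univ.image fun l : Fin m => ui (r (Pi.single l 1))) (by
      intro y hy
      obtain ⟨l, -, rfl⟩ := Finset.mem_image.mp hy
      rw [hui, hex.apply_apply_eq_zero, map_zero])
  let uj : (Fin n → R) →ₗ[R] G j ⊗[R] N := (h.toLinearMap.rTensor N) ∘ₗ ui
  have hujr : uj ∘ₗ r = 0 := by
    apply (Pi.basisFun R (Fin m)).ext
    intro l
    simp only [LinearMap.comp_apply, uj, Pi.basisFun_apply, LinearMap.zero_apply]
    exact hk _ (Finset.mem_image_of_mem _ (Finset.mem_univ l))
  have hle : LinearMap.ker f ≤ LinearMap.ker uj := by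
    intro x hx
    obtain ⟨y, rfl⟩ := (hex x).mp hx
    exact congrArg (fun l => l y) hujr
  let vj : M →ₗ[R] G j ⊗[R] N :=
    (LinearMap.ker f).liftQ uj hle ∘ₗ (f.quotKerEquivOfSurjective hf).symm.toLinearMap
  refine ⟨j, vj, fun y => ?_⟩
  obtain ⟨x, rfl⟩ := hf y
  have hx : (f.quotKerEquivOfSurjective hf).symm (f x) = Submodule.Quotient.mk x := by
    rw [LinearEquiv.symm_apply_eq]; rfl
  simp only [vj, LinearMap.comp_apply, LinearEquiv.coe_coe, hx, Submodule.liftQ_apply, uj]
  rw [rTensor_comp_eq hc, hui]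

/-- **Projectivity descends to a finite stage.** -/
theorem exists_projective (hW : IsWeakColimAlg G g) [Module.FinitePresentation R M]
    [Module.Projective A (A ⊗[R] M)] :
    ∃ i : ι, ∀ (j : ι) (_ : G i →ₐ[R] G j), Module.Projective (G j) (G j ⊗[R] M) := by
  classical
  obtain ⟨n, f, hf⟩ := Module.Finite.exists_fin' R M
  have hpA : Function.Surjective (f.baseChange A) := LinearMap.lTensor_surjective A hf
  obtain ⟨s, hs⟩ := Module.projective_lifting_property (f.baseChange A) LinearMap.id hpA
  let v : M →ₗ[R] A ⊗[R] (Fin n → R) := (s.restrictScalars R) ∘ₗ (TensorProduct.mk R A M 1)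
  obtain ⟨i, vi, hvi⟩ := exists_hom_lift hW v
  have hagree : ∀ m, (g i).toLinearMap.rTensor M ((f.lTensor (G i) ∘ₗ vi) m) =
      (g i).toLinearMap.rTensor M (TensorProduct.mk R (G i) M 1 m) := by
    intro m
    rw [LinearMap.comp_apply, ← Groth.Agent.Lib.H72LimAlg.lTensor_rTensor, hvi]
    have h1 : f.lTensor A (v m) = (1 : A) ⊗ₜ[R] m := by
      have := congrArg (fun l => l ((1 : A) ⊗ₜ[R] m)) hs
      simp only [LinearMap.comp_apply, LinearMap.id_apply] at this
      exact this
    rw [h1]
    simp
  obtain ⟨j, h, -, hk⟩ := exists_hom_eq_later hW (f.lTensor (G i) ∘ₗ vi)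
    (TensorProduct.mk R (G i) M 1) hagree
  refine ⟨j, fun k h' => ?_⟩
  let vk : M →ₗ[R] G k ⊗[R] (Fin n → R) :=
    ((h'.comp h).toLinearMap.rTensor (Fin n → R)) ∘ₗ vi
  have hvk : ∀ m, f.lTensor (G k) (vk m) = (1 : G k) ⊗ₜ[R] m := by
    intro m
    simp only [vk, LinearMap.comp_apply]
    rw [Groth.Agent.Lib.H72LimAlg.lTensor_rTensor, AlgHom.comp_toLinearMap, LinearMap.rTensor_comp,
      LinearMap.comp_apply]
    have := hk m
    rw [LinearMap.comp_apply] at this
    rw [this]
    simp
  let sk : G k ⊗[R] M →ₗ[G k] G k ⊗[R] (Fin n → R) := vk.liftBaseChange (G k)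
  refine Module.Projective.of_split sk (f.baseChange (G k)) ?_
  apply TensorProduct.AlgebraTensorModule.ext
  intro a m
  simp only [LinearMap.comp_apply, sk, LinearMap.liftBaseChange_tmul, map_smul, LinearMap.id_apply]
  have : f.baseChange (G k) (vk m) = f.lTensor (G k) (vk m) := rfl
  rw [this, hvk, TensorProduct.smul_tmul', smul_eq_mul, mul_one]

end Groth.Agent.Lib.H72LimHomAlg
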