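import Groth.Prelude.Def_FlatFun
import Mathlib.AlgebraicGeometry.Sites.Fpqc
import Mathlib.CategoryTheory.Sites.PrecoverageToGrothendieck
import Mathlib.CategoryTheory.Sites.Over

/-!
# helper72: sheaf property of `FlatFun.genPSp S P`

`isSheaf_genPSp`: for a precoverage `K` (stable under composition and base change, with isos) and a
condition `P` on schemes over `S` which is stable under morphisms over `S` and descends along
`K`-coverings, the sub-presheaf `FlatFun.genPSp S P` of the final presheaf is a sheaf for
`QuotSh.J K S`.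
-/

set_option autoImplicit false
universe u

namespace Groth.Agent.Lib.H72GenPSpSheaf

open CategoryTheory CategoryTheory.Limits AlgebraicGeometry Opposite

theorem isSheaf_genPSp {S : Scheme.{u}} (K : Precoverage Scheme.{u})
    [K.IsStableUnderComposition] [K.IsStableUnderBaseChange] [K.HasIsos]
    (P : Over S → Prop)
    (stab : ∀ ⦃T T₀ : Over S⦄ (_ : T ⟶ T₀), P T₀ → P T)
    (desc : ∀ (T : Over S) (R : Presieve T.left), R ∈ K T.left →
      (∀ ⦃Z : Scheme.{u}⦄ (g : Z ⟶ T.left), R g → P (Over.mk (g ≫ T.hom))) → P T) :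
    Presheaf.IsSheaf (QuotSh.J K S) (FlatFun.genPSp S P) := by
  rw [isSheaf_iff_isSheaf_of_type]
  intro T R hR
  rw [GrothendieckTopology.mem_over_iff,
    Precoverage.mem_toGrothendieck_iff_of_isStableUnderComposition] at hR
  obtain ⟨R', hR', hle⟩ := hR
  intro x hx
  have hPT : P T := by
    refine desc T R' hR' fun Z g hg => ?_
    have h1 : (Sieve.overEquiv T R).arrows g := hle Z g hg
    rw [Sieve.overEquiv_iff] at h1
    have h2 := x _ h1
    exact (FlatFun.genPSp_nonempty_iff_of_stable P stab _).mp ⟨h2⟩
  obtain ⟨t⟩ := FlatFun.genPSp_nonempty_of P hPT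
  refine ⟨t, fun Z g hg => Subsingleton.elim _ _, fun y _ => Subsingleton.elim _ _⟩

end Groth.Agent.Lib.H72GenPSpSheaf
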