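import Groth.Agent.Lib.H72PullbackDescent
import Groth.Agent.Lib.H72GenPSpSheaf
import Groth.Agent.Lib.H72FlatBaseChange2
import Groth.Prelude.Def_FGA

/-!
# helper72: fpqc descent for conditions on the base changes `u_T` of a morphism `u : F ⟶ G` of
quasi-coherent modules on `X` over `S`, along `X_T = X ×_S T → X`

* `isPullback_XTmap f k`: the square `X_{T'} → X_T`, `T' → T` is cartesian.
* `map_XTmap_sq u k`: `(X_k)^*(u_T)` is `u_{T'}` up to the canonical isomorphisms `FGA.ETiso`.
* `stab_*`, `desc_*`: stability under base change and fpqc descent for `IsIso`, `Epi`, `Mono`, `= 0`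
  of `u_T`.
-/

set_option autoImplicit false
set_option linter.style.haveILetI false
universe u

namespace Groth.Agent.Lib.H72FpqcDescent

open CategoryTheory CategoryTheory.Limits AlgebraicGeometry Opposite

section NatIso

variable {C D : Type*} [Category C] [Category D] {F F' : C ⥤ D} (α : F ≅ F') {A B : C} (u : A ⟶ B)

theorem map_eq_of_natIso : F'.map u = α.inv.app A ≫ F.map u ≫ α.hom.app B := by
  rw [α.hom.naturality, Iso.inv_hom_id_app_assoc]

include α in
theorem isIso_map_of_natIso (h : IsIso (F.map u)) : IsIso (F'.map u) := by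
  rw [map_eq_of_natIso α u]; infer_instance

include α in
theorem epi_map_of_natIso (h : Epi (F.map u)) : Epi (F'.map u) := by
  rw [map_eq_of_natIso α u]
  haveI : Epi (F.map u ≫ α.hom.app B) := epi_comp _ _
  exact epi_comp _ _

include α in
theorem mono_map_of_natIso (h : Mono (F.map u)) : Mono (F'.map u) := by
  rw [map_eq_of_natIso α u]
  haveI : Mono (F.map u ≫ α.hom.app B) := mono_comp _ _
  exact mono_comp _ _

include α in
theorem map_eq_zero_of_natIso [HasZeroMorphisms D] (h : F.map u = 0) : F'.map u = 0 := by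
  rw [map_eq_of_natIso α u, h, zero_comp, comp_zero]

end NatIso

variable {X S : Scheme.{u}} (f : X ⟶ S)

/-- The square `X_{T'} ⟶ X_T` over `T' ⟶ T` is cartesian. -/
theorem isPullback_XTmap {T T' : Over S} (k : T' ⟶ T) :
    IsPullback (PicF.XTmap f k) (PicF.XTproj f T') (PicF.XTproj f T) k.left := by
  have hbig : IsPullback (PicF.XTmap f k ≫ pullback.fst f T.hom) (PicF.XTproj f T') f
      (k.left ≫ T.hom) := by
    rw [FGA.XTmap_fst, Over.w k]
    exact IsPullback.of_hasPullback f T'.hom
  refine IsPullback.of_right hbig ?_ (IsPullback.of_hasPullback f T.hom)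
  simp only [PicF.XTmap, pullback.map, pullback.lift_snd]

/-- The natural isomorphism `pullback fst_T ⋙ pullback (X_k) ≅ pullback fst_{T'}`. -/
noncomputable def pullbackXTmapIso {T T' : Over S} (k : T' ⟶ T) :
    Scheme.Modules.pullback (pullback.fst f T.hom) ⋙ Scheme.Modules.pullback (PicF.XTmap f k) ≅
      Scheme.Modules.pullback (pullback.fst f T'.hom) :=
  Scheme.Modules.pullbackComp (PicF.XTmap f k) (pullback.fst f T.hom) ≪≫
    Scheme.Modules.pullbackCongr (FGA.XTmap_fst f k)

theorem flat_XTmap {T T' : Over S} (k : T' ⟶ T) (hk : Flat k.left) : Flat (PicF.XTmap f k) :=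
  MorphismProperty.of_isPullback (P := @Flat) (isPullback_XTmap f k).flip hk

theorem exists_preimage_XTmap {T T' : Over S} (k : T' ⟶ T) (x : PicF.XT f T) (z : T'.left)
    (hz : k.left z = PicF.XTproj f T x) :
    ∃ x' : PicF.XT f T', PicF.XTmap f k x' = x ∧ PicF.XTproj f T' x' = z := by
  obtain ⟨p, h1, h2⟩ := Scheme.exists_preimage_of_isPullback
    (isPullback_XTmap f k).flip z x hz
  exact ⟨p, h2, h1⟩

section Conditions

variable {F G : X.Modules} (u : F ⟶ G)

/-- The base change `u_T` of `u` to `X_T`. -/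
noncomputable abbrev uT (T : Over S) :
    (Scheme.Modules.pullback (pullback.fst f T.hom)).obj F ⟶
      (Scheme.Modules.pullback (pullback.fst f T.hom)).obj G :=
  (Scheme.Modules.pullback (pullback.fst f T.hom)).map u

theorem stab_isIso {T T' : Over S} (k : T' ⟶ T) (h : IsIso (uT f u T)) : IsIso (uT f u T') := by
  refine isIso_map_of_natIso (pullbackXTmapIso f k) u ?_
  change IsIso ((Scheme.Modules.pullback (PicF.XTmap f k)).map (uT f u T))
  infer_instance

theorem stab_epi {T T' : Over S} (k : T' ⟶ T) (h : Epi (uT f u T)) : Epi (uT f u T') := by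
  refine epi_map_of_natIso (pullbackXTmapIso f k) u ?_
  change Epi ((Scheme.Modules.pullback (PicF.XTmap f k)).map (uT f u T))
  infer_instance

theorem stab_zero {T T' : Over S} (k : T' ⟶ T) (h : uT f u T = 0) : uT f u T' = 0 := by
  refine map_eq_zero_of_natIso (pullbackXTmapIso f k) u ?_
  change (Scheme.Modules.pullback (PicF.XTmap f k)).map (uT f u T) = 0
  rw [h, Functor.map_zero]

variable [F.IsQuasicoherent] [G.IsQuasicoherent]

open Groth.Agent.Lib.H72PullbackQCoh Groth.Agent.Lib.H72PullbackDescent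

/-- Flat base change preserves injectivity of `u_T`. -/
theorem stab_mono_of_flat {T T' : Over S} (k : T' ⟶ T) (hk : Flat k.left)
    (h : Mono (uT f u T)) : Mono (uT f u T') := by
  refine mono_map_of_natIso (pullbackXTmapIso f k) u ?_
  change Mono ((Scheme.Modules.pullback (PicF.XTmap f k)).map (uT f u T))
  haveI := flat_XTmap f k hk
  exact mono_pullback_of_flat (PicF.XTmap f k) (uT f u T)

section Desc

variable {ι : Type*} {T : Over S} (Ti : ι → Over S) (k : ∀ i, Ti i ⟶ T)
  (hflat : ∀ i, Flat (k i).left)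
  (hsurj : ∀ t : T.left, ∃ i, ∃ z : (Ti i).left, (k i).left z = t)

include hsurj in
theorem jointly_surjective_XTmap (x : PicF.XT f T) :
    ∃ i, ∃ x' : PicF.XT f (Ti i), PicF.XTmap f (k i) x' = x := by
  obtain ⟨i, z, hz⟩ := hsurj (PicF.XTproj f T x)
  obtain ⟨x', hx', -⟩ := exists_preimage_XTmap f (k i) x z hz
  exact ⟨i, x', hx'⟩

include hflat hsurj in
theorem desc_isIso (h : ∀ i, IsIso (uT f u (Ti i))) : IsIso (uT f u T) := by
  refine isIso_of_forall_isIso_pullback (fun i => PicF.XTmap f (k i))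
    (fun i => flat_XTmap f (k i) (hflat i)) (jointly_surjective_XTmap f Ti k hsurj) (uT f u T)
    (fun i => ?_)
  exact isIso_map_of_natIso (pullbackXTmapIso f (k i)).symm u (h i)

include hflat hsurj in
theorem desc_epi (h : ∀ i, Epi (uT f u (Ti i))) : Epi (uT f u T) := by
  refine epi_of_forall_epi_pullback (fun i => PicF.XTmap f (k i))
    (fun i => flat_XTmap f (k i) (hflat i)) (jointly_surjective_XTmap f Ti k hsurj) (uT f u T)
    (fun i => ?_)
  exact epi_map_of_natIso (pullbackXTmapIso f (k i)).symm u (h i)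

include hflat hsurj in
theorem desc_mono (h : ∀ i, Mono (uT f u (Ti i))) : Mono (uT f u T) := by
  refine mono_of_forall_mono_pullback (fun i => PicF.XTmap f (k i))
    (fun i => flat_XTmap f (k i) (hflat i)) (jointly_surjective_XTmap f Ti k hsurj) (uT f u T)
    (fun i => ?_)
  exact mono_map_of_natIso (pullbackXTmapIso f (k i)).symm u (h i)

include hflat hsurj in
theorem desc_zero (h : ∀ i, uT f u (Ti i) = 0) : uT f u T = 0 := by
  refine eq_zero_of_forall_pullback_eq_zero (fun i => PicF.XTmap f (k i))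
    (fun i => flat_XTmap f (k i) (hflat i)) (jointly_surjective_XTmap f Ti k hsurj) (uT f u T)
    (fun i => ?_)
  exact map_eq_zero_of_natIso (pullbackXTmapIso f (k i)).symm u (h i)

end Desc

section Sheaf

/-- An fpqc covering presieve consists of flat morphisms and is jointly surjective. -/
theorem flat_and_surj_of_mem_fpqcPrecoverage {T : Scheme.{u}} {R : Presieve T}
    (hR : R ∈ Scheme.fpqcPrecoverage T) :
    (∀ ⦃Z : Scheme.{u}⦄ (g : Z ⟶ T), R g → Flat g) ∧
      ∀ t : T, ∃ (Z : Scheme.{u}) (g : Z ⟶ T), R g ∧ ∃ z : Z, g z = t := by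
  have h2 : R ∈ Scheme.precoverage @Flat T := hR.2
  refine ⟨fun Z g hg => h2.2 hg, fun t => ?_⟩
  obtain ⟨Y, g, hg, z, hz⟩ := h2.1 t
  cases hg with
  | of hg' => exact ⟨_, _, hg', z, hz⟩

/-- Descent along an fpqc covering presieve, packaged for `isSheaf_genPSp`. -/
theorem desc_of_presieve (Q : ∀ T : Over S, Prop)
    (hQ : ∀ {ι : Type (u + 1)} {T : Over S} (Ti : ι → Over S) (k : ∀ i, Ti i ⟶ T),
      (∀ i, Flat (k i).left) → (∀ t : T.left, ∃ i, ∃ z : (Ti i).left, (k i).left z = t) →
      (∀ i, Q (Ti i)) → Q T)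
    (T : Over S) (R : Presieve T.left) (hR : R ∈ Scheme.fpqcPrecoverage T.left)
    (h : ∀ ⦃Z : Scheme.{u}⦄ (g : Z ⟶ T.left), R g → Q (Over.mk (g ≫ T.hom))) : Q T := by
  obtain ⟨hfl, hsj⟩ := flat_and_surj_of_mem_fpqcPrecoverage hR
  refine hQ (ι := Σ Z : Scheme.{u}, {g : Z ⟶ T.left // R g})
    (fun i => Over.mk (i.2.1 ≫ T.hom)) (fun i => Over.homMk i.2.1 rfl) (fun i => ?_)
    (fun t => ?_) (fun i => h i.2.1 i.2.2)
  · exact hfl i.2.1 i.2.2
  · obtain ⟨Z, g, hg, z, hz⟩ := hsj t
    exact ⟨⟨Z, g, hg⟩, z, hz⟩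

theorem isSheaf_genPSp_isIso :
    Presheaf.IsSheaf (QuotSh.J Scheme.fpqcPrecoverage S)
      (FlatFun.genPSp S (fun T =>
        IsIso ((Scheme.Modules.pullback (pullback.fst f T.hom)).map u))) :=
  Groth.Agent.Lib.H72GenPSpSheaf.isSheaf_genPSp Scheme.fpqcPrecoverage _
    (fun _ _ k h => stab_isIso f u k h)
    (desc_of_presieve (fun T => IsIso (uT f u T))
      (fun Ti k hflat hsurj h => desc_isIso f u Ti k hflat hsurj h))

theorem isSheaf_genPSp_epi :
    Presheaf.IsSheaf (QuotSh.J Scheme.fpqcPrecoverage S)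
      (FlatFun.genPSp S (fun T =>
        Epi ((Scheme.Modules.pullback (pullback.fst f T.hom)).map u))) :=
  Groth.Agent.Lib.H72GenPSpSheaf.isSheaf_genPSp Scheme.fpqcPrecoverage _
    (fun _ _ k h => stab_epi f u k h)
    (desc_of_presieve (fun T => Epi (uT f u T))
      (fun Ti k hflat hsurj h => desc_epi f u Ti k hflat hsurj h))

theorem isSheaf_genPSp_zero :
    Presheaf.IsSheaf (QuotSh.J Scheme.fpqcPrecoverage S)
      (FlatFun.genPSp S (fun T =>
        (Scheme.Modules.pullback (pullback.fst f T.hom)).map u = 0)) :=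
  Groth.Agent.Lib.H72GenPSpSheaf.isSheaf_genPSp Scheme.fpqcPrecoverage _
    (fun _ _ k h => stab_zero f u k h)
    (desc_of_presieve (fun T => uT f u T = 0)
      (fun Ti k hflat hsurj h => desc_zero f u Ti k hflat hsurj h))

end Sheaf

end Conditions

end Groth.Agent.Lib.H72FpqcDescent
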