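import Mathlib
import Groth.Agent.Lib.H72LimRing
import Groth.Agent.Lib.H72LimAlg
import Groth.Agent.Lib.H72PullbackNat
import Groth.Agent.Lib.H72PullbackDescent
import Groth.Agent.Lib.H90OXModExact
import Groth.Agent.Lib.H90OXModAffineFT
import Groth.Agent.Lib.H90OXModFP
import Groth.Agent.Lib.CohFinite

/-!
# Morphisms of quasi-coherent modules on a cofiltered limit of schemes (helper72)

EGA IV 8.5.2-type statements: `E : J ⥤ Scheme` cofiltered with affine transition maps, `c` a limit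
cone, `j₀ : J` with `E j₀` quasi-compact, `u₀ : F₀ ⟶ G₀` a morphism of quasi-coherent modules on
`E j₀`.  If the pullback of `u₀` to the limit is zero (`F₀` of finite type) / an epimorphism (`G₀` of
finite type) / an isomorphism (`F₀` of finite type, `G₀` of finite presentation), then so is its
pullback to `E j` for some `j → j₀`.
-/

set_option autoImplicit false
set_option linter.style.haveILetI false
universe u

open CategoryTheory Limits AlgebraicGeometry TensorProduct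

namespace Groth.Agent.Lib.H72LimMod

open Groth.Agent.Lib.H72PullbackNat Groth.Agent.Lib.H72PullbackDescent
  Groth.Agent.Lib.ModStalkLin Groth.Agent.Lib.QCohStalk

section Chart

variable {X Y : Scheme.{u}}

/-- **Chart lemma**: over affine opens `U ≤ h⁻¹V`, the map on sections of the pullback of `ψ` is
the base change of the map on sections of `ψ`. -/
theorem chart (h : X ⟶ Y) {G G' : Y.Modules} [G.IsQuasicoherent] [G'.IsQuasicoherent]
    (ψ : G ⟶ G') {U : X.Opens} {V : Y.Opens} (hU : IsAffineOpen U) (hV : IsAffineOpen V)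
    (hUV : U ≤ h ⁻¹ᵁ V) :
    letI : Algebra Γ(Y, V) Γ(X, U) := (h.appLE V U hUV).hom.toAlgebra
    ((secModMap ((Scheme.Modules.pullback h).map ψ) U).hom = 0 ↔
      (secModMap ψ V).hom.lTensor Γ(X, U) = 0) ∧
    (Function.Surjective (secModMap ((Scheme.Modules.pullback h).map ψ) U).hom ↔
      Function.Surjective ((secModMap ψ V).hom.lTensor Γ(X, U))) ∧
    (Function.Injective (secModMap ((Scheme.Modules.pullback h).map ψ) U).hom ↔
      Function.Injective ((secModMap ψ V).hom.lTensor Γ(X, U))) := by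
  letI : Algebra Γ(Y, V) Γ(X, U) := (h.appLE V U hUV).hom.toAlgebra
  letI : Module Γ(Y, V) Γ((Scheme.Modules.pullback h).obj G, U) :=
    Module.compHom _ (h.appLE V U hUV).hom
  haveI : IsScalarTower Γ(Y, V) Γ(X, U) Γ((Scheme.Modules.pullback h).obj G, U) :=
    .of_algebraMap_smul fun _ _ => rfl
  letI : Module Γ(Y, V) Γ((Scheme.Modules.pullback h).obj G', U) :=
    Module.compHom _ (h.appLE V U hUV).hom
  haveI : IsScalarTower Γ(Y, V) Γ(X, U) Γ((Scheme.Modules.pullback h).obj G', U) :=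
    .of_algebraMap_smul fun _ _ => rfl
  obtain ⟨θ, hθ, hθe⟩ := exists_isBaseChange_sections' h G hU hV hUV
  obtain ⟨θ', hθ', hθe'⟩ := exists_isBaseChange_sections' h G' hU hV hUV
  have hnat : ∀ m, θ' ((secModMap ψ V).hom m) =
      (secModMap ((Scheme.Modules.pullback h).map ψ) U).hom (θ m) := by
    intro m
    rw [hθe', hθe, secModMap_apply, secModMap_apply]
    exact thetaFun_naturality h ψ hU hV hUV m
  exact ⟨BCNat.zero_iff_lTensor θ θ' hθ hθ' _ _ hnat,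
    BCNat.surjective_iff_lTensor θ θ' hθ hθ' _ _ hnat,
    BCNat.injective_iff_lTensor θ θ' hθ hθ' _ _ hnat⟩

end Chart

section Cover

variable {X : Scheme.{u}} {M N : X.Modules} (φ : M ⟶ N) {ι : Type*} (Ω : ι → X.Opens)
  (hΩ : ∀ a, IsAffineOpen (Ω a)) (hcov : ∀ x : X, ∃ a, x ∈ Ω a)

include hΩ hcov in
/-- A morphism out of a quasi-coherent module vanishing on the sections over the members of an
affine open cover is zero. -/
theorem eq_zero_of_cover [M.IsQuasicoherent] (h : ∀ a, (secModMap φ (Ω a)).hom = 0) : φ = 0 := by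
  refine eq_zero_of_stalkLin_eq_zero φ fun x => LinearMap.ext fun ξ => ?_
  obtain ⟨a, hx⟩ := hcov x
  obtain ⟨g, s, hg, hgs⟩ := exists_germ_smul_eq_germ M (hΩ a) x hx ξ
  have h1 : stalkLin φ x (X.presheaf.germ (Ω a) x hx g • ξ) = 0 := by
    rw [hgs, stalkLin_germ]
    have : φ.app (Ω a) s = 0 := by
      rw [← secModMap_apply, h a]; rfl
    rw [this, map_zero]
  rw [map_smul] at h1
  rw [LinearMap.zero_apply]
  exact (hg.smul_eq_zero).mp h1

include hΩ hcov in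
/-- A morphism to a quasi-coherent module surjective on the sections over the members of an
affine open cover is an epimorphism. -/
theorem epi_of_cover [N.IsQuasicoherent]
    (h : ∀ a, Function.Surjective (secModMap φ (Ω a)).hom) : Epi φ := by
  rw [epi_iff_stalkLin_surjective]
  intro x η
  obtain ⟨a, hx⟩ := hcov x
  obtain ⟨g, t, hg, hgt⟩ := exists_germ_smul_eq_germ N (hΩ a) x hx η
  obtain ⟨s, hs⟩ := h a t
  obtain ⟨v, hv⟩ := hg
  refine ⟨(↑v⁻¹ : X.presheaf.stalk x) • M.presheaf.germ (Ω a) x hx s, ?_⟩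
  rw [map_smul, stalkLin_germ, ← secModMap_apply, hs, ← hgt, ← hv, smul_smul, Units.inv_mul,
    one_smul]

include hΩ hcov in
/-- A morphism of quasi-coherent modules bijective on the sections over the members of an affine
open cover is an isomorphism. -/
theorem isIso_of_cover [M.IsQuasicoherent] [N.IsQuasicoherent]
    (h : ∀ a, Function.Bijective (secModMap φ (Ω a)).hom) : IsIso φ := by
  rw [isIso_iff_stalkLin_bijective]
  intro x
  refine ⟨?_, ((epi_iff_stalkLin_surjective φ).mp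
    (epi_of_cover φ Ω hΩ hcov fun a => (h a).2)) x⟩
  rw [injective_iff_map_eq_zero]
  intro ξ hξ
  obtain ⟨a, hx⟩ := hcov x
  obtain ⟨g, s, hg, hgs⟩ := exists_germ_smul_eq_germ M (hΩ a) x hx ξ
  have h1 : N.presheaf.germ (Ω a) x hx (φ.app (Ω a) s) = 0 := by
    rw [← stalkLin_germ, ← hgs, map_smul, hξ, smul_zero]
  obtain ⟨g', hg', hg's⟩ := exists_smul_eq_zero_of_germ_eq_zero N (hΩ a) x hx _ h1
  have h2 : g' • s = 0 := by
    apply (h a).1
    rw [map_smul, map_zero, secModMap_apply]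
    exact hg's
  have h3 : X.presheaf.germ (Ω a) x hx g' • M.presheaf.germ (Ω a) x hx s = 0 := by
    rw [← germ_smul, h2, map_zero]
  have h4 : M.presheaf.germ (Ω a) x hx s = 0 := (hg'.smul_eq_zero).mp h3
  rw [h4] at hgs
  exact (hg.smul_eq_zero).mp hgs

end Cover

section Main

open Groth.Agent.Lib.H72LimRing Groth.Agent.Lib.H72LimAlg Groth.Agent.Lib.ColimTensor96

attribute [local instance] Groth.Agent.Lib.H72LimRing.algAt Groth.Agent.Lib.H72LimRing.algLim

variable {J : Type u} [Category.{u} J] [IsCofiltered J] (E : J ⥤ Scheme.{u})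
  [∀ {i j} (φ : i ⟶ j), IsAffineHom (E.map φ)] (c : Cone E) (hc : IsLimit c) (j₀ : J)
  {F₀ G₀ : (E.obj j₀).Modules} [F₀.IsQuasicoherent] [G₀.IsQuasicoherent] (u₀ : F₀ ⟶ G₀)

/-- The pullback of `u₀` to the stage `j → j₀`. -/
noncomputable abbrev uAt (j : Over j₀) :
    (Scheme.Modules.pullback (E.map j.hom)).obj F₀ ⟶ (Scheme.Modules.pullback (E.map j.hom)).obj G₀ :=
  (Scheme.Modules.pullback (E.map j.hom)).map u₀

/-- The pullback of `u₀` to the limit. -/
noncomputable abbrev uLim :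
    (Scheme.Modules.pullback (c.π.app j₀)).obj F₀ ⟶ (Scheme.Modules.pullback (c.π.app j₀)).obj G₀ :=
  (Scheme.Modules.pullback (c.π.app j₀)).map u₀

variable {Ω : (E.obj j₀).Opens} (hΩ : IsAffineOpen Ω)

include hc hΩ in
theorem exists_sec_eq_zero [F₀.IsFiniteType] (h0 : uLim E c j₀ u₀ = 0) :
    ∃ i : Over j₀, ∀ (k : Over j₀) (_ : k ⟶ i),
      (secModMap (uAt E j₀ u₀ k) (ΩAt E j₀ Ω k)).hom = 0 := by
  haveI := isAffineHom_π_app E c hc j₀
  have hΩL : IsAffineOpen (ΩLim E c j₀ Ω) := hΩ.preimage (c.π.app j₀)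
  haveI : Module.Finite Γ(E.obj j₀, Ω) Γ(F₀, Ω) :=
    Groth.Agent.Lib.CohFinite.finite_sections_of_isAffineOpen F₀ hΩ
  have h1 : (secModMap (uLim E c j₀ u₀) (ΩLim E c j₀ Ω)).hom = 0 := by
    rw [h0]; rfl
  have h2 := (chart (c.π.app j₀) u₀ hΩL hΩ le_rfl).1.mp h1
  obtain ⟨i, hi⟩ := exists_lTensor_eq_zero (secModMap u₀ Ω).hom (isWeakColimAlg E c j₀ Ω hc hΩ) h2
  refine ⟨i, fun k φ => ?_⟩
  exact (chart (E.map k.hom) u₀ (hΩ.preimage (E.map k.hom)) hΩ le_rfl).1.mpr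
    (hi k (trans E j₀ Ω φ))

include hc hΩ in
theorem exists_sec_surjective [G₀.IsFiniteType] (h0 : Epi (uLim E c j₀ u₀)) :
    ∃ i : Over j₀, ∀ (k : Over j₀) (_ : k ⟶ i),
      Function.Surjective (secModMap (uAt E j₀ u₀ k) (ΩAt E j₀ Ω k)).hom := by
  haveI := isAffineHom_π_app E c hc j₀
  have hΩL : IsAffineOpen (ΩLim E c j₀ Ω) := hΩ.preimage (c.π.app j₀)
  haveI : Module.Finite Γ(E.obj j₀, Ω) Γ(G₀, Ω) :=
    Groth.Agent.Lib.CohFinite.finite_sections_of_isAffineOpen G₀ hΩ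
  have h1 : Function.Surjective (secModMap (uLim E c j₀ u₀) (ΩLim E c j₀ Ω)).hom :=
    Groth.Agent.Lib.H90OXModExact.surjective_app_of_epi (uLim E c j₀ u₀) hΩL
  have h2 := (chart (c.π.app j₀) u₀ hΩL hΩ le_rfl).2.1.mp h1
  obtain ⟨i, hi⟩ := exists_lTensor_surjective (secModMap u₀ Ω).hom
    (isWeakColimAlg E c j₀ Ω hc hΩ) h2
  refine ⟨i, fun k φ => ?_⟩
  exact (chart (E.map k.hom) u₀ (hΩ.preimage (E.map k.hom)) hΩ le_rfl).2.1.mpr
    (hi k (trans E j₀ Ω φ))

include hc hΩ in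
theorem exists_sec_bijective [F₀.IsFiniteType] [G₀.IsFinitePresentation]
    (h0 : IsIso (uLim E c j₀ u₀)) :
    ∃ i : Over j₀, ∀ (k : Over j₀) (_ : k ⟶ i),
      Function.Bijective (secModMap (uAt E j₀ u₀ k) (ΩAt E j₀ Ω k)).hom := by
  haveI := isAffineHom_π_app E c hc j₀
  have hΩL : IsAffineOpen (ΩLim E c j₀ Ω) := hΩ.preimage (c.π.app j₀)
  haveI : Module.Finite Γ(E.obj j₀, Ω) Γ(F₀, Ω) :=
    Groth.Agent.Lib.CohFinite.finite_sections_of_isAffineOpen F₀ hΩ
  haveI : Module.FinitePresentation Γ(E.obj j₀, Ω) Γ(G₀, Ω) :=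
    Groth.Agent.Lib.H90OXModFP.finitePresentation_sections G₀ hΩ
  have h1 : Function.Bijective (secModMap (uLim E c j₀ u₀) (ΩLim E c j₀ Ω)).hom := by
    haveI := h0
    exact ConcreteCategory.bijective_of_isIso ((uLim E c j₀ u₀).app (ΩLim E c j₀ Ω))
  have h2 : Function.Bijective ((secModMap u₀ Ω).hom.lTensor Γ(c.pt, ΩLim E c j₀ Ω)) :=
    ⟨(chart (c.π.app j₀) u₀ hΩL hΩ le_rfl).2.2.mp h1.1,
      (chart (c.π.app j₀) u₀ hΩL hΩ le_rfl).2.1.mp h1.2⟩
  obtain ⟨i, hi⟩ := exists_lTensor_bijective (secModMap u₀ Ω).hom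
    (isWeakColimAlg E c j₀ Ω hc hΩ) h2
  refine ⟨i, fun k φ => ?_⟩
  have := hi k (trans E j₀ Ω φ)
  exact ⟨(chart (E.map k.hom) u₀ (hΩ.preimage (E.map k.hom)) hΩ le_rfl).2.2.mpr this.1,
    (chart (E.map k.hom) u₀ (hΩ.preimage (E.map k.hom)) hΩ le_rfl).2.1.mpr this.2⟩

omit [∀ {i j : J} (φ : i ⟶ j), IsAffineHom (E.map φ)] in
/-- Combine eventual properties over a finite affine cover of the quasi-compact `E j₀`. -/
theorem exists_forall_cover [CompactSpace (E.obj j₀)] (Qp : (E.obj j₀).Opens → Over j₀ → Prop)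
    (h : ∀ Ω, IsAffineOpen Ω → ∃ i : Over j₀, ∀ (k : Over j₀) (_ : k ⟶ i), Qp Ω k) :
    ∃ (t : Finset (E.obj j₀).affineOpens) (i : Over j₀),
      (∀ x : E.obj j₀, ∃ U ∈ t, x ∈ U.1) ∧ ∀ U ∈ t, Qp U.1 i := by
  classical
  obtain ⟨t, ht⟩ := isCompact_univ.elim_finite_subcover
    (fun U : (E.obj j₀).affineOpens => (U.1 : Set (E.obj j₀))) (fun U => U.1.2) (by
      intro x _
      obtain ⟨_, ⟨U, hU, rfl⟩, hxU, -⟩ :=
        (E.obj j₀).isBasis_affineOpens.exists_subset_of_mem_open (Set.mem_univ x) isOpen_univ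
      exact Set.mem_iUnion.mpr ⟨⟨U, hU⟩, hxU⟩)
  choose idx hidx using fun U : (E.obj j₀).affineOpens => h U.1 U.2
  obtain ⟨S, hS⟩ := IsCofiltered.inf_objs_exists (t.image idx)
  refine ⟨t, S, fun x => ?_, fun U hU => ?_⟩
  · obtain ⟨U, hU, hx⟩ := Set.mem_iUnion₂.mp (ht (Set.mem_univ x))
    exact ⟨U, hU, hx⟩
  · obtain ⟨φ⟩ := hS (Finset.mem_image_of_mem idx hU)
    exact hidx U S φ

variable [CompactSpace (E.obj j₀)]

include hc in
/-- **Zero descends to a finite stage.** -/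
theorem exists_uAt_eq_zero [F₀.IsFiniteType] (h0 : uLim E c j₀ u₀ = 0) :
    ∃ i : Over j₀, uAt E j₀ u₀ i = 0 := by
  obtain ⟨t, i, hcov, hi⟩ := exists_forall_cover E j₀
    (fun Ω k => (secModMap (uAt E j₀ u₀ k) (ΩAt E j₀ Ω k)).hom = 0)
    (fun Ω hΩ => exists_sec_eq_zero E c hc j₀ u₀ hΩ h0)
  refine ⟨i, eq_zero_of_cover (uAt E j₀ u₀ i) (fun a : t => ΩAt E j₀ a.1.1 i)
    (fun a => a.1.2.preimage (E.map i.hom)) (fun x => ?_) (fun a => hi a.1 a.2)⟩
  obtain ⟨U, hU, hx⟩ := hcov (E.map i.hom x)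
  exact ⟨⟨U, hU⟩, hx⟩

include hc in
/-- **Epimorphisms descend to a finite stage.** -/
theorem exists_uAt_epi [G₀.IsFiniteType] (h0 : Epi (uLim E c j₀ u₀)) :
    ∃ i : Over j₀, Epi (uAt E j₀ u₀ i) := by
  obtain ⟨t, i, hcov, hi⟩ := exists_forall_cover E j₀
    (fun Ω k => Function.Surjective (secModMap (uAt E j₀ u₀ k) (ΩAt E j₀ Ω k)).hom)
    (fun Ω hΩ => exists_sec_surjective E c hc j₀ u₀ hΩ h0)
  refine ⟨i, epi_of_cover (uAt E j₀ u₀ i) (fun a : t => ΩAt E j₀ a.1.1 i)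
    (fun a => a.1.2.preimage (E.map i.hom)) (fun x => ?_) (fun a => hi a.1 a.2)⟩
  obtain ⟨U, hU, hx⟩ := hcov (E.map i.hom x)
  exact ⟨⟨U, hU⟩, hx⟩

include hc in
/-- **Isomorphisms descend to a finite stage.** -/
theorem exists_uAt_isIso [F₀.IsFiniteType] [G₀.IsFinitePresentation]
    (h0 : IsIso (uLim E c j₀ u₀)) :
    ∃ i : Over j₀, IsIso (uAt E j₀ u₀ i) := by
  obtain ⟨t, i, hcov, hi⟩ := exists_forall_cover E j₀
    (fun Ω k => Function.Bijective (secModMap (uAt E j₀ u₀ k) (ΩAt E j₀ Ω k)).hom)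
    (fun Ω hΩ => exists_sec_bijective E c hc j₀ u₀ hΩ h0)
  refine ⟨i, isIso_of_cover (uAt E j₀ u₀ i) (fun a : t => ΩAt E j₀ a.1.1 i)
    (fun a => a.1.2.preimage (E.map i.hom)) (fun x => ?_) (fun a => hi a.1 a.2)⟩
  obtain ⟨U, hU, hx⟩ := hcov (E.map i.hom x)
  exact ⟨⟨U, hU⟩, hx⟩

end Main

end Groth.Agent.Lib.H72LimMod
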