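import Mathlib
import Groth.Agent.Lib.H72LimMod
import Groth.Agent.Lib.H72FpqcDescent

/-!
# EGA IV 8.5.2 in "iff" form (helper72)

`D : I ⥤ Scheme` cofiltered with affine transition maps, `c` a limit cone, `i₀` a quasi-compact
stage, `F₀, G₀` quasi-coherent on `D i₀`.

* `map_eq_iff` : `F₀` of finite type ⇒ (`π^* φ₀ = π^* ψ₀` ↔ equal on some stage `j → i₀`);
* `epi_iff` : `G₀` of finite type ⇒ (`π^* f₀` epi ↔ epi on some stage);
* `isIso_iff` : `F₀` f.t., `G₀` f.p. ⇒ (`π^* f₀` iso ↔ iso on some stage);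
* `limIso` : the canonical `pullback (D.map φ) ⋙ pullback (c.π.app j) ≅ pullback (c.π.app i₀)`.
-/

set_option autoImplicit false
universe u

open CategoryTheory Limits AlgebraicGeometry

namespace Groth.Agent.Lib.H72LimMod2

open Groth.Agent.Lib.H72LimMod Groth.Agent.Lib.H72FpqcDescent

variable {I : Type u} [SmallCategory I] [IsCofiltered I]
  (D : I ⥤ Scheme.{u}) (c : Limits.Cone D)

/-- The canonical identification `π_j^* φ^* ≅ π_{i₀}^*`. -/
noncomputable abbrev limIso {j i₀ : I} (φ : j ⟶ i₀) :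
    Scheme.Modules.pullback (D.map φ) ⋙ Scheme.Modules.pullback (c.π.app j) ≅
      Scheme.Modules.pullback (c.π.app i₀) :=
  Scheme.Modules.pullbackComp (c.π.app j) (D.map φ) ≪≫ Scheme.Modules.pullbackCongr (c.w φ)

variable {D c}

section Easy

variable {i₀ j : I} (φ : j ⟶ i₀) {F₀ G₀ : (D.obj i₀).Modules} (f₀ : F₀ ⟶ G₀)

theorem lim_eq_zero_of_stage (h : (Scheme.Modules.pullback (D.map φ)).map f₀ = 0) :
    (Scheme.Modules.pullback (c.π.app i₀)).map f₀ = 0 := by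
  refine map_eq_zero_of_natIso (limIso D c φ) f₀ ?_
  change (Scheme.Modules.pullback (c.π.app j)).map ((Scheme.Modules.pullback (D.map φ)).map f₀) = 0
  rw [h, Functor.map_zero]

theorem lim_epi_of_stage (h : Epi ((Scheme.Modules.pullback (D.map φ)).map f₀)) :
    Epi ((Scheme.Modules.pullback (c.π.app i₀)).map f₀) := by
  refine epi_map_of_natIso (limIso D c φ) f₀ ?_
  change Epi ((Scheme.Modules.pullback (c.π.app j)).map ((Scheme.Modules.pullback (D.map φ)).map f₀))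
  infer_instance

theorem lim_isIso_of_stage (h : IsIso ((Scheme.Modules.pullback (D.map φ)).map f₀)) :
    IsIso ((Scheme.Modules.pullback (c.π.app i₀)).map f₀) := by
  refine isIso_map_of_natIso (limIso D c φ) f₀ ?_
  change IsIso ((Scheme.Modules.pullback (c.π.app j)).map ((Scheme.Modules.pullback (D.map φ)).map f₀))
  infer_instance

theorem lim_eq_of_stage (g₀ : F₀ ⟶ G₀)
    (h : (Scheme.Modules.pullback (D.map φ)).map f₀ = (Scheme.Modules.pullback (D.map φ)).map g₀) :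
    (Scheme.Modules.pullback (c.π.app i₀)).map f₀ = (Scheme.Modules.pullback (c.π.app i₀)).map g₀ := by
  rw [← sub_eq_zero, ← Functor.map_sub]
  refine lim_eq_zero_of_stage φ _ ?_
  rw [Functor.map_sub, h, sub_self]

end Easy

variable (hc : Limits.IsLimit c)
  [∀ (i j : I) (f : i ⟶ j), IsAffineHom (D.map f)] (i₀ : I) [CompactSpace (D.obj i₀)]
  {F₀ G₀ : (D.obj i₀).Modules} [F₀.IsQuasicoherent] [G₀.IsQuasicoherent]

include hc in
theorem eq_zero_iff (hF : F₀.IsFiniteType) (f₀ : F₀ ⟶ G₀) :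
    (Scheme.Modules.pullback (c.π.app i₀)).map f₀ = 0 ↔
      ∃ (j : I) (φ : j ⟶ i₀), (Scheme.Modules.pullback (D.map φ)).map f₀ = 0 := by
  haveI : ∀ {i j : I} (f : i ⟶ j), IsAffineHom (D.map f) := fun f => inferInstance
  constructor
  · intro h
    obtain ⟨i, hi⟩ := exists_uAt_eq_zero D c hc i₀ f₀ h
    exact ⟨i.left, i.hom, hi⟩
  · rintro ⟨j, φ, h⟩
    exact lim_eq_zero_of_stage φ f₀ h

include hc in
theorem map_eq_iff (hF : F₀.IsFiniteType) (φ₀ ψ₀ : F₀ ⟶ G₀) :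
    (Scheme.Modules.pullback (c.π.app i₀)).map φ₀ = (Scheme.Modules.pullback (c.π.app i₀)).map ψ₀ ↔
      ∃ (j : I) (φ : j ⟶ i₀),
        (Scheme.Modules.pullback (D.map φ)).map φ₀ = (Scheme.Modules.pullback (D.map φ)).map ψ₀ := by
  constructor
  · intro h
    have h0 : (Scheme.Modules.pullback (c.π.app i₀)).map (φ₀ - ψ₀) = 0 := by
      rw [Functor.map_sub, h, sub_self]
    obtain ⟨j, φ, hj⟩ := (eq_zero_iff hc i₀ hF (φ₀ - ψ₀)).1 h0
    refine ⟨j, φ, ?_⟩
    rwa [Functor.map_sub, sub_eq_zero] at hj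
  · rintro ⟨j, φ, h⟩
    exact lim_eq_of_stage φ φ₀ ψ₀ h

include hc in
theorem epi_iff (hG : G₀.IsFiniteType) (f₀ : F₀ ⟶ G₀) :
    Epi ((Scheme.Modules.pullback (c.π.app i₀)).map f₀) ↔
      ∃ (j : I) (φ : j ⟶ i₀), Epi ((Scheme.Modules.pullback (D.map φ)).map f₀) := by
  haveI : ∀ {i j : I} (f : i ⟶ j), IsAffineHom (D.map f) := fun f => inferInstance
  constructor
  · intro h
    obtain ⟨i, hi⟩ := exists_uAt_epi D c hc i₀ f₀ h
    exact ⟨i.left, i.hom, hi⟩
  · rintro ⟨j, φ, h⟩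
    exact lim_epi_of_stage φ f₀ h

include hc in
theorem isIso_iff (hF : F₀.IsFiniteType) (hG : G₀.IsFinitePresentation) (f₀ : F₀ ⟶ G₀) :
    IsIso ((Scheme.Modules.pullback (c.π.app i₀)).map f₀) ↔
      ∃ (j : I) (φ : j ⟶ i₀), IsIso ((Scheme.Modules.pullback (D.map φ)).map f₀) := by
  haveI : ∀ {i j : I} (f : i ⟶ j), IsAffineHom (D.map f) := fun f => inferInstance
  constructor
  · intro h
    obtain ⟨i, hi⟩ := exists_uAt_isIso D c hc i₀ f₀ h
    exact ⟨i.left, i.hom, hi⟩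
  · rintro ⟨j, φ, h⟩
    exact lim_isIso_of_stage φ f₀ h

end Groth.Agent.Lib.H72LimMod2
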