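import Mathlib

/-!
# Right exact functors: exactness of `P f, P g` via cokernels (helper72)

Abstract lemmas for a functor `P : A ⥤ B` between abelian categories which preserves cokernels
(e.g. a left adjoint such as the pullback of `O_X`-modules).

* `exact_epi_iff_isIso_desc` : if `f ≫ g = 0`, then `P f, P g` is exact with `P g` epi iff
  `P (cokernel.desc f g w)` is an isomorphism;
* `exact_epi_natIso` : the property "`P f, P g` exact with `P g` epi" is invariant under `P ≅ P'`;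
* `exists_factor_iff` : for `p₁` epi, `P p₂` factors through `P p₁` iff `P (kernel.ι p₁ ≫ p₂) = 0`;
* `factor_natIso` : invariance of "factors through" under `P ≅ P'`.
-/

set_option autoImplicit false
universe v v' u u'

open CategoryTheory Limits

namespace Groth.Agent.Lib.H72RightExact

variable {A : Type u} [Category.{v} A] [Abelian A] {B : Type u'} [Category.{v'} B] [Abelian B]

/-- The property: `P f ≫ P g = 0`, exact at the middle, and `P g` epi. -/
def ExactEpi (P : A ⥤ B) {X Y Z : A} (f : X ⟶ Y) (g : Y ⟶ Z) : Prop :=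
  ∃ w : P.map f ≫ P.map g = 0, (ShortComplex.mk _ _ w).Exact ∧ Epi (P.map g)

section

variable (P : A ⥤ B) [P.PreservesZeroMorphisms] {X Y Z : A} (f : X ⟶ Y) (g : Y ⟶ Z)

theorem exactEpi_iff_isColimit :
    ExactEpi P f g ↔ ∃ w : P.map f ≫ P.map g = 0,
      Nonempty (IsColimit (CokernelCofork.ofπ (P.map g) w)) := by
  constructor
  · rintro ⟨w, h⟩
    exact ⟨w, ((ShortComplex.mk _ _ w).exact_and_epi_g_iff_g_is_cokernel).1 h⟩
  · rintro ⟨w, h⟩
    exact ⟨w, ((ShortComplex.mk _ _ w).exact_and_epi_g_iff_g_is_cokernel).2 h⟩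

variable [PreservesColimit (parallelPair f 0) P]

theorem exactEpi_iff_isIso_desc (w : f ≫ g = 0) :
    ExactEpi P f g ↔ IsIso (P.map (cokernel.desc f g w)) := by
  have hcok : IsColimit ((CokernelCofork.ofπ (cokernel.π f) (cokernel.condition f)).map P) :=
    CokernelCofork.mapIsColimit _ (cokernelIsCokernel f) P
  have hfac : P.map (cokernel.π f) ≫ P.map (cokernel.desc f g w) = P.map g := by
    rw [← P.map_comp, cokernel.π_desc]
  have w' : P.map f ≫ P.map g = 0 := by rw [← P.map_comp, w, P.map_zero]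
  rw [exactEpi_iff_isColimit]
  constructor
  · rintro ⟨w'', ⟨h⟩⟩
    -- two colimit cocones: the comparison map is `P (desc)`
    let e := IsColimit.coconePointUniqueUpToIso hcok h
    have he : e.hom = P.map (cokernel.desc f g w) := by
      apply Cofork.IsColimit.hom_ext hcok
      have h1 := IsColimit.comp_coconePointUniqueUpToIso_hom hcok h WalkingParallelPair.one
      simp only [Cofork.π] at h1 ⊢
      rw [h1]
      exact hfac.symm
    rw [← he]
    exact Iso.isIso_hom e
  · intro hiso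
    refine ⟨w', ⟨IsColimit.ofIsoColimit hcok
      (Cofork.ext (@asIso _ _ _ _ (P.map (cokernel.desc f g w)) hiso) ?_)⟩⟩
    exact hfac

end

section Comp

variable {C : Type*} [Category C] [Abelian C] (P : A ⥤ B) (Q : B ⥤ C) [Q.PreservesZeroMorphisms]
  [P.PreservesZeroMorphisms] {X Y Z : A} (f : X ⟶ Y) (g : Y ⟶ Z)
  [PreservesColimit (parallelPair (P.map f) 0) Q]

theorem exactEpi_comp (h : ExactEpi P f g) : ExactEpi (P ⋙ Q) f g := by
  rw [exactEpi_iff_isColimit] at h ⊢
  obtain ⟨w, ⟨h⟩⟩ := h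
  exact ⟨by
    change Q.map (P.map f) ≫ Q.map (P.map g) = 0
    rw [← Q.map_comp, w, Q.map_zero], ⟨CokernelCofork.mapIsColimit _ h Q⟩⟩

end Comp

section NatIso

variable {P P' : A ⥤ B} (α : P ≅ P') {X Y Z : A} (f : X ⟶ Y) (g : Y ⟶ Z)

include α in
theorem exactEpi_natIso (h : ExactEpi P f g) : ExactEpi P' f g := by
  obtain ⟨w, hex, hepi⟩ := h
  have w' : P'.map f ≫ P'.map g = 0 := by
    have h1 : P'.map f ≫ P'.map g = α.inv.app X ≫ (P.map f ≫ P.map g) ≫ α.hom.app Z := by
      simp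
    rw [h1, w, zero_comp, comp_zero]
  let e : ShortComplex.mk _ _ w ≅ ShortComplex.mk _ _ w' :=
    ShortComplex.isoMk (α.app X) (α.app Y) (α.app Z) (by simp) (by simp)
  exact ⟨w', (ShortComplex.exact_and_epi_g_iff_of_iso e).1 ⟨hex, hepi⟩⟩

include α in
theorem factor_natIso {G₁ G₂ : A} (p₁ : X ⟶ G₁) (p₂ : X ⟶ G₂)
    (h : ∃ k : P.obj G₁ ⟶ P.obj G₂, P.map p₁ ≫ k = P.map p₂) :
    ∃ k : P'.obj G₁ ⟶ P'.obj G₂, P'.map p₁ ≫ k = P'.map p₂ := by
  obtain ⟨k, hk⟩ := h
  refine ⟨α.inv.app G₁ ≫ k ≫ α.hom.app G₂, ?_⟩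
  rw [α.inv.naturality_assoc, reassoc_of% hk, α.hom.naturality, Iso.inv_hom_id_app_assoc]

end NatIso

section Factor

variable (P : A ⥤ B) [P.PreservesZeroMorphisms] {X G₁ G₂ : A} (p₁ : X ⟶ G₁) (p₂ : X ⟶ G₂) [Epi p₁]
  [PreservesColimit (parallelPair (kernel.ι p₁) 0) P]

theorem exists_factor_iff :
    (∃ k : P.obj G₁ ⟶ P.obj G₂, P.map p₁ ≫ k = P.map p₂) ↔ P.map (kernel.ι p₁ ≫ p₂) = 0 := by
  constructor
  · rintro ⟨k, hk⟩
    rw [P.map_comp, ← hk, ← P.map_comp_assoc, kernel.condition, P.map_zero, zero_comp]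
  · intro h
    have hcok : IsColimit (CokernelCofork.ofπ p₁ (kernel.condition p₁)) :=
      Abelian.epiIsCokernelOfKernel (Fork.ofι (kernel.ι p₁) (by simp)) (kernelIsKernel p₁)
    have hcok' := CokernelCofork.mapIsColimit _ hcok P
    rw [P.map_comp] at h
    exact ⟨Cofork.IsColimit.desc hcok' (P.map p₂) (by simpa using h),
      Cofork.IsColimit.π_desc hcok'⟩

end Factor

end Groth.Agent.Lib.H72RightExact
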