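import Mathlib.AlgebraicGeometry.AffineTransitionLimit
import Mathlib.AlgebraicGeometry.Morphisms.Flat
import Mathlib.RingTheory.Flat.EquationalCriterion
import Mathlib.RingTheory.RingHom.Flat
import Mathlib.CategoryTheory.Filtered.Basic

set_option autoImplicit false
universe u

open CategoryTheory Limits AlgebraicGeometry Opposite

namespace Groth.Agent.Lib.LimFlat

-- (lemma below is copied from helper11's Lib/IndEtale.lean to keep this file self-contained)
/-- A ring map which is a "filtered colimit" (in an elementwise sense) of flat ring maps is flat. -/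
theorem flat_of_filtered_system {J : Type*} [Category J] [IsFiltered J]
    {R S : Type*} [CommRing R] [CommRing S] (u : R →+* S)
    (Rj Sj : J → Type*) [∀ j, CommRing (Rj j)] [∀ j, CommRing (Sj j)]
    (uj : ∀ j, Rj j →+* Sj j) (huj : ∀ j, (uj j).Flat)
    (φ : ∀ j, Rj j →+* R) (ψ : ∀ j, Sj j →+* S)
    (hsq : ∀ j, u.comp (φ j) = (ψ j).comp (uj j))
    (ρ : ∀ {i j : J}, (i ⟶ j) → Rj i →+* Rj j) (μ : ∀ {i j : J}, (i ⟶ j) → Sj i →+* Sj j)
    (hρ : ∀ {i j : J} (f : i ⟶ j), (φ j).comp (ρ f) = φ i)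
    (hμ : ∀ {i j : J} (f : i ⟶ j), (ψ j).comp (μ f) = ψ i)
    (hρμ : ∀ {i j : J} (f : i ⟶ j), (uj j).comp (ρ f) = (μ f).comp (uj i))
    (hR : ∀ r : R, ∃ j x, φ j x = r)
    (hS : ∀ s : S, ∃ j x, ψ j x = s)
    (hS0 : ∀ j (x : Sj j), ψ j x = 0 → ∃ (k : J) (f : j ⟶ k), μ f x = 0) :
    u.Flat := by
  classical
  let := u.toAlgebra
  show Module.Flat R S
  refine Module.Flat.of_forall_isTrivialRelation ?_
  intro l f x h
  choose jf f0 hf0 using fun i => hR (f i)
  choose jx x0 hx0 using fun i => hS (x i)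
  obtain ⟨j, hj⟩ := IsFiltered.sup_objs_exists (Finset.univ.image jf ∪ Finset.univ.image jx)
  have af : ∀ i, jf i ⟶ j := fun i =>
    (hj (Finset.mem_union_left _ (Finset.mem_image_of_mem _ (Finset.mem_univ i)))).some
  have ax : ∀ i, jx i ⟶ j := fun i =>
    (hj (Finset.mem_union_right _ (Finset.mem_image_of_mem _ (Finset.mem_univ i)))).some
  let f1 : Fin l → Rj j := fun i => ρ (af i) (f0 i)
  let x1 : Fin l → Sj j := fun i => μ (ax i) (x0 i)
  have hf1 : ∀ i, φ j (f1 i) = f i := fun i => by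
    rw [← hf0 i]; exact RingHom.congr_fun (hρ (af i)) (f0 i)
  have hx1 : ∀ i, ψ j (x1 i) = x i := fun i => by
    rw [← hx0 i]; exact RingHom.congr_fun (hμ (ax i)) (x0 i)
  have hs : ψ j (∑ i, uj j (f1 i) * x1 i) = 0 := by
    rw [map_sum, ← h]
    refine Finset.sum_congr rfl (fun i _ => ?_)
    rw [map_mul, hx1, Algebra.smul_def, ← hf1 i]
    congr 1
    exact (RingHom.congr_fun (hsq j) (f1 i)).symm
  obtain ⟨k, g, hg⟩ := hS0 j _ hs
  let f2 : Fin l → Rj k := fun i => ρ g (f1 i)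
  let x2 : Fin l → Sj k := fun i => μ g (x1 i)
  have hf2 : ∀ i, φ k (f2 i) = f i := fun i => by
    rw [← hf1 i]; exact RingHom.congr_fun (hρ g) (f1 i)
  have hx2 : ∀ i, ψ k (x2 i) = x i := fun i => by
    rw [← hx1 i]; exact RingHom.congr_fun (hμ g) (x1 i)
  let := (uj k).toAlgebra
  have hflat : Module.Flat (Rj k) (Sj k) := huj k
  have hrel : ∑ i, f2 i • x2 i = 0 := by
    rw [← hg, map_sum]
    refine Finset.sum_congr rfl (fun i _ => ?_)
    rw [map_mul, Algebra.smul_def]
    congr 1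
    exact RingHom.congr_fun (hρμ g) (f1 i)
  obtain ⟨n, a', y', hxa, hfa⟩ := Module.Flat.isTrivialRelation_of_sum_smul_eq_zero hrel
  refine ⟨n, fun i m => φ k (a' i m), fun m => ψ k (y' m), fun i => ?_, fun m => ?_⟩
  · rw [← hx2 i, hxa i, map_sum]
    refine Finset.sum_congr rfl (fun m _ => ?_)
    rw [Algebra.smul_def, Algebra.smul_def, map_mul]
    congr 1
    exact (RingHom.congr_fun (hsq k) (a' i m)).symm
  · rw [← map_zero (φ k), ← hfa m, map_sum]
    refine Finset.sum_congr rfl (fun i _ => ?_)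
    rw [map_mul, hf2]

variable {J : Type u} [Category.{u} J] [IsCofiltered J] (D : J ⥤ Scheme.{u}) (c : Cone D)

/-- In a cofiltered limit of affine schemes, if all transition maps to `j₀` are flat,
so is the projection to `j₀`. -/
theorem flat_π_of_isAffine (hc : IsLimit c) [∀ j, IsAffine (D.obj j)] (j₀ : J)
    (h : ∀ (j : J) (φ : j ⟶ j₀), Flat (D.map φ)) : Flat (c.π.app j₀) := by
  have hcaff : IsAffine c.pt := Scheme.isAffine_of_isLimit c hc
  have hcaff' : IsAffine (((Functor.const J).obj c.pt).obj j₀) := hcaff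
  rw [HasRingHomProperty.iff_of_isAffine (P := @Flat)]
  refine flat_of_filtered_system (J := (Over j₀)ᵒᵖ)
    (c.π.app j₀).appTop.hom (fun _ => Γ(D.obj j₀, ⊤)) (fun j => Γ(D.obj j.unop.left, ⊤))
    (fun j => (D.map j.unop.hom).appTop.hom) ?_
    (fun _ => RingHom.id _) (fun j => (c.π.app j.unop.left).appTop.hom) ?_
    (fun _ => RingHom.id _) (fun {i j} f => (D.map f.unop.left).appTop.hom) ?_ ?_ ?_ ?_ ?_ ?_
  · intro j
    have := h j.unop.left j.unop.hom
    exact (HasRingHomProperty.iff_of_isAffine (P := @Flat)).1 this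
  · intro j
    have e : c.π.app j.unop.left ≫ D.map j.unop.hom = c.π.app j₀ := c.w j.unop.hom
    rw [← e, Scheme.Hom.comp_appTop]
    rfl
  · intro i j f
    rfl
  · intro i j f
    have e : c.π.app j.unop.left ≫ D.map f.unop.left = c.π.app i.unop.left := c.w f.unop.left
    rw [← e, Scheme.Hom.comp_appTop]
    rfl
  · intro i j f
    have e : D.map f.unop.left ≫ D.map i.unop.hom = D.map j.unop.hom := by
      rw [← D.map_comp, Over.w]
    rw [← e, Scheme.Hom.comp_appTop]
    rfl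
  · intro r
    exact ⟨op (Over.mk (𝟙 j₀)), r, rfl⟩
  · intro s
    obtain ⟨i', t, ht⟩ := exists_appTop_π_eq_of_isAffine_of_isLimit D c hc s
    refine ⟨op (Over.mk (IsCofiltered.minToRight i' j₀)),
      (D.map (IsCofiltered.minToLeft i' j₀)).appTop t, ?_⟩
    rw [← ht]
    have e : c.π.app (IsCofiltered.min i' j₀) ≫ D.map (IsCofiltered.minToLeft i' j₀) =
        c.π.app i' := c.w _
    rw [← e, Scheme.Hom.comp_appTop]
    rfl
  · intro j x hx
    obtain ⟨k, f, hk⟩ := exists_appTop_map_eq_zero_of_isAffine_of_isLimit D c hc j.unop.left x hx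
    exact ⟨op (Over.mk (f ≫ j.unop.hom)), (Over.homMk f rfl : Over.mk (f ≫ j.unop.hom) ⟶ j.unop).op,
      hk⟩

end Groth.Agent.Lib.LimFlat
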