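import Mathlib
import Groth.Agent.Lib.H72LimMod2
import Groth.Agent.Lib.H72RightExact
import Groth.Agent.Lib.IdealMod
import Groth.Agent.Lib.SupportTensor
import Groth.Agent.Lib.Fitting82U
import Groth.Agent.S4764

/-!
# EGA IV 8.5.2/8.5.6-type consequences: exact sequences, quotients, monomorphisms (helper72)

`D : I ⥤ Scheme` cofiltered with affine transition maps, `c` a limit cone, `i₀` a quasi-compact
stage.

* `isFiniteType_kernel_of_epi` : kernel of an epi (f.t. qcoh) ↠ (f.p.) is of finite type;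
* `stageIso` : `φ₁^* ⋙ φ₂^* ≅ (φ₂ ≫ φ₁)^*` for stages;
* `exactEpi_iff` : `F₀ → G₀ → H₀ → 0` (F₀, G₀ f.t., H₀ f.p.) becomes exact on the limit iff it does
  so on some stage;
* `factor_iff` : for epis `p₁ : F₀ ↠ G₁` (F₀ f.t., G₁ f.p.), `p₂ : F₀ ⟶ G₂`: `π^* p₂` factors through
  `π^* p₁` iff this happens on some stage;
* `mono_iff_of_flat` : flat transition maps, `ker f₀` of finite type: `π^* f₀` mono iff mono on a stage.
-/

set_option autoImplicit false
set_option linter.style.haveILetI false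
universe u

open CategoryTheory Limits AlgebraicGeometry

namespace Groth.Agent.Lib.H72LimMod3

open Groth.Agent.Lib.H72PullbackNat Groth.Agent.Lib.H72LimMod2 Groth.Agent.Lib.H72RightExact
  Groth.Agent.Lib.H72FpqcDescent

section Kernel

variable {X : Scheme.{u}}

/-- The kernel of an epimorphism from a quasi-coherent module of finite type onto a module of finite
presentation is of finite type. -/
theorem isFiniteType_kernel_of_epi {M N : X.Modules} [M.IsQuasicoherent] [N.IsQuasicoherent]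
    (p : M ⟶ N) [Epi p] (hM : M.IsFiniteType) (hN : N.IsFinitePresentation) :
    (kernel p).IsFiniteType := by
  haveI := Groth.Agent.Lib.H90OXModExact.isQuasicoherent_kernel p
  refine Groth.Agent.Lib.H90OXModAffineFT.isFiniteType_of_forall_affine (kernel p) (fun U => ?_)
  haveI : Module.Finite Γ(X, U.1) Γ(M, U.1) :=
    Groth.Agent.Lib.CohFinite.finite_sections_of_isAffineOpen M U.2
  haveI : Module.FinitePresentation Γ(X, U.1) Γ(N, U.1) :=
    Groth.Agent.Lib.H90OXModFP.finitePresentation_sections N U.2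
  have hsurj : Function.Surjective (secModMap p U.1).hom :=
    Groth.Agent.Lib.H90OXModExact.surjective_app_of_epi p U.2
  have hfg : (LinearMap.ker (secModMap p U.1).hom).FG :=
    Module.FinitePresentation.fg_ker _ hsurj
  obtain ⟨hinj, hker⟩ := Groth.Agent.Lib.IdealMod.kernel_sections p U.1
  -- `Γ(kernel p, U) ≃ ker`
  have hrange : LinearMap.range (secModMap (kernel.ι p) U.1).hom =
      LinearMap.ker (secModMap p U.1).hom := by
    ext s
    rw [LinearMap.mem_ker, LinearMap.mem_range]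
    exact ((hker s).symm)
  have hinj' : Function.Injective (secModMap (kernel.ι p) U.1).hom := hinj
  rw [← hrange] at hfg
  have e := LinearEquiv.ofInjective (secModMap (kernel.ι p) U.1).hom hinj'
  haveI : Module.Finite Γ(X, U.1) (LinearMap.range (secModMap (kernel.ι p) U.1).hom) :=
    Module.Finite.iff_fg.2 hfg
  exact Module.Finite.equiv e.symm


/-- The cokernel of a map into a quasi-coherent module of finite type is of finite type. -/
theorem isFiniteType_cokernel {M N : X.Modules} [M.IsQuasicoherent] [N.IsQuasicoherent]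
    (φ : M ⟶ N) (hN : N.IsFiniteType) : (cokernel φ).IsFiniteType :=
  (Groth.Agent.Lib.H90OXModExact.isCoh_cokernel φ ⟨inferInstance, hN⟩).2

end Kernel

variable {I : Type u} [SmallCategory I] [IsCofiltered I]
  {D : I ⥤ Scheme.{u}} {c : Limits.Cone D}

/-- `φ₁^* ⋙ φ₂^* ≅ (φ₂ ≫ φ₁)^*`. -/
noncomputable abbrev stageIso {j₂ j₁ i₀ : I} (φ₂ : j₂ ⟶ j₁) (φ₁ : j₁ ⟶ i₀) :
    Scheme.Modules.pullback (D.map φ₁) ⋙ Scheme.Modules.pullback (D.map φ₂) ≅
      Scheme.Modules.pullback (D.map (φ₂ ≫ φ₁)) :=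
  Scheme.Modules.pullbackComp (D.map φ₂) (D.map φ₁) ≪≫
    Scheme.Modules.pullbackCongr (D.map_comp φ₂ φ₁).symm

variable (hc : Limits.IsLimit c)
  [∀ (i j : I) (f : i ⟶ j), IsAffineHom (D.map f)] (i₀ : I) [CompactSpace (D.obj i₀)]

omit [IsCofiltered I] in
theorem compactSpace_stage {j : I} (φ : j ⟶ i₀) : CompactSpace (D.obj j) :=
  QuasiCompact.compactSpace_of_compactSpace (D.map φ)

section ExactEpi

variable {F₀ G₀ H₀ : (D.obj i₀).Modules} [F₀.IsQuasicoherent] [G₀.IsQuasicoherent]
  [H₀.IsQuasicoherent]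

include hc in
/-- EGA IV 8.5.6: right exact sequences `F₀ → G₀ → H₀ → 0`. -/
theorem exactEpi_iff (hF : F₀.IsFiniteType) (hG : G₀.IsFiniteType) (hH : H₀.IsFinitePresentation)
    (f₀ : F₀ ⟶ G₀) (g₀ : G₀ ⟶ H₀) :
    ExactEpi (Scheme.Modules.pullback (c.π.app i₀)) f₀ g₀ ↔
      ∃ (j : I) (φ : j ⟶ i₀), ExactEpi (Scheme.Modules.pullback (D.map φ)) f₀ g₀ := by
  constructor
  · intro h
    -- Step 1: the composite vanishes on a stage
    have h0 : (Scheme.Modules.pullback (c.π.app i₀)).map (f₀ ≫ g₀) = 0 := by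
      obtain ⟨w, -⟩ := h
      rw [Functor.map_comp, w]
    obtain ⟨j₁, φ₁, w₁⟩ := (eq_zero_iff hc i₀ hF (f₀ ≫ g₀)).1 h0
    rw [Functor.map_comp] at w₁
    haveI : CompactSpace (D.obj j₁) := compactSpace_stage (D := D) i₀ φ₁
    haveI : ((Scheme.Modules.pullback (D.map φ₁)).obj G₀).IsFiniteType :=
      Groth.Agent.Lib.SupportTensor.isFiniteType_pullback (D.map φ₁) G₀
    haveI : ((Scheme.Modules.pullback (D.map φ₁)).obj H₀).IsFinitePresentation :=
      Groth.Agent.Lib.Fitting82.isFinitePresentation_pullback (D.map φ₁) H₀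
    haveI := Groth.Agent.Lib.H90OXModExact.isQuasicoherent_cokernel
      ((Scheme.Modules.pullback (D.map φ₁)).map f₀)
    have hCft := isFiniteType_cokernel ((Scheme.Modules.pullback (D.map φ₁)).map f₀) inferInstance
    -- Step 2: the cokernel comparison map becomes an isomorphism on the limit
    have h1 : ExactEpi (Scheme.Modules.pullback (D.map φ₁) ⋙ Scheme.Modules.pullback (c.π.app j₁))
        f₀ g₀ := exactEpi_natIso (limIso D c φ₁).symm f₀ g₀ h
    have h2 : IsIso ((Scheme.Modules.pullback (c.π.app j₁)).map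
        (cokernel.desc ((Scheme.Modules.pullback (D.map φ₁)).map f₀)
          ((Scheme.Modules.pullback (D.map φ₁)).map g₀) w₁)) :=
      (exactEpi_iff_isIso_desc (Scheme.Modules.pullback (c.π.app j₁)) _ _ w₁).1 h1
    obtain ⟨j₂, φ₂, h3⟩ := (isIso_iff hc j₁ hCft inferInstance _).1 h2
    have h4 : ExactEpi (Scheme.Modules.pullback (D.map φ₁) ⋙ Scheme.Modules.pullback (D.map φ₂))
        f₀ g₀ := (exactEpi_iff_isIso_desc (Scheme.Modules.pullback (D.map φ₂)) _ _ w₁).2 h3
    exact ⟨j₂, φ₂ ≫ φ₁, exactEpi_natIso (stageIso φ₂ φ₁) f₀ g₀ h4⟩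
  · rintro ⟨j, φ, h⟩
    exact exactEpi_natIso (limIso D c φ) f₀ g₀
      (exactEpi_comp (Scheme.Modules.pullback (D.map φ)) (Scheme.Modules.pullback (c.π.app j))
        f₀ g₀ h)

end ExactEpi

section Factor

variable {F₀ G₁ G₂ : (D.obj i₀).Modules} [F₀.IsQuasicoherent] [G₁.IsQuasicoherent]
  [G₂.IsQuasicoherent]

include hc in
/-- EGA IV 8.5.7-type: domination of quotients descends to a stage. -/
theorem factor_iff (hF : F₀.IsFiniteType) (hG₁ : G₁.IsFinitePresentation)
    (p₁ : F₀ ⟶ G₁) (p₂ : F₀ ⟶ G₂) [Epi p₁] :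
    (∃ k : (Scheme.Modules.pullback (c.π.app i₀)).obj G₁ ⟶
        (Scheme.Modules.pullback (c.π.app i₀)).obj G₂,
        (Scheme.Modules.pullback (c.π.app i₀)).map p₁ ≫ k =
          (Scheme.Modules.pullback (c.π.app i₀)).map p₂) ↔
      ∃ (j : I) (φ : j ⟶ i₀) (k : (Scheme.Modules.pullback (D.map φ)).obj G₁ ⟶
        (Scheme.Modules.pullback (D.map φ)).obj G₂),
        (Scheme.Modules.pullback (D.map φ)).map p₁ ≫ k =
          (Scheme.Modules.pullback (D.map φ)).map p₂ := by
  haveI := Groth.Agent.Lib.H90OXModExact.isQuasicoherent_kernel p₁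
  have hK := isFiniteType_kernel_of_epi p₁ hF hG₁
  rw [exists_factor_iff (Scheme.Modules.pullback (c.π.app i₀)) p₁ p₂,
    eq_zero_iff hc i₀ hK (kernel.ι p₁ ≫ p₂)]
  constructor
  · rintro ⟨j, φ, h⟩
    obtain ⟨k, hk⟩ := (exists_factor_iff (Scheme.Modules.pullback (D.map φ)) p₁ p₂).2 h
    exact ⟨j, φ, k, hk⟩
  · rintro ⟨j, φ, k, hk⟩
    exact ⟨j, φ, (exists_factor_iff (Scheme.Modules.pullback (D.map φ)) p₁ p₂).1 ⟨k, hk⟩⟩

end Factor

section Mono

variable {F₀ G₀ : (D.obj i₀).Modules} [F₀.IsQuasicoherent] [G₀.IsQuasicoherent]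

include hc in
/-- EGA IV 8.5.8-type: with flat transition maps, injectivity descends to a stage when the kernel
is of finite type. -/
theorem mono_iff_of_flat (hfl : ∀ (i j : I) (φ : i ⟶ j), Flat (D.map φ)) (f₀ : F₀ ⟶ G₀)
    (hker : (kernel f₀).IsFiniteType) :
    Mono ((Scheme.Modules.pullback (c.π.app i₀)).map f₀) ↔
      ∃ (j : I) (φ : j ⟶ i₀), Mono ((Scheme.Modules.pullback (D.map φ)).map f₀) := by
  haveI := Groth.Agent.Lib.H90OXModExact.isQuasicoherent_kernel f₀
  constructor
  · intro h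
    have h0 : (Scheme.Modules.pullback (c.π.app i₀)).map (kernel.ι f₀) = 0 := by
      rw [← cancel_mono ((Scheme.Modules.pullback (c.π.app i₀)).map f₀), ← Functor.map_comp,
        kernel.condition, Functor.map_zero, zero_comp]
    obtain ⟨j, φ, hj⟩ := (eq_zero_iff hc i₀ hker (kernel.ι f₀)).1 h0
    refine ⟨j, φ, ?_⟩
    haveI : Flat (D.map φ) := hfl _ _ φ
    haveI : (Abelian.coimage f₀).IsQuasicoherent :=
      Groth.Agent.Lib.H90OXModExact.isQuasicoherent_cokernel (kernel.ι f₀)
    -- `φ^*` of the coimage projection is an isomorphism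
    have hcok : IsColimit ((CokernelCofork.ofπ (cokernel.π (kernel.ι f₀))
        (cokernel.condition (kernel.ι f₀))).map (Scheme.Modules.pullback (D.map φ))) :=
      CokernelCofork.mapIsColimit _ (cokernelIsCokernel (kernel.ι f₀)) _
    haveI hiso : IsIso ((Scheme.Modules.pullback (D.map φ)).map (Abelian.coimage.π f₀)) :=
      CokernelCofork.IsColimit.isIso_π _ hcok hj
    haveI : Mono ((Scheme.Modules.pullback (D.map φ)).map (Abelian.factorThruCoimage f₀)) :=
      Groth.Agent.Lib.H72PullbackDescent.mono_pullback_of_flat (D.map φ)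
        (Abelian.factorThruCoimage f₀)
    rw [← Abelian.coimage.fac f₀, Functor.map_comp]
    exact mono_comp _ _
  · rintro ⟨j, φ, h⟩
    haveI : Flat (c.π.app j) := Groth.Agent.S4764.result D c hc j (fun j' φ' => hfl _ _ φ')
    refine mono_map_of_natIso (limIso D c φ) f₀ ?_
    change Mono ((Scheme.Modules.pullback (c.π.app j)).map
      ((Scheme.Modules.pullback (D.map φ)).map f₀))
    exact Groth.Agent.Lib.H72PullbackDescent.mono_pullback_of_flat (c.π.app j) _

end Mono

end Groth.Agent.Lib.H72LimMod3
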