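import Mathlib
import Groth.Agent.Lib.H72LimMod3
import Groth.Agent.Lib.H72LimHomAlg
import Groth.Agent.Lib.QCohLocFree81
import Groth.Agent.Lib.FinLocFree2
import Groth.Agent.Lib.LocFreeRank

/-!
# EGA IV 8.5.5: local freeness descends to a finite stage (helper72)

`E : J ⥤ Scheme` cofiltered with affine transition maps, limit cone `c`, `E j₀` quasi-compact,
`F₀` quasi-coherent of finite presentation on `E j₀`.

* `exists_isFinLocFree_stage` : if `π^* F₀` is finite locally free then so is `φ^* F₀` at some stage;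
* `isFinLocFree_iff`, `isFinLocFreeOfRank_iff` : the iff versions (S4791, S4792).
-/

set_option autoImplicit false
set_option linter.style.haveILetI false
universe u

open CategoryTheory Limits AlgebraicGeometry TensorProduct

namespace Groth.Agent.Lib.H72LimLocFree

open Groth.Agent.Lib.H72PullbackNat Groth.Agent.Lib.H72LimRing Groth.Agent.Lib.H72LimMod
  Groth.Agent.Lib.H72LimHomAlg Groth.Agent.Lib.ColimTensor96

section Chart

variable {X Y : Scheme.{u}}

set_option backward.isDefEq.respectTransparency false in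
/-- Finite presentation implies finite type (Mathlib's instance, made usable for `X.Modules`). -/
theorem isFiniteType_of_isFinitePresentation (M : X.Modules)
    [h : SheafOfModules.IsFinitePresentation (R := X.ringCatSheaf) M] :
    SheafOfModules.IsFiniteType (R := X.ringCatSheaf) M := inferInstance

/-- Over affine opens `U ≤ h⁻¹V`, the sections of the pullback are projective iff the base change
of the sections is. -/
theorem projective_chart (h : X ⟶ Y) (G : Y.Modules) [G.IsQuasicoherent] {U : X.Opens}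
    {V : Y.Opens} (hU : IsAffineOpen U) (hV : IsAffineOpen V) (hUV : U ≤ h ⁻¹ᵁ V) :
    letI : Algebra Γ(Y, V) Γ(X, U) := (h.appLE V U hUV).hom.toAlgebra
    Module.Projective Γ(X, U) Γ((Scheme.Modules.pullback h).obj G, U) ↔
      Module.Projective Γ(X, U) (Γ(X, U) ⊗[Γ(Y, V)] Γ(G, V)) := by
  letI : Algebra Γ(Y, V) Γ(X, U) := (h.appLE V U hUV).hom.toAlgebra
  letI : Module Γ(Y, V) Γ((Scheme.Modules.pullback h).obj G, U) :=
    Module.compHom _ (h.appLE V U hUV).hom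
  haveI : IsScalarTower Γ(Y, V) Γ(X, U) Γ((Scheme.Modules.pullback h).obj G, U) :=
    .of_algebraMap_smul fun _ _ => rfl
  obtain ⟨θ, hθ, -⟩ := exists_isBaseChange_sections' h G hU hV hUV
  exact ⟨fun _ => Module.Projective.of_equiv hθ.equiv.symm,
    fun _ => Module.Projective.of_equiv hθ.equiv⟩

end Chart

attribute [local instance] Groth.Agent.Lib.H72LimRing.algAt Groth.Agent.Lib.H72LimRing.algLim

variable {J : Type u} [Category.{u} J] [IsCofiltered J] (E : J ⥤ Scheme.{u})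
  [∀ {i j} (φ : i ⟶ j), IsAffineHom (E.map φ)] (c : Cone E) (hc : IsLimit c) (j₀ : J)
  (F₀ : (E.obj j₀).Modules) [F₀.IsQuasicoherent]

include hc in
theorem exists_sec_projective [F₀.IsFinitePresentation] {Ω : (E.obj j₀).Opens}
    (hΩ : IsAffineOpen Ω)
    (h : FlatMod.IsFinLocFree ((Scheme.Modules.pullback (c.π.app j₀)).obj F₀)) :
    ∃ i : Over j₀, ∀ (k : Over j₀) (_ : k ⟶ i),
      Module.Projective Γ(E.obj k.left, ΩAt E j₀ Ω k)
        Γ((Scheme.Modules.pullback (E.map k.hom)).obj F₀, ΩAt E j₀ Ω k) := by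
  haveI := isAffineHom_π_app E c hc j₀
  have hΩL : IsAffineOpen (ΩLim E c j₀ Ω) := hΩ.preimage (c.π.app j₀)
  haveI : Module.FinitePresentation Γ(E.obj j₀, Ω) Γ(F₀, Ω) :=
    Groth.Agent.Lib.H90OXModFP.finitePresentation_sections F₀ hΩ
  have h1 : Module.Projective Γ(c.pt, ΩLim E c j₀ Ω)
      Γ((Scheme.Modules.pullback (c.π.app j₀)).obj F₀, ΩLim E c j₀ Ω) :=
    Groth.Agent.Lib.Fitting82.projective_sections_of_isFinLocFree _ h hΩL
  haveI h2 : Module.Projective Γ(c.pt, ΩLim E c j₀ Ω)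
      (Γ(c.pt, ΩLim E c j₀ Ω) ⊗[Γ(E.obj j₀, Ω)] Γ(F₀, Ω)) :=
    (projective_chart (c.π.app j₀) F₀ hΩL hΩ le_rfl).1 h1
  obtain ⟨i, hi⟩ := exists_projective (M := Γ(F₀, Ω)) (isWeakColimAlg E c j₀ Ω hc hΩ)
  refine ⟨i, fun k φ => ?_⟩
  exact (projective_chart (E.map k.hom) F₀ (hΩ.preimage (E.map k.hom)) hΩ le_rfl).2
    (hi k (trans E j₀ Ω φ))

variable [CompactSpace (E.obj j₀)]

include hc in
/-- **Local freeness descends to a finite stage.** -/
theorem exists_isFinLocFree_stage [F₀.IsFinitePresentation]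
    (h : FlatMod.IsFinLocFree ((Scheme.Modules.pullback (c.π.app j₀)).obj F₀)) :
    ∃ i : Over j₀, FlatMod.IsFinLocFree ((Scheme.Modules.pullback (E.map i.hom)).obj F₀) := by
  obtain ⟨t, i, hcov, hi⟩ := exists_forall_cover E j₀
    (fun Ω k => Module.Projective Γ(E.obj k.left, ΩAt E j₀ Ω k)
        Γ((Scheme.Modules.pullback (E.map k.hom)).obj F₀, ΩAt E j₀ Ω k))
    (fun Ω hΩ => exists_sec_projective E c hc j₀ F₀ hΩ h)
  haveI : ((Scheme.Modules.pullback (E.map i.hom)).obj F₀).IsFinitePresentation :=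
    Groth.Agent.Lib.Fitting82.isFinitePresentation_pullback (E.map i.hom) F₀
  haveI : ((Scheme.Modules.pullback (E.map i.hom)).obj F₀).IsFiniteType :=
    isFiniteType_of_isFinitePresentation _
  refine ⟨i, Groth.Agent.Lib.QCohLocFree81.isFinLocFree_of_affine_cover_projective _
    (fun a : t => ΩAt E j₀ a.1.1 i) ?_ (fun a => a.1.2.preimage (E.map i.hom)) (fun a => ?_)
    (fun a => hi a.1 a.2)⟩
  · rw [eq_top_iff]
    intro x _
    obtain ⟨U, hU, hx⟩ := hcov (E.map i.hom x)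
    exact TopologicalSpace.Opens.mem_iSup.mpr ⟨⟨U, hU⟩, hx⟩
  · exact Groth.Agent.Lib.CohFinite.finite_sections_of_isAffineOpen _
      (a.1.2.preimage (E.map i.hom))

end Groth.Agent.Lib.H72LimLocFree

namespace Groth.Agent.Lib.H72LimLocFree

open Groth.Agent.Lib.H72LimMod2 Groth.Agent.Lib.H72LimMod3 Groth.Agent.Lib.FinLocFree2
  Groth.Agent.Lib.FinLocFree

section Rank

variable {X Y : Scheme.{u}}

/-- The rank of a local trivialisation is determined by the point. -/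
theorem rank_unique {M : X.Modules} {U V : X.Opens} {n m : ℕ} {x : X} (hxU : x ∈ U) (hxV : x ∈ V)
    (e : M.restrict U.ι ≅ FlatMod.freeMod U n) (e' : M.restrict V.ι ≅ FlatMod.freeMod V m) :
    n = m := by
  rw [← Groth.Agent.Lib.LocFreeRank.fibreRank_eq_of_restrict_iso U e ⟨x, hxU⟩,
    ← Groth.Agent.Lib.LocFreeRank.fibreRank_eq_of_restrict_iso V e' ⟨x, hxV⟩]

/-- Local trivialisations pull back. -/
theorem exists_restrict_iso_pullback (f : X ⟶ Y) {M : Y.Modules} {n : ℕ} (x : X) {U : Y.Opens}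
    (hxU : f x ∈ U) (e : M.restrict U.ι ≅ FlatMod.freeMod U n) :
    Nonempty (((Scheme.Modules.pullback f).obj M).restrict (f ⁻¹ᵁ U).ι ≅
      FlatMod.freeMod (f ⁻¹ᵁ U) n) :=
  ⟨Groth.Agent.Lib.ModPullback.restrictPullbackIso f U M ≪≫
    (Scheme.Modules.pullback (f ∣_ U)).mapIso e ≪≫ pullbackFreeModIso (f ∣_ U) n⟩

theorem isFinLocFreeOfRank_pullback (f : X ⟶ Y) {M : Y.Modules} {n : ℕ}
    (hM : FlatMod.IsFinLocFreeOfRank n M) :
    FlatMod.IsFinLocFreeOfRank n ((Scheme.Modules.pullback f).obj M) := by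
  intro x
  obtain ⟨U, hxU, ⟨e⟩⟩ := hM (f x)
  exact ⟨f ⁻¹ᵁ U, hxU, exists_restrict_iso_pullback f x hxU e⟩

theorem isFinLocFreeOfRank_of_iso {M N : X.Modules} {n : ℕ} (e : M ≅ N)
    (hM : FlatMod.IsFinLocFreeOfRank n M) : FlatMod.IsFinLocFreeOfRank n N := by
  intro x
  obtain ⟨U, hxU, ⟨i⟩⟩ := hM x
  exact ⟨U, hxU, ⟨(Scheme.Modules.restrictFunctor U.ι).mapIso e.symm ≪≫ i⟩⟩

theorem isFinLocFree_of_isFinLocFreeOfRank {M : X.Modules} {n : ℕ}
    (hM : FlatMod.IsFinLocFreeOfRank n M) : FlatMod.IsFinLocFree M := by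
  intro x
  obtain ⟨U, hxU, h⟩ := hM x
  exact ⟨U, n, hxU, h⟩

/-- The locus where a module is locally free of rank `n`. -/
def rankLocus (M : X.Modules) (n : ℕ) : Set X :=
  {y | ∃ U : X.Opens, y ∈ U ∧ Nonempty (M.restrict U.ι ≅ FlatMod.freeMod U n)}

theorem isOpen_rankLocus (M : X.Modules) (n : ℕ) : IsOpen (rankLocus M n) := by
  rw [isOpen_iff_forall_mem_open]
  rintro y ⟨U, hyU, hU⟩
  exact ⟨U, fun z hz => ⟨U, hz, hU⟩, U.2, hyU⟩

theorem isClosed_rankLocus {M : X.Modules} (hM : FlatMod.IsFinLocFree M) (n : ℕ) :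
    IsClosed (rankLocus M n) := by
  rw [← isOpen_compl_iff, isOpen_iff_forall_mem_open]
  intro y hy
  obtain ⟨U, m, hyU, ⟨e⟩⟩ := hM y
  refine ⟨U, fun z hz hzn => hy ?_, U.2, hyU⟩
  obtain ⟨V, hzV, ⟨e'⟩⟩ := hzn
  obtain rfl : m = n := rank_unique hz hzV e e'
  exact ⟨U, hyU, ⟨e⟩⟩

end Rank

variable {I : Type u} [SmallCategory I] [IsCofiltered I]
  {D : I ⥤ Scheme.{u}} {c : Limits.Cone D} (hc : Limits.IsLimit c)
  [∀ (i j : I) (f : i ⟶ j), IsAffineHom (D.map f)] (i₀ : I) [CompactSpace (D.obj i₀)]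
  (F₀ : (D.obj i₀).Modules) [F₀.IsQuasicoherent]

include hc in
/-- EGA IV 8.5.5 (locally free modules). -/
theorem isFinLocFree_iff (hF₀ : F₀.IsFinitePresentation) :
    FlatMod.IsFinLocFree ((Scheme.Modules.pullback (c.π.app i₀)).obj F₀) ↔
      ∃ (j : I) (φ : j ⟶ i₀), FlatMod.IsFinLocFree ((Scheme.Modules.pullback (D.map φ)).obj F₀) := by
  haveI : ∀ {i j : I} (f : i ⟶ j), IsAffineHom (D.map f) := fun f => inferInstance
  constructor
  · intro h
    obtain ⟨i, hi⟩ := exists_isFinLocFree_stage D c hc i₀ F₀ h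
    exact ⟨i.left, i.hom, hi⟩
  · rintro ⟨j, φ, h⟩
    exact isFinLocFree_of_iso ((limIso D c φ).app F₀)
      (Groth.Agent.Lib.FinLocFree2.isFinLocFree_pullback (c.π.app j) h)

include hc in
/-- EGA IV 8.5.5 (locally free modules of rank `n`). -/
theorem isFinLocFreeOfRank_iff (hF₀ : F₀.IsFinitePresentation) (n : ℕ) :
    FlatMod.IsFinLocFreeOfRank n ((Scheme.Modules.pullback (c.π.app i₀)).obj F₀) ↔
      ∃ (j : I) (φ : j ⟶ i₀),
        FlatMod.IsFinLocFreeOfRank n ((Scheme.Modules.pullback (D.map φ)).obj F₀) := by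
  haveI : ∀ {i j : I} (f : i ⟶ j), IsAffineHom (D.map f) := fun f => inferInstance
  constructor
  · intro h
    obtain ⟨i, φ, hi⟩ := (isFinLocFree_iff hc i₀ F₀ hF₀).1 (isFinLocFree_of_isFinLocFreeOfRank h)
    haveI : CompactSpace (D.obj i) := compactSpace_stage (D := D) i₀ φ
    -- the bad locus at stage `i`
    let Z : (D.obj i).Opens := ⟨(rankLocus ((Scheme.Modules.pullback (D.map φ)).obj F₀) n)ᶜ,
      (isClosed_rankLocus hi n).isOpen_compl⟩
    have hZc : IsCompact (Z : Set (D.obj i)) :=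
      (isOpen_rankLocus _ n).isClosed_compl.isCompact
    have hempty : c.π.app i ⁻¹ᵁ Z ≤ c.π.app i ⁻¹ᵁ ⊥ := by
      intro x hx
      exfalso
      obtain ⟨U, m, hxU, ⟨e⟩⟩ := hi (c.π.app i x)
      obtain ⟨e₁⟩ := exists_restrict_iso_pullback (c.π.app i) x hxU e
      obtain ⟨V, hxV, ⟨e₂⟩⟩ := h x
      have e₁' : ((Scheme.Modules.pullback (c.π.app i₀)).obj F₀).restrict (c.π.app i ⁻¹ᵁ U).ι ≅
          FlatMod.freeMod (c.π.app i ⁻¹ᵁ U) m :=
        (Scheme.Modules.restrictFunctor (c.π.app i ⁻¹ᵁ U).ι).mapIso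
          ((limIso D c φ).app F₀).symm ≪≫ e₁
      obtain rfl : m = n := rank_unique (x := x) hxU hxV e₁' e₂
      exact hx ⟨U, hxU, ⟨e⟩⟩
    obtain ⟨j, ψ, hj⟩ := exists_map_preimage_le_map_preimage D c hc hZc hempty
    refine ⟨j, ψ ≫ φ, isFinLocFreeOfRank_of_iso ((stageIso ψ φ).app F₀) fun y => ?_⟩
    have hy : D.map ψ y ∈ rankLocus ((Scheme.Modules.pullback (D.map φ)).obj F₀) n := by
      by_contra hcon
      exact (hj (show y ∈ D.map ψ ⁻¹ᵁ Z from hcon)).elim
    obtain ⟨U, hyU, ⟨e⟩⟩ := hy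
    exact ⟨D.map ψ ⁻¹ᵁ U, hyU, exists_restrict_iso_pullback (D.map ψ) y hyU e⟩
  · rintro ⟨j, φ, h⟩
    exact isFinLocFreeOfRank_of_iso ((limIso D c φ).app F₀)
      (isFinLocFreeOfRank_pullback (c.π.app j) h)

end Groth.Agent.Lib.H72LimLocFree
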