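import Mathlib.AlgebraicGeometry.FunctionField
import Mathlib.AlgebraicGeometry.Normalization
import Mathlib.RingTheory.IntegralClosure.IntegrallyClosed
import Mathlib.RingTheory.Algebraic.Integral
import Mathlib.RingTheory.Localization.Integral

set_option autoImplicit false
universe u

open CategoryTheory CategoryTheory.Limits AlgebraicGeometry TopologicalSpace

namespace Groth.Agent.Lib.NormField85

theorem isIntegrallyClosed_integralClosure_field {A K : Type*} [CommRing A] [Field K]
    [Algebra A K] : IsIntegrallyClosed (integralClosure A K) :=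
  IsIntegrallyClosed.of_isIntegrallyClosedIn (integralClosure A K) K

theorem isIntegrallyClosed_integralClosure_of_ringEquiv {A L K : Type*} [CommRing A]
    [CommRing L] [Algebra A L] [Field K] (e : L ≃+* K) :
    IsIntegrallyClosed (integralClosure A L) := by
  let _ : Algebra A K := (e.toRingHom.comp (algebraMap A L)).toAlgebra
  let e' : L ≃ₐ[A] K := AlgEquiv.ofRingEquiv (f := e) (fun a ↦ rfl)
  have h1 : IsIntegrallyClosed (integralClosure A K) := isIntegrallyClosed_integralClosure_field
  exact IsIntegrallyClosed.of_equiv (e'.mapIntegralClosure.symm.toRingEquiv)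

theorem range_eq_of_chart {A K₀ R F B : Type*} [CommRing A] [IsDomain A] [Field K₀] [Algebra A K₀]
    [IsFractionRing A K₀] [CommRing R] (hR : IsField R) [CommRing F] (hF : IsField F) [CommRing B]
    (ψ : K₀ →+* R) (ι : A →+* B) (γ : B →+* F) (θ : F →+* R)
    (h1 : ∀ a, θ (γ (ι a)) = ψ (algebraMap A K₀ a))
    (h2 : ∀ b : B, (ψ.comp (algebraMap A K₀)).IsIntegralElem (θ (γ b)))
    (h3 : ∀ y : R, (ψ.comp (algebraMap A K₀)).IsIntegralElem y → ∃ b, θ (γ b) = y)
    (h4 : ∀ s : F, ∃ b b' : B, IsUnit (γ b') ∧ s * γ b' = γ b) :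
    Set.range θ = {y | ψ.IsIntegralElem y} := by
  let := hR.toField
  let : Algebra K₀ R := ψ.toAlgebra
  let : Algebra A R := (ψ.comp (algebraMap A K₀)).toAlgebra
  have : IsScalarTower A K₀ R := .of_algebraMap_eq' rfl
  have hint : ∀ y : R, (ψ.comp (algebraMap A K₀)).IsIntegralElem y → IsIntegral K₀ y :=
    fun y hy ↦ IsIntegral.tower_top (R := A) hy
  ext y
  constructor
  · rintro ⟨s, rfl⟩
    obtain ⟨b, b', hu, hs⟩ := h4 s
    have hβ := hint _ (h2 b)
    have hβ' := hint _ (h2 b')
    have hne : θ (γ b') ≠ 0 := (hu.map θ).ne_zero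
    have : θ s = θ (γ b) * (θ (γ b'))⁻¹ := by
      rw [← hs, map_mul, mul_assoc, mul_inv_cancel₀ hne, mul_one]
    change IsIntegral K₀ (θ s)
    rw [this]
    exact hβ.mul hβ'.inv
  · intro hy
    have hy' : IsIntegral K₀ y := hy
    have halg : IsAlgebraic A y := (IsFractionRing.isAlgebraic_iff A K₀ R).mpr hy'.isAlgebraic
    obtain ⟨a, ha, hay⟩ := halg.exists_integral_multiple
    obtain ⟨b, hb⟩ := h3 (a • y) hay
    have hne : ψ (algebraMap A K₀ a) ≠ 0 := by
      intro h0
      exact ha (IsFractionRing.injective A K₀ (by rw [map_zero]; exact ψ.injective (by rw [h0, map_zero])))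
    have hγ : γ (ι a) ≠ 0 := fun h0 ↦ hne (by rw [← h1, h0, map_zero])
    obtain ⟨t, ht⟩ := hF.mul_inv_cancel hγ
    refine ⟨γ b * t, ?_⟩
    have : θ (γ b * t) * ψ (algebraMap A K₀ a) = y * ψ (algebraMap A K₀ a) := by
      rw [← h1, ← map_mul, mul_assoc, mul_comm t, ht, mul_one, hb, Algebra.smul_def, mul_comm, h1]
      rfl
    exact mul_right_cancel₀ hne this


theorem isField_stalk_of_eq_genericPoint {Y : Scheme.{u}} [IsIntegral Y] {y : Y}
    (hy : y = genericPoint Y) : IsField (Y.presheaf.stalk y) := by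
  subst hy
  exact Field.toIsField Y.functionField

theorem injective_of_isField {F R : Type*} [CommRing F] [CommRing R] [Nontrivial R]
    (hF : IsField F) (θ : F →+* R) : Function.Injective θ := by
  rw [injective_iff_map_eq_zero]
  intro s hs
  by_contra hne
  obtain ⟨t, ht⟩ := hF.mul_inv_cancel hne
  have : θ s * θ t = 1 := by rw [← map_mul, ht, map_one]
  rw [hs, zero_mul] at this
  exact zero_ne_one this

theorem subsingleton_spec_of_isField {R : CommRingCat.{u}} (hR : IsField R) :
    Subsingleton (Spec R) := by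
  letI := hR.toField
  exact inferInstanceAs (Subsingleton (PrimeSpectrum R))

section

variable {X : Scheme.{u}} [IsIntegral X] {R : CommRingCat.{u}} (hR : IsField R)
  (ψ : X.presheaf.stalk (genericPoint X) ⟶ R) (g : Spec R ⟶ X)
  (hg : g = Spec.map ψ ≫ X.fromSpecStalk (genericPoint X))

include hg in
theorem g_apply (p : Spec R) : g p = genericPoint X := by
  subst hg
  have : Subsingleton (Spec (X.presheaf.stalk (genericPoint X))) :=
    inferInstanceAs (Subsingleton (PrimeSpectrum X.functionField))
  rw [Scheme.Hom.comp_apply,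
    Subsingleton.elim (Spec.map ψ p) (IsLocalRing.closedPoint (X.presheaf.stalk (genericPoint X))),
    Scheme.fromSpecStalk_closedPoint]

include hg in
theorem preimage_eq_top {V : X.Opens} (hξ : genericPoint X ∈ V) : g ⁻¹ᵁ V = ⊤ := by
  rw [← top_le_iff]
  intro p _
  change g p ∈ V
  rw [g_apply ψ g hg p]
  exact hξ

/-- The identification of `R` with the sections of `Spec R` over the preimage of an open set. -/
noncomputable def secHom (V : X.Opens) : R ⟶ Γ(Spec R, g ⁻¹ᵁ V) :=
  (Scheme.ΓSpecIso R).inv ≫ (Spec R).presheaf.map (homOfLE le_top).op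

include hg in
theorem isIso_secHom {V : X.Opens} (hξ : genericPoint X ∈ V) : IsIso (secHom g V) := by
  have htop := preimage_eq_top ψ g hg hξ
  have : IsIso ((Spec R).presheaf.map (homOfLE (le_top : g ⁻¹ᵁ V ≤ ⊤)).op) := by
    rw [show homOfLE (le_top : g ⁻¹ᵁ V ≤ ⊤) = eqToHom htop from rfl]
    infer_instance
  unfold secHom
  infer_instance

include hg in
theorem app_eq {V : X.Opens} (hξ : genericPoint X ∈ V) :
    g.app V = X.presheaf.germ V (genericPoint X) hξ ≫ ψ ≫ secHom g V := by
  subst hg
  rw [Scheme.Hom.comp_app, Scheme.fromSpecStalk_app hξ]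
  simp only [Category.assoc, secHom]
  congr 1
  rw [Scheme.Hom.naturality, ← Category.assoc, ← Category.assoc]
  erw [Scheme.ΓSpecIso_inv_naturality]
  rfl

variable [QuasiCompact g] [QuasiSeparated g]

include hR hg in
theorem isIntegrallyClosed_sections {V : X.Opens} (hV : IsAffineOpen V)
    (hξ : genericPoint X ∈ V) :
    IsIntegrallyClosed Γ(g.normalization, g.fromNormalization ⁻¹ᵁ V) := by
  let _ := (g.app V).hom.toAlgebra
  let _ := hR.toField
  have hiso := isIso_secHom ψ g hg hξ
  have h1 : IsIntegrallyClosed (integralClosure Γ(X, V) Γ(Spec R, g ⁻¹ᵁ V)) :=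
    isIntegrallyClosed_integralClosure_of_ringEquiv (K := R)
      (asIso (secHom g V)).symm.commRingCatIsoToRingEquiv
  exact IsIntegrallyClosed.of_equiv (g.normalizationObjIso hV).symm.commRingCatIsoToRingEquiv

include hR hg in
theorem isIntegrallyClosed_stalk (z : g.normalization) :
    IsIntegrallyClosed (g.normalization.presheaf.stalk z) := by
  have : IsIntegral (Spec R) := by
    let _ := hR.toField
    exact inferInstanceAs (IsIntegral (Spec (CommRingCat.of R)))
  obtain ⟨_, ⟨V, hV, rfl⟩, hzV, -⟩ := X.isBasis_affineOpens.exists_subset_of_mem_open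
    (Set.mem_univ (g.fromNormalization.base z)) isOpen_univ
  have hξ : genericPoint X ∈ V :=
    ((genericPoint_spec X).mem_open_set_iff V.isOpen).mpr ⟨_, trivial, hzV⟩
  have hW : IsAffineOpen (g.fromNormalization ⁻¹ᵁ V) := hV.preimage g.fromNormalization
  have hzW : z ∈ g.fromNormalization ⁻¹ᵁ V := hzV
  have h2 := isIntegrallyClosed_sections hR ψ g hg hV hξ
  have hneW : Nonempty (g.fromNormalization ⁻¹ᵁ V : g.normalization.Opens) := ⟨⟨z, hzW⟩⟩
  let _ := TopCat.Presheaf.algebra_section_stalk g.normalization.presheaf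
    (U := g.fromNormalization ⁻¹ᵁ V) ⟨z, hzW⟩
  have hloc := hW.isLocalization_stalk ⟨z, hzW⟩
  exact isIntegrallyClosed_of_isLocalization
    (R := Γ(g.normalization, g.fromNormalization ⁻¹ᵁ V)) _
    (hW.primeIdealOf ⟨z, hzW⟩).asIdeal.primeCompl
    (Ideal.primeCompl_le_nonZeroDivisors (hW.primeIdealOf ⟨z, hzW⟩).asIdeal)

include hR in
theorem isIntegral_spec : IsIntegral (Spec R) := by
  let _ := hR.toField
  exact inferInstanceAs (IsIntegral (Spec (CommRingCat.of R)))

include hR in
theorem isIntegral_normalization : IsIntegral g.normalization := by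
  have := isIntegral_spec hR
  infer_instance

include hR in
/-- Every point of `Spec R` maps to the generic point of the normalization. -/
theorem toNormalization_apply [IsIntegral g.normalization] (p : Spec R) :
    g.toNormalization p = genericPoint g.normalization := by
  have := subsingleton_spec_of_isField hR
  refine ((genericPoint_spec g.normalization).eq ?_).symm
  rw [isGenericPoint_def]
  have hd : DenseRange g.toNormalization.base := g.toNormalization.denseRange
  have hrange : Set.range g.toNormalization.base = {g.toNormalization.base p} := by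
    ext z
    simp only [Set.mem_range, Set.mem_singleton_iff]
    constructor
    · rintro ⟨p', rfl⟩
      rw [Subsingleton.elim p' p]
    · rintro rfl
      exact ⟨_, rfl⟩
  rw [← hrange]
  exact hd.closure_range

include hR hg in
theorem fromNormalization_genericPoint [IsIntegral g.normalization] :
    g.fromNormalization (genericPoint g.normalization) = genericPoint X := by
  have hne : Nonempty (Spec R) := by
    let _ := hR.toField
    exact inferInstanceAs (Nonempty (PrimeSpectrum R))
  obtain ⟨p⟩ := hne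
  rw [← toNormalization_apply hR g p, ← Scheme.Hom.comp_apply,
    g.toNormalization_fromNormalization, g_apply ψ g hg p]

variable [IsLocalRing R]

set_option backward.isDefEq.respectTransparency false in
theorem germ_stalkClosedPointTo_toNormalization {V : X.Opens} (hV : IsAffineOpen V)
    (hζ : g.toNormalization (IsLocalRing.closedPoint R) ∈ g.fromNormalization ⁻¹ᵁ V) :
    letI := (g.app V).hom.toAlgebra
    (g.normalization.presheaf.germ (g.fromNormalization ⁻¹ᵁ V) _ hζ ≫
      Scheme.stalkClosedPointTo g.toNormalization) ≫ secHom g V =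
      (g.normalizationObjIso hV).hom ≫
        CommRingCat.ofHom (integralClosure Γ(X, V) Γ(Spec R, g ⁻¹ᵁ V)).val.toRingHom := by
  let _ := (g.app V).hom.toAlgebra
  rw [Scheme.germ_stalkClosedPointTo, g.toNormalization_app_preimage ⟨V, hV⟩]
  simp only [Category.assoc]
  have key : ∀ (U₁ U₂ : (Spec R).Opens) (h₁ : U₂ = U₁) (h₂ : U₂ = ⊤) (h₃ : U₁ ≤ ⊤),
      (Spec R).presheaf.map (eqToHom h₁).op ≫
        ((Spec R).presheaf.mapIso (eqToIso h₂.symm).op ≪≫ Scheme.ΓSpecIso R).hom ≫
          (Scheme.ΓSpecIso R).inv ≫ (Spec R).presheaf.map (homOfLE h₃).op = 𝟙 _ := by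
    intro U₁ U₂ h₁ h₂ h₃
    subst h₁
    subst h₂
    simp only [eqToHom_refl, op_id, CategoryTheory.Functor.map_id, Category.id_comp, eqToIso_refl,
      Iso.trans_hom, Functor.mapIso_hom, Iso.op_hom, Iso.refl_hom, Iso.hom_inv_id_assoc]
    exact (Spec R).presheaf.map_id _
  rw [secHom, key _ _ _ (Scheme.preimage_eq_top_of_closedPoint_mem _ hζ) _]
  erw [Category.comp_id]
  rfl

include hg in
set_option backward.isDefEq.respectTransparency false in
theorem chart_facts {V : X.Opens} (hV : IsAffineOpen V) (hξ : genericPoint X ∈ V)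
    (hζ : g.toNormalization (IsLocalRing.closedPoint R) ∈ g.fromNormalization ⁻¹ᵁ V) :
    (∀ a, (g.normalization.presheaf.germ (g.fromNormalization ⁻¹ᵁ V) _ hζ ≫
        Scheme.stalkClosedPointTo g.toNormalization).hom ((g.fromNormalization.app V).hom a) =
        (ψ.hom.comp (X.presheaf.germ V (genericPoint X) hξ).hom) a) ∧
    (∀ b, (ψ.hom.comp (X.presheaf.germ V (genericPoint X) hξ).hom).IsIntegralElem
      ((g.normalization.presheaf.germ (g.fromNormalization ⁻¹ᵁ V) _ hζ ≫
        Scheme.stalkClosedPointTo g.toNormalization).hom b)) ∧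
    (∀ y, (ψ.hom.comp (X.presheaf.germ V (genericPoint X) hξ).hom).IsIntegralElem y →
      ∃ b, (g.normalization.presheaf.germ (g.fromNormalization ⁻¹ᵁ V) _ hζ ≫
        Scheme.stalkClosedPointTo g.toNormalization).hom b = y) := by
  let _ := (g.app V).hom.toAlgebra
  set τ := (g.normalization.presheaf.germ (g.fromNormalization ⁻¹ᵁ V) _ hζ ≫
        Scheme.stalkClosedPointTo g.toNormalization).hom with hτ
  set ρ := (ψ.hom.comp (X.presheaf.germ V (genericPoint X) hξ).hom) with hρ
  have hiso := isIso_secHom ψ g hg hξ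
  have hinj : Function.Injective (secHom g V).hom :=
    (ConcreteCategory.bijective_of_isIso (secHom g V)).1
  have key := germ_stalkClosedPointTo_toNormalization g hV hζ
  have keyx : ∀ b, (secHom g V).hom (τ b) =
      ((g.normalizationObjIso hV).hom.hom b : integralClosure Γ(X, V) Γ(Spec R, g ⁻¹ᵁ V)).1 :=
    fun b ↦ congr($(key).hom b)
  have happ : ∀ a, (g.app V).hom a = (secHom g V).hom (ρ a) :=
    fun a ↦ congr($(app_eq ψ g hg hξ).hom a)
  have happ' : algebraMap Γ(X, V) Γ(Spec R, g ⁻¹ᵁ V) = (secHom g V).hom.comp ρ :=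
    RingHom.ext happ
  refine ⟨fun a ↦ ?_, fun b ↦ ?_, fun y hy ↦ ?_⟩
  · apply hinj
    rw [keyx, ← happ]
    have h1 : (g.normalizationObjIso hV).hom.hom ((g.fromNormalization.app V).hom a) =
        algebraMap Γ(X, V) (integralClosure Γ(X, V) Γ(Spec R, g ⁻¹ᵁ V)) a := by
      rw [g.fromNormalization_app hV]
      simp
    rw [h1]
    rfl
  · obtain ⟨p, hp, hpe⟩ := ((g.normalizationObjIso hV).hom.hom b).2
    refine ⟨p, hp, hinj ?_⟩
    rw [map_zero, Polynomial.hom_eval₂, keyx, ← happ']
    exact hpe
  · obtain ⟨p, hp, hpe⟩ := hy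
    have hmem : (secHom g V).hom y ∈ integralClosure Γ(X, V) Γ(Spec R, g ⁻¹ᵁ V) := by
      refine ⟨p, hp, ?_⟩
      rw [happ', ← Polynomial.hom_eval₂, hpe, map_zero]
    refine ⟨(g.normalizationObjIso hV).inv.hom ⟨_, hmem⟩, hinj ?_⟩
    rw [keyx]
    simp

include hR hg in
theorem fromNormalization_toNormalization_closedPoint :
    g.fromNormalization (g.toNormalization (IsLocalRing.closedPoint R)) = genericPoint X := by
  have h : (g.toNormalization ≫ g.fromNormalization) (IsLocalRing.closedPoint R) =
      genericPoint X := by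
    rw [g.toNormalization_fromNormalization]
    exact g_apply ψ g hg _
  exact h

include hR hg in
theorem range_stalkClosedPointTo :
    Set.range (Scheme.stalkClosedPointTo g.toNormalization).hom =
      {y : R | ψ.hom.IsIntegralElem y} := by
  have hint := isIntegral_normalization hR g
  obtain ⟨_, ⟨V, hV, rfl⟩, hξ, -⟩ := X.isBasis_affineOpens.exists_subset_of_mem_open
    (Set.mem_univ (genericPoint X)) isOpen_univ
  have hV' : IsAffineOpen V := hV
  have hne : Nonempty V := ⟨⟨_, hξ⟩⟩
  have hfζ := fromNormalization_toNormalization_closedPoint hR ψ g hg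
  have hζ : g.toNormalization (IsLocalRing.closedPoint R) ∈ g.fromNormalization ⁻¹ᵁ V := by
    change g.fromNormalization _ ∈ V
    rw [hfζ]
    exact hξ
  have hF : IsField (g.normalization.presheaf.stalk
      (g.toNormalization (IsLocalRing.closedPoint R))) :=
    isField_stalk_of_eq_genericPoint (toNormalization_apply hR g _)
  obtain ⟨h1, h2, h3⟩ := chart_facts ψ g hg hV' hξ hζ
  have hW : IsAffineOpen (g.fromNormalization ⁻¹ᵁ V) := hV'.preimage _
  have hfr : IsFractionRing Γ(X, V) X.functionField :=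
    functionField_isFractionRing_of_isAffineOpen X V hV'
  refine range_eq_of_chart (A := Γ(X, V)) (K₀ := X.functionField) hR hF ψ.hom
    (g.fromNormalization.app V).hom
    (g.normalization.presheaf.germ (g.fromNormalization ⁻¹ᵁ V) _ hζ).hom
    (Scheme.stalkClosedPointTo g.toNormalization).hom h1 h2 h3 ?_
  intro s
  let _ := TopCat.Presheaf.algebra_section_stalk g.normalization.presheaf
    (U := g.fromNormalization ⁻¹ᵁ V) ⟨_, hζ⟩
  have hloc := hW.isLocalization_stalk ⟨_, hζ⟩
  obtain ⟨⟨b, b'⟩, hbb'⟩ := IsLocalization.surj (hW.primeIdealOf ⟨_, hζ⟩).asIdeal.primeCompl s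
  exact ⟨b, b'.1, IsLocalization.map_units _ b', hbb'⟩

include hR in
theorem injective_stalkClosedPointTo :
    Function.Injective (Scheme.stalkClosedPointTo g.toNormalization).hom := by
  have hint := isIntegral_normalization hR g
  have hF : IsField (g.normalization.presheaf.stalk
      (g.toNormalization (IsLocalRing.closedPoint R))) :=
    isField_stalk_of_eq_genericPoint (toNormalization_apply hR g _)
  exact injective_of_isField hF _

end

/-- Incomparability for integral morphisms: there are no proper specializations inside a fibre. -/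
theorem eq_of_specializes_of_isIntegralHom {N V : Scheme.{u}} (f : N ⟶ V) [IsIntegralHom f]
    {z z' : N} (h : z ⤳ z') (he : f z = f z') : z = z' := by
  obtain ⟨_, ⟨W, hW', rfl⟩, hzW, -⟩ :=
    V.isBasis_affineOpens.exists_subset_of_mem_open (Set.mem_univ (f z')) isOpen_univ
  have hW : IsAffineOpen W := hW'
  have hU : IsAffineOpen (f ⁻¹ᵁ W) := hW.preimage f
  have hz'U : z' ∈ f ⁻¹ᵁ W := hzW
  have hzU : z ∈ f ⁻¹ᵁ W := by change f z ∈ W; rw [he]; exact hzW
  have hint : (f.app W).hom.IsIntegral := IsIntegralHom.isIntegral_app f W hW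
  obtain ⟨q, hqz⟩ : ∃ q : ↥(Spec Γ(N, f ⁻¹ᵁ W)), hU.fromSpec q = z :=
    ⟨hU.primeIdealOf ⟨z, hzU⟩, hU.fromSpec_primeIdealOf ⟨z, hzU⟩⟩
  obtain ⟨q', hqz'⟩ : ∃ q : ↥(Spec Γ(N, f ⁻¹ᵁ W)), hU.fromSpec q = z' :=
    ⟨hU.primeIdealOf ⟨z', hz'U⟩, hU.fromSpec_primeIdealOf ⟨z', hz'U⟩⟩
  have hsq : Spec.map (f.app W) ≫ hW.fromSpec = hU.fromSpec ≫ f := by
    rw [Scheme.Hom.app_eq_appLE]
    exact IsAffineOpen.SpecMap_appLE_fromSpec f hW hU le_rfl
  have h1 : Spec.map (f.app W) q = Spec.map (f.app W) q' := by
    apply hW.fromSpec.isOpenEmbedding.injective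
    have h0 : (Spec.map (f.app W) ≫ hW.fromSpec) q = (hU.fromSpec ≫ f) q := by rw [hsq]
    have h0' : (Spec.map (f.app W) ≫ hW.fromSpec) q' = (hU.fromSpec ≫ f) q' := by rw [hsq]
    rw [Scheme.Hom.comp_apply, Scheme.Hom.comp_apply, hqz] at h0
    rw [Scheme.Hom.comp_apply, Scheme.Hom.comp_apply, hqz'] at h0'
    rw [h0, h0', he]
  have hsp : q ⤳ q' := by
    rw [← hU.fromSpec.isOpenEmbedding.isInducing.specializes_iff, hqz, hqz']
    exact h
  have hle : q.asIdeal ≤ q'.asIdeal := (PrimeSpectrum.le_iff_specializes q q').mpr hsp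
  algebraize [(f.app W).hom]
  have hcomap : q.asIdeal.comap (algebraMap Γ(V, W) Γ(N, f ⁻¹ᵁ W)) =
      q'.asIdeal.comap (algebraMap Γ(V, W) Γ(N, f ⁻¹ᵁ W)) :=
    congrArg PrimeSpectrum.asIdeal h1
  have heq : q = q' := by
    by_contra hne
    have hlt : q.asIdeal < q'.asIdeal := lt_of_le_of_ne hle fun h ↦ hne (PrimeSpectrum.ext h)
    have hqp : q.asIdeal.IsPrime := q.isPrime
    have := Ideal.IsIntegral.comap_lt_comap (R := Γ(V, W)) hlt
    rw [hcomap] at this
    exact lt_irrefl _ this
  rw [← hqz, ← hqz', heq]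

section

variable {X : Scheme.{u}} [IsIntegral X] {R : CommRingCat.{u}} (hR : IsField R)
  (ψ : X.presheaf.stalk (genericPoint X) ⟶ R) (g : Spec R ⟶ X)
  (hg : g = Spec.map ψ ≫ X.fromSpecStalk (genericPoint X)) [QuasiCompact g] [QuasiSeparated g]

include hR hg in
/-- The generic point of the normalization is the only point above the generic point. -/
theorem preimage_genericPoint [IsIntegral g.normalization] :
    g.fromNormalization.base ⁻¹' {genericPoint X} = {genericPoint g.normalization} := by
  ext z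
  simp only [Set.mem_preimage, Set.mem_singleton_iff]
  constructor
  · intro hz
    refine (eq_of_specializes_of_isIntegralHom g.fromNormalization
      (genericPoint_specializes z) ?_).symm
    rw [fromNormalization_genericPoint hR ψ g hg]
    exact hz.symm
  · rintro rfl
    exact fromNormalization_genericPoint hR ψ g hg

end

end Groth.Agent.Lib.NormField85
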