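import Groth.Agent.Lib.AlgSpDim91
import Groth.Agent.Lib.DimLift
import Groth.Agent.Lib.NormField85
import Groth.Agent.Lib.H86CartierChart2
import Groth.Agent.Lib.AlgSpAtPt
import Mathlib.AlgebraicGeometry.Morphisms.Integral

/-!
# Dimension of algebraic spaces along integral morphisms (owner: helper86)

* `topologicalKrullDim_le_of_forall_exists_flat` : a local-to-global bound for the dimension of a scheme.
* `topologicalKrullDim_le_of_isIntegralHom`, `topologicalKrullDim_le_of_isIntegralHom_of_surjective`.
* `exists_integral_chart` : the affine chart of an integral morphism of algebraic spaces through a point.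
* `dim_le_of_isIntegralMor`, `dim_le_of_isIntegralMor_of_isSurjectiveMor`.
-/

set_option autoImplicit false
set_option linter.style.haveILetI false
universe u
open CategoryTheory CategoryTheory.Limits AlgebraicGeometry TopologicalSpace Order
open AlgSp

namespace Groth.Agent.Lib.H86DimChart

open Groth.Agent.Lib.AlgSpAtPt

/-- If every point of a scheme `U` is in the image of a flat morphism from a scheme of dimension at most `D`, then
`U` has dimension at most `D`. -/
theorem topologicalKrullDim_le_of_forall_exists_flat {U : Scheme.{u}} {D : WithBot ℕ∞}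
    (h : ∀ u : ↥U, ∃ (U' : Scheme.{u}) (s : U' ⟶ U), Flat s ∧ u ∈ Set.range s ∧
      topologicalKrullDim ↥U' ≤ D) : topologicalKrullDim ↥U ≤ D := by
  letI := specializationOrder ↥U
  rw [Groth.Agent.Lib.DimLift.topDim_eq_krullDim]
  refine iSup_le fun p => ?_
  obtain ⟨U', s, hs, ⟨u', hu'⟩, hD⟩ := h p.head
  letI := specializationOrder ↥U'
  obtain ⟨q, hq, -⟩ := Groth.Agent.Lib.DimLift.exists_series_of_generalizingMap s s.continuous
    (Flat.generalizingMap s) p.length u' p rfl hu'.symm
  rw [← hq]
  refine (LTSeries.length_le_krullDim q).trans ?_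
  rw [← Groth.Agent.Lib.DimLift.topDim_eq_krullDim]
  exact hD

/-- An integral morphism of schemes does not raise the dimension. -/
theorem topologicalKrullDim_le_of_isIntegralHom {N V : Scheme.{u}} (f : N ⟶ V) [IsIntegralHom f] :
    topologicalKrullDim ↥N ≤ topologicalKrullDim ↥V :=
  Groth.Agent.Lib.DimLift.topDim_le_of_fibres f f.continuous fun _ _ h he =>
    Groth.Agent.Lib.NormField85.eq_of_specializes_of_isIntegralHom f h he

/-- A surjective integral morphism of schemes does not lower the dimension. -/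
theorem topologicalKrullDim_le_of_isIntegralHom_of_surjective {N V : Scheme.{u}} (f : N ⟶ V)
    [IsIntegralHom f] (hs : Function.Surjective f) :
    topologicalKrullDim ↥V ≤ topologicalKrullDim ↥N :=
  Groth.Agent.Lib.DimLift.topDim_le_of_specializingMap f f.continuous hs
    f.isClosedMap.specializingMap

variable {S : Scheme.{u}}

set_option backward.isDefEq.respectTransparency false in
/-- An integral morphism of algebraic spaces does not raise the dimension. -/
theorem dim_le_of_isIntegralMor {X Y : Sp S} (hY : IsAlgSpace Y) (f : X ⟶ Y)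
    (hf : IsIntegralMor f) : AlgSp.dim X ≤ AlgSp.dim Y := by
  refine iSup_le fun U => iSup_le fun a => iSup_le fun ha => ?_
  refine topologicalKrullDim_le_of_forall_exists_flat fun u => ?_
  obtain ⟨V, b, hbe, hbs⟩ := hY.atlas
  obtain ⟨v, hv⟩ := Groth.Agent.Lib.AlgSpQC.surjective_ofPt_of_repWith_surjective hbs
    (Points.map f (Points.ofPt a u))
  obtain ⟨Z₀, hZ₀, hvZ₀, -⟩ :=
    exists_isAffineOpen_mem_and_subset (TopologicalSpace.Opens.mem_top v)
  have hbZ : RepWith @Etale ((yon S).map (opensOverι V Z₀) ≫ b) :=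
    (RepWith @Etale).comp_mem _ _ (repWith_etale_opensOverι V Z₀) hbe
  have hZaff : IsAffine (opensOver V Z₀).left := hZ₀
  obtain ⟨W, i, fst, sq, hWaff, hi⟩ := hf hZaff ((yon S).map (opensOverι V Z₀) ≫ b)
  have hfst : RepWith @Etale fst :=
    Groth.Agent.Lib.AlgSpBasic.repWith_fst_of_isPullback @Etale sq hbZ
  have hpt : Points.map f (Points.ofPt a u) =
      Points.map ((yon S).map (opensOverι V Z₀) ≫ b)
        (Points.ofScheme (opensOver V Z₀) ⟨v, hvZ₀⟩) := by
    rw [← Points.ofPt_eq_map_ofScheme, Groth.Agent.Lib.H86AlgSpPoints.ofPt_map_comp]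
    exact hv.symm
  obtain ⟨ω, hω1, -⟩ := Groth.Agent.Lib.AlgSpPoints.exists_point_of_isPullback sq
    (Points.ofPt a u) (Points.ofScheme (opensOver V Z₀) ⟨v, hvZ₀⟩) hpt
  have hw : Points.ofPt fst (Points.toScheme W ω) = Points.ofPt a u := by
    rw [Points.ofPt_eq_map_ofScheme, Points.ofScheme_toScheme]; exact hω1
  have sqU := ha.rep.isPullback' fst
  obtain ⟨u', hu'1, -⟩ := Groth.Agent.Lib.H86CartierChart2.exists_scheme_point_of_isPullback sqU u
    (Points.toScheme W ω) hw.symm
  haveI : Etale (ha.rep.snd fst).left := ha.property_snd fst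
  have h3 : RepWith @Etale ((yon S).map (ha.rep.fst' fst)) :=
    Groth.Agent.Lib.AlgSpBasic.repWith_fst_of_isPullback @Etale sqU hfst
  haveI : Etale (ha.rep.fst' fst).left := (repWith_yon_map_iff _ _).1 h3
  haveI : LocallyQuasiFinite (ha.rep.snd fst).left :=
    Groth.Agent.Lib.AlgSpBasic.locallyQuasiFinite_of_etale _
  haveI : IsIntegralHom i.left := hi
  refine ⟨(ha.rep.pullback fst).left, (ha.rep.fst' fst).left, inferInstance, ⟨u', hu'1⟩, ?_⟩
  calc topologicalKrullDim ↥(ha.rep.pullback fst).left ≤ topologicalKrullDim ↥W.left :=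
        Groth.Agent.Lib.AlgSpDim91.topologicalKrullDim_le_of_locallyQuasiFinite (ha.rep.snd fst).left
    _ ≤ topologicalKrullDim ↥(opensOver V Z₀).left := topologicalKrullDim_le_of_isIntegralHom i.left
    _ ≤ AlgSp.dim Y := Groth.Agent.Lib.AlgSpDim91.topologicalKrullDim_le_dim _ hbZ

set_option backward.isDefEq.respectTransparency false in
/-- A surjective integral morphism of algebraic spaces does not lower the dimension. -/
theorem dim_le_of_isIntegralMor_of_isSurjectiveMor {X Y : Sp S} (f : X ⟶ Y)
    (hf : IsIntegralMor f) (hs : IsSurjectiveMor f) : AlgSp.dim Y ≤ AlgSp.dim X := by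
  refine iSup_le fun V => iSup_le fun b => iSup_le fun hbe => ?_
  refine topologicalKrullDim_le_of_forall_exists_flat fun v => ?_
  obtain ⟨Z₀, hZ₀, hvZ₀, -⟩ :=
    exists_isAffineOpen_mem_and_subset (TopologicalSpace.Opens.mem_top v)
  have hbZ : RepWith @Etale ((yon S).map (opensOverι V Z₀) ≫ b) :=
    (RepWith @Etale).comp_mem _ _ (repWith_etale_opensOverι V Z₀) hbe
  have hZaff : IsAffine (opensOver V Z₀).left := hZ₀
  obtain ⟨W, i, fst, sq, hWaff, hi⟩ := hf hZaff ((yon S).map (opensOverι V Z₀) ≫ b)
  have hfst : RepWith @Etale fst :=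
    Groth.Agent.Lib.AlgSpBasic.repWith_fst_of_isPullback @Etale sq hbZ
  have hsurj : Function.Surjective i.left :=
    (Groth.Agent.Lib.AlgSpPoints.surjective_map_yon_map_iff i).1
      (Groth.Agent.Lib.AlgSpPoints.isSurjectiveMor_of_isPullback sq hs)
  haveI : IsIntegralHom i.left := hi
  refine ⟨(opensOver V Z₀).left, (opensOverι V Z₀).left, inferInstanceAs (Flat Z₀.ι),
    ⟨⟨v, hvZ₀⟩, rfl⟩, ?_⟩
  calc topologicalKrullDim ↥(opensOver V Z₀).left ≤ topologicalKrullDim ↥W.left :=
        topologicalKrullDim_le_of_isIntegralHom_of_surjective i.left hsurj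
    _ ≤ AlgSp.dim X := Groth.Agent.Lib.AlgSpDim91.topologicalKrullDim_le_dim fst hfst

end Groth.Agent.Lib.H86DimChart
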