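import Groth.Agent.Lib.FinLocFree
import Groth.Prelude.Def_DCoh2

/-!
# Local null-homotopies of maps out of strictly perfect complexes
-/

set_option autoImplicit false
universe u

open CategoryTheory CategoryTheory.Limits AlgebraicGeometry

namespace Groth.Agent.Lib.LocalHomotopy

open Groth.Agent.Lib.FreeModSch Groth.Agent.Lib.FinLocFree

variable {X : Scheme.{u}}

section Res

variable {V' V : X.Opens} (h : V' ≤ V)

/-- Restriction to a smaller open of a morphism between restricted modules. -/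
noncomputable def res {A B : X.Modules} (u : A.restrict V.ι ⟶ B.restrict V.ι) :
    A.restrict V'.ι ⟶ B.restrict V'.ι :=
  (restrictRestrictIso h).inv.app A ≫ (Scheme.Modules.restrictFunctor (X.homOfLE h)).map u ≫
    (restrictRestrictIso h).hom.app B

lemma res_map {A B : X.Modules} (φ : A ⟶ B) :
    res h ((Scheme.Modules.restrictFunctor V.ι).map φ) =
      (Scheme.Modules.restrictFunctor V'.ι).map φ := by
  have h2 := (restrictRestrictIso h).hom.naturality φ
  simp only [Functor.comp_map] at h2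
  unfold res
  rw [h2, ← Category.assoc, ← NatTrans.comp_app, Iso.inv_hom_id, NatTrans.id_app,
    Category.id_comp]

lemma res_comp {A B C : X.Modules} (u : A.restrict V.ι ⟶ B.restrict V.ι)
    (v : B.restrict V.ι ⟶ C.restrict V.ι) : res h (u ≫ v) = res h u ≫ res h v := by
  unfold res
  simp only [Functor.map_comp, Category.assoc, Iso.hom_inv_id_app_assoc]

lemma res_zero {A B : X.Modules} : res h (0 : A.restrict V.ι ⟶ B.restrict V.ι) = 0 := by
  unfold res
  simp

lemma res_add {A B : X.Modules} (u v : A.restrict V.ι ⟶ B.restrict V.ι) :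
    res h (u + v) = res h u + res h v := by
  unfold res
  simp [Functor.map_add]

lemma res_sub {A B : X.Modules} (u v : A.restrict V.ι ⟶ B.restrict V.ι) :
    res h (u - v) = res h u - res h v := by
  unfold res
  simp [Functor.map_sub]

end Res


section Lift

/-- Lifting through an exact sequence: if `A ⟶ B ⟶ C` is exact and `γ : D ⟶ B` is killed by
`B ⟶ C`, with `D` finite locally free, then locally `γ` lifts to `A`. -/
theorem exists_lift_of_exact {A B C D : X.Modules} (f : A ⟶ B) (g : B ⟶ C) (hfg : f ≫ g = 0)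
    (hex : (ShortComplex.mk f g hfg).Exact) (γ : D ⟶ B) (hγ : γ ≫ g = 0)
    (hD : FlatMod.IsFinLocFree D) (x : X) :
    ∃ (V : X.Opens), x ∈ V ∧ ∀ {W : Scheme.{u}} (j : W ⟶ X) [IsOpenImmersion j],
      j.opensRange ≤ V → ∃ ψ : D.restrict j ⟶ A.restrict j,
        ψ ≫ (Scheme.Modules.restrictFunctor j).map f =
          (Scheme.Modules.restrictFunctor j).map γ := by
  let S := ShortComplex.mk f g hfg
  have : Epi S.toCycles := hex.epi_toCycles
  obtain ⟨V, hxV, hl⟩ := exists_lift_of_isFinLocFree_of_le S.toCycles (S.liftCycles γ hγ) hD x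
  refine ⟨V, hxV, fun {W} j _ hj => ?_⟩
  obtain ⟨ψ, hψ⟩ := hl j hj
  refine ⟨ψ, ?_⟩
  have hf : S.toCycles ≫ S.iCycles = f := S.toCycles_i
  have hg : S.liftCycles γ hγ ≫ S.iCycles = γ := S.liftCycles_i γ hγ
  rw [← hf, ← hg, Functor.map_comp, Functor.map_comp, reassoc_of% hψ]

end Lift

section Main

variable {E F : CochainComplex X.Modules ℤ} (α : E ⟶ F)

/-- The homotopy equation in degree `i` for a family of maps on `V`. -/
def Eqn (V : X.Opens) (h : ∀ i j : ℤ, (E.X i).restrict V.ι ⟶ (F.X j).restrict V.ι) (i : ℤ) :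
    Prop :=
  ∀ (im ip : ℤ), im + 1 = i → i + 1 = ip →
    (Scheme.Modules.restrictFunctor V.ι).map (α.f i) =
      (Scheme.Modules.restrictFunctor V.ι).map (E.d i ip) ≫ h ip i +
        h i im ≫ (Scheme.Modules.restrictFunctor V.ι).map (F.d im i)

lemma eqn_of_isZero (V : X.Opens) (h : ∀ i j : ℤ, (E.X i).restrict V.ι ⟶ (F.X j).restrict V.ι)
    (i : ℤ) (hz : IsZero (E.X i)) : Eqn α V h i := by
  intro im ip _ _
  exact ((Scheme.Modules.restrictFunctor V.ι).map_isZero hz).eq_of_src _ _

/-- Partial null-homotopy in degrees `≥ k` near `x`. -/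
def P (x : X) (k : ℤ) : Prop :=
  ∃ (V : X.Opens) (_ : x ∈ V) (h : ∀ i j : ℤ, (E.X i).restrict V.ι ⟶ (F.X j).restrict V.ι),
    ∀ i, k ≤ i → Eqn α V h i

lemma P_of_forall_isZero (x : X) (k : ℤ) (hz : ∀ i, k ≤ i → IsZero (E.X i)) : P α x k :=
  ⟨⊤, trivial, fun _ _ => 0, fun i hi => eqn_of_isZero α _ _ i (hz i hi)⟩

lemma P_step (x : X) (k : ℤ) (hE : FlatMod.IsFinLocFree (E.X k)) (hF : IsZero (F.homology k))
    (hP : P α x (k + 1)) : P α x k := by
  obtain ⟨V, hxV, h, hh⟩ := hP
  let R := Scheme.Modules.restrictFunctor V.ι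
  have hdd : R.map (F.d (k - 1) k) ≫ R.map (F.d k (k + 1)) = 0 := by
    rw [← R.map_comp, F.d_comp_d, R.map_zero]
  have hS : (ShortComplex.mk _ _ hdd).Exact := by
    have h1 : F.ExactAt k := (F.exactAt_iff_isZero_homology k).2 hF
    have h2 : (F.sc' (k - 1) k (k + 1)).Exact :=
      (F.exactAt_iff' (k - 1) k (k + 1) (by simp) (by simp)).1 h1
    exact h2.map R
  let γ : R.obj (E.X k) ⟶ R.obj (F.X k) := R.map (α.f k) - R.map (E.d k (k + 1)) ≫ h (k + 1) k
  have hγ : γ ≫ R.map (F.d k (k + 1)) = 0 := by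
    have e1 := hh (k + 1) le_rfl k (k + 1 + 1) rfl rfl
    have e2 : h (k + 1) k ≫ R.map (F.d k (k + 1)) =
        R.map (α.f (k + 1)) - R.map (E.d (k + 1) (k + 1 + 1)) ≫ h (k + 1 + 1) (k + 1) := by
      rw [e1]; abel
    change (R.map (α.f k) - R.map (E.d k (k + 1)) ≫ h (k + 1) k) ≫ R.map (F.d k (k + 1)) = 0
    rw [Preadditive.sub_comp, Category.assoc, e2, Preadditive.comp_sub, ← R.map_comp,
      ← R.map_comp, ← R.map_comp_assoc, E.d_comp_d, R.map_zero, zero_comp, sub_zero,
      α.comm, sub_self]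
  obtain ⟨V', hxV', hl⟩ := exists_lift_of_exact _ _ hdd hS γ hγ
    (isFinLocFree_restrict V.ι hE) ⟨x, hxV⟩
  have hle : V.ι ''ᵁ V' ≤ V := V.ι_image_le V'
  obtain ⟨ψ, hψ⟩ := hl (X.homOfLE hle) (by
    rw [Scheme.opensRange_homOfLE, Scheme.Hom.preimage_image_eq])
  let β := restrictRestrictIso hle
  let ρ := Scheme.Modules.restrictFunctor (X.homOfLE hle)
  let ψ' : (E.X k).restrict (V.ι ''ᵁ V').ι ⟶ (F.X (k - 1)).restrict (V.ι ''ᵁ V').ι :=
    β.inv.app _ ≫ ψ ≫ β.hom.app _
  have hψ'' : ψ' ≫ (Scheme.Modules.restrictFunctor (V.ι ''ᵁ V').ι).map (F.d (k - 1) k) =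
      res hle γ := by
    have h2 := β.hom.naturality (F.d (k - 1) k)
    simp only [Functor.comp_map] at h2
    change (β.inv.app _ ≫ ψ ≫ β.hom.app _) ≫ _ = β.inv.app _ ≫ ρ.map γ ≫ β.hom.app _
    rw [Category.assoc, Category.assoc, ← h2, reassoc_of% hψ]
  let h'' : ∀ i j : ℤ, (E.X i).restrict (V.ι ''ᵁ V').ι ⟶ (F.X j).restrict (V.ι ''ᵁ V').ι :=
    fun i j => if hij : i = k ∧ j = k - 1 then
      eqToHom (by rw [hij.1]) ≫ ψ' ≫ eqToHom (by rw [hij.2]) else res hle (h i j)
  have h''1 : h'' k (k - 1) = ψ' := by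
    simp only [h'', and_self, dite_true, eqToHom_refl, Category.id_comp, Category.comp_id]
  have h''2 : ∀ i j, i ≠ k → h'' i j = res hle (h i j) := by
    intro i j hi
    simp only [h'', hi, false_and, dite_false]
  refine ⟨V.ι ''ᵁ V', ⟨⟨x, hxV⟩, hxV', rfl⟩, h'', fun i hi => ?_⟩
  intro im ip him hip
  rcases eq_or_lt_of_le hi with rfl | hi'
  · -- degree `k`
    obtain rfl : im = k - 1 := by omega
    obtain rfl : ip = k + 1 := by omega
    rw [h''1, h''2 (k + 1) k (by omega), hψ'']
    change _ = _ + res hle (R.map (α.f k) - R.map (E.d k (k + 1)) ≫ h (k + 1) k)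
    rw [res_sub, res_comp, res_map, res_map]
    abel
  · subst him hip
    have e1 := hh (im + 1) (by omega) im (im + 1 + 1) rfl rfl
    rw [h''2 _ _ (by omega), h''2 _ _ (by omega), ← res_map hle, ← res_map hle (E.d _ _),
      ← res_map hle (F.d _ _), ← res_comp, ← res_comp, ← res_add, e1]

/-- Stacks 08C6-type lemma: a map from a strictly perfect complex vanishing in degrees `< a` to a
complex which is acyclic in degrees `≥ a` is locally null-homotopic. -/
theorem exists_homotopy_zero (hE : DCoh.IsStrictlyPerfect E) (a : ℤ)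
    (hEa : ∀ i : ℤ, i < a → IsZero (E.X i))
    (hF : ∀ i : ℤ, a ≤ i → IsZero (F.homology i)) (x : X) :
    ∃ V : X.Opens, x ∈ V ∧ Nonempty (Homotopy ((DCoh.restrictCx V).map α) 0) := by
  obtain ⟨⟨a', b, hab⟩, hfree⟩ := hE
  have key : ∀ m : ℕ, a ≤ b + 1 - (m : ℤ) → P α x (b + 1 - (m : ℤ)) := by
    intro m
    induction m with
    | zero =>
      intro _
      exact P_of_forall_isZero α x _ (fun i hi => hab i (Or.inr (by omega)))
    | succ m ih =>
      intro hm
      have hP := ih (by push_cast at hm ⊢; omega)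
      have e : b + 1 - ((m + 1 : ℕ) : ℤ) + 1 = b + 1 - (m : ℤ) := by push_cast; ring
      apply P_step α x _ (hfree _) (hF _ hm)
      rw [e]
      exact hP
  have hPa : P α x a := by
    by_cases hab' : a ≤ b + 1
    · have h1 := key (b + 1 - a).toNat (by rw [Int.toNat_of_nonneg (by omega)]; omega)
      rwa [Int.toNat_of_nonneg (by omega), show b + 1 - (b + 1 - a) = a by ring] at h1
    · exact P_of_forall_isZero α x a (fun i hi => hab i (Or.inr (by omega)))
  obtain ⟨V, hxV, h, hh⟩ := hPa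
  refine ⟨V, hxV, ⟨{ hom := fun i j => if j + 1 = i then h i j else 0, zero := ?_, comm := ?_ }⟩⟩
  · intro i j hij
    exact if_neg hij
  · intro i
    have e : Eqn α V h i := by
      by_cases hi : a ≤ i
      · exact hh i hi
      · exact eqn_of_isZero α V h i (hEa i (by omega))
    rw [dNext_eq _ (show (ComplexShape.up ℤ).Rel i (i + 1) from rfl),
      prevD_eq _ (show (ComplexShape.up ℤ).Rel (i - 1) i by simp)]
    have e' := e (i - 1) (i + 1) (by ring) rfl
    simp only [if_true, sub_add_cancel, HomologicalComplex.zero_f, add_zero]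
    exact e'

end Main

end Groth.Agent.Lib.LocalHomotopy
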