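import Groth.Agent.Lib.SemilocalFree
import Mathlib.AlgebraicGeometry.Morphisms.QuasiFinite
import Mathlib.AlgebraicGeometry.Morphisms.Finite

/-!
# Consequences of freeness near finite sets: finite morphisms, invertible modules
-/

set_option autoImplicit false
universe u

open CategoryTheory CategoryTheory.Limits AlgebraicGeometry TopologicalSpace Opposite Module

namespace Groth.Agent.Lib.SemilocalFree

open Groth.Agent.Lib.LocFreeCrit Groth.Agent.Lib.PerfectLocal Groth.Agent.Lib.FinLocFree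
  Groth.Agent.Lib.SemilocalBasis

variable {X Y : Scheme.{u}}

/-- Freeness on an open passes to smaller opens. -/
theorem nonempty_restrict_iso_of_le {M : X.Modules} {W U : X.Opens} {n : ℕ}
    (e : M.restrict W.ι ≅ FlatMod.freeMod W n) (h : U ≤ W) :
    Nonempty (M.restrict U.ι ≅ FlatMod.freeMod U n) := by
  obtain ⟨j', _, hj'⟩ := exists_factor_ι U.ι W (by rw [Scheme.Opens.opensRange_ι]; exact h)
  exact ⟨((restrictFactorIso j' W.ι U.ι hj').app M).symm ≪≫
    (Scheme.Modules.restrictFunctor j').mapIso e ≪≫ restrictFreeModIso j' n⟩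

/-- Variant of `exists_open_free_of_finite` with the open a basic open of `V` (hence affine). -/
theorem exists_basicOpen_free_of_finite (r : ℕ) (E : X.Modules)
    (hE : FlatMod.IsFinLocFreeOfRank r E)
    (Z : Set X) (hZ : Z.Finite) (V : X.Opens) (hV : IsAffineOpen V) (hZV : Z ⊆ V) :
    ∃ f : Γ(X, V), Z ⊆ X.basicOpen f ∧
      Nonempty (E.restrict (X.basicOpen f).ι ≅ FlatMod.freeMod (X.basicOpen f : Scheme.{u}) r) := by
  have hE' : FlatMod.IsFinLocFree E := fun x => by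
    obtain ⟨U, hxU, h⟩ := hE x
    exact ⟨U, r, hxU, h⟩
  haveI : SheafOfModules.IsFinitePresentation (R := X.ringCatSheaf) E :=
    Groth.Agent.Lib.H90Invertible.isFinitePresentation_of_isFinLocFree hE'
  haveI : E.IsQuasicoherent := Groth.Agent.Lib.H90Invertible.isQuasicoherent_of_isFinLocFree hE'
  have hfp : Module.FinitePresentation Γ(X, V) Γ(E, V) :=
    Groth.Agent.Lib.H90OXModFP.finitePresentation_sections E hV
  have hflat : Module.Flat Γ(X, V) Γ(E, V) :=
    Groth.Agent.Lib.QCohFlat.flat_sections_of_flat_stalks E hV fun x => by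
      have := Groth.Agent.Lib.LocFreeFP.free_stalk_of_isFinLocFree hE' x.1
      infer_instance
  have hrk : ∀ z : V, rankAtStalk (R := Γ(X, V)) Γ(E, V) (hV.primeIdealOf z) = r := by
    intro z
    rw [rankAtStalk_sections_eq E hV z]
    obtain ⟨U, hzU, ⟨e⟩⟩ := hE z.1
    exact finrank_stalk_eq_of_restrict_iso U e ⟨z.1, hzU⟩
  classical
  let _ : Fintype Z := hZ.fintype
  let P : Finset (PrimeSpectrum Γ(X, V)) :=
    Finset.univ.image fun z : Z => hV.primeIdealOf ⟨z.1, hZV z.2⟩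
  have hP : ∀ p ∈ P, rankAtStalk (R := Γ(X, V)) Γ(E, V) p = r := by
    intro p hp
    obtain ⟨z, -, rfl⟩ := Finset.mem_image.mp hp
    exact hrk _
  obtain ⟨s, f, hf, hs⟩ := exists_isBasisAway P Γ(E, V) r hP
  have hUV : X.basicOpen f ≤ V := X.basicOpen_le f
  refine ⟨f, fun z hz => ?_, ?_⟩
  · rw [SetLike.mem_coe, mem_basicOpen_iff_notMem_primeIdealOf hV ⟨z, hZV hz⟩]
    exact hf _ (Finset.mem_image.mpr ⟨⟨z, hz⟩, Finset.mem_univ _, rfl⟩)
  · exact Groth.Agent.Lib.LocFreeRank.nonempty_iso_freeMod_of_forall_basis E hUV s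
      (fun y => (IsBasisAway.germ hV hs ⟨y.1, hUV y.2⟩ y.2).1)
      (fun y => (IsBasisAway.germ hV hs ⟨y.1, hUV y.2⟩ y.2).2)

/-- For a finite morphism `f : X ⟶ Y` and `F` locally free of rank `r` on `X`, every point of `Y`
has an open neighbourhood over whose preimage `F` is free of rank `r`. -/
theorem exists_open_preimage_free (f : X ⟶ Y) [IsFinite f] (r : ℕ)
    (F : X.Modules) (hF : FlatMod.IsFinLocFreeOfRank r F) (y : Y) :
    ∃ U : Y.Opens, y ∈ U ∧ Nonempty (F.restrict (f ⁻¹ᵁ U).ι ≅ FlatMod.freeMod (↑(f ⁻¹ᵁ U)) r) := by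
  obtain ⟨_, ⟨V, hV, rfl⟩, hyV, -⟩ :=
    Y.isBasis_affineOpens.exists_subset_of_mem_open (Set.mem_univ y) isOpen_univ
  have hV' : IsAffineOpen (f ⁻¹ᵁ V) := hV.preimage f
  have hZ : (f ⁻¹' {y}).Finite := f.finite_preimage_singleton y
  have hZV : f ⁻¹' {y} ⊆ (f ⁻¹ᵁ V : X.Opens) := by
    intro z hz
    change f z ∈ V
    rw [Set.mem_preimage, Set.mem_singleton_iff] at hz
    rw [hz]
    exact hyV
  obtain ⟨W, hZW, -, ⟨e⟩⟩ := exists_open_free_of_finite r F hF _ hZ _ hV' hZV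
  have hclosed : IsClosed (f '' (W : Set X)ᶜ) := f.isClosedMap _ W.isOpen.isClosed_compl
  let U : Y.Opens := ⟨(f '' (W : Set X)ᶜ)ᶜ, hclosed.isOpen_compl⟩
  have hyU : y ∈ U := by
    rintro ⟨z, hzW, hzy⟩
    exact hzW (hZW hzy)
  have hUW : f ⁻¹ᵁ U ≤ W := by
    intro z hz
    by_contra hzW
    exact hz ⟨z, hzW, rfl⟩
  exact ⟨U, hyU, nonempty_restrict_iso_of_le e hUW⟩

end Groth.Agent.Lib.SemilocalFree
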