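import Groth.Agent.Lib.LocalFlex
import Groth.Agent.Lib.LocalHomotopy
import Groth.Agent.Lib.LocFreeSummand
import Groth.Agent.Lib.CyclesRetract
import Groth.Agent.Lib.SemilocalFree2
import Groth.Agent.Lib.CohFinite

/-!
# Kernels of epimorphisms of finite locally free modules; local freeness near a point
-/

set_option autoImplicit false
universe u

open CategoryTheory CategoryTheory.Limits AlgebraicGeometry

namespace Groth.Agent.Lib.KernelLocFree

open Groth.Agent.Lib.PerfectLocal Groth.Agent.Lib.FinLocFree Groth.Agent.Lib.LocFreeCrit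
  Groth.Agent.Lib.RestrictExact Groth.Agent.Lib.LocalFlex Groth.Agent.Lib.LocalHomotopy
  Groth.Agent.Lib.FreeModSch

variable {X : Scheme.{u}}

/-- The kernel of an epimorphism between finite locally free modules is finite locally free. -/
theorem isFinLocFree_kernel_of_epi {M N : X.Modules} (hM : FlatMod.IsFinLocFree M)
    (hN : FlatMod.IsFinLocFree N) (f : M ⟶ N) [Epi f] : FlatMod.IsFinLocFree (kernel f) := by
  apply isFinLocFree_of_forall_restrict
  intro x
  obtain ⟨V, s, hxV, hs⟩ := exists_lift_of_isFinLocFree f (𝟙 N) hN x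
  obtain ⟨V', hxV', a, hV'⟩ := exists_forall_restrict_iso_freeMod hM x
  have hle : V ⊓ V' ≤ V := inf_le_left
  obtain ⟨e⟩ := hV' (V ⊓ V').ι (by rw [Scheme.Opens.opensRange_ι]; exact inf_le_right)
  refine ⟨(V ⊓ V' : X.Opens), (V ⊓ V').ι, inferInstance, ⟨⟨x, hxV, hxV'⟩, rfl⟩, ?_⟩
  let R := Scheme.Modules.restrictFunctor (V ⊓ V').ι
  let s' : R.obj N ⟶ R.obj M := res hle s
  have hs' : s' ≫ R.map f = 𝟙 _ := by
    change res hle s ≫ (Scheme.Modules.restrictFunctor (V ⊓ V').ι).map f = 𝟙 _
    rw [← res_map hle, ← res_comp, hs, CategoryTheory.Functor.map_id]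
    exact Groth.Agent.Lib.CyclesRetract.res_id hle N
  let r : R.obj M ⟶ R.obj M := 𝟙 _ - R.map f ≫ s'
  have hr : r ≫ R.map f = 0 := by
    simp only [r, Preadditive.sub_comp, Category.id_comp, Category.assoc, hs', Category.comp_id,
      sub_self]
  let k : R.obj M ⟶ kernel (R.map f) := kernel.lift (R.map f) r hr
  have hk : kernel.ι (R.map f) ≫ k = 𝟙 _ := by
    rw [← cancel_mono (kernel.ι (R.map f)), Category.assoc, kernel.lift_ι, Category.id_comp]
    simp only [r, Preadditive.comp_sub, Category.comp_id, kernel.condition_assoc, zero_comp,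
      sub_zero]
  let c : R.obj (kernel f) ≅ kernel (R.map f) := PreservesKernel.iso R f
  refine Groth.Agent.Lib.LocFreeSummand.isFinLocFree_of_retract
    (c.hom ≫ kernel.ι (R.map f) ≫ e.hom) (e.inv ≫ k ≫ c.inv) ?_
  simp only [Category.assoc, Iso.hom_inv_id_assoc, reassoc_of% hk, Iso.hom_inv_id]

/-- Restricted version of `isFinLocFree_kernel_of_epi`. -/
theorem isFinLocFree_restrict_kernel_of_epi {M N : X.Modules} (f : M ⟶ N) [Epi f] (W : X.Opens)
    (hM : FlatMod.IsFinLocFree (M.restrict W.ι)) (hN : FlatMod.IsFinLocFree (N.restrict W.ι)) :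
    FlatMod.IsFinLocFree ((kernel f).restrict W.ι) := by
  have : Epi ((Scheme.Modules.restrictFunctor W.ι).map f) := inferInstance
  exact isFinLocFree_of_iso (PreservesKernel.iso (Scheme.Modules.restrictFunctor W.ι) f).symm
    (isFinLocFree_kernel_of_epi hM hN ((Scheme.Modules.restrictFunctor W.ι).map f))

/-- Restricted version of `isFP_cokernel_of_isFinLocFree`. -/
theorem isFP_restrict_cokernel {M N : X.Modules} (f : M ⟶ N) (W : X.Opens)
    (hM : FlatMod.IsFinLocFree (M.restrict W.ι)) (hN : FlatMod.IsFinLocFree (N.restrict W.ι)) :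
    CohB1.IsFP ((cokernel f).restrict W.ι) :=
  (SheafOfModules.isFinitePresentation (W : Scheme.{u}).ringCatSheaf).prop_of_iso
    (PreservesCokernel.iso (Scheme.Modules.restrictFunctor W.ι) f).symm
    (isFP_cokernel_of_isFinLocFree hM hN ((Scheme.Modules.restrictFunctor W.ι).map f))

/-- Finite local freeness passes to smaller opens. -/
theorem isFinLocFree_restrict_of_le {M : X.Modules} {W' W : X.Opens} (h : W' ≤ W)
    (hM : FlatMod.IsFinLocFree (M.restrict W.ι)) : FlatMod.IsFinLocFree (M.restrict W'.ι) :=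
  isFinLocFree_of_iso ((restrictRestrictIso h).app M) (isFinLocFree_restrict (X.homOfLE h) hM)

/-- A module which is finitely presented on a neighbourhood `W` of `y` and whose stalk at `y` is
free is finite locally free on a smaller neighbourhood. -/
theorem exists_isFinLocFree_restrict_of_isFP_of_free (M : X.Modules) (W : X.Opens) (y : X)
    (hy : y ∈ W) (hFP : CohB1.IsFP (M.restrict W.ι))
    (hfree : Module.Free (X.presheaf.stalk y) (M.presheaf.stalk y)) :
    ∃ W' : X.Opens, W' ≤ W ∧ y ∈ W' ∧ FlatMod.IsFinLocFree (M.restrict W'.ι) := by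
  have hfree' : Module.Free ((W : Scheme.{u}).presheaf.stalk ⟨y, hy⟩)
      ((M.restrict W.ι).presheaf.stalk ⟨y, hy⟩) :=
    (Groth.Agent.Lib.RestrictStalk.free_restrict_iff W.ι M ⟨y, hy⟩).mpr hfree
  obtain ⟨n, hn⟩ := Groth.Agent.Lib.LocFreeFP.exists_locFreeAt_of_isFP_of_free (M.restrict W.ι)
    hFP ⟨y, hy⟩ hfree'
  obtain ⟨U, hyU, ⟨e⟩⟩ := (LocFreeAt.of_restrict W hy hn).exists_restrict_iso
  obtain ⟨e'⟩ := Groth.Agent.Lib.SemilocalFree.nonempty_restrict_iso_of_le e
    (inf_le_left : U ⊓ W ≤ U)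
  exact ⟨U ⊓ W, inf_le_right, ⟨hyU, hy⟩,
    isFinLocFree_of_iso e'.symm (isFinLocFree_freeMod _ n)⟩

end Groth.Agent.Lib.KernelLocFree
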