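/-
helper87: ranks in short exact sequences of finite locally free `O_X`-modules.

* `stalk_free_finite_finrank`: `M|_U ≅ O_U^n` ⟹ stalks free, finite, of rank `n`
* `finrank_eq_add_of_exact`: rank additivity (commutative ring, free finite outer terms)
* `isFinLocFreeOfRank_of_shortExact`: `0 → M₁ → M₂ → M₃ → 0` with `M₂`, `M₃` locally free of ranks
  `a`, `b` ⟹ `M₁` locally free of rank `a - b`
-/
import Mathlib
import Groth.Agent.Lib.LocFreeRank
import Groth.Agent.Lib.KernelLocFree
import Groth.Agent.Lib.H90InvertiblePullback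

set_option autoImplicit false
set_option backward.isDefEq.respectTransparency.types false
universe u

open CategoryTheory CategoryTheory.Limits AlgebraicGeometry TopologicalSpace Opposite

namespace Groth.Agent.Lib.H87LocFreeExact

open Groth.Agent.Lib.ModStalk Groth.Agent.Lib.ModStalkLin Groth.Agent.Lib.FreeModSch
  Groth.Agent.Lib.FreeModStalk Groth.Agent.Lib.RestrictStalk Groth.Agent.Lib.LocFreeRank

variable {X : Scheme.{u}}

attribute [local instance] RingHomInvPair.of_ringEquiv RingHomInvPair.of_ringEquiv_symm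

/-- the stalks of a module which is free of rank `n` on `U` are free of rank `n` -/
theorem stalk_free_finite_finrank {M : X.Modules} (U : X.Opens) {n : ℕ}
    (e : M.restrict U.ι ≅ FlatMod.freeMod U n) (y : U) :
    Module.Free (X.presheaf.stalk y.1) (M.presheaf.stalk y.1) ∧
    Module.Finite (X.presheaf.stalk y.1) (M.presheaf.stalk y.1) ∧
    Module.finrank (X.presheaf.stalk y.1) (M.presheaf.stalk y.1) = n := by
  let b := (stalkBasis (X := U.toScheme) (n := n) y).map (stalkLinEquiv e y).symm
  have h1 : Module.Free (U.toScheme.presheaf.stalk y) ((M.restrict U.ι).presheaf.stalk y) :=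
    Module.Free.of_basis b
  have h1' : Module.Finite (U.toScheme.presheaf.stalk y) ((M.restrict U.ι).presheaf.stalk y) :=
    Module.Finite.of_basis b
  refine ⟨(free_restrict_iff U.ι M y).mp h1, ?_, ?_⟩
  · haveI : RingHomSurjective ((stalkRingEquiv U.ι y).symm :
        U.toScheme.presheaf.stalk y →+* X.presheaf.stalk (U.ι y)) :=
      ⟨(stalkRingEquiv U.ι y).symm.surjective⟩
    exact Module.Finite.of_surjective (restrictStalkSemilinearEquiv U.ι M y).symm.toLinearMap
      (restrictStalkSemilinearEquiv U.ι M y).symm.surjective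
  · have h4 := finrank_restrict_eq U.ι M y
    rw [Module.finrank_eq_card_basis b, Fintype.card_fin] at h4
    exact h4.symm

/-- rank additivity for short exact sequences of finite free modules -/
theorem finrank_eq_add_of_exact {R A B C : Type*} [CommRing R] [Nontrivial R]
    [AddCommGroup A] [Module R A]
    [AddCommGroup B] [Module R B] [AddCommGroup C] [Module R C]
    [Module.Free R A] [Module.Finite R A] [Module.Free R C] [Module.Finite R C]
    (f : A →ₗ[R] B) (g : B →ₗ[R] C) (hf : Function.Injective f) (hfg : Function.Exact f g)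
    (hg : Function.Surjective g) :
    Module.finrank R B = Module.finrank R A + Module.finrank R C := by
  obtain ⟨s, hs⟩ := Module.projective_lifting_property g LinearMap.id hg
  obtain ⟨e, -, -⟩ := (hfg.splitSurjectiveEquiv hf ⟨s, hs⟩)
  rw [e.finrank_eq, Module.finrank_prod]

open Groth.Agent.Lib.KernelLocFree in
/-- in a short exact sequence of `O_X`-modules with middle and right terms finite locally free of
ranks `a` and `b`, the left term is finite locally free of rank `a - b` -/
theorem isFinLocFreeOfRank_of_shortExact {S : ShortComplex X.Modules} (hS : S.ShortExact) {a b : ℕ}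
    (h2 : FlatMod.IsFinLocFreeOfRank a S.X₂) (h3 : FlatMod.IsFinLocFreeOfRank b S.X₃) :
    FlatMod.IsFinLocFreeOfRank (a - b) S.X₁ := by
  haveI := hS.epi_g
  haveI := hS.mono_f
  have hf2 : FlatMod.IsFinLocFree S.X₂ := fun x => by
    obtain ⟨U, hx, h⟩ := h2 x
    exact ⟨U, a, hx, h⟩
  have hf3 : FlatMod.IsFinLocFree S.X₃ := fun x => by
    obtain ⟨U, hx, h⟩ := h3 x
    exact ⟨U, b, hx, h⟩
  let e : S.X₁ ≅ kernel S.g :=
    IsLimit.conePointUniqueUpToIso hS.exact.fIsKernel (limit.isLimit (parallelPair S.g 0))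
  have hf1 : FlatMod.IsFinLocFree S.X₁ :=
    Groth.Agent.Lib.FinLocFree.isFinLocFree_of_iso e.symm (isFinLocFree_kernel_of_epi hf2 hf3 S.g)
  intro x
  obtain ⟨U₁, m, hx₁, ⟨e₁⟩⟩ := hf1 x
  obtain ⟨U₂, hx₂, ⟨e₂⟩⟩ := h2 x
  obtain ⟨U₃, hx₃, ⟨e₃⟩⟩ := h3 x
  obtain ⟨f1, n1, r1⟩ := stalk_free_finite_finrank U₁ e₁ ⟨x, hx₁⟩
  obtain ⟨f2, n2, r2⟩ := stalk_free_finite_finrank U₂ e₂ ⟨x, hx₂⟩
  obtain ⟨f3, n3, r3⟩ := stalk_free_finite_finrank U₃ e₃ ⟨x, hx₃⟩
  obtain ⟨hinj, hex, hsurj⟩ := stalkLin_exact hS x
  have hadd := finrank_eq_add_of_exact (stalkLin S.f x) (stalkLin S.g x) hinj hex hsurj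
  simp only at r1 r2 r3
  rw [r1, r2, r3] at hadd
  have hm : m = a - b := by omega
  subst hm
  exact ⟨U₁, hx₁, ⟨e₁⟩⟩

end Groth.Agent.Lib.H87LocFreeExact
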