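import Groth.Agent.Lib.EtDeg42b
import Groth.Agent.Lib.DegPull48
import Groth.Agent.Lib.CurveDeg48g
import Groth.Agent.Lib.H86DimChart
import Groth.Agent.Lib.H87LocFreeExact
import Groth.Agent.Lib.CurveVB67K
import Groth.Agent.Lib.H90OXModPushFinite
import Groth.Agent.Lib.H90CohCenter
import Groth.Agent.Lib.H4KoszulPn
import Groth.Agent.Lib.HilbPoly48
import Groth.Agent.Lib.H72LimLocFree

/-!
# `χ(Y, h_* O_X) = m · χ(Y, O_Y)` for `h : X ⟶ Y` finite étale of rank `m`, `Y` proper of dimension `≤ 1` (helper42)
-/

set_option autoImplicit false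
universe u
open CategoryTheory CategoryTheory.Limits AlgebraicGeometry Opposite TopologicalSpace

namespace Groth.Agent.Lib.EtDeg42

/-- a finite locally free module of rank `0` is zero -/
theorem isZero_of_rank_zero {X : Scheme.{u}} {E : X.Modules} (hE : FlatMod.IsFinLocFreeOfRank 0 E) :
    IsZero E := by
  choose U hxU hU using hE
  refine Groth.Agent.Lib.H4KoszulPn.isZero_of_forall_restrict E U ?_ (fun x => ?_)
  · rw [eq_top_iff]
    intro x _
    exact Opens.mem_iSup.2 ⟨x, hxU x⟩
  · obtain ⟨i⟩ := hU x
    refine IsZero.of_iso ?_ i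
    rw [IsZero.iff_id_eq_zero]
    apply Sigma.hom_ext
    intro j
    exact j.elim0

/-- **multiplicativity of the Euler characteristic in finite étale covers of proper schemes of dimension `≤ 1`** -/
theorem euler_push_etale (H : Groth.Agent.Lib.ProperFinHyp.Hyp.{u}) (k : Type u) [Field k] :
    ∀ (m : ℕ) (Y : Scheme.{u}) [Y.Over (Spec (CommRingCat.of k))]
      [IsProper (Y ↘ (Spec (CommRingCat.of k)))] (_ : topologicalKrullDim Y ≤ 1)
      (X : Scheme.{u}) (h : X ⟶ Y) [IsFinite h] [Etale h]
      (_ : FlatMod.IsFinLocFreeOfRank m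
        ((Scheme.Modules.pushforward h).obj (Coh.structureModule X))),
      Curv2.euler k Y ((Scheme.Modules.pushforward h).obj (Coh.structureModule X)) =
        m * Curv2.euler k Y (Coh.structureModule Y) := by
  intro m
  induction m with
  | zero =>
    intro Y _ _ hdim X h _ _ hE
    rw [Groth.Agent.Lib.HilbPoly48.euler_eq_zero_of_isZero k Y (isZero_of_rank_zero hE)]
    simp
  | succ n ih =>
    intro Y _ _ hdim X h _ _ hE
    letI : X.Over (Spec (CommRingCat.of k)) := ⟨h ≫ (Y ↘ (Spec (CommRingCat.of k)))⟩
    haveI : IsProper (X ↘ (Spec (CommRingCat.of k))) := by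
      change IsProper (h ≫ (Y ↘ (Spec (CommRingCat.of k))))
      infer_instance
    have hdimX : topologicalKrullDim X ≤ 1 :=
      (Groth.Agent.Lib.H86DimChart.topologicalKrullDim_le_of_isIntegralHom h).trans hdim
    set E := (Scheme.Modules.pushforward h).obj (Coh.structureModule X) with hEdef
    -- (1) degree of the pullback
    have h1 := Groth.Agent.Lib.CurveDeg48.deg_pullback_eq k Y X h rfl hE
    -- (2) degree of the tensor square
    have h2 := Groth.Agent.Lib.CurveDeg48.deg_tensorMod_locFree H k Y hdim (n + 1) (n + 1) E E hE hE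
    -- (3) the decomposition of the pullback
    have hpull : FlatMod.IsFinLocFreeOfRank (n + 1) ((Scheme.Modules.pullback h).obj E) :=
      Groth.Agent.Lib.H90Invertible.isFinLocFreeOfRank_pullback h hE
    let A := Coh.structureModule X
    let B := (Scheme.Modules.pushforward (offDiagMap h)).obj (Coh.structureModule (offDiag h))
    have hBA : FlatMod.IsFinLocFreeOfRank (n + 1) (B ⊞ A) :=
      Groth.Agent.Lib.H72LimLocFree.isFinLocFreeOfRank_of_iso
        (pullPushIso h ≪≫ biprod.braiding A B) hpull
    have hS : (ShortComplex.mk (biprod.inl : B ⟶ B ⊞ A) biprod.snd (by simp)).ShortExact :=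
      (ShortComplex.Splitting.ofHasBinaryBiproduct B A).shortExact
    have hA1 : FlatMod.IsFinLocFreeOfRank 1 A :=
      Groth.Agent.Lib.CurveVB67.isFinLocFreeOfRank_one_structureModule X
    have hBn : FlatMod.IsFinLocFreeOfRank n B := by
      have := Groth.Agent.Lib.H87LocFreeExact.isFinLocFreeOfRank_of_shortExact hS hBA hA1
      simpa using this
    have hBeuler := ih X hdimX (offDiag h) (offDiagMap h) hBn
    have hAcoh : Coh.IsCoh A := Groth.Agent.Lib.CohFinAmple.isCoh_structureModule X
    have hBcoh : Coh.IsCoh B :=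
      Groth.Agent.Lib.H90OXModPushFinite.isCoh_pushforward (offDiagMap h) _
        (Groth.Agent.Lib.CohFinAmple.isCoh_structureModule _)
    have hadd := Groth.Agent.Lib.EulerChar54.euler_add H k X _ hS hBcoh
      (Groth.Agent.Lib.H90CohCenter.isCoh_biprod hBcoh hAcoh) hAcoh
    have h3 : Curv2.euler k X ((Scheme.Modules.pullback h).obj E) =
        (n + 1) * Curv2.euler k X (Coh.structureModule X) := by
      rw [Groth.Agent.Lib.DegTensor54.euler_congr k (pullPushIso h ≪≫ biprod.braiding A B)]
      change Curv2.euler k X (B ⊞ A) = _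
      change Curv2.euler k X (B ⊞ A) = Curv2.euler k X B + Curv2.euler k X A at hadd
      rw [hadd, hBeuler]
      ring
    unfold Curv2.deg at h1 h2
    rw [h3] at h1
    rw [← hEdef] at h1
    push_cast at h1 h2
    have hm : ((n : ℤ) + 1) ≠ 0 := by positivity
    have key : ((n : ℤ) + 1) * (Curv2.euler k Y E - (n + 1) * Curv2.euler k Y (Coh.structureModule Y)) = 0 := by
      linear_combination -h2 - h1
    rcases mul_eq_zero.mp key with h0 | h0
    · exact absurd h0 hm
    · push_cast
      linarith
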