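import Groth.Agent.Lib.EtLocConst22a
import Groth.Prelude.Def_EtMod2
import Groth.Prelude.Def_PBC

/-!
# Finite locally constant abelian sheaves and finite type locally constant sheaves of modules
(helper22)

Bridges from `EtCoh.IsFiniteLocallyConstant` and `EtModW.IsFTLocConst` to the general
`EtLocConst22.IsLC`, and the resulting stability statements.
-/

set_option autoImplicit false
set_option linter.style.haveILetI false
universe u

open CategoryTheory AlgebraicGeometry Limits MorphismProperty Opposite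

namespace Groth.Agent.Lib.EtLocConst22

open Groth.Agent.Lib.EtOverSite22

section ab

/-- The abelian groups `ULift M₀` with `M₀` finite. -/
def PFin (M : AddCommGrpCat.{u + 1}) : Prop :=
  ∃ (M₀ : Type) (_ : AddCommGroup M₀) (_ : Finite M₀), M = AddCommGrpCat.of (ULift.{u + 1} M₀)

theorem isFLC_iff_isLC {X : Scheme.{u}} (F : EtCoh.Ab X) :
    EtCoh.IsFiniteLocallyConstant F ↔ IsLC AddCommGrpCat.{u + 1} PFin F := by
  constructor
  · rintro ⟨ι, U, hU, h⟩
    refine ⟨ι, U, hU, fun i => ?_⟩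
    obtain ⟨M₀, i1, i2, hiso⟩ := h i
    exact ⟨AddCommGrpCat.of (ULift.{u + 1} M₀), ⟨M₀, i1, i2, rfl⟩, hiso⟩
  · rintro ⟨ι, U, hU, h⟩
    refine ⟨ι, U, hU, fun i => ?_⟩
    obtain ⟨M, ⟨M₀, i1, i2, rfl⟩, hiso⟩ := h i
    exact ⟨M₀, i1, i2, hiso⟩

/-- Finite locally constant sheaves pull back to finite locally constant sheaves. -/
theorem isFLC_pull {X Y : Scheme.{u}} (f : X ⟶ Y) {F : EtCoh.Ab Y}
    (h : EtCoh.IsFiniteLocallyConstant F) :
    EtCoh.IsFiniteLocallyConstant ((EtCoh.pull f).obj F) :=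
  (isFLC_iff_isLC _).2 (((isFLC_iff_isLC F).1 h).pull f)

theorem isFLC_of_iso {X : Scheme.{u}} {F F' : EtCoh.Ab X} (e : F ≅ F')
    (h : EtCoh.IsFiniteLocallyConstant F) : EtCoh.IsFiniteLocallyConstant F' :=
  (isFLC_iff_isLC _).2 (((isFLC_iff_isLC F).1 h).of_iso e)

theorem isFLC_of_cover {T : Scheme.{u}} {κ : Type u} (j : κ → T.Etale) (hj : EtCoh.Covers j)
    {F : EtCoh.Ab T} (h : ∀ k, EtCoh.IsFiniteLocallyConstant ((EtCoh.pull (homX (j k))).obj F)) :
    EtCoh.IsFiniteLocallyConstant F :=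
  (isFLC_iff_isLC _).2 (IsLC.of_cover j hj fun k => (isFLC_iff_isLC _).1 (h k))

end ab

section mod

variable (Λ : Type (u + 1)) [CommRing Λ]

instance hasLimitsOfSize_mod : HasLimitsOfSize.{u, u + 1} (ModuleCat.{u + 1} Λ) :=
  hasLimitsOfSizeShrink.{u, u + 1, u + 1, u + 1} _

/-- Finitely generated modules. -/
def PFT (M : ModuleCat.{u + 1} Λ) : Prop := Module.Finite Λ M

theorem isFTLC_iff_isLC {X : Scheme.{u}} (F : EtModW.Mod Λ X) :
    EtModW.IsFTLocConst Λ F ↔ IsLC (ModuleCat.{u + 1} Λ) (PFT Λ) F := by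
  constructor
  · rintro ⟨ι, U, hU, h⟩
    refine ⟨ι, U, hU, fun i => ?_⟩
    obtain ⟨M, i1, i2, i3, hiso⟩ := h i
    exact ⟨ModuleCat.of Λ M, i3, hiso⟩
  · rintro ⟨ι, U, hU, h⟩
    refine ⟨ι, U, hU, fun i => ?_⟩
    obtain ⟨M, hM, hiso⟩ := h i
    exact ⟨M, inferInstance, inferInstance, hM, hiso⟩

/-- Finite type locally constant sheaves of modules pull back to such sheaves. -/
theorem isFTLC_pull {X Y : Scheme.{u}} (f : X ⟶ Y) {F : EtModW.Mod Λ Y}
    (h : EtModW.IsFTLocConst Λ F) : EtModW.IsFTLocConst Λ ((EtModW.pull Λ f).obj F) :=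
  (isFTLC_iff_isLC Λ _).2 (((isFTLC_iff_isLC Λ F).1 h).pull f)

theorem isFTLC_of_iso {X : Scheme.{u}} {F F' : EtModW.Mod Λ X} (e : F ≅ F')
    (h : EtModW.IsFTLocConst Λ F) : EtModW.IsFTLocConst Λ F' :=
  (isFTLC_iff_isLC Λ _).2 (((isFTLC_iff_isLC Λ F).1 h).of_iso e)

theorem isFTLC_of_cover {T : Scheme.{u}} {κ : Type u} (j : κ → T.Etale) (hj : EtCoh.Covers j)
    {F : EtModW.Mod Λ T}
    (h : ∀ k, EtModW.IsFTLocConst Λ ((EtModW.pull Λ (homX (j k))).obj F)) :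
    EtModW.IsFTLocConst Λ F :=
  (isFTLC_iff_isLC Λ _).2 (IsLC.of_cover j hj fun k => (isFTLC_iff_isLC Λ _).1 (h k))

end mod

end Groth.Agent.Lib.EtLocConst22
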