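import Groth.Prelude.Def_EtBase
import Mathlib.AlgebraicGeometry.Sites.EtalePoint
import Mathlib.CategoryTheory.Sites.Point.Comap
import Mathlib.CategoryTheory.Sites.Point.Category
import Mathlib.CategoryTheory.Comma.Over.Pullback

/-!
# Stalks of inverse images of abelian sheaves on the small etale site (helper39)

For `f : X ⟶ Y` and a geometric point `ξ : Spec Ω ⟶ X`:
* `fiberIso f ξ : EtCoh.bc f ⋙ (pointSmallEtale ξ).fiber ≅ (pointSmallEtale (ξ ≫ f)).fiber`
* `comapPt f ξ`, the point of the small etale site of `Y` obtained from `ξ` by `Point.comap`, and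
  `comapPtIso f ξ : comapPt f ξ ≅ pointSmallEtale (ξ ≫ f)`
* `sheafFiberIsoOfIso` : isomorphic points of a site have isomorphic fibre functors
* `stalkPullIso f ξ : EtCoh.pull f ⋙ EtCoh.stalk ξ ≅ EtCoh.stalk (ξ ≫ f)`
-/

set_option autoImplicit false
universe u
open CategoryTheory CategoryTheory.Limits AlgebraicGeometry Opposite

namespace Groth.Agent.Lib.EtStalkPull

section general

variable {C : Type*} [Category.{u} C] {F₁ F₂ : C ⥤ Type u}

/-- `InitiallySmall` for categories of elements transports along natural isomorphisms. -/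
theorem initiallySmall_elements_of_iso (e : F₁ ≅ F₂) [IsCofilteredOrEmpty F₁.Elements]
    [IsCofilteredOrEmpty F₂.Elements] [InitiallySmall.{u} F₂.Elements] :
    InitiallySmall.{u} F₁.Elements := by
  obtain ⟨s, hs, hs'⟩ := InitiallySmall.exists_small_weakly_initial_set.{u} F₂.Elements
  rw [initiallySmall_iff_exists_small_weakly_initial_set]
  refine ⟨(CategoryOfElements.map e.inv).obj '' s, inferInstance, ?_⟩
  intro i
  obtain ⟨j, hj, ⟨k⟩⟩ := hs' ((CategoryOfElements.map e.hom).obj i)
  refine ⟨(CategoryOfElements.map e.inv).obj j, ⟨j, hj, rfl⟩, ?_⟩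
  have hi : (CategoryOfElements.map e.inv).obj ((CategoryOfElements.map e.hom).obj i) = i := by
    rcases i with ⟨c, x⟩
    show (⟨c, e.inv.app c (e.hom.app c x)⟩ : F₁.Elements) = ⟨c, x⟩
    rw [Iso.hom_inv_id_app_apply]
  exact ⟨(CategoryOfElements.map e.inv).map k ≫ eqToHom hi⟩

end general

variable {X Y : Scheme.{u}} (f : X ⟶ Y) {Ω : Type u} [Field Ω] [IsSepClosed Ω]
  (ξ : Spec (CommRingCat.of Ω) ⟶ X)

set_option backward.isDefEq.respectTransparency.types false in
/-- base change followed by the forgetful functor -/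
noncomputable def bcForgetIso :
    EtCoh.bc f ⋙ Scheme.Etale.forget X ≅ Scheme.Etale.forget Y ⋙ Over.pullback f :=
  MorphismProperty.Over.pullbackCompForgetIso (P := EtCoh.etaleMP) (Q := ⊤) f

set_option backward.isDefEq.respectTransparency.types false in
noncomputable def fiberIso :
    EtCoh.bc f ⋙ (Scheme.pointSmallEtale ξ).fiber ≅ (Scheme.pointSmallEtale (ξ ≫ f)).fiber :=
  (Functor.associator _ _ _).symm ≪≫
    Functor.isoWhiskerRight (bcForgetIso f) (coyoneda.obj (op (Over.mk ξ))) ≪≫
    Functor.associator _ _ _ ≪≫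
    Functor.isoWhiskerLeft (Scheme.Etale.forget Y)
      ((Over.mapPullbackAdj f).corepresentableBy (Over.mk ξ)).toIso.symm

instance : IsCofiltered (EtCoh.bc f ⋙ (Scheme.pointSmallEtale ξ).fiber).Elements := by
  infer_instance

instance initiallySmall_comap :
    InitiallySmall.{u} (EtCoh.bc f ⋙ (Scheme.pointSmallEtale ξ).fiber).Elements :=
  initiallySmall_elements_of_iso (fiberIso f ξ)

/-- the geometric point `ξ` of `X` viewed as a point of the small etale site of `Y` through
base change. -/
noncomputable def comapPt : Y.smallEtaleTopology.Point :=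
  (Scheme.pointSmallEtale ξ).comap (EtCoh.bc f) (EtCoh.coverPreserving_bc f)

/-- `comapPt f ξ` is isomorphic to the point given by `ξ ≫ f`. -/
noncomputable def comapPtIso : comapPt f ξ ≅ Scheme.pointSmallEtale (ξ ≫ f) where
  hom := ⟨(fiberIso f ξ).inv⟩
  inv := ⟨(fiberIso f ξ).hom⟩
  hom_inv_id := by
    ext : 1
    exact (fiberIso f ξ).hom_inv_id
  inv_hom_id := by
    ext : 1
    exact (fiberIso f ξ).inv_hom_id

section

variable {C : Type*} [Category C] {J : GrothendieckTopology C} {A : Type*} [Category A]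
  [HasColimitsOfSize.{u, u} A]

/-- isomorphic points have isomorphic fibre functors -/
noncomputable def sheafFiberIsoOfIso {Φ₁ Φ₂ : GrothendieckTopology.Point.{u} J} (i : Φ₁ ≅ Φ₂) :
    Φ₁.sheafFiber (A := A) ≅ Φ₂.sheafFiber where
  hom := GrothendieckTopology.Point.Hom.sheafFiber i.inv
  inv := GrothendieckTopology.Point.Hom.sheafFiber i.hom
  hom_inv_id := by
    rw [← GrothendieckTopology.Point.Hom.sheafFiber_comp, i.hom_inv_id,
      GrothendieckTopology.Point.Hom.sheafFiber_id]
  inv_hom_id := by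
    rw [← GrothendieckTopology.Point.Hom.sheafFiber_comp, i.inv_hom_id,
      GrothendieckTopology.Point.Hom.sheafFiber_id]

end

/-- Stalks of the inverse image: `(f⁻¹G)_ξ ≅ G_{f ξ}`, naturally in `G`. -/
noncomputable def stalkPullIso [EtCoh.BCCont f] :
    EtCoh.pull f ⋙ EtCoh.stalk ξ ≅ EtCoh.stalk (ξ ≫ f) :=
  ((Scheme.pointSmallEtale ξ).sheafFiberComapIso (EtCoh.bc f) (EtCoh.coverPreserving_bc f)
    AddCommGrpCat.{u + 1}).symm ≪≫ sheafFiberIsoOfIso (comapPtIso f ξ)

end Groth.Agent.Lib.EtStalkPull
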