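import Groth.Agent.Lib.EtAbStalk3
import Groth.Agent.Lib.EtStalkPull

/-!
# Vanishing of an abelian étale sheaf is local (helper65)

* `isZero_of_forall_exists_pull`: if every point `x` of `X` is hit by some `g : V ⟶ X` with
  `g⁻¹ H = 0`, then `H = 0`.
-/

set_option autoImplicit false
universe u
open CategoryTheory CategoryTheory.Limits AlgebraicGeometry Opposite

namespace Groth.Agent.Lib.EtLocalZero65

open Groth.Agent.Lib.EtGerm Groth.Agent.Lib.EtStalkConservative

theorem isZero_of_forall_exists_pull {X : Scheme.{u}} (H : EtCoh.Ab X)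
    (h : ∀ x : X, ∃ (V : Scheme.{u}) (g : V ⟶ X) (v : V), g v = x ∧
      IsZero ((EtCoh.pull g).obj H)) : IsZero H := by
  apply Groth.Agent.Lib.EtAbStalk3.isZero_of_forall_exists_geomPt
  intro x
  obtain ⟨V, g, v, hv, hz⟩ := h x
  refine ⟨_, inferInstance, inferInstance, stdPt v ≫ g, ?_, ?_⟩
  · show g (stdPt v default) = x
    rw [stdPt_default, hv]
  · exact ((EtCoh.stalk (stdPt v)).map_isZero hz).of_iso
      ((Groth.Agent.Lib.EtStalkPull.stalkPullIso g (stdPt v)).app H).symm

end Groth.Agent.Lib.EtLocalZero65
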