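import Mathlib

/-!
# Kernel-of-a-natural-transformation functors (helper65)

Abstract facts (Mathlib only).  Let `K G : 𝒜 ⥤ 𝒜`, `ι : K ⟶ 𝟭`, `η : 𝟭 ⟶ G` with `ι_F` a kernel of
`η_F` for all `F`, and `G` preserving monomorphisms.

* `preservesFiniteLimits_of_isKernel`: `K` is left exact.
* `isIso_map_ι_of_le`: for a second such datum `(K', G', ι', η')` with `ι'_F ≫ η_F = 0`
  (`K' F ⊆ K F`), `K'.map (ι_F) : K' (K F) ⟶ K' F` is an isomorphism.
-/

set_option autoImplicit false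
universe v₁ u₁
open CategoryTheory CategoryTheory.Limits

namespace Groth.Agent.Lib.KerFunctor65

variable {𝒜 : Type u₁} [Category.{v₁} 𝒜] [Abelian 𝒜]

section One

variable {K G : 𝒜 ⥤ 𝒜} (ι : K ⟶ 𝟭 𝒜) (η : 𝟭 𝒜 ⟶ G) (w : ∀ F, ι.app F ≫ η.app F = 0)
  (hK : ∀ F, IsLimit (KernelFork.ofι (ι.app F) (w F)))

include hK in
lemma mono_ι (F : 𝒜) : Mono (ι.app F) :=
  mono_of_isLimit_fork (hK F)

include hK in
lemma mono_map [G.PreservesMonomorphisms] {A B : 𝒜} (f : A ⟶ B) [Mono f] : Mono (K.map f) := by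
  have := mono_ι ι η w hK A
  have h : K.map f ≫ ι.app B = ι.app A ≫ f := ι.naturality f
  have : Mono (K.map f ≫ ι.app B) := by rw [h]; infer_instance
  exact mono_of_mono (K.map f) (ι.app B)

include hK in
theorem preservesFiniteLimits_of_isKernel [K.Additive] [G.PreservesMonomorphisms] :
    PreservesFiniteLimits K := by
  rw [Functor.preservesFiniteLimits_iff_forall_exact_map_and_mono]
  intro S hS
  have := hS.mono_f
  have hm : Mono (K.map S.f) := mono_map ι η w hK S.f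
  refine ⟨?_, hm⟩
  have hmB := mono_ι ι η w hK S.X₂
  have : Mono (S.map K).f := hm
  refine ShortComplex.exact_of_f_is_kernel _ (KernelFork.IsLimit.ofι' _ _ ?_)
  intro T t ht
  change T ⟶ K.obj S.X₂ at t
  change t ≫ K.map S.g = 0 at ht
  have h1 : (t ≫ ι.app S.X₂) ≫ S.g = 0 := by
    have := ι.naturality S.g
    simp only [Functor.id_obj, Functor.id_map] at this
    rw [Category.assoc, ← this, reassoc_of% ht, zero_comp]
  let s : T ⟶ S.X₁ := hS.fIsKernel.lift (KernelFork.ofι _ h1)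
  have hs : s ≫ S.f = t ≫ ι.app S.X₂ := hS.fIsKernel.fac (KernelFork.ofι _ h1) WalkingParallelPair.zero
  have h2 : s ≫ η.app S.X₁ = 0 := by
    have : Mono (G.map S.f) := inferInstance
    rw [← cancel_mono (G.map S.f), zero_comp, Category.assoc]
    have := η.naturality S.f
    simp only [Functor.id_obj, Functor.id_map] at this
    rw [← this, reassoc_of% hs, w, comp_zero]
  let s' : T ⟶ K.obj S.X₁ := (hK S.X₁).lift (KernelFork.ofι _ h2)
  have hs' : s' ≫ ι.app S.X₁ = s := (hK S.X₁).fac (KernelFork.ofι _ h2) WalkingParallelPair.zero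
  refine ⟨s', ?_⟩
  change s' ≫ K.map S.f = t
  rw [← cancel_mono (ι.app S.X₂), Category.assoc]
  have := ι.naturality S.f
  simp only [Functor.id_obj, Functor.id_map] at this
  rw [this, reassoc_of% hs', hs]

end One

section Two

variable {K G : 𝒜 ⥤ 𝒜} (ι : K ⟶ 𝟭 𝒜) (η : 𝟭 𝒜 ⟶ G) (w : ∀ F, ι.app F ≫ η.app F = 0)
  (hK : ∀ F, IsLimit (KernelFork.ofι (ι.app F) (w F)))
  {K' G' : 𝒜 ⥤ 𝒜} (ι' : K' ⟶ 𝟭 𝒜) (η' : 𝟭 𝒜 ⟶ G') (w' : ∀ F, ι'.app F ≫ η'.app F = 0)
  (hK' : ∀ F, IsLimit (KernelFork.ofι (ι'.app F) (w' F)))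

include hK hK' in
theorem isIso_map_ι_of_le [G'.PreservesMonomorphisms] (hle : ∀ F, ι'.app F ≫ η.app F = 0) (F : 𝒜) :
    IsIso (K'.map (ι.app F)) := by
  have hmF := mono_ι ι η w hK F
  have hmF' := mono_ι ι' η' w' hK' F
  have hmono : Mono (K'.map (ι.app F)) := mono_map ι' η' w' hK' (ι.app F)
  -- the section
  let ζ : K'.obj F ⟶ K.obj F := (hK F).lift (KernelFork.ofι _ (hle F))
  have hζ : ζ ≫ ι.app F = ι'.app F := (hK F).fac (KernelFork.ofι _ (hle F)) WalkingParallelPair.zero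
  have h2 : ζ ≫ η'.app (K.obj F) = 0 := by
    have : Mono (G'.map (ι.app F)) := inferInstance
    rw [← cancel_mono (G'.map (ι.app F)), zero_comp, Category.assoc]
    have := η'.naturality (ι.app F)
    simp only [Functor.id_obj, Functor.id_map] at this
    rw [← this, reassoc_of% hζ, w']
  let ζ' : K'.obj F ⟶ K'.obj (K.obj F) := (hK' (K.obj F)).lift (KernelFork.ofι _ h2)
  have hζ' : ζ' ≫ ι'.app (K.obj F) = ζ :=
    (hK' (K.obj F)).fac (KernelFork.ofι _ h2) WalkingParallelPair.zero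
  have hsec : ζ' ≫ K'.map (ι.app F) = 𝟙 _ := by
    rw [← cancel_mono (ι'.app F), Category.assoc, Category.id_comp]
    have := ι'.naturality (ι.app F)
    simp only [Functor.id_obj, Functor.id_map] at this
    rw [this, reassoc_of% hζ', hζ]
  have : IsSplitEpi (K'.map (ι.app F)) := IsSplitEpi.mk' ⟨ζ', hsec⟩
  exact isIso_of_mono_of_isSplitEpi _

end Two

end Groth.Agent.Lib.KerFunctor65
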