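import Groth.Agent.Lib.LocCohShift65
import Groth.Agent.Lib.KerFunctor65

/-!
# `Γ_Z` is left exact; `Γ_Z ∘ Γ_Y ≅ Γ_Z` for `Z ⊆ Y`; depth is monotone (helper65)

For open immersions `j : U ⟶ X`, `k : V ⟶ X` with `U ⊆ V` (so `Z = X∖V ⊆ Y = X∖U`):

* `preservesFiniteLimits_secSupp`: `EtDual.secSupp j` is left exact.
* `α_comp_unit_eq_zero`: `Γ_Z F ⟶ F ⟶ j_* j⁻¹ F` is zero.
* `secSuppCompIso`: `EtDual.secSupp j ⋙ EtDual.secSupp k ≅ EtDual.secSupp k`.
* `depthGE_mono`: S5176.
-/

set_option autoImplicit false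
universe u
open CategoryTheory CategoryTheory.Limits AlgebraicGeometry Opposite

namespace Groth.Agent.Lib.SecSuppMono65

open Groth.Agent.Lib.LocCohShift65 Groth.Agent.Lib.KerFunctor65

section One

variable {X U : Scheme.{u}} (j : U ⟶ X) [IsOpenImmersion j]

lemma α_β (F : EtCoh.Ab X) : (α j).app F ≫ (β j).app F = 0 :=
  kernel.condition (EtDual.unitApp j F)

noncomputable def isLimitα (F : EtCoh.Ab X) : IsLimit (KernelFork.ofι ((α j).app F) (α_β j F)) :=
  kernelIsKernel (EtDual.unitApp j F)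

instance : (EtCoh.pull j ⋙ EtCoh.push j).PreservesMonomorphisms := by
  have : (EtCoh.pull j).PreservesMonomorphisms := inferInstance
  have : (EtCoh.push j).PreservesMonomorphisms := inferInstance
  infer_instance

instance preservesFiniteLimits_secSupp : PreservesFiniteLimits (EtDual.secSupp j) :=
  preservesFiniteLimits_of_isKernel (α j) (β j) (α_β j) (isLimitα j)

end One

section Two

variable {X U V : Scheme.{u}} (j : U ⟶ X) [IsOpenImmersion j] (k : V ⟶ X) [IsOpenImmersion k]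

lemma pull_comp_map_eq_zero {F G : EtCoh.Ab X} (φ : F ⟶ G) (j₀ : U ⟶ V)
    (h : (EtCoh.pull k).map φ = 0) : (EtCoh.pull (j₀ ≫ k)).map φ = 0 := by
  have e := EtCore.pullComp j₀ k
  have hn := e.hom.naturality φ
  rw [← cancel_mono (e.hom.app G), hn, Functor.comp_map, h, Functor.map_zero, comp_zero, zero_comp]

lemma pull_map_eq_zero_of_eq {F G : EtCoh.Ab X} (φ : F ⟶ G) (j' : U ⟶ X) (hj : j' = j)
    (h : (EtCoh.pull j').map φ = 0) : (EtCoh.pull j).map φ = 0 := by
  subst hj
  exact h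

theorem α_comp_unit_eq_zero (hUV : Set.range j.base ⊆ Set.range k.base) (F : EtCoh.Ab X) :
    (α k).app F ≫ (β j).app F = 0 := by
  have hj : IsOpenImmersion.lift k j hUV ≫ k = j := IsOpenImmersion.lift_fac _ _ _
  apply Groth.Agent.Lib.SecSuppInj65.comp_unit_eq_zero_of_map (EtCoh.pullPushAdj j)
  have h1 : (EtCoh.pull k).map ((α k).app F) = 0 :=
    Groth.Agent.Lib.SecSuppInj65.map_eq_zero_of_comp_unit (EtCoh.pullPushAdj k) _ (α_β k F)
  exact pull_map_eq_zero_of_eq j _ _ hj (pull_comp_map_eq_zero k _ _ h1)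

/-- `Γ_Z (Γ_Y F) ≅ Γ_Z F` for `Z ⊆ Y` -/
noncomputable def secSuppCompIso (hUV : Set.range j.base ⊆ Set.range k.base) :
    EtDual.secSupp j ⋙ EtDual.secSupp k ≅ EtDual.secSupp k :=
  have : ∀ F, IsIso ((Functor.whiskerRight (α j) (EtDual.secSupp k)).app F) := fun F =>
    isIso_map_ι_of_le (α j) (β j) (α_β j) (isLimitα j) (α k) (β k) (α_β k) (isLimitα k)
      (α_comp_unit_eq_zero j k hUV) F
  have : IsIso (Functor.whiskerRight (α j) (EtDual.secSupp k)) := NatIso.isIso_of_isIso_app _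
  asIso (Functor.whiskerRight (α j) (EtDual.secSupp k)) ≪≫ Functor.leftUnitor _

/-- S5176: étale depth along `Y` at least `n` implies étale depth along `Z ⊆ Y` at least `n`. -/
theorem depthGE_mono (hUV : Set.range j.base ⊆ Set.range k.base) (F : EtCoh.Ab X) (n : ℕ)
    (h : EtDepth.DepthGE j F n) : EtDepth.DepthGE k F n := by
  intro p hp
  have := Groth.Agent.Lib.SecSuppInj65.preservesInjectiveObjects_secSupp j
  have hiso := Groth.Agent.Lib.HCompInj65.isIso_edgeOut (EtDual.secSupp j) (EtDual.secSupp k) p F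
    (fun q hq => h q (hq.trans hp))
  have hz : IsZero ((EtDual.secSupp k).obj (((EtDual.secSupp j).rightDerived p).obj F)) :=
    (EtDual.secSupp k).map_isZero (h p hp)
  have hz2 : IsZero (((EtDual.secSupp j ⋙ EtDual.secSupp k).rightDerived p).obj F) :=
    hz.of_iso (asIso (RDer.edgeOut (EtDual.secSupp j) (EtDual.secSupp k) p F))
  exact hz2.of_iso ((RDer.rightDerivedIso (secSuppCompIso j k hUV) p).app F).symm

end Two

end Groth.Agent.Lib.SecSuppMono65
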