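import Groth.Agent.Lib.KerFunctorBC65
import Groth.Agent.Lib.EtExtZeroBC
import Groth.Agent.Lib.EtPullExact95
import Groth.Agent.Lib.RightDerivedPostComp
import Groth.Agent.Lib.DerivedCompExact
import Groth.Agent.Lib.SecSuppMono65

/-!
# Étale localisation of `Γ_Y` and of the local cohomology sheaves (helper65)

For `j : U ⟶ X` and an étale `g : X' ⟶ X`, with `j' = pullback.snd j g : U ×_X X' ⟶ X'`:

* `secSuppPullIso j g : EtDual.secSupp j ⋙ EtCoh.pull g ≅ EtCoh.pull g ⋙ EtDual.secSupp j'`;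
* `locCohPullIso j g p : EtDual.locCoh j p ⋙ EtCoh.pull g ≅ EtCoh.pull g ⋙ EtDual.locCoh j' p`.
-/

set_option autoImplicit false
universe u
open CategoryTheory CategoryTheory.Limits AlgebraicGeometry Opposite

namespace Groth.Agent.Lib.SecSuppBC65

open Groth.Agent.Lib.KerFunctorBC65

variable {X U X' : Scheme.{u}} (j : U ⟶ X) (g : X' ⟶ X) [Etale g]

/-- pullbacks compose -/
noncomputable def σ :
    EtCoh.pull j ⋙ EtCoh.pull (pullback.fst j g) ≅ EtCoh.pull g ⋙ EtCoh.pull (pullback.snd j g) :=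
  (EtCore.pullComp (pullback.fst j g) j).symm ≪≫ EtCore.pullCongr pullback.condition ≪≫
    EtCore.pullComp (pullback.snd j g) g

/-- `j⁻¹ g_! ≅ g'_! j'⁻¹` -/
noncomputable def β :
    have : EtShriek.JCont g := Groth.Agent.Lib.EtJCont.jCont g
    have : EtShriek.JCont (pullback.fst j g) := Groth.Agent.Lib.EtJCont.jCont _
    EtShriek.extZero g ⋙ EtCoh.pull j ≅
      EtCoh.pull (pullback.snd j g) ⋙ EtShriek.extZero (pullback.fst j g) :=
  have : EtShriek.JCont g := Groth.Agent.Lib.EtJCont.jCont g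
  have : EtShriek.JCont (pullback.fst j g) := Groth.Agent.Lib.EtJCont.jCont _
  Groth.Agent.Lib.EtExtZeroBC.extZeroPullIso j g

instance : (EtCoh.pull g).PreservesMonomorphisms := by
  have : PreservesFiniteLimits (EtCoh.pull g) := Groth.Agent.Lib.EtPullExact95.preservesFiniteLimits_pull g
  infer_instance

lemma isIso_θ (F : EtCoh.Ab X) :
    IsIso (θ (EtCoh.pullPushAdj j) (EtCoh.pullPushAdj (pullback.snd j g)) (σ j g) F) := by
  have : EtShriek.JCont g := Groth.Agent.Lib.EtJCont.jCont g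
  have : EtShriek.JCont (pullback.fst j g) := Groth.Agent.Lib.EtJCont.jCont _
  have : (EtShriek.extZero (pullback.fst j g)).Additive :=
    (Groth.Agent.Lib.EtShriekConst.adjSP (pullback.fst j g)).left_adjoint_additive
  exact Groth.Agent.Lib.KerFunctorBC65.isIso_θ (EtCoh.pullPushAdj j)
    (EtCoh.pullPushAdj (pullback.snd j g)) (Groth.Agent.Lib.EtShriekConst.adjSP g) (σ j g) (β j g) F

/-- `g⁻¹ Γ_Y ≅ Γ_{Y'} g⁻¹` -/
noncomputable def secSuppPullIso :
    EtDual.secSupp j ⋙ EtCoh.pull g ≅ EtCoh.pull g ⋙ EtDual.secSupp (pullback.snd j g) :=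
  NatIso.ofComponents
    (fun F => @asIso _ _ _ _
      (θ (EtCoh.pullPushAdj j) (EtCoh.pullPushAdj (pullback.snd j g)) (σ j g) F) (isIso_θ j g F))
    (by
      intro F G f
      rw [← cancel_mono (kernel.ι (EtDual.unitApp (pullback.snd j g) ((EtCoh.pull g).obj G)))]
      simp only [Functor.comp_map, asIso_hom, Category.assoc]
      erw [θ_ι, kernel.lift_ι, θ_ι_assoc]
      rw [← Functor.map_comp, ← Functor.map_comp]
      congr 1
      exact kernel.lift_ι _ _ _)

/-- `g⁻¹ ℋ^p_Y ≅ ℋ^p_{Y'} g⁻¹`: local cohomology sheaves commute with étale localisation -/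
noncomputable def locCohPullIso (p : ℕ) :
    EtDual.locCoh j p ⋙ EtCoh.pull g ≅ EtCoh.pull g ⋙ EtDual.locCoh (pullback.snd j g) p :=
  have : EtShriek.JCont g := Groth.Agent.Lib.EtJCont.jCont g
  have : PreservesFiniteLimits (EtCoh.pull g) :=
    Groth.Agent.Lib.EtPullExact95.preservesFiniteLimits_pull g
  have : PreservesFiniteColimits (EtCoh.pull g) :=
    have : PreservesColimitsOfSize.{0, 0} (EtCoh.pull g) :=
      (EtCoh.pullPushAdj g).leftAdjoint_preservesColimits
    inferInstance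
  Groth.Agent.Lib.RightDerivedPostComp.rightDerivedPostCompIso (EtDual.secSupp j) (EtCoh.pull g) p ≪≫
    RDer.rightDerivedIso (secSuppPullIso j g) p ≪≫
    Groth.Agent.Lib.DerivedCompExact.rightDerivedCompIso (EtCoh.pull g)
      (EtDual.secSupp (pullback.snd j g)) (Groth.Agent.Lib.EtShriekConst.adjSP g) p

/-- vanishing of `ℋ^p_Y` is preserved by étale localisation and by isomorphisms of coefficients -/
lemma isZero_locCoh_pull (p : ℕ) (F : EtCoh.Ab X) (h : IsZero ((EtDual.locCoh j p).obj F)) :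
    IsZero ((EtDual.locCoh (pullback.snd j g) p).obj ((EtCoh.pull g).obj F)) :=
  ((EtCoh.pull g).map_isZero h).of_iso ((locCohPullIso j g p).app F).symm

lemma isZero_pull_locCoh_of_iso (p : ℕ) (F F₀ : EtCoh.Ab X)
    (e : (EtCoh.pull g).obj F ≅ (EtCoh.pull g).obj F₀)
    (h : IsZero ((EtDual.locCoh j p).obj F₀)) :
    IsZero ((EtCoh.pull g).obj ((EtDual.locCoh j p).obj F)) :=
  (isZero_locCoh_pull j g p F₀ h).of_iso
    ((locCohPullIso j g p).app F ≪≫ (EtDual.locCoh (pullback.snd j g) p).mapIso e)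

end Groth.Agent.Lib.SecSuppBC65
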