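import Groth.Agent.Lib.TateLocal65
import Groth.Agent.Lib.EtGermB

/-!
# `H^{2c}_Y(X, ℤ/n(c)) ≅ Γ(X, ℋ^{2c}_Y(ℤ/n(c)))` under semi-purity (helper65)  — S3142
-/

set_option autoImplicit false
universe u
open CategoryTheory CategoryTheory.Limits AlgebraicGeometry Opposite

namespace Groth.Agent.Lib.SemiPurity65

open Groth.Agent.Lib.EtGerm

/-- on an empty scheme every abelian étale sheaf is zero -/
lemma isZero_of_isEmpty {X : Scheme.{u}} [IsEmpty X] (F : EtCoh.Ab X) : IsZero F := by
  have hid : 𝟙 F = 0 := by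
    apply Sheaf.hom_ext
    ext U s
    have : IsEmpty U.unop.left := @Function.isEmpty U.unop.left X _ (fun x => U.unop.hom x)
    exact (subsingleton_sect_of_isEmpty F U.unop).elim _ _
  exact (IsZero.iff_id_eq_zero F).2 hid

theorem nonempty_HY_iso_sections {X U : Scheme.{u}} (j : U ⟶ X) [IsOpenImmersion j]
    (n : ℕ) (hn : IsUnit (n : Γ(X, ⊤))) (c : ℕ)
    (h : ∀ p : ℕ, p < 2 * c → IsZero ((EtDual.locCoh j p).obj (EtCoh.const X (ZMod n)))) :
    Nonempty ((EtDual.HY j (2 * c)).obj (EtDual.tate X n c) ≅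
      ((EtDual.locCoh j (2 * c)).obj (EtDual.tate X n c)).obj.obj (op (EtCoh.top X))) := by
  have hdepth : EtDepth.DepthGE j (EtDual.tate X n c) (2 * c) := by
    rcases Nat.eq_zero_or_pos n with hn0 | hn1
    · -- `0` invertible: `X` is empty
      subst hn0
      have h0 : (0 : Γ(X, ⊤)) = 1 := by
        rw [Nat.cast_zero] at hn
        exact (isUnit_zero_iff.1 hn)
      have : Subsingleton Γ(X, ⊤) := subsingleton_of_zero_eq_one h0
      have : IsEmpty X := by
        by_contra hne
        rw [not_isEmpty_iff] at hne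
        have : Nonempty (⊤ : X.Opens) := ⟨⟨hne.some, trivial⟩⟩
        have : Nontrivial Γ(X, ⊤) := Scheme.component_nontrivial X ⊤
        exact not_subsingleton Γ(X, ⊤) inferInstance
      intro p _
      exact isZero_of_isEmpty _
    · intro p hp
      exact Groth.Agent.Lib.TateLocal65.isZero_locCoh_tate j n hn1 hn c p (h p hp)
  have := Groth.Agent.Lib.SecSuppInj65.isIso_edgeOut_secSupp j (EtDual.tate X n c) (2 * c) hdepth
  exact ⟨@asIso _ _ _ _ (RDer.edgeOut (EtDual.secSupp j)
    (sheafToPresheaf X.smallEtaleTopology AddCommGrpCat.{u+1} ⋙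
      (evaluation X.Etaleᵒᵖ AddCommGrpCat.{u+1}).obj (op (EtCoh.top X))) (2 * c)
    (EtDual.tate X n c)) this⟩

end Groth.Agent.Lib.SemiPurity65
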