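import Groth.Agent.Lib.LGroupInd65
import Groth.Agent.Lib.RDLES31
import Groth.Agent.Lib.SecSuppBC65
import Groth.Agent.Lib.EtLocalZero65
import Groth.Agent.Lib.EtLocConst22b
import Groth.Agent.Lib.EtConstStalk
import Groth.Agent.Lib.SemiPurity65

/-!
# Étale depth of finite locally constant `ℓ`-torsion sheaves (helper65) — S5201
-/

set_option autoImplicit false
universe u
open CategoryTheory CategoryTheory.Limits AlgebraicGeometry Opposite

namespace Groth.Agent.Lib.EtDepthDev65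

section Basic

variable {X U : Scheme.{u}} (j : U ⟶ X) [IsOpenImmersion j]

lemma depthGE_of_iso {F G : EtCoh.Ab X} (e : F ≅ G) (n : ℕ) (h : EtDepth.DepthGE j F n) :
    EtDepth.DepthGE j G n :=
  fun p hp => (h p hp).of_iso ((EtDual.locCoh j p).mapIso e.symm)

lemma depthGE_of_isZero {F : EtCoh.Ab X} (hF : IsZero F) (n : ℕ) : EtDepth.DepthGE j F n :=
  fun p _ => Functor.map_isZero ((EtDual.secSupp j).rightDerived p) hF

lemma depthGE_of_shortExact {S : ShortComplex (EtCoh.Ab X)} (hS : S.ShortExact) (n : ℕ)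
    (h1 : EtDepth.DepthGE j S.X₁ n) (h3 : EtDepth.DepthGE j S.X₃ n) :
    EtDepth.DepthGE j S.X₂ n := by
  intro p hp
  obtain ⟨δ, -, h⟩ := Groth.Agent.RDPlus31.rightDerived_les (EtDual.secSupp j) hS
  obtain ⟨w, hex⟩ := (h p).1
  exact hex.isZero_of_both_zeros ((h1 p hp).eq_of_src _ _) ((h3 p hp).eq_of_tgt _ _)

/-- étale depth is étale-local -/
theorem depthGE_of_cover {ι : Type u} (V : ι → X.Etale) (hV : EtCoh.Covers V) (F : EtCoh.Ab X)
    (n : ℕ)
    (h : ∀ i, EtDepth.DepthGE (pullback.snd j (V i).hom) ((EtCoh.pull (V i).hom).obj F) n) :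
    EtDepth.DepthGE j F n := by
  intro p hp
  apply Groth.Agent.Lib.EtLocalZero65.isZero_of_forall_exists_pull
  intro x
  obtain ⟨i, y, hy⟩ := hV x
  have : Etale (V i).hom := (V i).prop
  refine ⟨(V i).left, (V i).hom, y, hy, ?_⟩
  exact (h i p hp).of_iso ((Groth.Agent.Lib.SecSuppBC65.locCohPullIso j (V i).hom p).app F)

end Basic

section Const

variable (X : Scheme.{u})

instance : PreservesFiniteLimits (constantSheaf X.smallEtaleTopology AddCommGrpCat.{u + 1}) :=
  comp_preservesFiniteLimits (Functor.const X.Etaleᵒᵖ)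
    (presheafToSheaf X.smallEtaleTopology AddCommGrpCat.{u + 1})

instance : PreservesFiniteColimits (constantSheaf X.smallEtaleTopology AddCommGrpCat.{u + 1}) := by
  have : PreservesColimitsOfSize.{0, 0} (constantSheaf X.smallEtaleTopology AddCommGrpCat.{u + 1}) :=
    (EtCore.constAdj X).leftAdjoint_preservesColimits
  exact PreservesColimitsOfSize.preservesFiniteColimits _

instance : (EtCore.gsec X).Additive where
  map_add := rfl

instance : (constantSheaf X.smallEtaleTopology AddCommGrpCat.{u + 1}).Additive :=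
  (EtCore.constAdj X).left_adjoint_additive

lemma shortExact_const (S : ShortComplex AddCommGrpCat.{u + 1}) (hS : S.ShortExact) :
    (S.map (constantSheaf X.smallEtaleTopology AddCommGrpCat.{u + 1})).ShortExact :=
  hS.map_of_exact _

end Const

section Dev

variable {X U : Scheme.{u}} (j : U ⟶ X) [IsOpenImmersion j]

/-- dévissage: depth of constant sheaves with value a finite `ℓ`-group -/
theorem depthGE_const_of_lgroup (ℓ : ℕ) (hℓ : ℓ.Prime) (n : ℕ)
    (h : EtDepth.DepthGE j (EtCoh.const X (ZMod ℓ)) n) (M : AddCommGrpCat.{u + 1}) [Finite M]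
    (hM : ∀ m : M, ∃ k : ℕ, ℓ ^ k • m = 0) :
    EtDepth.DepthGE j ((constantSheaf X.smallEtaleTopology AddCommGrpCat.{u + 1}).obj M) n := by
  refine Groth.Agent.Lib.LGroupInd65.lgroup_induction ℓ hℓ
    (fun M => EtDepth.DepthGE j
      ((constantSheaf X.smallEtaleTopology AddCommGrpCat.{u + 1}).obj M) n) ?_ h ?_ M hM
  · intro M hM
    apply depthGE_of_isZero
    exact Functor.map_isZero _ (AddCommGrpCat.isZero_of_subsingleton M)
  · intro S hS h1 h3
    exact depthGE_of_shortExact j (shortExact_const X S hS) n h1 h3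

end Dev

section Torsion

open Groth.Agent.Lib.EtGerm Groth.Agent.Lib.EtStalkConservative Groth.Agent.Lib.EtConst

variable {X : Scheme.{u}} (ℓ : ℕ) (F : EtCoh.Ab X) (hF : EtDepth.IsLTorsion ℓ F)

include hF in
lemma stalk_torsion {Ω : Type u} [Field Ω] [IsSepClosed Ω] (η : Spec (CommRingCat.of Ω) ⟶ X)
    (σ : (EtCoh.stalk η).obj F) : ∃ k : ℕ, ℓ ^ k • σ = 0 := by
  obtain ⟨W, y, s, rfl⟩ := germ_jointly_surjective η F σ
  obtain ⟨V, g, ⟨v, hv⟩, k, hk⟩ := hF W s (Nbhd.pt η y)
  obtain ⟨z, hz, -⟩ := exists_nbhd_lift η g y v hv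
  refine ⟨k, ?_⟩
  rw [← hz, ← germ_res, ← map_nsmul, hk, map_zero]

include hF in
lemma torsion_of_pull_iso_const {V : Scheme.{u}} (g : V ⟶ X) (v : V) (M : AddCommGrpCat.{u + 1})
    (e : (EtCoh.pull g).obj F ≅
      (constantSheaf V.smallEtaleTopology AddCommGrpCat.{u + 1}).obj M) (m : M) :
    ∃ k : ℕ, ℓ ^ k • m = 0 := by
  let a : M ≃+ (EtCoh.stalk (stdPt v)).obj (constSh V M) := stalkConstEquiv (stdPt v) M
  let b : (EtCoh.stalk (stdPt v)).obj (constSh V M) ≅ (EtCoh.stalk (stdPt v ≫ g)).obj F :=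
    (EtCoh.stalk (stdPt v)).mapIso e.symm ≪≫
      (Groth.Agent.Lib.EtStalkPull.stalkPullIso g (stdPt v)).app F
  obtain ⟨k, hk⟩ := stalk_torsion ℓ F hF (stdPt v ≫ g) (b.hom (a m))
  refine ⟨k, ?_⟩
  apply a.injective
  apply ((ConcreteCategory.isIso_iff_bijective b.hom).1 inferInstance).1
  rw [map_nsmul, map_nsmul, hk, map_zero, map_zero]

end Torsion

section Main

open Groth.Agent.Lib.EtLocConst22 Groth.Agent.Lib.EtOverSite22

variable {X U : Scheme.{u}} (j : U ⟶ X) [IsOpenImmersion j]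

/-- S5201: a finite locally constant `ℓ`-torsion sheaf has étale depth at least that of `ℤ/ℓ` -/
theorem depthGE_of_finiteLocallyConstant (ℓ : ℕ) (hℓ : ℓ.Prime) (n : ℕ)
    (hX : EtDepth.DepthGE j (EtCoh.const X (ZMod ℓ)) n) (F : EtCoh.Ab X)
    (hFlc : EtCoh.IsFiniteLocallyConstant F) (hFt : EtDepth.IsLTorsion ℓ F) :
    EtDepth.DepthGE j F n := by
  obtain ⟨ι, V, hV, h⟩ := (isLC_iff_pull F).1 ((isFLC_iff_isLC F).1 hFlc)
  apply depthGE_of_cover j V hV F n
  intro i
  obtain ⟨M, ⟨M₀, i1, i2, rfl⟩, ⟨e⟩⟩ := h i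
  have : Etale (V i).hom := (V i).prop
  have e' : (EtCoh.pull (V i).hom).obj F ≅
      (constantSheaf (V i).left.smallEtaleTopology AddCommGrpCat.{u + 1}).obj
        (AddCommGrpCat.of (ULift.{u + 1} M₀)) := e
  refine depthGE_of_iso _ e'.symm n ?_
  by_cases hne : Nonempty (V i).left
  · obtain ⟨v⟩ := hne
    have hM := torsion_of_pull_iso_const ℓ F hFt (V i).hom v _ e'
    have : Finite (AddCommGrpCat.of (ULift.{u + 1} M₀)) :=
      inferInstanceAs (Finite (ULift.{u + 1} M₀))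
    refine depthGE_const_of_lgroup _ ℓ hℓ n ?_ _ hM
    exact depthGE_of_iso _ (EtCore.pullConst (V i).hom (ZMod ℓ)) n
      (fun p hp => Groth.Agent.Lib.SecSuppBC65.isZero_locCoh_pull j (V i).hom p _ (hX p hp))
  · have : IsEmpty (V i).left := not_nonempty_iff.1 hne
    apply depthGE_of_isZero
    exact Groth.Agent.Lib.SemiPurity65.isZero_of_isEmpty _

end Main

end Groth.Agent.Lib.EtDepthDev65
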