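import Groth.Prelude.Def_EtBase
import Groth.Prelude.Def_EtShriek2
import Mathlib.CategoryTheory.Adjunction.Triple

set_option autoImplicit false
open CategoryTheory CategoryTheory.Limits AlgebraicGeometry Opposite
universe u

namespace Groth.Agent.Lib.EtRestr

variable {U X : Scheme.{u}}

/-- For etale `j`, composing with `j` is left adjoint to base change along `j`. -/
noncomputable def siteAdj (j : U ⟶ X) [hj : AlgebraicGeometry.Etale j] :
    EtShriek.compEtale j ⊣ EtCoh.bc j :=
  MorphismProperty.Over.mapPullbackAdj EtCoh.etaleMP.{u} ⊤ j hj trivial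

/-- Restriction along etale `j` is left adjoint to direct image. -/
noncomputable def restrPushAdj (j : U ⟶ X) [AlgebraicGeometry.Etale j] [EtShriek.JCont j] :
    EtShriek.restrAlong j ⊣ EtCoh.push j :=
  (siteAdj j).sheafPushforwardContinuous (E := AddCommGrpCat.{u + 1})
    U.smallEtaleTopology X.smallEtaleTopology

/-- For etale `j`, inverse image is restriction. -/
noncomputable def pullIsoRestr (j : U ⟶ X) [AlgebraicGeometry.Etale j] [EtShriek.JCont j] :
    EtCoh.pull j ≅ EtShriek.restrAlong j :=
  Adjunction.leftAdjointUniq (EtCoh.pullPushAdj j) (restrPushAdj j)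

instance isIso_unit_siteAdj (j : U ⟶ X) [AlgebraicGeometry.Etale j] [Mono j] :
    IsIso (siteAdj j).unit :=
  inferInstance

instance isIso_counit_restrPushAdj (j : U ⟶ X) [AlgebraicGeometry.Etale j] [EtShriek.JCont j]
    [Mono j] : IsIso (restrPushAdj j).counit := by
  rw [NatTrans.isIso_iff_isIso_app]
  intro P
  have : IsIso ((sheafToPresheaf _ _).map ((restrPushAdj j).counit.app P)) := by
    rw [NatTrans.isIso_iff_isIso_app]
    intro V
    dsimp [restrPushAdj]
    simp only [Adjunction.sheafPushforwardContinuous_counit_app_hom_app]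
    have h1 : IsIso ((siteAdj j).unit.app (unop V)) := inferInstance
    have h2 : IsIso ((siteAdj j).unit.app (unop V)).op := inferInstance
    exact Functor.map_isIso _ _
  exact isIso_of_reflects_iso _ (sheafToPresheaf _ _)

end Groth.Agent.Lib.EtRestr
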