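import Groth.Prelude.Def_EtShriek2
import Groth.Agent.Lib.EtRestr

/-!
# Continuity of `compEtale j` for every etale morphism `j` (helper39)

The prelude proves `EtShriek.JCont j` only for monomorphisms; here it is proved for every etale `j`.
-/

set_option autoImplicit false
universe w u
open CategoryTheory CategoryTheory.Limits AlgebraicGeometry Opposite

namespace Groth.Agent.Lib.EtJCont

variable {U X : Scheme.{u}}

set_option backward.isDefEq.respectTransparency.types false in
theorem compatiblePreserving_compEtale (j : U ⟶ X) [hj : Etale j] :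
    CompatiblePreserving.{w} X.smallEtaleTopology (EtShriek.compEtale j) := by
  constructor
  intro ℱ Z T x hx Y₁ Y₂ W f₁ f₂ g₁ g₂ hg₁ hg₂ e
  have e1 : f₁.left ≫ Y₁.hom ≫ j = W.hom := MorphismProperty.Over.w f₁
  have e12 : f₁.left ≫ g₁.left = f₂.left ≫ g₂.left := congrArg (fun k => k.left) e
  have eY₁ : g₁.left ≫ Z.hom = Y₁.hom := MorphismProperty.Over.w g₁
  have eY₂ : g₂.left ≫ Z.hom = Y₂.hom := MorphismProperty.Over.w g₂
  have e3 : f₂.left ≫ Y₂.hom = f₁.left ≫ Y₁.hom :=
    ((congrArg (f₂.left ≫ ·) eY₂).symm.trans ((Category.assoc _ _ _).symm.trans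
      ((congrArg (· ≫ Z.hom) e12).symm.trans (Category.assoc _ _ _)))).trans
      (congrArg (f₁.left ≫ ·) eY₁)
  have hW : EtCoh.etaleMP ((f₁.left ≫ Y₁.hom) ≫ j) := by
    rw [Category.assoc, e1]; exact W.prop
  let W' : U.Etale := MorphismProperty.Over.mk ⊤ (f₁.left ≫ Y₁.hom)
      (EtCoh.etaleMP.of_postcomp (W' := EtCoh.etaleMP) (f₁.left ≫ Y₁.hom) j hj hW)
  let c : (EtShriek.compEtale j).obj W' ≅ W := MorphismProperty.Over.isoMk (Iso.refl _)
      ((Category.id_comp W.hom).trans (e1.symm.trans (Category.assoc _ _ _).symm))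
  let f₁' : W' ⟶ Y₁ := MorphismProperty.Over.homMk f₁.left rfl trivial
  let f₂' : W' ⟶ Y₂ := MorphismProperty.Over.homMk f₂.left e3 trivial
  have h1 : f₁ = c.inv ≫ (EtShriek.compEtale j).map f₁' :=
    MorphismProperty.Over.Hom.ext (Category.id_comp _).symm
  have h2 : f₂ = c.inv ≫ (EtShriek.compEtale j).map f₂' :=
    MorphismProperty.Over.Hom.ext (Category.id_comp _).symm
  have hc := hx f₁' f₂' hg₁ hg₂ (MorphismProperty.Over.Hom.ext e12)
  rw [h1, h2, op_comp, Functor.map_comp, op_comp, Functor.map_comp]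
  exact congrArg (ℱ.obj.map c.inv.op) hc

/-- `compEtale j` is continuous for every etale morphism `j` -/
theorem jCont (j : U ⟶ X) [hj : Etale j] : EtShriek.JCont j :=
  Functor.isContinuous_of_coverPreserving (compatiblePreserving_compEtale j)
    (EtShriek.coverPreserving_compEtale j)

end Groth.Agent.Lib.EtJCont
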