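import Groth.Prelude.Def_EtDual
import Groth.Agent.Lib.EtJCont

/-!
# Restriction of `G_m` and `μ_n` along an étale morphism (helper65)
-/

set_option autoImplicit false
universe u
open CategoryTheory CategoryTheory.Limits AlgebraicGeometry Opposite

namespace Groth.Agent.Lib.EtMuRestr65

variable {X V : Scheme.{u}} (g : V ⟶ X) [hg : Etale g] [EtShriek.JCont g]

/-- `G_m|_V ≅ G_{m,V}` on the nose -/
noncomputable def restrGmIso : (EtShriek.restrAlong g).obj (EtCoh.Gm X) ≅ EtCoh.Gm V :=
  (fullyFaithfulSheafToPresheaf _ _).preimageIso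
    (NatIso.ofComponents (fun _ => Iso.refl _) (by
      intro U W f
      exact (Category.comp_id _).trans (Category.id_comp _).symm))

instance : (EtShriek.restrAlong g).Additive where

instance : PreservesLimitsOfSize.{0, 0} (EtShriek.restrAlong g) :=
  (EtShriek.extZeroAdj g).rightAdjoint_preservesLimits

lemma restr_powMap (n : ℕ) :
    (EtShriek.restrAlong g).map (EtCoh.powMap X n) ≫ (restrGmIso g).hom =
      (restrGmIso g).hom ≫ EtCoh.powMap V n := by
  unfold EtCoh.powMap
  rw [Functor.map_nsmul, CategoryTheory.Functor.map_id, Preadditive.nsmul_comp,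
    Preadditive.comp_nsmul, Category.id_comp, Category.comp_id]

/-- `μ_n|_V ≅ μ_{n,V}` -/
noncomputable def restrMuIso (n : ℕ) : (EtShriek.restrAlong g).obj (EtCoh.mu X n) ≅ EtCoh.mu V n :=
  PreservesKernel.iso (EtShriek.restrAlong g) (EtCoh.powMap X n) ≪≫
    kernel.mapIso _ _ (restrGmIso g) (restrGmIso g) (restr_powMap g n)

end Groth.Agent.Lib.EtMuRestr65
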