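import Groth.Prelude.Def_EtDual
import Groth.Agent.Lib.EtJCont
import Groth.Agent.Lib.EtStalkPullGerm
import Groth.Agent.Lib.EtPushEpi39

/-!
# Tensor products of abelian étale sheaves: functoriality and étale restriction (helper65)

* `tensorPreMap φ ψ`, `tensorAbIso e e' : tensorAb F G ≅ tensorAb F' G'`;
* `isCocontinuous_compEtale`: for étale `g : V ⟶ X`, `compEtale g` is cocontinuous;
* `restrTensorIso g F G : restrAlong g (tensorAb F G) ≅ tensorAb (restrAlong g F) (restrAlong g G)`.
-/

set_option autoImplicit false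
universe u
open CategoryTheory CategoryTheory.Limits AlgebraicGeometry Opposite
open scoped TensorProduct

namespace Groth.Agent.Lib.EtTensorRestr65

section Functoriality

variable {X : Scheme.{u}} {F F' F'' G G' G'' : EtCoh.Ab X}

/-- functoriality of the presheaf tensor product -/
noncomputable def tensorPreMap (φ : F ⟶ F') (ψ : G ⟶ G') :
    EtDual.tensorPre F G ⟶ EtDual.tensorPre F' G' where
  app U := AddCommGrpCat.ofHom
    (TensorProduct.map (φ.hom.app U).hom.toIntLinearMap (ψ.hom.app U).hom.toIntLinearMap).toAddMonoidHom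
  naturality U V f := by
    ext t
    induction t using TensorProduct.induction_on with
    | zero => exact (map_zero _).trans (map_zero _).symm
    | tmul s c =>
      show TensorProduct.map _ _ (TensorProduct.map (EtDual.resLin F f) (EtDual.resLin G f) (s ⊗ₜ[ℤ] c)) =
        TensorProduct.map (EtDual.resLin F' f) (EtDual.resLin G' f) (TensorProduct.map _ _ (s ⊗ₜ[ℤ] c))
      simp only [TensorProduct.map_tmul]
      have h1 := congrArg (fun k => k.hom s) (φ.hom.naturality f)
      have h2 := congrArg (fun k => k.hom c) (ψ.hom.naturality f)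
      exact congrArg₂ (· ⊗ₜ[ℤ] ·) h1 h2
    | add t₁ t₂ h₁ h₂ => exact (map_add _ t₁ t₂).trans ((congrArg₂ (· + ·) h₁ h₂).trans (map_add _ t₁ t₂).symm)

lemma tensorPreMap_app_tmul (φ : F ⟶ F') (ψ : G ⟶ G') (U : X.Etaleᵒᵖ) (s : F.obj.obj U)
    (c : G.obj.obj U) :
    (tensorPreMap φ ψ).app U (s ⊗ₜ[ℤ] c) = (φ.hom.app U s) ⊗ₜ[ℤ] (ψ.hom.app U c) := rfl

lemma tensorPreMap_comp (φ : F ⟶ F') (ψ : G ⟶ G') (φ' : F' ⟶ F'') (ψ' : G' ⟶ G'') :
    tensorPreMap φ ψ ≫ tensorPreMap φ' ψ' = tensorPreMap (φ ≫ φ') (ψ ≫ ψ') := by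
  ext U t
  induction t using TensorProduct.induction_on with
  | zero => exact (map_zero _).trans (map_zero _).symm
  | tmul s c => rfl
  | add t₁ t₂ h₁ h₂ => exact (map_add _ t₁ t₂).trans ((congrArg₂ (· + ·) h₁ h₂).trans (map_add _ t₁ t₂).symm)

lemma tensorPreMap_id : tensorPreMap (𝟙 F) (𝟙 G) = 𝟙 (EtDual.tensorPre F G) := by
  ext U t
  induction t using TensorProduct.induction_on with
  | zero => exact (map_zero _).trans (map_zero _).symm
  | tmul s c => rfl
  | add t₁ t₂ h₁ h₂ => exact (map_add _ t₁ t₂).trans ((congrArg₂ (· + ·) h₁ h₂).trans (map_add _ t₁ t₂).symm)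

/-- the presheaf tensor product respects isomorphisms -/
noncomputable def tensorPreIso (e : F ≅ F') (e' : G ≅ G') :
    EtDual.tensorPre F G ≅ EtDual.tensorPre F' G' where
  hom := tensorPreMap e.hom e'.hom
  inv := tensorPreMap e.inv e'.inv
  hom_inv_id := by rw [tensorPreMap_comp, e.hom_inv_id, e'.hom_inv_id, tensorPreMap_id]
  inv_hom_id := by rw [tensorPreMap_comp, e.inv_hom_id, e'.inv_hom_id, tensorPreMap_id]

/-- the tensor product of abelian étale sheaves respects isomorphisms -/
noncomputable def tensorAbIso (e : F ≅ F') (e' : G ≅ G') :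
    EtDual.tensorAb F G ≅ EtDual.tensorAb F' G' :=
  (presheafToSheaf X.smallEtaleTopology AddCommGrpCat.{u + 1}).mapIso (tensorPreIso e e')

end Functoriality

section Restr

open Groth.Agent.Lib.EtStalkPullGerm

variable {X V : Scheme.{u}} (g : V ⟶ X) [hg : Etale g]

set_option backward.isDefEq.respectTransparency.types false in
instance isCocontinuous_compEtale :
    (EtShriek.compEtale g).IsCocontinuous V.smallEtaleTopology X.smallEtaleTopology where
  cover_lift {W S} hS := by
    apply sieve_mem_of_forall_pt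
    intro w
    obtain ⟨Z, k, z, hk, hz⟩ := (Groth.Agent.Lib.EtPushEpi39.mem_smallEtale_iff _ S).1 hS w
    let L := EtShriek.compEtaleLift g k
    let h : L.1 ⟶ W := MorphismProperty.Over.homMk k.left rfl trivial
    have hh : (EtShriek.compEtale g).map h = L.2.hom ≫ k := by
      apply MorphismProperty.Over.Hom.ext
      exact (Category.id_comp _).symm
    refine ⟨L.1, h, ?_, ⟨z, hz⟩⟩
    show S.arrows ((EtShriek.compEtale g).map h)
    rw [hh]
    exact S.downward_closed hk _

variable [EtShriek.JCont g]

/-- restriction along an étale morphism commutes with sheafification -/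
noncomputable def restrSheafifyIso (P : X.Etaleᵒᵖ ⥤ AddCommGrpCat.{u + 1}) :
    (presheafToSheaf V.smallEtaleTopology AddCommGrpCat.{u + 1}).obj
        ((EtShriek.compEtale g).op ⋙ P) ≅
      (EtShriek.restrAlong g).obj
        ((presheafToSheaf X.smallEtaleTopology AddCommGrpCat.{u + 1}).obj P) :=
  ((EtShriek.compEtale g).pushforwardContinuousSheafificationCompatibility AddCommGrpCat.{u + 1}
    V.smallEtaleTopology X.smallEtaleTopology).app P

/-- the presheaf tensor product commutes with restriction, on the nose -/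
noncomputable def restrTensorPreIso (F G : EtCoh.Ab X) :
    (EtShriek.compEtale g).op ⋙ EtDual.tensorPre F G ≅
      EtDual.tensorPre ((EtShriek.restrAlong g).obj F) ((EtShriek.restrAlong g).obj G) :=
  NatIso.ofComponents (fun _ => Iso.refl _) (by
    intro U W f
    exact (Category.comp_id _).trans (Category.id_comp _).symm)

/-- `(F ⊗ G)|_V ≅ F|_V ⊗ G|_V` for `V` étale over `X` -/
noncomputable def restrTensorIso (F G : EtCoh.Ab X) :
    (EtShriek.restrAlong g).obj (EtDual.tensorAb F G) ≅
      EtDual.tensorAb ((EtShriek.restrAlong g).obj F) ((EtShriek.restrAlong g).obj G) :=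
  (restrSheafifyIso g (EtDual.tensorPre F G)).symm ≪≫
    (presheafToSheaf V.smallEtaleTopology AddCommGrpCat.{u + 1}).mapIso (restrTensorPreIso g F G)

end Restr

end Groth.Agent.Lib.EtTensorRestr65
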