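import Groth.Prelude.Def_EtDual
import Groth.Agent.Lib.EtConstStalk

/-!
# `F ⊗ ℤ/n ≅ F` for abelian étale sheaves killed by `n` (helper65)

* `unitPre F n : F.obj ⟶ EtDual.tensorPre F (EtCoh.const X (ZMod n))`, `s ↦ s ⊗ 1`;
* `isLocallySurjective_unitPre`, `isLocallyInjective_unitPre` (the latter if `n` kills `F`);
* `tensorConstIso : EtDual.tensorAb F (EtCoh.const X (ZMod n)) ≅ F` if `n` kills `F`.
-/

set_option autoImplicit false
universe u
open CategoryTheory CategoryTheory.Limits AlgebraicGeometry Opposite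
open scoped TensorProduct

namespace Groth.Agent.Lib.EtTensorUnit65

open Groth.Agent.Lib.EtConst Groth.Agent.Lib.EtGerm Groth.Agent.Lib.EtStalkConservative
  Groth.Agent.Lib.EtStalkPullGerm

variable {X : Scheme.{u}} (F : EtCoh.Ab X) (n : ℕ)

/-- the value group `ℤ/n`, one universe up -/
abbrev Mn : AddCommGrpCat.{u + 1} := AddCommGrpCat.of (ULift.{u + 1} (ZMod n))

/-- the constant section `1` of `ℤ/n` -/
noncomputable def one (U : X.Etale) : EtCoh.sect (EtCoh.const X (ZMod n)) U :=
  constSec (Mn n) U (ULift.up 1)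

lemma one_res {U V : X.Etale} (g : V ⟶ U) :
    (EtCoh.const X (ZMod n)).obj.map g.op (one n U) = one n V :=
  constSec_res (Mn n) g _

lemma constSec_eq_zsmul_one (U : X.Etale) (k : ZMod n) :
    constSec (Mn.{u} n) U (ULift.up k) = (k.cast : ℤ) • one n U := by
  rw [one, ← map_zsmul]
  congr 1
  apply ULift.ext
  rw [ULift.smul_down, zsmul_one, ZMod.intCast_zmod_cast]

/-- `s ↦ s ⊗ 1` -/
noncomputable def unitPre : F.obj ⟶ EtDual.tensorPre F (EtCoh.const X (ZMod n)) where
  app U := AddCommGrpCat.ofHom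
    ((TensorProduct.mk ℤ (F.obj.obj U) ((EtCoh.const X (ZMod n)).obj.obj U)).flip
      (one n U.unop)).toAddMonoidHom
  naturality U V f := by
    ext s
    show (F.obj.map f s) ⊗ₜ[ℤ] one n V.unop =
      TensorProduct.map (EtDual.resLin F f) (EtDual.resLin (EtCoh.const X (ZMod n)) f)
        (s ⊗ₜ[ℤ] one n U.unop)
    rw [TensorProduct.map_tmul]
    congr 1
    exact (one_res n f.unop).symm

lemma unitPre_app_apply (U : X.Etaleᵒᵖ) (s : F.obj.obj U) :
    (unitPre F n).app U s = s ⊗ₜ[ℤ] one n U.unop := rfl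

lemma tensorPre_map_tmul {G : EtCoh.Ab X} {U V : X.Etaleᵒᵖ} (f : U ⟶ V) (s : F.obj.obj U)
    (c : G.obj.obj U) :
    (EtDual.tensorPre F G).map f (s ⊗ₜ[ℤ] c) = (F.obj.map f s) ⊗ₜ[ℤ] (G.obj.map f c) := by
  show TensorProduct.map (EtDual.resLin F f) (EtDual.resLin G f) (s ⊗ₜ[ℤ] c) = _
  rw [TensorProduct.map_tmul]
  rfl

instance isLocallySurjective_unitPre :
    Presheaf.IsLocallySurjective X.smallEtaleTopology (unitPre F n) where
  imageSieve_mem {U} t := by
    induction t using TensorProduct.induction_on with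
    | zero =>
      refine X.smallEtaleTopology.superset_covering ?_ (X.smallEtaleTopology.top_mem U)
      intro V g _
      exact ⟨0, (map_zero _).trans (map_zero _).symm⟩
    | tmul s c =>
      apply sieve_mem_of_forall_pt
      intro x
      obtain ⟨V, g, m, hx, hc⟩ := exists_constSec_eq_pt (Mn n) c x
      refine ⟨V, g, ?_, hx⟩
      refine ⟨(m.down.cast : ℤ) • F.obj.map g.op s, ?_⟩
      rw [unitPre_app_apply]
      erw [tensorPre_map_tmul]
      erw [hc]
      rw [show m = ULift.up m.down from rfl, constSec_eq_zsmul_one, TensorProduct.smul_tmul]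
    | add t₁ t₂ h₁ h₂ =>
      refine X.smallEtaleTopology.superset_covering ?_
        (X.smallEtaleTopology.intersection_covering h₁ h₂)
      rintro V g ⟨⟨a, ha⟩, ⟨b, hb⟩⟩
      exact ⟨a + b, (map_add _ a b).trans ((congrArg₂ (· + ·) ha hb).trans (map_add _ t₁ t₂).symm)⟩

section Retraction

variable {A B : Type*} [AddCommGroup A] [AddCommGroup B] (hA : ∀ a : A, n • a = 0)
  (ρ : B →+ ULift.{u + 1} (ZMod n))

/-- the retraction `A ⊗ B ⟶ A`, `a ⊗ b ↦ ρ(b) • a`, for `A` killed by `n` -/
noncomputable def retr : A ⊗[ℤ] B →+ A :=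
  letI : Module (ZMod n) A := AddCommGroup.zmodModule hA
  TensorProduct.liftAddHom
    (AddMonoidHom.mk' (fun a => AddMonoidHom.mk' (fun b => (ρ b).down • a)
      (fun b b' => by rw [map_add, ULift.add_down, add_smul]))
      (fun a a' => by ext b; simp [smul_add]))
    (fun z a b => by
      show (ρ b).down • (z • a) = (ρ (z • b)).down • a
      rw [map_zsmul, ULift.smul_down, smul_assoc, smul_comm])

lemma retr_tmul (a : A) (b : B) :
    retr n hA ρ (a ⊗ₜ[ℤ] b) = (letI : Module (ZMod n) A := AddCommGroup.zmodModule hA; (ρ b).down • a) := by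
  rfl

lemma retr_tmul_of_eq_one (a : A) (b : B) (hb : ρ b = ULift.up 1) : retr n hA ρ (a ⊗ₜ[ℤ] b) = a := by
  rw [retr_tmul, hb]
  let _ : Module (ZMod n) A := AddCommGroup.zmodModule hA
  exact one_smul _ a

end Retraction

variable {F n} in
lemma isLocallyInjective_unitPre (hF : EtCoh.KilledBy n F) :
    Presheaf.IsLocallyInjective X.smallEtaleTopology (unitPre F n) where
  equalizerSieve_mem {U} x y h := by
    apply sieve_mem_of_forall_pt
    intro pt
    refine ⟨U.unop, 𝟙 _, ?_, ⟨pt, rfl⟩⟩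
    show F.obj.map (𝟙 _).op x = F.obj.map (𝟙 _).op y
    suffices x = y by rw [this]
    obtain ⟨nb, -⟩ := exists_stdPt_nbhd U.unop pt
    let ρ : EtCoh.sect (EtCoh.const X (ZMod n)) U.unop →+ ULift.{u + 1} (ZMod n) :=
      (stalkConstEquiv (stdPt (U.unop.hom pt)) (Mn n)).symm.toAddMonoidHom.comp
        (germ (stdPt (U.unop.hom pt)) (constSh X (Mn n)) nb)
    have hρ : ρ (one n U.unop) = ULift.up 1 := by
      show (stalkConstEquiv (stdPt (U.unop.hom pt)) (Mn n)).symm
        (germ (stdPt (U.unop.hom pt)) (constSh X (Mn n)) nb (constSec (Mn n) U.unop (ULift.up 1))) = _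
      have h1 := germ_constSec (stdPt (U.unop.hom pt)) (Mn n) nb (ULift.up 1)
      exact (congrArg (stalkConstEquiv (stdPt (U.unop.hom pt)) (Mn n)).symm h1).trans
        ((stalkConstEquiv (stdPt (U.unop.hom pt)) (Mn n)).symm_apply_apply _)
    have h' := congrArg (retr n (hF U.unop) ρ) h
    rw [unitPre_app_apply, unitPre_app_apply] at h'
    rwa [retr_tmul_of_eq_one n (hF U.unop) ρ _ _ hρ, retr_tmul_of_eq_one n (hF U.unop) ρ _ _ hρ] at h'

variable {F n} in
/-- `F ⊗ ℤ/n ≅ F` for `F` killed by `n` -/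
noncomputable def tensorConstIso (hF : EtCoh.KilledBy n F) :
    EtDual.tensorAb F (EtCoh.const X (ZMod n)) ≅ F :=
  have := isLocallyInjective_unitPre hF
  have hW : X.smallEtaleTopology.W (unitPre F n) :=
    GrothendieckTopology.W_of_isLocallyBijective _ _
  have : IsIso ((presheafToSheaf X.smallEtaleTopology AddCommGrpCat.{u + 1}).map (unitPre F n)) :=
    (GrothendieckTopology.W_iff _ _).1 hW
  (asIso ((presheafToSheaf X.smallEtaleTopology AddCommGrpCat.{u + 1}).map (unitPre F n))).symm ≪≫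
    asIso ((sheafificationAdjunction X.smallEtaleTopology AddCommGrpCat.{u + 1}).counit.app F)

end Groth.Agent.Lib.EtTensorUnit65
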