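import Groth.Agent.Lib.SecSuppBC65
import Groth.Agent.Lib.EtLocalZero65
import Groth.Agent.Lib.EtTensorUnit65
import Groth.Agent.Lib.EtTensorRestr65
import Groth.Agent.Lib.EtMuRestr65
import Groth.Agent.Lib.EtCycloNbhd65

/-!
# Tate twists are étale-locally constant; étale depth is insensitive to twists (helper65)

* `exists_nbhd_pull_tate_iso`: if `n ≥ 1` is invertible on `X`, every point of `X` has an étale
  neighbourhood `g : V ⟶ X` with `g⁻¹ ℤ/n(c) ≅ g⁻¹ ℤ/n`.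
* `isZero_locCoh_tate`: `ℋ^p_Y(ℤ/n) = 0 ⇒ ℋ^p_Y(ℤ/n(c)) = 0`.
-/

set_option autoImplicit false
universe u
open CategoryTheory CategoryTheory.Limits AlgebraicGeometry Opposite

namespace Groth.Agent.Lib.TateLocal65

open Groth.Agent.Lib.EtConst Groth.Agent.Lib.EtStalkPullGerm

lemma killedBy_const (V : Scheme.{u}) (n : ℕ) : EtCoh.KilledBy n (EtCoh.const V (ZMod n)) := by
  intro U s
  apply section_ext_of_forall_pt
  intro x
  obtain ⟨W, g, m, hx, hm⟩ := exists_constSec_eq_pt (Groth.Agent.Lib.EtTensorUnit65.Mn n) s x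
  refine ⟨W, g, hx, ?_⟩
  rw [map_nsmul, map_zero]
  erw [hm]
  rw [← map_nsmul]
  have : n • m = 0 := by
    apply ULift.ext
    rw [ULift.smul_down]
    show n • m.down = 0
    rw [nsmul_eq_mul, ZMod.natCast_self, zero_mul]
  rw [this, map_zero]

section

variable {X V : Scheme.{u}} (g : V ⟶ X) [Etale g] (n : ℕ)

lemma nonempty_restr_tate_iso [EtShriek.JCont g]
    (eμ : EtCoh.mu V n ≅ EtCoh.const V (ZMod n)) (c : ℕ) :
    Nonempty ((EtShriek.restrAlong g).obj (EtDual.tate X n c) ≅ EtCoh.const V (ZMod n)) := by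
  induction c with
  | zero =>
    exact ⟨(Groth.Agent.Lib.EtExtZero.restrIsoPull g).app (EtCoh.const X (ZMod n)) ≪≫
      EtCore.pullConst g (ZMod n)⟩
  | succ c ih =>
    obtain ⟨e⟩ := ih
    exact ⟨Groth.Agent.Lib.EtTensorRestr65.restrTensorIso g (EtDual.tate X n c) (EtCoh.mu X n) ≪≫
      Groth.Agent.Lib.EtTensorRestr65.tensorAbIso e
        (Groth.Agent.Lib.EtMuRestr65.restrMuIso g n ≪≫ eμ) ≪≫
      Groth.Agent.Lib.EtTensorUnit65.tensorConstIso (killedBy_const V n)⟩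

lemma nonempty_pull_tate_iso (eμ : EtCoh.mu V n ≅ EtCoh.const V (ZMod n)) (c : ℕ) :
    Nonempty ((EtCoh.pull g).obj (EtDual.tate X n c) ≅
      (EtCoh.pull g).obj (EtCoh.const X (ZMod n))) := by
  have : EtShriek.JCont g := Groth.Agent.Lib.EtJCont.jCont g
  obtain ⟨e⟩ := nonempty_restr_tate_iso g n eμ c
  exact ⟨(Groth.Agent.Lib.EtExtZero.restrIsoPull g).symm.app _ ≪≫ e ≪≫
    (EtCore.pullConst g (ZMod n)).symm⟩

end

theorem exists_nbhd_pull_tate_iso (X : Scheme.{u}) (n : ℕ) (hn : 1 ≤ n)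
    (hunit : IsUnit (n : Γ(X, ⊤))) (c : ℕ) (x : X) :
    ∃ (V : Scheme.{u}) (g : V ⟶ X) (_ : Etale g) (w : V), g w = x ∧
      Nonempty ((EtCoh.pull g).obj (EtDual.tate X n c) ≅
        (EtCoh.pull g).obj (EtCoh.const X (ZMod n))) := by
  obtain ⟨V, g, hg, w, hw, ⟨eμ⟩⟩ :=
    Groth.Agent.Lib.EtCycloNbhd65.exists_etale_nbhd_mu_iso_const X n hn hunit x
  exact ⟨V, g, hg, w, hw, nonempty_pull_tate_iso g n eμ c⟩

/-- local cohomology sheaves of `ℤ/n(c)` vanish where those of `ℤ/n` do -/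
theorem isZero_locCoh_tate {X U : Scheme.{u}} (j : U ⟶ X) (n : ℕ) (hn : 1 ≤ n)
    (hunit : IsUnit (n : Γ(X, ⊤))) (c p : ℕ)
    (h : IsZero ((EtDual.locCoh j p).obj (EtCoh.const X (ZMod n)))) :
    IsZero ((EtDual.locCoh j p).obj (EtDual.tate X n c)) := by
  apply Groth.Agent.Lib.EtLocalZero65.isZero_of_forall_exists_pull
  intro x
  obtain ⟨V, g, hg, w, hw, ⟨e⟩⟩ := exists_nbhd_pull_tate_iso X n hn hunit c x
  exact ⟨V, g, w, hw, Groth.Agent.Lib.SecSuppBC65.isZero_pull_locCoh_of_iso j g p _ _ e h⟩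

end Groth.Agent.Lib.TateLocal65
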