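import Groth.Agent.Lib.SecSuppMono65
import Groth.Agent.Lib.TateLocal65

/-!
# `Γ_Y` depends only on the open complement; pullback of Tate twists (helper65)

* `secSuppIsoOfRangeEq j₁ j₂ h : EtDual.secSupp j₁ ≅ EtDual.secSupp j₂` for open immersions with the
  same image.
* `nonempty_pull_tate_iso_tate g n c : g⁻¹ ℤ/n(c) ≅ ℤ/n(c)` for étale `g`.
-/

set_option autoImplicit false
universe u
open CategoryTheory CategoryTheory.Limits AlgebraicGeometry Opposite

namespace Groth.Agent.Lib.SecSuppRange65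

open Groth.Agent.Lib.LocCohShift65 Groth.Agent.Lib.SecSuppMono65

section Range

variable {X U₁ U₂ : Scheme.{u}} (j₁ : U₁ ⟶ X) [IsOpenImmersion j₁] (j₂ : U₂ ⟶ X) [IsOpenImmersion j₂]

/-- `Γ_{Y₂} ⟶ Γ_{Y₁}` for `U₁ ⊆ U₂` -/
noncomputable def secSuppMapOfRangeLE (h : Set.range j₁.base ⊆ Set.range j₂.base) :
    EtDual.secSupp j₂ ⟶ EtDual.secSupp j₁ where
  app F := kernel.lift _ ((α j₂).app F) (α_comp_unit_eq_zero j₁ j₂ h F)
  naturality F G f := by
    rw [← cancel_mono (kernel.ι (EtDual.unitApp j₁ G))]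
    simp only [Category.assoc, kernel.lift_ι]
    erw [kernel.lift_ι, kernel.lift_ι_assoc]
    rfl

@[reassoc (attr := simp)]
lemma secSuppMapOfRangeLE_ι (h : Set.range j₁.base ⊆ Set.range j₂.base) (F : EtCoh.Ab X) :
    (secSuppMapOfRangeLE j₁ j₂ h).app F ≫ kernel.ι (EtDual.unitApp j₁ F) =
      kernel.ι (EtDual.unitApp j₂ F) :=
  kernel.lift_ι _ _ _

/-- `Γ_Y` only depends on the image of the open immersion -/
noncomputable def secSuppIsoOfRangeEq (h : Set.range j₁.base = Set.range j₂.base) :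
    EtDual.secSupp j₁ ≅ EtDual.secSupp j₂ where
  hom := secSuppMapOfRangeLE j₂ j₁ h.ge
  inv := secSuppMapOfRangeLE j₁ j₂ h.le
  hom_inv_id := by
    refine NatTrans.ext (funext fun F => ?_)
    rw [← cancel_mono (kernel.ι (EtDual.unitApp j₁ F))]
    simp
  inv_hom_id := by
    refine NatTrans.ext (funext fun F => ?_)
    rw [← cancel_mono (kernel.ι (EtDual.unitApp j₂ F))]
    simp

end Range

section Tate

variable {X V : Scheme.{u}} (g : V ⟶ X) [Etale g] (n : ℕ)

lemma nonempty_restr_tate_iso_tate [EtShriek.JCont g] (c : ℕ) :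
    Nonempty ((EtShriek.restrAlong g).obj (EtDual.tate X n c) ≅ EtDual.tate V n c) := by
  induction c with
  | zero =>
    exact ⟨(Groth.Agent.Lib.EtExtZero.restrIsoPull g).app (EtCoh.const X (ZMod n)) ≪≫
      EtCore.pullConst g (ZMod n)⟩
  | succ c ih =>
    obtain ⟨e⟩ := ih
    exact ⟨Groth.Agent.Lib.EtTensorRestr65.restrTensorIso g (EtDual.tate X n c) (EtCoh.mu X n) ≪≫
      Groth.Agent.Lib.EtTensorRestr65.tensorAbIso e (Groth.Agent.Lib.EtMuRestr65.restrMuIso g n)⟩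

/-- `g⁻¹ ℤ/n(c) ≅ ℤ/n(c)` for étale `g` -/
lemma nonempty_pull_tate_iso_tate (c : ℕ) :
    Nonempty ((EtCoh.pull g).obj (EtDual.tate X n c) ≅ EtDual.tate V n c) := by
  have : EtShriek.JCont g := Groth.Agent.Lib.EtJCont.jCont g
  obtain ⟨e⟩ := nonempty_restr_tate_iso_tate g n c
  exact ⟨(Groth.Agent.Lib.EtExtZero.restrIsoPull g).symm.app _ ≪≫ e⟩

end Tate

end Groth.Agent.Lib.SecSuppRange65
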