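import Groth.Agent.Lib.EtExcA65
import Groth.Agent.Lib.SecSuppBC65
import Groth.Agent.Lib.SecSuppRange65

/-!
# Étale excision for local cohomology groups (helper65) — S14454

`f : X' ⟶ X` étale, `U' = f⁻¹ U`, `f` bijective `X'∖U' → X∖U` with trivial residue field extensions:
`H^r_Y(X, F) ≅ H^r_{Y'}(X', f⁻¹F)`.  Sheaf gluing over the covering `{X', U}` of `X`
(`Lib/EtExcA65`), `Γ_Y F` has no sections over `U`, and `f⁻¹ Γ_Y ≅ Γ_{Y'} f⁻¹` (`SecSuppBC65`).
-/

set_option autoImplicit false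
universe u
open CategoryTheory CategoryTheory.Limits AlgebraicGeometry Opposite

namespace Groth.Agent.Lib.EtExcision65

section Vanish

variable {X U : Scheme.{u}} (j : U ⟶ X) [IsOpenImmersion j]

/-- `j⁻¹ Γ_Y F = 0` -/
lemma isZero_pull_secSupp (F : EtCoh.Ab X) :
    IsZero ((EtCoh.pull j).obj ((EtDual.secSupp j).obj F)) := by
  have h0 : (EtCoh.pull j).map (kernel.ι (EtDual.unitApp j F)) ≫
      (EtCoh.pull j).map (EtDual.unitApp j F) = 0 := by
    rw [← Functor.map_comp, kernel.condition, Functor.map_zero]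
  have hm : Mono ((EtCoh.pull j).map (EtDual.unitApp j F)) :=
    mono_of_mono_fac ((EtCoh.pullPushAdj j).left_triangle_components F)
  have h1 : (EtCoh.pull j).map (kernel.ι (EtDual.unitApp j F)) = 0 := by
    rw [← cancel_mono ((EtCoh.pull j).map (EtDual.unitApp j F)), h0, zero_comp]
  have : Mono ((EtCoh.pull j).map (kernel.ι (EtDual.unitApp j F))) := inferInstance
  rw [IsZero.iff_id_eq_zero, ← cancel_mono ((EtCoh.pull j).map (kernel.ι (EtDual.unitApp j F))),
    h1, comp_zero, comp_zero]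

/-- `Γ_Y F` has no sections over étale `X`-schemes lying over `U` -/
lemma vanishesOver_secSupp (F : EtCoh.Ab X) : VanishesOver j ((EtDual.secSupp j).obj F) := by
  intro W hW
  have : EtShriek.JCont j := Groth.Agent.Lib.EtJCont.jCont j
  let w : W.left ⟶ U := IsOpenImmersion.lift j W.hom hW
  have hw : w ≫ j = W.hom := IsOpenImmersion.lift_fac _ _ _
  let g : W ⟶ (EtShriek.compEtale j).obj (EtCoh.top U) :=
    MorphismProperty.Over.homMk w (by
      show w ≫ 𝟙 U ≫ j = W.hom
      rw [Category.id_comp, hw]) trivial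
  obtain ⟨W', e⟩ := EtShriek.compEtaleLift j g
  have hz : IsZero ((EtShriek.restrAlong j).obj ((EtDual.secSupp j).obj F)) :=
    (isZero_pull_secSupp j F).of_iso ((Groth.Agent.Lib.EtExtZero.restrIsoPull j).app _)
  have hz' : IsZero (((EtShriek.restrAlong j).obj ((EtDual.secSupp j).obj F)).obj.obj (op W')) :=
    Functor.map_isZero (sheafToPresheaf U.smallEtaleTopology AddCommGrpCat.{u + 1} ⋙
      (evaluation U.Etaleᵒᵖ AddCommGrpCat.{u + 1}).obj (op W')) hz
  exact hz'.of_iso (((EtDual.secSupp j).obj F).obj.mapIso e.op)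

end Vanish

section Assembly

variable {X X' U U' : Scheme.{u}} (f : X' ⟶ X) [Etale f] (j : U ⟶ X) [IsOpenImmersion j]
  (j' : U' ⟶ X') [IsOpenImmersion j']

/-- sections over `Y` -/
noncomputable abbrev ev {X : Scheme.{u}} (Y : X.Etale) : EtCoh.Ab X ⥤ AddCommGrpCat.{u + 1} :=
  sheafToPresheaf X.smallEtaleTopology AddCommGrpCat.{u + 1} ⋙
    (evaluation X.Etaleᵒᵖ AddCommGrpCat.{u + 1}).obj (op Y)

/-- restriction `Γ(X, −) ⟶ Γ(Y, −)` -/
noncomputable def res {X : Scheme.{u}} (Y : X.Etale) : ev (EtCoh.top X) ⟶ ev Y :=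
  Functor.whiskerLeft _ ((evaluation X.Etaleᵒᵖ AddCommGrpCat.{u + 1}).map (toTop Y).op)

/-- `Γ(X', f⁻¹ −) = Γ(X' → X, −)` -/
noncomputable def evRestrIso [EtShriek.JCont f] :
    EtShriek.restrAlong f ⋙ ev (EtCoh.top X') ≅ ev ((EtShriek.compEtale f).obj (EtCoh.top X')) :=
  NatIso.ofComponents (fun _ => Iso.refl _) (by
    intro F G φ
    exact (Category.comp_id _).trans (Category.id_comp _).symm)

variable (hU' : Set.range j'.base = f.base ⁻¹' Set.range j.base)
  (hZ : Set.BijOn f.base (Set.range j'.base)ᶜ (Set.range j.base)ᶜ)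
  (hκ : ∀ x' : ↥X', x' ∉ Set.range j'.base → Function.Surjective (f.residueFieldMap x'))

include hU' hZ hκ in
lemma isIso_res (F : EtCoh.Ab X) :
    IsIso ((res ((EtShriek.compEtale f).obj (EtCoh.top X'))).app ((EtDual.secSupp j).obj F)) := by
  have hhom : ((EtShriek.compEtale f).obj (EtCoh.top X')).hom = f := Category.id_comp f
  apply isIso_map_toTop j _ _ _ _ _ (vanishesOver_secSupp j F)
  · rw [hhom]
    intro a ha b hb hab
    refine hZ.injOn ?_ ?_ hab
    · rw [hU']; exact ha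
    · rw [hU']; exact hb
  · rw [hhom]
    intro x hx
    obtain ⟨x', -, rfl⟩ := hZ.surjOn hx
    exact ⟨x', rfl⟩
  · rw [hhom]
    intro y hy
    apply hκ
    rw [hU']
    exact hy

include hU' hZ hκ in
/-- `Γ_Y(X, −) ≅ Γ_{Y'}(X', f⁻¹ −)` -/
lemma nonempty_gammaSupp_iso :
    Nonempty (EtDual.gammaSupp j ≅ EtCoh.pull f ⋙ EtDual.gammaSupp j') := by
  have : EtShriek.JCont f := Groth.Agent.Lib.EtJCont.jCont f
  have h1 : IsIso (Functor.whiskerLeft (EtDual.secSupp j)
      (res ((EtShriek.compEtale f).obj (EtCoh.top X')))) := by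
    rw [NatTrans.isIso_iff_isIso_app]
    intro F
    exact isIso_res f j j' hU' hZ hκ F
  have hr : Set.range (pullback.snd j f).base = Set.range j'.base := by
    have h1 : Set.range (pullback.snd j f) = f ⁻¹' Set.range j := Scheme.Pullback.range_snd j f
    exact h1.trans hU'.symm
  let e1 : EtDual.secSupp j ⋙ ev (EtCoh.top X) ≅
      EtDual.secSupp j ⋙ ev ((EtShriek.compEtale f).obj (EtCoh.top X')) :=
    @asIso _ _ _ _ (Functor.whiskerLeft (EtDual.secSupp j)
      (res ((EtShriek.compEtale f).obj (EtCoh.top X')))) h1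
  let e2 : EtDual.secSupp j ⋙ ev ((EtShriek.compEtale f).obj (EtCoh.top X')) ≅
      EtDual.secSupp j ⋙ EtCoh.pull f ⋙ ev (EtCoh.top X') :=
    Functor.isoWhiskerLeft (EtDual.secSupp j) ((evRestrIso f).symm ≪≫
      Functor.isoWhiskerRight (Groth.Agent.Lib.EtExtZero.restrIsoPull f) (ev (EtCoh.top X')))
  let e3 : EtDual.secSupp j ⋙ EtCoh.pull f ⋙ ev (EtCoh.top X') ≅
      EtCoh.pull f ⋙ EtDual.secSupp j' ⋙ ev (EtCoh.top X') :=
    (Functor.associator _ _ _).symm ≪≫
      Functor.isoWhiskerRight (Groth.Agent.Lib.SecSuppBC65.secSuppPullIso j f ≪≫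
        Functor.isoWhiskerLeft (EtCoh.pull f)
          (Groth.Agent.Lib.SecSuppRange65.secSuppIsoOfRangeEq (pullback.snd j f) j' hr))
        (ev (EtCoh.top X')) ≪≫ Functor.associator _ _ _
  exact ⟨e1 ≪≫ e2 ≪≫ e3⟩

include hU' hZ hκ in
/-- étale excision for local cohomology groups -/
theorem nonempty_HY_iso (F : EtCoh.Ab X) (r : ℕ) :
    Nonempty ((EtDual.HY j r).obj F ≅ (EtDual.HY j' r).obj ((EtCoh.pull f).obj F)) := by
  obtain ⟨e⟩ := nonempty_gammaSupp_iso f j j' hU' hZ hκ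
  have : EtShriek.JCont f := Groth.Agent.Lib.EtJCont.jCont f
  have : PreservesFiniteLimits (EtCoh.pull f) :=
    Groth.Agent.Lib.EtPullExact95.preservesFiniteLimits_pull f
  exact ⟨(RDer.rightDerivedIso e r).app F ≪≫
    (Groth.Agent.Lib.DerivedCompExact.rightDerivedCompIso (EtCoh.pull f) (EtDual.gammaSupp j')
      (Groth.Agent.Lib.EtShriekConst.adjSP f) r).app F⟩

end Assembly

end Groth.Agent.Lib.EtExcision65
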