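import Groth.Agent.Lib.TripleLES65
import Groth.Agent.Lib.SemiPurity65
import Groth.Agent.Lib.RDLES31

/-!
# `H^{2c}_Y(X, ℤ/n(c)) ≅ H^{2c}_{Y∩X'}(X', ℤ/n(c))` under vanishing along `Z = X∖X'` (helper65) — S3143
-/

set_option autoImplicit false
universe u
open CategoryTheory CategoryTheory.Limits AlgebraicGeometry Opposite

namespace Groth.Agent.Lib.SemiPurityExc65

/-- local-to-global: vanishing of `ℋ^q_Y(F)` for `q ≤ p` gives `H^p_Y(X, F) = 0` -/
lemma isZero_HY_of_depthGE {X U : Scheme.{u}} (j : U ⟶ X) [IsOpenImmersion j] (F : EtCoh.Ab X)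
    (p : ℕ) (h : EtDepth.DepthGE j F (p + 1)) : IsZero ((EtDual.HY j p).obj F) := by
  have hd : EtDepth.DepthGE j F p := fun q hq => h q (hq.trans (Nat.lt_succ_self p))
  have hiso := Groth.Agent.Lib.SecSuppInj65.isIso_edgeOut_secSupp j F p hd
  have hz : IsZero ((sheafToPresheaf X.smallEtaleTopology AddCommGrpCat.{u+1} ⋙
      (evaluation X.Etaleᵒᵖ AddCommGrpCat.{u+1}).obj (op (EtCoh.top X))).obj
        (((EtDual.secSupp j).rightDerived p).obj F)) :=
    Functor.map_isZero _ (h p (Nat.lt_succ_self p))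
  exact hz.of_iso (@asIso _ _ _ _ (RDer.edgeOut (EtDual.secSupp j)
    (sheafToPresheaf X.smallEtaleTopology AddCommGrpCat.{u+1} ⋙
      (evaluation X.Etaleᵒᵖ AddCommGrpCat.{u+1}).obj (op (EtCoh.top X))) p F) hiso)

theorem nonempty_HY_tate_iso {X X' U : Scheme.{u}} (n : ℕ) (hn : IsUnit (n : Γ(X, ⊤))) (c : ℕ)
    (j : U ⟶ X) [IsOpenImmersion j] (k' : X' ⟶ X) [IsOpenImmersion k'] (j' : U ⟶ X')
    [IsOpenImmersion j'] (hfac : j' ≫ k' = j)
    (hZ : ∀ p : ℕ, p ≤ 2 * c + 1 →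
      IsZero ((EtDual.locCoh k' p).obj (EtCoh.const X (ZMod n)))) :
    Nonempty ((EtDual.HY j (2 * c)).obj (EtDual.tate X n c) ≅
      (EtDual.HY j' (2 * c)).obj (EtDual.tate X' n c)) := by
  rcases Nat.eq_zero_or_pos n with hn0 | hn1
  · -- `0` invertible: `X` and `X'` are empty
    subst hn0
    have h0 : (0 : Γ(X, ⊤)) = 1 := by
      rw [Nat.cast_zero] at hn
      exact (isUnit_zero_iff.1 hn)
    have : Subsingleton Γ(X, ⊤) := subsingleton_of_zero_eq_one h0
    have hX : IsEmpty X := by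
      by_contra hne
      rw [not_isEmpty_iff] at hne
      have : Nonempty (⊤ : X.Opens) := ⟨⟨hne.some, trivial⟩⟩
      have : Nontrivial Γ(X, ⊤) := Scheme.component_nontrivial X ⊤
      exact not_subsingleton Γ(X, ⊤) inferInstance
    have hX' : IsEmpty X' := @Function.isEmpty X' X _ (fun x => k' x)
    have z1 : IsZero ((EtDual.HY j (2 * c)).obj (EtDual.tate X 0 c)) :=
      Functor.map_isZero ((EtDual.gammaSupp j).rightDerived (2 * c))
        (Groth.Agent.Lib.SemiPurity65.isZero_of_isEmpty _)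
    have z2 : IsZero ((EtDual.HY j' (2 * c)).obj (EtDual.tate X' 0 c)) :=
      Functor.map_isZero ((EtDual.gammaSupp j').rightDerived (2 * c))
        (Groth.Agent.Lib.SemiPurity65.isZero_of_isEmpty _)
    exact ⟨z1.iso z2⟩
  · have hd : ∀ p : ℕ, p ≤ 2 * c + 1 → IsZero ((EtDual.locCoh k' p).obj (EtDual.tate X n c)) :=
      fun p hp => Groth.Agent.Lib.TateLocal65.isZero_locCoh_tate k' n hn1 hn c p (hZ p hp)
    have z0 : IsZero ((EtDual.HY k' (2 * c)).obj (EtDual.tate X n c)) :=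
      isZero_HY_of_depthGE k' _ _ (fun q hq => hd q (by omega))
    have z1 : IsZero ((EtDual.HY k' (2 * c + 1)).obj (EtDual.tate X n c)) :=
      isZero_HY_of_depthGE k' _ _ (fun q hq => hd q (by omega))
    obtain ⟨e⟩ := Groth.Agent.Lib.TripleLES65.nonempty_HY_iso j k' j' hfac (EtDual.tate X n c)
      (2 * c) z0 z1
    obtain ⟨e'⟩ := Groth.Agent.Lib.SecSuppRange65.nonempty_pull_tate_iso_tate k' n c
    exact ⟨e ≪≫ (EtDual.HY j' (2 * c)).mapIso e'⟩

end Groth.Agent.Lib.SemiPurityExc65
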