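import Groth.Agent.Lib.EtLocCohExt65
import Groth.Agent.Lib.SemiPurityExc65
import Groth.Agent.Lib.EtExcision65

/-!
# Étale depth in terms of restriction maps on cohomology (helper65) — S3364
-/

set_option autoImplicit false
universe u
open CategoryTheory CategoryTheory.Limits AlgebraicGeometry Opposite

namespace Groth.Agent.Lib.EtDepthRestr65

/-- a sheaf all of whose groups of sections vanish is zero -/
lemma isZero_of_forall_isZero_sections {X : Scheme.{u}} (H : EtCoh.Ab X)
    (h : ∀ W : X.Etale, IsZero (H.obj.obj (op W))) : IsZero H := by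
  rw [IsZero.iff_id_eq_zero]
  apply Sheaf.hom_ext
  apply NatTrans.ext
  funext W
  exact (h W.unop).eq_of_tgt _ _

variable {X U : Scheme.{u}} (j : U ⟶ X) [IsOpenImmersion j] (F : EtCoh.Ab X)

/-- sections of `g⁻¹ H` over the whole of `W` -/
lemma isZero_sections_of_isZero_gsec_pull (H : EtCoh.Ab X) (W : X.Etale)
    (h : have : Etale W.hom := W.prop
      IsZero (((EtCoh.pull W.hom).obj H).obj.obj (op (EtCoh.top W.left)))) :
    IsZero (H.obj.obj (op W)) := by
  have : Etale W.hom := W.prop
  have : EtShriek.JCont W.hom := Groth.Agent.Lib.EtJCont.jCont W.hom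
  have h1 : IsZero (((EtShriek.restrAlong W.hom).obj H).obj.obj (op (EtCoh.top W.left))) :=
    h.of_iso ((Groth.Agent.Lib.EtExcision65.ev (EtCoh.top W.left)).mapIso
      ((Groth.Agent.Lib.EtExtZero.restrIsoPull W.hom).app H))
  let e : (EtShriek.compEtale W.hom).obj (EtCoh.top W.left) ≅ W :=
    MorphismProperty.Over.isoMk (Iso.refl _) (by
      show 𝟙 _ ≫ W.hom = 𝟙 _ ≫ W.hom
      rfl)
  exact h1.of_iso (H.obj.mapIso e.op)

theorem depthGE_iff_forall_isZero_HY (n : ℕ) :
    EtDepth.DepthGE j F n ↔ ∀ (X' : Scheme.{u}) (g : X' ⟶ X) [Etale g], ∀ p : ℕ, p < n →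
      IsZero ((EtDual.HY (pullback.snd j g) p).obj ((EtCoh.pull g).obj F)) := by
  constructor
  · intro h X' g _ p hp
    exact Groth.Agent.Lib.SemiPurityExc65.isZero_HY_of_depthGE (pullback.snd j g) _ p
      (fun q hq => Groth.Agent.Lib.SecSuppBC65.isZero_locCoh_pull j g q F (h q (by omega)))
  · induction n with
    | zero => intro _ p hp; omega
    | succ n ih =>
      intro h
      have hn : EtDepth.DepthGE j F n := ih (fun X' g _ p hp => h X' g p (by omega))
      intro p hp
      by_cases hpn : p < n
      · exact hn p hpn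
      · obtain rfl : p = n := by omega
        apply isZero_of_forall_isZero_sections
        intro W
        apply isZero_sections_of_isZero_gsec_pull
        have : Etale W.hom := W.prop
        have hd : EtDepth.DepthGE (pullback.snd j W.hom) ((EtCoh.pull W.hom).obj F) p :=
          fun q hq => Groth.Agent.Lib.SecSuppBC65.isZero_locCoh_pull j W.hom q F (hn q hq)
        have hiso := Groth.Agent.Lib.SecSuppInj65.isIso_edgeOut_secSupp (pullback.snd j W.hom)
          ((EtCoh.pull W.hom).obj F) p hd
        have hz : IsZero ((EtDual.HY (pullback.snd j W.hom) p).obj ((EtCoh.pull W.hom).obj F)) :=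
          h W.left W.hom p (Nat.lt_succ_self p)
        have hz2 := hz.of_iso (@asIso _ _ _ _ (RDer.edgeOut (EtDual.secSupp (pullback.snd j W.hom))
          (sheafToPresheaf W.left.smallEtaleTopology AddCommGrpCat.{u+1} ⋙
            (evaluation W.left.Etaleᵒᵖ AddCommGrpCat.{u+1}).obj (op (EtCoh.top W.left))) p
              ((EtCoh.pull W.hom).obj F)) hiso).symm
        exact hz2.of_iso ((Groth.Agent.Lib.EtExcision65.ev (EtCoh.top W.left)).mapIso
          ((Groth.Agent.Lib.SecSuppBC65.locCohPullIso j W.hom p).app F))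

/-- S3364 -/
theorem depthGE_iff_Hpull (n : ℕ) :
    EtDepth.DepthGE j F n ↔ ∀ (X' : Scheme.{u}) (g : X' ⟶ X) [Etale g]
      [PreservesFiniteLimits (EtCoh.pull (pullback.snd j g))],
      (∀ p : ℕ, p + 1 < n → Function.Bijective
        (EtCore.Hpull (pullback.snd j g) ((EtCoh.pull g).obj F) p)) ∧
      (∀ p : ℕ, p + 1 = n → Function.Injective
        (EtCore.Hpull (pullback.snd j g) ((EtCoh.pull g).obj F) p)) := by
  rw [depthGE_iff_forall_isZero_HY]
  constructor
  · intro h X' g _ _
    exact (Groth.Agent.Lib.EtLocCohExt65.forall_isZero_HY_iff (pullback.snd j g) _ n).1 (h X' g)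
  · intro h X' g _
    have : PreservesFiniteLimits (EtCoh.pull (pullback.snd j g)) :=
      Groth.Agent.Lib.EtPullExact95.preservesFiniteLimits_pull _
    exact (Groth.Agent.Lib.EtLocCohExt65.forall_isZero_HY_iff (pullback.snd j g) _ n).2 (h X' g)

end Groth.Agent.Lib.EtDepthRestr65
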