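import Mathlib
import Groth.Prelude.Def_SGA1

/-!
# Descent of morphisms to étale schemes along submersive morphisms (helper52)

SGA 1 IX 3.2 (graph argument): `exists_desc_of_isQuotientMap`.  Also the open "equalizer locus"
`eqLocus q a b` of two `S`-morphisms `a b : T ⟶ Y` when `q : Y ⟶ S` has open diagonal, with
`eq_of_surjective_comp` (faithfulness).
-/

set_option autoImplicit false
universe u
open CategoryTheory CategoryTheory.Limits AlgebraicGeometry Topology

namespace Groth.Agent.Lib.EtDescH52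

variable {S Y : Scheme.{u}} (q : Y ⟶ S)

/-- the open locus where two `S`-morphisms to `Y` agree (`Y ⟶ S` with open diagonal) -/
noncomputable def eqLocus [IsOpenImmersion (pullback.diagonal q)] {T : Scheme.{u}} (a b : T ⟶ Y)
    (hab : a ≫ q = b ≫ q) : T.Opens :=
  (pullback.lift a b hab) ⁻¹ᵁ (pullback.diagonal q).opensRange

variable [IsOpenImmersion (pullback.diagonal q)]

theorem eqLocus_congr {T : Scheme.{u}} {a b a' b' : T ⟶ Y} (hab : a ≫ q = b ≫ q)
    (ha : a = a') (hb : b = b') :
    eqLocus q a b hab = eqLocus q a' b' (by rw [← ha, ← hb]; exact hab) := by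
  subst ha hb; rfl

theorem preimage_eqLocus {T T₀ : Scheme.{u}} (a b : T ⟶ Y) (hab : a ≫ q = b ≫ q) (t : T₀ ⟶ T) :
    t ⁻¹ᵁ eqLocus q a b hab =
      eqLocus q (t ≫ a) (t ≫ b) (by rw [Category.assoc, Category.assoc, hab]) := by
  unfold eqLocus
  rw [← Scheme.Hom.comp_preimage]
  have : t ≫ pullback.lift a b hab =
      pullback.lift (t ≫ a) (t ≫ b) (by rw [Category.assoc, Category.assoc, hab]) := by
    apply pullback.hom_ext
    · rw [Category.assoc, pullback.lift_fst, pullback.lift_fst]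
    · rw [Category.assoc, pullback.lift_snd, pullback.lift_snd]
  rw [this]

theorem comp_eq_of_range_subset {T T₀ : Scheme.{u}} (a b : T ⟶ Y) (hab : a ≫ q = b ≫ q)
    (t : T₀ ⟶ T) (h : Set.range t ⊆ (eqLocus q a b hab : Set T)) : t ≫ a = t ≫ b := by
  have hsub : Set.range (t ≫ pullback.lift a b hab) ⊆ Set.range (pullback.diagonal q) := by
    rintro _ ⟨x, rfl⟩
    exact h ⟨x, rfl⟩
  let k := IsOpenImmersion.lift (pullback.diagonal q) (t ≫ pullback.lift a b hab) hsub
  have hk : k ≫ pullback.diagonal q = t ≫ pullback.lift a b hab := IsOpenImmersion.lift_fac _ _ _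
  have h1 : k = t ≫ a := by
    have := congrArg (· ≫ pullback.fst q q) hk
    simp only [Category.assoc, pullback.diagonal_fst, pullback.lift_fst, Category.comp_id] at this
    exact this
  have h2 : k = t ≫ b := by
    have := congrArg (· ≫ pullback.snd q q) hk
    simp only [Category.assoc, pullback.diagonal_snd, pullback.lift_snd, Category.comp_id] at this
    exact this
  exact h1.symm.trans h2

theorem range_subset_eqLocus {T T₀ : Scheme.{u}} (a b : T ⟶ Y) (hab : a ≫ q = b ≫ q)
    (t : T₀ ⟶ T) (h : t ≫ a = t ≫ b) : Set.range t ⊆ (eqLocus q a b hab : Set T) := by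
  rintro _ ⟨x, rfl⟩
  show pullback.lift a b hab (t x) ∈ Set.range (pullback.diagonal q)
  refine ⟨(t ≫ a) x, ?_⟩
  have h3 : (t ≫ a) ≫ pullback.diagonal q = t ≫ pullback.lift a b hab := by
    apply pullback.hom_ext
    · rw [Category.assoc, pullback.diagonal_fst, Category.comp_id, Category.assoc,
        pullback.lift_fst]
    · rw [Category.assoc, pullback.diagonal_snd, Category.comp_id, Category.assoc,
        pullback.lift_snd, h]
  rw [← Scheme.Hom.comp_apply, h3, Scheme.Hom.comp_apply]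

theorem eq_of_eqLocus_eq_top {T : Scheme.{u}} (a b : T ⟶ Y) (hab : a ≫ q = b ≫ q)
    (h : eqLocus q a b hab = ⊤) : a = b := by
  have := comp_eq_of_range_subset q a b hab (𝟙 T) (by rw [h]; exact Set.subset_univ _)
  simpa using this

/-- two `S`-morphisms to `Y` that agree after a surjective morphism are equal -/
theorem eq_of_surjective_comp {T T₀ : Scheme.{u}} (a b : T ⟶ Y) (hab : a ≫ q = b ≫ q)
    (t : T₀ ⟶ T) [Surjective t] (h : t ≫ a = t ≫ b) : a = b := by
  apply eq_of_eqLocus_eq_top q a b hab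
  rw [← TopologicalSpace.Opens.coe_eq_univ, ← Set.univ_subset_iff,
    ← Set.range_eq_univ.mpr t.surjective]
  exact range_subset_eqLocus q a b hab t h


section Main

variable {S X Y X' : Scheme.{u}} (p : X ⟶ S) (q : Y ⟶ S) [Etale q]
  (π : X' ⟶ X) [Surjective π]
  (hquot : Topology.IsQuotientMap (pullback.snd π (pullback.fst p q)))
  (h : X' ⟶ Y) (hq : h ≫ q = π ≫ p)
  (hcoc : pullback.fst π π ≫ h = pullback.snd π π ≫ h)

include hquot hq hcoc in
/-- **Descent of morphisms to étale schemes along submersive morphisms** (SGA 1 IX 3.2): if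
`π : X' ⟶ X` is surjective, its base change to `X ×_S Y` is a quotient map, and `h : X' ⟶ Y` is an
`S`-morphism whose two pullbacks to `X' ×_X X'` agree, then `h` descends to `X`. -/
theorem exists_desc_of_isQuotientMap : ∃ u : X ⟶ Y, u ≫ q = p ∧ π ≫ u = h := by
  have hdiag : IsOpenImmersion (pullback.diagonal q) := inferInstance
  -- notation
  let prX : pullback p q ⟶ X := pullback.fst p q
  let prY : pullback p q ⟶ Y := pullback.snd p q
  let pr' : pullback π prX ⟶ X' := pullback.fst π prX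
  let πW : pullback π prX ⟶ pullback p q := pullback.snd π prX
  have hsq : pr' ≫ π = πW ≫ prX := pullback.condition
  have hW : prX ≫ p = prY ≫ q := pullback.condition
  have hab : (pr' ≫ h) ≫ q = (πW ≫ prY) ≫ q := by
    rw [Category.assoc, hq, ← Category.assoc, hsq, Category.assoc, hW, Category.assoc]
  -- the graph upstairs
  let Γ' : (pullback π prX).Opens := eqLocus q (pr' ≫ h) (πW ≫ prY) hab
  -- saturation
  have hsat : πW ⁻¹' (πW '' (Γ' : Set ↑(pullback π prX))) = (Γ' : Set ↑(pullback π prX)) := by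
    apply Set.Subset.antisymm _ (Set.subset_preimage_image _ _)
    rintro z ⟨γ, hγ, hγz⟩
    obtain ⟨ζ, hζ1, hζ2⟩ := Scheme.Pullback.exists_preimage_pullback (f := πW) (g := πW) z γ hγz.symm
    let pr₁ : pullback πW πW ⟶ pullback π prX := pullback.fst πW πW
    let pr₂ : pullback πW πW ⟶ pullback π prX := pullback.snd πW πW
    have hc : pr₁ ≫ πW = pr₂ ≫ πW := pullback.condition
    have hk : (pr₁ ≫ pr') ≫ π = (pr₂ ≫ pr') ≫ π := by
      rw [Category.assoc, Category.assoc, hsq, ← Category.assoc, hc, Category.assoc]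
    have e1 : pr₁ ≫ pr' ≫ h = pr₂ ≫ pr' ≫ h := by
      have h1 : pullback.lift (pr₁ ≫ pr') (pr₂ ≫ pr') hk ≫ pullback.fst π π = pr₁ ≫ pr' :=
        pullback.lift_fst _ _ _
      have h2 : pullback.lift (pr₁ ≫ pr') (pr₂ ≫ pr') hk ≫ pullback.snd π π = pr₂ ≫ pr' :=
        pullback.lift_snd _ _ _
      rw [← Category.assoc, ← h1, Category.assoc, hcoc, ← Category.assoc, h2, Category.assoc]
    have e2 : pr₁ ≫ πW ≫ prY = pr₂ ≫ πW ≫ prY := by
      rw [← Category.assoc, hc, Category.assoc]
    have heq : pr₁ ⁻¹ᵁ Γ' = pr₂ ⁻¹ᵁ Γ' := by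
      rw [preimage_eqLocus, preimage_eqLocus]
      exact eqLocus_congr q _ e1 e2
    have : ζ ∈ pr₂ ⁻¹ᵁ Γ' := by
      show pr₂ ζ ∈ Γ'
      rw [hζ2]; exact hγ
    rw [← heq] at this
    have h3 : pr₁ ζ ∈ Γ' := this
    rw [hζ1] at h3
    exact h3
  -- the graph downstairs
  have hΓopen : IsOpen (πW '' (Γ' : Set ↑(pullback π prX))) := by
    rw [← hquot.isOpen_preimage]
    show IsOpen (πW ⁻¹' (πW '' (Γ' : Set ↑(pullback π prX))))
    rw [hsat]
    exact Γ'.2
  let Γ : (pullback p q).Opens := ⟨πW '' (Γ' : Set ↑(pullback π prX)), hΓopen⟩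
  let r : (Γ : Scheme.{u}) ⟶ X := Γ.ι ≫ prX
  -- the graph morphism
  let γh : X' ⟶ pullback π prX :=
    pullback.lift (𝟙 X') (pullback.lift π h hq.symm) (by rw [Category.id_comp, pullback.lift_fst])
  have hγ1 : γh ≫ pr' = 𝟙 X' := pullback.lift_fst _ _ _
  have hγ2 : γh ≫ πW = pullback.lift π h hq.symm := pullback.lift_snd _ _ _
  have hγrange : Set.range γh ⊆ (Γ' : Set ↑(pullback π prX)) := by
    apply range_subset_eqLocus
    rw [← Category.assoc, hγ1, Category.id_comp, ← Category.assoc, hγ2, pullback.lift_snd]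
  have hrange : Set.range (pullback.lift π h hq.symm) ⊆ Set.range Γ.ι := by
    rw [Scheme.Opens.range_ι, ← hγ2]
    rintro _ ⟨x, rfl⟩
    exact ⟨γh x, hγrange ⟨x, rfl⟩, rfl⟩
  let k : X' ⟶ (Γ : Scheme.{u}) := IsOpenImmersion.lift Γ.ι (pullback.lift π h hq.symm) hrange
  have hk : k ≫ Γ.ι = pullback.lift π h hq.symm := IsOpenImmersion.lift_fac _ _ _
  have hkr : k ≫ r = π := by
    show k ≫ Γ.ι ≫ prX = π
    rw [← Category.assoc, hk, pullback.lift_fst]
  -- `r` is a surjective étale monomorphism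
  have hsurj : Surjective r := by
    have : Surjective (k ≫ r) := by rw [hkr]; infer_instance
    exact Surjective.of_comp k r
  have hmono : Mono r := by
    constructor
    intro T a b habr
    have habr' : a ≫ Γ.ι ≫ prX = b ≫ Γ.ι ≫ prX := habr
    rw [← cancel_mono Γ.ι]
    apply pullback.hom_ext
    · rw [Category.assoc, Category.assoc]; exact habr'
    · rw [Category.assoc, Category.assoc]
      -- compare the `Y`-components after the surjective base change `T' ⟶ T`
      have habq : (a ≫ Γ.ι ≫ prY) ≫ q = (b ≫ Γ.ι ≫ prY) ≫ q := by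
        calc (a ≫ Γ.ι ≫ prY) ≫ q = (a ≫ Γ.ι ≫ prX) ≫ p := by
              simp only [Category.assoc, hW]
          _ = (b ≫ Γ.ι ≫ prX) ≫ p := by rw [habr']
          _ = (b ≫ Γ.ι ≫ prY) ≫ q := by simp only [Category.assoc, hW]
      let τ : pullback (a ≫ r) π ⟶ T := pullback.fst (a ≫ r) π
      let x' : pullback (a ≫ r) π ⟶ X' := pullback.snd (a ≫ r) π
      have hτ : τ ≫ a ≫ r = x' ≫ π := pullback.condition
      have key : ∀ c : T ⟶ (Γ : Scheme.{u}), τ ≫ c ≫ r = x' ≫ π →
          x' ≫ h = τ ≫ c ≫ Γ.ι ≫ prY := by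
        intro c hc
        let w : pullback (a ≫ r) π ⟶ pullback π prX :=
          pullback.lift x' (τ ≫ c ≫ Γ.ι) (by rw [← hc]; simp only [Category.assoc]; rfl)
        have hw1 : w ≫ pr' = x' := pullback.lift_fst _ _ _
        have hw2 : w ≫ πW = τ ≫ c ≫ Γ.ι := pullback.lift_snd _ _ _
        have hwrange : Set.range w ⊆ (Γ' : Set ↑(pullback π prX)) := by
          rintro _ ⟨t, rfl⟩
          rw [← hsat]
          show πW (w t) ∈ πW '' (Γ' : Set ↑(pullback π prX))
          rw [← Scheme.Hom.comp_apply, hw2]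
          have : (τ ≫ c ≫ Γ.ι) t = Γ.ι ((τ ≫ c) t) := by
            rw [← Scheme.Hom.comp_apply, Category.assoc]
          rw [this]
          exact ((τ ≫ c) t).2
        have h5 : w ≫ pr' ≫ h = w ≫ πW ≫ prY := comp_eq_of_range_subset q _ _ hab w hwrange
        calc x' ≫ h = (w ≫ pr') ≫ h := by rw [hw1]
          _ = w ≫ pr' ≫ h := Category.assoc _ _ _
          _ = w ≫ πW ≫ prY := h5
          _ = (w ≫ πW) ≫ prY := (Category.assoc _ _ _).symm
          _ = (τ ≫ c ≫ Γ.ι) ≫ prY := by rw [hw2]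
          _ = τ ≫ c ≫ Γ.ι ≫ prY := by simp only [Category.assoc]
      have h1 := key a hτ
      have h2 := key b ((congrArg (τ ≫ ·) habr.symm).trans hτ)
      exact eq_of_surjective_comp q _ _ habq τ (h1.symm.trans h2)
  have hopen : IsOpenImmersion r := IsOpenImmersion.of_flat_of_mono r
  have hiso : IsIso r := by
    rw [isIso_iff_isOpenImmersion_and_epi_base]
    refine ⟨hopen, ?_⟩
    rw [TopCat.epi_iff_surjective]
    exact r.surjective
  refine ⟨inv r ≫ Γ.ι ≫ prY, ?_, ?_⟩
  · rw [Category.assoc, Category.assoc, ← hW, ← Category.assoc Γ.ι, IsIso.inv_hom_id_assoc]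
  · have : π ≫ inv r = k := by rw [← hkr, Category.assoc, IsIso.hom_inv_id, Category.comp_id]
    rw [← Category.assoc, this, ← Category.assoc, hk, pullback.lift_snd]

end Main

end Groth.Agent.Lib.EtDescH52
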