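import Mathlib.Algebra.Homology.ShortComplex.Preadditive
import Mathlib.Algebra.Homology.ShortComplex.Exact
import Mathlib.Algebra.Homology.ShortComplex.Abelian
import Mathlib.Algebra.Homology.HomologicalComplexAbelian
import Mathlib.Algebra.Homology.Embedding.ExtendHomology
import Mathlib.Algebra.Homology.Refinements
import Mathlib.CategoryTheory.Abelian.Refinements
import Mathlib.Order.Interval.Set.Basic
import Mathlib.Data.Int.Interval
import Mathlib.Order.Interval.Finset.Defs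
import Groth.Prelude.Def_SpSeq

/-!
# A degenerate spectral sequence attached to a family of split towers (helper95)

A *split tower* is a sequence of objects `A 0, A 1, …` of an abelian category with split
monomorphisms `ι p : A p ⟶ A (p+1)` (retractions `ρ p`) and a split monomorphism `b : B ⟶ A 0`
(retraction `s`).  Such a tower carries a cochain complex structure `d p : A p ⟶ A (p+1)` which is a
resolution of `B`.  Given a family of split towers indexed by `q : ℕ`, we build a cohomological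
spectral sequence starting at page one with `E₁^{p,q} = A_q p`, degenerating at `E₂`, and
abutting to `B_q` (with filtrations concentrated in one step).
-/

set_option autoImplicit false

universe v u

open CategoryTheory CategoryTheory.Limits

namespace Groth.Agent.Lib.SplitTowerSS95

/-- a split tower -/
structure Tower (C : Type u) [Category.{v} C] [Abelian C] where
  A : ℕ → C
  ι : ∀ p, A p ⟶ A (p + 1)
  ρ : ∀ p, A (p + 1) ⟶ A p
  ι_ρ : ∀ p, ι p ≫ ρ p = 𝟙 _
  B : C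
  b : B ⟶ A 0
  s : A 0 ⟶ B
  b_s : b ≫ s = 𝟙 B

namespace Tower

variable {C : Type u} [Category.{v} C] [Abelian C] (T : Tower C)

/-- the recursive idempotents -/
noncomputable def e : ∀ p, T.A p ⟶ T.A p
  | 0 => 𝟙 _ - T.s ≫ T.b
  | p + 1 => 𝟙 _ - T.ρ p ≫ e p ≫ T.ι p

lemma e_zero : T.e 0 = 𝟙 _ - T.s ≫ T.b := rfl

lemma e_succ (p : ℕ) : T.e (p + 1) = 𝟙 _ - T.ρ p ≫ T.e p ≫ T.ι p := rfl

lemma e_idem : ∀ p, T.e p ≫ T.e p = T.e p
  | 0 => by
    have h : (T.s ≫ T.b) ≫ T.s ≫ T.b = T.s ≫ T.b := by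
      rw [Category.assoc, reassoc_of% T.b_s]
    rw [e_zero, Preadditive.sub_comp, Preadditive.comp_sub, Preadditive.comp_sub, Category.id_comp,
      Category.comp_id, Category.id_comp, h]
    abel
  | p + 1 => by
    have h : (T.ρ p ≫ T.e p ≫ T.ι p) ≫ T.ρ p ≫ T.e p ≫ T.ι p = T.ρ p ≫ T.e p ≫ T.ι p := by
      simp only [Category.assoc]
      rw [reassoc_of% T.ι_ρ p, reassoc_of% e_idem p]
    rw [e_succ, Preadditive.sub_comp, Preadditive.comp_sub, Preadditive.comp_sub, Category.id_comp,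
      Category.comp_id, Category.id_comp, h]
    abel

/-- the differential -/
noncomputable def d (p : ℕ) : T.A p ⟶ T.A (p + 1) := T.e p ≫ T.ι p

lemma ι_e_succ (p : ℕ) : T.ι p ≫ T.e (p + 1) = T.ι p - T.e p ≫ T.ι p := by
  rw [e_succ, Preadditive.comp_sub, Category.comp_id, reassoc_of% T.ι_ρ p]

lemma d_comp_d (p : ℕ) : T.d p ≫ T.d (p + 1) = 0 := by
  dsimp only [d]
  rw [Category.assoc, reassoc_of% T.ι_e_succ p, Preadditive.sub_comp, Preadditive.comp_sub,
    Category.assoc, reassoc_of% T.e_idem p, sub_self]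

lemma b_e_zero : T.b ≫ T.e 0 = 0 := by
  rw [e_zero, Preadditive.comp_sub, Category.comp_id, reassoc_of% T.b_s, sub_self]

lemma b_d : T.b ≫ T.d 0 = 0 := by
  dsimp only [d]
  rw [reassoc_of% T.b_e_zero, zero_comp]

lemma d_ρ (p : ℕ) : T.d p ≫ T.ρ p = T.e p := by
  dsimp only [d]
  rw [Category.assoc, T.ι_ρ, Category.comp_id]

lemma ρ_d (p : ℕ) : T.ρ p ≫ T.d p = 𝟙 _ - T.e (p + 1) := by
  dsimp only [d]
  rw [e_succ, sub_sub_cancel]

lemma homotopy_succ (p : ℕ) : T.ρ p ≫ T.d p + T.d (p + 1) ≫ T.ρ (p + 1) = 𝟙 _ := by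
  rw [ρ_d, d_ρ, sub_add_cancel]

lemma homotopy_zero : T.s ≫ T.b + T.d 0 ≫ T.ρ 0 = 𝟙 _ := by
  rw [d_ρ, e_zero, add_sub_cancel]

instance mono_ι (p : ℕ) : Mono (T.ι p) := mono_of_mono_fac (T.ι_ρ p)

instance mono_b : Mono T.b := mono_of_mono_fac T.b_s

/-- the short complex `A p ⟶ A (p+1) ⟶ A (p+2)` -/
noncomputable abbrev sc (p : ℕ) : ShortComplex C := ShortComplex.mk (T.d p) (T.d (p + 1)) (T.d_comp_d p)

lemma sc_exact (p : ℕ) : (T.sc p).Exact := by
  rw [ShortComplex.exact_iff_exact_up_to_refinements]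
  intro W x hx
  refine ⟨W, 𝟙 W, inferInstance, x ≫ T.ρ p, ?_⟩
  dsimp at hx ⊢
  rw [Category.id_comp, Category.assoc]
  have h := x ≫= T.homotopy_succ p
  rw [Preadditive.comp_add, Category.comp_id, reassoc_of% hx, zero_comp, add_zero] at h
  exact h.symm

lemma sc_exact' (p : ℕ) (f : T.A p ⟶ T.A (p + 1)) (g : T.A (p + 1) ⟶ T.A (p + 1 + 1))
    (hf : f = T.d p) (hg : g = T.d (p + 1)) (w : f ≫ g = 0) : (ShortComplex.mk f g w).Exact := by
  subst hf hg
  exact T.sc_exact p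

/-- `b` is a kernel of `d 0` -/
noncomputable def isLimitKernelFork : IsLimit (KernelFork.ofι T.b T.b_d) :=
  KernelFork.IsLimit.ofι _ _ (fun {W} x _ => x ≫ T.s)
    (fun {W} x hx => by
      have h := x ≫= T.homotopy_zero
      rw [Preadditive.comp_add, Category.comp_id, reassoc_of% hx, zero_comp, add_zero] at h
      rw [Category.assoc]
      exact h)
    (fun {W} x hx m hm => by
      rw [← hm, Category.assoc, T.b_s, Category.comp_id])

/-- variant with a propositionally equal differential -/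
noncomputable def isLimitKernelFork' (g : T.A 0 ⟶ T.A 1) (hg : g = T.d 0) :
    IsLimit (KernelFork.ofι T.b (show T.b ≫ g = 0 by rw [hg]; exact T.b_d)) := by
  subst hg
  exact T.isLimitKernelFork

end Tower

section Family

variable {C : Type u} [Category.{v} C] [Abelian C] (T : ℕ → Tower C)

/-- the complex shape on `ℕ × ℕ` with differentials `(p, q) ⟶ (p + 1, q)` -/
abbrev cNN : ComplexShape (ℕ × ℕ) := ComplexShape.up' ((1, 0) : ℕ × ℕ)

lemma cNN_rel (p q : ℕ) : cNN.Rel (p, q) (p + 1, q) := rfl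

lemma cNN_rel_iff (x y : ℕ × ℕ) : cNN.Rel x y ↔ x.1 + 1 = y.1 ∧ x.2 = y.2 := by
  obtain ⟨p, q⟩ := x
  obtain ⟨p', q'⟩ := y
  simp [cNN, Prod.ext_iff]

/-- the bigraded complex on `ℕ × ℕ` -/
noncomputable def KI : HomologicalComplex C cNN where
  X x := (T x.2).A x.1
  d x y := if h : x + ((1, 0) : ℕ × ℕ) = y then (T x.2).d x.1 ≫ eqToHom (by subst h; rfl) else 0
  shape x y h := dif_neg h
  d_comp_d' x y z hxy hyz := by
    have hxy' : x + ((1, 0) : ℕ × ℕ) = y := hxy
    have hyz' : y + ((1, 0) : ℕ × ℕ) = z := hyz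
    subst hxy' hyz'
    rw [dif_pos rfl, dif_pos rfl, eqToHom_refl, eqToHom_refl, Category.comp_id, Category.comp_id]
    exact (T x.2).d_comp_d x.1

lemma KI_d (p q : ℕ) : (KI T).d (p, q) (p + 1, q) = (T q).d p := by
  dsimp only [KI]
  rw [dif_pos (show (p, q) + ((1, 0) : ℕ × ℕ) = (p + 1, q) from rfl), eqToHom_refl,
    Category.comp_id]

lemma cNN_next (p q : ℕ) : cNN.next (p, q) = (p + 1, q) := cNN.next_eq' (cNN_rel p q)

lemma cNN_prev_succ (p q : ℕ) : cNN.prev (p + 1, q) = (p, q) := cNN.prev_eq' (cNN_rel p q)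

lemma cNN_prev_zero (q : ℕ) : cNN.prev (0, q) = (0, q) := by
  apply cNN.prev_eq_self'
  intro i hi
  rw [cNN_rel_iff] at hi
  exact Nat.succ_ne_zero _ hi.1

lemma KI_exactAt (p q : ℕ) : (KI T).ExactAt (p + 1, q) := by
  rw [(KI T).exactAt_iff' (p, q) (p + 1, q) (p + 1 + 1, q) (cNN_prev_succ p q) (cNN_next (p + 1) q)]
  exact (T q).sc_exact' p _ _ (KI_d T p q) (KI_d T (p + 1) q) _

/-- the homology at `(0, q)` is `B_q` -/
noncomputable def KIHomologyIso (q : ℕ) : (KI T).homology (0, q) ≅ (T q).B := by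
  let S := (KI T).sc' (0, q) (0, q) (1, q)
  have hf : S.f = 0 := show (KI T).d (0, q) (0, q) = 0 from (KI T).shape _ _ (by
    intro h
    rw [cNN_rel_iff] at h
    have := h.1
    simp at this)
  have hg : S.g = (T q).d 0 := KI_d T 0 q
  let hS : S.LeftHomologyData :=
    ShortComplex.LeftHomologyData.ofIsLimitKernelFork S hf _ ((T q).isLimitKernelFork' S.g hg)
  exact ShortComplex.homologyMapIso ((KI T).isoSc' (0, q) (0, q) (1, q) (cNN_prev_zero q) (cNN_next 0 q))
    ≪≫ hS.homologyIso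

/-- the embedding of `ℕ × ℕ` into `ℤ × ℤ` -/
def emb : cNN.Embedding (ComplexShape.up' ((⟨1, 1 - 1⟩ : ℤ × ℤ))) where
  f x := ((x.1 : ℤ), (x.2 : ℤ))
  injective_f := by
    intro x y h
    simp only [Prod.mk.injEq, Nat.cast_inj] at h
    exact Prod.ext h.1 h.2
  rel {x y} h := by
    rw [cNN_rel_iff] at h
    change ((x.1 : ℤ), (x.2 : ℤ)) + (1, 1 - 1) = ((y.1 : ℤ), (y.2 : ℤ))
    rw [← h.1, ← h.2]
    simp

lemma emb_f (p q : ℕ) : emb.f (p, q) = ((p : ℤ), (q : ℤ)) := rfl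

lemma emb_ne (p q : ℤ) (h : ¬ (0 ≤ p ∧ 0 ≤ q)) : ∀ x, emb.f x ≠ (p, q) := by
  rintro ⟨a, b⟩ hab
  rw [emb_f] at hab
  simp only [Prod.mk.injEq] at hab
  exact h ⟨by rw [← hab.1]; exact Int.natCast_nonneg a, by rw [← hab.2]; exact Int.natCast_nonneg b⟩

/-- the first page -/
noncomputable def P : HomologicalComplex C (ComplexShape.up' ((⟨1, 1 - 1⟩ : ℤ × ℤ))) :=
  (KI T).extend emb

/-- the terms of the first page -/
noncomputable def PXIso (p q : ℕ) : (P T).X ((p : ℤ), (q : ℤ)) ≅ (T q).A p :=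
  (KI T).extendXIso emb (emb_f p q)

lemma isZero_P_X (p q : ℤ) (h : ¬ (0 ≤ p ∧ 0 ≤ q)) : IsZero ((P T).X (p, q)) :=
  (KI T).isZero_extend_X emb _ (emb_ne p q h)

/-- the homology of the first page in the column `p = 0` -/
noncomputable def PHomologyIso (q : ℕ) : (P T).homology ((0 : ℤ), (q : ℤ)) ≅ (T q).B :=
  (KI T).extendHomologyIso emb (emb_f 0 q) ≪≫ KIHomologyIso T q

lemma isZero_P_homology (p q : ℤ) (hp : p ≠ 0) : IsZero ((P T).homology (p, q)) := by
  rw [← HomologicalComplex.exactAt_iff_isZero_homology]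
  by_cases h : 0 ≤ p ∧ 0 ≤ q
  · obtain ⟨a, rfl⟩ := Int.eq_ofNat_of_zero_le h.1
    obtain ⟨b, rfl⟩ := Int.eq_ofNat_of_zero_le h.2
    obtain ⟨a, rfl⟩ : ∃ a', a = a' + 1 := ⟨a - 1, by
      have : a ≠ 0 := fun h0 => hp (by rw [h0]; rfl)
      omega⟩
    exact ((KI T).extend_exactAt_iff emb (emb_f (a + 1) b)).2 (KI_exactAt T a b)
  · exact (KI T).extend_exactAt emb _ (emb_ne p q h)

lemma isZero_P_homology_of_neg (q : ℤ) (hq : q < 0) : IsZero ((P T).homology ((0 : ℤ), q)) := by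
  rw [← HomologicalComplex.exactAt_iff_isZero_homology]
  exact (KI T).extend_exactAt emb _ (emb_ne 0 q (by omega))

end Family

section Degenerate

variable {C : Type u} [Category.{v} C] [Abelian C]

/-- the complex with prescribed objects and zero differentials -/
def zeroD {ι : Type*} (c : ComplexShape ι) (X : ι → C) : HomologicalComplex C c where
  X := X
  d _ _ := 0
  shape _ _ _ := rfl
  d_comp_d' _ _ _ _ _ := zero_comp

lemma nonempty_zeroD_homology_iso {ι : Type*} (c : ComplexShape ι) (X : ι → C) (i : ι) :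
    Nonempty ((zeroD c X).homology i ≅ X i) :=
  ⟨(ShortComplex.HomologyData.ofZeros ((zeroD c X).sc i) rfl rfl).left.homologyIso⟩

variable (P : HomologicalComplex C (ComplexShape.up' ((⟨1, 1 - 1⟩ : ℤ × ℤ))))

/-- the pages of the degenerate spectral sequence with first page `P` -/
noncomputable def pageAux (r : ℤ) : HomologicalComplex C (ComplexShape.up' ((⟨r, 1 - r⟩ : ℤ × ℤ))) :=
  if h : r = 1 then (by subst h; exact P) else zeroD _ (fun pq => P.homology pq)

lemma pageAux_one : pageAux P 1 = P := by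
  unfold pageAux
  rw [dif_pos rfl]

lemma pageAux_of_ne (r : ℤ) (hr : r ≠ 1) : pageAux P r = zeroD _ (fun pq => P.homology pq) := by
  unfold pageAux
  rw [dif_neg hr]

lemma pageAux_d (r : ℤ) (hr : r ≠ 1) (a b : ℤ × ℤ) : (pageAux P r).d a b = 0 := by
  rw [pageAux_of_ne P r hr]
  rfl

lemma nonempty_pageAux_X_iso (r : ℤ) (hr : r ≠ 1) (pq : ℤ × ℤ) :
    Nonempty ((pageAux P r).X pq ≅ P.homology pq) := by
  rw [pageAux_of_ne P r hr]
  exact ⟨Iso.refl _⟩

lemma nonempty_pageAux_iso (r r' : ℤ) (pq : ℤ × ℤ) (hrr' : r + 1 = r') (hr : 1 ≤ r) :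
    Nonempty ((pageAux P r).homology pq ≅ (pageAux P r').X pq) := by
  subst hrr'
  obtain ⟨e₂⟩ := nonempty_pageAux_X_iso P (r + 1) (by omega) pq
  by_cases h : r = 1
  · subst h
    rw [pageAux_one]
    exact ⟨e₂.symm⟩
  · rw [pageAux_of_ne P r h]
    obtain ⟨e₁⟩ := nonempty_zeroD_homology_iso (ComplexShape.up' ((⟨r, 1 - r⟩ : ℤ × ℤ)))
      (fun pq => P.homology pq) pq
    exact ⟨e₁ ≪≫ e₂.symm⟩

/-- the degenerate spectral sequence with first page `P` -/
noncomputable def degenerateSS : CohomologicalSpectralSequence C 1 where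
  page r _ := pageAux P r
  iso r r' pq hrr' hr := Classical.choice (nonempty_pageAux_iso P r r' pq hrr' hr)

lemma degenerateSS_page (r : ℤ) (hr : 1 ≤ r) : (degenerateSS P).page r hr = pageAux P r := rfl

lemma stationaryAt (pq : ℤ × ℤ) : SpSeq.StationaryAt (degenerateSS P) pq 2 := by
  refine ⟨by norm_num, fun r' h₀ h2 => ⟨?_, ?_⟩⟩
  · exact pageAux_d P r' (by omega) _ _
  · exact pageAux_d P r' (by omega) _ _

lemma isZero_subquot_of_eq {X : C} (Z B : Subobject X) (h : B ≤ Z) (he : B = Z) :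
    IsZero (SpSeq.subquot Z B h) := by
  subst he
  unfold SpSeq.subquot
  have : IsIso (B.ofLE B h) := by rw [Subobject.ofLE_refl]; infer_instance
  exact isZero_cokernel_of_epi _

lemma nonempty_subquot_top_bot_iso {X : C} (h : (⊥ : Subobject X) ≤ ⊤) :
    Nonempty (SpSeq.subquot (⊤ : Subobject X) ⊥ h ≅ X) := by
  unfold SpSeq.subquot
  have h0 : (⊥ : Subobject X).ofLE ⊤ h = 0 :=
    (IsZero.of_iso (isZero_zero C) Subobject.botCoeIsoZero).eq_of_src _ _
  exact ⟨cokernelIsoOfEq h0 ≪≫ cokernelZeroIsoTarget ≪≫ asIso (⊤ : Subobject X).arrow⟩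

variable (H : ℤ → C)

/-- the one-step filtration -/
noncomputable def fil (n : ℤ) (p : ℤ) : Subobject (H n) := if p ≤ 0 then ⊤ else ⊥

lemma fil_anti (n : ℤ) : Antitone (fil H n) := by
  intro p p' h
  unfold fil
  by_cases h' : p' ≤ 0
  · rw [if_pos h', if_pos (h.trans h')]
  · rw [if_neg h']
    exact bot_le

lemma nonempty_grPiece_zero_iso (n : ℤ) :
    Nonempty (SpSeq.grPiece (fil H n) (fil_anti H n) 0 ≅ H n) := by
  unfold SpSeq.grPiece
  have h1 : fil H n 0 = ⊤ := if_pos le_rfl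
  have h2 : fil H n (0 + 1) = ⊥ := if_neg (by norm_num)
  have key : ∀ (Z B : Subobject (H n)) (h : B ≤ Z), Z = ⊤ → B = ⊥ →
      Nonempty (SpSeq.subquot Z B h ≅ H n) := by
    intro Z B h hZ hB
    subst hZ hB
    exact nonempty_subquot_top_bot_iso h
  exact key _ _ _ h1 h2

lemma isZero_grPiece (n p : ℤ) (hp : p ≠ 0) :
    IsZero (SpSeq.grPiece (fil H n) (fil_anti H n) p) := by
  unfold SpSeq.grPiece
  apply isZero_subquot_of_eq
  unfold fil
  by_cases h : p + 1 ≤ 0
  · rw [if_pos h, if_pos (by omega)]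
  · rw [if_neg h, if_neg (by omega)]

variable {P H}

/-- the abutment of the degenerate spectral sequence whose second page is concentrated in the
column `p = 0` -/
noncomputable def abutment (hH : ∀ n, Nonempty (P.homology ((0 : ℤ), n) ≅ H n))
    (hz : ∀ p q, p ≠ 0 → IsZero (P.homology (p, q))) : SpSeq.Abutment (degenerateSS P) H where
  fil := fil H
  anti := fil_anti H
  rk _ := 2
  stat pq := stationaryAt P pq
  β pq := Classical.choice (by
    obtain ⟨p, q⟩ := pq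
    obtain ⟨e₁⟩ := nonempty_pageAux_X_iso P 2 (by norm_num) (p, q)
    change Nonempty ((pageAux P 2).X (p, q) ≅ SpSeq.grPiece (fil H (p + q)) (fil_anti H (p + q)) p)
    by_cases hp : p = 0
    · subst hp
      obtain ⟨e₂⟩ := hH q
      have key : ∀ m : ℤ, m = q → Nonempty (H q ≅ SpSeq.grPiece (fil H m) (fil_anti H m) 0) := by
        intro m hm
        subst hm
        obtain ⟨e₃⟩ := nonempty_grPiece_zero_iso H m
        exact ⟨e₃.symm⟩
      obtain ⟨e₃⟩ := key (0 + q) (zero_add q)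
      exact ⟨e₁ ≪≫ e₂ ≪≫ e₃⟩
    · exact ⟨e₁ ≪≫ (hz p q hp).iso (isZero_grPiece H (p + q) p hp)⟩)

lemma abutment_isFinite (hH : ∀ n, Nonempty (P.homology ((0 : ℤ), n) ≅ H n))
    (hz : ∀ p q, p ≠ 0 → IsZero (P.homology (p, q))) (n : ℤ) : (abutment hH hz).IsFinite n :=
  ⟨⟨0, show fil H n 0 = ⊤ from if_pos le_rfl⟩,
    ⟨1, show fil H n 1 = ⊥ from if_neg (by norm_num)⟩⟩

lemma isBounded (hP0 : ∀ p q, ¬ (0 ≤ p ∧ 0 ≤ q) → IsZero (P.X (p, q))) :
    SpSeq.IsBounded (degenerateSS P) := by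
  intro n
  refine (Set.finite_Icc (0 : ℤ) n).subset ?_
  intro p hp
  simp only [Set.mem_setOf_eq] at hp
  rw [degenerateSS_page, pageAux_one] at hp
  by_contra hcon
  refine hp (hP0 p (n - p) ?_)
  intro h
  exact hcon ⟨h.1, by omega⟩

/-- the degenerate spectral sequence attached to a first page whose homology is concentrated in
the column `p = 0` -/
theorem exists_spectralSequence_of_page (hH : ∀ n, Nonempty (P.homology ((0 : ℤ), n) ≅ H n))
    (hz : ∀ p q, p ≠ 0 → IsZero (P.homology (p, q)))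
    (hP0 : ∀ p q, ¬ (0 ≤ p ∧ 0 ≤ q) → IsZero (P.X (p, q))) :
    ∃ (E : CohomologicalSpectralSequence C 1) (a : SpSeq.Abutment E H),
      (∀ n, a.IsFinite n) ∧ SpSeq.IsBounded E ∧
      ∀ p q : ℤ, Nonempty ((E.page 1 le_rfl).X (p, q) ≅ P.X (p, q)) := by
  refine ⟨degenerateSS P, abutment hH hz, abutment_isFinite hH hz, isBounded hP0, fun p q => ?_⟩
  rw [degenerateSS_page, pageAux_one]
  exact ⟨Iso.refl _⟩

end Degenerate

section Main

variable {C : Type u} [Category.{v} C] [Abelian C]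

/-- **the spectral sequence of a family of split towers** -/
theorem exists_spectralSequence_of_towers (T : ℕ → Tower C) (H : ℤ → C) (X : ℤ → ℤ → C)
    (hH : ∀ q : ℕ, Nonempty (H q ≅ (T q).B)) (hH0 : ∀ n : ℤ, n < 0 → IsZero (H n))
    (hX : ∀ p q : ℕ, Nonempty (X p q ≅ (T q).A p))
    (hX0 : ∀ p q : ℤ, ¬ (0 ≤ p ∧ 0 ≤ q) → IsZero (X p q)) :
    ∃ (E : CohomologicalSpectralSequence C 1) (a : SpSeq.Abutment E H),
      (∀ n, a.IsFinite n) ∧ SpSeq.IsBounded E ∧
      ∀ p q : ℤ, Nonempty ((E.page 1 le_rfl).X (p, q) ≅ X p q) := by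
  obtain ⟨E, a, h1, h2, h3⟩ := exists_spectralSequence_of_page (P := P T) (H := H)
    (fun n => by
      by_cases hn : 0 ≤ n
      · obtain ⟨q, rfl⟩ := Int.eq_ofNat_of_zero_le hn
        obtain ⟨e⟩ := hH q
        exact ⟨PHomologyIso T q ≪≫ e.symm⟩
      · exact ⟨(isZero_P_homology_of_neg T n (by omega)).iso (hH0 n (by omega))⟩)
    (isZero_P_homology T) (isZero_P_X T)
  refine ⟨E, a, h1, h2, fun p q => ?_⟩
  obtain ⟨e⟩ := h3 p q
  by_cases h : 0 ≤ p ∧ 0 ≤ q
  · obtain ⟨a, rfl⟩ := Int.eq_ofNat_of_zero_le h.1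
    obtain ⟨b, rfl⟩ := Int.eq_ofNat_of_zero_le h.2
    obtain ⟨e'⟩ := hX a b
    exact ⟨e ≪≫ PXIso T a b ≪≫ e'.symm⟩
  · exact ⟨e ≪≫ (isZero_P_X T p q h).iso (hX0 p q h)⟩

end Main

end Groth.Agent.Lib.SplitTowerSS95
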