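import Groth.Agent.Lib.EtHpullId95
import Groth.Agent.Lib.SplitTowerSS95

/-!
# The descent spectral sequence of a morphism of schemes with a section (helper95)

For `f : X ⟶ Y` with a section `s`, the Čech nerve `X_p = X ×_Y ⋯ ×_Y X` has, for every `p`,
a projection `X_{p+1} ⟶ X_p` with a section.  Hence the groups `H^q(X_p, F|X_p)` form a split
tower over `H^q(Y, F)`, and `Lib/SplitTowerSS95` provides a spectral sequence with these `E₁`-terms
abutting to `H^*(Y, F)`.
-/

set_option autoImplicit false

universe u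

open CategoryTheory CategoryTheory.Limits AlgebraicGeometry Opposite

namespace Groth.Agent.Lib.EtDescSection95

open EtCore EtCoh Groth.Agent.Lib.EtPullExact95 Groth.Agent.Lib.EtHpullId95
  Groth.Agent.Lib.SplitTowerSS95

variable {X Y : Scheme.{u}} (f : X ⟶ Y) (s : Y ⟶ X) (hs : s ≫ f = 𝟙 Y)

/-- the `(p+1)`-fold fibre product -/
noncomputable abbrev Xp (p : ℕ) : Scheme.{u} :=
  widePullback Y (fun _ : Fin (p + 1) => X) (fun _ => f)

/-- the structure morphism -/
noncomputable abbrev bp (p : ℕ) : Xp f p ⟶ Y := WidePullback.base (fun _ : Fin (p + 1) => f)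

/-- the projection forgetting the first factor -/
noncomputable def pr (p : ℕ) : Xp f (p + 1) ⟶ Xp f p :=
  WidePullback.lift (bp f (p + 1)) (fun i => WidePullback.π (fun _ : Fin (p + 1 + 1) => f) i.succ)
    (fun i => WidePullback.π_arrow _ _)

lemma pr_bp (p : ℕ) : pr f p ≫ bp f p = bp f (p + 1) := WidePullback.lift_base _ _ _ _

include hs in
/-- the section of the projection -/
noncomputable def σ (p : ℕ) : Xp f p ⟶ Xp f (p + 1) :=
  WidePullback.lift (bp f p)
    (fun i => Fin.cases (motive := fun _ => Xp f p ⟶ X) (bp f p ≫ s)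
      (fun j => WidePullback.π (fun _ : Fin (p + 1) => f) j) i)
    (fun i => by
      refine Fin.cases ?_ (fun j => ?_) i
      · rw [Fin.cases_zero, Category.assoc, hs, Category.comp_id]
      · rw [Fin.cases_succ]
        exact WidePullback.π_arrow _ _)

lemma σ_pr (p : ℕ) : σ f s hs p ≫ pr f p = 𝟙 _ := by
  apply WidePullback.hom_ext
  · intro i
    dsimp only [σ, pr]
    rw [Category.assoc, WidePullback.lift_π, WidePullback.lift_π, Fin.cases_succ, Category.id_comp]
  · dsimp only [σ, pr]
    rw [Category.assoc, WidePullback.lift_base, WidePullback.lift_base, Category.id_comp]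

include hs in
/-- the section of the structure morphism of `X_0` -/
noncomputable def s0 : Y ⟶ Xp f 0 :=
  WidePullback.lift (𝟙 Y) (fun _ => s) (fun _ => hs)

lemma s0_bp : s0 f s hs ≫ bp f 0 = 𝟙 Y := WidePullback.lift_base _ _ _ _

variable (F : EtCoh.Ab Y)

/-- the split tower of the groups `H^q(X_p, F|X_p)` -/
noncomputable def tower (q : ℕ) : Tower AddCommGrpCat.{u + 1} where
  A p := AddCommGrpCat.of (EtCoh.H (Xp f p) ((EtCoh.pull (bp f p)).obj F) q)
  ι p := AddCommGrpCat.ofHom (HpullVia (pr f p) (bp f p) (bp f (p + 1)) (pr_bp f p) F q)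
  ρ p := AddCommGrpCat.ofHom
    (exists_retraction_HpullVia (pr f p) (bp f p) (bp f (p + 1)) (pr_bp f p) (σ f s hs p)
      (σ_pr f s hs p) F q).choose
  ι_ρ p := by
    ext y
    exact (exists_retraction_HpullVia (pr f p) (bp f p) (bp f (p + 1)) (pr_bp f p) (σ f s hs p)
      (σ_pr f s hs p) F q).choose_spec y
  B := AddCommGrpCat.of (EtCoh.H Y F q)
  b := AddCommGrpCat.ofHom (Hpull (bp f 0) F q)
  s := AddCommGrpCat.ofHom (exists_retraction_Hpull (s0 f s hs) (bp f 0) (s0_bp f s hs) F q).choose
  b_s := by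
    ext y
    exact (exists_retraction_Hpull (s0 f s hs) (bp f 0) (s0_bp f s hs) F q).choose_spec y

include hs in
/-- **the descent spectral sequence of a morphism with a section** (existence form) -/
theorem exists_descent_spectralSequence :
    ∃ (E : CohomologicalSpectralSequence AddCommGrpCat.{u + 1} 1)
      (a : SpSeq.Abutment E (fun n : ℤ =>
        if 0 ≤ n then AddCommGrpCat.of (EtCoh.H Y F n.toNat) else AddCommGrpCat.of PUnit.{u + 2})),
      (∀ n, a.IsFinite n) ∧ SpSeq.IsBounded E ∧
      ∀ p q : ℤ, Nonempty ((E.page 1 le_rfl).X (p, q) ≅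
        (if 0 ≤ p ∧ 0 ≤ q then
          AddCommGrpCat.of (EtCoh.H (widePullback Y (fun _ : Fin (p.toNat + 1) => X) (fun _ => f))
            ((EtCoh.pull (WidePullback.base (fun _ : Fin (p.toNat + 1) => f) :
              widePullback Y (fun _ : Fin (p.toNat + 1) => X) (fun _ => f) ⟶ Y)).obj F) q.toNat)
         else AddCommGrpCat.of PUnit.{u + 2})) := by
  refine exists_spectralSequence_of_towers (tower f s hs F) _
    (fun p q : ℤ => (if 0 ≤ p ∧ 0 ≤ q then
          AddCommGrpCat.of (EtCoh.H (widePullback Y (fun _ : Fin (p.toNat + 1) => X) (fun _ => f))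
            ((EtCoh.pull (WidePullback.base (fun _ : Fin (p.toNat + 1) => f) :
              widePullback Y (fun _ : Fin (p.toNat + 1) => X) (fun _ => f) ⟶ Y)).obj F) q.toNat)
         else AddCommGrpCat.of PUnit.{u + 2})) ?_ ?_ ?_ ?_
  · intro q
    skip
    rw [if_pos (Int.natCast_nonneg q)]
    have key : ∀ m : ℕ, m = q →
        Nonempty (AddCommGrpCat.of (EtCoh.H Y F m) ≅ (tower f s hs F q).B) := by
      rintro _ rfl
      exact ⟨Iso.refl _⟩
    exact key _ (Int.toNat_natCast q)
  · intro n hn
    skip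
    rw [if_neg (by omega)]
    exact AddCommGrpCat.isZero_of_subsingleton _
  · intro p q
    skip
    rw [if_pos ⟨Int.natCast_nonneg p, Int.natCast_nonneg q⟩]
    have key : ∀ m k : ℕ, m = p → k = q →
        Nonempty (AddCommGrpCat.of (EtCoh.H
            (widePullback Y (fun _ : Fin (m + 1) => X) (fun _ => f))
            ((EtCoh.pull (WidePullback.base (fun _ : Fin (m + 1) => f) :
              widePullback Y (fun _ : Fin (m + 1) => X) (fun _ => f) ⟶ Y)).obj F) k) ≅
          (tower f s hs F q).A p) := by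
      rintro _ _ rfl rfl
      exact ⟨Iso.refl _⟩
    exact key _ _ (Int.toNat_natCast p) (Int.toNat_natCast q)
  · intro p q h
    skip
    rw [if_neg h]
    exact AddCommGrpCat.isZero_of_subsingleton _

end Groth.Agent.Lib.EtDescSection95
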