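import Mathlib

/-!
# A uniform bound on the number of field-valued points in the fibres of a quasi-finite algebra (helper46)

`exists_bound_of_quasiFinite`: for a quasi-finite algebra of finite type `A → B` there is `N` such that among any
`N + 1` ring homomorphisms `B → K` to a field which agree on `A` two coincide.  (Zariski's main theorem in the
form `Algebra.QuasiFiniteAt.exists_fg_and_exists_notMem_and_awayMap_bijective` + independence of characters.)
-/

set_option autoImplicit false
universe u

namespace Groth.Agent.Lib.EtDistBound46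

open scoped Classical in
/-- A ring hom out of `B` which does not kill `r` is determined by its restriction to a subalgebra `S'` with
`S'_r → B_r` surjective. -/
theorem eq_of_restrict_eq {A B K : Type*} [CommRing A] [CommRing B] [Algebra A B] [Field K]
    (S' : Subalgebra A B) (r : S')
    (hsurj : Function.Surjective (Localization.awayMap S'.val.toRingHom r))
    (φ ψ : B →+* K) (hφ : φ r.1 ≠ 0)
    (h : φ.comp S'.val.toRingHom = ψ.comp S'.val.toRingHom) : φ = ψ := by
  have hψ : ψ r.1 ≠ 0 := by
    have : φ r.1 = ψ r.1 := congrArg (fun g => g r) h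
    rwa [← this]
  let φ' : Localization.Away (S'.val.toRingHom r) →+* K :=
    IsLocalization.Away.lift (S'.val.toRingHom r) (g := φ) (IsUnit.mk0 _ hφ)
  let ψ' : Localization.Away (S'.val.toRingHom r) →+* K :=
    IsLocalization.Away.lift (S'.val.toRingHom r) (g := ψ) (IsUnit.mk0 _ hψ)
  have h1 : φ'.comp (Localization.awayMap S'.val.toRingHom r) =
      ψ'.comp (Localization.awayMap S'.val.toRingHom r) := by
    apply IsLocalization.ringHom_ext (Submonoid.powers r)
    ext s
    simp only [RingHom.comp_apply, φ', ψ', Localization.awayMap, IsLocalization.Away.map,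
      IsLocalization.map_eq, IsLocalization.Away.lift_eq]
    exact congrArg (fun g => g s) h
  have h2 : φ' = ψ' := by
    ext y
    obtain ⟨x, rfl⟩ := hsurj y
    exact congrArg (fun g => g x) h1
  ext b
  have e1 : φ b = φ' (algebraMap B _ b) := (IsLocalization.Away.lift_eq _ _ b).symm
  have e2 : ψ b = ψ' (algebraMap B _ b) := (IsLocalization.Away.lift_eq _ _ b).symm
  rw [e1, e2, h2]

/-- Pairwise distinct ring homs `S' → K` agreeing on `A`, with `S'` spanned by `n` elements over `A`: at most `n` of
them. -/
theorem card_le_of_span {A B K : Type*} [CommRing A] [CommRing B] [Algebra A B] [Field K]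
    (S' : Subalgebra A B) (G : Finset B) (hG : Subalgebra.toSubmodule S' = Submodule.span A (G : Set B))
    {ι : Type*} [Fintype ι] (ψ : ι → (S' →+* K)) (hinj : Function.Injective ψ)
    (t : A →+* K) (ht : ∀ i, (ψ i).comp (algebraMap A S') = t) : Fintype.card ι ≤ G.card := by
  classical
  have hGmem : ∀ g ∈ G, g ∈ S' := fun g hg => by
    have : g ∈ Subalgebra.toSubmodule S' := by rw [hG]; exact Submodule.subset_span hg
    exact this
  have hli : LinearIndependent K (fun i : ι => (⇑(ψ i) : S' → K)) := by
    have h0 := linearIndependent_monoidHom S' K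
    have hinj' : Function.Injective (fun i : ι => ((ψ i : S' →+* K) : S' →* K)) := by
      intro i j hij
      apply hinj
      ext s
      exact congrArg (fun g : S' →* K => g s) hij
    exact h0.comp _ hinj'
  -- the submodule of additive `t`-semilinear functions
  let L : Submodule K (S' → K) :=
    { carrier := {x | (∀ s s', x (s + s') = x s + x s') ∧ (∀ (a : A) s, x (a • s) = t a * x s) ∧ x 0 = 0}
      add_mem' := by
        rintro x y ⟨hx1, hx2, hx3⟩ ⟨hy1, hy2, hy3⟩
        refine ⟨fun s s' => ?_, fun a s => ?_, ?_⟩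
        · simp only [Pi.add_apply, hx1, hy1]; ring
        · simp only [Pi.add_apply, hx2, hy2]; ring
        · simp only [Pi.add_apply, hx3, hy3]; ring
      zero_mem' := ⟨fun _ _ => by simp, fun _ _ => by simp, rfl⟩
      smul_mem' := by
        rintro c x ⟨hx1, hx2, hx3⟩
        refine ⟨fun s s' => ?_, fun a s => ?_, ?_⟩
        · simp only [Pi.smul_apply, hx1, smul_eq_mul]; ring
        · simp only [Pi.smul_apply, hx2, smul_eq_mul]; ring
        · simp only [Pi.smul_apply, hx3, smul_eq_mul]; ring }
  have hψL : ∀ i, (⇑(ψ i) : S' → K) ∈ L := fun i => by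
    refine ⟨fun s s' => map_add _ _ _, fun a s => ?_, map_zero _⟩
    rw [Algebra.smul_def, map_mul]
    congr 1
    exact congrArg (fun g : A →+* K => g a) (ht i)
  have hspan : Submodule.span K (Set.range fun i : ι => (⇑(ψ i) : S' → K)) ≤ L :=
    Submodule.span_le.2 (by rintro _ ⟨i, rfl⟩; exact hψL i)
  -- evaluation at the generators
  let ev : (S' → K) →ₗ[K] (G → K) := LinearMap.funLeft K K (fun g : G => (⟨g.1, hGmem g.1 g.2⟩ : S'))
  have hdisj : Disjoint (Submodule.span K (Set.range fun i : ι => (⇑(ψ i) : S' → K))) (LinearMap.ker ev) := by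
    rw [Submodule.disjoint_def]
    intro x hx hker
    obtain ⟨hx1, hx2, hx3⟩ := hspan hx
    have hvan : ∀ g (hg : g ∈ G), x ⟨g, hGmem g hg⟩ = 0 := fun g hg =>
      congrFun (LinearMap.mem_ker.1 hker) ⟨g, hg⟩
    funext s
    have hs : s.1 ∈ Submodule.span A (G : Set B) := by rw [← hG]; exact s.2
    have mem' : ∀ b, b ∈ Submodule.span A (G : Set B) → b ∈ S' := fun b hb => by
      have : b ∈ Subalgebra.toSubmodule S' := by rw [hG]; exact hb
      exact this
    have key : ∀ (b : B) (hb : b ∈ Submodule.span A (G : Set B)), x ⟨b, mem' b hb⟩ = 0 := by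
      intro b hb
      induction hb using Submodule.span_induction with
      | mem g hg => exact hvan g hg
      | zero => exact hx3
      | add b b' hb hb' h h' =>
        have := hx1 ⟨b, mem' b hb⟩ ⟨b', mem' b' hb'⟩
        rw [h, h', add_zero] at this
        exact this
      | smul a b hb h =>
        have := hx2 a ⟨b, mem' b hb⟩
        rw [h, mul_zero] at this
        exact this
    exact key s.1 hs
  have hli' : LinearIndependent K (fun i : ι => ev (⇑(ψ i) : S' → K)) := hli.map hdisj
  have := hli'.fintype_card_le_finrank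
  rwa [Module.finrank_fintype_fun_eq_card, Fintype.card_coe] at this

/-- **Uniform bound on field-valued points in the fibres of a quasi-finite algebra of finite type.** -/
theorem exists_bound_of_quasiFinite (A B : Type u) [CommRing A] [CommRing B] [Algebra A B]
    [Algebra.FiniteType A B] [Algebra.QuasiFinite A B] :
    ∃ N : ℕ, ∀ (K : Type u) [Field K] (φ : Fin (N + 1) → (B →+* K)),
      (∀ i j, (φ i).comp (algebraMap A B) = (φ j).comp (algebraMap A B)) →
      ∃ i j, i ≠ j ∧ φ i = φ j := by
  classical
  have hdata : ∀ P : PrimeSpectrum B, ∃ (S' : Subalgebra A B) (G : Finset B) (r : S'),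
      Subalgebra.toSubmodule S' = Submodule.span A (G : Set B) ∧ r.1 ∉ P.asIdeal ∧
      Function.Surjective (Localization.awayMap S'.val.toRingHom r) := by
    intro P
    haveI : P.asIdeal.IsPrime := P.2
    obtain ⟨S', ⟨G, hG⟩, r, hr, hbij⟩ :=
      Algebra.QuasiFiniteAt.exists_fg_and_exists_notMem_and_awayMap_bijective (R := A) P.asIdeal
    exact ⟨S', G, r, hG.symm, hr, hbij.2⟩
  choose S' G r hG hr hsurj using hdata
  have hcover : (Set.univ : Set (PrimeSpectrum B)) ⊆ ⋃ P, (PrimeSpectrum.basicOpen (r P).1 : Set _) := by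
    intro P _
    exact Set.mem_iUnion.2 ⟨P, hr P⟩
  obtain ⟨s, hs⟩ := isCompact_univ.elim_finite_subcover
    (fun P => (PrimeSpectrum.basicOpen (r P).1 : Set (PrimeSpectrum B)))
    (fun P => (PrimeSpectrum.basicOpen (r P).1).isOpen) hcover
  refine ⟨∑ P ∈ s, (G P).card, fun K _ φ hφ => ?_⟩
  -- choose a chart for each map
  have hch : ∀ i, ∃ P ∈ s, φ i (r P).1 ≠ 0 := by
    intro i
    let Q : PrimeSpectrum B := ⟨RingHom.ker (φ i), RingHom.ker_isPrime _⟩
    obtain ⟨P, hP⟩ := Set.mem_iUnion.1 (hs (Set.mem_univ Q))
    obtain ⟨hPs, hQ⟩ := Set.mem_iUnion.1 hP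
    exact ⟨P, hPs, fun h0 => hQ ((RingHom.mem_ker).2 h0)⟩
  choose c hcs hc using hch
  have hcard : ∑ P ∈ s, (G P).card < ∑ P ∈ s, (Finset.univ.filter fun i => c i = P).card := by
    rw [← Finset.card_eq_sum_card_fiberwise (f := c) (s := Finset.univ) (t := s) (fun i _ => hcs i)]
    simp
  obtain ⟨P, hPs, hlt⟩ := Finset.exists_lt_of_sum_lt hcard
  by_contra hne
  push_neg at hne
  let F := {i // c i = P}
  have hF : Fintype.card F = (Finset.univ.filter fun i => c i = P).card := Fintype.card_subtype _
  let ψ : F → (S' P →+* K) := fun i => (φ i.1).comp (S' P).val.toRingHom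
  have hinj : Function.Injective ψ := by
    intro i j hij
    by_contra hne'
    have h1 : i.1 ≠ j.1 := fun h => hne' (Subtype.ext h)
    refine hne i.1 j.1 h1 (eq_of_restrict_eq (S' P) (r P) (hsurj P) (φ i.1) (φ j.1) ?_ hij)
    have := hc i.1
    rwa [i.2] at this
  have := card_le_of_span (S' P) (G P) (hG P) ψ hinj ((φ 0).comp (algebraMap A B)) (fun i => by
    rw [← hφ i.1 0]
    ext a
    rfl)
  omega

end Groth.Agent.Lib.EtDistBound46
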