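import Groth.Agent.Lib.EtDistBound46

/-!
# Bounded fibres of morphisms of schemes via field-valued points (helper46)

* `DistBound q N`: among any `N + 1` points of `T'` with values in a field `K` lying over the same `K`-point of `T`
  two coincide.
* `isEmpty_of_distBound_zero`.
* `exists_distBound_of_isAffine`: a locally quasi-finite morphism locally of finite type between affine schemes has
  `DistBound` for some `N`.
* `offDiag q`: the open complement of the diagonal in `T' ×_T T'` (for `q` unramified and separated),
  `offDiagFst`, and `distBound_offDiagFst`: the bound drops by one.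
-/

set_option autoImplicit false
universe u

open CategoryTheory CategoryTheory.Limits AlgebraicGeometry

namespace Groth.Agent.Lib.EtDistBound46

/-- Among any `N + 1` field-valued points of `T'` over the same point of `T` two coincide. -/
def DistBound {T' T : Scheme.{u}} (q : T' ⟶ T) (N : ℕ) : Prop :=
  ∀ (K : Type u) [Field K] (b : Fin (N + 1) → (Spec (CommRingCat.of K) ⟶ T')),
    (∀ i j, b i ≫ q = b j ≫ q) → ∃ i j, i ≠ j ∧ b i = b j

theorem isEmpty_of_distBound_zero {T' T : Scheme.{u}} (q : T' ⟶ T) (h : DistBound q 0) : IsEmpty ↥T' := by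
  constructor
  intro x
  obtain ⟨i, j, hij, -⟩ := h (T'.residueField x) (fun _ => T'.fromSpecResidueField x) (fun _ _ => rfl)
  exact hij (Fin.ext (by omega))

theorem exists_distBound_of_isAffine {T' T : Scheme.{u}} (e : T' ⟶ T) [IsAffine T'] [IsAffine T]
    [LocallyQuasiFinite e] [LocallyOfFiniteType e] : ∃ N, DistBound e N := by
  have h1 : RingHom.QuasiFinite e.appTop.hom :=
    (HasRingHomProperty.iff_of_isAffine (P := @LocallyQuasiFinite)).1 inferInstance
  have h2 : RingHom.FiniteType e.appTop.hom :=
    (HasRingHomProperty.iff_of_isAffine (P := @LocallyOfFiniteType)).1 inferInstance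
  algebraize [e.appTop.hom]
  obtain ⟨N, hN⟩ := exists_bound_of_quasiFinite Γ(T, ⊤) Γ(T', ⊤)
  refine ⟨N, fun K _ b hb => ?_⟩
  let φ : Fin (N + 1) → (Γ(T', ⊤) →+* K) := fun i =>
    (Scheme.ΓSpecIso (CommRingCat.of K)).hom.hom.comp (b i).appTop.hom
  obtain ⟨i, j, hij, h⟩ := hN K φ (fun i j => by
    have := congrArg (fun m => m.appTop.hom) (hb i j)
    simp only [Scheme.Hom.comp_appTop, CommRingCat.hom_comp] at this
    change ((Scheme.ΓSpecIso (CommRingCat.of K)).hom.hom.comp (b i).appTop.hom).comp e.appTop.hom =
      ((Scheme.ΓSpecIso (CommRingCat.of K)).hom.hom.comp (b j).appTop.hom).comp e.appTop.hom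
    rw [RingHom.comp_assoc, RingHom.comp_assoc, this])
  refine ⟨i, j, hij, ext_of_isAffine ?_⟩
  apply CommRingCat.hom_ext
  have hinj : Function.Injective (Scheme.ΓSpecIso (CommRingCat.of K)).hom.hom :=
    (ConcreteCategory.bijective_of_isIso (Scheme.ΓSpecIso (CommRingCat.of K)).hom).1
  ext x
  apply hinj
  exact congrArg (fun g : Γ(T', ⊤) →+* K => g x) h

section OffDiag

variable {T' T : Scheme.{u}} (q : T' ⟶ T) [IsSeparated q]

/-- The open complement of the diagonal in `T' ×_T T'`. -/
noncomputable def offDiag : (pullback q q).Opens :=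
  ⟨(Set.range (pullback.diagonal q))ᶜ, (pullback.diagonal q).isClosedEmbedding.isClosed_range.isOpen_compl⟩

theorem mem_offDiag_iff (x : ↥(pullback q q)) : x ∈ offDiag q ↔ x ∉ Set.range (pullback.diagonal q) :=
  Iff.rfl

/-- The first projection from the complement of the diagonal. -/
noncomputable def offDiagFst : (offDiag q : Scheme.{u}) ⟶ T' := (offDiag q).ι ≫ pullback.fst q q

/-- The second projection from the complement of the diagonal. -/
noncomputable def offDiagSnd : (offDiag q : Scheme.{u}) ⟶ T' := (offDiag q).ι ≫ pullback.snd q q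

theorem offDiagFst_comp : offDiagFst q ≫ q = offDiagSnd q ≫ q := by
  unfold offDiagFst offDiagSnd
  rw [Category.assoc, Category.assoc, pullback.condition]

instance [Etale q] : Etale (offDiagFst q) := by unfold offDiagFst; infer_instance

instance [Etale q] : Etale (offDiagSnd q) := by unfold offDiagSnd; infer_instance

instance : IsSeparated (offDiagFst q) := by unfold offDiagFst; infer_instance

theorem distBound_offDiagFst {N : ℕ} (h : DistBound q (N + 1)) : DistBound (offDiagFst q) N := by
  intro K _ c hc
  let b : Fin (N + 2) → (Spec (CommRingCat.of K) ⟶ T') :=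
    Fin.cons (c 0 ≫ offDiagFst q) (fun i => c i ≫ offDiagSnd q)
  have hb0 : ∀ i : Fin (N + 1), c i ≫ offDiagFst q = b 0 := fun i => hc i 0
  have hbq : ∀ i, b i ≫ q = b 0 ≫ q := by
    intro i
    refine Fin.cases rfl (fun k => ?_) i
    change (c k ≫ offDiagSnd q) ≫ q = (c 0 ≫ offDiagFst q) ≫ q
    rw [Category.assoc, ← offDiagFst_comp, ← Category.assoc, hc k 0]
  obtain ⟨i, j, hij, hbij⟩ := h K b (fun i j => (hbq i).trans (hbq j).symm)
  -- a point of the off-diagonal with equal projections does not exist
  have hno : ∀ k : Fin (N + 1), c k ≫ offDiagSnd q ≠ b 0 := by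
    intro k hk
    have h1 : (c k ≫ (offDiag q).ι) ≫ pullback.fst q q = b 0 := by rw [Category.assoc]; exact hb0 k
    have h2 : (c k ≫ (offDiag q).ι) ≫ pullback.snd q q = b 0 := by rw [Category.assoc]; exact hk
    have h3 : c k ≫ (offDiag q).ι = b 0 ≫ pullback.diagonal q := by
      apply pullback.hom_ext
      · rw [h1, Category.assoc, pullback.diagonal_fst, Category.comp_id]
      · rw [h2, Category.assoc, pullback.diagonal_snd, Category.comp_id]
    let pt : ↥(Spec (CommRingCat.of K)) := IsLocalRing.closedPoint K
    have h4 : (offDiag q).ι (c k pt) ∈ offDiag q := ((c k) pt).2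
    apply h4
    refine ⟨(b 0) pt, ?_⟩
    rw [← Scheme.Hom.comp_apply, ← h3, Scheme.Hom.comp_apply]
  have hsucc : ∀ k l : Fin (N + 1), b k.succ = b l.succ → c k = c l := by
    intro k l hkl
    change c k ≫ offDiagSnd q = c l ≫ offDiagSnd q at hkl
    have : c k ≫ (offDiag q).ι = c l ≫ (offDiag q).ι := by
      apply pullback.hom_ext
      · rw [Category.assoc, Category.assoc]; exact (hb0 k).trans (hb0 l).symm
      · rw [Category.assoc, Category.assoc]; exact hkl
    exact (cancel_mono (offDiag q).ι).1 this
  induction i using Fin.cases with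
  | zero =>
    induction j using Fin.cases with
    | zero => exact absurd rfl hij
    | succ l => exact absurd hbij.symm (hno l)
  | succ k =>
    induction j using Fin.cases with
    | zero => exact absurd hbij (hno k)
    | succ l =>
      exact ⟨k, l, fun hkl => hij (by rw [hkl]), hsucc k l hbij⟩

end OffDiag

end Groth.Agent.Lib.EtDistBound46
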