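import Groth.Agent.Lib.EtClopen

/-!
# Extension by zero of sections along open and closed immersions of the small etale site (helper95)

For an abelian sheaf `F` on the small etale site of `X` and a morphism `γ : V ⟶ P` of `X.Etale`
whose underlying morphism of schemes is an open immersion with closed range:
* `IsEbz F γ s t`: the section `t` over `P` restricts to `s` along `γ` and to `0` along every
  `k : Z ⟶ P` whose range is disjoint from the range of `γ`;
* `IsEbz.unique`, `exists_isEbz`, `ebz F γ hcl : F(V) →+ F(P)`, `ebz_spec`, `eq_ebz`;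
* `ebz_natural` (in `F`), `ebz_map` (compatibility with restriction along a square whose preimage
  condition holds).
-/

set_option autoImplicit false
universe u

open CategoryTheory CategoryTheory.Limits AlgebraicGeometry Opposite

namespace Groth.Agent.Lib.EtEbz95

open Groth.Agent.Lib.EtGerm Groth.Agent.Lib.EtStalkPullGerm Groth.Agent.Lib.EtClopen

variable {X : Scheme.{u}}

/-- `t` is the extension by zero of `s` along `γ` -/
def IsEbz (F : EtCoh.Ab X) {V P : X.Etale} (γ : V ⟶ P) (s : EtCoh.sect F V)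
    (t : EtCoh.sect F P) : Prop :=
  F.obj.map γ.op t = s ∧ ∀ (Z : X.Etale) (k : Z ⟶ P),
    Disjoint (Set.range k.left) (Set.range γ.left) → F.obj.map k.op t = 0

/-- the open complement of a closed range -/
noncomputable def compl {V P : X.Etale} (γ : V ⟶ P) (hcl : IsClosed (Set.range γ.left)) :
    P.left.Opens := ⟨(Set.range γ.left)ᶜ, hcl.isOpen_compl⟩

lemma IsEbz.unique (F : EtCoh.Ab X) {V P : X.Etale} (γ : V ⟶ P)
    (hcl : IsClosed (Set.range γ.left)) {s : EtCoh.sect F V} {t t' : EtCoh.sect F P}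
    (h : IsEbz F γ s t) (h' : IsEbz F γ s t') : t = t' := by
  apply section_ext_of_forall_pt
  intro p
  by_cases hp : p ∈ Set.range γ.left
  · exact ⟨V, γ, hp, h.1.trans h'.1.symm⟩
  · refine ⟨openSub P (compl γ hcl), openSubι P (compl γ hcl), ?_, ?_⟩
    · rw [openSubι_left]
      exact ⟨⟨p, hp⟩, rfl⟩
    · have hd : Disjoint (Set.range (openSubι P (compl γ hcl)).left) (Set.range γ.left) := by
        rw [Set.disjoint_left]
        rintro _ ⟨w, rfl⟩ hw
        rw [openSubι_left] at hw
        exact w.2 hw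
      rw [h.2 _ _ hd, h'.2 _ _ hd]

/-- elementwise functoriality of sections -/
lemma map_comp_apply (F : EtCoh.Ab X) {A B C : X.Etale} (a : A ⟶ B) (b : B ⟶ C)
    (t : EtCoh.sect F C) : F.obj.map a.op (F.obj.map b.op t) = F.obj.map (a ≫ b).op t := by
  rw [op_comp, Functor.map_comp]
  rfl

lemma map_id_apply (F : EtCoh.Ab X) {A : X.Etale} (t : EtCoh.sect F A) :
    F.obj.map (𝟙 A).op t = t := by
  rw [op_id, CategoryTheory.Functor.map_id]
  rfl

set_option backward.isDefEq.respectTransparency.types false in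
lemma exists_isEbz (F : EtCoh.Ab X) {V P : X.Etale} (γ : V ⟶ P) [IsOpenImmersion γ.left]
    (hcl : IsClosed (Set.range γ.left)) (s : EtCoh.sect F V) : ∃ t, IsEbz F γ s t := by
  let W : P.left.Opens := γ.left.opensRange
  have hW : (W : Set P.left) = Set.range γ.left := rfl
  have hWι : Set.range W.ι = Set.range γ.left := by
    rw [Scheme.Opens.range_ι]; rfl
  -- the two comparison morphisms
  let aL : V.left ⟶ (W : Scheme.{u}) := IsOpenImmersion.lift W.ι γ.left (by rw [hWι])
  have haL : aL ≫ W.ι = γ.left := IsOpenImmersion.lift_fac _ _ _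
  let bL : (W : Scheme.{u}) ⟶ V.left := IsOpenImmersion.lift γ.left W.ι (by rw [hWι])
  have hbL : bL ≫ γ.left = W.ι := IsOpenImmersion.lift_fac _ _ _
  have hγ : γ.left ≫ P.hom = V.hom := Over.w γ.hom
  let a : V ⟶ openSub P W := MorphismProperty.Over.homMk aL
    (by show aL ≫ W.ι ≫ P.hom = V.hom; rw [← Category.assoc, haL, hγ]) trivial
  let b : openSub P W ⟶ V := MorphismProperty.Over.homMk bL
    (by show bL ≫ V.hom = W.ι ≫ P.hom; rw [← hγ, ← Category.assoc, hbL]) trivial
  have hab : a ≫ b = 𝟙 V := by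
    apply MorphismProperty.Over.Hom.ext
    show aL ≫ bL = 𝟙 _
    rw [← cancel_mono γ.left, Category.assoc, hbL, haL, Category.id_comp]
  have haι : a ≫ openSubι P W = γ := by
    apply MorphismProperty.Over.Hom.ext
    exact haL
  obtain ⟨t, ht, ht'⟩ := exists_section_of_disjoint_cover F P W (compl γ hcl)
    (fun p => by
      by_cases hp : p ∈ Set.range γ.left
      · exact Or.inl hp
      · exact Or.inr hp)
    (fun p h h' => h' h) (F.obj.map b.op s) 0
  refine ⟨t, ?_, ?_⟩
  · rw [← haι, ← map_comp_apply, ht, map_comp_apply, hab, map_id_apply]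
  · intro Z k hk
    have hsub : Set.range k.left ⊆ Set.range (compl γ hcl).ι := by
      rw [Scheme.Opens.range_ι]
      intro z hz
      exact fun hz' => (Set.disjoint_left.1 hk) hz hz'
    let kL : Z.left ⟶ ((compl γ hcl : P.left.Opens) : Scheme.{u}) :=
      IsOpenImmersion.lift (compl γ hcl).ι k.left hsub
    have hkL : kL ≫ (compl γ hcl).ι = k.left := IsOpenImmersion.lift_fac _ _ _
    let k' : Z ⟶ openSub P (compl γ hcl) := MorphismProperty.Over.homMk kL
      (by
        show kL ≫ (compl γ hcl).ι ≫ P.hom = Z.hom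
        rw [← Category.assoc, hkL]
        exact Over.w k.hom) trivial
    have hk' : k' ≫ openSubι P (compl γ hcl) = k := by
      apply MorphismProperty.Over.Hom.ext
      exact hkL
    rw [← hk', ← map_comp_apply, ht', map_zero]

lemma IsEbz.add (F : EtCoh.Ab X) {V P : X.Etale} (γ : V ⟶ P) {s s' : EtCoh.sect F V}
    {t t' : EtCoh.sect F P} (h : IsEbz F γ s t) (h' : IsEbz F γ s' t') :
    IsEbz F γ (s + s') (t + t') := by
  refine ⟨?_, fun Z k hk => ?_⟩
  · rw [map_add, h.1, h'.1]
  · rw [map_add, h.2 Z k hk, h'.2 Z k hk, add_zero]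

lemma IsEbz.zero (F : EtCoh.Ab X) {V P : X.Etale} (γ : V ⟶ P) :
    IsEbz F γ (0 : EtCoh.sect F V) (0 : EtCoh.sect F P) :=
  ⟨map_zero _, fun _ _ _ => map_zero _⟩

/-- extension by zero of sections along an open and closed immersion -/
noncomputable def ebz (F : EtCoh.Ab X) {V P : X.Etale} (γ : V ⟶ P) [IsOpenImmersion γ.left]
    (hcl : IsClosed (Set.range γ.left)) : EtCoh.sect F V →+ EtCoh.sect F P where
  toFun s := (exists_isEbz F γ hcl s).choose
  map_zero' := IsEbz.unique F γ hcl (exists_isEbz F γ hcl 0).choose_spec (IsEbz.zero F γ)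
  map_add' s s' := IsEbz.unique F γ hcl (exists_isEbz F γ hcl (s + s')).choose_spec
    (IsEbz.add F γ (exists_isEbz F γ hcl s).choose_spec (exists_isEbz F γ hcl s').choose_spec)

lemma ebz_spec (F : EtCoh.Ab X) {V P : X.Etale} (γ : V ⟶ P) [IsOpenImmersion γ.left]
    (hcl : IsClosed (Set.range γ.left)) (s : EtCoh.sect F V) : IsEbz F γ s (ebz F γ hcl s) :=
  (exists_isEbz F γ hcl s).choose_spec

lemma eq_ebz (F : EtCoh.Ab X) {V P : X.Etale} (γ : V ⟶ P) [IsOpenImmersion γ.left]
    (hcl : IsClosed (Set.range γ.left)) {s : EtCoh.sect F V} {t : EtCoh.sect F P}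
    (h : IsEbz F γ s t) : t = ebz F γ hcl s :=
  IsEbz.unique F γ hcl h (ebz_spec F γ hcl s)

lemma map_ebz (F : EtCoh.Ab X) {V P : X.Etale} (γ : V ⟶ P) [IsOpenImmersion γ.left]
    (hcl : IsClosed (Set.range γ.left)) (s : EtCoh.sect F V) :
    F.obj.map γ.op (ebz F γ hcl s) = s := (ebz_spec F γ hcl s).1

/-- naturality of extension by zero in the sheaf -/
lemma ebz_natural {F G : EtCoh.Ab X} (φ : F ⟶ G) {V P : X.Etale} (γ : V ⟶ P)
    [IsOpenImmersion γ.left] (hcl : IsClosed (Set.range γ.left)) (s : EtCoh.sect F V) :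
    φ.hom.app (op P) (ebz F γ hcl s) = ebz G γ hcl (φ.hom.app (op V) s) := by
  apply eq_ebz
  refine ⟨?_, fun Z k hk => ?_⟩
  · have := NatTrans.naturality_apply φ.hom γ.op (ebz F γ hcl s)
    rw [← this, map_ebz]
  · have := NatTrans.naturality_apply φ.hom k.op (ebz F γ hcl s)
    rw [← this, (ebz_spec F γ hcl s).2 Z k hk, map_zero]

/-- compatibility of extension by zero with restriction along a commutative square
`γ' ≫ h = g ≫ γ` such that `h⁻¹(range γ) ⊆ range γ'` -/
lemma ebz_map (F : EtCoh.Ab X) {V P V' P' : X.Etale} (γ : V ⟶ P) [IsOpenImmersion γ.left]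
    (hcl : IsClosed (Set.range γ.left)) (γ' : V' ⟶ P') [IsOpenImmersion γ'.left]
    (hcl' : IsClosed (Set.range γ'.left)) (g : V' ⟶ V) (h : P' ⟶ P) (w : γ' ≫ h = g ≫ γ)
    (hpre : h.left ⁻¹' Set.range γ.left ⊆ Set.range γ'.left) (s : EtCoh.sect F V) :
    F.obj.map h.op (ebz F γ hcl s) = ebz F γ' hcl' (F.obj.map g.op s) := by
  apply eq_ebz
  refine ⟨?_, fun Z k hk => ?_⟩
  · rw [map_comp_apply, w, ← map_comp_apply, map_ebz]
  · rw [map_comp_apply]
    apply (ebz_spec F γ hcl s).2
    rw [Set.disjoint_left]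
    rintro _ ⟨z, rfl⟩ hz
    have h1 : k.left z ∈ h.left ⁻¹' Set.range γ.left := by
      show h.left (k.left z) ∈ Set.range γ.left
      have : (k ≫ h).left z = h.left (k.left z) := rfl
      rw [← this]; exact hz
    exact (Set.disjoint_left.1 hk) ⟨z, rfl⟩ (hpre h1)

end Groth.Agent.Lib.EtEbz95
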