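import Groth.Agent.Lib.EtDescH52
import Groth.Agent.Lib.EtLocQF
import Groth.Agent.Lib.EtGermB

/-!
# Sheaf-theoretic core of étale excision (helper65)

* `mem_eqLocus_of_apply_eq`: two `X`-morphisms into an étale `X`-scheme agree near a point where
  they agree and the residue field extension is trivial.
* `VanishesOver j G`, `isIso_map_toTop`: if `G` has no sections over `U` and `Y → X` is étale,
  bijective over `X∖U` with trivial residue field extensions, then `G(X) → G(Y)` is an isomorphism.
-/

set_option autoImplicit false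
universe u
open CategoryTheory CategoryTheory.Limits AlgebraicGeometry Opposite

namespace Groth.Agent.Lib.EtExcision65

open Groth.Agent.Lib.EtDescH52 Groth.Agent.Lib.EtGerm

section Point

variable {X X' T : Scheme.{u}} (f : X' ⟶ X) [Etale f]

/-- two `X`-morphisms into an étale `X`-scheme agree near a point where they agree and the residue
field extension is trivial -/
lemma mem_eqLocus_of_apply_eq (a b : T ⟶ X') (hab : a ≫ f = b ≫ f) (z : T) (hz : a z = b z)
    (hκ : Function.Surjective (f.residueFieldMap (a z))) :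
    z ∈ eqLocus f a b hab := by
  show pullback.lift a b hab z ∈ Set.range (pullback.diagonal f)
  refine ⟨a z, ?_⟩
  have h1 : pullback.fst f f (pullback.diagonal f (a z)) = a z := by
    rw [← Scheme.Hom.comp_apply, pullback.diagonal_fst]; rfl
  have h2 : pullback.snd f f (pullback.diagonal f (a z)) = a z := by
    rw [← Scheme.Hom.comp_apply, pullback.diagonal_snd]; rfl
  have h3 : pullback.fst f f (pullback.lift a b hab z) = a z := by
    rw [← Scheme.Hom.comp_apply, pullback.lift_fst]
  have h4 : pullback.snd f f (pullback.lift a b hab z) = a z := by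
    rw [← Scheme.Hom.comp_apply, pullback.lift_snd, hz]
  refine Groth.Agent.Lib.EtLocQF.eq_of_fst_eq_of_snd_eq f f _ _ (h1.trans h3.symm)
    (h2.trans h4.symm) ?_
  rw [h4]
  have hbij : Function.Bijective (f.residueFieldMap (a z)) :=
    ⟨(f.residueFieldMap (a z)).hom.injective, hκ⟩
  exact (ConcreteCategory.isIso_iff_bijective _).2 hbij

end Point

section Sheaf

variable {X U : Scheme.{u}} (j : U ⟶ X) [IsOpenImmersion j]

/-- `G` has no sections over étale `X`-schemes lying over `U` -/
def VanishesOver (G : EtCoh.Ab X) : Prop :=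
  ∀ W : X.Etale, Set.range W.hom ⊆ Set.range j → IsZero (G.obj.obj (op W))

/-- the structure morphism to the terminal object -/
noncomputable def toTop (Y : X.Etale) : Y ⟶ EtCoh.top X :=
  MorphismProperty.Over.homMk Y.hom (Category.comp_id _) trivial

lemma toTop_left (Y : X.Etale) : (toTop Y).left = Y.hom := rfl

lemma hom_ext_top {Z : X.Etale} (a b : Z ⟶ EtCoh.top X) : a = b := by
  apply MorphismProperty.Over.Hom.ext
  have ha : a.left = Z.hom := (Category.comp_id _).symm.trans (MorphismProperty.Over.w a)
  have hb : b.left = Z.hom := (Category.comp_id _).symm.trans (MorphismProperty.Over.w b)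
  exact ha.trans hb.symm

variable (Y : X.Etale)

include j in
lemma map_eq_of_vanishesOver
    (hinj : Set.InjOn Y.hom (Y.hom ⁻¹' (Set.range j))ᶜ)
    (hκ : ∀ y : Y.left, Y.hom y ∉ Set.range j → Function.Surjective (Y.hom.residueFieldMap y))
    (G : EtCoh.Ab X) (hG : VanishesOver j G) {Z : X.Etale} (a b : Z ⟶ Y) :
    G.obj.map a.op = G.obj.map b.op := by
  have hab : a.left ≫ Y.hom = b.left ≫ Y.hom :=
    (MorphismProperty.Over.w a).trans (MorphismProperty.Over.w b).symm
  have : Etale Y.hom := Y.prop
  let E := eqLocus Y.hom a.left b.left hab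
  let V : Z.left.Opens := Z.hom ⁻¹ᵁ j.opensRange
  let Zf : Bool → X.Etale := fun i => cond i (openSub Z E) (openSub Z V)
  let g : ∀ i, Zf i ⟶ Z := fun i => match i with
    | true => openSubι Z E
    | false => openSubι Z V
  have hcov : Sieve.ofArrows _ g ∈ X.smallEtaleTopology Z := by
    rw [Scheme.ofArrows_mem_smallEtaleTopology_iff]
    ext z
    simp only [Set.mem_iUnion, Set.mem_univ, iff_true]
    by_cases hz : Z.hom z ∈ Set.range j
    · refine ⟨false, ?_⟩
      show z ∈ Set.range V.ι
      rw [Scheme.Opens.range_ι]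
      exact hz
    · refine ⟨true, ?_⟩
      show z ∈ Set.range E.ι
      rw [Scheme.Opens.range_ι]
      have h1 : Y.hom (a.left z) = Z.hom z := by
        rw [← Scheme.Hom.comp_apply, MorphismProperty.Over.w a]
      have h2 : Y.hom (b.left z) = Z.hom z := by
        rw [← Scheme.Hom.comp_apply, MorphismProperty.Over.w b]
      have hab' : a.left z = b.left z := by
        apply hinj
        · show ¬ (Y.hom (a.left z) ∈ Set.range j)
          rw [h1]; exact hz
        · show ¬ (Y.hom (b.left z) ∈ Set.range j)
          rw [h2]; exact hz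
        · rw [h1, h2]
      exact mem_eqLocus_of_apply_eq Y.hom a.left b.left hab z hab' (hκ _ (by rw [h1]; exact hz))
  apply G.property.hom_ext_ofArrows g hcov
  rintro (_ | _)
  · apply (hG _ ?_).eq_of_tgt
    rintro _ ⟨v, rfl⟩
    exact v.2
  · rw [← G.obj.map_comp, ← G.obj.map_comp, ← op_comp, ← op_comp]
    congr 2
    apply MorphismProperty.Over.Hom.ext
    exact comp_eq_of_range_subset Y.hom a.left b.left hab E.ι (by rw [Scheme.Opens.range_ι])

include j in
lemma isIso_map_toTop
    (hinj : Set.InjOn Y.hom (Y.hom ⁻¹' (Set.range j))ᶜ)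
    (hsurj : (Set.range j)ᶜ ⊆ Set.range Y.hom)
    (hκ : ∀ y : Y.left, Y.hom y ∉ Set.range j → Function.Surjective (Y.hom.residueFieldMap y))
    (G : EtCoh.Ab X) (hG : VanishesOver j G) : IsIso (G.obj.map (toTop Y).op) := by
  let Uo : X.Etale := Scheme.Etale.mk j
  let Zf : Bool → X.Etale := fun i => cond i Y Uo
  let g : ∀ i, Zf i ⟶ EtCoh.top X := fun i => toTop (Zf i)
  have hcov : Sieve.ofArrows _ g ∈ X.smallEtaleTopology (EtCoh.top X) := by
    rw [Scheme.ofArrows_mem_smallEtaleTopology_iff]
    ext x
    simp only [Set.mem_iUnion, Set.mem_univ, iff_true]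
    by_cases hx : x ∈ Set.range j
    · exact ⟨false, hx⟩
    · exact ⟨true, hsurj hx⟩
  have hU0 : IsZero (G.obj.obj (op Uo)) := hG Uo (le_refl _)
  let x : ∀ i, G.obj.obj (op Y) ⟶ G.obj.obj (op (Zf i)) := fun i => match i with
    | true => 𝟙 _
    | false => 0
  have hW : ∀ {W : X.Etale} (c : W ⟶ Uo), IsZero (G.obj.obj (op W)) := fun {W} c => hG W (by
    rintro _ ⟨w, rfl⟩
    refine ⟨c.left w, ?_⟩
    have := MorphismProperty.Over.w c
    rw [← this]
    rfl)
  have hx : ∀ ⦃W : X.Etale⦄ ⦃i k : Bool⦄ (a : W ⟶ Zf i) (b : W ⟶ Zf k), a ≫ g i = b ≫ g k →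
      x i ≫ G.obj.map a.op = x k ≫ G.obj.map b.op := by
    intro W i k a b _
    cases i
    · exact (hW a).eq_of_tgt _ _
    · cases k
      · exact (hW b).eq_of_tgt _ _
      · show 𝟙 _ ≫ _ = 𝟙 _ ≫ _
        rw [Category.id_comp, Category.id_comp]
        exact map_eq_of_vanishesOver j Y hinj hκ G hG a b
  refine ⟨G.property.amalgamateOfArrows g hcov x hx, ?_, ?_⟩
  · apply G.property.hom_ext_ofArrows g hcov
    rintro (_ | _)
    · exact hU0.eq_of_tgt _ _
    · rw [Category.assoc, G.property.amalgamateOfArrows_map g hcov x hx true]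
      show _ ≫ 𝟙 _ = 𝟙 _ ≫ _
      rw [Category.comp_id, Category.id_comp]
      rfl
  · exact G.property.amalgamateOfArrows_map g hcov x hx true

end Sheaf

end Groth.Agent.Lib.EtExcision65
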