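import Groth.Agent.Lib.ConstRestr22
import Groth.Agent.Lib.EtConstrKer22
import Groth.Agent.Lib.EtTensorRestr65

/-!
# Extensions of finite locally constant étale sheaves, part 1 (helper22)

* `restrConstIso W N`: the restriction of the constant sheaf `N̲` on `T` to an étale `W ⟶ T` is the
  constant sheaf, with `restrConstIso_inv_constSec` (identity on constant sections);
* exactness of `restrAlongA W`, `isLC_of_cover_restr`, `isLC_iff_restr`;
* `exists_lift_list`: finitely many sections lift simultaneously along an epimorphism, locally;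
* `isLC_const`, `isLC_biprod`.
-/

set_option autoImplicit false
set_option linter.style.haveILetI false
set_option linter.unusedSectionVars false
universe u

open CategoryTheory AlgebraicGeometry Limits MorphismProperty Opposite

namespace Groth.Agent.Lib.EtExt22

open Groth.Agent.Lib.EtConst Groth.Agent.Lib.EtOverSite22 Groth.Agent.Lib.EtLocConst22
  Groth.Agent.Lib.ConstRestr22 Groth.Agent.Lib.EtConstPush Groth.Agent.Lib.EtLCKer22
  Groth.Agent.Lib.EtTensorRestr65

/-- abelian groups one universe up -/
abbrev Ab1 := AddCommGrpCat.{u + 1}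

variable {T : Scheme.{u}}

section restr

variable (W : T.Etale)

/-- The restriction of a constant sheaf to an étale `W ⟶ T` is the constant sheaf. -/
noncomputable def restrConstIso (N : Ab1.{u}) :
    (restrAlongA W Ab1.{u}).obj (constSh T N) ≅ constSh W.left N :=
  constRestrIso (EtShriek.compEtale (homX W)) W.left.smallEtaleTopology T.smallEtaleTopology
    Ab1.{u} N

theorem restrConstIso_inv_constSec (N : Ab1.{u}) (V : W.left.Etale) (ν : N) :
    (restrConstIso W N).inv.hom.app (op V) (constSec N V ν) =
      constSec N ((EtShriek.compEtale (homX W)).obj V) ν := by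
  have h := toSheafify_constRestrIso_inv (EtShriek.compEtale (homX W))
    W.left.smallEtaleTopology T.smallEtaleTopology Ab1.{u} N
  exact congrArg (fun f => (f.app (op V)).hom ν) h

theorem restrConstIso_hom_constSec (N : Ab1.{u}) (V : W.left.Etale) (ν : N) :
    (restrConstIso W N).hom.hom.app (op V)
      (constSec N ((EtShriek.compEtale (homX W)).obj V) ν) = constSec N V ν := by
  rw [← restrConstIso_inv_constSec W N V ν]
  have h : (restrConstIso W N).inv ≫ (restrConstIso W N).hom = 𝟙 _ := Iso.inv_hom_id _
  have h2 := congrArg (fun f => (f.hom.app (op V)).hom (constSec N V ν)) h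
  exact h2

instance preservesFiniteLimits_restr : PreservesFiniteLimits (restrAlongA W Ab1.{u}) :=
  preservesFiniteLimits_of_natIso (pullIsoRestrA Ab1.{u} W)

instance preservesFiniteColimits_restr : PreservesFiniteColimits (restrAlongA W Ab1.{u}) :=
  preservesFiniteColimits_of_natIso (pullIsoRestrA Ab1.{u} W)

instance additive_restr : (restrAlongA W Ab1.{u}).Additive :=
  Functor.additive_of_preserves_binary_products _

end restr

/-- Local constancy can be checked after restriction to an étale covering. -/
theorem isLC_of_cover_restr {κ : Type u} (j : κ → T.Etale) (hj : EtCoh.Covers j) {F : EtCoh.Ab T}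
    {P : Ab1.{u} → Prop} (h : ∀ k, IsLC Ab1.{u} P ((restrAlongA (j k) Ab1.{u}).obj F)) :
    IsLC Ab1.{u} P F :=
  IsLC.of_cover j hj fun k => (h k).of_iso ((pullIsoRestrA Ab1.{u} (j k)).app F).symm

theorem isLC_restr {F : EtCoh.Ab T} {P : Ab1.{u} → Prop} (h : IsLC Ab1.{u} P F) (W : T.Etale) :
    IsLC Ab1.{u} P ((restrAlongA W Ab1.{u}).obj F) :=
  (h.pull (homX W)).of_iso ((pullIsoRestrA Ab1.{u} W).app F)

/-- Constant sheaves are locally constant. -/
theorem isLC_const {P : Ab1.{u} → Prop} (M : Ab1.{u}) (hM : P M) :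
    IsLC Ab1.{u} P (constSh T M) := by
  rw [isLC_iff_pull]
  refine ⟨PUnit, fun _ => EtCoh.top T, fun x => ⟨PUnit.unit, x, rfl⟩, fun _ => ⟨M, hM, ⟨?_⟩⟩⟩
  exact (pullConstIsoA Ab1.{u} (homX (EtCoh.top T))).app M

/-- Finitely many sections lift simultaneously along an epimorphism, étale-locally. -/
theorem exists_lift_list {E G : EtCoh.Ab T} (π : E ⟶ G) [Epi π] {U : T.Etale}
    (l : List (EtCoh.sect G U)) (x : U.left) :
    ∃ (V : T.Etale) (g : V ⟶ U), x ∈ Set.range g.left ∧
      ∀ s ∈ l, ∃ e : EtCoh.sect E V, π.hom.app (op V) e = G.obj.map g.op s := by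
  induction l with
  | nil => exact ⟨U, 𝟙 U, ⟨x, rfl⟩, by simp⟩
  | cons s l ih =>
    obtain ⟨V, g, ⟨y, hy⟩, hl⟩ := ih
    obtain ⟨V', g', z, hz, e, he⟩ :=
      Groth.Agent.Lib.EtPushEpi39.exists_lift_of_epi π (G.obj.map g.op s) y
    refine ⟨V', g' ≫ g, ⟨z, ?_⟩, ?_⟩
    · rw [← hy, ← hz]
      rfl
    · intro t ht
      rcases List.mem_cons.1 ht with rfl | ht
      · exact ⟨e, he.trans (res_comp _ g g' _).symm⟩
      · obtain ⟨e', he'⟩ := hl t ht
        refine ⟨E.obj.map g'.op e', ?_⟩
        rw [res_comp, ← he']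
        exact hom_res π g' e'

end Groth.Agent.Lib.EtExt22
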