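import Groth.Agent.Lib.EtExt22a
import Groth.Agent.Lib.AbelianLift22

/-!
# Extensions of finite locally constant étale sheaves, part 2 (helper22)

* `isLC_biprod`: a biproduct of finite locally constant sheaves is finite locally constant;
* `isLC_of_ext_global`: an extension `0 ⟶ F ⟶ E ⟶ N̲ ⟶ 0` killed by `n`, with `F` finite locally
  constant, `N` finite and all constant sections of `N̲` lifting to global sections of `E`, is finite
  locally constant.
-/

set_option autoImplicit false
set_option linter.style.haveILetI false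
set_option linter.unusedSectionVars false
universe u

open CategoryTheory AlgebraicGeometry Limits MorphismProperty Opposite

namespace Groth.Agent.Lib.EtExt22

open Groth.Agent.Lib.EtConst Groth.Agent.Lib.EtOverSite22 Groth.Agent.Lib.EtLocConst22
  Groth.Agent.Lib.ConstRestr22 Groth.Agent.Lib.EtConstPush Groth.Agent.Lib.EtLCKer22
  Groth.Agent.Lib.EtTensorRestr65

variable {T : Scheme.{u}}

/-- A biproduct of finite locally constant sheaves is finite locally constant. -/
theorem isLC_biprod {F G : EtCoh.Ab T} (hF : IsLC Ab1.{u} PFin F) (hG : IsLC Ab1.{u} PFin G) :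
    IsLC Ab1.{u} PFin (F ⊞ G) := by
  obtain ⟨ι, U, hU, h⟩ := exists_common_cover hF hG
  refine IsLC.of_cover U hU fun i => ?_
  obtain ⟨⟨M, hM, ⟨α⟩⟩, ⟨N, hN, ⟨β⟩⟩⟩ := h i
  haveI := pFin_finite hM
  haveI := pFin_finite hN
  let p := pullA Ab1.{u} (homX (U i))
  haveI : p.Additive := Functor.additive_of_preserves_binary_products _
  haveI : PreservesBiproductsOfShape WalkingPair p := PreservesFiniteBiproducts.preserves
  haveI : PreservesBinaryBiproducts p := preservesBinaryBiproducts_of_preservesBiproducts p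
  let Φ := constantSheaf (U i).left.smallEtaleTopology Ab1.{u}
  haveI : PreservesBiproductsOfShape WalkingPair Φ := PreservesFiniteBiproducts.preserves
  haveI : PreservesBinaryBiproducts Φ := preservesBinaryBiproducts_of_preservesBiproducts Φ
  have e1 : p.obj (F ⊞ G) ≅ p.obj F ⊞ p.obj G := p.mapBiprod F G
  have e2 : p.obj F ⊞ p.obj G ≅ Φ.obj M ⊞ Φ.obj N := biprod.mapIso α β
  have e3 : Φ.obj (M ⊞ N) ≅ Φ.obj M ⊞ Φ.obj N := Φ.mapBiprod M N
  haveI : Finite (M ⊞ N : Ab1.{u}) := by
    have e := AddCommGrpCat.biprodIsoProd M N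
    have : Function.Injective e.hom := (AddCommGrpCat.mono_iff_injective _).1 inferInstance
    exact Finite.of_injective _ this
  obtain ⟨K, hK, ⟨ε⟩⟩ := pFin_of_iso_finite (M ⊞ N : Ab1.{u})
  have h0 : IsLC Ab1.{u} PFin (Φ.obj K) := isLC_const K hK
  exact h0.of_iso (e1 ≪≫ e2 ≪≫ e3.symm ≪≫ Φ.mapIso ε).symm

theorem toTop_comp {U V : T.Etale} (g : V ⟶ U) : g ≫ toTop U = toTop V :=
  (topIsTerminal' T).hom_ext _ _

/-- the morphism `P̲ ⟶ E` attached to a morphism of groups `P ⟶ E(T)` -/
noncomputable def constDesc {P : Ab1.{u}} (E : EtCoh.Ab T)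
    (Λ : P →+ EtCoh.sect E (EtCoh.top T)) : constSh T P ⟶ E :=
  constLift E
    { app := fun U => AddCommGrpCat.ofHom ((E.obj.map (toTop U.unop).op).hom.comp Λ)
      naturality := by
        intro U V f
        apply AddCommGrpCat.hom_ext
        apply AddMonoidHom.ext
        intro p
        have h : toTop V.unop = f.unop ≫ toTop U.unop := (toTop_comp f.unop).symm
        show E.obj.map (toTop V.unop).op (Λ p) = E.obj.map f (E.obj.map (toTop U.unop).op (Λ p))
        rw [h]
        exact res_comp E (toTop U.unop) f.unop (Λ p) }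

theorem constDesc_constSec {P : Ab1.{u}} (E : EtCoh.Ab T)
    (Λ : P →+ EtCoh.sect E (EtCoh.top T)) (U : T.Etale) (p : P) :
    (constDesc E Λ).hom.app (op U) (constSec P U p) = E.obj.map (toTop U).op (Λ p) :=
  constLift_constSec E _ U p

/-- A morphism to a constant sheaf hitting all constant sections is an epimorphism. -/
theorem epi_of_constSec_mem {Q : EtCoh.Ab T} {N : Ab1.{u}} (q : Q ⟶ constSh T N)
    (h : ∀ (V : T.Etale) (ν : N), ∃ s : EtCoh.sect Q V, q.hom.app (op V) s = constSec N V ν) :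
    Epi q := by
  rw [← Sheaf.isLocallySurjective_iff_epi' (φ := q)]
  refine ⟨fun {U} t => ?_⟩
  rw [Groth.Agent.Lib.EtPushEpi39.mem_smallEtale_iff]
  intro x
  obtain ⟨V, g, ν, ⟨z, hz⟩, hν⟩ := exists_constSec_eq_pt N t x
  obtain ⟨s, hs⟩ := h V ν
  exact ⟨V, g, z, ⟨s, hs.trans hν.symm⟩, hz⟩

/-- An extension of `N̲` (with `N` finite) by a finite locally constant sheaf, killed by `n`, such
that all constant sections of `N̲` lift to global sections, is finite locally constant. -/
theorem isLC_of_ext_global {F E : EtCoh.Ab T} {N : Ab1.{u}} [Finite N]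
    (i : F ⟶ E) (π : E ⟶ constSh T N) (w : i ≫ π = 0)
    (hS : (ShortComplex.mk i π w).ShortExact) (hF : IsLC Ab1.{u} PFin F)
    (n : ℕ) (hn : 0 < n) (hE : EtCoh.KilledBy n E)
    (hl : ∀ ν : N, ∃ e : EtCoh.sect E (EtCoh.top T),
      π.hom.app (op (EtCoh.top T)) e = constSec N (EtCoh.top T) ν) :
    IsLC Ab1.{u} PFin E := by
  classical
  haveI : NeZero n := ⟨hn.ne'⟩
  haveI : Fintype N := Fintype.ofFinite N
  choose e he using hl
  have hB : ∀ b : EtCoh.sect E (EtCoh.top T), n • b = 0 := hE (EtCoh.top T)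
  let Λ₀ : N → (ZMod n →+ EtCoh.sect E (EtCoh.top T)) := fun ν =>
    ZMod.lift n ⟨zmultiplesHom _ (e ν), by
      show (zmultiplesHom _ (e ν)) (n : ℤ) = 0
      simp [hB]⟩
  let Λ : (N → ZMod n) →+ EtCoh.sect E (EtCoh.top T) :=
    ∑ ν, (Λ₀ ν).comp (Pi.evalAddMonoidHom (fun _ => ZMod n) ν)
  have hΛ : ∀ ν, Λ (Pi.single ν 1) = e ν := by
    intro ν
    simp only [Λ, AddMonoidHom.finsetSum_apply, AddMonoidHom.comp_apply,
      Pi.evalAddMonoidHom_apply]
    rw [Finset.sum_eq_single ν]
    · rw [Pi.single_eq_same]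
      have h1 : (1 : ZMod n) = ((1 : ℤ) : ZMod n) := by simp
      simp only [Λ₀]
      rw [h1, ZMod.lift_coe]
      simp
    · intro ν' _ hne
      rw [Pi.single_eq_of_ne hne, map_zero]
    · intro h
      exact absurd (Finset.mem_univ ν) h
  let P : Ab1.{u} := AddCommGrpCat.of (N → ZMod n)
  haveI : Finite P := inferInstanceAs (Finite (N → ZMod n))
  let l : constSh T P ⟶ E := constDesc E Λ
  have hq : ∀ (V : T.Etale) (ν : N),
      (l ≫ π).hom.app (op V) (constSec P V (Pi.single ν 1)) = constSec N V ν := by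
    intro V ν
    show π.hom.app (op V) (l.hom.app (op V) (constSec P V (Pi.single ν 1))) = _
    rw [constDesc_constSec, hΛ, hom_res π (toTop V), he, constSec_res]
  haveI : Epi (l ≫ π) := epi_of_constSec_mem (l ≫ π) fun V ν => ⟨_, hq V ν⟩
  obtain ⟨κ, ⟨ε⟩⟩ :=
    Groth.Agent.Lib.AbelianLift22.exists_iso_cokernel_of_lift i π w hS l
  obtain ⟨P', hP', ⟨εP⟩⟩ := pFin_of_iso_finite P
  obtain ⟨N', hN', ⟨εN⟩⟩ := pFin_of_iso_finite N
  have hPc : IsLC Ab1.{u} PFin (constSh T P) :=
    (isLC_const P' hP').of_iso ((constantSheaf _ _).mapIso εP).symm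
  have hNc : IsLC Ab1.{u} PFin (constSh T N) :=
    (isLC_const N' hN').of_iso ((constantSheaf _ _).mapIso εN).symm
  have hQ : IsLC Ab1.{u} PFin (kernel (l ≫ π)) := (isLC_ker_coker (l ≫ π) hPc hNc).1
  have hFP : IsLC Ab1.{u} PFin (F ⊞ constSh T P) := isLC_biprod hF hPc
  exact (isLC_ker_coker κ hQ hFP).2.of_iso ε.symm

end Groth.Agent.Lib.EtExt22
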