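import Groth.Agent.Lib.EtExt22b

/-!
# Extensions of finite locally constant / constructible étale sheaves, part 3 (helper22)

* `killedBy_iff`, `killedBy_pull`, `killedBy_restr`;
* `isLC_of_ext`: in a short exact sequence of abelian étale sheaves whose middle term is killed by
  `n > 0` and whose outer terms are finite locally constant, the middle term is finite locally
  constant; `isFLC_of_ext`;
* `isConstructible_of_ext`: the same for constructible sheaves.
-/

set_option autoImplicit false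
set_option linter.style.haveILetI false
set_option linter.unusedSectionVars false
universe u

open CategoryTheory AlgebraicGeometry Limits MorphismProperty Opposite

namespace Groth.Agent.Lib.EtExt22

open Groth.Agent.Lib.EtConst Groth.Agent.Lib.EtOverSite22 Groth.Agent.Lib.EtLocConst22
  Groth.Agent.Lib.ConstRestr22 Groth.Agent.Lib.EtConstPush Groth.Agent.Lib.EtLCKer22
  Groth.Agent.Lib.EtTensorRestr65 Groth.Agent.Lib.EtConstr22

variable {T : Scheme.{u}}

theorem nsmul_id_app (F : EtCoh.Ab T) (n : ℕ) (U : T.Etale) (s : EtCoh.sect F U) :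
    ((n • 𝟙 F : F ⟶ F).hom.app (op U)) s = n • s := by
  induction n with
  | zero => simp
  | succ k ih =>
    rw [succ_nsmul, succ_nsmul, ← ih]
    simp

theorem killedBy_iff (F : EtCoh.Ab T) (n : ℕ) : EtCoh.KilledBy n F ↔ (n • 𝟙 F : F ⟶ F) = 0 := by
  constructor
  · intro h
    apply Sheaf.hom_ext
    apply NatTrans.ext
    funext U
    apply AddCommGrpCat.hom_ext
    apply AddMonoidHom.ext
    intro s
    exact (nsmul_id_app F n U.unop s).trans (h U.unop s)
  · intro h U s
    rw [← nsmul_id_app F n U s, h]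
    rfl

theorem killedBy_pull {X : Scheme.{u}} (g : T ⟶ X) {F : EtCoh.Ab X} {n : ℕ}
    (h : EtCoh.KilledBy n F) : EtCoh.KilledBy n ((pullA Ab1.{u} g).obj F) := by
  rw [killedBy_iff] at h ⊢
  haveI : (pullA Ab1.{u} g).Additive := Functor.additive_of_preserves_binary_products _
  have h1 : (pullA Ab1.{u} g).map (n • 𝟙 F) = n • 𝟙 _ := by
    rw [Functor.map_nsmul, CategoryTheory.Functor.map_id]
  rw [← h1, h, Functor.map_zero]

theorem killedBy_restr (W : T.Etale) {F : EtCoh.Ab T} {n : ℕ} (h : EtCoh.KilledBy n F) :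
    EtCoh.KilledBy n ((restrAlongA W Ab1.{u}).obj F) :=
  fun V s => h ((EtShriek.compEtale (homX W)).obj V) s

/-- Restriction form of local constancy. -/
theorem exists_restr_iso_of_isLC {F : EtCoh.Ab T} {P : Ab1.{u} → Prop} (h : IsLC Ab1.{u} P F) :
    ∃ (ι : Type u) (U : ι → T.Etale), EtCoh.Covers U ∧ ∀ i, ∃ M : Ab1.{u}, P M ∧
      Nonempty ((restrAlongA (U i) Ab1.{u}).obj F ≅ constSh (U i).left M) := by
  obtain ⟨ι, U, hU, h⟩ := (isLC_iff_pull F).1 h
  refine ⟨ι, U, hU, fun i => ?_⟩
  obtain ⟨M, hM, ⟨α⟩⟩ := h i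
  exact ⟨M, hM, ⟨((pullIsoRestrA Ab1.{u} (U i)).app F).symm ≪≫ α⟩⟩

/-- An extension of a constant sheaf with finite value by a finite locally constant sheaf, killed
by `n > 0`, is finite locally constant. -/
theorem isLC_of_ext_const (S : ShortComplex (EtCoh.Ab T)) (hS : S.ShortExact) {N : Ab1.{u}}
    [Finite N] (β : S.X₃ ≅ constSh T N) (hF : IsLC Ab1.{u} PFin S.X₁)
    (n : ℕ) (hn : 0 < n) (hE : EtCoh.KilledBy n S.X₂) : IsLC Ab1.{u} PFin S.X₂ := by
  classical
  haveI : Fintype N := Fintype.ofFinite N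
  let π₁ : S.X₂ ⟶ constSh T N := S.g ≫ β.hom
  have w₁ : S.f ≫ π₁ = 0 := by simp [π₁]
  have hS₁ : (ShortComplex.mk S.f π₁ w₁).ShortExact :=
    ShortComplex.shortExact_of_iso
      (ShortComplex.isoMk (Iso.refl _) (Iso.refl _) β (by simp) (by simp [π₁]) :
        S ≅ ShortComplex.mk S.f π₁ w₁) hS
  haveI : Epi π₁ := hS₁.epi_g
  let l : List (EtCoh.sect (constSh T N) (EtCoh.top T)) :=
    (Finset.univ : Finset N).toList.map (fun ν => constSec N (EtCoh.top T) ν)
  have hx := fun x : T => exists_lift_list π₁ l (x : (EtCoh.top T).left)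
  choose W g hW hl using hx
  have hcov : EtCoh.Covers W := by
    intro x
    obtain ⟨y, hy⟩ := hW x
    refine ⟨x, y, ?_⟩
    have hw : (g x).left ≫ (EtCoh.top T).hom = (W x).hom := Over.w (g x)
    rw [← hw]
    exact hy
  refine isLC_of_cover_restr W hcov fun x => ?_
  let R := restrAlongA (W x) Ab1.{u}
  let γ := restrConstIso (W x) N
  let π₂ : R.obj S.X₂ ⟶ constSh (W x).left N := R.map π₁ ≫ γ.hom
  have w₂ : R.map S.f ≫ π₂ = 0 := by
    simp only [π₂]
    rw [← Category.assoc, ← R.map_comp, w₁, Functor.map_zero, zero_comp]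
  have hS₂ : ((ShortComplex.mk S.f π₁ w₁).map R).ShortExact := hS₁.map_of_exact R
  have hS₃ : (ShortComplex.mk (R.map S.f) π₂ w₂).ShortExact :=
    ShortComplex.shortExact_of_iso
      (ShortComplex.isoMk (Iso.refl _) (Iso.refl _) γ
        ((Category.id_comp _).trans (Category.comp_id _).symm) (Category.id_comp _) :
        (ShortComplex.mk S.f π₁ w₁).map R ≅ ShortComplex.mk (R.map S.f) π₂ w₂) hS₂
  refine isLC_of_ext_global (R.map S.f) π₂ w₂ hS₃ (isLC_restr hF (W x)) n hn (killedBy_restr (W x) hE)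
    fun ν => ?_
  obtain ⟨e, he⟩ := hl x (constSec N (EtCoh.top T) ν) (List.mem_map.2 ⟨ν, by simp, rfl⟩)
  rw [constSec_res] at he
  let c : (EtShriek.compEtale (homX (W x))).obj (EtCoh.top (W x).left) ⟶ W x :=
    strHom (W x) (EtCoh.top (W x).left)
  refine ⟨S.X₂.obj.map c.op e, ?_⟩
  show γ.hom.hom.app (op (EtCoh.top (W x).left))
    (π₁.hom.app (op ((EtShriek.compEtale (homX (W x))).obj (EtCoh.top (W x).left)))
      (S.X₂.obj.map c.op e)) = _
  rw [hom_res π₁ c e, he, constSec_res]
  exact restrConstIso_hom_constSec (W x) N (EtCoh.top (W x).left) ν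

/-- In a short exact sequence of abelian étale sheaves whose middle term is killed by `n > 0`
and whose outer terms are finite locally constant, the middle term is finite locally constant. -/
theorem isLC_of_ext (S : ShortComplex (EtCoh.Ab T)) (hS : S.ShortExact)
    (n : ℕ) (hn : 0 < n) (hE : EtCoh.KilledBy n S.X₂)
    (h1 : IsLC Ab1.{u} PFin S.X₁) (h3 : IsLC Ab1.{u} PFin S.X₃) : IsLC Ab1.{u} PFin S.X₂ := by
  obtain ⟨ι, U, hU, h⟩ := exists_restr_iso_of_isLC h3
  refine isLC_of_cover_restr U hU fun i => ?_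
  obtain ⟨N, hN, ⟨β⟩⟩ := h i
  haveI := pFin_finite hN
  let R := restrAlongA (U i) Ab1.{u}
  exact isLC_of_ext_const (S.map R) (hS.map_of_exact R) β (isLC_restr h1 (U i)) n hn
    (killedBy_restr (U i) hE)

theorem isFLC_of_ext (S : ShortComplex (EtCoh.Ab T)) (hS : S.ShortExact)
    (n : ℕ) (hn : 0 < n) (hE : EtCoh.KilledBy n S.X₂)
    (h1 : EtCoh.IsFiniteLocallyConstant S.X₁) (h3 : EtCoh.IsFiniteLocallyConstant S.X₃) :
    EtCoh.IsFiniteLocallyConstant S.X₂ :=
  (isFLC_iff_isLC _).2 (isLC_of_ext S hS n hn hE ((isFLC_iff_isLC _).1 h1) ((isFLC_iff_isLC _).1 h3))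

/-- In a short exact sequence of abelian étale sheaves whose middle term is killed by `n > 0`
and whose outer terms are constructible, the middle term is constructible. -/
theorem isConstructible_of_ext {X : Scheme.{u}} (S : ShortComplex (EtCoh.Ab X)) (hS : S.ShortExact)
    (n : ℕ) (hn : 0 < n) (hE : EtCoh.KilledBy n S.X₂)
    (h1 : EtPBC.IsConstructible S.X₁) (h3 : EtPBC.IsConstructible S.X₃) :
    EtPBC.IsConstructible S.X₂ := by
  have h1' := (isConstructible_iff S.X₁).1 h1
  have h3' := (isConstructible_iff S.X₃).1 h3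
  refine (isConstructible_iff _).2 (IsConstructibleA.of_pair h1' h3' fun T g k1 k3 => ?_)
  let p := pullA Ab1.{u} g
  haveI : p.Additive := Functor.additive_of_preserves_binary_products _
  exact isLC_of_ext (S.map p) (hS.map_of_exact p) n hn (killedBy_pull g hE) k1 k3

end Groth.Agent.Lib.EtExt22
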