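import Groth.Agent.Lib.EtExt22c

/-!
# Extensions of finite locally constant étale sheaves, part 4 (helper22)

Extensions of finite locally constant abelian étale sheaves are finite locally constant, without
any torsion hypothesis on the middle term (it is automatically torsion étale-locally).
-/

set_option autoImplicit false
set_option linter.style.haveILetI false
set_option linter.unusedSectionVars false
universe u

open CategoryTheory AlgebraicGeometry Limits MorphismProperty Opposite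

namespace Groth.Agent.Lib.EtExt22

open Groth.Agent.Lib.EtConst Groth.Agent.Lib.EtOverSite22 Groth.Agent.Lib.EtLocConst22
  Groth.Agent.Lib.ConstRestr22 Groth.Agent.Lib.EtConstPush Groth.Agent.Lib.EtLCKer22
  Groth.Agent.Lib.EtTensorRestr65

/-- In a short exact sequence whose outer terms are killed by `n₁` and `n₃`, the middle term is
killed by `n₁ * n₃`. -/
theorem nsmul_id_eq_zero_of_shortExact {C : Type*} [Category C] [Abelian C] (S : ShortComplex C)
    (hS : S.ShortExact) (n₁ n₃ : ℕ) (h₁ : n₁ • 𝟙 S.X₁ = 0) (h₃ : n₃ • 𝟙 S.X₃ = 0) :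
    (n₁ * n₃) • 𝟙 S.X₂ = 0 := by
  haveI := hS.mono_f
  have h : (n₃ • 𝟙 S.X₂) ≫ S.g = 0 := by
    rw [Preadditive.nsmul_comp, Category.id_comp, ← Category.comp_id S.g,
      ← Preadditive.comp_nsmul, h₃, comp_zero]
  have hk := hS.exact.lift_f (n₃ • 𝟙 S.X₂) h
  rw [mul_comm, mul_nsmul, ← hk, ← Preadditive.comp_nsmul]
  have : n₁ • S.f = 0 := by
    rw [← Category.id_comp S.f, ← Preadditive.nsmul_comp, h₁, zero_comp]
  rw [this, comp_zero]

theorem nsmul_id_eq_zero_of_iso {C : Type*} [Category C] [Preadditive C] {A B : C} (e : A ≅ B)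
    (n : ℕ) (h : n • 𝟙 B = 0) : n • 𝟙 A = 0 := by
  have : 𝟙 A = e.hom ≫ 𝟙 B ≫ e.inv := by simp
  rw [this, ← Preadditive.comp_nsmul, ← Preadditive.nsmul_comp, h, zero_comp, comp_zero]

variable {T : Scheme.{u}}

/-- A constant sheaf with finite value is killed by the order of the value group. -/
theorem nsmul_id_constSh (N : Ab1.{u}) [Finite N] : Nat.card N • 𝟙 (constSh T N) = 0 := by
  let Φ := constantSheaf T.smallEtaleTopology Ab1.{u}
  haveI : PreservesBiproductsOfShape WalkingPair Φ := PreservesFiniteBiproducts.preserves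
  haveI : Φ.Additive := inferInstance
  have h0 : Nat.card N • 𝟙 N = 0 := by
    ext x
    change Nat.card N • x = 0
    exact card_nsmul_eq_zero'
  have h1 : Φ.map (Nat.card N • 𝟙 N) = Nat.card N • 𝟙 (Φ.obj N) := by
    rw [Functor.map_nsmul, CategoryTheory.Functor.map_id]
  exact h1.symm.trans ((congrArg Φ.map h0).trans (Φ.map_zero _ _))

/-- Extensions of finite locally constant sheaves are finite locally constant. -/
theorem isLC_of_ext' (S : ShortComplex (EtCoh.Ab T)) (hS : S.ShortExact)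
    (h1 : IsLC Ab1.{u} PFin S.X₁) (h3 : IsLC Ab1.{u} PFin S.X₃) : IsLC Ab1.{u} PFin S.X₂ := by
  obtain ⟨ι, U, hU, h⟩ := exists_common_cover h1 h3
  refine isLC_of_cover_restr U hU fun i => ?_
  obtain ⟨⟨M, hM, ⟨α⟩⟩, ⟨N, hN, ⟨β⟩⟩⟩ := h i
  haveI := pFin_finite hM
  haveI := pFin_finite hN
  let R := restrAlongA (U i) Ab1.{u}
  have α' : R.obj S.X₁ ≅ constSh (U i).left M := ((pullIsoRestrA Ab1.{u} (U i)).app S.X₁).symm ≪≫ α
  have β' : R.obj S.X₃ ≅ constSh (U i).left N := ((pullIsoRestrA Ab1.{u} (U i)).app S.X₃).symm ≪≫ β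
  have k1 : Nat.card M • 𝟙 (S.map R).X₁ = 0 := nsmul_id_eq_zero_of_iso α' _ (nsmul_id_constSh M)
  have k3 : Nat.card N • 𝟙 (S.map R).X₃ = 0 := nsmul_id_eq_zero_of_iso β' _ (nsmul_id_constSh N)
  have k2 := nsmul_id_eq_zero_of_shortExact (S.map R) (hS.map_of_exact R) _ _ k1 k3
  exact isLC_of_ext (S.map R) (hS.map_of_exact R) (Nat.card M * Nat.card N)
    (Nat.mul_pos Nat.card_pos Nat.card_pos) ((killedBy_iff _ _).2 k2)
    (isLC_restr h1 (U i)) (isLC_restr h3 (U i))

theorem isFLC_of_ext' (S : ShortComplex (EtCoh.Ab T)) (hS : S.ShortExact)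
    (h1 : EtCoh.IsFiniteLocallyConstant S.X₁) (h3 : EtCoh.IsFiniteLocallyConstant S.X₃) :
    EtCoh.IsFiniteLocallyConstant S.X₂ :=
  (isFLC_iff_isLC _).2 (isLC_of_ext' S hS ((isFLC_iff_isLC _).1 h1) ((isFLC_iff_isLC _).1 h3))

end Groth.Agent.Lib.EtExt22
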