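import Groth.Agent.Lib.EtStalkPullGerm
import Groth.Prelude.Def_EtShriek2
import Mathlib.CategoryTheory.Adjunction.Triple

/-!
# Extension by zero along an etale morphism (helper39)

For an etale morphism `j : U ⟶ X`:
* `siteAdj j : compEtale j ⊣ bc j`, `restrPushAdj j : j⁻¹ ⊣ j_*` (with `j⁻¹ = restrAlong j`),
  `restrIsoPull j : restrAlong j ≅ pull j`, `stalkRestrIso j u : (j⁻¹ G)_u ≅ G_{j u}`;
* for `j` a monomorphism (e.g. an open immersion): `isIso_restrPushAdj_counit`
  (`j⁻¹ j_* ⟶ 𝟭` is an isomorphism) and `isIso_extZeroAdj_unit` (`𝟭 ⟶ j⁻¹ j_!` is an isomorphism);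
* `Lifts j ξ` (the geometric points of `U` over `ξ`), `skyEquiv` (morphisms `∐_u F_u ⟶ M` correspond
  to morphisms `F ⟶ j⁻¹ sky_ξ M`), `coprodStalk j ξ`, `coprodStalkAdj`,
  `stalkExtZeroIso j ξ : extZero j ⋙ stalk ξ ≅ coprodStalk j ξ`, i.e. `(j_! F)_ξ ≅ ∐_u F_u`;
* `isZero_stalk_extZero`: `(j_! F)_ξ = 0` if `ξ` does not lift to `U`.
-/

set_option autoImplicit false
set_option linter.unusedSectionVars false
universe u
open CategoryTheory CategoryTheory.Limits AlgebraicGeometry Opposite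

namespace Groth.Agent.Lib.EtExtZero

open Groth.Agent.Lib.EtGerm Groth.Agent.Lib.EtStalkPull Groth.Agent.Lib.EtStalkPullGerm

section adjunctions

variable {U X : Scheme.{u}} (j : U ⟶ X) [hj : AlgebraicGeometry.Etale j]

/-- `V ↦ (V → U → X)` is left adjoint to base change along `j` -/
noncomputable def siteAdj : EtShriek.compEtale j ⊣ EtCoh.bc j :=
  MorphismProperty.Over.mapPullbackAdj EtCoh.etaleMP.{u} ⊤ j hj trivial

variable [EtShriek.JCont j]

/-- restriction along an etale morphism is left adjoint to direct image -/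
noncomputable def restrPushAdj : EtShriek.restrAlong j ⊣ EtCoh.push j :=
  (siteAdj j).sheafPushforwardContinuous _ _

/-- restriction along an etale morphism is the inverse image -/
noncomputable def restrIsoPull : EtShriek.restrAlong j ≅ EtCoh.pull j :=
  (restrPushAdj j).leftAdjointUniq (EtCoh.pullPushAdj j)


instance isIso_siteAdj_unit [Mono j] : IsIso (siteAdj j).unit := inferInstance

lemma isIso_whisker_counit_app [Mono j] (P : U.Etaleᵒᵖ ⥤ AddCommGrpCat.{u+1}) :
    IsIso ((Adjunction.whiskerLeft AddCommGrpCat.{u+1} (siteAdj j).op).counit.app P) := by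
  rw [NatTrans.isIso_iff_isIso_app]
  intro V
  rw [Adjunction.whiskerLeft_counit_app_app]
  have h1 : IsIso ((siteAdj j).op.counit.app V) := by
    have : IsIso ((siteAdj j).unit.app V.unop) := inferInstance
    show IsIso ((siteAdj j).unit.app V.unop).op
    infer_instance
  exact Functor.map_isIso P _

lemma isIso_restrPushAdj_counit_app [Mono j] (G : EtCoh.Ab U) :
    IsIso ((restrPushAdj j).counit.app G) := by
  have : IsIso ((sheafToPresheaf _ _).map ((restrPushAdj j).counit.app G)) :=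
    isIso_whisker_counit_app j G.obj
  exact isIso_of_reflects_iso _ (sheafToPresheaf _ _)

instance isIso_restrPushAdj_counit [Mono j] : IsIso (restrPushAdj j).counit :=
  have := isIso_restrPushAdj_counit_app j
  NatIso.isIso_of_isIso_app _

/-- for a monomorphism `j` (e.g. an open immersion), the unit `F ⟶ j⁻¹ j_! F` is an isomorphism -/
instance isIso_extZeroAdj_unit [Mono j] : IsIso (EtShriek.extZeroAdj j).unit :=
  (Adjunction.Triple.isIso_unit_iff_isIso_counit ⟨EtShriek.extZeroAdj j, restrPushAdj j⟩).2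
    (isIso_restrPushAdj_counit j)


/-- stalks of the restriction along an etale morphism -/
noncomputable def stalkRestrIso {Ω : Type u} [Field Ω] [IsSepClosed Ω]
    (u : Spec (CommRingCat.of Ω) ⟶ U) :
    EtShriek.restrAlong j ⋙ EtCoh.stalk u ≅ EtCoh.stalk (u ≫ j) :=
  Functor.isoWhiskerRight (restrIsoPull j) (EtCoh.stalk u) ≪≫ stalkPullIso j u

end adjunctions

section stalks

variable {U X : Scheme.{u}} (j : U ⟶ X) [hj : AlgebraicGeometry.Etale j]
  {Ω : Type u} [Field Ω] [IsSepClosed Ω] (ξ : Spec (CommRingCat.of Ω) ⟶ X)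

/-- the geometric points of `U` over `ξ` -/
abbrev Lifts : Type u := {u : Spec (CommRingCat.of Ω) ⟶ U // u ≫ j = ξ}

variable {j ξ}

/-- the underlying morphism of a neighbourhood -/
noncomputable def nleft {Y : Scheme.{u}} {ζ : Spec (CommRingCat.of Ω) ⟶ Y} {V : Y.Etale}
    (y : Nbhd ζ V) : Spec (CommRingCat.of Ω) ⟶ V.left :=
  (CommaMorphism.left y : Spec (CommRingCat.of Ω) ⟶ V.left)

lemma nleft_hom {Y : Scheme.{u}} {ζ : Spec (CommRingCat.of Ω) ⟶ Y} {V : Y.Etale}
    (y : Nbhd ζ V) : nleft y ≫ V.hom = ζ := Over.w y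

lemma nleft_map {Y : Scheme.{u}} {ζ : Spec (CommRingCat.of Ω) ⟶ Y} {V V' : Y.Etale}
    (g : V' ⟶ V) (y : Nbhd ζ V') : nleft (Nbhd.map ζ g y) = nleft y ≫ g.left := rfl

lemma nbhd_ext {Y : Scheme.{u}} {ζ : Spec (CommRingCat.of Ω) ⟶ Y} {V : Y.Etale}
    (y y' : Nbhd ζ V) (h : nleft y = nleft y') : y = y' :=
  Over.OverMorphism.ext h

/-- a neighbourhood of a lift `u` of `ξ` gives a neighbourhood of `ξ` -/
noncomputable def incl (u : Lifts j ξ) {V : U.Etale} (z : Nbhd u.1 V) :
    Nbhd ξ ((EtShriek.compEtale j).obj V) :=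
  let f : Spec (CommRingCat.of Ω) ⟶ V.left := nleft z
  have hf : f ≫ (V.hom ≫ j) = ξ :=
    (Category.assoc _ _ _).symm.trans ((congrArg (· ≫ j) (nleft_hom z)).trans u.2)
  (Over.homMk f hf : Over.mk ξ ⟶ (Scheme.Etale.forget X).obj ((EtShriek.compEtale j).obj V))

/-- the lift of `ξ` determined by a neighbourhood of `ξ` of the form `V → U → X` -/
noncomputable def uOf {V : U.Etale} (x : Nbhd ξ ((EtShriek.compEtale j).obj V)) : Lifts j ξ :=
  ⟨nleft x ≫ V.hom, (Category.assoc _ _ _).trans (nleft_hom x)⟩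

/-- a neighbourhood of `ξ` of the form `V → U → X` as a neighbourhood of the induced lift -/
noncomputable def zOf {V : U.Etale} (x : Nbhd ξ ((EtShriek.compEtale j).obj V)) :
    Nbhd (uOf x).1 V :=
  let f : Spec (CommRingCat.of Ω) ⟶ V.left := nleft (V := (EtShriek.compEtale j).obj V) x
  have hf : f ≫ V.hom = (uOf x).1 := rfl
  (Over.homMk f hf : Over.mk (uOf x).1 ⟶ (Scheme.Etale.forget U).obj V)

lemma nleft_incl (u : Lifts j ξ) {V : U.Etale} (z : Nbhd u.1 V) : nleft (incl u z) = nleft z := rfl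

lemma nleft_zOf {V : U.Etale} (x : Nbhd ξ ((EtShriek.compEtale j).obj V)) :
    nleft (zOf x) = nleft x := rfl

lemma incl_uOf_zOf {V : U.Etale} (x : Nbhd ξ ((EtShriek.compEtale j).obj V)) :
    incl (uOf x) (zOf x) = x :=
  nbhd_ext _ _ rfl

lemma uOf_incl (u : Lifts j ξ) {V : U.Etale} (z : Nbhd u.1 V) : uOf (incl u z) = u :=
  Subtype.ext (nleft_hom z)

lemma uOf_map {V V' : U.Etale} (g : V' ⟶ V) (x : Nbhd ξ ((EtShriek.compEtale j).obj V')) :
    uOf (Nbhd.map ξ ((EtShriek.compEtale j).map g) x) = uOf x := by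
  apply Subtype.ext
  show (nleft x ≫ g.left) ≫ V.hom = nleft x ≫ V'.hom
  exact (Category.assoc _ _ _).trans (congrArg (nleft x ≫ ·) (Over.w g.hom))


variable (j ξ) in
/-- the family of stalks at the lifts of `ξ` -/
noncomputable abbrev stalkFam (F : EtCoh.Ab U) (u : Lifts j ξ) : AddCommGrpCat.{u+1} :=
  (Scheme.pointSmallEtale u.1).presheafFiber.obj F.obj

lemma toFiber_ι_congr (F : EtCoh.Ab U) {V : U.Etale} (u u' : Lifts j ξ) (h : u = u')
    (z : Nbhd u.1 V) (z' : Nbhd u'.1 V) (hz : nleft z = nleft z') :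
    (Scheme.pointSmallEtale u.1).toPresheafFiber V z F.obj ≫ Sigma.ι (stalkFam j ξ F) u =
      (Scheme.pointSmallEtale u'.1).toPresheafFiber V z' F.obj ≫ Sigma.ι (stalkFam j ξ F) u' := by
  subst h
  rw [nbhd_ext z z' hz]

/-- the germ map into the coproduct of stalks -/
noncomputable def comp (F : EtCoh.Ab U) {V : U.Etale} (x : Nbhd ξ ((EtShriek.compEtale j).obj V)) :
    F.obj.obj (op V) ⟶ ∐ (stalkFam j ξ F) :=
  (Scheme.pointSmallEtale (uOf x).1).toPresheafFiber V (zOf x) F.obj ≫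
    Sigma.ι (stalkFam j ξ F) (uOf x)

lemma comp_incl (F : EtCoh.Ab U) (u : Lifts j ξ) {V : U.Etale} (z : Nbhd u.1 V) :
    comp F (incl u z) =
      (Scheme.pointSmallEtale u.1).toPresheafFiber V z F.obj ≫ Sigma.ι (stalkFam j ξ F) u :=
  toFiber_ι_congr F _ _ (uOf_incl u z) _ _ rfl

lemma comp_w (F : EtCoh.Ab U) {V V' : U.Etale} (g : V' ⟶ V)
    (x : Nbhd ξ ((EtShriek.compEtale j).obj V')) :
    F.obj.map g.op ≫ comp F x = comp F (Nbhd.map ξ ((EtShriek.compEtale j).map g) x) := by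
  unfold comp
  refine (Category.assoc _ _ _).symm.trans ((congrArg (· ≫ Sigma.ι (stalkFam j ξ F) (uOf x))
    ((Scheme.pointSmallEtale (uOf x).1).toPresheafFiber_w g (zOf x) F.obj)).trans ?_)
  exact toFiber_ι_congr F _ _ (uOf_map g x).symm _ _ rfl


omit hj in
lemma sky_map_π {Y : Scheme.{u}} (ζ : Spec (CommRingCat.of Ω) ⟶ Y) (M : AddCommGrpCat.{u+1})
    {W W' : Y.Etale} (k : W' ⟶ W) (x : Nbhd ζ W') :
    ((Scheme.pointSmallEtale ζ).skyscraperSheafFunctor.obj M).obj.map k.op ≫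
        Pi.π (fun _ : Nbhd ζ W' => M) x =
      Pi.π (fun _ : Nbhd ζ W => M) (Nbhd.map ζ k x) := by
  have h := GrothendieckTopology.Point.skyscraperPresheafFunctor_obj_map
    (Scheme.pointSmallEtale ζ) M k.op
  refine (congrArg (· ≫ Pi.π (fun _ : Nbhd ζ W' => M) x) h).trans ?_
  refine (Pi.map'_comp_π _ _ x).trans ?_
  exact Category.comp_id _

variable [EtShriek.JCont j]

variable (j ξ) in
/-- the right adjoint `M ↦ j⁻¹ (skyscraper_ξ M)` -/
noncomputable abbrev skyRestr : AddCommGrpCat.{u+1} ⥤ EtCoh.Ab U :=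
  (Scheme.pointSmallEtale ξ).skyscraperSheafFunctor ⋙ EtShriek.restrAlong j

/-- a morphism from the coproduct of the stalks gives a morphism to the restricted skyscraper -/
noncomputable def toSky (F : EtCoh.Ab U) (M : AddCommGrpCat.{u+1}) (f : ∐ (stalkFam j ξ F) ⟶ M) :
    F ⟶ (skyRestr j ξ).obj M :=
  ⟨{ app := fun V => Pi.lift (fun x : Nbhd ξ ((EtShriek.compEtale j).obj V.unop) => comp F x ≫ f)
     naturality := by
      intro V V' g
      refine Limits.Pi.hom_ext _ _ (fun x => ?_)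
      refine (Category.assoc _ _ _).trans ?_
      refine (congrArg (F.obj.map g ≫ ·) (Pi.lift_π _ x)).trans ?_
      refine Eq.trans ?_ (Category.assoc _ _ _).symm
      refine Eq.trans ?_ (congrArg (Pi.lift _ ≫ ·)
        (sky_map_π ξ M ((EtShriek.compEtale j).map g.unop) x)).symm
      refine Eq.trans ?_ (Pi.lift_π (fun x : Nbhd ξ ((EtShriek.compEtale j).obj V.unop) =>
        comp F x ≫ f) (Nbhd.map ξ ((EtShriek.compEtale j).map g.unop) x)).symm
      refine (Category.assoc _ _ _).symm.trans ?_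
      exact congrArg (· ≫ f) (comp_w F g.unop x) }⟩


omit [EtShriek.JCont j] in
lemma incl_map (u : Lifts j ξ) {V V' : U.Etale} (g : V' ⟶ V) (z : Nbhd u.1 V') :
    Nbhd.map ξ ((EtShriek.compEtale j).map g) (incl u z) = incl u (Nbhd.map u.1 g z) :=
  nbhd_ext _ _ rfl

/-- the component at `(V, z)` of the morphism `F_u ⟶ M` induced by `G : F ⟶ j⁻¹ sky_ξ M` -/
noncomputable def fromSkyComp (F : EtCoh.Ab U) (M : AddCommGrpCat.{u+1})
    (G : F ⟶ (skyRestr j ξ).obj M) (u : Lifts j ξ) (V : U.Etale) (z : Nbhd u.1 V) :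
    F.obj.obj (op V) ⟶ M :=
  G.hom.app (op V) ≫ Pi.π (fun _ : Nbhd ξ ((EtShriek.compEtale j).obj V) => M) (incl u z)

lemma fromSkyComp_w (F : EtCoh.Ab U) (M : AddCommGrpCat.{u+1})
    (G : F ⟶ (skyRestr j ξ).obj M) (u : Lifts j ξ) {V V' : U.Etale} (g : V' ⟶ V)
    (z : Nbhd u.1 V') :
    F.obj.map g.op ≫ fromSkyComp F M G u V' z = fromSkyComp F M G u V (Nbhd.map u.1 g z) := by
  unfold fromSkyComp
  refine (Category.assoc _ _ _).symm.trans ?_
  refine (congrArg (· ≫ Pi.π (fun _ : Nbhd ξ ((EtShriek.compEtale j).obj V') => M) (incl u z))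
    (G.hom.naturality g.op)).trans ?_
  refine (Category.assoc _ _ _).trans ?_
  refine congrArg (G.hom.app (op V) ≫ ·) ?_
  refine (sky_map_π ξ M ((EtShriek.compEtale j).map g) (incl u z)).trans ?_
  rw [incl_map]

/-- a morphism to the restricted skyscraper gives a morphism from the coproduct of the stalks -/
noncomputable def fromSky (F : EtCoh.Ab U) (M : AddCommGrpCat.{u+1})
    (G : F ⟶ (skyRestr j ξ).obj M) : ∐ (stalkFam j ξ F) ⟶ M :=
  Sigma.desc (fun u => (Scheme.pointSmallEtale u.1).presheafFiberDesc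
    (fun V z => fromSkyComp F M G u V z) (fun _ _ g z => fromSkyComp_w F M G u g z))


lemma toSky_app_π (F : EtCoh.Ab U) (M : AddCommGrpCat.{u+1}) (f : ∐ (stalkFam j ξ F) ⟶ M)
    (V : U.Etale) (x : Nbhd ξ ((EtShriek.compEtale j).obj V)) :
    (toSky F M f).hom.app (op V) ≫
      Pi.π (fun _ : Nbhd ξ ((EtShriek.compEtale j).obj V) => M) x = comp F x ≫ f :=
  Pi.lift_π _ x

lemma ι_fromSky (F : EtCoh.Ab U) (M : AddCommGrpCat.{u+1}) (G : F ⟶ (skyRestr j ξ).obj M)
    (u : Lifts j ξ) (V : U.Etale) (z : Nbhd u.1 V) :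
    (Scheme.pointSmallEtale u.1).toPresheafFiber V z F.obj ≫ Sigma.ι (stalkFam j ξ F) u ≫
      fromSky F M G = fromSkyComp F M G u V z := by
  unfold fromSky
  rw [Sigma.ι_desc]
  exact (Scheme.pointSmallEtale u.1).toPresheafFiber_presheafFiberDesc _ _ V z

lemma fromSky_toSky (F : EtCoh.Ab U) (M : AddCommGrpCat.{u+1}) (f : ∐ (stalkFam j ξ F) ⟶ M) :
    fromSky F M (toSky F M f) = f := by
  refine Sigma.hom_ext _ _ (fun u => ?_)
  refine (Scheme.pointSmallEtale u.1).presheafFiber_hom_ext (fun V z => ?_)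
  refine (ι_fromSky F M (toSky F M f) u V z).trans ?_
  unfold fromSkyComp
  refine (toSky_app_π F M f V (incl u z)).trans ?_
  rw [comp_incl, Category.assoc]

lemma toSky_fromSky (F : EtCoh.Ab U) (M : AddCommGrpCat.{u+1}) (G : F ⟶ (skyRestr j ξ).obj M) :
    toSky F M (fromSky F M G) = G := by
  apply Sheaf.hom_ext
  apply NatTrans.ext
  funext V
  refine Limits.Pi.hom_ext _ _ (fun x => ?_)
  refine (toSky_app_π F M (fromSky F M G) V.unop x).trans ?_
  unfold comp
  refine (Category.assoc _ _ _).trans ?_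
  refine (ι_fromSky F M G (uOf x) V.unop (zOf x)).trans ?_
  unfold fromSkyComp
  rw [incl_uOf_zOf]
  rfl

variable (j ξ) in
/-- morphisms from the coproduct of the stalks at the lifts of `ξ` correspond to morphisms to the
restriction of the skyscraper sheaf at `ξ` -/
noncomputable def skyEquiv (F : EtCoh.Ab U) (M : AddCommGrpCat.{u+1}) :
    (∐ (stalkFam j ξ F) ⟶ M) ≃ (F ⟶ (skyRestr j ξ).obj M) where
  toFun := toSky F M
  invFun := fromSky F M
  left_inv := fromSky_toSky F M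
  right_inv := toSky_fromSky F M

lemma skyEquiv_naturality (F : EtCoh.Ab U) {M M' : AddCommGrpCat.{u+1}}
    (f : ∐ (stalkFam j ξ F) ⟶ M) (g : M ⟶ M') :
    skyEquiv j ξ F M' (f ≫ g) = skyEquiv j ξ F M f ≫ (skyRestr j ξ).map g := by
  apply Sheaf.hom_ext
  apply NatTrans.ext
  funext V
  refine Limits.Pi.hom_ext _ _ (fun x => ?_)
  refine (toSky_app_π F M' (f ≫ g) V.unop x).trans ?_
  have h1 : ((skyRestr j ξ).map g).hom.app V = Limits.Pi.map (fun _ => g) :=
    GrothendieckTopology.Point.skyscraperPresheafFunctor_map_app (Scheme.pointSmallEtale ξ) g _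
  show _ = ((toSky F M f).hom.app V ≫ ((skyRestr j ξ).map g).hom.app V) ≫ _
  refine Eq.trans ?_ (Category.assoc _ _ _).symm
  have h2 : ((skyRestr j ξ).map g).hom.app V ≫
      Pi.π (fun _ : Nbhd ξ ((EtShriek.compEtale j).obj V.unop) => M') x =
      Pi.π (fun _ : Nbhd ξ ((EtShriek.compEtale j).obj V.unop) => M) x ≫ g :=
    (congrArg (· ≫ Pi.π (fun _ : Nbhd ξ ((EtShriek.compEtale j).obj V.unop) => M') x) h1).trans
      (Pi.map_π _ x)
  refine Eq.trans ?_ (congrArg ((toSky F M f).hom.app V ≫ ·) h2).symm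
  refine Eq.trans ?_ (Category.assoc _ _ _)
  refine Eq.trans ?_ (congrArg (· ≫ g) (toSky_app_π F M f V.unop x)).symm
  exact (Category.assoc _ _ _).symm


variable (j ξ)

/-- the functor `F ↦ ∐_u F_u`, `u` running over the lifts of `ξ` to `U` -/
noncomputable def coprodStalk : EtCoh.Ab U ⥤ AddCommGrpCat.{u+1} :=
  Adjunction.leftAdjointOfEquiv (G := skyRestr j ξ) (F_obj := fun F => ∐ (stalkFam j ξ F))
    (fun F M => skyEquiv j ξ F M) (fun F _ _ g h => skyEquiv_naturality F h g)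

/-- `F ↦ ∐_u F_u` is left adjoint to `M ↦ j⁻¹ sky_ξ M` -/
noncomputable def coprodStalkAdj : coprodStalk j ξ ⊣ skyRestr j ξ :=
  Adjunction.adjunctionOfEquivLeft _ _

/-- the stalk of the extension by zero at `ξ` is the coproduct of the stalks at the lifts of `ξ` -/
noncomputable def stalkExtZeroIso : EtShriek.extZero j ⋙ EtCoh.stalk ξ ≅ coprodStalk j ξ :=
  ((EtShriek.extZeroAdj j).comp
    (Scheme.pointSmallEtale ξ).skyscraperSheafAdjunction).leftAdjointUniq (coprodStalkAdj j ξ)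

lemma coprodStalk_obj (F : EtCoh.Ab U) :
    (coprodStalk j ξ).obj F = ∐ fun u : Lifts j ξ => (EtCoh.stalk u.1).obj F := rfl


/-- the stalk of the extension by zero vanishes at geometric points which do not lift to `U` -/
lemma isZero_stalk_extZero (F : EtCoh.Ab U) (h : IsEmpty (Lifts j ξ)) :
    IsZero ((EtCoh.stalk ξ).obj ((EtShriek.extZero j).obj F)) := by
  refine IsZero.of_iso ?_ ((stalkExtZeroIso j ξ).app F)
  rw [coprodStalk_obj]
  rw [IsZero.iff_id_eq_zero]
  exact Sigma.hom_ext _ _ (fun u => h.elim u)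

end stalks

end Groth.Agent.Lib.EtExtZero
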