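import Groth.Agent.Lib.EtExtZeroBC

/-!
# Restriction to an etale `V ⟶ Y` commutes with direct images, for arbitrary cartesian squares
(helper39)

The analogue of `EtExtZeroBC.siteIso`, `EtExtZeroBC.pushRestrIso` for an arbitrary cartesian square
`IsPullback j' g f j` (not only the canonical pullback).
-/

set_option autoImplicit false
set_option linter.unusedSectionVars false
universe u
open CategoryTheory CategoryTheory.Limits AlgebraicGeometry Opposite

namespace Groth.Agent.Lib.EtExtZeroBC39

open Groth.Agent.Lib.EtExtZeroBC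

section plain

variable {X Y V U : Scheme.{u}} (f : X ⟶ Y) (j : V ⟶ Y) (j' : U ⟶ X) (g : U ⟶ V)
  (h : IsPullback j' g f j)

include h in
/-- the pasted pullback square -/
lemma isPullback_paste {W : Scheme.{u}} (w : W ⟶ V) :
    IsPullback (pullback.fst w g) (pullback.snd w g ≫ j') (w ≫ j) f :=
  (IsPullback.of_hasPullback w g).paste_vert h.flip

/-- `W ×_Y X ≅ W ×_V U` -/
noncomputable def leftIso {W : Scheme.{u}} (w : W ⟶ V) :
    pullback (w ≫ j) f ≅ pullback w g :=
  (isPullback_paste f j j' g h w).isoPullback.symm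

@[reassoc]
lemma leftIso_hom_fst {W : Scheme.{u}} (w : W ⟶ V) :
    (leftIso f j j' g h w).hom ≫ pullback.fst w g = pullback.fst (w ≫ j) f :=
  (isPullback_paste f j j' g h w).isoPullback_inv_fst

@[reassoc]
lemma leftIso_hom_snd {W : Scheme.{u}} (w : W ⟶ V) :
    (leftIso f j j' g h w).hom ≫ pullback.snd w g ≫ j' = pullback.snd (w ≫ j) f :=
  (isPullback_paste f j j' g h w).isoPullback_inv_snd

lemma leftIso_natural {W W' : Scheme.{u}} (w : W ⟶ V) (w' : W' ⟶ V) (k : W ⟶ W')
    (hk : k ≫ w' = w) (a : pullback (w ≫ j) f ⟶ pullback (w' ≫ j) f)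
    (ha1 : a ≫ pullback.fst (w' ≫ j) f = pullback.fst (w ≫ j) f ≫ k)
    (ha2 : a ≫ pullback.snd (w' ≫ j) f = pullback.snd (w ≫ j) f)
    (b : pullback w g ⟶ pullback w' g)
    (hb1 : b ≫ pullback.fst w' g = pullback.fst w g ≫ k)
    (hb2 : b ≫ pullback.snd w' g = pullback.snd w g) :
    a ≫ (leftIso f j j' g h w').hom = (leftIso f j j' g h w).hom ≫ b := by
  apply pullback.hom_ext
  · rw [Category.assoc, leftIso_hom_fst, ha1, Category.assoc, hb1, leftIso_hom_fst_assoc]
  · apply h.hom_ext
    · rw [Category.assoc, Category.assoc, leftIso_hom_snd, ha2, Category.assoc, Category.assoc,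
        reassoc_of% hb2, leftIso_hom_snd]
    · have c1 : pullback.snd w' g ≫ g = pullback.fst w' g ≫ w' := pullback.condition.symm
      have c2 : pullback.snd w g ≫ g = pullback.fst w g ≫ w := pullback.condition.symm
      rw [Category.assoc, Category.assoc, c1, leftIso_hom_fst_assoc, reassoc_of% ha1, hk,
        Category.assoc, Category.assoc, reassoc_of% hb2, c2, leftIso_hom_fst_assoc]

end plain

variable {X Y V U : Scheme.{u}} (f : X ⟶ Y) (j : V ⟶ Y) [hj : AlgebraicGeometry.Etale j]
  (j' : U ⟶ X) [hj' : AlgebraicGeometry.Etale j'] (g : U ⟶ V) (h : IsPullback j' g f j)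

/-- the two ways of going from etale `V`-schemes to etale `X`-schemes agree -/
noncomputable def siteIso :
    EtShriek.compEtale j ⋙ EtCoh.bc f ≅ EtCoh.bc g ⋙ EtShriek.compEtale j' :=
  NatIso.ofComponents
    (fun W => MorphismProperty.Over.isoMk (leftIso f j j' g h W.hom)
      (leftIso_hom_snd f j j' g h W.hom))
    (by
      intro W W' k
      apply MorphismProperty.Over.Hom.ext
      exact leftIso_natural f j j' g h W.hom W'.hom k.left (Over.w k.hom)
        ((EtCoh.bc f).map ((EtShriek.compEtale j).map k)).left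
        (bc_map_left_fst f ((EtShriek.compEtale j).map k))
        (bc_map_left_snd f ((EtShriek.compEtale j).map k))
        ((EtCoh.bc g).map k).left
        (bc_map_left_fst g k) (bc_map_left_snd g k))

variable [EtShriek.JCont j] [EtShriek.JCont j']

instance isContinuous_comp' :
    (EtCoh.bc g ⋙ EtShriek.compEtale j').IsContinuous
      V.smallEtaleTopology X.smallEtaleTopology :=
  Functor.isContinuous_comp _ _ _ U.smallEtaleTopology _

/-- restriction to `V` of a direct image is the direct image of the restriction -/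
noncomputable def pushRestrIso :
    EtCoh.push f ⋙ EtShriek.restrAlong j ≅ EtShriek.restrAlong j' ⋙ EtCoh.push g :=
  Functor.sheafPushforwardContinuousComp' (siteIso f j j' g h) AddCommGrpCat.{u + 1}
    V.smallEtaleTopology Y.smallEtaleTopology X.smallEtaleTopology ≪≫
    (Functor.sheafPushforwardContinuousComp (EtCoh.bc g)
      (EtShriek.compEtale j') AddCommGrpCat.{u + 1} V.smallEtaleTopology
      U.smallEtaleTopology X.smallEtaleTopology).symm

end Groth.Agent.Lib.EtExtZeroBC39
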