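import Groth.Agent.Lib.EtExtZero
import Groth.Agent.Lib.EtJCont
import Groth.Agent.Lib.EtAbStalk
import Groth.Agent.Lib.EtStalkPull

/-!
# Exactness properties of `j_!`, `j^*`, `f^*`, `f_*` on abelian etale sheaves (helper39)

* `coprodStalk_map_eq` : the functor `F ↦ ∐_u F_u` acts on morphisms componentwise.
* `extZero j` preserves monomorphisms (for every etale `j`), hence `restrAlong j` and `pull j`
  preserve injective objects.
* `pull f` preserves monomorphisms (every `f`), hence `push f` preserves injective objects.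
-/

set_option autoImplicit false
universe u
open CategoryTheory CategoryTheory.Limits AlgebraicGeometry Opposite

namespace Groth.Agent.Lib.EtExtZeroMono

open Groth.Agent.Lib.EtExtZero Groth.Agent.Lib.EtGerm Groth.Agent.Lib.EtStalkConservative
  Groth.Agent.Lib.EtAbStalk

noncomputable instance ab4 : AB4OfSize.{u} AddCommGrpCat.{u+1} := AB4OfSize_shrink.{u, u+1} _

lemma sigma_map_mono (J : Type u) (A B : J → AddCommGrpCat.{u+1}) (f : ∀ j, A j ⟶ B j)
    [∀ j, Mono (f j)] : Mono (Limits.Sigma.map f) := by
  have : ∀ (j : Discrete J), Mono ((Discrete.natTrans (fun j => f j.as) :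
      Discrete.functor A ⟶ Discrete.functor B).app j) := by
    intro j
    exact inferInstanceAs (Mono (f j.as))
  have := NatTrans.mono_of_mono_app (Discrete.natTrans (fun j => f j.as) :
    Discrete.functor A ⟶ Discrete.functor B)
  exact colim.map_mono' (Discrete.natTrans (fun j => f j.as) :
    Discrete.functor A ⟶ Discrete.functor B)
    (colimit.isColimit _) (colimit.isColimit _) _ (fun ⟨j⟩ => Sigma.ι_map f j)

section

variable {U X : Scheme.{u}} (j : U ⟶ X) [hj : AlgebraicGeometry.Etale j] [EtShriek.JCont j]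
  {Ω : Type u} [Field Ω] [IsSepClosed Ω] (ξ : Spec (CommRingCat.of Ω) ⟶ X)

lemma coprodStalk_map {F G : EtCoh.Ab U} (α : F ⟶ G) :
    (coprodStalk j ξ).map α = fromSky F _ (α ≫ toSky G _ (𝟙 (∐ (stalkFam j ξ G)))) := rfl

lemma ι_coprodStalk_map {F G : EtCoh.Ab U} (α : F ⟶ G) (u : Lifts j ξ) :
    Sigma.ι (stalkFam j ξ F) u ≫ (coprodStalk j ξ).map α =
      (EtCoh.stalk u.1).map α ≫ Sigma.ι (stalkFam j ξ G) u := by
  refine (Scheme.pointSmallEtale u.1).presheafFiber_hom_ext (fun V z => ?_)
  rw [coprodStalk_map]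
  refine (ι_fromSky F _ _ u V z).trans ?_
  unfold fromSkyComp
  have h2 := (Scheme.pointSmallEtale u.1).toPresheafFiber_naturality α.hom V z
  have h3 : (toSky G _ (𝟙 (∐ (stalkFam j ξ G)))).hom.app (op V) ≫
      Pi.π (fun _ : Nbhd ξ ((EtShriek.compEtale j).obj V) => ∐ (stalkFam j ξ G)) (incl u z) =
      (Scheme.pointSmallEtale u.1).toPresheafFiber V z G.obj ≫ Sigma.ι (stalkFam j ξ G) u :=
    (toSky_app_π G _ (𝟙 (∐ (stalkFam j ξ G))) V (incl u z)).trans
      ((Category.comp_id _).trans (comp_incl G u z))
  refine (Category.assoc (α.hom.app (op V)) _ _).trans ?_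
  refine (congrArg (α.hom.app (op V) ≫ ·) h3).trans ?_
  exact ((Category.assoc _ _ _).symm.trans
    (congrArg (· ≫ Sigma.ι (stalkFam j ξ G) u) h2.symm)).trans (Category.assoc _ _ _)

lemma coprodStalk_map_eq {F G : EtCoh.Ab U} (α : F ⟶ G) :
    (coprodStalk j ξ).map α = Limits.Sigma.map (fun u : Lifts j ξ => (EtCoh.stalk u.1).map α) := by
  refine Sigma.hom_ext (f := stalkFam j ξ F) _ _ (fun u => ?_)
  refine (ι_coprodStalk_map j ξ α u).trans ?_
  exact (Sigma.ι_map (fun u : Lifts j ξ => (EtCoh.stalk u.1).map α) u).symm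

instance preservesMono_coprodStalk : (coprodStalk j ξ).PreservesMonomorphisms where
  preserves {F G} α _ := by
    rw [coprodStalk_map_eq]
    exact sigma_map_mono _ _ _ _

/-- `j_!` preserves monomorphisms -/
instance preservesMono_extZero : (EtShriek.extZero j).PreservesMonomorphisms where
  preserves {F G} α _ := by
    apply EtAbStalk.mono_of_forall_stdPt
    intro x
    have h1 : Mono ((coprodStalk j (stdPt x)).map α) := inferInstance
    have h2 : Mono ((EtShriek.extZero j ⋙ EtCoh.stalk (stdPt x)).map α) :=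
      ((MorphismProperty.monomorphisms _).arrow_mk_iso_iff
        (Arrow.isoOfNatIso (stalkExtZeroIso j (stdPt x)) (Arrow.mk α))).2 h1
    exact (AddCommGrpCat.mono_iff_injective _).1 h2

/-- `j⁻¹` preserves injective objects -/
instance injective_restrAlong (I : EtCoh.Ab X) [Injective I] :
    Injective ((EtShriek.restrAlong j).obj I) :=
  Injective.injective_of_adjoint (EtShriek.extZeroAdj j) I

/-- `j^*` preserves injective objects, for `j` etale -/
lemma injective_pull_of_etale (I : EtCoh.Ab X) [Injective I] :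
    Injective ((EtCoh.pull j).obj I) :=
  Injective.of_iso ((Groth.Agent.Lib.EtRestr.pullIsoRestr j).app I).symm inferInstance

end

section

variable {X Y : Scheme.{u}} (f : X ⟶ Y)

/-- `f^*` preserves monomorphisms -/
instance preservesMono_pull : (EtCoh.pull f).PreservesMonomorphisms where
  preserves {F G} α _ := by
    apply EtAbStalk.mono_of_forall_stdPt
    intro x
    have h1 : Mono ((EtCoh.stalk (stdPt x ≫ f)).map α) := inferInstance
    have h2 : Mono ((EtCoh.pull f ⋙ EtCoh.stalk (stdPt x)).map α) :=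
      ((MorphismProperty.monomorphisms _).arrow_mk_iso_iff
        (Arrow.isoOfNatIso (Groth.Agent.Lib.EtStalkPull.stalkPullIso f (stdPt x)) (Arrow.mk α))).2 h1
    exact (AddCommGrpCat.mono_iff_injective _).1 h2

/-- `f_*` preserves injective objects -/
instance injective_push (I : EtCoh.Ab X) [Injective I] : Injective ((EtCoh.push f).obj I) :=
  Injective.injective_of_adjoint (EtCoh.pullPushAdj f) I

end

end Groth.Agent.Lib.EtExtZeroMono
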