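import Groth.Agent.Lib.EtFieldTors65
import Mathlib.Algebra.Homology.DerivedCategory.Ext.ExactSequences
import Mathlib.GroupTheory.QuotientGroup.Defs
import Mathlib.Algebra.Group.Subgroup.ZPowers.Basic

/-!
# `H^i(Spec k, ℤ) ≅ H^{i-1}(Spec k, ℚ/ℤ)` for `i ≥ 2` (helper65)
-/

set_option autoImplicit false
universe u

open CategoryTheory CategoryTheory.Limits AlgebraicGeometry Opposite Abelian

namespace Groth.Agent.Lib.EtFieldQZ65

section Const

variable (X : Scheme.{u})

instance : PreservesFiniteLimits (constantSheaf X.smallEtaleTopology AddCommGrpCat.{u + 1}) :=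
  comp_preservesFiniteLimits (Functor.const X.Etaleᵒᵖ)
    (presheafToSheaf X.smallEtaleTopology AddCommGrpCat.{u + 1})

instance : PreservesFiniteColimits (constantSheaf X.smallEtaleTopology AddCommGrpCat.{u + 1}) := by
  have : PreservesColimitsOfSize.{0, 0} (constantSheaf X.smallEtaleTopology AddCommGrpCat.{u + 1}) :=
    (EtCore.constAdj X).leftAdjoint_preservesColimits
  exact PreservesColimitsOfSize.preservesFiniteColimits _

instance : (EtCore.gsec X).Additive where
  map_add := rfl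

instance : (constantSheaf X.smallEtaleTopology AddCommGrpCat.{u + 1}).Additive :=
  (EtCore.constAdj X).left_adjoint_additive

end Const

section SES

/-- `ULift` of an additive map -/
def liftHom {A B : Type} [AddCommGroup A] [AddCommGroup B] (f : A →+ B) :
    ULift.{u + 1} A →+ ULift.{u + 1} B :=
  (AddEquiv.ulift.symm : B ≃+ ULift.{u + 1} B).toAddMonoidHom.comp
    (f.comp (AddEquiv.ulift : ULift.{u + 1} A ≃+ A).toAddMonoidHom)

@[simp] lemma liftHom_apply {A B : Type} [AddCommGroup A] [AddCommGroup B] (f : A →+ B)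
    (x : ULift.{u + 1} A) : liftHom f x = ULift.up (f x.down) := rfl

abbrev QZ : Type := ℚ ⧸ AddSubgroup.zmultiples (1 : ℚ)

/-- `0 → ℤ → ℚ → ℚ/ℤ → 0` (lifted) -/
noncomputable def ses : ShortComplex AddCommGrpCat.{u + 1} :=
  ShortComplex.mk
    (AddCommGrpCat.ofHom (liftHom.{u} (Int.castAddHom ℚ)) :
      AddCommGrpCat.of (ULift.{u + 1} ℤ) ⟶ AddCommGrpCat.of (ULift.{u + 1} ℚ))
    (AddCommGrpCat.ofHom (liftHom.{u} (QuotientAddGroup.mk' (AddSubgroup.zmultiples (1 : ℚ)))) :
      AddCommGrpCat.of (ULift.{u + 1} ℚ) ⟶ AddCommGrpCat.of (ULift.{u + 1} QZ))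
    (by
      ext x
      show (QuotientAddGroup.mk' (AddSubgroup.zmultiples (1 : ℚ))) ((x.down : ℤ) : ℚ) = 0
      rw [QuotientAddGroup.mk'_apply, QuotientAddGroup.eq_zero_iff]
      exact ⟨x.down, by simp⟩)

theorem ses_shortExact : (ses.{u}).ShortExact := by
  refine { exact := ?_, mono_f := ?_, epi_g := ?_ }
  · rw [ShortComplex.ab_exact_iff]
    intro x hx
    have h : (QuotientAddGroup.mk' (AddSubgroup.zmultiples (1 : ℚ))) x.down = 0 :=
      congrArg ULift.down hx
    rw [QuotientAddGroup.mk'_apply, QuotientAddGroup.eq_zero_iff] at h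
    obtain ⟨n, hn⟩ := h
    refine ⟨ULift.up n, ?_⟩
    apply ULift.ext
    show ((n : ℤ) : ℚ) = x.down
    rw [← hn]
    simp
  · rw [AddCommGrpCat.mono_iff_injective]
    intro x y hxy
    apply ULift.ext
    have h : ((x.down : ℤ) : ℚ) = ((y.down : ℤ) : ℚ) := congrArg ULift.down hxy
    exact_mod_cast h
  · rw [AddCommGrpCat.epi_iff_surjective]
    intro y
    obtain ⟨q, hq⟩ := QuotientAddGroup.mk'_surjective (AddSubgroup.zmultiples (1 : ℚ)) y.down
    exact ⟨ULift.up q, ULift.ext _ _ hq⟩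

end SES

section Main

variable (X : Scheme.{u})

theorem isIso_nsmul_Q (n : ℕ) (hn : 0 < n) :
    IsIso (n • 𝟙 (AddCommGrpCat.of (ULift.{u + 1} ℚ))) := by
  rw [ConcreteCategory.isIso_iff_bijective]
  have hap : ∀ (m : ℕ) (x : ULift.{u + 1} ℚ),
      (m • 𝟙 (AddCommGrpCat.of (ULift.{u + 1} ℚ)) : _ ⟶ _) x = m • x := by
    intro m x
    induction m with
    | zero => simp
    | succ m ih =>
      rw [succ_nsmul, succ_nsmul, ← ih]
      rfl
  have hn' : (n : ℚ) ≠ 0 := by exact_mod_cast hn.ne'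
  constructor
  · intro x y hxy
    rw [hap, hap] at hxy
    apply ULift.ext
    have h : n • x.down = n • y.down := congrArg ULift.down hxy
    simpa [nsmul_eq_mul, hn'] using h
  · intro y
    refine ⟨ULift.up ((n : ℚ)⁻¹ * y.down), ?_⟩
    rw [hap]
    apply ULift.ext
    show n • ((n : ℚ)⁻¹ * y.down) = y.down
    rw [nsmul_eq_mul, ← mul_assoc, mul_inv_cancel₀ hn', one_mul]

/-- the constant sheaf `ℚ` is uniquely divisible -/
theorem isIso_nsmul_constQ (n : ℕ) (hn : 0 < n) : IsIso (n • 𝟙 (EtCoh.const X ℚ)) := by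
  have h1 : n • 𝟙 (EtCoh.const X ℚ) =
      (constantSheaf X.smallEtaleTopology AddCommGrpCat.{u + 1}).map
        (n • 𝟙 (AddCommGrpCat.of (ULift.{u + 1} ℚ))) := by
    rw [Functor.map_nsmul, CategoryTheory.Functor.map_id]
  rw [h1]
  have h2 := isIso_nsmul_Q.{u} n hn
  infer_instance

end Main

section Field

variable (k : Type u) [Field k]

theorem nonempty_addEquiv (i : ℕ) (hi : 2 ≤ i) :
    Nonempty (EtCoh.H (Spec (CommRingCat.of k)) (EtCoh.const (Spec (CommRingCat.of k)) ℤ) i ≃+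
      EtCoh.H (Spec (CommRingCat.of k))
        (EtCoh.const (Spec (CommRingCat.of k)) (ℚ ⧸ AddSubgroup.zmultiples (1 : ℚ))) (i - 1)) := by
  obtain ⟨j, rfl⟩ : ∃ j, i = j + 2 := ⟨i - 2, by omega⟩
  let X : Scheme.{u} := Spec (CommRingCat.of k)
  let S := (ses.{u}).map (constantSheaf X.smallEtaleTopology AddCommGrpCat.{u + 1})
  have hS : S.ShortExact := (ses_shortExact.{u}).map_of_exact _
  have hQ1 : Subsingleton (EtCoh.H X (EtCoh.const X ℚ) (j + 1)) :=
    Groth.Agent.Lib.EtFieldTors65.subsingleton_of_uniquely_divisible k _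
      (isIso_nsmul_constQ X) (j + 1) (by omega)
  have hQ2 : Subsingleton (EtCoh.H X (EtCoh.const X ℚ) (j + 2)) :=
    Groth.Agent.Lib.EtFieldTors65.subsingleton_of_uniquely_divisible k _
      (isIso_nsmul_constQ X) (j + 2) (by omega)
  let δ : EtCoh.H X (EtCoh.const X QZ) (j + 1) →+ EtCoh.H X (EtCoh.const X ℤ) (j + 2) :=
    hS.extClass.postcomp (EtCoh.const X ℤ) (rfl : (j + 1) + 1 = j + 2)
  have hδ : Function.Bijective δ := by
    constructor
    · rw [injective_iff_map_eq_zero]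
      intro x₃ hx₃
      obtain ⟨x₂, hx₂⟩ := Ext.covariant_sequence_exact₃ (EtCoh.const X ℤ) hS x₃ rfl hx₃
      have : x₂ = 0 := Subsingleton.elim (α := EtCoh.H X (EtCoh.const X ℚ) (j + 1)) _ _
      rw [← hx₂, this, Ext.zero_comp]
      rfl
    · intro x₁
      have h0 : x₁.comp (Ext.mk₀ S.f) (add_zero (j + 2)) = 0 :=
        Subsingleton.elim (α := EtCoh.H X (EtCoh.const X ℚ) (j + 2)) _ _
      obtain ⟨x₃, hx₃⟩ := Ext.covariant_sequence_exact₁ (EtCoh.const X ℤ) hS x₁ h0
        (rfl : (j + 1) + 1 = j + 2)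
      exact ⟨x₃, hx₃⟩
  exact ⟨(AddEquiv.ofBijective δ hδ).symm⟩

end Field

end Groth.Agent.Lib.EtFieldQZ65
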