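import Groth.Agent.Lib.HenselSection61
import Groth.Agent.Lib.SpreadOutFP
import Groth.Agent.Lib.LocalIsoSpread
import Groth.Prelude.Def_EtBase
import Mathlib.AlgebraicGeometry.Sites.EtalePoint

/-!
# Local sections of etale morphisms at strictly henselian points (helper39)

* `exists_spread_section`: `g : U ⟶ Y` locally of finite presentation, `σ : Spec 𝒪_{Y,y} ⟶ U` a
  section of `g` over the local scheme at `y`; then `σ` extends to a section of `g` over an open
  neighbourhood of `y`.
* `exists_local_section`: `g : U ⟶ Y` etale, `u : U` such that `𝒪_{Y, g u}` is strictly henselian;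
  then there is an open neighbourhood `N` of `g u` and a section `s : N ⟶ U` of `g` with
  `s (g u) = u`.
-/

set_option autoImplicit false
universe u
open CategoryTheory CategoryTheory.Limits AlgebraicGeometry Opposite IsLocalRing

namespace Groth.Agent.Lib.EtLocSection39

lemma stalkClosedPointTo_congr {X : Scheme.{u}} {R : CommRingCat.{u}} [IsLocalRing R]
    {f f' : Spec R ⟶ X} (h : f = f') :
    Scheme.stalkClosedPointTo f =
      X.presheaf.stalkSpecializes (specializes_of_eq (by rw [h])) ≫
        Scheme.stalkClosedPointTo f' := by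
  subst h
  simp

set_option backward.isDefEq.respectTransparency false in
/-- a section over the local scheme at `y` of a morphism locally of finite presentation extends to
an open neighbourhood of `y`. -/
theorem exists_spread_section {U Y : Scheme.{u}} (g : U ⟶ Y) [LocallyOfFinitePresentation g]
    (y₀ : Y) (σ : Spec (Y.presheaf.stalk y₀) ⟶ U) (hσ : σ ≫ g = Y.fromSpecStalk y₀) :
    ∃ (N : Y.Opens) (hN : y₀ ∈ N) (s : N.toScheme ⟶ U), s ≫ g = N.ι ∧
      N.fromSpecStalkOfMem y₀ hN ≫ s = σ := by
  have e : (𝟙 Y : Y ⟶ Y) y₀ = g (σ (closedPoint (Y.presheaf.stalk y₀))) := by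
    have := congr($hσ (closedPoint (Y.presheaf.stalk y₀)))
    simp only [Scheme.Hom.comp_apply, Scheme.fromSpecStalk_closedPoint] at this
    simpa using this.symm
  obtain ⟨N, hN, s, hs1, hs2⟩ :=
    Groth.Agent.Lib.SpreadOutFP.spread_out_of_locallyOfFinitePresentation (𝟙 Y) g e
      (Scheme.stalkClosedPointTo σ) (by
        rw [← Scheme.stalkClosedPointTo_comp, stalkClosedPointTo_congr hσ,
          Scheme.stalkClosedPointTo_fromSpecStalk, Scheme.Hom.stalkMap_id]
        simp [TopCat.Presheaf.stalkCongr_hom, TopCat.Presheaf.stalkSpecializes_comp])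
  refine ⟨N, hN, s, by simpa using hs2, ?_⟩
  rw [← hs1, Scheme.Spec_stalkClosedPointTo_fromSpecStalk]

set_option backward.isDefEq.respectTransparency false in
/-- an etale morphism has a local section through every point whose image has a strictly
henselian local ring. -/
theorem exists_local_section {U Y : Scheme.{u}} (g : U ⟶ Y) [Etale g] (u : U)
    (h : EtCoh.IsStrictlyHenselianLocalRing (Y.presheaf.stalk (g u))) :
    ∃ (N : Y.Opens) (hN : g u ∈ N) (s : N.toScheme ⟶ U), s ≫ g = N.ι ∧ s ⟨g u, hN⟩ = u := by
  obtain ⟨hH, hK⟩ := h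
  let R : Type u := Y.presheaf.stalk (g u)
  let ι : Spec (Y.presheaf.stalk (g u)) ⟶ Y := Y.fromSpecStalk (g u)
  have hcl : ι (closedPoint R) = g u := Scheme.fromSpecStalk_closedPoint
  obtain ⟨u', hu'1, hu'2⟩ := Scheme.Pullback.exists_preimage_pullback (f := g) (g := ι) u
    (closedPoint R) hcl.symm
  let res : Spec (CommRingCat.of (ResidueField R)) ⟶ Spec (Y.presheaf.stalk (g u)) :=
    Spec.map (CommRingCat.ofHom (residue R))
  have hres : res default = closedPoint R := IsLocalRing.PrimeSpectrum.comap_residue _ _
  obtain ⟨t, ht1, ht2⟩ := Scheme.exists_fac_of_etale_of_isSepClosed (pullback.snd g ι) res u'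
    (hu'2.trans hres.symm)
  obtain ⟨s, hs1, hs2⟩ := Groth.Agent.Lib.HenselSection61.exists_section R (pullback.snd g ι) t ht1
  let σ : Spec (Y.presheaf.stalk (g u)) ⟶ U := s ≫ pullback.fst g ι
  have hσg : σ ≫ g = ι := by
    show (s ≫ pullback.fst g ι) ≫ g = ι
    rw [Category.assoc, pullback.condition, ← Category.assoc]
    exact (congrArg (· ≫ ι) hs1).trans (Category.id_comp _)
  have hσcl : σ (closedPoint R) = u := by
    have h1 : s (closedPoint R) = u' := by
      have := congr($hs2 default)
      rw [Scheme.Hom.comp_apply] at this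
      rw [← hres]
      exact this.trans ht2
    show (pullback.fst g ι) (s (closedPoint R)) = u
    rw [h1, hu'1]
  obtain ⟨N, hN, s', hs'1, hs'2⟩ := exists_spread_section g (g u) σ hσg
  refine ⟨N, hN, s', hs'1, ?_⟩
  have := congr($hs'2 (closedPoint R))
  rw [Scheme.Hom.comp_apply, Groth.Agent.Lib.LocalIsoSpread.fromSpecStalkOfMem_closedPoint] at this
  exact this.trans hσcl

end Groth.Agent.Lib.EtLocSection39
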