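import Groth.Agent.Lib.EtHpullComp
import Groth.Agent.Lib.EtPullExact95
import Groth.Agent.Lib.ExtPull
import Groth.Agent.Lib.EtConstStalk
import Groth.Agent.Lib.EtLocSection39

/-!
# Local triviality of higher etale cohomology classes (helper39)

* `homEquiv_constIso_inv_comp`: abstract form of "pullback of global sections";
* `equiv₀_Hpull`: in degree zero `EtCore.Hpull f G 0` is the pullback of global sections;
* `exists_etale_Hpull_eq_zero`: every class in `H^{q+1}(U, G)` dies on an etale neighbourhood of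
  any given point;
* `exists_open_Hpull_eq_zero`: if the local ring of `U` at `x` is strictly henselian, it dies on
  an open neighbourhood of `x`.
-/

set_option autoImplicit false
universe v₁ v₂ v₃ u₁ u₂ u₃ u
open CategoryTheory CategoryTheory.Limits AlgebraicGeometry Opposite

namespace Groth.Agent.Lib.EtLocTriv39

section abstract

open Groth.Agent.Lib.AdjUniqComp

variable {𝒜 : Type u₁} [Category.{v₁} 𝒜] {𝒳 : Type u₂} [Category.{v₂} 𝒳]
  {𝒰 : Type u₃} [Category.{v₃} 𝒰]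
  {cX : 𝒜 ⥤ 𝒳} {gX : 𝒳 ⥤ 𝒜} (CX : cX ⊣ gX)
  {cU : 𝒜 ⥤ 𝒰} {gU : 𝒰 ⥤ 𝒜} (CU : cU ⊣ gU)
  {pt : 𝒳 ⥤ 𝒰} {qt : 𝒰 ⥤ 𝒳} (Pt : pt ⊣ qt)
  (Gt : qt ⋙ gX ≅ gU)

lemma homEquiv_constIso_inv_comp (M : 𝒜) {G : 𝒳} (φ : cX.obj M ⟶ G) :
    CU.homEquiv M (pt.obj G) ((constIso CX CU Pt Gt).inv.app M ≫ pt.map φ) =
      CX.homEquiv M G φ ≫ gX.map (Pt.unit.app G) ≫ Gt.hom.app (pt.obj G) := by
  rw [Adjunction.homEquiv_unit, Adjunction.homEquiv_unit, ← homEquiv_constIso CX CU Pt Gt M]
  have hn := Gt.hom.naturality ((constIso CX CU Pt Gt).inv.app M ≫ pt.map φ)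
  simp only [Functor.comp_map] at hn
  simp only [Category.assoc]
  rw [← hn]
  simp only [← Category.assoc, ← Functor.map_comp]
  congr 2
  simp only [Category.assoc]
  rw [← Functor.map_comp, Iso.hom_inv_id_app_assoc]
  exact congrArg gX.map (Pt.unit.naturality φ).symm

end abstract

section degreeZero

open EtCore EtCoh CategoryTheory.Abelian Groth.Agent.Lib.EtHpullComp Groth.Agent.Lib.EtPullExact95

variable {U' U : Scheme.{u}} (f : U' ⟶ U)

lemma equiv₀_mk₀ (G : EtCoh.Ab U) (φ : EtCoh.const U ℤ ⟶ G) :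
    Sheaf.H.equiv₀ G (topIsTerminal U) (Ext.mk₀ φ) =
      ((constAdj U).homEquiv _ _ φ).hom (ULift.up 1) := by
  unfold Sheaf.H.equiv₀
  simp only [AddEquiv.trans_apply]
  have h : Ext.addEquiv₀ (Ext.mk₀ φ) = φ := Ext.addEquiv₀.apply_symm_apply φ
  rw [h]
  rfl

/-- in degree zero `Hpull` is the pullback of global sections -/
theorem equiv₀_Hpull (G : EtCoh.Ab U) (x : EtCoh.H U G 0) :
    Sheaf.H.equiv₀ ((EtCoh.pull f).obj G) (topIsTerminal U') (Hpull f G 0 x) =
      ((EtCoh.pull f).obj G).obj.map (bcTopIso f).inv.op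
        (((EtCoh.pullPushAdj f).unit.app G).hom.app (op (EtCoh.top U))
          (Sheaf.H.equiv₀ G (topIsTerminal U) x)) := by
  obtain ⟨φ, rfl⟩ := (Ext.mk₀_bijective _ _).2 x
  rw [Hpull_apply, Ext.mapExactFunctor_mk₀, Ext.mk₀_comp_mk₀, equiv₀_mk₀, equiv₀_mk₀]
  have h := homEquiv_constIso_inv_comp (constAdj U) (constAdj U') (EtCoh.pullPushAdj f)
    (pushGsecIso f) (AddCommGrpCat.of (ULift.{u+1} ℤ)) φ
  have h2 := congrArg (fun k => k.hom (ULift.up 1)) h
  exact h2

end degreeZero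

section localLift

open EtCore EtCoh CategoryTheory.Abelian Groth.Agent.Lib.EtHpullComp Groth.Agent.Lib.EtPullExact95
  Groth.Agent.Lib.EtGerm Groth.Agent.Lib.EtConst Groth.Agent.Lib.EtStalkConservative

variable {U : Scheme.{u}}

/-- the diagonal `V ⟶ V ×_U V` as a morphism of etale `V`-schemes -/
noncomputable def diagTop (V : U.Etale) :
    EtCoh.top V.left ⟶ (EtCoh.bc (V.hom : V.left ⟶ U)).obj V :=
  MorphismProperty.Over.homMk (pullback.lift (𝟙 V.left) (𝟙 V.left) rfl)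
    (pullback.lift_snd _ _ _) trivial

set_option backward.isDefEq.respectTransparency false in
/-- a global section of the target of an epimorphism lifts, etale locally, after pullback -/
theorem exists_etale_lift {I Q : EtCoh.Ab U} (π : I ⟶ Q) [Epi π]
    (s : EtCoh.sect Q (EtCoh.top U)) (x : U) :
    ∃ (V : U.Etale) (v : V.left) (t : EtCoh.sect ((EtCoh.pull (V.hom : V.left ⟶ U)).obj I)
        (EtCoh.top V.left)), V.hom v = x ∧
      ((EtCoh.pull (V.hom : V.left ⟶ U)).map π).hom.app (op (EtCoh.top V.left)) t =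
        ((EtCoh.pull (V.hom : V.left ⟶ U)).obj Q).obj.map (bcTopIso (V.hom : V.left ⟶ U)).inv.op
          (((EtCoh.pullPushAdj (V.hom : V.left ⟶ U)).unit.app Q).hom.app (op (EtCoh.top U)) s) := by
  have hls : Sheaf.IsLocallySurjective π := (Sheaf.isLocallySurjective_iff_epi' (φ := π)).2 inferInstance
  have hS := Presheaf.imageSieve_mem U.smallEtaleTopology π.hom s
  obtain ⟨V, g, ⟨t₀, ht₀⟩, z, -⟩ := (Scheme.pointSmallEtale (stdPt x)).jointly_surjective _ hS
    (topNbhd (stdPt x))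
  refine ⟨V, Nbhd.pt (stdPt x) z, ((EtCoh.pull (V.hom : V.left ⟶ U)).obj I).obj.map (diagTop V).op
    (((EtCoh.pullPushAdj (V.hom : V.left ⟶ U)).unit.app I).hom.app (op V) t₀), ?_, ?_⟩
  · rw [Nbhd.hom_pt, stdPt_default]
  · -- naturality of the unit in the sheaf
    have hn1 : ((EtCoh.pull (V.hom : V.left ⟶ U)).map π).hom.app
        (op ((EtCoh.bc (V.hom : V.left ⟶ U)).obj V))
        (((EtCoh.pullPushAdj (V.hom : V.left ⟶ U)).unit.app I).hom.app (op V) t₀) =
        ((EtCoh.pullPushAdj (V.hom : V.left ⟶ U)).unit.app Q).hom.app (op V)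
          (π.hom.app (op V) t₀) := by
      have h := (EtCoh.pullPushAdj (V.hom : V.left ⟶ U)).unit.naturality π
      have h2 := congrArg (fun k : I ⟶ (EtCoh.push (V.hom : V.left ⟶ U)).obj
        ((EtCoh.pull (V.hom : V.left ⟶ U)).obj Q) => k.hom.app (op V) t₀) h
      exact h2.symm
    have hn2 : ((EtCoh.pull (V.hom : V.left ⟶ U)).map π).hom.app (op (EtCoh.top V.left))
        (((EtCoh.pull (V.hom : V.left ⟶ U)).obj I).obj.map (diagTop V).op
          (((EtCoh.pullPushAdj (V.hom : V.left ⟶ U)).unit.app I).hom.app (op V) t₀)) =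
        ((EtCoh.pull (V.hom : V.left ⟶ U)).obj Q).obj.map (diagTop V).op
          (((EtCoh.pull (V.hom : V.left ⟶ U)).map π).hom.app
            (op ((EtCoh.bc (V.hom : V.left ⟶ U)).obj V))
            (((EtCoh.pullPushAdj (V.hom : V.left ⟶ U)).unit.app I).hom.app (op V) t₀)) :=
      NatTrans.naturality_apply ((EtCoh.pull (V.hom : V.left ⟶ U)).map π).hom (diagTop V).op _
    have hn3 : ((EtCoh.pullPushAdj (V.hom : V.left ⟶ U)).unit.app Q).hom.app (op V)
        (Q.obj.map g.op s) =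
        ((EtCoh.pull (V.hom : V.left ⟶ U)).obj Q).obj.map
          ((EtCoh.bc (V.hom : V.left ⟶ U)).map g).op
          (((EtCoh.pullPushAdj (V.hom : V.left ⟶ U)).unit.app Q).hom.app (op (EtCoh.top U)) s) :=
      NatTrans.naturality_apply ((EtCoh.pullPushAdj (V.hom : V.left ⟶ U)).unit.app Q).hom g.op s
    have hterm : diagTop V ≫ (EtCoh.bc (V.hom : V.left ⟶ U)).map g =
        (bcTopIso (V.hom : V.left ⟶ U)).inv :=
      (bcTopIsTerminal (V.hom : V.left ⟶ U)).hom_ext _ _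
    refine hn2.trans ?_
    rw [hn1, ht₀, hn3, ← hterm, op_comp, Functor.map_comp]
    rfl

end localLift

section locallyTrivial

open EtCore EtCoh CategoryTheory.Abelian Groth.Agent.Lib.EtHpullComp Groth.Agent.Lib.EtPullExact95
  Groth.Agent.Lib.ExtPull

variable {U : Scheme.{u}}

lemma Hpull_eq_P {U' : Scheme.{u}} (a : U' ⟶ U) (G : EtCoh.Ab U) (n : ℕ) (x : EtCoh.H U G n) :
    Hpull a G n x = P (EtCoh.pull a) (pullConst a ℤ).inv G n x := rfl

/-- every class of positive degree dies on an etale neighbourhood of any given point -/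
theorem exists_etale_Hpull_eq_zero (q : ℕ) : ∀ (G : EtCoh.Ab U) (ξ : EtCoh.H U G (q + 1)) (x : U),
    ∃ (V : U.Etale) (v : V.left), V.hom v = x ∧ Hpull (V.hom : V.left ⟶ U) G (q + 1) ξ = 0 := by
  induction q with
  | zero =>
    intro G ξ x
    let S : ShortComplex (EtCoh.Ab U) :=
      ShortComplex.mk (Injective.ι G) (cokernel.π (Injective.ι G)) (cokernel.condition _)
    have hS : S.ShortExact :=
      { exact := ShortComplex.exact_cokernel (Injective.ι G) }
    have h0 : ξ.comp (Ext.mk₀ S.f) (add_zero 1) = 0 := Ext.eq_zero_of_injective _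
    obtain ⟨ξ', hξ'⟩ := Ext.covariant_sequence_exact₁ _ hS ξ h0 (n₀ := 0) rfl
    have : Epi S.g := hS.epi_g
    obtain ⟨V, v, t, hv, ht⟩ := exists_etale_lift S.g
      (Sheaf.H.equiv₀ S.X₃ (topIsTerminal U) ξ') x
    refine ⟨V, v, hv, ?_⟩
    -- the class `τ` of the lift
    let τ : EtCoh.H V.left ((EtCoh.pull (V.hom : V.left ⟶ U)).obj S.X₂) 0 :=
      (Sheaf.H.equiv₀ _ (topIsTerminal V.left)).symm t
    have hτ : τ.comp (Ext.mk₀ ((EtCoh.pull (V.hom : V.left ⟶ U)).map S.g)) (add_zero 0) =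
        Hpull (V.hom : V.left ⟶ U) S.X₃ 0 ξ' := by
      apply (Sheaf.H.equiv₀ _ (topIsTerminal V.left)).injective
      refine Eq.trans ?_ (equiv₀_Hpull (V.hom : V.left ⟶ U) S.X₃ ξ').symm
      refine Eq.trans ?_ ht
      have h1 := Sheaf.H.equiv₀_naturality (topIsTerminal V.left)
        ((EtCoh.pull (V.hom : V.left ⟶ U)).map S.g) τ
      refine h1.symm.trans ?_
      congr 1
      exact (Sheaf.H.equiv₀ _ (topIsTerminal V.left)).apply_symm_apply t
    have e1 : Hpull (V.hom : V.left ⟶ U) G (0 + 1) ξ =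
        (P (EtCoh.pull (V.hom : V.left ⟶ U)) (pullConst (V.hom : V.left ⟶ U) ℤ).inv S.X₃ 0 ξ').comp
          (hS.map_of_exact (EtCoh.pull (V.hom : V.left ⟶ U))).extClass rfl := by
      rw [← hξ']
      exact P_comp_extClass (EtCoh.pull (V.hom : V.left ⟶ U)) _ S hS 0 (0 + 1) rfl ξ'
    have e2 : P (EtCoh.pull (V.hom : V.left ⟶ U)) (pullConst (V.hom : V.left ⟶ U) ℤ).inv S.X₃ 0 ξ' =
        τ.comp (Ext.mk₀ ((EtCoh.pull (V.hom : V.left ⟶ U)).map S.g)) (add_zero 0) := hτ.symm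
    rw [e1, e2, Ext.comp_assoc _ _ _ (add_zero 0) (zero_add 1) (by omega)]
    have h2 : (Ext.mk₀ ((EtCoh.pull (V.hom : V.left ⟶ U)).map S.g)).comp
        (hS.map_of_exact (EtCoh.pull (V.hom : V.left ⟶ U))).extClass (zero_add 1) = 0 :=
      (hS.map_of_exact (EtCoh.pull (V.hom : V.left ⟶ U))).comp_extClass
    rw [h2, Ext.comp_zero]
    rfl
  | succ q ih =>
    intro G ξ x
    let S : ShortComplex (EtCoh.Ab U) :=
      ShortComplex.mk (Injective.ι G) (cokernel.π (Injective.ι G)) (cokernel.condition _)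
    have hS : S.ShortExact :=
      { exact := ShortComplex.exact_cokernel (Injective.ι G) }
    have h0 : ξ.comp (Ext.mk₀ S.f) (add_zero (q + 1 + 1)) = 0 := Ext.eq_zero_of_injective _
    obtain ⟨ξ', hξ'⟩ := Ext.covariant_sequence_exact₁ _ hS ξ h0 (n₀ := q + 1) rfl
    obtain ⟨V, v, hv, h⟩ := ih S.X₃ ξ' x
    refine ⟨V, v, hv, ?_⟩
    have e1 : Hpull (V.hom : V.left ⟶ U) G (q + 1 + 1) ξ =
        (P (EtCoh.pull (V.hom : V.left ⟶ U)) (pullConst (V.hom : V.left ⟶ U) ℤ).inv S.X₃ (q + 1)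
          ξ').comp (hS.map_of_exact (EtCoh.pull (V.hom : V.left ⟶ U))).extClass rfl := by
      rw [← hξ']
      exact P_comp_extClass (EtCoh.pull (V.hom : V.left ⟶ U)) _ S hS (q + 1) (q + 1 + 1) rfl ξ'
    have e2 : P (EtCoh.pull (V.hom : V.left ⟶ U)) (pullConst (V.hom : V.left ⟶ U) ℤ).inv S.X₃
        (q + 1) ξ' = 0 := h
    rw [e1, e2, Ext.zero_comp]
    rfl

/-- every class of positive degree dies on an open neighbourhood of any point with strictly
henselian local ring -/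
theorem exists_open_Hpull_eq_zero (q : ℕ) (G : EtCoh.Ab U) (ξ : EtCoh.H U G (q + 1)) (x : U)
    (hx : EtCoh.IsStrictlyHenselianLocalRing (U.presheaf.stalk x)) :
    ∃ N : U.Opens, x ∈ N ∧ Hpull N.ι G (q + 1) ξ = 0 := by
  obtain ⟨V, v, hv, h⟩ := exists_etale_Hpull_eq_zero q G ξ x
  have : Etale (V.hom : V.left ⟶ U) := V.prop
  subst hv
  obtain ⟨N, hN, s, hs1, -⟩ :=
    Groth.Agent.Lib.EtLocSection39.exists_local_section (V.hom : V.left ⟶ U) v hx
  refine ⟨N, hN, ?_⟩
  have h1 := HpullVia_Hpull s (V.hom : V.left ⟶ U) hs1 G (q + 1) ξ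
  rw [← h1, h, map_zero]

end locallyTrivial

end Groth.Agent.Lib.EtLocTriv39
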