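import Groth.Agent.Lib.EtZshSec95
import Groth.Agent.Lib.EtFieldTors65
import Mathlib.AlgebraicGeometry.Morphisms.QuasiFinite

/-!
# Quasi-compact étale schemes over a field (helper95)

* `isFinite_of_etale_field`: a quasi-compact scheme étale over a field is finite over it;
* `isOfFinAddOrder_H_of_finite`: higher étale cohomology of a scheme finite over a field is
  torsion;
* `isOfFinAddOrder_ext_Zsh`: for `r : W ⟶ Spec k` quasi-compact étale, the groups
  `Ext^m(r_! ℤ, F)`, `m > 0`, are torsion.
-/

set_option autoImplicit false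
universe u
open CategoryTheory CategoryTheory.Limits AlgebraicGeometry Opposite Abelian

namespace Groth.Agent.Lib.EtFieldQcFinite95

open Groth.Agent.Lib.EtShriekConst

/-- étale morphisms are locally quasi-finite -/
theorem locallyQuasiFinite_of_etale {X Y : Scheme.{u}} (f : X ⟶ Y) [Etale f] :
    LocallyQuasiFinite f := by
  rw [HasRingHomProperty.iff_appLE (P := @LocallyQuasiFinite)]
  intro U V e
  have h : (f.appLE U V e).hom.Etale := HasRingHomProperty.appLE (P := @Etale) f inferInstance U V e
  algebraize [(f.appLE U V e).hom]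
  show Algebra.QuasiFinite _ _
  infer_instance

variable {k : Type u} [Field k] {W : Scheme.{u}} (r : W ⟶ Spec (CommRingCat.of k))

/-- a quasi-compact scheme étale over a field is finite over it -/
theorem isFinite_of_etale_field [Etale r] [QuasiCompact r] : IsFinite r := by
  have := locallyQuasiFinite_of_etale r
  have : IsLocallyArtinian (Spec (CommRingCat.of k)) := by
    rw [Scheme.isLocallyArtinianScheme_Spec]
    infer_instance
  exact IsFinite.of_locallyQuasiFinite r

/-- higher étale cohomology of a scheme finite over a field is torsion -/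
theorem isOfFinAddOrder_H_of_finite [IsFinite r] (G : EtCoh.Ab W) (m : ℕ) (hm : 0 < m)
    (x : EtCoh.H W G m) : IsOfFinAddOrder x := by
  haveI := Groth.Agent.Lib.EtPullExact95.preservesFiniteLimits_pull r
  obtain ⟨y, rfl⟩ := (Groth.Agent.Lib.EtResCores95.HofPush_bijective_of_finite r G m).2 x
  exact AddMonoidHom.isOfFinAddOrder _
    (Groth.Agent.Lib.EtFieldTors65.isOfFinAddOrder k _ m hm y)

/-- `Ext^m(r_! ℤ, F)`, `m > 0`, is torsion for `r` quasi-compact étale over a field -/
theorem isOfFinAddOrder_ext_Zsh [Etale r] [EtShriek.JCont r] [QuasiCompact r]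
    (F : EtCoh.Ab (Spec (CommRingCat.of k))) (m : ℕ) (hm : 0 < m)
    (x : Ext.{u + 1} (Zsh r) F m) : IsOfFinAddOrder x := by
  haveI := Groth.Agent.Lib.EtPullExact95.preservesFiniteLimits_pull r
  haveI := isFinite_of_etale_field r
  have h := isOfFinAddOrder_H_of_finite r ((EtCoh.pull r).obj F) m hm (theta r F m x)
  have h2 := AddMonoidHom.isOfFinAddOrder (theta r F m).symm.toAddMonoidHom h
  simpa using h2

end Groth.Agent.Lib.EtFieldQcFinite95
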