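import Groth.Agent.Lib.EtFinStalk39D
import Groth.Agent.Lib.EtGeomPtConservative39

/-!
# Base change for finite morphisms, degree zero (helper39)

* `theta`, `bcAdj`, `baseChange0_unit`: unwinding of `EtCoh.baseChange0` on sections;
* `stalkPullIso_pushGermOf_baseChange0`: compatibility of the base change map with the maps
  `(f_* F)_η ⟶ F_ξ`;
* `isIso_baseChange0_of_isFinite`: `g⁻¹ f_* F ⟶ f'_* g'⁻¹ F` is an isomorphism for `f` finite and a
  cartesian square.
-/

set_option autoImplicit false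
universe u
open CategoryTheory CategoryTheory.Limits AlgebraicGeometry Opposite

namespace Groth.Agent.Lib.EtFinBC39

open Groth.Agent.Lib.EtGerm Groth.Agent.Lib.EtStalkPull Groth.Agent.Lib.EtStalkPullGerm
  Groth.Agent.Lib.EtClosedStalk Groth.Agent.Lib.EtAbStalk Groth.Agent.Lib.EtFinStalk39

variable {X Y X' Y' : Scheme.{u}} (f : X ⟶ Y) (g : Y' ⟶ Y) (f' : X' ⟶ Y') (g' : X' ⟶ X)
  (w : g' ≫ f = f' ≫ g)

/-- the comparison `(V ×_Y Y') ×_{Y'} X' ⟶ (V ×_Y X) ×_X X'` -/
noncomputable def theta (V : Y.Etale) :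
    (EtCoh.bc f').obj ((EtCoh.bc g).obj V) ⟶ (EtCoh.bc g').obj ((EtCoh.bc f).obj V) :=
  (MorphismProperty.Over.pullbackComp (P := EtCoh.etaleMP) (Q := ⊤) f' g).inv.app V ≫
    (MorphismProperty.Over.pullbackCongr (P := EtCoh.etaleMP) (Q := ⊤) w).inv.app V ≫
      (MorphismProperty.Over.pullbackComp (P := EtCoh.etaleMP) (Q := ⊤) g' f).hom.app V

set_option backward.isDefEq.respectTransparency false in
lemma theta_left_fst_fst (V : Y.Etale) :
    (theta f g f' g' w V).left ≫ pullback.fst ((EtCoh.bc f).obj V).hom g' ≫ pullback.fst V.hom f =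
      pullback.fst ((EtCoh.bc g).obj V).hom f' ≫ pullback.fst V.hom g := by
  have h1 : ((MorphismProperty.Over.pullbackComp (P := EtCoh.etaleMP) (Q := ⊤) g' f).hom.app V).left ≫
      pullback.fst ((EtCoh.bc f).obj V).hom g' ≫ pullback.fst V.hom f =
      pullback.fst V.hom (g' ≫ f) :=
    MorphismProperty.Over.pullbackComp_left_fst_fst (P := EtCoh.etaleMP) (Q := ⊤) g' f V
  have h2 := MorphismProperty.Over.pullbackCongr_hom_app_left_fst (P := EtCoh.etaleMP) (Q := ⊤) w V
  have h3 : ((MorphismProperty.Over.pullbackComp (P := EtCoh.etaleMP) (Q := ⊤) f' g).hom.app V).left ≫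
      pullback.fst ((EtCoh.bc g).obj V).hom f' ≫ pullback.fst V.hom g =
      pullback.fst V.hom (f' ≫ g) :=
    MorphismProperty.Over.pullbackComp_left_fst_fst (P := EtCoh.etaleMP) (Q := ⊤) f' g V
  have h2' : ((MorphismProperty.Over.pullbackCongr (P := EtCoh.etaleMP) (Q := ⊤) w).inv.app V).left ≫
      pullback.fst V.hom (g' ≫ f) = pullback.fst V.hom (f' ≫ g) := by
    rw [← h2, ← Category.assoc]
    have : ((MorphismProperty.Over.pullbackCongr (P := EtCoh.etaleMP) (Q := ⊤) w).inv.app V).left ≫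
        ((MorphismProperty.Over.pullbackCongr (P := EtCoh.etaleMP) (Q := ⊤) w).hom.app V).left = 𝟙 _ := by
      rw [← MorphismProperty.Comma.comp_left, Iso.inv_hom_id_app]
      rfl
    rw [this, Category.id_comp]
  have h3' : ((MorphismProperty.Over.pullbackComp (P := EtCoh.etaleMP) (Q := ⊤) f' g).inv.app V).left ≫
      pullback.fst V.hom (f' ≫ g) =
      pullback.fst ((EtCoh.bc g).obj V).hom f' ≫ pullback.fst V.hom g := by
    rw [← h3, ← Category.assoc]
    have : ((MorphismProperty.Over.pullbackComp (P := EtCoh.etaleMP) (Q := ⊤) f' g).inv.app V).left ≫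
        ((MorphismProperty.Over.pullbackComp (P := EtCoh.etaleMP) (Q := ⊤) f' g).hom.app V).left = 𝟙 _ := by
      rw [← MorphismProperty.Comma.comp_left, Iso.inv_hom_id_app]
      rfl
    rw [this, Category.id_comp]
  show (((MorphismProperty.Over.pullbackComp (P := EtCoh.etaleMP) (Q := ⊤) f' g).inv.app V).left ≫
    ((MorphismProperty.Over.pullbackCongr (P := EtCoh.etaleMP) (Q := ⊤) w).inv.app V).left ≫
      ((MorphismProperty.Over.pullbackComp (P := EtCoh.etaleMP) (Q := ⊤) g' f).hom.app V).left) ≫ _ = _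
  simp only [Category.assoc]
  rw [h1, h2', h3']

/-- the adjoint of the base change map -/
noncomputable def bcAdj (F : EtCoh.Ab X) :
    (EtCoh.push f).obj F ⟶ (EtCoh.push g).obj ((EtCoh.push f').obj ((EtCoh.pull g').obj F)) :=
  (EtCoh.push f).map ((EtCoh.pullPushAdj g').unit.app F) ≫ (EtCoh.pushComp f g').hom.app _ ≫
    (EtCoh.pushCongr w).hom.app _ ≫ (EtCoh.pushComp g f').inv.app _

lemma baseChange0_eq (F : EtCoh.Ab X) :
    EtCoh.baseChange0 f g f' g' w F =
      ((EtCoh.pullPushAdj g).homEquiv _ _).symm (bcAdj f g f' g' w F) := rfl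

lemma bcAdj_app (F : EtCoh.Ab X) (V : Y.Etale) (s : EtCoh.sect ((EtCoh.push f).obj F) V) :
    (bcAdj f g f' g' w F).hom.app (op V) s =
      ((EtCoh.pull g').obj F).obj.map (theta f g f' g' w V).op
        (((EtCoh.pullPushAdj g').unit.app F).hom.app (op ((EtCoh.bc f).obj V)) s) := by
  show ((EtCoh.pull g').obj F).obj.map _ (((EtCoh.pull g').obj F).obj.map _
    (((EtCoh.pull g').obj F).obj.map _ _)) = _
  unfold theta
  rw [op_comp, op_comp, Functor.map_comp, Functor.map_comp]
  rfl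

lemma baseChange0_unit (F : EtCoh.Ab X) (V : Y.Etale) (s : EtCoh.sect ((EtCoh.push f).obj F) V) :
    (EtCoh.baseChange0 f g f' g' w F).hom.app (op ((EtCoh.bc g).obj V))
      (((EtCoh.pullPushAdj g).unit.app ((EtCoh.push f).obj F)).hom.app (op V) s) =
      (bcAdj f g f' g' w F).hom.app (op V) s := by
  have h1 : (EtCoh.pullPushAdj g).unit.app ((EtCoh.push f).obj F) ≫
      (EtCoh.push g).map (EtCoh.baseChange0 f g f' g' w F) = bcAdj f g f' g' w F := by
    rw [baseChange0_eq]
    exact ((EtCoh.pullPushAdj g).homEquiv_unit _ _ _).symm.trans (Equiv.apply_symm_apply _ _)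
  have h2 := congrArg (fun k : (EtCoh.push f).obj F ⟶ _ => k.hom.app (op V) s) h1
  exact h2

section compat

variable {Ω : Type u} [Field Ω] [IsSepClosed Ω]

set_option backward.isDefEq.respectTransparency false in
/-- the base change map is compatible with the maps `(f_* F)_η ⟶ F_ξ` -/
theorem stalkPullIso_pushGermOf_baseChange0 (F : EtCoh.Ab X)
    (η' : Spec (CommRingCat.of Ω) ⟶ Y') (ξ' : Spec (CommRingCat.of Ω) ⟶ X')
    (hξ' : ξ' ≫ f' = η') (hξ : (ξ' ≫ g') ≫ f = η' ≫ g)
    (a : (EtCoh.stalk η').obj ((EtCoh.pull g).obj ((EtCoh.push f).obj F))) :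
    (stalkPullIso g' ξ').hom.app F
        (pushGermOf f' ξ' η' hξ' ((EtCoh.pull g').obj F)
          ((EtCoh.stalk η').map (EtCoh.baseChange0 f g f' g' w F) a)) =
      pushGermOf f (ξ' ≫ g') (η' ≫ g) hξ F
        ((stalkPullIso g η').hom.app ((EtCoh.push f).obj F) a) := by
  obtain ⟨a₀, rfl⟩ : ∃ a₀, (stalkPullIso g η').inv.app ((EtCoh.push f).obj F) a₀ = a :=
    ⟨(stalkPullIso g η').hom.app _ a, Iso.hom_inv_id_app_apply (stalkPullIso g η') _ a⟩
  obtain ⟨V, y, s, rfl⟩ := germ_jointly_surjective (η' ≫ g) ((EtCoh.push f).obj F) a₀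
  rw [Iso.inv_hom_id_app_apply (stalkPullIso g η') ((EtCoh.push f).obj F), pushGermOf_germ,
    stalkPullIso_inv_germ, germ_naturality, baseChange0_unit, bcAdj_app, pushGermOf_germ,
    germ_res, stalkPullIso_hom_germ]
  have key : pushNbhd g' ξ' (Nbhd.map ξ' (theta f g f' g' w V)
      (pullNbhdOf f' ξ' η' hξ' (pullNbhd g η' y))) = pullNbhdOf f (ξ' ≫ g') (η' ≫ g) hξ y := ?_
  · rw [key]
  apply nbhd_bc_ext
  rw [pullNbhdOf_left_fst, pushNbhd_left]
  have h1 := theta_left_fst_fst f g f' g' w V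
  have h2 := pullNbhdOf_left_fst f' ξ' η' hξ' (pullNbhd g η' y)
  have h3 := pullNbhd_left_fst g η' y
  calc _ = (CommaMorphism.left (pullNbhdOf f' ξ' η' hξ' (pullNbhd g η' y)) :
          Spec (CommRingCat.of Ω) ⟶ pullback ((EtCoh.bc g).obj V).hom f') ≫
        ((theta f g f' g' w V).left ≫ pullback.fst ((EtCoh.bc f).obj V).hom g' ≫
          pullback.fst V.hom f) := by
        simp only [Category.assoc]
        rfl
    _ = _ := by
        rw [h1, ← Category.assoc, h2, h3]

end compat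

section main

open Groth.Agent.Lib.EtGeomPtConservative39

set_option backward.isDefEq.respectTransparency false in
/-- finite base change in degree zero -/
theorem isIso_baseChange0_of_isFinite [IsFinite f] (h : IsPullback g' f' f g) (F : EtCoh.Ab X) :
    IsIso (EtCoh.baseChange0 f g f' g' h.w F) := by
  have hf' : IsFinite f' := MorphismProperty.of_isPullback (P := @IsFinite) h inferInstance
  apply isIso_of_forall_geomPt
  intro x'
  refine ⟨AlgebraicClosure (Y'.residueField x'), inferInstance, inferInstance, algPt x',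
    algPt_default x', ?_⟩
  set η' := algPt x' with hη'
  constructor
  · -- injectivity
    rw [injective_iff_map_eq_zero]
    intro a ha
    have h0 : (stalkPullIso g η').hom.app ((EtCoh.push f).obj F) a = 0 := by
      apply eq_zero_of_pushGermOf_eq_zero f (η' ≫ g)
      intro ξ hξ
      obtain ⟨ξ', h1, h2⟩ : ∃ ξ' : Spec (CommRingCat.of (AlgebraicClosure (Y'.residueField x'))) ⟶ X',
          ξ' ≫ g' = ξ ∧ ξ' ≫ f' = η' :=
        ⟨h.lift ξ η' hξ, h.lift_fst _ _ _, h.lift_snd _ _ _⟩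
      subst h1
      have := stalkPullIso_pushGermOf_baseChange0 f g f' g' h.w F η' ξ' h2 hξ a
      rw [← this, ha, map_zero, map_zero]
    have h1 := congrArg ((stalkPullIso g η').inv.app ((EtCoh.push f).obj F)) h0
    rw [Iso.hom_inv_id_app_apply (stalkPullIso g η'), map_zero] at h1
    exact h1
  · -- surjectivity
    intro b
    have := finite_geomPts_over f' η'
    have := Fintype.ofFinite
      {ξ' : Spec (CommRingCat.of (AlgebraicClosure (Y'.residueField x'))) ⟶ X' // ξ' ≫ f' = η'}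
    have hcomp : ∀ ξ' : {ξ' : Spec (CommRingCat.of (AlgebraicClosure (Y'.residueField x'))) ⟶ X' //
        ξ' ≫ f' = η'}, (ξ'.1 ≫ g') ≫ f = η' ≫ g := fun ξ' => by
      rw [Category.assoc, h.w, ← Category.assoc, ξ'.2]
    choose σ hσ1 hσ2 using fun ξ' : {ξ' : Spec (CommRingCat.of
        (AlgebraicClosure (Y'.residueField x'))) ⟶ X' // ξ' ≫ f' = η'} =>
      exists_pushGermOf_eq f (η' ≫ g) F (ξ'.1 ≫ g') (hcomp ξ')
        ((stalkPullIso g' ξ'.1).hom.app F (pushGermOf f' ξ'.1 η' ξ'.2 ((EtCoh.pull g').obj F) b))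
    refine ⟨(stalkPullIso g η').inv.app ((EtCoh.push f).obj F) (∑ ξ', σ ξ'), ?_⟩
    rw [← sub_eq_zero]
    apply eq_zero_of_pushGermOf_eq_zero f' η'
    intro ξ' hξ'
    have hinj : Function.Injective ((stalkPullIso g' ξ').hom.app F) := by
      intro p q hpq
      have := congrArg ((stalkPullIso g' ξ').inv.app F) hpq
      rwa [Iso.hom_inv_id_app_apply (stalkPullIso g' ξ'),
        Iso.hom_inv_id_app_apply (stalkPullIso g' ξ')] at this
    apply hinj
    rw [map_zero, map_sub, map_sub, sub_eq_zero,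
      stalkPullIso_pushGermOf_baseChange0 f g f' g' h.w F η' ξ' hξ' (hcomp ⟨ξ', hξ'⟩),
      Iso.inv_hom_id_app_apply (stalkPullIso g η'), map_sum,
      Finset.sum_eq_single (⟨ξ', hξ'⟩ : {ξ' : Spec (CommRingCat.of
        (AlgebraicClosure (Y'.residueField x'))) ⟶ X' // ξ' ≫ f' = η'})]
    · exact hσ1 ⟨ξ', hξ'⟩
    · intro ζ _ hne
      apply hσ2 ζ (ξ' ≫ g') (hcomp ⟨ξ', hξ'⟩)
      intro heq
      apply hne
      apply Subtype.ext
      apply h.hom_ext
      · exact heq.symm
      · rw [ζ.2, hξ']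
    · intro hh
      exact (hh (Finset.mem_univ _)).elim

end main

end Groth.Agent.Lib.EtFinBC39
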