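import Groth.Agent.Lib.H59Weight3

/-!
# Weightings: the core Fubini step for compositions (helper59)
-/

set_option autoImplicit false
set_option linter.style.haveILetI false
universe u
open CategoryTheory AlgebraicGeometry CategoryTheory.Limits IsLocalRing MorphismProperty

namespace Groth.Agent.Lib.H59Weight

open Groth.Agent.Lib.H59FibInt Groth.Agent.Lib.H59GeomPoints Groth.Agent.Lib.EtLocQF

variable {X Y Z : Scheme.{u}}

theorem J_mul_const {P V : Scheme.{u}} (p : P ⟶ V) (S : Set P) (W : P → ℤ) (c : ℤ) (v : V) :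
    J p S (fun z => W z * c) v = c * J p S W v := by
  unfold J
  rw [mul_finsum_mem]
  refine finsum_mem_congr rfl fun z _ => ?_
  ring

theorem J_congr_weight {P V : Scheme.{u}} (p : P ⟶ V) (S : Set P) (W W' : P → ℤ) (v : V)
    (h : ∀ z, p z = v → z ∈ S → W z = W' z) : J p S W v = J p S W' v := by
  unfold J
  refine finsum_mem_congr rfl fun z hz => ?_
  rw [h z hz.1 hz.2]

/-- The restriction over `N` of an open `T` finite over the base, as an open of the source. -/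
theorem isoImage_inv_morphismRestrict_ι {X Z : Scheme.{u}} (T : X.Opens) (π : X ⟶ Z)
    (N : Z.Opens) :
    (T.ι.isoImage ((T.ι ≫ π) ⁻¹ᵁ N)).inv ≫ ((T.ι ≫ π) ∣_ N) ≫ N.ι =
      (T.ι ''ᵁ ((T.ι ≫ π) ⁻¹ᵁ N)).ι ≫ π := by
  rw [morphismRestrict_ι, Scheme.Hom.isoImage_inv_ι_assoc]

/-- Core step: `T ⊆ X` open finite over `Z`, `V ⊆ Y` open finite over `Z` with a unique point `v` over
`z`, and `f` maps the fibre of `T` over `z` into `V`.  Then the partial integral of `w_f · (w_g ∘ f)` over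
`T` is constant near `z`. -/
theorem core_const (f : X ⟶ Y) (g : Y ⟶ Z) (wf : X → ℤ) (wg : Y → ℤ)
    (hwf : MoreMor.IsWeighting f wf) (hwg : MoreMor.IsWeighting g wg)
    (T : X.Opens) (hT : IsFinite (T.ι ≫ f ≫ g)) (V : Y.Opens) (hV : IsFinite (V.ι ≫ g)) (z : Z)
    (v : Y) (hvV : v ∈ V) (hvz : g v = z) (hVuniq : ∀ y ∈ V, g y = z → y = v)
    (hTV : ∀ t ∈ T, g (f t) = z → f t ∈ V) :
    ∃ N : Set Z, IsOpen N ∧ z ∈ N ∧ ∀ z' ∈ N,
      J (f ≫ g) (T : Set X) (fun x => wf x * wg (f x)) z' =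
        J (f ≫ g) (T : Set X) (fun x => wf x * wg (f x)) z := by
  obtain ⟨N₁s, hN₁o, hzN₁, hN₁⟩ := exists_nhds_preimage_subset (f ≫ g) T hT (f ⁻¹' (V : Set Y))
    (V.isOpen.preimage f.continuous) z (fun t ht htz => hTV t ht htz)
  set N₁ : Z.Opens := ⟨N₁s, hN₁o⟩ with hN₁def
  set M : X.Opens := T.ι ''ᵁ ((T.ι ≫ f ≫ g) ⁻¹ᵁ N₁) with hMdef
  set V₁ : Y.Opens := V.ι ''ᵁ ((V.ι ≫ g) ⁻¹ᵁ N₁) with hV₁def
  have hM : ∀ x : X, x ∈ M ↔ x ∈ T ∧ g (f x) ∈ N₁s := by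
    intro x
    constructor
    · rintro ⟨t, ht, rfl⟩
      exact ⟨t.2, ht⟩
    · rintro ⟨hx, hπ⟩
      exact ⟨⟨x, hx⟩, hπ, rfl⟩
  have hV₁ : ∀ y : Y, y ∈ V₁ ↔ y ∈ V ∧ g y ∈ N₁s := by
    intro y
    constructor
    · rintro ⟨t, ht, rfl⟩
      exact ⟨t.2, ht⟩
    · rintro ⟨hy, hπ⟩
      exact ⟨⟨y, hy⟩, hπ, rfl⟩
  -- the maps to `N₁`
  let qM : (M : Scheme.{u}) ⟶ (N₁ : Scheme.{u}) :=
    (T.ι.isoImage ((T.ι ≫ f ≫ g) ⁻¹ᵁ N₁)).inv ≫ ((T.ι ≫ f ≫ g) ∣_ N₁)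
  have hqM : qM ≫ N₁.ι = M.ι ≫ f ≫ g := by
    simp only [qM, Category.assoc]
    exact isoImage_inv_morphismRestrict_ι T (f ≫ g) N₁
  have hqMfin : IsFinite qM := by
    haveI : IsFinite ((T.ι ≫ f ≫ g) ∣_ N₁) := IsZariskiLocalAtTarget.restrict hT N₁
    dsimp only [qM]; infer_instance
  let qV : (V₁ : Scheme.{u}) ⟶ (N₁ : Scheme.{u}) :=
    (V.ι.isoImage ((V.ι ≫ g) ⁻¹ᵁ N₁)).inv ≫ ((V.ι ≫ g) ∣_ N₁)
  have hqV : qV ≫ N₁.ι = V₁.ι ≫ g := by
    simp only [qV, Category.assoc]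
    exact isoImage_inv_morphismRestrict_ι V g N₁
  have hqVfin : IsFinite qV := by
    haveI : IsFinite ((V.ι ≫ g) ∣_ N₁) := IsZariskiLocalAtTarget.restrict hV N₁
    dsimp only [qV]; infer_instance
  -- the map `a : M ⟶ V₁`
  have hrange : Set.range (M.ι ≫ f) ⊆ Set.range V₁.ι := by
    rintro _ ⟨m, rfl⟩
    rw [Scheme.Opens.range_ι]
    have hm := (hM m.1).1 m.2
    exact (hV₁ _).2 ⟨hN₁ m.1 hm.1 hm.2, hm.2⟩
  let a : (M : Scheme.{u}) ⟶ (V₁ : Scheme.{u}) := IsOpenImmersion.lift V₁.ι (M.ι ≫ f) hrange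
  have ha : a ≫ V₁.ι = M.ι ≫ f := IsOpenImmersion.lift_fac _ _ _
  have haq : a ≫ qV = qM := by
    rw [← cancel_mono N₁.ι, Category.assoc, hqV, ← Category.assoc, ha, Category.assoc, hqM]
  have hafin : IsFinite a := by
    haveI : IsFinite (a ≫ qV) := haq ▸ hqMfin
    exact IsFinite.of_comp a qV
  -- the inner integral is locally constant
  have hcomm : M.ι ≫ f = a ≫ V₁.ι := ha.symm
  haveI : IsOpenImmersion (pullback.lift M.ι a hcomm) := by
    haveI : IsOpenImmersion (pullback.lift M.ι a hcomm ≫ pullback.fst f V₁.ι) := by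
      rw [pullback.lift_fst]; infer_instance
    exact IsOpenImmersion.of_comp _ (pullback.fst f V₁.ι)
  have hc := isLocallyConstant_of_square hwf M.ι a V₁.ι hcomm hafin
  set c := MoreMor.fibreIntegral a (fun m => wf (M.ι m)) with hcdef
  -- the unique point of `V₁` over `z`
  have hvV₁ : v ∈ V₁ := (hV₁ v).2 ⟨hvV, hvz ▸ hzN₁⟩
  set c₀ : ℤ := c ⟨v, hvV₁⟩ with hc₀
  have hV₂o : IsOpen (V₁.ι '' (c ⁻¹' {c₀})) := V₁.ι.isOpenMap _ (hc.isOpen_fiber c₀)
  obtain ⟨N₂, hN₂o, hzN₂, hN₂⟩ := exists_nhds_preimage_subset g V hV _ hV₂o z (fun y hy hyz => by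
    rw [hVuniq y hy hyz]
    exact ⟨⟨v, hvV₁⟩, rfl, rfl⟩)
  -- the outer integral is locally constant
  have hg1 : IsLocallyConstant (J g (V : Set Y) wg) := by
    have hcomm' : V.ι ≫ g = (V.ι ≫ g) ≫ 𝟙 Z := (Category.comp_id _).symm
    haveI : IsOpenImmersion (pullback.lift V.ι (V.ι ≫ g) hcomm') := by
      haveI : IsOpenImmersion (pullback.lift V.ι (V.ι ≫ g) hcomm' ≫ pullback.fst g (𝟙 Z)) := by
        rw [pullback.lift_fst]; infer_instance
      exact IsOpenImmersion.of_comp _ (pullback.fst g (𝟙 Z))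
    have := isLocallyConstant_of_square hwg V.ι (V.ι ≫ g) (𝟙 Z) hcomm' hV
    have hfun : MoreMor.fibreIntegral (V.ι ≫ g) (fun t => wg (V.ι t)) = J g (V : Set Y) wg := by
      funext z'
      exact fibreIntegral_ι_comp V g wg z'
    rwa [hfun] at this
  -- the formula over `N₁ ∩ N₂`
  have hformula : ∀ z' ∈ N₁s ∩ N₂, J (f ≫ g) (T : Set X) (fun x => wf x * wg (f x)) z' =
      c₀ * J g (V : Set Y) wg z' := by
    rintro z' ⟨hz'1, hz'2⟩
    have e1 : J (f ≫ g) (T : Set X) (fun x => wf x * wg (f x)) z' =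
        J (f ≫ g) (M : Set X) (fun x => wf x * wg (f x)) z' := by
      refine J_congr_set _ _ _ fun x hx => ?_
      change x ∈ T ↔ x ∈ M
      rw [hM]
      have : g (f x) = z' := hx
      rw [this]
      exact ⟨fun h => ⟨h, hz'1⟩, fun h => h.1⟩
    have e2 : J (f ≫ g) (M : Set X) (fun x => wf x * wg (f x)) z' =
        MoreMor.fibreIntegral (a ≫ V₁.ι ≫ g)
          (fun m => wf (M.ι m) * wg (V₁.ι (a m))) z' := by
      rw [← fibreIntegral_ι_comp]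
      have h1 : M.ι ≫ f ≫ g = a ≫ V₁.ι ≫ g := by rw [← Category.assoc, ← ha, Category.assoc]
      have h2 : ∀ m, f (M.ι m) = V₁.ι (a m) := fun m => by
        rw [← Scheme.Hom.comp_apply, ← Scheme.Hom.comp_apply, ha]
      simp_rw [h2]
      rw [h1]
    have hfinfib : {m : (M : Scheme.{u}) | (V₁.ι ≫ g) (a m) = z'}.Finite := by
      haveI := hqMfin
      have hf1 := qM.finite_preimage_singleton ⟨z', hz'1⟩
      refine hf1.subset fun m hm => ?_
      change qM m = ⟨z', hz'1⟩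
      apply Subtype.ext
      have h3 : N₁.ι (qM m) = (V₁.ι ≫ g) (a m) := by
        rw [← Scheme.Hom.comp_apply, hqM,
          show M.ι ≫ f ≫ g = a ≫ V₁.ι ≫ g by rw [← Category.assoc, ← ha, Category.assoc]]
        rfl
      exact h3.trans hm
    have e3 := fibreIntegral_comp a (V₁.ι ≫ g) (fun m => wf (M.ι m)) (fun y => wg (V₁.ι y)) z'
      hfinfib
    have e4 : MoreMor.fibreIntegral (V₁.ι ≫ g) (fun y => wg (V₁.ι y) * c y) z' =
        MoreMor.fibreIntegral (V₁.ι ≫ g) (fun y => wg (V₁.ι y) * c₀) z' := by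
      refine fibreIntegral_congr _ _ _ _ fun y hy => ?_
      have hy1 : V₁.ι y ∈ V := ((hV₁ _).1 y.2).1
      obtain ⟨y', hy'c, hy'⟩ := hN₂ (V₁.ι y) hy1 (by
        have : g (V₁.ι y) = z' := hy
        rw [this]; exact hz'2)
      have : y' = y := V₁.ι.isOpenEmbedding.injective hy'
      subst this
      have : c y' = c₀ := hy'c
      rw [this]
    have e5 : MoreMor.fibreIntegral (V₁.ι ≫ g) (fun y => wg (V₁.ι y) * c₀) z' =
        c₀ * J g (V : Set Y) wg z' := by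
      rw [fibreIntegral_ι_comp V₁ g (fun y => wg y * c₀) z', J_mul_const]
      congr 1
      refine J_congr_set _ _ _ fun y hy => ?_
      change y ∈ V₁ ↔ y ∈ V
      rw [hV₁]
      have : g y = z' := hy
      rw [this]
      exact ⟨fun h => h.1, fun h => ⟨h, hz'1⟩⟩
    rw [e1, e2, e3, e4, e5]
  -- conclusion
  refine ⟨(N₁s ∩ N₂) ∩ (J g (V : Set Y) wg) ⁻¹' {J g (V : Set Y) wg z},
    (hN₁o.inter hN₂o).inter (hg1.isOpen_fiber _), ⟨⟨hzN₁, hzN₂⟩, rfl⟩, ?_⟩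
  rintro z' ⟨hz', hz'c⟩
  rw [hformula z' hz', hformula z ⟨hzN₁, hzN₂⟩]
  congr 1

end Groth.Agent.Lib.H59Weight
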