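import Groth.Agent.Lib.H59Split
import Groth.Agent.Lib.H59Weight4

/-!
# Splitting finite étale covers by finite étale covers of degree `n!` (helper59)
-/

set_option autoImplicit false
set_option linter.style.haveILetI false
universe u
open CategoryTheory AlgebraicGeometry CategoryTheory.Limits MorphismProperty

namespace Groth.Agent.Lib.H59Split

open Groth.Agent.Lib.H59FibInt Groth.Agent.Lib.H59NGeom Groth.Agent.Lib.H59Weight

/-- Ranks of finite étale morphisms of constant rank multiply under composition. -/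
theorem finrank_comp_const {X Y Z : Scheme.{u}} (a : X ⟶ Y) (b : Y ⟶ Z) [IsFinite a] [Etale a]
    [IsFinite b] [Etale b] (m k : ℕ) (ha : ∀ y, a.finrank y = m) (hb : ∀ z, b.finrank z = k)
    (z : Z) : (a ≫ b).finrank z = m * k := by
  haveI : LocallyQuasiFinite a := locallyQuasiFinite_of_etale a
  haveI : LocallyQuasiFinite (a ≫ b) := locallyQuasiFinite_of_etale (a ≫ b)
  have hfin : {x : X | b (a x) = z}.Finite := by
    have := (a ≫ b).finite_preimage_singleton z
    refine this.subset ?_
    intro x hx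
    exact hx
  have h1 := fibreIntegral_comp a b (fun _ => 1) (fun _ => 1) z hfin
  have h2 : MoreMor.fibreIntegral (a ≫ b) (fun x => (1 : ℤ) * 1) z = ((a ≫ b).finrank z : ℤ) := by
    rw [← fibreIntegral_one_eq_finrank (a ≫ b) z]
    exact fibreIntegral_congr _ _ _ _ (fun _ _ => by ring)
  have h3 : MoreMor.fibreIntegral b (fun v => (1 : ℤ) * MoreMor.fibreIntegral a (fun _ => 1) v) z =
      (m : ℤ) * k := by
    have : MoreMor.fibreIntegral b (fun v => (1 : ℤ) * MoreMor.fibreIntegral a (fun _ => 1) v) z =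
        MoreMor.fibreIntegral b (fun _ => (1 : ℤ) * m) z :=
      fibreIntegral_congr _ _ _ _ (fun v _ => by rw [fibreIntegral_one_eq_finrank a v, ha v])
    rw [this, fibreIntegral_eq_J_univ, J_mul_const, ← fibreIntegral_eq_J_univ,
      fibreIntegral_one_eq_finrank b z, hb z]
  rw [h2, h3] at h1
  exact_mod_cast h1

/-- **Splitting by a finite étale cover of degree `n!`.** -/
theorem exists_splitBy_etale (n : ℕ) : ∀ {S X : Scheme.{u}} (φ : X ⟶ S) [IsFinite φ] [Etale φ],
    (∀ s, φ.finrank s = n) → ∃ (Y : Scheme.{u}) (ψ : Y ⟶ S), IsFinite ψ ∧ Etale ψ ∧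
      Surjective ψ ∧ (∀ s, ψ.finrank s = n.factorial) ∧ SplitBy (pullback.snd φ ψ) n := by
  induction n with
  | zero =>
    intro S X φ _ _ hrank
    haveI : IsEmpty X := ⟨fun x => by
      have := Scheme.Hom.one_le_finrank_map φ x
      rw [hrank] at this
      omega⟩
    refine ⟨S, 𝟙 S, inferInstance, inferInstance, inferInstance, ?_, ?_⟩
    · intro s
      rw [Scheme.Hom.finrank_eq_one_of_isIso]
      rfl
    refine ⟨fun i => i.elim0, fun i => i.elim0, fun i => i.elim0, fun z => ?_, fun i => i.elim0⟩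
    exact (IsEmpty.false (pullback.fst φ (𝟙 S) z)).elim
  | succ n ih =>
    intro S X φ _ _ hrank
    have hΔclosed : IsClosed (Set.range (pullback.diagonal φ)) :=
      (pullback.diagonal φ).isClosedEmbedding.isClosed_range
    have hΔopen : IsOpen (Set.range (pullback.diagonal φ)) :=
      (pullback.diagonal φ).isOpenEmbedding.isOpen_range
    let X' : (pullback φ φ).Opens := ⟨(Set.range (pullback.diagonal φ))ᶜ, hΔclosed.isOpen_compl⟩
    haveI : IsClosedImmersion X'.ι := .of_isPreimmersion _ (by
      rw [Scheme.Opens.range_ι]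
      exact hΔopen.isClosed_compl)
    haveI : IsFinite (X'.ι ≫ pullback.snd φ φ) := inferInstance
    haveI : Etale (X'.ι ≫ pullback.snd φ φ) := inferInstance
    have hrankρ : ∀ x, (X'.ι ≫ pullback.snd φ φ).finrank x = n := by
      intro x
      have := finrank_compl_diagonal φ X' rfl x
      rw [hrank] at this
      push_cast at this
      omega
    obtain ⟨Y, ψ', hfin, het, hsurj, hrankψ', hsplit⟩ := ih (X'.ι ≫ pullback.snd φ φ) hrankρ
    haveI : Surjective φ := (Scheme.Hom.one_le_finrank_iff_surjective φ).mp (fun s => by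
      change 1 ≤ φ.finrank s
      rw [hrank]
      omega)
    refine ⟨Y, ψ' ≫ φ, inferInstance, inferInstance, inferInstance, ?_, ?_⟩
    · intro s
      rw [finrank_comp_const ψ' φ n.factorial (n + 1) hrankψ' hrank s, Nat.factorial_succ]
      ring
    refine splitBy_of_iso_comp (pullbackLeftPullbackSndIso φ φ ψ') _ (n + 1) ?_
    rw [pullbackLeftPullbackSndIso_hom_snd]
    exact splitBy_succ φ X' rfl ψ' n hsplit

/-- A cover split by sections is isomorphic to a disjoint union of copies of the base indexed by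
a type in the universe of the schemes. -/
theorem exists_iso_ulift_of_splitBy {Q Y : Scheme.{u}} (q : Q ⟶ Y) (n : ℕ) (h : SplitBy q n) :
    ∃ e : Q ≅ ∐ fun _ : ULift.{u} (Fin n) => Y,
      ∀ i : ULift.{u} (Fin n), Sigma.ι (fun _ : ULift.{u} (Fin n) => Y) i ≫ e.inv ≫ q = 𝟙 Y := by
  obtain ⟨s, hs, hopen, hcov, hdisj⟩ := h
  haveI : ∀ i : ULift.{u} (Fin n), IsOpenImmersion (s i.down) := fun i => hopen i.down
  obtain ⟨hc⟩ := nonempty_isColimit_cofanMk_of (fun i : ULift.{u} (Fin n) => s i.down) (by
      rw [eq_top_iff]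
      intro z _
      obtain ⟨i, hi⟩ := hcov z
      exact TopologicalSpace.Opens.mem_iSup.mpr ⟨⟨i⟩, hi⟩)
    (by
      intro i j hij
      have hij' : i.down ≠ j.down := fun h => hij (ULift.ext _ _ h)
      change Disjoint (s i.down).opensRange (s j.down).opensRange
      rw [disjoint_iff, TopologicalSpace.Opens.ext_iff]
      simpa [Set.disjoint_iff_inter_eq_empty] using hdisj i.down j.down hij')
  let e : Q ≅ ∐ fun _ : ULift.{u} (Fin n) => Y :=
    hc.coconePointUniqueUpToIso (coproductIsCoproduct (fun _ : ULift.{u} (Fin n) => Y))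
  refine ⟨e, fun i => ?_⟩
  have : Sigma.ι (fun _ : ULift.{u} (Fin n) => Y) i ≫ e.inv = s i.down :=
    hc.comp_coconePointUniqueUpToIso_inv
      (coproductIsCoproduct (fun _ : ULift.{u} (Fin n) => Y)) ⟨i⟩
  rw [← Category.assoc, this, hs i.down]

end Groth.Agent.Lib.H59Split
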