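import Groth.Agent.Lib.EtExt22c
import Groth.Agent.Lib.H59Split2

/-!
# Split coverings and direct images, part 1: geometry (helper22)

For `f : X ⟶ Y` and an étale `V ⟶ Y`, `SplitData f V d` consists of `d` lifts `t i : V ⟶ X` of
`V ⟶ Y` whose graphs form a disjoint open cover of `V ×_Y X`.  For `W` étale over `V` we get
`d` sheets `sheet D W i : (W ⟶ V ⟶ X via t i) ⟶ W ×_Y X` which are monomorphisms with pairwise
disjoint ranges covering `W ×_Y X`.
-/

set_option autoImplicit false
set_option linter.style.haveILetI false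
set_option linter.unusedSectionVars false
universe u

open CategoryTheory AlgebraicGeometry Limits MorphismProperty Opposite

namespace Groth.Agent.Lib.EtFinEtPush22

open Groth.Agent.Lib.EtOverSite22

variable {X Y : Scheme.{u}} (f : X ⟶ Y) (V : Y.Etale)

/-- the graph of a lift `t` of `V ⟶ Y` -/
noncomputable def graph (t : V.left ⟶ X) (w : t ≫ f = V.hom) : V.left ⟶ pullback V.hom f :=
  pullback.lift (𝟙 _) t (by rw [Category.id_comp, w])

/-- Splitting of `f` over `V`. -/
structure SplitData (d : ℕ) where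
  /-- the sheets -/
  t : Fin d → (V.left ⟶ X)
  w : ∀ i, t i ≫ f = V.hom
  open_graph : ∀ i, IsOpenImmersion (graph f V (t i) (w i))
  disj : ∀ i j, i ≠ j →
    Disjoint (Set.range (graph f V (t i) (w i))) (Set.range (graph f V (t j) (w j)))
  cover : ∀ z : ↥(pullback V.hom f), ∃ i, z ∈ Set.range (graph f V (t i) (w i))

variable {f V} {d : ℕ} (D : SplitData f V d)

instance etale_t (i : Fin d) : Etale (D.t i) := by
  have h : D.t i = graph f V (D.t i) (D.w i) ≫ pullback.snd V.hom f :=
    (pullback.lift_snd _ _ _).symm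
  haveI := D.open_graph i
  rw [h]
  infer_instance

/-- the `i`-th sheet as an étale `X`-scheme -/
noncomputable def SplitData.A (i : Fin d) : X.Etale := Scheme.Etale.mk (D.t i)

variable (W : V.left.Etale)

/-- `W` viewed over `X` via the `i`-th sheet -/
noncomputable abbrev SplitData.WA (i : Fin d) : X.Etale :=
  (EtShriek.compEtale (homX (D.A i))).obj W

/-- `W` viewed over `Y` -/
noncomputable abbrev WV (V : Y.Etale) (W : V.left.Etale) : Y.Etale :=
  (EtShriek.compEtale (homX V)).obj W

/-- the underlying morphism of the `i`-th sheet of `W ×_Y X` -/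
noncomputable def SplitData.sheetLeft (i : Fin d) : W.left ⟶ pullback (W.hom ≫ V.hom) f :=
  pullback.lift (𝟙 _) (W.hom ≫ D.t i) (by rw [Category.id_comp, Category.assoc, D.w i])

/-- the comparison `W ×_Y X ⟶ V ×_Y X` -/
noncomputable def compMap (f : X ⟶ Y) (V : Y.Etale) (W : V.left.Etale) :
    pullback (W.hom ≫ V.hom) f ⟶ pullback V.hom f :=
  pullback.lift (pullback.fst _ _ ≫ W.hom) (pullback.snd _ _)
    (by rw [Category.assoc, pullback.condition])

theorem SplitData.sheetLeft_fst (i : Fin d) :
    D.sheetLeft W i ≫ pullback.fst _ _ = 𝟙 _ := pullback.lift_fst _ _ _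

theorem SplitData.sheetLeft_snd (i : Fin d) :
    D.sheetLeft W i ≫ pullback.snd _ _ = W.hom ≫ D.t i := pullback.lift_snd _ _ _

theorem SplitData.sheetLeft_compMap (i : Fin d) :
    D.sheetLeft W i ≫ compMap f V W = W.hom ≫ graph f V (D.t i) (D.w i) := by
  apply pullback.hom_ext
  · have h1 : (D.sheetLeft W i ≫ compMap f V W) ≫ pullback.fst V.hom f =
        (D.sheetLeft W i ≫ pullback.fst _ _) ≫ W.hom := by
      rw [Category.assoc, Category.assoc]
      exact congrArg (fun t => D.sheetLeft W i ≫ t) (pullback.lift_fst _ _ _)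
    have h2 : (W.hom ≫ graph f V (D.t i) (D.w i)) ≫ pullback.fst V.hom f = W.hom ≫ 𝟙 _ := by
      rw [Category.assoc]
      exact congrArg (fun t => W.hom ≫ t) (pullback.lift_fst _ _ _)
    rw [h1, h2, D.sheetLeft_fst W i, Category.id_comp, Category.comp_id]
  · have h1 : (D.sheetLeft W i ≫ compMap f V W) ≫ pullback.snd V.hom f =
        D.sheetLeft W i ≫ pullback.snd _ _ := by
      rw [Category.assoc]
      exact congrArg (fun t => D.sheetLeft W i ≫ t) (pullback.lift_snd _ _ _)
    have h2 : (W.hom ≫ graph f V (D.t i) (D.w i)) ≫ pullback.snd V.hom f = W.hom ≫ D.t i := by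
      rw [Category.assoc]
      exact congrArg (fun t => W.hom ≫ t) (pullback.lift_snd _ _ _)
    rw [h1, h2, D.sheetLeft_snd W i]

/-- the square `W ⟶ W ×_Y X`, `V ⟶ V ×_Y X` is cartesian -/
theorem SplitData.isPullback_sheet (i : Fin d) :
    IsPullback (D.sheetLeft W i) W.hom (compMap f V W) (graph f V (D.t i) (D.w i)) := by
  have hright : IsPullback (pullback.fst (W.hom ≫ V.hom) f) (compMap f V W) W.hom
      (pullback.fst V.hom f) := by
    have hout : IsPullback (pullback.fst (W.hom ≫ V.hom) f) (pullback.snd (W.hom ≫ V.hom) f)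
        (W.hom ≫ V.hom) f := IsPullback.of_hasPullback _ _
    have hbot : IsPullback (pullback.fst V.hom f) (pullback.snd V.hom f) V.hom f :=
      IsPullback.of_hasPullback _ _
    have e : compMap f V W ≫ pullback.snd V.hom f = pullback.snd (W.hom ≫ V.hom) f :=
      pullback.lift_snd _ _ _
    have hout' : IsPullback (pullback.fst (W.hom ≫ V.hom) f)
        (compMap f V W ≫ pullback.snd V.hom f) (W.hom ≫ V.hom) f := by
      rw [e]
      exact hout
    exact IsPullback.of_bot hout' (pullback.lift_fst _ _ _).symm hbot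
  have houter : IsPullback (D.sheetLeft W i ≫ pullback.fst (W.hom ≫ V.hom) f) W.hom W.hom
      (graph f V (D.t i) (D.w i) ≫ pullback.fst V.hom f) := by
    have h1 : D.sheetLeft W i ≫ pullback.fst (W.hom ≫ V.hom) f = 𝟙 _ := D.sheetLeft_fst W i
    have h2 : graph f V (D.t i) (D.w i) ≫ pullback.fst V.hom f = 𝟙 _ := pullback.lift_fst _ _ _
    rw [h1, h2]
    exact IsPullback.id_horiz W.hom
  exact IsPullback.of_right houter (D.sheetLeft_compMap W i) hright

theorem SplitData.range_sheetLeft (i : Fin d) :
    Set.range (D.sheetLeft W i) = (compMap f V W) ⁻¹' Set.range (graph f V (D.t i) (D.w i)) :=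
  Groth.Agent.Lib.H59Split.range_fst_of_isPullback (D.isPullback_sheet W i)

instance SplitData.mono_sheetLeft (i : Fin d) : Mono (D.sheetLeft W i) :=
  mono_of_mono_fac (D.sheetLeft_fst W i)

theorem SplitData.disjoint_sheetLeft (i j : Fin d) (h : i ≠ j) :
    Disjoint (Set.range (D.sheetLeft W i)) (Set.range (D.sheetLeft W j)) := by
  rw [D.range_sheetLeft, D.range_sheetLeft]
  exact (D.disj i j h).preimage _

theorem SplitData.cover_sheetLeft : (⋃ i, Set.range (D.sheetLeft W i)) = Set.univ := by
  apply Set.eq_univ_of_forall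
  intro z
  obtain ⟨i, hi⟩ := D.cover (compMap f V W z)
  refine Set.mem_iUnion.2 ⟨i, ?_⟩
  rw [D.range_sheetLeft]
  exact hi

end Groth.Agent.Lib.EtFinEtPush22
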