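import Groth.Agent.Lib.EtFinEtPush22a
import Groth.Agent.Lib.EtPushEpi39

/-!
# Split coverings and direct images, part 2: sheaves (helper22)

For a splitting `D : SplitData f V d` and an abelian sheaf `F` on `X`, the restriction of `f_* F`
to `V` is the product of the restrictions of `F` to the sheets `D.A i`.  Consequences: if `F` is
finite locally constant then so is `(f_* F)|_V`.
-/

set_option autoImplicit false
set_option linter.style.haveILetI false
set_option linter.unusedSectionVars false
universe u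

open CategoryTheory AlgebraicGeometry Limits MorphismProperty Opposite

namespace Groth.Agent.Lib.EtFinEtPush22

open Groth.Agent.Lib.EtOverSite22 Groth.Agent.Lib.EtExt22 Groth.Agent.Lib.EtLocConst22
  Groth.Agent.Lib.EtLCKer22 Groth.Agent.Lib.EtConst

section general

variable {T : Scheme.{u}}

/-- A finite family of morphisms of abelian étale sheaves which is jointly bijective on sections
exhibits the source as the product. -/
theorem isIso_pi_lift_of_bijective {ι : Type} [Finite ι] (G : EtCoh.Ab T)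
    (H : ι → EtCoh.Ab T) (p : ∀ i, G ⟶ H i)
    (hp : ∀ (W : T.Etale) (s : ∀ i, EtCoh.sect (H i) W),
      ∃! t : EtCoh.sect G W, ∀ i, (p i).hom.app (op W) t = s i) :
    IsIso (Pi.lift p) := by
  haveI : (sheafToPresheaf T.smallEtaleTopology Ab1.{u}).ReflectsIsomorphisms := inferInstance
  suffices h : IsIso ((sheafToPresheaf T.smallEtaleTopology Ab1.{u}).map (Pi.lift p)) from
    isIso_of_reflects_iso _ (sheafToPresheaf T.smallEtaleTopology Ab1.{u})
  rw [NatTrans.isIso_iff_isIso_app]
  intro W
  let E : EtCoh.Ab T ⥤ Ab1.{u} :=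
    sheafToPresheaf T.smallEtaleTopology Ab1.{u} ⋙ (evaluation _ _).obj W
  change IsIso (E.map (Pi.lift p))
  have h1 : E.map (Pi.lift p) ≫ piComparison E H = Pi.lift (fun i => E.map (p i)) :=
    map_lift_piComparison E H G p
  haveI : IsIso (piComparison E H) := inferInstance
  suffices h2 : IsIso (Pi.lift (fun i => E.map (p i))) by
    have h3 : E.map (Pi.lift p) = Pi.lift (fun i => E.map (p i)) ≫ inv (piComparison E H) := by
      rw [← h1, Category.assoc, IsIso.hom_inv_id, Category.comp_id]
    rw [h3]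
    infer_instance
  rw [ConcreteCategory.isIso_iff_bijective]
  have hπ : ∀ (i : ι) (a : E.obj G), (Pi.π (fun i => E.obj (H i)) i)
      ((Pi.lift (fun i => E.map (p i))) a) = (E.map (p i)) a := fun i a =>
    ConcreteCategory.congr_hom (Pi.lift_π (fun i => E.map (p i)) i) a
  constructor
  · intro a b hab
    obtain ⟨t, -, ht⟩ := hp W.unop (fun i => (E.map (p i)) b)
    have ha : a = t := ht a fun i => by
      have := congrArg (fun y => (Pi.π (fun i => E.obj (H i)) i) y) hab
      exact (hπ i a).symm.trans (this.trans (hπ i b))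
    have hb : b = t := ht b fun i => rfl
    rw [ha, hb]
  · intro y
    obtain ⟨t, ht, -⟩ := hp W.unop (fun i => (Pi.π (fun i => E.obj (H i)) i) y)
    refine ⟨t, ?_⟩
    apply (Concrete.productEquiv (fun i => E.obj (H i))).injective
    funext i
    rw [Concrete.productEquiv_apply_apply, Concrete.productEquiv_apply_apply]
    exact (hπ i t).trans (ht i)

/-- A zero sheaf is finite locally constant. -/
theorem isLC_of_isZero {Z : EtCoh.Ab T} (hZ : IsZero Z) : IsLC Ab1.{u} PFin Z := by
  let Z0 : Ab1.{u} := AddCommGrpCat.of PUnit.{u + 2}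
  haveI : Finite Z0 := inferInstanceAs (Finite PUnit.{u + 2})
  have hZ0 : IsZero Z0 := AddCommGrpCat.isZero_of_subsingleton _
  obtain ⟨K, hK, ⟨ε⟩⟩ := pFin_of_iso_finite Z0
  let Φ := constantSheaf T.smallEtaleTopology Ab1.{u}
  haveI : PreservesBiproductsOfShape WalkingPair Φ := PreservesFiniteBiproducts.preserves
  have hK0 : IsZero K := hZ0.of_iso ε.symm
  have h1 : IsZero (Φ.obj K) := Φ.map_isZero hK0
  exact (isLC_const K hK).of_iso (h1.iso hZ)

/-- A finite product of finite locally constant sheaves is finite locally constant. -/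
theorem isLC_pi : ∀ {d : ℕ} (H : Fin d → EtCoh.Ab T) (_ : ∀ i, IsLC Ab1.{u} PFin (H i)),
    IsLC Ab1.{u} PFin (∏ᶜ H)
  | 0, H, _ => by
    apply isLC_of_isZero
    exact (IsZero.iff_id_eq_zero _).2 (Pi.hom_ext _ _ fun i => Fin.elim0 i)
  | (d + 1), H, h => by
    have ih := isLC_pi (fun i : Fin d => H i.succ) (fun i => h i.succ)
    have h2 := isLC_biprod (h 0) ih
    let c₁ : Fan fun i : Fin d => H i.succ := Fan.mk _ (Pi.π (fun i : Fin d => H i.succ))
    have t₁ : IsLimit c₁ := productIsProduct _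
    let c₂ : BinaryFan (H 0) c₁.pt := (BinaryBiproduct.bicone (H 0) c₁.pt).toCone
    have t₂ : IsLimit c₂ := BinaryBiproduct.isLimit (H 0) c₁.pt
    have t := extendFanIsLimit H t₁ t₂
    have e : (H 0 ⊞ ∏ᶜ fun i : Fin d => H i.succ) ≅ ∏ᶜ H :=
      t.conePointUniqueUpToIso (productIsProduct H)
    exact h2.of_iso e

end general

variable {X Y : Scheme.{u}} {f : X ⟶ Y} {V : Y.Etale} {d : ℕ} (D : SplitData f V d)

/-- the `i`-th sheet of `W ×_Y X` as a morphism of `X.Etale` -/
noncomputable def SplitData.sheet (W : V.left.Etale) (i : Fin d) :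
    D.WA W i ⟶ (EtCoh.bc f).obj (WV V W) :=
  MorphismProperty.Over.homMk (D.sheetLeft W i) (D.sheetLeft_snd W i) trivial

theorem SplitData.sheet_left (W : V.left.Etale) (i : Fin d) :
    (D.sheet W i).left = D.sheetLeft W i := rfl

theorem bc_map_left_fst' {W W' : Y.Etale} (g : W ⟶ W') :
    ((EtCoh.bc f).map g).left ≫ pullback.fst W'.hom f = pullback.fst W.hom f ≫ g.left :=
  (EtCoh.isPullback_bc_map f g).w

theorem bc_map_left_snd' {W W' : Y.Etale} (g : W ⟶ W') :
    ((EtCoh.bc f).map g).left ≫ pullback.snd W'.hom f = pullback.snd W.hom f :=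
  Over.w ((EtCoh.bc f).map g).hom

theorem SplitData.sheet_naturality {W W' : V.left.Etale} (m : W' ⟶ W) (i : Fin d) :
    D.sheet W' i ≫ (EtCoh.bc f).map ((EtShriek.compEtale (homX V)).map m) =
      (EtShriek.compEtale (homX (D.A i))).map m ≫ D.sheet W i := by
  apply MorphismProperty.Over.Hom.ext
  have hm : m.left ≫ W.hom = W'.hom := MorphismProperty.Over.w m
  let bm : pullback (W'.hom ≫ V.hom) f ⟶ pullback (W.hom ≫ V.hom) f :=
    ((EtCoh.bc f).map ((EtShriek.compEtale (homX V)).map m)).left
  have b1 : bm ≫ pullback.fst (W.hom ≫ V.hom) f = pullback.fst (W'.hom ≫ V.hom) f ≫ m.left :=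
    bc_map_left_fst' ((EtShriek.compEtale (homX V)).map m)
  have b2 : bm ≫ pullback.snd (W.hom ≫ V.hom) f = pullback.snd (W'.hom ≫ V.hom) f :=
    bc_map_left_snd' ((EtShriek.compEtale (homX V)).map m)
  change D.sheetLeft W' i ≫ bm = m.left ≫ D.sheetLeft W i
  apply pullback.hom_ext
  · rw [Category.assoc, b1, ← Category.assoc, D.sheetLeft_fst W' i, Category.id_comp,
      Category.assoc, D.sheetLeft_fst W i, Category.comp_id]
  · rw [Category.assoc, b2, D.sheetLeft_snd W' i, Category.assoc, D.sheetLeft_snd W i,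
      ← Category.assoc, hm]

/-- restriction of sections of `f_* F` to the `i`-th sheet -/
noncomputable def SplitData.proj (F : EtCoh.Ab X) (i : Fin d) :
    (restrAlongA V Ab1.{u}).obj ((EtCoh.push f).obj F) ⟶ (restrAlongA (D.A i) Ab1.{u}).obj F :=
  ⟨{ app := fun W => F.obj.map (D.sheet W.unop i).op
     naturality := fun W W' m => by
       have h := D.sheet_naturality m.unop i
       have h2 := congrArg (fun t => F.obj.map t.op) h
       simp only [op_comp, Functor.map_comp] at h2
       exact h2.symm ▸ rfl }⟩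

/-- the family of sheaves `F|_{A_i}` on `V` -/
noncomputable abbrev SplitData.sheetRestr (F : EtCoh.Ab X) (i : Fin d) : EtCoh.Ab V.left :=
  (restrAlongA (D.A i) Ab1.{u}).obj F

theorem SplitData.proj_bijective (F : EtCoh.Ab X) (W : V.left.Etale)
    (s : ∀ i, EtCoh.sect (D.sheetRestr F i) W) :
    ∃! t : EtCoh.sect ((restrAlongA V Ab1.{u}).obj ((EtCoh.push f).obj F)) W,
      ∀ i, (D.proj F i).hom.app (op W) t = s i := by
  have hmono : ∀ a : ULift.{u} (Fin d), Mono (D.sheet W a.down).left := fun a =>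
    D.mono_sheetLeft W a.down
  have hdisj : ∀ a b : ULift.{u} (Fin d), a ≠ b →
      Disjoint (Set.range (D.sheet W a.down).left) (Set.range (D.sheet W b.down).left) :=
    fun a b hab => D.disjoint_sheetLeft W a.down b.down fun h => hab (ULift.ext _ _ h)
  have hcov : ⋃ a : ULift.{u} (Fin d), Set.range (D.sheet W a.down).left = Set.univ := by
    apply Set.eq_univ_of_forall
    intro z
    have hz : z ∈ ⋃ i, Set.range (D.sheetLeft W i) := by
      rw [D.cover_sheetLeft W]
      trivial
    obtain ⟨i, hi⟩ := Set.mem_iUnion.1 hz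
    exact Set.mem_iUnion.2 ⟨ULift.up i, hi⟩
  obtain ⟨t, ht, hu⟩ := Groth.Agent.Lib.EtPushEpi39.glue_disjoint F ((EtCoh.bc f).obj (WV V W))
    (fun a : ULift.{u} (Fin d) => D.WA W a.down) (fun a => D.sheet W a.down) hmono hdisj hcov
    (fun a => s a.down)
  exact ⟨t, fun i => ht (ULift.up i), fun t' ht' => hu t' fun a => ht' a.down⟩

/-- `(f_* F)|_V` is the product of the `F|_{A_i}`. -/
instance SplitData.isIso_pi_lift_proj (F : EtCoh.Ab X) :
    IsIso (Pi.lift (D.proj F) :
      (restrAlongA V Ab1.{u}).obj ((EtCoh.push f).obj F) ⟶ ∏ᶜ D.sheetRestr F) :=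
  isIso_pi_lift_of_bijective _ (D.sheetRestr F) (D.proj F) (D.proj_bijective F)

/-- `(f_* F)|_V ≅ ∏ F|_{A_i}` -/
noncomputable def SplitData.restrPushIso (F : EtCoh.Ab X) :
    (restrAlongA V Ab1.{u}).obj ((EtCoh.push f).obj F) ≅ ∏ᶜ D.sheetRestr F :=
  asIso (Pi.lift (D.proj F))

/-- If `F` is finite locally constant then so is `(f_* F)|_V` for a split `V`. -/
theorem SplitData.isLC_restr_push (D : SplitData f V d) {F : EtCoh.Ab X}
    (hF : IsLC Ab1.{u} PFin F) :
    IsLC Ab1.{u} PFin ((restrAlongA V Ab1.{u}).obj ((EtCoh.push f).obj F)) :=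
  (isLC_pi (D.sheetRestr F) fun i => isLC_restr hF (D.A i)).of_iso (D.restrPushIso F).symm

end Groth.Agent.Lib.EtFinEtPush22
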