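import Groth.Agent.Lib.EtFinStalk39C

/-!
# Stalks of direct images along finite morphisms, IV (helper39)

* `finite_geomPts_over`: for `f` finite there are finitely many geometric points `ξ : Spec Ω ⟶ X`
  over a given `η : Spec Ω ⟶ Y`;
* `pushGermPi`, `bijective_pushGermPi`: `(f_* F)_η ≃ ∏_{ξ over η} F_ξ` for `f` finite and `Ω`
  algebraically closed;
* `nonempty_stalk_push_iso`: the form with a coproduct.
-/

set_option autoImplicit false
universe u
open CategoryTheory CategoryTheory.Limits AlgebraicGeometry Opposite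

namespace Groth.Agent.Lib.EtFinStalk39

open Groth.Agent.Lib.EtGerm Groth.Agent.Lib.EtStalkPull Groth.Agent.Lib.EtStalkPullGerm
  Groth.Agent.Lib.EtClosedStalk Groth.Agent.Lib.EtAbStalk

lemma isPurelyInseparable_of_surjective {F E : Type*} [Field F] [Field E] (φ : F →+* E)
    (h : Function.Surjective φ) : φ.IsPurelyInseparable := by
  algebraize [φ]
  show IsPurelyInseparable F E
  rw [isPurelyInseparable_iff]
  intro x
  obtain ⟨y, rfl⟩ := h x
  exact ⟨isIntegral_algebraMap, fun _ => ⟨y, rfl⟩⟩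

set_option backward.isDefEq.respectTransparency false in
/-- sections of a morphism to the spectrum of a field are determined by their point -/
lemma section_ext_of_apply_eq {Z : Scheme.{u}} {K : Type u} [Field K] (r : Z ⟶ Spec (.of K))
    (s s' : Spec (.of K) ⟶ Z) (hs : s ≫ r = 𝟙 _) (hs' : s' ≫ r = 𝟙 _)
    (hpt : s (IsLocalRing.closedPoint K) = s' (IsLocalRing.closedPoint K)) : s = s' := by
  refine geomPt_ext_of_isPurelyInseparable r s s' hpt ?_ (hs.trans hs'.symm)
  apply isPurelyInseparable_of_surjective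
  let cp : ↥(Spec (CommRingCat.of K)) := IsLocalRing.closedPoint K
  show Function.Surjective (r.residueFieldMap (s cp)).hom
  have h1 : r.residueFieldMap (s cp) ≫ s.residueFieldMap cp = (s ≫ r).residueFieldMap cp :=
    (Scheme.residueFieldMap_comp s r cp).symm
  have h2 : IsIso ((s ≫ r).residueFieldMap cp) := by
    rw [Scheme.Hom.residueFieldMap_congr hs cp]
    have : IsIso ((𝟙 (Spec (CommRingCat.of K)) : Spec (CommRingCat.of K) ⟶ _).residueFieldMap cp) := by
      rw [Scheme.residueFieldMap_id]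
      exact IsIso.id _
    exact IsIso.comp_isIso
  have h3 : Function.Bijective (r.residueFieldMap (s cp) ≫ s.residueFieldMap cp).hom := by
    rw [h1]
    exact (ConcreteCategory.isIso_iff_bijective _).mp h2
  intro x
  obtain ⟨y, hy⟩ := h3.2 ((s.residueFieldMap cp).hom x)
  refine ⟨y, ?_⟩
  exact (s.residueFieldMap cp).hom.injective hy

variable {X Y : Scheme.{u}} (f : X ⟶ Y) {Ω : Type u} [Field Ω]
  (η : Spec (CommRingCat.of Ω) ⟶ Y)

set_option backward.isDefEq.respectTransparency false in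
/-- finitely many geometric points over a given one, for finite morphisms -/
theorem finite_geomPts_over [IsFinite f] :
    Finite {ξ : Spec (CommRingCat.of Ω) ⟶ X // ξ ≫ f = η} := by
  let r : pullback f η ⟶ Spec (CommRingCat.of Ω) := pullback.snd f η
  have hr : IsFinite r := inferInstanceAs (IsFinite (pullback.snd f η))
  let cp : ↥(Spec (CommRingCat.of Ω)) := IsLocalRing.closedPoint Ω
  have hZ : Finite ↑(pullback f η) := by
    have h1 : (r ⁻¹' {cp}).Finite := r.finite_preimage_singleton cp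
    have h2 : (Set.univ : Set ↑(pullback f η)) ⊆ r ⁻¹' {cp} := fun z _ =>
      Subsingleton.elim (r z) cp
    exact Set.finite_univ_iff.mp (h1.subset h2)
  let sec : {ξ : Spec (CommRingCat.of Ω) ⟶ X // ξ ≫ f = η} →
      (Spec (CommRingCat.of Ω) ⟶ pullback f η) := fun ξ =>
    pullback.lift ξ.1 (𝟙 _) (ξ.2.trans (Category.id_comp η).symm)
  refine Finite.of_injective (fun ξ => sec ξ cp) ?_
  intro ξ ξ' h
  have h1 : sec ξ = sec ξ' :=
    section_ext_of_apply_eq r (sec ξ) (sec ξ') (pullback.lift_snd _ _ _) (pullback.lift_snd _ _ _) h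
  apply Subtype.ext
  have e1 : sec ξ ≫ pullback.fst f η = ξ.1 := pullback.lift_fst _ _ _
  have e2 : sec ξ' ≫ pullback.fst f η = ξ'.1 := pullback.lift_fst _ _ _
  rw [← e1, ← e2, h1]

section main

variable [IsFinite f] [IsAlgClosed Ω]

/-- the canonical map `(f_* F)_η ⟶ ∏_{ξ over η} F_ξ` -/
noncomputable def pushGermPi (F : EtCoh.Ab X) :
    (EtCoh.stalk η).obj ((EtCoh.push f).obj F) →+
      ∀ ξ : {ξ : Spec (CommRingCat.of Ω) ⟶ X // ξ ≫ f = η}, (EtCoh.stalk ξ.1).obj F :=
  AddMonoidHom.pi fun ξ => (pushGermOf f ξ.1 η ξ.2 F).hom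

omit [IsFinite f] in
lemma pushGermPi_apply (F : EtCoh.Ab X) (σ : (EtCoh.stalk η).obj ((EtCoh.push f).obj F))
    (ξ : {ξ : Spec (CommRingCat.of Ω) ⟶ X // ξ ≫ f = η}) :
    pushGermPi f η F σ ξ = pushGermOf f ξ.1 η ξ.2 F σ := rfl

theorem bijective_pushGermPi (F : EtCoh.Ab X) : Function.Bijective (pushGermPi f η F) := by
  constructor
  · rw [injective_iff_map_eq_zero]
    intro σ hσ
    apply eq_zero_of_pushGermOf_eq_zero f η F σ
    intro ξ hξ
    exact congrFun hσ ⟨ξ, hξ⟩
  · intro p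
    have := finite_geomPts_over f η
    have := Fintype.ofFinite {ξ : Spec (CommRingCat.of Ω) ⟶ X // ξ ≫ f = η}
    choose σ hσ1 hσ2 using fun ξ : {ξ : Spec (CommRingCat.of Ω) ⟶ X // ξ ≫ f = η} =>
      exists_pushGermOf_eq f η F ξ.1 ξ.2 (p ξ)
    refine ⟨∑ ξ, σ ξ, ?_⟩
    funext ξ'
    rw [map_sum, Finset.sum_apply, Finset.sum_eq_single ξ']
    · exact hσ1 ξ'
    · intro ξ _ hne
      exact hσ2 ξ ξ'.1 ξ'.2 (fun h => hne (Subtype.ext h.symm))
    · intro h
      exact (h (Finset.mem_univ _)).elim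

set_option backward.isDefEq.respectTransparency false in
/-- the stalk of `f_* F` at `η` is the direct sum of the stalks of `F` at the geometric points
over `η`, for `f` finite -/
theorem nonempty_stalk_push_iso (F : EtCoh.Ab X) :
    Nonempty ((EtCoh.stalk η).obj ((EtCoh.push f).obj F) ≅
      ∐ fun ξ : {ξ : Spec (CommRingCat.of Ω) ⟶ X // ξ ≫ f = η} => (EtCoh.stalk ξ.1).obj F) := by
  have := finite_geomPts_over f η
  let g : {ξ : Spec (CommRingCat.of Ω) ⟶ X // ξ ≫ f = η} → AddCommGrpCat.{u+1} :=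
    fun ξ => (EtCoh.stalk ξ.1).obj F
  let e1 : (EtCoh.stalk η).obj ((EtCoh.push f).obj F) ≅ AddCommGrpCat.of (∀ ξ, g ξ) :=
    (AddEquiv.ofBijective (pushGermPi f η F) (bijective_pushGermPi f η F)).toAddCommGrpIso
  let e2 : ∏ᶜ g ≅ AddCommGrpCat.of (∀ ξ, g ξ) :=
    limit.isoLimitCone (AddCommGrpCat.HasLimit.productLimitCone.{u, u+1} g)
  let e3 : ⨁ g ≅ ∏ᶜ g := biproduct.isoProduct g
  let e4 : ⨁ g ≅ ∐ g := biproduct.isoCoproduct g
  exact ⟨e1 ≪≫ e2.symm ≪≫ e3.symm ≪≫ e4⟩

end main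

end Groth.Agent.Lib.EtFinStalk39
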