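import Groth.Agent.Lib.EtShriekToPushStalk95
import Groth.Agent.Lib.EtFinStalk39D
import Groth.Agent.Lib.EtGeomPtConservative39

/-!
# The trace of a finite etale morphism (helper95)

For `j : U ⟶ X` finite etale:
* `isIso_shriekToPush`: `j_! G ⟶ j_* G` is an isomorphism;
* `trace j : restrAlong j ⋙ push j ⟶ 𝟭` (`j_* j⁻¹ F ⟶ F`);
* `unit_trace`: if every geometric point (algebraically closed) of `X` has exactly `d` lifts to
  `U`, then `F ⟶ j_* j⁻¹ F ⟶ F` is multiplication by `d`.
-/

set_option autoImplicit false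
set_option linter.unusedSectionVars false
universe u

open CategoryTheory CategoryTheory.Limits AlgebraicGeometry Opposite

namespace Groth.Agent.Lib.EtFinEtTrace95

open Groth.Agent.Lib.EtGerm Groth.Agent.Lib.EtStalkPullGerm Groth.Agent.Lib.EtEbz95
  Groth.Agent.Lib.EtExtZero Groth.Agent.Lib.EtShriekToPush95 Groth.Agent.Lib.EtFinStalk39
  Groth.Agent.Lib.EtShriekToPushStalk95 Groth.Agent.Lib.EtGeomPtConservative39

variable {U X : Scheme.{u}} (j : U ⟶ X) [hj : AlgebraicGeometry.Etale j] [IsFinite j]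
  [EtShriek.JCont j]

section stalk

variable {Ω : Type u} [Field Ω] [IsAlgClosed Ω] (ξ : Spec (CommRingCat.of Ω) ⟶ X)

lemma pushGermPi_stalk_shriekToPush (G : EtCoh.Ab U) (b : (∐ (stalkFam j ξ G) : AddCommGrpCat.{u+1})) :
    pushGermPi j ξ G ((EtCoh.stalk ξ).map ((shriekToPush j).app G)
      ((stalkExtZeroIso j ξ).inv.app G b)) = fun u' => proj j ξ G u' b := by
  funext u'
  exact ConcreteCategory.congr_hom (stalk_shriekToPush_pushGermOf j ξ G u') b

theorem stalk_shriekToPush_bijective (G : EtCoh.Ab U) :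
    Function.Bijective ((EtCoh.stalk ξ).map ((shriekToPush j).app G)) := by
  refine ⟨stalk_shriekToPush_injective j ξ G, fun c => ?_⟩
  have := finite_geomPts_over j ξ
  obtain ⟨b, hb⟩ := (Groth.Agent.Lib.AbCoprodModel95.bijective_piProj (stalkFam j ξ G)).2
    (pushGermPi j ξ G c)
  refine ⟨(stalkExtZeroIso j ξ).inv.app G b, ?_⟩
  apply (bijective_pushGermPi j ξ G).1
  rw [pushGermPi_stalk_shriekToPush]
  exact hb

end stalk

instance isIso_shriekToPush_app (G : EtCoh.Ab U) : IsIso ((shriekToPush j).app G) := by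
  apply isIso_of_forall_geomPt
  intro x
  exact ⟨_, inferInstance, inferInstance, algPt x, algPt_default x,
    stalk_shriekToPush_bijective j (algPt x) G⟩

instance isIso_shriekToPush : IsIso (shriekToPush j) :=
  NatIso.isIso_of_isIso_app _

/-- the trace `j_* j⁻¹ F ⟶ F` of a finite etale morphism -/
noncomputable def trace : EtShriek.restrAlong j ⋙ EtCoh.push j ⟶ 𝟭 (EtCoh.Ab X) :=
  Functor.whiskerLeft (EtShriek.restrAlong j) (inv (shriekToPush j)) ≫
    (EtShriek.extZeroAdj j).counit

lemma trace_app (F : EtCoh.Ab X) :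
    (trace j).app F = inv ((shriekToPush j).app ((EtShriek.restrAlong j).obj F)) ≫
      (EtShriek.extZeroAdj j).counit.app F := by
  unfold trace
  rw [NatTrans.comp_app, Functor.whiskerLeft_app, NatIso.isIso_inv_app]

lemma shriekToPush_trace (F : EtCoh.Ab X) :
    (shriekToPush j).app ((EtShriek.restrAlong j).obj F) ≫ (trace j).app F =
      (EtShriek.extZeroAdj j).counit.app F := by
  rw [trace_app, IsIso.hom_inv_id_assoc]

/-- the unit of `j⁻¹ ⊣ j_*` on sections -/
lemma restrPushAdj_unit_app_app (F : EtCoh.Ab X) (W : X.Etale) :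
    ((restrPushAdj j).unit.app F).hom.app (op W) = F.obj.map ((siteAdj j).counit.app W).op := by
  show (((siteAdj j).op.whiskerLeft _).unit.app F.obj).app (op W) = _
  rw [Adjunction.whiskerLeft_unit_app_app]
  rfl


section degree

variable {Ω : Type u} [Field Ω] [IsAlgClosed Ω] (ξ : Spec (CommRingCat.of Ω) ⟶ X)

set_option backward.isDefEq.respectTransparency.types false in
/-- (F1) the components of the stalk of the unit `F ⟶ j_* j⁻¹ F` -/
lemma pushGermOf_stalk_unit (F : EtCoh.Ab X) (u' : Lifts j ξ) {W : X.Etale} (y : Nbhd ξ W)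
    (s : EtCoh.sect F W) :
    pushGermOf j u'.1 ξ u'.2 ((EtShriek.restrAlong j).obj F)
      ((EtCoh.stalk ξ).map ((restrPushAdj j).unit.app F) (germ ξ F y s)) =
    germ u'.1 ((EtShriek.restrAlong j).obj F) (pullNbhdOf j u'.1 ξ u'.2 y)
      (F.obj.map ((siteAdj j).counit.app W).op s) := by
  have h1 := germ_naturality ξ ((restrPushAdj j).unit.app F) y s
  refine (congrArg (pushGermOf j u'.1 ξ u'.2 ((EtShriek.restrAlong j).obj F)) h1).trans ?_
  refine (pushGermOf_germ j u'.1 ξ u'.2 ((EtShriek.restrAlong j).obj F) y _).trans ?_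
  exact congrArg (germ u'.1 ((EtShriek.restrAlong j).obj F) (pullNbhdOf j u'.1 ξ u'.2 y))
    (ConcreteCategory.congr_hom (restrPushAdj_unit_app_app j F W) s)

set_option backward.isDefEq.respectTransparency.types false in
/-- (F3) -/
lemma map_counit_incl_pullNbhdOf (u' : Lifts j ξ) {W : X.Etale} (y : Nbhd ξ W) :
    Nbhd.map ξ ((siteAdj j).counit.app W) (incl u' (pullNbhdOf j u'.1 ξ u'.2 y)) = y := by
  apply nbhd_ext
  exact pullNbhdOf_left_fst j u'.1 ξ u'.2 y

/-- (F2) the stalk of the counit `j_! j⁻¹ F ⟶ F` on the summand at `u` -/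
lemma ι_stalkExtZeroIso_inv_counit (F : EtCoh.Ab X) (u : Lifts j ξ) (V : U.Etale)
    (z : Nbhd u.1 V) :
    (Scheme.pointSmallEtale u.1).toPresheafFiber V z ((EtShriek.restrAlong j).obj F).obj ≫
      Sigma.ι (stalkFam j ξ ((EtShriek.restrAlong j).obj F)) u ≫
      ((stalkExtZeroIso j ξ).inv.app ((EtShriek.restrAlong j).obj F) ≫
        (EtCoh.stalk ξ).map ((EtShriek.extZeroAdj j).counit.app F)) =
    (Scheme.pointSmallEtale ξ).toPresheafFiber ((EtShriek.compEtale j).obj V) (incl u z) F.obj := by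
  have hG' : (coprodStalkAdj j ξ).homEquiv ((EtShriek.restrAlong j).obj F) ((EtCoh.stalk ξ).obj F)
      ((stalkExtZeroIso j ξ).inv.app ((EtShriek.restrAlong j).obj F) ≫
        (EtCoh.stalk ξ).map ((EtShriek.extZeroAdj j).counit.app F)) =
      (EtShriek.restrAlong j).map
        (((Scheme.pointSmallEtale ξ).skyscraperSheafAdjunction (A := AddCommGrpCat.{u+1})).unit.app
          F) := by
    unfold stalkExtZeroIso
    rw [homEquiv_leftAdjointUniq_inv_comp, Adjunction.comp_homEquiv]
    show (EtShriek.extZeroAdj j).homEquiv ((EtShriek.restrAlong j).obj F) _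
      (((Scheme.pointSmallEtale ξ).skyscraperSheafAdjunction (A := AddCommGrpCat.{u+1})).homEquiv
        _ _ ((EtCoh.stalk ξ).map ((EtShriek.extZeroAdj j).counit.app F) ≫ 𝟙 _)) = _
    rw [Adjunction.homEquiv_naturality_left, Adjunction.homEquiv_naturality_right,
      Adjunction.homEquiv_id, Adjunction.homEquiv_unit, Adjunction.right_triangle_components]
    exact Category.id_comp _
  have hG : toSky ((EtShriek.restrAlong j).obj F) ((EtCoh.stalk ξ).obj F)
      ((stalkExtZeroIso j ξ).inv.app ((EtShriek.restrAlong j).obj F) ≫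
        (EtCoh.stalk ξ).map ((EtShriek.extZeroAdj j).counit.app F)) =
      (EtShriek.restrAlong j).map
        (((Scheme.pointSmallEtale ξ).skyscraperSheafAdjunction (A := AddCommGrpCat.{u+1})).unit.app
          F) :=
    (coprodStalkAdj_homEquiv j ξ _ _ _).symm.trans hG'
  have h := ι_fromSky ((EtShriek.restrAlong j).obj F) ((EtCoh.stalk ξ).obj F)
    (toSky ((EtShriek.restrAlong j).obj F) ((EtCoh.stalk ξ).obj F)
      ((stalkExtZeroIso j ξ).inv.app ((EtShriek.restrAlong j).obj F) ≫
        (EtCoh.stalk ξ).map ((EtShriek.extZeroAdj j).counit.app F))) u V z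
  rw [fromSky_toSky] at h
  refine h.trans ?_
  unfold fromSkyComp
  rw [hG]
  exact unit_app_π (Scheme.pointSmallEtale ξ) F ((EtShriek.compEtale j).obj V) (incl u z)

set_option backward.isDefEq.respectTransparency.types false in
/-- (F2), elementwise, combined with (F3) -/
lemma stalk_counit_ι_germ (F : EtCoh.Ab X) (u : Lifts j ξ) {W : X.Etale} (y : Nbhd ξ W)
    (s : EtCoh.sect F W) :
    ((stalkExtZeroIso j ξ).inv.app ((EtShriek.restrAlong j).obj F) ≫
        (EtCoh.stalk ξ).map ((EtShriek.extZeroAdj j).counit.app F))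
      (Sigma.ι (stalkFam j ξ ((EtShriek.restrAlong j).obj F)) u
        (germ u.1 ((EtShriek.restrAlong j).obj F) (pullNbhdOf j u.1 ξ u.2 y)
          (F.obj.map ((siteAdj j).counit.app W).op s))) = germ ξ F y s := by
  have h := ConcreteCategory.congr_hom
    (ι_stalkExtZeroIso_inv_counit j ξ F u ((EtCoh.bc j).obj W) (pullNbhdOf j u.1 ξ u.2 y))
    (F.obj.map ((siteAdj j).counit.app W).op s)
  refine Eq.trans ?_ (h.trans ?_)
  · rfl
  · refine (germ_res ξ F ((siteAdj j).counit.app W)
      (incl u (pullNbhdOf j u.1 ξ u.2 y)) s).trans ?_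
    rw [map_counit_incl_pullNbhdOf]

set_option backward.isDefEq.respectTransparency.types false in
/-- on stalks at a geometric point, `F ⟶ j_* j⁻¹ F ⟶ F` is multiplication by the number of
lifts -/
theorem stalk_unit_trace (F : EtCoh.Ab X) (a : (EtCoh.stalk ξ).obj F) :
    (EtCoh.stalk ξ).map ((restrPushAdj j).unit.app F ≫ (trace j).app F) a =
      Nat.card (Lifts j ξ) • a := by
  classical
  have hfin := finite_geomPts_over j ξ
  have := Fintype.ofFinite (Lifts j ξ)
  obtain ⟨W, y, s, rfl⟩ := germ_jointly_surjective ξ F a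
  let b : (∐ (stalkFam j ξ ((EtShriek.restrAlong j).obj F)) : AddCommGrpCat.{u+1}) :=
    ∑ u : Lifts j ξ, Sigma.ι (stalkFam j ξ ((EtShriek.restrAlong j).obj F)) u
      (germ u.1 ((EtShriek.restrAlong j).obj F) (pullNbhdOf j u.1 ξ u.2 y)
        (F.obj.map ((siteAdj j).counit.app W).op s))
  have hc : (EtCoh.stalk ξ).map ((shriekToPush j).app ((EtShriek.restrAlong j).obj F))
      ((stalkExtZeroIso j ξ).inv.app ((EtShriek.restrAlong j).obj F) b) =
      (EtCoh.stalk ξ).map ((restrPushAdj j).unit.app F) (germ ξ F y s) := by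
    apply (bijective_pushGermPi j ξ ((EtShriek.restrAlong j).obj F)).1
    rw [pushGermPi_stalk_shriekToPush]
    funext u'
    refine Eq.trans ?_ (pushGermOf_stalk_unit j ξ F u' y s).symm
    show proj j ξ ((EtShriek.restrAlong j).obj F) u' (∑ u : Lifts j ξ, _) = _
    rw [map_sum, Finset.sum_eq_single u']
    · exact Groth.Agent.Lib.AbCoprodModel95.proj_ι_self _ u' _
    · intro u _ hne
      exact Groth.Agent.Lib.AbCoprodModel95.proj_ι_ne _ hne _
    · intro h
      exact (h (Finset.mem_univ _)).elim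
  rw [Functor.map_comp, ConcreteCategory.comp_apply, ← hc]
  have h1 : (EtCoh.stalk ξ).map ((trace j).app F)
      ((EtCoh.stalk ξ).map ((shriekToPush j).app ((EtShriek.restrAlong j).obj F))
        ((stalkExtZeroIso j ξ).inv.app ((EtShriek.restrAlong j).obj F) b)) =
      ((stalkExtZeroIso j ξ).inv.app ((EtShriek.restrAlong j).obj F) ≫
        (EtCoh.stalk ξ).map ((EtShriek.extZeroAdj j).counit.app F)) b := by
    rw [← ConcreteCategory.comp_apply, ← Functor.map_comp, shriekToPush_trace]
    rfl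
  rw [h1]
  show ((stalkExtZeroIso j ξ).inv.app ((EtShriek.restrAlong j).obj F) ≫
        (EtCoh.stalk ξ).map ((EtShriek.extZeroAdj j).counit.app F)) (∑ u : Lifts j ξ, _) = _
  rw [map_sum, Finset.sum_congr rfl (fun u _ => stalk_counit_ι_germ j ξ F u y s),
    Finset.sum_const, Finset.card_univ, Nat.card_eq_fintype_card]

end degree


section global

omit [EtShriek.JCont j] [IsFinite j] hj in
lemma nsmul_hom_app {Y : Scheme.{u}} (G : EtCoh.Ab Y) (m : ℕ) (V : Y.Etale) (x : EtCoh.sect G V) :
    (m • 𝟙 G : G ⟶ G).hom.app (op V) x = m • x := by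
  induction m with
  | zero =>
    rw [zero_nsmul, zero_nsmul]
    rfl
  | succ m ih =>
    rw [succ_nsmul, succ_nsmul, ← ih]
    rfl

omit [EtShriek.JCont j] [IsFinite j] hj in
/-- morphisms of sheaves agreeing on the stalks at one geometric point over each point are
equal -/
lemma hom_ext_of_forall_geomPt {Y : Scheme.{u}} {F G : EtCoh.Ab Y} (v w : F ⟶ G)
    (h : ∀ x : Y, ∃ (Ω : Type u) (_ : Field Ω) (_ : IsSepClosed Ω)
      (ξ : Spec (CommRingCat.of Ω) ⟶ Y), ξ default = x ∧
        ∀ a, (EtCoh.stalk ξ).map v a = (EtCoh.stalk ξ).map w a) : v = w := by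
  apply Sheaf.hom_ext
  apply NatTrans.ext
  funext V
  ext s
  rw [← sub_eq_zero]
  apply section_eq_zero_of_forall_germ G (U := V.unop)
  intro p
  obtain ⟨Ω, _, _, ξ, hξ, hvw⟩ := h (V.unop.hom p)
  obtain ⟨y, hy⟩ := exists_nbhd_of_pt ξ V.unop p hξ.symm
  refine ⟨Ω, inferInstance, inferInstance, ξ, y, hy, ?_⟩
  rw [map_sub, sub_eq_zero]
  have h1 := germ_naturality ξ v y s
  have h2 := germ_naturality ξ w y s
  exact h1.symm.trans ((hvw _).trans h2)

/-- **degree formula**: if every geometric point of `X` has exactly `d` lifts to `U`, then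
`F ⟶ j_* j⁻¹ F ⟶ F` is multiplication by `d` -/
theorem unit_trace (d : ℕ) (hd : ∀ x : X, Nat.card (Lifts j (algPt x)) = d) (F : EtCoh.Ab X) :
    (restrPushAdj j).unit.app F ≫ (trace j).app F = d • 𝟙 F := by
  apply hom_ext_of_forall_geomPt
  intro x
  refine ⟨_, inferInstance, inferInstance, algPt x, algPt_default x, fun a => ?_⟩
  rw [stalk_unit_trace, hd x]
  obtain ⟨W, y, s, rfl⟩ := germ_jointly_surjective (algPt x) F a
  refine Eq.symm ((germ_naturality (algPt x) (d • 𝟙 F) y s).trans ?_)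
  rw [nsmul_hom_app, map_nsmul]

end global

end Groth.Agent.Lib.EtFinEtTrace95
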