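import Groth.Agent.Lib.EtFinStalk39A
import Groth.Agent.Lib.PropA34

/-!
# Stalks of direct images along finite morphisms, II (helper39)

* `geomPt_ext_of_isPurelyInseparable`: a geometric point is determined by its underlying point
  and its image under a morphism with purely inseparable residue field extension at that point;
* `exists_clopen_nbhd`: for `f` separated and locally quasi-finite, `ξ` a geometric point of `X`
  over `η` and `(U, u)` an etale neighbourhood of `ξ`: there are an etale neighbourhood `(V, y)` of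
  `η` and an open and closed `W ⊆ X ×_Y V` containing `(ξ, y)`, with a morphism `W ⟶ U` over `X`
  sending `(ξ, y)` to `u`, such that `(ξ, y)` is the only geometric point of `W` over `y`.
-/

set_option autoImplicit false
universe u
open CategoryTheory CategoryTheory.Limits AlgebraicGeometry Opposite

namespace Groth.Agent.Lib.EtFinStalk39

open Groth.Agent.Lib.EtGerm Groth.Agent.Lib.EtStalkPull Groth.Agent.Lib.EtStalkPullGerm
  Groth.Agent.Lib.EtClosedStalk Groth.Agent.Lib.EtAbStalk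

set_option backward.isDefEq.respectTransparency.types false in
set_option backward.defeqAttrib.useBackward true in
/-- a geometric point is determined by its point and its image under a morphism which is purely
inseparable at that point -/
lemma geomPt_ext_of_isPurelyInseparable {B V : Scheme.{u}} (r : B ⟶ V) {K : Type u} [Field K]
    (g₁ g₂ : Spec (.of K) ⟶ B)
    (hpt : g₁ (IsLocalRing.closedPoint K) = g₂ (IsLocalRing.closedPoint K))
    (hpi : (r.residueFieldMap (g₁ (IsLocalRing.closedPoint K))).hom.IsPurelyInseparable)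
    (hg : g₁ ≫ r = g₂ ≫ r) : g₁ = g₂ := by
  obtain ⟨e, h⟩ := Scheme.SpecToEquivOfField_eq_iff.mp congr((V.SpecToEquivOfField K) $(hg))
  apply (B.SpecToEquivOfField K).injective
  dsimp at e h
  simp only [Scheme.descResidueField_stalkClosedPointTo_comp] at e h
  rw [← r.residueFieldMap_congr'_assoc hpt, CommRingCat.hom_ext_iff] at h
  rw [Scheme.SpecToEquivOfField_eq_iff]
  algebraize [(r.residueFieldMap (g₁ (IsLocalRing.closedPoint K))).hom]
  refine ⟨hpt, CommRingCat.hom_ext ?_⟩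
  exact IsPurelyInseparable.injective_comp_algebraMap
    (V.residueField (r (g₁ (IsLocalRing.closedPoint K))))
    (B.residueField (g₁ (IsLocalRing.closedPoint K))) _ h

set_option backward.isDefEq.respectTransparency false in
set_option maxHeartbeats 800000 in
/-- scheme-level form of `exists_clopen_nbhd` -/
theorem exists_clopen_section {X Y U : Scheme.{u}} (f : X ⟶ Y) [IsSeparated f]
    [LocallyOfFiniteType f] [LocallyQuasiFinite f] (g : U ⟶ X) [Etale g]
    {Ω : Type u} [Field Ω] [IsSepClosed Ω] (ug : Spec (.of Ω) ⟶ U) :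
    ∃ (V : Scheme.{u}) (e : V ⟶ Y) (_ : Etale e) (vg : Spec (.of Ω) ⟶ V)
      (hvg : vg ≫ e = (ug ≫ g) ≫ f)
      (W : (pullback e f).Opens) (_ : IsClosed (W : Set ↑(pullback e f)))
      (h : W.toScheme ⟶ U) (z : Spec (.of Ω) ⟶ W.toScheme),
      h ≫ g = W.ι ≫ pullback.snd e f ∧
      z ≫ W.ι = pullback.lift vg (ug ≫ g) hvg ∧ z ≫ h = ug ∧
      ∀ z' : Spec (.of Ω) ⟶ W.toScheme, z' ≫ W.ι ≫ pullback.fst e f = vg → z' = z := by
  let pt : Spec (.of Ω) := default
  -- affine neighbourhood of the point of `ug`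
  obtain ⟨U₀, hU₀, hu⟩ : ∃ U₀ : U.Opens, IsAffineOpen U₀ ∧ ug pt ∈ U₀ := by
    obtain ⟨_, ⟨U₀, hU₀, rfl⟩, hu, -⟩ :=
      U.isBasis_affineOpens.exists_subset_of_mem_open (Set.mem_univ (ug pt)) isOpen_univ
    exact ⟨U₀, hU₀, hu⟩
  have : IsAffine (U₀ : Scheme.{u}) := hU₀
  let u₀ : (U₀ : Scheme.{u}) := ⟨ug pt, hu⟩
  let g₀ : (U₀ : Scheme.{u}) ⟶ X := U₀.ι ≫ g
  let k : (U₀ : Scheme.{u}) ⟶ Y := g₀ ≫ f
  have hsep : IsSeparated k := by
    have : IsSeparated (k ≫ terminal.from Y) := by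
      rw [show k ≫ terminal.from Y = terminal.from _ from terminal.hom_ext _ _]
      infer_instance
    exact IsSeparated.of_comp k (terminal.from Y)
  have hg₀qf : LocallyQuasiFinite g₀ := Groth.Agent.Lib.HenselFin.locallyQuasiFinite_of_etale g₀
  have hkqf : LocallyQuasiFinite k := inferInstance
  have hklft : LocallyOfFiniteType k := inferInstance
  -- the geometric point factors through `U₀`
  have hrange : Set.range ug ⊆ Set.range U₀.ι := by
    rintro _ ⟨a, rfl⟩
    rw [Scheme.Opens.range_ι, Subsingleton.elim a pt]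
    exact hu
  let ug₀ : Spec (.of Ω) ⟶ (U₀ : Scheme.{u}) := IsOpenImmersion.lift U₀.ι ug hrange
  have hug₀ : ug₀ ≫ U₀.ι = ug := IsOpenImmersion.lift_fac _ _ _
  have hug₀pt : ug₀ pt = u₀ := by
    apply Subtype.ext
    have := congr($hug₀ pt)
    rw [Scheme.Hom.comp_apply] at this
    exact this
  -- Stacks 02LP
  obtain ⟨V, e, v₀, he, hev, n, B, b, H, -, hcov⟩ :=
    Groth.Agent.Lib.EtLocQF.exists_etaleNbhd_purelyInseparable_clopen k (k u₀)
      (fun _ : Unit => u₀) (fun _ => rfl) (fun _ => k.quasiFiniteAt u₀)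
  -- geometric point of `V`
  have hη : ((ug ≫ g) ≫ f) pt = e v₀ := by
    rw [hev]
    show ((ug ≫ g) ≫ f) pt = (g₀ ≫ f) u₀
    rw [← hug₀pt, ← Scheme.Hom.comp_apply, ← Category.assoc, ← Category.assoc, hug₀]
  obtain ⟨vg, hvg, hvgpt⟩ := Scheme.exists_fac_of_etale_of_isSepClosed e ((ug ≫ g) ≫ f) v₀ hη.symm
  -- geometric point of `U₀ ×_Y V`
  have hcond : ug₀ ≫ k = vg ≫ e := by
    rw [hvg]
    show ug₀ ≫ (U₀.ι ≫ g) ≫ f = (ug ≫ g) ≫ f
    rw [← hug₀]
    simp only [Category.assoc]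
  let bg : Spec (.of Ω) ⟶ pullback k e := pullback.lift ug₀ vg hcond
  have hbg1 : bg ≫ pullback.fst k e = ug₀ := pullback.lift_fst _ _ _
  have hbg2 : bg ≫ pullback.snd k e = vg := pullback.lift_snd _ _ _
  obtain ⟨m, hm⟩ := hcov (bg pt) (by
      rw [← Scheme.Hom.comp_apply, hbg2, hvgpt]) ⟨(), by
      rw [← Scheme.Hom.comp_apply, hbg1, hug₀pt]⟩
  obtain ⟨hclopen, hbB, hfin, hbu, huniq, hpi, -, -⟩ := H m
  -- the finite etale morphism `ψ : B m ⟶ V ×_Y X`
  have hcondφ : pullback.snd k e ≫ e = (pullback.fst k e ≫ g₀) ≫ f := by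
    rw [← pullback.condition, Category.assoc]
  let φ : pullback k e ⟶ pullback e f := pullback.lift (pullback.snd k e) (pullback.fst k e ≫ g₀) hcondφ
  have hφ1 : φ ≫ pullback.fst e f = pullback.snd k e := pullback.lift_fst _ _ _
  have hφ2 : φ ≫ pullback.snd e f = pullback.fst k e ≫ g₀ := pullback.lift_snd _ _ _
  have hφet : Etale φ := by
    have h1 : Etale (φ ≫ pullback.snd e f) := by rw [hφ2]; infer_instance
    exact Etale.of_comp φ (pullback.snd e f)
  let ψ : ((B m : (pullback k e).Opens) : Scheme.{u}) ⟶ pullback e f := (B m).ι ≫ φ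
  have hψet : Etale ψ := inferInstance
  have hψ1 : ψ ≫ pullback.fst e f = (B m).ι ≫ pullback.snd k e := by
    dsimp only [ψ]; rw [Category.assoc, hφ1]
  have hψfin : IsFinite ψ := by
    have : IsFinite (ψ ≫ pullback.fst e f) := by rw [hψ1]; exact hfin
    exact IsFinite.of_comp ψ (pullback.fst e f)
  obtain ⟨W, hWc, hWiso, hW⟩ := Groth.Agent.Lib.PropA34.exists_clopen_iso ψ
  let b' : ((B m : (pullback k e).Opens) : Scheme.{u}) := ⟨b m, hbB⟩
  have hu' : ∀ w : ((B m : (pullback k e).Opens) : Scheme.{u}), ψ w = ψ b' → w = b' := by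
    intro w hw
    have h1 : pullback.snd k e ((B m).ι w) = pullback.snd k e ((B m).ι b') := by
      have e1 := congr($hψ1 w)
      have e2 := congr($hψ1 b')
      simp only [Scheme.Hom.comp_apply] at e1 e2
      rw [← e1, ← e2, hw]
    exact Subtype.ext (huniq ((B m).ι w) w.2 (h1.trans hbu))
  have hres : IsIso (ψ.residueFieldMap b') := by
    have h1 : IsIso (φ.residueFieldMap ((B m).ι b')) :=
      Groth.Agent.Lib.PropA34.isIso_residueFieldMap_of_etale_of_isPurelyInseparable φ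
        (pullback.fst e f) (pullback.snd k e) hφ1 (b m) hpi
    have h0 : IsIso ((B m).ι.residueFieldMap b') := inferInstance
    rw [show ψ = (B m).ι ≫ φ from rfl, Scheme.residueFieldMap_comp]
    exact @IsIso.comp_isIso _ _ _ _ _ _ _ h1 h0
  have hab : ψ b' ∈ W :=
    (hW _).mpr (Groth.Agent.Lib.PropA34.finrank_eq_one_of_unique ψ b' hu' hres)
  -- the geometric point of `B m`
  have hbgB : Set.range bg ⊆ Set.range (B m).ι := by
    rintro _ ⟨a, rfl⟩
    rw [Scheme.Opens.range_ι, Subsingleton.elim a pt, hm]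
    exact hbB
  let β : Spec (.of Ω) ⟶ ((B m : (pullback k e).Opens) : Scheme.{u}) :=
    IsOpenImmersion.lift (B m).ι bg hbgB
  have hβ : β ≫ (B m).ι = bg := IsOpenImmersion.lift_fac _ _ _
  have hβpt : β pt = b' := by
    apply Subtype.ext
    have := congr($hβ pt)
    rw [Scheme.Hom.comp_apply] at this
    exact this.trans hm
  have hβψ : β ≫ ψ = pullback.lift vg (ug ≫ g) hvg := by
    apply pullback.hom_ext
    · rw [Category.assoc, hψ1, ← Category.assoc, hβ, hbg2, pullback.lift_fst]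
    · rw [pullback.lift_snd]
      show β ≫ ((B m).ι ≫ φ) ≫ pullback.snd e f = ug ≫ g
      rw [Category.assoc, hφ2, ← Category.assoc, ← Category.assoc, hβ, hbg1]
      show ug₀ ≫ U₀.ι ≫ g = ug ≫ g
      rw [← Category.assoc, hug₀]
  -- it factors through `ψ⁻¹ W`
  have hβW : Set.range β ⊆ Set.range (ψ ⁻¹ᵁ W).ι := by
    rintro _ ⟨a, rfl⟩
    rw [Scheme.Opens.range_ι, Subsingleton.elim a pt, hβpt]
    exact hab
  let β' : Spec (.of Ω) ⟶ ((ψ ⁻¹ᵁ W : _) : Scheme.{u}) := IsOpenImmersion.lift (ψ ⁻¹ᵁ W).ι β hβW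
  have hβ' : β' ≫ (ψ ⁻¹ᵁ W).ι = β := IsOpenImmersion.lift_fac _ _ _
  let z : Spec (.of Ω) ⟶ W.toScheme := β' ≫ (ψ ∣_ W)
  have hzι : z ≫ W.ι = pullback.lift vg (ug ≫ g) hvg := by
    show (β' ≫ (ψ ∣_ W)) ≫ W.ι = _
    rw [Category.assoc, morphismRestrict_ι, ← Category.assoc, hβ', hβψ]
  let χ : W.toScheme ⟶ ((B m : (pullback k e).Opens) : Scheme.{u}) :=
    inv (ψ ∣_ W) ≫ (ψ ⁻¹ᵁ W).ι
  have hχψ : χ ≫ ψ = W.ι := by
    show (inv (ψ ∣_ W) ≫ (ψ ⁻¹ᵁ W).ι) ≫ ψ = W.ι
    rw [Category.assoc, ← morphismRestrict_ι, IsIso.inv_hom_id_assoc]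
  have hzχ : z ≫ χ = β := by
    show (β' ≫ (ψ ∣_ W)) ≫ inv (ψ ∣_ W) ≫ (ψ ⁻¹ᵁ W).ι = β
    rw [Category.assoc, IsIso.hom_inv_id_assoc, hβ']
  refine ⟨V, e, he, vg, hvg, W, hWc, χ ≫ (B m).ι ≫ pullback.fst k e ≫ U₀.ι, z, ?_, hzι, ?_, ?_⟩
  · have hψ2 : ψ ≫ pullback.snd e f = (B m).ι ≫ pullback.fst k e ≫ g₀ := by
      show ((B m).ι ≫ φ) ≫ pullback.snd e f = _
      rw [Category.assoc, hφ2]
    calc (χ ≫ (B m).ι ≫ pullback.fst k e ≫ U₀.ι) ≫ g
        = χ ≫ ((B m).ι ≫ pullback.fst k e ≫ g₀) := by simp only [Category.assoc]; rfl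
      _ = χ ≫ ψ ≫ pullback.snd e f := by rw [hψ2]
      _ = W.ι ≫ pullback.snd e f := by rw [← Category.assoc, hχψ]
  · rw [← Category.assoc, hzχ, ← Category.assoc, hβ, ← Category.assoc, hbg1, hug₀]
  · intro z' hz'
    -- the geometric point `z' ≫ χ` of `B m` lies over `vg`
    have h1 : (z' ≫ χ) ≫ (B m).ι ≫ pullback.snd k e = vg := by
      rw [← hψ1, Category.assoc, ← Category.assoc χ, hχψ]
      exact hz'
    have h2 : (β ≫ (B m).ι) ≫ pullback.snd k e = vg := by rw [hβ, hbg2]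
    have hpt' : (z' ≫ χ) pt = b' := by
      apply Subtype.ext
      refine huniq _ ((z' ≫ χ) pt).2 ?_
      have := congr($h1 pt)
      exact this.trans hvgpt
    have heq : z' ≫ χ = β := by
      have hι : (z' ≫ χ) ≫ (B m).ι = β ≫ (B m).ι := by
        refine geomPt_ext_of_isPurelyInseparable (pullback.snd k e) _ _ ?_ ?_ ?_
        · have e1 : ((z' ≫ χ) ≫ (B m).ι) pt = b m := by
            rw [Scheme.Hom.comp_apply, hpt']
            rfl
          have e2 : (β ≫ (B m).ι) pt = b m := by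
            rw [Scheme.Hom.comp_apply, hβpt]
            rfl
          exact (show ((z' ≫ χ) ≫ (B m).ι) (IsLocalRing.closedPoint Ω) = _ from
            (Subsingleton.elim (IsLocalRing.closedPoint Ω) pt) ▸ e1).trans
            ((Subsingleton.elim (IsLocalRing.closedPoint Ω) pt) ▸ e2).symm
        · have e1 : ((z' ≫ χ) ≫ (B m).ι) (IsLocalRing.closedPoint Ω) = b m := by
            rw [Subsingleton.elim (IsLocalRing.closedPoint Ω) pt, Scheme.Hom.comp_apply, hpt']
            rfl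
          rw [e1]
          exact hpi
        · rw [Category.assoc, h1, h2]
      exact (cancel_mono (B m).ι).1 hι
    have h3 : z' ≫ W.ι = z ≫ W.ι := by
      calc z' ≫ W.ι = (z' ≫ χ) ≫ ψ := by rw [Category.assoc, hχψ]
        _ = (z ≫ χ) ≫ ψ := by rw [heq, hzχ]
        _ = z ≫ W.ι := by rw [Category.assoc, hχψ]
    exact (cancel_mono W.ι).1 h3

end Groth.Agent.Lib.EtFinStalk39
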