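import Groth.Agent.Lib.EtFinStalk39B
import Groth.Agent.Lib.EtPushEpi39

/-!
# Stalks of direct images along finite morphisms, III (helper39)

* `exists_pushGermOf_eq`: for `f` separated and locally quasi-finite, `ξ` over `η` and `t ∈ F_ξ`
  there is `σ ∈ (f_* F)_η` mapping to `t` in `F_ξ` and to `0` in `F_ξ'` for every other geometric
  point `ξ' ≠ ξ` over `η`.
-/

set_option autoImplicit false
universe u
open CategoryTheory CategoryTheory.Limits AlgebraicGeometry Opposite

namespace Groth.Agent.Lib.EtFinStalk39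

open Groth.Agent.Lib.EtGerm Groth.Agent.Lib.EtStalkPull Groth.Agent.Lib.EtStalkPullGerm
  Groth.Agent.Lib.EtClosedStalk Groth.Agent.Lib.EtAbStalk

variable {X Y : Scheme.{u}} (f : X ⟶ Y) [IsSeparated f] [LocallyOfFiniteType f]
  [LocallyQuasiFinite f] {Ω : Type u} [Field Ω] [IsSepClosed Ω]
  (η : Spec (CommRingCat.of Ω) ⟶ Y)

/-- gluing a section on a clopen piece with zero on the complement -/
lemma exists_section_clopen (F : EtCoh.Ab X) (P : X.Etale) (W : P.left.Opens)
    (hW : IsClosed (W : Set P.left)) (τ : EtCoh.sect F (openSub P W)) :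
    ∃ s : EtCoh.sect F P, F.obj.map (openSubι P W).op s = τ ∧
      F.obj.map (openSubι P ⟨(W : Set P.left)ᶜ, hW.isOpen_compl⟩).op s = 0 := by
  let Wc : P.left.Opens := ⟨(W : Set P.left)ᶜ, hW.isOpen_compl⟩
  let Wa : ULift.{u} Bool → P.left.Opens := fun b => cond b.down W Wc
  obtain ⟨s, hs, -⟩ := Groth.Agent.Lib.EtPushEpi39.glue_disjoint F P
    (fun b => openSub P (Wa b)) (fun b => openSubι P (Wa b))
    (fun b => by
      show Mono (Wa b).ι
      infer_instance)
    (by
      rintro ⟨a⟩ ⟨b⟩ hab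
      rw [Set.disjoint_left]
      rintro q ⟨q₁, hq₁⟩ ⟨q₂, hq₂⟩
      have h1 : q ∈ (Wa ⟨a⟩ : Set P.left) := by
        rw [← hq₁]; exact q₁.2
      have h2 : q ∈ (Wa ⟨b⟩ : Set P.left) := by
        rw [← hq₂]; exact q₂.2
      cases a <;> cases b
      · exact hab rfl
      · exact h1 h2
      · exact h2 h1
      · exact hab rfl)
    (by
      ext q
      simp only [Set.mem_iUnion, Set.mem_range, Set.mem_univ, iff_true]
      by_cases hq : q ∈ W
      · exact ⟨⟨true⟩, ⟨q, hq⟩, rfl⟩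
      · exact ⟨⟨false⟩, ⟨q, hq⟩, rfl⟩)
    (fun b => match b with
      | ⟨true⟩ => τ
      | ⟨false⟩ => 0)
  exact ⟨s, hs ⟨true⟩, hs ⟨false⟩⟩

set_option backward.isDefEq.respectTransparency false in
set_option maxHeartbeats 800000 in
/-- surjectivity onto one factor, with vanishing in the other factors -/
theorem exists_pushGermOf_eq (F : EtCoh.Ab X) (ξ : Spec (CommRingCat.of Ω) ⟶ X) (hξ : ξ ≫ f = η)
    (t : (EtCoh.stalk ξ).obj F) :
    ∃ σ : (EtCoh.stalk η).obj ((EtCoh.push f).obj F), pushGermOf f ξ η hξ F σ = t ∧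
      ∀ (ξ' : Spec (CommRingCat.of Ω) ⟶ X) (hξ' : ξ' ≫ f = η), ξ' ≠ ξ →
        pushGermOf f ξ' η hξ' F σ = 0 := by
  obtain ⟨U, u, τ, rfl⟩ := germ_jointly_surjective ξ F t
  have hUet : Etale (U.hom : U.left ⟶ X) := U.prop
  let ug : Spec (CommRingCat.of Ω) ⟶ U.left := CommaMorphism.left u
  have hug : ug ≫ (U.hom : U.left ⟶ X) = ξ := Over.w u
  obtain ⟨V₁, e, he, vg, hvg, W, hWc, h, z, hh, hzι, hzh, huniq⟩ :=
    exists_clopen_section f (U.hom : U.left ⟶ X) ug
  let V : Y.Etale := Scheme.Etale.mk e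
  have hvgη : vg ≫ e = η := by rw [hvg, hug, hξ]
  let y : Nbhd η V := Over.homMk vg hvgη
  let P : X.Etale := (EtCoh.bc f).obj V
  let W' : P.left.Opens := W
  let Wc : P.left.Opens := ⟨(W' : Set P.left)ᶜ, hWc.isOpen_compl⟩
  let h' : openSub P W' ⟶ U := MorphismProperty.Over.homMk h hh trivial
  obtain ⟨s, hs1, hs2⟩ := exists_section_clopen F P W' hWc (F.obj.map h'.op τ)
  refine ⟨germ η ((EtCoh.push f).obj F) y s, ?_, ?_⟩
  · rw [pushGermOf_germ]
    -- the neighbourhood of `ξ` in `W`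
    have hzW : z ≫ (openSub P W').hom = ξ := by
      show z ≫ W.ι ≫ pullback.snd e f = ξ
      rw [← Category.assoc, hzι, pullback.lift_snd, hug]
    let nz : Nbhd ξ (openSub P W') := Over.homMk z hzW
    have hnz : Nbhd.map ξ (openSubι P W') nz = pullNbhdOf f ξ η hξ y := by
      apply nbhd_bc_ext
      rw [pullNbhdOf_left_fst]
      show (z ≫ W.ι) ≫ pullback.fst e f = vg
      rw [hzι, pullback.lift_fst]
    have hnu : Nbhd.map ξ h' nz = u := by
      apply Over.OverMorphism.ext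
      exact hzh
    rw [← hnz, ← germ_res]
    show germ ξ F nz (F.obj.map (openSubι P W').op s) = germ ξ F u τ
    rw [hs1, germ_res, hnu]
  · intro ξ' hξ' hne
    rw [pushGermOf_germ]
    set n' := pullNbhdOf f ξ' η hξ' y with hn'
    have hn'fst : (CommaMorphism.left n' : Spec (CommRingCat.of Ω) ⟶ pullback V.hom f) ≫
        pullback.fst V.hom f = vg := pullNbhdOf_left_fst f ξ' η hξ' y
    have hn'snd : (CommaMorphism.left n' : Spec (CommRingCat.of Ω) ⟶ pullback V.hom f) ≫
        pullback.snd V.hom f = ξ' := pullNbhdOf_left_snd f ξ' η hξ' y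
    have hmem : Nbhd.pt ξ' n' ∈ Wc := by
      intro hW
      obtain ⟨nz', hnz'⟩ := exists_nbhd_openSub ξ' W' n' hW
      let z' : Spec (CommRingCat.of Ω) ⟶ W.toScheme := CommaMorphism.left nz'
      have hz'ι : z' ≫ W.ι = (CommaMorphism.left n' : Spec (CommRingCat.of Ω) ⟶ pullback V.hom f) :=
        congrArg (fun k : Over.mk ξ' ⟶ (Scheme.Etale.forget X).obj P => CommaMorphism.left k) hnz'
      have hz'z : z' = z := by
        apply huniq
        rw [← Category.assoc, hz'ι]
        exact hn'fst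
      apply hne
      have e3 : (z ≫ W.ι) ≫ pullback.snd e f = ξ := by
        rw [hzι]
        exact (pullback.lift_snd _ _ _).trans hug
      have e4 : (z' ≫ W.ι) ≫ pullback.snd e f = ξ' := by
        rw [hz'ι]
        exact hn'snd
      rw [← e4, hz'z, e3]
    obtain ⟨nz', hnz'⟩ := exists_nbhd_openSub ξ' Wc n' hmem
    rw [← hnz', ← germ_res]
    show germ ξ' F nz' (F.obj.map (openSubι P Wc).op s) = 0
    rw [hs2, map_zero]

end Groth.Agent.Lib.EtFinStalk39
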