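import Groth.Agent.Lib.EtFinStalk39D
import Groth.Agent.S6629
import Groth.Prelude.Def_SGA4b

/-!
# Stalks of set-valued etale sheaves: germs (helper34)

Set-valued analogue of helper39's `EtGerm`: for `F : EtDesc.Sh X` and a geometric point `ξ`,
* `stalkS ξ = (Scheme.pointSmallEtale ξ).sheafFiber (A := Type (u+1))`;
* `germS ξ F y : EtDesc.sect F U → (stalkS ξ).obj F`, with `germS_jointly_surjective(₂)`,
  `germS_res`, `germS_eq_iff`, `germS_naturality`;
* `sectS_ext_of_forall_pt`: sections of a sheaf of sets agree if they agree etale locally around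
  every point.
-/

set_option autoImplicit false
universe u
open CategoryTheory CategoryTheory.Limits AlgebraicGeometry Opposite

namespace Groth.Agent.Lib.EtFinStalkSet34

open Groth.Agent.Lib.EtGerm Groth.Agent.Lib.EtStalkPull Groth.Agent.Lib.EtStalkPullGerm

variable {X : Scheme.{u}} {Ω : Type u} [Field Ω] [IsSepClosed Ω] (ξ : Spec (CommRingCat.of Ω) ⟶ X)

/-- the set-valued stalk functor at `ξ` -/
noncomputable abbrev stalkS : EtDesc.Sh X ⥤ Type (u + 1) :=
  (Scheme.pointSmallEtale ξ).sheafFiber (A := Type (u + 1))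

/-- the germ at `(U, y)` of sections of `F` over `U` -/
noncomputable def germS (F : EtDesc.Sh X) {U : X.Etale} (y : Nbhd ξ U) :
    EtDesc.sect F U → (stalkS ξ).obj F :=
  (Scheme.pointSmallEtale ξ).toPresheafFiber U y F.obj

lemma germS_jointly_surjective (F : EtDesc.Sh X) (p : (stalkS ξ).obj F) :
    ∃ (U : X.Etale) (y : Nbhd ξ U) (s : EtDesc.sect F U), germS ξ F y s = p := by
  obtain ⟨U, y, s, h⟩ :=
    (Scheme.pointSmallEtale ξ).toPresheafFiber_jointly_surjective (P := F.obj) p
  exact ⟨U, y, s, h⟩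

lemma germS_jointly_surjective₂ (F : EtDesc.Sh X) (p p' : (stalkS ξ).obj F) :
    ∃ (U : X.Etale) (y : Nbhd ξ U) (s s' : EtDesc.sect F U),
      germS ξ F y s = p ∧ germS ξ F y s' = p' := by
  obtain ⟨U, y, s, s', h, h'⟩ :=
    (Scheme.pointSmallEtale ξ).toPresheafFiber_jointly_surjective₂ (P := F.obj) p p'
  exact ⟨U, y, s, s', h, h'⟩

lemma germS_res (F : EtDesc.Sh X) {U V : X.Etale} (g : V ⟶ U) (y : Nbhd ξ V)
    (s : EtDesc.sect F U) :
    germS ξ F y (F.obj.map g.op s) = germS ξ F (Nbhd.map ξ g y) s :=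
  (Scheme.pointSmallEtale ξ).toPresheafFiber_w_apply g y F.obj s

lemma germS_eq_iff (F : EtDesc.Sh X) {U : X.Etale} (y : Nbhd ξ U) (s s' : EtDesc.sect F U) :
    germS ξ F y s = germS ξ F y s' ↔
      ∃ (V : X.Etale) (g : V ⟶ U) (z : Nbhd ξ V), Nbhd.map ξ g z = y ∧
        F.obj.map g.op s = F.obj.map g.op s' :=
  (Scheme.pointSmallEtale ξ).toPresheafFiber_eq_iff' (P := F.obj) U y s s'

lemma germS_naturality {F G : EtDesc.Sh X} (v : F ⟶ G) {U : X.Etale} (y : Nbhd ξ U)
    (s : EtDesc.sect F U) :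
    (stalkS ξ).map v (germS ξ F y s) = germS ξ G y (v.hom.app (op U) s) :=
  (Scheme.pointSmallEtale ξ).toPresheafFiber_naturality_apply v.hom U y s

omit [IsSepClosed Ω] in
/-- two sections of a sheaf of sets agree if they agree etale locally around every point -/
lemma sectS_ext_of_forall_pt (F : EtDesc.Sh X) {U : X.Etale} (s s' : EtDesc.sect F U)
    (h : ∀ q : U.left, ∃ (V : X.Etale) (g : V ⟶ U), q ∈ Set.range g.left ∧
      F.obj.map g.op s = F.obj.map g.op s') : s = s' := by
  let S : Sieve U :=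
    { arrows := fun V g => F.obj.map g.op s = F.obj.map g.op s'
      downward_closed := by
        intro V W g hg k
        show F.obj.map (k ≫ g).op s = F.obj.map (k ≫ g).op s'
        rw [op_comp, Functor.map_comp]
        show F.obj.map k.op (F.obj.map g.op s) = F.obj.map k.op (F.obj.map g.op s')
        rw [hg] }
  have hS : S ∈ X.smallEtaleTopology U := by
    apply sieve_mem_of_forall_pt
    intro q
    obtain ⟨V, g, hq, hg⟩ := h q
    exact ⟨V, g, hg, hq⟩
  have hsep := (((isSheaf_iff_isSheaf_of_type _ _).1 F.property) S hS).isSeparatedFor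
  apply hsep.ext
  intro V g hg
  exact hg

end Groth.Agent.Lib.EtFinStalkSet34
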