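import Groth.Agent.Lib.EtFinStalkSet34A

/-!
# Etale-local decomposition of a finite morphism over a geometric point (helper34)

* `exists_common_nbhd_finite`: finitely many etale neighbourhoods of a geometric point have a
  common refinement;
* `exists_decomposition`: for `f : X ⟶ Y` finite, `η` a geometric point of `Y` (with algebraically
  closed field) and etale neighbourhoods `(U_ξ, u_ξ)` of the geometric points `ξ` over `η`, there is
  an etale neighbourhood `(V, y)` of `η` such that `X ×_Y V` is the disjoint union of opens `W_ξ`,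
  each `W_ξ` containing `(ξ, y)` and mapping to `U_ξ` over `X` compatibly with the neighbourhoods.
-/

set_option autoImplicit false
universe u
open CategoryTheory CategoryTheory.Limits AlgebraicGeometry Opposite

namespace Groth.Agent.Lib.EtFinStalkSet34

open Groth.Agent.Lib.EtGerm Groth.Agent.Lib.EtStalkPull Groth.Agent.Lib.EtStalkPullGerm
  Groth.Agent.Lib.EtFinStalk39

section common

variable {X : Scheme.{u}} {Ω : Type u} [Field Ω] [IsSepClosed Ω] (ξ : Spec (CommRingCat.of Ω) ⟶ X)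

/-- finitely many neighbourhoods have a common refinement -/
lemma exists_common_nbhd_finite {ι : Type*} [Finite ι] (U : ι → X.Etale) (u : ∀ i, Nbhd ξ (U i)) :
    ∃ (V : X.Etale) (y : Nbhd ξ V) (g : ∀ i, V ⟶ U i), ∀ i, Nbhd.map ξ (g i) y = u i := by
  classical
  have := Fintype.ofFinite ι
  let O : Finset (Scheme.pointSmallEtale ξ).fiber.Elements :=
    Finset.univ.image fun i => ⟨U i, u i⟩
  obtain ⟨S, hS⟩ := IsCofiltered.inf_objs_exists O
  have hm : ∀ i, Nonempty (S ⟶ (⟨U i, u i⟩ : (Scheme.pointSmallEtale ξ).fiber.Elements)) :=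
    fun i => hS (Finset.mem_image_of_mem _ (Finset.mem_univ i))
  exact ⟨S.1, S.2, fun i => (hm i).some.1, fun i => (hm i).some.2⟩

end common

section decomposition

variable {X Y : Scheme.{u}} (f : X ⟶ Y) [IsFinite f] {Ω : Type u} [Field Ω] [IsAlgClosed Ω]
  (η : Spec (CommRingCat.of Ω) ⟶ Y)

/-- the geometric points of `X` over `η` -/
abbrev GeomPtsOver : Type u := {ξ : Spec (CommRingCat.of Ω) ⟶ X // ξ ≫ f = η}

set_option backward.isDefEq.respectTransparency false in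
set_option maxHeartbeats 1600000 in
/-- etale-local decomposition of a finite morphism over a geometric point -/
theorem exists_decomposition (U : GeomPtsOver f η → X.Etale)
    (u : ∀ ξ : GeomPtsOver f η, Nbhd ξ.1 (U ξ)) :
    ∃ (V : Y.Etale) (y : Nbhd η V) (W : GeomPtsOver f η → ((EtCoh.bc f).obj V).left.Opens),
      (∀ ξ ξ', ξ ≠ ξ' → Disjoint (W ξ : Set ((EtCoh.bc f).obj V).left) (W ξ')) ∧
      (⋃ ξ, (W ξ : Set ((EtCoh.bc f).obj V).left)) = Set.univ ∧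
      ∀ ξ : GeomPtsOver f η, ∃ (k : openSub ((EtCoh.bc f).obj V) (W ξ) ⟶ U ξ)
        (nz : Nbhd ξ.1 (openSub ((EtCoh.bc f).obj V) (W ξ))),
        Nbhd.map ξ.1 (openSubι _ (W ξ)) nz = pullNbhdOf f ξ.1 η ξ.2 y ∧
          Nbhd.map ξ.1 k nz = u ξ := by
  have hfin : Finite (GeomPtsOver f η) := finite_geomPts_over f η
  let pt : Spec (CommRingCat.of Ω) := default
  have hUet : ∀ ξ, Etale ((U ξ).hom : (U ξ).left ⟶ X) := fun ξ => (U ξ).prop
  let ug : ∀ ξ : GeomPtsOver f η, Spec (CommRingCat.of Ω) ⟶ (U ξ).left :=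
    fun ξ => CommaMorphism.left (u ξ)
  have hug : ∀ ξ, ug ξ ≫ ((U ξ).hom : (U ξ).left ⟶ X) = ξ.1 := fun ξ => Over.w (u ξ)
  choose V₁ e he vg hvg W hWc h z hh hzι hzh huniq using
    fun ξ : GeomPtsOver f η => exists_clopen_section f ((U ξ).hom : (U ξ).left ⟶ X) (ug ξ)
  let Vx : GeomPtsOver f η → Y.Etale := fun ξ => @Scheme.Etale.mk _ _ (e ξ) (he ξ)
  have hvgη : ∀ ξ, vg ξ ≫ e ξ = η := fun ξ => by rw [hvg, hug, ξ.2]
  let yx : ∀ ξ, Nbhd η (Vx ξ) := fun ξ => Over.homMk (vg ξ) (hvgη ξ)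
  obtain ⟨V, y, g, hg⟩ := exists_common_nbhd_finite η Vx yx
  let P : X.Etale := (EtCoh.bc f).obj V
  let p₁ : P.left ⟶ V.left := pullback.fst V.hom f
  have hp₁ : IsIntegralHom p₁ := inferInstanceAs (IsIntegralHom (pullback.fst V.hom f))
  -- the clopen pieces on `P`
  let bg : ∀ ξ, P ⟶ (EtCoh.bc f).obj (Vx ξ) := fun ξ => (EtCoh.bc f).map (g ξ)
  let bgl : ∀ ξ, P.left ⟶ pullback (e ξ) f := fun ξ => (bg ξ).left
  have hbgl_fst : ∀ ξ, bgl ξ ≫ pullback.fst (e ξ) f = p₁ ≫ (g ξ).left :=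
    fun ξ => pullback.lift_fst _ _ _
  have hbgl_snd : ∀ ξ, bgl ξ ≫ pullback.snd (e ξ) f = P.hom :=
    fun ξ => pullback.lift_snd _ _ _
  let W' : GeomPtsOver f η → P.left.Opens := fun ξ => (bgl ξ) ⁻¹ᵁ (W ξ)
  have hW'c : ∀ ξ, IsClosed (W' ξ : Set P.left) := fun ξ =>
    (hWc ξ).preimage (bgl ξ).continuous
  have hgl : ∀ ξ, (CommaMorphism.left y : Spec (CommRingCat.of Ω) ⟶ V.left) ≫ (g ξ).left = vg ξ :=
    fun ξ => congrArg (fun k : Over.mk η ⟶ (Scheme.Etale.forget Y).obj (Vx ξ) =>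
      CommaMorphism.left k) (hg ξ)
  -- (F1)
  let n : ∀ ξ : GeomPtsOver f η, Nbhd ξ.1 P := fun ξ => pullNbhdOf f ξ.1 η ξ.2 y
  have hF1' : ∀ ξ : GeomPtsOver f η,
      (CommaMorphism.left (n ξ) : Spec (CommRingCat.of Ω) ⟶ P.left) ≫ bgl ξ = z ξ ≫ (W ξ).ι := by
    intro ξ
    rw [hzι]
    apply pullback.hom_ext
    · rw [Category.assoc, hbgl_fst, pullback.lift_fst, ← Category.assoc]
      rw [show (CommaMorphism.left (n ξ) : Spec (CommRingCat.of Ω) ⟶ P.left) ≫ p₁ =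
        (CommaMorphism.left y : Spec (CommRingCat.of Ω) ⟶ V.left) from
        pullNbhdOf_left_fst f ξ.1 η ξ.2 y]
      exact hgl ξ
    · rw [Category.assoc, hbgl_snd, pullback.lift_snd, hug]
      exact Over.w (n ξ)
  have hF1 : ∀ ξ : GeomPtsOver f η, Nbhd.pt ξ.1 (n ξ) ∈ W' ξ := by
    intro ξ
    show bgl ξ (Nbhd.pt ξ.1 (n ξ)) ∈ W ξ
    have h1 := congrArg (fun k : Spec (CommRingCat.of Ω) ⟶ pullback (e ξ) f => k pt) (hF1' ξ)
    simp only [Scheme.Hom.comp_apply] at h1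
    show bgl ξ ((CommaMorphism.left (n ξ) : Spec (CommRingCat.of Ω) ⟶ P.left) pt) ∈ W ξ
    have h2 : (W ξ).ι (z ξ pt) ∈ W ξ := (z ξ pt).2
    exact h1 ▸ h2
  -- (F2)
  have hF2 : ∀ (l : Spec (CommRingCat.of Ω) ⟶ P.left) (ξ : GeomPtsOver f η),
      l ≫ p₁ = (CommaMorphism.left y : Spec (CommRingCat.of Ω) ⟶ V.left) →
      l pt ∈ W' ξ → l ≫ P.hom = ξ.1 := by
    intro l ξ hl hmem
    have hrange : Set.range (l ≫ bgl ξ) ⊆ Set.range (W ξ).ι := by
      rintro _ ⟨a, rfl⟩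
      rw [Scheme.Opens.range_ι, Subsingleton.elim a pt, Scheme.Hom.comp_apply]
      exact hmem
    let z' : Spec (CommRingCat.of Ω) ⟶ (W ξ).toScheme :=
      IsOpenImmersion.lift (W ξ).ι (l ≫ bgl ξ) hrange
    have hz' : z' ≫ (W ξ).ι = l ≫ bgl ξ := IsOpenImmersion.lift_fac _ _ _
    have hz'z : z' = z ξ := by
      apply huniq
      rw [← Category.assoc, hz', Category.assoc, hbgl_fst, ← Category.assoc, hl]
      exact hgl ξ
    have e1 : l ≫ P.hom = (z' ≫ (W ξ).ι) ≫ pullback.snd (e ξ) f := by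
      rw [hz', Category.assoc, hbgl_snd]
    rw [e1, hz'z, hzι, pullback.lift_snd]
    exact hug ξ
  -- (F3)
  have hF3 : ∀ q : P.left, p₁ q = Nbhd.pt η y → ∃! ξ, q ∈ W' ξ := by
    intro q hq
    obtain ⟨l, hl1, hl2⟩ := exists_geomPt_lift p₁
      (CommaMorphism.left y : Spec (CommRingCat.of Ω) ⟶ V.left) q hq
    have hξq : (l ≫ P.hom) ≫ f = η := by
      show (l ≫ pullback.snd V.hom f) ≫ f = η
      rw [Category.assoc, ← pullback.condition, ← Category.assoc]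
      exact (congrArg (· ≫ V.hom) hl1).trans (Over.w y)
    let ξq : GeomPtsOver f η := ⟨l ≫ P.hom, hξq⟩
    have hn : n ξq = Over.homMk l rfl := by
      apply nbhd_bc_ext
      rw [pullNbhdOf_left_fst]
      exact hl1.symm
    refine ⟨ξq, ?_, ?_⟩
    · have := hF1 ξq
      rw [hn] at this
      rw [← hl2]
      exact this
    · intro ξ hξ
      apply Subtype.ext
      rw [← hl2] at hξ
      exact (hF2 l ξ hl1 hξ).symm
  -- the good locus is open
  have hopen : IsOpen {q : P.left | ∃! ξ, q ∈ W' ξ} := by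
    have h1 : {q : P.left | ∃! ξ, q ∈ W' ξ} =
        ⋃ ξ, ((W' ξ : Set P.left) ∩ ⋂ ξ' : {ξ' // ξ' ≠ ξ}, (W' ξ'.1 : Set P.left)ᶜ) := by
      ext q
      simp only [Set.mem_setOf_eq, Set.mem_iUnion, Set.mem_inter_iff, Set.mem_iInter,
        Set.mem_compl_iff, SetLike.mem_coe]
      constructor
      · rintro ⟨ξ, hξ, huq⟩
        exact ⟨ξ, hξ, fun ξ' hξ' => ξ'.2 (huq ξ'.1 hξ')⟩
      · rintro ⟨ξ, hξ, huq⟩
        refine ⟨ξ, hξ, fun ξ' hξ' => ?_⟩
        by_contra hne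
        exact huq ⟨ξ', hne⟩ hξ'
    rw [h1]
    refine isOpen_iUnion fun ξ => (W' ξ).isOpen.inter ?_
    exact isOpen_iInter_of_finite fun ξ' => (hW'c ξ'.1).isOpen_compl
  -- shrink `V`
  have hcl : IsClosed (p₁ '' {q : P.left | ∃! ξ, q ∈ W' ξ}ᶜ) :=
    p₁.isClosedMap _ hopen.isClosed_compl
  let V₀ : V.left.Opens := ⟨(p₁ '' {q : P.left | ∃! ξ, q ∈ W' ξ}ᶜ)ᶜ, hcl.isOpen_compl⟩
  have hyV₀ : Nbhd.pt η y ∈ V₀ := by
    rintro ⟨q, hq, hqy⟩
    exact hq (hF3 q hqy)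
  obtain ⟨y', hy'⟩ := Groth.Agent.Lib.EtGerm.exists_nbhd_openSub η V₀ y hyV₀
  let V' : Y.Etale := openSub V V₀
  let Q : X.Etale := (EtCoh.bc f).obj V'
  let m : Q ⟶ P := (EtCoh.bc f).map (openSubι V V₀)
  let q₁ : Q.left ⟶ V'.left := pullback.fst V'.hom f
  have hm_fst : m.left ≫ p₁ = q₁ ≫ (openSubι V V₀).left := pullback.lift_fst _ _ _
  have hm_snd : m.left ≫ P.hom = Q.hom := pullback.lift_snd _ _ _
  have hgood : ∀ q' : Q.left, ∃! ξ, m.left q' ∈ W' ξ := by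
    intro q'
    by_contra hcon
    have h2 : p₁ (m.left q') ∈ V₀ := by
      have e2 := congrArg (fun k : Q.left ⟶ V.left => k q') hm_fst
      simp only [Scheme.Hom.comp_apply] at e2
      rw [e2]
      exact (q₁ q').2
    exact h2 ⟨_, hcon, rfl⟩
  let W'' : GeomPtsOver f η → Q.left.Opens := fun ξ => m.left ⁻¹ᵁ (W' ξ)
  refine ⟨V', y', W'', ?_, ?_, ?_⟩
  · intro ξ ξ' hne
    rw [Set.disjoint_left]
    intro q' h1 h2
    obtain ⟨ξ₀, -, huq⟩ := hgood q'
    exact hne ((huq ξ h1).trans (huq ξ' h2).symm)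
  · ext q'
    simp only [Set.mem_iUnion, Set.mem_univ, iff_true]
    obtain ⟨ξ₀, hξ₀, -⟩ := hgood q'
    exact ⟨ξ₀, hξ₀⟩
  · intro ξ
    -- the map of schemes `W'' ξ ⟶ W ξ`
    let r : Q.left ⟶ pullback (e ξ) f := m.left ≫ bgl ξ
    have hr_fst : r ≫ pullback.fst (e ξ) f = q₁ ≫ (openSubι V V₀).left ≫ (g ξ).left := by
      rw [Category.assoc, hbgl_fst, ← Category.assoc, hm_fst, Category.assoc]
    have hr_snd : r ≫ pullback.snd (e ξ) f = Q.hom := by
      rw [Category.assoc, hbgl_snd, hm_snd]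
    have hrange : Set.range ((W'' ξ).ι ≫ r) ⊆ Set.range (W ξ).ι := by
      rintro _ ⟨a, rfl⟩
      rw [Scheme.Opens.range_ι, Scheme.Hom.comp_apply]
      exact a.2
    let a : (W'' ξ).toScheme ⟶ (W ξ).toScheme :=
      IsOpenImmersion.lift (W ξ).ι ((W'' ξ).ι ≫ r) hrange
    have ha : a ≫ (W ξ).ι = (W'' ξ).ι ≫ r := IsOpenImmersion.lift_fac _ _ _
    have hk : (a ≫ h ξ) ≫ ((U ξ).hom : (U ξ).left ⟶ X) = (openSub Q (W'' ξ)).hom := by
      rw [Category.assoc, hh, ← Category.assoc, ha, Category.assoc, hr_snd]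
      rfl
    let k : openSub Q (W'' ξ) ⟶ U ξ := MorphismProperty.Over.homMk (a ≫ h ξ) hk trivial
    -- the neighbourhood
    let n' : Nbhd ξ.1 Q := pullNbhdOf f ξ.1 η ξ.2 y'
    have hn'm : Nbhd.map ξ.1 m n' = n ξ := by
      show Nbhd.map ξ.1 ((EtCoh.bc f).map (openSubι V V₀)) (pullNbhdOf f ξ.1 η ξ.2 y') = _
      rw [← pullNbhdOf_map, hy']
    have hmem : Nbhd.pt ξ.1 n' ∈ W'' ξ := by
      show m.left (Nbhd.pt ξ.1 n') ∈ W' ξ
      have := hF1 ξ
      rw [← hn'm] at this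
      exact this
    obtain ⟨nz, hnz⟩ := Groth.Agent.Lib.EtGerm.exists_nbhd_openSub ξ.1 (W'' ξ) n' hmem
    refine ⟨k, nz, hnz, ?_⟩
    have hnzl : (CommaMorphism.left nz : Spec (CommRingCat.of Ω) ⟶ (W'' ξ).toScheme) ≫ (W'' ξ).ι =
        (CommaMorphism.left n' : Spec (CommRingCat.of Ω) ⟶ Q.left) :=
      congrArg (fun k : Over.mk ξ.1 ⟶ (Scheme.Etale.forget X).obj Q => CommaMorphism.left k) hnz
    have hy'l : (CommaMorphism.left y' : Spec (CommRingCat.of Ω) ⟶ V'.left) ≫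
        (openSubι V V₀).left = (CommaMorphism.left y : Spec (CommRingCat.of Ω) ⟶ V.left) :=
      congrArg (fun k : Over.mk η ⟶ (Scheme.Etale.forget Y).obj V => CommaMorphism.left k) hy'
    have hz'z : (CommaMorphism.left nz : Spec (CommRingCat.of Ω) ⟶ (W'' ξ).toScheme) ≫ a = z ξ := by
      apply huniq
      rw [Category.assoc, ← Category.assoc a, ha, Category.assoc, hr_fst, ← Category.assoc,
        hnzl, ← Category.assoc]
      rw [show (CommaMorphism.left n' : Spec (CommRingCat.of Ω) ⟶ Q.left) ≫ q₁ =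
        (CommaMorphism.left y' : Spec (CommRingCat.of Ω) ⟶ V'.left) from
        pullNbhdOf_left_fst f ξ.1 η ξ.2 y']
      rw [← Category.assoc, hy'l]
      exact hgl ξ
    apply Over.OverMorphism.ext
    show (CommaMorphism.left nz : Spec (CommRingCat.of Ω) ⟶ (W'' ξ).toScheme) ≫ (a ≫ h ξ) = ug ξ
    rw [← Category.assoc, hz'z]
    exact hzh ξ

end decomposition

end Groth.Agent.Lib.EtFinStalkSet34
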