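import Groth.Agent.Lib.EtFinStalkSet34B

/-!
# Stalks of direct images of set-valued etale sheaves along finite morphisms (helper34)

* `pushGermS f ξ η h F : (f_* F)_η → F_ξ` for `ξ ≫ f = η`, natural in `F` (`pushGermNat`);
* `pushGermS_jointly_injective` (`f` integral, `Ω` algebraically closed);
* `exists_pushGermS_eq` (`f` finite): joint surjectivity;
* `pushShStalkIso`: `pushSh f ⋙ stalkS η ≅ ∏ᶜ fun ξ => stalkS ξ`.
-/

set_option autoImplicit false
universe u
open CategoryTheory CategoryTheory.Limits AlgebraicGeometry Opposite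

namespace Groth.Agent.Lib.EtFinStalkSet34

open Groth.Agent.Lib.EtGerm Groth.Agent.Lib.EtStalkPull Groth.Agent.Lib.EtStalkPullGerm
  Groth.Agent.Lib.EtFinStalk39 Groth.Agent.Lib.EtStalkConservative

section defs

variable {X Y : Scheme.{u}} (f : X ⟶ Y) {Ω : Type u} [Field Ω] [IsSepClosed Ω]
  (ξ : Spec (CommRingCat.of Ω) ⟶ X) (η : Spec (CommRingCat.of Ω) ⟶ Y) (h : ξ ≫ f = η)

/-- the canonical map `(f_* F)_η ⟶ F_ξ` for `ξ` over `η` -/
noncomputable def pushGermS (F : EtDesc.Sh X) :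
    (stalkS η).obj ((EtDesc.pushSh f).obj F) ⟶ (stalkS ξ).obj F :=
  (Scheme.pointSmallEtale η).presheafFiberDesc (P := ((EtDesc.pushSh f).obj F).obj)
    (fun V y => (Scheme.pointSmallEtale ξ).toPresheafFiber ((EtCoh.bc f).obj V)
      (pullNbhdOf f ξ η h y) F.obj)
    (by
      intro V W g y
      rw [pullNbhdOf_map]
      exact (Scheme.pointSmallEtale ξ).toPresheafFiber_w ((EtCoh.bc f).map g)
        (pullNbhdOf f ξ η h y) F.obj)

lemma pushGermS_germS (F : EtDesc.Sh X) {V : Y.Etale} (y : Nbhd η V)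
    (s : EtDesc.sect ((EtDesc.pushSh f).obj F) V) :
    pushGermS f ξ η h F (germS η ((EtDesc.pushSh f).obj F) y s) =
      germS ξ F (pullNbhdOf f ξ η h y) s :=
  ConcreteCategory.congr_hom ((Scheme.pointSmallEtale η).toPresheafFiber_presheafFiberDesc
    (P := ((EtDesc.pushSh f).obj F).obj) _ _ V y) s

lemma pushGermS_naturality {F G : EtDesc.Sh X} (a : F ⟶ G) :
    (stalkS η).map ((EtDesc.pushSh f).map a) ≫ pushGermS f ξ η h G =
      pushGermS f ξ η h F ≫ (stalkS ξ).map a := by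
  apply (Scheme.pointSmallEtale η).presheafFiber_hom_ext
  intro V y
  apply ConcreteCategory.hom_ext
  intro s
  show pushGermS f ξ η h G ((stalkS η).map ((EtDesc.pushSh f).map a)
      (germS η ((EtDesc.pushSh f).obj F) y s)) =
    (stalkS ξ).map a (pushGermS f ξ η h F (germS η ((EtDesc.pushSh f).obj F) y s))
  rw [germS_naturality, pushGermS_germS, pushGermS_germS, germS_naturality]
  rfl

/-- `pushGermS` as a natural transformation -/
noncomputable def pushGermNat : EtDesc.pushSh f ⋙ stalkS η ⟶ stalkS ξ where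
  app F := pushGermS f ξ η h F
  naturality _ _ a := pushGermS_naturality f ξ η h a

end defs

section res

variable {X : Scheme.{u}}

/-- the restrictions of two sections along `m` agree if the sections agree etale locally around
every point of the image of `m` -/
lemma resS_ext_of_forall_pt (F : EtDesc.Sh X) {P Q : X.Etale} (m : Q ⟶ P) (s t : EtDesc.sect F P)
    (h : ∀ q' : Q.left, ∃ (Z : X.Etale) (k : Z ⟶ P), m.left q' ∈ Set.range k.left ∧
      F.obj.map k.op s = F.obj.map k.op t) : F.obj.map m.op s = F.obj.map m.op t := by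
  apply sectS_ext_of_forall_pt
  intro q'
  obtain ⟨Z, k, ⟨z, hz⟩, hk⟩ := h q'
  obtain ⟨n', hn'⟩ := exists_stdPt_nbhd Q q'
  obtain ⟨nz, hnz, -⟩ := exists_nbhd_lift (stdPt (Q.hom q')) k (Nbhd.map _ m n') z (by
    rw [hz, Nbhd.pt_map, hn'])
  have h1 : germS (stdPt (Q.hom q')) F n' (F.obj.map m.op s) =
      germS (stdPt (Q.hom q')) F n' (F.obj.map m.op t) := by
    rw [germS_res, germS_res, ← hnz, ← germS_res, ← germS_res, hk]
  obtain ⟨V', g, w, hw, hg⟩ := (germS_eq_iff _ F n' _ _).1 h1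
  refine ⟨V', g, ⟨Nbhd.pt _ w, ?_⟩, hg⟩
  rw [← Nbhd.pt_map, hw, hn']

end res

section injective

variable {X Y : Scheme.{u}} (f : X ⟶ Y) [IsIntegralHom f] {Ω : Type u} [Field Ω] [IsAlgClosed Ω]
  (η : Spec (CommRingCat.of Ω) ⟶ Y)

set_option backward.isDefEq.respectTransparency false in
/-- for `f` integral the maps `(f_* F)_η ⟶ F_ξ`, `ξ` over `η`, are jointly injective -/
theorem pushGermS_jointly_injective (F : EtDesc.Sh X)
    (σ σ' : (stalkS η).obj ((EtDesc.pushSh f).obj F))
    (h0 : ∀ (ξ : Spec (CommRingCat.of Ω) ⟶ X) (h : ξ ≫ f = η),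
      pushGermS f ξ η h F σ = pushGermS f ξ η h F σ') : σ = σ' := by
  obtain ⟨V, y, s, t, rfl, rfl⟩ := germS_jointly_surjective₂ η ((EtDesc.pushSh f).obj F) σ σ'
  let P : X.Etale := (EtCoh.bc f).obj V
  let s' : EtDesc.sect F P := s
  let t' : EtDesc.sect F P := t
  let p₁ : P.left ⟶ V.left := pullback.fst V.hom f
  have hp₁ : IsIntegralHom p₁ := inferInstanceAs (IsIntegralHom (pullback.fst V.hom f))
  -- the open locus where `s` and `t` agree
  let O : Set P.left := {q | ∃ (Z : X.Etale) (k : Z ⟶ P), q ∈ Set.range k.left ∧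
    F.obj.map k.op s' = F.obj.map k.op t'}
  have hO : IsOpen O := by
    have : O = ⋃ (Z : X.Etale) (k : Z ⟶ P) (_ : F.obj.map k.op s' = F.obj.map k.op t'),
        Set.range k.left := by
      ext q
      simp only [Set.mem_iUnion, exists_prop]
      constructor
      · rintro ⟨Z, k, hq, hk⟩
        exact ⟨Z, k, hk, hq⟩
      · rintro ⟨Z, k, hk, hq⟩
        exact ⟨Z, k, hq, hk⟩
    rw [this]
    refine isOpen_iUnion fun Z => isOpen_iUnion fun k => isOpen_iUnion fun _ => ?_
    exact k.left.isOpenMap.isOpen_range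
  -- the fibre over the point of `y` is contained in `O`
  have hfib : ∀ q : P.left, p₁ q = Nbhd.pt η y → q ∈ O := by
    intro q hq
    obtain ⟨l, hl1, hl2⟩ := exists_geomPt_lift p₁
      (CommaMorphism.left y : Spec (CommRingCat.of Ω) ⟶ V.left) q hq
    let ξ : Spec (CommRingCat.of Ω) ⟶ X := l ≫ P.hom
    have hξ : ξ ≫ f = η := by
      show (l ≫ pullback.snd V.hom f) ≫ f = η
      rw [Category.assoc, ← pullback.condition, ← Category.assoc]
      exact (congrArg (· ≫ V.hom) hl1).trans (Over.w y)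
    let z : Nbhd ξ P := Over.homMk l rfl
    have hz : pullNbhdOf f ξ η hξ y = z := by
      apply nbhd_bc_ext
      rw [pullNbhdOf_left_fst]
      exact hl1.symm
    have h1 := h0 ξ hξ
    rw [pushGermS_germS, pushGermS_germS, hz] at h1
    obtain ⟨Z, k, nz, hnz, hk⟩ := (germS_eq_iff ξ F z s' t').1 h1
    refine ⟨Z, k, ⟨Nbhd.pt ξ nz, ?_⟩, hk⟩
    have := (Nbhd.pt_map ξ k nz).symm.trans (congrArg (Nbhd.pt ξ) hnz)
    exact this.trans hl2
  -- shrink `V`
  have hcl : IsClosed (p₁ '' Oᶜ) := p₁.isClosedMap _ hO.isClosed_compl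
  let V₀ : V.left.Opens := ⟨(p₁ '' Oᶜ)ᶜ, hcl.isOpen_compl⟩
  have hyV₀ : Nbhd.pt η y ∈ V₀ := by
    rintro ⟨q, hq, hqy⟩
    exact hq (hfib q hqy)
  obtain ⟨y', hy'⟩ := Groth.Agent.Lib.EtGerm.exists_nbhd_openSub η V₀ y hyV₀
  rw [← hy', ← germS_res, ← germS_res]
  have : ((EtDesc.pushSh f).obj F).obj.map (openSubι V V₀).op s =
      ((EtDesc.pushSh f).obj F).obj.map (openSubι V V₀).op t := by
    show F.obj.map ((EtCoh.bc f).map (openSubι V V₀)).op s' =
      F.obj.map ((EtCoh.bc f).map (openSubι V V₀)).op t'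
    apply resS_ext_of_forall_pt
    intro q'
    have hq : ((EtCoh.bc f).map (openSubι V V₀)).left q' ∈ O := by
      by_contra hq
      have h2 : p₁ (((EtCoh.bc f).map (openSubι V V₀)).left q') ∈ V₀ := by
        have e1 : ((EtCoh.bc f).map (openSubι V V₀)).left ≫ p₁ =
            pullback.fst (openSub V V₀).hom f ≫ (openSubι V V₀).left := pullback.lift_fst _ _ _
        have e2 := congrArg (fun k : ((EtCoh.bc f).obj (openSub V V₀)).left ⟶ V.left => k q') e1
        simp only [Scheme.Hom.comp_apply] at e2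
        rw [e2]
        exact (pullback.fst (openSub V V₀).hom f q').2
      exact h2 ⟨_, hq, rfl⟩
    exact hq
  rw [this]

end injective

section surjective

variable {X Y : Scheme.{u}} (f : X ⟶ Y) [IsFinite f] {Ω : Type u} [Field Ω] [IsAlgClosed Ω]
  (η : Spec (CommRingCat.of Ω) ⟶ Y)

set_option backward.isDefEq.respectTransparency false in
/-- for `f` finite the maps `(f_* F)_η ⟶ F_ξ`, `ξ` over `η`, are jointly surjective -/
theorem exists_pushGermS_eq (F : EtDesc.Sh X)
    (t : ∀ ξ : GeomPtsOver f η, (stalkS ξ.1).obj F) :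
    ∃ σ : (stalkS η).obj ((EtDesc.pushSh f).obj F),
      ∀ ξ : GeomPtsOver f η, pushGermS f ξ.1 η ξ.2 F σ = t ξ := by
  choose U u τ hτ using fun ξ : GeomPtsOver f η => germS_jointly_surjective ξ.1 F (t ξ)
  obtain ⟨V, y, W, hdisj, hcov, hk⟩ := exists_decomposition f η U u
  choose k nz hnz hku using hk
  let Q : X.Etale := (EtCoh.bc f).obj V
  have hrange : ∀ ξ, Set.range (openSubι Q (W ξ)).left = (W ξ : Set Q.left) := fun ξ =>
    Scheme.Opens.range_ι (W ξ)
  obtain ⟨s, hs, -⟩ := Groth.Agent.S6629.glue_disjoint F Q (fun ξ => openSub Q (W ξ))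
    (fun ξ => openSubι Q (W ξ))
    (fun ξ => by
      show Mono (W ξ).ι
      infer_instance)
    (fun ξ ξ' hne => by
      rw [hrange, hrange]
      exact hdisj ξ ξ' hne)
    (by
      rw [← hcov]
      exact Set.iUnion_congr hrange)
    (fun ξ => F.obj.map (k ξ).op (τ ξ))
  let s' : EtDesc.sect ((EtDesc.pushSh f).obj F) V := s
  refine ⟨germS η _ y s', fun ξ => ?_⟩
  rw [pushGermS_germS, ← hnz ξ, ← germS_res]
  show germS ξ.1 F (nz ξ) (F.obj.map (openSubι Q (W ξ)).op s) = t ξ
  rw [hs ξ, germS_res, hku, hτ]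

end surjective

section main

variable {X Y : Scheme.{u}} (f : X ⟶ Y) [IsFinite f] {Ω : Type u} [Field Ω] [IsAlgClosed Ω]
  (η : Spec (CommRingCat.of Ω) ⟶ Y)

/-- the canonical transformation `(f_* -)_η ⟶ ∏_ξ (-)_ξ` -/
noncomputable def pushGermPiNat :
    EtDesc.pushSh f ⋙ stalkS η ⟶
      ∏ᶜ fun ξ : GeomPtsOver f η => (stalkS ξ.1 : EtDesc.Sh X ⥤ Type (u + 1)) :=
  Pi.lift fun ξ => pushGermNat f ξ.1 η ξ.2

lemma pushGermPiNat_π (F : EtDesc.Sh X) (ξ : GeomPtsOver f η)
    (σ : (stalkS η).obj ((EtDesc.pushSh f).obj F)) :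
    (Pi.π (fun ξ : GeomPtsOver f η => (stalkS ξ.1 : EtDesc.Sh X ⥤ Type (u + 1))) ξ).app F
      ((pushGermPiNat f η).app F σ) = pushGermS f ξ.1 η ξ.2 F σ := by
  have h1 : pushGermPiNat f η ≫
      Pi.π (fun ξ : GeomPtsOver f η => (stalkS ξ.1 : EtDesc.Sh X ⥤ Type (u + 1))) ξ =
      pushGermNat f ξ.1 η ξ.2 := Pi.lift_π _ _
  have h2 := congrArg (fun a => a.app F) h1
  exact ConcreteCategory.congr_hom h2 σ

/-- elements of the value of a product of functors are determined by their projections -/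
lemma pi_obj_ext {C : Type*} [Category C] {α : Type u} (G : α → C ⥤ Type (u + 1)) (F : C)
    (x x' : (∏ᶜ G).obj F) (h : ∀ a, (Pi.π G a).app F x = (Pi.π G a).app F x') : x = x' := by
  have hinj : Function.Injective (piObjIso G F).hom := by
    intro a b hab
    have := congrArg (piObjIso G F).inv hab
    simpa using this
  apply hinj
  refine Concrete.limit_ext (Discrete.functor fun a => (G a).obj F) _ _ ?_
  rintro ⟨a⟩
  have e1 := ConcreteCategory.congr_hom (piObjIso_hom_comp_π G F a) x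
  have e2 := ConcreteCategory.congr_hom (piObjIso_hom_comp_π G F a) x'
  simp only [types_comp_apply] at e1 e2
  exact (e1.trans (h a)).trans e2.symm

theorem isIso_pushGermPiNat : IsIso (pushGermPiNat f η) := by
  rw [NatTrans.isIso_iff_isIso_app]
  intro F
  rw [isIso_iff_bijective]
  constructor
  · intro σ σ' hσ
    apply pushGermS_jointly_injective f η F σ σ'
    intro ξ hξ
    have := congrArg
      ((Pi.π (fun ξ : GeomPtsOver f η => (stalkS ξ.1 : EtDesc.Sh X ⥤ Type (u + 1))) ⟨ξ, hξ⟩).app F) hσ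
    rwa [pushGermPiNat_π, pushGermPiNat_π] at this
  · intro x
    obtain ⟨σ, hσ⟩ := exists_pushGermS_eq f η F (fun ξ =>
      (Pi.π (fun ξ : GeomPtsOver f η => (stalkS ξ.1 : EtDesc.Sh X ⥤ Type (u + 1))) ξ).app F x)
    refine ⟨σ, ?_⟩
    apply pi_obj_ext
    intro ξ
    rw [pushGermPiNat_π]
    exact hσ ξ

/-- the stalk at `η` of the direct image along a finite morphism is the product of the stalks at
the geometric points over `η`, functorially -/
noncomputable def pushShStalkIso :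
    EtDesc.pushSh f ⋙ stalkS η ≅
      ∏ᶜ fun ξ : GeomPtsOver f η => (stalkS ξ.1 : EtDesc.Sh X ⥤ Type (u + 1)) :=
  haveI := isIso_pushGermPiNat f η
  asIso (pushGermPiNat f η)

end main

end Groth.Agent.Lib.EtFinStalkSet34
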