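import Groth.Agent.Lib.EtHpullComp
import Groth.Agent.Lib.EtExtZeroMono
import Groth.Agent.Lib.EtExtZero2

/-!
# `j_! ℤ_U` and cohomology of `U` (helper39)

For an etale `j : U ⟶ X`:
* `adjSP j : extZero j ⊣ pull j`;
* `Zsh j = j_! ℤ_U`, `eps j : j_! ℤ_U ⟶ ℤ_X`;
* `theta j F n : Ext^n(j_! ℤ_U, F) ≃+ H^n(U, j⁻¹F)`, with `theta_eps` (`theta ∘ eps^* = Hpull j`);
* for `a ≫ t = f₀`: `iota a t f₀ w : (f₀)_! ℤ ⟶ t_! ℤ` with `theta_iota` (compatibility with
  `HpullVia`) and `iota_eps`;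
* stalks of `eps j` for `j` a monomorphism.
-/

set_option autoImplicit false
universe u
open CategoryTheory CategoryTheory.Limits AlgebraicGeometry Opposite

namespace Groth.Agent.Lib.EtShriekConst

open EtCore EtCoh CategoryTheory.Abelian Groth.Agent.Lib.ExtAdj Groth.Agent.Lib.EtHpullComp
  Groth.Agent.Lib.EtExtZero

section

variable {U X : Scheme.{u}} (j : U ⟶ X) [hj : AlgebraicGeometry.Etale j] [EtShriek.JCont j]

/-- the adjunction `j_! ⊣ j⁻¹` with `j⁻¹ = EtCoh.pull j` -/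
noncomputable def adjSP : EtShriek.extZero j ⊣ EtCoh.pull j :=
  (EtShriek.extZeroAdj j).ofNatIsoRight (restrIsoPull j)

instance : (EtCoh.pull j).PreservesInjectiveObjects where
  injective_obj {I} _ := Groth.Agent.Lib.EtExtZeroMono.injective_pull_of_etale j I

/-- `j_! ℤ_U` -/
noncomputable abbrev Zsh : EtCoh.Ab X := (EtShriek.extZero j).obj (EtCoh.const U ℤ)

/-- the canonical map `j_! ℤ_U ⟶ ℤ_X` -/
noncomputable def eps : Zsh j ⟶ EtCoh.const X ℤ :=
  ((adjSP j).homEquiv _ _).symm (pullConst j ℤ).inv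

lemma homEquiv_eps : (adjSP j).homEquiv _ _ (eps j) = (pullConst j ℤ).inv :=
  Equiv.apply_symm_apply _ _

variable [PreservesFiniteLimits (EtCoh.pull j)]

/-- `Ext^n(j_! ℤ_U, F) ≃+ H^n(U, j⁻¹ F)` -/
noncomputable def theta (F : EtCoh.Ab X) (n : ℕ) :
    Ext (Zsh j) F n ≃+ EtCoh.H U ((EtCoh.pull j).obj F) n :=
  extAdjEquiv (adjSP j) (EtCoh.const U ℤ) F n

lemma theta_apply (F : EtCoh.Ab X) (n : ℕ) (e : Ext (Zsh j) F n) :
    theta j F n e = extAdj (adjSP j) (EtCoh.const U ℤ) F n e := rfl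

theorem theta_eps (F : EtCoh.Ab X) (n : ℕ) (x : EtCoh.H X F n) :
    theta j F n ((Ext.mk₀ (eps j)).comp x (zero_add n)) = Hpull j F n x := by
  rw [theta_apply, extAdj_mk₀_comp', homEquiv_eps, Hpull_apply]

end


section iota

variable {W U X : Scheme.{u}} (a : W ⟶ U) (t : U ⟶ X) (f₀ : W ⟶ X) (w : a ≫ t = f₀)
  [AlgebraicGeometry.Etale t] [EtShriek.JCont t] [AlgebraicGeometry.Etale f₀] [EtShriek.JCont f₀]

/-- the transport isomorphism `t⁻¹ ⋙ a⁻¹ ≅ f₀⁻¹` used by `EtCore.HpullVia` -/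
noncomputable abbrev kap : EtCoh.pull t ⋙ EtCoh.pull a ≅ EtCoh.pull f₀ :=
  (pullComp a t).symm ≪≫ pullCongr w

/-- the adjoint of `iota` -/
noncomputable def iotaAdj : EtCoh.const W ℤ ⟶ (EtCoh.pull f₀).obj (Zsh t) :=
  (pullConst a ℤ).inv ≫ (EtCoh.pull a).map ((adjSP t).unit.app (EtCoh.const U ℤ)) ≫
    (kap a t f₀ w).hom.app (Zsh t)

/-- the map `(f₀)_! ℤ_W ⟶ t_! ℤ_U` for `f₀ = a ≫ t` -/
noncomputable def iota : Zsh f₀ ⟶ Zsh t :=
  ((adjSP f₀).homEquiv _ _).symm (iotaAdj a t f₀ w)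

lemma homEquiv_iota : (adjSP f₀).homEquiv _ _ (iota a t f₀ w) = iotaAdj a t f₀ w :=
  Equiv.apply_symm_apply _ _

theorem iota_eps : iota a t f₀ w ≫ eps t = eps f₀ := by
  apply ((adjSP f₀).homEquiv _ _).injective
  rw [Adjunction.homEquiv_naturality_right, homEquiv_iota, homEquiv_eps, iotaAdj]
  have hn := (kap a t f₀ w).hom.naturality (eps t)
  simp only [Functor.comp_map] at hn
  rw [Category.assoc, Category.assoc, ← hn, ← Functor.map_comp_assoc]
  have h1 : (adjSP t).unit.app (EtCoh.const U ℤ) ≫ (EtCoh.pull t).map (eps t) =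
      (pullConst t ℤ).inv :=
    ((adjSP t).homEquiv_unit _ _ (eps t)).symm.trans (homEquiv_eps t)
  rw [h1]
  exact (pullConst_inv_comp a t w ℤ).symm

variable [PreservesFiniteLimits (EtCoh.pull a)] [PreservesFiniteLimits (EtCoh.pull t)]
  [PreservesFiniteLimits (EtCoh.pull f₀)]

theorem theta_iota (F : EtCoh.Ab X) (n : ℕ) (e : Ext (Zsh t) F n) :
    theta f₀ F n ((Ext.mk₀ (iota a t f₀ w)).comp e (zero_add n)) =
      HpullVia a t f₀ w F n (theta t F n e) := by
  have : PreservesFiniteLimits (EtCoh.pull t ⋙ EtCoh.pull a) := comp_preservesFiniteLimits _ _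
  have : PreservesFiniteColimits (EtCoh.pull t ⋙ EtCoh.pull a) :=
    comp_preservesFiniteColimits _ _
  rw [theta_apply, extAdj_mk₀_comp', homEquiv_iota, HpullVia_apply, Hpull_apply, theta_apply,
    extAdj_apply]
  set η := (adjSP t).unit.app (EtCoh.const U ℤ) with hη
  have h2 : (e.mapExactFunctor (EtCoh.pull t)).mapExactFunctor (EtCoh.pull a) =
      e.mapExactFunctor (EtCoh.pull t ⋙ EtCoh.pull a) :=
    mapExactFunctor_mapExactFunctor (EtCoh.pull t) (EtCoh.pull a) e
  have h3 : (e.mapExactFunctor (EtCoh.pull t ⋙ EtCoh.pull a)).comp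
      (Ext.mk₀ ((kap a t f₀ w).hom.app F)) (add_zero n) =
        (Ext.mk₀ ((kap a t f₀ w).hom.app (Zsh t))).comp
          (e.mapExactFunctor (EtCoh.pull f₀)) (zero_add n) :=
    mapExactFunctor_naturality (kap a t f₀ w).hom e
  symm
  calc ((Ext.mk₀ (pullConst a ℤ).inv).comp
        (((Ext.mk₀ η).comp (e.mapExactFunctor (EtCoh.pull t))
          (zero_add n)).mapExactFunctor (EtCoh.pull a)) (zero_add n)).comp
        (Ext.mk₀ ((kap a t f₀ w).app F).hom) (add_zero n)
      = ((Ext.mk₀ (pullConst a ℤ).inv).comp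
          ((Ext.mk₀ ((EtCoh.pull a).map η)).comp
            (e.mapExactFunctor (EtCoh.pull t ⋙ EtCoh.pull a)) (zero_add n)) (zero_add n)).comp
          (Ext.mk₀ ((kap a t f₀ w).hom.app F)) (add_zero n) := by
        rw [Ext.mapExactFunctor_comp, Ext.mapExactFunctor_mk₀, h2]
        rfl
    _ = (Ext.mk₀ (pullConst a ℤ).inv).comp
          ((Ext.mk₀ ((EtCoh.pull a).map η)).comp
            ((e.mapExactFunctor (EtCoh.pull t ⋙ EtCoh.pull a)).comp
              (Ext.mk₀ ((kap a t f₀ w).hom.app F)) (add_zero n)) (zero_add n)) (zero_add n) := by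
        rw [Ext.comp_assoc_of_third_deg_zero, Ext.comp_assoc_of_third_deg_zero]
    _ = (Ext.mk₀ (pullConst a ℤ).inv).comp
          ((Ext.mk₀ ((EtCoh.pull a).map η)).comp
            ((Ext.mk₀ ((kap a t f₀ w).hom.app (Zsh t))).comp
              (e.mapExactFunctor (EtCoh.pull f₀)) (zero_add n)) (zero_add n)) (zero_add n) := by
        rw [h3]
    _ = (Ext.mk₀ (iotaAdj a t f₀ w)).comp (e.mapExactFunctor (EtCoh.pull f₀)) (zero_add n) := by
        rw [Ext.mk₀_comp_mk₀_assoc, Ext.mk₀_comp_mk₀_assoc]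
        rfl

end iota


section stalks

variable {U X : Scheme.{u}} (j : U ⟶ X) [hj : AlgebraicGeometry.Etale j] [EtShriek.JCont j]
  {Ω : Type u} [Field Ω] [IsSepClosed Ω]

lemma eps_eq : eps j = (EtShriek.extZero j).map
    ((pullConst j ℤ).inv ≫ (restrIsoPull j).inv.app (EtCoh.const X ℤ)) ≫
      (EtShriek.extZeroAdj j).counit.app (EtCoh.const X ℤ) := by
  rw [eps, Adjunction.homEquiv_counit, adjSP, Adjunction.ofNatIsoRight_counit]
  simp only [NatTrans.comp_app, Functor.whiskerRight_app, Functor.map_comp, Category.assoc]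

/-- `eps j` is an isomorphism on stalks at geometric points of `U` (for a monomorphism `j`) -/
theorem isIso_stalk_eps [Mono j] (ξ : Spec (CommRingCat.of Ω) ⟶ X)
    (u : Spec (CommRingCat.of Ω) ⟶ U) (h : u ≫ j = ξ) :
    IsIso ((EtCoh.stalk ξ).map (eps j)) := by
  subst h
  rw [eps_eq, Functor.map_comp]
  have := isIso_stalk_counit j (EtCoh.const X ℤ) u
  infer_instance

/-- the stalk of `j_! ℤ_U` vanishes at geometric points outside the image of `j` -/
theorem isZero_stalk_Zsh (ξ : Spec (CommRingCat.of Ω) ⟶ X) (h : ξ default ∉ Set.range j) :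
    IsZero ((EtCoh.stalk ξ).obj (Zsh j)) :=
  isZero_stalk_extZero j ξ _ (isEmpty_lifts j ξ h)

end stalks


section exactness

variable {U X : Scheme.{u}} (j : U ⟶ X) [hj : AlgebraicGeometry.Etale j] [EtShriek.JCont j]

/-- inverse image along an etale morphism preserves finite limits (it is a right adjoint) -/
theorem preservesFiniteLimits_pull_of_etale : PreservesFiniteLimits (EtCoh.pull j) := by
  have h1 : PreservesLimitsOfSize.{0, 0} (EtShriek.restrAlong j) :=
    (EtShriek.extZeroAdj j).rightAdjoint_preservesLimits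
  have h2 : PreservesFiniteLimits (EtShriek.restrAlong j) :=
    PreservesLimitsOfSize.preservesFiniteLimits _
  exact preservesFiniteLimits_of_natIso (restrIsoPull j)

end exactness

section stalkExact

open Groth.Agent.Lib.EtAbStalk Groth.Agent.Lib.EtAbStalk2 Groth.Agent.Lib.EtAbStalk3

/-- a short complex of abelian sheaves is short exact if it is so on the stalks at some geometric
point over every point -/
theorem shortExact_of_stalks {X : Scheme.{u}} (S : ShortComplex (EtCoh.Ab X))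
    (h : ∀ x : X, ∃ (Ω : Type u) (_ : Field Ω) (_ : IsSepClosed Ω)
      (ξ : Spec (CommRingCat.of Ω) ⟶ X), ξ default = x ∧ (S.map (EtCoh.stalk ξ)).ShortExact) :
    S.ShortExact := by
  have hex : S.Exact := by
    apply exact_of_forall_exists_geomPt
    intro x
    obtain ⟨Ω, i1, i2, ξ, hξ, hS⟩ := h x
    exact ⟨Ω, i1, i2, ξ, hξ, hS.exact⟩
  have hmono : Mono S.f := by
    apply mono_of_forall_exists_geomPt
    intro x
    obtain ⟨Ω, i1, i2, ξ, hξ, hS⟩ := h x
    have := hS.mono_f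
    exact ⟨Ω, i1, i2, ξ, hξ, (AddCommGrpCat.mono_iff_injective ((EtCoh.stalk ξ).map S.f)).1 this⟩
  have hepi : Epi S.g := by
    apply epi_of_forall_exists_geomPt
    intro x
    obtain ⟨Ω, i1, i2, ξ, hξ, hS⟩ := h x
    have := hS.epi_g
    exact ⟨Ω, i1, i2, ξ, hξ, (AddCommGrpCat.epi_iff_surjective ((EtCoh.stalk ξ).map S.g)).1 this⟩
  exact { exact := hex, mono_f := hmono, epi_g := hepi }

end stalkExact

end Groth.Agent.Lib.EtShriekConst
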