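import Groth.Agent.Lib.FlasqueInj34
import Groth.Agent.Lib.EtShriekConst
import Groth.Agent.Lib.EtJCont

/-!
# Étale flasque toolkit (helper34)

* `compTopIso j`, `surjective_app_of_subsingleton_H_one_etale`: for a short exact sequence
  `0 → F → I → Q → 0` on `X_ét` and étale `j : U → X` with `H¹(U, j⁻¹F) = 0`, `I(U) → Q(U)` is onto;
* gluing two copies of `U` along an open subscheme `V` (non-separated étale `X`-scheme):
  scheme level `pushout a a` for an open immersion `a : V ⟶ U` (`exists_of_inl_eq_inr`,
  `inl_or_inr_surjective`, `exists_lift_of_comp_inl_eq_comp_inr`, `dblHom`, étaleness), and in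
  `X.Etale`: `dbl g`, `dblInl`, `dblInr`, `dbl_condition`, `dbl_exists_lift`, `dbl_covering`,
  `dbl_glue` (gluing sections of a sheaf over the two copies).
-/

open CategoryTheory Limits Opposite Abelian AlgebraicGeometry

universe u

namespace Groth.Agent.Lib.EtFlasque34

open Groth.Agent.Lib.FlasqueInj34

open Groth.Agent.Lib.EtExtZero Groth.Agent.Lib.EtShriekConst

section
variable {U X : Scheme.{u}} (j : U ⟶ X) [AlgebraicGeometry.Etale j]

/-- the canonical isomorphism `(U → U → X) ≅ (U → X)` in `X.Etale` -/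
noncomputable def compTopIso :
    (EtShriek.compEtale j).obj (EtCoh.top U) ≅ Scheme.Etale.mk j :=
  MorphismProperty.Over.isoMk (Iso.refl _) rfl

/-- étale version: for a short exact sequence `0 → F → I → Q → 0` on `X_ét` and an étale
`j : U → X` with `H¹(U, j⁻¹F) = 0`, the map `I(U) → Q(U)` is surjective -/
theorem surjective_app_of_subsingleton_H_one_etale
    {S : ShortComplex (EtCoh.Ab X)} (hS : S.ShortExact)
    (h : Subsingleton (EtCoh.H U ((EtCoh.pull j).obj S.X₁) 1)) :
    Function.Surjective (S.g.hom.app (op (Scheme.Etale.mk j))) := by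
  haveI : EtShriek.JCont j := Groth.Agent.Lib.EtJCont.jCont j
  haveI : PreservesFiniteLimits (EtCoh.pull j) := preservesFiniteLimits_pull_of_etale j
  have hS' : (S.map (EtCoh.pull j)).ShortExact := hS.map_of_exact (EtCoh.pull j)
  haveI : Subsingleton (Sheaf.H.{u + 1} (S.map (EtCoh.pull j)).X₁ 1) := h
  have h1 := surjective_app_of_subsingleton_H_one hS' (EtCore.topIsTerminal U)
  let e := restrIsoPull j
  let c := compTopIso j
  intro y
  obtain ⟨x'', hx''⟩ := h1 ((e.hom.app S.X₃).hom.app (op (EtCoh.top U)) (S.X₃.obj.map c.hom.op y))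
  refine ⟨S.X₂.obj.map c.inv.op ((e.inv.app S.X₂).hom.app (op (EtCoh.top U)) x''), ?_⟩
  -- naturality of `S.g` with respect to `c.inv`
  have n1 : S.X₂.obj.map c.inv.op ≫ S.g.hom.app (op (Scheme.Etale.mk j)) =
      S.g.hom.app (op ((EtShriek.compEtale j).obj (EtCoh.top U))) ≫ S.X₃.obj.map c.inv.op :=
    S.g.hom.naturality c.inv.op
  -- naturality of `e.inv` with respect to `S.g`
  have n2 : (e.inv.app S.X₂).hom.app (op (EtCoh.top U)) ≫
      S.g.hom.app (op ((EtShriek.compEtale j).obj (EtCoh.top U))) =
      ((EtCoh.pull j).map S.g).hom.app (op (EtCoh.top U)) ≫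
        (e.inv.app S.X₃).hom.app (op (EtCoh.top U)) := by
    have := congrArg (fun t => t.hom.app (op (EtCoh.top U))) (e.inv.naturality S.g)
    exact this.symm
  have n3 : (e.hom.app S.X₃).hom.app (op (EtCoh.top U)) ≫
      (e.inv.app S.X₃).hom.app (op (EtCoh.top U)) = 𝟙 _ := by
    have := congrArg (fun t => t.hom.app (op (EtCoh.top U))) (e.hom_inv_id_app S.X₃)
    exact this
  have n4 : S.X₃.obj.map c.hom.op ≫ S.X₃.obj.map c.inv.op = 𝟙 _ := by
    rw [← Functor.map_comp, ← op_comp, c.inv_hom_id, op_id]
    exact S.X₃.obj.map_id _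
  have s1 := ConcreteCategory.congr_hom n1 ((e.inv.app S.X₂).hom.app (op (EtCoh.top U)) x'')
  have s2 := ConcreteCategory.congr_hom n2 x''
  have s3 := ConcreteCategory.congr_hom n3 (S.X₃.obj.map c.hom.op y)
  have s4 := ConcreteCategory.congr_hom n4 y
  simp only [ConcreteCategory.comp_apply, ConcreteCategory.id_apply] at s1 s2 s3 s4
  exact s1.trans ((congrArg (S.X₃.obj.map c.inv.op) (s2.trans
    ((congrArg ((e.inv.app S.X₃).hom.app (op (EtCoh.top U))) hx'').trans s3))).trans s4)
end


section Glue
variable {U V : Scheme.{u}} (a : V ⟶ U) [IsOpenImmersion a]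

instance isOpenImmersion_span_map {i j : WalkingSpan} (t : i ⟶ j) :
    IsOpenImmersion ((span a a).map t) := by
  obtain (t | (t | t)) := t
  · simp only [WidePushoutShape.hom_id, CategoryTheory.Functor.map_id]
    infer_instance
  · simpa
  · simpa

instance : HasPushout a a := inferInstanceAs (HasColimit (span a a))

instance : IsOpenImmersion (pushout.inl a a) :=
  inferInstanceAs (IsOpenImmersion (colimit.ι (span a a) WalkingSpan.left))

instance : IsOpenImmersion (pushout.inr a a) :=
  inferInstanceAs (IsOpenImmersion (colimit.ι (span a a) WalkingSpan.right))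

lemma exists_of_inl_eq_inr {x y : U} (h : pushout.inl a a x = pushout.inr a a y) :
    ∃ z : V, a z = x ∧ a z = y := by
  obtain ⟨k, fi, fj, z, hz1, hz2⟩ :=
    (Scheme.IsLocallyDirected.ι_eq_ι_iff (F := span a a) (i := WalkingSpan.left)
      (j := WalkingSpan.right)).1 h
  cases k with
  | none =>
    obtain rfl : fi = WidePushoutShape.Hom.init _ := Subsingleton.elim _ _
    obtain rfl : fj = WidePushoutShape.Hom.init _ := Subsingleton.elim _ _
    exact ⟨z, hz1, hz2⟩
  | some k =>
    cases k
    · exact (by cases (show WidePushoutShape.Hom (some WalkingPair.left) (some WalkingPair.right) from fj))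
    · exact (by cases (show WidePushoutShape.Hom (some WalkingPair.right) (some WalkingPair.left) from fi))

lemma inl_or_inr_surjective (w : ↑(pushout a a)) :
    (∃ x : U, pushout.inl a a x = w) ∨ (∃ x : U, pushout.inr a a x = w) := by
  obtain ⟨i, xi, h⟩ := Scheme.IsLocallyDirected.ι_jointly_surjective (span a a) w
  cases i with
  | none =>
    left
    refine ⟨a xi, ?_⟩
    rw [← h, ← Scheme.Hom.comp_apply]
    have e : a ≫ pushout.inl a a = colimit.ι (span a a) none :=
      colimit.w (span a a) (WidePushoutShape.Hom.init WalkingPair.left)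
    rw [e]
    rfl
  | some k =>
    cases k
    · left; exact ⟨xi, h⟩
    · right; exact ⟨xi, h⟩

lemma exists_lift_of_comp_inl_eq_comp_inr {T : Scheme.{u}} (p q : T ⟶ U)
    (h : p ≫ pushout.inl a a = q ≫ pushout.inr a a) : ∃ r : T ⟶ V, r ≫ a = p ∧ r ≫ a = q := by
  have hp : Set.range p ⊆ Set.range a := by
    rintro _ ⟨t, rfl⟩
    obtain ⟨z, hz, -⟩ := exists_of_inl_eq_inr a (x := p t) (y := q t) (by
      rw [← Scheme.Hom.comp_apply, ← Scheme.Hom.comp_apply, h])
    exact ⟨z, hz⟩
  refine ⟨IsOpenImmersion.lift a p hp, IsOpenImmersion.lift_fac _ _ _, ?_⟩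
  rw [← cancel_mono (pushout.inr a a), Category.assoc, ← pushout.condition, ← Category.assoc,
    IsOpenImmersion.lift_fac, h]

variable {X : Scheme.{u}} (hU : U ⟶ X)

/-- the structure morphism of the doubled scheme -/
noncomputable def dblHom : pushout a a ⟶ X := pushout.desc hU hU rfl

@[reassoc (attr := simp)]
lemma inl_dblHom : pushout.inl a a ≫ dblHom a hU = hU := pushout.inl_desc _ _ _

@[reassoc (attr := simp)]
lemma inr_dblHom : pushout.inr a a ≫ dblHom a hU = hU := pushout.inr_desc _ _ _

instance [Etale hU] : Etale (dblHom a hU) := by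
  rw [IsZariskiLocalAtSource.iff_of_openCover (P := @Etale)
    (Scheme.IsLocallyDirected.openCover (span a a))]
  intro i
  cases i with
  | none =>
    have e : colimit.ι (span a a) none = (span a a).map (WidePushoutShape.Hom.init WalkingPair.left) ≫
        colimit.ι (span a a) (some WalkingPair.left) := (colimit.w _ _).symm
    show Etale (colimit.ι (span a a) none ≫ dblHom a hU)
    rw [e, Category.assoc]
    have e2 : colimit.ι (span a a) (some WalkingPair.left) ≫ dblHom a hU = hU := inl_dblHom a hU
    rw [e2]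
    haveI : IsOpenImmersion ((span a a).map (WidePushoutShape.Hom.init WalkingPair.left)) :=
      isOpenImmersion_span_map a _
    have h1 : Etale ((span a a).map (WidePushoutShape.Hom.init WalkingPair.left)) := inferInstance
    exact MorphismProperty.comp_mem @Etale _ _ h1 ‹Etale hU›
  | some k =>
    cases k
    · show Etale (pushout.inl a a ≫ dblHom a hU)
      rw [inl_dblHom]; infer_instance
    · show Etale (pushout.inr a a ≫ dblHom a hU)
      rw [inr_dblHom]; infer_instance

end Glue

section EtaleGlue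

variable {X : Scheme.{u}} {U V : X.Etale} (g : V ⟶ U) [IsOpenImmersion g.left]

/-- two copies of `U` glued along `V`, as an étale `X`-scheme (non-separated in general) -/
noncomputable def dbl : X.Etale := Scheme.Etale.mk (dblHom g.left U.hom)

/-- the first copy of `U` in `dbl g` -/
noncomputable def dblInl : U ⟶ dbl g :=
  MorphismProperty.Over.homMk (pushout.inl g.left g.left) (inl_dblHom g.left U.hom)

/-- the second copy of `U` in `dbl g` -/
noncomputable def dblInr : U ⟶ dbl g :=
  MorphismProperty.Over.homMk (pushout.inr g.left g.left) (inr_dblHom g.left U.hom)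

lemma dbl_condition : g ≫ dblInl g = g ≫ dblInr g := by
  apply MorphismProperty.Over.Hom.ext
  exact pushout.condition

lemma dbl_exists_lift {T : X.Etale} (p q : T ⟶ U) (h : p ≫ dblInl g = q ≫ dblInr g) :
    ∃ r : T ⟶ V, r ≫ g = p ∧ r ≫ g = q := by
  have h' : p.left ≫ pushout.inl g.left g.left = q.left ≫ pushout.inr g.left g.left :=
    congrArg (fun t => t.left) h
  obtain ⟨r, hr1, hr2⟩ := exists_lift_of_comp_inl_eq_comp_inr g.left p.left q.left h'
  have hr : r ≫ V.hom = T.hom := by
    have e1 : g.left ≫ U.hom = V.hom := Over.w g.hom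
    have e2 : p.left ≫ U.hom = T.hom := Over.w p.hom
    rw [← e1, ← Category.assoc, hr1, e2]
  refine ⟨MorphismProperty.Over.homMk r hr, ?_, ?_⟩
  · apply MorphismProperty.Over.Hom.ext; exact hr1
  · apply MorphismProperty.Over.Hom.ext; exact hr2

/-- the two copies of `U` cover `dbl g` -/
lemma dbl_covering :
    Sieve.generate (Presieve.ofArrows (fun _ : WalkingPair => U)
      (fun i => WalkingPair.casesOn i (dblInl g) (dblInr g))) ∈
      X.smallEtaleTopology (dbl g) := by
  have eX : X.smallEtaleTopology =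
      (X.smallPretopology (P := @Etale) (Q := @Etale)).toGrothendieck :=
    Scheme.smallGrothendieckTopology_eq_toGrothendieck_smallPretopology X le_rfl
  rw [eX]
  refine (Scheme.mem_toGrothendieck_smallPretopology (dbl g) _).2 ?_
  intro w
  rcases inl_or_inr_surjective g.left w with ⟨x, hx⟩ | ⟨x, hx⟩
  · exact ⟨U, dblInl g, x, Sieve.le_generate _ _ _ (Presieve.ofArrows.mk WalkingPair.left),
      inferInstance, hx⟩
  · exact ⟨U, dblInr g, x, Sieve.le_generate _ _ _ (Presieve.ofArrows.mk WalkingPair.right),
      inferInstance, hx⟩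

/-- gluing sections of a sheaf over the two copies of `U` -/
lemma dbl_glue (Q : Sheaf X.smallEtaleTopology AddCommGrpCat.{u + 1})
    (s₁ s₂ : Q.obj.obj (op U)) (h : Q.obj.map g.op s₁ = Q.obj.map g.op s₂) :
    ∃ s : Q.obj.obj (op (dbl g)), Q.obj.map (dblInl g).op s = s₁ ∧
      Q.obj.map (dblInr g).op s = s₂ := by
  have hQ : Presieve.IsSheaf X.smallEtaleTopology (Q.obj ⋙ forget AddCommGrpCat.{u + 1}) :=
    (isSheaf_iff_isSheaf_of_type _ _).1
      ((Presheaf.isSheaf_iff_isSheaf_forget _ Q.obj (forget AddCommGrpCat.{u + 1})).1 Q.property)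
  have h1 := (Presieve.isSheafFor_iff_generate _).2 (hQ _ (dbl_covering g))
  rw [Presieve.isSheafFor_arrows_iff] at h1
  have m1 : Mono (dblInl g) :=
    (Scheme.Etale.forget X ⋙ Over.forget X).mono_of_mono_map
      (inferInstanceAs (Mono (pushout.inl g.left g.left)))
  have m2 : Mono (dblInr g) :=
    (Scheme.Etale.forget X ⋙ Over.forget X).mono_of_mono_map
      (inferInstanceAs (Mono (pushout.inr g.left g.left)))
  have key : ∀ {Z : X.Etale} (r : Z ⟶ V),
      (Q.obj ⋙ forget AddCommGrpCat.{u + 1}).map (r ≫ g).op s₁ =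
        (Q.obj ⋙ forget AddCommGrpCat.{u + 1}).map (r ≫ g).op s₂ := by
    intro Z r
    have := congrArg (Q.obj.map r.op) h
    simp only [op_comp, Functor.map_comp, Functor.comp_map]
    exact this
  obtain ⟨s, hs, -⟩ := h1 (fun i => WalkingPair.casesOn i s₁ s₂) (by
    rintro (_ | _) (_ | _) Z p q hpq
    · have : p = q := (cancel_mono (dblInl g)).1 hpq
      rw [this]
    · obtain ⟨r, rfl, hr⟩ := dbl_exists_lift g p q hpq
      rw [← hr]
      exact key r
    · obtain ⟨r, rfl, hr⟩ := dbl_exists_lift g q p hpq.symm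
      rw [← hr]
      exact (key r).symm
    · have : p = q := (cancel_mono (dblInr g)).1 hpq
      rw [this])
  exact ⟨s, hs WalkingPair.left, hs WalkingPair.right⟩

end EtaleGlue


end Groth.Agent.Lib.EtFlasque34
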