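import Groth.Agent.Lib.EtFlasque34
import Groth.Agent.Lib.EtHExactPush39
import Groth.Agent.Lib.EtPullExact95

/-!
# Direct images of flasque abelian étale sheaves are flasque (helper65) — S19626

`F` flasque: `H^q(W, F|_W) = 0` for all étale `W → X`, `q > 0`.  Dimension shifting along
`0 → F → I → Q → 0` with `I` injective.
-/

set_option autoImplicit false
universe u
open CategoryTheory CategoryTheory.Limits AlgebraicGeometry Opposite Abelian

namespace Groth.Agent.Lib.EtFlasquePush65

open Groth.Agent.Lib.EtExtZero Groth.Agent.Lib.EtShriekConst Groth.Agent.Lib.EtFlasque34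

/-- flasque in the sense of étale cohomology -/
def Fl {X : Scheme.{u}} (F : EtCoh.Ab X) : Prop :=
  ∀ (W : X.Etale) (q : ℕ), 0 < q →
    Subsingleton (EtCoh.H W.left ((EtCoh.pull W.hom).obj F) q)

section General

variable {X : Scheme.{u}}

lemma subsingleton_H_of_injective (I : EtCoh.Ab X) [Injective I] (q : ℕ) (hq : 0 < q) :
    Subsingleton (EtCoh.H X I q) := by
  obtain ⟨q, rfl⟩ : ∃ n, q = n + 1 := ⟨q - 1, by omega⟩
  exact ⟨fun a b => (Ext.eq_zero_of_injective a).trans (Ext.eq_zero_of_injective b).symm⟩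

/-- middle term acyclic in degree `q+1`, `H^{q+2}` of the kernel vanishes ⇒ `H^{q+1}` of the
cokernel vanishes -/
lemma subsingleton_H_X₃ {S : ShortComplex (EtCoh.Ab X)} (hS : S.ShortExact) (q : ℕ)
    (h₂ : Subsingleton (EtCoh.H X S.X₂ (q + 1))) (h₁ : Subsingleton (EtCoh.H X S.X₁ (q + 2))) :
    Subsingleton (EtCoh.H X S.X₃ (q + 1)) := by
  refine ⟨fun a b => ?_⟩
  have key : ∀ x₃ : EtCoh.H X S.X₃ (q + 1), x₃ = 0 := by
    intro x₃
    obtain ⟨x₂, hx₂⟩ := Ext.covariant_sequence_exact₃ _ hS x₃ (rfl : q + 1 + 1 = q + 2)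
      (Subsingleton.elim _ _)
    rw [← hx₂, Subsingleton.elim x₂ 0, Ext.zero_comp]
  rw [key a, key b]

/-- `H^{q+1}` of the cokernel and `H^{q+2}` of the middle vanish ⇒ `H^{q+2}` of the kernel
vanishes -/
lemma subsingleton_H_X₁_succ {S : ShortComplex (EtCoh.Ab X)} (hS : S.ShortExact) (q : ℕ)
    (h₃ : Subsingleton (EtCoh.H X S.X₃ (q + 1))) (h₂ : Subsingleton (EtCoh.H X S.X₂ (q + 2))) :
    Subsingleton (EtCoh.H X S.X₁ (q + 2)) := by
  refine ⟨fun a b => ?_⟩
  have key : ∀ x₁ : EtCoh.H X S.X₁ (q + 2), x₁ = 0 := by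
    intro x₁
    obtain ⟨x₃, hx₃⟩ := Ext.covariant_sequence_exact₁ _ hS x₁ (Subsingleton.elim _ _)
      (rfl : q + 1 + 1 = q + 2)
    rw [← hx₃, Subsingleton.elim x₃ 0, Ext.zero_comp]
  rw [key a, key b]

/-- sections over the terminal object surjective and `H¹` of the middle vanishes ⇒ `H¹` of the
kernel vanishes -/
lemma subsingleton_H_X₁_one {S : ShortComplex (EtCoh.Ab X)} (hS : S.ShortExact)
    (hg : Function.Surjective (S.g.hom.app (op (EtCoh.top X))))
    (h₂ : Subsingleton (EtCoh.H X S.X₂ 1)) :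
    Subsingleton (EtCoh.H X S.X₁ 1) := by
  refine ⟨fun a b => ?_⟩
  have key : ∀ x₁ : EtCoh.H X S.X₁ 1, x₁ = 0 := by
    intro x₁
    obtain ⟨x₃, hx₃⟩ := Ext.covariant_sequence_exact₁ _ hS x₁ (Subsingleton.elim _ _)
      (zero_add 1)
    have hT := EtCore.topIsTerminal X
    obtain ⟨y₂, hy₂⟩ := hg (Sheaf.H.equiv₀ S.X₃ hT x₃)
    have e : x₃ = ((Sheaf.H.equiv₀ S.X₂ hT).symm y₂).comp (Ext.mk₀ S.g) (add_zero 0) := by
      have n := Sheaf.H.equiv₀_symm_naturality hT S.g y₂
      rw [Sheaf.H.map_apply, hy₂, AddEquiv.symm_apply_apply] at n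
      exact n.symm
    rw [← hx₃, e, Ext.comp_assoc_of_second_deg_zero, hS.comp_extClass, Ext.comp_zero]
  rw [key a, key b]

end General

section Et

variable {X Y : Scheme.{u}}

/-- surjectivity on sections over `U → X` gives surjectivity on global sections of the
restriction to `U` -/
lemma surjective_pull_map_top {U : Scheme.{u}} (j : U ⟶ X) [AlgebraicGeometry.Etale j]
    {G G' : EtCoh.Ab X} (φ : G ⟶ G')
    (h : Function.Surjective (φ.hom.app (op (Scheme.Etale.mk j)))) :
    Function.Surjective (((EtCoh.pull j).map φ).hom.app (op (EtCoh.top U))) := by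
  have : EtShriek.JCont j := Groth.Agent.Lib.EtJCont.jCont j
  let e := restrIsoPull j
  let c := compTopIso j
  intro y
  obtain ⟨x'', hx''⟩ := h (G'.obj.map c.inv.op ((e.inv.app G').hom.app (op (EtCoh.top U)) y))
  refine ⟨(e.hom.app G).hom.app (op (EtCoh.top U)) (G.obj.map c.hom.op x''), ?_⟩
  -- naturality of `e.hom` with respect to `φ`
  have n2 : (e.hom.app G).hom.app (op (EtCoh.top U)) ≫
      ((EtCoh.pull j).map φ).hom.app (op (EtCoh.top U)) =
      φ.hom.app (op ((EtShriek.compEtale j).obj (EtCoh.top U))) ≫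
        (e.hom.app G').hom.app (op (EtCoh.top U)) := by
    have := congrArg (fun t => t.hom.app (op (EtCoh.top U))) (e.hom.naturality φ)
    exact this.symm
  have n1 : G.obj.map c.hom.op ≫ φ.hom.app (op ((EtShriek.compEtale j).obj (EtCoh.top U))) =
      φ.hom.app (op (Scheme.Etale.mk j)) ≫ G'.obj.map c.hom.op :=
    φ.hom.naturality c.hom.op
  have n3 : (e.inv.app G').hom.app (op (EtCoh.top U)) ≫
      (e.hom.app G').hom.app (op (EtCoh.top U)) = 𝟙 _ := by
    have := congrArg (fun t => t.hom.app (op (EtCoh.top U))) (e.inv_hom_id_app G')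
    exact this
  have n4 : G'.obj.map c.inv.op ≫ G'.obj.map c.hom.op = 𝟙 _ := by
    rw [← Functor.map_comp, ← op_comp, c.hom_inv_id, op_id]
    exact G'.obj.map_id _
  have s2 := ConcreteCategory.congr_hom n2 (G.obj.map c.hom.op x'')
  have s1 := ConcreteCategory.congr_hom n1 x''
  have s3 := ConcreteCategory.congr_hom n3 y
  have s4 := ConcreteCategory.congr_hom n4 ((e.inv.app G').hom.app (op (EtCoh.top U)) y)
  simp only [ConcreteCategory.comp_apply, ConcreteCategory.id_apply] at s1 s2 s3 s4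
  refine s2.trans ?_
  show (e.hom.app G').hom.app (op (EtCoh.top U))
    (φ.hom.app (op ((EtShriek.compEtale j).obj (EtCoh.top U))) (G.obj.map c.hom.op x'')) = y
  rw [s1, hx'', s4, s3]

lemma etale_hom (W : X.Etale) : AlgebraicGeometry.Etale W.hom := W.prop

attribute [local instance] etale_hom

lemma fl_of_injective (I : EtCoh.Ab X) [Injective I] : Fl I := by
  intro W q hq
  have : EtShriek.JCont W.hom := Groth.Agent.Lib.EtJCont.jCont W.hom
  have : Injective ((EtCoh.pull W.hom).obj I) := (EtCoh.pull W.hom).injective_obj I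
  exact subsingleton_H_of_injective _ q hq

lemma fl_X₃ {S : ShortComplex (EtCoh.Ab X)} (hS : S.ShortExact) [Injective S.X₂]
    (h₁ : Fl S.X₁) : Fl S.X₃ := by
  intro W q hq
  obtain ⟨q, rfl⟩ : ∃ n, q = n + 1 := ⟨q - 1, by omega⟩
  have hS' : (S.map (EtCoh.pull W.hom)).ShortExact := hS.map_of_exact (EtCoh.pull W.hom)
  exact subsingleton_H_X₃ hS' q (fl_of_injective S.X₂ W (q + 1) (by omega))
    (h₁ W (q + 2) (by omega))

lemma shortExact_push (f : X ⟶ Y) {S : ShortComplex (EtCoh.Ab X)} (hS : S.ShortExact)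
    (h₁ : Fl S.X₁) : (S.map (EtCoh.push f)).ShortExact := by
  have hmono := hS.mono_f
  have h1 : (S.map (EtCoh.push f)).Exact :=
    hS.exact.map_of_mono_of_preservesKernel (EtCoh.push f) hmono inferInstance
  have h2 : Mono (S.map (EtCoh.push f)).f := by
    change Mono ((EtCoh.push f).map S.f)
    infer_instance
  have h3 : Epi (S.map (EtCoh.push f)).g := by
    have : Sheaf.IsLocallySurjective (S.map (EtCoh.push f)).g := by
      apply Presheaf.isLocallySurjective_of_surjective
      intro V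
      exact surjective_app_of_subsingleton_H_one_etale ((EtCoh.bc f).obj V.unop).hom hS
        (h₁ ((EtCoh.bc f).obj V.unop) 1 Nat.one_pos)
    exact (Sheaf.isLocallySurjective_iff_epi' (φ := (S.map (EtCoh.push f)).g)).1 this
  exact { exact := h1 }

/-- the standard injective short exact sequence `0 → F → I → Q → 0` -/
noncomputable abbrev injSC (F : EtCoh.Ab X) : ShortComplex (EtCoh.Ab X) :=
  ShortComplex.mk (Injective.ι F) (cokernel.π (Injective.ι F)) (cokernel.condition _)

lemma injSC_shortExact (F : EtCoh.Ab X) : (injSC F).ShortExact :=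
  { exact := ShortComplex.exact_cokernel _
    mono_f := by dsimp [injSC]; infer_instance
    epi_g := by dsimp [injSC]; infer_instance }

theorem fl_push_aux (f : X ⟶ Y) : ∀ (q : ℕ) (F : EtCoh.Ab X), Fl F → ∀ W' : Y.Etale,
    Subsingleton (EtCoh.H W'.left ((EtCoh.pull W'.hom).obj ((EtCoh.push f).obj F)) (q + 1)) := by
  intro q
  induction q with
  | zero =>
    intro F hF W'
    have hS := injSC_shortExact F
    have : Injective (injSC F).X₂ := by dsimp [injSC]; infer_instance
    have hS' := shortExact_push f hS hF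
    have hT : ((injSC F).map (EtCoh.push f)).map (EtCoh.pull W'.hom) |>.ShortExact :=
      hS'.map_of_exact (EtCoh.pull W'.hom)
    have : Injective ((EtCoh.push f).obj (injSC F).X₂) := (EtCoh.push f).injective_obj _
    refine subsingleton_H_X₁_one hT ?_ (fl_of_injective ((EtCoh.push f).obj (injSC F).X₂) W' 1
      Nat.one_pos)
    apply surjective_pull_map_top W'.hom ((EtCoh.push f).map (injSC F).g)
    exact surjective_app_of_subsingleton_H_one_etale ((EtCoh.bc f).obj W').hom hS
      (hF ((EtCoh.bc f).obj W') 1 Nat.one_pos)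
  | succ q ih =>
    intro F hF W'
    have hS := injSC_shortExact F
    have : Injective (injSC F).X₂ := by dsimp [injSC]; infer_instance
    have hS' := shortExact_push f hS hF
    have hT : ((injSC F).map (EtCoh.push f)).map (EtCoh.pull W'.hom) |>.ShortExact :=
      hS'.map_of_exact (EtCoh.pull W'.hom)
    have : Injective ((EtCoh.push f).obj (injSC F).X₂) := (EtCoh.push f).injective_obj _
    exact subsingleton_H_X₁_succ hT q (ih (injSC F).X₃ (fl_X₃ hS hF) W')
      (fl_of_injective ((EtCoh.push f).obj (injSC F).X₂) W' (q + 2) (by omega))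

/-- S19626 -/
theorem main (f : X ⟶ Y) (F : EtCoh.Ab X)
    (hF : ∀ (W : X.Etale) (q : ℕ), 0 < q →
      Subsingleton (EtCoh.H W.left ((EtCoh.pull W.hom).obj F) q))
    (W' : Y.Etale) (q : ℕ) (hq : 0 < q) :
    Subsingleton (EtCoh.H W'.left ((EtCoh.pull W'.hom).obj ((EtCoh.push f).obj F)) q) := by
  obtain ⟨q, rfl⟩ : ∃ n, q = n + 1 := ⟨q - 1, by omega⟩
  exact fl_push_aux f q F hF W'

end Et

end Groth.Agent.Lib.EtFlasquePush65
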