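import Groth.Agent.Lib.EtAffCartan65
import Groth.Agent.Lib.Amitsur66
import Groth.Prelude.Def_EtGm

/-!
# The Čech complex of `G_a` for an affine cover is the Amitsur complex (helper65)

Consequences: `G_a` is Čech-acyclic for single affine surjective covers of affine étale objects,
hence (S0109) `H^p(S_et, G_a) = 0` for `S` affine and `p > 0`.
-/

set_option autoImplicit false
universe u
open CategoryTheory CategoryTheory.Limits AlgebraicGeometry Opposite

namespace Groth.Agent.Lib.EtGaAmitsur65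

open Groth.Agent.Lib.EtAffProd65 Groth.Agent.Lib.Amitsur66 Groth.Agent.Lib.EtAffCartan65

variable {X : Scheme.{u}} (U : X.Etale) (V : Over U) [hU : IsAffine U.left]
  [hV : IsAffine V.left.left]

/-- the ring of functions on the base -/
abbrev Rr : CommRingCat.{u} := Γ(U.left, ⊤)

/-- the ring of functions on the cover -/
abbrev Aa : CommRingCat.{u} := Γ(V.left.left, ⊤)

noncomputable instance algAa : Algebra (Rr U) (Aa U V) := (V.hom.left.appTop).hom.toAlgebra

lemma ofHom_algebraMap :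
    CommRingCat.ofHom (algebraMap (Rr U) (Aa U V)) = V.hom.left.appTop := rfl

/-- the constant family -/
abbrev Zn (n : ℕ) : Fin (n + 1) → Over U := fun _ => V

instance (n : ℕ) (k : Fin (n + 1)) : IsAffine (Zn U V n k).left.left := hV

/-- functions on the `(n+1)`-fold fibre product -/
noncomputable abbrev Bn (n : ℕ) : CommRingCat.{u} := Γ((∏ᶜ Zn U V n).left.left, ⊤)

/-- the comparison map to the Amitsur ring -/
noncomputable def ψ (n : ℕ) : Bn U V n ⟶ W (Rr U) (Aa U V) n :=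
  (existsUnique_ringHom U (Zn U V n) (W (Rr U) (Aa U V) n) (fun k => inc (Rr U) (Aa U V) n k)
    (hd (Rr U) (Aa U V) n) (fun k => arrow_inc (Rr U) (Aa U V) n k)).exists.choose

lemma base_ψ (n : ℕ) : (∏ᶜ Zn U V n).hom.left.appTop ≫ ψ U V n = hd (Rr U) (Aa U V) n :=
  (existsUnique_ringHom U (Zn U V n) (W (Rr U) (Aa U V) n) (fun k => inc (Rr U) (Aa U V) n k)
    (hd (Rr U) (Aa U V) n) (fun k => arrow_inc (Rr U) (Aa U V) n k)).exists.choose_spec.1

lemma π_ψ (n : ℕ) (k : Fin (n + 1)) :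
    (Pi.π (Zn U V n) k).left.left.appTop ≫ ψ U V n = inc (Rr U) (Aa U V) n k :=
  (existsUnique_ringHom U (Zn U V n) (W (Rr U) (Aa U V) n) (fun k => inc (Rr U) (Aa U V) n k)
    (hd (Rr U) (Aa U V) n) (fun k => arrow_inc (Rr U) (Aa U V) n k)).exists.choose_spec.2 k

/-- the inverse comparison map -/
noncomputable def θ (n : ℕ) : W (Rr U) (Aa U V) n ⟶ Bn U V n :=
  WidePushout.desc (∏ᶜ Zn U V n).hom.left.appTop (fun k => (Pi.π (Zn U V n) k).left.left.appTop)
    (fun k => by
      show V.hom.left.appTop ≫ (Pi.π (Zn U V n) k).left.left.appTop = _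
      rw [← Scheme.Hom.comp_appTop]
      congr 1
      have := Over.w (Pi.π (Zn U V n) k)
      exact congrArg (fun m => m.left) this)

lemma inc_θ (n : ℕ) (k : Fin (n + 1)) :
    inc (Rr U) (Aa U V) n k ≫ θ U V n = (Pi.π (Zn U V n) k).left.left.appTop :=
  WidePushout.ι_desc _ _ _ _ k

lemma hd_θ (n : ℕ) : hd (Rr U) (Aa U V) n ≫ θ U V n = (∏ᶜ Zn U V n).hom.left.appTop :=
  WidePushout.head_desc _ _ _ _

lemma θ_ψ (n : ℕ) : θ U V n ≫ ψ U V n = 𝟙 _ := by
  apply WidePushout.hom_ext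
  · intro k
    rw [← Category.assoc]
    erw [inc_θ U V n k]
    rw [π_ψ]
    exact (Category.comp_id _).symm
  · rw [← Category.assoc]
    erw [hd_θ U V n]
    rw [base_ψ]
    exact (Category.comp_id _).symm

lemma ψ_θ (n : ℕ) : ψ U V n ≫ θ U V n = 𝟙 _ := by
  obtain ⟨φ, -, hφ⟩ := existsUnique_ringHom U (Zn U V n) (Bn U V n)
    (fun k => (Pi.π (Zn U V n) k).left.left.appTop) (∏ᶜ Zn U V n).hom.left.appTop (fun k => by
      show V.hom.left.appTop ≫ (Pi.π (Zn U V n) k).left.left.appTop = _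
      rw [← Scheme.Hom.comp_appTop]
      congr 1
      have := Over.w (Pi.π (Zn U V n) k)
      exact congrArg (fun m => m.left) this)
  refine (hφ _ ⟨?_, fun k => ?_⟩).trans (hφ _ ⟨Category.comp_id _, fun k => Category.comp_id _⟩).symm
  · rw [← Category.assoc, base_ψ, hd_θ]
  · rw [← Category.assoc, π_ψ, inc_θ]

lemma ψ_bijective (n : ℕ) : Function.Bijective (ψ U V n).hom := by
  have h1 : ∀ x, (θ U V n).hom ((ψ U V n).hom x) = x := fun x =>
    congrArg (fun f => f.hom x) (ψ_θ U V n)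
  have h2 : ∀ y, (ψ U V n).hom ((θ U V n).hom y) = y := fun y =>
    congrArg (fun f => f.hom y) (θ_ψ U V n)
  exact ⟨Function.LeftInverse.injective h1, Function.RightInverse.surjective h2⟩

/-- the face maps of the Čech nerve -/
noncomputable def fm (n : ℕ) (j : Fin (n + 2)) : (∏ᶜ Zn U V (n + 1)) ⟶ ∏ᶜ Zn U V n :=
  Pi.lift (fun k => Pi.π (Zn U V (n + 1)) (j.succAbove k))

lemma fm_π (n : ℕ) (j : Fin (n + 2)) (k : Fin (n + 1)) :
    fm U V n j ≫ Pi.π (Zn U V n) k = Pi.π (Zn U V (n + 1)) (j.succAbove k) := by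
  simp [fm]

/-- compatibility of the comparison maps with the cofaces -/
lemma fm_ψ (n : ℕ) (j : Fin (n + 2)) :
    (fm U V n j).left.left.appTop ≫ ψ U V (n + 1) = ψ U V n ≫ (Groth.Agent.Lib.Amitsur66.X (Rr U) (Aa U V)).δ j := by
  obtain ⟨φ, -, hφ⟩ := existsUnique_ringHom U (Zn U V n) (W (Rr U) (Aa U V) (n + 1))
    (fun k => inc (Rr U) (Aa U V) (n + 1) (j.succAbove k)) (hd (Rr U) (Aa U V) (n + 1))
    (fun k => arrow_inc (Rr U) (Aa U V) (n + 1) (j.succAbove k))
  refine (hφ _ ⟨?_, fun k => ?_⟩).trans (hφ _ ⟨?_, fun k => ?_⟩).symm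
  · rw [← Category.assoc, ← Scheme.Hom.comp_appTop]
    have : (fm U V n j).left.left ≫ (∏ᶜ Zn U V n).hom.left = (∏ᶜ Zn U V (n + 1)).hom.left :=
      congrArg (fun m => m.left) (Over.w (fm U V n j))
    rw [this, base_ψ]
  · rw [← Category.assoc, ← Scheme.Hom.comp_appTop]
    have : (fm U V n j).left.left ≫ (Pi.π (Zn U V n) k).left.left =
        (Pi.π (Zn U V (n + 1)) (j.succAbove k)).left.left :=
      congrArg (fun m => m.left.left) (fm_π U V n j k)
    rw [this, π_ψ]
  · exact (Category.assoc _ _ _).symm.trans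
      ((congrArg (fun m => m ≫ (Groth.Agent.Lib.Amitsur66.X (Rr U) (Aa U V)).δ j)
        (base_ψ U V n)).trans (hd_δ (Rr U) (Aa U V) n j))
  · exact (Category.assoc _ _ _).symm.trans
      ((congrArg (fun m => m ≫ (Groth.Agent.Lib.Amitsur66.X (Rr U) (Aa U V)).δ j)
        (π_ψ U V n k)).trans (inc_δ (Rr U) (Aa U V) n j k))

end Groth.Agent.Lib.EtGaAmitsur65
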