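import Groth.Agent.Lib.EtAbStalk

/-!
# Germs of sections of abelian etale sheaves at geometric points (helper39)

For a geometric point `ξ : Spec Ω ⟶ X` and `U : X.Etale`, an *etale neighbourhood* of `ξ` with
underlying scheme `U` is an element of `Nbhd ξ U = (Scheme.pointSmallEtale ξ).fiber.obj U`, i.e. a
lift of `ξ` to `U`.  We provide

* `germ ξ F y : EtCoh.sect F U →+ (EtCoh.stalk ξ).obj F` for `y : Nbhd ξ U`;
* `germ_jointly_surjective`, `germ_res`, `germ_eq_iff`, `germ_eq_zero_iff`, `germ_naturality`;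
* the point `Nbhd.pt y : U.left` under a neighbourhood, `Nbhd.pt_map`, `Nbhd.hom_pt`;
* `exists_nbhd_of_pt` (every point of `U` over `ξ default` carries a neighbourhood),
  `exists_nbhd_lift` (neighbourhoods lift along morphisms of `X.Etale` to any preimage point),
  `exists_stdPt_nbhd`;
* `section_eq_zero_of_germs`, `section_ext_of_germs`: sections are determined by their germs at the
  standard geometric points.
-/

set_option autoImplicit false
universe u
open CategoryTheory CategoryTheory.Limits AlgebraicGeometry Opposite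

namespace Groth.Agent.Lib.EtGerm

open Groth.Agent.Lib.EtStalkConservative Groth.Agent.Lib.EtAbStalk

variable {X : Scheme.{u}} {Ω : Type u} [Field Ω] [IsSepClosed Ω] (ξ : Spec (CommRingCat.of Ω) ⟶ X)

/-- etale neighbourhoods of the geometric point `ξ` with underlying etale scheme `U` -/
noncomputable abbrev Nbhd (U : X.Etale) : Type u := (Scheme.pointSmallEtale ξ).fiber.obj U

/-- transport of neighbourhoods along morphisms of `X.Etale` -/
noncomputable abbrev Nbhd.map {U V : X.Etale} (g : V ⟶ U) (y : Nbhd ξ V) : Nbhd ξ U :=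
  (Scheme.pointSmallEtale ξ).fiber.map g y

/-- the germ at `(U, y)` of sections of `F` over `U` -/
noncomputable def germ (F : EtCoh.Ab X) {U : X.Etale} (y : Nbhd ξ U) :
    EtCoh.sect F U →+ (EtCoh.stalk ξ).obj F :=
  ((Scheme.pointSmallEtale ξ).toPresheafFiber U y F.obj).hom

lemma germ_apply (F : EtCoh.Ab X) {U : X.Etale} (y : Nbhd ξ U) (s : EtCoh.sect F U) :
    germ ξ F y s = (Scheme.pointSmallEtale ξ).toPresheafFiber U y F.obj s := rfl

lemma germ_jointly_surjective (F : EtCoh.Ab X) (p : (EtCoh.stalk ξ).obj F) :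
    ∃ (U : X.Etale) (y : Nbhd ξ U) (s : EtCoh.sect F U), germ ξ F y s = p :=
  (Scheme.pointSmallEtale ξ).toPresheafFiber_jointly_surjective (P := F.obj) p

lemma germ_res (F : EtCoh.Ab X) {U V : X.Etale} (g : V ⟶ U) (y : Nbhd ξ V) (s : EtCoh.sect F U) :
    germ ξ F y (F.obj.map g.op s) = germ ξ F (Nbhd.map ξ g y) s :=
  (Scheme.pointSmallEtale ξ).toPresheafFiber_w_apply g y F.obj s

lemma germ_eq_iff (F : EtCoh.Ab X) {U : X.Etale} (y : Nbhd ξ U) (s s' : EtCoh.sect F U) :
    germ ξ F y s = germ ξ F y s' ↔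
      ∃ (V : X.Etale) (g : V ⟶ U) (z : Nbhd ξ V), Nbhd.map ξ g z = y ∧
        F.obj.map g.op s = F.obj.map g.op s' :=
  (Scheme.pointSmallEtale ξ).toPresheafFiber_eq_iff' (P := F.obj) U y s s'

lemma germ_eq_zero_iff (F : EtCoh.Ab X) {U : X.Etale} (y : Nbhd ξ U) (s : EtCoh.sect F U) :
    germ ξ F y s = 0 ↔
      ∃ (V : X.Etale) (g : V ⟶ U) (z : Nbhd ξ V), Nbhd.map ξ g z = y ∧ F.obj.map g.op s = 0 := by
  rw [← map_zero (germ ξ F y), germ_eq_iff]
  constructor
  · rintro ⟨V, g, z, hz, h⟩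
    exact ⟨V, g, z, hz, by rw [h, map_zero]⟩
  · rintro ⟨V, g, z, hz, h⟩
    exact ⟨V, g, z, hz, by rw [h, map_zero]⟩

lemma germ_naturality {F G : EtCoh.Ab X} (v : F ⟶ G) {U : X.Etale} (y : Nbhd ξ U)
    (s : EtCoh.sect F U) :
    (EtCoh.stalk ξ).map v (germ ξ F y s) = germ ξ G y (v.hom.app (op U) s) :=
  (Scheme.pointSmallEtale ξ).toPresheafFiber_naturality_apply v.hom U y s

/-- two neighbourhoods have a common refinement -/
lemma exists_common_nbhd {U W : X.Etale} (y : Nbhd ξ U) (w : Nbhd ξ W) :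
    ∃ (V : X.Etale) (g : V ⟶ U) (h : V ⟶ W) (z : Nbhd ξ V),
      Nbhd.map ξ g z = y ∧ Nbhd.map ξ h z = w :=
  exists_common_refinement (Scheme.pointSmallEtale ξ) U W y w

/-- the point of `U` under an etale neighbourhood -/
noncomputable def Nbhd.pt {U : X.Etale} (y : Nbhd ξ U) : U.left :=
  (CommaMorphism.left y : Spec (CommRingCat.of Ω) ⟶ U.left) (default : Spec (CommRingCat.of Ω))

lemma Nbhd.pt_map {U V : X.Etale} (g : V ⟶ U) (y : Nbhd ξ V) :
    Nbhd.pt ξ (Nbhd.map ξ g y) = g.left (Nbhd.pt ξ y) := rfl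

lemma Nbhd.hom_pt {U : X.Etale} (y : Nbhd ξ U) : U.hom (Nbhd.pt ξ y) = ξ default := by
  have h : (CommaMorphism.left y : Spec (CommRingCat.of Ω) ⟶ U.left) ≫ U.hom = ξ := Over.w y
  exact congrArg (fun f : Spec (CommRingCat.of Ω) ⟶ X => f (default : Spec (CommRingCat.of Ω))) h


lemma exists_nbhd_of_pt (U : X.Etale) (x : U.left) (h : U.hom x = ξ default) :
    ∃ y : Nbhd ξ U, Nbhd.pt ξ y = x := by
  obtain ⟨y, hy⟩ := Scheme.pointSmallEtaleFiberObjToPreimage_surjective ξ rfl U ⟨x, h⟩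
  exact ⟨y, congrArg Subtype.val hy⟩

instance etale_left {U V : X.Etale} (g : V ⟶ U) : Etale g.left := by
  have h1 : Etale V.hom := V.prop
  have h2 : Etale U.hom := U.prop
  have : g.left ≫ U.hom = V.hom := Over.w g.hom
  exact MorphismProperty.of_postcomp (W := @Etale) (W' := @Etale) g.left U.hom h2 (this ▸ h1)

lemma exists_nbhd_lift {U V : X.Etale} (g : V ⟶ U) (y : Nbhd ξ U) (v : V.left)
    (hv : g.left v = Nbhd.pt ξ y) :
    ∃ z : Nbhd ξ V, Nbhd.map ξ g z = y ∧ Nbhd.pt ξ z = v := by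
  obtain ⟨l, hl1, hl2⟩ := Scheme.exists_fac_of_etale_of_isSepClosed g.left
    (CommaMorphism.left y : Spec (CommRingCat.of Ω) ⟶ U.left) v hv
  have hy : (CommaMorphism.left y : Spec (CommRingCat.of Ω) ⟶ U.left) ≫ U.hom = ξ := Over.w y
  have hg : g.left ≫ U.hom = V.hom := Over.w g.hom
  refine ⟨Over.homMk l ?_, ?_, hl2⟩
  · show l ≫ V.hom = ξ
    calc l ≫ V.hom = l ≫ g.left ≫ U.hom := by rw [hg]
      _ = (l ≫ g.left) ≫ U.hom := (Category.assoc _ _ _).symm
      _ = ξ := (congrArg (· ≫ U.hom) hl1).trans hy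
  · apply Over.OverMorphism.ext
    exact hl1


lemma stdPt_default (x : X) : stdPt x default = x := by
  simp [stdPt, Scheme.SpecToEquivOfField]

omit [IsSepClosed Ω] in
lemma range_eq_singleton : Set.range ξ = {ξ default} := by
  ext y
  constructor
  · rintro ⟨a, rfl⟩
    rw [Subsingleton.elim a default]
    rfl
  · rintro rfl
    exact ⟨default, rfl⟩

lemma range_stdPt (x : X) : Set.range (stdPt x) = {x} := by
  rw [range_eq_singleton, stdPt_default]

/-- every point of an etale `X`-scheme carries a neighbourhood of the standard geometric point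
below it -/
lemma exists_stdPt_nbhd (U : X.Etale) (x : U.left) :
    ∃ y : Nbhd (stdPt (U.hom x)) U, Nbhd.pt (stdPt (U.hom x)) y = x :=
  exists_nbhd_of_pt _ U x (stdPt_default _).symm

lemma section_ext_of_germs (F : EtCoh.Ab X) {U : X.Etale} (s s' : EtCoh.sect F U)
    (h : ∀ (x : X) (y : Nbhd (stdPt x) U), germ (stdPt x) F y s = germ (stdPt x) F y s') :
    s = s' := by
  refine (Sheaf.isSeparated F) U (Sieve.mk (fun V (g : V ⟶ U) => F.obj.map g.op s = F.obj.map g.op s') ?_) ?_ s s' ?_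
  · intro V W g hg k
    show F.obj.map (k ≫ g).op s = F.obj.map (k ≫ g).op s'
    rw [op_comp, Functor.map_comp]
    exact congrArg (F.obj.map k.op) hg
  · apply sieve_mem_of_forall_stdPt
    intro x y
    obtain ⟨V, g, z, hz, hg⟩ := (germ_eq_iff (stdPt x) F y s s').1 (h x y)
    exact ⟨V, g, hg, z, hz⟩
  · intro V g hg
    exact hg

lemma section_eq_zero_of_germs (F : EtCoh.Ab X) {U : X.Etale} (s : EtCoh.sect F U)
    (h : ∀ (x : X) (y : Nbhd (stdPt x) U), germ (stdPt x) F y s = 0) : s = 0 :=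
  section_ext_of_germs F s 0 (fun x y => by rw [h x y, map_zero])

end Groth.Agent.Lib.EtGerm
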