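import Groth.Agent.Lib.EtGlueSurj
import Mathlib.RingTheory.RingHom.FiniteType
import Mathlib.RingTheory.RingHom.Finite
import Mathlib.RingTheory.Localization.Finiteness
import Mathlib.RingTheory.Finiteness.FiniteTypeLocal
import Mathlib.LinearAlgebra.TensorProduct.Finiteness

set_option autoImplicit false
set_option linter.style.haveILetI false
universe u
open TensorProduct

namespace Groth.Agent.Lib.EtGlueFinite

variable {R : Type u} [CommRing R] {R' : Type u} [CommRing R'] [Algebra R R'] {f : R}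

/-- a submodule whose quotient is `f`-power torsion and dies after `R' ⊗ -` is everything -/
theorem eq_top_of_torsion_of_tensor (hq : EtGlue.QuotPowBijective R R' f)
    {B : Type u} [AddCommGroup B] [Module R B] (K : Submodule R B)
    (h1 : ∀ b : B, ∃ n : ℕ, f ^ n • b ∈ K)
    (h2 : ∀ b : B, (1 : R') ⊗ₜ[R] (K.mkQ b) = 0) : K = ⊤ := by
  rw [eq_top_iff]
  rintro b -
  have hQ : ∀ x : B ⧸ K, ∃ n : ℕ, f ^ n • x = 0 := by
    intro x
    obtain ⟨b, rfl⟩ := K.mkQ_surjective x
    obtain ⟨n, hn⟩ := h1 b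
    refine ⟨n, ?_⟩
    rw [← map_smul, Submodule.mkQ_apply, Submodule.Quotient.mk_eq_zero]
    exact hn
  have := Groth.Agent.Lib.EtGlueQuot.eq_zero_of_one_tmul_eq_zero hq (B ⧸ K) hQ (K.mkQ b) (h2 b)
  rwa [Submodule.mkQ_apply, Submodule.Quotient.mk_eq_zero] at this

variable {A B : Type u} [CommRing A] [Algebra R A] [CommRing B] [Algebra R B]

/-- the localization part: if `A_f → B_f` is of finite type, there is a finite subset of `B` such that
every element of `B` is carried into the `A`-subalgebra it generates by a power of `f`. -/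
theorem exists_finset_pow_smul_mem_adjoin (φ : A →ₐ[R] B)
    (h1 : (Localization.awayMap φ.toRingHom (algebraMap R A f)).FiniteType) :
    letI : Algebra A B := φ.toRingHom.toAlgebra
    ∃ s : Finset B, ∀ b : B, ∃ n : ℕ, f ^ n • b ∈ Algebra.adjoin A (s : Set B) := by
  classical
  letI : Algebra A B := φ.toRingHom.toAlgebra
  haveI : IsScalarTower R A B := IsScalarTower.of_algebraMap_eq fun r => (φ.commutes r).symm
  set fA : A := algebraMap R A f with hfA
  let Af := Localization.Away fA
  let Bf := Localization.Away (φ.toRingHom fA)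
  let g : Af →+* Bf := Localization.awayMap φ.toRingHom fA
  letI : Algebra Af Bf := g.toAlgebra
  haveI : IsScalarTower A Af Bf := IsScalarTower.of_algebraMap_eq fun a => by
    rw [RingHom.algebraMap_toAlgebra]
    change _ = Localization.awayMap φ.toRingHom fA (algebraMap A Af a)
    rw [IsScalarTower.algebraMap_apply A B Bf]
    exact (IsLocalization.map_eq (S := Localization.Away fA) _ a).symm
  haveI : IsLocalization ((Submonoid.powers fA).map (algebraMap A B)) Bf := by
    rw [Submonoid.map_powers]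
    exact Localization.isLocalization
  obtain ⟨s, hs⟩ := (h1 : Algebra.FiniteType Af Bf).out
  refine ⟨IsLocalization.finsetIntegerMultiple ((Submonoid.powers fA).map (algebraMap A B)) s,
    fun b => ?_⟩
  have hb : algebraMap B Bf b ∈ Algebra.adjoin Af (s : Set Bf) := by rw [hs]; trivial
  obtain ⟨⟨_, k, rfl⟩, ht⟩ := multiple_mem_adjoin_of_mem_localization_adjoin
    (Submonoid.powers fA) Af (s : Set Bf) _ hb
  have ht' : algebraMap B Bf (fA ^ k • b) ∈ Algebra.adjoin A (s : Set Bf) := by
    rw [Submonoid.smul_def] at ht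
    convert ht using 1
    rw [Algebra.smul_def, Algebra.smul_def, map_mul, ← IsScalarTower.algebraMap_apply]
  obtain ⟨⟨_, m, rfl⟩, hm⟩ := IsLocalization.lift_mem_adjoin_finsetIntegerMultiple
    (Submonoid.powers fA) (fA ^ k • b) s ht'
  refine ⟨m + k, ?_⟩
  rw [Submonoid.smul_def, ← mul_smul, ← pow_add] at hm
  convert hm using 1
  rw [hfA, ← map_pow, algebraMap_smul]

/-- the tensor part: if `R' ⊗ A → R' ⊗ B` is of finite type, there is a finite subset `s` of `B`
such that for every `A`-subalgebra `N ⊇ s`, `R' ⊗ (B/N) = 0`. -/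
theorem exists_finset_one_tmul_mkQ_eq_zero (φ : A →ₐ[R] B)
    (h2 : (Algebra.TensorProduct.map (AlgHom.id R R') φ).toRingHom.FiniteType) :
    letI : Algebra A B := φ.toRingHom.toAlgebra
    ∃ s : Finset B, ∀ (N : Subalgebra A B), (s : Set B) ⊆ N → ∀ b : B,
      (1 : R') ⊗ₜ[R] (((Subalgebra.toSubmodule N).restrictScalars R).mkQ b) = 0 := by
  classical
  letI : Algebra A B := φ.toRingHom.toAlgebra
  haveI : IsScalarTower R A B := IsScalarTower.of_algebraMap_eq fun r => (φ.commutes r).symm
  let τ : R' ⊗[R] A →+* R' ⊗[R] B := (Algebra.TensorProduct.map (AlgHom.id R R') φ).toRingHom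
  letI : Algebra (R' ⊗[R] A) (R' ⊗[R] B) := τ.toAlgebra
  obtain ⟨s2, hs2⟩ := (h2 : Algebra.FiniteType (R' ⊗[R] A) (R' ⊗[R] B)).out
  choose S hS using fun y : R' ⊗[R] B => TensorProduct.exists_finset y
  refine ⟨s2.biUnion fun y => (S y).image Prod.snd, fun N hN b => ?_⟩
  let ψ : R' ⊗[R] N →ₐ[R] R' ⊗[R] B :=
    Algebra.TensorProduct.map (AlgHom.id R R') (N.val.restrictScalars R)
  have hψ : ∀ (r : R') (n : N), ψ (r ⊗ₜ n) = r ⊗ₜ (n : B) := fun r n => by
    simp [ψ]
    rfl
  let P : Subalgebra (R' ⊗[R] A) (R' ⊗[R] B) :=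
    { ψ.range.toSubsemiring with
      algebraMap_mem' := fun x => by
        change τ x ∈ ψ.range
        induction x using TensorProduct.induction_on with
        | zero => rw [map_zero]; exact zero_mem _
        | tmul r a =>
          refine ⟨r ⊗ₜ ⟨algebraMap A B a, N.algebraMap_mem a⟩, ?_⟩
          change ψ _ = _
          rw [hψ]
          simp [τ]
          rfl
        | add x y hx hy => rw [map_add]; exact add_mem hx hy }
  have hP : ∀ z, z ∈ P ↔ z ∈ ψ.range := fun z => Iff.rfl
  have hs2P : (s2 : Set (R' ⊗[R] B)) ⊆ P := by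
    intro y hy
    rw [SetLike.mem_coe, hP, hS y]
    refine Subalgebra.sum_mem _ fun i hi => ?_
    have hiN : i.2 ∈ N := hN (by
      rw [Finset.coe_biUnion]
      exact Set.mem_biUnion hy (by simpa using ⟨i.1, hi⟩))
    exact ⟨i.1 ⊗ₜ ⟨i.2, hiN⟩, hψ _ _⟩
  have hall : (1 : R') ⊗ₜ[R] b ∈ P := by
    have : Algebra.adjoin (R' ⊗[R] A) (s2 : Set (R' ⊗[R] B)) ≤ P := Algebra.adjoin_le hs2P
    rw [hs2] at this
    exact this trivial
  obtain ⟨w, hw⟩ := (hP _).mp hall
  set K : Submodule R B := (Subalgebra.toSubmodule N).restrictScalars R with hK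
  have e : (1 : R') ⊗ₜ[R] (K.mkQ b) = K.mkQ.lTensor R' ((1 : R') ⊗ₜ[R] b) := by
    rw [LinearMap.lTensor_tmul]
  rw [e, ← hw]
  have hzero : ∀ w : R' ⊗[R] N, K.mkQ.lTensor R' (ψ w) = 0 := by
    intro w
    induction w using TensorProduct.induction_on with
    | zero => simp
    | tmul r n =>
      rw [hψ, LinearMap.lTensor_tmul, Submodule.mkQ_apply,
        (Submodule.Quotient.mk_eq_zero K (x := (n : B))).mpr n.2, TensorProduct.tmul_zero]
    | add x y hx hy => rw [map_add, map_add, hx, hy, add_zero]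
  exact hzero w

/-- Beauville–Laszlo: finite type is detected on `R_f` and `R'`. -/
theorem finiteType_of_awayMap_of_tensorMap (hq : EtGlue.QuotPowBijective R R' f)
    (φ : A →ₐ[R] B)
    (h1 : (Localization.awayMap φ.toRingHom (algebraMap R A f)).FiniteType)
    (h2 : (Algebra.TensorProduct.map (AlgHom.id R R') φ).toRingHom.FiniteType) :
    φ.toRingHom.FiniteType := by
  classical
  letI : Algebra A B := φ.toRingHom.toAlgebra
  haveI : IsScalarTower R A B := IsScalarTower.of_algebraMap_eq fun r => (φ.commutes r).symm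
  obtain ⟨s1, hs1⟩ := exists_finset_pow_smul_mem_adjoin φ h1
  obtain ⟨s2, hs2⟩ := exists_finset_one_tmul_mkQ_eq_zero (R' := R') φ h2
  let N : Subalgebra A B := Algebra.adjoin A ((s1 ∪ s2 : Finset B) : Set B)
  have h : (Subalgebra.toSubmodule N).restrictScalars R = ⊤ :=
    eq_top_of_torsion_of_tensor hq _
      (fun b => by
        obtain ⟨n, hn⟩ := hs1 b
        exact ⟨n, Algebra.adjoin_mono (by simp) hn⟩)
      (hs2 N (by
        refine subset_trans ?_ Algebra.subset_adjoin
        simp))
  have hN : N = ⊤ := by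
    rw [eq_top_iff]
    intro b _
    have : b ∈ (Subalgebra.toSubmodule N).restrictScalars R := by rw [h]; trivial
    exact this
  exact ⟨⟨s1 ∪ s2, hN⟩⟩

/-- finite type passes to `R' ⊗ -` -/
theorem tensorMap_finiteType (φ : A →ₐ[R] B) (h : φ.toRingHom.FiniteType) :
    (Algebra.TensorProduct.map (AlgHom.id R R') φ).toRingHom.FiniteType := by
  classical
  letI : Algebra A B := φ.toRingHom.toAlgebra
  let τ : R' ⊗[R] A →+* R' ⊗[R] B := (Algebra.TensorProduct.map (AlgHom.id R R') φ).toRingHom
  letI : Algebra (R' ⊗[R] A) (R' ⊗[R] B) := τ.toAlgebra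
  obtain ⟨s, hs⟩ := (h : Algebra.FiniteType A B).out
  refine ⟨⟨s.image (fun b => (1 : R') ⊗ₜ[R] b), ?_⟩⟩
  set P := Algebra.adjoin (R' ⊗[R] A)
    ((s.image (fun b => (1 : R') ⊗ₜ[R] b) : Finset _) : Set (R' ⊗[R] B)) with hP
  have h1 : ∀ b : B, (1 : R') ⊗ₜ[R] b ∈ P := by
    intro b
    have hb : b ∈ Algebra.adjoin A (s : Set B) := by rw [hs]; trivial
    induction hb using Algebra.adjoin_induction with
    | mem x hx =>
      refine Algebra.subset_adjoin ?_
      rw [Finset.coe_image]
      exact ⟨x, hx, rfl⟩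
    | algebraMap a =>
      have : (1 : R') ⊗ₜ[R] (algebraMap A B a) =
          algebraMap (R' ⊗[R] A) (R' ⊗[R] B) (1 ⊗ₜ a) := by
        rw [RingHom.algebraMap_toAlgebra]
        simp [τ]
        rfl
      rw [this]
      exact Subalgebra.algebraMap_mem _ _
    | add x y _ _ hx hy => rw [TensorProduct.tmul_add]; exact add_mem hx hy
    | mul x y _ _ hx hy =>
      have : (1 : R') ⊗ₜ[R] (x * y) = (1 ⊗ₜ x) * (1 ⊗ₜ y) := by simp
      rw [this]
      exact mul_mem hx hy
  rw [eq_top_iff]
  rintro z -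
  induction z using TensorProduct.induction_on with
  | zero => exact zero_mem _
  | tmul r b =>
    have : r ⊗ₜ[R] b = algebraMap (R' ⊗[R] A) (R' ⊗[R] B) (r ⊗ₜ 1) * (1 ⊗ₜ b) := by
      rw [RingHom.algebraMap_toAlgebra]
      simp [τ]
    rw [this]
    exact mul_mem (Subalgebra.algebraMap_mem _ _) (h1 b)
  | add x y hx hy => exact add_mem hx hy

/-- Beauville–Laszlo for finite type, as an iff. -/
theorem finiteType_iff (hq : EtGlue.QuotPowBijective R R' f) (φ : A →ₐ[R] B) :
    φ.toRingHom.FiniteType ↔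
      (Localization.awayMap φ.toRingHom (algebraMap R A f)).FiniteType ∧
      (Algebra.TensorProduct.map (AlgHom.id R R') φ).toRingHom.FiniteType :=
  ⟨fun h => ⟨RingHom.localization_away_map_finiteType A B _ _ φ.toRingHom _ h,
    tensorMap_finiteType φ h⟩,
    fun h => finiteType_of_awayMap_of_tensorMap hq φ h.1 h.2⟩

end Groth.Agent.Lib.EtGlueFinite
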