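import Groth.Agent.Lib.EtGlueFinite

set_option autoImplicit false
set_option linter.style.haveILetI false
universe u
open TensorProduct

namespace Groth.Agent.Lib.EtGlueFiniteMod

open Groth.Agent.Lib.EtGlueFinite

variable {R : Type u} [CommRing R] {R' : Type u} [CommRing R'] [Algebra R R'] {f : R}
variable {A B : Type u} [CommRing A] [Algebra R A] [CommRing B] [Algebra R B]

/-- the localization part: if `A_f → B_f` is finite, there is a finite subset of `B` such that
every element of `B` is carried into its `A`-span by a power of `f`. -/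
theorem exists_finset_pow_smul_mem_span (φ : A →ₐ[R] B)
    (h1 : (Localization.awayMap φ.toRingHom (algebraMap R A f)).Finite) :
    letI : Algebra A B := φ.toRingHom.toAlgebra
    ∃ s : Finset B, ∀ b : B, ∃ n : ℕ, f ^ n • b ∈ Submodule.span A (s : Set B) := by
  classical
  letI : Algebra A B := φ.toRingHom.toAlgebra
  haveI : IsScalarTower R A B := IsScalarTower.of_algebraMap_eq fun r => (φ.commutes r).symm
  set fA : A := algebraMap R A f with hfA
  let Af := Localization.Away fA
  let Bf := Localization.Away (φ.toRingHom fA)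
  let g : Af →+* Bf := Localization.awayMap φ.toRingHom fA
  letI : Algebra Af Bf := g.toAlgebra
  haveI : IsScalarTower A Af Bf := IsScalarTower.of_algebraMap_eq fun a => by
    rw [RingHom.algebraMap_toAlgebra]
    change _ = Localization.awayMap φ.toRingHom fA (algebraMap A Af a)
    rw [IsScalarTower.algebraMap_apply A B Bf]
    exact (IsLocalization.map_eq (S := Localization.Away fA) _ a).symm
  haveI : IsLocalization ((Submonoid.powers fA).map (algebraMap A B)) Bf := by
    rw [Submonoid.map_powers]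
    exact Localization.isLocalization
  obtain ⟨s, hs⟩ := (h1 : Module.Finite Af Bf).fg_top
  refine ⟨IsLocalization.finsetIntegerMultiple ((Submonoid.powers fA).map (algebraMap A B)) s,
    fun b => ?_⟩
  have hb : algebraMap B Bf b ∈ Submodule.span Af (s : Set Bf) := by rw [hs]; trivial
  obtain ⟨⟨_, k, rfl⟩, ht⟩ := multiple_mem_span_of_mem_localization_span
    (Submonoid.powers fA) Af (s : Set Bf) _ hb
  have ht' : algebraMap B Bf (fA ^ k • b) ∈ Submodule.span A (s : Set Bf) := by
    rw [Submonoid.smul_def] at ht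
    convert ht using 1
    rw [Algebra.smul_def, Algebra.smul_def, map_mul, ← IsScalarTower.algebraMap_apply]
  obtain ⟨⟨_, m, rfl⟩, hm⟩ := IsLocalization.smul_mem_finsetIntegerMultiple_span
    (Submonoid.powers fA) Bf (fA ^ k • b) s ht'
  refine ⟨m + k, ?_⟩
  rw [Submonoid.smul_def, ← mul_smul, ← pow_add] at hm
  convert hm using 1
  rw [hfA, ← map_pow, algebraMap_smul]

/-- the image of `R' ⊗ N → R' ⊗ B` is stable under multiplication by `R' ⊗ A`, for an
`A`-submodule `N` of `B`. -/
theorem mul_mem_range_lTensor (φ : A →ₐ[R] B) :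
    letI : Algebra A B := φ.toRingHom.toAlgebra
    ∀ (N : Submodule A B) (x : R' ⊗[R] A) (w : R' ⊗[R] (N.restrictScalars R)),
      Algebra.TensorProduct.map (AlgHom.id R R') φ x *
        ((N.restrictScalars R).subtype.lTensor R' w) ∈
        LinearMap.range ((N.restrictScalars R).subtype.lTensor R') := by
  letI : Algebra A B := φ.toRingHom.toAlgebra
  intro N x w
  induction x using TensorProduct.induction_on with
  | zero => rw [map_zero, zero_mul]; exact zero_mem _
  | add x y hx hy => rw [map_add, add_mul]; exact add_mem hx hy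
  | tmul r a =>
    induction w using TensorProduct.induction_on with
    | zero => rw [map_zero, mul_zero]; exact zero_mem _
    | add x y hx hy => rw [map_add, mul_add]; exact add_mem hx hy
    | tmul r' n =>
      refine ⟨(r * r') ⊗ₜ ⟨a • (n : B), N.smul_mem a n.2⟩, ?_⟩
      rw [LinearMap.lTensor_tmul, LinearMap.lTensor_tmul, Algebra.TensorProduct.map_tmul,
        Algebra.TensorProduct.tmul_mul_tmul]
      rfl

/-- the tensor part: if `R' ⊗ A → R' ⊗ B` is finite, there is a finite subset `s` of `B`
such that for every `A`-submodule `N ⊇ s`, `R' ⊗ (B/N) = 0`. -/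
theorem exists_finset_one_tmul_mkQ_eq_zero (φ : A →ₐ[R] B)
    (h2 : (Algebra.TensorProduct.map (AlgHom.id R R') φ).toRingHom.Finite) :
    letI : Algebra A B := φ.toRingHom.toAlgebra
    ∃ s : Finset B, ∀ (N : Submodule A B), (s : Set B) ⊆ N → ∀ b : B,
      (1 : R') ⊗ₜ[R] ((N.restrictScalars R).mkQ b) = 0 := by
  classical
  letI : Algebra A B := φ.toRingHom.toAlgebra
  haveI : IsScalarTower R A B := IsScalarTower.of_algebraMap_eq fun r => (φ.commutes r).symm
  let τ : R' ⊗[R] A →+* R' ⊗[R] B := (Algebra.TensorProduct.map (AlgHom.id R R') φ).toRingHom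
  letI : Algebra (R' ⊗[R] A) (R' ⊗[R] B) := τ.toAlgebra
  obtain ⟨s2, hs2⟩ := (h2 : Module.Finite (R' ⊗[R] A) (R' ⊗[R] B)).fg_top
  choose S hS using fun y : R' ⊗[R] B => TensorProduct.exists_finset y
  refine ⟨s2.biUnion fun y => (S y).image Prod.snd, fun N hN b => ?_⟩
  set K : Submodule R B := N.restrictScalars R with hK
  let ψ : R' ⊗[R] K →ₗ[R] R' ⊗[R] B := K.subtype.lTensor R'
  have hall : ∀ z : R' ⊗[R] B, z ∈ LinearMap.range ψ := by
    intro z
    have hz : z ∈ Submodule.span (R' ⊗[R] A) (s2 : Set (R' ⊗[R] B)) := by rw [hs2]; trivial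
    induction hz using Submodule.span_induction with
    | mem y hy =>
      rw [hS y]
      refine Submodule.sum_mem _ fun i hi => ?_
      have hiN : i.2 ∈ N := hN (by
        rw [Finset.coe_biUnion]
        exact Set.mem_biUnion hy (by simpa using ⟨i.1, hi⟩))
      exact ⟨i.1 ⊗ₜ ⟨i.2, hiN⟩, by rw [LinearMap.lTensor_tmul]; rfl⟩
    | zero => exact zero_mem _
    | add x y _ _ hx hy => exact add_mem hx hy
    | smul x z _ hz =>
      obtain ⟨w, rfl⟩ := hz
      exact mul_mem_range_lTensor φ N x w
  obtain ⟨w, hw⟩ := hall ((1 : R') ⊗ₜ[R] b)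
  have e : (1 : R') ⊗ₜ[R] (K.mkQ b) = K.mkQ.lTensor R' ((1 : R') ⊗ₜ[R] b) := by
    rw [LinearMap.lTensor_tmul]
  rw [e, ← hw]
  have hzero : ∀ w : R' ⊗[R] K, K.mkQ.lTensor R' (ψ w) = 0 := by
    intro w
    induction w using TensorProduct.induction_on with
    | zero => simp
    | tmul r n =>
      rw [LinearMap.lTensor_tmul, LinearMap.lTensor_tmul, Submodule.subtype_apply,
        Submodule.mkQ_apply,
        (Submodule.Quotient.mk_eq_zero K (x := (n : B))).mpr n.2, TensorProduct.tmul_zero]
    | add x y hx hy => rw [map_add, map_add, hx, hy, add_zero]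
  exact hzero w

/-- Beauville–Laszlo: finiteness is detected on `R_f` and `R'`. -/
theorem finite_of_awayMap_of_tensorMap (hq : EtGlue.QuotPowBijective R R' f)
    (φ : A →ₐ[R] B)
    (h1 : (Localization.awayMap φ.toRingHom (algebraMap R A f)).Finite)
    (h2 : (Algebra.TensorProduct.map (AlgHom.id R R') φ).toRingHom.Finite) :
    φ.toRingHom.Finite := by
  classical
  letI : Algebra A B := φ.toRingHom.toAlgebra
  haveI : IsScalarTower R A B := IsScalarTower.of_algebraMap_eq fun r => (φ.commutes r).symm
  obtain ⟨s1, hs1⟩ := exists_finset_pow_smul_mem_span φ h1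
  obtain ⟨s2, hs2⟩ := exists_finset_one_tmul_mkQ_eq_zero (R' := R') φ h2
  let N : Submodule A B := Submodule.span A ((s1 ∪ s2 : Finset B) : Set B)
  have h : N.restrictScalars R = ⊤ :=
    eq_top_of_torsion_of_tensor hq _
      (fun b => by
        obtain ⟨n, hn⟩ := hs1 b
        exact ⟨n, Submodule.span_mono (by simp) hn⟩)
      (hs2 N (by
        refine subset_trans ?_ Submodule.subset_span
        simp))
  have hN : N = ⊤ := by
    rw [eq_top_iff]
    intro b _
    have : b ∈ N.restrictScalars R := by rw [h]; trivial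
    exact this
  exact ⟨⟨s1 ∪ s2, hN⟩⟩

/-- finiteness passes to `R' ⊗ -` -/
theorem tensorMap_finite (φ : A →ₐ[R] B) (h : φ.toRingHom.Finite) :
    (Algebra.TensorProduct.map (AlgHom.id R R') φ).toRingHom.Finite := by
  classical
  letI : Algebra A B := φ.toRingHom.toAlgebra
  let τ : R' ⊗[R] A →+* R' ⊗[R] B := (Algebra.TensorProduct.map (AlgHom.id R R') φ).toRingHom
  letI : Algebra (R' ⊗[R] A) (R' ⊗[R] B) := τ.toAlgebra
  obtain ⟨s, hs⟩ := (h : Module.Finite A B).fg_top
  refine ⟨⟨s.image (fun b => (1 : R') ⊗ₜ[R] b), ?_⟩⟩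
  set P := Submodule.span (R' ⊗[R] A)
    ((s.image (fun b => (1 : R') ⊗ₜ[R] b) : Finset _) : Set (R' ⊗[R] B)) with hP
  have h1 : ∀ (r : R') (b : B), r ⊗ₜ[R] b ∈ P := by
    intro r b
    have hb : b ∈ Submodule.span A (s : Set B) := by rw [hs]; trivial
    induction hb using Submodule.span_induction generalizing r with
    | mem x hx =>
      have : r ⊗ₜ[R] x = (r ⊗ₜ[R] (1 : A)) • ((1 : R') ⊗ₜ[R] x) := by
        change _ = τ (r ⊗ₜ[R] (1 : A)) * ((1 : R') ⊗ₜ[R] x)
        simp [τ]
      rw [this]
      refine Submodule.smul_mem _ _ (Submodule.subset_span ?_)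
      rw [Finset.coe_image]
      exact ⟨x, hx, rfl⟩
    | zero => rw [TensorProduct.tmul_zero]; exact zero_mem _
    | add x y _ _ hx hy => rw [TensorProduct.tmul_add]; exact add_mem (hx r) (hy r)
    | smul a x _ hx =>
      have : r ⊗ₜ[R] (a • x) = ((1 : R') ⊗ₜ[R] a) • (r ⊗ₜ[R] x) := by
        change _ = τ ((1 : R') ⊗ₜ[R] a) * (r ⊗ₜ[R] x)
        simp [τ, Algebra.smul_def]
        rfl
      rw [this]
      exact Submodule.smul_mem _ _ (hx r)
  rw [eq_top_iff]
  rintro z -
  induction z using TensorProduct.induction_on with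
  | zero => exact zero_mem _
  | tmul r b => exact h1 r b
  | add x y hx hy => exact add_mem hx hy

/-- Beauville–Laszlo for finite morphisms, as an iff. -/
theorem finite_iff (hq : EtGlue.QuotPowBijective R R' f) (φ : A →ₐ[R] B) :
    φ.toRingHom.Finite ↔
      (Localization.awayMap φ.toRingHom (algebraMap R A f)).Finite ∧
      (Algebra.TensorProduct.map (AlgHom.id R R') φ).toRingHom.Finite :=
  ⟨fun h => ⟨RingHom.localization_away_map_finite A B _ _ φ.toRingHom _ h,
    tensorMap_finite φ h⟩,
    fun h => finite_of_awayMap_of_tensorMap hq φ h.1 h.2⟩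

end Groth.Agent.Lib.EtGlueFiniteMod
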