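import Groth.Prelude.Def_EtGlue
import Mathlib.Algebra.Colimit.TensorProduct
import Mathlib.Algebra.Module.Torsion.Basic
import Mathlib.Tactic.LinearCombination
import Mathlib.Tactic.Ring

/-!
Helper lemmas for `EtGlue.QuotPowBijective R R' f` (R/f^n ≅ R'/f^n R' for all n > 0):
elementwise forms, and the fact that for an `f`-power torsion module `Q` the map
`Q → R' ⊗ Q` is injective (indeed bijective).
-/

set_option autoImplicit false
universe u
open TensorProduct

namespace Groth.Agent.Lib.EtGlueQuot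

variable {R R' : Type u} [CommRing R] [CommRing R'] [Algebra R R'] {f : R}

/-- injectivity part of the bijectivity on quotients, elementwise -/
lemma quot_inj (hq : EtGlue.QuotPowBijective R R' f) (n : ℕ) (hn : 0 < n) (a : R) (c : R')
    (h : algebraMap R R' a = c * algebraMap R R' f ^ n) : ∃ r : R, a = r * f ^ n := by
  have hmem : algebraMap R R' a ∈ Ideal.map (algebraMap R R') (Ideal.span {f ^ n}) := by
    rw [Ideal.map_span, Set.image_singleton, map_pow, h]
    exact Ideal.mem_span_singleton'.mpr ⟨c, rfl⟩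
  have h0 : Ideal.quotientMap (Ideal.map (algebraMap R R') (Ideal.span {f ^ n})) (algebraMap R R')
      Ideal.le_comap_map (Ideal.Quotient.mk _ a) = 0 := by
    rw [Ideal.quotientMap_mk]
    exact Ideal.Quotient.eq_zero_iff_mem.mpr hmem
  have := (hq n hn).1 (h0.trans (map_zero _).symm)
  obtain ⟨r, hr⟩ := Ideal.mem_span_singleton'.mp (Ideal.Quotient.eq_zero_iff_mem.mp this)
  exact ⟨r, hr.symm⟩

/-- surjectivity part of the bijectivity on quotients, elementwise -/
lemma quot_surj (hq : EtGlue.QuotPowBijective R R' f) (n : ℕ) (hn : 0 < n) (x' : R') :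
    ∃ (a : R) (c : R'), x' = algebraMap R R' a + c * algebraMap R R' f ^ n := by
  obtain ⟨a', ha'⟩ := (hq n hn).2 (Ideal.Quotient.mk _ x')
  obtain ⟨a, rfl⟩ := Ideal.Quotient.mk_surjective a'
  rw [Ideal.quotientMap_mk, Ideal.Quotient.eq, Ideal.map_span, Set.image_singleton, map_pow] at ha'
  obtain ⟨c, hc⟩ := Ideal.mem_span_singleton'.mp ha'
  refine ⟨a, -c, ?_⟩
  rw [neg_mul, hc]
  ring

/-- For a module killed by `f ^ n`, the map `x ↦ 1 ⊗ x` into `R' ⊗ N` has an `R`-linear retraction. -/
theorem exists_retraction (hq : EtGlue.QuotPowBijective R R' f) (n : ℕ) (hn : 0 < n)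
    (N : Type u) [AddCommGroup N] [Module R N] (hN : ∀ x : N, f ^ n • x = 0) :
    ∃ ρ : R' ⊗[R] N →ₗ[R] N, ∀ x, ρ ((1 : R') ⊗ₜ[R] x) = x := by
  let I : Ideal R := Ideal.span {f ^ n}
  let J : Ideal R' := I.map (algebraMap R R')
  let e : R ⧸ I ≃+* R' ⧸ J :=
    RingEquiv.ofBijective (Ideal.quotientMap J (algebraMap R R') Ideal.le_comap_map) (hq n hn)
  have he : ∀ r : R, e (Ideal.Quotient.mk I r) = Ideal.Quotient.mk J (algebraMap R R' r) := by
    intro r
    change Ideal.quotientMap J (algebraMap R R') Ideal.le_comap_map (Ideal.Quotient.mk I r) = _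
    rw [Ideal.quotientMap_mk]
  let φ₁ : R ⧸ I →+* Module.End R N :=
    Ideal.Quotient.lift I (algebraMap R (Module.End R N)) (by
      intro a ha
      obtain ⟨c, rfl⟩ := Ideal.mem_span_singleton'.mp ha
      ext x
      rw [map_mul, map_pow, Module.End.mul_apply, ← map_pow, Module.algebraMap_end_apply,
        Module.algebraMap_end_apply, hN, smul_zero]
      rfl)
  let φ : R' →+* Module.End R N := φ₁.comp (e.symm.toRingHom.comp (Ideal.Quotient.mk J))
  have hφ : ∀ r : R, φ (algebraMap R R' r) = algebraMap R (Module.End R N) r := by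
    intro r
    have : e.symm (Ideal.Quotient.mk J (algebraMap R R' r)) = Ideal.Quotient.mk I r := by
      rw [RingEquiv.symm_apply_eq, he]
    simp only [φ, RingHom.comp_apply, RingEquiv.toRingHom_eq_coe, RingHom.coe_coe, this, φ₁,
      Ideal.Quotient.lift_mk]
  let B : R' →ₗ[R] N →ₗ[R] N :=
    { toFun := fun r' => φ r'
      map_add' := fun a b => map_add φ a b
      map_smul' := by
        intro r a
        rw [Algebra.smul_def, map_mul, hφ, RingHom.id_apply, Algebra.algebraMap_eq_smul_one,
          smul_mul_assoc, one_mul] }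
  refine ⟨TensorProduct.lift B, fun x => ?_⟩
  rw [TensorProduct.lift.tmul]
  change φ 1 x = x
  rw [map_one]
  rfl

/-- If every element of `Q` is killed by a power of `f`, then `q ↦ 1 ⊗ q` is injective on `Q`
(stated for the kernel). -/
theorem eq_zero_of_one_tmul_eq_zero (hq : EtGlue.QuotPowBijective R R' f)
    (Q : Type u) [AddCommGroup Q] [Module R Q] (hQ : ∀ x : Q, ∃ n : ℕ, f ^ n • x = 0)
    (q : Q) (h : (1 : R') ⊗ₜ[R] q = 0) : q = 0 := by
  classical
  -- pass to a finitely generated submodule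
  let N : Submodule R Q := Submodule.span R {q}
  have hNfg : N.FG := Submodule.fg_span_singleton q
  let q' : N := ⟨q, Submodule.mem_span_singleton_self q⟩
  have h1 : N.subtype.rTensor R' (q' ⊗ₜ[R] (1 : R')) = N.subtype.rTensor R' 0 := by
    rw [LinearMap.rTensor_tmul, map_zero]
    have := congrArg (TensorProduct.comm R R' Q) h
    simpa using this
  obtain ⟨N', hN'fg, hle, h2⟩ := hNfg.exists_rTensor_fg_inclusion_eq h1
  rw [LinearMap.rTensor_tmul, map_zero] at h2
  -- N' is killed by a power of f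
  obtain ⟨n, hn⟩ : ∃ n : ℕ, ∀ x : N', f ^ n • x = 0 := by
    obtain ⟨s, hs⟩ := hN'fg
    have hex : ∀ x ∈ s, ∃ n : ℕ, f ^ n • x = 0 := fun x _ => hQ x
    choose! k hk using hex
    refine ⟨s.sup k, ?_⟩
    rintro ⟨x, hx⟩
    apply Subtype.ext
    simp only [Submodule.coe_smul, Submodule.coe_zero]
    rw [← hs] at hx
    refine Submodule.span_induction (p := fun x _ => f ^ s.sup k • x = 0) ?_ ?_ ?_ ?_ hx
    · intro y hy
      have hle : k y ≤ s.sup k := Finset.le_sup (f := k) hy
      obtain ⟨d, hd⟩ := Nat.exists_eq_add_of_le hle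
      rw [hd, pow_add, mul_comm, mul_smul, hk y hy, smul_zero]
    · exact smul_zero _
    · intro y z _ _ hy hz
      rw [smul_add, hy, hz, add_zero]
    · intro a y _ hy
      rw [smul_comm, hy, smul_zero]
  have hn' : ∀ x : N', f ^ (n + 1) • x = 0 := by
    intro x
    rw [pow_succ, mul_comm, mul_smul, hn, smul_zero]
  obtain ⟨ρ, hρ⟩ := exists_retraction hq (n + 1) (Nat.succ_pos n) N' hn'
  have h3 : (1 : R') ⊗ₜ[R] (N.inclusion hle q') = 0 := by
    have := congrArg (TensorProduct.comm R N' R') h2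
    simpa using this
  have h4 := hρ (N.inclusion hle q')
  rw [h3, map_zero] at h4
  have h5 : (N.inclusion hle q' : Q) = 0 := by rw [← h4]; rfl
  exact h5

end Groth.Agent.Lib.EtGlueQuot
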