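import Groth.Agent.Lib.EtGlueQuot
import Groth.Prelude.Def_EtGlue
import Mathlib.RingTheory.Localization.Away.Basic
import Mathlib.LinearAlgebra.TensorProduct.RightExactness

/-!
# Beauville–Laszlo glueing pairs: surjectivity is detected on `R_f` and `R'` (helper25)

Uses helper93's `Lib/EtGlueQuot.eq_zero_of_one_tmul_eq_zero` (an `f`-power torsion module embeds in
its base change to `R'`).
* `tensorMap_surjective`, `awayMap_surjective`: the easy directions.
* `exists_pow_smul_mem_range`: `A_f → B_f` surjective ⇒ coker is `f`-power torsion.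
* `surjective_of_awayMap_of_tensorMap`: the converse (only `R/fⁿ ≅ R'/fⁿR'` is used).
-/
set_option autoImplicit false
universe u
open TensorProduct

namespace Groth.Agent.Lib.EtGlueSurj

variable {R : Type u} [CommRing R] {R' : Type u} [CommRing R'] [Algebra R R'] {f : R}
  {A B : Type u} [CommRing A] [Algebra R A] [CommRing B] [Algebra R B]

/-- the tensor map is surjective when `φ` is -/
theorem tensorMap_surjective (φ : A →ₐ[R] B) (hφ : Function.Surjective φ) :
    Function.Surjective (Algebra.TensorProduct.map (AlgHom.id R R') φ).toRingHom := by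
  intro x
  induction x using TensorProduct.induction_on with
  | zero => exact ⟨0, map_zero _⟩
  | tmul r b =>
    obtain ⟨a, rfl⟩ := hφ b
    exact ⟨r ⊗ₜ a, by simp⟩
  | add x y hx hy =>
    obtain ⟨x', rfl⟩ := hx
    obtain ⟨y', rfl⟩ := hy
    exact ⟨x' + y', map_add _ _ _⟩

/-- the localized map is surjective when `φ` is -/
theorem awayMap_surjective (φ : A →+* B) (hφ : Function.Surjective φ) (g : A) :
    Function.Surjective (Localization.awayMap φ g) := by
  intro y
  obtain ⟨b, ⟨_, n, rfl⟩, rfl⟩ := IsLocalization.exists_mk'_eq (Submonoid.powers (φ g)) y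
  obtain ⟨a, rfl⟩ := hφ b
  refine ⟨IsLocalization.mk' _ a (⟨g ^ n, n, rfl⟩ : Submonoid.powers g), ?_⟩
  simp only [Localization.awayMap, IsLocalization.Away.map, IsLocalization.map_mk']
  congr 1
  exact Subtype.ext (map_pow φ g n)

/-- if the localized map is surjective, the cokernel is `f`-power torsion -/
theorem exists_pow_smul_mem_range (φ : A →ₐ[R] B)
    (h : Function.Surjective (Localization.awayMap φ.toRingHom (algebraMap R A f))) (b : B) :
    ∃ n : ℕ, f ^ n • b ∈ LinearMap.range φ.toLinearMap := by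
  obtain ⟨x, hx⟩ := h (algebraMap B _ b)
  obtain ⟨a, ⟨_, n, rfl⟩, rfl⟩ := IsLocalization.exists_mk'_eq
    (Submonoid.powers (algebraMap R A f)) x
  simp only [Localization.awayMap, IsLocalization.Away.map, IsLocalization.map_mk'] at hx
  rw [IsLocalization.mk'_eq_iff_eq_mul, ← map_mul, IsLocalization.eq_iff_exists
    (Submonoid.powers (φ.toRingHom (algebraMap R A f)))] at hx
  obtain ⟨⟨_, m, rfl⟩, hm⟩ := hx
  refine ⟨m + n, (algebraMap R A f) ^ m * a, ?_⟩
  simp only [AlgHom.toRingHom_eq_coe, RingHom.coe_coe, AlgHom.commutes, map_pow] at hm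
  rw [AlgHom.toLinearMap_apply, map_mul, map_pow, AlgHom.commutes, hm, pow_add, mul_smul,
    Algebra.smul_def, Algebra.smul_def, map_pow, map_pow]
  ring

/-- Beauville–Laszlo: surjectivity can be tested after localizing at `f` and tensoring with `R'`
(only `R/fⁿ ≅ R'/fⁿR'` is used). -/
theorem surjective_of_awayMap_of_tensorMap (hq : EtGlue.QuotPowBijective R R' f)
    (φ : A →ₐ[R] B)
    (h1 : Function.Surjective (Localization.awayMap φ.toRingHom (algebraMap R A f)))
    (h2 : Function.Surjective (Algebra.TensorProduct.map (AlgHom.id R R') φ).toRingHom) :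
    Function.Surjective φ := by
  let K : Submodule R B := LinearMap.range φ.toLinearMap
  have hQ : ∀ x : B ⧸ K, ∃ n : ℕ, f ^ n • x = 0 := by
    intro x
    obtain ⟨b, rfl⟩ := K.mkQ_surjective x
    obtain ⟨n, hn⟩ := exists_pow_smul_mem_range φ h1 b
    refine ⟨n, ?_⟩
    rw [← map_smul, Submodule.mkQ_apply, Submodule.Quotient.mk_eq_zero]
    exact hn
  intro b
  have hzero : (1 : R') ⊗ₜ[R] (K.mkQ b) = 0 := by
    obtain ⟨α, hα⟩ := h2 ((1 : R') ⊗ₜ[R] b)
    have e : (1 : R') ⊗ₜ[R] (K.mkQ b) = K.mkQ.lTensor R' ((1 : R') ⊗ₜ[R] b) := by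
      rw [LinearMap.lTensor_tmul]
    rw [e, ← hα]
    have hcomp : ∀ α : R' ⊗[R] A, K.mkQ.lTensor R'
        ((Algebra.TensorProduct.map (AlgHom.id R R') φ).toRingHom α) = 0 := by
      intro α
      induction α using TensorProduct.induction_on with
      | zero => simp
      | tmul r a =>
        simp only [AlgHom.toRingHom_eq_coe, RingHom.coe_coe, Algebra.TensorProduct.map_tmul,
          AlgHom.coe_id, id_eq, LinearMap.lTensor_tmul, Submodule.mkQ_apply]
        rw [(Submodule.Quotient.mk_eq_zero K (x := φ a)).mpr ⟨a, rfl⟩, TensorProduct.tmul_zero]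
      | add x y hx hy => rw [map_add, map_add, hx, hy, add_zero]
    exact hcomp α
  have := Groth.Agent.Lib.EtGlueQuot.eq_zero_of_one_tmul_eq_zero hq (B ⧸ K) hQ (K.mkQ b) hzero
  rw [Submodule.mkQ_apply, Submodule.Quotient.mk_eq_zero] at this
  obtain ⟨a, ha⟩ := this
  exact ⟨a, ha⟩

end Groth.Agent.Lib.EtGlueSurj
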