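import Groth.Agent.Lib.EtHensSect

/-!
# Sections = stalk on a strictly henselian local scheme, for presheaves with values in any
concrete category (helper39)

`bijective_toPresheafFiber_top_presheaf`: for any presheaf `P` on the small etale site of
`Spec R` (`R` strictly henselian local) with values in a concrete category `A` whose forgetful
functor preserves filtered colimits, `P(X) → P_x̄` is bijective.
-/

set_option autoImplicit false
universe u v' u' w'
open CategoryTheory CategoryTheory.Limits AlgebraicGeometry Opposite

namespace Groth.Agent.Lib.EtHensSect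

open Groth.Agent.Lib.EtGerm

variable {R : Type u} [CommRing R] [HenselianLocalRing R]
  [IsSepClosed (IsLocalRing.ResidueField R)]

theorem bijective_toPresheafFiber_top_presheaf {A : Type u'} [Category.{v'} A]
    [HasColimitsOfSize.{u, u} A] {FC : A → A → Type*} {CC : A → Type w'}
    [∀ (X Y : A), FunLike (FC X Y) (CC X) (CC Y)] [ConcreteCategory.{w'} A FC]
    [PreservesFilteredColimitsOfSize.{u, u} (forget A)]
    (P : (Spec (CommRingCat.of R)).Etaleᵒᵖ ⥤ A) :
    Function.Bijective ((Scheme.pointSmallEtale (clPt R)).toPresheafFiber
      (EtCoh.top (Spec (CommRingCat.of R))) (topNbhd R) P) := by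
  constructor
  · intro a b hab
    obtain ⟨V, g, z, -, hz⟩ :=
      ((Scheme.pointSmallEtale (clPt R)).toPresheafFiber_eq_iff' (P := P) _ (topNbhd R) a b).1 hab
    obtain ⟨h, -⟩ := exists_section V z
    have hid : h ≫ g = 𝟙 _ := top_endo_eq_id _
    have h1 : ∀ c : ToType (P.obj (op (EtCoh.top (Spec (CommRingCat.of R))))),
        P.map h.op (P.map g.op c) = c := by
      intro c
      have : P.map g.op ≫ P.map h.op = 𝟙 _ := by
        rw [← P.map_comp, ← op_comp, hid, op_id, P.map_id]
      have h2 := congrArg (fun f => (ConcreteCategory.hom f) c) this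
      simpa using h2
    rw [← h1 a, ← h1 b, hz]
  · intro p
    obtain ⟨U, y, s, hs⟩ := (Scheme.pointSmallEtale (clPt R)).toPresheafFiber_jointly_surjective
      (P := P) p
    obtain ⟨g, hg⟩ := exists_section U y
    refine ⟨P.map g.op s, ?_⟩
    have := (Scheme.pointSmallEtale (clPt R)).toPresheafFiber_w_apply g (topNbhd R) P s
    rw [this]
    have hg' : (Scheme.pointSmallEtale (clPt R)).fiber.map g (topNbhd R) = y := hg
    rw [hg', hs]

end Groth.Agent.Lib.EtHensSect
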