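import Groth.Agent.Lib.ExtAdjEdge

/-!
# The edge map `Ext^1(Z, G F) → Ext^1(Z', F)` is injective (helper95)

For `L ⊣ G` with `L` exact and `c : Z' ⟶ L Z` such that `θ _ 0` is bijective for all `F` (e.g. `c` an
isomorphism), the degree one edge map `θ adj c F 1` is injective for every `F` (no acyclicity
hypothesis): "`H^1(Y, f_* F) ↪ H^1(X, F)`".
-/

set_option autoImplicit false
set_option linter.unusedSectionVars false
universe w w' v v' u u'

namespace Groth.Agent.Lib.ExtAdjEdge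

open CategoryTheory CategoryTheory.Limits CategoryTheory.Abelian Groth.Agent.Lib.ExtPull

variable {𝒴 : Type u} [Category.{v} 𝒴] [Abelian 𝒴] {𝒳 : Type u'} [Category.{v'} 𝒳] [Abelian 𝒳]
  [HasExt.{w} 𝒴] [HasExt.{w'} 𝒳] [EnoughInjectives 𝒳]
  {L : 𝒴 ⥤ 𝒳} {G : 𝒳 ⥤ 𝒴} (adj : L ⊣ G)
  [L.Additive] [PreservesFiniteLimits L] [PreservesFiniteColimits L] [G.Additive]
  {Z : 𝒴} {Z' : 𝒳} (c : Z' ⟶ L.obj Z)

include adj in
theorem θ_injective_one (h0 : ∀ F : 𝒳, Function.Bijective (θ.{w, w'} adj c F 0)) (F : 𝒳) :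
    Function.Injective (θ.{w, w'} adj c F 1) := by
  have : PreservesFiniteLimits G := by
    have := adj.rightAdjoint_preservesLimits
    infer_instance
  -- the short exact sequence `0 → F → I → Q → 0`
  let S : ShortComplex 𝒳 := ShortComplex.mk (Injective.ι F) (cokernel.π (Injective.ι F))
    (cokernel.condition _)
  have hS : S.ShortExact :=
    { exact := ShortComplex.exact_cokernel _
      mono_f := by dsimp [S]; infer_instance
      epi_g := by dsimp [S]; infer_instance }
  have hGI : Injective (G.obj S.X₂) := by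
    have : Injective S.X₂ := by dsimp [S]; infer_instance
    exact Injective.injective_of_adjoint adj _
  obtain ⟨he, hm⟩ := (Functor.preservesFiniteLimits_iff_forall_exact_map_and_mono G).1
    inferInstance S hS
  have hmono : Mono (G.map S.f) := hm
  -- the short exact sequence `0 → G F → G I → K → 0`
  let S' : ShortComplex 𝒴 := ShortComplex.mk (G.map S.f) (cokernel.π (G.map S.f))
    (cokernel.condition _)
  have hS' : S'.ShortExact :=
    { exact := ShortComplex.exact_cokernel _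
      mono_f := hmono
      epi_g := by dsimp [S']; infer_instance }
  let m : S'.X₃ ⟶ G.obj S.X₃ := cokernel.desc (G.map S.f) (G.map S.g) (S.map G).zero
  have hmm : Mono m := he.mono_cokernelDesc
  have hπm : S'.g ≫ m = G.map S.g := cokernel.π_desc _ _ _
  let φ : S'.map L ⟶ S :=
    { τ₁ := adj.counit.app S.X₁
      τ₂ := adj.counit.app S.X₂
      τ₃ := L.map m ≫ adj.counit.app S.X₃
      comm₁₂ := (adj.counit.naturality S.f).symm
      comm₂₃ := by
        show adj.counit.app S.X₂ ≫ S.g = L.map S'.g ≫ L.map m ≫ adj.counit.app S.X₃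
        rw [← L.map_comp_assoc, hπm]
        exact (adj.counit.naturality S.g).symm }
  have hGI' : Injective S'.X₂ := hGI
  intro x₁ x₂ hx
  rw [← sub_eq_zero]
  have hx0 : θ adj c F 1 (x₁ - x₂) = 0 := by
    have := θ_add adj c F 1 (x₁ - x₂) x₂
    rw [sub_add_cancel, hx] at this
    exact (add_eq_right.1 this.symm)
  generalize x₁ - x₂ = x at hx0
  have hx1 : x.comp (Ext.mk₀ S'.f) (add_zero 1) = 0 :=
    @Ext.eq_zero_of_injective _ _ _ _ _ _ _ hGI' _
  obtain ⟨x', hx'⟩ := Ext.covariant_sequence_exact₁ _ hS' x hx1 (n₀ := 0) rfl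
  -- compatibility with the connecting maps
  have hθ : θ adj c F 1 (x'.comp hS'.extClass rfl) =
      ((P L c S'.X₃ 0 x').comp (Ext.mk₀ φ.τ₃) (add_zero 0)).comp hS.extClass rfl := by
    have h1 := P_comp_extClass L c S' hS' 0 1 rfl x'
    have h2 := ShortComplex.ShortExact.extClass_naturality (hS'.map_of_exact L) hS φ
    refine (congrArg (fun y => y.comp (Ext.mk₀ (adj.counit.app S.X₁)) (add_zero 1)) h1).trans ?_
    refine (Ext.comp_assoc _ _ _ rfl (add_zero 1) (by omega)).trans ?_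
    refine Eq.trans ?_ (Ext.comp_assoc _ _ _ (add_zero 0) (zero_add 1) (by omega)).symm
    exact congrArg (fun y => (P L c S'.X₃ 0 x').comp y (by omega)) h2
  have h3 : ((P L c S'.X₃ 0 x').comp (Ext.mk₀ φ.τ₃) (add_zero 0)).comp hS.extClass rfl = 0 := by
    rw [← hθ]
    exact (congrArg (θ adj c F 1) hx').trans hx0
  obtain ⟨y'', hy''⟩ := Ext.covariant_sequence_exact₃ _ hS _ rfl h3
  obtain ⟨x'', rfl⟩ := (h0 S.X₂).2 y''
  have h4 : x'.comp (Ext.mk₀ m) (add_zero 0) = x''.comp (Ext.mk₀ (G.map S.g)) (add_zero 0) := by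
    apply (h0 S.X₃).1
    rw [θ_comp_mk₀]
    refine Eq.trans ?_ hy''.symm
    show (P L c (G.obj S.X₃) 0 (x'.comp (Ext.mk₀ m) (add_zero 0))).comp
      (Ext.mk₀ (adj.counit.app S.X₃)) (add_zero 0) = _
    rw [P_comp_mk₀, Ext.comp_assoc_of_third_deg_zero, Ext.mk₀_comp_mk₀]
    rfl
  have h5 : x' = x''.comp (Ext.mk₀ S'.g) (add_zero 0) := by
    apply Ext.postcomp_mk₀_injective_of_mono Z m
    show x'.comp (Ext.mk₀ m) (add_zero 0) =
      (x''.comp (Ext.mk₀ S'.g) (add_zero 0)).comp (Ext.mk₀ m) (add_zero 0)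
    rw [h4, Ext.comp_assoc_of_third_deg_zero, Ext.mk₀_comp_mk₀, hπm]
  rw [← hx', h5]
  exact (Ext.comp_assoc_of_second_deg_zero _ _ _ _).trans
    ((congrArg (fun y => x''.comp y (by omega)) hS'.comp_extClass).trans (Ext.comp_zero _ _ _ _ _))

end Groth.Agent.Lib.ExtAdjEdge
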