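import Groth.Prelude.Def_EtLim
import Groth.Agent.Lib.ExtAdjEdgeOne95

/-!
# `H^1(Y, f_* F) → H^1(X, F)` is injective (helper95)
-/

set_option autoImplicit false
universe u

open CategoryTheory CategoryTheory.Limits AlgebraicGeometry Opposite

namespace Groth.Agent.Lib.EtHofPushOne95

/-- the Leray edge map in degree one is injective, for every morphism and every sheaf -/
theorem HofPush_injective_one {X Y : Scheme.{u}} (f : X ⟶ Y)
    [PreservesFiniteLimits (EtCoh.pull f)] (F : EtCoh.Ab X) :
    Function.Injective (EtLim.HofPush f F 1) :=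
  Groth.Agent.Lib.ExtAdjEdge.θ_injective_one (EtCoh.pullPushAdj f) (EtCore.pullConst f ℤ).inv
    (fun G => Groth.Agent.Lib.ExtAdjEdge.θ_bijective_zero _ _ G) F

end Groth.Agent.Lib.EtHofPushOne95
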