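import Groth.Agent.Lib.EtHpullComp

/-!
# Vanishing of pullbacks of cohomology classes in towers (helper95)

For `a : W ⟶ U`, `t : U ⟶ X`, `a ≫ t = f₀`:
* `Hpull_eq_zero_of_factor`: a class dying on `U` dies on `W`;
* `Hpull_Hpull_eq_zero`: a class dying on `W` has its restriction to `U` dying on `W`.
-/

set_option autoImplicit false
universe u
open CategoryTheory CategoryTheory.Limits AlgebraicGeometry Opposite

namespace Groth.Agent.Lib.EtHpullTower95

open EtCore Groth.Agent.Lib.EtHpullComp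

variable {W U X : Scheme.{u}} (a : W ⟶ U) (t : U ⟶ X) {f₀ : W ⟶ X} (w : a ≫ t = f₀)
  [PreservesFiniteLimits (EtCoh.pull a)] [PreservesFiniteLimits (EtCoh.pull t)]
  [PreservesFiniteLimits (EtCoh.pull f₀)]

include a w in
lemma Hpull_eq_zero_of_factor (G : EtCoh.Ab X) (n : ℕ) (x : EtCoh.H X G n)
    (h : Hpull t G n x = 0) : Hpull f₀ G n x = 0 := by
  rw [← HpullVia_Hpull a t w G n x, h, map_zero]

include w in
lemma Hpull_Hpull_eq_zero (G : EtCoh.Ab X) (n : ℕ) (x : EtCoh.H X G n)
    (h : Hpull f₀ G n x = 0) : Hpull a ((EtCoh.pull t).obj G) n (Hpull t G n x) = 0 := by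
  have h1 := HpullVia_Hpull a t w G n x
  rw [h] at h1
  have hinj : Function.Injective
      ((EtCoh.HF W n).map (((pullComp a t).symm ≪≫ pullCongr w).app G).hom) :=
    ((ConcreteCategory.isIso_iff_bijective _).1 inferInstance).1
  apply hinj
  refine Eq.trans ?_ (map_zero ((EtCoh.HF W n).map
    (((pullComp a t).symm ≪≫ pullCongr w).app G).hom).hom).symm
  exact h1

end Groth.Agent.Lib.EtHpullTower95
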