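import Groth.Prelude.Def_SGA4b
import Groth.Agent.Lib.EtStalkPullGerm
import Mathlib.CategoryTheory.Sites.LeftExact

/-!
# `f^*` on etale sheaves of sets is faithful and conservative for surjective `f` (helper95)

* `prj f U : U ×_X X' ⟶ U`, natural and surjective when `f` is;
* `fiberPullIso f ξ : (comapPt f ξ).sheafFiber ≅ pullSh f ⋙ (pointSmallEtale ξ).sheafFiber` (sets);
* `sheafFiber_map_eq`, `exists_refinement`;
* `pullSh_faithful`, `pullSh_reflectsIsos`.
-/

set_option autoImplicit false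
universe u
open CategoryTheory CategoryTheory.Limits AlgebraicGeometry Opposite

namespace Groth.Agent.Lib.EtPullShFaithful95

open Groth.Agent.Lib.EtGerm Groth.Agent.Lib.EtStalkPull Groth.Agent.Lib.EtStalkPullGerm

variable {X' X : Scheme.{u}} (f : X' ⟶ X)

/-- the projection `U ×_X X' ⟶ U` -/
noncomputable def prj (U : X.Etale) : ((EtCoh.bc f).obj U).left ⟶ U.left :=
  pullback.fst U.hom f

lemma prj_nat {U V : X.Etale} (g : V ⟶ U) :
    ((EtCoh.bc f).map g).left ≫ prj f U = prj f V ≫ g.left :=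
  pullback.lift_fst _ _ _

lemma prj_nat_apply {U V : X.Etale} (g : V ⟶ U) (w : ((EtCoh.bc f).obj V).left) :
    prj f U (((EtCoh.bc f).map g).left w) = g.left (prj f V w) :=
  congrArg (fun h : ((EtCoh.bc f).obj V).left ⟶ U.left => h w) (prj_nat f g)

lemma prj_surjective [Surjective f] (U : X.Etale) : Function.Surjective (prj f U) := by
  have : Surjective (pullback.fst U.hom f) :=
    MorphismProperty.pullback_fst _ _ (inferInstance : Surjective f)
  exact (pullback.fst U.hom f).surjective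

section pt
variable {Ω : Type u} [Field Ω] [IsSepClosed Ω] (ξ : Spec (CommRingCat.of Ω) ⟶ X')

set_option backward.isDefEq.respectTransparency.types false in
noncomputable def fiberPullIso :
    (comapPt f ξ).sheafFiber (A := Type (u+1)) ≅ EtDesc.pullSh f ⋙ (Scheme.pointSmallEtale ξ).sheafFiber :=
  (Scheme.pointSmallEtale ξ).sheafFiberComapIso (EtCoh.bc f) (EtCoh.coverPreserving_bc f) (Type (u+1))

lemma sheafFiber_map_eq {F G : EtDesc.Sh X} (φ ψ : F ⟶ G)
    (h : (EtDesc.pullSh f).map φ = (EtDesc.pullSh f).map ψ) :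
    (comapPt f ξ).sheafFiber.map φ = (comapPt f ξ).sheafFiber.map ψ := by
  have h1 := (fiberPullIso f ξ).hom.naturality φ
  have h2 := (fiberPullIso f ξ).hom.naturality ψ
  rw [← cancel_mono ((fiberPullIso f ξ).hom.app G), h1, h2]
  show _ ≫ (Scheme.pointSmallEtale ξ).sheafFiber.map ((EtDesc.pullSh f).map φ) =
    _ ≫ (Scheme.pointSmallEtale ξ).sheafFiber.map ((EtDesc.pullSh f).map ψ)
  rw [h]

/-- local equality from equality of the maps on `comapPt` stalks -/
lemma exists_refinement {F G : EtDesc.Sh X} (φ ψ : F ⟶ G)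
    (h : (comapPt f ξ).sheafFiber.map φ = (comapPt f ξ).sheafFiber.map ψ)
    {U : X.Etale} (s : F.obj.obj (op U)) (z : Nbhd ξ ((EtCoh.bc f).obj U)) :
    ∃ (V : X.Etale) (g : V ⟶ U) (z' : Nbhd ξ ((EtCoh.bc f).obj V)),
      Nbhd.map ξ ((EtCoh.bc f).map g) z' = z ∧
      G.obj.map g.op (φ.hom.app (op U) s) = G.obj.map g.op (ψ.hom.app (op U) s) := by
  have e1 := (comapPt f ξ).toPresheafFiber_naturality_apply φ.hom U z s
  have e2 := (comapPt f ξ).toPresheafFiber_naturality_apply ψ.hom U z s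
  have h' : (comapPt f ξ).presheafFiber.map φ.hom = (comapPt f ξ).presheafFiber.map ψ.hom := h
  rw [h'] at e1
  have e3 := e1.symm.trans e2
  exact ((comapPt f ξ).toPresheafFiber_eq_iff' (P := G.obj) U z _ _).1 e3

end pt

open Groth.Agent.Lib.EtStalkConservative in
theorem pullSh_faithful [Surjective f] : (EtDesc.pullSh f).Faithful := by
  constructor
  intro F G φ ψ h
  apply Sheaf.hom_ext
  ext ⟨U⟩ s
  refine (Sheaf.isSeparated G) U
    (Sieve.mk (fun V (g : V ⟶ U) => G.obj.map g.op (φ.hom.app (op U) s) =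
      G.obj.map g.op (ψ.hom.app (op U) s)) ?_) ?_ _ _ ?_
  · intro V W g hg k
    show G.obj.map (k ≫ g).op _ = G.obj.map (k ≫ g).op _
    rw [op_comp, Functor.map_comp]
    exact congrArg (G.obj.map k.op) hg
  · apply sieve_mem_of_forall_pt
    intro x
    obtain ⟨w, hw⟩ := prj_surjective f U x
    obtain ⟨z, hz⟩ := exists_stdPt_nbhd ((EtCoh.bc f).obj U) w
    obtain ⟨V, g, z', hz', hg⟩ := exists_refinement f _ φ ψ (sheafFiber_map_eq f _ φ ψ h) s z
    refine ⟨V, g, hg, prj f V (Nbhd.pt _ z'), ?_⟩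
    rw [← prj_nat_apply, ← Nbhd.pt_map, hz', hz, hw]
  · intro V g hg
    exact hg

theorem pullSh_reflectsIsos [Surjective f] : (EtDesc.pullSh f).ReflectsIsomorphisms := by
  have := pullSh_faithful f
  constructor
  intro F G φ hφ
  have : Mono φ := (EtDesc.pullSh f).mono_of_mono_map inferInstance
  have : Epi φ := (EtDesc.pullSh f).epi_of_epi_map inferInstance
  exact isIso_of_mono_of_epi φ

end Groth.Agent.Lib.EtPullShFaithful95
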