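import Groth.Prelude.Def_Hens2
import Groth.Agent.S6179
import Groth.Agent.Lib.EtPullShFaithful95

set_option autoImplicit false
universe u
open CategoryTheory CategoryTheory.Limits AlgebraicGeometry Opposite

namespace Groth.Agent.Lib.EtStrictLocSections95

open EtDesc Groth.Agent.Lib.EtStalkPull Groth.Agent.Lib.EtPullShFaithful95

section
variable (R : Type u) [CommRing R] [HenselianLocalRing R] [IsSepClosed (IsLocalRing.ResidueField R)]

/-- closed geometric point of `Spec R` -/
noncomputable abbrev clPt : Spec (CommRingCat.of (IsLocalRing.ResidueField R)) ⟶ Spec (CommRingCat.of R) :=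
  Spec.map (CommRingCat.ofHom (IsLocalRing.residue R))

/-- the canonical map `Γ(Spec R, F) ⟶ F_x̄` -/
noncomputable abbrev toFib (F : EtDesc.Sh (Spec (CommRingCat.of R))) :
    ((sheafSections (Spec (CommRingCat.of R)).smallEtaleTopology (Type (u + 1))).obj
        (op (EtCoh.top (Spec (CommRingCat.of R))))).obj F ⟶
      ((Scheme.pointSmallEtale (clPt R)).sheafFiber (A := Type (u + 1))).obj F :=
  (Scheme.pointSmallEtale (clPt R)).toPresheafFiber (A := Type (u + 1))
        (EtCoh.top (Spec (CommRingCat.of R)))
        (Over.homMk (clPt R) (Category.comp_id _)) F.obj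

instance isIso_toFib (F : EtDesc.Sh (Spec (CommRingCat.of R))) : IsIso (toFib R F) :=
  (isIso_iff_bijective _).2 (Groth.Agent.S6179.result R F)

/-- global sections ≅ fibre at the closed geometric point, for strictly henselian `R` -/
noncomputable def sectionsFiberIso :
    (sheafSections (Spec (CommRingCat.of R)).smallEtaleTopology (Type (u + 1))).obj
        (op (EtCoh.top (Spec (CommRingCat.of R)))) ≅
      (Scheme.pointSmallEtale (clPt R)).sheafFiber (A := Type (u + 1)) :=
  NatIso.ofComponents (fun F => asIso (toFib R F))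
    (fun {F G} φ => ((Scheme.pointSmallEtale (clPt R)).toPresheafFiber_naturality φ.hom _ _).symm)

end


set_option backward.isDefEq.respectTransparency.types false in
/-- the fibre functor at `ξ ≫ f` is `f^*` followed by the fibre functor at `ξ` (sets) -/
noncomputable def fiberCompIso {X' X : Scheme.{u}} (f : X' ⟶ X) {Ω : Type u} [Field Ω] [IsSepClosed Ω]
    (ξ : Spec (CommRingCat.of Ω) ⟶ X') :
    (Scheme.pointSmallEtale (ξ ≫ f)).sheafFiber (A := Type (u + 1)) ≅
      EtDesc.pullSh f ⋙ (Scheme.pointSmallEtale ξ).sheafFiber :=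
  (sheafFiberIsoOfIso (comapPtIso f ξ)).symm ≪≫ fiberPullIso f ξ

theorem main (X : Scheme.{u}) (x : X)
    (R : Type u) [CommRing R] [IsLocalRing R] [Algebra (X.presheaf.stalk x) R]
    [IsLocalHom (algebraMap (X.presheaf.stalk x) R)] [Hensel.IsStrictHenselization (X.presheaf.stalk x) R]
    [IsSepClosed (IsLocalRing.ResidueField R)] :
    Nonempty ((Scheme.pointSmallEtale (Hens2.geomPt X x R)).sheafFiber (A := Type (u + 1)) ≅
      EtDesc.pullSh (Hens2.specOf X x R) ⋙
        (sheafSections (Spec (CommRingCat.of R)).smallEtaleTopology (Type (u + 1))).obj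
          (op (EtCoh.top (Spec (CommRingCat.of R))))) := by
  haveI hH : HenselianLocalRing R := Hensel.IsStrictHenselization.henselian (R := X.presheaf.stalk x)
  exact ⟨fiberCompIso (Hens2.specOf X x R) (clPt R) ≪≫
    Functor.isoWhiskerLeft (EtDesc.pullSh (Hens2.specOf X x R)) (sectionsFiberIso R).symm⟩

end Groth.Agent.Lib.EtStrictLocSections95
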