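import Groth.Agent.Lib.EtFinStalkSet34C
import Groth.Agent.Lib.EtStrictLocSections95

/-!
# Set-valued etale sheaves: conservativity of stalks, stalk of the counit (helper34)

* `acPt x`: the geometric point of `X` over `x` with the algebraic closure of the residue field;
* `isIso_of_forall_stalkS_bijective`: a morphism of sheaves of sets which is bijective on the stalks
  at a family of geometric points covering `X` is an isomorphism;
* `fiberCompIso_hom_germS`: germ description of `stalkS (ξ ≫ f) ≅ pullSh f ⋙ stalkS ξ`;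
* `fiberCompIso_counit`: `(f^* f_* F)_ξ ≅ (f_* F)_{f ξ} ⟶ F_ξ` is `pushGermS`.
-/

set_option autoImplicit false
universe u
open CategoryTheory CategoryTheory.Limits AlgebraicGeometry Opposite

namespace Groth.Agent.Lib.EtFinStalkSet34

open Groth.Agent.Lib.EtGerm Groth.Agent.Lib.EtStalkPull Groth.Agent.Lib.EtStalkPullGerm
  Groth.Agent.Lib.EtFinStalk39 Groth.Agent.Lib.EtStalkConservative

section acPt

variable {X : Scheme.{u}}

/-- the geometric point over `x` given by the algebraic closure of the residue field -/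
noncomputable def acPt (x : X) : Spec (.of (AlgebraicClosure (X.residueField x))) ⟶ X :=
  (Scheme.SpecToEquivOfField (AlgebraicClosure (X.residueField x)) _).2
    ⟨x, CommRingCat.ofHom (algebraMap (X.residueField x) _)⟩

lemma acPt_default (x : X) : acPt x default = x := by
  simp [acPt, Scheme.SpecToEquivOfField]

end acPt

section conservative

variable {X : Scheme.{u}} {Ωx : X → Type u} [∀ x, Field (Ωx x)] [∀ x, IsSepClosed (Ωx x)]
  (pt : ∀ x : X, Spec (CommRingCat.of (Ωx x)) ⟶ X) (hpt : ∀ x, pt x default = x)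

include hpt in
/-- injectivity on the stalks at a covering family of geometric points implies monomorphism -/
lemma mono_of_forall_stalkS_injective {F G : EtDesc.Sh X} (v : F ⟶ G)
    (h : ∀ x : X, Function.Injective ((stalkS (pt x)).map v)) : Mono v := by
  have : Presheaf.IsLocallyInjective X.smallEtaleTopology v.hom := ⟨fun {U} a b hab => by
    apply sieve_mem_of_forall_pt
    intro q
    obtain ⟨n, hn⟩ := exists_nbhd_of_pt (pt (U.unop.hom q)) U.unop q (hpt _).symm
    have h1 : germS (pt (U.unop.hom q)) F n a = germS (pt (U.unop.hom q)) F n b := by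
      apply h
      rw [germS_naturality, germS_naturality]
      exact congrArg _ hab
    obtain ⟨V, g, z, hz, hg⟩ := (germS_eq_iff _ F n a b).1 h1
    refine ⟨V, g, hg, Nbhd.pt _ z, ?_⟩
    rw [← Nbhd.pt_map, hz, hn]⟩
  exact Sheaf.mono_of_isLocallyInjective v

include hpt in
/-- surjectivity on the stalks at a covering family of geometric points implies epimorphism -/
lemma epi_of_forall_stalkS_surjective {F G : EtDesc.Sh X} (v : F ⟶ G)
    (h : ∀ x : X, Function.Surjective ((stalkS (pt x)).map v)) : Epi v := by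
  have : Presheaf.IsLocallySurjective X.smallEtaleTopology v.hom := ⟨fun {U} s => by
    apply sieve_mem_of_forall_pt
    intro q
    obtain ⟨n, hn⟩ := exists_nbhd_of_pt (pt (U.hom q)) U q (hpt _).symm
    obtain ⟨p, hp⟩ := h (U.hom q) (germS (pt (U.hom q)) G n s)
    obtain ⟨W, w, z, rfl⟩ := germS_jointly_surjective _ F p
    rw [germS_naturality] at hp
    obtain ⟨V, a, b, c, hca, hcb⟩ := exists_common_nbhd (pt (U.hom q)) w n
    rw [← hca, ← hcb, ← germS_res, ← germS_res] at hp
    obtain ⟨V', g, z', hz', hg⟩ := (germS_eq_iff _ G c _ _).1 hp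
    refine ⟨V', g ≫ b, ⟨F.obj.map (g ≫ a).op z, ?_⟩, Nbhd.pt _ z', ?_⟩
    · have e1 := ConcreteCategory.congr_hom (v.hom.naturality (g ≫ a).op) z
      simp only [types_comp_apply] at e1
      rw [e1]
      rw [op_comp, Functor.map_comp, op_comp, Functor.map_comp]
      exact hg
    · show (g ≫ b).left (Nbhd.pt _ z') = q
      rw [← Nbhd.pt_map]
      have : Nbhd.map (pt (U.hom q)) (g ≫ b) z' = n := by
        rw [← hcb, ← hz']
        exact ConcreteCategory.congr_hom ((Scheme.pointSmallEtale (pt (U.hom q))).fiber.map_comp g b) z'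
      rw [this, hn]⟩
  exact Sheaf.epi_of_isLocallySurjective v

include hpt in
/-- bijectivity on the stalks at a covering family of geometric points implies isomorphism -/
theorem isIso_of_forall_stalkS_bijective {F G : EtDesc.Sh X} (v : F ⟶ G)
    (h : ∀ x : X, Function.Bijective ((stalkS (pt x)).map v)) : IsIso v := by
  have := mono_of_forall_stalkS_injective pt hpt v fun x => (h x).1
  have := epi_of_forall_stalkS_surjective pt hpt v fun x => (h x).2
  exact isIso_of_mono_of_epi v

end conservative

section counit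

open Groth.Agent.Lib.EtStrictLocSections95 Groth.Agent.Lib.EtPullShFaithful95

variable {X Y : Scheme.{u}} (f : X ⟶ Y) {Ω : Type u} [Field Ω] [IsSepClosed Ω]
  (ξ : Spec (CommRingCat.of Ω) ⟶ X)

set_option backward.isDefEq.respectTransparency.types false in
lemma fiberCompIso_hom_app (G : EtDesc.Sh Y) :
    (fiberCompIso f ξ).hom.app G =
      (GrothendieckTopology.Point.Hom.presheafFiber (A := Type (u + 1))
        (comapPtIso f ξ).hom).app G.obj ≫
      ((Scheme.pointSmallEtale ξ).sheafFiberComapIso (EtCoh.bc f) (EtCoh.coverPreserving_bc f)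
        (Type (u + 1))).hom.app G := rfl

set_option backward.isDefEq.respectTransparency.types false in
lemma toPresheafFiber_fiberCompIso_hom (G : EtDesc.Sh Y) {U : Y.Etale}
    (y : Nbhd (ξ ≫ f) U) :
    (Scheme.pointSmallEtale (ξ ≫ f)).toPresheafFiber U y G.obj ≫ (fiberCompIso f ξ).hom.app G =
      ((EtDesc.adjSh f).unit.app G).hom.app (op U) ≫
        (Scheme.pointSmallEtale ξ).toPresheafFiber ((EtCoh.bc f).obj U) (pullNbhd f ξ y)
          ((EtDesc.pullSh f).obj G).obj := by
  have h := toPresheafFiber_sheafFiberComapIso_hom_app (A := Type (u + 1))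
    (Scheme.pointSmallEtale ξ) (EtCoh.bc f) (EtCoh.coverPreserving_bc f) G U (pullNbhd f ξ y)
  refine Eq.trans ?_ h
  rw [fiberCompIso_hom_app, ← Category.assoc]
  congr 1
  exact (Scheme.pointSmallEtale (ξ ≫ f)).toPresheafFiber_presheafFiberDesc
    (A := Type (u + 1)) _ _ U y

/-- under `G_{f ξ} ≅ (f^* G)_ξ`, germs of `G` correspond to germs of their images under the unit -/
lemma fiberCompIso_hom_germS (G : EtDesc.Sh Y) {U : Y.Etale}
    (y : Nbhd (ξ ≫ f) U) (s : EtDesc.sect G U) :
    (fiberCompIso f ξ).hom.app G (germS (ξ ≫ f) G y s) =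
      germS ξ ((EtDesc.pullSh f).obj G) (pullNbhd f ξ y)
        (((EtDesc.adjSh f).unit.app G).hom.app (op U) s) :=
  ConcreteCategory.congr_hom (toPresheafFiber_fiberCompIso_hom f ξ G y) s

/-- `(f^* f_* F)_ξ ≅ (f_* F)_{f ξ} ⟶ F_ξ` is `pushGermS` -/
lemma fiberCompIso_counit (F : EtDesc.Sh X) :
    (fiberCompIso f ξ).hom.app ((EtDesc.pushSh f).obj F) ≫
      (stalkS ξ).map ((EtDesc.adjSh f).counit.app F) = pushGermS f ξ (ξ ≫ f) rfl F := by
  apply (Scheme.pointSmallEtale (ξ ≫ f)).presheafFiber_hom_ext
  intro V y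
  apply ConcreteCategory.hom_ext
  intro s
  show (stalkS ξ).map ((EtDesc.adjSh f).counit.app F)
      ((fiberCompIso f ξ).hom.app ((EtDesc.pushSh f).obj F)
        (germS (ξ ≫ f) ((EtDesc.pushSh f).obj F) y s)) =
    pushGermS f ξ (ξ ≫ f) rfl F (germS (ξ ≫ f) ((EtDesc.pushSh f).obj F) y s)
  rw [fiberCompIso_hom_germS]
  refine (germS_naturality ξ ((EtDesc.adjSh f).counit.app F) (pullNbhd f ξ y) _).trans ?_
  refine Eq.trans ?_ (pushGermS_germS f ξ (ξ ≫ f) rfl F y s).symm
  show germS ξ F (pullNbhd f ξ y) _ = germS ξ F (pullNbhd f ξ y) s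
  congr 1
  have h := (EtDesc.adjSh f).right_triangle_components F
  have h2 := congrArg (fun (k : (EtDesc.pushSh f).obj F ⟶ (EtDesc.pushSh f).obj F) =>
    k.hom.app (op V) s) h
  exact h2

end counit

end Groth.Agent.Lib.EtFinStalkSet34
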