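import Groth.Agent.Lib.EtImmStalkSet34A

/-!
# Set-valued etale sheaves: direct image along an immersion (helper34)

For an immersion `f : X ⟶ Y` and a geometric point `ξ` of `X`:
* `pushGermS_injective_of_isImmersion`, `pushGermS_surjective_of_isImmersion`:
  `(f_* F)_{f ξ} ⟶ F_ξ` is bijective;
* `isIso_counit_of_isImmersion`: the counit `f^* f_* F ⟶ F` is an isomorphism.
-/

set_option autoImplicit false
universe u
open CategoryTheory CategoryTheory.Limits AlgebraicGeometry Opposite

namespace Groth.Agent.Lib.EtFinStalkSet34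

open Groth.Agent.Lib.EtGerm Groth.Agent.Lib.EtStalkPull Groth.Agent.Lib.EtStalkPullGerm
  Groth.Agent.Lib.EtFinStalk39 Groth.Agent.Lib.EtStalkConservative

section immersion

variable {X Y : Scheme.{u}} (f : X ⟶ Y) [IsImmersion f] {Ω : Type u} [Field Ω] [IsSepClosed Ω]
  (ξ : Spec (CommRingCat.of Ω) ⟶ X) (η : Spec (CommRingCat.of Ω) ⟶ Y) (h : ξ ≫ f = η)

set_option backward.isDefEq.respectTransparency false in
/-- for an immersion `f`, `(f_* F)_η ⟶ F_ξ` is injective -/
theorem pushGermS_injective_of_isImmersion (F : EtDesc.Sh X) :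
    Function.Injective (pushGermS f ξ η h F) := by
  intro σ σ' h0
  obtain ⟨V, y, s, t, rfl, rfl⟩ := germS_jointly_surjective₂ η ((EtDesc.pushSh f).obj F) σ σ'
  let P : X.Etale := (EtCoh.bc f).obj V
  let s' : EtDesc.sect F P := s
  let t' : EtDesc.sect F P := t
  let p₁ : P.left ⟶ V.left := pullback.fst V.hom f
  have hp₁ : IsImmersion p₁ := inferInstanceAs (IsImmersion (pullback.fst V.hom f))
  -- the open locus where `s` and `t` agree
  let O : Set P.left := {q | ∃ (Z : X.Etale) (k : Z ⟶ P), q ∈ Set.range k.left ∧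
    F.obj.map k.op s' = F.obj.map k.op t'}
  have hO : IsOpen O := by
    have : O = ⋃ (Z : X.Etale) (k : Z ⟶ P) (_ : F.obj.map k.op s' = F.obj.map k.op t'),
        Set.range k.left := by
      ext q
      simp only [Set.mem_iUnion, exists_prop]
      constructor
      · rintro ⟨Z, k, hq, hk⟩
        exact ⟨Z, k, hk, hq⟩
      · rintro ⟨Z, k, hk, hq⟩
        exact ⟨Z, k, hq, hk⟩
    rw [this]
    refine isOpen_iUnion fun Z => isOpen_iUnion fun k => isOpen_iUnion fun _ => ?_
    exact k.left.isOpenMap.isOpen_range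
  -- the point of `(ξ, y)` lies in `O`
  let n : Nbhd ξ P := pullNbhdOf f ξ η h y
  have hn : Nbhd.pt ξ n ∈ O := by
    rw [pushGermS_germS, pushGermS_germS] at h0
    obtain ⟨Z, k, nz, hnz, hk⟩ := (germS_eq_iff ξ F n s' t').1 h0
    refine ⟨Z, k, ⟨Nbhd.pt ξ nz, ?_⟩, hk⟩
    exact (Nbhd.pt_map ξ k nz).symm.trans (congrArg (Nbhd.pt ξ) hnz)
  have hpn : p₁ (Nbhd.pt ξ n) = Nbhd.pt η y :=
    congrArg (fun k : Spec (CommRingCat.of Ω) ⟶ V.left => k (default : Spec (CommRingCat.of Ω)))
      (pullNbhdOf_left_fst f ξ η h y)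
  -- shrink `V`
  obtain ⟨K, hK, hKO⟩ := p₁.isEmbedding.isInducing.isClosed_iff.1 hO.isClosed_compl
  let V₀ : V.left.Opens := ⟨Kᶜ, hK.isOpen_compl⟩
  have hyV₀ : Nbhd.pt η y ∈ V₀ := by
    intro hy
    have : Nbhd.pt ξ n ∈ Oᶜ := by
      rw [← hKO]
      show p₁ (Nbhd.pt ξ n) ∈ K
      rw [hpn]
      exact hy
    exact this hn
  obtain ⟨y', hy'⟩ := Groth.Agent.Lib.EtGerm.exists_nbhd_openSub η V₀ y hyV₀
  rw [← hy', ← germS_res, ← germS_res]
  have : ((EtDesc.pushSh f).obj F).obj.map (openSubι V V₀).op s =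
      ((EtDesc.pushSh f).obj F).obj.map (openSubι V V₀).op t := by
    show F.obj.map ((EtCoh.bc f).map (openSubι V V₀)).op s' =
      F.obj.map ((EtCoh.bc f).map (openSubι V V₀)).op t'
    apply resS_ext_of_forall_pt
    intro q'
    have hq : ((EtCoh.bc f).map (openSubι V V₀)).left q' ∈ O := by
      by_contra hq
      have h2 : p₁ (((EtCoh.bc f).map (openSubι V V₀)).left q') ∈ V₀ := by
        have e1 : ((EtCoh.bc f).map (openSubι V V₀)).left ≫ p₁ =
            pullback.fst (openSub V V₀).hom f ≫ (openSubι V V₀).left := pullback.lift_fst _ _ _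
        have e2 := congrArg (fun k : ((EtCoh.bc f).obj (openSub V V₀)).left ⟶ V.left => k q') e1
        simp only [Scheme.Hom.comp_apply] at e2
        rw [e2]
        exact (pullback.fst (openSub V V₀).hom f q').2
      have h3 : ((EtCoh.bc f).map (openSubι V V₀)).left q' ∈ p₁ ⁻¹' K := by
        rw [hKO]
        exact hq
      exact h2 h3
    exact hq
  rw [this]

set_option backward.isDefEq.respectTransparency false in
set_option maxHeartbeats 800000 in
/-- for an immersion `f`, `(f_* F)_η ⟶ F_ξ` is surjective -/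
theorem pushGermS_surjective_of_isImmersion (F : EtDesc.Sh X) :
    Function.Surjective (pushGermS f ξ η h F) := by
  intro t
  obtain ⟨U, u, τ, rfl⟩ := germS_jointly_surjective ξ F t
  have hUet : Etale (U.hom : U.left ⟶ X) := U.prop
  let ug : Spec (CommRingCat.of Ω) ⟶ U.left := CommaMorphism.left u
  have hug : ug ≫ (U.hom : U.left ⟶ X) = ξ := Over.w u
  obtain ⟨V₁, e, he, vg, hvg, W, hWc, a₀, z, hh, hzι, hzh, huniq⟩ :=
    exists_clopen_section f (U.hom : U.left ⟶ X) ug
  let V : Y.Etale := Scheme.Etale.mk e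
  have hvgη : vg ≫ e = η := by rw [hvg, hug, h]
  let y : Nbhd η V := Over.homMk vg hvgη
  let P : X.Etale := (EtCoh.bc f).obj V
  let W' : P.left.Opens := W
  let p₁ : P.left ⟶ V.left := pullback.fst V.hom f
  have hp₁ : IsImmersion p₁ := inferInstanceAs (IsImmersion (pullback.fst V.hom f))
  let pt : Spec (CommRingCat.of Ω) := default
  -- the point of `(ξ, y)` lies in `W`
  let n : Nbhd ξ P := pullNbhdOf f ξ η h y
  have hnl : (CommaMorphism.left n : Spec (CommRingCat.of Ω) ⟶ P.left) = z ≫ W.ι := by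
    rw [hzι]
    apply pullback.hom_ext
    · refine Eq.trans ?_ (pullback.lift_fst _ _ _).symm
      exact pullNbhdOf_left_fst f ξ η h y
    · refine Eq.trans ?_ (pullback.lift_snd _ _ _).symm
      rw [hug]
      exact pullNbhdOf_left_snd f ξ η h y
  have hn : Nbhd.pt ξ n ∈ W' := by
    have h1 := congrArg (fun k : Spec (CommRingCat.of Ω) ⟶ P.left => k pt) hnl
    simp only [Scheme.Hom.comp_apply] at h1
    have h2 : W.ι (z pt) ∈ W := (z pt).2
    show (CommaMorphism.left n : Spec (CommRingCat.of Ω) ⟶ P.left) pt ∈ W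
    exact h1 ▸ h2
  have hpn : p₁ (Nbhd.pt ξ n) = Nbhd.pt η y :=
    congrArg (fun k : Spec (CommRingCat.of Ω) ⟶ V.left => k pt)
      (pullNbhdOf_left_fst f ξ η h y)
  -- shrink `V`
  obtain ⟨K, hK, hKW⟩ := p₁.isEmbedding.isInducing.isClosed_iff.1
    (W'.isOpen.isClosed_compl)
  let V₀ : V.left.Opens := ⟨Kᶜ, hK.isOpen_compl⟩
  have hyV₀ : Nbhd.pt η y ∈ V₀ := by
    intro hy
    have : Nbhd.pt ξ n ∈ (W' : Set P.left)ᶜ := by
      rw [← hKW]
      show p₁ (Nbhd.pt ξ n) ∈ K
      rw [hpn]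
      exact hy
    exact this hn
  obtain ⟨y', hy'⟩ := Groth.Agent.Lib.EtGerm.exists_nbhd_openSub η V₀ y hyV₀
  let V' : Y.Etale := openSub V V₀
  let Q : X.Etale := (EtCoh.bc f).obj V'
  let m : Q ⟶ P := (EtCoh.bc f).map (openSubι V V₀)
  let q₁ : Q.left ⟶ V'.left := pullback.fst V'.hom f
  have hm_fst : m.left ≫ p₁ = q₁ ≫ (openSubι V V₀).left := pullback.lift_fst _ _ _
  have hm_snd : m.left ≫ P.hom = Q.hom := pullback.lift_snd _ _ _
  have hmW : ∀ q' : Q.left, m.left q' ∈ W' := by
    intro q'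
    by_contra hq
    have h2 : p₁ (m.left q') ∈ V₀ := by
      have e2 := congrArg (fun k : Q.left ⟶ V.left => k q') hm_fst
      simp only [Scheme.Hom.comp_apply] at e2
      rw [e2]
      exact (q₁ q').2
    have h3 : m.left q' ∈ p₁ ⁻¹' K := by
      rw [hKW]
      exact hq
    exact h2 h3
  have hrange : Set.range m.left ⊆ Set.range W.ι := by
    rintro _ ⟨q', rfl⟩
    rw [Scheme.Opens.range_ι]
    exact hmW q'
  let a : Q.left ⟶ W.toScheme := IsOpenImmersion.lift W.ι m.left hrange
  have ha : a ≫ W.ι = m.left := IsOpenImmersion.lift_fac _ _ _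
  have hk : (a ≫ a₀) ≫ (U.hom : U.left ⟶ X) = Q.hom := by
    rw [Category.assoc, hh, ← Category.assoc, ha]
    exact hm_snd
  let k : Q ⟶ U := MorphismProperty.Over.homMk (a ≫ a₀) hk trivial
  let s : EtDesc.sect ((EtDesc.pushSh f).obj F) V' := F.obj.map k.op τ
  refine ⟨germS η _ y' s, ?_⟩
  rw [pushGermS_germS]
  show germS ξ F (pullNbhdOf f ξ η h y') (F.obj.map k.op τ) = germS ξ F u τ
  rw [germS_res]
  congr 1
  let n' : Nbhd ξ Q := pullNbhdOf f ξ η h y'
  have hy'l : (CommaMorphism.left y' : Spec (CommRingCat.of Ω) ⟶ V'.left) ≫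
      (openSubι V V₀).left = vg :=
    congrArg (fun k : Over.mk η ⟶ (Scheme.Etale.forget Y).obj V => CommaMorphism.left k) hy'
  have hz'z : (CommaMorphism.left n' : Spec (CommRingCat.of Ω) ⟶ Q.left) ≫ a = z := by
    apply huniq
    rw [Category.assoc, ← Category.assoc a, ha]
    show (CommaMorphism.left n' : Spec (CommRingCat.of Ω) ⟶ Q.left) ≫ m.left ≫ p₁ = vg
    rw [hm_fst, ← Category.assoc]
    rw [show (CommaMorphism.left n' : Spec (CommRingCat.of Ω) ⟶ Q.left) ≫ q₁ =
      (CommaMorphism.left y' : Spec (CommRingCat.of Ω) ⟶ V'.left) from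
      pullNbhdOf_left_fst f ξ η h y']
    exact hy'l
  apply Over.OverMorphism.ext
  show (CommaMorphism.left n' : Spec (CommRingCat.of Ω) ⟶ Q.left) ≫ (a ≫ a₀) = ug
  rw [← Category.assoc, hz'z]
  exact hzh

theorem pushGermS_bijective_of_isImmersion (F : EtDesc.Sh X) :
    Function.Bijective (pushGermS f ξ η h F) :=
  ⟨pushGermS_injective_of_isImmersion f ξ η h F, pushGermS_surjective_of_isImmersion f ξ η h F⟩

end immersion

section counit

open Groth.Agent.Lib.EtStrictLocSections95

variable {X Y : Scheme.{u}} (f : X ⟶ Y) [IsImmersion f]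

/-- the counit `f^* f_* F ⟶ F` is an isomorphism for immersions `f` (sheaves of sets) -/
theorem isIso_counit_of_isImmersion (F : EtDesc.Sh X) :
    IsIso ((EtDesc.adjSh f).counit.app F) := by
  apply isIso_of_forall_stalkS_bijective (fun x => acPt x) acPt_default
  intro x
  have h1 := fiberCompIso_counit f (acPt x) F
  have h2 := pushGermS_bijective_of_isImmersion f (acPt x) (acPt x ≫ f) rfl F
  rw [← h1] at h2
  have h3 : Function.Bijective ((fiberCompIso f (acPt x)).hom.app ((EtDesc.pushSh f).obj F)) :=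
    (isIso_iff_bijective _).1 inferInstance
  have h2' : Function.Bijective
      (((stalkS (acPt x)).map ((EtDesc.adjSh f).counit.app F) : _ → _) ∘
        ((fiberCompIso f (acPt x)).hom.app ((EtDesc.pushSh f).obj F) : _ → _)) := h2
  exact (Function.Bijective.of_comp_iff _ h3).1 h2'

end counit

end Groth.Agent.Lib.EtFinStalkSet34
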