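import Groth.Agent.Lib.EtImmStalkSet34B

/-!
# Set-valued etale sheaves: closed immersions and their open complements (helper34)

For a closed immersion `i : Y ⟶ X` with open complement `j : U ⟶ X`:
* `pushSh i` is fully faithful;
* `F` is in the essential image of `pushSh i` iff `j^* F` is terminal.
-/

set_option autoImplicit false
universe u
open CategoryTheory CategoryTheory.Limits AlgebraicGeometry Opposite

namespace Groth.Agent.Lib.EtFinStalkSet34

open Groth.Agent.Lib.EtGerm Groth.Agent.Lib.EtStalkPull Groth.Agent.Lib.EtStalkPullGerm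
  Groth.Agent.Lib.EtFinStalk39 Groth.Agent.Lib.EtStalkConservative
  Groth.Agent.Lib.EtStrictLocSections95

section general

/-- a map between one-element types is bijective -/
lemma bijective_of_unique {A B : Type*} (hA : Nonempty A) (hB : Subsingleton B)
    (hA' : Subsingleton A) (g : A → B) : Function.Bijective g :=
  ⟨fun _ _ _ => Subsingleton.elim _ _, fun b => ⟨hA.some, Subsingleton.elim _ _⟩⟩

variable {X : Scheme.{u}} {Ω : Type u} [Field Ω] [IsSepClosed Ω] (ξ : Spec (CommRingCat.of Ω) ⟶ X)

/-- the stalk of a terminal sheaf is a one-element set -/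
lemma nonempty_unique_stalkS_of_isTerminal (T : EtDesc.Sh X) (hT : IsTerminal T) :
    Nonempty (Unique ((stalkS ξ).obj T)) := by
  haveI : AB5OfSize.{u, u} (Type (u + 1)) := AB5OfSize_of_univLE.{u, u, u + 1, u + 1} (Type (u + 1))
  have h1 : IsTerminal ((stalkS ξ).obj T) := hT.isTerminalObj (stalkS ξ) T
  exact ⟨(Types.isTerminalEquivUnique _) h1⟩

end general

section nolift

variable {X Y : Scheme.{u}} (f : Y ⟶ X) [IsFinite f] {Ω : Type u} [Field Ω] [IsAlgClosed Ω]
  (η : Spec (CommRingCat.of Ω) ⟶ X)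

lemma subsingleton_stalkS_push_of_isEmpty (h : IsEmpty (GeomPtsOver f η)) (G : EtDesc.Sh Y) :
    Subsingleton ((stalkS η).obj ((EtDesc.pushSh f).obj G)) :=
  ⟨fun σ σ' => pushGermS_jointly_injective f η G σ σ' (fun ξ hξ => (h.false ⟨ξ, hξ⟩).elim)⟩

lemma nonempty_stalkS_push_of_isEmpty (h : IsEmpty (GeomPtsOver f η)) (G : EtDesc.Sh Y) :
    Nonempty ((stalkS η).obj ((EtDesc.pushSh f).obj G)) := by
  obtain ⟨σ, -⟩ := exists_pushGermS_eq f η G (fun ξ => (h.false ξ).elim)
  exact ⟨σ⟩

end nolift

section unit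

variable {X Y : Scheme.{u}} (i : Y ⟶ X) [IsImmersion i] {Ω : Type u} [Field Ω] [IsSepClosed Ω]
  (ζ : Spec (CommRingCat.of Ω) ⟶ Y)

/-- the unit `F ⟶ i_* i^* F` is bijective on stalks at geometric points coming from `Y` -/
lemma bijective_stalkS_unit (F : EtDesc.Sh X) :
    Function.Bijective ((stalkS (ζ ≫ i)).map ((EtDesc.adjSh i).unit.app F)) := by
  -- naturality of `fiberCompIso`
  have h1 := (fiberCompIso i ζ).hom.naturality ((EtDesc.adjSh i).unit.app F)
  -- triangle identity
  have h2 := (EtDesc.adjSh i).left_triangle_components F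
  have h3 : (stalkS (ζ ≫ i)).map ((EtDesc.adjSh i).unit.app F) ≫
      ((fiberCompIso i ζ).hom.app ((EtDesc.pushSh i).obj ((EtDesc.pullSh i).obj F)) ≫
        (stalkS ζ).map ((EtDesc.adjSh i).counit.app ((EtDesc.pullSh i).obj F))) =
      (fiberCompIso i ζ).hom.app F := by
    rw [← Category.assoc]
    have h1' : (stalkS (ζ ≫ i)).map ((EtDesc.adjSh i).unit.app F) ≫
        (fiberCompIso i ζ).hom.app ((EtDesc.pushSh i).obj ((EtDesc.pullSh i).obj F)) =
        (fiberCompIso i ζ).hom.app F ≫
          (stalkS ζ).map ((EtDesc.pullSh i).map ((EtDesc.adjSh i).unit.app F)) := h1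
    rw [h1', Category.assoc, ← Functor.map_comp]
    have h2' : (EtDesc.pullSh i).map ((EtDesc.adjSh i).unit.app F) ≫
        (EtDesc.adjSh i).counit.app ((EtDesc.pullSh i).obj F) = 𝟙 _ := h2
    rw [h2']
    exact ((fiberCompIso i ζ).hom.app F ≫= (stalkS ζ).map_id _).trans (Category.comp_id _)
  haveI := isIso_counit_of_isImmersion i ((EtDesc.pullSh i).obj F)
  have h4 : IsIso ((stalkS (ζ ≫ i)).map ((EtDesc.adjSh i).unit.app F)) := by
    have h5 : IsIso ((stalkS (ζ ≫ i)).map ((EtDesc.adjSh i).unit.app F) ≫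
      ((fiberCompIso i ζ).hom.app ((EtDesc.pushSh i).obj ((EtDesc.pullSh i).obj F)) ≫
        (stalkS ζ).map ((EtDesc.adjSh i).counit.app ((EtDesc.pullSh i).obj F)))) := by
      rw [h3]
      infer_instance
    exact IsIso.of_isIso_comp_right _
      ((fiberCompIso i ζ).hom.app ((EtDesc.pushSh i).obj ((EtDesc.pullSh i).obj F)) ≫
        (stalkS ζ).map ((EtDesc.adjSh i).counit.app ((EtDesc.pullSh i).obj F)))
  exact (isIso_iff_bijective _).1 h4

end unit

section closed

variable {Y X U : Scheme.{u}} (i : Y ⟶ X) (j : U ⟶ X)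
  (hU : Set.range j.base = (Set.range i.base)ᶜ)

include hU in
/-- no geometric point of the open complement lifts to the closed subscheme -/
lemma isEmpty_geomPtsOver_of_compl {Ω : Type u} [Field Ω] (ξ : Spec (CommRingCat.of Ω) ⟶ U) :
    IsEmpty (GeomPtsOver i (ξ ≫ j)) := by
  constructor
  rintro ⟨ζ, hζ⟩
  have h1 := congrArg (fun k : Spec (CommRingCat.of Ω) ⟶ X =>
    k (default : Spec (CommRingCat.of Ω))) hζ
  simp only [Scheme.Hom.comp_apply] at h1
  have h2 : j (ξ default) ∈ Set.range j.base := ⟨_, rfl⟩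
  rw [hU] at h2
  exact h2 ⟨ζ default, h1⟩

theorem isIso_adjSh_counit [IsImmersion i] : IsIso (EtDesc.adjSh i).counit := by
  haveI := fun F => isIso_counit_of_isImmersion i F
  exact NatIso.isIso_of_isIso_app _

/-- direct image along an immersion is fully faithful (sheaves of sets) -/
noncomputable def pushShFullyFaithful [IsImmersion i] : (EtDesc.pushSh i).FullyFaithful :=
  haveI := isIso_adjSh_counit i
  (EtDesc.adjSh i).fullyFaithfulROfIsIsoCounit

variable [IsClosedImmersion i] [IsOpenImmersion j]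

include hU in
/-- `j^* i_* G` is terminal -/
theorem isIso_terminal_from_pull_push (G : EtDesc.Sh Y) :
    IsIso (terminal.from ((EtDesc.pullSh j).obj ((EtDesc.pushSh i).obj G))) := by
  apply isIso_of_forall_stalkS_bijective (fun x => acPt x) acPt_default
  intro x
  have hE := isEmpty_geomPtsOver_of_compl i j hU (acPt x)
  let e : (stalkS (acPt x ≫ j)).obj ((EtDesc.pushSh i).obj G) ≃
      (stalkS (acPt x)).obj ((EtDesc.pullSh j).obj ((EtDesc.pushSh i).obj G)) :=
    ((fiberCompIso j (acPt x)).app ((EtDesc.pushSh i).obj G)).toEquiv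
  have hN : Nonempty ((stalkS (acPt x)).obj ((EtDesc.pullSh j).obj ((EtDesc.pushSh i).obj G))) :=
    (nonempty_stalkS_push_of_isEmpty i (acPt x ≫ j) hE G).map e
  have hS : Subsingleton
      ((stalkS (acPt x)).obj ((EtDesc.pullSh j).obj ((EtDesc.pushSh i).obj G))) := by
    have := subsingleton_stalkS_push_of_isEmpty i (acPt x ≫ j) hE G
    exact e.symm.subsingleton
  obtain ⟨hT⟩ := nonempty_unique_stalkS_of_isTerminal (acPt x) (⊤_ (EtDesc.Sh U)) terminalIsTerminal
  exact bijective_of_unique hN (Unique.instSubsingleton) hS _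

include hU in
/-- if `F` is in the essential image of `i_*` then `j^* F` is terminal -/
theorem isIso_terminal_from_of_essImage (F : EtDesc.Sh X) (hF : (EtDesc.pushSh i).essImage F) :
    IsIso (terminal.from ((EtDesc.pullSh j).obj F)) := by
  obtain ⟨G, ⟨e⟩⟩ := hF
  have h1 : terminal.from ((EtDesc.pullSh j).obj F) =
      ((EtDesc.pullSh j).mapIso e.symm).hom ≫
        terminal.from ((EtDesc.pullSh j).obj ((EtDesc.pushSh i).obj G)) :=
    terminal.hom_ext _ _
  rw [h1]
  haveI := isIso_terminal_from_pull_push i j hU G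
  infer_instance

include hU in
/-- if `j^* F` is terminal then the unit `F ⟶ i_* i^* F` is an isomorphism -/
theorem isIso_unit_of_isIso_terminal_from (F : EtDesc.Sh X)
    (hF : IsIso (terminal.from ((EtDesc.pullSh j).obj F))) :
    IsIso ((EtDesc.adjSh i).unit.app F) := by
  apply isIso_of_forall_stalkS_bijective (fun x => acPt x) acPt_default
  intro x
  by_cases hx : x ∈ Set.range i.base
  · obtain ⟨y, hy⟩ := hx
    obtain ⟨ζ, hζ, -⟩ := exists_geomPt_lift i (acPt x) y (hy.trans (acPt_default x).symm)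
    have := bijective_stalkS_unit i ζ F
    rw [hζ] at this
    exact this
  · have hx' : x ∈ Set.range j.base := by
      rw [hU]
      exact hx
    have hrange : Set.range (acPt x) ⊆ Set.range j := by
      rintro _ ⟨a, rfl⟩
      rw [Subsingleton.elim a default, acPt_default]
      exact hx'
    let ξ : Spec (CommRingCat.of (AlgebraicClosure (X.residueField x))) ⟶ U :=
      IsOpenImmersion.lift j (acPt x) hrange
    have hξ : ξ ≫ j = acPt x := IsOpenImmersion.lift_fac _ _ _
    have hE := isEmpty_geomPtsOver_of_compl i j hU ξ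
    rw [← hξ]
    let e : (stalkS (ξ ≫ j)).obj F ≃ (stalkS ξ).obj ((EtDesc.pullSh j).obj F) :=
      ((fiberCompIso j ξ).app F).toEquiv
    let e' : (stalkS ξ).obj ((EtDesc.pullSh j).obj F) ≃ (stalkS ξ).obj (⊤_ (EtDesc.Sh U)) :=
      ((stalkS ξ).mapIso (asIso (terminal.from ((EtDesc.pullSh j).obj F)))).toEquiv
    obtain ⟨hT⟩ := nonempty_unique_stalkS_of_isTerminal ξ (⊤_ (EtDesc.Sh U)) terminalIsTerminal
    have hN : Nonempty ((stalkS (ξ ≫ j)).obj F) := ⟨e.symm (e'.symm default)⟩
    have hS : Subsingleton ((stalkS (ξ ≫ j)).obj F) := (e.trans e').subsingleton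
    exact bijective_of_unique hN
      (subsingleton_stalkS_push_of_isEmpty i (ξ ≫ j) hE _) hS _

include hU in
/-- essential image of `i_*` -/
theorem essImage_pushSh_iff (F : EtDesc.Sh X) :
    (EtDesc.pushSh i).essImage F ↔ IsIso (terminal.from ((EtDesc.pullSh j).obj F)) := by
  constructor
  · exact isIso_terminal_from_of_essImage i j hU F
  · intro hF
    haveI := isIso_unit_of_isIso_terminal_from i j hU F hF
    exact (EtDesc.adjSh i).mem_essImage_of_unit_isIso F

end closed

end Groth.Agent.Lib.EtFinStalkSet34
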