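import Groth.Prelude.Def_Dix
import Groth.Prelude.Def_EtGm
import Groth.Agent.S0108
import Mathlib.Algebra.Homology.DerivedCategory.Ext.ExactSequences

set_option autoImplicit false
universe u
open CategoryTheory CategoryTheory.Limits AlgebraicGeometry Opposite

namespace Groth.Agent.Lib.EtKummerLES95

/-- `n` nonzero in all residue fields ⇒ `n` is a unit in global sections -/
lemma isUnit_of_invertibleOn (X : Scheme.{u}) (n : ℕ) (hX : Dix.InvertibleOn X n) :
    IsUnit (n : Γ(X, ⊤)) := by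
  apply X.toRingedSpace.isUnit_of_isUnit_germ ⊤
  intro x hx
  have h1 : x ∈ X.basicOpen (n : Γ(X, ⊤)) := by
    rw [← X.evaluation_ne_zero_iff_mem_basicOpen (U := ⊤) x hx]
    have h2 : X.evaluation ⊤ x hx (n : Γ(X, ⊤)) = (n : X.residueField x) :=
      map_natCast (X.evaluation ⊤ x hx).hom n
    rw [h2]
    exact hX x
  exact (X.mem_basicOpen _ x hx).1 h1


open CategoryTheory.Abelian

/-- the Kummer short complex `μ_n → G_m → G_m` -/
noncomputable def kummerSC (X : Scheme.{u}) (n : ℕ) : ShortComplex (EtCoh.Ab X) :=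
  ShortComplex.mk (EtCoh.muι X n) (EtCoh.powMap X n) (kernel.condition _)

lemma kummerSC_shortExact (X : Scheme.{u}) (n : ℕ) (hn : IsUnit (n : Γ(X, ⊤))) :
    (kummerSC X n).ShortExact := by
  have : Mono (kummerSC X n).f := inferInstanceAs (Mono (kernel.ι (EtCoh.powMap X n)))
  have : Epi (kummerSC X n).g := Groth.Agent.S0108.result X n hn
  exact { exact := ShortComplex.exact_of_f_is_kernel _ (kernelIsKernel _) }

instance additive_HF (X : Scheme.{u}) (i : ℕ) : (EtCoh.HF X i).Additive := by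
  unfold EtCoh.HF
  infer_instance

/-- `H^i` of `n • 𝟙` is multiplication by `n` -/
lemma HF_map_powMap (X : Scheme.{u}) (n i : ℕ) (ξ : (EtCoh.HF X i).obj (EtCoh.Gm X)) :
    (EtCoh.HF X i).map (EtCoh.powMap X n) ξ = n • ξ := by
  have h : (EtCoh.HF X i).map (EtCoh.powMap X n) = n • 𝟙 _ := by
    unfold EtCoh.powMap
    rw [Functor.map_nsmul, CategoryTheory.Functor.map_id]
  rw [h]
  rfl

theorem range_HF_muι (X : Scheme.{u}) (n : ℕ) (hX : Dix.InvertibleOn X n) (i : ℕ) :
    Set.range ⇑((EtCoh.HF X i).map (EtCoh.muι X n)) =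
      {ξ : (EtCoh.HF X i).obj (EtCoh.Gm X) | n • ξ = 0} := by
  have hS := kummerSC_shortExact X n (isUnit_of_invertibleOn X n hX)
  ext ξ
  constructor
  · rintro ⟨x, rfl⟩
    change n • _ = 0
    rw [← HF_map_powMap]
    have h1 : (EtCoh.HF X i).map (EtCoh.muι X n) ≫ (EtCoh.HF X i).map (EtCoh.powMap X n) = 0 := by
      rw [← Functor.map_comp]
      have : EtCoh.muι X n ≫ EtCoh.powMap X n = 0 := kernel.condition _
      rw [this, Functor.map_zero]
    exact ConcreteCategory.congr_hom h1 x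
  · intro hξ
    change n • ξ = 0 at hξ
    rw [← HF_map_powMap] at hξ
    obtain ⟨x₁, hx₁⟩ := Ext.covariant_sequence_exact₂ _ hS (n := i) ξ hξ
    exact ⟨x₁, hx₁⟩

end Groth.Agent.Lib.EtKummerLES95
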