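import Groth.Prelude.Def_Dix
import Groth.Agent.Lib.EtKummerLES95

set_option autoImplicit false
universe u
open CategoryTheory CategoryTheory.Limits AlgebraicGeometry Opposite CategoryTheory.Abelian

namespace Groth.Agent.Lib.EtKummerTorsion95

open Groth.Agent.Lib.EtKummerLES95

variable (X : Scheme.{u})

/-- a sheaf killed by `ℓ^k` is `ℓ`-primary torsion -/
lemma isPrimaryTorsion_of_nsmul_id_eq_zero (ℓ k : ℕ) (F : EtCoh.Ab X)
    (h : (ℓ ^ k) • 𝟙 F = 0) : Dix.IsPrimaryTorsion ℓ F := by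
  intro U s x
  refine ⟨U, 𝟙 U, ⟨x, rfl⟩, k, ?_⟩
  have h1 : ((ℓ ^ k) • 𝟙 F : F ⟶ F).hom.app (op U) (F.obj.map (𝟙 U).op s) = 0 := by
    rw [h]; rfl
  exact h1

/-- `μ_m` is killed by `m` -/
lemma nsmul_id_mu (m : ℕ) : m • 𝟙 (EtCoh.mu X m) = 0 := by
  have h1 : (m • 𝟙 (EtCoh.mu X m)) ≫ EtCoh.muι X m = 0 := by
    have : EtCoh.muι X m ≫ EtCoh.powMap X m = 0 := kernel.condition _
    unfold EtCoh.powMap at this
    rw [Preadditive.nsmul_comp, Category.id_comp]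
    rw [Preadditive.comp_nsmul, Category.comp_id] at this
    exact this
  have : Mono (EtCoh.muι X m) := inferInstanceAs (Mono (kernel.ι _))
  exact (cancel_mono (EtCoh.muι X m)).1 (h1.trans zero_comp.symm)

/-- the cokernel of `m` on `G_m` is killed by `m` -/
lemma nsmul_id_coker (m : ℕ) : m • 𝟙 (cokernel (EtCoh.powMap X m)) = 0 := by
  have h1 : cokernel.π (EtCoh.powMap X m) ≫ (m • 𝟙 (cokernel (EtCoh.powMap X m))) = 0 := by
    have : EtCoh.powMap X m ≫ cokernel.π (EtCoh.powMap X m) = 0 := cokernel.condition _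
    unfold EtCoh.powMap at this
    rw [Preadditive.comp_nsmul, Category.comp_id]
    rw [Preadditive.nsmul_comp, Category.id_comp] at this
    exact this
  exact (cancel_epi (cokernel.π (EtCoh.powMap X m))).1 (h1.trans comp_zero.symm)

/-- first short exact sequence `μ_m → G_m → im(m)` -/
noncomputable def sc1 (m : ℕ) : ShortComplex (EtCoh.Ab X) :=
  ShortComplex.mk (EtCoh.muι X m) (Abelian.factorThruImage (EtCoh.powMap X m)) (by
    have : Mono (Abelian.image.ι (EtCoh.powMap X m)) := inferInstance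
    rw [← cancel_mono (Abelian.image.ι (EtCoh.powMap X m)), Category.assoc, Abelian.image.fac,
      zero_comp]
    exact kernel.condition _)

lemma sc1_shortExact (m : ℕ) : (sc1 X m).ShortExact := by
  have : Mono (sc1 X m).f := inferInstanceAs (Mono (kernel.ι (EtCoh.powMap X m)))
  have : Epi (sc1 X m).g := inferInstanceAs (Epi (Abelian.factorThruImage (EtCoh.powMap X m)))
  have hex : (sc1 X m).Exact := ShortComplex.exact_of_f_is_kernel _
    (isKernelOfComp (Abelian.image.ι (EtCoh.powMap X m)) (EtCoh.powMap X m)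
      (kernelIsKernel (EtCoh.powMap X m)) (sc1 X m).zero (Abelian.image.fac _))
  exact { exact := hex }

/-- second short exact sequence `im(m) → G_m → coker(m)` -/
noncomputable def sc2 (m : ℕ) : ShortComplex (EtCoh.Ab X) :=
  ShortComplex.mk (Abelian.image.ι (EtCoh.powMap X m)) (cokernel.π (EtCoh.powMap X m))
    (kernel.condition _)

lemma sc2_shortExact (m : ℕ) : (sc2 X m).ShortExact := by
  have : Mono (sc2 X m).f := inferInstanceAs (Mono (kernel.ι (cokernel.π (EtCoh.powMap X m))))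
  have : Epi (sc2 X m).g := inferInstanceAs (Epi (cokernel.π (EtCoh.powMap X m)))
  exact { exact := ShortComplex.exact_of_f_is_kernel _ (kernelIsKernel _) }

lemma sc_comp (m : ℕ) : (sc1 X m).g ≫ (sc2 X m).f = EtCoh.powMap X m := Abelian.image.fac _

theorem main (ℓ : ℕ) (n : ℕ) (hcd : Dix.CohDimLEAt X ℓ n) :
    (∀ i : ℕ, n + 1 < i → ∀ ξ : EtCoh.H X (EtCoh.Gm X) i, (∃ k : ℕ, ℓ ^ k • ξ = 0) → ξ = 0) ∧
    (Dix.InvertibleOn X ℓ → ∀ i : ℕ, n < i → ∀ ξ : EtCoh.H X (EtCoh.Gm X) i,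
      (∃ k : ℕ, ℓ ^ k • ξ = 0) → ξ = 0) := by
  have hmu : ∀ k i, n < i → Subsingleton (EtCoh.H X (EtCoh.mu X (ℓ ^ k)) i) := fun k i hi =>
    hcd _ (isPrimaryTorsion_of_nsmul_id_eq_zero X ℓ k _ (nsmul_id_mu X (ℓ ^ k))) i hi
  have hQ : ∀ k i, n < i → Subsingleton (EtCoh.H X (cokernel (EtCoh.powMap X (ℓ ^ k))) i) :=
    fun k i hi =>
    hcd _ (isPrimaryTorsion_of_nsmul_id_eq_zero X ℓ k _ (nsmul_id_coker X (ℓ ^ k))) i hi
  constructor
  · rintro i hi ξ ⟨k, hk⟩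
    have hk' : (EtCoh.HF X i).map (EtCoh.powMap X (ℓ ^ k)) ξ = 0 := by
      rw [HF_map_powMap]; exact hk
    -- ξ ↦ ξ ∘ g₁ ∘ f₂
    have hk'' : ((ξ : Ext _ _ i).comp (Ext.mk₀ (sc1 X (ℓ ^ k)).g) (add_zero i)).comp
        (Ext.mk₀ (sc2 X (ℓ ^ k)).f) (add_zero i) = 0 := by
      rw [Ext.comp_assoc_of_third_deg_zero, Ext.mk₀_comp_mk₀]
      exact (congrArg (fun f => (ξ : Ext _ _ i).comp (Ext.mk₀ f) (add_zero i))
        (sc_comp X (ℓ ^ k))).trans hk'
    -- injectivity of `∘ f₂` in degree i (needs H^{i-1}(Q) = 0)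
    obtain ⟨j, rfl⟩ : ∃ j, i = j + 1 := ⟨i - 1, by omega⟩
    obtain ⟨x₃, hx₃⟩ := Ext.covariant_sequence_exact₁ _ (sc2_shortExact X (ℓ ^ k)) _ hk'' rfl
    have hx₃0 : x₃ = 0 := @Subsingleton.elim _ (hQ k j (by omega)) _ _
    rw [hx₃0, Ext.zero_comp] at hx₃
    -- injectivity of `∘ g₁`
    obtain ⟨x₁, hx₁⟩ := Ext.covariant_sequence_exact₂ _ (sc1_shortExact X (ℓ ^ k)) ξ hx₃.symm
    have hx₁0 : x₁ = 0 := @Subsingleton.elim _ (hmu k (j + 1) (by omega)) _ _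
    rw [hx₁0, Ext.zero_comp] at hx₁
    exact hx₁.symm
  · rintro hinv i hi ξ ⟨k, hk⟩
    have hinv' : Dix.InvertibleOn X (ℓ ^ k) := by
      intro x
      rw [Nat.cast_pow]
      exact pow_ne_zero _ (hinv x)
    have h1 : ξ ∈ {ξ : (EtCoh.HF X i).obj (EtCoh.Gm X) | (ℓ ^ k) • ξ = 0} := hk
    rw [← range_HF_muι X (ℓ ^ k) hinv' i] at h1
    obtain ⟨x₁, rfl⟩ := h1
    have hx₁0 : x₁ = 0 := @Subsingleton.elim _ (hmu k i hi) _ _
    rw [hx₁0, map_zero]
    rfl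

end Groth.Agent.Lib.EtKummerTorsion95
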