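import Groth.Agent.Lib.ConstOver22
import Groth.Agent.Lib.EtConstr22h
import Groth.Agent.Lib.EtConstPush

/-!
# Morphisms between constant étale sheaves are locally constant (helper22)

* `exists_constSec_eq_list`: finitely many sections of a constant sheaf are simultaneously
  constant on an étale neighbourhood of a given point;
* `exists_const_hom`: a morphism `θ : M̲ ⟶ N̲` of constant abelian sheaves with `M` finite is,
  étale-locally, induced by a morphism of groups `ψ : M ⟶ N`;
* `isLC_kernel_const`, `isLC_cokernel_const`: kernel and cokernel of such a morphism are locally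
  constant with finite values.
-/

set_option autoImplicit false
set_option linter.style.haveILetI false
set_option linter.unusedSectionVars false
universe u

open CategoryTheory AlgebraicGeometry Limits MorphismProperty Opposite

namespace Groth.Agent.Lib.EtLCKer22

open Groth.Agent.Lib.EtConst Groth.Agent.Lib.EtOverSite22 Groth.Agent.Lib.EtLocConst22
  Groth.Agent.Lib.ConstOver22 Groth.Agent.Lib.EtConstPush

variable {X : Scheme.{u}}

theorem res_comp (F : EtCoh.Ab X) {U V V' : X.Etale} (g : V ⟶ U) (g' : V' ⟶ V)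
    (s : EtCoh.sect F U) :
    F.obj.map (g' ≫ g).op s = F.obj.map g'.op (F.obj.map g.op s) := by
  rw [op_comp, Functor.map_comp]
  rfl

/-- Finitely many sections of a constant sheaf are simultaneously constant on an étale
neighbourhood of a given point. -/
theorem exists_constSec_eq_list (N : AddCommGrpCat.{u + 1}) {U : X.Etale}
    (l : List (EtCoh.sect (constSh X N) U)) (x : U.left) :
    ∃ (V : X.Etale) (g : V ⟶ U), x ∈ Set.range g.left ∧
      ∀ s ∈ l, ∃ n : N, (constSh X N).obj.map g.op s = constSec N V n := by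
  induction l with
  | nil => exact ⟨U, 𝟙 U, ⟨x, rfl⟩, by simp⟩
  | cons s l ih =>
    obtain ⟨V, g, ⟨y, hy⟩, hl⟩ := ih
    obtain ⟨V', g', n, ⟨z, hz⟩, hn⟩ :=
      exists_constSec_eq_pt N ((constSh X N).obj.map g.op s) y
    refine ⟨V', g' ≫ g, ⟨z, ?_⟩, ?_⟩
    · rw [← hy, ← hz]
      rfl
    · intro t ht
      rcases List.mem_cons.1 ht with rfl | ht
      · exact ⟨n, (res_comp _ g g' _).trans hn⟩
      · obtain ⟨n', hn'⟩ := hl t ht
        refine ⟨n', (res_comp _ g g' _).trans ?_⟩
        rw [hn']
        exact constSec_res N g' n'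

/-- Naturality of a morphism of sheaves, on sections. -/
theorem hom_res {F G : EtCoh.Ab X} (θ : F ⟶ G) {U V : X.Etale} (g : V ⟶ U)
    (s : EtCoh.sect F U) :
    θ.hom.app (op V) (F.obj.map g.op s) = G.obj.map g.op (θ.hom.app (op U) s) := by
  have h := θ.hom.naturality g.op
  exact congrArg (fun f => f.hom s) h

/-- A morphism between constant abelian sheaves with finite source is, étale-locally, induced by
a morphism of groups. -/
theorem exists_const_hom {M N : AddCommGrpCat.{u + 1}} [Finite M]
    (θ : constSh X M ⟶ constSh X N) (x : X) :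
    ∃ (W : X.Etale) (ψ : M ⟶ N), x ∈ Set.range W.hom ∧
      ∀ (V : X.Etale) (_ : V ⟶ W) (m : M),
        θ.hom.app (op V) (constSec M V m) = constSec N V (ψ m) := by
  classical
  haveI : Fintype M := Fintype.ofFinite M
  let l : List (EtCoh.sect (constSh X N) (EtCoh.top X)) :=
    (Finset.univ : Finset M).toList.map
      (fun m => θ.hom.app (op (EtCoh.top X)) (constSec M (EtCoh.top X) m))
  obtain ⟨W, g, ⟨y, hy⟩, hl⟩ := exists_constSec_eq_list N l (x : (EtCoh.top X).left)
  have hl' : ∀ m : M, ∃ n : N, θ.hom.app (op W) (constSec M W m) = constSec N W n := by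
    intro m
    obtain ⟨n, hn⟩ := hl (θ.hom.app (op (EtCoh.top X)) (constSec M (EtCoh.top X) m))
      (List.mem_map.2 ⟨m, by simp, rfl⟩)
    refine ⟨n, ?_⟩
    rw [← hn, ← hom_res θ g, constSec_res]
  choose f hf using hl'
  haveI : Nonempty W.left := ⟨y⟩
  have hadd : ∀ a b : M, f (a + b) = f a + f b := by
    intro a b
    apply constSec_injective N W
    rw [← hf, map_add, map_add, map_add, hf, hf]
  let ψ : M ⟶ N := AddCommGrpCat.ofHom (AddMonoidHom.mk' f hadd)
  refine ⟨W, ψ, ⟨y, ?_⟩, ?_⟩
  · have hw : g.left ≫ (EtCoh.top X).hom = W.hom := Over.w g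
    rw [← hw]
    exact hy
  · intro V h m
    have e1 : constSec M V m = (constSh X M).obj.map h.op (constSec M W m) :=
      (constSec_res M h m).symm
    rw [e1, hom_res θ h, hf, constSec_res]
    rfl

/-- Over `W`, a morphism of constant sheaves which is given by `ψ` on constant sections equals
the constant morphism. -/
theorem overPullback_map_eq_const {M N : AddCommGrpCat.{u + 1}} (θ : constSh X M ⟶ constSh X N)
    (W : X.Etale) (ψ : M ⟶ N)
    (h : ∀ (V : X.Etale) (_ : V ⟶ W) (m : M),
      θ.hom.app (op V) (constSec M V m) = constSec N V (ψ m)) :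
    (X.smallEtaleTopology.overPullback AddCommGrpCat.{u + 1} W).map θ =
      (X.smallEtaleTopology.overPullback AddCommGrpCat.{u + 1} W).map
        ((constantSheaf X.smallEtaleTopology AddCommGrpCat.{u + 1}).map ψ) := by
  apply overPullback_map_eq
  apply NatTrans.ext
  funext V
  apply AddCommGrpCat.hom_ext
  ext m
  exact (h V.unop.left V.unop.hom m).trans (constSec_map ψ V.unop.left m).symm

/-- restriction to the over-site of `W` -/
noncomputable abbrev Rw (W : X.Etale) :
    Sheaf X.smallEtaleTopology AddCommGrpCat.{u + 1} ⥤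
      Sheaf (X.smallEtaleTopology.over W) AddCommGrpCat.{u + 1} :=
  X.smallEtaleTopology.overPullback AddCommGrpCat.{u + 1} W

/-- the constant sheaf functor -/
noncomputable abbrev Phi (X : Scheme.{u}) :
    AddCommGrpCat.{u + 1} ⥤ Sheaf X.smallEtaleTopology AddCommGrpCat.{u + 1} :=
  constantSheaf X.smallEtaleTopology AddCommGrpCat.{u + 1}

section iso

variable {M N : AddCommGrpCat.{u + 1}} (θ : constSh X M ⟶ constSh X N) (W : X.Etale) (ψ : M ⟶ N)
  (h : (X.smallEtaleTopology.overPullback AddCommGrpCat.{u + 1} W).map θ =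
      (X.smallEtaleTopology.overPullback AddCommGrpCat.{u + 1} W).map
        ((constantSheaf X.smallEtaleTopology AddCommGrpCat.{u + 1}).map ψ))


instance additive_overPullback : (Rw W).Additive := Functor.additive_of_preserves_binary_products _

include h in
/-- the kernel of a locally constant morphism of constant sheaves is locally constant -/
theorem nonempty_kernel_over_iso :
    Nonempty ((kernel θ).over W ≅
      (constantSheaf (X.smallEtaleTopology.over W) AddCommGrpCat.{u + 1}).obj (kernel ψ)) := by
  have e1 : (Rw W).obj (kernel θ) ≅ kernel ((Rw W).map θ) := PreservesKernel.iso (Rw W) θ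
  have e2 : kernel ((Rw W).map θ) ≅ kernel ((Rw W).map ((Phi X).map ψ)) := kernelIsoOfEq h
  have e3 : (Rw W).obj (kernel ((Phi X).map ψ)) ≅ kernel ((Rw W).map ((Phi X).map ψ)) :=
    PreservesKernel.iso (Rw W) ((Phi X).map ψ)
  have e4 : (Phi X).obj (kernel ψ) ≅ kernel ((Phi X).map ψ) := PreservesKernel.iso (Phi X) ψ
  exact ⟨e1 ≪≫ e2 ≪≫ e3.symm ≪≫ (Rw W).mapIso e4.symm ≪≫
    constOverIso X.smallEtaleTopology AddCommGrpCat.{u + 1} W (kernel ψ)⟩

include h in
/-- the cokernel of a locally constant morphism of constant sheaves is locally constant -/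
theorem nonempty_cokernel_over_iso :
    Nonempty ((cokernel θ).over W ≅
      (constantSheaf (X.smallEtaleTopology.over W) AddCommGrpCat.{u + 1}).obj (cokernel ψ)) := by
  have e1 : (Rw W).obj (cokernel θ) ≅ cokernel ((Rw W).map θ) := PreservesCokernel.iso (Rw W) θ
  have e2 : cokernel ((Rw W).map θ) ≅ cokernel ((Rw W).map ((Phi X).map ψ)) := cokernelIsoOfEq h
  have e3 : (Rw W).obj (cokernel ((Phi X).map ψ)) ≅ cokernel ((Rw W).map ((Phi X).map ψ)) :=
    PreservesCokernel.iso (Rw W) ((Phi X).map ψ)
  have e4 : (Phi X).obj (cokernel ψ) ≅ cokernel ((Phi X).map ψ) := PreservesCokernel.iso (Phi X) ψ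
  exact ⟨e1 ≪≫ e2 ≪≫ e3.symm ≪≫ (Rw W).mapIso e4.symm ≪≫
    constOverIso X.smallEtaleTopology AddCommGrpCat.{u + 1} W (cokernel ψ)⟩

end iso

end Groth.Agent.Lib.EtLCKer22
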