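import Groth.Agent.Lib.EtLCKer22a
import Groth.Agent.Lib.EtPullExact95

/-!
# Kernels and cokernels of finite locally constant étale sheaves (helper22)

* `isLC_ker_coker_const`: kernel and cokernel of a morphism of constant sheaves with finite values
  are locally constant with finite values;
* `exists_common_cover`: two locally constant sheaves can be trivialized on a common covering;
* `isLC_ker_coker`, `isFLC_kernel`, `isFLC_cokernel`.
-/

set_option autoImplicit false
set_option linter.style.haveILetI false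
set_option linter.unusedSectionVars false
universe u

open CategoryTheory AlgebraicGeometry Limits MorphismProperty Opposite

namespace Groth.Agent.Lib.EtLCKer22

open Groth.Agent.Lib.EtConst Groth.Agent.Lib.EtOverSite22 Groth.Agent.Lib.EtLocConst22
  Groth.Agent.Lib.ConstOver22 Groth.Agent.Lib.EtConstPush

/-- finiteness of the underlying type -/
def PFinite (M : AddCommGrpCat.{u + 1}) : Prop := Finite M

/-- a copy of `Fin n` without algebraic instances -/
def FinCopy (n : ℕ) : Type := Fin n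

instance (n : ℕ) : Finite (FinCopy n) := inferInstanceAs (Finite (Fin n))

theorem pFin_of_iso_finite (M : AddCommGrpCat.{u + 1}) [Finite M] :
    ∃ M' : AddCommGrpCat.{u + 1}, PFin M' ∧ Nonempty (M ≅ M') := by
  obtain ⟨n, ⟨e⟩⟩ := Finite.exists_equiv_fin M
  let e₀ : FinCopy n ≃ M := e.symm
  letI : AddCommGroup (FinCopy n) := e₀.addCommGroup
  let e' : FinCopy n ≃+ M :=
    { toEquiv := e₀
      map_add' := fun a b => e₀.apply_symm_apply _ }
  refine ⟨AddCommGrpCat.of (ULift.{u + 1} (FinCopy n)),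
    ⟨FinCopy n, inferInstance, inferInstance, rfl⟩, ⟨?_⟩⟩
  let E : ULift.{u + 1} (FinCopy n) ≃+ M := AddEquiv.ulift.trans e'
  exact
    { hom := AddCommGrpCat.ofHom E.symm.toAddMonoidHom
      inv := AddCommGrpCat.ofHom E.toAddMonoidHom
      hom_inv_id := by
        ext x
        exact E.apply_symm_apply x
      inv_hom_id := by
        apply AddCommGrpCat.hom_ext
        apply AddMonoidHom.ext
        intro x
        exact E.symm_apply_apply x }

theorem isLC_pFin_of_pFinite {X : Scheme.{u}} {F : EtCoh.Ab X}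
    (h : IsLC AddCommGrpCat.{u + 1} PFinite F) : IsLC AddCommGrpCat.{u + 1} PFin F := by
  obtain ⟨ι, U, hU, h⟩ := h
  refine ⟨ι, U, hU, fun i => ?_⟩
  obtain ⟨M, hM, ⟨α⟩⟩ := h i
  haveI : Finite M := hM
  obtain ⟨M', hM', ⟨e⟩⟩ := pFin_of_iso_finite M
  exact ⟨M', hM', ⟨α ≪≫ (constantSheaf _ _).mapIso e⟩⟩

theorem pFin_finite {M : AddCommGrpCat.{u + 1}} (h : PFin M) : Finite M := by
  obtain ⟨M₀, i1, i2, rfl⟩ := h
  exact inferInstanceAs (Finite (ULift.{u + 1} M₀))

/-- Kernel and cokernel of a morphism of constant sheaves with finite values are locally constant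
with finite values. -/
theorem isLC_ker_coker_const {T : Scheme.{u}} {M N : AddCommGrpCat.{u + 1}} [Finite M] [Finite N]
    (θ : constSh T M ⟶ constSh T N) :
    IsLC AddCommGrpCat.{u + 1} PFin (kernel θ) ∧ IsLC AddCommGrpCat.{u + 1} PFin (cokernel θ) := by
  have hx := fun x : T => exists_const_hom θ x
  choose W ψ hW hψ using hx
  have hcov : EtCoh.Covers W := by
    intro x
    obtain ⟨y, hy⟩ := hW x
    exact ⟨x, y, hy⟩
  have heq := fun x => overPullback_map_eq_const θ (W x) (ψ x) (hψ x)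
  constructor
  · apply isLC_pFin_of_pFinite
    refine ⟨T, W, hcov, fun x => ⟨kernel (ψ x), ?_, nonempty_kernel_over_iso θ (W x) (ψ x) (heq x)⟩⟩
    have : Function.Injective (kernel.ι (ψ x)) :=
      (AddCommGrpCat.mono_iff_injective _).1 inferInstance
    exact Finite.of_injective _ this
  · apply isLC_pFin_of_pFinite
    refine ⟨T, W, hcov, fun x => ⟨cokernel (ψ x), ?_,
      nonempty_cokernel_over_iso θ (W x) (ψ x) (heq x)⟩⟩
    have : Function.Surjective (cokernel.π (ψ x)) :=
      (AddCommGrpCat.epi_iff_surjective _).1 inferInstance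
    exact Finite.of_surjective _ this

section common

variable {A : Type (u + 2)} [Category.{u + 1} A]
  [∀ {X Y : Scheme.{u}} (f : X ⟶ Y), (pushA A f).IsRightAdjoint]
  [∀ (Y : Scheme.{u}), HasWeakSheafify Y.smallEtaleTopology A]
  [∀ (Y : Scheme.{u}) (V : Y.Etale), HasWeakSheafify (Y.smallEtaleTopology.over V) A]
  [∀ (Y : Scheme.{u}) (V : Y.Etale) W, HasLimitsOfShape (StructuredArrow W (toOver V).op) A]
  {P P' : A → Prop}

/-- Two locally constant sheaves can be trivialized on a common étale covering. -/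
theorem exists_common_cover {T : Scheme.{u}} {F G : Sheaf T.smallEtaleTopology A}
    (hF : IsLC A P F) (hG : IsLC A P' G) :
    ∃ (ι : Type u) (U : ι → T.Etale), EtCoh.Covers U ∧ ∀ i,
      (∃ M : A, P M ∧ Nonempty ((pullA A (homX (U i))).obj F ≅
        (constantSheaf (U i).left.smallEtaleTopology A).obj M)) ∧
      (∃ N : A, P' N ∧ Nonempty ((pullA A (homX (U i))).obj G ≅
        (constantSheaf (U i).left.smallEtaleTopology A).obj N)) := by
  obtain ⟨κ, j, hj, hF'⟩ := (isLC_iff_pull F).1 hF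
  have h' := fun k => (isLC_iff_pull _).1 (hG.pull (homX (j k)))
  choose ι W hW hiso using h'
  refine ⟨Σ k, ι k, fun q => (EtShriek.compEtale (homX (j q.1))).obj (W q.1 q.2), ?_, ?_⟩
  · intro t
    obtain ⟨k, y, hy⟩ := hj t
    obtain ⟨i, w, hw⟩ := hW k y
    refine ⟨⟨k, i⟩, w, ?_⟩
    have e : ((EtShriek.compEtale (homX (j k))).obj (W k i)).hom = (W k i).hom ≫ (j k).hom := rfl
    rw [e, Scheme.Hom.comp_base]
    exact (congrArg (fun z => (j k).hom.base z) hw).trans hy
  · rintro ⟨k, i⟩
    have e : homX ((EtShriek.compEtale (homX (j k))).obj (W k i)) =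
        homX (W k i) ≫ homX (j k) := rfl
    constructor
    · obtain ⟨M, hM, ⟨α⟩⟩ := hF' k
      refine ⟨M, hM, ⟨?_⟩⟩
      exact (pullCongrA A e).app F ≪≫ (pullCompA A (homX (W k i)) (homX (j k))).app F ≪≫
        (pullA A (homX (W k i))).mapIso α ≪≫ (pullConstIsoA A (homX (W k i))).app M
    · obtain ⟨N, hN, ⟨β⟩⟩ := hiso k i
      refine ⟨N, hN, ⟨?_⟩⟩
      exact (pullCongrA A e).app G ≪≫ (pullCompA A (homX (W k i)) (homX (j k))).app G ≪≫ β

end common

/-- Kernel and cokernel of a morphism of finite locally constant abelian étale sheaves are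
finite locally constant (generic form). -/
theorem isLC_ker_coker {T : Scheme.{u}} {F G : EtCoh.Ab T} (φ : F ⟶ G)
    (hF : IsLC AddCommGrpCat.{u + 1} PFin F) (hG : IsLC AddCommGrpCat.{u + 1} PFin G) :
    IsLC AddCommGrpCat.{u + 1} PFin (kernel φ) ∧ IsLC AddCommGrpCat.{u + 1} PFin (cokernel φ) := by
  obtain ⟨ι, U, hU, h⟩ := exists_common_cover hF hG
  have key : ∀ i, IsLC AddCommGrpCat.{u + 1} PFin
        ((pullA AddCommGrpCat.{u + 1} (homX (U i))).obj (kernel φ)) ∧
      IsLC AddCommGrpCat.{u + 1} PFin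
        ((pullA AddCommGrpCat.{u + 1} (homX (U i))).obj (cokernel φ)) := by
    intro i
    obtain ⟨⟨M, hM, ⟨α⟩⟩, ⟨N, hN, ⟨β⟩⟩⟩ := h i
    haveI := pFin_finite hM
    haveI := pFin_finite hN
    let p := pullA AddCommGrpCat.{u + 1} (homX (U i))
    let θ : constSh (U i).left M ⟶ constSh (U i).left N := α.inv ≫ p.map φ ≫ β.hom
    obtain ⟨h1, h2⟩ := isLC_ker_coker_const θ
    have e1 : p.obj (kernel φ) ≅ kernel (p.map φ) := PreservesKernel.iso p φ
    have e2 : kernel (p.map φ) ≅ kernel θ :=
      kernel.mapIso (p.map φ) θ α β (by simp [θ])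
    have e3 : p.obj (cokernel φ) ≅ cokernel (p.map φ) := PreservesCokernel.iso p φ
    have e4 : cokernel (p.map φ) ≅ cokernel θ :=
      cokernel.mapIso (p.map φ) θ α β (by simp [θ])
    exact ⟨h1.of_iso (e1 ≪≫ e2).symm, h2.of_iso (e3 ≪≫ e4).symm⟩
  exact ⟨IsLC.of_cover U hU (fun i => (key i).1), IsLC.of_cover U hU (fun i => (key i).2)⟩

/-- Kernels of morphisms of finite locally constant sheaves are finite locally constant. -/
theorem isFLC_kernel {T : Scheme.{u}} {F G : EtCoh.Ab T} (φ : F ⟶ G)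
    (hF : EtCoh.IsFiniteLocallyConstant F) (hG : EtCoh.IsFiniteLocallyConstant G) :
    EtCoh.IsFiniteLocallyConstant (kernel φ) :=
  (isFLC_iff_isLC _).2 (isLC_ker_coker φ ((isFLC_iff_isLC _).1 hF) ((isFLC_iff_isLC _).1 hG)).1

/-- Cokernels of morphisms of finite locally constant sheaves are finite locally constant. -/
theorem isFLC_cokernel {T : Scheme.{u}} {F G : EtCoh.Ab T} (φ : F ⟶ G)
    (hF : EtCoh.IsFiniteLocallyConstant F) (hG : EtCoh.IsFiniteLocallyConstant G) :
    EtCoh.IsFiniteLocallyConstant (cokernel φ) :=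
  (isFLC_iff_isLC _).2 (isLC_ker_coker φ ((isFLC_iff_isLC _).1 hF) ((isFLC_iff_isLC _).1 hG)).2

end Groth.Agent.Lib.EtLCKer22
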