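import Groth.Prelude.Def_EtAcyc
import Mathlib.CategoryTheory.Sites.EpiMono
import Mathlib.CategoryTheory.Sites.LocallySurjective

/-!
# `L`-torsion abelian etale sheaves (helper49)

* `exists_local_lift_of_epi`: an epimorphism of abelian etale sheaves is surjective on sections etale-locally around
  every point;
* `isLTorsion_of_epi`: a quotient of an `L`-torsion sheaf is `L`-torsion;
* `isLTorsion_of_mono`: a subsheaf of an `L`-torsion sheaf is `L`-torsion.
-/

set_option autoImplicit false
universe u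
open CategoryTheory CategoryTheory.Limits AlgebraicGeometry Opposite

namespace Groth.Agent.Lib.EtLTorsion

/-- Covering sieves of the small etale topology cover every point. -/
theorem exists_mem_of_mem_smallEtaleTopology {X : Scheme.{u}} {U : X.Etale} {S : Sieve U}
    (hS : S ∈ X.smallEtaleTopology U) (x : U.left) :
    ∃ (V : X.Etale) (g : V ⟶ U) (v : V.left), S g ∧ g.left.base v = x := by
  have eX : X.smallEtaleTopology =
      (X.smallPretopology (P := EtCoh.etaleMP) (Q := EtCoh.etaleMP)).toGrothendieck :=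
    Scheme.smallGrothendieckTopology_eq_toGrothendieck_smallPretopology X le_rfl
  rw [eX] at hS
  obtain ⟨V, g, v, hg, -, hv⟩ := (Scheme.mem_toGrothendieck_smallPretopology U S).1 hS x
  exact ⟨V, g, v, hg, hv⟩

/-- An epimorphism of abelian etale sheaves is surjective on sections, etale-locally around every point. -/
theorem exists_local_lift_of_epi {X : Scheme.{u}} {G Q : EtCoh.Ab X} (π : G ⟶ Q) [Epi π]
    (U : X.Etale) (s : EtCoh.sect Q U) (x : U.left) :
    ∃ (V : X.Etale) (g : V ⟶ U) (v : V.left) (t : EtCoh.sect G V),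
      g.left.base v = x ∧ π.hom.app (op V) t = Q.obj.map g.op s := by
  have hloc : Sheaf.IsLocallySurjective π :=
    (Sheaf.isLocallySurjective_iff_epi' (φ := π)).2 inferInstance
  have hS := Presheaf.imageSieve_mem X.smallEtaleTopology π.hom s
  obtain ⟨V, g, v, ⟨t, ht⟩, hv⟩ := exists_mem_of_mem_smallEtaleTopology hS x
  exact ⟨V, g, v, t, hv, ht⟩

/-- A quotient of an `L`-torsion sheaf is `L`-torsion. -/
theorem isLTorsion_of_epi {X : Scheme.{u}} (L : Set ℕ) {G Q : EtCoh.Ab X} (π : G ⟶ Q) [Epi π]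
    (hG : EtAcyc.IsLTorsion L G) : EtAcyc.IsLTorsion L Q := by
  intro U s x
  obtain ⟨V, g, v, t, hv, ht⟩ := exists_local_lift_of_epi π U s x
  obtain ⟨W, g', m, ⟨w, hw⟩, hm, hmt⟩ := hG V t v
  refine ⟨W, g' ≫ g, m, ⟨w, ?_⟩, hm, ?_⟩
  · rw [← hv, ← hw]
    rfl
  · have h1 : Q.obj.map (g' ≫ g).op s = Q.obj.map g'.op (Q.obj.map g.op s) := by
      rw [op_comp, Functor.map_comp]
      rfl
    have h2 : Q.obj.map g'.op (π.hom.app (op V) t) = π.hom.app (op W) (G.obj.map g'.op t) :=
      (ConcreteCategory.congr_hom (π.hom.naturality g'.op) t).symm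
    rw [h1, ← ht, h2, ← map_nsmul, hmt, map_zero]

/-- A subsheaf of an `L`-torsion sheaf is `L`-torsion. -/
theorem isLTorsion_of_mono {X : Scheme.{u}} (L : Set ℕ) {F G : EtCoh.Ab X} (ι : F ⟶ G) [Mono ι]
    (hG : EtAcyc.IsLTorsion L G) : EtAcyc.IsLTorsion L F := by
  intro U s x
  obtain ⟨W, g', m, hw, hm, hmt⟩ := hG U (ι.hom.app (op U) s) x
  refine ⟨W, g', m, hw, hm, ?_⟩
  have h1 : Mono ((sheafToPresheaf _ _).map ι) := inferInstance
  have h2 : Mono (((sheafToPresheaf _ _).map ι).app (op W)) := inferInstance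
  have hinj : Function.Injective (ι.hom.app (op W)) := (AddCommGrpCat.mono_iff_injective _).1 h2
  apply hinj
  have h3 : G.obj.map g'.op (ι.hom.app (op U) s) = ι.hom.app (op W) (F.obj.map g'.op s) :=
    (ConcreteCategory.congr_hom (ι.hom.naturality g'.op) s).symm
  rw [map_nsmul, ← h3, hmt, map_zero]

end Groth.Agent.Lib.EtLTorsion
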