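import Groth.Agent.Lib.EtLiftClosed
import Mathlib.AlgebraicGeometry.Morphisms.FlatMono

/-!
# Lifting etale schemes along closed immersions, Zariski locally (helper39)

Refinements of `Lib/EtLiftClosed`:
* `lift_bijective_of_pow`, `selfPresentation`: bookkeeping for standard etale pairs;
* `exists_etale_lift_loc`: in `exists_etale_lift` the map `θ : B → A' ⊗_A C` is a localization of
  `B` at an element not vanishing at the given point;
* `exists_lift_etale_nbhd_openImm`: for a closed immersion `f : X ⟶ Y`, an etale `X`-scheme `U` and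
  a point `u` of `U` there are an etale `Y`-scheme `V` and an OPEN IMMERSION `h : V ×_Y X ⟶ U` over
  `X` whose image contains `u`.
-/

set_option autoImplicit false
universe u
open CategoryTheory CategoryTheory.Limits AlgebraicGeometry Opposite TensorProduct Polynomial

namespace Groth.Agent.Lib.EtLiftClosed

/-- the tautological standard etale presentation of `Q.Ring` -/
noncomputable def selfPresentation {R : Type u} [CommRing R] (Q : StandardEtalePair R) :
    StandardEtalePresentation R Q.Ring :=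
  ⟨Q, Q.X, Q.hasMap_X, by simpa [StandardEtalePair.lift_X_left] using Function.bijective_id⟩

/-- two standard etale pairs with the same `f` and with `g`'s differing by a positive power have
isomorphic rings -/
lemma lift_bijective_of_pow {R S : Type u} [CommRing R] [CommRing S] [Algebra R S]
    (P Q : StandardEtalePair R) (n : ℕ) (hf : Q.f = P.f) (hg : Q.g = P.g ^ (n + 1))
    (x : S) (hx : Q.HasMap x) (hbij : Function.Bijective (Q.lift x hx)) :
    Function.Bijective (P.lift x (hasMap_of_pow P Q n hf hg hx)) := by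
  have h3 : P.HasMap Q.X := hasMap_of_pow P Q n hf hg Q.hasMap_X
  have h4 : Q.HasMap P.X := hasMap_pow P Q n hf hg P.hasMap_X
  have e1 : (Q.lift P.X h4).comp (P.lift Q.X h3) = AlgHom.id R P.Ring := by
    apply StandardEtalePair.hom_ext
    simp
  have e2 : (P.lift Q.X h3).comp (Q.lift P.X h4) = AlgHom.id R Q.Ring := by
    apply StandardEtalePair.hom_ext
    simp
  have hb : Function.Bijective (P.lift Q.X h3) := by
    refine ⟨Function.LeftInverse.injective (g := Q.lift P.X h4) (fun a => ?_),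
      Function.RightInverse.surjective (g := Q.lift P.X h4) (fun a => ?_)⟩
    · exact congrArg (fun k : P.Ring →ₐ[R] P.Ring => k a) e1
    · exact congrArg (fun k : Q.Ring →ₐ[R] Q.Ring => k a) e2
  have e3 : P.lift x (hasMap_of_pow P Q n hf hg hx) = (Q.lift x hx).comp (P.lift Q.X h3) := by
    apply StandardEtalePair.hom_ext
    simp
  rw [e3]
  exact hbij.comp hb


/-- refinement of `exists_etale_lift`: the map `θ` is a localization at an element `g` not vanishing
at the given point -/
theorem exists_etale_lift_loc {A A' B K : Type u} [CommRing A] [CommRing A'] [CommRing B] [Field K]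
    [Algebra A A'] (hπ : Function.Surjective (algebraMap A A')) [Algebra A' B] [Algebra.Etale A' B]
    (φ : B →+* K) :
    ∃ (C : Type u) (_ : CommRing C) (_ : Algebra A C) (_ : Algebra.Etale A C)
      (θ : B →ₐ[A'] (A' ⊗[A] C)) (Ψ : A' ⊗[A] C →+* K) (g : B)
      (e : Localization.Away g ≃+* A' ⊗[A] C),
      Ψ.comp θ.toRingHom = φ ∧
        θ.toRingHom = e.toRingHom.comp (algebraMap B (Localization.Away g)) := by
  -- the prime `q = ker φ`
  have hq : (RingHom.ker φ).IsPrime := RingHom.ker_isPrime φ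
  obtain ⟨g, hg, hstd⟩ := Algebra.IsEtaleAt.exists_isStandardEtale (R := A') (RingHom.ker φ)
  have hgu : IsUnit (φ g) := by
    rw [isUnit_iff_ne_zero]
    exact fun h => hg ((RingHom.mem_ker).2 h)
  let P := hstd.nonempty_standardEtalePresentation.some
  let φg : Localization.Away g →+* K := IsLocalization.Away.lift g hgu
  have hφg : φg.comp (algebraMap B (Localization.Away g)) = φ := IsLocalization.Away.lift_comp _ _
  obtain ⟨Q, n, hQf, hQg⟩ := exists_standardEtalePair_lift (algebraMap A A') hπ P.P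
  -- algebra structures on `K`
  let algA'K : Algebra A' K := (φ.comp (algebraMap A' B)).toAlgebra
  let algAK : Algebra A K := ((φ.comp (algebraMap A' B)).comp (algebraMap A A')).toAlgebra
  have : IsScalarTower A A' K := IsScalarTower.of_algebraMap_eq fun _ => rfl
  -- `φg` as an `A'`-algebra map
  let φg' : Localization.Away g →ₐ[A'] K :=
    { φg with
      commutes' := fun r => by
        show φg (algebraMap A' (Localization.Away g) r) = φ (algebraMap A' B r)
        rw [IsScalarTower.algebraMap_apply A' B (Localization.Away g), ← hφg]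
        rfl }
  let ω : K := φg P.x
  have hω' : P.HasMap ω := P.hasMap.map φg'
  have hω : Q.HasMap ω := by
    have h1 : (Q.map (algebraMap A A')).HasMap ω :=
      hasMap_pow P.P (Q.map (algebraMap A A')) n hQf hQg hω'
    refine ⟨?_, ?_⟩
    · have := h1.1
      simpa [StandardEtalePair.map] using this
    · have := h1.2
      simpa [StandardEtalePair.map] using this
  let χ : Q.Ring →ₐ[A] K := Q.lift ω hω
  let xbar : A' ⊗[A] Q.Ring := (1 : A') ⊗ₜ[A] Q.X
  have h2 : (Q.map (algebraMap A A')).HasMap xbar :=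
    ((selfPresentation Q).baseChange (T := A')).hasMap
  have hbij2 : Function.Bijective ((Q.map (algebraMap A A')).lift xbar h2) :=
    ((selfPresentation Q).baseChange (T := A')).lift_bijective
  have hxbar : P.HasMap xbar := hasMap_of_pow P.P (Q.map (algebraMap A A')) n hQf hQg h2
  have hbij : Function.Bijective (P.lift xbar hxbar) :=
    lift_bijective_of_pow P.P (Q.map (algebraMap A A')) n hQf hQg xbar h2 hbij2
  let θ : B →ₐ[A'] (A' ⊗[A] Q.Ring) :=
    ((P.lift xbar hxbar).comp P.equivRing.toAlgHom).comp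
      (IsScalarTower.toAlgHom A' B (Localization.Away g))
  let Ψ : A' ⊗[A] Q.Ring →ₐ[A'] K :=
    Algebra.TensorProduct.lift (Algebra.ofId A' K) χ (fun _ _ => Commute.all _ _)
  let e : Localization.Away g ≃+* A' ⊗[A] Q.Ring :=
    (P.equivRing.toRingEquiv).trans (RingEquiv.ofBijective (P.lift xbar hxbar) hbij)
  refine ⟨Q.Ring, inferInstance, inferInstance, inferInstance, θ, Ψ.toRingHom, g, e, ?_, ?_⟩
  · have key : (Ψ.comp (P.lift xbar hxbar)) = φg'.comp P.equivRing.symm.toAlgHom := by
      apply StandardEtalePair.hom_ext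
      simp [Ψ, xbar, χ, φg', ω]
    ext b
    have := congrArg (fun (h : P.Ring →ₐ[A'] K) => h (P.equivRing (algebraMap B _ b))) key
    simp only [AlgHom.comp_apply] at this
    simp [θ, this, φg', ← hφg]
  · ext b
    rfl

variable {X Y : Scheme.{u}} (f : X ⟶ Y) [IsClosedImmersion f]

/-- refinement of `exists_lift_etale_nbhd`: the morphism `h` can be chosen to be an open immersion -/
theorem exists_lift_etale_nbhd_openImm (U : X.Etale) (u : U.left) :
    ∃ (V : Y.Etale) (h : (EtCoh.bc f).obj V ⟶ U) (p : ((EtCoh.bc f).obj V).left),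
      IsOpenImmersion h.left ∧ h.left p = u := by
  -- affine opens
  obtain ⟨Y0, hY0, hyY0, -⟩ := exists_isAffineOpen_mem_and_subset
    (show f (U.hom u) ∈ (⊤ : Y.Opens) from trivial)
  have hX0 : IsAffineOpen (f ⁻¹ᵁ Y0) := hY0.preimage f
  obtain ⟨T0, hT0, huT0, hT0le⟩ := exists_isAffineOpen_mem_and_subset
    (show u ∈ U.hom ⁻¹ᵁ (f ⁻¹ᵁ Y0) from hyY0)
  -- the rings
  let πc : Γ(Y, Y0) ⟶ Γ(X, f ⁻¹ᵁ Y0) := f.appLE Y0 (f ⁻¹ᵁ Y0) le_rfl
  let βc : Γ(X, f ⁻¹ᵁ Y0) ⟶ Γ(U.left, T0) := U.hom.appLE (f ⁻¹ᵁ Y0) T0 hT0le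
  have hπ : Function.Surjective πc.hom := by
    have := f.app_surjective Y0 hY0
    rwa [Scheme.Hom.app_eq_appLE] at this
  have hβ : βc.hom.Etale :=
    HasRingHomProperty.appLE (P := @Etale) U.hom U.prop ⟨_, hX0⟩ ⟨_, hT0⟩ hT0le
  let algπ : Algebra Γ(Y, Y0) Γ(X, f ⁻¹ᵁ Y0) := πc.hom.toAlgebra
  let algβ : Algebra Γ(X, f ⁻¹ᵁ Y0) Γ(U.left, T0) := βc.hom.toAlgebra
  have : Algebra.Etale Γ(X, f ⁻¹ᵁ Y0) Γ(U.left, T0) := hβ
  let φc : Γ(U.left, T0) ⟶ U.left.residueField u := U.left.evaluation T0 u huT0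
  obtain ⟨C, _, _, _, θ, Ψ, g, e, hΨ, hθe⟩ := exists_etale_lift_loc (A := Γ(Y, Y0))
    (A' := Γ(X, f ⁻¹ᵁ Y0)) (B := Γ(U.left, T0)) (K := U.left.residueField u) hπ φc.hom
  -- the etale `Y`-scheme `V`
  let γc : Γ(Y, Y0) ⟶ CommRingCat.of C := CommRingCat.ofHom (algebraMap Γ(Y, Y0) C)
  have hγ : Etale (Spec.map γc) :=
    (HasRingHomProperty.Spec_iff (P := @Etale)).2 (RingHom.etale_algebraMap.2 inferInstance)
  let Vhom : Spec (CommRingCat.of C) ⟶ Y := Spec.map γc ≫ hY0.fromSpec
  have hVhom : Etale Vhom := inferInstance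
  let V : Y.Etale := Scheme.Etale.mk Vhom
  let pr1 : pullback Vhom f ⟶ Spec (CommRingCat.of C) := pullback.fst Vhom f
  let pr2 : pullback Vhom f ⟶ X := pullback.snd Vhom f
  have hrange : Set.range pr2 ⊆ Set.range hX0.fromSpec := by
    rintro _ ⟨p, rfl⟩
    rw [hX0.range_fromSpec]
    show f (pr2 p) ∈ Y0
    have h1 : f (pr2 p) = Vhom (pr1 p) := by
      have := congrArg (fun k : pullback Vhom f ⟶ Y => k p) (pullback.condition (f := Vhom) (g := f))
      exact this.symm
    rw [h1]
    have h2 : Vhom (pr1 p) ∈ Set.range hY0.fromSpec := ⟨Spec.map γc (pr1 p), rfl⟩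
    rw [hY0.range_fromSpec] at h2
    exact h2
  let pr2' : pullback Vhom f ⟶ Spec Γ(X, f ⁻¹ᵁ Y0) := IsOpenImmersion.lift hX0.fromSpec pr2 hrange
  have hpr2' : pr2' ≫ hX0.fromSpec = pr2 := IsOpenImmersion.lift_fac _ _ _
  have e1 : Spec.map πc ≫ hY0.fromSpec = hX0.fromSpec ≫ f :=
    IsAffineOpen.SpecMap_appLE_fromSpec f hY0 hX0 le_rfl
  have e2 : Spec.map βc ≫ hX0.fromSpec = hT0.fromSpec ≫ U.hom :=
    IsAffineOpen.SpecMap_appLE_fromSpec U.hom hX0 hT0 hT0le
  have cond : pr2' ≫ Spec.map πc = pr1 ≫ Spec.map γc := by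
    rw [← cancel_mono hY0.fromSpec, Category.assoc, Category.assoc, e1, ← Category.assoc, hpr2']
    exact pullback.condition.symm
  -- the map to `Spec (A' ⊗ C)`
  let m : pullback Vhom f ⟶ pullback (Spec.map (CommRingCat.ofHom (algebraMap Γ(Y, Y0) Γ(X, f ⁻¹ᵁ Y0))))
      (Spec.map (CommRingCat.ofHom (algebraMap Γ(Y, Y0) C))) := pullback.lift pr2' pr1 cond
  let iso := pullbackSpecIso Γ(Y, Y0) Γ(X, f ⁻¹ᵁ Y0) C
  let θc : Γ(U.left, T0) ⟶ CommRingCat.of (Γ(X, f ⁻¹ᵁ Y0) ⊗[Γ(Y, Y0)] C) :=
    CommRingCat.ofHom θ.toRingHom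
  let hl : pullback Vhom f ⟶ U.left := m ≫ iso.hom ≫ Spec.map θc ≫ hT0.fromSpec
  have hθβ : βc ≫ θc = CommRingCat.ofHom
      (Algebra.TensorProduct.includeLeftRingHom : Γ(X, f ⁻¹ᵁ Y0) →+* Γ(X, f ⁻¹ᵁ Y0) ⊗[Γ(Y, Y0)] C) := by
    ext a
    exact θ.commutes a
  have hover : hl ≫ U.hom = pr2 := by
    show (m ≫ iso.hom ≫ Spec.map θc ≫ hT0.fromSpec) ≫ U.hom = pr2
    simp only [Category.assoc]
    rw [← e2, ← Spec.map_comp_assoc, hθβ, pullbackSpecIso_hom_fst_assoc]
    rw [pullback.lift_fst_assoc, hpr2']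
  -- the point
  let Ψc : CommRingCat.of (Γ(X, f ⁻¹ᵁ Y0) ⊗[Γ(Y, Y0)] C) ⟶ U.left.residueField u :=
    CommRingCat.ofHom Ψ
  have hΨc : θc ≫ Ψc = φc := by
    ext b
    exact congrArg (fun k : Γ(U.left, T0) →+* U.left.residueField u => k b) hΨ
  let sK' := Spec.map Ψc ≫ iso.inv
  let b' := sK' ≫ pullback.fst _ _
  let a := sK' ≫ pullback.snd _ _
  have cond2 : a ≫ Vhom = (b' ≫ hX0.fromSpec) ≫ f := by
    show (sK' ≫ pullback.snd _ _) ≫ Spec.map γc ≫ hY0.fromSpec =
      ((sK' ≫ pullback.fst _ _) ≫ hX0.fromSpec) ≫ f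
    simp only [Category.assoc]
    rw [← e1]
    have := pullback.condition (f := Spec.map (CommRingCat.ofHom (algebraMap Γ(Y, Y0) Γ(X, f ⁻¹ᵁ Y0))))
      (g := Spec.map (CommRingCat.ofHom (algebraMap Γ(Y, Y0) C)))
    rw [← reassoc_of% this]
    rfl
  let sK : Spec (U.left.residueField u) ⟶ pullback Vhom f := pullback.lift a (b' ≫ hX0.fromSpec) cond2
  have hsKm : sK ≫ m = sK' := by
    apply pullback.hom_ext
    · rw [Category.assoc, pullback.lift_fst, ← cancel_mono hX0.fromSpec, Category.assoc, hpr2']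
      exact pullback.lift_snd _ _ _
    · rw [Category.assoc, pullback.lift_snd]
      exact pullback.lift_fst _ _ _
  have hsKh : sK ≫ hl = U.left.fromSpecResidueField u := by
    show sK ≫ m ≫ iso.hom ≫ Spec.map θc ≫ hT0.fromSpec = _
    rw [← Category.assoc, hsKm]
    show (Spec.map Ψc ≫ iso.inv) ≫ iso.hom ≫ Spec.map θc ≫ hT0.fromSpec = _
    rw [Category.assoc, Iso.inv_hom_id_assoc, ← Spec.map_comp_assoc, hΨc]
    have e3 := hT0.fromSpecStalk_eq_fromSpecStalk huT0
    calc Spec.map φc ≫ hT0.fromSpec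
        = Spec.map (U.left.residue u) ≫ (Spec.map (U.left.presheaf.germ T0 u huT0) ≫ hT0.fromSpec) := by
          rw [← Spec.map_comp_assoc]
          rfl
      _ = Spec.map (U.left.residue u) ≫ U.left.fromSpecStalk u :=
          congrArg (fun k => Spec.map (U.left.residue u) ≫ k) e3
  let pt : Spec (U.left.residueField u) := Classical.arbitrary _
  -- `hl` is an open immersion
  have hθopen : IsOpenImmersion (Spec.map θc) := by
    have e1 : θc = CommRingCat.ofHom (algebraMap Γ(U.left, T0) (Localization.Away g)) ≫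
        e.toCommRingCatIso.hom := by
      ext b
      exact congrArg (fun k : Γ(U.left, T0) →+* Γ(X, f ⁻¹ᵁ Y0) ⊗[Γ(Y, Y0)] C => k b) hθe
    rw [e1, Spec.map_comp]
    infer_instance
  have hm : Mono m := by
    refine ⟨fun a b hab => ?_⟩
    apply pullback.hom_ext
    · have h1 := congrArg (· ≫ pullback.snd _ _) hab
      simp only [Category.assoc] at h1
      have h2 : m ≫ pullback.snd _ _ = pr1 := pullback.lift_snd _ _ _
      rw [h2] at h1
      exact h1
    · have h1 := congrArg (· ≫ pullback.fst _ _ ≫ hX0.fromSpec) hab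
      simp only [Category.assoc] at h1
      have h2 : m ≫ pullback.fst _ _ ≫ hX0.fromSpec = pr2 := by
        rw [← Category.assoc, pullback.lift_fst, hpr2']
      rw [h2] at h1
      exact h1
  have hmono : Mono hl := by
    have : Mono (Spec.map θc ≫ hT0.fromSpec) := mono_comp _ _
    have : Mono (iso.hom ≫ Spec.map θc ≫ hT0.fromSpec) := mono_comp _ _
    exact mono_comp _ _
  let H : (EtCoh.bc f).obj V ⟶ U := MorphismProperty.Over.homMk hl hover trivial
  have hHet : Etale H.left := inferInstance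
  have hopen : IsOpenImmersion H.left := by
    have : Mono H.left := hmono
    exact IsOpenImmersion.of_flat_of_mono _
  refine ⟨V, H, sK pt, hopen, ?_⟩
  show hl (sK pt) = u
  have := congrArg (fun k : Spec (U.left.residueField u) ⟶ U.left => k pt) hsKh
  exact this.trans (Scheme.fromSpecResidueField_apply _ _)


end Groth.Agent.Lib.EtLiftClosed
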