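import Groth.Prelude.Def_RDer

/-!
# `RDer.homologyComparison` is an isomorphism for complexes of injectives exact in low degrees (helper65)

Generic homological algebra (Mathlib + `Def_RDer` only).

* `isColimitMapCokernelCoforkOfRegular`: an additive functor preserves the cokernel of a
  (von Neumann) regular morphism `f` (`f ≫ g ≫ f = f`).
* `exists_regular_toCycles`: if `Z^p K` and `K^p` are injective, `K^p ⟶ Z^{p+1} K` is regular.
* `injective_cycles`: for a cochain complex of injectives exact in degrees `≤ p`, `Z^p K` is injective.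
* `isIso_cyclesComparison`: `RDer.cyclesComparison` is always an isomorphism.
* `isIso_homologyComparison`: for a cochain complex `K` of injectives exact in degrees `< n` and a
  left exact additive `Ψ`, `H^n (Ψ K) ⟶ Ψ (H^n K)` is an isomorphism.
* `isIso_edgeOut`: if `Φ` preserves injectives and `R^p Φ X = 0` for `p < n`, then
  `RDer.edgeOut Φ Ψ n X` is an isomorphism.
-/

set_option autoImplicit false
universe v₁ v₂ v₃ u₁ u₂ u₃
open CategoryTheory CategoryTheory.Limits HomologicalComplex

namespace Groth.Agent.Lib.HCompInj65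

section Regular

variable {B : Type u₂} [Category.{v₂} B] [Abelian B] {C : Type u₃} [Category.{v₃} C] [Abelian C]

/-- an additive functor preserves the cokernel of a von Neumann regular morphism -/
noncomputable def isColimitMapCokernelCoforkOfRegular {X Y : B} (f : X ⟶ Y) (g : Y ⟶ X)
    (h : f ≫ g ≫ f = f) {H : B} (π : Y ⟶ H) (w : f ≫ π = 0)
    (hc : IsColimit (CokernelCofork.ofπ π w)) (Ψ : B ⥤ C) [Ψ.Additive] :
    IsColimit (CokernelCofork.ofπ (f := Ψ.map f) (Ψ.map π)
      (by rw [← Ψ.map_comp, w, Ψ.map_zero])) := by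
  -- the section `s : H ⟶ Y` with `π ≫ s = 𝟙 - g ≫ f`
  have hw : f ≫ (𝟙 Y - g ≫ f) = 0 := by
    rw [Preadditive.comp_sub, Category.comp_id, h, sub_self]
  let s : H ⟶ Y := hc.desc (CokernelCofork.ofπ (𝟙 Y - g ≫ f) hw)
  have hs : π ≫ s = 𝟙 Y - g ≫ f := hc.fac (CokernelCofork.ofπ (𝟙 Y - g ≫ f) hw)
    WalkingParallelPair.one
  have hs' : s ≫ π = 𝟙 H := by
    apply Cofork.IsColimit.hom_ext hc
    simp only [Cofork.π_ofπ]
    rw [← Category.assoc, hs, Preadditive.sub_comp, Category.id_comp, Category.assoc, w,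
      comp_zero, sub_zero]
    exact (Category.comp_id _).symm
  refine CokernelCofork.IsColimit.ofπ _ _ (fun {T} t _ => Ψ.map s ≫ t) ?_ ?_
  · intro T t ht
    rw [← Category.assoc, ← Ψ.map_comp, hs, Ψ.map_sub, Ψ.map_id, Preadditive.sub_comp,
      Category.id_comp, Ψ.map_comp, Category.assoc, ht, comp_zero, sub_zero]
  · intro T t ht m hm
    rw [← hm, ← Category.assoc, ← Ψ.map_comp, hs', Ψ.map_id, Category.id_comp]

end Regular

section Cycles

variable {B : Type u₂} [Category.{v₂} B] [Abelian B]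

lemma exists_regular_toCycles (K : CochainComplex B ℕ) (p : ℕ) [Injective (K.cycles p)]
    [Injective (K.X p)] :
    ∃ g : K.cycles (p + 1) ⟶ K.X p,
      K.toCycles p (p + 1) ≫ g ≫ K.toCycles p (p + 1) = K.toCycles p (p + 1) := by
  have hnext : (ComplexShape.up ℕ).next p = p + 1 := by simp
  have hS : (ShortComplex.mk (K.iCycles p) (K.d p (p + 1)) (K.iCycles_d p (p + 1))).Exact :=
    ShortComplex.exact_of_f_is_kernel _ (K.cyclesIsKernel p (p + 1) hnext)
  -- a retraction of `Z^p ⟶ K^p`
  let r : K.X p ⟶ K.cycles p := Injective.factorThru (𝟙 _) (K.iCycles p)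
  have hr : K.iCycles p ≫ r = 𝟙 _ := Injective.comp_factorThru _ _
  have he : K.iCycles p ≫ (𝟙 (K.X p) - r ≫ K.iCycles p) = 0 := by
    rw [Preadditive.comp_sub, Category.comp_id, ← Category.assoc, hr, Category.id_comp, sub_self]
  let g' : K.X (p + 1) ⟶ K.X p := hS.descToInjective (𝟙 (K.X p) - r ≫ K.iCycles p) he
  have hg' : K.d p (p + 1) ≫ g' = 𝟙 (K.X p) - r ≫ K.iCycles p :=
    hS.comp_descToInjective _ _
  refine ⟨K.iCycles (p + 1) ≫ g', ?_⟩
  rw [← cancel_mono (K.iCycles (p + 1))]
  have h1 := K.toCycles_i p (p + 1)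
  simp only [Category.assoc]
  rw [h1, reassoc_of% h1, reassoc_of% hg', Preadditive.sub_comp, Category.id_comp, Category.assoc,
    K.iCycles_d, comp_zero, sub_zero]

lemma injective_cycles (K : CochainComplex B ℕ) [∀ p, Injective (K.X p)] (p : ℕ)
    (h : ∀ q ≤ p, K.ExactAt q) : Injective (K.cycles p) := by
  induction p with
  | zero =>
    have h0 := h 0 le_rfl
    rw [exactAt_iff_isZero_homology] at h0
    exact (h0.of_iso K.isoHomologyπ₀).injective
  | succ p ih =>
    have : Injective (K.cycles p) := ih (fun q hq => h q (hq.trans (Nat.le_succ p)))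
    obtain ⟨g, hg⟩ := exists_regular_toCycles K p
    have hex := h (p + 1) le_rfl
    have key : ∀ i (_ : (ComplexShape.up ℕ).prev (p + 1) = i), Epi (K.toCycles i (p + 1)) := by
      intro i hi
      subst hi
      exact ShortComplex.Exact.epi_toCycles hex
    have hepi : Epi (K.toCycles p (p + 1)) := key p (CochainComplex.prev_nat_succ p)
    have hg' : g ≫ K.toCycles p (p + 1) = 𝟙 _ := by
      rw [← cancel_epi (K.toCycles p (p + 1)), hg, Category.comp_id]
    exact (Retract.mk g (K.toCycles p (p + 1)) hg').injective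

end Cycles

section Main

variable {B : Type u₂} [Category.{v₂} B] [Abelian B] {C : Type u₃} [Category.{v₃} C] [Abelian C]
  (Ψ : B ⥤ C) [Ψ.Additive] [PreservesFiniteLimits Ψ]

instance isIso_cyclesComparison {ι' : Type*} {c : ComplexShape ι'} (K : HomologicalComplex B c)
    (i : ι') : IsIso (RDer.cyclesComparison Ψ K i) := by
  let L := (Ψ.mapHomologicalComplex c).obj K
  let k : Ψ.obj (K.cycles i) ⟶ L.X i := Ψ.map (K.iCycles i)
  have hw : k ≫ L.d i (c.next i) = 0 := by
    show Ψ.map (K.iCycles i) ≫ Ψ.map (K.d i (c.next i)) = 0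
    rw [← Ψ.map_comp, K.iCycles_d, Ψ.map_zero]
  have h1 : L.liftCycles k (c.next i) rfl hw ≫ L.iCycles i = k := L.liftCycles_i k _ rfl hw
  have h2 : RDer.cyclesComparison Ψ K i ≫ k = L.iCycles i := RDer.cyclesComparison_i Ψ K i
  refine ⟨L.liftCycles k (c.next i) rfl hw, ?_, ?_⟩
  · rw [← cancel_mono (L.iCycles i), Category.assoc, h1, h2, Category.id_comp]
  · apply Fork.IsLimit.hom_ext (KernelFork.mapIsLimit _ (K.cyclesIsKernel i (c.next i) rfl) Ψ)
    show (L.liftCycles k (c.next i) rfl hw ≫ RDer.cyclesComparison Ψ K i) ≫ k = 𝟙 _ ≫ k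
    rw [Category.assoc, h2, h1, Category.id_comp]

theorem isIso_homologyComparison (K : CochainComplex B ℕ) [∀ p, Injective (K.X p)] (n : ℕ)
    (h : ∀ q < n, K.ExactAt q) : IsIso (RDer.homologyComparison Ψ K n) := by
  -- regularity of `K^{n-1} ⟶ Z^n`
  obtain ⟨g, hg⟩ : ∃ g : K.cycles n ⟶ K.X ((ComplexShape.up ℕ).prev n),
      K.toCycles ((ComplexShape.up ℕ).prev n) n ≫ g ≫ K.toCycles ((ComplexShape.up ℕ).prev n) n =
        K.toCycles ((ComplexShape.up ℕ).prev n) n := by
    cases n with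
    | zero =>
      refine ⟨0, ?_⟩
      have : K.toCycles ((ComplexShape.up ℕ).prev 0) 0 = 0 := by
        rw [← cancel_mono (K.iCycles 0), toCycles_i, zero_comp]
        exact K.shape _ _ (by simp)
      rw [this, zero_comp]
    | succ m =>
      rw [CochainComplex.prev_nat_succ]
      have : Injective (K.cycles m) := injective_cycles K m (fun q hq => h q (Nat.lt_succ_of_le hq))
      exact exists_regular_toCycles K m
  let L := (Ψ.mapHomologicalComplex (ComplexShape.up ℕ)).obj K
  have hcol2 := isColimitMapCokernelCoforkOfRegular (K.toCycles ((ComplexShape.up ℕ).prev n) n) g hg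
    (K.homologyπ n) (K.toCycles_comp_homologyπ ((ComplexShape.up ℕ).prev n) n)
    (K.homologyIsCokernel ((ComplexShape.up ℕ).prev n) n rfl) Ψ
  have hcc := isIso_cyclesComparison Ψ K n
  let f' : L.X ((ComplexShape.up ℕ).prev n) ⟶ Ψ.obj (K.cycles n) :=
    Ψ.map (K.toCycles ((ComplexShape.up ℕ).prev n) n)
  have e1 : L.toCycles ((ComplexShape.up ℕ).prev n) n ≫ RDer.cyclesComparison Ψ K n = f' :=
    RDer.toCycles_cyclesComparison Ψ K n
  have e2 : L.homologyπ n ≫ RDer.homologyComparison Ψ K n =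
      RDer.cyclesComparison Ψ K n ≫ Ψ.map (K.homologyπ n) := RDer.homologyπ_homologyComparison Ψ K n
  have hw : f' ≫ inv (RDer.cyclesComparison Ψ K n) ≫ L.homologyπ n = 0 := by
    rw [← e1, Category.assoc, IsIso.hom_inv_id_assoc, toCycles_comp_homologyπ]
  have e3 : Ψ.map (K.homologyπ n) ≫ hcol2.desc (CokernelCofork.ofπ _ hw) =
      inv (RDer.cyclesComparison Ψ K n) ≫ L.homologyπ n :=
    hcol2.fac (CokernelCofork.ofπ _ hw) WalkingParallelPair.one
  refine ⟨hcol2.desc (CokernelCofork.ofπ _ hw), ?_, ?_⟩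
  · rw [← cancel_epi (L.homologyπ n), reassoc_of% e2, e3, IsIso.hom_inv_id_assoc, Category.comp_id]
  · apply Cofork.IsColimit.hom_ext hcol2
    show Ψ.map (K.homologyπ n) ≫ hcol2.desc (CokernelCofork.ofπ _ hw) ≫ RDer.homologyComparison Ψ K n =
      Ψ.map (K.homologyπ n) ≫ 𝟙 _
    rw [reassoc_of% e3, e2, IsIso.inv_hom_id_assoc, Category.comp_id]

end Main

section Edge

variable {A : Type u₁} [Category.{v₁} A] [Abelian A] [HasInjectiveResolutions A]
  {B : Type u₂} [Category.{v₂} B] [Abelian B]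
  {C : Type u₃} [Category.{v₃} C] [Abelian C]

/-- If `Φ` preserves injectives and `R^p Φ X = 0` for `p < n`, the second edge map
`R^n (Φ ⋙ Ψ) X ⟶ Ψ (R^n Φ X)` is an isomorphism. -/
theorem isIso_edgeOut (Φ : A ⥤ B) [Φ.Additive] [Φ.PreservesInjectiveObjects] (Ψ : B ⥤ C) [Ψ.Additive]
    [PreservesFiniteLimits Ψ] (n : ℕ) (X : A)
    (h : ∀ p < n, IsZero ((Φ.rightDerived p).obj X)) : IsIso (RDer.edgeOut Φ Ψ n X) := by
  have hex : ∀ q < n, ((Φ.mapHomologicalComplex _).obj (injectiveResolution X).cocomplex).ExactAt q := by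
    intro q hq
    rw [exactAt_iff_isZero_homology]
    exact (h q hq).of_iso ((injectiveResolution X).isoRightDerivedObj Φ q).symm
  have := isIso_homologyComparison Ψ ((Φ.mapHomologicalComplex _).obj (injectiveResolution X).cocomplex) n hex
  have h1 : IsIso ((injectiveResolution X).isoRightDerivedObj (Φ ⋙ Ψ) n).hom := inferInstance
  have h3 : IsIso (Ψ.map ((injectiveResolution X).isoRightDerivedObj Φ n).inv) := inferInstance
  unfold RDer.edgeOut
  exact @IsIso.comp_isIso _ _ _ _ _ _ _ h1 (@IsIso.comp_isIso _ _ _ _ _ _ _ this h3)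

end Edge

end Groth.Agent.Lib.HCompInj65
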