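import Groth.Prelude.Def_EtDepth
import Groth.Agent.Lib.EtShriekConst
import Groth.Agent.Lib.EtExtZero2
import Groth.Agent.Lib.EtJCont
import Groth.Agent.Lib.HCompInj65

/-!
# Sections with support preserve injectives (helper65)

* `injective_kernel_unit`: abstract: for `L ⊣ R ⊣ T` between abelian categories with all counits
  `L R G ⟶ G` monomorphisms, `ker (I ⟶ T R I)` is injective for `I` injective.
* `mono_counit_extZeroAdj`: for a monomorphic étale `j`, `j_! j⁻¹ F ⟶ F` is a monomorphism.
* `preservesInjectiveObjects_secSupp`: `EtDual.secSupp j` preserves injectives (`j` open immersion).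
* `isIso_edgeOut_secSupp`: S5189.
-/

set_option autoImplicit false
universe u
open CategoryTheory CategoryTheory.Limits AlgebraicGeometry Opposite

namespace Groth.Agent.Lib.SecSuppInj65

section Abstract

universe v₁ v₂ u₁ u₂
variable {𝒜 : Type u₁} [Category.{v₁} 𝒜] [Abelian 𝒜] {ℬ : Type u₂} [Category.{v₂} ℬ] [Abelian ℬ]
  {L : ℬ ⥤ 𝒜} {R : 𝒜 ⥤ ℬ} {T : ℬ ⥤ 𝒜} (adj₁ : L ⊣ R) (adj₂ : R ⊣ T)

include adj₂ in
lemma map_eq_zero_of_comp_unit [R.Additive] {A I : 𝒜} (φ : A ⟶ I) (h : φ ≫ adj₂.unit.app I = 0) :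
    R.map φ = 0 := by
  have h1 : adj₂.homEquiv A (R.obj I) (R.map φ) = 0 := by
    rw [Adjunction.homEquiv_unit]
    have := adj₂.unit.naturality φ
    simp only [Functor.id_obj, Functor.comp_obj, Functor.id_map, Functor.comp_map] at this
    rw [← this, h]
  have h2 := congrArg (adj₂.homEquiv A (R.obj I)).symm h1
  rw [Equiv.symm_apply_apply, Adjunction.homEquiv_counit, R.map_zero, zero_comp] at h2
  exact h2

include adj₂ in
lemma comp_unit_eq_zero_of_map [T.Additive] {A I : 𝒜} (φ : A ⟶ I) (h : R.map φ = 0) :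
    φ ≫ adj₂.unit.app I = 0 := by
  have := adj₂.unit.naturality φ
  simp only [Functor.id_obj, Functor.comp_obj, Functor.id_map, Functor.comp_map] at this
  rw [this, h, T.map_zero, comp_zero]

include adj₁ adj₂ in
theorem injective_kernel_unit [R.Additive] [T.Additive] (hε : ∀ G, Mono (adj₁.counit.app G))
    (I : 𝒜) [Injective I] : Injective (kernel (adj₂.unit.app I)) := by
  have : PreservesColimitsOfSize.{0, 0} R := adj₂.leftAdjoint_preservesColimits
  constructor
  intro A B φ f _
  let ι := kernel.ι (adj₂.unit.app I)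
  have hφ : R.map (φ ≫ ι) = 0 :=
    map_eq_zero_of_comp_unit adj₂ _ (by simp [ι])
  let ψ₀ : B ⟶ I := Injective.factorThru (φ ≫ ι) f
  have hψ₀ : f ≫ ψ₀ = φ ≫ ι := Injective.comp_factorThru _ _
  -- `R ψ₀` factors through `R (coker f)`
  have hw : R.map f ≫ R.map ψ₀ = 0 := by rw [← R.map_comp, hψ₀, hφ]
  let θ : R.obj (cokernel f) ⟶ R.obj I :=
    inv (cokernelComparison f R) ≫ cokernel.desc (R.map f) (R.map ψ₀) hw
  have hθ : R.map (cokernel.π f) ≫ θ = R.map ψ₀ := by
    rw [← π_comp_cokernelComparison, Category.assoc, IsIso.hom_inv_id_assoc, cokernel.π_desc]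
  have := hε (cokernel f)
  let χ : cokernel f ⟶ I :=
    Injective.factorThru ((adj₁.homEquiv _ _).symm θ) (adj₁.counit.app (cokernel f))
  have hχ : adj₁.counit.app (cokernel f) ≫ χ = (adj₁.homEquiv _ _).symm θ :=
    Injective.comp_factorThru _ _
  have hRχ : R.map χ = θ := by
    have h1 := congrArg (adj₁.homEquiv _ _) hχ
    rw [Equiv.apply_symm_apply, Adjunction.homEquiv_unit, R.map_comp, ← Category.assoc,
      adj₁.right_triangle_components, Category.id_comp] at h1
    exact h1
  let ψ : B ⟶ I := ψ₀ - cokernel.π f ≫ χ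
  have hψ1 : f ≫ ψ = φ ≫ ι := by
    rw [Preadditive.comp_sub, hψ₀, ← Category.assoc, cokernel.condition, zero_comp, sub_zero]
  have hψ2 : R.map ψ = 0 := by
    rw [R.map_sub, R.map_comp, hRχ, hθ, sub_self]
  have hψ3 : ψ ≫ adj₂.unit.app I = 0 := comp_unit_eq_zero_of_map adj₂ ψ hψ2
  refine ⟨kernel.lift _ ψ hψ3, ?_⟩
  rw [← cancel_mono ι, Category.assoc, kernel.lift_ι, hψ1]

end Abstract

section Etale

open Groth.Agent.Lib.EtExtZero Groth.Agent.Lib.EtStalkConservative Groth.Agent.Lib.EtGerm

variable {U X : Scheme.{u}} (j : U ⟶ X) [hj : AlgebraicGeometry.Etale j] [Mono j] [EtShriek.JCont j]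

/-- for a monomorphic étale `j`, the counit `j_! j⁻¹ F ⟶ F` is a monomorphism -/
lemma mono_counit_extZeroAdj (F : EtCoh.Ab X) : Mono ((EtShriek.extZeroAdj j).counit.app F) := by
  apply Groth.Agent.Lib.EtAbStalk2.mono_of_forall_exists_geomPt
  intro x
  by_cases hx : x ∈ Set.range j
  · obtain ⟨y, rfl⟩ := hx
    refine ⟨_, inferInstance, inferInstance, stdPt y ≫ j, ?_, ?_⟩
    · show j (stdPt y default) = j y
      rw [stdPt_default]
    · have := isIso_stalk_counit j F (stdPt y)
      exact ((ConcreteCategory.isIso_iff_bijective _).1 this).1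
  · refine ⟨_, inferInstance, inferInstance, stdPt x, stdPt_default x, ?_⟩
    have hz := isZero_stalk_extZero j (stdPt x) ((EtShriek.restrAlong j).obj F)
      (isEmpty_lifts j (stdPt x) (by rw [stdPt_default]; exact hx))
    have : Subsingleton ((EtCoh.stalk (stdPt x)).obj
        ((EtShriek.extZero j).obj ((EtShriek.restrAlong j).obj F))) :=
      AddCommGrpCat.subsingleton_of_isZero hz
    exact @Function.injective_of_subsingleton _ _ this _

lemma mono_counit_adjSP (F : EtCoh.Ab X) :
    Mono ((Groth.Agent.Lib.EtShriekConst.adjSP j).counit.app F) := by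
  have := mono_counit_extZeroAdj j F
  have e : (Groth.Agent.Lib.EtShriekConst.adjSP j).counit.app F =
      (EtShriek.extZero j).map ((restrIsoPull j).inv.app F) ≫
        (EtShriek.extZeroAdj j).counit.app F := by
    have h1 := Adjunction.homEquiv_ofNatIsoRight_symm_apply (EtShriek.extZeroAdj j)
      (restrIsoPull j) (𝟙 ((EtCoh.pull j).obj F))
    rw [Adjunction.homEquiv_counit, Adjunction.homEquiv_counit, CategoryTheory.Functor.map_id,
      Category.id_comp, Category.id_comp] at h1
    exact h1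
  rw [e]
  infer_instance

end Etale

section Main

variable {X U : Scheme.{u}} (j : U ⟶ X) [IsOpenImmersion j] [EtCoh.BCCont j]

/-- `Γ_Y` (sections with support in the complement of the open `U`) preserves injectives -/
theorem preservesInjectiveObjects_secSupp : (EtDual.secSupp j).PreservesInjectiveObjects := by
  have : EtShriek.JCont j := Groth.Agent.Lib.EtJCont.jCont j
  constructor
  intro I hI
  show Injective (kernel ((EtCoh.pullPushAdj j).unit.app I))
  exact injective_kernel_unit (Groth.Agent.Lib.EtShriekConst.adjSP j) (EtCoh.pullPushAdj j)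
    (mono_counit_adjSP j) I

/-- S5189: under `DepthGE j F n` the second edge map `H^n_Y(X, F) ⟶ Γ(X, ℋ^n_Y(F))` is an
isomorphism. -/
theorem isIso_edgeOut_secSupp (F : EtCoh.Ab X) (n : ℕ) (h : EtDepth.DepthGE j F n) :
    IsIso (RDer.edgeOut (EtDual.secSupp j)
      (sheafToPresheaf X.smallEtaleTopology AddCommGrpCat.{u+1} ⋙
        (evaluation X.Etaleᵒᵖ AddCommGrpCat.{u+1}).obj (op (EtCoh.top X))) n F) := by
  have := preservesInjectiveObjects_secSupp j
  exact Groth.Agent.Lib.HCompInj65.isIso_edgeOut (EtDual.secSupp j) _ n F h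

end Main

end Groth.Agent.Lib.SecSuppInj65
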