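import Groth.Agent.Lib.ExtVanLES65
import Groth.Agent.Lib.SecSuppInj65
import Groth.Agent.Lib.ExtDerived21
import Groth.Agent.Lib.EtShriekConst

/-!
# `H^p_Y(X, G) ≅ Ext^p(ℤ_Y, G)` and the restriction maps `H^p(X, G) → H^p(U, G|_U)` (helper65)

* `ZY j = coker (j_! ℤ_U → ℤ_X)`, `sc_shortExact`, `corepIso j : Hom(ℤ_Y, −) ≅ Γ_Y(X, −)`,
  `nonempty_HY_iso_ext`.
* `forall_isZero_HY_iff`: `H^p_Y(X, G) = 0` for `p < n` iff `EtCore.Hpull j G p` is bijective for
  `p + 1 < n` and injective for `p + 1 = n`.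
-/

set_option autoImplicit false
universe u
open CategoryTheory CategoryTheory.Limits AlgebraicGeometry Opposite CategoryTheory.Abelian

namespace Groth.Agent.Lib.EtLocCohExt65

open Groth.Agent.Lib.EtShriekConst

variable {X U : Scheme.{u}} (j : U ⟶ X) [IsOpenImmersion j]

lemma eps_eq_map_comp_counit : eps j = (EtShriek.extZero j).map (EtCore.pullConst j ℤ).inv ≫
    (adjSP j).counit.app (EtCoh.const X ℤ) := by
  rw [eps, Adjunction.homEquiv_counit]

instance mono_eps : Mono (eps j) := by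
  rw [eps_eq_map_comp_counit]
  have := Groth.Agent.Lib.SecSuppInj65.mono_counit_adjSP j (EtCoh.const X ℤ)
  infer_instance

/-- `ℤ_Y = coker (j_! ℤ_U → ℤ_X)` -/
noncomputable abbrev ZY : EtCoh.Ab X := cokernel (eps j)

/-- `0 → j_! ℤ_U → ℤ_X → ℤ_Y → 0` -/
noncomputable abbrev sc : ShortComplex (EtCoh.Ab X) :=
  ShortComplex.mk (eps j) (cokernel.π (eps j)) (cokernel.condition _)

lemma sc_shortExact : (sc j).ShortExact where
  exact := ShortComplex.exact_cokernel (eps j)
  mono_f := mono_eps j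
  epi_g := by dsimp [sc]; infer_instance

instance : (EtShriek.extZero j).Additive := (adjSP j).left_adjoint_additive

/-- `φ` kills `j_! ℤ_U` iff it lands in `Γ_Y` -/
lemma eps_comp_eq_zero_iff {G : EtCoh.Ab X} (φ : EtCoh.const X ℤ ⟶ G) :
    eps j ≫ φ = 0 ↔ φ ≫ EtDual.unitApp j G = 0 := by
  have h1 : eps j ≫ φ = ((adjSP j).homEquiv _ _).symm
      ((EtCore.pullConst j ℤ).inv ≫ (EtCoh.pull j).map φ) := by
    rw [Adjunction.homEquiv_naturality_right_symm]
    rfl
  have h2 : φ ≫ EtDual.unitApp j G =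
      (EtCoh.pullPushAdj j).homEquiv _ _ ((EtCoh.pull j).map φ) := by
    rw [Adjunction.homEquiv_unit]
    exact (EtCoh.pullPushAdj j).unit.naturality φ
  rw [h1, h2]
  constructor
  · intro h
    have h3 : (EtCore.pullConst j ℤ).inv ≫ (EtCoh.pull j).map φ = 0 := by
      apply ((adjSP j).homEquiv _ _).symm.injective
      rw [h, Adjunction.homAddEquiv_symm_zero]
    have h4 : (EtCoh.pull j).map φ = 0 := by
      rw [← cancel_epi (EtCore.pullConst j ℤ).inv, h3, comp_zero]
    rw [h4, Adjunction.homAddEquiv_zero]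
  · intro h
    have h4 : (EtCoh.pull j).map φ = 0 := by
      apply ((EtCoh.pullPushAdj j).homEquiv _ _).injective
      rw [h, Adjunction.homAddEquiv_zero]
    rw [h4, comp_zero, Adjunction.homAddEquiv_symm_zero]

section Corep

variable (G : EtCoh.Ab X)

/-- `Hom(ℤ_Y, G) → Hom(ℤ_X, Γ_Y G)` -/
noncomputable def toK : (ZY j ⟶ G) →+ (EtCoh.const X ℤ ⟶ (EtDual.secSupp j).obj G) where
  toFun φ := kernel.lift _ (cokernel.π (eps j) ≫ φ) ((eps_comp_eq_zero_iff j _).1 (by
    rw [cokernel.condition_assoc, zero_comp]))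
  map_zero' := by
    rw [← cancel_mono (kernel.ι (EtDual.unitApp j G)), kernel.lift_ι, zero_comp]
    exact comp_zero
  map_add' φ ψ := by
    rw [← cancel_mono (kernel.ι (EtDual.unitApp j G)), kernel.lift_ι, Preadditive.add_comp,
      kernel.lift_ι, kernel.lift_ι]
    exact Preadditive.comp_add _ _ _ _ _ _

lemma toK_ι (φ : ZY j ⟶ G) :
    toK j G φ ≫ kernel.ι (EtDual.unitApp j G) = cokernel.π (eps j) ≫ φ :=
  kernel.lift_ι _ _ _

/-- `Hom(ℤ_Y, G) ≃+ Hom(ℤ_X, Γ_Y G)` -/
noncomputable def toKEquiv : (ZY j ⟶ G) ≃+ (EtCoh.const X ℤ ⟶ (EtDual.secSupp j).obj G) where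
  __ := toK j G
  invFun ψ := cokernel.desc (eps j) (ψ ≫ kernel.ι (EtDual.unitApp j G))
    ((eps_comp_eq_zero_iff j _).2 (by rw [Category.assoc, kernel.condition, comp_zero]))
  left_inv φ := by
    apply (cancel_epi (cokernel.π (eps j))).1
    rw [cokernel.π_desc]
    exact toK_ι j G φ
  right_inv ψ := by
    apply (cancel_mono (kernel.ι (EtDual.unitApp j G))).1
    show toK j G _ ≫ _ = _
    rw [toK_ι, cokernel.π_desc]

/-- `Hom(ℤ_X, K) ≃+ K(X)` -/
noncomputable def gsecEquiv (K : EtCoh.Ab X) :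
    (EtCoh.const X ℤ ⟶ K) ≃+ K.obj.obj (op (EtCoh.top X)) :=
  ((EtCore.constAdj X).homAddEquiv _ K).trans (AddCommGrpCat.uliftZMultiplesAddEquiv _)

lemma gsecEquiv_naturality {K K' : EtCoh.Ab X} (f : K ⟶ K') (ψ : EtCoh.const X ℤ ⟶ K) :
    gsecEquiv K' (ψ ≫ f) = f.hom.app (op (EtCoh.top X)) (gsecEquiv K ψ) := by
  simp only [gsecEquiv, AddEquiv.trans_apply, Adjunction.homAddEquiv_apply,
    Adjunction.homEquiv_naturality_right]
  rfl

end Corep

/-- `Hom(ℤ_Y, −) ≅ Γ_Y(X, −)` -/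
noncomputable def corepIso : preadditiveCoyoneda.obj (op (ZY j)) ≅ EtDual.gammaSupp j :=
  NatIso.ofComponents
    (fun G => ((toKEquiv j G).trans (gsecEquiv ((EtDual.secSupp j).obj G))).toAddCommGrpIso)
    (by
      intro G G' f
      ext (φ : ZY j ⟶ G)
      show gsecEquiv _ (toK j G' (φ ≫ f)) =
        ((EtDual.secSupp j).map f).hom.app (op (EtCoh.top X)) (gsecEquiv _ (toK j G φ))
      refine (congrArg (gsecEquiv _) ?_).trans (gsecEquiv_naturality _ _)
      apply (cancel_mono (kernel.ι (EtDual.unitApp j G'))).1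
      have e1 : (EtDual.secSupp j).map f ≫ kernel.ι (EtDual.unitApp j G') =
          kernel.ι (EtDual.unitApp j G) ≫ f := kernel.lift_ι _ _ _
      have e2 := toK_ι j G φ
      have e3 := toK_ι j G' (φ ≫ f)
      refine e3.trans ?_
      refine Eq.trans ?_ (Category.assoc _ _ _).symm
      exact ((Category.assoc _ _ _).symm.trans (congrArg (· ≫ f) e2.symm)).trans
        ((Category.assoc _ _ _).trans (congrArg (toK j G φ ≫ ·) e1.symm)))

/-- `H^p_Y(X, G) ≅ Ext^p(ℤ_Y, G)` -/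
theorem nonempty_HY_iso_ext (G : EtCoh.Ab X) (p : ℕ) :
    Nonempty ((EtDual.HY j p).obj G ≅ AddCommGrpCat.of (Ext (ZY j) G p)) :=
  Groth.Agent.Lib.ExtDerived21.nonempty_rightDerived_obj_iso_ext (ZY j) (EtDual.gammaSupp j)
    (corepIso j).symm p G

section Hpull

variable (G : EtCoh.Ab X) [PreservesFiniteLimits (EtCoh.pull j)]

lemma Hpull_eq (p : ℕ) :
    ⇑(EtCore.Hpull j G p) = ⇑(theta j G p) ∘ ⇑((Ext.mk₀ (eps j)).precomp G (zero_add p)) := by
  funext x
  exact (theta_eps j G p x).symm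

lemma isZero_HY_iff (p : ℕ) :
    IsZero ((EtDual.HY j p).obj G) ↔ ∀ x : Ext (ZY j) G p, x = 0 := by
  obtain ⟨e⟩ := nonempty_HY_iso_ext j G p
  rw [e.isZero_iff]
  constructor
  · intro h x
    have := AddCommGrpCat.subsingleton_of_isZero h
    exact Subsingleton.elim (α := Ext (ZY j) G p) x 0
  · intro h
    have : Subsingleton (AddCommGrpCat.of (Ext (ZY j) G p)) :=
      ⟨fun a b => (h a).trans (h b).symm⟩
    exact AddCommGrpCat.isZero_of_subsingleton _

/-- vanishing of `H^p_Y(X, G)` for `p < n` in terms of the restriction maps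
`H^p(X, G) → H^p(U, G|_U)` -/
theorem forall_isZero_HY_iff (n : ℕ) :
    (∀ p : ℕ, p < n → IsZero ((EtDual.HY j p).obj G)) ↔
      (∀ p : ℕ, p + 1 < n → Function.Bijective (EtCore.Hpull j G p)) ∧
      (∀ p : ℕ, p + 1 = n → Function.Injective (EtCore.Hpull j G p)) := by
  have h1 : (∀ p : ℕ, p < n → ∀ x : Ext (ZY j) G p, x = 0) ↔
      (∀ p : ℕ, p + 1 < n → Function.Bijective ((Ext.mk₀ (eps j)).precomp G (zero_add p))) ∧
      (∀ p : ℕ, p + 1 = n → Function.Injective ((Ext.mk₀ (eps j)).precomp G (zero_add p))) :=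
    Groth.Agent.Lib.ExtVanLES65.forall_ext_eq_zero_iff (sc_shortExact j) G n
  have hb : ∀ p : ℕ, Function.Bijective (EtCore.Hpull j G p) ↔
      Function.Bijective ((Ext.mk₀ (eps j)).precomp G (zero_add p)) := by
    intro p
    rw [Hpull_eq]
    exact Function.Bijective.of_comp_iff' (theta j G p).bijective _
  have hi : ∀ p : ℕ, Function.Injective (EtCore.Hpull j G p) ↔
      Function.Injective ((Ext.mk₀ (eps j)).precomp G (zero_add p)) := by
    intro p
    rw [Hpull_eq]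
    exact Function.Injective.of_comp_iff (theta j G p).injective _
  simp only [isZero_HY_iff, hb, hi]
  exact h1

end Hpull

end Groth.Agent.Lib.EtLocCohExt65
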