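import Groth.Agent.Lib.EtOverSite22c

/-!
# Locally constant étale sheaves with general coefficients (helper22)

`IsLC A P F`: the sheaf `F` (values in `A`) is, on some étale covering, isomorphic to constant
sheaves whose values satisfy `P` (over-site form, as in `EtCoh.IsFiniteLocallyConstant` and
`EtModW.IsFTLocConst`).

* `isLC_iff_pull`: the same with `pullA (U i).hom F ≅ const` on the schemes `(U i).left`;
* `IsLC.pull`: stability under inverse image along any morphism;
* `IsLC.of_cover`: étale-local nature;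
* `IsLC.of_iso`.
-/

set_option autoImplicit false
set_option linter.style.haveILetI false
set_option linter.unusedSectionVars false
universe u

open CategoryTheory AlgebraicGeometry Limits MorphismProperty Opposite

namespace Groth.Agent.Lib.EtLocConst22

open Groth.Agent.Lib.EtOverSite22

variable (A : Type (u + 2)) [Category.{u + 1} A]

/-- `F` is locally constant with values satisfying `P` (over-site form). -/
def IsLC [∀ (Y : Scheme.{u}) (V : Y.Etale), HasWeakSheafify (Y.smallEtaleTopology.over V) A]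
    (P : A → Prop) {X : Scheme.{u}} (F : Sheaf X.smallEtaleTopology A) : Prop :=
  ∃ (ι : Type u) (U : ι → X.Etale), EtCoh.Covers U ∧ ∀ i, ∃ M : A, P M ∧
    Nonempty (F.over (U i) ≅ (constantSheaf (X.smallEtaleTopology.over (U i)) A).obj M)

variable [∀ {X Y : Scheme.{u}} (f : X ⟶ Y), (pushA A f).IsRightAdjoint]
  [∀ (Y : Scheme.{u}), HasWeakSheafify Y.smallEtaleTopology A]
  [∀ (Y : Scheme.{u}) (V : Y.Etale), HasWeakSheafify (Y.smallEtaleTopology.over V) A]
  [∀ (Y : Scheme.{u}) (V : Y.Etale) W, HasLimitsOfShape (StructuredArrow W (toOver V).op) A]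

variable {A} {P : A → Prop}

/-- Scheme form of local constancy. -/
theorem isLC_iff_pull {X : Scheme.{u}} (F : Sheaf X.smallEtaleTopology A) :
    IsLC A P F ↔ ∃ (ι : Type u) (U : ι → X.Etale), EtCoh.Covers U ∧ ∀ i, ∃ M : A, P M ∧
      Nonempty ((pullA A (homX (U i))).obj F ≅
        (constantSheaf (U i).left.smallEtaleTopology A).obj M) := by
  constructor
  · rintro ⟨ι, U, hU, h⟩
    refine ⟨ι, U, hU, fun i => ?_⟩
    obtain ⟨M, hM, hiso⟩ := h i
    exact ⟨M, hM, (nonempty_over_iso_const_iff_pull A (U i) F M).1 hiso⟩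
  · rintro ⟨ι, U, hU, h⟩
    refine ⟨ι, U, hU, fun i => ?_⟩
    obtain ⟨M, hM, hiso⟩ := h i
    exact ⟨M, hM, (nonempty_over_iso_const_iff_pull A (U i) F M).2 hiso⟩

theorem IsLC.of_iso {X : Scheme.{u}} {F F' : Sheaf X.smallEtaleTopology A} (e : F ≅ F')
    (h : IsLC A P F) : IsLC A P F' := by
  obtain ⟨ι, U, hU, h⟩ := h
  refine ⟨ι, U, hU, fun i => ?_⟩
  obtain ⟨M, hM, ⟨α⟩⟩ := h i
  exact ⟨M, hM, ⟨((X.smallEtaleTopology.overPullback A (U i)).mapIso e).symm ≪≫ α⟩⟩

/-- Base change of a covering family is a covering family. -/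
theorem covers_bc {X Y : Scheme.{u}} (f : X ⟶ Y) {ι : Type u} (U : ι → Y.Etale)
    (hU : EtCoh.Covers U) : EtCoh.Covers (fun i => (EtCoh.bc f).obj (U i)) := by
  intro x
  obtain ⟨i, y, hy⟩ := hU (f x)
  obtain ⟨z, hz1, hz2⟩ := Scheme.Pullback.exists_preimage_pullback
    (f := (U i).hom) (g := f) y x hy
  exact ⟨i, z, hz2⟩

/-- Local constancy is stable under inverse image. -/
theorem IsLC.pull {X Y : Scheme.{u}} (f : X ⟶ Y) {F : Sheaf Y.smallEtaleTopology A}
    (h : IsLC A P F) : IsLC A P ((pullA A f).obj F) := by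
  rw [isLC_iff_pull] at h ⊢
  obtain ⟨ι, U, hU, h⟩ := h
  refine ⟨ι, fun i => (EtCoh.bc f).obj (U i), covers_bc f U hU, fun i => ?_⟩
  obtain ⟨M, hM, ⟨α⟩⟩ := h i
  refine ⟨M, hM, ⟨?_⟩⟩
  let V : X.Etale := (EtCoh.bc f).obj (U i)
  let p : V.left ⟶ (U i).left := pullback.fst (U i).hom f
  have hcond : homX V ≫ f = p ≫ homX (U i) := pullback.condition.symm
  exact ((pullCompA A (homX V) f).app F).symm ≪≫ (pullCongrA A hcond).app F ≪≫
    (pullCompA A p (homX (U i))).app F ≪≫ (pullA A p).mapIso α ≪≫ (pullConstIsoA A p).app M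

/-- Local constancy is étale-local. -/
theorem IsLC.of_cover {T : Scheme.{u}} {κ : Type u} (j : κ → T.Etale) (hj : EtCoh.Covers j)
    {F : Sheaf T.smallEtaleTopology A}
    (h : ∀ k, IsLC A P ((pullA A (homX (j k))).obj F)) : IsLC A P F := by
  have h' := fun k => (isLC_iff_pull _).1 (h k)
  choose ι W hW hiso using h'
  rw [isLC_iff_pull]
  refine ⟨Σ k, ι k, fun q => (EtShriek.compEtale (homX (j q.1))).obj (W q.1 q.2), ?_, ?_⟩
  · intro t
    obtain ⟨k, y, hy⟩ := hj t
    obtain ⟨i, w, hw⟩ := hW k y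
    refine ⟨⟨k, i⟩, w, ?_⟩
    have e : ((EtShriek.compEtale (homX (j k))).obj (W k i)).hom = (W k i).hom ≫ (j k).hom := rfl
    rw [e, Scheme.Hom.comp_base]
    exact (congrArg (fun z => (j k).hom.base z) hw).trans hy
  · rintro ⟨k, i⟩
    obtain ⟨M, hM, ⟨α⟩⟩ := hiso k i
    refine ⟨M, hM, ⟨?_⟩⟩
    have e : homX ((EtShriek.compEtale (homX (j k))).obj (W k i)) =
        homX (W k i) ≫ homX (j k) := rfl
    exact (pullCongrA A e).app F ≪≫ (pullCompA A (homX (W k i)) (homX (j k))).app F ≪≫ α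

end Groth.Agent.Lib.EtLocConst22
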