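import Groth.Agent.Lib.EtLocConst22b
import Groth.Agent.Lib.EtConstStalk
import Mathlib.AlgebraicGeometry.Morphisms.UniversallyOpen
import Mathlib.AlgebraicGeometry.Morphisms.Etale

/-!
# Finite locally constant sheaves on a connected scheme have a single value group (helper22)

* `nonempty_iso_of_const_iso`: `const M ≅ const N` on a nonempty scheme implies `M ≅ N`;
* `nonempty_value_iso`: two local value groups of a locally constant sheaf agree where the members
  of the covering overlap;
* `exists_common_value`: on a connected scheme one value group works everywhere.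
-/

set_option autoImplicit false
set_option linter.style.haveILetI false
set_option linter.unusedSectionVars false
universe u

open CategoryTheory AlgebraicGeometry Limits MorphismProperty Opposite

namespace Groth.Agent.Lib.EtLocConst22

open Groth.Agent.Lib.EtOverSite22

/-- Constant sheaves on a nonempty scheme determine their value group. -/
theorem nonempty_iso_of_const_iso {W : Scheme.{u}} (w : W) {M N : AddCommGrpCat.{u + 1}}
    (e : (constantSheaf W.smallEtaleTopology AddCommGrpCat.{u + 1}).obj M ≅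
      (constantSheaf W.smallEtaleTopology AddCommGrpCat.{u + 1}).obj N) : Nonempty (M ≅ N) := by
  let ξ := Groth.Agent.Lib.EtStalkConservative.stdPt w
  exact ⟨(Groth.Agent.Lib.EtConst.stalkConstEquiv ξ M).toAddCommGrpIso ≪≫
    (EtCoh.stalk ξ).mapIso e ≪≫ (Groth.Agent.Lib.EtConst.stalkConstEquiv ξ N).toAddCommGrpIso.symm⟩

/-- Local value groups agree on overlaps. -/
theorem nonempty_value_iso {X : Scheme.{u}} (F : EtCoh.Ab X) (U U' : X.Etale)
    {M M' : AddCommGrpCat.{u + 1}}
    (α : (EtCoh.pull (homX U)).obj F ≅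
      (constantSheaf U.left.smallEtaleTopology AddCommGrpCat.{u + 1}).obj M)
    (α' : (EtCoh.pull (homX U')).obj F ≅
      (constantSheaf U'.left.smallEtaleTopology AddCommGrpCat.{u + 1}).obj M')
    (y : U.left) (y' : U'.left) (hyy' : (homX U) y = (homX U') y') : Nonempty (M ≅ M') := by
  let W := pullback (homX U) (homX U')
  let p : W ⟶ U.left := pullback.fst _ _
  let p' : W ⟶ U'.left := pullback.snd _ _
  have hcond : p ≫ homX U = p' ≫ homX U' := pullback.condition
  obtain ⟨w, -, -⟩ := Scheme.Pullback.exists_preimage_pullback (f := homX U) (g := homX U') y y' hyy'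
  let A := AddCommGrpCat.{u + 1}
  have e1 : (pullA A (p ≫ homX U)).obj F ≅ (constantSheaf W.smallEtaleTopology A).obj M :=
    (pullCompA A p (homX U)).app F ≪≫ (pullA A p).mapIso α ≪≫ (pullConstIsoA A p).app M
  have e2 : (pullA A (p' ≫ homX U')).obj F ≅ (constantSheaf W.smallEtaleTopology A).obj M' :=
    (pullCompA A p' (homX U')).app F ≪≫ (pullA A p').mapIso α' ≪≫ (pullConstIsoA A p').app M'
  exact nonempty_iso_of_const_iso w (e1.symm ≪≫ (pullCongrA A hcond).app F ≪≫ e2)

/-- On a connected scheme, a locally constant abelian sheaf has a single value group. -/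
theorem exists_common_value {X : Scheme.{u}} [ConnectedSpace X] (F : EtCoh.Ab X)
    {P : AddCommGrpCat.{u + 1} → Prop} (h : IsLC AddCommGrpCat.{u + 1} P F) :
    ∃ (M : AddCommGrpCat.{u + 1}) (_ : P M) (ι : Type u) (U : ι → X.Etale), EtCoh.Covers U ∧
      ∀ i, Nonempty (F.over (U i) ≅
        (constantSheaf (X.smallEtaleTopology.over (U i)) AddCommGrpCat.{u + 1}).obj M) := by
  classical
  obtain ⟨ι, U, hU, hM⟩ := (isLC_iff_pull F).1 h
  choose M hMP hiso using hM
  obtain ⟨x₀⟩ := (inferInstance : Nonempty X)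
  obtain ⟨i₀, y₀, hy₀⟩ := hU x₀
  let O : Set X := {x | ∃ i, Nonempty (M i ≅ M i₀) ∧ x ∈ Set.range (homX (U i))}
  let O' : Set X := {x | ∃ i, ¬ Nonempty (M i ≅ M i₀) ∧ x ∈ Set.range (homX (U i))}
  have hopen : ∀ i, IsOpen (Set.range (homX (U i))) := fun i =>
    (homX (U i)).isOpenMap.isOpen_range
  have hO : IsOpen O := by
    have : O = ⋃ i : {i // Nonempty (M i ≅ M i₀)}, Set.range (homX (U i.1)) := by
      ext x
      simp only [O, Set.mem_ofPred_eq, Set.mem_iUnion]
      constructor
      · rintro ⟨i, hi, hx⟩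
        exact ⟨⟨i, hi⟩, hx⟩
      · rintro ⟨⟨i, hi⟩, hx⟩
        exact ⟨i, hi, hx⟩
    rw [this]
    exact isOpen_iUnion fun i => hopen i.1
  have hO' : IsOpen O' := by
    have : O' = ⋃ i : {i // ¬ Nonempty (M i ≅ M i₀)}, Set.range (homX (U i.1)) := by
      ext x
      simp only [O', Set.mem_ofPred_eq, Set.mem_iUnion]
      constructor
      · rintro ⟨i, hi, hx⟩
        exact ⟨⟨i, hi⟩, hx⟩
      · rintro ⟨⟨i, hi⟩, hx⟩
        exact ⟨i, hi, hx⟩
    rw [this]
    exact isOpen_iUnion fun i => hopen i.1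
  have hcompl : Oᶜ = O' := by
    ext x
    constructor
    · intro hx
      obtain ⟨i, y, hy⟩ := hU x
      by_cases hi : Nonempty (M i ≅ M i₀)
      · exact absurd ⟨i, hi, y, hy⟩ hx
      · exact ⟨i, hi, y, hy⟩
    · rintro ⟨i', hi', y', hy'⟩ ⟨i, hi, y, hy⟩
      obtain ⟨e⟩ := nonempty_value_iso F (U i') (U i) (hiso i').some (hiso i).some y' y
        (hy'.trans hy.symm)
      exact hi' ⟨e ≪≫ hi.some⟩
  have hclopen : IsClopen O := ⟨by rw [← isOpen_compl_iff, hcompl]; exact hO', hO⟩
  have hx₀ : x₀ ∈ O := ⟨i₀, ⟨Iso.refl _⟩, y₀, hy₀⟩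
  have huniv : O = Set.univ := by
    rcases isClopen_iff.1 hclopen with h0 | h1
    · rw [h0] at hx₀
      exact absurd hx₀ (Set.notMem_empty _)
    · exact h1
  refine ⟨M i₀, hMP i₀, {i // Nonempty (M i ≅ M i₀)}, fun i => U i.1, ?_, ?_⟩
  · intro x
    have hx : x ∈ O := by rw [huniv]; trivial
    obtain ⟨i, hi, y, hy⟩ := hx
    exact ⟨⟨i, hi⟩, y, hy⟩
  · rintro ⟨i, hi⟩
    refine (nonempty_over_iso_const_iff_pull AddCommGrpCat.{u + 1} (U i) F (M i₀)).2 ⟨?_⟩
    exact (hiso i).some ≪≫
      (constantSheaf (U i).left.smallEtaleTopology AddCommGrpCat.{u + 1}).mapIso hi.some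

end Groth.Agent.Lib.EtLocConst22
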