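/-
helper80: étale neighbourhoods with prescribed finite separable residue field extension
(`exists_etale_nbhd_residueField`), via a standard étale algebra `Γ(S,V)[t]/(Q)[1/Q']` where `Q`
lifts the minimal polynomial of a primitive element.  Also: `exists_affineOpen_monic_lift` (lift a
monic polynomial over κ(s) to an affine neighbourhood), `exists_open_evaluation_finset`,
`SpecMap_evaluation_fromSpec`.
-/
import Mathlib

set_option autoImplicit false
universe u
open CategoryTheory CategoryTheory.Limits AlgebraicGeometry Polynomial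

namespace Groth.Agent.Lib.H80EtaleResidue

theorem evaluation_res {S : Scheme.{u}} (s : S) {W W' : S.Opens} (h : W' ≤ W) (hs : s ∈ W')
    (t : Γ(S, W)) :
    (S.evaluation W' s hs).hom ((S.presheaf.map (homOfLE h).op).hom t) =
      (S.evaluation W s (h hs)).hom t := by
  simp only [Scheme.evaluation, CommRingCat.hom_comp, RingHom.comp_apply]
  congr 1
  exact TopCat.Presheaf.germ_res_apply S.presheaf (homOfLE h) s hs t

theorem exists_open_evaluation_finset (S : Scheme.{u}) (s : S)
    (T : Finset (S.residueField s)) :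
    ∃ (W : S.Opens) (hs : s ∈ W), ∀ c ∈ T, c ∈ Set.range (S.evaluation W s hs).hom := by
  classical
  induction T using Finset.induction_on with
  | empty => exact ⟨⊤, trivial, by simp⟩
  | insert c T _ ih =>
    obtain ⟨W₁, hs₁, h₁⟩ := ih
    obtain ⟨c', rfl⟩ := S.residue_surjective s c
    obtain ⟨W₂, hs₂, t, rfl⟩ := TopCat.Presheaf.exists_germ_eq S.presheaf c'
    refine ⟨W₁ ⊓ W₂, ⟨hs₁, hs₂⟩, ?_⟩
    intro d hd
    rw [Finset.mem_insert] at hd
    rcases hd with rfl | hd
    · exact ⟨(S.presheaf.map (homOfLE inf_le_right).op).hom t,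
        evaluation_res s inf_le_right ⟨hs₁, hs₂⟩ t⟩
    · obtain ⟨t', rfl⟩ := h₁ d hd
      exact ⟨(S.presheaf.map (homOfLE inf_le_left).op).hom t',
        evaluation_res s inf_le_left ⟨hs₁, hs₂⟩ t'⟩

theorem exists_affineOpen_monic_lift (S : Scheme.{u}) (s : S) (P : (S.residueField s)[X])
    (hP : P.Monic) :
    ∃ (V : S.Opens) (_ : IsAffineOpen V) (hs : s ∈ V) (Q : Γ(S, V)[X]),
      Q.Monic ∧ Q.map (S.evaluation V s hs).hom = P := by
  classical
  obtain ⟨W, hsW, hW⟩ := exists_open_evaluation_finset S s P.coeffs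
  obtain ⟨V, hV, hsV, hVW⟩ := exists_isAffineOpen_mem_and_subset hsW
  have hlift : P ∈ Polynomial.lifts (S.evaluation V s hsV).hom := by
    rw [Polynomial.lifts_iff_coeff_lifts]
    intro n
    by_cases hn : P.coeff n = 0
    · exact ⟨0, by rw [hn, map_zero]⟩
    · obtain ⟨t, ht⟩ := hW (P.coeff n) (Polynomial.coeff_mem_coeffs hn)
      exact ⟨(S.presheaf.map (homOfLE hVW).op).hom t, (evaluation_res s hVW hsV t).trans ht⟩
  obtain ⟨Q, hQ, -, hQm⟩ := Polynomial.lifts_and_natDegree_eq_and_monic hlift hP
  exact ⟨V, hV, hsV, Q, hQm, hQ⟩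


theorem SpecMap_evaluation_fromSpec {S : Scheme.{u}} {V : S.Opens} (hV : IsAffineOpen V) (s : S)
    (hs : s ∈ V) :
    Spec.map (S.evaluation V s hs) ≫ hV.fromSpec = S.fromSpecResidueField s := by
  rw [Scheme.evaluation, Spec.map_comp, Category.assoc]
  rw [Scheme.fromSpecResidueField, ← hV.fromSpecStalk_eq_fromSpecStalk hs]
  rfl

theorem exists_etale_nbhd_residueField (S : Scheme.{u}) (s : S) (k : Type u) [Field k]
    [Algebra (S.residueField s) k] [FiniteDimensional (S.residueField s) k]
    [Algebra.IsSeparable (S.residueField s) k] :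
    ∃ (U : Scheme.{u}) (g : U ⟶ S) (u : U) (hu : g u = s), Etale g ∧
      letI := ((S.residueFieldCongr hu).inv ≫ g.residueFieldMap u).hom.toAlgebra
      Nonempty (k ≃ₐ[S.residueField s] U.residueField u) := by
  obtain ⟨α, hα⟩ := Field.exists_primitive_element (S.residueField s) k
  have hsep : (minpoly (S.residueField s) α).Separable :=
    Algebra.IsSeparable.isSeparable (S.residueField s) α
  have hint : IsIntegral (S.residueField s) α := Algebra.IsIntegral.isIntegral α
  obtain ⟨V, hV, hsV, Q, hQm, hQ⟩ :=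
    exists_affineOpen_monic_lift S s (minpoly (S.residueField s) α) (minpoly.monic hint)
  let ρ : Γ(S, V) →+* S.residueField s := (S.evaluation V s hsV).hom
  let Pr : StandardEtalePair Γ(S, V) := ⟨Q, hQm, derivative Q, 1, 0, 1, by simp⟩
  let _ : Algebra Γ(S, V) k := ((algebraMap (S.residueField s) k).comp ρ).toAlgebra
  have haeval : ∀ R : Γ(S, V)[X], aeval α R = aeval α (R.map ρ) := by
    intro R
    rw [aeval_def, aeval_def, eval₂_map]
    rfl
  have hmap : Pr.HasMap α := by
    constructor
    · change aeval α Q = 0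
      rw [haeval, hQ, minpoly.aeval]
    · change IsUnit (aeval α (derivative Q))
      rw [haeval, ← derivative_map, hQ, isUnit_iff_ne_zero]
      exact hsep.aeval_derivative_ne_zero (minpoly.aeval _ _)
  let χ : Pr.Ring →ₐ[Γ(S, V)] k := Pr.lift α hmap
  have hχX : χ Pr.X = α := Pr.lift_X α hmap
  let gU : Spec (.of Pr.Ring) ⟶ S :=
    Spec.map (CommRingCat.ofHom (algebraMap Γ(S, V) Pr.Ring)) ≫ hV.fromSpec
  have het : Etale gU := by
    have h1 : Etale (Spec.map (CommRingCat.ofHom (algebraMap Γ(S, V) Pr.Ring))) := by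
      rw [HasRingHomProperty.Spec_iff (P := @Etale)]
      rw [CommRingCat.hom_ofHom, RingHom.etale_algebraMap]
      infer_instance
    infer_instance
  let ιk : Spec (.of k) ⟶ Spec (.of Pr.Ring) := Spec.map (CommRingCat.ofHom χ.toRingHom)
  have hι : ιk ≫ gU = Spec.map (CommRingCat.ofHom (algebraMap (S.residueField s) k)) ≫
      S.fromSpecResidueField s := by
    simp only [ιk, gU]
    rw [← SpecMap_evaluation_fromSpec hV s hsV, ← Category.assoc, ← Category.assoc,
      ← Spec.map_comp, ← Spec.map_comp]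
    congr 2
    ext a
    exact χ.commutes a
  let u : Spec (.of Pr.Ring) := ιk (IsLocalRing.closedPoint k)
  let ψ : (Spec (.of Pr.Ring)).residueField u ⟶ .of k :=
    Scheme.descResidueField (Scheme.stalkClosedPointTo ιk)
  have hcomp := Scheme.descResidueField_stalkClosedPointTo_comp (f := gU) ιk
  have hequiv : (Scheme.SpecToEquivOfField k S) (ιk ≫ gU) =
      ⟨s, CommRingCat.ofHom (algebraMap (S.residueField s) k)⟩ := by
    rw [← Equiv.eq_symm_apply]
    exact hι
  rw [Scheme.SpecToEquivOfField_eq_iff] at hequiv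
  obtain ⟨e, he⟩ := hequiv
  have hu : gU u = s := e
  have hkey : (S.residueFieldCongr hu).inv ≫ gU.residueFieldMap u ≫ ψ =
      CommRingCat.ofHom (algebraMap (S.residueField s) k) := by
    have h1 : gU.residueFieldMap u ≫ ψ = (S.residueFieldCongr hu).hom ≫
        CommRingCat.ofHom (algebraMap (S.residueField s) k) := hcomp.symm.trans he
    rw [h1]
    exact Iso.inv_hom_id_assoc _ _
  refine ⟨Spec (.of Pr.Ring), gU, u, hu, het, ?_⟩
  let _ := ((S.residueFieldCongr hu).inv ≫ gU.residueFieldMap u).hom.toAlgebra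
  let ψa : (Spec (.of Pr.Ring)).residueField u →ₐ[S.residueField s] k :=
    { ψ.hom with
      commutes' := fun c => by
        change ψ.hom (((S.residueFieldCongr hu).inv ≫ gU.residueFieldMap u).hom c) = _
        have := congr($(hkey).hom c)
        simpa using this }
  have hinj : Function.Injective ψa := ψa.toRingHom.injective
  have hαmem : α ∈ ψa.fieldRange := by
    have h2 := Scheme.germ_stalkClosedPointTo_Spec (CommRingCat.ofHom χ.toRingHom)
    have h3 := Scheme.residue_descResidueField (X := Spec (.of Pr.Ring))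
      (Scheme.stalkClosedPointTo ιk)
    refine ⟨((Spec (.of Pr.Ring)).residue u).hom
      (((Spec (.of Pr.Ring)).presheaf.germ ⊤ u trivial).hom
        ((Scheme.ΓSpecIso (.of Pr.Ring)).inv.hom Pr.X)), ?_⟩
    change ψ.hom _ = α
    have h4 := congr($(h3).hom (((Spec (.of Pr.Ring)).presheaf.germ ⊤ u trivial).hom
        ((Scheme.ΓSpecIso (.of Pr.Ring)).inv.hom Pr.X)))
    have h5 := congr($(h2).hom ((Scheme.ΓSpecIso (.of Pr.Ring)).inv.hom Pr.X))
    simp only [CommRingCat.hom_comp, RingHom.comp_apply] at h4 h5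
    rw [h4, h5]
    simp [hχX]
  have hsurj : Function.Surjective ψa := by
    rw [← AlgHom.fieldRange_eq_top, eq_top_iff, ← hα, IntermediateField.adjoin_simple_le_iff]
    exact hαmem
  exact ⟨(AlgEquiv.ofBijective ψa ⟨hinj, hsurj⟩).symm⟩

end Groth.Agent.Lib.H80EtaleResidue
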