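import Groth.Agent.Lib.EtaleSliceSmooth68
import Groth.Agent.Lib.SchDense68
import Mathlib.AlgebraicGeometry.Fiber
import Mathlib.AlgebraicGeometry.Morphisms.Finite
import Mathlib.Topology.JacobsonSpace
import Mathlib.FieldTheory.Perfect

/-!
# Étale quasi-sections of a smooth morphism are jointly "dense" (residue characteristic 0) (helper68)

* `finite_residueFieldMap_of_isClosed_asFiber`: a point closed in its fibre of a morphism locally
  of finite type has finite residue field extension.
* `eq_univ_of_isLocallyClosed_of_closedPoints_fibres`: a locally closed subset of the source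
  containing all points closed in their fibres is everything.
* `surjective_of_quasiSections_factor`: for `f : Z ⟶ S` smooth, residue characteristics `0`: an
  immersion `ι : E ⟶ Z` through which every étale quasi-section factors (set-theoretically) is
  surjective.
-/

set_option autoImplicit false
universe u

namespace Groth.Agent.Lib.QuasiSectionDense68

open CategoryTheory CategoryTheory.Limits AlgebraicGeometry

theorem finite_residueFieldMap_of_isClosed_asFiber {X S : Scheme.{u}} (f : X ⟶ S)
    [LocallyOfFiniteType f] (w : X) (hw : IsClosed ({f.asFiber w} : Set (f.fiber (f w)))) :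
    (f.residueFieldMap w).hom.Finite := by
  have h1 : IsClosedImmersion (f.asFiberHom w) :=
    .of_isPreimmersion _ (by rw [f.range_asFiberHom]; exact hw)
  have h2 : LocallyOfFiniteType (f.fiberToSpecResidueField (f w)) :=
    MorphismProperty.pullback_snd _ _ inferInstance
  have h3 : LocallyOfFiniteType (Spec.map (f.residueFieldMap w)) := by
    rw [← f.asFiberHom_fiberToSpecResidueField]; infer_instance
  have h4 : IsFinite (Spec.map (f.residueFieldMap w)) :=
    isFinite_iff_locallyOfFiniteType_of_jacobsonSpace.mpr h3
  exact (IsFinite.SpecMap_iff _).mp h4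

/-- In a Jacobson space, a locally closed subset containing all closed points is everything. -/
theorem eq_univ_of_isLocallyClosed_of_closedPoints_subset {X : Type*} [TopologicalSpace X]
    [JacobsonSpace X] {L : Set X} (hL : IsLocallyClosed L) (h : closedPoints X ⊆ L) :
    L = Set.univ := by
  by_contra hne
  have hne' : Lᶜ.Nonempty := Set.nonempty_compl.mpr hne
  obtain ⟨U, C, hU, hC, rfl⟩ := hL
  rw [Set.compl_inter] at hne'
  obtain ⟨x, hx | hx⟩ := hne'
  · obtain ⟨y, hy1, hy2⟩ := nonempty_inter_closedPoints ⟨x, hx⟩ hU.isClosed_compl.isLocallyClosed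
    exact hy1 (h hy2).1
  · obtain ⟨y, hy1, hy2⟩ := nonempty_inter_closedPoints ⟨x, hx⟩ hC.isOpen_compl.isLocallyClosed
    exact hy1 (h hy2).2

theorem eq_univ_of_isLocallyClosed_of_closedPoints_fibres {X S : Scheme.{u}} (f : X ⟶ S)
    [LocallyOfFiniteType f] {L : Set X} (hL : IsLocallyClosed L)
    (h : ∀ w : X, IsClosed ({f.asFiber w} : Set (f.fiber (f w))) → w ∈ L) : L = Set.univ := by
  have key : ∀ (s : S) (w' : f.fiber s) (w : X), f.fiberι s w' = w → f w = s →
      IsClosed ({w'} : Set (f.fiber s)) → w ∈ L := by
    intro s w' w hw hs hcl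
    subst hs
    have : w' = f.asFiber w :=
      (f.fiberι _).isEmbedding.injective (by rw [hw, Scheme.Hom.fiberι_asFiber])
    subst this
    exact h w hcl
  rw [Set.eq_univ_iff_forall]
  intro z
  have hL' : IsLocallyClosed ((f.fiberι (f z)) ⁻¹' L) := hL.preimage (f.fiberι (f z)).continuous
  have h2 : (f.fiberι (f z)) ⁻¹' L = Set.univ := by
    apply eq_univ_of_isLocallyClosed_of_closedPoints_subset hL'
    intro w' hw'
    have hmem : f.fiberι (f z) w' ∈ f ⁻¹' {f z} := by
      rw [← f.range_fiberι]; exact Set.mem_range_self w'
    exact key (f z) w' _ rfl hmem hw'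
  have h3 : f.asFiber z ∈ (f.fiberι (f z)) ⁻¹' L := by rw [h2]; trivial
  rw [Set.mem_preimage, Scheme.Hom.fiberι_asFiber] at h3
  exact h3

/-- For a smooth morphism with residue characteristics zero, an immersion through which all étale
quasi-sections factor set-theoretically is surjective. -/
theorem surjective_of_quasiSections {Z S : Scheme.{u}} (f : Z ⟶ S) [Smooth f]
    (hchar : ∀ s : S, CharZero (S.residueField s))
    {E : Scheme.{u}} (ι : E ⟶ Z) [IsImmersion ι]
    (h : ∀ (U : Scheme.{u}) (u : U ⟶ Z), Etale (u ≫ f) → Set.range u ⊆ Set.range ι) :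
    Function.Surjective ι := by
  have hL : Set.range ι = Set.univ := by
    apply eq_univ_of_isLocallyClosed_of_closedPoints_fibres f ι.isLocallyClosed_range
    intro w hw
    have hfin := finite_residueFieldMap_of_isClosed_asFiber f w hw
    have hsep : @Algebra.IsSeparable (S.residueField (f w)) (Z.residueField w) _ _
        (f.residueFieldMap w).hom.toAlgebra := by
      let _ : Algebra (S.residueField (f w)) (Z.residueField w) :=
        (f.residueFieldMap w).hom.toAlgebra
      have : Module.Finite (S.residueField (f w)) (Z.residueField w) := hfin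
      have := hchar (f w)
      infer_instance
    obtain ⟨Z', i, z, -, hét, hz, -⟩ :=
      Groth.Agent.Lib.EtaleSliceSmooth68.exists_etale_slice f w hsep
    exact h Z' i hét ⟨z, hz⟩
  exact Set.range_eq_univ.mp hL

/-- A surjective immersion through which a scheme-theoretically dominant morphism factors is an
isomorphism. -/
theorem isIso_of_surjective_of_fac {E Z Z₀ : Scheme.{u}} (ι : E ⟶ Z) [IsImmersion ι]
    (hsurj : Function.Surjective ι) (j : Z₀ ⟶ Z) [IsSchemeTheoreticallyDominant j]
    (j' : Z₀ ⟶ E) (hj : j' ≫ ι = j) : IsIso ι := by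
  have hcl : IsClosedImmersion ι :=
    .of_isPreimmersion _ (by rw [Set.range_eq_univ.mpr hsurj]; exact isClosed_univ)
  apply Groth.Agent.Lib.SchDense68.isIso_of_isClosedImmersion_of_ker_eq_bot
  have h1 : ι.ker ≤ j.ker := by rw [← hj]; exact j'.le_ker_comp ι
  rw [j.ker_eq_bot] at h1
  exact le_bot_iff.mp h1

end Groth.Agent.Lib.QuasiSectionDense68
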