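import Groth.Agent.Lib.EtLocQF3
import Groth.Agent.Lib.H80EtaleResidue
import Groth.Agent.Lib.QuasiSectionDense68

/-!
# Étale localization of quasi-finite morphisms with purely inseparable residue fields (helper34)
Stacks 02LN / 02LP.

Field theory:
* `pow_mem_range_of_splits`: `K/k` algebraic, every separable irreducible polynomial over `k` with a
  root in `K` splits in `k'`; then in any common overfield `L` of `K` and `k'` every element of `K`
  has a `q^n`-th power in `k'`.
* `exists_splitting_ext`: for finitely many finite extensions `K i / k` there is a finite separable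
  (normal) extension `k'/k` in which all those polynomials split.

Fibre products:
* `surjective_ofPointTensor`: `κ(x) ⊗_{κ(s)} κ(y) → κ(w)` is surjective when `κ(x)/κ(s)` is
  algebraic.
* `isPurelyInseparable_of_fst_snd`: residue field of a point of `X ×_S Y` is purely inseparable over
  `κ(y)` under the splitting hypothesis.
* `finite_setOf_fst_snd`: finitely many points of `X ×_S Y` over `(x, y)` when `κ(x)/κ(s)` finite.
* `finite_residueFieldMap_of_quasiFiniteAt`.

Main: `exists_etaleNbhd_purelyInseparable` (Stacks 02LN) and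
`exists_etaleNbhd_purelyInseparable_clopen` (Stacks 02LP, `f` separated).
-/

set_option autoImplicit false
universe u
open AlgebraicGeometry CategoryTheory Limits Polynomial

namespace Groth.Agent.Lib.EtLocQF

section FieldTheory

theorem pow_mem_range_of_splits {k K k' L : Type*} [Field k] [Field K] [Field k'] [Field L]
    (a₀ : k →+* K) (b₀ : k →+* k') (a : K →+* L) (b : k' →+* L)
    (hab : a.comp a₀ = b.comp b₀) (halg : a₀.IsIntegral)
    (H : ∀ P : k[X], Irreducible P → P.Separable → (∃ c : K, eval₂ a₀ c P = 0) →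
      (P.map b₀).Splits)
    (q : ℕ) [ExpChar k q] (z : K) : ∃ n : ℕ, (a z) ^ q ^ n ∈ b.range := by
  algebraize [a₀]
  have : Algebra.IsAlgebraic k K := inferInstance
  have : ExpChar (separableClosure k K) q :=
    expChar_of_injective_algebraMap (algebraMap k (separableClosure k K)).injective q
  obtain ⟨n, c, hc⟩ := IsPurelyInseparable.pow_mem (separableClosure k K) q z
  have hcsep : IsSeparable k (c : K) := mem_separableClosure_iff.mp c.2
  have hint : IsIntegral k (c : K) := Algebra.IsIntegral.isIntegral _
  have hs := H (minpoly k (c : K)) (minpoly.irreducible hint) hcsep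
    ⟨c, by rw [← RingHom.algebraMap_toAlgebra a₀, ← aeval_def, minpoly.aeval]⟩
  refine ⟨n, ?_⟩
  have hz : a z ^ q ^ n = a (c : K) := by
    rw [← map_pow, ← hc]; rfl
  rw [hz]
  apply hs.mem_range_of_isRoot (Polynomial.map_ne_zero (minpoly.ne_zero hint))
  rw [Polynomial.map_map, ← hab, ← Polynomial.map_map, IsRoot, Polynomial.eval_map,
    Polynomial.eval₂_hom, Polynomial.eval_map, ← RingHom.algebraMap_toAlgebra a₀, ← aeval_def,
    minpoly.aeval, map_zero]

open IntermediateField in
theorem exists_splitting_ext {k : Type u} [Field k] {ι : Type} [Finite ι] (K : ι → Type u)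
    [∀ i, Field (K i)] (a₀ : ∀ i, k →+* K i) (hfin : ∀ i, (a₀ i).Finite) :
    ∃ (k' : Type u) (_ : Field k') (_ : Algebra k k'), FiniteDimensional k k' ∧
      Algebra.IsSeparable k k' ∧
      ∀ i, ∀ P : k[X], Irreducible P → P.Separable → (∃ c : K i, eval₂ (a₀ i) c P = 0) →
        (P.map (algebraMap k k')).Splits := by
  classical
  let _ := Fintype.ofFinite ι
  let _ : ∀ i, Algebra k (K i) := fun i => (a₀ i).toAlgebra
  have hfd : ∀ i, FiniteDimensional k (K i) := fun i => hfin i
  have hα : ∀ i, ∃ α : separableClosure k (K i), k⟮α⟯ = ⊤ := fun i =>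
    Field.exists_primitive_element k (separableClosure k (K i))
  choose α hα using hα
  have hsepα : ∀ i, (minpoly k (α i)).Separable := fun i =>
    Algebra.IsSeparable.isSeparable k (α i)
  have hintα : ∀ i, IsIntegral k (α i) := fun i => Algebra.IsIntegral.isIntegral _
  set Q : k[X] := ∏ i, minpoly k (α i) with hQ
  have hQ0 : Q ≠ 0 := Finset.prod_ne_zero_iff.mpr fun i _ => minpoly.ne_zero (hintα i)
  have hsplit : ∀ i, ((minpoly k (α i)).map (algebraMap k Q.SplittingField)).Splits := fun i =>
    (SplittingField.splits Q).of_dvd (Polynomial.map_ne_zero hQ0)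
      (Polynomial.map_dvd _ (Finset.dvd_prod_of_mem _ (Finset.mem_univ i)))
  have hφ : ∀ i, Nonempty (separableClosure k (K i) →ₐ[k] Q.SplittingField) := fun i =>
    IntermediateField.nonempty_algHom_of_adjoin_splits (S := {α i})
      (fun s hs => by
        rw [Set.mem_singleton_iff] at hs
        subst hs
        exact ⟨hintα i, hsplit i⟩) (hα i)
  refine ⟨Q.SplittingField, inferInstance, inferInstance, inferInstance, ?_, ?_⟩
  · rw [← isSeparable_top, ← (isSplittingField_iff_intermediateField.mp
      (inferInstance : Q.IsSplittingField k Q.SplittingField)).2,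
      isSeparable_adjoin_iff_isSeparable]
    intro x hx
    have hdvd : minpoly k x ∣ Q := minpoly.dvd k x (aeval_eq_zero_of_mem_rootSet hx)
    have hxint : IsIntegral k x := Algebra.IsIntegral.isIntegral x
    obtain ⟨i, -, hi⟩ := (minpoly.prime hxint).exists_mem_finset_dvd hdvd
    exact (hsepα i).of_dvd hi
  · rintro i P hP hPsep ⟨c, hc⟩
    obtain ⟨φ⟩ := hφ i
    have hc' : aeval c P = 0 := by rw [aeval_def]; exact hc
    have hmin : P * C P.leadingCoeff⁻¹ = minpoly k c := minpoly.eq_of_irreducible hP hc'
    have hcsep : IsSeparable k c := by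
      rw [IsSeparable, ← hmin]
      exact hPsep.mul_unit ((isUnit_C.mpr (by simpa using hP.ne_zero)))
    let c' : separableClosure k (K i) := ⟨c, mem_separableClosure_iff.mpr hcsep⟩
    have h1 : minpoly k (φ c') = minpoly k c := by
      rw [minpoly.algHom_eq φ φ.injective c']
      exact (minpoly_eq c')
    have h2 := (inferInstance : Normal k Q.SplittingField).splits (φ c')
    rw [h1] at h2
    exact h2.of_dvd (Polynomial.map_ne_zero (minpoly.ne_zero (Algebra.IsIntegral.isIntegral c)))
      (Polynomial.map_dvd _ (Dvd.intro _ hmin))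

theorem pushout_inr_of_stable
    {P : ∀ {R S : Type u} [CommRing R] [CommRing S], (R →+* S) → Prop}
    (hP : RingHom.IsStableUnderBaseChange @P)
    (hP' : RingHom.RespectsIso @P) {R S T : CommRingCat.{u}} (f : R ⟶ S) (g : R ⟶ T)
    (H : P f.hom) : P (pushout.inr f g).hom := by
  rw [← inl_comp_pushoutSymmetry_hom g f, CommRingCat.hom_comp, hP'.cancel_right_isIso]
  exact hP.pushout_inl hP' g f H

end FieldTheory

section FibreProduct

open Scheme.Pullback

variable {X Y S : Scheme.{u}} {f : X ⟶ S} {g : Y ⟶ S}

set_option backward.isDefEq.respectTransparency false in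
theorem surjective_ofPointTensor_SpecTensorTo (T : Triplet f g) (p : Spec T.tensor)
    (hp : p.asIdeal.IsMaximal) :
    Function.Surjective (ofPointTensor (T.SpecTensorTo p)).hom := by
  have h := Triplet.Spec_ofPointTensor_SpecTensorTo T p
  rw [← Scheme.Spec.map_residueFieldIso_inv_eq_fromSpecResidueField, ← Spec.map_comp,
    ← Spec.map_comp, ← Spec.map_comp] at h
  have h' := Spec.map_injective h
  intro l
  set ρ := Scheme.Hom.residueFieldMap T.SpecTensorTo p with hρ
  have hsurj : Function.Surjective (algebraMap T.tensor p.asIdeal.ResidueField) :=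
    Ideal.algebraMap_residueField_surjective _
  obtain ⟨τ, hτ⟩ := hsurj ((Scheme.Spec.residueFieldIso T.tensor p).hom (ρ l))
  refine ⟨(Triplet.tensorCongr (T.ofPoint_SpecTensorTo p).symm).hom τ, ?_⟩
  apply ρ.hom.injective
  have h2 := congr($(h') τ)
  simp only [CommRingCat.comp_apply] at h2
  rw [h2]
  simp [hτ]

/-- all primes of `κ(x) ⊗ κ(y)` are maximal if `κ(x)/κ(s)` is algebraic -/
theorem isMaximal_of_isIntegral (T : Triplet f g)
    (ha : ((S.residueFieldCongr T.hx).inv ≫ f.residueFieldMap T.x).hom.IsIntegral)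
    (p : Spec T.tensor) : p.asIdeal.IsMaximal := by
  have h1 : T.tensorInr.hom.IsIntegral :=
    pushout_inr_of_stable RingHom.isIntegral_isStableUnderBaseChange
      RingHom.isIntegral_respectsIso _ _ ha
  algebraize [T.tensorInr.hom]
  apply Ideal.isMaximal_of_isIntegral_of_isMaximal_comap (R := Y.residueField T.y) p.asIdeal
  have : Ideal.comap (algebraMap (Y.residueField T.y) T.tensor) p.asIdeal = ⊥ :=
    Ideal.eq_bot_of_prime _
  rw [this]
  exact Ideal.bot_isMaximal

theorem surjective_ofPointTensor (w : ↑(pullback f g))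
    (ha : ((S.residueFieldCongr (Triplet.ofPoint w).hx).inv ≫
      f.residueFieldMap (Triplet.ofPoint w).x).hom.IsIntegral) :
    Function.Surjective (ofPointTensor w).hom := by
  obtain ⟨t, ht⟩ : ∃ t, t = (Triplet.ofPoint w).SpecTensorTo (SpecOfPoint w) := ⟨_, rfl⟩
  have htw : t = w := ht.trans (SpecTensorTo_SpecOfPoint w)
  have h1 := surjective_ofPointTensor_SpecTensorTo (Triplet.ofPoint w) (SpecOfPoint w)
    (isMaximal_of_isIntegral _ ha _)
  rw [← ht] at h1
  subst htw
  exact h1

set_option backward.isDefEq.respectTransparency false in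
theorem isPurelyInseparable_snd_residueFieldMap (w : ↑(pullback f g))
    (ha : ((S.residueFieldCongr (Triplet.ofPoint w).hx).inv ≫
      f.residueFieldMap (Triplet.ofPoint w).x).hom.IsIntegral)
    (H : ∀ P : (S.residueField (Triplet.ofPoint w).s)[X], Irreducible P → P.Separable →
      (∃ c, eval₂ ((S.residueFieldCongr (Triplet.ofPoint w).hx).inv ≫
        f.residueFieldMap (Triplet.ofPoint w).x).hom c P = 0) →
      (P.map ((S.residueFieldCongr (Triplet.ofPoint w).hy).inv ≫
        g.residueFieldMap (Triplet.ofPoint w).y).hom).Splits) :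
    ((pullback.snd f g).residueFieldMap w).hom.IsPurelyInseparable := by
  obtain ⟨a₀, ha₀⟩ : ∃ a₀, a₀ = ((S.residueFieldCongr (Triplet.ofPoint w).hx).inv ≫
      f.residueFieldMap (Triplet.ofPoint w).x) := ⟨_, rfl⟩
  obtain ⟨b₀, hb₀⟩ : ∃ b₀, b₀ = ((S.residueFieldCongr (Triplet.ofPoint w).hy).inv ≫
      g.residueFieldMap (Triplet.ofPoint w).y) := ⟨_, rfl⟩
  obtain ⟨a, ha'⟩ : ∃ a : X.residueField (Triplet.ofPoint w).x ⟶ (pullback f g).residueField w,
      a = (pullback.fst f g).residueFieldMap w := ⟨_, rfl⟩
  obtain ⟨b, hb'⟩ : ∃ b : Y.residueField (Triplet.ofPoint w).y ⟶ (pullback f g).residueField w,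
      b = (pullback.snd f g).residueFieldMap w := ⟨_, rfl⟩
  have hab : a₀ ≫ a = b₀ ≫ b := by
    rw [ha₀, hb₀, ha', hb']
    exact residueFieldCongr_inv_residueFieldMap_ofPoint w
  have hab' : a.hom.comp a₀.hom = b.hom.comp b₀.hom := by
    rw [← CommRingCat.hom_comp, ← CommRingCat.hom_comp, hab]
  rw [← ha₀] at ha H
  rw [← hb₀] at H
  obtain ⟨q, hq⟩ := ExpChar.exists (S.residueField (Triplet.ofPoint w).s)
  have key := pow_mem_range_of_splits a₀.hom b₀.hom a.hom b.hom hab' ha H q
  have hsurj := surjective_ofPointTensor w (ha₀ ▸ ha)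
  have hopt1 : pushout.inl _ _ ≫ ofPointTensor w = a := by
    rw [ha']; exact pushout.inl_desc _ _ _
  have hopt2 : pushout.inr _ _ ≫ ofPointTensor w = b := by
    rw [hb']; exact pushout.inr_desc _ _ _
  rw [← hb']
  -- algebra structure
  algebraize [b.hom]
  have : ExpChar (Y.residueField (Triplet.ofPoint w).y) q :=
    expChar_of_injective_ringHom b₀.hom.injective q
  change IsPurelyInseparable (Y.residueField (Triplet.ofPoint w).y)
    ((pullback f g).residueField w)
  rw [isPurelyInseparable_iff_perfectClosure_eq_top]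
  obtain ⟨M, hMdef⟩ : ∃ M, M = perfectClosure (Y.residueField (Triplet.ofPoint w).y)
    ((pullback f g).residueField w) := ⟨_, rfl⟩
  rw [← hMdef]
  have hM : ∀ z, a.hom z ∈ M.toSubring := fun z => by
    rw [hMdef]
    change _ ∈ perfectClosure _ _
    rw [mem_perfectClosure_iff_pow_mem q]
    exact key z
  let a' : X.residueField (Triplet.ofPoint w).x →+* M.toSubring :=
    a.hom.codRestrict M.toSubring hM
  let b' : Y.residueField (Triplet.ofPoint w).y →+* M.toSubring :=
    b.hom.codRestrict M.toSubring (fun z => M.algebraMap_mem z)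
  have hcomp : a₀ ≫ CommRingCat.ofHom a' = b₀ ≫ CommRingCat.ofHom b' := by
    ext z
    exact congr($hab' z)
  subst ha₀ hb₀
  let d : (Triplet.ofPoint w).tensor ⟶ CommRingCat.of M.toSubring :=
    pushout.desc (CommRingCat.ofHom a') (CommRingCat.ofHom b') hcomp
  have hd : d ≫ CommRingCat.ofHom M.toSubring.subtype = ofPointTensor w := by
    apply pushout.hom_ext
    · rw [pushout.inl_desc_assoc, hopt1]
      rfl
    · rw [pushout.inr_desc_assoc, hopt2]
      rfl
  rw [eq_top_iff]
  intro l _
  obtain ⟨τ, rfl⟩ := hsurj l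
  rw [← hd]
  exact (d.hom τ).2

/-- the residue field of a point `w` of `X ×_S Y` over `(x, y)` is purely inseparable over `κ(y)`
when `κ(x)/κ(s)` is algebraic and every separable irreducible polynomial over `κ(s)` with a root in
`κ(x)` splits in `κ(y)`. -/
theorem isPurelyInseparable_of_fst_snd (s : S) (x : X) (y : Y) (hx : f x = s) (hy : g y = s)
    (ha : ((S.residueFieldCongr hx).inv ≫ f.residueFieldMap x).hom.IsIntegral)
    (H : ∀ P : (S.residueField s)[X], Irreducible P → P.Separable →
      (∃ c, eval₂ ((S.residueFieldCongr hx).inv ≫ f.residueFieldMap x).hom c P = 0) →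
      (P.map ((S.residueFieldCongr hy).inv ≫ g.residueFieldMap y).hom).Splits)
    (w : ↑(pullback f g)) (hwx : pullback.fst f g w = x) (hwy : pullback.snd f g w = y) :
    ((pullback.snd f g).residueFieldMap w).hom.IsPurelyInseparable := by
  subst hwx hwy
  subst hx
  exact isPurelyInseparable_snd_residueFieldMap w ha H

theorem finite_spec_tensor (T : Triplet f g)
    (ha : ((S.residueFieldCongr T.hx).inv ≫ f.residueFieldMap T.x).hom.Finite) :
    Finite ↥(Spec T.tensor) := by
  have h1 : T.tensorInr.hom.Finite :=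
    pushout_inr_of_stable RingHom.finite_isStableUnderBaseChange RingHom.finite_respectsIso _ _ ha
  algebraize [T.tensorInr.hom]
  have : IsArtinianRing T.tensor := IsArtinianRing.of_finite (Y.residueField T.y) T.tensor
  exact inferInstanceAs (Finite (PrimeSpectrum T.tensor))

/-- finitely many points of `X ×_S Y` over `(x, y)` when `κ(x)/κ(s)` is finite -/
theorem finite_setOf_fst_snd (s : S) (x : X) (y : Y) (hx : f x = s) (hy : g y = s)
    (ha : ((S.residueFieldCongr hx).inv ≫ f.residueFieldMap x).hom.Finite) :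
    {w : ↑(pullback f g) | pullback.fst f g w = x ∧ pullback.snd f g w = y}.Finite := by
  have := finite_spec_tensor (⟨x, y, s, hx, hy⟩ : Triplet f g) ha
  refine (Set.finite_range (⟨x, y, s, hx, hy⟩ : Triplet f g).SpecTensorTo).subset ?_
  rintro w ⟨rfl, rfl⟩
  subst hx
  exact ⟨SpecOfPoint w, SpecTensorTo_SpecOfPoint w⟩

end FibreProduct

end Groth.Agent.Lib.EtLocQF
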