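import Groth.Agent.Lib.EtLocPI

/-!
# Étale localization of quasi-finite morphisms, purely inseparable version (helper34)
Stacks 02LN / 02LP.  See `Groth.Agent.Lib.EtLocPI` for the ingredients.
-/

set_option autoImplicit false
universe u
open AlgebraicGeometry CategoryTheory Limits Polynomial

namespace Groth.Agent.Lib.EtLocQF

variable {X S : Scheme.{u}}

theorem finite_residueFieldMap_of_quasiFiniteAt (f : X ⟶ S) [LocallyOfFiniteType f] (x : X)
    (hx : f.QuasiFiniteAt x) : (f.residueFieldMap x).hom.Finite :=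
  Groth.Agent.Lib.QuasiSectionDense68.finite_residueFieldMap_of_isClosed_asFiber f x
    hx.isClopen_singleton_asFiber.1

theorem finite_residueFieldCongr_residueFieldMap (f : X ⟶ S) [LocallyOfFiniteType f] (s : S) (x : X)
    (hs : f x = s) (hx : f.QuasiFiniteAt x) :
    ((S.residueFieldCongr hs).inv ≫ f.residueFieldMap x).hom.Finite := by
  subst hs
  simpa using finite_residueFieldMap_of_quasiFiniteAt f x hx

/-- the splitting predicate: every separable irreducible polynomial over `κ(s)` with a root in some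
`κ(x i)` splits in `κ(u)`. -/
def Spl (f : X ⟶ S) (s : S) {ι : Type} (x : ι → X) (hs : ∀ i, f (x i) = s) {U : Scheme.{u}}
    (g : U ⟶ S) (u : U) (hu : g u = s) : Prop :=
  ∀ i, ∀ P : (S.residueField s)[X], Irreducible P → P.Separable →
      (∃ c, eval₂ ((S.residueFieldCongr (hs i)).inv ≫ f.residueFieldMap (x i)).hom c P = 0) →
      (P.map ((S.residueFieldCongr hu).inv ≫ g.residueFieldMap u).hom).Splits

theorem exists_etale_spl (f : X ⟶ S) [LocallyOfFiniteType f] (s : S) {ι : Type} [Finite ι]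
    (x : ι → X) (hs : ∀ i, f (x i) = s) (hx : ∀ i, f.QuasiFiniteAt (x i)) :
    ∃ (U : Scheme.{u}) (g : U ⟶ S) (u : U) (hu : g u = s), Etale g ∧ Spl f s x hs g u hu := by
  obtain ⟨k', _, _, hfd, hsep, H⟩ := exists_splitting_ext (k := S.residueField s)
    (fun i => X.residueField (x i))
    (fun i => ((S.residueFieldCongr (hs i)).inv ≫ f.residueFieldMap (x i)).hom)
    (fun i => finite_residueFieldCongr_residueFieldMap f s (x i) (hs i) (hx i))
  obtain ⟨U, g, u, hu, hg, ⟨e⟩⟩ :=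
    Groth.Agent.Lib.H80EtaleResidue.exists_etale_nbhd_residueField S s k'
  refine ⟨U, g, u, hu, hg, fun i P hP hPs hc => ?_⟩
  letI : Algebra (S.residueField s) (U.residueField u) :=
    ((S.residueFieldCongr hu).inv ≫ g.residueFieldMap u).hom.toAlgebra
  have h1 := (H i P hP hPs hc).map e.toAlgHom.toRingHom
  rw [Polynomial.map_map] at h1
  convert h1 using 2
  exact (e.toAlgHom.comp_algebraMap).symm

theorem Spl.comp {f : X ⟶ S} {s : S} {ι : Type} {x : ι → X} {hs : ∀ i, f (x i) = s}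
    {U : Scheme.{u}} {g : U ⟶ S} {u : U} {hu : g u = s} (h : Spl f s x hs g u hu)
    {U' : Scheme.{u}} (g' : U' ⟶ U) (u' : U') (hu' : g' u' = u) (hu'' : (g' ≫ g) u' = s) :
    Spl f s x hs (g' ≫ g) u' hu'' := by
  intro i P hP hPs hc
  subst hu'
  have h1 := (h i P hP hPs hc).map (g'.residueFieldMap u').hom
  rw [Polynomial.map_map] at h1
  convert h1 using 2
  rw [← CommRingCat.hom_comp, Category.assoc, Scheme.residueFieldMap_comp]
  rfl

/-- transport of the data along an isomorphism, with explicit output -/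
lemma transport_iso {P P' U : Scheme.{u}} (e : P ≅ P') (q₂ : P' ⟶ U) (u : U) (V : P.Opens) (v : P)
    (hv : v ∈ V) (hfin : IsFinite (V.ι ≫ e.hom ≫ q₂)) (hsnd : (e.hom ≫ q₂) v = u)
    (huniq : ∀ w, w ∈ V → (e.hom ≫ q₂) w = u → w = v) :
    e.hom v ∈ e.inv ⁻¹ᵁ V ∧ IsFinite ((e.inv ⁻¹ᵁ V).ι ≫ q₂) ∧ q₂ (e.hom v) = u ∧
      ∀ w, w ∈ e.inv ⁻¹ᵁ V → q₂ w = u → w = e.hom v := by
  have hinv : ∀ w, e.inv (e.hom w) = w := fun w => by
    rw [← Scheme.Hom.comp_apply, Iso.hom_inv_id]; rfl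
  have hinv' : ∀ w, e.hom (e.inv w) = w := fun w => by
    rw [← Scheme.Hom.comp_apply, Iso.inv_hom_id]; rfl
  refine ⟨?_, ?_, ?_, ?_⟩
  · change e.inv (e.hom v) ∈ V
    rw [hinv]; exact hv
  · have e1 : (e.inv ⁻¹ᵁ V).ι ≫ q₂ = (e.inv ∣_ V) ≫ V.ι ≫ e.hom ≫ q₂ := by
      rw [← Category.assoc (e.inv ∣_ V), morphismRestrict_ι, Category.assoc, Iso.inv_hom_id_assoc]
    rw [e1]
    exact (MorphismProperty.cancel_left_of_respectsIso @IsFinite _ _).mpr hfin
  · exact hsnd
  · intro w hw hwu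
    have : e.inv w = v := by
      apply huniq _ hw
      rw [Scheme.Hom.comp_apply, hinv', hwu]
    rw [← this, hinv']

/-- **Étale localization of quasi-finite morphisms, purely inseparable residue fields**
(Stacks 02LN).  `f` locally of finite type, quasi-finite at finitely many points `x i` over `s`:
there is an étale neighbourhood `(U, u)` of `s` and finitely many opens `V m` of `X ×_S U`, finite
over `U`, each with exactly one point `v m` over `u`, `κ(v m)/κ(u)` finite purely inseparable,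
`v m ↦` some `x i`, the `v m` pairwise distinct and exhausting the points over `u` and some `x i`. -/
theorem exists_etaleNbhd_purelyInseparable (f : X ⟶ S) [LocallyOfFiniteType f] (s : S) {ι : Type}
    [Finite ι] (x : ι → X) (hs : ∀ i, f (x i) = s) (hx : ∀ i, f.QuasiFiniteAt (x i)) :
    ∃ (U : Scheme.{u}) (g : U ⟶ S) (u : U), Etale g ∧ g u = s ∧
      ∃ (n : ℕ) (V : Fin n → (pullback f g).Opens) (v : Fin n → ↑(pullback f g)),
        (∀ m, v m ∈ V m ∧ IsFinite ((V m).ι ≫ pullback.snd f g) ∧ pullback.snd f g (v m) = u ∧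
          (∀ w, w ∈ V m → pullback.snd f g w = u → w = v m) ∧
          ((pullback.snd f g).residueFieldMap (v m)).hom.IsPurelyInseparable ∧
          ((pullback.snd f g).residueFieldMap (v m)).hom.Finite ∧
          ∃ i, pullback.fst f g (v m) = x i) ∧
        Function.Injective v ∧
        ∀ w : ↑(pullback f g), pullback.snd f g w = u → (∃ i, pullback.fst f g w = x i) →
          ∃ m, w = v m := by
  obtain ⟨U₂, g₂, u₂, hu₂, hg₂, hspl⟩ := exists_etale_spl f s x hs hx
  -- the finite set of points over u₂ and some x i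
  have hSig : {w : ↑(pullback f g₂) | pullback.snd f g₂ w = u₂ ∧
      ∃ i, pullback.fst f g₂ w = x i}.Finite := by
    have : {w : ↑(pullback f g₂) | pullback.snd f g₂ w = u₂ ∧ ∃ i, pullback.fst f g₂ w = x i} =
        ⋃ i, {w | pullback.fst f g₂ w = x i ∧ pullback.snd f g₂ w = u₂} := by
      ext w; simp only [Set.mem_setOf_eq, Set.mem_iUnion]; tauto
    rw [this]
    exact Set.finite_iUnion fun i => finite_setOf_fst_snd s (x i) u₂ (hs i) hu₂
      (finite_residueFieldCongr_residueFieldMap f s (x i) (hs i) (hx i))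
  have := hSig.to_subtype
  obtain ⟨n, ⟨e⟩⟩ := Finite.exists_equiv_fin ↥{w : ↑(pullback f g₂) | pullback.snd f g₂ w = u₂ ∧
      ∃ i, pullback.fst f g₂ w = x i}
  let w : Fin n → ↑(pullback f g₂) := fun m => (e.symm m).1
  have hw1 : ∀ m, pullback.snd f g₂ (w m) = u₂ := fun m => (e.symm m).2.1
  have hw2 : ∀ m, ∃ i, pullback.fst f g₂ (w m) = x i := fun m => (e.symm m).2.2
  have hwinj : Function.Injective w := fun m m' h => e.symm.injective (Subtype.ext h)
  have hwsurj : ∀ t : ↑(pullback f g₂), pullback.snd f g₂ t = u₂ →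
      (∃ i, pullback.fst f g₂ t = x i) → ∃ m, t = w m := fun t h1 h2 =>
    ⟨e ⟨t, h1, h2⟩, by simp [w]⟩
  have hq : ∀ m, (pullback.snd f g₂).QuasiFiniteAt (w m) := fun m => by
    obtain ⟨i, hi⟩ := hw2 m
    exact Groth.Agent.Lib.QuasiFiniteAtBC.quasiFiniteAt_baseChange
      (IsPullback.of_hasPullback f g₂) (w m) (hi ▸ hx i)
  obtain ⟨U₃, g₃, u₃, hg₃, hgu₃, hiso₃, V, v, H⟩ :=
    exists_etaleNbhd_of_forall_quasiFiniteAt (pullback.snd f g₂) u₂ w hw1 hq
  have hu₃ : (g₃ ≫ g₂) u₃ = s := by rw [Scheme.Hom.comp_apply, hgu₃, hu₂]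
  have hspl₃ := hspl.comp g₃ u₃ hgu₃ hu₃
  obtain ⟨ε, hε⟩ : ∃ ε, ε = pullbackLeftPullbackSndIso f g₂ g₃ := ⟨_, rfl⟩
  have hε1 : ε.hom ≫ pullback.fst f (g₃ ≫ g₂) = pullback.fst _ _ ≫ pullback.fst _ _ := by
    rw [hε]; exact pullbackLeftPullbackSndIso_hom_fst f g₂ g₃
  have hε2 : ε.hom ≫ pullback.snd f (g₃ ≫ g₂) = pullback.snd _ _ := by
    rw [hε]; exact pullbackLeftPullbackSndIso_hom_snd f g₂ g₃
  have hinv : ∀ t, ε.inv (ε.hom t) = t := fun t => by
    rw [← Scheme.Hom.comp_apply, Iso.hom_inv_id]; rfl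
  have hinv' : ∀ t, ε.hom (ε.inv t) = t := fun t => by
    rw [← Scheme.Hom.comp_apply, Iso.inv_hom_id]; rfl
  have hfst : ∀ m, pullback.fst f (g₃ ≫ g₂) (ε.hom (v m)) = pullback.fst f g₂ (w m) := fun m => by
    rw [← Scheme.Hom.comp_apply, hε1, Scheme.Hom.comp_apply, (H m).2.2.2.2]
  refine ⟨U₃, g₃ ≫ g₂, u₃, inferInstance, hu₃, n, fun m => ε.inv ⁻¹ᵁ V m, fun m => ε.hom (v m),
    ?_, ?_, ?_⟩
  · intro m
    obtain ⟨h1, h2, h3, h4, h5⟩ := H m
    obtain ⟨i, hi⟩ := hw2 m
    have hfsti : pullback.fst f (g₃ ≫ g₂) (ε.hom (v m)) = x i := (hfst m).trans hi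
    obtain ⟨t1, t2, t3, t4⟩ := transport_iso ε (pullback.snd f (g₃ ≫ g₂)) u₃ (V m) (v m) h1
      (by rw [hε2]; exact h2) (by rw [hε2]; exact h3) (by rw [hε2]; exact h4)
    refine ⟨t1, t2, t3, t4, ?_, ?_, i, hfsti⟩
    · exact isPurelyInseparable_of_fst_snd s (x i) u₃ (hs i) hu₃
        (RingHom.Finite.to_isIntegral
          (finite_residueFieldCongr_residueFieldMap f s (x i) (hs i) (hx i)))
        (hspl₃ i) _ hfsti t3
    · exact finite_residueFieldMap_of_quasiFiniteAt _ _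
        (Groth.Agent.Lib.QuasiFiniteAtBC.quasiFiniteAt_baseChange
          (IsPullback.of_hasPullback f (g₃ ≫ g₂)) _ (hfsti ▸ hx i))
  · intro m m' h
    apply hwinj
    have h' : ε.hom (v m) = ε.hom (v m') := h
    have : v m = v m' := by rw [← hinv (v m), ← hinv (v m'), h']
    rw [← (H m).2.2.2.2, ← (H m').2.2.2.2, this]
  · rintro t ht1 ⟨i, ht2⟩
    obtain ⟨t', ht'⟩ : ∃ t', t' = ε.inv t := ⟨_, rfl⟩
    have htt' : ε.hom t' = t := by rw [ht', hinv']
    have h1 : pullback.snd (pullback.snd f g₂) g₃ t' = u₃ := by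
      rw [← hε2, Scheme.Hom.comp_apply, htt']; exact ht1
    have h2 : pullback.snd f g₂ (pullback.fst (pullback.snd f g₂) g₃ t') = u₂ := by
      have := congr($(pullback.condition (f := pullback.snd f g₂) (g := g₃)) t')
      rw [Scheme.Hom.comp_apply, Scheme.Hom.comp_apply, h1, hgu₃] at this
      exact this
    have h3 : pullback.fst f g₂ (pullback.fst (pullback.snd f g₂) g₃ t') = x i := by
      rw [← Scheme.Hom.comp_apply, ← hε1, Scheme.Hom.comp_apply, htt']; exact ht2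
    obtain ⟨m, hm⟩ := hwsurj _ h2 ⟨i, h3⟩
    refine ⟨m, ?_⟩
    have : t' = v m := eq_of_fst_eq_of_snd_eq _ _ t' (v m) (hm.trans (H m).2.2.2.2.symm)
      (h1.trans (H m).2.2.1.symm) (by rw [(H m).2.2.1]; exact hiso₃)
    change t = ε.hom (v m)
    rw [← this, htt']

end Groth.Agent.Lib.EtLocQF
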