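import Groth.Agent.Lib.EtLocQF
import Groth.Agent.Lib.QuasiFiniteAtBC

/-!
# Étale localization of quasi-finite morphisms at finitely many points (helper34) — Stacks 02LM

`exists_etaleNbhd_of_forall_quasiFiniteAt`, `exists_isEtaleNbhd_of_forall_quasiFiniteAt` (= S1354):
for `f` locally of finite type and finitely many points `x i` over `s` at which `f` is quasi-finite,
one étale neighbourhood `(U, u)` of `(S, s)` with trivial residue field extension and opens
`V i ⊆ X ×_S U`, finite over `U`, with exactly one point `v i` over `u`, `v i ↦ x i`.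
Proof by induction on the number of points (`Good`, `good_option`), stated over abstract pullback
squares; `transport` moves the data to `pullback f g`.
-/

set_option autoImplicit false
universe u
open AlgebraicGeometry CategoryTheory Limits

namespace Groth.Agent.Lib.EtLocQF

/-- the invariant of the induction for the multi-point étale localization (stated for an abstract
pullback square). -/
def Good {X S : Scheme.{u}} (f : X ⟶ S) (s : S) (ι : Type) (x : ι → X) : Prop :=
  ∃ (U : Scheme.{u}) (g : U ⟶ S) (u : U) (P : Scheme.{u}) (p₁ : P ⟶ X) (p₂ : P ⟶ U),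
    Etale g ∧ g u = s ∧ IsIso (g.residueFieldMap u) ∧ IsPullback p₁ p₂ f g ∧
    ∃ (V : ι → P.Opens) (v : ι → P), ∀ i, v i ∈ V i ∧ IsFinite ((V i).ι ≫ p₂) ∧ p₂ (v i) = u ∧
      (∀ w : P, w ∈ V i → p₂ w = u → w = v i) ∧ p₁ (v i) = x i

variable {X S : Scheme.{u}} (f : X ⟶ S) (s : S)

lemma good_of_equiv {α β : Type} (e : α ≃ β)
    (h : ∀ x : α → X, (∀ i, f (x i) = s) → (∀ i, f.QuasiFiniteAt (x i)) → Good f s α x)
    (x : β → X) (hs : ∀ i, f (x i) = s) (hx : ∀ i, f.QuasiFiniteAt (x i)) : Good f s β x := by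
  obtain ⟨U, g, u, P, p₁, p₂, hg, hgu, hiso, hP, V, v, H⟩ :=
    h (x ∘ e) (fun i => hs _) (fun i => hx _)
  refine ⟨U, g, u, P, p₁, p₂, hg, hgu, hiso, hP, V ∘ e.symm, v ∘ e.symm, fun j => ?_⟩
  have := H (e.symm j)
  simpa using this

lemma good_empty (x : PEmpty → X) : Good f s PEmpty x := by
  refine ⟨S, 𝟙 S, s, X, 𝟙 X, f, inferInstance, rfl, ?_, IsPullback.of_id_fst, PEmpty.elim,
    PEmpty.elim, fun i => i.elim⟩
  rw [Scheme.residueFieldMap_id]
  exact IsIso.id _

lemma good_option [LocallyOfFiniteType f] {α : Type}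
    (h : ∀ x : α → X, (∀ i, f (x i) = s) → (∀ i, f.QuasiFiniteAt (x i)) → Good f s α x)
    (x : Option α → X) (hs : ∀ i, f (x i) = s) (hx : ∀ i, f.QuasiFiniteAt (x i)) :
    Good f s (Option α) x := by
  obtain ⟨U, g, u, P, p₁, p₂, hg, hgu, hiso, hP, V, v, H⟩ :=
    h (x ∘ some) (fun i => hs _) (fun i => hx _)
  -- the point of `P` over `(x none, u)`
  obtain ⟨x₀, hx₀1, hx₀2⟩ := Scheme.exists_preimage_of_isPullback hP (x none) u
    ((hs none).trans hgu.symm)
  have : LocallyOfFiniteType p₂ := MorphismProperty.of_isPullback hP inferInstance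
  have hqf : p₂.QuasiFiniteAt x₀ :=
    Groth.Agent.Lib.QuasiFiniteAtBC.quasiFiniteAt_baseChange hP x₀ (hx₀1 ▸ hx none)
  obtain ⟨U', g', u', hg', hgu', hiso', V', v', hvV', hfin', hsnd', hfst', huniq'⟩ :=
    exists_etaleNbhd_of_quasiFiniteAt p₂ x₀ hqf
  have hgu'' : g' u' = u := hgu'.trans hx₀2
  have hisou : IsIso (g.residueFieldMap (g' u')) := hgu'' ▸ hiso
  refine ⟨U', g' ≫ g, u', pullback p₂ g', pullback.fst p₂ g' ≫ p₁, pullback.snd p₂ g',
    inferInstance, ?_, ?_, (IsPullback.of_hasPullback p₂ g').paste_horiz hP, ?_⟩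
  · rw [Scheme.Hom.comp_apply, hgu'', hgu]
  · rw [Scheme.residueFieldMap_comp]
    exact IsIso.comp_isIso' hisou hiso'
  have hex : ∀ i : α, ∃ w : ↑(pullback p₂ g'), pullback.fst p₂ g' w = v i ∧
      pullback.snd p₂ g' w = u' := fun i =>
    Scheme.Pullback.exists_preimage_pullback (v i) u' ((H i).2.2.1.trans hgu''.symm)
  choose vs hvs1 hvs2 using hex
  refine ⟨fun o => o.elim V' (fun i => pullback.fst p₂ g' ⁻¹ᵁ V i), fun o => o.elim v' vs, ?_⟩
  rintro (_ | i)
  · refine ⟨hvV', hfin', hsnd', huniq', ?_⟩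
    change (pullback.fst p₂ g' ≫ p₁) v' = x none
    rw [Scheme.Hom.comp_apply, hfst', hx₀1]
  · obtain ⟨hvi, hfini, hsndi, huniqi, hfsti⟩ := H i
    refine ⟨?_, ?_, hvs2 i, ?_, ?_⟩
    · change pullback.fst p₂ g' (vs i) ∈ V i
      rw [hvs1 i]; exact hvi
    · have sq : IsPullback (pullback.fst p₂ g' ∣_ V i)
          ((pullback.fst p₂ g' ⁻¹ᵁ V i).ι ≫ pullback.snd p₂ g') ((V i).ι ≫ p₂) g' :=
        (isPullback_morphismRestrict (pullback.fst p₂ g') (V i)).paste_vert
          (IsPullback.of_hasPullback p₂ g')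
      exact MorphismProperty.of_isPullback sq hfini
    · intro w hwV hw
      have h1 : pullback.fst p₂ g' w = v i := by
        apply huniqi _ hwV
        have := congr($(pullback.condition (f := p₂) (g := g')) w)
        rw [Scheme.Hom.comp_apply, Scheme.Hom.comp_apply, hw, hgu''] at this
        exact this
      refine eq_of_fst_eq_of_snd_eq p₂ g' w (vs i) (h1.trans (hvs1 i).symm)
        (hw.trans (hvs2 i).symm) ?_
      rw [hvs2 i]; exact hiso'
    · change (pullback.fst p₂ g' ≫ p₁) (vs i) = x (some i)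
      rw [Scheme.Hom.comp_apply, hvs1 i]; exact hfsti

theorem good_of_finite [LocallyOfFiniteType f] (ι : Type) [Finite ι] (x : ι → X)
    (hs : ∀ i, f (x i) = s) (hx : ∀ i, f.QuasiFiniteAt (x i)) : Good f s ι x :=
  Finite.induction_empty_option
    (P := fun ι => ∀ x : ι → X, (∀ i, f (x i) = s) → (∀ i, f.QuasiFiniteAt (x i)) → Good f s ι x)
    (fun e h => good_of_equiv f s e h) (fun x _ _ => good_empty f s x)
    (fun h => good_option f s h) ι x hs hx

/-- transport of the data from an abstract pullback square to `pullback f g` -/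
lemma transport {X U S P : Scheme.{u}} {f : X ⟶ S} {g : U ⟶ S} {p₁ : P ⟶ X} {p₂ : P ⟶ U}
    (hP : IsPullback p₁ p₂ f g) (u : U) (x : X) (V : P.Opens) (v : P) (hv : v ∈ V)
    (hfin : IsFinite (V.ι ≫ p₂)) (hsnd : p₂ v = u)
    (huniq : ∀ w, w ∈ V → p₂ w = u → w = v) (hfst : p₁ v = x) :
    ∃ (V' : (pullback f g).Opens) (v' : ↑(pullback f g)), v' ∈ V' ∧
      IsFinite (V'.ι ≫ pullback.snd f g) ∧ pullback.snd f g v' = u ∧
      (∀ w, w ∈ V' → pullback.snd f g w = u → w = v') ∧ pullback.fst f g v' = x := by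
  have h1 : hP.isoPullback.hom ≫ pullback.fst f g = p₁ := hP.isoPullback_hom_fst
  have h2 : hP.isoPullback.hom ≫ pullback.snd f g = p₂ := hP.isoPullback_hom_snd
  have h3 : hP.isoPullback.inv ≫ p₂ = pullback.snd f g := hP.isoPullback_inv_snd
  have hinv : ∀ w, hP.isoPullback.inv (hP.isoPullback.hom w) = w := fun w => by
    rw [← Scheme.Hom.comp_apply, Iso.hom_inv_id]; rfl
  have hinv' : ∀ w, hP.isoPullback.hom (hP.isoPullback.inv w) = w := fun w => by
    rw [← Scheme.Hom.comp_apply, Iso.inv_hom_id]; rfl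
  refine ⟨hP.isoPullback.inv ⁻¹ᵁ V, hP.isoPullback.hom v, ?_, ?_, ?_, ?_, ?_⟩
  · change hP.isoPullback.inv (hP.isoPullback.hom v) ∈ V
    rw [hinv]; exact hv
  · have e1 : (hP.isoPullback.inv ⁻¹ᵁ V).ι ≫ pullback.snd f g =
        (hP.isoPullback.inv ∣_ V) ≫ V.ι ≫ p₂ := by
      rw [← Category.assoc, morphismRestrict_ι, Category.assoc, h3]
    rw [e1]
    exact (MorphismProperty.cancel_left_of_respectsIso @IsFinite _ _).mpr hfin
  · rw [← Scheme.Hom.comp_apply, h2, hsnd]
  · intro w hw hwu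
    have : hP.isoPullback.inv w = v := by
      apply huniq _ hw
      rw [← Scheme.Hom.comp_apply, h3, hwu]
    rw [← this, hinv']
  · rw [← Scheme.Hom.comp_apply, h1, hfst]

/-- **Étale localization at finitely many quasi-finite points of a fibre** (Stacks 02LM). -/
theorem exists_etaleNbhd_of_forall_quasiFiniteAt [LocallyOfFiniteType f] {ι : Type} [Finite ι]
    (x : ι → X) (hs : ∀ i, f (x i) = s) (hx : ∀ i, f.QuasiFiniteAt (x i)) :
    ∃ (U : Scheme.{u}) (g : U ⟶ S) (u : U), Etale g ∧ g u = s ∧ IsIso (g.residueFieldMap u) ∧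
      ∃ (V : ι → (pullback f g).Opens) (v : ι → ↑(pullback f g)), ∀ i, v i ∈ V i ∧
        IsFinite ((V i).ι ≫ pullback.snd f g) ∧ pullback.snd f g (v i) = u ∧
        (∀ w, w ∈ V i → pullback.snd f g w = u → w = v i) ∧ pullback.fst f g (v i) = x i := by
  obtain ⟨U, g, u, P, p₁, p₂, hg, hgu, hiso, hP, V, v, H⟩ := good_of_finite f s ι x hs hx
  have := fun i => transport hP u (x i) (V i) (v i) (H i).1 (H i).2.1 (H i).2.2.1 (H i).2.2.2.1
    (H i).2.2.2.2
  choose V' v' H' using this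
  exact ⟨U, g, u, hg, hgu, hiso, V', v', H'⟩

/-- Stacks 02LM packaged with `Hens2.IsEtaleNbhd` and residue field bijectivity. -/
theorem exists_isEtaleNbhd_of_forall_quasiFiniteAt [LocallyOfFiniteType f] {ι : Type} [Finite ι]
    (x : ι → X) (hs : ∀ i, f (x i) = s) (hx : ∀ i, f.QuasiFiniteAt (x i)) :
    ∃ (U : Scheme.{u}) (g : U ⟶ S) (u : U), Hens2.IsEtaleNbhd g u s ∧
      ∃ (V : ι → (pullback f g).Opens) (v : ι → ↑(pullback f g)), ∀ i, v i ∈ V i ∧
        IsFinite ((V i).ι ≫ pullback.snd f g) ∧ pullback.snd f g (v i) = u ∧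
        (∀ w : ↑(pullback f g), w ∈ V i → pullback.snd f g w = u → w = v i) ∧
        pullback.fst f g (v i) = x i ∧
        Function.Bijective ((pullback.fst f g).residueFieldMap (v i)) := by
  obtain ⟨U, g, u, hg, hgu, hiso, V, v, H⟩ := exists_etaleNbhd_of_forall_quasiFiniteAt f s x hs hx
  refine ⟨U, g, u, ⟨hg, hgu, (ConcreteCategory.isIso_iff_bijective _).mp hiso⟩, V, v, fun i => ?_⟩
  obtain ⟨h1, h2, h3, h4, h5⟩ := H i
  refine ⟨h1, h2, h3, h4, h5, ?_⟩
  have : IsIso ((pullback.fst f g).residueFieldMap (v i)) :=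
    isIso_residueFieldMap_fst f g (v i) (h3 ▸ hiso)
  exact (ConcreteCategory.isIso_iff_bijective _).mp this

end Groth.Agent.Lib.EtLocQF
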