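import Groth.Agent.Lib.ProperLqfFinite46
import Groth.Agent.Lib.EtLocQF2
import Groth.Agent.Lib.AlgSpQFBC91
import Groth.Agent.S10271

/-!
# Etale localisation of quasi-finite separated morphisms of algebraic spaces at one point (helper46)

`exists_etale_splitting_at`: for `f : X ⟶ Y` separated, locally of finite type, quasi-finite at `x`, there are
`a : h_U ⟶ Y` etale and `u ∈ U` over `f x` such that every base change `P = X ×_Y U` has an open and closed
subscheme `V`, finite over `U`, with a point over `x` and `u`.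
-/

set_option autoImplicit false
universe u

open CategoryTheory CategoryTheory.Limits AlgebraicGeometry Opposite

namespace Groth.Agent.Lib.EtLocQFSp46

open AlgSp Groth.Agent.Lib.AlgSpPoints Groth.Agent.Lib.H86AlgSpOpen Groth.Agent.Lib.H86AlgSpSub
open Groth.Agent.Lib.ProperLqfFinite46 Groth.Agent.Lib.AlgSpQFBC91

variable {S : Scheme.{u}}

theorem isClosedImmersion_of_isOpenImmersion_of_universallyClosed :
    (@IsOpenImmersion ⊓ @UniversallyClosed : MorphismProperty Scheme.{u}) ≤ @IsClosedImmersion := by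
  rintro A B g ⟨h1, h2⟩
  have : IsOpenImmersion g := h1
  have : UniversallyClosed g := h2
  exact IsClosedImmersion.iff_isPreimmersion.2 ⟨inferInstance, g.isClosedMap.isClosed_range⟩

/-- An open immersion of algebraic spaces which is universally closed is a closed immersion. -/
theorem repWith_isClosedImmersion_of_open_of_univClosed {A B : Sp S} (hA : IsAlgSpace A) (hB : IsAlgSpace B)
    {j : A ⟶ B} (hj : RepWith @IsOpenImmersion j) (huc : IsUnivClosedMor j) :
    RepWith @IsClosedImmersion j :=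
  Groth.Agent.Lib.AlgSpBasic.repWith_mono isClosedImmersion_of_isOpenImmersion_of_universallyClosed
    (Groth.Agent.Lib.H69AlgSpMor.repWith_inf hj
      ((Groth.Agent.Lib.AlgSpProper.repWith_universallyClosed_iff hA hB hj.rep).2 huc))

/-- Etale localisation at one point. -/
theorem exists_etale_splitting_at {X Y : Sp S} (hX : IsAlgSpace X) (hY : IsAlgSpace Y) (f : X ⟶ Y)
    (x : Points X) (hlft : LocP @LocallyOfFiniteType f) (hsep : IsSeparatedMor f)
    (hqf : HasAtMor QfAt f x) :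
    ∃ (U : Over S) (a : (yon S).obj U ⟶ Y) (u₀ : ↥U.left), RepWith @Etale a ∧
      Points.ofPt a u₀ = Points.map f x ∧
      ∀ (P : Sp S) (prX : P ⟶ X) (prU : P ⟶ (yon S).obj U), IsPullback prX prU f a →
        ∃ (V : Over S) (jV : (yon S).obj V ⟶ P) (ζ : V ⟶ U) (v₀ : ↥V.left),
          RepWith @IsOpenImmersion jV ∧ RepWith @IsClosedImmersion jV ∧ jV ≫ prU = (yon S).map ζ ∧
          IsFinite ζ.left ∧ Points.map prX (Points.ofPt jV v₀) = x ∧ ζ.left v₀ = u₀ := by
  -- atlas of `Y`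
  obtain ⟨W, c, hce, hcs⟩ := hY.atlas
  obtain ⟨w₀, hw₀⟩ := Groth.Agent.Lib.H86AlgSpPoints.ofPt_surjective hcs (Points.map f x)
  have hWa : IsAlgSpace ((yon S).obj W) := IsAlgSpace.yon_obj W
  -- `X_W`
  have sqW := IsPullback.of_hasPullback f c
  set XW := pullback f c with hXW
  set b : XW ⟶ X := pullback.fst _ _ with hb
  set fW : XW ⟶ (yon S).obj W := pullback.snd _ _ with hfW
  have hXWa : IsAlgSpace XW :=
    Groth.Agent.Lib.AlgSpBasic.isAlgSpace_of_isPullback hX hWa (fun U a => hY.representable_from_yon a) sqW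
  have hlftW : LocP @LocallyOfFiniteType fW :=
    Groth.Agent.Lib.AlgSpLocP.locP_of_isPullback Groth.Agent.Lib.AlgSpLocP.etLocalClass_lft hX hY hWa sqW hlft
  have hsepW : IsSeparatedMor fW := Groth.Agent.Lib.AlgSpProper.isSeparatedMor_of_isPullback sqW hsep
  obtain ⟨xW, hxW1, hxW2⟩ := exists_of_isPullback sqW x (Points.ofScheme W w₀) (by
    rw [← hw₀, Points.ofPt_eq_map_ofScheme])
  have hxWq : xW ∈ qfLocus fW := by
    rw [← mem_qfLocus_baseChange hX hY hXWa hWa sqW hlft, hxW1, ← hasAtMor_opens_iff f hlft]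
    exact hqf
  -- the quasi-finite locus `X'`
  have hQo : IsOpen (qfLocus fW) := isOpen_qfLocus fW hlftW
  set X' := openSub XW (qfLocus fW) with hX'
  set ι' : X' ⟶ XW := openSubι XW (qfLocus fW) with hι'
  have hι'o : RepWith @IsOpenImmersion ι' := openSubι_repWith hQo
  have hX'a : IsAlgSpace X' := isAlgSpace_openSub hXWa hQo
  have hf'qf : LocP (@LocallyQuasiFinite ⊓ @LocallyOfFiniteType) (ι' ≫ fW) :=
    locP_lqf_openSubι_comp hXWa hWa fW hlftW hQo subset_rfl
  have hf'sep : IsSeparatedMor (ι' ≫ fW) :=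
    Groth.Agent.Lib.AlgSpProper.isSeparatedMor_comp
      (Groth.Agent.Lib.GrpFieldSep46.isSeparatedMor_of_mono _) hsepW
  obtain ⟨X'₀, ⟨r⟩⟩ := Groth.Agent.Lib.SepLqfRep46.isRepresentable_of_sep_lqf hX'a (ι' ≫ fW) hf'sep hf'qf
  let e' : (yon S).obj X'₀ ≅ X' := isoOfRepresentableBy r
  obtain ⟨f'₀, hf'₀⟩ := (yon S).map_surjective (e'.hom ≫ ι' ≫ fW)
  have hf'₀P : (@LocallyQuasiFinite ⊓ @LocallyOfFiniteType) f'₀.left := by
    refine hf'qf e'.hom (𝟙 _) f'₀ (MorphismProperty.of_isIso (RepWith (S := S) @Etale) _) (repWith_id _ W) ?_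
    rw [hf'₀, Category.comp_id]
  have : LocallyQuasiFinite f'₀.left := hf'₀P.1
  have : LocallyOfFiniteType f'₀.left := hf'₀P.2
  -- the point `x'₀`
  obtain ⟨x', hx'⟩ : xW ∈ Set.range (Points.map ι') := by rw [range_map_openSubι]; exact hxWq
  set x'₀ : ↥X'₀.left := Points.toScheme X'₀ (Points.map e'.inv x') with hx'₀
  have hx'₀e : Points.map e'.hom (Points.ofScheme X'₀ x'₀) = x' := by
    rw [hx'₀, Points.ofScheme_toScheme, ← Points.map_comp, Iso.inv_hom_id, Points.map_id]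
  have hx'₀w : f'₀.left x'₀ = w₀ := by
    have h1 : Points.map ((yon S).map f'₀) (Points.ofScheme X'₀ x'₀) = Points.ofScheme W (f'₀.left x'₀) :=
      Points.map_yon_map_apply f'₀ x'₀
    rw [hf'₀, Points.map_comp, hx'₀e, Points.map_comp, hx', hxW2] at h1
    exact ((Points.schemeEquiv W).injective h1).symm
  -- etale localisation for schemes
  obtain ⟨U₀, g₀, u₀, hg₀e, hg₀u, -, Vf, vf, HV⟩ :=
    Groth.Agent.Lib.EtLocQF.exists_etaleNbhd_of_forall_quasiFiniteAt f'₀.left w₀ (ι := Unit)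
      (fun _ => x'₀) (fun _ => hx'₀w) (fun _ => f'₀.left.quasiFiniteAt x'₀)
  obtain ⟨hv₁, hVfin, hv₁u, -, hv₁x⟩ := HV ()
  set V₁ := Vf () with hV₁
  set v₁ := vf () with hv₁'
  -- objects over `S`
  let U : Over S := Over.mk (g₀ ≫ W.hom)
  let gU : U ⟶ W := Over.homMk g₀ rfl
  have : Etale gU.left := hg₀e
  let E : Over S := Over.mk (pullback.snd f'₀.left g₀ ≫ U.hom)
  let prX' : E ⟶ X'₀ := Over.homMk (pullback.fst f'₀.left g₀) (by
    change pullback.fst f'₀.left g₀ ≫ X'₀.hom = pullback.snd f'₀.left g₀ ≫ g₀ ≫ W.hom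
    rw [← Over.w f'₀, ← Category.assoc, pullback.condition, Category.assoc])
  let prU' : E ⟶ U := Over.homMk (pullback.snd f'₀.left g₀) rfl
  have sqE : IsPullback prX' prU' f'₀ gU := by
    apply IsPullback.of_map (Over.forget S) (Over.OverMorphism.ext pullback.condition)
    exact IsPullback.of_hasPullback f'₀.left g₀
  let VV : Over S := Over.mk (V₁.ι ≫ E.hom)
  let ιVV : VV ⟶ E := Over.homMk V₁.ι rfl
  have : IsOpenImmersion ιVV.left := inferInstanceAs (IsOpenImmersion V₁.ι)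
  let ζ : VV ⟶ U := ιVV ≫ prU'
  have hζfin : IsFinite ζ.left := hVfin
  have hUa : IsAlgSpace ((yon S).obj U) := IsAlgSpace.yon_obj U
  have hVVa : IsAlgSpace ((yon S).obj VV) := IsAlgSpace.yon_obj VV
  have hae : RepWith @Etale ((yon S).map gU ≫ c) :=
    (RepWith @Etale).comp_mem _ _ ((repWith_yon_map_iff _ gU).2 inferInstance) hce
  refine ⟨U, (yon S).map gU ≫ c, u₀, hae, ?_, ?_⟩
  · rw [← hw₀, ← hg₀u, Points.ofPt_eq_map_ofScheme, Points.ofPt_eq_map_ofScheme, Points.map_comp]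
    congr 1
    exact Points.map_yon_map_apply gU u₀
  intro P prX prU sq
  have hPa : IsAlgSpace P :=
    Groth.Agent.Lib.AlgSpBasic.isAlgSpace_of_isPullback hX hUa (fun U a => hY.representable_from_yon a) sq
  -- `ρ : P ⟶ X_W`
  have hρw : prX ≫ f = (prU ≫ (yon S).map gU) ≫ c := by rw [sq.w, Category.assoc]
  let ρ : P ⟶ XW := sqW.lift prX (prU ≫ (yon S).map gU) hρw
  have hρ1 : ρ ≫ b = prX := sqW.lift_fst _ _ _
  have hρ2 : ρ ≫ fW = prU ≫ (yon S).map gU := sqW.lift_snd _ _ _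
  have sqρ : IsPullback ρ prU fW ((yon S).map gU) := by
    refine IsPullback.of_right ?_ hρ2 sqW
    rw [hρ1]
    exact sq
  -- `φ : h_E ⟶ P`
  have sqE' : IsPullback ((yon S).map prX' ≫ e'.hom) ((yon S).map prU') (ι' ≫ fW) ((yon S).map gU) := by
    have h1 := sqE.map (yon S)
    have h2 : IsPullback ((yon S).map prX') ((yon S).map prU') (e'.hom ≫ ι' ≫ fW) ((yon S).map gU) := by
      rw [← hf'₀]; exact h1
    exact IsPullback.of_iso h2 (Iso.refl _) e' (Iso.refl _) (Iso.refl _) (by simp) (by simp) (by simp)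
      (by simp)
  have hφw : (((yon S).map prX' ≫ e'.hom) ≫ ι') ≫ fW = (yon S).map prU' ≫ (yon S).map gU := by
    rw [Category.assoc]; exact sqE'.w
  let φ : (yon S).obj E ⟶ P := sqρ.lift (((yon S).map prX' ≫ e'.hom) ≫ ι') ((yon S).map prU') hφw
  have hφ1 : φ ≫ ρ = ((yon S).map prX' ≫ e'.hom) ≫ ι' := sqρ.lift_fst _ _ _
  have hφ2 : φ ≫ prU = (yon S).map prU' := sqρ.lift_snd _ _ _
  have sqφ : IsPullback φ ((yon S).map prX' ≫ e'.hom) ρ ι' :=
    IsPullback.of_right (by rw [hφ2]; exact sqE'.flip) hφ1 sqρ.flip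
  have hφo : RepWith @IsOpenImmersion φ := Groth.Agent.Lib.AlgSpBasic.repWith_fst_of_isPullback _ sqφ hι'o
  let jV : (yon S).obj VV ⟶ P := (yon S).map ιVV ≫ φ
  have hjVo : RepWith @IsOpenImmersion jV :=
    (RepWith @IsOpenImmersion).comp_mem _ _ ((repWith_yon_map_iff _ ιVV).2 inferInstance) hφo
  have hjVU : jV ≫ prU = (yon S).map ζ := by
    rw [Category.assoc, hφ2, ← Functor.map_comp]
  have hprUsep : IsSeparatedMor prU := Groth.Agent.Lib.AlgSpProper.isSeparatedMor_of_isPullback sq hsep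
  have hζF : IsFiniteMor ((yon S).map ζ) :=
    (Groth.Agent.Lib.H86ZarGlue.isFiniteMor_iff_repWith _).2 ((repWith_yon_map_iff _ ζ).2 hζfin)
  have hζuc : IsUnivClosedMor ((yon S).map ζ) :=
    ((Groth.Agent.S10271.result (X := ⟨_, hVVa⟩) (Y := ⟨_, hUa⟩)
      (ObjectProperty.homMk ((yon S).map ζ))).1 hζF).2.2.2
  have hjVuc : IsUnivClosedMor jV :=
    Groth.Agent.Lib.AlgSpProper.isUnivClosedMor_of_comp hVVa hPa hUa hprUsep (by rw [hjVU]; exact hζuc)
  have hjVc := repWith_isClosedImmersion_of_open_of_univClosed hVVa hPa hjVo hjVuc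
  refine ⟨VV, jV, ζ, ⟨v₁, hv₁⟩, hjVo, hjVc, hjVU, hζfin, ?_, hv₁u⟩
  rw [Points.map_ofPt]
  have h1 : jV ≫ prX = (yon S).map (ιVV ≫ prX') ≫ e'.hom ≫ ι' ≫ b := by
    rw [← hρ1, Category.assoc, ← Category.assoc φ, hφ1, Functor.map_comp]
    simp only [Category.assoc]
  rw [h1, Points.ofPt_eq_map_ofScheme, Points.map_comp, Points.map_comp, Points.map_comp]
  have h2 : Points.map ((yon S).map (ιVV ≫ prX')) (Points.ofScheme VV ⟨v₁, hv₁⟩) =
      Points.ofScheme X'₀ ((ιVV ≫ prX').left ⟨v₁, hv₁⟩) := Points.map_yon_map_apply _ _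
  have h3 : (ιVV ≫ prX').left ⟨v₁, hv₁⟩ = x'₀ := hv₁x
  rw [h2, h3, hx'₀e, hx', hxW1]

end Groth.Agent.Lib.EtLocQFSp46
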