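import Groth.Agent.Lib.EtRootCover
import Groth.Agent.Lib.EtGermB
import Groth.Prelude.Def_EtBaseX

/-!
# The etale local ring at a geometric point is strictly henselian (helper39)
-/

set_option autoImplicit false
universe u
open CategoryTheory CategoryTheory.Limits AlgebraicGeometry Opposite

namespace Groth.Agent.Lib.EtLocalRing

open Groth.Agent.Lib.EtGerm Groth.Agent.Lib.EtRootCover

variable {X : Scheme.{u}} {Ω : Type u} [Field Ω] [IsSepClosed Ω] (ξ : Spec (CommRingCat.of Ω) ⟶ X)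

/-- the underlying morphism of a neighbourhood -/
noncomputable abbrev nl {U : X.Etale} (y : Nbhd ξ U) : Spec (CommRingCat.of Ω) ⟶ U.left :=
  (CommaMorphism.left y : Spec (CommRingCat.of Ω) ⟶ U.left)

/-- germs of functions -/
noncomputable def germR {U : X.Etale} (y : Nbhd ξ U) : Γ(U.left, ⊤) →+* EtBase.etaleLocalRing ξ :=
  ((Scheme.pointSmallEtale ξ).toPresheafFiber U y (EtBase.OO X)).hom

lemma germR_jointly_surjective (a : EtBase.etaleLocalRing ξ) :
    ∃ (U : X.Etale) (y : Nbhd ξ U) (s : Γ(U.left, ⊤)), germR ξ y s = a :=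
  (Scheme.pointSmallEtale ξ).toPresheafFiber_jointly_surjective (P := EtBase.OO X) a

lemma germR_res {U V : X.Etale} (g : V ⟶ U) (y : Nbhd ξ V) (s : Γ(U.left, ⊤)) :
    germR ξ y (g.left.appTop.hom s) = germR ξ (Nbhd.map ξ g y) s :=
  (Scheme.pointSmallEtale ξ).toPresheafFiber_w_apply g y (EtBase.OO X) s

/-- the value of a function at the geometric point -/
noncomputable def valAt {U : X.Etale} (y : Nbhd ξ U) : Γ(U.left, ⊤) →+* Ω :=
  (Scheme.ΓSpecIso (CommRingCat.of Ω)).hom.hom.comp (nl ξ y).appTop.hom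

lemma valAt_res {U V : X.Etale} (g : V ⟶ U) (y : Nbhd ξ V) (s : Γ(U.left, ⊤)) :
    valAt ξ y (g.left.appTop.hom s) = valAt ξ (Nbhd.map ξ g y) s := by
  have h : nl ξ (Nbhd.map ξ g y) = nl ξ y ≫ g.left := rfl
  unfold valAt
  rw [h, Scheme.Hom.comp_appTop]
  rfl

/-- evaluation at the geometric point -/
noncomputable def ev : EtBase.etaleLocalRing ξ ⟶ CommRingCat.of Ω :=
  (Scheme.pointSmallEtale ξ).presheafFiberDesc (P := EtBase.OO X)
    (fun U y => CommRingCat.ofHom (valAt ξ y))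
    (fun U V g y => by
      apply CommRingCat.hom_ext
      apply RingHom.ext
      intro s
      exact valAt_res ξ g y s)

lemma ev_germR {U : X.Etale} (y : Nbhd ξ U) (s : Γ(U.left, ⊤)) :
    (ev ξ).hom (germR ξ y s) = valAt ξ y s := by
  have h := (Scheme.pointSmallEtale ξ).toPresheafFiber_presheafFiberDesc (P := EtBase.OO X)
    (fun U y => CommRingCat.ofHom (valAt ξ y))
    (fun U V g y => by
      apply CommRingCat.hom_ext
      apply RingHom.ext
      intro s
      exact valAt_res ξ g y s) U y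
  exact congrArg (fun k => k.hom s) h

/-- a function is invertible on its basic open -/
lemma isUnit_ι_appTop_basicOpen {Y : Scheme.{u}} (g : Γ(Y, ⊤)) :
    IsUnit ((Y.basicOpen g).ι.appTop.hom g) := by
  have h1 := RingedSpace.isUnit_res_basicOpen Y.toRingedSpace g
  have h2 : (Y.basicOpen g).ι.appTop = Y.presheaf.map (homOfLE (Y.basicOpen_le g)).op ≫
      Y.presheaf.map (eqToHom (Y.basicOpen g).ι_image_top).op := by
    rw [Scheme.Opens.ι_appTop, ← Functor.map_comp]
    rfl
  rw [h2]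
  exact h1.map (Y.presheaf.map (eqToHom (Y.basicOpen g).ι_image_top).op).hom

lemma pt_mem_basicOpen {U : X.Etale} (y : Nbhd ξ U) (s : Γ(U.left, ⊤)) (h : valAt ξ y s ≠ 0) :
    Nbhd.pt ξ y ∈ U.left.basicOpen s := by
  have h1 : IsUnit ((nl ξ y).appTop.hom s) := by
    have h2 : IsUnit (valAt ξ y s) := h.isUnit
    have h3 := h2.map (Scheme.ΓSpecIso (CommRingCat.of Ω)).inv.hom
    have h4 : (Scheme.ΓSpecIso (CommRingCat.of Ω)).inv.hom (valAt ξ y s) = (nl ξ y).appTop.hom s := by
      unfold valAt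
      exact congrArg (fun k => k.hom ((nl ξ y).appTop.hom s))
        (Scheme.ΓSpecIso (CommRingCat.of Ω)).hom_inv_id
    rwa [h4] at h3
  have h5 : (nl ξ y) ⁻¹ᵁ (U.left.basicOpen s) = ⊤ := by
    rw [Scheme.preimage_basicOpen]
    exact Scheme.basicOpen_of_isUnit _ h1
  have h6 : (default : Spec (CommRingCat.of Ω)) ∈ (nl ξ y) ⁻¹ᵁ (U.left.basicOpen s) := by
    rw [h5]
    trivial
  exact h6

/-- functions not vanishing at the geometric point have invertible germs -/
lemma isUnit_germR_of_valAt_ne_zero {U : X.Etale} (y : Nbhd ξ U) (s : Γ(U.left, ⊤))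
    (h : valAt ξ y s ≠ 0) : IsUnit (germR ξ y s) := by
  obtain ⟨z, hz⟩ := exists_nbhd_openSub ξ (U.left.basicOpen s) y (pt_mem_basicOpen ξ y s h)
  rw [← hz, ← germR_res]
  exact (isUnit_ι_appTop_basicOpen s).map (germR ξ z)

lemma isUnit_iff_ev_ne_zero (a : EtBase.etaleLocalRing ξ) : IsUnit a ↔ (ev ξ).hom a ≠ 0 := by
  constructor
  · intro h
    exact (h.map (ev ξ).hom).ne_zero
  · intro h
    obtain ⟨U, y, s, rfl⟩ := germR_jointly_surjective ξ a
    rw [ev_germR] at h
    exact isUnit_germR_of_valAt_ne_zero ξ y s h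

instance : Nontrivial (EtBase.etaleLocalRing ξ) := by
  refine ⟨⟨0, 1, fun h => ?_⟩⟩
  have := congrArg (ev ξ).hom h
  rw [map_zero, map_one] at this
  exact zero_ne_one this

instance isLocalRing : IsLocalRing (EtBase.etaleLocalRing ξ) := by
  apply IsLocalRing.of_nonunits_add
  intro a b ha hb
  rw [mem_nonunits_iff, isUnit_iff_ev_ne_zero, not_not] at ha hb ⊢
  rw [map_add, ha, hb, add_zero]

lemma mem_maximalIdeal_iff (a : EtBase.etaleLocalRing ξ) :
    a ∈ IsLocalRing.maximalIdeal (EtBase.etaleLocalRing ξ) ↔ (ev ξ).hom a = 0 := by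
  rw [IsLocalRing.mem_maximalIdeal, mem_nonunits_iff, isUnit_iff_ev_ne_zero, not_not]

/-- finitely many elements of the etale local ring come from a common neighbourhood -/
lemma exists_lift_fin (n : ℕ) (c : Fin n → EtBase.etaleLocalRing ξ) :
    ∃ (U : X.Etale) (y : Nbhd ξ U) (s : Fin n → Γ(U.left, ⊤)), ∀ i, germR ξ y (s i) = c i := by
  induction n with
  | zero =>
    obtain ⟨U, y, s, -⟩ := germR_jointly_surjective ξ 0
    exact ⟨U, y, Fin.elim0, fun i => i.elim0⟩
  | succ n ih =>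
    obtain ⟨U₁, y₁, s₁, h₁⟩ := ih (fun i => c i.succ)
    obtain ⟨U₂, y₂, t, ht⟩ := germR_jointly_surjective ξ (c 0)
    obtain ⟨V, g₁, g₂, z, hz₁, hz₂⟩ := exists_common_nbhd ξ y₁ y₂
    refine ⟨V, z, Fin.cons (g₂.left.appTop.hom t) (fun i => g₁.left.appTop.hom (s₁ i)), ?_⟩
    intro i
    refine Fin.cases ?_ (fun j => ?_) i
    · rw [Fin.cons_zero, germR_res, hz₂, ht]
    · rw [Fin.cons_succ, germR_res, hz₁, h₁]

open Polynomial in
/-- monic polynomials over the etale local ring come from monic polynomials over a neighbourhood -/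
lemma exists_lift_monic (f : (EtBase.etaleLocalRing ξ)[X]) (hf : f.Monic) :
    ∃ (U : X.Etale) (y : Nbhd ξ U) (F : Γ(U.left, ⊤)[X]), F.Monic ∧ F.map (germR ξ y) = f := by
  obtain ⟨U, y, s, hs⟩ := exists_lift_fin ξ f.natDegree (fun i => f.coeff i)
  refine ⟨U, y, Polynomial.X ^ f.natDegree +
    ∑ i : Fin f.natDegree, Polynomial.C (s i) * Polynomial.X ^ (i : ℕ), ?_, ?_⟩
  · exact Polynomial.monic_X_pow_add (Polynomial.degree_sum_fin_lt _)
  · rw [Polynomial.map_add, Polynomial.map_pow, Polynomial.map_X, Polynomial.map_sum]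
    simp only [Polynomial.map_mul, Polynomial.map_C, Polynomial.map_pow, Polynomial.map_X, hs]
    conv_rhs => rw [hf.as_sum]
    rw [Fin.sum_univ_eq_sum_range (fun i => Polynomial.C (f.coeff i) * Polynomial.X ^ i)]

lemma ev_comp_germR {U : X.Etale} (y : Nbhd ξ U) : (ev ξ).hom.comp (germR ξ y) = valAt ξ y :=
  RingHom.ext (fun s => ev_germR ξ y s)

/-- evaluation of functions on `Spec` of a ring at a field-valued point -/
lemma ΓSpecIso_hom_appTop {R S : CommRingCat.{u}} (φ : R ⟶ S) (t : Γ(Spec R, ⊤)) :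
    (Scheme.ΓSpecIso S).hom.hom ((Spec.map φ).appTop.hom t) =
      φ.hom ((Scheme.ΓSpecIso R).hom.hom t) :=
  congrArg (fun k => k.hom t) (Scheme.ΓSpecIso_naturality φ)

lemma eval_map_comp_eq_zero {A B C : Type*} [CommRing A] [CommRing B] [CommRing C]
    (F : Polynomial A) (f : A →+* B) (g : B →+* C) (x : B)
    (h : (F.map f).eval x = 0) : (F.map (g.comp f)).eval (g x) = 0 := by
  rw [← Polynomial.map_map, Polynomial.eval_map_apply, h, map_zero]

section lifting

variable {U : X.Etale} (y : Nbhd ξ U) {R : CommRingCat.{u}} (ι : Spec R ⟶ U.left)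
  [IsOpenImmersion ι] (y₀ : Spec (CommRingCat.of Ω) ⟶ Spec R) (hy₀ : y₀ ≫ ι = nl ξ y)

/-- restriction of functions to the affine chart -/
noncomputable def rho : Γ(U.left, ⊤) →+* R :=
  (Scheme.ΓSpecIso R).hom.hom.comp ι.appTop.hom

omit [IsOpenImmersion ι] in
include hy₀ in
lemma valAt_eq : valAt ξ y = (Spec.preimage y₀).hom.comp (rho ι) := by
  apply RingHom.ext
  intro s
  have h1 : nl ξ y = Spec.map (Spec.preimage y₀) ≫ ι := by rw [Spec.map_preimage, hy₀]
  unfold valAt
  rw [h1, Scheme.Hom.comp_appTop]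
  exact ΓSpecIso_hom_appTop (Spec.preimage y₀) (ι.appTop.hom s)

include hy₀ in
/-- the key step: a simple root in `Ω` of a monic polynomial over a neighbourhood lifts to a root
over a smaller neighbourhood -/
lemma exists_root_nbhd (F : Polynomial Γ(U.left, ⊤)) (hF : F.Monic) (ω : Ω)
    (h0 : F.eval₂ (valAt ξ y) ω = 0) (h1 : F.derivative.eval₂ (valAt ξ y) ω ≠ 0) :
    ∃ (W : X.Etale) (g : W ⟶ U) (z : Nbhd ξ W) (t : Γ(W.left, ⊤)), Nbhd.map ξ g z = y ∧
      (F.map g.left.appTop.hom).eval t = 0 ∧ valAt ξ z t = ω := by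
  let ψ : R ⟶ CommRingCat.of Ω := Spec.preimage y₀
  have hψ : Spec.map ψ = y₀ := Spec.map_preimage y₀
  have hval : valAt ξ y = ψ.hom.comp (rho ι) := valAt_eq ξ y ι y₀ hy₀
  let P : StandardEtalePair R :=
    ⟨F.map (rho ι), hF.map (rho ι), (F.map (rho ι)).derivative, ⟨1, 0, 1, by simp⟩⟩
  let _ : Algebra R Ω := ψ.hom.toAlgebra
  have hω : P.HasMap ω := by
    constructor
    · show Polynomial.aeval ω (F.map (rho ι)) = 0
      rw [Polynomial.aeval_def, Polynomial.eval₂_map]
      have : (algebraMap R Ω).comp (rho ι) = valAt ξ y := hval.symm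
      rw [this]
      exact h0
    · show IsUnit (Polynomial.aeval ω (F.map (rho ι)).derivative)
      rw [Polynomial.derivative_map, Polynomial.aeval_def, Polynomial.eval₂_map]
      have : (algebraMap R Ω).comp (rho ι) = valAt ξ y := hval.symm
      rw [this]
      exact h1.isUnit
  let χ : P.Ring →ₐ[R] Ω := P.lift ω hω
  let zl : Spec (CommRingCat.of Ω) ⟶ Spec (CommRingCat.of P.Ring) :=
    Spec.map (CommRingCat.ofHom χ.toRingHom)
  have hzl : zl ≫ specMap P = y₀ := by
    rw [← hψ, ← Spec.map_comp]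
    congr 1
    apply CommRingCat.hom_ext
    apply RingHom.ext
    intro r
    exact χ.commutes r
  have hzl2 : zl ≫ (specMap P ≫ ι) = nl ξ y := by
    rw [← Category.assoc, hzl, hy₀]
  have hzl3 : zl ≫ (rootCover U ι P).hom = ξ := by
    show zl ≫ (specMap P ≫ ι ≫ U.hom) = ξ
    have hy : nl ξ y ≫ U.hom = ξ := Over.w y
    rw [← Category.assoc, ← Category.assoc, Category.assoc zl, hzl2, hy]
  let z : Nbhd ξ (rootCover U ι P) := Over.homMk zl hzl3
  refine ⟨rootCover U ι P, rootCoverHom U ι P, z,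
    (Scheme.ΓSpecIso (CommRingCat.of P.Ring)).inv.hom P.X, ?_, ?_, ?_⟩
  · apply Over.OverMorphism.ext
    exact hzl2
  · have hrc : (rootCoverHom U ι P).left.appTop.hom =
        (Scheme.ΓSpecIso (CommRingCat.of P.Ring)).inv.hom.comp
          ((algebraMap R P.Ring).comp (rho ι)) := by
      apply RingHom.ext
      intro s
      exact rootCoverHom_appTop U ι P s
    have h2 : Polynomial.eval P.X (F.map ((algebraMap R P.Ring).comp (rho ι))) = 0 := by
      have := P.hasMap_X.1
      rw [Polynomial.aeval_def, Polynomial.eval₂_eq_eval_map] at this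
      rw [← Polynomial.map_map]
      exact this
    exact (congrArg (fun k => Polynomial.eval
      ((Scheme.ΓSpecIso (CommRingCat.of P.Ring)).inv.hom P.X) (F.map k)) hrc).trans
      (eval_map_comp_eq_zero F _ _ P.X h2)
  · show (Scheme.ΓSpecIso (CommRingCat.of Ω)).hom.hom (zl.appTop.hom
      ((Scheme.ΓSpecIso (CommRingCat.of P.Ring)).inv.hom P.X)) = ω
    rw [ΓSpecIso_hom_appTop]
    have h3 : (Scheme.ΓSpecIso (CommRingCat.of P.Ring)).hom.hom
        ((Scheme.ΓSpecIso (CommRingCat.of P.Ring)).inv.hom P.X) = P.X :=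
      congrArg (fun k => k.hom P.X) (Scheme.ΓSpecIso (CommRingCat.of P.Ring)).inv_hom_id
    rw [h3]
    exact P.lift_X ω hω

end lifting

/-- the lifting property: simple roots in `Ω` of monic polynomials lift to the etale local ring -/
theorem exists_root_lift (f : Polynomial (EtBase.etaleLocalRing ξ)) (hf : f.Monic) (ω : Ω)
    (h0 : f.eval₂ (ev ξ).hom ω = 0) (h1 : f.derivative.eval₂ (ev ξ).hom ω ≠ 0) :
    ∃ a : EtBase.etaleLocalRing ξ, f.eval a = 0 ∧ (ev ξ).hom a = ω := by
  obtain ⟨U, y, F, hF, rfl⟩ := exists_lift_monic ξ f hf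
  obtain ⟨R, ι, hι, 𝔭, h𝔭⟩ := exists_affine_nbhd U (Nbhd.pt ξ y)
  have hrange : Set.range (nl ξ y) ⊆ Set.range ι := by
    rw [range_eq_singleton (nl ξ y)]
    rintro _ rfl
    exact ⟨_, h𝔭⟩
  let y₀ := IsOpenImmersion.lift ι (nl ξ y) hrange
  have hy₀ : y₀ ≫ ι = nl ξ y := IsOpenImmersion.lift_fac _ _ _
  rw [Polynomial.eval₂_map, ev_comp_germR] at h0
  rw [Polynomial.derivative_map, Polynomial.eval₂_map, ev_comp_germR] at h1
  obtain ⟨W, g, z, t, hz, ht0, htω⟩ := exists_root_nbhd ξ y ι y₀ hy₀ F hF ω h0 h1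
  refine ⟨germR ξ z t, ?_, ?_⟩
  · have hg : germR ξ y = (germR ξ z).comp g.left.appTop.hom := by
      apply RingHom.ext
      intro s
      rw [RingHom.comp_apply, germR_res, hz]
    rw [hg]
    exact eval_map_comp_eq_zero F _ _ t ht0
  · rw [ev_germR, htω]

instance isLocalHom_ev : IsLocalHom (ev ξ).hom :=
  ⟨fun a ha => (isUnit_iff_ev_ne_zero ξ a).2 ha.ne_zero⟩

instance henselian : HenselianLocalRing (EtBase.etaleLocalRing ξ) where
  toIsLocalRing := isLocalRing ξ
  is_henselian f hf a₀ h₁ h₂ := by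
    have h0 : f.eval₂ (ev ξ).hom ((ev ξ).hom a₀) = 0 := by
      rw [Polynomial.eval₂_hom]
      exact (mem_maximalIdeal_iff ξ _).1 h₁
    have h1' : f.derivative.eval₂ (ev ξ).hom ((ev ξ).hom a₀) ≠ 0 := by
      rw [Polynomial.eval₂_hom]
      exact (isUnit_iff_ev_ne_zero ξ _).1 h₂
    obtain ⟨a, ha, hav⟩ := exists_root_lift ξ f hf _ h0 h1'
    exact ⟨a, ha, (mem_maximalIdeal_iff ξ _).2 (by rw [map_sub, hav, sub_self])⟩

instance isSepClosed_residueField :
    IsSepClosed (IsLocalRing.ResidueField (EtBase.etaleLocalRing ξ)) := by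
  apply IsSepClosed.of_exists_root
  intro p hpm hpi hps
  let ēv : IsLocalRing.ResidueField (EtBase.etaleLocalRing ξ) →+* Ω :=
    IsLocalRing.ResidueField.lift (ev ξ).hom
  obtain ⟨f, hfp, -, hfm⟩ := Polynomial.lifts_and_degree_eq_and_monic
    (Polynomial.mem_lifts_of_surjective (IsLocalRing.residue_surjective) p) hpm
  have hsep : (p.map ēv).Separable := hps.map
  have hdeg : (p.map ēv).degree ≠ 0 := by
    rw [Polynomial.degree_map]
    exact (Polynomial.degree_pos_of_irreducible hpi).ne'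
  obtain ⟨ω, hω⟩ := IsSepClosed.exists_root _ hdeg hsep
  have hcomp : ēv.comp (IsLocalRing.residue (EtBase.etaleLocalRing ξ)) = (ev ξ).hom :=
    IsLocalRing.ResidueField.lift_comp_residue _
  have h0 : f.eval₂ (ev ξ).hom ω = 0 := by
    rw [← hcomp, ← Polynomial.eval₂_map, hfp, Polynomial.eval₂_eq_eval_map]
    exact hω
  have h1 : f.derivative.eval₂ (ev ξ).hom ω ≠ 0 := by
    rw [← hcomp, ← Polynomial.eval₂_map, ← Polynomial.derivative_map, hfp]
    apply hps.eval₂_derivative_ne_zero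
    rw [Polynomial.eval₂_eq_eval_map]
    exact hω
  obtain ⟨a, ha, -⟩ := exists_root_lift ξ f hfm ω h0 h1
  refine ⟨IsLocalRing.residue _ a, ?_⟩
  rw [← hfp, Polynomial.eval_map_apply, ha, map_zero]

/-- the etale local ring at a geometric point is strictly henselian -/
theorem isStrictlyHenselian : EtCoh.IsStrictlyHenselianLocalRing (EtBase.etaleLocalRing ξ) :=
  ⟨henselian ξ, isSepClosed_residueField ξ⟩

end Groth.Agent.Lib.EtLocalRing
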