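import Mathlib
import Groth.Agent.Lib.UnramEq

/-!
# Etale-local structure of unramified algebras (Stacks 04HM) (helper61)

Let `R → S` be of finite type and unramified at a prime `q`. By Mathlib's local structure theorem
there are `f ∉ q` and a standard etale `R`-algebra `E` with a surjection `φ : E → S_f`. Then the graph
of `Spec S_f → Spec E` is open and closed in `Spec (E ⊗[R] S)`; algebraically, the kernel of
`E ⊗[R] S → S_f` is generated by an idempotent. This splits `E ⊗[R] S ≅ S_f × B` with `E → S_f`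
surjective.

* `exists_idempotent_of_away`: an ideal `I` with `g` invertible modulo `I` whose extension to
  `T[1/g]` is generated by an idempotent is itself generated by an idempotent.
* `ker_productMap_eq_diffIdeal`: `ker (E ⊗ S' → S')` is generated by `e ⊗ 1 - 1 ⊗ φ e`.
* `exists_idempotent_ker`: the kernel of `E ⊗[R] S → S_f` is generated by an idempotent.
* `bijective_prod_mk_of_isIdempotentElem`: `T ≅ T/(e) × T/(1-e)`.
* `main`: Stacks 04HM.
-/

set_option autoImplicit false
universe u
open TensorProduct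

namespace Groth.Agent.Lib.UnramSplit61

open Groth.Agent.Lib.UnramEq


/-- If `g` is a unit modulo `I` and the extension of `I` to `T[1/g]` is generated by an
idempotent, then `I` is generated by an idempotent. -/
lemma exists_idempotent_of_away {T C : Type*} [CommRing T] [CommRing C] [Algebra T C] (g : T)
    [IsLocalization.Away g C] (I : Ideal T) (hIg : I ⊔ Ideal.span {g} = ⊤)
    (ε : C) (hε : IsIdempotentElem ε) (hI : I.map (algebraMap T C) = Ideal.span {ε}) :
    ∃ e : T, IsIdempotentElem e ∧ I = Ideal.span {e} := by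
  -- `i₀ + t₀ g = 1`
  have h1 : (1 : T) ∈ I ⊔ Ideal.span {g} := hIg ▸ Submodule.mem_top
  obtain ⟨i₀, hi₀, j, hj, hij⟩ := Submodule.mem_sup.mp h1
  obtain ⟨t₀, rfl⟩ := Ideal.mem_span_singleton'.mp hj
  -- `ε g^m = y/1` with `y ∈ I`
  have hεI : ε ∈ I.map (algebraMap T C) := hI ▸ Ideal.mem_span_singleton_self ε
  obtain ⟨⟨⟨y, hy⟩, ⟨_, m, rfl⟩⟩, hym⟩ :=
    (IsLocalization.mem_map_algebraMap_iff (Submonoid.powers g) C).mp hεI
  simp only at hym
  -- key: for `z ∈ I`, `g^N z = g^M y z`
  have key : ∀ z ∈ I, ∃ N M : ℕ, g ^ N * z = g ^ M * (y * z) := by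
    intro z hz
    have hz1 : algebraMap T C z ∈ Ideal.span {ε} := hI ▸ Ideal.mem_map_of_mem _ hz
    obtain ⟨w, hw⟩ := Ideal.mem_span_singleton'.mp hz1
    have hz2 : ε * algebraMap T C z = algebraMap T C z := by
      rw [← hw, mul_comm w ε, ← mul_assoc, hε.eq]
    have hz3 : algebraMap T C (g ^ m * z) = algebraMap T C (y * z) := by
      rw [map_mul, map_mul, ← hym, mul_comm ε, mul_assoc, hz2]
    obtain ⟨⟨_, M, rfl⟩, hM⟩ := (IsLocalization.eq_iff_exists (Submonoid.powers g) C).mp hz3
    simp only at hM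
    exact ⟨M + m, M, by rw [pow_add, mul_assoc, hM]⟩
  -- `1 - (t₀ g)^N ∈ (i₀)`
  have hpow : ∀ N : ℕ, ∃ c : T, 1 = i₀ * c + (t₀ * g) ^ N := by
    intro N
    have hd : (1 - t₀ * g) ∣ 1 ^ N - (t₀ * g) ^ N := sub_dvd_pow_sub_pow 1 (t₀ * g) N
    have hi : 1 - t₀ * g = i₀ := by rw [← hij]; ring
    rw [hi, one_pow] at hd
    obtain ⟨c, hc⟩ := hd
    exact ⟨c, by rw [← hc]; ring⟩
  have hfg : I = Ideal.span {i₀, y} := by
    apply le_antisymm
    · intro z hz
      obtain ⟨N, M, hNM⟩ := key z hz
      obtain ⟨c, hc⟩ := hpow N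
      have : z = i₀ * (c * z) + y * (t₀ ^ N * g ^ M * z) := by
        calc z = 1 * z := (one_mul z).symm
          _ = (i₀ * c + (t₀ * g) ^ N) * z := by rw [← hc]
          _ = i₀ * (c * z) + t₀ ^ N * (g ^ N * z) := by rw [mul_pow]; ring
          _ = i₀ * (c * z) + t₀ ^ N * (g ^ M * (y * z)) := by rw [hNM]
          _ = i₀ * (c * z) + y * (t₀ ^ N * g ^ M * z) := by ring
      rw [this]
      apply Ideal.add_mem
      · exact Ideal.mul_mem_right _ _ (Ideal.subset_span (by simp))
      · exact Ideal.mul_mem_right _ _ (Ideal.subset_span (by simp))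
    · rw [Ideal.span_le]
      rintro x hx
      simp only [Set.mem_insert_iff, Set.mem_singleton_iff] at hx
      rcases hx with rfl | rfl
      · exact hi₀
      · exact hy
  have hidem : IsIdempotentElem I := by
    apply le_antisymm
    · exact Ideal.mul_le_right
    · intro z hz
      obtain ⟨N, M, hNM⟩ := key z hz
      obtain ⟨c, hc⟩ := hpow N
      have : z = (i₀ * z) * c + (y * z) * (t₀ ^ N * g ^ M) := by
        calc z = 1 * z := (one_mul z).symm
          _ = (i₀ * c + (t₀ * g) ^ N) * z := by rw [← hc]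
          _ = (i₀ * z) * c + t₀ ^ N * (g ^ N * z) := by rw [mul_pow]; ring
          _ = (i₀ * z) * c + t₀ ^ N * (g ^ M * (y * z)) := by rw [hNM]
          _ = (i₀ * z) * c + (y * z) * (t₀ ^ N * g ^ M) := by ring
      rw [this]
      apply Ideal.add_mem
      · exact Ideal.mul_mem_right _ _ (Ideal.mul_mem_mul hi₀ hz)
      · exact Ideal.mul_mem_right _ _ (Ideal.mul_mem_mul hy hz)
  have hFG : I.FG := by
    rw [hfg]
    classical
    exact ⟨{i₀, y}, by simp⟩
  exact (Ideal.isIdempotentElem_iff_of_fg I hFG).mp hidem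





/-- The kernel of `E ⊗[R] S' → S'`, `e ⊗ s ↦ φ e * s`, is generated by the differences
`e ⊗ 1 - 1 ⊗ φ e`. -/
lemma ker_productMap_eq_diffIdeal {R E S' : Type*} [CommRing R] [CommRing E] [CommRing S']
    [Algebra R E] [Algebra R S'] (φ : E →ₐ[R] S') :
    RingHom.ker (Algebra.TensorProduct.productMap φ (AlgHom.id R S')).toRingHom =
      diffIdeal (Algebra.TensorProduct.includeLeft : E →ₐ[R] E ⊗[R] S')
        ((Algebra.TensorProduct.includeRight : S' →ₐ[R] E ⊗[R] S').comp φ) := by
  set D := diffIdeal (Algebra.TensorProduct.includeLeft : E →ₐ[R] E ⊗[R] S')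
        ((Algebra.TensorProduct.includeRight : S' →ₐ[R] E ⊗[R] S').comp φ) with hD
  apply le_antisymm
  · -- every `c` is congruent to `1 ⊗ μ c` modulo `D`
    have key : ∀ c : E ⊗[R] S', c - (1 : E) ⊗ₜ[R]
        (Algebra.TensorProduct.productMap φ (AlgHom.id R S') c) ∈ D := by
      intro c
      induction c using TensorProduct.induction_on with
      | zero => simp
      | tmul e s =>
        have h1 : (e ⊗ₜ[R] s : E ⊗[R] S') - (1 : E) ⊗ₜ[R] (φ e * s) =
            ((e ⊗ₜ[R] (1 : S')) - (1 : E) ⊗ₜ[R] φ e) * ((1 : E) ⊗ₜ[R] s) := by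
          rw [sub_mul, Algebra.TensorProduct.tmul_mul_tmul, Algebra.TensorProduct.tmul_mul_tmul,
            mul_one, one_mul, one_mul]
        rw [Algebra.TensorProduct.productMap_apply_tmul, AlgHom.id_apply, h1]
        apply Ideal.mul_mem_right
        exact sub_mem_diffIdeal _ _ e
      | add a b ha hb =>
        rw [map_add, TensorProduct.tmul_add]
        have : a + b - ((1 : E) ⊗ₜ[R] (Algebra.TensorProduct.productMap φ (AlgHom.id R S') a) +
            (1 : E) ⊗ₜ[R] (Algebra.TensorProduct.productMap φ (AlgHom.id R S') b)) =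
            (a - (1 : E) ⊗ₜ[R] (Algebra.TensorProduct.productMap φ (AlgHom.id R S') a)) +
            (b - (1 : E) ⊗ₜ[R] (Algebra.TensorProduct.productMap φ (AlgHom.id R S') b)) := by ring
        rw [this]
        exact Ideal.add_mem _ ha hb
    intro c hc
    have hc0 : Algebra.TensorProduct.productMap φ (AlgHom.id R S') c = 0 := hc
    have := key c
    rwa [hc0, TensorProduct.tmul_zero, sub_zero] at this
  · rw [hD, diffIdeal, Ideal.span_le]
    rintro _ ⟨e, rfl⟩
    change Algebra.TensorProduct.productMap φ (AlgHom.id R S') _ = 0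
    simp


/-- The graph of `Spec S_f → Spec E` is open and closed in `Spec (E ⊗ S)`:
the kernel of `E ⊗[R] S → S_f` is generated by an idempotent, for `E` unramified of finite type. -/
lemma exists_idempotent_ker {R E S : Type u} [CommRing R] [CommRing E] [CommRing S]
    [Algebra R E] [Algebra R S] [Algebra.FormallyUnramified R E] [Algebra.FiniteType R E]
    (f : S) (φ : E →ₐ[R] Localization.Away f) (hφ : Function.Surjective φ) :
    ∃ e : E ⊗[R] S, IsIdempotentElem e ∧
      RingHom.ker (Algebra.TensorProduct.productMap φ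
        (IsScalarTower.toAlgHom R S (Localization.Away f))).toRingHom = Ideal.span {e} := by
  let ι : E ⊗[R] S →ₐ[R] E ⊗[R] Localization.Away f :=
    Algebra.TensorProduct.map (AlgHom.id R E) (IsScalarTower.toAlgHom R S (Localization.Away f))
  let _ : Algebra (E ⊗[R] S) (E ⊗[R] Localization.Away f) := ι.toAlgebra
  have hιalg : ∀ t : E ⊗[R] S, algebraMap (E ⊗[R] S) (E ⊗[R] Localization.Away f) t = ι t :=
    fun _ => rfl
  have hι_tmul : ∀ (e : E) (s : S), ι (e ⊗ₜ[R] s) = e ⊗ₜ[R] algebraMap S (Localization.Away f) s := by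
    intro e s
    simp [ι]
  have htower : IsScalarTower E (E ⊗[R] S) (E ⊗[R] Localization.Away f) :=
    .of_algebraMap_eq <| by
      intro x
      rw [hιalg, Algebra.TensorProduct.algebraMap_apply, Algebra.TensorProduct.algebraMap_apply,
        hι_tmul, map_one]
  have hloc : IsLocalization ((Submonoid.powers f).map
      (Algebra.TensorProduct.includeRight (R := R) (A := E)))
      (E ⊗[R] Localization.Away f) :=
    IsLocalization.tensorProduct_tensorProduct_right R E (Submonoid.powers f)
      (Localization.Away f)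
      (by
        ext x
        simp only [RingHom.coe_comp, Function.comp_apply, AlgHom.toRingHom_eq_coe,
          RingHom.coe_coe, Algebra.TensorProduct.includeRight_apply]
        rw [hιalg, hι_tmul])
  have hlocAway : IsLocalization.Away ((1 : E) ⊗ₜ[R] f) (E ⊗[R] Localization.Away f) := by
    have : (Submonoid.powers f).map (Algebra.TensorProduct.includeRight (R := R) (A := E)) =
        Submonoid.powers ((1 : E) ⊗ₜ[R] f) := by
      simp [Submonoid.map_powers]
    rw [this] at hloc
    exact hloc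
  -- the two multiplication maps
  let μC : E ⊗[R] Localization.Away f →ₐ[R] Localization.Away f :=
    Algebra.TensorProduct.productMap φ (AlgHom.id R (Localization.Away f))
  let μ : E ⊗[R] S →ₐ[R] Localization.Away f :=
    Algebra.TensorProduct.productMap φ (IsScalarTower.toAlgHom R S (Localization.Away f))
  have hμ : ∀ t : E ⊗[R] S, μC (ι t) = μ t := by
    intro t
    induction t using TensorProduct.induction_on with
    | zero => simp
    | tmul e s =>
      rw [hι_tmul]
      simp [μC, μ]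
    | add a b ha hb => rw [map_add, map_add, map_add, ha, hb]
  have hμsurj : Function.Surjective μ := by
    intro x
    obtain ⟨e, rfl⟩ := hφ x
    exact ⟨e ⊗ₜ[R] 1, by simp [μ]⟩
  have hμg : μ ((1 : E) ⊗ₜ[R] f) = algebraMap S (Localization.Away f) f := by
    simp [μ]
  -- (i)
  have hIg : RingHom.ker μ.toRingHom ⊔ Ideal.span {(1 : E) ⊗ₜ[R] f} = ⊤ := by
    rw [Ideal.eq_top_iff_one]
    have hu : IsUnit (algebraMap S (Localization.Away f) f) :=
      IsLocalization.Away.algebraMap_isUnit f
    obtain ⟨w, hw⟩ := hu.exists_right_inv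
    obtain ⟨t, rfl⟩ := hμsurj w
    have h1 : 1 - ((1 : E) ⊗ₜ[R] f) * t ∈ RingHom.ker μ.toRingHom := by
      rw [RingHom.mem_ker]
      change μ (1 - ((1 : E) ⊗ₜ[R] f) * t) = 0
      rw [map_sub, map_mul, map_one, hμg, hw, sub_self]
    have h2 : ((1 : E) ⊗ₜ[R] f) * t ∈ Ideal.span {(1 : E) ⊗ₜ[R] f} :=
      Ideal.mul_mem_right _ _ (Ideal.mem_span_singleton_self _)
    have := Ideal.add_mem _ (Ideal.mem_sup_left h1 : _ ∈ RingHom.ker μ.toRingHom ⊔
      Ideal.span {(1 : E) ⊗ₜ[R] f}) (Ideal.mem_sup_right h2)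
    rwa [sub_add_cancel] at this
  -- (ii)
  have hmap : (RingHom.ker μ.toRingHom).map
      (algebraMap (E ⊗[R] S) (E ⊗[R] Localization.Away f)) = RingHom.ker μC.toRingHom := by
    apply le_antisymm
    · rw [Ideal.map_le_iff_le_comap]
      intro t ht
      rw [Ideal.mem_comap, RingHom.mem_ker, hιalg]
      change μC (ι t) = 0
      rw [hμ]
      exact ht
    · intro c hc
      obtain ⟨⟨t, ⟨_, k, rfl⟩⟩, htc⟩ := IsLocalization.surj
        (Submonoid.powers ((1 : E) ⊗ₜ[R] f)) c
      simp only at htc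
      have ht : t ∈ RingHom.ker μ.toRingHom := by
        rw [RingHom.mem_ker]
        change μ t = 0
        rw [← hμ, ← hιalg, ← htc, map_mul]
        have : μC c = 0 := hc
        rw [this, zero_mul]
      have hu : IsUnit (algebraMap (E ⊗[R] S) (E ⊗[R] Localization.Away f)
          (((1 : E) ⊗ₜ[R] f) ^ k)) :=
        IsLocalization.map_units _ (⟨_, k, rfl⟩ : Submonoid.powers ((1 : E) ⊗ₜ[R] f))
      have hmem : c * algebraMap (E ⊗[R] S) (E ⊗[R] Localization.Away f)
          (((1 : E) ⊗ₜ[R] f) ^ k) ∈ (RingHom.ker μ.toRingHom).map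
            (algebraMap (E ⊗[R] S) (E ⊗[R] Localization.Away f)) := by
        rw [htc]
        exact Ideal.mem_map_of_mem _ ht
      exact (Ideal.mul_unit_mem_iff_mem _ hu).mp hmem
  -- (iii)
  obtain ⟨ε, hε, hεD⟩ := exists_idempotent
    (Algebra.TensorProduct.includeLeft : E →ₐ[R] E ⊗[R] Localization.Away f)
    ((Algebra.TensorProduct.includeRight : Localization.Away f →ₐ[R]
      E ⊗[R] Localization.Away f).comp φ)
  have hker : RingHom.ker μC.toRingHom = Ideal.span {ε} := by
    rw [← hεD]
    exact ker_productMap_eq_diffIdeal φ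
  exact exists_idempotent_of_away ((1 : E) ⊗ₜ[R] f) (RingHom.ker μ.toRingHom) hIg ε hε
    (hmap.trans hker)


/-- Splitting a ring along an idempotent, as an algebra isomorphism. -/
lemma bijective_prod_mk_of_isIdempotentElem {E T : Type*} [CommRing E] [CommRing T] [Algebra E T]
    (e : T) (he : IsIdempotentElem e) :
    Function.Bijective ((Ideal.Quotient.mkₐ E (Ideal.span {e})).prod
      (Ideal.Quotient.mkₐ E (Ideal.span {1 - e}))) := by
  constructor
  · rw [injective_iff_map_eq_zero]
    intro x hx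
    rw [AlgHom.prod_apply, Prod.mk_eq_zero] at hx
    obtain ⟨h1, h2⟩ := hx
    rw [Ideal.Quotient.mkₐ_eq_mk, Ideal.Quotient.eq_zero_iff_mem, Ideal.mem_span_singleton'] at h1 h2
    obtain ⟨a, ha⟩ := h1
    obtain ⟨b, hb⟩ := h2
    have h3 : e * x = x := by rw [← ha, mul_comm a e, ← mul_assoc, he.eq]
    have h4 : e * x = 0 := by
      rw [← hb, mul_comm b, ← mul_assoc, mul_sub, mul_one, he.eq, sub_self, zero_mul]
    rw [← h3, h4]
  · rintro ⟨a, b⟩
    obtain ⟨a, rfl⟩ := Ideal.Quotient.mk_surjective a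
    obtain ⟨b, rfl⟩ := Ideal.Quotient.mk_surjective b
    refine ⟨(1 - e) * a + e * b, ?_⟩
    rw [AlgHom.prod_apply, Prod.mk.injEq]
    constructor
    · rw [Ideal.Quotient.mkₐ_eq_mk, Ideal.Quotient.eq, Ideal.mem_span_singleton']
      exact ⟨b - a, by ring⟩
    · rw [Ideal.Quotient.mkₐ_eq_mk, Ideal.Quotient.eq, Ideal.mem_span_singleton']
      exact ⟨a - b, by ring⟩


theorem main (R : Type u) [CommRing R]
    (S : Type u) [CommRing S] [Algebra R S] [Algebra.FiniteType R S] (q : Ideal S) [q.IsPrime]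
    [Algebra.IsUnramifiedAt R q] :
    ∃ (R' : Type u) (_ : CommRing R') (_ : Algebra R R') (_ : Algebra.Etale R R') (p' : Ideal R')
      (_ : p'.IsPrime) (_ : p'.LiesOver (q.under R)) (A : Type u) (_ : CommRing A) (_ : Algebra R' A)
      (B : Type u) (_ : CommRing B) (_ : Algebra R' B) (e : (R' ⊗[R] S) ≃ₐ[R'] (A × B)),
      Function.Surjective (algebraMap R' A) ∧ (p'.map (algebraMap R' A)).IsPrime ∧
        (p'.map (algebraMap R' A)).comap (algebraMap R' A) = p' ∧
        (p'.map (algebraMap R' A)).comap (((RingHom.fst A B).comp e.toRingHom).comp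
          (Algebra.TensorProduct.includeRight : S →ₐ[R] R' ⊗[R] S).toRingHom) = q := by
  obtain ⟨f, hfq, P, φ, hφ⟩ :=
    Algebra.IsUnramifiedAt.exists_hasStandardEtaleSurjectionOn (R := R) q
  obtain ⟨e', he', hI⟩ := exists_idempotent_ker (R := R) (E := P.Ring) f φ hφ
  -- notation
  let μ : P.Ring ⊗[R] S →ₐ[R] Localization.Away f :=
    Algebra.TensorProduct.productMap φ (IsScalarTower.toAlgHom R S (Localization.Away f))
  have hμ_tmul : ∀ (e : P.Ring) (s : S), μ (e ⊗ₜ[R] s) = φ e * algebraMap S (Localization.Away f) s := by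
    intro e s; simp [μ]
  have hker : ∀ t : P.Ring ⊗[R] S, μ t = 0 ↔ t ∈ Ideal.span {e'} := by
    intro t
    rw [← hI, RingHom.mem_ker]
    rfl
  -- the prime
  have hdisj : Disjoint (Submonoid.powers f : Set S) (q : Set S) := by
    rw [Ideal.disjoint_powers_iff_notMem_of_isPrime]
    exact hfq
  let Q' : Ideal (Localization.Away f) := q.map (algebraMap S (Localization.Away f))
  have hQ' : Q'.IsPrime :=
    IsLocalization.isPrime_of_isPrime_disjoint (Submonoid.powers f) _ q inferInstance hdisj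
  have hQ'comap : Q'.comap (algebraMap S (Localization.Away f)) = q :=
    IsLocalization.under_map_of_isPrime_disjoint (Submonoid.powers f) _ inferInstance hdisj
  let p' : Ideal P.Ring := Q'.comap φ.toRingHom
  have hp' : p'.IsPrime := Ideal.comap_isPrime _ _
  have hp'lies : p'.LiesOver (q.under R) := by
    constructor
    ext r
    rw [Ideal.mem_comap, Ideal.mem_comap, Ideal.mem_comap, ← hQ'comap, Ideal.mem_comap]
    change _ ↔ φ (algebraMap R P.Ring r) ∈ Q'
    rw [AlgHom.commutes, IsScalarTower.algebraMap_apply R S (Localization.Away f)]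
  -- the factors
  let eqv : (P.Ring ⊗[R] S) ≃ₐ[P.Ring]
      ((P.Ring ⊗[R] S ⧸ Ideal.span {e'}) × (P.Ring ⊗[R] S ⧸ Ideal.span {1 - e'})) :=
    AlgEquiv.ofBijective _ (bijective_prod_mk_of_isIdempotentElem (E := P.Ring) e' he')
  -- the induced injection `A → S_f`
  let μbar : (P.Ring ⊗[R] S ⧸ Ideal.span {e'}) →+* Localization.Away f :=
    Ideal.Quotient.lift (Ideal.span {e'}) μ.toRingHom (fun t ht => (hker t).mpr ht)
  have hμbar_mk : ∀ t, μbar (Ideal.Quotient.mk _ t) = μ t := fun t => rfl
  have hμbar_inj : Function.Injective μbar := by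
    rw [injective_iff_map_eq_zero]
    intro x hx
    obtain ⟨t, rfl⟩ := Ideal.Quotient.mk_surjective x
    rw [hμbar_mk] at hx
    exact Ideal.Quotient.eq_zero_iff_mem.mpr ((hker t).mp hx)
  let α : P.Ring →+* (P.Ring ⊗[R] S ⧸ Ideal.span {e'}) :=
    algebraMap P.Ring (P.Ring ⊗[R] S ⧸ Ideal.span {e'})
  have hα_apply : ∀ x : P.Ring, μbar (α x) = φ x := by
    intro x
    change μbar (Ideal.Quotient.mk _ (x ⊗ₜ[R] (1 : S))) = φ x
    rw [hμbar_mk, hμ_tmul, map_one, mul_one]
  have hα_surj : Function.Surjective α := by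
    intro y
    obtain ⟨x, hx⟩ := hφ (μbar y)
    exact ⟨x, hμbar_inj (by rw [hα_apply, hx])⟩
  have hα_ker : RingHom.ker α ≤ p' := by
    intro x hx
    rw [RingHom.mem_ker] at hx
    change φ x ∈ Q'
    rw [← hα_apply, hx, map_zero]
    exact Q'.zero_mem
  refine ⟨P.Ring, inferInstance, inferInstance, inferInstance, p', hp', hp'lies,
    (P.Ring ⊗[R] S ⧸ Ideal.span {e'}), inferInstance, inferInstance,
    (P.Ring ⊗[R] S ⧸ Ideal.span {1 - e'}), inferInstance, inferInstance, eqv,
    hα_surj, Ideal.map_isPrime_of_surjective hα_surj hα_ker, ?_, ?_⟩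
  · rw [Ideal.comap_map_of_surjective α hα_surj, sup_eq_left]
    exact hα_ker
  · ext s
    rw [Ideal.mem_comap]
    change Ideal.Quotient.mk _ ((1 : P.Ring) ⊗ₜ[R] s) ∈ Ideal.map α p' ↔ s ∈ q
    rw [Ideal.mem_map_iff_of_surjective α hα_surj]
    constructor
    · rintro ⟨x, hx, hxs⟩
      have h1 : φ x = algebraMap S (Localization.Away f) s := by
        rw [← hα_apply, hxs, hμbar_mk, hμ_tmul, map_one, one_mul]
      rw [← hQ'comap, Ideal.mem_comap, ← h1]
      exact hx
    · intro hs
      obtain ⟨x, hx⟩ := hφ (algebraMap S (Localization.Away f) s)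
      refine ⟨x, ?_, hμbar_inj ?_⟩
      · change φ x ∈ Q'
        rw [hx]
        exact Ideal.mem_map_of_mem _ hs
      · rw [hα_apply, hx, hμbar_mk, hμ_tmul, map_one, one_mul]


end Groth.Agent.Lib.UnramSplit61
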