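import Mathlib
import Groth.Agent.Lib.UnramSplit61

/-!
# Etale-local structure of unramified algebras, all points of a fibre (Stacks 04HJ) (helper61)

Iterates `Groth.Agent.Lib.UnramSplit61.main` (Stacks 04HM) by induction on the dimension of the
fibre `κ(p) ⊗[R] S`.
-/

universe u
open TensorProduct

namespace Groth.Agent.Lib.UnramSplit61b

/-- `F none × ((Π i, F (some i)) × B) ≃ₐ (Π o, F o) × B`. -/
lemma nonempty_algEquiv_prod_option {R : Type*} [CommSemiring R] {ι : Type*}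
    (F : Option ι → Type*) [∀ o, Semiring (F o)] [∀ o, Algebra R (F o)]
    (B : Type*) [Semiring B] [Algebra R B] :
    Nonempty ((F none × ((∀ i, F (some i)) × B)) ≃ₐ[R] ((∀ o, F o) × B)) := by
  let Ψ : ((∀ o, F o) × B) →ₐ[R] (F none × ((∀ i, F (some i)) × B)) :=
    AlgHom.prod ((Pi.evalAlgHom R F none).comp (AlgHom.fst R (∀ o, F o) B))
      (AlgHom.prod
        ((AlgHom.pi (fun i => Pi.evalAlgHom R F (some i))).comp
          (AlgHom.fst R (∀ o, F o) B))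
        (AlgHom.snd R (∀ o, F o) B))
  have hΨ : Function.Bijective Ψ := by
    rw [Function.bijective_iff_has_inverse]
    refine ⟨fun x => (fun o => Option.rec x.1 x.2.1 o, x.2.2), ?_, ?_⟩
    · rintro ⟨g, b⟩
      refine Prod.ext ?_ rfl
      funext o
      cases o <;> rfl
    · rintro ⟨x, y, b⟩
      rfl
  exact ⟨(AlgEquiv.ofBijective Ψ hΨ).symm⟩

/-- `S ≃ₐ (Π i : ι, F i) × S` for empty `ι`. -/
lemma nonempty_algEquiv_prod_empty {R : Type*} [CommSemiring R] {ι : Type*} [IsEmpty ι]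
    (F : ι → Type*) [∀ o, Semiring (F o)] [∀ o, Algebra R (F o)]
    (S : Type*) [Semiring S] [Algebra R S] :
    Nonempty (S ≃ₐ[R] ((∀ i, F i) × S)) := by
  have hΨ : Function.Bijective (AlgHom.snd R (∀ i, F i) S) := by
    rw [Function.bijective_iff_has_inverse]
    refine ⟨fun s => (fun i => isEmptyElim i, s), ?_, ?_⟩
    · rintro ⟨g, s⟩
      refine Prod.ext ?_ rfl
      funext i
      exact isEmptyElim i
    · intro s
      rfl
  exact ⟨(AlgEquiv.ofBijective _ hΨ).symm⟩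

/-- The dimension of the fibre is invariant under base change. -/
lemma finrank_fiber_baseChange {R R₁ S : Type u} [CommRing R] [CommRing R₁] [CommRing S]
    [Algebra R R₁] [Algebra R S] (p : Ideal R) [p.IsPrime] (p₁ : Ideal R₁) [p₁.IsPrime]
    [p₁.LiesOver p] :
    Module.finrank p₁.ResidueField (p₁.ResidueField ⊗[R₁] (R₁ ⊗[R] S)) =
      Module.finrank p.ResidueField (p.ResidueField ⊗[R] S) := by
  let φ : p.ResidueField →ₐ[R] p₁.ResidueField :=
    Ideal.ResidueField.mapₐ p p₁ (Algebra.ofId R R₁) (p₁.over_def p)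
  let _ : Algebra p.ResidueField p₁.ResidueField := φ.toRingHom.toAlgebra
  have htower : IsScalarTower R p.ResidueField p₁.ResidueField :=
    .of_algebraMap_eq' (by
      ext r
      exact (φ.commutes r).symm)
  let e₁ : p₁.ResidueField ⊗[R₁] (R₁ ⊗[R] S) ≃ₐ[p₁.ResidueField] p₁.ResidueField ⊗[R] S :=
    Algebra.TensorProduct.cancelBaseChange R R₁ p₁.ResidueField p₁.ResidueField S
  let e₂ : p₁.ResidueField ⊗[p.ResidueField] (p.ResidueField ⊗[R] S) ≃ₐ[p₁.ResidueField]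
      p₁.ResidueField ⊗[R] S :=
    Algebra.TensorProduct.cancelBaseChange R p.ResidueField p₁.ResidueField p₁.ResidueField S
  rw [e₁.toLinearEquiv.finrank_eq, ← e₂.toLinearEquiv.finrank_eq, Module.finrank_baseChange]

/-- If `T ≅ A × B₁` over `R₁` and the fibre of `A` over a field `κ₁` is nonzero, the fibre of `B₁`
has smaller dimension than that of `T`. -/
lemma finrank_fiber_prod_lt {R₁ T A B₁ κ₁ : Type u} [CommRing R₁] [CommRing T] [CommRing A]
    [CommRing B₁] [Field κ₁] [Algebra R₁ T] [Algebra R₁ A] [Algebra R₁ B₁] [Algebra R₁ κ₁]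
    (e : T ≃ₐ[R₁] A × B₁) [Module.Finite κ₁ (κ₁ ⊗[R₁] T)] [Nontrivial (κ₁ ⊗[R₁] A)] :
    Module.finrank κ₁ (κ₁ ⊗[R₁] B₁) + 1 ≤ Module.finrank κ₁ (κ₁ ⊗[R₁] T) := by
  let e₁ : κ₁ ⊗[R₁] T ≃ₐ[κ₁] κ₁ ⊗[R₁] (A × B₁) :=
    Algebra.TensorProduct.congr AlgEquiv.refl e
  let e₂ : κ₁ ⊗[R₁] (A × B₁) ≃ₐ[κ₁] (κ₁ ⊗[R₁] A) × (κ₁ ⊗[R₁] B₁) :=
    Algebra.TensorProduct.prodRight R₁ κ₁ κ₁ A B₁
  let e₃ := (e₁.trans e₂).toLinearEquiv
  have hfin : Module.Finite κ₁ ((κ₁ ⊗[R₁] A) × (κ₁ ⊗[R₁] B₁)) := Module.Finite.equiv e₃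
  have hfinA : Module.Finite κ₁ (κ₁ ⊗[R₁] A) :=
    Module.Finite.of_surjective (LinearMap.fst κ₁ (κ₁ ⊗[R₁] A) (κ₁ ⊗[R₁] B₁))
      LinearMap.fst_surjective
  have hfinB : Module.Finite κ₁ (κ₁ ⊗[R₁] B₁) :=
    Module.Finite.of_surjective (LinearMap.snd κ₁ (κ₁ ⊗[R₁] A) (κ₁ ⊗[R₁] B₁))
      LinearMap.snd_surjective
  rw [e₃.finrank_eq, Module.finrank_prod]
  have hpos : 0 < Module.finrank κ₁ (κ₁ ⊗[R₁] A) := Module.finrank_pos
  omega

/-- The conclusion of Stacks 04HJ in a form convenient for induction. -/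
def Split (R S : Type u) [CommRing R] [CommRing S] [Algebra R S] (p : Ideal R) : Prop :=
  ∃ (R' : Type u) (_ : CommRing R') (_ : Algebra R R') (_ : Algebra.Etale R R') (p' : Ideal R')
    (_ : p'.IsPrime) (_ : p'.LiesOver p) (ι : Type) (_ : Finite ι) (K : ι → Ideal R')
    (B : Type u) (_ : CommRing B) (_ : Algebra R' B),
    Nonempty ((R' ⊗[R] S) ≃ₐ[R'] ((∀ i, R' ⧸ K i) × B)) ∧ (∀ i, K i ≤ p') ∧
    ∀ (q : Ideal B) [q.IsPrime], q.comap (algebraMap R' B) ≠ p'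

/-- The trivial splitting when no prime lies over `p`. -/
lemma split_of_forall_ne (R S : Type u) [CommRing R] [CommRing S] [Algebra R S] (p : Ideal R)
    [p.IsPrime] (h : ∀ (q : Ideal S) [q.IsPrime], q.comap (algebraMap R S) ≠ p) :
    Split R S p := by
  obtain ⟨e⟩ := nonempty_algEquiv_prod_empty (R := R) (ι := Empty)
    (fun i : Empty => R ⧸ (Empty.elim i : Ideal R)) S
  exact ⟨R, inferInstance, inferInstance, inferInstance, p, inferInstance, ⟨rfl⟩, Empty,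
    inferInstance, fun i => Empty.elim i, S, inferInstance, inferInstance,
    ⟨(Algebra.TensorProduct.lid R S).trans e⟩, fun i => Empty.elim i, h⟩

/-- Composing splittings. -/
lemma split_of_split {R S R₁ A B₁ : Type u} [CommRing R] [CommRing S] [Algebra R S]
    [CommRing R₁] [Algebra R R₁] [Algebra.Etale R R₁] [CommRing A] [Algebra R₁ A]
    [CommRing B₁] [Algebra R₁ B₁] (p : Ideal R) (p₁ : Ideal R₁) [p₁.IsPrime] [p₁.LiesOver p]
    (e₁ : (R₁ ⊗[R] S) ≃ₐ[R₁] (A × B₁)) (hsurj : Function.Surjective (algebraMap R₁ A))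
    (hker : RingHom.ker (algebraMap R₁ A) ≤ p₁) (h : Split R₁ B₁ p₁) : Split R S p := by
  obtain ⟨R₂, _, _, _, p₂, _, _, ι, _, K', B₂, _, _, ⟨e₂⟩, hK', hB₂⟩ := h
  let _ : Algebra R R₂ := Algebra.compHom R₂ (algebraMap R R₁)
  have htower : IsScalarTower R R₁ R₂ := .of_algebraMap_eq' rfl
  have het : Algebra.Etale R R₂ := Algebra.Etale.comp R R₁ R₂
  have hlies : p₂.LiesOver p := .trans p₂ p₁ p
  let K₀ : Ideal R₁ := RingHom.ker (algebraMap R₁ A)
  let K'' : Option ι → Ideal R₂ := fun o => o.elim (K₀.map (algebraMap R₁ R₂)) K'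
  -- the chain of isomorphisms
  let c₁ : R₂ ⊗[R] S ≃ₐ[R₂] R₂ ⊗[R₁] (R₁ ⊗[R] S) :=
    (Algebra.TensorProduct.cancelBaseChange R R₁ R₂ R₂ S).symm
  let c₂ : R₂ ⊗[R₁] (R₁ ⊗[R] S) ≃ₐ[R₂] R₂ ⊗[R₁] (A × B₁) :=
    Algebra.TensorProduct.congr AlgEquiv.refl e₁
  let c₃ : R₂ ⊗[R₁] (A × B₁) ≃ₐ[R₂] (R₂ ⊗[R₁] A) × (R₂ ⊗[R₁] B₁) :=
    Algebra.TensorProduct.prodRight R₁ R₂ R₂ A B₁
  let a₀ : (R₁ ⧸ K₀) ≃ₐ[R₁] A :=
    Ideal.quotientKerAlgEquivOfSurjective (f := Algebra.ofId R₁ A) hsurj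
  let a₁ : R₂ ⊗[R₁] A ≃ₐ[R₂] R₂ ⧸ K₀.map (algebraMap R₁ R₂) :=
    (Algebra.TensorProduct.congr (AlgEquiv.refl : R₂ ≃ₐ[R₂] R₂) a₀.symm).trans
      (Algebra.TensorProduct.quotIdealMapEquivTensorQuot R₂ K₀).symm
  let c₄ : ((R₂ ⊗[R₁] A) × (R₂ ⊗[R₁] B₁)) ≃ₐ[R₂]
      ((R₂ ⧸ K₀.map (algebraMap R₁ R₂)) × ((∀ i, R₂ ⧸ K' i) × B₂)) :=
    AlgEquiv.prodCongr a₁ e₂
  obtain ⟨c₅⟩ := nonempty_algEquiv_prod_option (R := R₂) (fun o : Option ι => R₂ ⧸ K'' o) B₂
  refine ⟨R₂, inferInstance, inferInstance, het, p₂, inferInstance, hlies, Option ι,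
    inferInstance, K'', B₂, inferInstance, inferInstance,
    ⟨(((c₁.trans c₂).trans c₃).trans c₄).trans c₅⟩, ?_, hB₂⟩
  intro o
  cases o with
  | none =>
    change K₀.map (algebraMap R₁ R₂) ≤ p₂
    rw [Ideal.map_le_iff_le_comap]
    refine hker.trans ?_
    rw [Ideal.over_def p₂ p₁]
  | some i => exact hK' i

lemma finite_of_field {K S : Type u} [Field K] [CommRing S] [Algebra K S]
    [Algebra.Unramified K S] : Module.Finite K S :=
  Algebra.FormallyUnramified.finite_of_free K S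

/-- Nontriviality of the fibre of a quotient `R₁ ⧸ K` with `K ≤ p₁` over `p₁`. -/
lemma nontrivial_fiber {R₁ A : Type u} [CommRing R₁] [CommRing A] [Algebra R₁ A]
    (p₁ : Ideal R₁) [p₁.IsPrime]
    (hsurj : Function.Surjective (algebraMap R₁ A))
    (hker : RingHom.ker (algebraMap R₁ A) ≤ p₁) : Nontrivial (p₁.ResidueField ⊗[R₁] A) := by
  let a₀ : (R₁ ⧸ RingHom.ker (Algebra.ofId R₁ A)) ≃ₐ[R₁] A :=
    Ideal.quotientKerAlgEquivOfSurjective (f := Algebra.ofId R₁ A) hsurj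
  let g : (R₁ ⧸ RingHom.ker (Algebra.ofId R₁ A)) →ₐ[R₁] p₁.ResidueField :=
    Ideal.Quotient.liftₐ _ (Algebra.ofId R₁ p₁.ResidueField) (by
      intro x hx
      have hx' : x ∈ p₁ := hker hx
      change algebraMap R₁ p₁.ResidueField x = 0
      rwa [Ideal.algebraMap_residueField_eq_zero])
  let h : p₁.ResidueField ⊗[R₁] A →ₐ[R₁] p₁.ResidueField :=
    Algebra.TensorProduct.productMap (AlgHom.id R₁ _) (g.comp a₀.symm.toAlgHom)
  exact h.toRingHom.domain_nontrivial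

/-- The inductive step: split off one point of the fibre. -/
lemma split_step {R S : Type u} [CommRing R] [CommRing S] [Algebra R S] [Algebra.Unramified R S]
    (p : Ideal R) [p.IsPrime] (q : Ideal S) [q.IsPrime] (hq : q.comap (algebraMap R S) = p)
    (ih : ∀ (R₁ B₁ : Type u) [CommRing R₁] [CommRing B₁] [Algebra R₁ B₁]
      [Algebra.Unramified R₁ B₁] (p₁ : Ideal R₁) [p₁.IsPrime],
      Module.finrank p₁.ResidueField (p₁.ResidueField ⊗[R₁] B₁) <
        Module.finrank p.ResidueField (p.ResidueField ⊗[R] S) → Split R₁ B₁ p₁) :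
    Split R S p := by
  subst hq
  obtain ⟨R₁, _, _, _, p₁, _, hlies, A, _, _, B₁, _, _, e₁, hsurj, hprime, hcomap, -⟩ :=
    Groth.Agent.Lib.UnramSplit61.main R S q
  have hlies' : p₁.LiesOver (q.comap (algebraMap R S)) := hlies
  have hker : RingHom.ker (algebraMap R₁ A) ≤ p₁ := by
    intro x hx
    rw [← hcomap, Ideal.mem_comap, (RingHom.mem_ker).mp hx]
    exact zero_mem _
  -- `B₁` is unramified over `R₁`
  let π : R₁ ⊗[R] S →ₐ[R₁] B₁ := (AlgHom.snd R₁ A B₁).comp e₁.toAlgHom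
  have hπ : Function.Surjective π := by
    intro b
    exact ⟨e₁.symm (0, b), by simp [π]⟩
  have hfu : Algebra.FormallyUnramified R₁ B₁ := Algebra.FormallyUnramified.of_surjective π hπ
  have hft : Algebra.FiniteType R₁ B₁ := Algebra.FiniteType.of_surjective π hπ
  have hun : Algebra.Unramified R₁ B₁ := {}
  refine split_of_split (q.comap (algebraMap R S)) p₁ e₁ hsurj hker (ih R₁ B₁ p₁ ?_)
  -- dimension estimate
  have hfin : Module.Finite p₁.ResidueField (p₁.ResidueField ⊗[R₁] (R₁ ⊗[R] S)) :=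
    finite_of_field
  have hnt : Nontrivial (p₁.ResidueField ⊗[R₁] A) := nontrivial_fiber p₁ hsurj hker
  have h1 := finrank_fiber_prod_lt (κ₁ := p₁.ResidueField) e₁
  have h2 := finrank_fiber_baseChange (R := R) (R₁ := R₁) (S := S) (q.comap (algebraMap R S)) p₁
  omega

/-- Stacks 04HJ in inductive form. -/
theorem split_of_unramified (R S : Type u) [CommRing R] [CommRing S] [Algebra R S]
    [Algebra.Unramified R S] (p : Ideal R) [p.IsPrime] : Split R S p := by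
  generalize hd : Module.finrank p.ResidueField (p.ResidueField ⊗[R] S) = d
  induction d using Nat.strong_induction_on generalizing R S with
  | _ d ih =>
    by_cases h : ∀ (q : Ideal S) [q.IsPrime], q.comap (algebraMap R S) ≠ p
    · exact split_of_forall_ne R S p h
    · push Not at h
      obtain ⟨q, hqp, hq⟩ := h
      refine split_step p q hq ?_
      intro R₁ B₁ _ _ _ _ p₁ _ hlt
      exact ih _ (hd ▸ hlt) R₁ B₁ p₁ rfl

/-- Stacks 04HJ. -/
theorem main' (R : Type u) [CommRing R]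
    (S : Type u) [CommRing S] [Algebra R S] [Algebra.Unramified R S] (p : Ideal R) [p.IsPrime] :
    ∃ (R' : Type u) (_ : CommRing R') (_ : Algebra R R') (_ : Algebra.Etale R R') (p' : Ideal R')
      (_ : p'.IsPrime) (_ : p'.LiesOver p) (n : ℕ) (A : Fin n → Type u) (_ : ∀ i, CommRing (A i))
      (_ : ∀ i, Algebra R' (A i)) (B : Type u) (_ : CommRing B) (_ : Algebra R' B),
      Nonempty ((R' ⊗[R] S) ≃ₐ[R'] ((∀ i, A i) × B)) ∧
        (∀ i, Function.Surjective (algebraMap R' (A i)) ∧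
          (p'.map (algebraMap R' (A i))).IsPrime ∧
          (p'.map (algebraMap R' (A i))).comap (algebraMap R' (A i)) = p') ∧
        ∀ (q : Ideal B) [q.IsPrime], q.comap (algebraMap R' B) ≠ p' := by
  obtain ⟨R', _, _, het, p', _, hlies, ι, _, K, B, _, _, ⟨e⟩, hK, hB⟩ :=
    split_of_unramified R S p
  let eqv : ι ≃ Fin (Nat.card ι) := Finite.equivFin ι
  let c : (∀ i, R' ⧸ K i) ≃ₐ[R'] (∀ j, R' ⧸ K (eqv.symm j)) :=
    AlgEquiv.piCongrLeft' R' (fun i => R' ⧸ K i) eqv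
  refine ⟨R', inferInstance, inferInstance, het, p', inferInstance, hlies, Nat.card ι,
    fun j => R' ⧸ K (eqv.symm j), inferInstance, inferInstance, B, inferInstance, inferInstance,
    ⟨e.trans (AlgEquiv.prodCongr c AlgEquiv.refl)⟩, ?_, hB⟩
  intro j
  have hsurj : Function.Surjective (algebraMap R' (R' ⧸ K (eqv.symm j))) :=
    Ideal.Quotient.mk_surjective
  have hker : RingHom.ker (algebraMap R' (R' ⧸ K (eqv.symm j))) ≤ p' := by
    rw [Ideal.Quotient.algebraMap_eq, Ideal.mk_ker]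
    exact hK _
  refine ⟨hsurj, Ideal.map_isPrime_of_surjective hsurj hker, ?_⟩
  rw [Ideal.comap_map_of_surjective _ hsurj]
  exact sup_eq_left.mpr hker

end Groth.Agent.Lib.UnramSplit61b
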