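import Mathlib
import Groth.Agent.Lib.UnramSplit61b

/-!
# Finite étale algebras are étale locally trivial (helper61)

* `split_finite'`: finite unramified `R → T`, prime `p`: étale `L`, prime `pL` over `p`,
  `L ⊗[R] T ≃ Π i : Fin n, L ⧸ K i` with `K i ≤ pL`.
* `exists_idempotent_of_etale_quotient`, `etale_of_pi`, `bijective_algebraMap_tensor_quotient`.
* `split_finite_etale`: finite étale `R → T`, prime `p`: étale `L`, prime over `p`,
  `L ⊗[R] T ≃ (Fin n → L)`.
-/

universe u
open TensorProduct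

namespace Groth.Agent.Lib.UnramSplit61d

open Groth.Agent.Lib.UnramSplit61b

/-- Finite unramified algebras are étale locally (around a prime of the base) finite products of
quotients of the base by ideals contained in the chosen prime. -/
theorem split_finite' (R T : Type u) [CommRing R] [CommRing T] [Algebra R T] [Module.Finite R T]
    [Algebra.FormallyUnramified R T] (p : Ideal R) [p.IsPrime] :
    ∃ (L : Type u) (_ : CommRing L) (_ : Algebra R L) (_ : Algebra.Etale R L) (pL : Ideal L)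
      (_ : pL.IsPrime) (_ : pL.LiesOver p) (n : ℕ) (K : Fin n → Ideal L),
      Nonempty ((L ⊗[R] T) ≃ₐ[L] (∀ i, L ⧸ K i)) ∧ ∀ i, K i ≤ pL := by
  have hun : Algebra.Unramified R T := {}
  obtain ⟨R', _, _, het, p', _, hlies, ι, _, K, B, _, _, ⟨e⟩, hK, hB⟩ := split_of_unramified R T p
  -- `B` is finite over `R'`
  let π : R' ⊗[R] T →ₐ[R'] B := (AlgHom.snd R' _ B).comp e.toAlgHom
  have hπ : Function.Surjective π := by
    intro b
    exact ⟨e.symm (0, b), by simp [π]⟩
  have hfinB : Module.Finite R' B := Module.Finite.of_surjective π.toLinearMap hπ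
  -- an element of the kernel of `R' → B` outside `p'`
  have hex : ∃ g ∈ RingHom.ker (algebraMap R' B), g ∉ p' := by
    by_contra hcon
    push Not at hcon
    obtain ⟨Q, -, hQprime, hQ⟩ :=
      Ideal.exists_ideal_over_prime_of_isIntegral (R := R') (S := B) p' ⊥ hcon
    exact hB Q hQ
  obtain ⟨g, hg0, hgp⟩ := hex
  rw [RingHom.mem_ker] at hg0
  -- reindex
  let n := Nat.card ι
  let eqv : ι ≃ Fin n := Finite.equivFin ι
  let c₀ : (∀ i, R' ⧸ K i) ≃ₐ[R'] (∀ j, R' ⧸ K (eqv.symm j)) :=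
    AlgEquiv.piCongrLeft' R' (fun i => R' ⧸ K i) eqv
  let e' : R' ⊗[R] T ≃ₐ[R'] ((∀ j : Fin n, R' ⧸ K (eqv.symm j)) × B) :=
    e.trans (AlgEquiv.prodCongr c₀ AlgEquiv.refl)
  -- the localisation
  let L := Localization.Away g
  have hdisj : Disjoint (Submonoid.powers g : Set R') (p' : Set R') := by
    rw [Ideal.disjoint_powers_iff_notMem_of_isPrime]
    exact hgp
  let pL : Ideal L := p'.map (algebraMap R' L)
  have hpL : pL.IsPrime :=
    IsLocalization.isPrime_of_isPrime_disjoint (Submonoid.powers g) _ p' inferInstance hdisj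
  have hpLcomap : pL.comap (algebraMap R' L) = p' :=
    IsLocalization.under_map_of_isPrime_disjoint (Submonoid.powers g) _ inferInstance hdisj
  have hl1 : pL.LiesOver p' := ⟨hpLcomap.symm⟩
  have hl2 : pL.LiesOver p := .trans pL p' p
  have hetL : Algebra.Etale R L := Algebra.Etale.comp R R' L
  have hsub : Subsingleton (L ⊗[R'] B) := by
    obtain ⟨v, hv⟩ := (IsLocalization.Away.algebraMap_isUnit (S := L) g).exists_right_inv
    refine subsingleton_of_zero_eq_one ?_
    have h1 : (1 : L ⊗[R'] B) = (algebraMap R' L g * v) ⊗ₜ[R'] (1 : B) := by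
      rw [hv]; rfl
    rw [h1, ← Algebra.smul_def, TensorProduct.smul_tmul, Algebra.smul_def, hg0, zero_mul,
      TensorProduct.tmul_zero]
  -- the chain
  let c₁ : L ⊗[R] T ≃ₐ[L] L ⊗[R'] (R' ⊗[R] T) :=
    (Algebra.TensorProduct.cancelBaseChange R R' L L T).symm
  let c₂ : L ⊗[R'] (R' ⊗[R] T) ≃ₐ[L] L ⊗[R'] ((∀ j : Fin n, R' ⧸ K (eqv.symm j)) × B) :=
    Algebra.TensorProduct.congr AlgEquiv.refl e'
  let c₃ : L ⊗[R'] ((∀ j : Fin n, R' ⧸ K (eqv.symm j)) × B) ≃ₐ[L]
      ((L ⊗[R'] (∀ j : Fin n, R' ⧸ K (eqv.symm j))) × (L ⊗[R'] B)) :=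
    Algebra.TensorProduct.prodRight R' L L _ B
  have hbij : Function.Bijective
      (AlgHom.fst L (L ⊗[R'] (∀ j : Fin n, R' ⧸ K (eqv.symm j))) (L ⊗[R'] B)) := by
    refine ⟨?_, fun x => ⟨(x, 0), rfl⟩⟩
    rintro ⟨x, y⟩ ⟨x', y'⟩ h
    exact Prod.ext h (Subsingleton.elim _ _)
  let c₄ : ((L ⊗[R'] (∀ j : Fin n, R' ⧸ K (eqv.symm j))) × (L ⊗[R'] B)) ≃ₐ[L]
      (L ⊗[R'] (∀ j : Fin n, R' ⧸ K (eqv.symm j))) :=
    AlgEquiv.ofBijective _ hbij
  let c₅ : L ⊗[R'] (∀ j : Fin n, R' ⧸ K (eqv.symm j)) ≃ₐ[L]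
      (∀ j : Fin n, L ⊗[R'] (R' ⧸ K (eqv.symm j))) :=
    Algebra.TensorProduct.piRight R' L L (fun j : Fin n => R' ⧸ K (eqv.symm j))
  let c₆ : (∀ j : Fin n, L ⊗[R'] (R' ⧸ K (eqv.symm j))) ≃ₐ[L]
      (∀ j : Fin n, L ⧸ (K (eqv.symm j)).map (algebraMap R' L)) :=
    AlgEquiv.piCongrRight
      (fun j => (Algebra.TensorProduct.quotIdealMapEquivTensorQuot L (K (eqv.symm j))).symm)
  refine ⟨L, inferInstance, inferInstance, hetL, pL, hpL, hl2, n,
    fun j => (K (eqv.symm j)).map (algebraMap R' L),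
    ⟨((((c₁.trans c₂).trans c₃).trans c₄).trans c₅).trans c₆⟩, ?_⟩
  intro j
  exact Ideal.map_mono (hK _)

/-- A surjective étale algebra has kernel generated by an idempotent. -/
lemma exists_idempotent_of_etale_quotient {L : Type u} [CommRing L] (K : Ideal L)
    [Algebra.Etale L (L ⧸ K)] : ∃ e : L, IsIdempotentElem e ∧ K = Ideal.span {e} := by
  have hsurj : Function.Surjective (algebraMap L (L ⧸ K)) := Ideal.Quotient.mk_surjective
  have hidem : IsIdempotentElem K := by
    have := (Algebra.FormallyEtale.iff_of_surjective hsurj).mp inferInstance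
    rwa [Ideal.Quotient.algebraMap_eq, Ideal.mk_ker] at this
  have hfg : K.FG := by
    have := Algebra.FinitePresentation.ker_fG_of_surjective (Algebra.ofId L (L ⧸ K)) hsurj
    have h2 : RingHom.ker (Algebra.ofId L (L ⧸ K)).toRingHom = K := by
      ext x
      simp
    rwa [h2] at this
  exact (Ideal.isIdempotentElem_iff_of_fg K hfg).mp hidem

/-- A factor of an étale product algebra is étale. -/
lemma etale_of_pi {R : Type u} [CommRing R] {n : ℕ} (A : Fin n → Type u) [∀ i, CommRing (A i)]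
    [∀ i, Algebra R (A i)] [Algebra.Etale R (∀ i, A i)] (i : Fin n) : Algebra.Etale R (A i) := by
  have h1 : Algebra.FormallyEtale R (A i) := (Algebra.FormallyEtale.pi_iff A).mp inferInstance i
  have hsurj : Function.Surjective (Pi.evalAlgHom R A i) := Function.surjective_eval i
  have hker : (RingHom.ker (Pi.evalAlgHom R A i).toRingHom).FG := by
    refine ⟨{1 - Pi.single i 1}, ?_⟩
    rw [Finset.coe_singleton]
    apply le_antisymm
    · rw [Ideal.span_le, Set.singleton_subset_iff, SetLike.mem_coe, RingHom.mem_ker]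
      simp
    · intro x hx
      rw [RingHom.mem_ker] at hx
      have hx' : x i = 0 := hx
      rw [Ideal.mem_span_singleton']
      refine ⟨x, ?_⟩
      funext j
      by_cases hj : j = i
      · subst hj
        simp [hx']
      · simp [hj]
  have h2 : Algebra.FinitePresentation R (A i) :=
    Algebra.FinitePresentation.of_surjective hsurj hker
  exact {}

/-- If `K` dies in `L'`, then `L' → L' ⊗[L] (L ⧸ K)` is bijective. -/
lemma bijective_algebraMap_tensor_quotient {L L' : Type u} [CommRing L] [CommRing L']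
    [Algebra L L'] (K : Ideal L) (hK : ∀ x ∈ K, algebraMap L L' x = 0) :
    Function.Bijective (algebraMap L' (L' ⊗[L] (L ⧸ K))) := by
  constructor
  · let g : (L ⧸ K) →ₐ[L] L' := Ideal.Quotient.liftₐ K (Algebra.ofId L L') hK
    let h : L' ⊗[L] (L ⧸ K) →ₐ[L'] L' :=
      Algebra.TensorProduct.lift (AlgHom.id L' L') g (fun _ _ => Commute.all _ _)
    have hleft : Function.LeftInverse h (algebraMap L' (L' ⊗[L] (L ⧸ K))) := by
      intro x
      simp [h, Algebra.TensorProduct.algebraMap_apply]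
    exact hleft.injective
  · exact Algebra.TensorProduct.includeLeft_surjective (R := L) (T := L ⧸ K) L' L'
      Ideal.Quotient.mk_surjective

/-- Finite étale algebras are étale locally trivial. -/
theorem split_finite_etale (R T : Type u) [CommRing R] [CommRing T] [Algebra R T]
    [Module.Finite R T] [Algebra.Etale R T] (p : Ideal R) [p.IsPrime] :
    ∃ (L : Type u) (_ : CommRing L) (_ : Algebra R L) (_ : Algebra.Etale R L) (pL : Ideal L)
      (_ : pL.IsPrime) (_ : pL.LiesOver p) (n : ℕ),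
      Nonempty ((L ⊗[R] T) ≃ₐ[L] (Fin n → L)) := by
  obtain ⟨L, _, _, hetL, pL, _, hlies, n, K, ⟨e⟩, hK⟩ := split_finite' R T p
  have hE : Algebra.Etale L (∀ i, L ⧸ K i) := Algebra.Etale.of_equiv e
  have hEi : ∀ i, Algebra.Etale L (L ⧸ K i) := fun i => etale_of_pi (fun i => L ⧸ K i) i
  choose ε hε hKε using fun i => exists_idempotent_of_etale_quotient (K i)
  have hεp : ∀ i, ε i ∈ pL := fun i => hK i (by rw [hKε i]; exact Ideal.mem_span_singleton_self _)
  let g : L := ∏ i, (1 - ε i)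
  have hgp : g ∉ pL := by
    intro hg
    obtain ⟨i, -, hi⟩ := (Ideal.IsPrime.prod_mem_iff).mp hg
    apply Ideal.IsPrime.ne_top (inferInstance : pL.IsPrime)
    rw [Ideal.eq_top_iff_one]
    have := pL.add_mem hi (hεp i)
    simpa using this
  let L' := Localization.Away g
  have hdisj : Disjoint (Submonoid.powers g : Set L) (pL : Set L) := by
    rw [Ideal.disjoint_powers_iff_notMem_of_isPrime]
    exact hgp
  let pL' : Ideal L' := pL.map (algebraMap L L')
  have hpL' : pL'.IsPrime :=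
    IsLocalization.isPrime_of_isPrime_disjoint (Submonoid.powers g) _ pL inferInstance hdisj
  have hpLcomap : pL'.comap (algebraMap L L') = pL :=
    IsLocalization.under_map_of_isPrime_disjoint (Submonoid.powers g) _ inferInstance hdisj
  have hl1 : pL'.LiesOver pL := ⟨hpLcomap.symm⟩
  have hl2 : pL'.LiesOver p := .trans pL' pL p
  have hetL' : Algebra.Etale R L' := Algebra.Etale.comp R L L'
  -- `K i` dies in `L'`
  have hkill : ∀ i, ∀ x ∈ K i, algebraMap L L' x = 0 := by
    intro i x hx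
    rw [hKε i, Ideal.mem_span_singleton'] at hx
    obtain ⟨a, rfl⟩ := hx
    have h0 : ε i * g = 0 := by
      have : g = (1 - ε i) * ∏ j ∈ Finset.univ.erase i, (1 - ε j) :=
        (Finset.mul_prod_erase Finset.univ (fun j => 1 - ε j) (Finset.mem_univ i)).symm
      rw [this, ← mul_assoc, mul_sub, mul_one, (hε i).eq, sub_self, zero_mul]
    have hunit : IsUnit (algebraMap L L' g) := IsLocalization.Away.algebraMap_isUnit g
    have h1 : algebraMap L L' (ε i) = 0 := by
      have := congrArg (algebraMap L L') h0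
      rw [map_mul, map_zero] at this
      exact (hunit.mul_left_eq_zero).mp this
    rw [map_mul, h1, mul_zero]
  -- the chain
  let c₁ : L' ⊗[R] T ≃ₐ[L'] L' ⊗[L] (L ⊗[R] T) :=
    (Algebra.TensorProduct.cancelBaseChange R L L' L' T).symm
  let c₂ : L' ⊗[L] (L ⊗[R] T) ≃ₐ[L'] L' ⊗[L] (∀ i, L ⧸ K i) :=
    Algebra.TensorProduct.congr AlgEquiv.refl e
  let c₃ : L' ⊗[L] (∀ i, L ⧸ K i) ≃ₐ[L'] (∀ i, L' ⊗[L] (L ⧸ K i)) :=
    Algebra.TensorProduct.piRight L L' L' (fun i => L ⧸ K i)
  let c₄ : (∀ i : Fin n, L' ⊗[L] (L ⧸ K i)) ≃ₐ[L'] (Fin n → L') :=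
    AlgEquiv.piCongrRight (fun i =>
      (AlgEquiv.ofBijective (Algebra.ofId L' (L' ⊗[L] (L ⧸ K i)))
        (bijective_algebraMap_tensor_quotient (K i) (hkill i))).symm)
  exact ⟨L', inferInstance, inferInstance, hetL', pL', hpL', hl2, n,
    ⟨((c₁.trans c₂).trans c₃).trans c₄⟩⟩

end Groth.Agent.Lib.UnramSplit61d
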