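import Mathlib
import Groth.Agent.Lib.UnramSplit61b
import Groth.Agent.Lib.UnramSplit61d

/-!
# Simultaneous étale-local splitting of finitely many unramified algebras (helper61)

* `SplitOver b R' p' T'`: `T' ≃ (Π k, R' ⧸ K k) × B`, `K k ≤ p'`, no prime of `B` over `p'`
  (and `K k = ⊥` if the flag `b` holds).
* `SplitOver.baseChange`, `exists_splitOver` (one algebra, flag = étaleness),
  `exists_splitOver_family(')` (finitely many algebras, one étale neighbourhood),
  `SplitOver.exists_pieces` (geometric reformulation).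
-/

universe u
open TensorProduct CategoryTheory AlgebraicGeometry

namespace Groth.Agent.Lib.UnramSplit61e

open Groth.Agent.Lib.UnramSplit61b Groth.Agent.Lib.UnramSplit61d

/-- The `R'`-algebra `T'` splits over `(R', p')`: it is a finite product of quotients `R' ⧸ K k`
with `K k ≤ p'` and an algebra `B` without primes over `p'`. The flag `b` records that all the
`K k` vanish. -/
def SplitOver (b : Prop) (R' : Type u) [CommRing R'] (p' : Ideal R') (T' : Type u) [CommRing T']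
    [Algebra R' T'] : Prop :=
  ∃ (κ : Type) (_ : Finite κ) (K : κ → Ideal R') (B : Type u) (_ : CommRing B) (_ : Algebra R' B),
    Nonempty (T' ≃ₐ[R'] ((∀ k, R' ⧸ K k) × B)) ∧ (∀ k, K k ≤ p') ∧ (b → ∀ k, K k = ⊥) ∧
    ∀ (q : Ideal B) [q.IsPrime], q.comap (algebraMap R' B) ≠ p'

lemma SplitOver.of_algEquiv {b : Prop} {R' T' T'' : Type u} [CommRing R'] {p' : Ideal R'}
    [CommRing T'] [Algebra R' T'] [CommRing T''] [Algebra R' T''] (e : T' ≃ₐ[R'] T'')
    (h : SplitOver b R' p' T') : SplitOver b R' p' T'' := by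
  obtain ⟨κ, _, K, B, _, _, ⟨e'⟩, h1, h2, h3⟩ := h
  exact ⟨κ, inferInstance, K, B, inferInstance, inferInstance, ⟨e.symm.trans e'⟩, h1, h2, h3⟩

lemma SplitOver.mono {b b' : Prop} (hb : b' → b) {R' T' : Type u} [CommRing R'] {p' : Ideal R'}
    [CommRing T'] [Algebra R' T'] (h : SplitOver b R' p' T') : SplitOver b' R' p' T' := by
  obtain ⟨κ, _, K, B, _, _, ⟨e'⟩, h1, h2, h3⟩ := h
  exact ⟨κ, inferInstance, K, B, inferInstance, inferInstance, ⟨e'⟩, h1, fun h => h2 (hb h), h3⟩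

/-- Splittings are stable under base change (explicit form). -/
lemma splitOver_baseChange_aux {b : Prop} {R₁ R₂ T' : Type u} [CommRing R₁] [CommRing R₂]
    [CommRing T'] [Algebra R₁ R₂] [Algebra R₁ T'] {p₁ : Ideal R₁} (p₂ : Ideal R₂) [p₂.LiesOver p₁]
    {κ : Type} [Finite κ] (K : κ → Ideal R₁) (B : Type u) [CommRing B] [Algebra R₁ B]
    (e : T' ≃ₐ[R₁] ((∀ k, R₁ ⧸ K k) × B)) (h1 : ∀ k, K k ≤ p₁)
    (h2 : b → ∀ k, (K k).map (algebraMap R₁ R₂) = ⊥)
    (h3 : ∀ (q : Ideal B) [q.IsPrime], q.comap (algebraMap R₁ B) ≠ p₁) :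
    SplitOver b R₂ p₂ (R₂ ⊗[R₁] T') := by
  classical
  have := Fintype.ofFinite κ
  let c₂ : R₂ ⊗[R₁] T' ≃ₐ[R₂] R₂ ⊗[R₁] ((∀ k, R₁ ⧸ K k) × B) :=
    Algebra.TensorProduct.congr AlgEquiv.refl e
  let c₃ : R₂ ⊗[R₁] ((∀ k, R₁ ⧸ K k) × B) ≃ₐ[R₂]
      ((R₂ ⊗[R₁] (∀ k, R₁ ⧸ K k)) × (R₂ ⊗[R₁] B)) :=
    Algebra.TensorProduct.prodRight R₁ R₂ R₂ _ B
  let c₅ : R₂ ⊗[R₁] (∀ k, R₁ ⧸ K k) ≃ₐ[R₂] (∀ k, R₂ ⊗[R₁] (R₁ ⧸ K k)) :=
    Algebra.TensorProduct.piRight R₁ R₂ R₂ (fun k => R₁ ⧸ K k)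
  let c₆ : (∀ k, R₂ ⊗[R₁] (R₁ ⧸ K k)) ≃ₐ[R₂] (∀ k, R₂ ⧸ (K k).map (algebraMap R₁ R₂)) :=
    AlgEquiv.piCongrRight
      (fun k => (Algebra.TensorProduct.quotIdealMapEquivTensorQuot R₂ (K k)).symm)
  let c₇ : ((R₂ ⊗[R₁] (∀ k, R₁ ⧸ K k)) × (R₂ ⊗[R₁] B)) ≃ₐ[R₂]
      ((∀ k, R₂ ⧸ (K k).map (algebraMap R₁ R₂)) × (R₂ ⊗[R₁] B)) :=
    AlgEquiv.prodCongr (c₅.trans c₆) AlgEquiv.refl
  refine ⟨κ, inferInstance, fun k => (K k).map (algebraMap R₁ R₂), R₂ ⊗[R₁] B, inferInstance,
    inferInstance, ⟨(c₂.trans c₃).trans c₇⟩, ?_, h2, ?_⟩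
  · intro k
    rw [Ideal.map_le_iff_le_comap]
    refine (h1 k).trans ?_
    rw [Ideal.over_def p₂ p₁]
  · intro q hq hcon
    let j : B →+* R₂ ⊗[R₁] B := (Algebra.TensorProduct.includeRight : B →ₐ[R₁] R₂ ⊗[R₁] B)
    have hj : j.comp (algebraMap R₁ B) = (algebraMap R₂ (R₂ ⊗[R₁] B)).comp (algebraMap R₁ R₂) := by
      ext r
      simp [j, Algebra.algebraMap_eq_smul_one]
    have : (q.comap j).IsPrime := Ideal.comap_isPrime j q
    refine h3 (q.comap j) ?_
    rw [Ideal.comap_comap, hj, ← Ideal.comap_comap, hcon]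
    exact (Ideal.over_def p₂ p₁).symm

/-- Splittings are stable under base change. -/
lemma SplitOver.baseChange {b : Prop} {R₁ R₂ T' : Type u} [CommRing R₁] [CommRing R₂] [CommRing T']
    [Algebra R₁ R₂] [Algebra R₁ T'] {p₁ : Ideal R₁} (p₂ : Ideal R₂) [p₂.LiesOver p₁]
    (h : SplitOver b R₁ p₁ T') : SplitOver b R₂ p₂ (R₂ ⊗[R₁] T') := by
  obtain ⟨κ, _, K, B, _, _, ⟨e⟩, h1, h2, h3⟩ := h
  refine splitOver_baseChange_aux p₂ K B e h1 ?_ h3
  intro hb k
  rw [h2 hb k, Ideal.map_bot]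

/-- A factor of an étale product algebra is étale (any finite index type). -/
lemma etale_of_pi' {R : Type u} [CommRing R] {κ : Type} [Finite κ] (A : κ → Type u)
    [∀ i, CommRing (A i)] [∀ i, Algebra R (A i)] [Algebra.Etale R (∀ i, A i)] (i : κ) :
    Algebra.Etale R (A i) := by
  classical
  have h1 : Algebra.FormallyEtale R (A i) := (Algebra.FormallyEtale.pi_iff A).mp inferInstance i
  have hsurj : Function.Surjective (Pi.evalAlgHom R A i) := Function.surjective_eval i
  have hker : (RingHom.ker (Pi.evalAlgHom R A i).toRingHom).FG := by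
    refine ⟨{1 - Pi.single i 1}, ?_⟩
    rw [Finset.coe_singleton]
    apply le_antisymm
    · rw [Ideal.span_le, Set.singleton_subset_iff, SetLike.mem_coe, RingHom.mem_ker]
      simp
    · intro x hx
      rw [RingHom.mem_ker] at hx
      have hx' : x i = 0 := hx
      rw [Ideal.mem_span_singleton']
      refine ⟨x, ?_⟩
      funext j
      by_cases hj : j = i
      · subst hj
        simp [hx']
      · simp [hj]
  have h2 : Algebra.FinitePresentation R (A i) :=
    Algebra.FinitePresentation.of_surjective hsurj hker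
  exact {}

/-- A factor of an étale algebra of the form `(Π k, A k) × B` is étale. -/
lemma etale_factor {R : Type u} [CommRing R] {κ : Type} [Finite κ] (A : κ → Type u)
    [∀ k, CommRing (A k)] [∀ k, Algebra R (A k)] (B : Type u) [CommRing B] [Algebra R B]
    [Algebra.Etale R ((∀ k, A k) × B)] (k : κ) : Algebra.Etale R (A k) := by
  let _ : Algebra ((∀ k, A k) × B) (∀ k, A k) := (RingHom.fst _ _).toAlgebra
  have : IsScalarTower R ((∀ k, A k) × B) (∀ k, A k) := .of_algebraMap_eq' rfl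
  have : Algebra.Etale R (∀ k, A k) := Algebra.Etale.comp R ((∀ k, A k) × B) (∀ k, A k)
  exact etale_of_pi' A k

/-- One unramified algebra splits over a suitable étale neighbourhood; if it is étale, the pieces
are copies of the base. -/
theorem exists_splitOver (R₁ T₁ : Type u) [CommRing R₁] [CommRing T₁] [Algebra R₁ T₁]
    [Algebra.Unramified R₁ T₁] (p₁ : Ideal R₁) [p₁.IsPrime] :
    ∃ (R₂ : Type u) (_ : CommRing R₂) (_ : Algebra R₁ R₂) (_ : Algebra.Etale R₁ R₂)
      (p₂ : Ideal R₂) (_ : p₂.IsPrime) (_ : p₂.LiesOver p₁),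
      SplitOver (Algebra.Etale R₁ T₁) R₂ p₂ (R₂ ⊗[R₁] T₁) := by
  classical
  obtain ⟨R₂, _, _, het, p₂, _, hlies, κ, _, K, B, _, _, ⟨e⟩, hK, hB⟩ :=
    split_of_unramified R₁ T₁ p₁
  by_cases hE : Algebra.Etale R₁ T₁
  · have := Fintype.ofFinite κ
    have hE2 : Algebra.Etale R₂ ((∀ k, R₂ ⧸ K k) × B) := Algebra.Etale.of_equiv e
    have hEk : ∀ k, Algebra.Etale R₂ (R₂ ⧸ K k) :=
      fun k => etale_factor (fun k => R₂ ⧸ K k) B k
    choose ε hε hKε using fun k => exists_idempotent_of_etale_quotient (K k)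
    have hεp : ∀ k, ε k ∈ p₂ :=
      fun k => hK k (by rw [hKε k]; exact Ideal.mem_span_singleton_self _)
    let g : R₂ := ∏ k, (1 - ε k)
    have hgp : g ∉ p₂ := by
      intro hg
      obtain ⟨k, -, hk⟩ := (Ideal.IsPrime.prod_mem_iff).mp hg
      apply Ideal.IsPrime.ne_top (inferInstance : p₂.IsPrime)
      rw [Ideal.eq_top_iff_one]
      have := p₂.add_mem hk (hεp k)
      simpa using this
    let R₃ := Localization.Away g
    have hdisj : Disjoint (Submonoid.powers g : Set R₂) (p₂ : Set R₂) := by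
      rw [Ideal.disjoint_powers_iff_notMem_of_isPrime]
      exact hgp
    let p₃ : Ideal R₃ := p₂.map (algebraMap R₂ R₃)
    have hp₃ : p₃.IsPrime :=
      IsLocalization.isPrime_of_isPrime_disjoint (Submonoid.powers g) _ p₂ inferInstance hdisj
    have hp₃comap : p₃.comap (algebraMap R₂ R₃) = p₂ :=
      IsLocalization.under_map_of_isPrime_disjoint (Submonoid.powers g) _ inferInstance hdisj
    have hl1 : p₃.LiesOver p₂ := ⟨hp₃comap.symm⟩
    have hl2 : p₃.LiesOver p₁ := .trans p₃ p₂ p₁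
    have het3 : Algebra.Etale R₁ R₃ := Algebra.Etale.comp R₁ R₂ R₃
    have hkill : ∀ k, (K k).map (algebraMap R₂ R₃) = ⊥ := by
      intro k
      rw [hKε k, Ideal.map_span, Set.image_singleton, Ideal.span_singleton_eq_bot]
      have h0 : ε k * g = 0 := by
        have : g = (1 - ε k) * ∏ j ∈ Finset.univ.erase k, (1 - ε j) :=
          (Finset.mul_prod_erase Finset.univ (fun j => 1 - ε j) (Finset.mem_univ k)).symm
        rw [this, ← mul_assoc, mul_sub, mul_one, (hε k).eq, sub_self, zero_mul]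
      have hunit : IsUnit (algebraMap R₂ R₃ g) := IsLocalization.Away.algebraMap_isUnit g
      have := congrArg (algebraMap R₂ R₃) h0
      rw [map_mul, map_zero] at this
      exact (hunit.mul_left_eq_zero).mp this
    have h1 : SplitOver (Algebra.Etale R₁ T₁) R₃ p₃ (R₃ ⊗[R₂] (R₂ ⊗[R₁] T₁)) :=
      splitOver_baseChange_aux p₃ K B e hK (fun _ => hkill) hB
    exact ⟨R₃, inferInstance, inferInstance, het3, p₃, hp₃, hl2,
      h1.of_algEquiv (Algebra.TensorProduct.cancelBaseChange R₁ R₂ R₃ R₃ T₁)⟩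
  · exact ⟨R₂, inferInstance, inferInstance, het, p₂, inferInstance, hlies,
      κ, inferInstance, K, B, inferInstance, inferInstance, ⟨e⟩, hK, fun h => absurd h hE, hB⟩

/-- Finitely many unramified algebras split simultaneously over a suitable étale neighbourhood. -/
theorem exists_splitOver_family (R : Type u) [CommRing R] (p : Ideal R) [p.IsPrime] :
    ∀ (n : ℕ) (T : Fin n → Type u) [∀ i, CommRing (T i)] [∀ i, Algebra R (T i)]
      [∀ i, Algebra.Unramified R (T i)],
      ∃ (R' : Type u) (_ : CommRing R') (_ : Algebra R R') (_ : Algebra.Etale R R')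
        (p' : Ideal R') (_ : p'.IsPrime) (_ : p'.LiesOver p),
        ∀ i, SplitOver (Algebra.Etale R (T i)) R' p' (R' ⊗[R] T i) := by
  intro n
  induction n with
  | zero =>
    intro T _ _ _
    exact ⟨R, inferInstance, inferInstance, inferInstance, p, inferInstance, ⟨rfl⟩,
      fun i => i.elim0⟩
  | succ n ih =>
    intro T _ _ _
    obtain ⟨R₁, _, _, het1, p₁, _, hl1, h1⟩ := ih (fun i => T i.succ)
    obtain ⟨R₂, _, _, het2, p₂, _, hl2, h2⟩ := exists_splitOver R₁ (R₁ ⊗[R] T 0) p₁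
    let _ : Algebra R R₂ := Algebra.compHom R₂ (algebraMap R R₁)
    have htower : IsScalarTower R R₁ R₂ := .of_algebraMap_eq' rfl
    have het : Algebra.Etale R R₂ := Algebra.Etale.comp R R₁ R₂
    have hlies : p₂.LiesOver p := .trans p₂ p₁ p
    refine ⟨R₂, inferInstance, inferInstance, het, p₂, inferInstance, hlies, ?_⟩
    intro i
    refine Fin.cases ?_ (fun j => ?_) i
    · have h3 : SplitOver (Algebra.Etale R (T 0)) R₂ p₂ (R₂ ⊗[R₁] (R₁ ⊗[R] T 0)) :=
        SplitOver.mono (b := Algebra.Etale R₁ (R₁ ⊗[R] T 0)) (b' := Algebra.Etale R (T 0))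
          (fun h => by have := h; infer_instance) h2
      exact h3.of_algEquiv (Algebra.TensorProduct.cancelBaseChange R R₁ R₂ R₂ (T 0))
    · exact ((h1 j).baseChange p₂).of_algEquiv
        (Algebra.TensorProduct.cancelBaseChange R R₁ R₂ R₂ (T j.succ))

/-- Finitely many unramified algebras (indexed by any finite type) split simultaneously over a
suitable étale neighbourhood. -/
theorem exists_splitOver_family' (R : Type u) [CommRing R] (p : Ideal R) [p.IsPrime]
    {ι : Type} [Finite ι] (T : ι → Type u) [∀ i, CommRing (T i)] [∀ i, Algebra R (T i)]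
    [∀ i, Algebra.Unramified R (T i)] :
    ∃ (R' : Type u) (_ : CommRing R') (_ : Algebra R R') (_ : Algebra.Etale R R')
      (p' : Ideal R') (_ : p'.IsPrime) (_ : p'.LiesOver p),
      ∀ i, SplitOver (Algebra.Etale R (T i)) R' p' (R' ⊗[R] T i) := by
  let e : ι ≃ Fin (Nat.card ι) := Finite.equivFin ι
  obtain ⟨R', _, _, het, p', _, hl, h⟩ :=
    exists_splitOver_family R p (Nat.card ι) (fun j => T (e.symm j))
  refine ⟨R', inferInstance, inferInstance, het, p', inferInstance, hl, ?_⟩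
  intro i
  have h1 := h (e i)
  have h2 : ∀ i' : ι, i' = i → SplitOver (Algebra.Etale R (T i')) R' p' (R' ⊗[R] T i') →
      SplitOver (Algebra.Etale R (T i)) R' p' (R' ⊗[R] T i) := by
    intro i' hi
    subst hi
    exact id
  exact h2 (e.symm (e i)) (e.symm_apply_apply i) h1

/-- The pieces of a splitting, in a form convenient for geometry. -/
theorem SplitOver.exists_pieces {b : Prop} {R' T' : Type u} [CommRing R'] {p' : Ideal R'}
    [CommRing T'] [Algebra R' T'] (h : SplitOver b R' p' T') :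
    ∃ (κ : Type) (_ : Finite κ) (K : κ → Ideal R') (π : ∀ k, T' →ₐ[R'] R' ⧸ K k),
      (∀ k, K k ≤ p') ∧ (b → ∀ k, K k = ⊥) ∧
      (∀ k, IsOpenImmersion (Spec.map (CommRingCat.ofHom (π k).toRingHom))) ∧
      (∀ (Q : Ideal T') [Q.IsPrime], Q.comap (algebraMap R' T') = p' →
        ∃ (k : κ) (q : Ideal (R' ⧸ K k)), q.IsPrime ∧ q.comap (π k).toRingHom = Q) ∧
      (∀ (k k' : κ) (q : Ideal (R' ⧸ K k)) (q' : Ideal (R' ⧸ K k')), q.IsPrime → q'.IsPrime →
        q.comap (π k).toRingHom = q'.comap (π k').toRingHom → k = k') := by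
  classical
  obtain ⟨κ, _, K, B, _, _, ⟨e⟩, h1, h2, h3⟩ := h
  let π : ∀ k, T' →ₐ[R'] R' ⧸ K k := fun k =>
    ((Pi.evalAlgHom R' (fun k => R' ⧸ K k) k).comp (AlgHom.fst R' (∀ k, R' ⧸ K k) B)).comp
      e.toAlgHom
  refine ⟨κ, inferInstance, K, π, h1, h2, ?_, ?_, ?_⟩
  · intro k
    have e1 : CommRingCat.ofHom (π k).toRingHom =
        CommRingCat.ofHom e.toRingEquiv.toRingHom ≫
          CommRingCat.ofHom (RingHom.fst (∀ k, R' ⧸ K k) B) ≫
          CommRingCat.ofHom (Pi.evalRingHom (fun k => R' ⧸ K k) k) := rfl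
    rw [e1, Spec.map_comp, Spec.map_comp]
    have i1 : IsIso (Spec.map (CommRingCat.ofHom e.toRingEquiv.toRingHom)) := by
      have : IsIso (CommRingCat.ofHom e.toRingEquiv.toRingHom) :=
        (e.toRingEquiv.toCommRingCatIso).isIso_hom
      infer_instance
    have i2 : IsOpenImmersion
        (Spec.map (CommRingCat.ofHom (RingHom.fst (∀ k, R' ⧸ K k) B))) := by
      let _ := (RingHom.fst (∀ k, R' ⧸ K k) B).toAlgebra
      exact IsOpenImmersion.of_isLocalization (1, 0)
    infer_instance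
  · intro Q hQ hQp
    let Q' : Ideal ((∀ k, R' ⧸ K k) × B) := Q.comap e.symm.toRingEquiv.toRingHom
    have hQ' : Q'.IsPrime := Ideal.comap_isPrime _ Q
    have hQQ' : Q'.comap e.toRingEquiv.toRingHom = Q := by
      ext t
      simp [Q', Ideal.mem_comap]
    rcases (Ideal.ideal_prod_prime Q').mp hQ' with ⟨q, hq, hqQ⟩ | ⟨q, hq, hqQ⟩
    · obtain ⟨k, q₀, hq₀⟩ := PrimeSpectrum.exists_comap_evalRingHom_eq
        (R := fun k => R' ⧸ K k) ⟨q, hq⟩
      refine ⟨k, q₀.asIdeal, q₀.isPrime, ?_⟩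
      have hq₀' : q₀.asIdeal.comap (Pi.evalRingHom (fun k => R' ⧸ K k) k) = q :=
        congrArg PrimeSpectrum.asIdeal hq₀
      rw [← hQQ', hqQ, ← hq₀']
      ext t
      simp [π, Ideal.mem_comap, Ideal.mem_prod]
    · exfalso
      refine h3 q ?_
      rw [← hQp, ← hQQ', hqQ]
      ext r
      simp only [Ideal.mem_comap, Ideal.mem_prod]
      have : e.toRingEquiv.toRingHom (algebraMap R' T' r) =
          algebraMap R' ((∀ k, R' ⧸ K k) × B) r := e.commutes r
      rw [this]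
      simp
  · intro k k' q q' hq hq' hqq
    by_contra hne
    let ε : T' := e.symm (Pi.single k 1, 0)
    have h1 : π k ε = 1 := by simp [π, ε]
    have h2 : π k' ε = 0 := by
      have : π k' ε = (Pi.single (M := fun k => R' ⧸ K k) k (1 : R' ⧸ K k)) k' := by
        simp [π, ε]
      rw [this]
      exact Pi.single_eq_of_ne (Ne.symm hne) 1
    have h3 : ε ∈ q'.comap (π k').toRingHom := by
      rw [Ideal.mem_comap]
      change π k' ε ∈ q'
      rw [h2]
      exact zero_mem _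
    rw [← hqq, Ideal.mem_comap] at h3
    change π k ε ∈ q at h3
    rw [h1] at h3
    exact hq.ne_top ((Ideal.eq_top_iff_one q).mpr h3)

end Groth.Agent.Lib.UnramSplit61e
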