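import Mathlib
import Groth.Agent.Lib.UnramSplit61e

/-!
# Étale-local structure of morphisms unramified / étale at finitely many points (helper61)

Stacks 04HH / 04HM-type results for schemes: `core` (in terms of affine charts), `exists_charts`,
`main` (any morphism `f : X ⟶ S`, finitely many points of a fibre with open neighbourhoods on which
`f` is locally of finite type and formally unramified).
-/

set_option autoImplicit false
universe u
open TensorProduct CategoryTheory CategoryTheory.Limits AlgebraicGeometry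

namespace Groth.Agent.Lib.EtLocalStruct61

open Groth.Agent.Lib.UnramSplit61e

/-- A pullback square stays a pullback square after composing with a monomorphism. -/
lemma isPullback_comp_mono {C : Type*} [Category C] {P X Y W Z : C} {fst : P ⟶ X} {snd : P ⟶ Y}
    {f : X ⟶ W} {g : Y ⟶ W} (h : IsPullback fst snd f g) (i : W ⟶ Z) [Mono i] :
    IsPullback fst snd (f ≫ i) (g ≫ i) :=
  ⟨⟨by rw [← Category.assoc, h.w, Category.assoc]⟩,
    ⟨PullbackCone.isLimitOfCompMono f g i _ h.isLimit⟩⟩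

/-- Points of a pullback square of schemes. -/
lemma exists_point_of_isPullback {P X Y Z : Scheme.{u}} {fst : P ⟶ X} {snd : P ⟶ Y} {f : X ⟶ Z}
    {g : Y ⟶ Z} (h : IsPullback fst snd f g) (x : X) (y : Y) (hxy : f x = g y) :
    ∃ z : P, fst z = x ∧ snd z = y := by
  obtain ⟨z, hz1, hz2⟩ := Scheme.Pullback.exists_preimage_pullback x y hxy
  refine ⟨h.isoPullback.inv z, ?_, ?_⟩
  · rw [← Scheme.Hom.comp_apply, h.isoPullback_inv_fst, hz1]
  · rw [← Scheme.Hom.comp_apply, h.isoPullback_inv_snd, hz2]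

/-- `Spec.map` of a bijective ring homomorphism is an isomorphism. -/
lemma isIso_SpecMap_of_bijective {A B : Type u} [CommRing A] [CommRing B] (φ : A →+* B)
    (hφ : Function.Bijective φ) : IsIso (Spec.map (CommRingCat.ofHom φ)) := by
  have : IsIso (CommRingCat.ofHom φ) :=
    ((RingEquiv.ofBijective φ hφ).toCommRingCatIso).isIso_hom
  infer_instance


/-- The étale-local structure of a morphism which is unramified at finitely many points of a fibre,
in terms of affine charts. -/
theorem core {X S : Scheme.{u}} (f : X ⟶ S) (s : S) (R : CommRingCat.{u}) (j₀ : Spec R ⟶ S)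
    [IsOpenImmersion j₀] (p₀ : Spec R) (hp₀ : j₀ p₀ = s) {ι : Type} [Finite ι] (x : ι → X)
    (hinj : Function.Injective x) (T : ι → CommRingCat.{u}) (φ : ∀ i, R ⟶ T i)
    (j : ∀ i, Spec (T i) ⟶ X) [∀ i, IsOpenImmersion (j i)]
    (hcomm : ∀ i, Spec.map (φ i) ≫ j₀ = j i ≫ f) (y : ∀ i, Spec (T i))
    (hy : ∀ i, j i (y i) = x i)
    (hφ : ∀ i, (φ i).hom.FiniteType ∧ (φ i).hom.FormallyUnramified) :
    ∃ (U : Scheme.{u}) (g : U ⟶ S) (u : U), Etale g ∧ g u = s ∧
      ∃ (K : Type) (_ : Finite K) (lab : K → ι) (V : K → (pullback f g).Opens),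
        (∀ k, IsClosedImmersion ((V k).ι ≫ pullback.snd f g) ∧
          ((φ (lab k)).hom.Etale → IsIso ((V k).ι ≫ pullback.snd f g)) ∧
          ∃ w : ↑(pullback f g), w ∈ V k ∧ pullback.snd f g w = u ∧
            pullback.fst f g w = x (lab k)) ∧
        (∀ (k k' : K) (w : ↑(pullback f g)), w ∈ V k → w ∈ V k' →
          pullback.snd f g w = u → k = k') ∧
        (∀ (w : ↑(pullback f g)) (i : ι), pullback.snd f g w = u → pullback.fst f g w = x i →
          ∃ k, lab k = i ∧ w ∈ V k) := by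
  classical
  let _ : ∀ i, Algebra R (T i) := fun i => (φ i).hom.toAlgebra
  have hft : ∀ i, Algebra.FiniteType R (T i) := fun i => (hφ i).1
  have hfu : ∀ i, Algebra.FormallyUnramified R (T i) := fun i => (hφ i).2
  have hun : ∀ i, Algebra.Unramified R (T i) := fun i => {}
  have hp₀prime : p₀.asIdeal.IsPrime := p₀.isPrime
  obtain ⟨R', _, _, hetR', p', _, hlies, hsplit⟩ :=
    exists_splitOver_family' R p₀.asIdeal (fun i => T i)
  choose κ hκfin K π hKle hKbot hopen hF3 hF4 using fun i => (hsplit i).exists_pieces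
  have : ∀ i, Finite (κ i) := hκfin
  let ψ : R ⟶ CommRingCat.of R' := CommRingCat.ofHom (algebraMap R R')
  let U : Scheme.{u} := Spec (CommRingCat.of R')
  let g : U ⟶ S := Spec.map ψ ≫ j₀
  have hψet : Etale (Spec.map ψ) := by
    rw [HasRingHomProperty.Spec_iff (P := @Etale)]
    exact RingHom.etale_algebraMap.mpr hetR'
  have hget : Etale g := inferInstance
  let u : U := ⟨p', inferInstance⟩
  have hu : g u = s := by
    change j₀ (Spec.map ψ u) = s
    have h1 : Spec.map ψ u = p₀ := by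
      apply PrimeSpectrum.ext
      change p'.comap (algebraMap R R') = p₀.asIdeal
      exact (hlies.over).symm
    rw [h1, hp₀]
  -- the affine pieces of the pullback
  let P : ι → Scheme.{u} := fun i => Spec (CommRingCat.of (R' ⊗[R] T i))
  let a : ∀ i, P i ⟶ Spec (T i) := fun i =>
    Spec.map (CommRingCat.ofHom (Algebra.TensorProduct.includeRight.toRingHom))
  let b : ∀ i, P i ⟶ U := fun i =>
    Spec.map (CommRingCat.ofHom Algebra.TensorProduct.includeLeftRingHom)
  have sq1 : ∀ i, IsPullback (a i) (b i) (Spec.map (φ i)) (Spec.map ψ) := fun i =>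
    (isPullback_SpecMap_of_isPushout _ _ _ _
      (CommRingCat.isPushout_tensorProduct R R' (T i))).flip
  have big : ∀ i, IsPullback (a i) (b i) (j i ≫ f) g := fun i => by
    have := isPullback_comp_mono (sq1 i) j₀
    rwa [hcomm i] at this
  let o : ∀ i, P i ⟶ pullback f g := fun i =>
    pullback.lift (a i ≫ j i) (b i) (by rw [Category.assoc, (big i).w])
  have left : ∀ i, IsPullback (o i) (a i) (pullback.fst f g) (j i) := fun i => by
    refine IsPullback.of_right ?_ (pullback.lift_fst _ _ _) (IsPullback.of_hasPullback f g).flip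
    have h1 : o i ≫ pullback.snd f g = b i := pullback.lift_snd _ _ _
    rw [h1]
    exact (big i).flip
  have hoopen : ∀ i, IsOpenImmersion (o i) := fun i =>
    MorphismProperty.of_isPullback (P := @IsOpenImmersion) (left i).flip inferInstance
  -- the pieces
  let m : ∀ i (k : κ i), Spec (CommRingCat.of (R' ⧸ K i k)) ⟶ P i := fun i k =>
    Spec.map (CommRingCat.ofHom (π i k).toRingHom)
  have hmopen : ∀ i k, IsOpenImmersion (m i k) := hopen
  have hmb : ∀ i k, m i k ≫ b i =
      Spec.map (CommRingCat.ofHom (algebraMap R' (R' ⧸ K i k))) := by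
    intro i k
    rw [← Spec.map_comp]
    congr 1
    ext r
    exact (π i k).commutes r
  have hsurj : ∀ i k, Function.Surjective (algebraMap R' (R' ⧸ K i k)) :=
    fun i k => Ideal.Quotient.mk_surjective
  let pt : ∀ i (k : κ i), Spec (CommRingCat.of (R' ⧸ K i k)) := fun i k =>
    ⟨p'.map (Ideal.Quotient.mk (K i k)),
      Ideal.map_isPrime_of_surjective Ideal.Quotient.mk_surjective
        (by rw [Ideal.mk_ker]; exact hKle i k)⟩
  have hpt : ∀ i k, Spec.map (CommRingCat.ofHom (algebraMap R' (R' ⧸ K i k))) (pt i k) = u := by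
    intro i k
    apply PrimeSpectrum.ext
    change (p'.map (Ideal.Quotient.mk (K i k))).comap (Ideal.Quotient.mk (K i k)) = p'
    rw [Ideal.comap_map_of_surjective _ Ideal.Quotient.mk_surjective, ← RingHom.ker_eq_comap_bot,
      Ideal.mk_ker]
    exact sup_eq_left.mpr (hKle i k)
  have hptuniq : ∀ i k (q : Spec (CommRingCat.of (R' ⧸ K i k))),
      Spec.map (CommRingCat.ofHom (algebraMap R' (R' ⧸ K i k))) q = u → q = pt i k := by
    intro i k q hq
    exact PrimeSpectrum.comap_injective_of_surjective _ (hsurj i k) (hq.trans (hpt i k).symm)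
  let h : ∀ i (k : κ i), Spec (CommRingCat.of (R' ⧸ K i k)) ⟶ pullback f g := fun i k =>
    m i k ≫ o i
  have hhopen : ∀ i k, IsOpenImmersion (h i k) := fun i k => inferInstance
  have hhsnd : ∀ i k, h i k ≫ pullback.snd f g =
      Spec.map (CommRingCat.ofHom (algebraMap R' (R' ⧸ K i k))) := by
    intro i k
    have h1 : o i ≫ pullback.snd f g = b i := pullback.lift_snd _ _ _
    simp only [h, Category.assoc, h1, hmb]
  let Kidx : Type := {ik : Σ i, κ i // pullback.fst f g (h ik.1 ik.2 (pt ik.1 ik.2)) = x ik.1}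
  refine ⟨U, g, u, hget, hu, Kidx, inferInstance, fun ik => ik.1.1,
    fun ik => (h ik.1.1 ik.1.2).opensRange, ?_, ?_, ?_⟩
  · rintro ⟨⟨i, k⟩, hik⟩
    have e1 : ((h i k).opensRange).ι ≫ pullback.snd f g =
        (h i k).isoOpensRange.inv ≫
          Spec.map (CommRingCat.ofHom (algebraMap R' (R' ⧸ K i k))) := by
      rw [← Scheme.Hom.isoOpensRange_inv_comp, Category.assoc, hhsnd]
    refine ⟨?_, ?_, ?_⟩
    · change IsClosedImmersion (((h i k).opensRange).ι ≫ pullback.snd f g)
      rw [e1]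
      have : IsClosedImmersion (Spec.map (CommRingCat.ofHom (algebraMap R' (R' ⧸ K i k)))) :=
        IsClosedImmersion.spec_of_surjective _ (hsurj i k)
      infer_instance
    · intro het
      change IsIso (((h i k).opensRange).ι ≫ pullback.snd f g)
      rw [e1]
      have hK0 : K i k = ⊥ := hKbot i het k
      have hbij : Function.Bijective (algebraMap R' (R' ⧸ K i k)) := by
        refine ⟨?_, hsurj i k⟩
        rw [RingHom.injective_iff_ker_eq_bot, Ideal.Quotient.algebraMap_eq, Ideal.mk_ker, hK0]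
      have := isIso_SpecMap_of_bijective _ hbij
      infer_instance
    · refine ⟨h i k (pt i k), ⟨pt i k, rfl⟩, ?_, hik⟩
      rw [← Scheme.Hom.comp_apply, hhsnd, hpt]
  · rintro ⟨⟨i, k⟩, hik⟩ ⟨⟨i', k'⟩, hik'⟩ w hw hw' hsnd
    obtain ⟨q, rfl⟩ := hw
    obtain ⟨q', hq'⟩ := hw'
    have hq : q = pt i k := by
      apply hptuniq
      rw [← hhsnd, Scheme.Hom.comp_apply]
      exact hsnd
    have hq'2 : q' = pt i' k' := by
      apply hptuniq
      rw [← hhsnd, Scheme.Hom.comp_apply]
      change pullback.snd f g (h i' k' q') = u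
      have : h i' k' q' = h i k q := hq'
      rw [this]
      exact hsnd
    have hii : i = i' := by
      apply hinj
      have h1 : pullback.fst f g (h i k (pt i k)) = x i := hik
      have h2 : pullback.fst f g (h i' k' (pt i' k')) = x i' := hik'
      rw [← h1, ← h2, ← hq, ← hq'2]
      exact congrArg _ hq'.symm
    subst hii
    have hmm : m i k q = m i k' q' := by
      apply (o i).isOpenEmbedding.injective
      exact hq'.symm
    have hkk : k = k' := by
      refine hF4 i k k' q.asIdeal q'.asIdeal q.isPrime q'.isPrime ?_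
      exact congrArg PrimeSpectrum.asIdeal hmm
    subst hkk
    rfl
  · intro w i hsnd hfst
    obtain ⟨z, hz1, hz2⟩ := exists_point_of_isPullback (left i) w (y i) (by rw [hfst, hy])
    have hbz : b i z = u := by
      have h1 : o i ≫ pullback.snd f g = b i := pullback.lift_snd _ _ _
      rw [← h1, Scheme.Hom.comp_apply, hz1, hsnd]
    have hQp : z.asIdeal.comap (algebraMap R' (R' ⊗[R] T i)) = p' :=
      congrArg PrimeSpectrum.asIdeal hbz
    have hzprime : z.asIdeal.IsPrime := z.isPrime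
    obtain ⟨k, q, hqprime, hqQ⟩ := hF3 i z.asIdeal hQp
    have hmq : m i k ⟨q, hqprime⟩ = z := PrimeSpectrum.ext hqQ
    have hqpt : (⟨q, hqprime⟩ : Spec (CommRingCat.of (R' ⧸ K i k))) = pt i k := by
      apply hptuniq
      have e2 : (m i k ≫ b i) ⟨q, hqprime⟩ = b i (m i k ⟨q, hqprime⟩) :=
        Scheme.Hom.comp_apply _ _ _
      rw [← hmb, e2, hmq, hbz]
    have hw : h i k (pt i k) = w := by
      rw [← hqpt]
      change o i (m i k ⟨q, hqprime⟩) = w
      rw [hmq, hz1]
    refine ⟨⟨⟨i, k⟩, ?_⟩, rfl, ⟨pt i k, hw⟩⟩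
    change pullback.fst f g (h i k (pt i k)) = x i
    rw [hw, hfst]

/-- Affine charts around finitely many points of a fibre. -/
theorem exists_charts {X S : Scheme.{u}} (f : X ⟶ S) (s : S) {ι : Type} (x : ι → X)
    (hs : ∀ i, f (x i) = s) (W : ι → X.Opens) (hxW : ∀ i, x i ∈ W i) :
    ∃ (R : CommRingCat.{u}) (j₀ : Spec R ⟶ S) (_ : IsOpenImmersion j₀) (p₀ : Spec R)
      (_ : j₀ p₀ = s) (T : ι → CommRingCat.{u}) (φ : ∀ i, R ⟶ T i) (j : ∀ i, Spec (T i) ⟶ X)
      (_ : ∀ i, IsOpenImmersion (j i)) (y : ∀ i, Spec (T i)),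
      (∀ i, Spec.map (φ i) ≫ j₀ = j i ≫ f) ∧ (∀ i, j i (y i) = x i) ∧
      (∀ i, (LocallyOfFiniteType ((W i).ι ≫ f) → (φ i).hom.FiniteType) ∧
        (FormallyUnramified ((W i).ι ≫ f) → (φ i).hom.FormallyUnramified) ∧
        (Etale ((W i).ι ≫ f) → (φ i).hom.Etale)) := by
  obtain ⟨S₀, hS₀, hsS₀, -⟩ := exists_isAffineOpen_mem_and_subset (x := s) (U := ⊤) trivial
  let xi : ∀ i, (W i).toScheme := fun i => ⟨x i, hxW i⟩
  have hxi : ∀ i, (W i).ι (xi i) = x i := fun i => rfl
  have hmem : ∀ i, xi i ∈ ((W i).ι ≫ f) ⁻¹ᵁ S₀ := by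
    intro i
    have e1 : ((W i).ι ≫ f) (xi i) = f (x i) := by
      rw [Scheme.Hom.comp_apply, hxi]
    change ((W i).ι ≫ f) (xi i) ∈ S₀
    rw [e1, hs i]
    exact hsS₀
  choose V' hV'aff hxV' hV'le using fun i =>
    exists_isAffineOpen_mem_and_subset (X := (W i).toScheme) (x := xi i)
      (U := ((W i).ι ≫ f) ⁻¹ᵁ S₀) (hmem i)
  have hle : ∀ i, V' i ≤ ((W i).ι ≫ f) ⁻¹ᵁ S₀ := fun i => hV'le i
  refine ⟨Γ(S, S₀), hS₀.fromSpec, inferInstance, hS₀.primeIdealOf ⟨s, hsS₀⟩,
    hS₀.fromSpec_primeIdealOf ⟨s, hsS₀⟩, fun i => Γ(↑(W i), V' i),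
    fun i => ((W i).ι ≫ f).appLE S₀ (V' i) (hle i),
    fun i => (hV'aff i).fromSpec ≫ (W i).ι, fun i => inferInstance,
    fun i => (hV'aff i).primeIdealOf ⟨xi i, hxV' i⟩, ?_, ?_, ?_⟩
  · intro i
    rw [IsAffineOpen.SpecMap_appLE_fromSpec ((W i).ι ≫ f) hS₀ (hV'aff i) (hle i), Category.assoc]
  · intro i
    exact (Scheme.Hom.comp_apply (hV'aff i).fromSpec (W i).ι _).trans
      ((congrArg (W i).ι ((hV'aff i).fromSpec_primeIdealOf ⟨xi i, hxV' i⟩)).trans (hxi i))
  · intro i
    refine ⟨fun h => ?_, fun h => ?_, fun h => ?_⟩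
    · exact HasRingHomProperty.appLE (P := @LocallyOfFiniteType) _ h ⟨S₀, hS₀⟩
        ⟨V' i, hV'aff i⟩ (hle i)
    · exact Scheme.Hom.formallyUnramified_appLE _ hS₀ (hV'aff i) (hle i)
    · exact HasRingHomProperty.appLE (P := @Etale) _ h ⟨S₀, hS₀⟩ ⟨V' i, hV'aff i⟩ (hle i)

/-- Étale-local structure of a morphism at finitely many points of a fibre where it is
unramified (Stacks 04HH), with the étale addendum (Stacks 04HM-type). -/
theorem main {X S : Scheme.{u}} (f : X ⟶ S) (s : S) {ι : Type} [Finite ι] (x : ι → X)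
    (hinj : Function.Injective x) (hs : ∀ i, f (x i) = s) (W : ι → X.Opens)
    (hxW : ∀ i, x i ∈ W i) (hlft : ∀ i, LocallyOfFiniteType ((W i).ι ≫ f))
    (hfu : ∀ i, FormallyUnramified ((W i).ι ≫ f)) :
    ∃ (U : Scheme.{u}) (g : U ⟶ S) (u : U), Etale g ∧ g u = s ∧
      ∃ (K : Type) (_ : Finite K) (lab : K → ι) (V : K → (pullback f g).Opens),
        (∀ k, IsClosedImmersion ((V k).ι ≫ pullback.snd f g) ∧
          (Etale ((W (lab k)).ι ≫ f) → IsIso ((V k).ι ≫ pullback.snd f g)) ∧
          ∃ w : ↑(pullback f g), w ∈ V k ∧ pullback.snd f g w = u ∧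
            pullback.fst f g w = x (lab k)) ∧
        (∀ (k k' : K) (w : ↑(pullback f g)), w ∈ V k → w ∈ V k' →
          pullback.snd f g w = u → k = k') ∧
        (∀ (w : ↑(pullback f g)) (i : ι), pullback.snd f g w = u → pullback.fst f g w = x i →
          ∃ k, lab k = i ∧ w ∈ V k) := by
  obtain ⟨R, j₀, _, p₀, hp₀, T, φ, j, _, y, hcomm, hy, hφ⟩ := exists_charts f s x hs W hxW
  obtain ⟨U, g, u, hg, hu, K, hK, lab, V, h1, h2, h3⟩ :=
    core f s R j₀ p₀ hp₀ x hinj T φ j hcomm y hy
      (fun i => ⟨(hφ i).1 (hlft i), (hφ i).2.1 (hfu i)⟩)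
  refine ⟨U, g, u, hg, hu, K, hK, lab, V, ?_, h2, h3⟩
  intro k
  exact ⟨(h1 k).1, fun het => (h1 k).2.1 ((hφ (lab k)).2.2 het), (h1 k).2.2⟩

end Groth.Agent.Lib.EtLocalStruct61
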