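import Mathlib
import Groth.Agent.Lib.EtLocalStruct61

/-!
# Étale-local structure at finitely many points, separated case (helper61)

`main_sep`: for separated `f`, after an étale base change `X_U` decomposes into pairwise disjoint
opens `W₀` and `V k` with `V k ⟶ U` closed immersions (isomorphisms where `f` is étale).
-/

set_option autoImplicit false
universe u
open TensorProduct CategoryTheory CategoryTheory.Limits AlgebraicGeometry

namespace Groth.Agent.Lib.EtLocalStruct61b

open Groth.Agent.Lib.EtLocalStruct61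

/-- Separated version: a decomposition into disjoint open pieces. -/
theorem main_sep {X S : Scheme.{u}} (f : X ⟶ S) [IsSeparated f] (s : S) {ι : Type} [Finite ι]
    (x : ι → X) (hinj : Function.Injective x) (hs : ∀ i, f (x i) = s) (W : ι → X.Opens)
    (hxW : ∀ i, x i ∈ W i) (hlft : ∀ i, LocallyOfFiniteType ((W i).ι ≫ f))
    (hfu : ∀ i, FormallyUnramified ((W i).ι ≫ f)) :
    ∃ (U : Scheme.{u}) (g : U ⟶ S) (u : U), Etale g ∧ g u = s ∧
      ∃ (K : Type) (_ : Finite K) (lab : K → ι) (W₀ : (pullback f g).Opens)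
        (V : K → (pullback f g).Opens),
        W₀ ⊔ (⨆ k, V k) = ⊤ ∧ (∀ k, Disjoint W₀ (V k)) ∧
        (∀ k k', k ≠ k' → Disjoint (V k) (V k')) ∧
        (∀ k, IsClosedImmersion ((V k).ι ≫ pullback.snd f g) ∧
          (Etale ((W (lab k)).ι ≫ f) → IsIso ((V k).ι ≫ pullback.snd f g)) ∧
          ∃ w : ↑(pullback f g), w ∈ V k ∧ pullback.snd f g w = u) ∧
        (∀ (w : ↑(pullback f g)) (i : ι), w ∈ W₀ → pullback.snd f g w = u →
          pullback.fst f g w ≠ x i) := by
  classical
  obtain ⟨U, g, u, hg, hu, K, hK, lab, V, h1, h2, h3⟩ := main f s x hinj hs W hxW hlft hfu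
  -- each `V k` is closed
  have hVclosed : ∀ k, IsClosed (V k : Set ↑(pullback f g)) := by
    intro k
    have := (h1 k).1
    have hci : IsClosedImmersion (V k).ι := IsClosedImmersion.of_comp (V k).ι (pullback.snd f g)
    have := (V k).ι.isClosedEmbedding.isClosed_range
    rwa [Scheme.Opens.range_ι] at this
  -- the overlaps
  let Z : Set U := ⋃ kk : {kk : K × K // kk.1 ≠ kk.2},
    (pullback.snd f g) '' ((V kk.1.1 : Set ↑(pullback f g)) ∩ (V kk.1.2 : Set ↑(pullback f g)))
  have hZclosed : IsClosed Z := by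
    refine isClosed_iUnion_of_finite (fun kk => ?_)
    obtain ⟨⟨k, k'⟩, hkk⟩ := kk
    have := (h1 k).1
    have hcm : IsClosedMap ((V k).ι ≫ pullback.snd f g) :=
      ((V k).ι ≫ pullback.snd f g).isClosedEmbedding.isClosedMap
    have hpre : IsClosed ((V k).ι ⁻¹' (V k' : Set ↑(pullback f g))) :=
      (hVclosed k').preimage (V k).ι.continuous
    have himg := hcm _ hpre
    convert himg using 1
    ext z
    constructor
    · rintro ⟨w, ⟨hwk, hwk'⟩, rfl⟩
      exact ⟨⟨w, hwk⟩, hwk', rfl⟩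
    · rintro ⟨w, hw, rfl⟩
      exact ⟨(V k).ι w, ⟨w.2, hw⟩, rfl⟩
  have huZ : u ∉ Z := by
    rintro ⟨_, ⟨⟨⟨k, k'⟩, hkk⟩, rfl⟩, w, ⟨hwk, hwk'⟩, hwu⟩
    exact hkk (h2 k k' w hwk hwk' hwu)
  let U' : U.Opens := ⟨Zᶜ, hZclosed.isOpen_compl⟩
  let u' : U'.toScheme := ⟨u, huZ⟩
  let g' : U'.toScheme ⟶ S := U'.ι ≫ g
  have hg' : Etale g' := inferInstance
  have hu' : g' u' = s := by
    have e1 : g' u' = g (U'.ι u') := Scheme.Hom.comp_apply _ _ _
    rw [e1]
    exact hu
  -- the comparison map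
  let θ : pullback f g' ⟶ pullback f g :=
    pullback.lift (pullback.fst f g') (pullback.snd f g' ≫ U'.ι)
      (by rw [pullback.condition, Category.assoc])
  have hθfst : θ ≫ pullback.fst f g = pullback.fst f g' := pullback.lift_fst _ _ _
  have hθsnd : θ ≫ pullback.snd f g = pullback.snd f g' ≫ U'.ι := pullback.lift_snd _ _ _
  have sqθ : IsPullback θ (pullback.snd f g') (pullback.snd f g) U'.ι := by
    refine IsPullback.of_right ?_ hθsnd (IsPullback.of_hasPullback f g)
    rw [hθfst]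
    exact IsPullback.of_hasPullback f g'
  let V' : K → (pullback f g').Opens := fun k => θ ⁻¹ᵁ V k
  have sqV : ∀ k, IsPullback (θ ∣_ V k) ((V' k).ι ≫ pullback.snd f g')
      ((V k).ι ≫ pullback.snd f g) U'.ι := fun k =>
    (isPullback_morphismRestrict θ (V k)).paste_vert sqθ
  have hθpt : ∀ w' : ↑(pullback f g'), pullback.snd f g (θ w') = U'.ι (pullback.snd f g' w') := by
    intro w'
    rw [← Scheme.Hom.comp_apply, hθsnd, Scheme.Hom.comp_apply]
  have hθpt1 : ∀ w' : ↑(pullback f g'), pullback.fst f g (θ w') = pullback.fst f g' w' := by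
    intro w'
    rw [← Scheme.Hom.comp_apply, hθfst]
  have hV'closed : ∀ k, IsClosed (V' k : Set ↑(pullback f g')) := fun k =>
    (hVclosed k).preimage θ.continuous
  have hV'disj : ∀ k k', k ≠ k' → Disjoint (V' k) (V' k') := by
    intro k k' hkk
    rw [disjoint_iff]
    ext w'
    simp only [TopologicalSpace.Opens.coe_inf, Set.mem_inter_iff, SetLike.mem_coe,
      TopologicalSpace.Opens.coe_bot, Set.mem_empty_iff_false, iff_false, not_and]
    intro hw1 hw2
    have hZ : pullback.snd f g (θ w') ∈ Z :=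
      Set.mem_iUnion.mpr ⟨⟨⟨k, k'⟩, hkk⟩, θ w', ⟨hw1, hw2⟩, rfl⟩
    rw [hθpt] at hZ
    exact (pullback.snd f g' w').2 hZ
  let W₀ : (pullback f g').Opens := ⟨(⋃ k, (V' k : Set ↑(pullback f g')))ᶜ,
    (isClosed_iUnion_of_finite hV'closed).isOpen_compl⟩
  refine ⟨U'.toScheme, g', u', hg', hu', K, hK, lab, W₀, V', ?_, ?_, hV'disj, ?_, ?_⟩
  · ext w'
    simp only [TopologicalSpace.Opens.coe_sup, TopologicalSpace.Opens.coe_iSup,
      TopologicalSpace.Opens.coe_top, Set.mem_univ, iff_true]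
    by_cases hw : w' ∈ ⋃ k, (V' k : Set ↑(pullback f g'))
    · exact Or.inr hw
    · exact Or.inl hw
  · intro k
    rw [disjoint_iff]
    ext w'
    simp only [TopologicalSpace.Opens.coe_inf, Set.mem_inter_iff, SetLike.mem_coe,
      TopologicalSpace.Opens.coe_bot, Set.mem_empty_iff_false, iff_false, not_and]
    intro hw1 hw2
    exact hw1 (Set.mem_iUnion.mpr ⟨k, hw2⟩)
  · intro k
    refine ⟨?_, ?_, ?_⟩
    · exact MorphismProperty.of_isPullback (P := @IsClosedImmersion) (sqV k) (h1 k).1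
    · intro het
      have := (h1 k).2.1 het
      exact (sqV k).isIso_snd_of_isIso
    · obtain ⟨w, hw, hwu, -⟩ := (h1 k).2.2
      obtain ⟨w', hw'1, hw'2⟩ := exists_point_of_isPullback sqθ w u' hwu
      refine ⟨w', ?_, hw'2⟩
      change θ w' ∈ V k
      rw [hw'1]
      exact hw
  · intro w' i hw' hsnd hfst
    have h4 : pullback.snd f g (θ w') = u := by
      rw [hθpt, hsnd]
      rfl
    have h5 : pullback.fst f g (θ w') = x i := by
      rw [hθpt1, hfst]
    obtain ⟨k, -, hk⟩ := h3 (θ w') i h4 h5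
    exact hw' (Set.mem_iUnion.mpr ⟨k, hk⟩)

end Groth.Agent.Lib.EtLocalStruct61b
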