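import Mathlib.AlgebraicGeometry.Morphisms.QuasiCompact
import Mathlib.AlgebraicGeometry.AffineScheme
import Mathlib.RingTheory.Spectrum.Prime.RingHom

/-!
# Points outside the image of a quasi-compact morphism (helper95)

`exists_opens_of_not_mem_range`: for quasi-compact `g : X ⟶ Y` and `y ∉ range g` there are opens
`U' ≤ U` of `Y` with `y ∈ U \ U'` and `g(X) ∩ U ⊆ U'` (the complement of the image of a
quasi-compact morphism is a union of locally closed subsets).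
-/

set_option autoImplicit false
universe u
open CategoryTheory CategoryTheory.Limits AlgebraicGeometry Opposite

namespace Groth.Agent.Lib.QcImageSep95

/-- a prime not in the image of `Spec B → Spec A` is separated from the image by a locally closed
set `D(s) ∩ V(T)` with `T` finite. -/
lemma alg_sep {A B : Type*} [CommRing A] [CommRing B] (φ : A →+* B) (p : PrimeSpectrum A)
    (hp : p ∉ Set.range (PrimeSpectrum.comap φ)) :
    ∃ (s : A) (T : Finset A), s ∉ p.asIdeal ∧ (∀ t ∈ T, t ∈ p.asIdeal) ∧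
      ∀ q : PrimeSpectrum B, s ∉ (PrimeSpectrum.comap φ q).asIdeal →
        ∃ t ∈ T, t ∉ (PrimeSpectrum.comap φ q).asIdeal := by
  classical
  rw [PrimeSpectrum.mem_range_comap_iff] at hp
  have hle : p.asIdeal ≤ (p.asIdeal.map φ).comap φ := Ideal.le_comap_map
  obtain ⟨s, hs1, hs2⟩ : ∃ s, s ∈ (p.asIdeal.map φ).comap φ ∧ s ∉ p.asIdeal := by
    by_contra hcon
    push Not at hcon
    exact hp (le_antisymm hcon hle)
  have hs3 : φ s ∈ Ideal.span (φ '' (p.asIdeal : Set A)) := hs1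
  obtain ⟨T₀, hT₀, hsT₀⟩ := Submodule.mem_span_finite_of_mem_span hs3
  obtain ⟨T, hT, rfl⟩ := Finset.subset_set_image_iff.1 hT₀
  refine ⟨s, T, hs2, fun t ht => hT ht, ?_⟩
  intro q hq
  by_contra hcon
  push Not at hcon
  apply hq
  show φ s ∈ q.asIdeal
  have : Submodule.span B (↑(T.image φ) : Set B) ≤ q.asIdeal := by
    rw [Submodule.span_le]
    intro b hb
    rw [Finset.coe_image] at hb
    obtain ⟨t, ht, rfl⟩ := hb
    exact hcon t ht
  exact this hsT₀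

variable {X Y : Scheme.{u}}

set_option backward.isDefEq.respectTransparency.types false in
lemma mem_basicOpen_iff {V : Y.Opens} (hV : IsAffineOpen V) (s : Γ(Y, V)) (z : V) :
    z.1 ∈ Y.basicOpen s ↔ s ∉ (hV.primeIdealOf z).asIdeal := by
  have h0 : hV.fromSpec (hV.isoSpec.hom z) = z.1 := hV.fromSpec_primeIdealOf z
  have h1 : z.1 ∈ Y.basicOpen s ↔ hV.isoSpec.hom z ∈ hV.fromSpec ⁻¹ᵁ Y.basicOpen s := by
    rw [Scheme.Hom.mem_preimage, h0]
  rw [h1, hV.fromSpec_preimage_basicOpen]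
  rfl

set_option backward.isDefEq.respectTransparency.types false in
lemma primeIdealOf_surjective {W : X.Opens} (hW : IsAffineOpen W) (q : PrimeSpectrum Γ(X, W)) :
    ∃ x : W, hW.primeIdealOf x = q := by
  refine ⟨hW.isoSpec.inv q, ?_⟩
  show hW.isoSpec.hom (hW.isoSpec.inv q) = q
  rw [← Scheme.Hom.comp_apply, Iso.inv_hom_id]
  rfl

lemma primeIdealOf_injective {V : Y.Opens} (hV : IsAffineOpen V) (a b : V)
    (h : hV.primeIdealOf a = hV.primeIdealOf b) : a.1 = b.1 := by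
  rw [← hV.fromSpec_primeIdealOf a, ← hV.fromSpec_primeIdealOf b, h]

set_option backward.isDefEq.respectTransparency.types false in
lemma affine_step (g : X ⟶ Y) {V : Y.Opens} (hV : IsAffineOpen V) {W : X.Opens}
    (hW : IsAffineOpen W) (hWV : W ≤ g ⁻¹ᵁ V) (y : V) (hy : y.1 ∉ Set.range g) :
    ∃ (s : Γ(Y, V)) (T : Finset Γ(Y, V)), s ∉ (hV.primeIdealOf y).asIdeal ∧
      (∀ t ∈ T, t ∈ (hV.primeIdealOf y).asIdeal) ∧
      ∀ x ∈ W, g x ∈ Y.basicOpen s → ∃ t ∈ T, g x ∈ Y.basicOpen t := by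
  have hp : hV.primeIdealOf y ∉ Set.range (PrimeSpectrum.comap (g.appLE V W hWV).hom) := by
    rintro ⟨q, hq⟩
    obtain ⟨x, rfl⟩ := primeIdealOf_surjective hW q
    apply hy
    refine ⟨x.1, ?_⟩
    have h1 := IsAffineOpen.comap_primeIdealOf_appLE V hV W hW hWV x.2
    have h2 : hV.primeIdealOf ⟨g x.1, hWV x.2⟩ = hV.primeIdealOf y := h1.symm.trans hq
    exact primeIdealOf_injective hV _ _ h2
  obtain ⟨s, T, hs, hT, hq⟩ := alg_sep _ _ hp
  refine ⟨s, T, hs, hT, ?_⟩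
  intro x hx hgx
  have h1 := IsAffineOpen.comap_primeIdealOf_appLE V hV W hW hWV hx
  have h2 := hq (hW.primeIdealOf ⟨x, hx⟩)
  rw [h1] at h2
  obtain ⟨t, ht, ht'⟩ := h2 ((mem_basicOpen_iff hV s ⟨g x, hWV hx⟩).1 hgx)
  exact ⟨t, ht, (mem_basicOpen_iff hV t ⟨g x, hWV hx⟩).2 ht'⟩

lemma compact_step (g : X ⟶ Y) {V : Y.Opens} (hV : IsAffineOpen V) (y : V)
    (hy : y.1 ∉ Set.range g) (S : X.Opens) (hS : IsCompact (S : Set X)) (hSV : S ≤ g ⁻¹ᵁ V) :
    ∃ (s : Γ(Y, V)) (T : Finset Γ(Y, V)), s ∉ (hV.primeIdealOf y).asIdeal ∧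
      (∀ t ∈ T, t ∈ (hV.primeIdealOf y).asIdeal) ∧
      ∀ x ∈ S, g x ∈ Y.basicOpen s → ∃ t ∈ T, g x ∈ Y.basicOpen t := by
  classical
  revert hSV
  refine compact_open_induction_on (P := fun S => S ≤ g ⁻¹ᵁ V →
    ∃ (s : Γ(Y, V)) (T : Finset Γ(Y, V)), s ∉ (hV.primeIdealOf y).asIdeal ∧
      (∀ t ∈ T, t ∈ (hV.primeIdealOf y).asIdeal) ∧
      ∀ x ∈ S, g x ∈ Y.basicOpen s → ∃ t ∈ T, g x ∈ Y.basicOpen t) S hS ?_ ?_
  · intro _
    refine ⟨1, ∅, ?_, by simp, ?_⟩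
    · intro h1
      exact (hV.primeIdealOf y).isPrime.ne_top ((Ideal.eq_top_iff_one _).2 h1)
    · intro x hx
      exact absurd hx (by simp)
  · intro S₁ _ W ih hle
    obtain ⟨s₁, T₁, hs₁, hT₁, h₁⟩ := ih (le_sup_left.trans hle)
    obtain ⟨s₂, T₂, hs₂, hT₂, h₂⟩ := affine_step g hV W.2 (le_sup_right.trans hle) y hy
    refine ⟨s₁ * s₂, T₁ ∪ T₂, ?_, ?_, ?_⟩
    · intro hmul
      rcases (hV.primeIdealOf y).isPrime.mem_or_mem hmul with h | h
      · exact hs₁ h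
      · exact hs₂ h
    · intro t ht
      rcases Finset.mem_union.1 ht with h | h
      · exact hT₁ t h
      · exact hT₂ t h
    · intro x hx hgx
      rw [Scheme.basicOpen_mul] at hgx
      rcases hx with hx | hx
      · obtain ⟨t, ht, ht'⟩ := h₁ x hx hgx.1
        exact ⟨t, Finset.mem_union_left _ ht, ht'⟩
      · obtain ⟨t, ht, ht'⟩ := h₂ x hx hgx.2
        exact ⟨t, Finset.mem_union_right _ ht, ht'⟩

/-- a point outside the image of a quasi-compact morphism is separated from the image by a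
locally closed subset `U \ U'`. -/
theorem exists_opens_of_not_mem_range (g : X ⟶ Y) [QuasiCompact g] (y : Y)
    (hy : y ∉ Set.range g) :
    ∃ (U U' : Y.Opens), U' ≤ U ∧ y ∈ U ∧ y ∉ U' ∧ ∀ x, g x ∈ U → g x ∈ U' := by
  classical
  obtain ⟨V, hVaff, hyV, -⟩ := TopologicalSpace.Opens.isBasis_iff_nbhd.1
    Y.isBasis_affineOpens (show y ∈ (⊤ : Y.Opens) from trivial)
  have hV : IsAffineOpen V := hVaff
  have hc : IsCompact ((g ⁻¹ᵁ V : X.Opens) : Set X) :=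
    QuasiCompact.isCompact_preimage (f := g) _ V.isOpen hV.isCompact
  obtain ⟨s, T, hs, hT, h⟩ := compact_step g hV ⟨y, hyV⟩ hy (g ⁻¹ᵁ V) hc le_rfl
  have key : ∀ z : Y, z ∈ (⨆ t ∈ T, Y.basicOpen t : Y.Opens) ↔ ∃ t ∈ T, z ∈ Y.basicOpen t := by
    intro z
    simp [TopologicalSpace.Opens.mem_iSup]
  refine ⟨Y.basicOpen s, Y.basicOpen s ⊓ ⨆ t ∈ T, Y.basicOpen t, inf_le_left, ?_, ?_, ?_⟩
  · exact (mem_basicOpen_iff hV s ⟨y, hyV⟩).2 hs
  · rintro ⟨-, h2⟩
    obtain ⟨t, ht, hyt⟩ := (key y).1 h2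
    exact (mem_basicOpen_iff hV t ⟨y, hyV⟩).1 hyt (hT t ht)
  · intro x hx
    have hxV : g x ∈ V := Y.basicOpen_le s hx
    obtain ⟨t, ht, ht'⟩ := h x hxV hx
    exact ⟨hx, (key _).2 ⟨t, ht, ht'⟩⟩

end Groth.Agent.Lib.QcImageSep95
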