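import Groth.Prelude.Def_EtAcyc
import Groth.Agent.Lib.EtPullShFaithful95
import Mathlib.CategoryTheory.Sites.Point.Skyscraper
import Groth.Agent.Lib.QcImageSep95

/-!
# (-1)-acyclic morphisms are surjective (helper95)

* `injective_map_of_mono_unit`: if the unit `G ⟶ F_* F^* G` is mono and `F.map ι` is an iso then
  `G(ι)` is injective;
* `subsingleton_skyscraper`, `not_subsingleton_skyscraper`: sections of skyscraper sheaves;
* `opObj`, `opHom`, `isIso_bc_opHom`: opens as objects of the small etale site;
* `false_of_mono_unit`, `surjective_of_mono_unit`.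
-/

set_option autoImplicit false
universe w u
open CategoryTheory CategoryTheory.Limits AlgebraicGeometry Opposite

namespace Groth.Agent.Lib.EtMinusOneAcyc95

section general

variable {C D : Type*} [Category C] [Category D] (J : GrothendieckTopology C)
  (K : GrothendieckTopology D) (F : C ⥤ D) [F.IsContinuous J K]
  [(F.sheafPushforwardContinuous (Type w) J K).IsRightAdjoint]
  [HasSheafify J (Type w)]

/-- mono of sheaves of types is injective on sections -/
lemma injective_of_mono {G H : Sheaf J (Type w)} (φ : G ⟶ H) [Mono φ] (c : Cᵒᵖ) :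
    Function.Injective (φ.hom.app c) := by
  have h1 : Mono ((sheafToPresheaf J (Type w)).map φ) := inferInstance
  have h2 : Mono (φ.hom.app c) := (NatTrans.mono_iff_mono_app _).1 h1 c
  exact (mono_iff_injective _).1 h2

lemma injective_map_of_mono_unit (G : Sheaf J (Type w))
    [Mono ((F.sheafAdjunctionContinuous (Type w) J K).unit.app G)] {c c' : C} (ι : c' ⟶ c)
    [IsIso (F.map ι)] : Function.Injective (G.obj.map ι.op) := by
  intro a b hab
  let η := (F.sheafAdjunctionContinuous (Type w) J K).unit.app G
  apply injective_of_mono J η (op c)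
  have nat := fun x => NatTrans.naturality_apply η.hom ι.op x
  have h1 : ((F.sheafPushforwardContinuous (Type w) J K).obj
      ((F.sheafPullback (Type w) J K).obj G)).obj.map ι.op (η.hom.app (op c) a) =
      ((F.sheafPushforwardContinuous (Type w) J K).obj
      ((F.sheafPullback (Type w) J K).obj G)).obj.map ι.op (η.hom.app (op c) b) := by
    refine (nat a).symm.trans (Eq.trans ?_ (nat b))
    exact congrArg (η.hom.app (op c')) hab
  have : IsIso (((F.sheafPushforwardContinuous (Type w) J K).obj
      ((F.sheafPullback (Type w) J K).obj G)).obj.map ι.op) := by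
    show IsIso (((F.sheafPullback (Type w) J K).obj G).obj.map (F.map ι).op)
    infer_instance
  exact ((isIso_iff_bijective _).1 this).1 h1

end general

section sky

open GrothendieckTopology

variable {C : Type*} [Category C] {J : GrothendieckTopology C} (Φ : Point.{u} J)

lemma subsingleton_skyscraper (M : Type (u + 1)) (c : C) [IsEmpty (Φ.fiber.obj c)] :
    Subsingleton ((Φ.skyscraperSheaf M).obj.obj (op c)) := by
  constructor
  intro a b
  apply (Types.productIso.{u, u + 1} (fun _ : Φ.fiber.obj c => M)).toEquiv.injective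
  funext j
  exact isEmptyElim j

lemma not_subsingleton_skyscraper (c : C) [Nonempty (Φ.fiber.obj c)] :
    ¬ Subsingleton ((Φ.skyscraperSheaf (ULift.{u + 1} Bool)).obj.obj (op c)) := by
  intro h
  obtain ⟨j⟩ := ‹Nonempty (Φ.fiber.obj c)›
  let e := (Types.productIso.{u, u + 1} (fun _ : Φ.fiber.obj c => ULift.{u + 1} Bool)).toEquiv
  have := h.elim (e.symm (fun _ => ⟨true⟩)) (e.symm (fun _ => ⟨false⟩))
  have h2 := congrFun (e.symm.injective this) j
  simp at h2

end sky

section etale

open Groth.Agent.Lib.EtGerm Groth.Agent.Lib.EtStalkConservative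

variable {P Y : Scheme.{u}} (g : P ⟶ Y)

/-- the etale `Y`-scheme of an open subset -/
noncomputable abbrev opObj (U : Y.Opens) : Y.Etale := Scheme.Etale.mk U.ι

/-- inclusion of opens as a morphism of the small etale site -/
noncomputable def opHom {U U' : Y.Opens} (h : U' ≤ U) : opObj U' ⟶ opObj U :=
  MorphismProperty.Over.homMk (Y.homOfLE h) (Scheme.homOfLE_ι Y h)

set_option backward.isDefEq.respectTransparency.types false in
lemma isIso_bc_opHom {U U' : Y.Opens} (h : U' ≤ U) (hg : ∀ x, g x ∈ U → g x ∈ U') :
    IsIso ((EtCoh.bc g).map (opHom h)) := by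
  have : IsIso ((Scheme.Etale.forget P).map ((EtCoh.bc g).map (opHom h))) := by
    have : IsIso ((Over.forget P).map ((Scheme.Etale.forget P).map ((EtCoh.bc g).map (opHom h)))) := by
      let m : pullback U'.ι g ⟶ pullback U.ι g :=
        pullback.lift (pullback.fst U'.ι g ≫ Y.homOfLE h) (pullback.snd U'.ι g)
          (by rw [Category.assoc, Scheme.homOfLE_ι, pullback.condition])
      show IsIso m
      have hm : m ≫ pullback.snd U.ι g = pullback.snd U'.ι g := pullback.lift_snd _ _ _
      rw [isIso_iff_isOpenImmersion_and_surjective]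
      refine ⟨?_, ⟨?_⟩⟩
      · have : IsOpenImmersion (m ≫ pullback.snd U.ι g) := by rw [hm]; infer_instance
        exact IsOpenImmersion.of_comp m (pullback.snd U.ι g)
      · intro z
        have hz : pullback.snd U.ι g z ∈ g ⁻¹' Set.range U.ι := by
          rw [← Scheme.Pullback.range_snd]; exact ⟨z, rfl⟩
        have hz' : pullback.snd U.ι g z ∈ Set.range (pullback.snd U'.ι g) := by
          rw [Scheme.Pullback.range_snd]
          obtain ⟨a, ha⟩ := hz
          have : g (pullback.snd U.ι g z) ∈ U := by rw [← ha]; exact a.2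
          have h2 := hg _ this
          exact ⟨⟨_, h2⟩, rfl⟩
        obtain ⟨z', hz'⟩ := hz'
        refine ⟨z', ?_⟩
        apply (pullback.snd U.ι g).isOpenEmbedding.injective
        rw [← hz', ← hm]
        rfl
    exact isIso_of_reflects_iso _ (Over.forget P)
  exact isIso_of_reflects_iso _ (Scheme.Etale.forget P)

set_option backward.isDefEq.respectTransparency.types false in
/-- if all units `F ⟶ g_* g^* F` are monomorphisms, no point `y` outside the image of `g` can
be separated from the image by a locally closed subset -/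
theorem false_of_mono_unit (hmono : ∀ F : EtDesc.Sh Y, Mono ((EtDesc.adjSh g).unit.app F))
    (y : Y) {U U' : Y.Opens} (h : U' ≤ U) (hyU : y ∈ U) (hyU' : y ∉ U')
    (hg : ∀ x, g x ∈ U → g x ∈ U') : False := by
  let Φ := Scheme.pointSmallEtale (stdPt y)
  let G : EtDesc.Sh Y := Φ.skyscraperSheaf (ULift.{u + 1} Bool)
  have := hmono G
  have := isIso_bc_opHom g h hg
  have hinj : Function.Injective (G.obj.map (opHom h).op) :=
    injective_map_of_mono_unit Y.smallEtaleTopology P.smallEtaleTopology (EtCoh.bc g) G (opHom h)
  have : IsEmpty (Φ.fiber.obj (opObj U')) := by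
    constructor
    intro z
    have h1 := Nbhd.hom_pt (stdPt y) z
    rw [stdPt_default] at h1
    apply hyU'
    rw [← h1]
    exact (Nbhd.pt (stdPt y) z).2
  have : Nonempty (Φ.fiber.obj (opObj U)) := by
    obtain ⟨z, -⟩ := exists_nbhd_of_pt (stdPt y) (opObj U) ⟨y, hyU⟩ (stdPt_default y).symm
    exact ⟨z⟩
  have h1 := subsingleton_skyscraper Φ (ULift.{u + 1} Bool) (opObj U')
  apply not_subsingleton_skyscraper Φ (opObj U)
  exact hinj.subsingleton

/-- a quasi-compact morphism all of whose units `F ⟶ g_* g^* F` are mono is surjective -/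
theorem surjective_of_mono_unit [QuasiCompact g]
    (hmono : ∀ F : EtDesc.Sh Y, Mono ((EtDesc.adjSh g).unit.app F)) :
    Function.Surjective g := by
  intro y
  by_contra hy
  obtain ⟨U, U', hle, hyU, hyU', hg⟩ :=
    Groth.Agent.Lib.QcImageSep95.exists_opens_of_not_mem_range g y hy
  exact false_of_mono_unit g hmono y hle hyU hyU' hg

end etale

end Groth.Agent.Lib.EtMinusOneAcyc95
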