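import Groth.Agent.Lib.ModForgetPull22
import Groth.Agent.Lib.EtPullExact95
import Groth.Prelude.Def_EtMod2

/-!
# Inverse image of étale sheaves of modules is exact (helper22)

* `beta_naturality`: naturality of the comparison `G⁻¹ (U F) ⟶ U (G⁻¹ F)` of `ModForgetPull22`;
* `preservesMonomorphisms_of_forget`: if the inverse image of abelian sheaves preserves
  monomorphisms then so does the inverse image of sheaves of modules;
* `preservesFiniteLimits_pullMod`: `EtModW.pull Λ f` preserves finite limits (instance).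
-/

set_option autoImplicit false
set_option linter.style.haveILetI false
universe w v₁ u₁ v₂ u₂ u

open CategoryTheory Limits

namespace Groth.Agent.Lib.ModForgetPull22

variable {Λ : Type w} [CommRing Λ]
  {C : Type u₁} [Category.{v₁} C] {J : GrothendieckTopology C} [J.HasSheafCompose (UF Λ)]
  {D : Type u₂} [Category.{v₂} D] {K : GrothendieckTopology D} {G : C ⥤ D}
  [G.IsContinuous J K] [K.HasSheafCompose (UF Λ)]
  {LA : Sheaf J (ModuleCat.{w} Λ) ⥤ Sheaf K (ModuleCat.{w} Λ)}
  {LB : Sheaf J AddCommGrpCat.{w} ⥤ Sheaf K AddCommGrpCat.{w}}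
  (adjA : LA ⊣ pushA Λ J K G) (adjB : LB ⊣ pushB J K G)

theorem ush_pushA_map {P P' : Sheaf K (ModuleCat.{w} Λ)} (ψ : P ⟶ P') :
    (USh Λ J).map ((pushA Λ J K G).map ψ) = (pushB J K G).map ((USh Λ K).map ψ) := rfl

/-- Naturality of the comparison morphism. -/
theorem beta_naturality {F F' : Sheaf J (ModuleCat.{w} Λ)} (φ : F ⟶ F') :
    LB.map ((USh Λ J).map φ) ≫ beta adjA adjB F' =
      beta adjA adjB F ≫ (USh Λ K).map (LA.map φ) := by
  apply (adjB.homEquiv _ _).injective
  have l1 : adjB.homEquiv _ _ (LB.map ((USh Λ J).map φ) ≫ beta adjA adjB F') =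
      (USh Λ J).map φ ≫ (USh Λ J).map (adjA.unit.app F') :=
    (adjB.homEquiv_naturality_left _ _).trans
      (congrArg (fun t => (USh Λ J).map φ ≫ t) (homEquiv_beta adjA adjB F'))
  have r1 : adjB.homEquiv _ _ (beta adjA adjB F ≫ (USh Λ K).map (LA.map φ)) =
      (USh Λ J).map (adjA.unit.app F) ≫ (pushB J K G).map ((USh Λ K).map (LA.map φ)) :=
    (adjB.homEquiv_naturality_right _ _).trans
      (congrArg (fun t => t ≫ (pushB J K G).map ((USh Λ K).map (LA.map φ)))
        (homEquiv_beta adjA adjB F))
  have n1 : φ ≫ adjA.unit.app F' = adjA.unit.app F ≫ (pushA Λ J K G).map (LA.map φ) :=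
    adjA.unit.naturality φ
  have m1 : (USh Λ J).map φ ≫ (USh Λ J).map (adjA.unit.app F') =
      (USh Λ J).map (adjA.unit.app F) ≫ (USh Λ J).map ((pushA Λ J K G).map (LA.map φ)) := by
    rw [← Functor.map_comp, n1, Functor.map_comp]
  exact l1.trans (m1.trans r1.symm)

/-- The forgetful functor from sheaves of modules to abelian sheaves preserves monomorphisms. -/
theorem mono_ush_map [HasWeakSheafify J (ModuleCat.{w} Λ)] {F F' : Sheaf J (ModuleCat.{w} Λ)}
    (φ : F ⟶ F') [Mono φ] : Mono ((USh Λ J).map φ) := by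
  haveI h1 : Mono φ.hom := (sheafToPresheaf J (ModuleCat.{w} Λ)).map_mono φ
  haveI h2 : ∀ U, Mono (φ.hom.app U) := fun U => (NatTrans.mono_iff_mono_app φ.hom).1 h1 U
  haveI h3 : ∀ U, Mono (((USh Λ J).map φ).hom.app U) := fun U =>
    inferInstanceAs (Mono ((UF Λ).map (φ.hom.app U)))
  haveI h4 : Mono ((USh Λ J).map φ).hom := NatTrans.mono_of_mono_app _
  exact Sheaf.Hom.mono_of_presheaf_mono J _ _

include adjA adjB in
/-- If the inverse image of abelian sheaves preserves monomorphisms, so does the inverse image of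
sheaves of modules. -/
theorem preservesMonomorphisms_of_forget [HasWeakSheafify J (ModuleCat.{w} Λ)]
    [LB.PreservesMonomorphisms] : LA.PreservesMonomorphisms where
  preserves {F F'} φ hφ := by
    haveI := mono_ush_map φ
    haveI h1 : Mono (LB.map ((USh Λ J).map φ)) := inferInstance
    have h2 : (USh Λ K).map (LA.map φ) =
        inv (beta adjA adjB F) ≫ LB.map ((USh Λ J).map φ) ≫ beta adjA adjB F' := by
      rw [beta_naturality adjA adjB φ, IsIso.inv_hom_id_assoc]
    haveI h3 : Mono ((USh Λ K).map (LA.map φ)) := by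
      rw [h2]
      infer_instance
    exact (USh Λ K).mono_of_mono_map h3

end Groth.Agent.Lib.ModForgetPull22

namespace Groth.Agent.Lib.EtModPullExact22

open AlgebraicGeometry Groth.Agent.Lib.ModForgetPull22

variable (Λ : Type (u + 1)) [CommRing Λ] {X Y : Scheme.{u}} (f : X ⟶ Y)

instance preservesMonomorphisms_pullMod : (EtModW.pull Λ f).PreservesMonomorphisms := by
  haveI : (EtCoh.pull f).PreservesMonomorphisms := inferInstance
  exact preservesMonomorphisms_of_forget (Λ := Λ) (J := Y.smallEtaleTopology)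
    (K := X.smallEtaleTopology) (G := EtCoh.bc f)
    ((EtCoh.bc f).sheafAdjunctionContinuous (ModuleCat.{u + 1} Λ) Y.smallEtaleTopology
      X.smallEtaleTopology) (EtCoh.pullPushAdj f)

/-- **Inverse image of étale sheaves of modules is exact.** -/
instance preservesFiniteLimits_pullMod : PreservesFiniteLimits (EtModW.pull Λ f) := by
  haveI : PreservesColimitsOfSize.{0, 0} (EtModW.pull Λ f) :=
    ((EtCoh.bc f).sheafAdjunctionContinuous (ModuleCat.{u + 1} Λ) Y.smallEtaleTopology
      X.smallEtaleTopology).leftAdjoint_preservesColimits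
  haveI : PreservesFiniteColimits (EtModW.pull Λ f) :=
    PreservesColimitsOfSize.preservesFiniteColimits _
  haveI : PreservesBinaryBiproducts (EtModW.pull Λ f) :=
    preservesBinaryBiproducts_of_preservesBinaryCoproducts _
  haveI : (EtModW.pull Λ f).Additive := Functor.additive_of_preservesBinaryBiproducts _
  rw [Functor.preservesFiniteLimits_iff_forall_exact_map_and_mono]
  intro S hS
  haveI := hS.mono_f
  refine ⟨hS.exact.map_of_epi_of_preservesCokernel (EtModW.pull Λ f) hS.epi_g inferInstance,
    inferInstance⟩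

end Groth.Agent.Lib.EtModPullExact22
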