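import Groth.Agent.Lib.EtLCKer22b
import Groth.Agent.Lib.EtPushEpi39

/-!
# Constant sheaves of `Λ`-modules on the small étale site (helper22)

Module analogue of helper39's `EtConst` (no stalks are used: everything follows from local
bijectivity of `toSheafify`).

* `constSecM M U : M →ₗ[Λ] sect (constShM M) U`, `constSecM_res`, `constSecM_map`;
* `exists_constSecM_eq_pt`: every section of `constShM M` is constant étale-locally;
* `constSecM_injective`: over a nonempty `W`, constant sections determine their value;
* `constLiftM`, `const_hom_extM`.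
-/

set_option autoImplicit false
set_option linter.style.haveILetI false
set_option linter.unusedSectionVars false
universe u
open CategoryTheory CategoryTheory.Limits AlgebraicGeometry Opposite

namespace Groth.Agent.Lib.ModConst22

variable (Λ : Type (u + 1)) [CommRing Λ] {X : Scheme.{u}}

/-- `Λ`-modules one universe up -/
abbrev MC := ModuleCat.{u + 1} Λ

/-- the constant presheaf of modules -/
abbrev constPreM (X : Scheme.{u}) (M : MC.{u} Λ) : X.Etaleᵒᵖ ⥤ MC.{u} Λ :=
  (Functor.const _).obj M

/-- the constant sheaf of modules -/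
noncomputable abbrev constShM (X : Scheme.{u}) (M : MC.{u} Λ) : EtModW.Mod Λ X :=
  (constantSheaf X.smallEtaleTopology (MC.{u} Λ)).obj M

variable {Λ}

/-- constant sections -/
noncomputable def constSecM (M : MC.{u} Λ) (U : X.Etale) :
    M →ₗ[Λ] EtModW.sect Λ (constShM Λ X M) U :=
  ((toSheafify X.smallEtaleTopology (constPreM Λ X M)).app (op U)).hom

lemma constSecM_res (M : MC.{u} Λ) {U V : X.Etale} (g : V ⟶ U) (m : M) :
    (constShM Λ X M).obj.map g.op (constSecM M U m) = constSecM M V m := by
  have h := (toSheafify X.smallEtaleTopology (constPreM Λ X M)).naturality g.op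
  have h2 := congrArg (fun f => f.hom m) h
  exact h2.symm

lemma constSecM_map {M N : MC.{u} Λ} (h : M ⟶ N) (U : X.Etale) (m : M) :
    ((constantSheaf X.smallEtaleTopology (MC.{u} Λ)).map h).hom.app (op U)
      (constSecM M U m) = constSecM N U (h m) := by
  have h1 := toSheafify_naturality X.smallEtaleTopology ((Functor.const X.Etaleᵒᵖ).map h)
  have h2 := congrArg (fun f => (f.app (op U)).hom m) h1
  exact h2.symm

/-- every section of a constant sheaf is constant étale-locally around any point -/
lemma exists_constSecM_eq_pt (M : MC.{u} Λ) {U : X.Etale}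
    (s : EtModW.sect Λ (constShM Λ X M) U) (x : U.left) :
    ∃ (V : X.Etale) (g : V ⟶ U) (m : M), x ∈ Set.range g.left ∧
      (constShM Λ X M).obj.map g.op s = constSecM M V m := by
  have hS := Presheaf.imageSieve_mem X.smallEtaleTopology
    (toSheafify X.smallEtaleTopology (constPreM Λ X M)) s
  rw [Groth.Agent.Lib.EtPushEpi39.mem_smallEtale_iff] at hS
  obtain ⟨V, g, z, ⟨m, hm⟩, hz⟩ := hS x
  exact ⟨V, g, m, ⟨z, hz⟩, hm.symm⟩

/-- constant sections over a nonempty étale scheme determine their value -/
lemma constSecM_injective (M : MC.{u} Λ) (W : X.Etale) [Nonempty W.left] :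
    Function.Injective (constSecM (X := X) M W) := by
  intro a b hab
  have hS := Presheaf.equalizerSieve_mem X.smallEtaleTopology
    (toSheafify X.smallEtaleTopology (constPreM Λ X M)) (X := op W) a b hab
  rw [Groth.Agent.Lib.EtPushEpi39.mem_smallEtale_iff] at hS
  obtain ⟨w⟩ := (inferInstance : Nonempty W.left)
  obtain ⟨V, g, z, hg, -⟩ := hS w
  exact hg

/-- morphisms out of a constant sheaf from maps of presheaves -/
noncomputable def constLiftM {M : MC.{u} Λ} (G : EtModW.Mod Λ X)
    (η : constPreM Λ X M ⟶ G.obj) : constShM Λ X M ⟶ G :=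
  ⟨sheafifyLift X.smallEtaleTopology η G.property⟩

lemma constLiftM_constSecM {M : MC.{u} Λ} (G : EtModW.Mod Λ X)
    (η : constPreM Λ X M ⟶ G.obj) (U : X.Etale) (m : M) :
    (constLiftM G η).hom.app (op U) (constSecM M U m) = η.app (op U) m := by
  have h := toSheafify_sheafifyLift X.smallEtaleTopology η G.property
  exact congrArg (fun f => (f.app (op U)).hom m) h

lemma const_hom_extM {M : MC.{u} Λ} {G : EtModW.Mod Λ X} (f g : constShM Λ X M ⟶ G)
    (h : ∀ (U : X.Etale) (m : M), f.hom.app (op U) (constSecM M U m) =
      g.hom.app (op U) (constSecM M U m)) : f = g := by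
  apply Sheaf.hom_ext
  apply sheafify_hom_ext _ _ _ G.property
  ext U m
  exact h U.unop m

end Groth.Agent.Lib.ModConst22
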