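import Groth.Agent.Lib.EtGerm
import Groth.Agent.Lib.ModConst22a
import Groth.Agent.Lib.EtPushEpi39
import Mathlib.Algebra.Category.ModuleCat.FilteredColimits

/-!
# Germs of sections of étale sheaves of `Λ`-modules at geometric points (helper22)

Module-valued version of helper39's `EtGerm`:
* `germM ξ F y : EtModW.sect Λ F U →ₗ[Λ] (EtModW.stalk Λ ξ).obj F`, `germM_jointly_surjective`,
  `germM_res`, `germM_eq_iff`, `germM_naturality`;
* `app_injective_of_monoM`: monomorphisms of sheaves of modules are injective on sections;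
* `isIso_of_sandwich`: on an irreducible scheme, a sheaf squeezed between constant sheaves
  `M' ⊆ G ⊆ M` whose generic geometric stalk is `M'` is `M'`.
-/

set_option autoImplicit false
set_option linter.style.haveILetI false
set_option linter.unusedSectionVars false
universe u
open CategoryTheory CategoryTheory.Limits AlgebraicGeometry Opposite

namespace Groth.Agent.Lib.EtModStalk22

open Groth.Agent.Lib.EtGerm Groth.Agent.Lib.ModConst22

variable {Λ : Type (u + 1)} [CommRing Λ] {X : Scheme.{u}} {Ω : Type u} [Field Ω] [IsSepClosed Ω]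
  (ξ : Spec (CommRingCat.of Ω) ⟶ X)

instance : PreservesFilteredColimitsOfSize.{u, u} (forget (ModuleCat.{u + 1} Λ)) :=
  preservesFilteredColimitsOfSize_of_univLE.{u + 1, u + 1, u, u} _

/-- the germ at `(U, y)` of sections of `F` over `U` -/
noncomputable def germM (F : EtModW.Mod Λ X) {U : X.Etale} (y : Nbhd ξ U) :
    EtModW.sect Λ F U →ₗ[Λ] (EtModW.stalk Λ ξ).obj F :=
  ((Scheme.pointSmallEtale ξ).toPresheafFiber U y F.obj).hom

lemma germM_jointly_surjective (F : EtModW.Mod Λ X) (p : (EtModW.stalk Λ ξ).obj F) :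
    ∃ (U : X.Etale) (y : Nbhd ξ U) (s : EtModW.sect Λ F U), germM ξ F y s = p :=
  (Scheme.pointSmallEtale ξ).toPresheafFiber_jointly_surjective (P := F.obj) p

lemma germM_res (F : EtModW.Mod Λ X) {U V : X.Etale} (g : V ⟶ U) (y : Nbhd ξ V)
    (s : EtModW.sect Λ F U) :
    germM ξ F y (F.obj.map g.op s) = germM ξ F (Nbhd.map ξ g y) s :=
  (Scheme.pointSmallEtale ξ).toPresheafFiber_w_apply g y F.obj s

lemma germM_eq_iff (F : EtModW.Mod Λ X) {U : X.Etale} (y : Nbhd ξ U)
    (s s' : EtModW.sect Λ F U) :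
    germM ξ F y s = germM ξ F y s' ↔
      ∃ (V : X.Etale) (g : V ⟶ U) (z : Nbhd ξ V), Nbhd.map ξ g z = y ∧
        F.obj.map g.op s = F.obj.map g.op s' :=
  (Scheme.pointSmallEtale ξ).toPresheafFiber_eq_iff' (P := F.obj) U y s s'

lemma germM_naturality {F G : EtModW.Mod Λ X} (v : F ⟶ G) {U : X.Etale} (y : Nbhd ξ U)
    (s : EtModW.sect Λ F U) :
    (EtModW.stalk Λ ξ).map v (germM ξ F y s) = germM ξ G y (v.hom.app (op U) s) :=
  (Scheme.pointSmallEtale ξ).toPresheafFiber_naturality_apply v.hom U y s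

omit [Field Ω] [IsSepClosed Ω] in
theorem app_injective_of_monoM {F G : EtModW.Mod Λ X} (b : F ⟶ G) [Mono b] (V : X.Etale) :
    Function.Injective (b.hom.app (op V)) := by
  have h1 : Mono ((sheafToPresheaf X.smallEtaleTopology (ModuleCat.{u + 1} Λ)).map b) :=
    inferInstance
  have h2 : Mono (((sheafToPresheaf X.smallEtaleTopology (ModuleCat.{u + 1} Λ)).map b).app
      (op V)) := inferInstance
  exact (ModuleCat.mono_iff_injective _).1 h2

/-- Every nonempty étale scheme over an irreducible scheme has a point over the generic point. -/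
theorem exists_over_genericPoint [IrreducibleSpace X] (V : X.Etale) [Nonempty V.left] :
    ∃ v : V.left, V.hom v = genericPoint X := by
  haveI : Etale V.hom := V.prop
  have hopen : IsOpen (Set.range V.hom) := V.hom.isOpenMap.isOpen_range
  obtain ⟨v₀⟩ := (inferInstance : Nonempty V.left)
  have hmem : genericPoint X ∈ Set.range V.hom := by
    rw [(genericPoint_spec X).mem_open_set_iff hopen]
    exact ⟨V.hom v₀, trivial, ⟨v₀, rfl⟩⟩
  exact hmem

/-- On an irreducible scheme, a sheaf of modules squeezed between constant sheaves `M' ⊆ G ⊆ M`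
whose stalk at a geometric generic point is `M'` equals `M'`. -/
theorem isIso_of_sandwich [IrreducibleSpace X] (hξ : ξ default = genericPoint X)
    (M : Type (u + 1)) [AddCommGroup M] [Module Λ M] (M' : Submodule Λ M) (G : EtModW.Mod Λ X)
    (a : EtModW.constMod Λ X ↥M' ⟶ G) (b : G ⟶ EtModW.constMod Λ X M) [Mono a] [Mono b]
    (hab : a ≫ b = (constantSheaf X.smallEtaleTopology (ModuleCat.{u + 1} Λ)).map
      (ModuleCat.ofHom M'.subtype))
    (hst : IsIso ((EtModW.stalk Λ ξ).map a)) : IsIso a := by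
  let MM : MC.{u} Λ := ModuleCat.of Λ M
  let MM' : MC.{u} Λ := ModuleCat.of Λ ↥M'
  let incl : MM' ⟶ MM := ModuleCat.ofHom M'.subtype
  have hsurj : Function.Surjective ((EtModW.stalk Λ ξ).map a) :=
    (ConcreteCategory.bijective_of_isIso ((EtModW.stalk Λ ξ).map a)).2
  -- value of `b ∘ a` on constant sections
  have hba : ∀ (W : X.Etale) (m' : MM'),
      b.hom.app (op W) (a.hom.app (op W) (constSecM MM' W m')) = constSecM MM W (incl m') := by
    intro W m'
    have h1 := constSecM_map (X := X) incl W m'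
    rw [← hab] at h1
    exact h1
  haveI : Sheaf.IsLocallySurjective a := by
    constructor
    intro V s
    rw [Groth.Agent.Lib.EtPushEpi39.mem_smallEtale_iff]
    intro x
    -- step 1: `b s` is constant near `x`
    obtain ⟨V₁, g₁, m, ⟨x₁, hx₁⟩, hm⟩ := exists_constSecM_eq_pt MM (b.hom.app (op V) s) x
    refine ⟨V₁, g₁, x₁, ?_, hx₁⟩
    haveI : Nonempty V₁.left := ⟨x₁⟩
    obtain ⟨v₁, hv₁⟩ := exists_over_genericPoint V₁
    obtain ⟨y₁, -⟩ := exists_nbhd_of_pt ξ V₁ v₁ (hv₁.trans hξ.symm)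
    -- step 2: the germ of `s` at `ξ` comes from `M'`
    obtain ⟨p, hp⟩ := hsurj (germM ξ G y₁ (G.obj.map g₁.op s))
    obtain ⟨W₂, w₂, t₂, rfl⟩ := germM_jointly_surjective ξ _ p
    obtain ⟨W₃, g₃, m', ⟨v₃, hv₃⟩, hm'⟩ := exists_constSecM_eq_pt MM' t₂ (Nbhd.pt ξ w₂)
    obtain ⟨w₃, hw₃, -⟩ := exists_nbhd_lift ξ g₃ w₂ v₃ hv₃
    have e1 : germM ξ (EtModW.constMod Λ X ↥M') w₂ t₂ =
        germM ξ (EtModW.constMod Λ X ↥M') w₃ (constSecM MM' W₃ m') := by
      rw [← hm', germM_res, hw₃]
    rw [e1, germM_naturality] at hp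
    -- step 3: common refinement
    obtain ⟨V₄, h₁, h₃, z₄, hz₁, hz₃⟩ := exists_common_nbhd ξ y₁ w₃
    have e2 : germM ξ G z₄ (G.obj.map h₃.op (a.hom.app (op W₃) (constSecM MM' W₃ m'))) =
        germM ξ G z₄ (G.obj.map h₁.op (G.obj.map g₁.op s)) := by
      rw [germM_res, germM_res, hz₁, hz₃]
      exact hp
    obtain ⟨V₅, g₅, z₅, -, e3⟩ := (germM_eq_iff ξ G z₄ _ _).1 e2
    -- step 4: apply `b` and compare constant sections on `V₅`
    have e4 := congrArg (b.hom.app (op V₅)) e3
    have n1 : ∀ (A B : X.Etale) (k : B ⟶ A) (r : EtModW.sect Λ G A),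
        b.hom.app (op B) (G.obj.map k.op r) =
          (EtModW.constMod Λ X M).obj.map k.op (b.hom.app (op A) r) :=
      fun A B k r => NatTrans.naturality_apply b.hom k.op r
    have n2 : ∀ (A B : X.Etale) (k : B ⟶ A) (r : EtModW.sect Λ (EtModW.constMod Λ X ↥M') A),
        a.hom.app (op B) ((EtModW.constMod Λ X ↥M').obj.map k.op r) =
          G.obj.map k.op (a.hom.app (op A) r) :=
      fun A B k r => NatTrans.naturality_apply a.hom k.op r
    rw [n1, n1, n1, n1, n1, hba, hm, constSecM_res, constSecM_res, constSecM_res,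
      constSecM_res] at e4
    haveI : Nonempty V₅.left := ⟨Nbhd.pt ξ z₅⟩
    have e5 : incl m' = m := constSecM_injective MM V₅ e4
    -- step 5: conclude on `V₁`
    refine ⟨constSecM MM' V₁ m', ?_⟩
    apply app_injective_of_monoM b V₁
    show b.hom.app (op V₁) (a.hom.app (op V₁) (constSecM MM' V₁ m')) =
      b.hom.app (op V₁) (G.obj.map g₁.op s)
    rw [hba, n1, hm, e5]
  haveI : Epi a := Sheaf.epi_of_isLocallySurjective a
  exact isIso_of_mono_of_epi a

end Groth.Agent.Lib.EtModStalk22
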