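import Groth.Agent.Lib.EtModStalk22a
import Groth.Agent.Lib.EtStalkPull
import Mathlib.Algebra.Category.ModuleCat.AB
import Mathlib.CategoryTheory.Sites.Point.Skyscraper

/-!
# Stalks of étale sheaves of `Λ`-modules: exactness, inverse images, constant sheaves (helper22)

* instances: `EtModW.stalk Λ ξ` is exact and additive;
* `stalkAdj`: `EtModW.stalk Λ ξ ⊣ skyscraper`, `skyscraper_map_smul` (the right adjoint is linear);
* `stalkPullIsoM`: `(f⁻¹ G)_ξ ≅ G_{f ξ}`;
* `stalkConstIsoM`: the stalk of a constant sheaf is its value.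
-/

set_option autoImplicit false
set_option linter.style.haveILetI false
set_option linter.unusedSectionVars false
universe u
open CategoryTheory CategoryTheory.Limits AlgebraicGeometry Opposite

namespace Groth.Agent.Lib.EtModStalk22

open Groth.Agent.Lib.EtGerm Groth.Agent.Lib.ModConst22

variable {Λ : Type (u + 1)} [CommRing Λ] {X : Scheme.{u}} {Ω : Type u} [Field Ω] [IsSepClosed Ω]
  (ξ : Spec (CommRingCat.of Ω) ⟶ X)

instance hasLimitsOfSize_mod' : HasLimitsOfSize.{u, u} (ModuleCat.{u + 1} Λ) :=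
  hasLimitsOfSizeShrink.{u, u, u + 1, u + 1} _

instance : AB5OfSize.{u, u} (ModuleCat.{u + 1} Λ) := AB5OfSize_shrink.{u, u, u + 1, u + 1} _

instance : PreservesFiniteLimits (EtModW.stalk Λ ξ) := by
  infer_instance

instance : PreservesFiniteColimits (EtModW.stalk Λ ξ) := by
  infer_instance

instance : (EtModW.stalk Λ ξ).Additive := Functor.additive_of_preserves_binary_products _

/-- the skyscraper functor at a geometric point -/
noncomputable abbrev skyscraperM : ModuleCat.{u + 1} Λ ⥤ EtModW.Mod Λ X :=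
  (Scheme.pointSmallEtale ξ).skyscraperSheafFunctor

/-- stalk ⊣ skyscraper -/
noncomputable def stalkAdj : EtModW.stalk Λ ξ ⊣ skyscraperM (Λ := Λ) (X := X) ξ :=
  (Scheme.pointSmallEtale ξ).skyscraperSheafAdjunction

/-- Stalks of the inverse image: `(f⁻¹G)_ξ ≅ G_{f ξ}`, naturally in `G`. -/
noncomputable def stalkPullIsoM {Y : Scheme.{u}} (f : X ⟶ Y) :
    EtModW.pull Λ f ⋙ EtModW.stalk Λ ξ ≅ EtModW.stalk Λ (ξ ≫ f) :=
  ((Scheme.pointSmallEtale ξ).sheafFiberComapIso (EtCoh.bc f) (EtCoh.coverPreserving_bc f)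
    (ModuleCat.{u + 1} Λ)).symm ≪≫
    Groth.Agent.Lib.EtStalkPull.sheafFiberIsoOfIso (Groth.Agent.Lib.EtStalkPull.comapPtIso f ξ)

attribute [local instance] IsFiltered.isConnected in
/-- The stalk of a constant sheaf is its value. -/
noncomputable def stalkConstIsoM (M : MC.{u} Λ) :
    (EtModW.stalk Λ ξ).obj (constShM Λ X M) ≅ M :=
  ((Scheme.pointSmallEtale ξ).presheafToSheafCompSheafFiberIso (MC.{u} Λ)).app
      (constPreM Λ X M) ≪≫
    IsColimit.coconePointUniqueUpToIso
      ((Scheme.pointSmallEtale ξ).isColimitPresheafFiberCocone (constPreM Λ X M))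
      (isColimitConstCocone _ M)

omit [Field Ω] [IsSepClosed Ω] in
theorem pi_map_smul {ι : Type u} {M N : ModuleCat.{u + 1} Λ} (a : Λ) (f : M ⟶ N) :
    Limits.Pi.map (fun _ : ι => a • f) = a • Limits.Pi.map (fun _ : ι => f) := by
  apply Limits.Pi.hom_ext
  intro y
  rw [Linear.smul_comp, Limits.Pi.map_π, Limits.Pi.map_π, Linear.comp_smul]

/-- The skyscraper functor is `Λ`-linear. -/
theorem skyscraperM_map_smul {M N : ModuleCat.{u + 1} Λ} (a : Λ) (f : M ⟶ N) :
    (skyscraperM (X := X) ξ).map (a • f) = a • (skyscraperM (X := X) ξ).map f := by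
  apply Sheaf.hom_ext
  ext U : 2
  exact pi_map_smul a f

end Groth.Agent.Lib.EtModStalk22
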