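import Groth.Agent.Lib.EtModStalk22b
import Groth.Agent.Lib.EtConstrEtLocal22a
import Groth.Agent.Lib.EtConstr22e
import Groth.Agent.Lib.ARSysFunctor22

/-!
# Stalks of constructible sheaves of `Λ`-modules; stalks of AR-adic systems (helper22)

* `nonempty_stalk_iso_of_eqM`, `nonempty_stalk_iso_of_pull_isoM`;
* `finite_stalk_of_isFTLC`, `finite_stalk_of_isConstructible`: geometric stalks of a constructible
  sheaf of `Λ`-modules are finitely generated;
* `isARAdic_stalk`: the stalks of an AR-adic system form an AR-adic system (S13613).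
-/

set_option autoImplicit false
set_option linter.style.haveILetI false
set_option linter.unusedSectionVars false
universe u
open CategoryTheory CategoryTheory.Limits AlgebraicGeometry Opposite

namespace Groth.Agent.Lib.EtModStalk22

open Groth.Agent.Lib.EtGerm Groth.Agent.Lib.ModConst22 Groth.Agent.Lib.EtOverSite22
  Groth.Agent.Lib.EtLocConst22 Groth.Agent.Lib.EtConstr22

variable {Λ : Type (u + 1)} [CommRing Λ] {X : Scheme.{u}} {Ω : Type u} [Field Ω] [IsSepClosed Ω]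

theorem nonempty_stalk_iso_of_eqM (G : EtModW.Mod Λ X) {ξ₁ ξ₂ : Spec (CommRingCat.of Ω) ⟶ X}
    (h : ξ₁ = ξ₂) : Nonempty ((EtModW.stalk Λ ξ₁).obj G ≅ (EtModW.stalk Λ ξ₂).obj G) := by
  subst h
  exact ⟨Iso.refl _⟩

/-- Over a member of a trivialising étale cover, geometric stalks are the value module. -/
theorem nonempty_stalk_iso_of_pull_isoM {T : Scheme.{u}} (G : EtModW.Mod Λ T) (U : T.Etale)
    (M : MC.{u} Λ) (α : (EtModW.pull Λ (homX U)).obj G ≅ constShM Λ U.left M)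
    (ξ : Spec (CommRingCat.of Ω) ⟶ T) (v : U.left) (hv : U.hom v = ξ default) :
    Nonempty ((EtModW.stalk Λ ξ).obj G ≅ M) := by
  obtain ⟨y, -⟩ := exists_nbhd_of_pt ξ U v hv
  let ξ' : Spec (CommRingCat.of Ω) ⟶ U.left := CommaMorphism.left y
  have h : ξ' ≫ homX U = ξ := Over.w y
  obtain ⟨e0⟩ := nonempty_stalk_iso_of_eqM G h
  exact ⟨e0.symm ≪≫ ((stalkPullIsoM ξ' (homX U)).app G).symm ≪≫
    (EtModW.stalk Λ ξ').mapIso α ≪≫ stalkConstIsoM ξ' M⟩

theorem finite_of_iso {M N : MC.{u} Λ} (e : M ≅ N) (h : Module.Finite Λ M) :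
    Module.Finite Λ N :=
  Module.Finite.equiv e.toLinearEquiv

/-- Geometric stalks of a finite type locally constant sheaf are finitely generated. -/
theorem finite_stalk_of_isFTLC {T : Scheme.{u}} (G : EtModW.Mod Λ T)
    (hG : EtModW.IsFTLocConst Λ G) (ξ : Spec (CommRingCat.of Ω) ⟶ T) :
    Module.Finite Λ ((EtModW.stalk Λ ξ).obj G) := by
  obtain ⟨ι, U, hU, h⟩ := (isLC_iff_pull G).1 ((isFTLC_iff_isLC Λ G).1 hG)
  obtain ⟨j, v, hv⟩ := hU (ξ default)
  obtain ⟨M, hM, ⟨α⟩⟩ := h j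
  obtain ⟨e⟩ := nonempty_stalk_iso_of_pull_isoM G (U j) M α ξ v hv
  exact finite_of_iso e.symm hM

/-- Geometric stalks of a constructible sheaf of modules are finitely generated. -/
theorem finite_stalk_of_isConstructible (F : EtModW.Mod Λ X) (hF : EtModW.IsConstructible Λ F)
    (ξ : Spec (CommRingCat.of Ω) ⟶ X) : Module.Finite Λ ((EtModW.stalk Λ ξ).obj F) := by
  obtain ⟨U, hU, hxU, -⟩ :=
    exists_isAffineOpen_mem_and_subset (U := ⊤) (x := ξ default) (by simp)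
  obtain ⟨n, T, g, h1, -, -, h4, h5⟩ := hF U hU
  have hx : ξ default ∈ ⋃ i, Set.range (g i) := h4 ▸ hxU
  obtain ⟨i, t, ht⟩ := Set.mem_iUnion.1 hx
  haveI := h1 i
  obtain ⟨l, hl⟩ := Groth.Agent.Lib.EtConstrEtLocal22.exists_lift_of_isReduced ξ (g i) (by
    rw [range_eq_singleton]; rintro _ rfl; exact ⟨t, ht⟩)
  obtain ⟨e0⟩ := nonempty_stalk_iso_of_eqM F hl
  have hfin := finite_stalk_of_isFTLC _ (h5 i) l
  exact finite_of_iso (((stalkPullIsoM l (g i)).app F) ≪≫ e0) hfin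

/-- The stalks of an AR-adic system of sheaves of modules form an AR-adic system of modules. -/
theorem isARAdic_stalk (I : Ideal Λ) (F : ARSys.PS (EtModW.Mod Λ X))
    (hF : (ARSys.TermKilled I F ∧ ∃ (Y : ARSys.PS (EtModW.Mod Λ X)) (v : Y ⟶ F),
      ARSys.IsAdic I Y ∧ (∀ n : ℕ, EtModW.IsConstructible Λ (Y.obj (op n))) ∧ ARSys.IsARIso v))
    (s : Spec (CommRingCat.of Ω) ⟶ X) :
    (ARSys.TermKilled I (F ⋙ EtModW.stalk Λ s) ∧
      ∃ (Y : ARSys.PS (ModuleCat.{u + 1} Λ)) (v : Y ⟶ F ⋙ EtModW.stalk Λ s),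
        ARSys.IsAdic I Y ∧ (∀ n : ℕ, Module.Finite Λ (Y.obj (op n))) ∧ ARSys.IsARIso v) := by
  obtain ⟨hk, Y, v, hY, hYc, hv⟩ := hF
  let L := EtModW.stalk Λ s
  have hR : ∀ {M N : ModuleCat.{u + 1} Λ} (a : Λ) (f : M ⟶ N),
      (skyscraperM (X := X) s).map (a • f) = a • (skyscraperM (X := X) s).map f :=
    fun a f => skyscraperM_map_smul s a f
  exact ⟨Groth.Agent.Lib.ARSysFunctor22.termKilled_whisker (stalkAdj s) hR I hk, Y ⋙ L,
    Functor.whiskerRight v L, Groth.Agent.Lib.ARSysFunctor22.isAdic_whisker (stalkAdj s) hR I hY,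
    fun n => finite_stalk_of_isConstructible _ (hYc n) s,
    Groth.Agent.Lib.ARSysFunctor22.isARIso_whisker L v hv⟩

end Groth.Agent.Lib.EtModStalk22
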