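import Groth.Agent.Lib.EtModStalk22c
import Groth.Agent.Lib.ARSysLim

/-!
# AR-null AR-adic systems are detected on limits of stalks (helper22)

* `isZero_of_isQuot_zero`: a module killed by a power of `I` whose quotient mod `I` vanishes is zero;
* `isZero_of_forall_stalkM`: a sheaf of modules with vanishing geometric stalks is zero;
* `isARNull_iff_forall_isZero_limit_stalk` (S13620).
-/

set_option autoImplicit false
set_option linter.style.haveILetI false
set_option linter.unusedSectionVars false
universe u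
open CategoryTheory CategoryTheory.Limits AlgebraicGeometry Opposite

namespace Groth.Agent.Lib.EtModStalk22

open Groth.Agent.Lib.EtGerm Groth.Agent.Lib.ModConst22 Groth.Agent.Lib.EtStalkConservative

variable {Λ : Type (u + 1)} [CommRing Λ] {X : Scheme.{u}}

/-- A module killed by `I ^ n` whose universal quotient modulo `I` vanishes is zero. -/
theorem isZero_of_isQuot_zero {I : Ideal Λ} {M Q : ModuleCat.{u + 1} Λ} (p : M ⟶ Q)
    (hp : ARSys.IsQuot I p) (hQ : IsZero Q) (n : ℕ) (hM : ARSys.KilledBy (I ^ n) M) :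
    IsZero M := by
  let N : Submodule Λ M := I • (⊤ : Submodule Λ M)
  let φ : M ⟶ ModuleCat.of Λ (M ⧸ N) := ModuleCat.ofHom N.mkQ
  have hφ : ARSys.HomKilledBy I φ := by
    intro a ha
    ext m
    show a • N.mkQ m = 0
    rw [← map_smul, Submodule.mkQ_apply, Submodule.Quotient.mk_eq_zero]
    exact Submodule.smul_mem_smul ha Submodule.mem_top
  obtain ⟨ψ, hψ, -⟩ := hp.2 _ φ hφ
  have hφ0 : φ = 0 := by
    rw [← hψ, hQ.eq_of_src ψ 0, comp_zero]
  have hN : N = ⊤ := by
    rw [← Submodule.ker_mkQ N]
    have : N.mkQ = 0 := by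
      have := congrArg ModuleCat.Hom.hom hφ0
      exact this
    rw [this, LinearMap.ker_zero]
  have hpow : ∀ k : ℕ, (I ^ k) • (⊤ : Submodule Λ M) = ⊤ := by
    intro k
    induction k with
    | zero => rw [pow_zero, Ideal.one_eq_top, Submodule.top_smul]
    | succ k ih =>
      have hN' : I • (⊤ : Submodule Λ M) = ⊤ := hN
      rw [pow_succ, Submodule.mul_smul, hN', ih]
  have hbot : (I ^ n) • (⊤ : Submodule Λ M) = ⊥ := by
    rw [eq_bot_iff, Submodule.smul_le]
    intro a ha m _
    have h1 := hM a ha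
    have h2 : (a • 𝟙 M : M ⟶ M).hom m = 0 := by rw [h1]; rfl
    rw [Submodule.mem_bot]
    exact h2
  have htb : (⊤ : Submodule Λ M) = ⊥ := (hpow n).symm.trans hbot
  haveI : Subsingleton M := by
    constructor
    intro x y
    have hx : x ∈ (⊥ : Submodule Λ M) := htb ▸ Submodule.mem_top
    have hy : y ∈ (⊥ : Submodule Λ M) := htb ▸ Submodule.mem_top
    rw [Submodule.mem_bot] at hx hy
    rw [hx, hy]
  exact ModuleCat.isZero_of_subsingleton M

/-- sections of a sheaf of modules are determined by their germs at the standard geometric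
points -/
theorem section_ext_of_germsM (F : EtModW.Mod Λ X) {U : X.Etale} (s s' : EtModW.sect Λ F U)
    (h : ∀ (x : X) (y : Nbhd (stdPt x) U),
      germM (stdPt x) F y s = germM (stdPt x) F y s') : s = s' := by
  refine (Sheaf.isSeparated F) U
    (Sieve.mk (fun V (g : V ⟶ U) => F.obj.map g.op s = F.obj.map g.op s') ?_) ?_ s s' ?_
  · intro V W g hg k
    show F.obj.map (k ≫ g).op s = F.obj.map (k ≫ g).op s'
    rw [op_comp, Functor.map_comp]
    exact congrArg (F.obj.map k.op) hg
  · apply sieve_mem_of_forall_stdPt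
    intro x y
    obtain ⟨V, g, z, hz, hg⟩ := (germM_eq_iff (stdPt x) F y s s').1 (h x y)
    exact ⟨V, g, hg, z, hz⟩
  · intro V g hg
    exact hg

/-- A sheaf of modules all of whose stalks at the standard geometric points vanish is zero. -/
theorem isZero_of_forall_stalkM (F : EtModW.Mod Λ X)
    (h : ∀ x : X, IsZero ((EtModW.stalk Λ (stdPt x)).obj F)) : IsZero F := by
  rw [IsZero.iff_id_eq_zero]
  apply Sheaf.hom_ext
  ext U s
  show s = 0
  apply section_ext_of_germsM F (U := U.unop)
  intro x y
  haveI : Subsingleton ((EtModW.stalk Λ (stdPt x)).obj F) :=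
    ModuleCat.subsingleton_of_isZero (h x)
  exact Subsingleton.elim _ _

instance hasLimitsOfShape_nat_mod : HasLimitsOfShape ℕᵒᵖ (ModuleCat.{u + 1} Λ) := by
  haveI : HasLimitsOfSize.{0, 0} (ModuleCat.{u + 1} Λ) :=
    hasLimitsOfSizeShrink.{0, 0, u + 1, u + 1} _
  infer_instance

/-- The limit of a system which is null up to translation vanishes. -/
theorem isZero_limit_of_isARNull {C : Type*} [Category C] [HasZeroMorphisms C]
    (G : ARSys.PS C) [HasLimit G] (h : ARSys.IsARNull G) : IsZero (limit G) := by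
  obtain ⟨r, hr⟩ := h
  rw [IsZero.iff_id_eq_zero]
  apply Groth.Agent.Lib.ARSysLim.limit_hom_ext
  intro n
  rw [Category.id_comp, zero_comp,
    ← Groth.Agent.Lib.ARSysLim.limit_π_tr G (Nat.le_add_right n r)]
  have h1 : ARSys.tr G (Nat.le_add_right n r) = 0 := hr n
  rw [h1, comp_zero]

/-- An AR-adic system of sheaves of modules is null up to translation iff the limits of its
systems of geometric stalks vanish. -/
theorem isARNull_iff_forall_isZero_limit_stalk (I : Ideal Λ) (F : ARSys.PS (EtModW.Mod Λ X))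
    (hF : (ARSys.TermKilled I F ∧ ∃ (Y : ARSys.PS (EtModW.Mod Λ X)) (v : Y ⟶ F),
      ARSys.IsAdic I Y ∧ (∀ n : ℕ, EtModW.IsConstructible Λ (Y.obj (op n))) ∧ ARSys.IsARIso v)) :
    ARSys.IsARNull F ↔
      ∀ (Ω : Type u) [Field Ω] [IsSepClosed Ω] (x : Spec (CommRingCat.of Ω) ⟶ X),
        IsZero (limit (F ⋙ EtModW.stalk Λ x)) := by
  obtain ⟨hk, Y, v, hY, hYc, hv⟩ := hF
  constructor
  · intro h Ω _ _ x
    exact isZero_limit_of_isARNull _
      (Groth.Agent.Lib.ARSysFunctor22.isARNull_whisker (EtModW.stalk Λ x) h)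
  · intro h
    have hYstalk : ∀ (n : ℕ) (x : X),
        IsZero ((EtModW.stalk Λ (stdPt x)).obj (Y.obj (op n))) := by
      intro n x
      let s := stdPt x
      let L := EtModW.stalk Λ s
      have hR : ∀ {M N : ModuleCat.{u + 1} Λ} (a : Λ) (f : M ⟶ N),
          (skyscraperM (X := X) s).map (a • f) = a • (skyscraperM (X := X) s).map f :=
        fun a f => skyscraperM_map_smul s a f
      have hYs : ARSys.IsAdic I (Y ⋙ L) :=
        Groth.Agent.Lib.ARSysFunctor22.isAdic_whisker (stalkAdj s) hR I hY
      have hvs : ARSys.IsARIso (Functor.whiskerRight v L) :=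
        Groth.Agent.Lib.ARSysFunctor22.isARIso_whisker L v hv
      haveI : IsIso (limMap (Functor.whiskerRight v L)) :=
        Groth.Agent.Lib.ARSysLim.isIso_limMap_of_isARIso _ hvs
      have hlimY : IsZero (limit (Y ⋙ L)) :=
        (h _ s).of_iso (asIso (limMap (Functor.whiskerRight v L)))
      have hsurj : Function.Surjective (limit.π (Y ⋙ L) (op 0)) :=
        Concrete.surjective_π_app_zero_of_surjective_map (limit.isLimit (Y ⋙ L)) (fun m => by
          haveI : Epi ((Y ⋙ L).map (homOfLE (Nat.le_succ m)).op) :=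
            Groth.Agent.Lib.ARSysBasic.IsQuot.epi (hYs.2 m (m + 1) (Nat.le_succ m))
          exact (ModuleCat.epi_iff_surjective _).1 this)
      have h0 : IsZero ((Y ⋙ L).obj (op 0)) := by
        haveI : Subsingleton ((limit (Y ⋙ L) : ModuleCat.{u + 1} Λ) : Type (u + 1)) :=
          ModuleCat.subsingleton_of_isZero hlimY
        haveI : Subsingleton (((Y ⋙ L).obj (op 0) : ModuleCat.{u + 1} Λ) : Type (u + 1)) :=
          hsurj.subsingleton
        exact ModuleCat.isZero_of_subsingleton _
      have hq := hYs.2 0 n (Nat.zero_le n)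
      rw [zero_add, pow_one] at hq
      exact isZero_of_isQuot_zero _ hq h0 (n + 1) (hYs.1 n)
    have hYzero : ∀ n : ℕ, IsZero (Y.obj (op n)) :=
      fun n => isZero_of_forall_stalkM _ (hYstalk n)
    have hY0 : IsZero Y := Functor.isZero _ (fun j => hYzero j.unop)
    have hv0 : v = 0 := hY0.eq_of_src v 0
    rw [hv0] at hv
    exact Groth.Agent.Lib.ARSysFunctor22.isARNull_of_iso cokernelZeroIsoTarget hv.2

end Groth.Agent.Lib.EtModStalk22
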