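/-
helper85: separated étale schemes over an integral normal scheme with separably closed function
field are disjoint unions of opens of the base (S0089).
Route: stalks of `U` are normal domains (helper30 `H30NormalSmoothSch`), `U` has locally finitely
many irreducible components (finite generic fibre), so the irreducible components are open and
integral; each is étale, separated and birational over `X`, hence an open immersion (S4809).
-/
import Mathlib
import Groth.Agent.Lib.GenerizationIrred
import Groth.Agent.Lib.H30NormalSmoothSch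
import Groth.Agent.S4809

set_option autoImplicit false
universe u

open CategoryTheory CategoryTheory.Limits AlgebraicGeometry TopologicalSpace Set

namespace Groth.Agent.Lib.EtNormalSplit85


section Top

variable {X : Type u} [TopologicalSpace X]

/-- If the irreducible components are pairwise disjoint and every point has an open neighbourhood
with finitely many irreducible components, then every irreducible component is open. -/
theorem isOpen_of_mem_irreducibleComponents_of_locallyFinite
    (hX : ∀ x : X, ∃ W : Set X, IsOpen W ∧ x ∈ W ∧ (irreducibleComponents W).Finite)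
    (hd : (irreducibleComponents X).PairwiseDisjoint id) {Z : Set X}
    (hZ : Z ∈ irreducibleComponents X) : IsOpen Z := by
  rw [isOpen_iff_mem_nhds]
  intro x hxZ
  obtain ⟨W, hWopen, hxW, hfin⟩ := hX x
  let x' : W := ⟨x, hxW⟩
  let F : Set W := ⋃₀ {Y ∈ irreducibleComponents W | x' ∉ Y}
  have hFclosed : IsClosed F := by
    change IsClosed (⋃₀ {Y ∈ irreducibleComponents W | x' ∉ Y})
    rw [sUnion_eq_biUnion]
    exact Set.Finite.isClosed_biUnion (hfin.subset fun Y hY ↦ hY.1)
      fun Y hY ↦ isClosed_of_mem_irreducibleComponents Y hY.1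
  have hx'F : x' ∉ F := by
    simp only [F, mem_sUnion, not_exists, not_and]
    rintro Y ⟨_, hxY⟩ hxY'
    exact hxY hxY'
  have hopen : IsOpen (Subtype.val '' Fᶜ) := hWopen.isOpenMap_subtype_val _ hFclosed.isOpen_compl
  refine Filter.mem_of_superset (hopen.mem_nhds ⟨x', hx'F, rfl⟩) ?_
  rintro _ ⟨y, hyF, rfl⟩
  have hxY : x' ∈ irreducibleComponent y := by
    by_contra hcon
    exact hyF ⟨irreducibleComponent y,
      ⟨irreducibleComponent_mem_irreducibleComponents y, hcon⟩, mem_irreducibleComponent⟩
  have hirr : IsIrreducible (Subtype.val '' irreducibleComponent y) :=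
    isIrreducible_irreducibleComponent.image _ continuous_subtype_val.continuousOn
  obtain ⟨Z', hZ', hsub⟩ := exists_mem_irreducibleComponents_subset_of_isIrreducible _ hirr
  have hxZ' : x ∈ Z' := hsub ⟨x', hxY, rfl⟩
  have hZZ' : Z' = Z := by
    by_contra hne
    exact (Set.disjoint_left.mp (hd hZ' hZ hne)) hxZ' hxZ
  rw [← hZZ']
  exact hsub ⟨y, mem_irreducibleComponent, rfl⟩

end Top

/-- If the stalk at `x` is a domain, the generizations of `x` form an irreducible set. -/
theorem isIrreducible_generizations {X : Scheme.{u}} (x : X) [IsDomain (X.presheaf.stalk x)] :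
    IsIrreducible {y : X | y ⤳ x} := by
  rw [← Scheme.range_fromSpecStalk, ← Set.image_univ]
  have : IrreducibleSpace (Spec (X.presheaf.stalk x)) :=
    inferInstanceAs (IrreducibleSpace (PrimeSpectrum (X.presheaf.stalk x)))
  exact (IrreducibleSpace.isIrreducible_univ _).image _
    (X.fromSpecStalk x).continuous.continuousOn

theorem pairwiseDisjoint_irreducibleComponents {X : Scheme.{u}}
    (hdom : ∀ x : X, IsDomain (X.presheaf.stalk x)) :
    (irreducibleComponents X).PairwiseDisjoint id := by
  rw [Groth.Agent.Lib.GenerizationIrred.pairwiseDisjoint_irreducibleComponents_iff]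
  intro x
  have := hdom x
  exact (Groth.Agent.Lib.GenerizationIrred.isIrreducible_generizations_iff x).mp
    (isIrreducible_generizations x)

/-- étale morphisms are locally quasi-finite -/
theorem locallyQuasiFinite_of_etale {X Y : Scheme.{u}} (f : X ⟶ Y) [Etale f] :
    LocallyQuasiFinite f := by
  rw [HasRingHomProperty.iff_appLE (P := @LocallyQuasiFinite)]
  intro U V e
  have h : (f.appLE U V e).hom.Etale := HasRingHomProperty.appLE (P := @Etale) f inferInstance U V e
  algebraize [(f.appLE U V e).hom]
  show Algebra.QuasiFinite _ _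
  infer_instance

/-- A flat morphism to an integral scheme sends generic points of irreducible components to the
generic point. -/
theorem apply_eq_genericPoint_of_flat {W V : Scheme.{u}} [IsIntegral V] (h : W ⟶ V) [Flat h]
    {Z : Set W} (hZ : Z ∈ irreducibleComponents W) {ζ : W} (hζ : IsGenericPoint ζ Z) :
    h ζ = genericPoint V := by
  have hgen : GeneralizingMap h := Flat.generalizingMap h
  obtain ⟨ζ', hζ'ζ, hζ'⟩ := hgen (genericPoint_specializes (h ζ))
  have h1 : closure {ζ} ⊆ closure {ζ'} := specializes_iff_closure_subset.mp hζ'ζ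
  have h2 : closure ({ζ'} : Set W) ⊆ Z := by
    apply hZ.2 isIrreducible_singleton.closure
    rw [← hζ.def]
    exact h1
  have h3 : ζ ⤳ ζ' := by
    rw [specializes_iff_closure_subset, hζ.def]
    exact h2
  have : ζ' = ζ := (hζ'ζ.antisymm h3).eq
  rw [← this, hζ']

/-- An étale scheme over an integral scheme has locally finitely many irreducible components. -/
theorem exists_open_finite_irreducibleComponents {U X : Scheme.{u}} [IsIntegral X] (g : U ⟶ X)
    [Etale g] (u : U) :
    ∃ W : Set U, IsOpen W ∧ u ∈ W ∧ (irreducibleComponents W).Finite := by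
  obtain ⟨_, ⟨V, hV, rfl⟩, huV, -⟩ := X.isBasis_affineOpens.exists_subset_of_mem_open
    (Set.mem_univ (g u)) isOpen_univ
  obtain ⟨_, ⟨W, hW, rfl⟩, huW, hWV⟩ := U.isBasis_affineOpens.exists_subset_of_mem_open
    (show u ∈ ((g ⁻¹ᵁ V : U.Opens) : Set U) from huV) (g ⁻¹ᵁ V).isOpen
  refine ⟨(W : Set U), W.isOpen, huW, ?_⟩
  have hne : Nonempty V := ⟨⟨g u, huV⟩⟩
  let h : (W : Scheme.{u}) ⟶ (V : Scheme.{u}) := g.resLE V W hWV
  have : IsAffine (W : Scheme.{u}) := hW
  have : IsAffine (V : Scheme.{u}) := hV
  have : LocallyQuasiFinite h := locallyQuasiFinite_of_etale h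
  have hfin : (h ⁻¹' {genericPoint V}).Finite := Scheme.Hom.finite_preimage_singleton h _
  have hsub : irreducibleComponents (W : Scheme.{u}) ⊆
      (fun ζ => closure {ζ}) '' (h ⁻¹' {genericPoint V}) := by
    intro Z hZ
    have hZc : IsClosed Z := isClosed_of_mem_irreducibleComponents Z hZ
    have hgen := hZ.1.isGenericPoint_genericPoint hZc
    exact ⟨hZ.1.genericPoint, apply_eq_genericPoint_of_flat h hZ hgen, hgen.def⟩
  exact (hfin.image _).subset hsub



/-- An étale morphism of integral schemes preserving generic points, to a scheme with separably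
closed function field, is birational. -/
theorem isIso_stalkMap_genericPoint {Y X : Scheme.{u}} [IsIntegral Y] [IsIntegral X]
    [IsSepClosed X.functionField] (f : Y ⟶ X) [Etale f]
    (hgen : f (genericPoint Y) = genericPoint X) : IsIso (f.stalkMap (genericPoint Y)) := by
  let e : X.presheaf.stalk (genericPoint X) ≅ X.presheaf.stalk (f (genericPoint Y)) :=
    X.presheaf.stalkCongr (.of_eq hgen.symm)
  let ψ : X.functionField ⟶ Y.functionField := e.hom ≫ f.stalkMap (genericPoint Y)
  suffices IsIso ψ from IsIso.of_isIso_comp_left e.hom _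
  have h1 : (f.stalkMap (genericPoint Y)).hom.FormallyUnramified :=
    FormallyUnramified.stalkMap f _
  have h2 : (f.stalkMap (genericPoint Y)).hom.EssFiniteType := LocallyOfFiniteType.stalkMap f _
  have hes : Function.Surjective e.hom.hom := (ConcreteCategory.bijective_of_isIso e.hom).2
  have h1' : ψ.hom.FormallyUnramified :=
    RingHom.FormallyUnramified.comp (RingHom.FormallyUnramified.of_surjective hes) h1
  have h2' : ψ.hom.EssFiniteType :=
    RingHom.EssFiniteType.comp (RingHom.FiniteType.of_surjective _ hes).essFiniteType h2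
  algebraize [ψ.hom]
  have : Algebra.IsSeparable X.functionField Y.functionField :=
    Algebra.FormallyUnramified.isSeparable _ _
  have hsurj := IsSepClosed.algebraMap_surjective X.functionField Y.functionField
  have hinj : Function.Injective ψ.hom := ψ.hom.injective
  exact (ConcreteCategory.isIso_iff_bijective ψ).mpr ⟨hinj, hsurj⟩

section

variable {U X : Scheme.{u}} [IsIntegral X]

theorem isDomain_stalk (hN : ∀ x : X, IsIntegrallyClosed (X.presheaf.stalk x)) (g : U ⟶ X)
    [Etale g] (u : U) : IsDomain (U.presheaf.stalk u) :=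
  ((Groth.Agent.Lib.H30NormalSmoothSch.stalk_iff_of_smooth g u).1.mpr
    ⟨inferInstance, hN (g u)⟩).1

theorem isOpen_irreducibleComponent (hN : ∀ x : X, IsIntegrallyClosed (X.presheaf.stalk x))
    (g : U ⟶ X) [Etale g] {Z : Set U} (hZ : Z ∈ irreducibleComponents U) : IsOpen Z :=
  isOpen_of_mem_irreducibleComponents_of_locallyFinite
    (exists_open_finite_irreducibleComponents g)
    (pairwiseDisjoint_irreducibleComponents (isDomain_stalk hN g)) hZ

theorem isIntegral_component (hN : ∀ x : X, IsIntegrallyClosed (X.presheaf.stalk x))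
    (g : U ⟶ X) [Etale g] (Zo : U.Opens) (hZ : (Zo : Set U) ∈ irreducibleComponents U) :
    IsIntegral (Zo : Scheme.{u}) := by
  have : IsReduced U := by
    have : ∀ u : U, _root_.IsReduced (U.presheaf.stalk u) := fun u => by
      have := isDomain_stalk hN g u
      infer_instance
    exact isReduced_of_isReduced_stalk U
  have : IrreducibleSpace (Zo : Scheme.{u}) :=
    (isIrreducible_iff_irreducibleSpace).mp hZ.1
  exact isIntegral_of_irreducibleSpace_of_isReduced _

theorem isOpenImmersion_component (hN : ∀ x : X, IsIntegrallyClosed (X.presheaf.stalk x))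
    (g : U ⟶ X) [Etale g] [IsSepClosed X.functionField] [IsSeparated g] (Zo : U.Opens)
    (hZ : (Zo : Set U) ∈ irreducibleComponents U) :
    IsOpenImmersion (Zo.ι ≫ g) := by
  have := isIntegral_component hN g Zo hZ
  set f := Zo.ι ≫ g with hf
  have hgen : f (genericPoint (Zo : Scheme.{u})) = genericPoint X := by
    refine apply_eq_genericPoint_of_flat f (Z := Set.univ) ?_ (genericPoint_spec _)
    rw [irreducibleComponents_eq_singleton]
    rfl
  have hbir := isIso_stalkMap_genericPoint f hgen
  have := locallyQuasiFinite_of_etale f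
  exact (Groth.Agent.S4809.result hN f hgen hbir).2 inferInstance

open scoped Function in
/-- **S0089**: a separated étale scheme over an integral normal scheme with separably closed
function field is a disjoint union of open subschemes of the base. -/
theorem exists_coprod_opens (hN : ∀ x : X, IsIntegrallyClosed (X.presheaf.stalk x))
    [IsSepClosed X.functionField] (g : U ⟶ X) [Etale g] [IsSeparated g] :
    ∃ (ι : Type u) (V : ι → X.Opens) (e : (∐ fun i => (V i : Scheme.{u})) ≅ U),
      ∀ i, Sigma.ι (fun i => (V i : Scheme.{u})) i ≫ e.hom ≫ g = (V i).ι := by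
  let ι := ↥(irreducibleComponents U)
  let Zo : ι → U.Opens := fun i => ⟨i.1, isOpen_irreducibleComponent hN g i.2⟩
  have hopen : ∀ i, IsOpenImmersion ((Zo i).ι ≫ g) :=
    fun i => isOpenImmersion_component hN g (Zo i) i.2
  let V : ι → X.Opens := fun i => ((Zo i).ι ≫ g).opensRange
  let φ : ∀ i, (V i : Scheme.{u}) ⟶ U :=
    fun i => ((Zo i).ι ≫ g).isoOpensRange.inv ≫ (Zo i).ι
  have hφ : ∀ i, IsOpenImmersion (φ i) := fun i => inferInstance
  have hrange : ∀ i, (φ i).opensRange = Zo i := by
    intro i
    rw [Scheme.Hom.opensRange_comp_of_isIso, Scheme.Opens.opensRange_ι]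
  have hcov : ⨆ i, (φ i).opensRange = ⊤ := by
    rw [eq_top_iff]
    intro x _
    rw [Opens.mem_iSup]
    refine ⟨⟨irreducibleComponent x, irreducibleComponent_mem_irreducibleComponents x⟩, ?_⟩
    rw [hrange]
    exact mem_irreducibleComponent
  have hdisj : Pairwise (Disjoint on (φ · |>.opensRange)) := by
    intro i j hij
    simp only [Function.onFun, hrange]
    have := pairwiseDisjoint_irreducibleComponents (isDomain_stalk hN g) i.2 j.2
      (fun h => hij (Subtype.ext h))
    rw [disjoint_iff, Opens.ext_iff]
    have h2 : (i.1 ∩ j.1 : Set U) = ∅ := by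
      simpa [Function.onFun, Set.disjoint_iff_inter_eq_empty] using this
    exact h2
  obtain ⟨hc⟩ := nonempty_isColimit_cofanMk_of φ hcov hdisj
  let e : (∐ fun i => (V i : Scheme.{u})) ≅ U :=
    (colimit.isColimit _).coconePointUniqueUpToIso hc
  refine ⟨ι, V, e, fun i => ?_⟩
  have h1 : Sigma.ι (fun i => (V i : Scheme.{u})) i ≫ e.hom = φ i :=
    IsColimit.comp_coconePointUniqueUpToIso_hom (colimit.isColimit _) hc ⟨i⟩
  rw [← Category.assoc, h1]
  simp only [φ, Category.assoc]
  exact Scheme.Hom.isoOpensRange_inv_comp _

end

end Groth.Agent.Lib.EtNormalSplit85
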