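import Mathlib
import Groth.Agent.Lib.EtNormalSplit85
import Groth.Agent.Lib.EtaleLiftSurj
set_option autoImplicit false
universe u

open CategoryTheory CategoryTheory.Limits AlgebraicGeometry TopologicalSpace Set

namespace Groth.Agent.Lib.EtNormalSplit85

open scoped Function in
/-- Packaging: a scheme `V` covered by pairwise disjoint opens `Vo k` each mapping by an open
immersion to `Z` is the coproduct of the image opens of `Z`. -/
theorem exists_coprod_of_opens {V Z : Scheme.{u}} (φ : V ⟶ Z) {ι : Type u} (Vo : ι → V.Opens)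
    (hcov : ⨆ k, Vo k = ⊤) (hdisj : Pairwise (Disjoint on Vo))
    (hopen : ∀ k, IsOpenImmersion ((Vo k).ι ≫ φ)) :
    ∃ (W : ι → Z.Opens) (e : (∐ fun k => (W k : Scheme.{u})) ≅ V),
      ∀ k, Sigma.ι (fun k => (W k : Scheme.{u})) k ≫ e.hom ≫ φ = (W k).ι := by
  let W : ι → Z.Opens := fun k => ((Vo k).ι ≫ φ).opensRange
  let ψ : ∀ k, (W k : Scheme.{u}) ⟶ V :=
    fun k => ((Vo k).ι ≫ φ).isoOpensRange.inv ≫ (Vo k).ι
  have hψ : ∀ k, IsOpenImmersion (ψ k) := fun k => inferInstance
  have hrange : ∀ k, (ψ k).opensRange = Vo k := by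
    intro k
    rw [Scheme.Hom.opensRange_comp_of_isIso, Scheme.Opens.opensRange_ι]
  have hcov' : ⨆ k, (ψ k).opensRange = ⊤ := by
    simp only [hrange]; exact hcov
  have hdisj' : Pairwise (Disjoint on (ψ · |>.opensRange)) := by
    intro i j hij
    simp only [Function.onFun, hrange]
    exact hdisj hij
  obtain ⟨hc⟩ := nonempty_isColimit_cofanMk_of ψ hcov' hdisj'
  let e : (∐ fun k => (W k : Scheme.{u})) ≅ V :=
    (colimit.isColimit _).coconePointUniqueUpToIso hc
  refine ⟨W, e, fun k => ?_⟩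
  have h1 : Sigma.ι (fun k => (W k : Scheme.{u})) k ≫ e.hom = ψ k :=
    IsColimit.comp_coconePointUniqueUpToIso_hom (colimit.isColimit _) hc ⟨k⟩
  rw [← Category.assoc, h1]
  simp only [ψ, Category.assoc]
  exact Scheme.Hom.isoOpensRange_inv_comp _

/-- A compact space covered by pairwise disjoint open irreducible components has finitely many. -/
theorem finite_irreducibleComponents_of_isOpen {T : Type u} [TopologicalSpace T] [CompactSpace T]
    (hopen : ∀ Z ∈ irreducibleComponents T, IsOpen Z)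
    (hd : (irreducibleComponents T).PairwiseDisjoint id) :
    (irreducibleComponents T).Finite := by
  have hcov : (Set.univ : Set T) ⊆ ⋃ Z : irreducibleComponents T, (Z : Set T) := by
    intro x _
    exact Set.mem_iUnion.mpr ⟨⟨irreducibleComponent x,
      irreducibleComponent_mem_irreducibleComponents x⟩, mem_irreducibleComponent⟩
  obtain ⟨t, ht⟩ := isCompact_univ.elim_finite_subcover (fun Z : irreducibleComponents T => (Z : Set T))
    (fun Z => hopen Z.1 Z.2) hcov
  have : irreducibleComponents T ⊆ Subtype.val '' (t : Set (irreducibleComponents T)) := by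
    intro Z hZ
    obtain ⟨x, hx⟩ := hZ.1.nonempty
    obtain ⟨Z', hZ't, hxZ'⟩ := Set.mem_iUnion₂.mp (ht (Set.mem_univ x))
    refine ⟨Z', hZ't, ?_⟩
    by_contra hne
    exact (Set.disjoint_left.mp (hd Z'.2 hZ hne)) hxZ' hx
  exact (t.finite_toSet.image _).subset this

open scoped Function in
/-- **S0624**: `X` affine integral normal with separably closed function field, `Z ⟶ X` a closed
immersion, `V ⟶ Z` étale with `V` affine: then `V` is a finite disjoint union of opens of `Z`. -/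
theorem exists_finite_coprod_opens_of_closedImmersion {V Z X : Scheme.{u}} [IsAffine X]
    [IsIntegral X] (hN : ∀ x : X, IsIntegrallyClosed (X.presheaf.stalk x))
    [IsSepClosed X.functionField] (i : Z ⟶ X) [IsClosedImmersion i] (φ : V ⟶ Z) [Etale φ]
    [IsAffine V] :
    ∃ (ι : Type u) (_ : Finite ι) (W : ι → Z.Opens) (e : (∐ fun k => (W k : Scheme.{u})) ≅ V),
      ∀ k, Sigma.ι (fun k => (W k : Scheme.{u})) k ≫ e.hom ≫ φ = (W k).ι := by
  have hZaff : IsAffine Z := isAffine_of_isAffineHom i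
  have hαsurj : Function.Surjective i.appTop.hom :=
    (IsClosedImmersion.isAffine_surjective_of_isAffine i).2
  have hβ : φ.appTop.hom.Etale :=
    (HasRingHomProperty.iff_of_isAffine (P := @Etale)).mp inferInstance
  let _ : Algebra Γ(X, ⊤) Γ(Z, ⊤) := i.appTop.hom.toAlgebra
  let _ : Algebra Γ(Z, ⊤) Γ(V, ⊤) := φ.appTop.hom.toAlgebra
  let _ : Algebra Γ(X, ⊤) Γ(V, ⊤) := (φ.appTop.hom.comp i.appTop.hom).toAlgebra
  have _ : IsScalarTower Γ(X, ⊤) Γ(Z, ⊤) Γ(V, ⊤) := IsScalarTower.of_algebraMap_eq (fun _ => rfl)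
  have _ : Algebra.Etale Γ(Z, ⊤) Γ(V, ⊤) := hβ
  obtain ⟨R', _, _, ψ, hR', hψsurj, -⟩ := Groth.Agent.Lib.EtaleLiftSurj.exists_etale_lift
    (R := Γ(X, ⊤)) (B := Γ(Z, ⊤)) (B' := Γ(V, ⊤)) hαsurj
  let U : Scheme.{u} := Spec (CommRingCat.of R')
  let u : U ⟶ X := Spec.map (CommRingCat.ofHom (algebraMap Γ(X, ⊤) R')) ≫ X.isoSpec.inv
  have hu : Etale u := by
    have : Etale (Spec.map (CommRingCat.ofHom (algebraMap Γ(X, ⊤) R'))) := by
      rw [HasRingHomProperty.Spec_iff (P := @Etale)]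
      exact RingHom.etale_algebraMap.mpr hR'
    infer_instance
  let j : V ⟶ U := V.isoSpec.hom ≫ Spec.map (CommRingCat.ofHom ψ.toRingHom)
  have hjmono : Mono j := by
    have : IsClosedImmersion (Spec.map (CommRingCat.ofHom ψ.toRingHom)) :=
      IsClosedImmersion.spec_of_surjective _ hψsurj
    infer_instance
  have hcomm : j ≫ u = φ ≫ i := by
    simp only [j, u, Category.assoc]
    rw [← Spec.map_comp_assoc]
    have : CommRingCat.ofHom (algebraMap Γ(X, ⊤) R') ≫ CommRingCat.ofHom ψ.toRingHom =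
        (φ ≫ i).appTop := by
      ext a
      simp only [Scheme.Hom.comp_appTop, CommRingCat.hom_comp, CommRingCat.hom_ofHom,
        RingHom.coe_comp, Function.comp_apply]
      exact ψ.commutes a
    rw [this, Scheme.isoSpec_inv_naturality, Iso.hom_inv_id_assoc]
  let ι := ↥(irreducibleComponents U)
  have hopenZ : ∀ Z ∈ irreducibleComponents U, IsOpen Z :=
    fun Z hZ => isOpen_irreducibleComponent hN u hZ
  have hd := pairwiseDisjoint_irreducibleComponents (isDomain_stalk hN u)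
  have hfin : Finite ι := (finite_irreducibleComponents_of_isOpen hopenZ hd).to_subtype
  let Zo : ι → U.Opens := fun k => ⟨k.1, hopenZ k.1 k.2⟩
  let Vo : ι → V.Opens := fun k => j ⁻¹ᵁ (Zo k)
  have hcov : ⨆ k, Vo k = ⊤ := by
    rw [eq_top_iff]
    intro v _
    rw [Opens.mem_iSup]
    exact ⟨⟨irreducibleComponent (j v), irreducibleComponent_mem_irreducibleComponents _⟩,
      mem_irreducibleComponent⟩
  have hdisj : Pairwise (Disjoint on Vo) := by
    intro k l hkl
    have hne : k.1 ≠ l.1 := fun h => hkl (Subtype.ext h)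
    have := hd k.2 l.2 hne
    rw [Function.onFun, disjoint_iff, Opens.ext_iff]
    ext v
    simp only [Opens.coe_inf, Set.mem_inter_iff, SetLike.mem_coe, Opens.coe_bot,
      Set.mem_empty_iff_false, iff_false, not_and]
    intro h1 h2
    exact Set.disjoint_left.mp this h1 h2
  have hopen : ∀ k, IsOpenImmersion ((Vo k).ι ≫ φ) := by
    intro k
    have hUk : IsOpenImmersion ((Zo k).ι ≫ u) := isOpenImmersion_component hN u (Zo k) k.2
    have hres : Mono (j ∣_ (Zo k)) := by
      have h0 : (j ∣_ (Zo k)) ≫ (Zo k).ι = (j ⁻¹ᵁ (Zo k)).ι ≫ j := morphismRestrict_ι j (Zo k)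
      have : Mono ((j ∣_ (Zo k)) ≫ (Zo k).ι) := by rw [h0]; infer_instance
      exact mono_of_mono _ (Zo k).ι
    have h1 : ((Vo k).ι ≫ φ) ≫ i = (j ∣_ (Zo k)) ≫ ((Zo k).ι ≫ u) := by
      have h2 : (j ∣_ (Zo k)) ≫ (Zo k).ι = (Vo k).ι ≫ j := morphismRestrict_ι j (Zo k)
      calc ((Vo k).ι ≫ φ) ≫ i = (Vo k).ι ≫ (φ ≫ i) := Category.assoc _ _ _
        _ = (Vo k).ι ≫ (j ≫ u) := by rw [hcomm]
        _ = ((Vo k).ι ≫ j) ≫ u := (Category.assoc _ _ _).symm
        _ = ((j ∣_ (Zo k)) ≫ (Zo k).ι) ≫ u := by rw [h2]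
        _ = _ := Category.assoc _ _ _
    have : Mono (((Vo k).ι ≫ φ) ≫ i) := by rw [h1]; infer_instance
    have : Mono ((Vo k).ι ≫ φ) := mono_of_mono _ i
    exact IsOpenImmersion.of_flat_of_mono _
  obtain ⟨W, e, he⟩ := exists_coprod_of_opens φ Vo hcov hdisj hopen
  exact ⟨ι, hfin, W, e, he⟩

end Groth.Agent.Lib.EtNormalSplit85
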