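import Mathlib
import Groth.Agent.Lib.EtNormalSplit85b
set_option autoImplicit false
universe u

open CategoryTheory CategoryTheory.Limits AlgebraicGeometry TopologicalSpace Set

namespace Groth.Agent.Lib.EtNormalSplit85

/-- Each component of a coproduct of schemes has closed range. -/
theorem isClosed_range_sigmaι {ι : Type u} (f : ι → Scheme.{u}) (i : ι) :
    IsClosed (Set.range (Sigma.ι f i)) := by
  have h : Topology.IsClosedEmbedding ((sigmaMk f) ∘ (Sigma.mk i)) :=
    (sigmaMk f).isClosedEmbedding.comp Topology.IsClosedEmbedding.sigmaMk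
  have : Set.range (Sigma.ι f i) = Set.range ((sigmaMk f) ∘ (Sigma.mk i)) := by
    ext x; simp [sigmaMk_mk]
  rw [this]; exact h.isClosed_range

open scoped Function in
/-- Gluing morphisms along a pairwise disjoint open cover. -/
theorem exists_hom_of_disjoint_cover {Z V : Scheme.{u}} {ι : Type u} (Zo : ι → Z.Opens)
    (hcov : ⨆ k, Zo k = ⊤) (hdisj : Pairwise (Disjoint on Zo))
    (s : ∀ k, (Zo k : Scheme.{u}) ⟶ V) (φ : V ⟶ Z) (hs : ∀ k, s k ≫ φ = (Zo k).ι) :
    ∃ t : Z ⟶ V, t ≫ φ = 𝟙 Z := by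
  have hcov' : ⨆ k, ((Zo k).ι).opensRange = ⊤ := by
    simp only [Scheme.Opens.opensRange_ι]; exact hcov
  have hdisj' : Pairwise (Disjoint on (fun k => ((Zo k).ι).opensRange)) := by
    intro a b hab
    simp only [Function.onFun, Scheme.Opens.opensRange_ι]
    exact hdisj hab
  obtain ⟨hc⟩ := nonempty_isColimit_cofanMk_of (fun k => (Zo k).ι) hcov' hdisj'
  refine ⟨Cofan.IsColimit.desc hc s, ?_⟩
  refine Cofan.IsColimit.hom_ext hc _ _ (fun k => ?_)
  have h1 : (Cofan.mk Z fun k => (Zo k).ι).inj k = (Zo k).ι := rfl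
  rw [h1, ← Category.assoc]
  have h2 : (Zo k).ι ≫ Cofan.IsColimit.desc hc s = s k := by
    have := Cofan.IsColimit.fac hc s k
    rwa [h1] at this
  rw [h2, hs k]; exact (Category.comp_id _).symm

/-- Stacks 09ZA-type: surjective finite etale covers of closed subschemes of a normal affine integral
scheme with separably closed function field have sections. -/
theorem exists_section_of_finite_etale {V Z X : Scheme.{u}} [IsAffine X]
    [IsIntegral X] (hN : ∀ x : X, IsIntegrallyClosed (X.presheaf.stalk x))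
    [IsSepClosed X.functionField] (i : Z ⟶ X) [IsClosedImmersion i] (φ : V ⟶ Z) [Etale φ]
    [IsFinite φ] [Surjective φ] :
    ∃ s : Z ⟶ V, s ≫ φ = 𝟙 Z := by
  have hZaff : IsAffine Z := isAffine_of_isAffineHom i
  have hVaff : IsAffine V := isAffine_of_isAffineHom φ
  obtain ⟨ι, hfin, W, e, he⟩ := exists_finite_coprod_opens_of_closedImmersion hN i φ
  -- each W k is closed
  have hclosed : ∀ k, IsClosed (W k : Set Z) := by
    intro k
    have h1 : (W k : Set Z) = Set.range ((W k).ι) := by
      simp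
    have h2 : Set.range ((W k).ι) = φ '' (e.hom '' Set.range (Sigma.ι (fun k => (W k : Scheme.{u})) k)) := by
      rw [← he k]
      ext z
      simp only [Scheme.Hom.comp_base, TopCat.hom_comp, ContinuousMap.coe_comp, Set.mem_range,
        Function.comp_apply, Set.mem_image, exists_exists_eq_and]
    rw [h1, h2]
    apply φ.isClosedMap
    exact (e.hom.homeomorph).isClosedMap _ (isClosed_range_sigmaι _ k)
  -- the W k cover Z
  have hcovW : ∀ z : Z, ∃ k, z ∈ W k := by
    intro z
    obtain ⟨v, rfl⟩ := φ.surjective z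
    obtain ⟨y, rfl⟩ := e.hom.homeomorph.surjective v
    obtain ⟨k, w, rfl⟩ := (sigmaOpenCover (fun k => (W k : Scheme.{u}))).exists_eq y
    refine ⟨k, ?_⟩
    have : φ (e.hom ((Sigma.ι (fun k => (W k : Scheme.{u})) k) w)) = (W k).ι w := by
      rw [← he k]; rfl
    change φ (e.hom ((Sigma.ι (fun k => (W k : Scheme.{u})) k) w)) ∈ W k
    rw [this]
    exact w.2
  -- order the index set
  obtain ⟨n, ⟨eqv⟩⟩ := Finite.exists_equiv_fin ι
  let r : ι → ℕ := fun k => (eqv k : ℕ)
  have hr : Function.Injective r := fun a b h => eqv.injective (Fin.ext h)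
  have hfinlt : ∀ k, {j | r j < r k}.Finite := fun k => Set.toFinite _
  let Zo : ι → Z.Opens := fun k =>
    ⟨(W k : Set Z) ∩ (⋃ j ∈ {j | r j < r k}, (W j : Set Z))ᶜ,
      (W k).2.inter ((hfinlt k).isClosed_biUnion (fun j _ => hclosed j)).isOpen_compl⟩
  have hZoW : ∀ k, Zo k ≤ W k := fun k z hz => hz.1
  have hcov : ⨆ k, Zo k = ⊤ := by
    rw [eq_top_iff]
    intro z _
    obtain ⟨k, hk, hmin⟩ := (measure r).wf.has_min {k | z ∈ W k} (hcovW z)
    rw [Opens.mem_iSup]
    refine ⟨k, hk, ?_⟩
    simp only [Set.mem_compl_iff, Set.mem_iUnion, not_exists]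
    intro j hj hz
    exact hmin j hz hj
  have hdisj : Pairwise (Function.onFun Disjoint Zo) := by
    have key : ∀ a b, r a < r b → Disjoint (Zo a) (Zo b) := by
      intro a b hab
      rw [disjoint_iff]
      ext z
      simp only [Opens.coe_inf, Set.mem_inter_iff, SetLike.mem_coe, Opens.coe_bot,
        Set.mem_empty_iff_false, iff_false, not_and]
      intro h1 h2
      apply h2.2
      simp only [Set.mem_iUnion]
      exact ⟨a, hab, h1.1⟩
    intro a b hab
    rcases lt_or_gt_of_ne (fun h => hab (hr h)) with h | h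
    · exact key a b h
    · exact (key b a h).symm
  let s : ∀ k, (Zo k : Scheme.{u}) ⟶ V := fun k =>
    Z.homOfLE (hZoW k) ≫ Sigma.ι (fun k => (W k : Scheme.{u})) k ≫ e.hom
  refine exists_hom_of_disjoint_cover Zo hcov hdisj s φ (fun k => ?_)
  calc s k ≫ φ = Z.homOfLE (hZoW k) ≫ (Sigma.ι (fun k => (W k : Scheme.{u})) k ≫ e.hom ≫ φ) := by
        simp only [s, Category.assoc]
    _ = Z.homOfLE (hZoW k) ≫ (W k).ι := by rw [he k]
    _ = (Zo k).ι := Scheme.homOfLE_ι _ _

end Groth.Agent.Lib.EtNormalSplit85
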