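import Groth.Agent.Lib.EtConst
import Groth.Agent.Lib.EtStalkPullGerm
import Groth.Prelude.Def_EtCore
import Mathlib.Algebra.Homology.DerivedCategory.Ext.ExactSequences
import Mathlib.GroupTheory.OrderOfElement

/-!
# `H^1` of a torsion-free constant sheaf on a one-point scheme has no torsion (helper95)

On a scheme `Y` with exactly one point (e.g. the spectrum of a field):
* `constSec_surjective`: every global section of a constant sheaf is constant;
* `H1_const_eq_zero_of_isOfFinAddOrder`: for `M` torsion-free, `H^1(Y, M)` is torsion-free; hence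
  a class of finite order vanishes.
-/

set_option autoImplicit false
universe u

open CategoryTheory CategoryTheory.Limits AlgebraicGeometry Opposite

namespace Groth.Agent.Lib.EtOnePtConstH1_95

open Groth.Agent.Lib.EtConst Groth.Agent.Lib.EtStalkPullGerm CategoryTheory.Abelian

variable {Y : Scheme.{u}} [Subsingleton Y] [Nonempty Y]

/-- every global section of a constant sheaf on a one-point scheme is constant -/
lemma constSec_surjective (M : AddCommGrpCat.{u + 1}) :
    Function.Surjective (constSec (X := Y) M (EtCoh.top Y)) := by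
  intro s
  obtain ⟨y⟩ := ‹Nonempty Y›
  obtain ⟨V, g, m, hy, hm⟩ := exists_constSec_eq_pt M s (y : (EtCoh.top Y).left)
  refine ⟨m, ?_⟩
  apply section_ext_of_forall_pt
  intro u
  refine ⟨V, g, ?_, ?_⟩
  · have : u = y := Subsingleton.elim (α := ↥Y) u y
    rw [this]
    exact hy
  · rw [constSec_res, hm]

noncomputable instance : PreservesFiniteLimits
    (constantSheaf Y.smallEtaleTopology AddCommGrpCat.{u + 1}) :=
  comp_preservesFiniteLimits (Functor.const Y.Etaleᵒᵖ)
    (presheafToSheaf Y.smallEtaleTopology AddCommGrpCat.{u + 1})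

noncomputable instance : PreservesFiniteColimits
    (constantSheaf Y.smallEtaleTopology AddCommGrpCat.{u + 1}) := by
  have : PreservesColimitsOfSize.{0, 0} (constantSheaf Y.smallEtaleTopology AddCommGrpCat.{u + 1}) :=
    (EtCore.constAdj Y).leftAdjoint_preservesColimits
  exact PreservesColimitsOfSize.preservesFiniteColimits _

instance : (EtCore.gsec Y).Additive where
  map_add := rfl

instance : (constantSheaf Y.smallEtaleTopology AddCommGrpCat.{u + 1}).Additive :=
  (EtCore.constAdj Y).left_adjoint_additive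

instance additive_HF (Z : Scheme.{u}) (i : ℕ) : (EtCoh.HF Z i).Additive := by
  unfold EtCoh.HF
  infer_instance

lemma HF_map_nsmul_id {Z : Scheme.{u}} (F : EtCoh.Ab Z) (d n : ℕ) (α : EtCoh.H Z F n) :
    (EtCoh.HF Z n).map (d • 𝟙 F) α = d • α := by
  rw [Functor.map_nsmul, CategoryTheory.Functor.map_id]
  rfl

lemma nsmul_id_apply (M : AddCommGrpCat.{u + 1}) (n : ℕ) (c : M) :
    (n • 𝟙 M : M ⟶ M) c = n • c := by
  induction n with
  | zero =>
    rw [zero_nsmul, zero_nsmul]
    rfl
  | succ n ih =>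
    rw [succ_nsmul, succ_nsmul, ← ih]
    rfl

/-- `H^1` of a torsion-free constant sheaf on a one-point scheme has no `n`-torsion -/
theorem H1_const_nsmul_injective (M : AddCommGrpCat.{u + 1}) (n : ℕ)
    (hM : Function.Injective (fun a : M => n • a)) (α : EtCoh.H Y (constSh Y M) 1)
    (hα : n • α = 0) : α = 0 := by
  -- the short exact sequence `0 → M → M → M/n → 0`
  let S₀ : ShortComplex AddCommGrpCat.{u + 1} :=
    ShortComplex.mk (n • 𝟙 M) (cokernel.π (n • 𝟙 M)) (cokernel.condition _)
  have hmono : Mono (n • 𝟙 M : M ⟶ M) := by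
    rw [AddCommGrpCat.mono_iff_injective]
    intro a b hab
    apply hM
    rw [nsmul_id_apply, nsmul_id_apply] at hab
    exact hab
  have hS₀ : S₀.ShortExact :=
    { exact := ShortComplex.exact_cokernel _
      mono_f := hmono
      epi_g := by dsimp [S₀]; infer_instance }
  have hS := hS₀.map_of_exact (constantSheaf Y.smallEtaleTopology AddCommGrpCat.{u + 1})
  have hf : (S₀.map (constantSheaf Y.smallEtaleTopology AddCommGrpCat.{u + 1})).f =
      n • 𝟙 (constSh Y M) := by
    show (constantSheaf Y.smallEtaleTopology AddCommGrpCat.{u + 1}).map (n • 𝟙 M) = _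
    rw [Functor.map_nsmul, CategoryTheory.Functor.map_id]
  -- `n • α = α ∘ (n • 𝟙)`
  have h1 : α.comp (Ext.mk₀ (S₀.map (constantSheaf Y.smallEtaleTopology
      AddCommGrpCat.{u + 1})).f) (add_zero 1) = 0 := by
    rw [hf]
    exact (HF_map_nsmul_id (constSh Y M) n 1 α).trans hα
  obtain ⟨x₃, hx₃⟩ := Ext.covariant_sequence_exact₁ _ hS α h1 (n₀ := 0) rfl
  -- lift `x₃ ∈ H^0(M/n)` to `H^0(M)`
  have hsurj : Function.Surjective S₀.g.hom :=
    (AddCommGrpCat.epi_iff_surjective _).1 hS₀.epi_g
  obtain ⟨mbar, hmbar⟩ := constSec_surjective (Y := Y) S₀.X₃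
    (Sheaf.H.equiv₀ (constSh Y S₀.X₃) (EtCore.topIsTerminal Y) x₃)
  obtain ⟨m, hm⟩ := hsurj mbar
  let x₂ : EtCoh.H Y (constSh Y M) 0 :=
    (Sheaf.H.equiv₀ (constSh Y M) (EtCore.topIsTerminal Y)).symm (constSec M (EtCoh.top Y) m)
  have hx₂ : x₂.comp (Ext.mk₀ (S₀.map (constantSheaf Y.smallEtaleTopology
      AddCommGrpCat.{u + 1})).g) (add_zero 0) = x₃ := by
    apply (Sheaf.H.equiv₀ (constSh Y S₀.X₃) (EtCore.topIsTerminal Y)).injective
    have hnat := Sheaf.H.equiv₀_naturality (EtCore.topIsTerminal Y)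
      ((constantSheaf Y.smallEtaleTopology AddCommGrpCat.{u + 1}).map S₀.g) x₂
    refine hnat.symm.trans ?_
    rw [AddEquiv.apply_symm_apply, constSec_map, ← hmbar]
    exact congrArg (constSec S₀.X₃ (EtCoh.top Y)) hm
  rw [← hx₃, ← hx₂]
  exact (Ext.comp_assoc_of_second_deg_zero _ _ _ _).trans
    ((congrArg (fun y => x₂.comp y (by omega)) hS.comp_extClass).trans (Ext.comp_zero _ _ _ _ _))

/-- a class of finite order in `H^1` of a torsion-free constant sheaf on a one-point scheme
vanishes -/
theorem H1_const_eq_zero_of_isOfFinAddOrder (M : AddCommGrpCat.{u + 1})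
    (hM : ∀ n : ℕ, 0 < n → Function.Injective (fun a : M => n • a))
    (α : EtCoh.H Y (constSh Y M) 1) (hα : IsOfFinAddOrder α) : α = 0 := by
  obtain ⟨n, hn, hnα⟩ := isOfFinAddOrder_iff_nsmul_eq_zero.1 hα
  exact H1_const_nsmul_injective M n (hM n hn) α hnα

end Groth.Agent.Lib.EtOnePtConstH1_95
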