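import Mathlib.Algebra.Homology.DerivedCategory.Ext.ExactSequences
import Mathlib.Algebra.Homology.CommSq
import Mathlib.CategoryTheory.Abelian.CommSq
import Mathlib.Algebra.Homology.ShortComplex.ShortExact

/-!
# Abstract Mayer–Vietoris sequence for Ext groups (helper39)

Given a commutative square `a ≫ c = b ≫ d` in an abelian category such that
`0 ⟶ A ⟶ B ⊞ C' ⟶ Z ⟶ 0` (`CommSq.shortComplex'`) is short exact, the contravariant long exact
`Ext(-, F)` sequence unfolds to a Mayer–Vietoris sequence (`IsMV`).  `IsMV.transport` moves the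
statement along additive equivalences.
-/

universe w v u v' u'

namespace Groth.Agent.Lib.ExtMV

open CategoryTheory CategoryTheory.Limits CategoryTheory.Abelian

/-- The Mayer–Vietoris shape: graded groups `HX, HU, HV, HW`, restriction maps
`rU, rV : HX → HU, HV`, `sU, sV : HU, HV → HW`. -/
def IsMV {HX HU HV HW : ℕ → Type*} [∀ n, AddCommGroup (HX n)] [∀ n, AddCommGroup (HU n)]
    [∀ n, AddCommGroup (HV n)] [∀ n, AddCommGroup (HW n)]
    (rU : ∀ n, HX n →+ HU n) (rV : ∀ n, HX n →+ HV n)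
    (sU : ∀ n, HU n →+ HW n) (sV : ∀ n, HV n →+ HW n) : Prop :=
  ∃ δ : ∀ n : ℕ, HW n →+ HX (n + 1),
    (AddMonoidHom.prod (rU 0) (rV 0)).ker = ⊥ ∧
    (∀ n : ℕ, (AddMonoidHom.prod (rU (n + 1)) (rV (n + 1))).ker = (δ n).range) ∧
    (∀ n : ℕ, ((sU n).comp (AddMonoidHom.fst _ _) - (sV n).comp (AddMonoidHom.snd _ _)).ker =
      (AddMonoidHom.prod (rU n) (rV n)).range) ∧
    (∀ n : ℕ, (δ n).ker =
      ((sU n).comp (AddMonoidHom.fst _ _) - (sV n).comp (AddMonoidHom.snd _ _)).range)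

theorem IsMV.transport {HX HU HV HW EU EV EW : ℕ → Type*}
    [∀ n, AddCommGroup (HX n)] [∀ n, AddCommGroup (HU n)]
    [∀ n, AddCommGroup (HV n)] [∀ n, AddCommGroup (HW n)]
    [∀ n, AddCommGroup (EU n)] [∀ n, AddCommGroup (EV n)] [∀ n, AddCommGroup (EW n)]
    {cs : ∀ n, HX n →+ EU n} {ds : ∀ n, HX n →+ EV n}
    {as : ∀ n, EU n →+ EW n} {bs : ∀ n, EV n →+ EW n}
    (h : IsMV cs ds as bs)
    (θU : ∀ n, EU n ≃+ HU n) (θV : ∀ n, EV n ≃+ HV n) (θW : ∀ n, EW n ≃+ HW n)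
    (rU : ∀ n, HX n →+ HU n) (rV : ∀ n, HX n →+ HV n)
    (sU : ∀ n, HU n →+ HW n) (sV : ∀ n, HV n →+ HW n)
    (hrU : ∀ n x, θU n (cs n x) = rU n x) (hrV : ∀ n x, θV n (ds n x) = rV n x)
    (hsU : ∀ n x, θW n (as n x) = sU n (θU n x)) (hsV : ∀ n x, θW n (bs n x) = sV n (θV n x)) :
    IsMV rU rV sU sV := by
  obtain ⟨δ, h1, h2, h3, h4⟩ := h
  have hU0 : ∀ n x, rU n x = 0 ↔ cs n x = 0 := fun n x => by
    rw [← hrU]; exact (θU n).map_eq_zero_iff
  have hV0 : ∀ n x, rV n x = 0 ↔ ds n x = 0 := fun n x => by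
    rw [← hrV]; exact (θV n).map_eq_zero_iff
  have hd : ∀ n (p : EU n) (q : EV n), sU n (θU n p) - sV n (θV n q) = θW n (as n p - bs n q) :=
    fun n p q => by rw [map_sub, hsU, hsV]
  refine ⟨fun n => (δ n).comp (θW n).symm.toAddMonoidHom, ?_, ?_, ?_, ?_⟩
  · rw [AddSubgroup.eq_bot_iff_forall]
    intro x hx
    rw [AddMonoidHom.mem_ker, AddMonoidHom.prod_apply, Prod.mk_eq_zero] at hx
    have : x ∈ (AddMonoidHom.prod (cs 0) (ds 0)).ker := by
      rw [AddMonoidHom.mem_ker, AddMonoidHom.prod_apply, Prod.mk_eq_zero]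
      exact ⟨(hU0 0 x).1 hx.1, (hV0 0 x).1 hx.2⟩
    rw [h1] at this
    exact (AddSubgroup.mem_bot).1 this
  · intro n
    ext x
    have e1 : x ∈ (AddMonoidHom.prod (rU (n + 1)) (rV (n + 1))).ker ↔
        x ∈ (AddMonoidHom.prod (cs (n + 1)) (ds (n + 1))).ker := by
      rw [AddMonoidHom.mem_ker, AddMonoidHom.prod_apply, Prod.mk_eq_zero,
        AddMonoidHom.mem_ker, AddMonoidHom.prod_apply, Prod.mk_eq_zero, hU0, hV0]
    rw [e1, h2 n]
    constructor
    · rintro ⟨y, rfl⟩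
      exact ⟨θW n y, by simp⟩
    · rintro ⟨y, rfl⟩
      exact ⟨(θW n).symm y, by simp⟩
  · intro n
    ext ⟨p, q⟩
    obtain ⟨p, rfl⟩ := (θU n).surjective p
    obtain ⟨q, rfl⟩ := (θV n).surjective q
    have e1 : (⟨θU n p, θV n q⟩ : HU n × HV n) ∈
        ((sU n).comp (AddMonoidHom.fst _ _) - (sV n).comp (AddMonoidHom.snd _ _)).ker ↔
        (⟨p, q⟩ : EU n × EV n) ∈
          ((as n).comp (AddMonoidHom.fst _ _) - (bs n).comp (AddMonoidHom.snd _ _)).ker := by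
      simp only [AddMonoidHom.mem_ker, AddMonoidHom.sub_apply, AddMonoidHom.comp_apply,
        AddMonoidHom.coe_fst, AddMonoidHom.coe_snd]
      rw [hd]
      exact (θW n).map_eq_zero_iff
    rw [e1, h3 n]
    constructor
    · rintro ⟨x, hx⟩
      refine ⟨x, ?_⟩
      rw [AddMonoidHom.prod_apply, Prod.mk.injEq] at hx ⊢
      rw [← hrU, ← hrV, hx.1, hx.2]
      exact ⟨rfl, rfl⟩
    · rintro ⟨x, hx⟩
      refine ⟨x, ?_⟩
      rw [AddMonoidHom.prod_apply, Prod.mk.injEq] at hx ⊢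
      rw [← hrU, ← hrV] at hx
      exact ⟨(θU n).injective hx.1, (θV n).injective hx.2⟩
  · intro n
    ext y
    obtain ⟨y, rfl⟩ := (θW n).surjective y
    have e1 : θW n y ∈ ((δ n).comp (θW n).symm.toAddMonoidHom).ker ↔ y ∈ (δ n).ker := by
      simp [AddMonoidHom.mem_ker]
    rw [e1, h4 n]
    constructor
    · rintro ⟨⟨p, q⟩, hpq⟩
      refine ⟨⟨θU n p, θV n q⟩, ?_⟩
      simp only [AddMonoidHom.sub_apply, AddMonoidHom.comp_apply,
        AddMonoidHom.coe_fst, AddMonoidHom.coe_snd] at hpq ⊢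
      rw [hd, hpq]
    · rintro ⟨⟨p, q⟩, hpq⟩
      obtain ⟨p, rfl⟩ := (θU n).surjective p
      obtain ⟨q, rfl⟩ := (θV n).surjective q
      refine ⟨⟨p, q⟩, ?_⟩
      simp only [AddMonoidHom.sub_apply, AddMonoidHom.comp_apply,
        AddMonoidHom.coe_fst, AddMonoidHom.coe_snd] at hpq ⊢
      rw [hd] at hpq
      exact (θW n).injective hpq



section Split

variable {C : Type u} [Category.{v} C] [Abelian C] {D : Type u'} [Category.{v'} D] [Abelian D]
  (Φ : C ⥤ D) [Φ.Additive]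
  {A B C' Z : C} {a : A ⟶ B} {b : A ⟶ C'} {c : B ⟶ Z} {d : C' ⟶ Z}

lemma map_biprod_ext_left {T : D} (x y : Φ.obj (B ⊞ C') ⟶ T)
    (h1 : Φ.map biprod.inl ≫ x = Φ.map biprod.inl ≫ y)
    (h2 : Φ.map biprod.inr ≫ x = Φ.map biprod.inr ≫ y) : x = y := by
  have ht : Φ.map (biprod.fst : B ⊞ C' ⟶ B) ≫ Φ.map biprod.inl +
      Φ.map (biprod.snd : B ⊞ C' ⟶ C') ≫ Φ.map biprod.inr = 𝟙 _ := by
    rw [← Φ.map_comp, ← Φ.map_comp, ← Φ.map_add, biprod.total, Φ.map_id]
  calc x = (Φ.map (biprod.fst : B ⊞ C' ⟶ B) ≫ Φ.map biprod.inl +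
      Φ.map (biprod.snd : B ⊞ C' ⟶ C') ≫ Φ.map biprod.inr) ≫ x := by rw [ht, Category.id_comp]
    _ = (Φ.map (biprod.fst : B ⊞ C' ⟶ B) ≫ Φ.map biprod.inl +
      Φ.map (biprod.snd : B ⊞ C' ⟶ C') ≫ Φ.map biprod.inr) ≫ y := by
        rw [Preadditive.add_comp, Preadditive.add_comp, Category.assoc, Category.assoc,
          Category.assoc, Category.assoc, h1, h2]
    _ = y := by rw [ht, Category.id_comp]

lemma map_biprod_ext_right {T : D} (x y : T ⟶ Φ.obj (B ⊞ C'))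
    (h1 : x ≫ Φ.map biprod.fst = y ≫ Φ.map biprod.fst)
    (h2 : x ≫ Φ.map biprod.snd = y ≫ Φ.map biprod.snd) : x = y := by
  have ht : Φ.map (biprod.fst : B ⊞ C' ⟶ B) ≫ Φ.map biprod.inl +
      Φ.map (biprod.snd : B ⊞ C' ⟶ C') ≫ Φ.map biprod.inr = 𝟙 _ := by
    rw [← Φ.map_comp, ← Φ.map_comp, ← Φ.map_add, biprod.total, Φ.map_id]
  calc x = x ≫ (Φ.map (biprod.fst : B ⊞ C' ⟶ B) ≫ Φ.map biprod.inl +
      Φ.map (biprod.snd : B ⊞ C' ⟶ C') ≫ Φ.map biprod.inr) := by rw [ht, Category.comp_id]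
    _ = y ≫ (Φ.map (biprod.fst : B ⊞ C' ⟶ B) ≫ Φ.map biprod.inl +
      Φ.map (biprod.snd : B ⊞ C' ⟶ C') ≫ Φ.map biprod.inr) := by
        rw [Preadditive.comp_add, Preadditive.comp_add, ← Category.assoc, ← Category.assoc,
          ← Category.assoc, ← Category.assoc, h1, h2]
    _ = y := by rw [ht, Category.comp_id]

variable (sq : CommSq a b c d)

include sq in
lemma splitting_id (ic : Φ.obj Z ⟶ Φ.obj B) (ib : Φ.obj C' ⟶ Φ.obj A)
    (hc1 : Φ.map c ≫ ic = 𝟙 _)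
    (hb2 : ib ≫ Φ.map b = 𝟙 _) :
    (Φ.map (biprod.snd : B ⊞ C' ⟶ C') ≫ ib) ≫ Φ.map (biprod.lift a b) +
      Φ.map (biprod.desc c (-d)) ≫ ic ≫ Φ.map biprod.inl = 𝟙 (Φ.obj (B ⊞ C')) := by
  have hw : Φ.map a ≫ Φ.map c = Φ.map b ≫ Φ.map d := by
    rw [← Φ.map_comp, ← Φ.map_comp, sq.w]
  have hw' : ib ≫ Φ.map a = Φ.map d ≫ ic := by
    calc ib ≫ Φ.map a = ib ≫ Φ.map a ≫ Φ.map c ≫ ic := by rw [hc1, Category.comp_id]
      _ = ib ≫ Φ.map b ≫ Φ.map d ≫ ic := by rw [← Category.assoc (Φ.map a), hw, Category.assoc]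
      _ = Φ.map d ≫ ic := by rw [← Category.assoc, hb2, Category.id_comp]
  apply map_biprod_ext_left
  · rw [Preadditive.comp_add, Category.comp_id]
    simp only [← Category.assoc, ← Φ.map_comp, biprod.inl_snd, biprod.inl_desc]
    rw [Φ.map_zero, zero_comp, zero_comp, zero_add, hc1, Category.id_comp]
  · rw [Preadditive.comp_add, Category.comp_id]
    apply map_biprod_ext_right
    · rw [Preadditive.add_comp]
      simp only [Category.assoc, ← Φ.map_comp, biprod.lift_fst, biprod.inl_fst, biprod.inr_fst]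
      simp only [← Category.assoc, ← Φ.map_comp, biprod.inr_snd, biprod.inr_desc]
      rw [Φ.map_id, Category.id_comp, Φ.map_neg, Preadditive.neg_comp, Preadditive.neg_comp,
        Φ.map_id, Category.comp_id, hw', Φ.map_zero, add_neg_cancel]
    · rw [Preadditive.add_comp]
      simp only [Category.assoc, ← Φ.map_comp, biprod.lift_snd, biprod.inl_snd, biprod.inr_snd]
      simp only [← Category.assoc, ← Φ.map_comp, biprod.inr_snd]
      rw [Φ.map_id, Category.id_comp, hb2, Φ.map_zero, comp_zero, add_zero]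

/-- If `Φ c` and `Φ b` are isomorphisms, the image under `Φ` of the sequence
`A ⟶ B ⊞ C' ⟶ Z` attached to the square splits. -/
noncomputable def splittingOfInverses (ic : Φ.obj Z ⟶ Φ.obj B) (ib : Φ.obj C' ⟶ Φ.obj A)
    (hc1 : Φ.map c ≫ ic = 𝟙 _) (hc2 : ic ≫ Φ.map c = 𝟙 _)
    (hb1 : Φ.map b ≫ ib = 𝟙 _) (hb2 : ib ≫ Φ.map b = 𝟙 _) :
    (sq.shortComplex'.map Φ).Splitting where
  r := Φ.map biprod.snd ≫ ib
  s := ic ≫ Φ.map biprod.inl
  f_r := by
    show Φ.map (biprod.lift a b) ≫ Φ.map biprod.snd ≫ ib = 𝟙 _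
    rw [← Category.assoc, ← Φ.map_comp, biprod.lift_snd, hb1]
  s_g := by
    show (ic ≫ Φ.map biprod.inl) ≫ Φ.map (biprod.desc c (-d)) = 𝟙 _
    rw [Category.assoc, ← Φ.map_comp, biprod.inl_desc, hc2]
  id := splitting_id Φ sq ic ib hc1 hb2

theorem shortExact_map_of_isIso (hc : IsIso (Φ.map c)) (hb : IsIso (Φ.map b)) :
    (sq.shortComplex'.map Φ).ShortExact :=
  (splittingOfInverses Φ sq (inv (Φ.map c)) (inv (Φ.map b)) (IsIso.hom_inv_id _)
    (IsIso.inv_hom_id _) (IsIso.hom_inv_id _) (IsIso.inv_hom_id _)).shortExact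

include sq in
lemma splitting_id' (ia : Φ.obj B ⟶ Φ.obj A) (id_ : Φ.obj Z ⟶ Φ.obj C')
    (ha2 : ia ≫ Φ.map a = 𝟙 _) (hd1 : Φ.map d ≫ id_ = 𝟙 _) :
    (Φ.map (biprod.fst : B ⊞ C' ⟶ B) ≫ ia) ≫ Φ.map (biprod.lift a b) +
      Φ.map (biprod.desc c (-d)) ≫ (-(id_ ≫ Φ.map biprod.inr)) = 𝟙 (Φ.obj (B ⊞ C')) := by
  have hw : Φ.map a ≫ Φ.map c = Φ.map b ≫ Φ.map d := by
    rw [← Φ.map_comp, ← Φ.map_comp, sq.w]
  have hw' : ia ≫ Φ.map b = Φ.map c ≫ id_ := by
    calc ia ≫ Φ.map b = ia ≫ Φ.map b ≫ Φ.map d ≫ id_ := by rw [hd1, Category.comp_id]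
      _ = ia ≫ Φ.map a ≫ Φ.map c ≫ id_ := by rw [← Category.assoc (Φ.map b), ← hw, Category.assoc]
      _ = Φ.map c ≫ id_ := by rw [← Category.assoc, ha2, Category.id_comp]
  apply map_biprod_ext_left
  · rw [Preadditive.comp_add, Category.comp_id]
    apply map_biprod_ext_right
    · rw [Preadditive.add_comp]
      simp only [Category.assoc, Preadditive.comp_neg, Preadditive.neg_comp, ← Φ.map_comp,
        biprod.lift_fst, biprod.inr_fst, biprod.inl_fst]
      simp only [← Category.assoc, ← Φ.map_comp, biprod.inl_fst]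
      rw [Φ.map_id, Category.id_comp, ha2, Φ.map_zero, comp_zero, neg_zero, add_zero]
    · rw [Preadditive.add_comp]
      simp only [Category.assoc, Preadditive.comp_neg, Preadditive.neg_comp, ← Φ.map_comp,
        biprod.lift_snd, biprod.inr_snd, biprod.inl_snd]
      simp only [← Category.assoc, ← Φ.map_comp, biprod.inl_fst, biprod.inl_desc]
      rw [Φ.map_id, Category.id_comp, Φ.map_id, Category.comp_id, hw', Φ.map_zero,
        add_neg_cancel]
  · rw [Preadditive.comp_add, Category.comp_id]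
    simp only [Preadditive.comp_neg]
    simp only [← Category.assoc, ← Φ.map_comp, biprod.inr_fst, biprod.inr_desc]
    rw [Φ.map_zero, zero_comp, zero_comp, zero_add, Φ.map_neg, Preadditive.neg_comp,
      Preadditive.neg_comp, neg_neg, hd1, Category.id_comp]

/-- If `Φ a` and `Φ d` are isomorphisms, the image under `Φ` of the sequence
`A ⟶ B ⊞ C' ⟶ Z` attached to the square splits. -/
noncomputable def splittingOfInverses' (ia : Φ.obj B ⟶ Φ.obj A) (id_ : Φ.obj Z ⟶ Φ.obj C')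
    (ha1 : Φ.map a ≫ ia = 𝟙 _) (ha2 : ia ≫ Φ.map a = 𝟙 _)
    (hd1 : Φ.map d ≫ id_ = 𝟙 _) (hd2 : id_ ≫ Φ.map d = 𝟙 _) :
    (sq.shortComplex'.map Φ).Splitting where
  r := Φ.map biprod.fst ≫ ia
  s := -(id_ ≫ Φ.map biprod.inr)
  f_r := by
    show Φ.map (biprod.lift a b) ≫ Φ.map biprod.fst ≫ ia = 𝟙 _
    rw [← Category.assoc, ← Φ.map_comp, biprod.lift_fst, ha1]
  s_g := by
    show (-(id_ ≫ Φ.map biprod.inr)) ≫ Φ.map (biprod.desc c (-d)) = 𝟙 _
    rw [Preadditive.neg_comp, Category.assoc, ← Φ.map_comp, biprod.inr_desc, Φ.map_neg,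
      Preadditive.comp_neg, neg_neg, hd2]
  id := splitting_id' Φ sq ia id_ ha2 hd1

theorem shortExact_map_of_isIso' (ha : IsIso (Φ.map a)) (hd : IsIso (Φ.map d)) :
    (sq.shortComplex'.map Φ).ShortExact :=
  (splittingOfInverses' Φ sq (inv (Φ.map a)) (inv (Φ.map d)) (IsIso.hom_inv_id _)
    (IsIso.inv_hom_id _) (IsIso.hom_inv_id _) (IsIso.inv_hom_id _)).shortExact

end Split

section Ext

variable {C : Type u} [Category.{v} C] [Abelian C] [HasExt.{w} C]
  {A B C' Z : C} {a : A ⟶ B} {b : A ⟶ C'} {c : B ⟶ Z} {d : C' ⟶ Z}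

lemma mk₀_lift_comp (F : C) {n : ℕ} (x : Ext (B ⊞ C') F n) :
    (Ext.mk₀ (biprod.lift a b)).comp x (zero_add n) =
      (Ext.mk₀ a).comp ((Ext.mk₀ biprod.inl).comp x (zero_add n)) (zero_add n) +
      (Ext.mk₀ b).comp ((Ext.mk₀ biprod.inr).comp x (zero_add n)) (zero_add n) := by
  rw [← Ext.comp_assoc _ _ _ (zero_add 0) (zero_add n) (by omega), Ext.mk₀_comp_mk₀,
    ← Ext.comp_assoc _ _ _ (zero_add 0) (zero_add n) (by omega), Ext.mk₀_comp_mk₀,
    ← Ext.add_comp, ← Ext.mk₀_add, ← biprod.lift_eq]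

lemma mk₀_inl_comp_desc (F : C) {n : ℕ} (x : Ext Z F n) :
    (Ext.mk₀ (biprod.inl : B ⟶ B ⊞ C')).comp
      ((Ext.mk₀ (biprod.desc c (-d))).comp x (zero_add n)) (zero_add n) =
      (Ext.mk₀ c).comp x (zero_add n) := by
  rw [← Ext.comp_assoc _ _ _ (zero_add 0) (zero_add n) (by omega), Ext.mk₀_comp_mk₀,
    biprod.inl_desc]

lemma mk₀_inr_comp_desc (F : C) {n : ℕ} (x : Ext Z F n) :
    (Ext.mk₀ (biprod.inr : C' ⟶ B ⊞ C')).comp
      ((Ext.mk₀ (biprod.desc c (-d))).comp x (zero_add n)) (zero_add n) =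
      -(Ext.mk₀ d).comp x (zero_add n) := by
  rw [← Ext.comp_assoc _ _ _ (zero_add 0) (zero_add n) (by omega), Ext.mk₀_comp_mk₀,
    biprod.inr_desc, Ext.mk₀_neg, Ext.neg_comp]

/-- the element of `Ext (B ⊞ C') F n` with components `(u, -v)` -/
noncomputable def pairNeg (F : C) {n : ℕ} (u : Ext B F n) (v : Ext C' F n) : Ext (B ⊞ C') F n :=
  Ext.biprodAddEquiv.symm (u, -v)

lemma inl_pairNeg (F : C) {n : ℕ} (u : Ext B F n) (v : Ext C' F n) :
    (Ext.mk₀ biprod.inl).comp (pairNeg F u v) (zero_add n) = u := by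
  have := Ext.biprodAddEquiv.apply_symm_apply (u, -v)
  exact congrArg Prod.fst this

lemma inr_pairNeg (F : C) {n : ℕ} (u : Ext B F n) (v : Ext C' F n) :
    (Ext.mk₀ biprod.inr).comp (pairNeg F u v) (zero_add n) = -v := by
  have := Ext.biprodAddEquiv.apply_symm_apply (u, -v)
  exact congrArg Prod.snd this

lemma lift_pairNeg (F : C) {n : ℕ} (u : Ext B F n) (v : Ext C' F n) :
    (Ext.mk₀ (biprod.lift a b)).comp (pairNeg F u v) (zero_add n) =
      (Ext.mk₀ a).comp u (zero_add n) - (Ext.mk₀ b).comp v (zero_add n) := by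
  rw [mk₀_lift_comp, inl_pairNeg, inr_pairNeg, Ext.comp_neg, sub_eq_add_neg]

variable (sq : CommSq a b c d) (hS : sq.shortComplex'.ShortExact)

include hS in
/-- Abstract Mayer–Vietoris sequence for `Ext(-, F)` attached to a bicartesian square. -/
theorem isMV_of_shortExact (F : C) :
    IsMV (fun n => (Ext.mk₀ c).precomp F (zero_add n)) (fun n => (Ext.mk₀ d).precomp F (zero_add n))
      (fun n => (Ext.mk₀ a).precomp F (zero_add n)) (fun n => (Ext.mk₀ b).precomp F (zero_add n)) := by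
  have hg : ∀ {n : ℕ} (x : Ext Z F n), (Ext.mk₀ c).comp x (zero_add n) = 0 →
      (Ext.mk₀ d).comp x (zero_add n) = 0 →
      (Ext.mk₀ sq.shortComplex'.g).comp x (zero_add n) = 0 := by
    intro n x h1 h2
    apply Ext.biprod_ext
    · exact ((mk₀_inl_comp_desc F x).trans h1).trans (Ext.comp_zero _ _ _ _ _).symm
    · exact ((mk₀_inr_comp_desc F x).trans (by rw [h2, neg_zero])).trans
        (Ext.comp_zero _ _ _ _ _).symm
  have hg' : ∀ {n : ℕ} (x : Ext Z F n), (Ext.mk₀ sq.shortComplex'.g).comp x (zero_add n) = 0 →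
      (Ext.mk₀ c).comp x (zero_add n) = 0 ∧ (Ext.mk₀ d).comp x (zero_add n) = 0 := by
    intro n x h
    constructor
    · rw [← mk₀_inl_comp_desc (d := d) F x]
      exact (congrArg (fun z => (Ext.mk₀ biprod.inl).comp z (zero_add n)) h).trans (Ext.comp_zero _ _ _ _ _)
    · rw [← neg_eq_zero, ← mk₀_inr_comp_desc (c := c) F x]
      exact (congrArg (fun z => (Ext.mk₀ biprod.inr).comp z (zero_add n)) h).trans (Ext.comp_zero _ _ _ _ _)
  refine ⟨fun n => hS.extClass.precomp F (add_comm 1 n), ?_, ?_, ?_, ?_⟩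
  · rw [AddSubgroup.eq_bot_iff_forall]
    intro x hx
    rw [AddMonoidHom.mem_ker, AddMonoidHom.prod_apply, Prod.mk_eq_zero] at hx
    have := hS.epi_g
    apply Ext.precomp_mk₀_injective_of_epi F sq.shortComplex'.g
    exact (hg x hx.1 hx.2).trans (map_zero ((Ext.mk₀ sq.shortComplex'.g).precomp F (zero_add 0))).symm
  · intro n
    ext x
    rw [AddMonoidHom.mem_ker, AddMonoidHom.prod_apply, Prod.mk_eq_zero]
    constructor
    · rintro ⟨h1, h2⟩
      obtain ⟨x₁, hx₁⟩ := Ext.contravariant_sequence_exact₃ hS F x (hg x h1 h2) (add_comm 1 n)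
      exact ⟨x₁, hx₁⟩
    · rintro ⟨x₁, rfl⟩
      exact hg' _ (hS.comp_extClass_assoc x₁ (add_comm 1 n))
  · intro n
    ext ⟨u, v⟩
    simp only [AddMonoidHom.mem_ker, AddMonoidHom.sub_apply, AddMonoidHom.comp_apply,
      AddMonoidHom.coe_fst, AddMonoidHom.coe_snd, AddMonoidHom.mem_range, AddMonoidHom.prod_apply,
      Prod.mk.injEq]
    constructor
    · intro h
      have h0 : (Ext.mk₀ sq.shortComplex'.f).comp (pairNeg F u v) (zero_add n) = 0 :=
        (lift_pairNeg F u v).trans h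
      obtain ⟨x₃, hx₃⟩ := Ext.contravariant_sequence_exact₂ hS F _ h0
      refine ⟨x₃, ?_, ?_⟩
      · have := mk₀_inl_comp_desc (c := c) (d := d) F x₃
        exact this.symm.trans
          ((congrArg (fun z => (Ext.mk₀ biprod.inl).comp z (zero_add n)) hx₃).trans
            (inl_pairNeg F u v))
      · have := mk₀_inr_comp_desc (c := c) (d := d) F x₃
        have h2 := this.symm.trans
          ((congrArg (fun z => (Ext.mk₀ biprod.inr).comp z (zero_add n)) hx₃).trans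
            (inr_pairNeg F u v))
        exact neg_injective h2
    · rintro ⟨x, rfl, rfl⟩
      show (Ext.mk₀ a).comp ((Ext.mk₀ c).comp x (zero_add n)) (zero_add n) -
        (Ext.mk₀ b).comp ((Ext.mk₀ d).comp x (zero_add n)) (zero_add n) = 0
      rw [← Ext.comp_assoc _ _ _ (zero_add 0) (zero_add n) (by omega), Ext.mk₀_comp_mk₀,
        ← Ext.comp_assoc _ _ _ (zero_add 0) (zero_add n) (by omega), Ext.mk₀_comp_mk₀, sq.w,
        sub_self]
  · intro n
    ext x₁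
    simp only [AddMonoidHom.mem_ker, AddMonoidHom.sub_apply, AddMonoidHom.comp_apply,
      AddMonoidHom.coe_fst, AddMonoidHom.coe_snd, AddMonoidHom.mem_range]
    constructor
    · intro h
      obtain ⟨x₂, hx₂⟩ := Ext.contravariant_sequence_exact₁ hS F x₁ (add_comm 1 n) h
      refine ⟨⟨(Ext.mk₀ biprod.inl).comp x₂ (zero_add n), -(Ext.mk₀ biprod.inr).comp x₂ (zero_add n)⟩, ?_⟩
      show (Ext.mk₀ a).comp _ (zero_add n) - (Ext.mk₀ b).comp _ (zero_add n) = x₁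
      rw [Ext.comp_neg, sub_neg_eq_add, ← hx₂]
      exact (mk₀_lift_comp F x₂).symm
    · rintro ⟨⟨u, v⟩, rfl⟩
      show hS.extClass.comp ((Ext.mk₀ a).comp u (zero_add n) - (Ext.mk₀ b).comp v (zero_add n))
        (add_comm 1 n) = 0
      rw [← lift_pairNeg F u v]
      exact hS.extClass_comp_assoc _

end Ext

end Groth.Agent.Lib.ExtMV
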