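import Mathlib.RingTheory.Spectrum.Prime.Topology
import Mathlib.RingTheory.Localization.AtPrime.Basic
import Mathlib.Topology.Spectral.Hom

set_option autoImplicit false
universe u

namespace Groth.Agent.Lib.H15LocalRingHom

open PrimeSpectrum

section spectral

variable {R S : Type*} [CommRing R] [CommRing S]

/-- `Spec` of a ring map is a spectral map. -/
theorem isSpectralMap_comap (f : R →+* S) : IsSpectralMap (PrimeSpectrum.comap f) := by
  refine ⟨PrimeSpectrum.continuous_comap f, fun U hUo hUc => ?_⟩
  classical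
  obtain ⟨t, rfl⟩ := PrimeSpectrum.isCompact_isOpen_iff.1 ⟨hUc, hUo⟩
  rw [Set.preimage_compl, PrimeSpectrum.preimage_comap_zeroLocus]
  refine (PrimeSpectrum.isCompact_isOpen_iff.2 ⟨t.image f, ?_⟩).1
  rw [Finset.coe_image]

end spectral

section idem

variable {R : Type*} [CommRing R]

lemma algebraMap_atPrime_of_idem_notMem {e : R} (he : IsIdempotentElem e) (q : Ideal R)
    [q.IsPrime] (h : e ∉ q) : algebraMap R (Localization.AtPrime q) e = 1 := by
  have hu : IsUnit (algebraMap R (Localization.AtPrime q) e) :=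
    IsLocalization.map_units _ (⟨e, h⟩ : q.primeCompl)
  have : algebraMap R (Localization.AtPrime q) e * algebraMap R (Localization.AtPrime q) e =
      algebraMap R (Localization.AtPrime q) e * 1 := by
    rw [← map_mul, he.eq, mul_one]
  exact hu.mul_left_cancel this

lemma algebraMap_atPrime_of_idem_mem {e : R} (he : IsIdempotentElem e) (q : Ideal R)
    [hq : q.IsPrime] (h : e ∈ q) : algebraMap R (Localization.AtPrime q) e = 0 := by
  have h1 : 1 - e ∉ q := fun h' => hq.one_notMem (by simpa using q.add_mem h' h)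
  have := algebraMap_atPrime_of_idem_notMem he.one_sub q h1
  rw [map_sub, map_one] at this
  have h2 : algebraMap R (Localization.AtPrime q) e = 1 - (1 - algebraMap R (Localization.AtPrime q) e) := by
    ring
  rw [h2, this, sub_self]

end idem

section criteria

variable {R S : Type*} [CommRing R] [CommRing S] [Algebra R S] (q : Ideal S) [q.IsPrime]

theorem injective_localRingHom_of
    (h : ∀ a : R, (∃ c : S, c ∉ q ∧ c * algebraMap R S a = 0) →
      ∃ s : R, s ∉ q.comap (algebraMap R S) ∧ s * a = 0) :
    Function.Injective (Localization.localRingHom (q.comap (algebraMap R S)) q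
      (algebraMap R S) rfl) := by
  rw [injective_iff_map_eq_zero]
  intro x hx
  obtain ⟨a, s, rfl⟩ := IsLocalization.exists_mk'_eq (q.comap (algebraMap R S)).primeCompl x
  rw [Localization.localRingHom_mk', IsLocalization.mk'_eq_zero_iff] at hx
  obtain ⟨c, hc⟩ := hx
  obtain ⟨s', hs', hs'a⟩ := h a ⟨c, c.2, hc⟩
  rw [IsLocalization.mk'_eq_zero_iff]
  exact ⟨⟨s', hs'⟩, hs'a⟩

theorem surjective_localRingHom_of
    (h : ∀ b : S, ∃ (a s : R) (c : S), s ∉ q.comap (algebraMap R S) ∧ c ∉ q ∧
      c * (algebraMap R S s * b) = c * algebraMap R S a) :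
    Function.Surjective (Localization.localRingHom (q.comap (algebraMap R S)) q
      (algebraMap R S) rfl) := by
  set lrh := Localization.localRingHom (q.comap (algebraMap R S)) q (algebraMap R S) rfl
  have key : ∀ b : S, ∃ x, lrh x = algebraMap S (Localization.AtPrime q) b := by
    intro b
    obtain ⟨a, s, c, hs, hc, hcab⟩ := h b
    refine ⟨IsLocalization.mk' _ a (⟨s, hs⟩ : (q.comap (algebraMap R S)).primeCompl), ?_⟩
    rw [Localization.localRingHom_mk', IsLocalization.mk'_eq_iff_eq_mul, ← map_mul,
      IsLocalization.eq_iff_exists q.primeCompl]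
    exact ⟨⟨c, hc⟩, by simpa [mul_comm b] using hcab.symm⟩
  intro y
  obtain ⟨b, c, rfl⟩ := IsLocalization.exists_mk'_eq q.primeCompl y
  obtain ⟨u, hu⟩ := key b
  obtain ⟨v, hv⟩ := key c
  have hvu : IsUnit (lrh v) := by
    rw [hv]; exact IsLocalization.map_units _ c
  have hv' : IsUnit v := (isUnit_map_iff lrh v).1 hvu
  obtain ⟨w, rfl⟩ := hv'
  refine ⟨u * ↑w⁻¹, ?_⟩
  rw [map_mul, hu, eq_comm, IsLocalization.mk'_eq_iff_eq_mul, mul_assoc, ← hv, ← map_mul,
    Units.inv_mul, map_one, mul_one]

end criteria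

end Groth.Agent.Lib.H15LocalRingHom
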