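import Groth.Agent.Lib.H15IndZariskiLoc
import Groth.Agent.Lib.H15LocalRingHom
import Groth.Prelude.Def_PBC
import Mathlib.RingTheory.LocalIso

set_option autoImplicit false
universe u

namespace Groth.Agent.Lib.H15IndZarLocal

open Groth.Agent.Lib.H15IndZariskiLoc Groth.Agent.Lib.H15LocalRingHom CategoryTheory

section converse

variable {R S : Type*} [CommRing R] [CommRing S] [Algebra R S] (q : Ideal S) [q.IsPrime]

theorem of_injective_localRingHom
    (hinj : Function.Injective (Localization.localRingHom (q.comap (algebraMap R S)) q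
      (algebraMap R S) rfl)) (a : R) (c : S) (hc : c ∉ q) (h : c * algebraMap R S a = 0) :
    ∃ s : R, s ∉ q.comap (algebraMap R S) ∧ s * a = 0 := by
  have h1 : algebraMap S (Localization.AtPrime q) (algebraMap R S a) = 0 := by
    rw [IsLocalization.map_eq_zero_iff q.primeCompl]
    exact ⟨⟨c, hc⟩, h⟩
  rw [← Localization.localRingHom_to_map (q.comap (algebraMap R S)) q (algebraMap R S) rfl] at h1
  have h2 := hinj (h1.trans (map_zero _).symm)
  rw [IsLocalization.map_eq_zero_iff (q.comap (algebraMap R S)).primeCompl] at h2
  obtain ⟨m, hm⟩ := h2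
  exact ⟨m.1, m.2, hm⟩

theorem of_surjective_localRingHom
    (hsurj : Function.Surjective (Localization.localRingHom (q.comap (algebraMap R S)) q
      (algebraMap R S) rfl)) (b : S) :
    ∃ (a s : R) (c : S), s ∉ q.comap (algebraMap R S) ∧ c ∉ q ∧
      c * (algebraMap R S s * b) = c * algebraMap R S a := by
  obtain ⟨x, hx⟩ := hsurj (algebraMap S (Localization.AtPrime q) b)
  obtain ⟨a, s, rfl⟩ := IsLocalization.exists_mk'_eq (q.comap (algebraMap R S)).primeCompl x
  rw [Localization.localRingHom_mk', IsLocalization.mk'_eq_iff_eq_mul, ← map_mul,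
    IsLocalization.eq_iff_exists q.primeCompl] at hx
  obtain ⟨c, hc⟩ := hx
  refine ⟨a, s.1, c.1, s.2, c.2, ?_⟩
  rw [hc, mul_comm b]

end converse

section localization

variable {R S : Type u} [CommRing R] [CommRing S] [Algebra R S]

/-- localizations identify local rings. -/
theorem identifiesLocalRings_of_isLocalization (M : Submonoid R) [IsLocalization M S] :
    EtPBC.IdentifiesLocalRings R S := by
  intro q
  constructor
  · apply injective_localRingHom_of
    rintro a ⟨c, hc, hca⟩
    obtain ⟨r, m, rfl⟩ := IsLocalization.exists_mk'_eq M c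
    have h1 : algebraMap R S (r * a) = 0 := by
      rw [map_mul, ← IsLocalization.mk'_spec S r m, mul_right_comm, hca, zero_mul]
    rw [IsLocalization.map_eq_zero_iff M] at h1
    obtain ⟨m', hm'⟩ := h1
    refine ⟨m' * r, ?_, by rw [mul_assoc]; exact hm'⟩
    rw [Ideal.mem_comap, map_mul]
    intro hmem
    rcases q.2.mem_or_mem hmem with h | h
    · exact q.2.ne_top (Ideal.eq_top_of_isUnit_mem _ h (IsLocalization.map_units S m'))
    · rw [← IsLocalization.mk'_spec S r m] at h
      rcases q.2.mem_or_mem h with h | h
      · exact hc h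
      · exact q.2.ne_top (Ideal.eq_top_of_isUnit_mem _ h (IsLocalization.map_units S m))
  · apply surjective_localRingHom_of
    intro b
    obtain ⟨r, m, rfl⟩ := IsLocalization.exists_mk'_eq M b
    refine ⟨r, m, 1, ?_, q.2.one_notMem, ?_⟩
    · intro hmem
      exact q.2.ne_top (Ideal.eq_top_of_isUnit_mem _ hmem (IsLocalization.map_units S m))
    · rw [one_mul, one_mul, mul_comm, IsLocalization.mk'_spec]

end localization


section localiso

/-- 2-out-of-3 for local ring homs (cancel on the left). -/
lemma bijective_localRingHom_left {R S P : Type*} [CommRing R] [CommRing S] [CommRing P]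
    (f : R →+* S) (g : S →+* P) (φ : R →+* P) (hφ : φ = g.comp f) (K : Ideal P) [K.IsPrime]
    (J : Ideal S) [J.IsPrime] (hJ : J = K.comap g)
    (h1 : Function.Bijective (Localization.localRingHom (K.comap φ) K φ rfl))
    (h2 : Function.Bijective (Localization.localRingHom (K.comap g) K g rfl)) :
    Function.Bijective (Localization.localRingHom (J.comap f) J f rfl) := by
  subst hφ
  subst hJ
  have := Localization.localRingHom_comp (I := (K.comap g).comap f) (K.comap g) K f rfl g rfl
  have h1' : Function.Bijective
      ((Localization.localRingHom (K.comap g) K g rfl).comp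
        (Localization.localRingHom ((K.comap g).comap f) (K.comap g) f rfl)) := by
    rw [← this]
    exact h1
  rw [RingHom.coe_comp] at h1'
  exact (Function.Bijective.of_comp_iff' h2 _).1 h1'

variable {A E : Type u} [CommRing A] [CommRing E] [Algebra A E]

/-- local isomorphisms identify local rings. -/
theorem identifiesLocalRings_of_isLocalIso [Algebra.IsLocalIso A E] :
    EtPBC.IdentifiesLocalRings A E := by
  rintro ⟨qI, hq⟩
  obtain ⟨g, hg, hstd⟩ := Algebra.IsLocalIso.exists_notMem_isStandardOpenImmersion (R := A) qI
  obtain ⟨a, ha⟩ := hstd.exists_away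
  have hdisj : Disjoint (Submonoid.powers g : Set E) (qI : Set E) := by
    rw [Set.disjoint_left]
    rintro x ⟨n, rfl⟩ hx
    exact hg (hq.mem_of_pow_mem n hx)
  have hQ : (qI.map (algebraMap E (Localization.Away g))).comap
      (algebraMap E (Localization.Away g)) = qI :=
    IsLocalization.under_map_of_isPrime_disjoint (Submonoid.powers g) (Localization.Away g) hq hdisj
  have hQp : (qI.map (algebraMap E (Localization.Away g))).IsPrime :=
    IsLocalization.isPrime_of_isPrime_disjoint (Submonoid.powers g) (Localization.Away g) _ hq hdisj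
  have h1 := identifiesLocalRings_of_isLocalization (R := E) (S := Localization.Away g)
    (Submonoid.powers g) ⟨_, hQp⟩
  have h2 := identifiesLocalRings_of_isLocalization (R := A) (S := Localization.Away g)
    (Submonoid.powers a) ⟨_, hQp⟩
  exact bijective_localRingHom_left (algebraMap A E) (algebraMap E (Localization.Away g))
    (algebraMap A (Localization.Away g)) (IsScalarTower.algebraMap_eq A E (Localization.Away g))
    (qI.map (algebraMap E (Localization.Away g))) qI hQ.symm h2 h1

end localiso


section indzar

variable {A B : Type u} [CommRing A] [CommRing B] [Algebra A B]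

/-- ind-Zariski algebras identify local rings. -/
theorem identifiesLocalRings_of_isIndZariski (h : EtPBC.IsIndZariski A B) :
    EtPBC.IdentifiesLocalRings A B := by
  obtain ⟨J, _, _, 𝒮, c, hE, hc⟩ := exists_concrete A B h
  intro q
  have hloc : ∀ j, EtPBC.IdentifiesLocalRings A (𝒮.E j) := fun j => by
    have := hE j
    exact identifiesLocalRings_of_isLocalIso
  have hcomap : ∀ j (s : A), s ∉ (q.asIdeal.comap (c.φ j).toRingHom).comap (algebraMap A (𝒮.E j)) →
      s ∉ q.asIdeal.comap (algebraMap A B) := by
    intro j s hs hmem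
    apply hs
    show c.φ j (algebraMap A (𝒮.E j) s) ∈ q.asIdeal
    rw [AlgHom.commutes]
    exact hmem
  constructor
  · apply injective_localRingHom_of
    rintro a ⟨b, hb, hba⟩
    obtain ⟨j, x, rfl⟩ := hc.surj b
    have h0 : c.φ j (x * algebraMap A (𝒮.E j) a) = c.φ j 0 := by
      rw [map_mul, AlgHom.commutes, hba, map_zero]
    obtain ⟨k, f, hf⟩ := hc.inj j _ _ h0
    rw [map_mul, AlgHom.commutes, map_zero] at hf
    have hx' : 𝒮.t f x ∉ q.asIdeal.comap (c.φ k).toRingHom := by
      intro hmem
      apply hb
      have : c.φ k (𝒮.t f x) ∈ q.asIdeal := hmem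
      rwa [← AlgHom.comp_apply, c.hφ f] at this
    obtain ⟨s, hs, hsa⟩ := of_injective_localRingHom
      (PrimeSpectrum.comap (c.φ k).toRingHom q).asIdeal
      (hloc k (PrimeSpectrum.comap (c.φ k).toRingHom q)).1 a (𝒮.t f x) hx' hf
    exact ⟨s, hcomap k s hs, hsa⟩
  · apply surjective_localRingHom_of
    intro b
    obtain ⟨j, x, rfl⟩ := hc.surj b
    obtain ⟨a, s, c', hs, hc', heq⟩ := of_surjective_localRingHom
      (PrimeSpectrum.comap (c.φ j).toRingHom q).asIdeal
      (hloc j (PrimeSpectrum.comap (c.φ j).toRingHom q)).2 x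
    refine ⟨a, s, c.φ j c', hcomap j s hs, hc', ?_⟩
    have := congrArg (c.φ j) heq
    simpa only [map_mul, AlgHom.commutes] using this

end indzar

end Groth.Agent.Lib.H15IndZarLocal
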