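import Mathlib.Topology.Spectral.Basic
import Mathlib.Topology.Spectral.Hom
import Mathlib.Topology.Spectral.ConstructibleTopology
import Mathlib.Topology.Separation.Hausdorff
import Mathlib.Topology.Connected.TotallyDisconnected

/-!
Basic facts on the constructible topology of a spectral space: it is finer than the given topology,
compact, Hausdorff, totally separated; constructibly closed sets are compact.
-/

set_option autoImplicit false

namespace Groth.Agent.Lib.SpectralCons

open Topology

variable {X : Type*} [tX : TopologicalSpace X]

/-- Every open set of a prespectral space is open in the constructible topology. -/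
theorem isOpen_cons_of_isOpen [PrespectralSpace X] {U : Set X} (hU : IsOpen U) :
    IsOpen[constructibleTopology X] U := by
  obtain ⟨S, hS, rfl⟩ := PrespectralSpace.isTopologicalBasis.open_eq_sUnion hU
  exact @isOpen_sUnion X (constructibleTopology X) S fun s hs =>
    (hS hs).2.isOpen_constructibleTopology_of_isOpen (hS hs).1

theorem cons_le [PrespectralSpace X] : constructibleTopology X ≤ tX :=
  fun _ hU => isOpen_cons_of_isOpen hU

theorem isClosed_cons_of_isClosed [PrespectralSpace X] {Z : Set X} (hZ : IsClosed Z) :
    IsClosed[constructibleTopology X] Z := by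
  rw [← @isOpen_compl_iff X Z (constructibleTopology X)]
  exact isOpen_cons_of_isOpen hZ.isOpen_compl

/-- A compact open set is clopen in the constructible topology. -/
theorem isClosed_cons_of_isCompact_isOpen {U : Set X} (hc : IsCompact U) (ho : IsOpen U) :
    IsClosed[constructibleTopology X] U := by
  rw [← @isOpen_compl_iff X U (constructibleTopology X)]
  exact IsCompact.isOpen_constructibleTopology_of_isClosed (by rwa [compl_compl])
    ho.isClosed_compl

theorem continuous_id_cons [PrespectralSpace X] :
    @Continuous X X (constructibleTopology X) tX id :=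
  continuous_id_of_le cons_le

/-- The constructible topology of a spectral space is compact. -/
theorem compactSpace_cons [CompactSpace X] [QuasiSober X] [PrespectralSpace X]
    [QuasiSeparatedSpace X] : @CompactSpace X (constructibleTopology X) := by
  have : CompactSpace (WithConstructibleTopology X) := inferInstance
  exact @Function.Surjective.compactSpace (WithConstructibleTopology X) X _
    (constructibleTopology X) WithTopology.ofTopology (WithTopology.continuous_ofTopology _) this
    (WithTopology.ofTopology_surjective _)

/-- The constructible topology of a T0 prespectral space is Hausdorff. -/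
theorem t2Space_cons [T0Space X] [PrespectralSpace X] : @T2Space X (constructibleTopology X) := by
  refine @T2Space.mk X (constructibleTopology X) ?_
  intro x y hxy
  have hins : ¬ Inseparable x y := fun h => hxy h.eq
  rw [inseparable_iff_forall_isOpen] at hins
  push Not at hins
  obtain ⟨U, hU, hxyU⟩ := hins
  -- find a compact open separating
  have key : ∀ a b : X, a ∈ U → b ∉ U → ∃ V : Set X, IsOpen V ∧ IsCompact V ∧ a ∈ V ∧ b ∉ V := by
    intro a b ha hb
    obtain ⟨V, ⟨hV1, hV2⟩, haV, hVU⟩ :=
      PrespectralSpace.isTopologicalBasis.exists_subset_of_mem_open ha hU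
    exact ⟨V, hV1, hV2, haV, fun h => hb (hVU h)⟩
  rcases hxyU with ⟨hx, hy⟩ | ⟨hx, hy⟩
  · obtain ⟨V, hV1, hV2, hxV, hyV⟩ := key x y hx hy
    exact ⟨V, Vᶜ, hV2.isOpen_constructibleTopology_of_isOpen hV1,
      IsCompact.isOpen_constructibleTopology_of_isClosed (by rwa [compl_compl]) hV1.isClosed_compl,
      hxV, hyV, disjoint_compl_right⟩
  · obtain ⟨V, hV1, hV2, hyV, hxV⟩ := key y x hy hx
    exact ⟨Vᶜ, V,
      IsCompact.isOpen_constructibleTopology_of_isClosed (by rwa [compl_compl]) hV1.isClosed_compl,
      hV2.isOpen_constructibleTopology_of_isOpen hV1, hxV, hyV, disjoint_compl_left⟩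

/-- A constructibly closed subset of a spectral space is compact for the constructible topology. -/
theorem isCompact_cons_of_isClosed_cons [CompactSpace X] [QuasiSober X] [PrespectralSpace X]
    [QuasiSeparatedSpace X] {E : Set X} (hE : IsClosed[constructibleTopology X] E) :
    @IsCompact X (constructibleTopology X) E :=
  @IsClosed.isCompact X (constructibleTopology X) E compactSpace_cons hE

/-- A constructibly closed subset of a spectral space is compact. -/
theorem isCompact_of_isClosed_cons [CompactSpace X] [QuasiSober X] [PrespectralSpace X]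
    [QuasiSeparatedSpace X] {E : Set X} (hE : IsClosed[constructibleTopology X] E) :
    IsCompact E := by
  have h := @IsCompact.image X X (constructibleTopology X) tX E id
    (isCompact_cons_of_isClosed_cons hE) continuous_id_cons
  simpa using h

/-- A spectral map is continuous for the constructible topologies. -/
theorem continuous_cons_of_isSpectralMap {Y : Type*} [TopologicalSpace Y] {f : X → Y}
    (hf : IsSpectralMap f) :
    @Continuous X Y (constructibleTopology X) (constructibleTopology Y) f := by
  refine (@continuous_generateFrom_iff X Y f (constructibleTopology X)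
    (constructibleTopologySubbasis Y)).mpr ?_
  rintro s (⟨hs1, hs2⟩ | ⟨hs1, hs2⟩)
  · exact (hf.isCompact_preimage_of_isOpen hs1 hs2).isOpen_constructibleTopology_of_isOpen
      (hs1.preimage hf.continuous)
  · refine IsCompact.isOpen_constructibleTopology_of_isClosed ?_ (hs1.preimage hf.continuous)
    rw [← Set.preimage_compl]
    exact hf.isCompact_preimage_of_isOpen hs1.isOpen_compl hs2

/-- In a spectral space, every point of the closure of a constructibly closed set is a
specialization of a point of the set. -/
theorem exists_specializes_of_mem_closure [CompactSpace X] [QuasiSober X] [PrespectralSpace X]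
    [QuasiSeparatedSpace X] {E : Set X} (hE : IsClosed[constructibleTopology X] E) {x : X}
    (hx : x ∈ closure E) : ∃ e ∈ E, e ⤳ x := by
  have hEc := isCompact_cons_of_isClosed_cons hE
  let ι := {V : Set X // IsOpen V ∧ IsCompact V ∧ x ∈ V}
  have hne := @IsCompact.inter_iInter_nonempty X (constructibleTopology X) E ι hEc
    (fun V => (V : Set X))
    (fun V => isClosed_cons_of_isCompact_isOpen V.2.2.1 V.2.1) ?_
  · obtain ⟨e, heE, he⟩ := hne
    refine ⟨e, heE, ?_⟩
    rw [specializes_iff_forall_open]
    intro s hs hxs
    obtain ⟨V, ⟨hV1, hV2⟩, hxV, hVs⟩ :=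
      PrespectralSpace.isTopologicalBasis.exists_subset_of_mem_open hxs hs
    exact hVs (Set.mem_iInter.mp he ⟨V, hV1, hV2, hxV⟩)
  · intro u
    have hopen : IsOpen (⋂ i ∈ u, (i : Set X)) :=
      isOpen_biInter_finset fun i _ => i.2.1
    have hxmem : x ∈ ⋂ i ∈ u, (i : Set X) := by
      simp only [Set.mem_iInter]
      exact fun i _ => i.2.2.2
    obtain ⟨z, hz1, hz2⟩ := mem_closure_iff.mp hx _ hopen hxmem
    exact ⟨z, hz2, hz1⟩

theorem isClosed_of_isClosed_cons_of_stableUnderSpecialization [CompactSpace X] [QuasiSober X]
    [PrespectralSpace X] [QuasiSeparatedSpace X] {E : Set X}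
    (hE : IsClosed[constructibleTopology X] E) (hs : StableUnderSpecialization E) : IsClosed E := by
  rw [← closure_subset_iff_isClosed]
  intro x hx
  obtain ⟨e, he, hex⟩ := exists_specializes_of_mem_closure hE hx
  exact hs hex he

theorem isOpen_of_isOpen_cons_of_stableUnderGeneralization [CompactSpace X] [QuasiSober X]
    [PrespectralSpace X] [QuasiSeparatedSpace X] {E : Set X}
    (hE : IsOpen[constructibleTopology X] E) (hs : StableUnderGeneralization E) : IsOpen E := by
  rw [← isClosed_compl_iff]
  apply isClosed_of_isClosed_cons_of_stableUnderSpecialization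
  · exact @IsOpen.isClosed_compl X (constructibleTopology X) E hE
  · exact hs.compl

/-- The inclusion of a constructibly closed subset of a spectral space is a spectral map. -/
theorem isSpectralMap_subtype_val [CompactSpace X] [QuasiSober X] [PrespectralSpace X]
    [QuasiSeparatedSpace X] {E : Set X} (hE : IsClosed[constructibleTopology X] E) :
    IsSpectralMap (Subtype.val : E → X) := by
  refine ⟨continuous_subtype_val, fun s hs1 hs2 => ?_⟩
  rw [Topology.IsEmbedding.subtypeVal.isCompact_iff, Subtype.image_preimage_coe]
  apply isCompact_of_isClosed_cons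
  exact @IsClosed.inter X E s (constructibleTopology X) hE
    (isClosed_cons_of_isCompact_isOpen hs2 hs1)

/-- A constructibly closed subset of a spectral space is spectral. -/
theorem spectralSpace_of_isClosed_cons [SpectralSpace X] {E : Set X}
    (hE : IsClosed[constructibleTopology X] E) : SpectralSpace E := by
  have hEc : IsCompact E := isCompact_of_isClosed_cons hE
  have hcompact : CompactSpace E := isCompact_iff_compactSpace.mp hEc
  have hincl := isSpectralMap_subtype_val hE
  have hpre : PrespectralSpace E :=
    PrespectralSpace.of_isInducing _ Topology.IsInducing.subtypeVal hincl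
  have hqs : QuasiSeparatedSpace E := by
    refine QuasiSeparatedSpace.of_isTopologicalBasis
      (b := fun V : {V : Set X // IsOpen V ∧ IsCompact V} =>
        (Subtype.val : E → X) ⁻¹' (V : Set X)) ?_ ?_
    · have := (PrespectralSpace.isTopologicalBasis (X := X)).isInducing
        (Topology.IsInducing.subtypeVal (t := E))
      convert this using 1
      ext s
      simp only [Set.mem_range, Subtype.exists, Set.mem_image, Set.mem_ofPred_eq]
      constructor
      · rintro ⟨V, hV, rfl⟩
        exact ⟨V, hV, rfl⟩
      · rintro ⟨V, hV, rfl⟩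
        exact ⟨V, hV, rfl⟩
    · intro V W
      rw [← Set.preimage_inter]
      exact hincl.isCompact_preimage_of_isOpen (V.2.1.inter W.2.1)
        (V.2.2.inter_of_isOpen W.2.2 V.2.1 W.2.1)
  have hsober : QuasiSober E := by
    constructor
    intro S hSirr hSclosed
    obtain ⟨C, hC, hCS⟩ := isClosed_induced_iff.mp hSclosed
    have hZ : (Subtype.val '' S : Set X) = C ∩ E := by
      rw [← hCS, Subtype.image_preimage_coe, Set.inter_comm]
    have hZcons : IsClosed[constructibleTopology X] (Subtype.val '' S : Set X) := by
      rw [hZ]
      exact @IsClosed.inter X C E (constructibleTopology X) (isClosed_cons_of_isClosed hC) hE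
    have hZirr : IsIrreducible (Subtype.val '' S : Set X) :=
      hSirr.image _ continuous_subtype_val.continuousOn
    have hgen := hZirr.closure.isGenericPoint_genericPoint isClosed_closure
    set η := hZirr.closure.genericPoint with hη
    obtain ⟨z, hzZ, hzη⟩ := exists_specializes_of_mem_closure hZcons hgen.mem
    have hηz : η ⤳ z := by
      rw [specializes_iff_mem_closure, hgen.def]
      exact subset_closure hzZ
    have hzeq : z = η := (hzη.antisymm hηz).eq
    obtain ⟨e, heS, hez⟩ := hzZ
    refine ⟨e, ?_⟩
    rw [IsGenericPoint, Topology.IsInducing.subtypeVal.closure_eq_preimage_closure_image,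
      Set.image_singleton, hez, hzeq, hgen.def,
      ← Topology.IsInducing.subtypeVal.closure_eq_preimage_closure_image, hSclosed.closure_eq]
  exact { toT0Space := inferInstance, toCompactSpace := hcompact, toQuasiSober := hsober,
          toQuasiSeparatedSpace := hqs, toPrespectralSpace := hpre }

section prod

variable {Y : Type*} [TopologicalSpace Y]

theorem quasiSober_prod [QuasiSober X] [QuasiSober Y] : QuasiSober (X × Y) := by
  constructor
  intro S hSirr hSclosed
  have hA : IsIrreducible (closure (Prod.fst '' S)) :=
    (hSirr.image _ continuous_fst.continuousOn).closure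
  have hB : IsIrreducible (closure (Prod.snd '' S)) :=
    (hSirr.image _ continuous_snd.continuousOn).closure
  have hξ := hA.isGenericPoint_genericPoint isClosed_closure
  have hη := hB.isGenericPoint_genericPoint isClosed_closure
  set ξ := hA.genericPoint
  set η := hB.genericPoint
  refine ⟨(ξ, η), ?_⟩
  apply subset_antisymm
  · apply (hSclosed.closure_subset_iff).mpr
    rw [Set.singleton_subset_iff]
    by_contra hnot
    obtain ⟨U, V, hU, hV, hξU, hηV, hUV⟩ := isOpen_prod_iff.mp hSclosed.isOpen_compl ξ η hnot
    have h1 : (S ∩ (Prod.fst ⁻¹' U)).Nonempty := by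
      obtain ⟨a, haU, ⟨p, hpS, rfl⟩⟩ := mem_closure_iff.mp hξ.mem U hU hξU
      exact ⟨p, hpS, haU⟩
    have h2 : (S ∩ (Prod.snd ⁻¹' V)).Nonempty := by
      obtain ⟨a, haV, ⟨p, hpS, rfl⟩⟩ := mem_closure_iff.mp hη.mem V hV hηV
      exact ⟨p, hpS, haV⟩
    obtain ⟨p, hpS, hpU, hpV⟩ := hSirr.isPreirreducible _ _ (hU.preimage continuous_fst)
      (hV.preimage continuous_snd) h1 h2
    exact hUV ⟨hpU, hpV⟩ hpS
  · intro p hpS
    rw [← Set.singleton_prod_singleton, closure_prod_eq, hξ.def, hη.def]
    exact ⟨subset_closure ⟨p, hpS, rfl⟩, subset_closure ⟨p, hpS, rfl⟩⟩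

theorem prespectralSpace_prod [PrespectralSpace X] [PrespectralSpace Y] :
    PrespectralSpace (X × Y) := by
  refine PrespectralSpace.of_isTopologicalBasis
    ((PrespectralSpace.isTopologicalBasis (X := X)).prod
      (PrespectralSpace.isTopologicalBasis (X := Y))) ?_
  rintro _ ⟨U, ⟨-, hU⟩, V, ⟨-, hV⟩, rfl⟩
  exact hU.prod hV

theorem quasiSeparatedSpace_prod [PrespectralSpace X] [PrespectralSpace Y]
    [QuasiSeparatedSpace X] [QuasiSeparatedSpace Y] : QuasiSeparatedSpace (X × Y) := by
  refine QuasiSeparatedSpace.of_isTopologicalBasis
    (b := fun p : {U : Set X // IsOpen U ∧ IsCompact U} × {V : Set Y // IsOpen V ∧ IsCompact V} =>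
      (p.1 : Set X) ×ˢ (p.2 : Set Y)) ?_ ?_
  · have := (PrespectralSpace.isTopologicalBasis (X := X)).prod
      (PrespectralSpace.isTopologicalBasis (X := Y))
    convert this using 1
    ext s
    simp only [Set.mem_range, Prod.exists, Subtype.exists, Set.mem_image2, Set.mem_ofPred_eq]
    constructor
    · rintro ⟨U, hU, V, hV, rfl⟩
      exact ⟨U, hU, V, hV, rfl⟩
    · rintro ⟨U, hU, V, hV, rfl⟩
      exact ⟨U, hU, V, hV, rfl⟩
  · rintro ⟨U, V⟩ ⟨U', V'⟩
    rw [Set.prod_inter_prod]
    exact (U.2.2.inter_of_isOpen U'.2.2 U.2.1 U'.2.1).prod
      (V.2.2.inter_of_isOpen V'.2.2 V.2.1 V'.2.1)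

theorem spectralSpace_prod [SpectralSpace X] [SpectralSpace Y] : SpectralSpace (X × Y) :=
  { toT0Space := inferInstance, toCompactSpace := inferInstance, toQuasiSober := quasiSober_prod,
    toQuasiSeparatedSpace := quasiSeparatedSpace_prod, toPrespectralSpace := prespectralSpace_prod }

end prod

end Groth.Agent.Lib.SpectralCons
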