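import Groth.Agent.Lib.H15WLoc
import Groth.Agent.Lib.IndEtale
import Groth.Agent.Lib.SpectralCons
import Mathlib.Topology.Connected.Separation
import Mathlib.RingTheory.LocalIso
import Mathlib.RingTheory.Flat.Localization
import Mathlib.RingTheory.Flat.FaithfullyFlat.Basic

set_option autoImplicit false
universe u

namespace Groth.Agent.Lib.H15WLoc

open PrimeSpectrum Groth.Agent.Lib.H15IndZariskiLoc CategoryTheory Groth.Agent.Lib.SpectralCons Topology

/-- local isomorphisms are flat. -/
theorem flat_of_isLocalIso (A B : Type u) [CommRing A] [CommRing B] [Algebra A B]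
    [Algebra.IsLocalIso A B] : Module.Flat A B := by
  refine Module.flat_of_isLocalized_span (R := A) (S := B) (M := B)
    {g : B | Algebra.IsStandardOpenImmersion A (Localization.Away g)}
    (Algebra.IsLocalIso.span_isStandardOpenImmersion_eq_top A B)
    (fun r => Localization.Away r.1) (fun r => Algebra.linearMap B (Localization.Away r.1)) ?_
  rintro ⟨g, hg⟩
  obtain ⟨a, ha⟩ := hg.exists_away
  exact IsLocalization.flat (Localization.Away g) (Submonoid.powers a)

/-- ind-Zariski algebras are flat. -/
theorem flat_of_isIndZariski (A B : Type u) [CommRing A] [CommRing B] [Algebra A B]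
    (h : EtPBC.IsIndZariski A B) : Module.Flat A B := by
  obtain ⟨J, _, _, 𝒮, c, hE, hc⟩ := exists_concrete A B h
  have := Groth.Agent.Lib.IndEtale.flat_of_filtered_system (J := J) (algebraMap A B)
    (fun _ => A) 𝒮.E (fun j => algebraMap A (𝒮.E j))
    (fun j => by
      have := hE j
      rw [RingHom.flat_algebraMap_iff]
      exact flat_of_isLocalIso A (𝒮.E j))
    (fun _ => RingHom.id A) (fun j => (c.φ j).toRingHom)
    (fun j => by
      ext x
      exact ((c.φ j).commutes x).symm)
    (fun _ => RingHom.id A) (fun f => (𝒮.t f).toRingHom)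
    (fun f => rfl)
    (fun f => by
      ext x
      exact congrArg (fun g => g x) (c.hφ f))
    (fun f => by
      ext x
      exact ((𝒮.t f).commutes x).symm)
    (fun r => ⟨Classical.choice IsFiltered.nonempty, r, rfl⟩)
    (fun s => hc.surj s)
    (fun j x hx => by
      obtain ⟨k, f, hf⟩ := hc.inj j x 0 (by rw [map_zero]; exact hx)
      exact ⟨k, f, by simpa using hf⟩)
  rwa [RingHom.flat_algebraMap_iff] at this

variable {A : Type u} [CommRing A] {T : Type u} [TopologicalSpace T] {v : C(T, PrimeSpectrum A)}
  [CompactSpace T] [T2Space T] [TotallyDisconnectedSpace T]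

theorem faithfullyFlat (hv : Function.Surjective v) : Module.FaithfullyFlat A (Bv v) := by
  have := flat_of_isIndZariski A (Bv v) (isIndZariski v)
  exact Module.FaithfullyFlat.of_comap_surjective (comap_surjective hv)


section cons


variable (A : Type u) [CommRing A]

/-- `Spec A` with the constructible topology. -/
abbrev Xc : Type u := WithConstructibleTopology (PrimeSpectrum A)

variable {A}

lemma isOpen_preimage_of_isOpen_cons {U : Set (PrimeSpectrum A)}
    (hU : IsOpen[constructibleTopology (PrimeSpectrum A)] U) :
    IsOpen ((WithTopology.ofTopology : Xc A → PrimeSpectrum A) ⁻¹' U) :=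
  (WithTopology.isOpen_iff _).2 hU

lemma isClopen_preimage_basicOpen (a : A) :
    IsClopen ((WithTopology.ofTopology : Xc A → PrimeSpectrum A) ⁻¹' (basicOpen a : Set _)) := by
  constructor
  · rw [← isOpen_compl_iff, ← Set.preimage_compl]
    apply isOpen_preimage_of_isOpen_cons
    exact IsCompact.isOpen_constructibleTopology_of_isClosed
      (by rw [compl_compl]; exact isCompact_basicOpen a) (basicOpen a).isOpen.isClosed_compl
  · apply isOpen_preimage_of_isOpen_cons
    exact (isCompact_basicOpen a).isOpen_constructibleTopology_of_isOpen (basicOpen a).isOpen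

instance : TotallySeparatedSpace (Xc A) := by
  rw [totallySeparatedSpace_iff_exists_isClopen]
  intro x y hxy
  have hne : (WithTopology.ofTopology x : PrimeSpectrum A) ≠ WithTopology.ofTopology y :=
    fun h => hxy (WithTopology.ofTopology_injective _ h)
  have hne' : (WithTopology.ofTopology x : PrimeSpectrum A).asIdeal ≠
      (WithTopology.ofTopology y : PrimeSpectrum A).asIdeal := fun h => hne (PrimeSpectrum.ext h)
  by_cases hle : (WithTopology.ofTopology x : PrimeSpectrum A).asIdeal ≤
      (WithTopology.ofTopology y : PrimeSpectrum A).asIdeal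
  · have hnle : ¬ (WithTopology.ofTopology y : PrimeSpectrum A).asIdeal ≤
        (WithTopology.ofTopology x : PrimeSpectrum A).asIdeal := fun h => hne' (le_antisymm hle h)
    obtain ⟨a, hay, hax⟩ := SetLike.not_le_iff_exists.1 hnle
    exact ⟨_, isClopen_preimage_basicOpen a, hax, fun h => h hay⟩
  · obtain ⟨a, hax, hay⟩ := SetLike.not_le_iff_exists.1 hle
    exact ⟨_, (isClopen_preimage_basicOpen a).compl, fun h => h hax, fun h => h hay⟩

instance : T2Space (Xc A) := inferInstance
instance : TotallyDisconnectedSpace (Xc A) := inferInstance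
instance : CompactSpace (Xc A) := inferInstance

/-- the identity `Spec A (constructible) → Spec A`. -/
def vc (A : Type u) [CommRing A] : C(Xc A, PrimeSpectrum A) where
  toFun := WithTopology.ofTopology
  continuous_toFun := ⟨fun _ hU => isOpen_preimage_of_isOpen_cons (isOpen_cons_of_isOpen hU)⟩

lemma vc_bijective : Function.Bijective (vc A) := WithTopology.ofTopology_bijective _

lemma isOpen_vc (a : A) : IsOpen {t : Xc A | a ∈ (vc A t).asIdeal} := by
  have := (isClopen_preimage_basicOpen a).compl.isOpen
  convert this using 1
  ext t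
  simp [vc]


end cons

section main
variable (A : Type u) [CommRing A]

/-- **w-localization** (`S0694`). -/
theorem exists_wLocalization :
    ∃ (Aw : Type u) (_ : CommRing Aw) (_ : Algebra A Aw),
      Module.FaithfullyFlat A Aw ∧ EtPBC.IsIndZariski A Aw ∧ ProEtW.IsWLocal (PrimeSpectrum Aw) ∧
      Set.BijOn (PrimeSpectrum.comap (algebraMap A Aw)) (ProEtW.closedPoints (PrimeSpectrum Aw))
        Set.univ :=
  ⟨Bv (vc A), inferInstance, inferInstance, faithfullyFlat vc_bijective.2, isIndZariski (vc A),
    isWLocal isOpen_vc, bijOn_closedPoints vc_bijective⟩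

end main

end Groth.Agent.Lib.H15WLoc
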