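import Groth.Prelude.Def_ProEtW
import Groth.Prelude.Def_EtBase
import Groth.Agent.Lib.IndEtale
import Groth.Agent.Lib.H15IndZarLocal
import Groth.Agent.Lib.H15WLoc2
import Groth.Agent.Lib.HenselTransfer22
import Mathlib.RingTheory.Ideal.Quotient.Operations
import Mathlib.RingTheory.Algebraic.Integral
import Mathlib.RingTheory.Unramified.LocalStructure
import Mathlib.RingTheory.Etale.Basic
import Mathlib.RingTheory.LocalIso
import Mathlib.RingTheory.RingHom.Etale
import Mathlib.FieldTheory.IsSepClosed
import Mathlib.RingTheory.Flat.FaithfullyFlat.Algebra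

/-!
# Helper lemmas for S0692 (w-local ind-étale square, Stacks 097X)

* `AlgOver`: friction-free algebraicity of `s mod q` over `R/(q ∩ R)`;
* `algebraicResidueExtensions_of_isIndEtale`, `algebraicResidueExtensions_baseChange`;
* `etale_of_isLocalIso`, `isIndEtale_of_isIndZariski`;
* `exists_comap_eq_of_bijective_quotientMap`;
* `isStrictlyHenselian_of_ringEquiv`.
-/

set_option autoImplicit false
universe u

namespace Groth.Agent.Lib.H15WLocSquare

open Polynomial TensorProduct


section algOver

variable (R : Type*) {S : Type*} [CommRing R] [CommRing S] [Algebra R S]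

/-- friction-free form of "`s mod q` is algebraic over `R/(q ∩ R)`". -/
def AlgOver (q : Ideal S) (s : S) : Prop :=
  ∃ G : R[X], (∃ i, G.coeff i ∉ q.comap (algebraMap R S)) ∧ aeval s G ∈ q

variable {R}

lemma aeval_mk_map (q : Ideal S) (s : S) (G : R[X]) :
    aeval (Ideal.Quotient.mk q s) (G.map (Ideal.Quotient.mk (q.comap (algebraMap R S)))) =
      Ideal.Quotient.mk q (aeval s G) := by
  have h1 := Polynomial.aeval_map_algebraMap (R := R) (R ⧸ q.comap (algebraMap R S))
    (Ideal.Quotient.mk q s) G
  rw [Ideal.Quotient.algebraMap_eq] at h1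
  rw [h1]
  exact Polynomial.aeval_algHom_apply (Ideal.Quotient.mkₐ R q) s G

lemma algOver_iff (q : Ideal S) (s : S) :
    IsAlgebraic (R ⧸ q.comap (algebraMap R S)) (Ideal.Quotient.mk q s) ↔ AlgOver R q s := by
  constructor
  · rintro ⟨g, hg0, hg⟩
    obtain ⟨G, rfl⟩ := Polynomial.map_surjective (Ideal.Quotient.mk (q.comap (algebraMap R S)))
      Ideal.Quotient.mk_surjective g
    refine ⟨G, ?_, ?_⟩
    · by_contra hcon
      push Not at hcon
      apply hg0
      ext i
      rw [Polynomial.coeff_map, Polynomial.coeff_zero, Ideal.Quotient.eq_zero_iff_mem]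
      exact hcon i
    · rw [aeval_mk_map] at hg
      exact Ideal.Quotient.eq_zero_iff_mem.1 hg
  · rintro ⟨G, ⟨i, hi⟩, hG⟩
    refine ⟨G.map (Ideal.Quotient.mk (q.comap (algebraMap R S))), ?_, ?_⟩
    · intro h0
      apply hi
      have := congrArg (fun p => p.coeff i) h0
      simp only [Polynomial.coeff_map, Polynomial.coeff_zero] at this
      exact Ideal.Quotient.eq_zero_iff_mem.1 this
    · rw [aeval_mk_map]
      exact Ideal.Quotient.eq_zero_iff_mem.2 hG

/-- transport along an algebra map. -/
lemma AlgOver.map {E : Type*} [CommRing E] [Algebra R E] (φ : E →ₐ[R] S) (q : Ideal S) (e : E)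
    (h : AlgOver R (q.comap φ) e) : AlgOver R q (φ e) := by
  obtain ⟨G, ⟨i, hi⟩, hG⟩ := h
  refine ⟨G, ⟨i, fun hmem => hi ?_⟩, ?_⟩
  · rw [Ideal.mem_comap, Ideal.mem_comap, φ.commutes]
    exact hmem
  · rw [Polynomial.aeval_algHom_apply]
    exact hG

/-- quasi-finite algebras have algebraic residue field extensions. -/
theorem algOver_of_quasiFinite (R E : Type*) [CommRing R] [CommRing E] [Algebra R E]
    [Algebra.QuasiFinite R E] (Q : Ideal E) [Q.IsPrime] (e : E) : AlgOver R Q e := by
  set P : Ideal R := Q.comap (algebraMap R E) with hP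
  haveI : P.IsPrime := Ideal.IsPrime.comap _
  let K := P.ResidueField
  let L := Q.ResidueField
  let ρ : K →+* L := Ideal.ResidueField.map P Q (algebraMap R E) rfl
  letI : Algebra K L := ρ.toAlgebra
  have hρ : ∀ r, ρ (algebraMap R K r) = algebraMap E L (algebraMap R E r) :=
    fun r => Ideal.ResidueField.map_algebraMap P Q (algebraMap R E) rfl r
  haveI : IsScalarTower R K L := IsScalarTower.of_algebraMap_eq (fun r => by
    rw [IsScalarTower.algebraMap_apply R E L]
    exact (hρ r).symm)
  let ψ : P.Fiber E →ₐ[K] L := Algebra.TensorProduct.lift (Algebra.ofId K L)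
    (IsScalarTower.toAlgHom R E L) (fun _ _ => Commute.all _ _)
  have hint : IsIntegral K ((1 : K) ⊗ₜ[R] e : P.Fiber E) := Algebra.IsIntegral.isIntegral _
  have hint' : IsIntegral K (algebraMap E L e) := by
    have := hint.map ψ
    simpa [ψ] using this
  letI : Algebra (R ⧸ P) L := ((algebraMap K L).comp (algebraMap (R ⧸ P) K)).toAlgebra
  haveI : IsScalarTower (R ⧸ P) K L := IsScalarTower.of_algebraMap_eq (fun _ => rfl)
  have halg : IsAlgebraic (R ⧸ P) (algebraMap E L e) :=
    (IsFractionRing.isAlgebraic_iff (R ⧸ P) K L).2 hint'.isAlgebraic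
  obtain ⟨g, hg0, hg⟩ := halg
  obtain ⟨G, rfl⟩ := Polynomial.map_surjective (Ideal.Quotient.mk P)
    Ideal.Quotient.mk_surjective g
  refine ⟨G, ?_, ?_⟩
  · by_contra hcon
    push Not at hcon
    apply hg0
    ext i
    rw [Polynomial.coeff_map, Polynomial.coeff_zero, Ideal.Quotient.eq_zero_iff_mem]
    exact hcon i
  · rw [← Ideal.algebraMap_residueField_eq_zero]
    rw [Polynomial.aeval_def, Polynomial.eval₂_map] at hg
    have hcomp : (algebraMap (R ⧸ P) L).comp (Ideal.Quotient.mk P) =
        (algebraMap E L).comp (algebraMap R E) := by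
      ext r
      exact hρ r
    rw [hcomp, ← Polynomial.hom_eval₂] at hg
    exact hg

end algOver


section indEtale

variable {R S : Type u} [CommRing R] [CommRing S] [Algebra R S]

/-- ind-étale algebras induce algebraic residue field extensions. -/
theorem algebraicResidueExtensions_of_isIndEtale (h : EtPBC.IsIndEtale R S) :
    ProEtW.AlgebraicResidueExtensions R S := by
  obtain ⟨J, _, _, E, _, _, hEt, t, φ, hφ, hsurj, hker⟩ :=
    Groth.Agent.Lib.IndEtale.exists_concrete R S h
  intro q _
  refine ⟨fun x => ?_⟩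
  obtain ⟨s, rfl⟩ := Ideal.Quotient.mk_surjective x
  rw [algOver_iff]
  obtain ⟨j, e, rfl⟩ := hsurj s
  have := hEt j
  have : (q.comap (φ j)).IsPrime := Ideal.IsPrime.comap _
  exact (algOver_of_quasiFinite R (E j) (q.comap (φ j)) e).map (φ j) q e

/-- local isomorphisms are étale. -/
theorem etale_of_isLocalIso (A B : Type u) [CommRing A] [CommRing B] [Algebra A B]
    [Algebra.IsLocalIso A B] : Algebra.Etale A B := by
  have h := RingHom.Etale.ofLocalizationSpanTarget (algebraMap A B)
    {g : B | Algebra.IsStandardOpenImmersion A (Localization.Away g)}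
    (Algebra.IsLocalIso.span_isStandardOpenImmersion_eq_top A B) ?_
  · exact (RingHom.etale_algebraMap).1 h
  · rintro ⟨g, hg⟩
    obtain ⟨a, ha⟩ := hg.exists_away
    have : Algebra.Etale A (Localization.Away g) := Algebra.Etale.of_isLocalizationAway a
    have h2 : (algebraMap A (Localization.Away g)).Etale := (RingHom.etale_algebraMap).2 this
    rw [IsScalarTower.algebraMap_eq A B (Localization.Away g)] at h2
    exact h2

/-- ind-Zariski algebras are ind-étale. -/
theorem isIndEtale_of_isIndZariski (A B : Type u) [CommRing A] [CommRing B] [Algebra A B]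
    (h : EtPBC.IsIndZariski A B) : EtPBC.IsIndEtale A B := by
  obtain ⟨J, hJ, hJf, D, c, hc, hD, e⟩ := h
  refine ⟨J, hJ, hJf, D, c, hc, fun j => ?_, e⟩
  letI := (D.obj j).hom.hom.toAlgebra
  have := hD j
  exact etale_of_isLocalIso A (D.obj j).right

end indEtale


section baseChange

variable (A B C : Type u) [CommRing A] [CommRing B] [CommRing C] [Algebra A B] [Algebra A C]

attribute [local instance] Algebra.TensorProduct.rightAlgebra

lemma tmul_one_eq (a : A) :
    (algebraMap A B a) ⊗ₜ[A] (1 : C) = (1 : B) ⊗ₜ[A] (algebraMap A C a) := by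
  rw [Algebra.algebraMap_eq_smul_one, Algebra.algebraMap_eq_smul_one, TensorProduct.smul_tmul]

/-- algebraic residue field extensions are stable under base change. -/
theorem algebraicResidueExtensions_baseChange (h : ProEtW.AlgebraicResidueExtensions A B) :
    ProEtW.AlgebraicResidueExtensions C (B ⊗[A] C) := by
  intro q _
  set p : Ideal C := q.comap (algebraMap C (B ⊗[A] C)) with hp
  have hpprime : p.IsPrime := Ideal.IsPrime.comap _
  set pB : Ideal B := q.comap (algebraMap B (B ⊗[A] C)) with hpB
  have hpBprime : pB.IsPrime := Ideal.IsPrime.comap _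
  -- the elements `b ⊗ 1`
  have hb : ∀ b : B, IsAlgebraic (C ⧸ p) (Ideal.Quotient.mk q (b ⊗ₜ[A] (1 : C))) := by
    intro b
    rw [algOver_iff]
    have h1 := (h pB).isAlgebraic (Ideal.Quotient.mk pB b)
    rw [algOver_iff] at h1
    obtain ⟨G, ⟨i, hi⟩, hG⟩ := h1
    refine ⟨G.map (algebraMap A C), ⟨i, fun hmem => hi ?_⟩, ?_⟩
    · rw [Polynomial.coeff_map, Ideal.mem_comap] at hmem
      rw [Ideal.mem_comap, hpB, Ideal.mem_comap]
      have h2 : algebraMap B (B ⊗[A] C) (algebraMap A B (G.coeff i)) =
          algebraMap C (B ⊗[A] C) (algebraMap A C (G.coeff i)) := tmul_one_eq A B C _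
      rw [h2]
      exact hmem
    · rw [Polynomial.aeval_map_algebraMap]
      have h3 : (b ⊗ₜ[A] (1 : C) : B ⊗[A] C) =
          (Algebra.TensorProduct.includeLeft : B →ₐ[A] B ⊗[A] C) b := rfl
      rw [h3, Polynomial.aeval_algHom_apply]
      exact hG
  refine ⟨fun x => ?_⟩
  obtain ⟨t, rfl⟩ := Ideal.Quotient.mk_surjective x
  induction t with
  | zero => rw [map_zero]; exact isAlgebraic_zero
  | add x y hx hy => rw [map_add]; exact hx.add hy
  | tmul b c =>
    have h4 : (b ⊗ₜ[A] c : B ⊗[A] C) = algebraMap C (B ⊗[A] C) c * (b ⊗ₜ[A] (1 : C)) := by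
      change _ = ((1 : B) ⊗ₜ[A] c) * _
      rw [Algebra.TensorProduct.tmul_mul_tmul, one_mul, mul_one]
    rw [h4, map_mul]
    refine IsAlgebraic.mul ?_ (hb b)
    have h5 : Ideal.Quotient.mk q (algebraMap C (B ⊗[A] C) c) =
        algebraMap (C ⧸ p) ((B ⊗[A] C) ⧸ q) (Ideal.Quotient.mk p c) := rfl
    rw [h5]
    exact isAlgebraic_algebraMap _

end baseChange



/-- if `R/J → S/JS` is bijective then every prime of `R` containing `J` is a contraction. -/
lemma exists_comap_eq_of_bijective_quotientMap {R S : Type*} [CommRing R] [CommRing S]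
    [Algebra R S] (J : Ideal R)
    (hbij : Function.Bijective (Ideal.quotientMap (J.map (algebraMap R S)) (algebraMap R S)
      Ideal.le_comap_map))
    (y' : PrimeSpectrum R) (hy' : J ≤ y'.asIdeal) :
    ∃ y : PrimeSpectrum S, PrimeSpectrum.comap (algebraMap R S) y = y' := by
  have h1 : y' ∈ Set.range (PrimeSpectrum.comap (Ideal.Quotient.mk J)) := by
    rw [_root_.range_comap_of_surjective _ _ Ideal.Quotient.mk_surjective, Ideal.mk_ker]
    exact hy'
  obtain ⟨z', rfl⟩ := h1
  set φ := Ideal.quotientMap (J.map (algebraMap R S)) (algebraMap R S) Ideal.le_comap_map with hφ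
  let e : (R ⧸ J) ≃+* (S ⧸ J.map (algebraMap R S)) := RingEquiv.ofBijective φ hbij
  refine ⟨PrimeSpectrum.comap (Ideal.Quotient.mk (J.map (algebraMap R S)))
    (PrimeSpectrum.comap (e.symm : _ →+* _) z'), ?_⟩
  rw [← PrimeSpectrum.comap_comp_apply, ← PrimeSpectrum.comap_comp_apply]
  congr 1
  ext r
  simp only [RingHom.comp_apply]
  have : Ideal.Quotient.mk (J.map (algebraMap R S)) (algebraMap R S r) =
      e (Ideal.Quotient.mk J r) := rfl
  rw [this]
  exact e.symm_apply_apply _

/-- separably closed fields transport along ring isomorphisms. -/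
lemma isSepClosed_of_ringEquiv {k k' : Type*} [Field k] [Field k'] (e : k ≃+* k')
    [IsSepClosed k] : IsSepClosed k' := by
  refine IsSepClosed.of_exists_root (k := k') (fun p _ hirr hsep => ?_)
  have hdeg : (p.map (e.symm : k' →+* k)).degree ≠ 0 := by
    rw [Polynomial.degree_map]
    exact (Polynomial.degree_pos_of_irreducible hirr).ne'
  obtain ⟨x, hx⟩ := IsSepClosed.exists_root (p.map (e.symm : k' →+* k)) hdeg hsep.map
  refine ⟨e x, ?_⟩
  rw [Polynomial.IsRoot.def, Polynomial.eval_map] at hx
  have := congrArg (e : k →+* k') hx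
  rw [Polynomial.hom_eval₂, map_zero] at this
  have hcomp : (e : k →+* k').comp (e.symm : k' →+* k) = RingHom.id k' := by
    ext y
    exact e.apply_symm_apply y
  rw [hcomp, Polynomial.eval₂_id] at this
  exact this

/-- strictly henselian local rings transport along ring isomorphisms. -/
theorem isStrictlyHenselian_of_ringEquiv {A S : Type u} [CommRing A] [CommRing S] (e : A ≃+* S)
    (h : EtCoh.IsStrictlyHenselianLocalRing A) : EtCoh.IsStrictlyHenselianLocalRing S := by
  obtain ⟨hH, hsep⟩ := h
  have hS : HenselianLocalRing S :=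
    Groth.Agent.Lib.HenselTransfer22.henselianLocalRing_of_ringEquiv e.symm
  refine ⟨hS, ?_⟩
  exact isSepClosed_of_ringEquiv (IsLocalRing.ResidueField.mapEquiv e)


end Groth.Agent.Lib.H15WLocSquare
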