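import Groth.Agent.Lib.EtShriekConst
import Groth.Agent.Lib.ExtMV
import Groth.Agent.Lib.EtLocTriv39
import Groth.Agent.Lib.EtGeomPtConservative39
import Groth.Agent.Lib.H15WLocSquare

/-!
# Cohomology of open subschemes as `Ext` groups out of `j_! ℤ` (helper39)

For a scheme `X`, an abelian sheaf `F` on `X_et` and `W : X.Opens` we consider
`Ext^q(j_{W!} ℤ, F) ≃ H^q(W, F|_W)` (`EtShriekConst.theta`), with its restriction maps
`res F q (h : W' ≤ W)` (precomposition with `iotaLE h : j_{W'!} ℤ ⟶ j_{W!} ℤ`).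

* `mono_eps`: `j_! ℤ ⟶ ℤ` is a monomorphism for an open immersion `j`; `iota_unique`;
* `iotaLE_comp`, `res_res`, `res_refl`;
* `isMV_opens`: the Mayer-Vietoris sequence for two opens `U, V` (and `U ⊔ V`, `U ⊓ V`);
* `exists_open_res_eq_zero`: classes of positive degree die locally in the Zariski topology when the
  local rings of `X` are strictly henselian.
-/

set_option autoImplicit false
universe u
open CategoryTheory CategoryTheory.Limits AlgebraicGeometry Opposite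

namespace Groth.Agent.Lib.EtOpensExt39

open EtCore EtCoh CategoryTheory.Abelian Groth.Agent.Lib.EtShriekConst Groth.Agent.Lib.ExtMV
  Groth.Agent.Lib.EtGerm Groth.Agent.Lib.EtStalkConservative
  Groth.Agent.Lib.EtGeomPtConservative39

section mono

variable {U X : Scheme.{u}} (j : U ⟶ X) [AlgebraicGeometry.Etale j] [EtShriek.JCont j] [Mono j]

/-- `j_! ℤ ⟶ ℤ` is a monomorphism for a monomorphism `j` -/
theorem mono_eps : Mono (eps j) := by
  apply mono_of_forall_geomPt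
  intro x
  by_cases hx : x ∈ Set.range j
  · obtain ⟨y, rfl⟩ := hx
    refine ⟨_, inferInstance, inferInstance, stdPt y ≫ j, ?_, ?_⟩
    · show j (stdPt y default) = j y
      rw [stdPt_default]
    · have := isIso_stalk_eps j (stdPt y ≫ j) (stdPt y) rfl
      exact (ConcreteCategory.bijective_of_isIso _).1
  · refine ⟨_, inferInstance, inferInstance, stdPt x, stdPt_default x, ?_⟩
    have hz := isZero_stalk_Zsh j (stdPt x) (by rw [stdPt_default]; exact hx)
    have := AddCommGrpCat.subsingleton_of_isZero hz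
    intro a b _
    exact Subsingleton.elim a b

end mono

section unique

variable {W U X : Scheme.{u}} (a : W ⟶ U) (t : U ⟶ X) (f₀ : W ⟶ X) (w : a ≫ t = f₀)
  [AlgebraicGeometry.Etale t] [EtShriek.JCont t] [Mono t]
  [AlgebraicGeometry.Etale f₀] [EtShriek.JCont f₀]

theorem iota_unique (φ : Zsh f₀ ⟶ Zsh t) (h : φ ≫ eps t = eps f₀) : φ = iota a t f₀ w := by
  have := mono_eps t
  rw [← cancel_mono (eps t), h, iota_eps]

end unique

section opens

variable {X : Scheme.{u}}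

/-- the inclusion `j_{W'!} ℤ ⟶ j_{W!} ℤ` for opens `W' ≤ W` -/
noncomputable abbrev iotaLE {W' W : X.Opens} (h : W' ≤ W) : Zsh W'.ι ⟶ Zsh W.ι :=
  iota (X.homOfLE h) W.ι W'.ι (X.homOfLE_ι h)

lemma iotaLE_eps {W' W : X.Opens} (h : W' ≤ W) : iotaLE h ≫ eps W.ι = eps W'.ι :=
  iota_eps _ _ _ _

lemma iotaLE_comp {W'' W' W : X.Opens} (h₁ : W'' ≤ W') (h₂ : W' ≤ W) :
    iotaLE h₁ ≫ iotaLE h₂ = iotaLE (h₁.trans h₂) := by
  apply iota_unique
  rw [Category.assoc, iotaLE_eps, iotaLE_eps]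

lemma iotaLE_refl (W : X.Opens) : iotaLE (le_refl W) = 𝟙 _ := by
  symm
  apply iota_unique
  rw [Category.id_comp]

/-- a morphism `j_{W'!} ℤ ⟶ j_{W!} ℤ` compatible with the maps to `ℤ` is the inclusion -/
lemma eq_iotaLE {W' W : X.Opens} (h : W' ≤ W) (φ : Zsh W'.ι ⟶ Zsh W.ι)
    (hφ : φ ≫ eps W.ι = eps W'.ι) : φ = iotaLE h :=
  iota_unique _ _ _ _ φ hφ

variable (F : EtCoh.Ab X)

/-- restriction `Ext^q(j_{W!} ℤ, F) ⟶ Ext^q(j_{W'!} ℤ, F)` -/
noncomputable def res (q : ℕ) {W' W : X.Opens} (h : W' ≤ W) :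
    Ext (Zsh W.ι) F q →+ Ext (Zsh W'.ι) F q :=
  (Ext.mk₀ (iotaLE h)).precomp F (zero_add q)

lemma res_apply (q : ℕ) {W' W : X.Opens} (h : W' ≤ W) (ξ : Ext (Zsh W.ι) F q) :
    res F q h ξ = (Ext.mk₀ (iotaLE h)).comp ξ (zero_add q) := rfl

lemma res_res (q : ℕ) {W'' W' W : X.Opens} (h₁ : W'' ≤ W') (h₂ : W' ≤ W)
    (ξ : Ext (Zsh W.ι) F q) : res F q h₁ (res F q h₂ ξ) = res F q (h₁.trans h₂) ξ := by
  rw [res_apply, res_apply, res_apply, ← Ext.comp_assoc _ _ _ (zero_add 0) (zero_add q) (by omega),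
    Ext.mk₀_comp_mk₀, iotaLE_comp]

lemma res_refl (q : ℕ) (W : X.Opens) (ξ : Ext (Zsh W.ι) F q) : res F q (le_refl W) ξ = ξ := by
  rw [res_apply, iotaLE_refl, Ext.mk₀_id_comp]

end opens

section MV

lemma isIso_of_isZero' {C : Type*} [Category C] [HasZeroMorphisms C] {A B : C} (f : A ⟶ B)
    (hA : IsZero A) (hB : IsZero B) : IsIso f :=
  ⟨⟨0, hA.eq_of_src _ _, hB.eq_of_src _ _⟩⟩

variable (X : Scheme.{u}) (U V : X.Opens)

lemma sq : CommSq (iotaLE (inf_le_left : U ⊓ V ≤ U)) (iotaLE (inf_le_right : U ⊓ V ≤ V))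
    (iotaLE (le_sup_left : U ≤ U ⊔ V)) (iotaLE (le_sup_right : V ≤ U ⊔ V)) :=
  ⟨(iotaLE_comp _ _).trans (iotaLE_comp _ _).symm⟩

variable {X} {U V}
variable {Ω : Type u} [Field Ω] [IsSepClosed Ω]

/-- `iotaLE h` is an isomorphism on stalks at geometric points of the smaller open -/
lemma isIso_stalk_iotaLE {W' W : X.Opens} (h : W' ≤ W) (ξ : Spec (CommRingCat.of Ω) ⟶ X)
    (hξ : ξ default ∈ W') : IsIso ((EtCoh.stalk ξ).map (iotaLE h)) := by
  have hr : Set.range ξ ⊆ Set.range W'.ι := by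
    rw [Scheme.Opens.range_ι]
    rintro _ ⟨a, rfl⟩
    rw [Subsingleton.elim a default]
    exact hξ
  let w : Spec (CommRingCat.of Ω) ⟶ ↑W' := IsOpenImmersion.lift W'.ι ξ hr
  have hw : w ≫ W'.ι = ξ := IsOpenImmersion.lift_fac _ _ _
  have h1 : IsIso ((EtCoh.stalk ξ).map (eps W'.ι)) := isIso_stalk_eps W'.ι ξ w hw
  have h2 : IsIso ((EtCoh.stalk ξ).map (eps W.ι)) :=
    isIso_stalk_eps W.ι ξ (w ≫ X.homOfLE h) (by rw [Category.assoc, X.homOfLE_ι, hw])
  have e : (EtCoh.stalk ξ).map (iotaLE h) ≫ (EtCoh.stalk ξ).map (eps W.ι) =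
      (EtCoh.stalk ξ).map (eps W'.ι) := by
    rw [← Functor.map_comp, iotaLE_eps]
  have : IsIso ((EtCoh.stalk ξ).map (iotaLE h) ≫ (EtCoh.stalk ξ).map (eps W.ι)) := by
    rw [e]; exact h1
  exact IsIso.of_isIso_comp_right _ ((EtCoh.stalk ξ).map (eps W.ι))

lemma isZero_stalk_Zsh_opens (W : X.Opens) (ξ : Spec (CommRingCat.of Ω) ⟶ X)
    (hξ : ξ default ∉ W) : IsZero ((EtCoh.stalk ξ).obj (Zsh W.ι)) := by
  apply isZero_stalk_Zsh
  rw [Scheme.Opens.range_ι]
  exact hξ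

variable (U V)

lemma shortExact_stalk (ξ : Spec (CommRingCat.of Ω) ⟶ X) :
    ((sq X U V).shortComplex'.map (EtCoh.stalk ξ)).ShortExact := by
  by_cases hU : ξ default ∈ U
  · by_cases hV : ξ default ∈ V
    · exact shortExact_map_of_isIso _ (sq X U V)
        (isIso_stalk_iotaLE _ ξ hU) (isIso_stalk_iotaLE _ ξ ⟨hU, hV⟩)
    · exact shortExact_map_of_isIso _ (sq X U V) (isIso_stalk_iotaLE _ ξ hU)
        (isIso_of_isZero' _ (isZero_stalk_Zsh_opens _ ξ (fun h => hV h.2))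
          (isZero_stalk_Zsh_opens _ ξ hV))
  · by_cases hV : ξ default ∈ V
    · exact shortExact_map_of_isIso' _ (sq X U V)
        (isIso_of_isZero' _ (isZero_stalk_Zsh_opens _ ξ (fun h => hU h.1))
          (isZero_stalk_Zsh_opens _ ξ hU)) (isIso_stalk_iotaLE _ ξ hV)
    · have hUV : ξ default ∉ U ⊔ V := by
        intro h
        rcases (TopologicalSpace.Opens.mem_sup.1 h) with h | h
        · exact hU h
        · exact hV h
      exact shortExact_map_of_isIso _ (sq X U V)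
        (isIso_of_isZero' _ (isZero_stalk_Zsh_opens _ ξ hU) (isZero_stalk_Zsh_opens _ ξ hUV))
        (isIso_of_isZero' _ (isZero_stalk_Zsh_opens _ ξ (fun h => hU h.1))
          (isZero_stalk_Zsh_opens _ ξ hV))

omit [Field Ω] [IsSepClosed Ω] in
lemma shortExact : (sq X U V).shortComplex'.ShortExact := by
  apply shortExact_of_stalks
  intro x
  exact ⟨_, inferInstance, inferInstance, stdPt x, stdPt_default x, shortExact_stalk U V (stdPt x)⟩

/-- the Mayer-Vietoris sequence of two opens -/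
theorem isMV_opens (F : EtCoh.Ab X) :
    IsMV (fun n => res F n (le_sup_left : U ≤ U ⊔ V)) (fun n => res F n (le_sup_right : V ≤ U ⊔ V))
      (fun n => res F n (inf_le_left : U ⊓ V ≤ U)) (fun n => res F n (inf_le_right : U ⊓ V ≤ V)) :=
  isMV_of_shortExact (sq X U V) (shortExact U V) F

end MV

section locallyTrivial

open Groth.Agent.Lib.EtLocTriv39 Groth.Agent.Lib.EtPullExact95 Groth.Agent.Lib.EtHpullComp

variable {X : Scheme.{u}}

set_option backward.isDefEq.respectTransparency false in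
/-- classes of positive degree die Zariski locally when the local rings are strictly henselian -/
theorem exists_open_res_eq_zero
    (hX : ∀ x : X, EtCoh.IsStrictlyHenselianLocalRing (X.presheaf.stalk x))
    (F : EtCoh.Ab X) (q : ℕ) (W : X.Opens) (ξ : Ext (Zsh W.ι) F (q + 1)) (x : X) (hx : x ∈ W) :
    ∃ (W' : X.Opens) (h : W' ≤ W), x ∈ W' ∧ res F (q + 1) h ξ = 0 := by
  let y : ↑W := ⟨x, hx⟩
  have hstalk : EtCoh.IsStrictlyHenselianLocalRing ((↑W : Scheme.{u}).presheaf.stalk y) :=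
    Groth.Agent.Lib.H15WLocSquare.isStrictlyHenselian_of_ringEquiv
      (asIso (W.ι.stalkMap y)).commRingCatIsoToRingEquiv (hX (W.ι y))
  obtain ⟨N, hN, h0⟩ := exists_open_Hpull_eq_zero q ((EtCoh.pull W.ι).obj F)
    (theta W.ι F (q + 1) ξ) y hstalk
  let W' : X.Opens := W.ι ''ᵁ N
  have hW' : W' ≤ W := W.ι_image_le N
  refine ⟨W', hW', ⟨y, hN, rfl⟩, ?_⟩
  let jN : (↑N : Scheme.{u}) ⟶ X := N.ι ≫ W.ι
  let b : (↑W' : Scheme.{u}) ⟶ ↑N := (W.ι.isoImage N).inv
  have hb : b ≫ jN = W'.ι := W.ι.isoImage_inv_ι N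
  -- the restriction to `N` vanishes
  have h1 : (Ext.mk₀ (iota N.ι W.ι jN rfl)).comp ξ (zero_add (q + 1)) = 0 := by
    apply (theta jN F (q + 1)).injective
    rw [theta_iota, map_zero, HpullVia_apply, h0, Ext.zero_comp]
  have h2 : iotaLE hW' = iota b jN W'.ι hb ≫ iota N.ι W.ι jN rfl := by
    symm
    apply eq_iotaLE
    rw [Category.assoc, iota_eps, iota_eps]
  rw [res_apply, h2, ← Ext.mk₀_comp_mk₀, Ext.comp_assoc _ _ _ (zero_add 0) (zero_add (q + 1)) (by omega),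
    h1, Ext.comp_zero]

end locallyTrivial

end Groth.Agent.Lib.EtOpensExt39
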