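import Groth.Prelude.Def_EtBase
import Groth.Prelude.Def_EtShriek2
import Groth.Agent.Lib.EtJCont
import Groth.Agent.Lib.EtRestr
import Mathlib.CategoryTheory.Sites.ConstantSheaf
import Mathlib.CategoryTheory.Sites.DenseSubsite.SheafEquiv

/-!
# The over-site of an étale `X`-scheme `U` is the small étale site of `U` (helper22)

* `toOver U : U.left.Etale ⥤ Over U`, an equivalence of categories (`isEquivalence_toOver`);
* `toOver_comp_forget : toOver U ⋙ Over.forget U = compEtale U.hom`.
-/

set_option autoImplicit false
set_option linter.style.haveILetI false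
universe u

open CategoryTheory AlgebraicGeometry Limits MorphismProperty Opposite

namespace Groth.Agent.Lib.EtOverSite22

variable {X : Scheme.{u}} (U : X.Etale)

/-- The structure morphism of `U`, with codomain syntactically `X`. -/
abbrev homX : U.left ⟶ X := U.hom

instance etale_homX : Etale (homX U) := U.prop

/-- The structure morphism `(W → U → X) ⟶ U` in `X.Etale`. -/
noncomputable def strHom (W : U.left.Etale) : (EtShriek.compEtale (homX U)).obj W ⟶ U :=
  MorphismProperty.Over.homMk (show ((EtShriek.compEtale (homX U)).obj W).left ⟶ U.left from W.hom)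
    rfl trivial

@[simp] theorem strHom_left (W : U.left.Etale) : (strHom U W).left = W.hom := rfl

/-- The functor from the small étale site of `U` to the over-category of `U` in `X.Etale`. -/
noncomputable def toOver : U.left.Etale ⥤ Over U where
  obj W := Over.mk (strHom U W)
  map {W W'} m := Over.homMk ((EtShriek.compEtale (homX U)).map m) (by
    apply MorphismProperty.Over.Hom.ext
    exact MorphismProperty.Over.w m)
  map_id W := by
    apply Over.OverMorphism.ext
    exact (EtShriek.compEtale (homX U)).map_id W
  map_comp m m' := by
    apply Over.OverMorphism.ext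
    exact (EtShriek.compEtale (homX U)).map_comp m m'

theorem toOver_comp_forget : toOver U ⋙ Over.forget U = EtShriek.compEtale (homX U) := rfl

instance faithful_toOver : (toOver U).Faithful where
  map_injective {W W'} m m' h := by
    have h1 : (EtShriek.compEtale (homX U)).map m = (EtShriek.compEtale (homX U)).map m' :=
      congrArg (fun k => k.left) h
    exact (EtShriek.compEtale (homX U)).map_injective h1

instance full_toOver : (toOver U).Full where
  map_surjective {W W'} h := by
    have e0 : h.left ≫ strHom U W' = strHom U W := Over.w h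
    have e : h.left.left ≫ W'.hom = W.hom := congrArg (fun k => k.left) e0
    refine ⟨MorphismProperty.Over.homMk h.left.left e trivial, ?_⟩
    apply Over.OverMorphism.ext
    apply MorphismProperty.Over.Hom.ext
    rfl

/-- The object of `U.left.Etale` underlying an object of `Over U`. -/
noncomputable def ofOver (Z : Over U) : U.left.Etale :=
  MorphismProperty.Over.mk ⊤ Z.hom.left
    (EtCoh.etaleMP.of_postcomp (W' := EtCoh.etaleMP) Z.hom.left U.hom U.prop (by
      have e : Z.hom.left ≫ U.hom = Z.left.hom := MorphismProperty.Over.w Z.hom
      rw [e]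
      exact Z.left.prop))

/-- `toOver (ofOver Z) ≅ Z`. -/
noncomputable def toOverOfOverIso (Z : Over U) : (toOver U).obj (ofOver U Z) ≅ Z :=
  Over.isoMk (MorphismProperty.Over.isoMk (Iso.refl _) (by
    have e : Z.hom.left ≫ U.hom = Z.left.hom := MorphismProperty.Over.w Z.hom
    exact (Category.id_comp _).trans e.symm)) (by
    apply MorphismProperty.Over.Hom.ext
    exact Category.id_comp _)

instance essSurj_toOver : (toOver U).EssSurj where
  mem_essImage Z := ⟨ofOver U Z, ⟨toOverOfOverIso U Z⟩⟩

instance isEquivalence_toOver : (toOver U).IsEquivalence where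

section topology

/-- Morphisms of étale `X`-schemes are étale. -/
theorem etale_left {V W : X.Etale} (g : V ⟶ W) : Etale g.left :=
  EtCoh.etaleMP.of_postcomp (W' := EtCoh.etaleMP) g.left W.hom W.prop (by
    have e : g.left ≫ W.hom = V.hom := MorphismProperty.Over.w g
    rw [e]
    exact V.prop)

set_option backward.isDefEq.respectTransparency.types false in
/-- A sieve of the small étale site is covering iff it is jointly surjective on points. -/
theorem mem_smallEtaleTopology_iff {W : X.Etale} (S : Sieve W) :
    S ∈ X.smallEtaleTopology W ↔
      ∀ x : W.left, ∃ (V : X.Etale) (g : V ⟶ W) (v : V.left), S g ∧ g.left v = x := by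
  have eX : X.smallEtaleTopology =
      (X.smallPretopology (P := EtCoh.etaleMP) (Q := EtCoh.etaleMP)).toGrothendieck :=
    Scheme.smallGrothendieckTopology_eq_toGrothendieck_smallPretopology X le_rfl
  rw [eX]
  constructor
  · intro h x
    obtain ⟨V, g, v, hg, -, hv⟩ := (Scheme.mem_toGrothendieck_smallPretopology W S).1 h x
    exact ⟨V, g, v, hg, hv⟩
  · intro h
    refine (Scheme.mem_toGrothendieck_smallPretopology W S).2 fun x => ?_
    obtain ⟨V, g, v, hg, hv⟩ := h x
    exact ⟨V, g, v, hg, etale_left g, hv⟩

theorem functorPushforward_compEtale_mem_iff {U' : Scheme.{u}} (j : U' ⟶ X) [Etale j]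
    {W : U'.Etale} (S : Sieve W) :
    S.functorPushforward (EtShriek.compEtale j) ∈
      X.smallEtaleTopology ((EtShriek.compEtale j).obj W) ↔ S ∈ U'.smallEtaleTopology W := by
  rw [mem_smallEtaleTopology_iff, mem_smallEtaleTopology_iff]
  constructor
  · intro h x
    obtain ⟨V, g, v, hg, hv⟩ := h x
    obtain ⟨W'', s, t, hs, rfl⟩ := hg
    refine ⟨W'', s, t.left v, hs, ?_⟩
    exact hv
  · intro h x
    obtain ⟨V, g, v, hg, hv⟩ := h x
    exact ⟨_, (EtShriek.compEtale j).map g, v, Sieve.image_mem_functorPushforward _ _ hg, hv⟩

instance isDenseSubsite_toOver :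
    (toOver U).IsDenseSubsite U.left.smallEtaleTopology (X.smallEtaleTopology.over U) where
  functorPushforward_mem_iff {W S} := by
    rw [GrothendieckTopology.mem_over_iff]
    have e : Sieve.overEquiv ((toOver U).obj W) (S.functorPushforward (toOver U)) =
        S.functorPushforward (EtShriek.compEtale (homX U)) :=
      (Sieve.functorPushforward_comp (toOver U) (Over.forget U) S).symm
    rw [e]
    exact functorPushforward_compEtale_mem_iff (homX U) S

end topology

end Groth.Agent.Lib.EtOverSite22
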