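import Groth.Agent.Lib.EtOverSite22a

/-!
# Constant sheaves on the over-site of an étale `X`-scheme (helper22)

For a sheaf `F` on the small étale site of `X` with values in `A` and `U : X.Etale`:
`F.over U` is isomorphic to the constant sheaf with value `M` on the over-site iff the restriction
of `F` along `compEtale U.hom` is isomorphic to the constant sheaf with value `M` on `U.left`.
-/

set_option autoImplicit false
set_option linter.style.haveILetI false
universe u

open CategoryTheory AlgebraicGeometry Limits MorphismProperty Opposite

namespace Groth.Agent.Lib.EtOverSite22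

variable {X : Scheme.{u}} (U : X.Etale)

instance jCont_homX : (EtShriek.compEtale (homX U)).IsContinuous U.left.smallEtaleTopology
    X.smallEtaleTopology := Groth.Agent.Lib.EtJCont.jCont (homX U)

variable (A : Type (u + 2)) [Category.{u + 1} A]
  [HasWeakSheafify U.left.smallEtaleTopology A]
  [HasWeakSheafify (X.smallEtaleTopology.over U) A]
  [∀ W, HasLimitsOfShape (StructuredArrow W (toOver U).op) A]

/-- The terminal object of `U.left.Etale`. -/
noncomputable def topIsTerminal' (Y : Scheme.{u}) : IsTerminal (EtCoh.top Y) :=
  IsTerminal.isTerminalOfObj (Scheme.Etale.forget Y) (EtCoh.top Y) Over.mkIdTerminal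

/-- `toOver U` sends the terminal object to a terminal object. -/
noncomputable def toOverTopIsTerminal : IsTerminal ((toOver U).obj (EtCoh.top U.left)) :=
  IsTerminal.isTerminalObj (toOver U) _ (topIsTerminal' U.left)

/-- Restriction along `compEtale U.hom`, with general coefficients. -/
noncomputable abbrev restrAlongA :
    Sheaf X.smallEtaleTopology A ⥤ Sheaf U.left.smallEtaleTopology A :=
  (EtShriek.compEtale (homX U)).sheafPushforwardContinuous A U.left.smallEtaleTopology
    X.smallEtaleTopology

/-- Transport of sheaves on the over-site to sheaves on `U.left`. -/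
noncomputable abbrev overToEt :
    Sheaf (X.smallEtaleTopology.over U) A ⥤ Sheaf U.left.smallEtaleTopology A :=
  (toOver U).sheafPushforwardContinuous A U.left.smallEtaleTopology (X.smallEtaleTopology.over U)

/-- `(F.over U)` transported to `U.left` is the restriction of `F`. -/
noncomputable def overToEtOverIso (F : Sheaf X.smallEtaleTopology A) :
    (overToEt U A).obj (F.over U) ≅ (restrAlongA U A).obj F :=
  (sheafToPresheaf _ _).preimageIso (Iso.refl _)

/-- Constant sheaves on the over-site correspond to constant sheaves on `U.left`. -/
noncomputable def overToEtConstIso (M : A) :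
    (overToEt U A).obj ((constantSheaf (X.smallEtaleTopology.over U) A).obj M) ≅
      (constantSheaf U.left.smallEtaleTopology A).obj M :=
  ((equivCommuteConstant' U.left.smallEtaleTopology A (X.smallEtaleTopology.over U) (toOver U)
    (topIsTerminal' U.left) (toOverTopIsTerminal U)).app M).symm

instance isEquivalence_overToEt : (overToEt U A).IsEquivalence :=
  inferInstanceAs ((Functor.IsDenseSubsite.sheafEquiv U.left.smallEtaleTopology
    (X.smallEtaleTopology.over U) (toOver U) A).inverse.IsEquivalence)

/-- `F.over U` is constant with value `M` iff the restriction of `F` to `U.left` is. -/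
theorem nonempty_over_iso_const_iff (F : Sheaf X.smallEtaleTopology A) (M : A) :
    Nonempty (F.over U ≅ (constantSheaf (X.smallEtaleTopology.over U) A).obj M) ↔
      Nonempty ((restrAlongA U A).obj F ≅ (constantSheaf U.left.smallEtaleTopology A).obj M) := by
  constructor
  · rintro ⟨α⟩
    exact ⟨(overToEtOverIso U A F).symm ≪≫ (overToEt U A).mapIso α ≪≫ overToEtConstIso U A M⟩
  · rintro ⟨β⟩
    exact ⟨(overToEt U A).preimageIso
      (overToEtOverIso U A F ≪≫ β ≪≫ (overToEtConstIso U A M).symm)⟩

end Groth.Agent.Lib.EtOverSite22
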