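import Groth.Agent.Lib.EtOverSite22b

/-!
# Pullback of étale sheaves with general coefficients (helper22)

For a coefficient category `A` (for instance abelian groups or `Λ`-modules, one universe up):
`pullA`, `pushA`, `pullPushAdjA`, `pullConstIsoA` (pullback of a constant sheaf is constant),
`pullCompA`, `pullCongrA`, `pullIsoRestrA` (pullback along an étale morphism is restriction) and
`nonempty_over_iso_const_iff_pull`.
-/

set_option autoImplicit false
set_option linter.style.haveILetI false
universe u

open CategoryTheory AlgebraicGeometry Limits MorphismProperty Opposite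

namespace Groth.Agent.Lib.EtOverSite22

variable (A : Type (u + 2)) [Category.{u + 1} A]

section pull

variable {X Y Z : Scheme.{u}} (f : X ⟶ Y) (g : Y ⟶ Z)

/-- Direct image with coefficients in `A`. -/
noncomputable abbrev pushA : Sheaf X.smallEtaleTopology A ⥤ Sheaf Y.smallEtaleTopology A :=
  (EtCoh.bc f).sheafPushforwardContinuous A Y.smallEtaleTopology X.smallEtaleTopology

variable [∀ {X Y : Scheme.{u}} (f : X ⟶ Y), (pushA A f).IsRightAdjoint]

/-- Inverse image with coefficients in `A`. -/
noncomputable abbrev pullA : Sheaf Y.smallEtaleTopology A ⥤ Sheaf X.smallEtaleTopology A :=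
  (EtCoh.bc f).sheafPullback A Y.smallEtaleTopology X.smallEtaleTopology

/-- The adjunction `f⁻¹ ⊣ f_*`. -/
noncomputable abbrev pullPushAdjA : pullA A f ⊣ pushA A f :=
  (EtCoh.bc f).sheafAdjunctionContinuous A Y.smallEtaleTopology X.smallEtaleTopology

set_option backward.isDefEq.respectTransparency.types false in
/-- Direct images compose. -/
noncomputable def pushCompA : pushA A f ⋙ pushA A g ≅ pushA A (f ≫ g) :=
  Functor.sheafPushforwardContinuousComp' (F := EtCoh.bc g) (G := EtCoh.bc f)
    (FG := EtCoh.bc (f ≫ g))
    ((MorphismProperty.Over.pullbackComp (P := EtCoh.etaleMP) (Q := ⊤) f g).symm :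
      EtCoh.bc g ⋙ EtCoh.bc f ≅ EtCoh.bc (f ≫ g))
    A Z.smallEtaleTopology Y.smallEtaleTopology X.smallEtaleTopology

/-- Inverse images compose. -/
noncomputable def pullCompA : pullA A (f ≫ g) ≅ pullA A g ⋙ pullA A f :=
  Adjunction.leftAdjointUniq (pullPushAdjA A (f ≫ g))
    (((pullPushAdjA A g).comp (pullPushAdjA A f)).ofNatIsoRight (pushCompA A f g))

/-- Transport of inverse image along an equality of morphisms. -/
noncomputable def pullCongrA {f f' : X ⟶ Y} (h : f = f') : pullA A f ≅ pullA A f' :=
  eqToIso (by rw [h])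

end pull

section const

variable {X Y : Scheme.{u}} (f : X ⟶ Y)
variable [∀ {X Y : Scheme.{u}} (f : X ⟶ Y), (pushA A f).IsRightAdjoint]
  [∀ (Y : Scheme.{u}), HasWeakSheafify Y.smallEtaleTopology A]

/-- Global sections. -/
noncomputable abbrev gsecA (X : Scheme.{u}) : Sheaf X.smallEtaleTopology A ⥤ A :=
  (sheafSections X.smallEtaleTopology A).obj (op (EtCoh.top X))

/-- The constant sheaf functor is left adjoint to global sections. -/
noncomputable abbrev constAdjA (X : Scheme.{u}) :
    constantSheaf X.smallEtaleTopology A ⊣ gsecA A X :=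
  constantSheafAdj X.smallEtaleTopology A (topIsTerminal' X)

/-- Base change of the terminal object is terminal. -/
noncomputable def bcTopIsTerminal' : IsTerminal ((EtCoh.bc f).obj (EtCoh.top Y)) :=
  IsTerminal.isTerminalObj (EtCoh.bc f) (EtCoh.top Y) (topIsTerminal' Y)

/-- `(X ×_Y Y → X) ≅ (X = X)` in `X.Etale`. -/
noncomputable def bcTopIso' : (EtCoh.bc f).obj (EtCoh.top Y) ≅ EtCoh.top X :=
  IsTerminal.uniqueUpToIso (bcTopIsTerminal' f) (topIsTerminal' X)

/-- `f_*` followed by global sections on `Y` is global sections on `X`. -/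
noncomputable def pushGsecIsoA : pushA A f ⋙ gsecA A Y ≅ gsecA A X :=
  NatIso.ofComponents (fun F => F.obj.mapIso (bcTopIso' f).op.symm) (fun {F G} φ => by
    simp only [Functor.comp_map, Functor.mapIso_hom, Iso.symm_hom]
    exact (φ.hom.naturality _).symm)

/-- Pullback of a constant sheaf is constant. -/
noncomputable def pullConstIsoA :
    constantSheaf Y.smallEtaleTopology A ⋙ pullA A f ≅ constantSheaf X.smallEtaleTopology A :=
  Adjunction.leftAdjointUniq
    (((constAdjA A Y).comp (pullPushAdjA A f)).ofNatIsoRight (pushGsecIsoA A f)) (constAdjA A X)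

end const

section etale

variable {X : Scheme.{u}} (U : X.Etale)
variable [∀ {X Y : Scheme.{u}} (f : X ⟶ Y), (pushA A f).IsRightAdjoint]

/-- Restriction along an étale morphism is left adjoint to direct image. -/
noncomputable def restrPushAdjA : restrAlongA U A ⊣ pushA A (homX U) :=
  (Groth.Agent.Lib.EtRestr.siteAdj (homX U)).sheafPushforwardContinuous (E := A)
    U.left.smallEtaleTopology X.smallEtaleTopology

/-- Inverse image along an étale morphism is restriction. -/
noncomputable def pullIsoRestrA : pullA A (homX U) ≅ restrAlongA U A :=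
  Adjunction.leftAdjointUniq (pullPushAdjA A (homX U)) (restrPushAdjA A U)

variable [HasWeakSheafify U.left.smallEtaleTopology A]
  [HasWeakSheafify (X.smallEtaleTopology.over U) A]
  [∀ W, HasLimitsOfShape (StructuredArrow W (toOver U).op) A]

/-- `F.over U` is constant with value `M` iff the inverse image of `F` on `U.left` is. -/
theorem nonempty_over_iso_const_iff_pull (F : Sheaf X.smallEtaleTopology A) (M : A) :
    Nonempty (F.over U ≅ (constantSheaf (X.smallEtaleTopology.over U) A).obj M) ↔
      Nonempty ((pullA A (homX U)).obj F ≅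
        (constantSheaf U.left.smallEtaleTopology A).obj M) := by
  rw [nonempty_over_iso_const_iff U A F M]
  constructor
  · rintro ⟨α⟩
    exact ⟨(pullIsoRestrA A U).app F ≪≫ α⟩
  · rintro ⟨β⟩
    exact ⟨((pullIsoRestrA A U).app F).symm ≪≫ β⟩

end etale

end Groth.Agent.Lib.EtOverSite22
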