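import Groth.Agent.Lib.EtRpushTors95b

/-!
# Higher direct images of `P`-torsion étale sheaves along qcqs morphisms are `P`-torsion, for a
multiplicative submonoid `P` of `ℕ` (helper95; generalization of `EtRpushTors95`)
-/

set_option autoImplicit false
set_option linter.unusedSectionVars false

open CategoryTheory CategoryTheory.Limits AlgebraicGeometry Opposite Abelian

universe w u

namespace Groth.Agent.Lib.EtPTors95

open Groth.Agent.Lib.EtTorsion95 Groth.Agent.Lib.EtQcqs95 Groth.Agent.Lib.EtRpushTors95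

variable (P : Submonoid ℕ)

/-- an element of an additive group is killed by an element of `P` -/
def PTors {M : Type*} [AddCommGroup M] (x : M) : Prop := ∃ m ∈ P, m • x = 0

lemma PTors.map {M N : Type*} [AddCommGroup M] [AddCommGroup N] (f : M →+ N) {x : M}
    (h : PTors P x) : PTors P (f x) := by
  obtain ⟨m, hm, hx⟩ := h
  exact ⟨m, hm, by rw [← map_nsmul, hx, map_zero]⟩

open Classical in
/-- a cofinal (for divisibility) sequence in `P` -/
noncomputable def seq (m : ℕ) : ℕ := ∏ k ∈ (Finset.range (m + 1)).filter (· ∈ P), k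

lemma seq_mem (m : ℕ) : seq P m ∈ P := by
  classical
  unfold seq
  exact Submonoid.prod_mem P (fun k hk => (Finset.mem_filter.1 hk).2)

lemma seq_dvd_succ (m : ℕ) : seq P m ∣ seq P (m + 1) := by
  classical
  unfold seq
  apply Finset.prod_dvd_prod_of_subset
  intro k hk
  rw [Finset.mem_filter, Finset.mem_range] at hk ⊢
  exact ⟨by omega, hk.2⟩

lemma dvd_seq {k : ℕ} (hk : k ∈ P) : k ∣ seq P k := by
  classical
  unfold seq
  exact Finset.dvd_prod_of_mem _ (Finset.mem_filter.2 ⟨Finset.mem_range.2 (by omega), hk⟩)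

lemma PTors.exists_seq {M : Type*} [AddCommGroup M] {x : M} (h : PTors P x) :
    ∃ m : ℕ, seq P m • x = 0 := by
  obtain ⟨k, hk, hx⟩ := h
  obtain ⟨c, hc⟩ := dvd_seq P hk
  exact ⟨k, by rw [hc, mul_nsmul, hx, nsmul_zero]⟩

section Small

variable {C : Type w} [SmallCategory C] [HasPullbacks C] {J : GrothendieckTopology C}

variable (G : Sheaf J AddCommGrpCat.{w})

/-- the `seq P m`-torsion subsheaf -/
noncomputable abbrev tors (m : ℕ) : Sheaf J AddCommGrpCat.{w} := kernel (seq P m • 𝟙 G)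

lemma tors_condition (m : ℕ) : kernel.ι (seq P m • 𝟙 G) ≫ (seq P (m + 1) • 𝟙 G) = 0 := by
  obtain ⟨c, hc⟩ := seq_dvd_succ P m
  rw [hc, mul_nsmul, Preadditive.comp_nsmul, kernel.condition, nsmul_zero]

/-- the transition maps -/
noncomputable def torsMap (m : ℕ) : tors P G m ⟶ tors P G (m + 1) :=
  kernel.lift _ (kernel.ι _) (tors_condition P G m)

/-- the diagram of torsion subsheaves -/
noncomputable def torsDiagram : ℕ ⥤ Sheaf J AddCommGrpCat.{w} :=
  Functor.ofSequence (torsMap P G)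

/-- the cocone of torsion subsheaves -/
noncomputable def torsCocone : Cocone (torsDiagram P G) where
  pt := G
  ι := NatTrans.ofSequence (fun m => kernel.ι (seq P m • 𝟙 G)) (by
    intro m
    simp only [torsDiagram, Functor.ofSequence_map_homOfLE_succ, Functor.const_obj_obj,
      Functor.const_obj_map, Category.comp_id]
    exact kernel.lift_ι _ _ _)

lemma nsmul_tors (m : ℕ) : seq P m • 𝟙 (tors P G m) = 0 := by
  rw [← cancel_mono (kernel.ι (seq P m • 𝟙 G)), Preadditive.nsmul_comp, Category.id_comp,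
    zero_comp]
  have := kernel.condition (seq P m • 𝟙 G)
  rwa [Preadditive.comp_nsmul, Category.comp_id] at this

/-- every section is locally killed by an element of `P` -/
def LocallyPTorsion : Prop :=
  ∀ (V : C) (s : G.obj.obj (op V)), ∃ T ∈ J V, ∀ (W : C) (g : W ⟶ V), T g →
    PTors P (G.obj.map g.op s)

theorem nonempty_isColimit_torsCocone (hG : LocallyPTorsion P G) :
    Nonempty (IsColimit ((torsCocone P G).whisker
      (AsSmall.down.{0, 0, w} : AsSmall.{w} ℕ ⥤ ℕ))) := by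
  refine Groth.Agent.Lib.FiltColimRecog.isColimit_of_locally _ _ ?_ ?_
  · intro i V t ht
    refine ⟨i, 𝟙 i, ?_⟩
    have := injective_of_mono (kernel.ι (seq P (AsSmall.down.obj i) • 𝟙 G)) V
    rw [CategoryTheory.Functor.map_id]
    exact this (ht.trans (map_zero _).symm)
  · intro V s
    obtain ⟨T, hT, hT'⟩ := hG V s
    refine ⟨T, hT, fun W g hg => ?_⟩
    obtain ⟨m, h0⟩ := (hT' W g hg).exists_seq
    obtain ⟨t, ht⟩ := exists_kernel_section (seq P m • 𝟙 G) W (G.obj.map g.op s) (by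
      rw [nsmul_hom_app, h0])
    exact ⟨AsSmall.up.obj m, t, ht⟩

theorem pTors_ext (hG : LocallyPTorsion P G) (n : ℕ)
    (M : Sheaf J AddCommGrpCat.{w})
    (hH : PreservesColimitsOfShape (AsSmall.{w} ℕ) (extFunctorObj.{w} M n))
    (x : Ext.{w} M G n) : PTors P x := by
  obtain ⟨hc⟩ := nonempty_isColimit_torsCocone P G hG
  have hc' := isColimitOfPreserves (extFunctorObj.{w} M n) hc
  obtain ⟨i, y, hy⟩ := Concrete.isColimit_exists_rep _ hc'
    (show ((extFunctorObj.{w} M n).obj G : AddCommGrpCat.{w}) from x)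
  obtain ⟨m, rfl⟩ : ∃ m : ℕ, AsSmall.up.obj m = i := ⟨AsSmall.down.obj i, rfl⟩
  obtain ⟨y', rfl⟩ : ∃ y' : Ext.{w} M (tors P G m) n, y' = y := ⟨y, rfl⟩
  have h0 : seq P m • y' = 0 := nsmul_ext_eq_zero _ (nsmul_tors P G m) n y'
  have hy' : (Ext.mk₀ (kernel.ι (seq P m • 𝟙 G))).postcomp M (add_zero n) y' = x := hy
  refine ⟨seq P m, seq_mem P m, ?_⟩
  rw [← hy', ← map_nsmul, h0, map_zero]

end Small

section Etale

/-- an abelian étale sheaf is `P`-torsion: every section is étale-locally killed by an element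
of `P` -/
def IsPTorsion {X : Scheme.{u}} (F : EtCoh.Ab X) : Prop :=
  ∀ (U : X.Etale) (s : EtCoh.sect F U) (x : U.left), ∃ (V : X.Etale) (g : V ⟶ U),
    (∃ v : V.left, g.left.base v = x) ∧ PTors P (F.obj.map g.op s)

variable (X : Scheme.{u})

set_option backward.isDefEq.respectTransparency.types false in
lemma locallyPTorsion_Ψ₁ (F : EtCoh.Ab X) (hF : IsPTorsion P F) :
    LocallyPTorsion P ((Ψ₁ X).obj F) := by
  intro V₀ s
  let T : Sieve V₀ :=
    { arrows := fun W g => PTors P (((Ψ₁ X).obj F).obj.map g.op s)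
      downward_closed := by
        intro Y Z f hf g
        have : ((Ψ₁ X).obj F).obj.map (g ≫ f).op s =
            ((Ψ₁ X).obj F).obj.map g.op (((Ψ₁ X).obj F).obj.map f.op s) := by
          rw [op_comp, Functor.map_comp]; rfl
        rw [this]
        exact PTors.map P (((Ψ₁ X).obj F).obj.map g.op).hom hf }
  refine ⟨T, ?_, fun W g hg => hg⟩
  rw [Functor.mem_inducedTopology_iff_of_isCoverDense, mem_smallEtaleTopology_iff]
  intro x
  obtain ⟨V, g, ⟨v, hv⟩, hfin⟩ := hF ((G₁ X).obj V₀) s x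
  have hcd := Functor.IsCoverDense.is_cover (G := G₁ X) (K := X.smallEtaleTopology) V
  rw [mem_smallEtaleTopology_iff] at hcd
  obtain ⟨Y, f, y, ⟨⟨W, lift, map, fac⟩⟩, hy⟩ := hcd v
  let g' := (G₁ X).preimage (map ≫ g)
  have hg' : (G₁ X).map g' = map ≫ g := (G₁ X).map_preimage _
  refine ⟨(G₁ X).obj W, (G₁ X).map g', lift.left y, ⟨W, g', 𝟙 _, ?_, by simp⟩, ?_⟩
  · show PTors P (F.obj.map ((G₁ X).map g').op s)
    rw [hg', op_comp, Functor.map_comp]
    exact PTors.map P (F.obj.map map.op).hom hfin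
  · rw [hg', ← hv, ← hy, ← fac]
    rfl

open Groth.Agent.Lib.SiteCoh in
/-- `Ext` groups from the sheaf representing sections over a qcqs étale `X`-scheme to a `P`-torsion
sheaf are `P`-torsion. -/
theorem pTors_ext_M₁ (F : EtCoh.Ab X) (hF : IsPTorsion P F) (U : C₁ X) (n : ℕ)
    (x : Ext.{u + 1} (M₁ X U) F n) : PTors P x := by
  have : IsFiltered (AsSmall.{u + 1} ℕ) := IsFiltered.of_equivalence AsSmall.equiv.{0, 0, u + 1}
  have hH : PreservesColimitsOfShape (AsSmall.{u + 1} ℕ)
      (extFunctorObj.{u + 1} (freeYoneda (J₁ X) U) n) := by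
    have := preservesColimitsOfShape_H_J₁ X U n (AsSmall.{u + 1} ℕ)
    let i : (Sheaf.cohomologyPresheafFunctor.{u + 1} (J₁ X) n).flip.obj (op U) ≅
        extFunctorObj.{u + 1} (freeYoneda (J₁ X) U) n :=
      NatIso.ofComponents (fun F => Iso.refl _) (by
        intro F G f
        rfl)
    exact preservesColimitsOfShape_of_natIso i
  let e1 := (extFunctorObjIso.{u + 1} (Ψ₁ X) (M₁ X U) n).app F
  let e2 := ((extFunctor.{u + 1} n).mapIso (M₁Iso X U).symm.op).app ((Ψ₁ X).obj F)
  let e := e1 ≪≫ e2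
  obtain ⟨x', rfl⟩ : ∃ x' : ((extFunctorObj.{u + 1} (M₁ X U) n).obj F : AddCommGrpCat.{u + 1}),
    x' = x := ⟨x, rfl⟩
  have hx' : PTors P (e.hom x') :=
    pTors_ext P ((Ψ₁ X).obj F) (locallyPTorsion_Ψ₁ P X F hF) n _ hH _
  have h1 : x' = e.inv (e.hom x') := by
    rw [← ConcreteCategory.comp_apply, e.hom_inv_id, ConcreteCategory.id_apply]
  rw [h1]
  exact PTors.map P e.inv.hom hx'

/-- a cocycle of positive degree over a qcqs étale `X`-scheme in an injective resolution of a
`P`-torsion sheaf has a multiple by an element of `P` which is a coboundary. -/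
theorem exists_nsmul_lift (F : EtCoh.Ab X) (hF : IsPTorsion P F) (I : InjectiveResolution F)
    (U : C₁ X) (n : ℕ) (z : (I.cocomplex.X (n + 1)).obj.obj (op ((G₁ X).obj U)))
    (hz : (I.cocomplex.d (n + 1) (n + 2)).hom.app (op ((G₁ X).obj U)) z = 0) :
    ∃ k ∈ P, ∃ w : (I.cocomplex.X n).obj.obj (op ((G₁ X).obj U)),
      (I.cocomplex.d n (n + 1)).hom.app (op ((G₁ X).obj U)) w = k • z := by
  have hzz : (homEquiv₁ X U _).symm z ≫ I.cocomplex.d (n + 1) (n + 2) = 0 := by
    rw [homEquiv₁_symm_comp, hz, homEquiv₁_symm_zero]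
  obtain ⟨k, hk, hkx⟩ := pTors_ext_M₁ P X F hF U (n + 1) (I.extMk _ (n + 2) rfl hzz)
  rw [nsmul_extMk] at hkx
  obtain ⟨g, hg⟩ := (I.extMk_eq_zero_iff _ (n + 2) rfl _ n rfl).1 hkx
  refine ⟨k, hk, homEquiv₁ X U _ g, ?_⟩
  rw [← homEquiv₁_comp, hg]
  apply (homEquiv₁ X U _).symm.injective
  rw [Equiv.symm_apply_apply, homEquiv₁_symm_nsmul]

/-- a cocycle of degree zero over a qcqs étale `X`-scheme in an injective resolution of a
`P`-torsion sheaf is `P`-torsion. -/
theorem exists_nsmul_eq_zero (F : EtCoh.Ab X) (hF : IsPTorsion P F) (I : InjectiveResolution F)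
    (U : C₁ X) (z : (I.cocomplex.X 0).obj.obj (op ((G₁ X).obj U)))
    (hz : (I.cocomplex.d 0 1).hom.app (op ((G₁ X).obj U)) z = 0) :
    ∃ k ∈ P, k • z = 0 := by
  have hzz : (homEquiv₁ X U _).symm z ≫ I.cocomplex.d 0 1 = 0 := by
    rw [homEquiv₁_symm_comp, hz, homEquiv₁_symm_zero]
  obtain ⟨k, hk, hkx⟩ := pTors_ext_M₁ P X F hF U 0 (I.extMk _ 1 rfl hzz)
  rw [nsmul_extMk] at hkx
  have h0 := eq_zero_of_extMk_eq_zero I _ _ hkx
  refine ⟨k, hk, ?_⟩
  apply (homEquiv₁ X U _).symm.injective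
  rw [homEquiv₁_symm_nsmul, h0, homEquiv₁_symm_zero]

end Etale

section Homology

variable {Y : Scheme.{u}}

lemma isPTorsion_of_iso {G G' : EtCoh.Ab Y} (e : G ≅ G') (h : IsPTorsion P G) :
    IsPTorsion P G' := by
  intro U s x
  obtain ⟨V, g, hv, hfin⟩ := h U (e.inv.hom.app (op U) s) x
  refine ⟨V, g, hv, ?_⟩
  have h1 : G'.obj.map g.op s =
      e.hom.hom.app (op V) (G.obj.map g.op (e.inv.hom.app (op U) s)) := by
    have h2 := ConcreteCategory.congr_hom (e.hom.hom.naturality g.op) (e.inv.hom.app (op U) s)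
    simp only [ConcreteCategory.comp_apply] at h2
    rw [h2]
    have h3 : e.hom.hom.app (op U) (e.inv.hom.app (op U) s) = s := by
      have h4 := congrArg (fun φ => φ.hom.app (op U) s) e.inv_hom_id
      exact h4
    rw [h3]
  rw [h1]
  exact PTors.map P (e.hom.hom.app (op V)).hom hfin

set_option backward.isDefEq.respectTransparency.types false in
/-- the homology sheaf of a complex of abelian étale sheaves is `P`-torsion as soon as every
cocycle has, locally on the base, a multiple by an element of `P` which is a coboundary. -/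
theorem isPTorsion_homology (K : CochainComplex (EtCoh.Ab Y) ℕ) (n : ℕ)
    (h : ∀ (V : Y.Etale) (z : (K.X n).obj.obj (op V)) (y : V.left),
      (K.d n (n + 1)).hom.app (op V) z = 0 →
      ∃ (V' : Y.Etale) (g : V' ⟶ V), (∃ v : V'.left, g.left v = y) ∧ ∃ k ∈ P,
        ∃ (i : ℕ) (w : (K.X i).obj.obj (op V')),
          (K.d i n).hom.app (op V') w = k • (K.X n).obj.map g.op z) :
    IsPTorsion P (K.homology n) := by
  intro V s y
  obtain ⟨V', g, y', hy', t, ht⟩ := exists_local_lift (K.homologyπ n) V s y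
  have hz : (K.d n (n + 1)).hom.app (op V') ((K.iCycles n).hom.app (op V') t) = 0 := by
    have h1 := congrArg (fun φ => φ.hom.app (op V') t) (K.iCycles_d n (n + 1))
    exact h1
  obtain ⟨V'', g', ⟨v, hv⟩, k, hk, i, w, hw⟩ := h V' _ y' hz
  refine ⟨V'', g' ≫ g, ⟨v, ?_⟩, ?_⟩
  · rw [← hy', ← hv]
    rfl
  · refine ⟨k, hk, ?_⟩
    have e1 : (K.homology n).obj.map (g' ≫ g).op s =
        (K.homologyπ n).hom.app (op V'') ((K.cycles n).obj.map g'.op t) := by
      rw [naturality_app, ht, op_comp, Functor.map_comp]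
      rfl
    have e2 : k • (K.cycles n).obj.map g'.op t = (K.toCycles i n).hom.app (op V'') w := by
      apply injective_of_mono' (K.iCycles n) V''
      have h3 : (K.iCycles n).hom.app (op V'') ((K.toCycles i n).hom.app (op V'') w) =
          (K.d i n).hom.app (op V'') w :=
        congrArg (fun φ => φ.hom.app (op V'') w) (K.toCycles_i i n)
      rw [h3, hw, hom_nsmul_app, naturality_app]
    have e3 : (K.homologyπ n).hom.app (op V'') ((K.toCycles i n).hom.app (op V'') w) = 0 :=
      congrArg (fun φ => φ.hom.app (op V'') w) (K.toCycles_comp_homologyπ i n)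
    rw [e1, ← hom_nsmul_app, e2, e3]

end Homology

section Rpush

variable {X Y : Scheme.{u}} (f : X ⟶ Y)

set_option backward.isDefEq.respectTransparency.types false in
/-- higher direct images of a `P`-torsion abelian étale sheaf along a quasi-compact
quasi-separated morphism are `P`-torsion. -/
theorem isPTorsion_Rpush [QuasiCompact f] [QuasiSeparated f] [EtCoh.BCCont f] (F : EtCoh.Ab X)
    (hF : IsPTorsion P F) (n : ℕ) : IsPTorsion P ((EtCoh.Rpush f n).obj F) := by
  let I : InjectiveResolution F := injectiveResolution F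
  refine isPTorsion_of_iso P (I.isoRightDerivedObj (EtCoh.push f) n).symm ?_
  refine isPTorsion_homology P (((EtCoh.push f).mapHomologicalComplex _).obj I.cocomplex) n ?_
  intro V z y hz
  obtain ⟨W, hWaff, hyW, -⟩ := TopologicalSpace.Opens.isBasis_iff_nbhd.1
    V.left.isBasis_affineOpens (show y ∈ (⊤ : V.left.Opens) from trivial)
  obtain ⟨W, rfl⟩ : ∃ W₁ : V.left.Opens, W₁ = W := ⟨W, rfl⟩
  have hWaff' : IsAffineOpen W := hWaff
  have : IsAffine (W : Scheme) := hWaff'
  let g : (W : Scheme) ⟶ Y := W.ι ≫ V.hom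
  have hg : Etale g := inferInstanceAs (Etale (W.ι ≫ V.hom))
  let V' : Y.Etale := Scheme.Etale.mk g
  let j : V' ⟶ V := MorphismProperty.Over.homMk W.ι rfl
  have : IsAffine V'.left := this
  have hU : P₁ X ((EtCoh.bc f).obj V') := p₁_bc f V'
  refine ⟨V', j, ⟨⟨y, hyW⟩, rfl⟩, ?_⟩
  have hz' : (I.cocomplex.d n (n + 1)).hom.app (op ((EtCoh.bc f).obj V'))
      ((I.cocomplex.X n).obj.map ((EtCoh.bc f).map j).op z) = 0 := by
    rw [naturality_app]
    have : (I.cocomplex.d n (n + 1)).hom.app (op ((EtCoh.bc f).obj V)) z = 0 := hz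
    rw [this, map_zero]
  cases n with
  | zero =>
    obtain ⟨k, hk, h0⟩ := exists_nsmul_eq_zero P X F hF I (mk₁ X _ hU) _ hz'
    refine ⟨k, hk, 0, 0, ?_⟩
    rw [map_zero]
    exact h0.symm
  | succ n =>
    obtain ⟨k, hk, w, hw⟩ := exists_nsmul_lift P X F hF I (mk₁ X _ hU) n _ hz'
    exact ⟨k, hk, n, w, hw⟩

end Rpush

end Groth.Agent.Lib.EtPTors95
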