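import Mathlib.CategoryTheory.Sites.Sheaf
import Mathlib.CategoryTheory.Sites.IsSheafFor
import Mathlib.CategoryTheory.Limits.Types.Filtered
import Mathlib.CategoryTheory.Limits.FunctorCategory.Basic
import Mathlib.CategoryTheory.Limits.Preserves.Basic
import Mathlib.CategoryTheory.Filtered.Basic
import Mathlib.Data.Fintype.Prod
import Mathlib.Data.Finite.Prod

/-!
# Filtered colimits of sheaves of sets on a site all of whose objects are quasi-compact

Universe-generic: `C : Type v` with `Category.{w} C`, sheaves valued in `Type t`, filtered index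
category `I : Type t`.  If `C` has pullbacks and every covering sieve of every object contains a finite
family generating a covering sieve, the objectwise colimit of a filtered diagram of sheaves is a sheaf,
hence `sheafToPresheaf J (Type t)` preserves colimits of shape `I`.
-/

set_option autoImplicit false
set_option linter.unusedSectionVars false

open CategoryTheory CategoryTheory.Limits Opposite

namespace Groth.Agent.Lib.QCSiteColim

universe t w v

section Filt

variable {I : Type t} [SmallCategory I] [IsFiltered I]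

/-- Finitely many properties of morphisms out of `i`, each stable under postcomposition and each
satisfied somewhere, are satisfied simultaneously. -/
lemma exists_common (i : I) {α : Type*} [Finite α] (P : α → ∀ j : I, (i ⟶ j) → Prop)
    (hP : ∀ a j (f : i ⟶ j), P a j f → ∀ k (g : j ⟶ k), P a k (f ≫ g))
    (h : ∀ a, ∃ j f, P a j f) : ∃ j f, ∀ a, P a j f := by
  classical
  have := Fintype.ofFinite α
  have key : ∀ s : Finset α, ∃ (j : I) (f : i ⟶ j), ∀ a ∈ s, P a j f := by
    intro s
    induction s using Finset.induction_on with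
    | empty => exact ⟨i, 𝟙 i, fun a ha => absurd ha (Finset.notMem_empty a)⟩
    | insert a s ha ih =>
      obtain ⟨j₁, f₁, h₁⟩ := ih
      obtain ⟨j₂, f₂, h₂⟩ := h a
      obtain ⟨k, e₁, e₂, he⟩ := IsFiltered.span f₁ f₂
      refine ⟨k, f₁ ≫ e₁, fun b hb => ?_⟩
      rcases Finset.mem_insert.1 hb with rfl | hb
      · rw [he]; exact hP _ _ _ h₂ _ _
      · exact hP _ _ _ (h₁ b hb) _ _
  obtain ⟨j, f, hjf⟩ := key Finset.univ
  exact ⟨j, f, fun a => hjf a (Finset.mem_univ a)⟩

lemma exists_common_stage {α : Type*} [Finite α] (i : α → I) : ∃ j : I, ∀ a, Nonempty (i a ⟶ j) := by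
  classical
  have := Fintype.ofFinite α
  obtain ⟨S, hS⟩ := IsFiltered.sup_objs_exists (Finset.univ.image i)
  exact ⟨S, fun a => hS (Finset.mem_image_of_mem i (Finset.mem_univ a))⟩

end Filt

variable {C : Type v} [Category.{w} C] (J : GrothendieckTopology C)

/-- Site-level quasi-compactness of an object. -/
def QC (X : C) : Prop :=
  ∀ S ∈ J X, ∃ (n : ℕ) (V : Fin n → C) (g : ∀ k, V k ⟶ X), (∀ k, S (g k)) ∧ Sieve.ofArrows V g ∈ J X

variable {I : Type t} [SmallCategory I] [IsFiltered I]
variable (D : I ⥤ Cᵒᵖ ⥤ Type t) {c : Cocone D} (hc : IsColimit c)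

/-- The evaluated cocone is a colimit. -/
noncomputable def evalIsColimit (U : Cᵒᵖ) :
    IsColimit (((evaluation Cᵒᵖ (Type t)).obj U).mapCocone c) :=
  isColimitOfPreserves _ hc

include hc in
lemma exists_rep (U : Cᵒᵖ) (x : c.pt.obj U) :
    ∃ (i : I) (y : (D.obj i).obj U), (c.ι.app i).app U y = x :=
  Types.jointly_surjective_of_isColimit (evalIsColimit D hc U) x

include hc in
lemma eq_of_ι_eq (U : Cᵒᵖ) {i : I} (y y' : (D.obj i).obj U)
    (h : (c.ι.app i).app U y = (c.ι.app i).app U y') :
    ∃ (j : I) (f : i ⟶ j), (D.map f).app U y = (D.map f).app U y' :=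
  (Types.FilteredColimit.isColimit_eq_iff' (evalIsColimit D hc U) y y').1 h

lemma ι_map {i j : I} (f : i ⟶ j) (U : Cᵒᵖ) (y : (D.obj i).obj U) :
    (c.ι.app j).app U ((D.map f).app U y) = (c.ι.app i).app U y := by
  exact ConcreteCategory.congr_hom (congr_app (c.w f) U) y

lemma ι_naturality (i : I) {U V : Cᵒᵖ} (g : U ⟶ V) (y : (D.obj i).obj U) :
    (c.ι.app i).app V ((D.obj i).map g y) = c.pt.map g ((c.ι.app i).app U y) :=
  ConcreteCategory.congr_hom ((c.ι.app i).naturality g) y

lemma map_naturality {i j : I} (f : i ⟶ j) {U V : Cᵒᵖ} (g : U ⟶ V) (y : (D.obj i).obj U) :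
    (D.map f).app V ((D.obj i).map g y) = (D.obj j).map g ((D.map f).app U y) :=
  ConcreteCategory.congr_hom ((D.map f).naturality g) y

lemma map_comp_app {i j k : I} (f : i ⟶ j) (g : j ⟶ k) (U : Cᵒᵖ) (y : (D.obj i).obj U) :
    (D.map (f ≫ g)).app U y = (D.map g).app U ((D.map f).app U y) := by
  rw [D.map_comp]; rfl

include hc in
lemma exists_rep_fin {α : Type*} [Finite α] (U : α → Cᵒᵖ) (x : ∀ a, c.pt.obj (U a)) :
    ∃ (i : I) (y : ∀ a, (D.obj i).obj (U a)), ∀ a, (c.ι.app i).app (U a) (y a) = x a := by
  choose i₀ y₀ h₀ using fun a => exists_rep D hc (U a) (x a)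
  obtain ⟨j, hj⟩ := exists_common_stage i₀
  refine ⟨j, fun a => (D.map (hj a).some).app (U a) (y₀ a), fun a => ?_⟩
  rw [ι_map, h₀]

variable {J}

include hc in
/-- The objectwise colimit is separated for every covering sieve. -/
lemma sep (hJ : ∀ X, QC J X) (hD : ∀ i, Presieve.IsSheaf J (D.obj i)) {X : C} (T : Sieve X)
    (hT : T ∈ J X) (x y : c.pt.obj (op X))
    (h : ∀ ⦃Y : C⦄ (f : Y ⟶ X), T f → c.pt.map f.op x = c.pt.map f.op y) : x = y := by
  obtain ⟨n, V, g, hg, hcov⟩ := hJ X T hT
  obtain ⟨i, ab, hab⟩ := exists_rep_fin D hc (fun _ : Fin 2 => op X) ![x, y]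
  have hx : (c.ι.app i).app (op X) (ab 0) = x := hab 0
  have hy : (c.ι.app i).app (op X) (ab 1) = y := hab 1
  obtain ⟨j, f, hf⟩ := exists_common i (α := Fin n)
    (fun k j f => (D.map f).app (op (V k)) ((D.obj i).map (g k).op (ab 0)) =
      (D.map f).app (op (V k)) ((D.obj i).map (g k).op (ab 1)))
    (by
      intro k j f e k' g'
      rw [map_comp_app, map_comp_app, e])
    (by
      intro k
      apply eq_of_ι_eq D hc
      rw [ι_naturality, ι_naturality, hx, hy]
      exact h (g k) (hg k))
  have key : (D.map f).app (op X) (ab 0) = (D.map f).app (op X) (ab 1) := by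
    refine ((hD j) _ hcov).isSeparatedFor.ext ?_
    intro Y m hm
    obtain ⟨k, m', rfl⟩ := (Sieve.mem_ofArrows_iff V g m).1 hm
    have e := hf k
    rw [map_naturality, map_naturality] at e
    rw [op_comp, Functor.map_comp]
    exact congrArg ((D.obj j).map m'.op) e
  rw [← hx, ← hy, ← ι_map D f, ← ι_map D f (op X) (ab 1), key]

include hc in
/-- On a site with pullbacks all of whose objects are quasi-compact, the objectwise colimit of a
filtered diagram of sheaves of sets is a sheaf. -/
theorem isSheaf_of_isColimit [HasPullbacks C] (hJ : ∀ X, QC J X)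
    (hD : ∀ i, Presieve.IsSheaf J (D.obj i)) : Presieve.IsSheaf J c.pt := by
  intro X S hS
  obtain ⟨n, V, g, hg, hcov⟩ := hJ X S hS
  intro x hx
  -- representatives of the restrictions to the generators at a common stage
  obtain ⟨i, a, ha⟩ := exists_rep_fin D hc (fun k : Fin n => op (V k)) (fun k => x (g k) (hg k))
  -- compatibility on fibre products at a later stage
  obtain ⟨j, f, hf⟩ := exists_common i (α := Fin n × Fin n)
    (fun kl j f => (D.map f).app (op (pullback (g kl.1) (g kl.2)))
        ((D.obj i).map (pullback.fst (g kl.1) (g kl.2)).op (a kl.1)) =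
      (D.map f).app (op (pullback (g kl.1) (g kl.2)))
        ((D.obj i).map (pullback.snd (g kl.1) (g kl.2)).op (a kl.2)))
    (by
      intro kl j f e k' g'
      rw [map_comp_app, map_comp_app, e])
    (by
      intro kl
      apply eq_of_ι_eq D hc
      rw [ι_naturality, ι_naturality, ha, ha]
      exact hx _ _ (hg _) (hg _) pullback.condition)
  -- glue at stage `j`
  have hsh : Presieve.IsSheafFor (D.obj j) (Presieve.ofArrows V g) := by
    rw [Presieve.isSheafFor_iff_generate]
    exact (hD j) _ hcov
  rw [Presieve.isSheafFor_arrows_iff_pullbacks] at hsh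
  obtain ⟨t, ht, -⟩ := hsh (fun k => (D.map f).app (op (V k)) (a k)) (by
    intro k l
    have e := hf (k, l)
    rw [map_naturality, map_naturality] at e
    exact e)
  have hz : ∀ k, c.pt.map (g k).op ((c.ι.app j).app (op X) t) = x (g k) (hg k) := by
    intro k
    rw [← ι_naturality, ht k, ι_map, ha k]
  have hamalg : x.IsAmalgamation ((c.ι.app j).app (op X) t) := by
    intro W m hm
    refine sep D hc hJ hD ((Sieve.ofArrows V g).pullback m) (J.pullback_stable m hcov) _ _ ?_
    intro W' h hh
    obtain ⟨k, m', e⟩ := (Sieve.mem_ofArrows_iff V g (h ≫ m)).1 hh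
    have e1 : c.pt.map h.op (c.pt.map m.op ((c.ι.app j).app (op X) t)) =
        c.pt.map m'.op (c.pt.map (g k).op ((c.ι.app j).app (op X) t)) := by
      have e' : m.op ≫ h.op = (g k).op ≫ m'.op := by
        rw [← op_comp, ← op_comp, e]
      rw [← Functor.map_comp_apply, ← Functor.map_comp_apply, e']
    rw [e1, hz k]
    exact hx m' h (hg k) hm e.symm
  refine ⟨(c.ι.app j).app (op X) t, hamalg, ?_⟩
  intro y hy
  refine sep D hc hJ hD S hS _ _ ?_
  intro Y m hm
  rw [hy m hm, hamalg m hm]

variable (J) in
/-- On a site with pullbacks all of whose objects are quasi-compact, filtered colimits of sheaves of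
sets are computed objectwise. -/
theorem preservesColimitsOfShape_sheafToPresheaf [HasPullbacks C] (hJ : ∀ X, QC J X)
    (I : Type t) [SmallCategory I] [IsFiltered I] :
    PreservesColimitsOfShape I (sheafToPresheaf J (Type t)) := by
  constructor
  intro K
  let c := colimit.cocone (K ⋙ sheafToPresheaf J (Type t))
  have hc : IsColimit c := colimit.isColimit _
  have hsh : Presheaf.IsSheaf J c.pt := by
    rw [isSheaf_iff_isSheaf_of_type]
    exact isSheaf_of_isColimit _ hc hJ
      (fun i => (isSheaf_iff_isSheaf_of_type _ _).1 (K.obj i).property)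
  let c' : Cocone K :=
    { pt := ⟨c.pt, hsh⟩
      ι := { app := fun i => ObjectProperty.homMk (c.ι.app i)
             naturality := fun i j f => by
              ext : 1
              exact c.ι.naturality f } }
  have hc' : IsColimit c' := isColimitOfReflects (sheafToPresheaf J (Type t)) hc
  exact preservesColimit_of_preserves_colimit_cocone hc' hc

end Groth.Agent.Lib.QCSiteColim
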