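import Mathlib.AlgebraicGeometry.Sites.Etale
import Mathlib.AlgebraicGeometry.Sites.Small
import Mathlib.AlgebraicGeometry.Morphisms.QuasiSeparated
import Mathlib.AlgebraicGeometry.Morphisms.UniversallyOpen
import Mathlib.AlgebraicGeometry.Morphisms.Etale
import Mathlib.CategoryTheory.Sites.DenseSubsite.SheafEquiv
import Mathlib.CategoryTheory.Sites.DenseSubsite.InducedTopology
import Groth.Agent.Lib.QCSiteColim

/-!
# The quasi-compact quasi-separated part of the small étale site (helper95)

For a quasi-compact quasi-separated scheme `X`, the étale `X`-schemes which are quasi-compact and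
quasi-separated over `X` form a dense subsite of the small étale site which has pullbacks and all
of whose objects are quasi-compact in the site sense.
-/

set_option autoImplicit false
set_option linter.unusedSectionVars false

open CategoryTheory CategoryTheory.Limits AlgebraicGeometry Opposite

universe u

namespace Groth.Agent.Lib.EtQcqs95

open Groth.Agent.Lib.QCSiteColim

variable {X : Scheme.{u}}

set_option backward.isDefEq.respectTransparency.types false in
/-- membership in the small étale topology, pointwise -/
lemma mem_smallEtaleTopology_iff (U : X.Etale) (R : Sieve U) :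
    R ∈ X.smallEtaleTopology U ↔
      ∀ x : U.left, ∃ (Y : X.Etale) (f : Y ⟶ U) (y : Y.left), R f ∧ f.left y = x := by
  have e : X.smallEtaleTopology =
      (X.smallPretopology (P := @Etale) (Q := @Etale)).toGrothendieck :=
    Scheme.smallGrothendieckTopology_eq_toGrothendieck_smallPretopology X le_rfl
  rw [e]
  constructor
  · intro h x
    obtain ⟨Y, f, y, hf, -, hy⟩ := (Scheme.mem_toGrothendieck_smallPretopology U R).1 h x
    exact ⟨Y, f, y, hf, hy⟩
  · intro h
    refine (Scheme.mem_toGrothendieck_smallPretopology U R).2 (fun x => ?_)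
    obtain ⟨Y, f, y, hf, hy⟩ := h x
    exact ⟨Y, f, y, hf, inferInstance, hy⟩

section Abstract

variable {D : Type*} [Category D] (G : D ⥤ X.Etale) [G.Full] [G.Faithful]

set_option backward.isDefEq.respectTransparency.types false in
/-- a fully faithful functor to the small étale site whose essential image contains the étale
`X`-schemes which are quasi-compact and quasi-separated over `X` is cover-dense. -/
lemma isCoverDense [QuasiSeparatedSpace X]
    (hsurj : ∀ U : X.Etale, QuasiCompact U.hom → QuasiSeparated U.hom →
      ∃ d : D, Nonempty (G.obj d ≅ U)) : G.IsCoverDense X.smallEtaleTopology where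
  is_cover U := by
    rw [mem_smallEtaleTopology_iff]
    intro x
    obtain ⟨V, hVaff, hxV, -⟩ := TopologicalSpace.Opens.isBasis_iff_nbhd.1
      U.left.isBasis_affineOpens (show x ∈ (⊤ : U.left.Opens) from trivial)
    obtain ⟨V, rfl⟩ : ∃ V₁ : U.left.Opens, V₁ = V := ⟨V, rfl⟩
    have hVaff' : IsAffineOpen V := hVaff
    have : IsAffine (V : Scheme) := hVaff'
    let g : (V : Scheme) ⟶ X := V.ι ≫ U.hom
    have hg : Etale g := inferInstanceAs (Etale (V.ι ≫ U.hom))
    let V' : X.Etale := Scheme.Etale.mk g
    let f : V' ⟶ U := MorphismProperty.Over.homMk V.ι rfl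
    have hc : CompactSpace ↥(V : Scheme) := inferInstance
    have hq : QuasiSeparatedSpace ↥(V : Scheme) := inferInstance
    obtain ⟨d, ⟨e⟩⟩ := hsurj V' (quasiCompact_of_compactSpace g)
      (QuasiSeparated.of_quasiSeparatedSpace g)
    refine ⟨V', f, ⟨x, hxV⟩, ?_, rfl⟩
    exact ⟨⟨d, e.inv, e.hom ≫ f, by simp⟩⟩

set_option backward.isDefEq.respectTransparency.types false in
/-- if all objects in the image are quasi-compact over the quasi-compact `X`, every object is
quasi-compact for the induced topology. -/
lemma qc_inducedTopology [CompactSpace X] [G.IsCoverDense X.smallEtaleTopology]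
    (hG : ∀ d : D, QuasiCompact (G.obj d).hom) (d : D) :
    QC (G.inducedTopology X.smallEtaleTopology) d := by
  classical
  intro S hS
  rw [Functor.mem_inducedTopology_iff_of_isCoverDense, mem_smallEtaleTopology_iff] at hS
  have key : ∀ x : (G.obj d).left, ∃ (W : D) (s : W ⟶ d), S s ∧ x ∈ Set.range (G.map s).left := by
    intro x
    obtain ⟨Y, f, y, ⟨W, s, h, hs, rfl⟩, rfl⟩ := hS x
    exact ⟨W, s, hs, ⟨h.left y, rfl⟩⟩
  choose W s hs hx using key
  have : CompactSpace (G.obj d).left :=
    @QuasiCompact.compactSpace_of_compactSpace (G.obj d).left X (G.obj d).hom (hG d) inferInstance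
  have hopen : ∀ x, IsOpen (Set.range (G.map (s x)).left) :=
    fun x => (G.map (s x)).left.isOpenMap.isOpen_range
  obtain ⟨t, ht⟩ := isCompact_univ.elim_finite_subcover
    (fun x => Set.range (G.map (s x)).left) hopen (fun x _ => Set.mem_iUnion.2 ⟨x, hx x⟩)
  let e : Fin t.card ≃ t := t.equivFin.symm
  refine ⟨t.card, fun k => W (e k), fun k => s (e k), fun k => hs _, ?_⟩
  rw [Functor.mem_inducedTopology_iff_of_isCoverDense, mem_smallEtaleTopology_iff]
  intro x
  obtain ⟨y, hy, z, rfl⟩ : ∃ y ∈ t, x ∈ Set.range (G.map (s y)).left := by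
    simpa using ht (Set.mem_univ x)
  refine ⟨G.obj (W y), G.map (s y), z, ?_, rfl⟩
  refine ⟨W y, s y, 𝟙 _, ?_, by simp⟩
  obtain ⟨k₀, hk₀⟩ : ∃ k₀, e k₀ = ⟨y, hy⟩ := ⟨e.symm _, e.apply_symm_apply _⟩
  have h1 := Sieve.ofArrows_mk (fun k => W (e k)) (fun k => s (e k)) k₀
  rw [hk₀] at h1
  exact h1

end Abstract

/-- étale, quasi-compact and quasi-separated morphisms -/
abbrev Qp : MorphismProperty Scheme.{u} := @Etale ⊓ (@QuasiCompact ⊓ @QuasiSeparated)

instance : (Qp.{u}).HasOfPostcompProperty Qp.{u} where
  of_postcomp f g hg hfg :=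
    ⟨MorphismProperty.of_postcomp (W := @Etale) (W' := @Etale) f g hg.1 hfg.1,
      @QuasiCompact.of_comp _ _ _ f g hfg.2.1 hg.2.2, @QuasiSeparated.of_comp _ _ _ f g hfg.2.2⟩

/-- the category of étale `X`-schemes which are quasi-compact and quasi-separated over `X` -/
abbrev Cq (X : Scheme.{u}) : Type (u + 1) := MorphismProperty.Over Qp.{u} ⊤ X

example (X : Scheme.{u}) : HasPullbacks (Cq X) := inferInstance

set_option backward.isDefEq.respectTransparency.types false in
/-- the inclusion into the small étale site -/
def Gq (X : Scheme.{u}) : Cq X ⥤ X.Etale :=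
  MorphismProperty.Over.changeProp X inf_le_left le_rfl

set_option backward.isDefEq.respectTransparency.types false in
instance (X : Scheme.{u}) : (Gq X).Full :=
  inferInstanceAs (MorphismProperty.Over.changeProp X inf_le_left le_rfl).Full

set_option backward.isDefEq.respectTransparency.types false in
instance (X : Scheme.{u}) : (Gq X).Faithful :=
  inferInstanceAs (MorphismProperty.Over.changeProp X inf_le_left le_rfl).Faithful

section Site

variable (X) [CompactSpace X] [QuasiSeparatedSpace X]

set_option backward.isDefEq.respectTransparency.types false in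
lemma gq_surj (U : X.Etale) (h1 : QuasiCompact U.hom) (h2 : QuasiSeparated U.hom) :
    ∃ d : Cq X, Nonempty ((Gq X).obj d ≅ U) :=
  ⟨MorphismProperty.Over.mk ⊤ U.hom ⟨U.prop, h1, h2⟩, ⟨Iso.refl _⟩⟩

instance : (Gq X).IsCoverDense X.smallEtaleTopology := isCoverDense (Gq X) (gq_surj X)

/-- the induced topology on the qcqs part of the small étale site -/
abbrev Jq : GrothendieckTopology (Cq X) := (Gq X).inducedTopology X.smallEtaleTopology

set_option backward.isDefEq.respectTransparency.types false in
lemma qc_Jq (d : Cq X) : QC (Jq X) d :=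
  qc_inducedTopology (Gq X) (fun d => d.prop.2.1) d

/-- sections over a qcqs étale `X`-scheme commute with filtered colimits of sheaves of sets. -/
theorem preservesColimitsOfShape_sections (d : Cq X) (I : Type (u + 1)) [SmallCategory I]
    [IsFiltered I] :
    PreservesColimitsOfShape I (sheafToPresheaf X.smallEtaleTopology (Type (u + 1)) ⋙
      (evaluation X.Etaleᵒᵖ (Type (u + 1))).obj (op ((Gq X).obj d))) := by
  have h1 : PreservesColimitsOfShape I (sheafToPresheaf (Jq X) (Type (u + 1))) :=
    preservesColimitsOfShape_sheafToPresheaf (Jq X) (qc_Jq X) I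
  let Φ := Functor.IsDenseSubsite.sheafEquiv (Jq X) X.smallEtaleTopology (Gq X) (Type (u + 1))
  let e : sheafToPresheaf X.smallEtaleTopology (Type (u + 1)) ⋙
      (evaluation X.Etaleᵒᵖ (Type (u + 1))).obj (op ((Gq X).obj d)) ≅
      Φ.inverse ⋙ sheafToPresheaf (Jq X) (Type (u + 1)) ⋙
        (evaluation (Cq X)ᵒᵖ (Type (u + 1))).obj (op d) :=
    NatIso.ofComponents (fun F => Iso.refl _) (by
      intro F F' f
      rfl)
  have h2 : PreservesColimitsOfShape I (Φ.inverse ⋙ sheafToPresheaf (Jq X) (Type (u + 1)) ⋙
      (evaluation (Cq X)ᵒᵖ (Type (u + 1))).obj (op d)) := inferInstance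
  exact preservesColimitsOfShape_of_natIso e.symm

end Site

end Groth.Agent.Lib.EtQcqs95
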