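import Groth.Agent.Lib.EtQcqs95b
import Mathlib.CategoryTheory.Limits.FullSubcategory

/-!
# The qcqs-source part of the small étale site of an arbitrary scheme (helper95)

For an arbitrary scheme `X`, the étale `X`-schemes whose underlying scheme is quasi-compact and
quasi-separated form a dense subsite of the small étale site, which has pullbacks and all of whose
objects are quasi-compact in the site sense.
-/

set_option autoImplicit false
set_option linter.unusedSectionVars false

open CategoryTheory CategoryTheory.Limits AlgebraicGeometry Opposite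

universe u

namespace Groth.Agent.Lib.EtQcqs95

open Groth.Agent.Lib.QCSiteColim

variable {X : Scheme.{u}}

section Abstract

variable {D : Type*} [Category D] (G : D ⥤ X.Etale) [G.Full] [G.Faithful]

set_option backward.isDefEq.respectTransparency.types false in
/-- a fully faithful functor to the small étale site whose essential image contains the étale
`X`-schemes with affine source is cover-dense. -/
lemma isCoverDense_of_affine
    (hsurj : ∀ U : X.Etale, IsAffine U.left → ∃ d : D, Nonempty (G.obj d ≅ U)) :
    G.IsCoverDense X.smallEtaleTopology where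
  is_cover U := by
    rw [mem_smallEtaleTopology_iff]
    intro x
    obtain ⟨V, hVaff, hxV, -⟩ := TopologicalSpace.Opens.isBasis_iff_nbhd.1
      U.left.isBasis_affineOpens (show x ∈ (⊤ : U.left.Opens) from trivial)
    obtain ⟨V, rfl⟩ : ∃ V₁ : U.left.Opens, V₁ = V := ⟨V, rfl⟩
    have hVaff' : IsAffineOpen V := hVaff
    have : IsAffine (V : Scheme) := hVaff'
    let g : (V : Scheme) ⟶ X := V.ι ≫ U.hom
    have hg : Etale g := inferInstanceAs (Etale (V.ι ≫ U.hom))
    let V' : X.Etale := Scheme.Etale.mk g
    let f : V' ⟶ U := MorphismProperty.Over.homMk V.ι rfl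
    obtain ⟨d, ⟨e⟩⟩ := hsurj V' this
    refine ⟨V', f, ⟨x, hxV⟩, ?_, rfl⟩
    exact ⟨⟨d, e.inv, e.hom ≫ f, by simp⟩⟩

set_option backward.isDefEq.respectTransparency.types false in
/-- if all objects in the image have quasi-compact source, every object is
quasi-compact for the induced topology. -/
lemma qc_inducedTopology_of_compact [G.IsCoverDense X.smallEtaleTopology]
    (hG : ∀ d : D, CompactSpace (G.obj d).left) (d : D) :
    QC (G.inducedTopology X.smallEtaleTopology) d := by
  classical
  intro S hS
  rw [Functor.mem_inducedTopology_iff_of_isCoverDense, mem_smallEtaleTopology_iff] at hS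
  have key : ∀ x : (G.obj d).left, ∃ (W : D) (s : W ⟶ d), S s ∧ x ∈ Set.range (G.map s).left := by
    intro x
    obtain ⟨Y, f, y, ⟨W, s, h, hs, rfl⟩, rfl⟩ := hS x
    exact ⟨W, s, hs, ⟨h.left y, rfl⟩⟩
  choose W s hs hx using key
  have : CompactSpace (G.obj d).left := hG d
  have hopen : ∀ x, IsOpen (Set.range (G.map (s x)).left) :=
    fun x => (G.map (s x)).left.isOpenMap.isOpen_range
  obtain ⟨t, ht⟩ := isCompact_univ.elim_finite_subcover
    (fun x => Set.range (G.map (s x)).left) hopen (fun x _ => Set.mem_iUnion.2 ⟨x, hx x⟩)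
  let e : Fin t.card ≃ t := t.equivFin.symm
  refine ⟨t.card, fun k => W (e k), fun k => s (e k), fun k => hs _, ?_⟩
  rw [Functor.mem_inducedTopology_iff_of_isCoverDense, mem_smallEtaleTopology_iff]
  intro x
  obtain ⟨y, hy, z, rfl⟩ : ∃ y ∈ t, x ∈ Set.range (G.map (s y)).left := by
    simpa using ht (Set.mem_univ x)
  refine ⟨G.obj (W y), G.map (s y), z, ?_, rfl⟩
  refine ⟨W y, s y, 𝟙 _, ?_, by simp⟩
  obtain ⟨k₀, hk₀⟩ : ∃ k₀, e k₀ = ⟨y, hy⟩ := ⟨e.symm _, e.apply_symm_apply _⟩
  have h1 := Sieve.ofArrows_mk (fun k => W (e k)) (fun k => s (e k)) k₀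
  rw [hk₀] at h1
  exact h1

end Abstract

/-- étale `X`-schemes whose underlying scheme is quasi-compact and quasi-separated -/
def P₁ (X : Scheme.{u}) : ObjectProperty X.Etale :=
  fun U => CompactSpace U.left ∧ QuasiSeparatedSpace U.left

set_option backward.isDefEq.respectTransparency.types false in
lemma p₁_of_isPullback {Z A B W : X.Etale} {p : Z ⟶ A} {q : Z ⟶ B} {f : A ⟶ W} {g : B ⟶ W}
    (sq : IsPullback p q f g) (hA : P₁ X A) (hB : P₁ X B) (hW : P₁ X W) : P₁ X Z := by
  have sq' := sq.map (Scheme.Etale.forget X ⋙ Over.forget X)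
  let e : Z.left ≅ pullback f.left g.left := sq'.isoPullback
  have := hA.1
  have := hA.2
  have := hB.1
  have := hB.2
  have := hW.2
  have h1 : CompactSpace ↥(pullback f.left g.left) :=
    QuasiCompact.compactSpace_of_compactSpace (pullback.snd f.left g.left)
  have h2 : QuasiSeparatedSpace ↥(pullback f.left g.left) :=
    quasiSeparatedSpace_of_quasiSeparated (pullback.snd f.left g.left)
  constructor
  · exact (e.hom.homeomorph).symm.compactSpace
  · exact quasiSeparatedSpace_of_quasiSeparated e.hom

instance : (P₁ X).IsClosedUnderLimitsOfShape WalkingCospan where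
  limitsOfShape_le := by
    rintro Z ⟨h⟩
    exact p₁_of_isPullback (IsPullback.of_isLimit_cone h.isLimit) (h.prop_diag_obj _)
      (h.prop_diag_obj _) (h.prop_diag_obj _)

/-- the category of étale `X`-schemes with qcqs source -/
abbrev D₁ (X : Scheme.{u}) : Type (u + 1) := (P₁ X).FullSubcategory

example (X : Scheme.{u}) : HasPullbacks (D₁ X) := inferInstance

section SmallSite

variable (X : Scheme.{u})

/-- a small model of the qcqs-source part of the small étale site -/
abbrev C₁ : Type (u + 1) := AsSmall.{u + 1} (D₁ X)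

/-- the equivalence with the small model -/
abbrev down₁ : C₁ X ⥤ D₁ X := AsSmall.down.{u, u + 1, u + 1}

/-- the equivalence with the small model -/
abbrev up₁ : D₁ X ⥤ C₁ X := AsSmall.up.{u, u + 1, u + 1}

instance : (down₁ X).IsEquivalence :=
  (AsSmall.equiv.{u, u + 1, u + 1} (C := D₁ X)).isEquivalence_inverse

instance : (up₁ X).IsEquivalence :=
  (AsSmall.equiv.{u, u + 1, u + 1} (C := D₁ X)).isEquivalence_functor

instance : HasPullbacks (C₁ X) :=
  Adjunction.hasLimitsOfShape_of_equivalence (down₁ X)

/-- the inclusion into the small étale site -/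
def G₁ : C₁ X ⥤ X.Etale := down₁ X ⋙ (P₁ X).ι

instance : (G₁ X).Full := by unfold G₁; infer_instance

instance : (G₁ X).Faithful := by unfold G₁; infer_instance

/-- the object of the small model attached to a qcqs-source étale `X`-scheme -/
def mk₁ (U : X.Etale) (hU : P₁ X U) : C₁ X := (up₁ X).obj ⟨U, hU⟩

lemma g₁_mk₁ (U : X.Etale) (hU : P₁ X U) : (G₁ X).obj (mk₁ X U hU) = U := rfl

lemma p₁_g₁ (d : C₁ X) : P₁ X ((G₁ X).obj d) := ((down₁ X).obj d).property

set_option backward.isDefEq.respectTransparency.types false in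
lemma g₁_surj (U : X.Etale) (h : IsAffine U.left) :
    ∃ d : C₁ X, Nonempty ((G₁ X).obj d ≅ U) :=
  ⟨mk₁ X U ⟨inferInstance, inferInstance⟩, ⟨Iso.refl _⟩⟩

instance : (G₁ X).IsCoverDense X.smallEtaleTopology := isCoverDense_of_affine (G₁ X) (g₁_surj X)

/-- the induced topology -/
abbrev J₁ : GrothendieckTopology (C₁ X) := (G₁ X).inducedTopology X.smallEtaleTopology

set_option backward.isDefEq.respectTransparency.types false in
lemma qc_J₁ (d : C₁ X) : QC (J₁ X) d :=
  qc_inducedTopology_of_compact (G₁ X) (fun d => (p₁_g₁ X d).1) d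

example : HasSheafify (J₁ X) AddCommGrpCat.{u + 1} := inferInstance
example : HasExt.{u + 1} (Sheaf (J₁ X) AddCommGrpCat.{u + 1}) := inferInstance

/-- restriction to the small qcqs-source site -/
noncomputable abbrev Ψ₁ : EtCoh.Ab X ⥤ Sheaf (J₁ X) AddCommGrpCat.{u + 1} :=
  (G₁ X).sheafPushforwardContinuous AddCommGrpCat.{u + 1} (J₁ X) X.smallEtaleTopology

instance : (Ψ₁ X).IsEquivalence := inferInstance

instance : (Ψ₁ X).Additive where

/-- `H^p(U, -)` commutes with filtered colimits on the small qcqs-source site. -/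
theorem preservesColimitsOfShape_H_J₁ (U : C₁ X) (p : ℕ) (I : Type (u + 1)) [SmallCategory I]
    [IsFiltered I] :
    PreservesColimitsOfShape I
      ((Sheaf.cohomologyPresheafFunctor.{u + 1} (J₁ X) p).flip.obj (op U)) :=
  Groth.Agent.Lib.QCSiteCoh95.preservesColimitsOfShape_H_of_qc.{u + 1} (qc_J₁ X) U p I

end SmallSite

end Groth.Agent.Lib.EtQcqs95
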