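import Mathlib
import Groth.Prelude.Def_EtRam

/-!
# Composita of local domains over a common local base, with a dominating valuation ring (helper76)

`B → W`, `B → V` flat local homomorphisms of local rings, `W`, `V` domains: there is a field `N`
receiving `W` and `V` (injectively, compatibly over `B`), generated by their images, and a
valuation subring of `N` dominating both `W` and `V`.
-/

set_option autoImplicit false
set_option linter.style.haveILetI false
universe u

open TensorProduct IsLocalRing

namespace Groth.Agent.Lib.EtRamComp76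

section Prime

variable {B W V : Type u} [CommRing B] [CommRing W] [CommRing V]
  [IsLocalRing B] [IsLocalRing W] [IsLocalRing V]
  [Algebra B W] [Algebra B V] [IsLocalHom (algebraMap B W)] [IsLocalHom (algebraMap B V)]

/-- a prime of `W ⊗[B] V` above both maximal ideals -/
theorem exists_prime_tensor :
    ∃ q : Ideal (W ⊗[B] V), q.IsPrime ∧
      (∀ w ∈ maximalIdeal W, w ⊗ₜ[B] (1 : V) ∈ q) ∧
      (∀ v ∈ maximalIdeal V, (1 : W) ⊗ₜ[B] v ∈ q) := by
  haveI : Nontrivial (ResidueField W ⊗[ResidueField B] ResidueField V) :=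
    Algebra.TensorProduct.nontrivial_of_algebraMap_injective_of_isDomain (ResidueField B)
      (ResidueField W) (ResidueField V)
      (algebraMap (ResidueField B) (ResidueField W)).injective
      (algebraMap (ResidueField B) (ResidueField V)).injective
  obtain ⟨m, hm⟩ := Ideal.exists_maximal (ResidueField W ⊗[ResidueField B] ResidueField V)
  let a : W →+* (ResidueField W ⊗[ResidueField B] ResidueField V) ⧸ m :=
    (Ideal.Quotient.mk m).comp
      ((Algebra.TensorProduct.includeLeftRingHom).comp (residue W))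
  let b : V →+* (ResidueField W ⊗[ResidueField B] ResidueField V) ⧸ m :=
    (Ideal.Quotient.mk m).comp
      ((Algebra.TensorProduct.includeRight :
        ResidueField V →ₐ[ResidueField B] ResidueField W ⊗[ResidueField B] ResidueField V).toRingHom.comp
        (residue V))
  have hab : ∀ x : B, a (algebraMap B W x) = b (algebraMap B V x) := by
    intro x
    simp only [a, b, RingHom.comp_apply]
    congr 1
    change (residue W (algebraMap B W x)) ⊗ₜ[ResidueField B] (1 : ResidueField V) =
      (1 : ResidueField W) ⊗ₜ[ResidueField B] (residue V (algebraMap B V x))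
    rw [← IsLocalRing.ResidueField.algebraMap_residue, ← IsLocalRing.ResidueField.algebraMap_residue, Algebra.algebraMap_eq_smul_one,
      Algebra.algebraMap_eq_smul_one (A := ResidueField V), TensorProduct.smul_tmul]
  letI : Algebra B ((ResidueField W ⊗[ResidueField B] ResidueField V) ⧸ m) :=
    (a.comp (algebraMap B W)).toAlgebra
  let aₐ : W →ₐ[B] (ResidueField W ⊗[ResidueField B] ResidueField V) ⧸ m :=
    { a with commutes' := fun _ => rfl }
  let bₐ : V →ₐ[B] (ResidueField W ⊗[ResidueField B] ResidueField V) ⧸ m :=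
    { b with commutes' := fun x => (hab x).symm }
  let ψ : W ⊗[B] V →ₐ[B] (ResidueField W ⊗[ResidueField B] ResidueField V) ⧸ m :=
    Algebra.TensorProduct.productMap aₐ bₐ
  haveI : (RingHom.ker ψ.toRingHom).IsPrime := by
    haveI := hm.isPrime
    exact RingHom.ker_isPrime ψ.toRingHom
  refine ⟨RingHom.ker ψ.toRingHom, inferInstance, fun w hw => ?_, fun v hv => ?_⟩
  · rw [RingHom.mem_ker]
    change ψ (w ⊗ₜ[B] 1) = 0
    rw [Algebra.TensorProduct.productMap_apply_tmul, map_one, mul_one]
    change Ideal.Quotient.mk m ((residue W w) ⊗ₜ 1) = 0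
    rw [(residue_eq_zero_iff w).mpr hw, TensorProduct.zero_tmul, map_zero]
  · rw [RingHom.mem_ker]
    change ψ (1 ⊗ₜ[B] v) = 0
    rw [Algebra.TensorProduct.productMap_apply_tmul, map_one, one_mul]
    change Ideal.Quotient.mk m (1 ⊗ₜ (residue V v)) = 0
    rw [(residue_eq_zero_iff v).mpr hv, TensorProduct.tmul_zero, map_zero]

end Prime

section NZD

variable {B W V : Type u} [CommRing B] [CommRing W] [CommRing V] [IsDomain W] [IsDomain V]
  [Algebra B W] [Algebra B V] [Module.Flat B W] [Module.Flat B V]

theorem tmul_one_mem_nonZeroDivisors {w : W} (hw : w ≠ 0) :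
    w ⊗ₜ[B] (1 : V) ∈ nonZeroDivisors (W ⊗[B] V) := by
  rw [mem_nonZeroDivisors_iff_left]
  have hinj : Function.Injective ((LinearMap.mulLeft B w).rTensor V) :=
    Module.Flat.rTensor_preserves_injective_linearMap _ (by
      intro x y hxy
      exact mul_left_cancel₀ hw hxy)
  have hfun : ∀ x : W ⊗[B] V, w ⊗ₜ[B] (1 : V) * x = (LinearMap.mulLeft B w).rTensor V x := by
    intro x
    induction x using TensorProduct.induction_on with
    | zero => simp
    | tmul a b => simp [Algebra.TensorProduct.tmul_mul_tmul]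
    | add a b ha hb => rw [mul_add, ha, hb, map_add]
  intro x hx
  rw [hfun] at hx
  exact hinj (by rw [hx, map_zero])

theorem one_tmul_mem_nonZeroDivisors {v : V} (hv : v ≠ 0) :
    (1 : W) ⊗ₜ[B] v ∈ nonZeroDivisors (W ⊗[B] V) := by
  rw [mem_nonZeroDivisors_iff_left]
  have hinj : Function.Injective ((LinearMap.mulLeft B v).lTensor W) :=
    Module.Flat.lTensor_preserves_injective_linearMap _ (by
      intro x y hxy
      exact mul_left_cancel₀ hv hxy)
  have hfun : ∀ x : W ⊗[B] V, (1 : W) ⊗ₜ[B] v * x = (LinearMap.mulLeft B v).lTensor W x := by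
    intro x
    induction x using TensorProduct.induction_on with
    | zero => simp
    | tmul a b => simp [Algebra.TensorProduct.tmul_mul_tmul]
    | add a b ha hb => rw [mul_add, ha, hb, map_add]
  intro x hx
  rw [hfun] at hx
  exact hinj (by rw [hx, map_zero])

end NZD

section Aux

/-- A ring `R`, a prime `q`, a multiplicative set `S` of nonzerodivisors: there is a field `N`, a map
`f : R → N` not killing `S` and a valuation subring `W'` of `N` containing `f R`, with `f q` in its
maximal ideal; every element of `N` is a quotient of elements of `f R`. -/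
theorem exists_field_of_prime_aux {R T : Type u} [CommRing R] [CommRing T] [Algebra R T]
    (q : Ideal R) [q.IsPrime] [IsLocalization.AtPrime T q] (S : Submonoid R)
    (hS : S ≤ nonZeroDivisors R) :
    ∃ (N : Type u) (_ : Field N) (f : R →+* N) (W' : ValuationSubring N),
      (∀ r ∈ S, f r ≠ 0) ∧ (∀ r, f r ∈ W') ∧ (∀ r ∈ q, W'.valuation (f r) < 1) ∧
      ∀ z : N, ∃ a b : R, f b ≠ 0 ∧ z = f a / f b := by
  haveI : IsLocalRing T := IsLocalization.AtPrime.isLocalRing T q
  let ST : Submonoid T := S.map (algebraMap R T)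
  have hST : ST ≤ nonZeroDivisors T :=
    (Submonoid.monotone_map hS).trans (IsLocalization.map_nonZeroDivisors_le q.primeCompl T)
  have hdisj : Disjoint ((⊥ : Ideal T) : Set T) (ST : Set T) := by
    rw [Set.disjoint_left]
    intro x hx hxS
    have hx0 : x = 0 := hx
    exact nonZeroDivisors.ne_zero (hST hxS) hx0
  obtain ⟨P, hP, -, hPS⟩ := Ideal.exists_le_prime_disjoint (⊥ : Ideal T) ST hdisj
  let g : T →+* FractionRing (T ⧸ P) :=
    (algebraMap (T ⧸ P) (FractionRing (T ⧸ P))).comp (Ideal.Quotient.mk P)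
  let f : R →+* FractionRing (T ⧸ P) := g.comp (algebraMap R T)
  have hg0 : ∀ t : T, g t = 0 → t ∈ P := by
    intro t ht
    have h1 : Ideal.Quotient.mk P t = 0 :=
      (IsFractionRing.injective (T ⧸ P) (FractionRing (T ⧸ P))) (by rw [map_zero]; exact ht)
    exact Ideal.Quotient.eq_zero_iff_mem.mp h1
  have hfS : ∀ r ∈ S, f r ≠ 0 := by
    intro r hr h0
    have h1 := hg0 _ h0
    exact Set.disjoint_left.mp hPS h1 ⟨r, hr, rfl⟩
  have hfq : ∀ s : q.primeCompl, f (s : R) ≠ 0 := by
    intro s h0
    have h3 := hg0 _ h0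
    have h4 : IsUnit (algebraMap R T (s : R)) := IsLocalization.map_units _ s
    exact hP.ne_top (Ideal.eq_top_of_isUnit_mem _ h3 h4)
  obtain ⟨W', hW', hloc⟩ := IsLocalRing.exists_factor_valuationRing g
  refine ⟨FractionRing (T ⧸ P), inferInstance, f, W', hfS, fun r => hW' _, ?_, ?_⟩
  · intro r hr
    have h1 : ¬ IsUnit (algebraMap R T r) := by
      rw [IsLocalization.AtPrime.isUnit_to_map_iff T q]
      exact fun h => h hr
    have h2 : ¬ IsUnit (⟨g (algebraMap R T r), hW' _⟩ : W') :=
      fun h => h1 (hloc.map_nonunit _ h)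
    have h3 : (⟨g (algebraMap R T r), hW' _⟩ : W') ∈ maximalIdeal W' :=
      (IsLocalRing.mem_maximalIdeal _).mpr h2
    exact (W'.valuation_lt_one_iff _).mp h3
  · intro z
    have hg : ∀ t : T, ∃ a : R, ∃ s : q.primeCompl, g t = f a / f s := by
      intro t
      obtain ⟨r, s, rfl⟩ := IsLocalization.exists_mk'_eq q.primeCompl t
      have h1 : g (IsLocalization.mk' T r s) * f s = f r := by
        change g _ * g _ = g _
        rw [← map_mul, IsLocalization.mk'_spec]
      exact ⟨r, s, eq_div_of_mul_eq (hfq s) h1⟩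
    obtain ⟨a, b, hb, rfl⟩ := IsFractionRing.div_surjective (A := T ⧸ P) z
    obtain ⟨a', rfl⟩ := Ideal.Quotient.mk_surjective a
    obtain ⟨b', rfl⟩ := Ideal.Quotient.mk_surjective b
    obtain ⟨r₁, s₁, h₁⟩ := hg a'
    obtain ⟨r₂, s₂, h₂⟩ := hg b'
    have hb0 : g b' ≠ 0 := by
      intro h0
      have : Ideal.Quotient.mk P b' = 0 :=
        (IsFractionRing.injective (T ⧸ P) (FractionRing (T ⧸ P))) (by rw [map_zero]; exact h0)
      exact nonZeroDivisors.ne_zero hb this
    have hr₂ : f r₂ ≠ 0 := by
      intro h0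
      rw [h₂, h0, zero_div] at hb0
      exact hb0 rfl
    refine ⟨r₁ * s₂, r₂ * s₁, ?_, ?_⟩
    · rw [map_mul]
      exact mul_ne_zero hr₂ (hfq s₁)
    · change g a' / g b' = _
      rw [h₁, h₂, map_mul, map_mul]
      have := hfq s₁
      have := hfq s₂
      field_simp

end Aux

section Main

variable {B W V : Type u} [CommRing B] [CommRing W] [CommRing V]
  [IsLocalRing B] [IsLocalRing W] [IsLocalRing V] [IsDomain W] [IsDomain V]
  [Algebra B W] [Algebra B V] [IsLocalHom (algebraMap B W)] [IsLocalHom (algebraMap B V)]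
  [Module.Flat B W] [Module.Flat B V]

/-- **Compositum with a dominating valuation ring.** -/
theorem exists_field_dominating :
    ∃ (N : Type u) (_ : Field N) (i : W →+* N) (j : V →+* N) (W' : ValuationSubring N),
      Function.Injective i ∧ Function.Injective j ∧
      (∀ x : B, i (algebraMap B W x) = j (algebraMap B V x)) ∧
      (∀ w, i w ∈ W') ∧ (∀ v, j v ∈ W') ∧
      (∀ w ∈ maximalIdeal W, W'.valuation (i w) < 1) ∧
      (∀ v ∈ maximalIdeal V, W'.valuation (j v) < 1) ∧
      Subfield.closure (Set.range i ∪ Set.range j) = ⊤ := by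
  obtain ⟨q, hq, hqW, hqV⟩ := exists_prime_tensor (B := B) (W := W) (V := V)
  let iL : W →+* W ⊗[B] V := Algebra.TensorProduct.includeLeftRingHom
  let iR : V →+* W ⊗[B] V := (Algebra.TensorProduct.includeRight : V →ₐ[B] W ⊗[B] V).toRingHom
  have hiL : ∀ w, iL w = w ⊗ₜ[B] (1 : V) := fun _ => rfl
  have hiR : ∀ v, iR v = (1 : W) ⊗ₜ[B] v := fun _ => rfl
  -- the multiplicative set
  let S : Submonoid (W ⊗[B] V) := (nonZeroDivisors W).map iL ⊔ (nonZeroDivisors V).map iR
  have hS : S ≤ nonZeroDivisors (W ⊗[B] V) := by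
    refine sup_le ?_ ?_
    · rintro _ ⟨w, hw, rfl⟩
      exact tmul_one_mem_nonZeroDivisors (nonZeroDivisors.ne_zero hw)
    · rintro _ ⟨v, hv, rfl⟩
      exact one_tmul_mem_nonZeroDivisors (nonZeroDivisors.ne_zero hv)
  obtain ⟨N, _, f, W', hfS, hfW', hfq, hgen⟩ :=
    exists_field_of_prime_aux (T := Localization.AtPrime q) q S hS
  refine ⟨N, inferInstance, f.comp iL, f.comp iR, W', ?_, ?_, ?_, ?_, ?_, ?_, ?_, ?_⟩
  · rw [injective_iff_map_eq_zero]
    intro w hw
    by_contra hw0
    exact hfS (iL w) (Submonoid.mem_sup_left ⟨w, mem_nonZeroDivisors_of_ne_zero hw0, rfl⟩) hw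
  · rw [injective_iff_map_eq_zero]
    intro v hv
    by_contra hv0
    exact hfS (iR v) (Submonoid.mem_sup_right ⟨v, mem_nonZeroDivisors_of_ne_zero hv0, rfl⟩) hv
  · intro x
    simp only [RingHom.comp_apply, hiL, hiR]
    congr 1
    rw [Algebra.algebraMap_eq_smul_one, Algebra.algebraMap_eq_smul_one (A := V),
      TensorProduct.smul_tmul]
  · intro w
    exact hfW' _
  · intro v
    exact hfW' _
  · intro w hw
    exact hfq _ (hqW w hw)
  · intro v hv
    exact hfq _ (hqV v hv)
  · rw [eq_top_iff]
    intro z _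
    have hf : ∀ r : W ⊗[B] V,
        f r ∈ Subfield.closure (Set.range (f.comp iL) ∪ Set.range (f.comp iR)) := by
      intro r
      induction r using TensorProduct.induction_on with
      | zero => rw [map_zero]; exact Subfield.zero_mem _
      | tmul w v =>
        have : w ⊗ₜ[B] v = iL w * iR v := by
          rw [hiL, hiR, Algebra.TensorProduct.tmul_mul_tmul, mul_one, one_mul]
        rw [this, map_mul]
        exact Subfield.mul_mem _ (Subfield.subset_closure (Or.inl ⟨w, rfl⟩))
          (Subfield.subset_closure (Or.inr ⟨v, rfl⟩))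
      | add a b ha hb => rw [map_add]; exact Subfield.add_mem _ ha hb
    obtain ⟨a, b, -, rfl⟩ := hgen z
    exact Subfield.div_mem _ (hf a) (hf b)

end Main

end Groth.Agent.Lib.EtRamComp76
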