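import Mathlib
import Groth.Prelude.Def_EtRam
import Groth.Agent.Lib.ValDVR76A

/-!
# Valuation subrings dominating a DVR in a finite separable extension

Tools for the `EtRam` definitions (`Dominates`, `IsTamelyRamified`, `IsUnramifiedExt`).
-/

set_option autoImplicit false
set_option linter.unusedSectionVars false

universe u

namespace Groth.Agent.Lib.ValDVR76

section Extend

variable {L M : Type*} [Field L] [Field M]

/-- Every valuation subring of `L` is the contraction of a valuation subring of an extension. -/
theorem exists_comap_eq (f : L →+* M) (V : ValuationSubring L) :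
    ∃ W : ValuationSubring M, W.comap f = V := by
  let A₀ : LocalSubring M := LocalSubring.range (f.comp V.subtype)
  obtain ⟨W, hle, hloc⟩ := A₀.exists_le_valuationSubring
  refine ⟨W, SetLike.ext fun x => ⟨fun hx => ?_, fun hx => ?_⟩⟩
  · rw [ValuationSubring.mem_comap] at hx
    by_contra hxV
    have hx0 : x ≠ 0 := fun h => hxV (h ▸ V.zero_mem)
    have hinv : x⁻¹ ∈ V := (V.mem_or_inv_mem x).resolve_left hxV
    have hmem : f x⁻¹ ∈ A₀.toSubring := ⟨⟨x⁻¹, hinv⟩, rfl⟩
    have hunitW : IsUnit (Subring.inclusion hle ⟨f x⁻¹, hmem⟩) := by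
      refine isUnit_iff_exists_inv.mpr ⟨⟨f x, hx⟩, Subtype.ext ?_⟩
      show f x⁻¹ * f x = 1
      rw [← map_mul, inv_mul_cancel₀ hx0, map_one]
    obtain ⟨z, hz⟩ := isUnit_iff_exists_inv.mp (hloc.map_nonunit _ hunitW)
    obtain ⟨v, hv⟩ : ∃ v : V, f v = z := z.2
    have h1 : f (x⁻¹ * v) = 1 := by
      rw [map_mul, hv]
      exact congrArg Subtype.val hz
    have h2 : x⁻¹ * (v : L) = 1 := f.injective (by rw [h1, map_one])
    have h3 : (v : L) = x := by
      field_simp at h2
      exact h2
    exact hxV (h3 ▸ v.2)
  · rw [ValuationSubring.mem_comap]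
    exact hle ⟨⟨x, hx⟩, rfl⟩

end Extend

section Integral

variable {A L : Type*} [CommRing A] [Field L] [Algebra A L]

/-- Elements integral over a ring mapping into a valuation subring lie in it. -/
theorem mem_of_isIntegral (V : ValuationSubring L) (hAV : ∀ a : A, algebraMap A L a ∈ V)
    {x : L} (hx : IsIntegral A x) : x ∈ V := by
  let _ : Algebra A V := ((algebraMap A L).codRestrict V.toSubring hAV).toAlgebra
  have : IsScalarTower A V L := IsScalarTower.of_algebraMap_eq fun _ => rfl
  have h1 : IsIntegral V x := hx.tower_top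
  obtain ⟨y, rfl⟩ := IsIntegrallyClosed.isIntegral_iff.mp h1
  exact y.2

end Integral

end Groth.Agent.Lib.ValDVR76
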