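import Mathlib
import Groth.Prelude.Def_EtRam
import Groth.Agent.Lib.ValDVR76B
import Groth.Agent.Lib.DVRExt

/-!
# Towers of valuation subrings dominating a DVR

The dictionary between the `EtRam` definitions (`Dominates`, `IsTamelyRamified`, `IsUnramifiedExt`)
and towers `A → V → W` of discrete valuation rings.
-/

set_option autoImplicit false
set_option linter.unusedSectionVars false

universe u

namespace Groth.Agent.Lib.ValDVR76

open IsLocalRing

section Val

variable {L M : Type*} [Field L] [Field M]

theorem valuation_lt_one_iff' (V : ValuationSubring L) (x : L) :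
    V.valuation x < 1 ↔ x = 0 ∨ x⁻¹ ∉ V := by
  by_cases hx : x = 0
  · simp [hx]
  · simp only [hx, false_or]
    rw [← V.valuation_le_one_iff, map_inv₀, not_le]
    have h0 : 0 < V.valuation x := by
      rw [zero_lt_iff]
      exact (V.valuation.ne_zero_iff).mpr hx
    exact (one_lt_inv₀ h0).symm

theorem valuation_comap_lt_one_iff (f : L →+* M) (W : ValuationSubring M) (x : L) :
    (W.comap f).valuation x < 1 ↔ W.valuation (f x) < 1 := by
  rw [valuation_lt_one_iff', valuation_lt_one_iff', ValuationSubring.mem_comap, map_inv₀,
    map_eq_zero]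

end Val

section Dom

variable {A : Type u} [CommRing A] [IsLocalRing A] {L M : Type u} [Field L] [Field M]

theorem dominates_comap (g : A →+* L) (f : L →+* M) (W : ValuationSubring M)
    (hW : EtRam.Dominates A (f.comp g) W) : EtRam.Dominates A g (W.comap f) :=
  ⟨fun a => hW.1 a, fun a ha => (valuation_comap_lt_one_iff f W _).mpr (hW.2 a ha)⟩

theorem dominates_of_comap (f : L →+* M) (W : ValuationSubring M) :
    EtRam.Dominates (W.comap f) (f.comp (W.comap f).subtype) W :=
  ⟨fun v => v.2, fun v hv =>
    (valuation_comap_lt_one_iff f W _).mp (((W.comap f).valuation_lt_one_iff v).mp hv)⟩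

theorem dominates_of_dominates_comap (g : A →+* L) (f : L →+* M) (W : ValuationSubring M)
    (hV : EtRam.Dominates A g (W.comap f)) : EtRam.Dominates A (f.comp g) W :=
  ⟨fun a => hV.1 a, fun a ha => (valuation_comap_lt_one_iff f W _).mp (hV.2 a ha)⟩

theorem isLocalHom_codRestrict (g : A →+* L) (V : ValuationSubring L)
    (h : EtRam.Dominates A g V) : IsLocalHom (RingHom.codRestrict g V h.1) := by
  constructor
  intro a ha
  by_contra hna
  have hm : a ∈ maximalIdeal A := (IsLocalRing.mem_maximalIdeal a).mpr hna
  have hm' : (RingHom.codRestrict g V h.1 a) ∈ maximalIdeal V :=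
    (V.valuation_lt_one_iff _).mpr (h.2 a hm)
  exact ((IsLocalRing.mem_maximalIdeal _).mp hm') ha

theorem ne_top_of_dominates (g : A →+* L) (V : ValuationSubring L)
    (h : EtRam.Dominates A g V) {ϖ : A} (hϖ : ϖ ∈ maximalIdeal A) (h0 : g ϖ ≠ 0) : V ≠ ⊤ := by
  intro hV
  have h1 := (valuation_lt_one_iff' V (g ϖ)).mp (h.2 ϖ hϖ)
  rcases h1 with h1 | h1
  · exact h0 h1
  · exact h1 (hV ▸ ValuationSubring.mem_top _)

end Dom

section DVR

/-- A valuation subring of a finite separable extension of the fraction field of a discrete
valuation ring `A` that dominates `A` is a discrete valuation ring. -/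
theorem isDiscreteValuationRing_of_dominates (A : Type u) (K : Type*) (L : Type u) [CommRing A]
    [IsDomain A] [IsDiscreteValuationRing A] [Field K] [Algebra A K] [IsFractionRing A K] [Field L]
    [Algebra K L] [FiniteDimensional K L] [Algebra.IsSeparable K L] (V : ValuationSubring L)
    (h : EtRam.Dominates A ((algebraMap K L).comp (algebraMap A K)) V) :
    IsDiscreteValuationRing V := by
  let _ : Algebra A L := ((algebraMap K L).comp (algebraMap A K)).toAlgebra
  have : IsScalarTower A K L := IsScalarTower.of_algebraMap_eq fun _ => rfl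
  have hD : IsDedekindDomain (integralClosure A L) := integralClosure.isDedekindDomain A K L
  have hF : IsFractionRing (integralClosure A L) L :=
    integralClosure.isFractionRing_of_finite_extension K L
  have hBV : ∀ b : integralClosure A L, algebraMap (integralClosure A L) L b ∈ V := fun b =>
    mem_of_isIntegral V (fun a => h.1 a) b.2
  obtain ⟨ϖ, hϖ⟩ := IsDiscreteValuationRing.exists_irreducible A
  have hinj : Function.Injective ((algebraMap K L).comp (algebraMap A K)) :=
    (algebraMap K L).injective.comp (IsFractionRing.injective A K)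
  have hV : V ≠ ⊤ := ne_top_of_dominates _ V h
    ((IsLocalRing.mem_maximalIdeal ϖ).mpr hϖ.not_isUnit)
    (fun h0 => hϖ.ne_zero (hinj (by rw [h0, map_zero])))
  exact isDiscreteValuationRing_of_le V hBV hV

end DVR

section Tower

variable {A B C : Type*} [CommRing A] [IsDomain A] [IsDiscreteValuationRing A]
  [CommRing B] [IsDomain B] [IsDiscreteValuationRing B]
  [CommRing C] [IsDomain C] [IsDiscreteValuationRing C]
  [Algebra A B] [Algebra B C] [Algebra A C] [IsScalarTower A B C]

/-- Multiplicativity of the ramification index in a tower of discrete valuation rings. -/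
theorem ramificationIdx'_tower (hAB : Function.Injective (algebraMap A B))
    (hBC : Function.Injective (algebraMap B C)) [IsLocalHom (algebraMap A B)]
    [IsLocalHom (algebraMap B C)] :
    Ideal.ramificationIdx' (maximalIdeal A) (maximalIdeal C) =
      Ideal.ramificationIdx' (maximalIdeal A) (maximalIdeal B) *
        Ideal.ramificationIdx' (maximalIdeal B) (maximalIdeal C) := by
  obtain ⟨a, ha⟩ := IsDiscreteValuationRing.exists_irreducible A
  obtain ⟨b, hb⟩ := IsDiscreteValuationRing.exists_irreducible B
  obtain ⟨c, hc⟩ := IsDiscreteValuationRing.exists_irreducible C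
  obtain ⟨e1, u1, -, h1⟩ := DVRExt.exists_map_uniformizer hAB ha hb
  obtain ⟨e2, u2, -, h2⟩ := DVRExt.exists_map_uniformizer hBC hb hc
  obtain ⟨w, hw⟩ := DVRExt.map_eq_unit_mul_pow h2 u1 e1
  have h3 : algebraMap A C a = w * c ^ (e2 * e1) := by
    rw [IsScalarTower.algebraMap_apply A B C, h1, hw]
  rw [DVRExt.ramificationIdx'_eq ha hb h1, DVRExt.ramificationIdx'_eq hb hc h2,
    DVRExt.ramificationIdx'_eq ha hc h3, mul_comm]

end Tower

end Groth.Agent.Lib.ValDVR76
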