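import Mathlib
import Groth.Prelude.Def_EtRam
import Groth.Agent.Lib.EtRamComp76A
import Groth.Agent.Lib.ValDVR76C

/-!
# Descent of (weak) solutions along a tower of extensions of discrete valuation rings (helper76)

`EtRam.ForallLocalExt C K M₀ K₁ P → EtRam.ForallLocalExt B K L K₁ P` for `B → C` an extension of DVRs
with fraction fields `L ⊂ M₀` and `P` a property that descends along contraction of valuation rings.
-/

set_option autoImplicit false
set_option linter.style.haveILetI false
set_option linter.unusedSectionVars false
universe u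

open IsLocalRing

namespace Groth.Agent.Lib.EtRamComp76

open Groth.Agent.Lib.ValDVR76

section Comap

variable {M N : Type u} [Field M] [Field N]

/-- A valuation subring of `M` is recovered from a valuation subring of an extension dominating it. -/
theorem comap_eq_of_dominates (i : M →+* N) (W : ValuationSubring M) (W' : ValuationSubring N)
    (h1 : ∀ x ∈ W, i x ∈ W') (h2 : ∀ x : M, W.valuation x < 1 → W'.valuation (i x) < 1) :
    W'.comap i = W := by
  refine SetLike.ext fun x => ⟨fun hx => ?_, fun hx => h1 x hx⟩
  rw [ValuationSubring.mem_comap] at hx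
  by_contra hxW
  have hx0 : x ≠ 0 := fun h => hxW (h ▸ W.zero_mem)
  have h3 : W.valuation x⁻¹ < 1 := by
    rw [valuation_lt_one_iff', inv_inv]
    exact Or.inr hxW
  have h4 := h2 _ h3
  rw [valuation_lt_one_iff', map_inv₀, inv_inv] at h4
  rcases h4 with h4 | h4
  · exact hx0 ((map_eq_zero i).mp (inv_eq_zero.mp h4))
  · exact h4 hx

end Comap

section Generic

variable (B C K L M₀ K₁ : Type u) [CommRing B] [IsDomain B] [IsDiscreteValuationRing B]
  [CommRing C] [IsDomain C] [IsDiscreteValuationRing C] [Algebra B C] [IsLocalHom (algebraMap B C)]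
  [Field K] [Field L] [Field M₀] [Field K₁] [Algebra K L] [Algebra K M₀] [Algebra L M₀]
  [IsScalarTower K L M₀] [Algebra K K₁] [Algebra.IsAlgebraic K K₁]
  [Algebra B L] [IsFractionRing B L] [Algebra C M₀] [IsFractionRing C M₀] [Algebra B M₀]
  [IsScalarTower B C M₀] [IsScalarTower B L M₀]

/-- **Descent of local-extension properties along `B → C`.** -/
theorem forallLocalExt_of_tower (hinj : Function.Injective (algebraMap B C))
    (P : ∀ (M : Type u) [Field M], ValuationSubring M → (K₁ →+* M) → Prop)
    (hP : ∀ (M N : Type u) [Field M] [Field N] (i : M →+* N) (W' : ValuationSubring N)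
      (f : K₁ →+* M), P N W' (i.comp f) → P M (W'.comap i) f) :
    EtRam.ForallLocalExt C K M₀ K₁ P → EtRam.ForallLocalExt B K L K₁ P := by
  intro h M _ _ _ _ _ _ hgen W hW
  -- `W` as a flat local `B`-algebra
  letI algBW : Algebra B W :=
    (RingHom.codRestrict ((algebraMap L M).comp (algebraMap B L)) W hW.1).toAlgebra
  haveI : IsLocalHom (algebraMap B W) := isLocalHom_codRestrict _ W hW
  have hBW : Function.Injective (algebraMap B W) := by
    intro x y hxy
    have h1 : algebraMap L M (algebraMap B L x) = algebraMap L M (algebraMap B L y) :=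
      congrArg Subtype.val hxy
    exact IsFractionRing.injective B L ((algebraMap L M).injective h1)
  haveI : Module.IsTorsionFree B W := Module.isTorsionFree_iff_algebraMap_injective.mpr hBW
  haveI : Module.IsTorsionFree B C := Module.isTorsionFree_iff_algebraMap_injective.mpr hinj
  haveI : Module.Flat B W := inferInstance
  haveI : Module.Flat B C := inferInstance
  obtain ⟨N, _, i, j, W', hi, hj, hij, hiW', hjW', hmW, hmC, hgenN⟩ :=
    exists_field_dominating (B := B) (W := W) (V := C)
  -- extend to the fraction fields
  let i' : M →+* N := IsFractionRing.lift (A := W) (K := M) hi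
  let j' : M₀ →+* N := IsFractionRing.lift (A := C) (K := M₀) hj
  have hi' : ∀ w : W, i' (w : M) = i w := fun w => IsFractionRing.lift_algebraMap hi w
  have hj' : ∀ c : C, j' (algebraMap C M₀ c) = j c := fun c => IsFractionRing.lift_algebraMap hj c
  have hL : i'.comp (algebraMap L M) = j'.comp (algebraMap L M₀) := by
    refine IsLocalization.ringHom_ext (nonZeroDivisors B) ?_
    ext x
    simp only [RingHom.comp_apply]
    have h1 : algebraMap L M (algebraMap B L x) = ((algebraMap B W x : W) : M) := rfl
    rw [h1, hi', hij, ← hj', ← IsScalarTower.algebraMap_apply B C M₀,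
      IsScalarTower.algebraMap_apply B L M₀]
  -- the algebra structures on `N`
  letI algM₀N : Algebra M₀ N := j'.toAlgebra
  letI algK₁N : Algebra K₁ N := (i'.comp (algebraMap K₁ M)).toAlgebra
  letI algKN : Algebra K N := (j'.comp (algebraMap K M₀)).toAlgebra
  haveI : IsScalarTower K M₀ N := IsScalarTower.of_algebraMap_eq fun _ => rfl
  haveI : IsScalarTower K K₁ N := IsScalarTower.of_algebraMap_eq fun x => by
    change j' (algebraMap K M₀ x) = i' (algebraMap K₁ M (algebraMap K K₁ x))
    rw [← IsScalarTower.algebraMap_apply K K₁ M, IsScalarTower.algebraMap_apply K L M,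
      IsScalarTower.algebraMap_apply K L M₀]
    exact (congrArg (fun φ : L →+* N => φ (algebraMap K L x)) hL).symm
  -- `W' ∩ M = W`
  have hcomap : W'.comap i' = W := by
    refine comap_eq_of_dominates i' W W' (fun x hx => ?_) (fun x hx => ?_)
    · have := hiW' ⟨x, hx⟩
      rwa [← hi'] at this
    · have hxW : x ∈ W := (W.valuation_le_one_iff x).mp hx.le
      have hxm : (⟨x, hxW⟩ : W) ∈ maximalIdeal W := (W.valuation_lt_one_iff _).mpr hx
      have := hmW _ hxm
      rwa [← hi'] at this
  -- `W'` dominates `C`
  have hdom : EtRam.Dominates C ((algebraMap M₀ N).comp (algebraMap C M₀)) W' := by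
    refine ⟨fun c => ?_, fun c hc => ?_⟩
    · change j' (algebraMap C M₀ c) ∈ W'
      rw [hj']
      exact hjW' c
    · change W'.valuation (j' (algebraMap C M₀ c)) < 1
      rw [hj']
      exact hmC c hc
  -- generation
  have hadj : Algebra.adjoin M₀ (Set.range (algebraMap K₁ N)) = ⊤ := by
    set E := Algebra.adjoin M₀ (Set.range (algebraMap K₁ N)) with hE
    haveI : Algebra.IsIntegral K K₁ := Algebra.IsAlgebraic.isIntegral
    have hint : ∀ x ∈ Set.range (algebraMap K₁ N), IsIntegral M₀ x := by
      rintro _ ⟨k, rfl⟩
      have h1 : IsIntegral K k := Algebra.IsIntegral.isIntegral k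
      have h2 : IsIntegral K (algebraMap K₁ N k) := h1.map (IsScalarTower.toAlgHom K K₁ N)
      exact h2.tower_top
    have hEint : E ≤ integralClosure M₀ N := Algebra.adjoin_le hint
    have hinv : ∀ x ∈ E, x⁻¹ ∈ E := by
      intro x hx
      have h1 : IsIntegral M₀ x := hEint hx
      have h2 : IsAlgebraic M₀ x := h1.isAlgebraic
      exact Subalgebra.inv_mem_of_algebraic (A := E) (x := ⟨x, hx⟩) h2
    have hiM : ∀ x : M, i' x ∈ E := by
      intro x
      have hx : x ∈ Algebra.adjoin L (Set.range (algebraMap K₁ M)) := by
        rw [hgen]; exact Algebra.mem_top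
      induction hx using Algebra.adjoin_induction with
      | mem y hy =>
        obtain ⟨k, rfl⟩ := hy
        exact Algebra.subset_adjoin ⟨k, rfl⟩
      | algebraMap l =>
        have : i' (algebraMap L M l) = algebraMap M₀ N (algebraMap L M₀ l) :=
          congrArg (fun φ : L →+* N => φ l) hL
        rw [this]
        exact Subalgebra.algebraMap_mem _ _
      | add a b _ _ ha hb => rw [map_add]; exact Subalgebra.add_mem _ ha hb
      | mul a b _ _ ha hb => rw [map_mul]; exact Subalgebra.mul_mem _ ha hb
    let F : Subfield N := { E.toSubring with inv_mem' := hinv }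
    have hF : Subfield.closure (Set.range i ∪ Set.range j) ≤ F := by
      rw [Subfield.closure_le]
      rintro _ (⟨w, rfl⟩ | ⟨c, rfl⟩)
      · rw [← hi']
        exact hiM _
      · rw [← hj']
        exact Subalgebra.algebraMap_mem E _
    rw [eq_top_iff]
    intro z _
    exact hF (by rw [hgenN]; trivial)
  have key := h N hadj W' hdom
  have := hP M N i' W' (algebraMap K₁ M) key
  rwa [hcomap] at this

end Generic

end Groth.Agent.Lib.EtRamComp76
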