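import Mathlib
import Groth.Prelude.Def_EtRam
import Groth.Agent.Lib.EtRamComp76B

/-!
# Weak unramifiedness and separable residue extension descend along contraction (helper76)
-/

set_option autoImplicit false
set_option linter.style.haveILetI false
set_option linter.unusedSectionVars false
universe u

open IsLocalRing

namespace Groth.Agent.Lib.EtRamComp76

open Groth.Agent.Lib.ValDVR76

section WU

variable {K₁ M N : Type u} [Field K₁] [Field M] [Field N]

/-- elementwise form of weak unramifiedness of `W ∩ K₁ → W` -/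
def WUElem (W : ValuationSubring M) (f : K₁ →+* M) : Prop :=
  ∀ x : M, W.valuation x < 1 → ∃ a : K₁, W.valuation (f a) < 1 ∧ ∃ w ∈ W, x = f a * w

theorem wuElem_of_isWeaklyUnramified (W : ValuationSubring M) (f : K₁ →+* M)
    (h : letI : Algebra (W.comap f) W := (EtRam.inclOfComap W f).toAlgebra
      EtRam.IsWeaklyUnramified (W.comap f) W) : WUElem W f := by
  letI : Algebra (W.comap f) W := (EtRam.inclOfComap W f).toAlgebra
  intro x hx
  have hxW : x ∈ W := (W.valuation_le_one_iff x).mp hx.le
  have hxm : (⟨x, hxW⟩ : W) ∈ maximalIdeal W := (W.valuation_lt_one_iff _).mpr hx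
  have h' : (maximalIdeal (W.comap f)).map (algebraMap (W.comap f) W) = maximalIdeal W := h
  rw [← h', Ideal.map] at hxm
  have key : ∀ y ∈ Ideal.span ((algebraMap (W.comap f) W) '' (maximalIdeal (W.comap f) : Set _)),
      ∃ a ∈ maximalIdeal (W.comap f), ∃ w : W, y = algebraMap (W.comap f) W a * w := by
    intro y hy
    induction hy using Submodule.span_induction with
    | mem y hy =>
      obtain ⟨a, ha, rfl⟩ := hy
      exact ⟨a, ha, 1, (mul_one _).symm⟩
    | zero => exact ⟨0, Ideal.zero_mem _, 0, by simp⟩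
    | add y₁ y₂ _ _ h₁ h₂ =>
      obtain ⟨a₁, ha₁, w₁, rfl⟩ := h₁
      obtain ⟨a₂, ha₂, w₂, rfl⟩ := h₂
      rcases ValuationRing.dvd_total a₁ a₂ with ⟨c, rfl⟩ | ⟨c, rfl⟩
      · exact ⟨a₁, ha₁, w₁ + algebraMap _ W c * w₂, by rw [map_mul]; ring⟩
      · exact ⟨a₂, ha₂, algebraMap _ W c * w₁ + w₂, by rw [map_mul]; ring⟩
    | smul r y _ h₁ =>
      obtain ⟨a₁, ha₁, w₁, rfl⟩ := h₁
      exact ⟨a₁, ha₁, r * w₁, by rw [smul_eq_mul]; ring⟩
  obtain ⟨a, ha, w, hw⟩ := key _ hxm
  refine ⟨(a : K₁), ?_, (w : M), w.2, congrArg Subtype.val hw⟩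
  have h1 : (W.comap f).valuation (a : K₁) < 1 := ((W.comap f).valuation_lt_one_iff a).mp ha
  exact (valuation_comap_lt_one_iff f W _).mp h1

theorem isWeaklyUnramified_of_wuElem (W : ValuationSubring M) (f : K₁ →+* M) (h : WUElem W f) :
    letI : Algebra (W.comap f) W := (EtRam.inclOfComap W f).toAlgebra
    EtRam.IsWeaklyUnramified (W.comap f) W := by
  letI : Algebra (W.comap f) W := (EtRam.inclOfComap W f).toAlgebra
  change (maximalIdeal (W.comap f)).map (algebraMap (W.comap f) W) = maximalIdeal W
  refine le_antisymm ?_ ?_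
  · have hloc : IsLocalHom (algebraMap (W.comap f) W) := EtRam.isLocalHom_inclOfComap W f
    exact ((local_hom_TFAE (algebraMap (W.comap f) W)).out 0 2 rfl rfl).mp hloc
  · intro x hx
    have hx1 : W.valuation (x : M) < 1 := (W.valuation_lt_one_iff x).mp hx
    obtain ⟨a, ha, w, hw, hxw⟩ := h _ hx1
    have haW : a ∈ W.comap f := (W.valuation_le_one_iff _).mp ha.le
    have ham : (⟨a, haW⟩ : W.comap f) ∈ maximalIdeal (W.comap f) :=
      ((W.comap f).valuation_lt_one_iff _).mpr ((valuation_comap_lt_one_iff f W _).mpr ha)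
    have hx' : x = algebraMap (W.comap f) W ⟨a, haW⟩ * ⟨w, hw⟩ := Subtype.ext hxw
    rw [hx']
    exact Ideal.mul_mem_right _ _ (Ideal.mem_map_of_mem _ ham)

theorem wuElem_comap (i : M →+* N) (W' : ValuationSubring N) (f : K₁ →+* M)
    (h : WUElem W' (i.comp f)) : WUElem (W'.comap i) f := by
  intro x hx
  have hx' : W'.valuation (i x) < 1 := (valuation_comap_lt_one_iff i W' x).mp hx
  obtain ⟨a, ha, w', hw', hxw⟩ := h _ hx'
  refine ⟨a, (valuation_comap_lt_one_iff i W' _).mpr ha, ?_⟩
  by_cases hfa : f a = 0
  · refine ⟨0, (W'.comap i).zero_mem, ?_⟩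
    rw [RingHom.comp_apply, hfa, map_zero, zero_mul] at hxw
    rw [hfa, zero_mul]
    exact (map_eq_zero i).mp hxw
  · refine ⟨x / f a, ?_, by field_simp⟩
    rw [ValuationSubring.mem_comap, map_div₀]
    have hifa : i (f a) ≠ 0 := (map_ne_zero i).mpr hfa
    have : i x / i (f a) = w' := by
      rw [hxw, RingHom.comp_apply]
      field_simp
    rw [this]
    exact hw'

/-- weak unramifiedness descends along contraction -/
theorem isWeaklyUnramified_comap (i : M →+* N) (W' : ValuationSubring N) (f : K₁ →+* M)
    (h : letI : Algebra (W'.comap (i.comp f)) W' := (EtRam.inclOfComap W' (i.comp f)).toAlgebra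
      EtRam.IsWeaklyUnramified (W'.comap (i.comp f)) W') :
    letI : Algebra ((W'.comap i).comap f) (W'.comap i) :=
      (EtRam.inclOfComap (W'.comap i) f).toAlgebra
    EtRam.IsWeaklyUnramified ((W'.comap i).comap f) (W'.comap i) :=
  isWeaklyUnramified_of_wuElem _ _ (wuElem_comap i W' f (wuElem_of_isWeaklyUnramified _ _ h))

end WU

section GR

/-- geometric reducedness of residue field extensions passes to intermediate local rings -/
theorem isGeometricallyReduced_residue_of_comp {A₁ W W' : Type u} [CommRing A₁] [CommRing W]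
    [CommRing W'] [IsLocalRing A₁] [IsLocalRing W] [IsLocalRing W'] (u : A₁ →+* W) (v : W →+* W')
    [IsLocalHom u] [IsLocalHom v]
    (h : @Algebra.IsGeometricallyReduced (ResidueField A₁) (ResidueField W') _ _
      (ResidueField.map (v.comp u)).toAlgebra) :
    @Algebra.IsGeometricallyReduced (ResidueField A₁) (ResidueField W) _ _
      (ResidueField.map u).toAlgebra := by
  letI algW : Algebra (ResidueField A₁) (ResidueField W) := (ResidueField.map u).toAlgebra
  letI algW' : Algebra (ResidueField A₁) (ResidueField W') :=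
    (ResidueField.map (v.comp u)).toAlgebra
  haveI : Algebra.IsGeometricallyReduced (ResidueField A₁) (ResidueField W') := h
  let φ : ResidueField W →ₐ[ResidueField A₁] ResidueField W' :=
    { ResidueField.map v with
      commutes' := fun r => by
        change ResidueField.map v (ResidueField.map u r) = ResidueField.map (v.comp u) r
        rw [ResidueField.map_map] }
  exact Algebra.IsGeometricallyReduced.of_injective φ (RingHom.injective φ.toRingHom)

variable {K₁ M N : Type u} [Field K₁] [Field M] [Field N]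

theorem isGeometricallyReduced_comap (i : M →+* N) (W' : ValuationSubring N) (f : K₁ →+* M)
    (h : @Algebra.IsGeometricallyReduced (ResidueField (W'.comap (i.comp f))) (ResidueField W') _ _
      (ResidueField.map (EtRam.inclOfComap W' (i.comp f))).toAlgebra) :
    @Algebra.IsGeometricallyReduced (ResidueField ((W'.comap i).comap f))
      (ResidueField (W'.comap i)) _ _
      (ResidueField.map (EtRam.inclOfComap (W'.comap i) f)).toAlgebra :=
  isGeometricallyReduced_residue_of_comp (EtRam.inclOfComap (W'.comap i) f)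
    (EtRam.inclOfComap W' i) h

end GR

end Groth.Agent.Lib.EtRamComp76
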