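import Mathlib
import Groth.Prelude.Def_EtRam
import Groth.Agent.Lib.ValDVR76A
import Groth.Agent.Lib.ValDVR76B
import Groth.Agent.Lib.ValDVR76C

/-!
# Unramified extensions of discrete valuation rings: valuative vs. differential, and base change

* `isUnramifiedExt_of_formallyUnramified` : a domain finite and formally unramified over a DVR `B`
  is `EtRam.IsUnramifiedExt` over `B` (uses `isDedekindDomain.of_formallyUnramified`).
* `formallyUnramified_of_isUnramifiedExt` : conversely the integral closure of a DVR `A` in a
  finite extension unramified in the valuative sense is formally unramified over `A`.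
* `isUnramifiedExt_baseChange` : base change of unramified extensions along an extension of DVRs.
-/

set_option autoImplicit false
universe u

open IsDedekindDomain IsDedekindDomain.HeightOneSpectrum IsLocalRing

namespace Groth.Agent.Lib.EtRamUnr76

open Groth.Agent.Lib.ValDVR76

/-- A domain `C`, finite and formally unramified over a discrete valuation ring `B`, is unramified
over `B` in the valuative sense at every valuation ring of `Frac C` dominating `B`. -/
theorem isUnramifiedExt_of_formallyUnramified
    (B : Type u) [CommRing B] [IsDomain B] [IsDiscreteValuationRing B]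
    (C : Type u) [CommRing C] [IsDomain C] [Algebra B C] [Module.Finite B C]
    [Algebra.FormallyUnramified B C]
    (F : Type u) [Field F] [Algebra C F] [IsFractionRing C F]
    (hinj : Function.Injective (algebraMap B C)) :
    EtRam.IsUnramifiedExt B ((algebraMap C F).comp (algebraMap B C)) := by
  have hDed : IsDedekindDomain C := isDedekindDomain.of_formallyUnramified B C
  let _ : Algebra B F := ((algebraMap C F).comp (algebraMap B C)).toAlgebra
  have : IsScalarTower B C F := IsScalarTower.of_algebraMap_eq fun _ => rfl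
  intro W hW
  have hCW : ∀ c : C, algebraMap C F c ∈ W := fun c =>
    mem_of_isIntegral (A := B) W (fun b => hW.1 b)
      ((Algebra.IsIntegral.isIntegral (R := B) c).map (IsScalarTower.toAlgHom B C F))
  obtain ⟨ϖ, hϖ⟩ := IsDiscreteValuationRing.exists_irreducible B
  have hWtop : W ≠ ⊤ := ne_top_of_dominates _ W hW
    ((IsLocalRing.mem_maximalIdeal ϖ).mpr hϖ.not_isUnit)
    (fun h0 => hϖ.ne_zero (hinj (IsFractionRing.injective C F (by
      rw [map_zero, map_zero]; exact h0))))
  obtain ⟨v, rfl⟩ : ∃ v : HeightOneSpectrum C, valuationSubringAtPrime F v = W :=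
    ⟨_, eq_valuationSubringAtPrime W hCW hWtop⟩
  intro hloc
  let _ : Algebra B (valuationSubringAtPrime F v) :=
    (RingHom.codRestrict ((algebraMap C F).comp (algebraMap B C))
      (valuationSubringAtPrime F v) hW.1).toAlgebra
  have tower : IsScalarTower B C (valuationSubringAtPrime F v) :=
    IsScalarTower.of_algebraMap_eq fun b => Subtype.ext rfl
  have fu1 : Algebra.FormallyUnramified C (valuationSubringAtPrime F v) :=
    Algebra.FormallyUnramified.of_isLocalization v.asIdeal.primeCompl
  have fu : Algebra.FormallyUnramified B (valuationSubringAtPrime F v) :=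
    Algebra.FormallyUnramified.comp B C _
  have eft1 : Algebra.EssFiniteType C (valuationSubringAtPrime F v) :=
    Algebra.EssFiniteType.of_isLocalization _ v.asIdeal.primeCompl
  have eft : Algebra.EssFiniteType B (valuationSubringAtPrime F v) :=
    Algebra.EssFiniteType.comp B C _
  exact ⟨Algebra.FormallyUnramified.map_maximalIdeal, inferInstance⟩

/-- The valuation subring of `K'` attached to a maximal ideal of the integral closure `A'` of the
discrete valuation ring `A` dominates `A`. -/
theorem dominates_valuationSubringAtPrime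
    (A K' : Type u) [CommRing A] [IsDomain A] [IsDiscreteValuationRing A] [Field K']
    [Algebra A K'] (A' : Type u) [CommRing A'] [IsDedekindDomain A'] [Algebra A A'] [Algebra A' K']
    [IsScalarTower A A' K'] [IsFractionRing A' K'] [Algebra.IsIntegral A A']
    (v : HeightOneSpectrum A') :
    EtRam.Dominates A (algebraMap A K') (valuationSubringAtPrime K' v) := by
  have hmem : ∀ x : A', algebraMap A' K' x ∈ valuationSubringAtPrime K' v := fun x =>
    (algebraMap A' (valuationSubringAtPrime K' v) x).2
  refine ⟨fun a => ?_, fun a ha => ?_⟩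
  · rw [IsScalarTower.algebraMap_apply A A' K']
    exact hmem _
  · rw [IsScalarTower.algebraMap_apply A A' K']
    have hmax : v.asIdeal.IsMaximal := v.isMaximal
    have hcomap : (v.asIdeal.comap (algebraMap A A')).IsMaximal :=
      Ideal.isMaximal_comap_of_isIntegral_of_isMaximal (R := A) v.asIdeal
    have hcm : v.asIdeal.comap (algebraMap A A') = maximalIdeal A := eq_maximalIdeal hcomap
    have hav : algebraMap A A' a ∈ v.asIdeal := by
      have : a ∈ v.asIdeal.comap (algebraMap A A') := by rw [hcm]; exact ha
      exact this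
    have h1 : algebraMap A' (valuationSubringAtPrime K' v) (algebraMap A A' a) ∈
        maximalIdeal (valuationSubringAtPrime K' v) :=
      (IsLocalization.AtPrime.to_map_mem_maximal_iff (valuationSubringAtPrime K' v) v.asIdeal
        (algebraMap A A' a)).mpr hav
    exact ((valuationSubringAtPrime K' v).valuation_lt_one_iff _).mp h1

/-- If `K'` is unramified over the discrete valuation ring `A` in the valuative sense, the
localisation of the integral closure `A'` at a maximal ideal is formally unramified over `A`. -/
theorem isUnramifiedAt_of_isUnramifiedExt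
    (A K' : Type u) [CommRing A] [IsDomain A] [IsDiscreteValuationRing A] [Field K']
    [Algebra A K'] (A' : Type u) [CommRing A'] [IsDedekindDomain A'] [Algebra A A'] [Algebra A' K']
    [IsScalarTower A A' K'] [IsFractionRing A' K'] [Module.Finite A A']
    (h : EtRam.IsUnramifiedExt A (algebraMap A K')) (v : HeightOneSpectrum A') :
    Algebra.IsUnramifiedAt A v.asIdeal := by
  have hint : Algebra.IsIntegral A A' := Algebra.IsIntegral.of_finite A A'
  have hdom := dominates_valuationSubringAtPrime A K' A' v
  let _ : Algebra A (valuationSubringAtPrime K' v) :=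
    (RingHom.codRestrict (algebraMap A K') (valuationSubringAtPrime K' v) hdom.1).toAlgebra
  have hloc : IsLocalHom (algebraMap A (valuationSubringAtPrime K' v)) :=
    isLocalHom_codRestrict (algebraMap A K') (valuationSubringAtPrime K' v) hdom
  have tower : IsScalarTower A A' (valuationSubringAtPrime K' v) :=
    IsScalarTower.of_algebraMap_eq fun a => Subtype.ext (IsScalarTower.algebraMap_apply A A' K' a)
  have eft1 : Algebra.EssFiniteType A' (valuationSubringAtPrime K' v) :=
    Algebra.EssFiniteType.of_isLocalization _ v.asIdeal.primeCompl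
  have eft : Algebra.EssFiniteType A (valuationSubringAtPrime K' v) :=
    Algebra.EssFiniteType.comp A A' _
  obtain ⟨h1, h2⟩ := h (valuationSubringAtPrime K' v) hdom
  have fu : Algebra.FormallyUnramified A (valuationSubringAtPrime K' v) :=
    Algebra.FormallyUnramified.of_map_maximalIdeal h1
  let e : (valuationSubringAtPrime K' v) ≃ₐ[A'] Localization.AtPrime v.asIdeal :=
    IsLocalization.algEquiv v.asIdeal.primeCompl _ _
  exact Algebra.FormallyUnramified.of_equiv (e.restrictScalars A)

theorem formallyUnramified_of_isUnramifiedExt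
    (A K' : Type u) [CommRing A] [IsDomain A] [IsDiscreteValuationRing A] [Field K']
    [Algebra A K'] (A' : Type u) [CommRing A'] [IsDedekindDomain A'] [Algebra A A'] [Algebra A' K']
    [IsScalarTower A A' K'] [IsFractionRing A' K'] [Module.Finite A A']
    (hinj : Function.Injective (algebraMap A A'))
    (h : EtRam.IsUnramifiedExt A (algebraMap A K')) :
    Algebra.FormallyUnramified A A' := by
  have hint : Algebra.IsIntegral A A' := Algebra.IsIntegral.of_finite A A'
  rw [Algebra.formallyUnramified_iff_forall]
  intro q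
  obtain ⟨m, hm, hqm⟩ := Ideal.exists_le_maximal q.asIdeal q.isPrime.ne_top
  have hm0 : m ≠ ⊥ := by
    rintro rfl
    have hfield : IsField A' := Ring.isField_iff_maximal_bot.mpr hm
    exact IsDiscreteValuationRing.not_isField A
      (isField_of_isIntegral_of_isField hinj hfield)
  let v : HeightOneSpectrum A' := ⟨m, hm.isPrime, hm0⟩
  have hv : (⟨m, hm.isPrime⟩ : PrimeSpectrum A') ∈ Algebra.unramifiedLocus A A' :=
    isUnramifiedAt_of_isUnramifiedExt A K' A' h v
  have hspec : q ⤳ (⟨m, hm.isPrime⟩ : PrimeSpectrum A') :=
    (PrimeSpectrum.le_iff_specializes _ _).mp hqm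
  exact (Algebra.isOpen_unramifiedLocus (R := A) (A := A')).stableUnderGeneralization hspec hv

section Assembly

open TensorProduct

theorem exists_div_of_surjective {F T : Type*} [Field F] [CommRing T] (S : Subring F)
    (φ : T →+* F) (hφ : Function.Surjective φ)
    (gens : Set T) (hgens : Subring.closure gens = ⊤)
    (hP : ∀ t ∈ gens, ∃ x y : F, x ∈ S ∧ y ∈ S ∧ y ≠ 0 ∧ φ t = x / y) (z : F) :
    ∃ x y : F, x ∈ S ∧ y ∈ S ∧ y ≠ 0 ∧ z = x / y := by
  obtain ⟨t, rfl⟩ := hφ z
  have ht : t ∈ Subring.closure gens := by rw [hgens]; exact Subring.mem_top t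
  induction ht using Subring.closure_induction with
  | mem t ht => exact hP t ht
  | zero => exact ⟨0, 1, S.zero_mem, S.one_mem, one_ne_zero, by rw [map_zero, zero_div]⟩
  | one => exact ⟨1, 1, S.one_mem, S.one_mem, one_ne_zero, by rw [map_one, div_one]⟩
  | add a b _ _ ha hb =>
    obtain ⟨x₁, y₁, hx₁, hy₁, h₁, e₁⟩ := ha
    obtain ⟨x₂, y₂, hx₂, hy₂, h₂, e₂⟩ := hb
    refine ⟨x₁ * y₂ + x₂ * y₁, y₁ * y₂, S.add_mem (S.mul_mem hx₁ hy₂) (S.mul_mem hx₂ hy₁),
      S.mul_mem hy₁ hy₂, mul_ne_zero h₁ h₂, ?_⟩
    rw [map_add, e₁, e₂]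
    field_simp
  | neg a _ ha =>
    obtain ⟨x₁, y₁, hx₁, hy₁, h₁, e₁⟩ := ha
    exact ⟨-x₁, y₁, S.neg_mem hx₁, hy₁, h₁, by rw [map_neg, e₁, neg_div]⟩
  | mul a b _ _ ha hb =>
    obtain ⟨x₁, y₁, hx₁, hy₁, h₁, e₁⟩ := ha
    obtain ⟨x₂, y₂, hx₂, hy₂, h₂, e₂⟩ := hb
    refine ⟨x₁ * x₂, y₁ * y₂, S.mul_mem hx₁ hx₂, S.mul_mem hy₁ hy₂, mul_ne_zero h₁ h₂, ?_⟩
    rw [map_mul, e₁, e₂]
    field_simp

theorem closure_tmul_eq_top (K K' L : Type*) [Field K] [Field K'] [Field L] [Algebra K K']
    [Algebra K L] :
    Subring.closure ({t : K' ⊗[K] L | ∃ k' : K', t = k' ⊗ₜ[K] (1 : L)} ∪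
      {t : K' ⊗[K] L | ∃ l : L, t = (1 : K') ⊗ₜ[K] l}) = ⊤ := by
  rw [eq_top_iff]
  rintro t -
  induction t using TensorProduct.induction_on with
  | zero => exact Subring.zero_mem _
  | tmul k' l =>
    have : k' ⊗ₜ[K] l = (k' ⊗ₜ[K] (1 : L)) * ((1 : K') ⊗ₜ[K] l) := by
      rw [Algebra.TensorProduct.tmul_mul_tmul, mul_one, one_mul]
    rw [this]
    exact Subring.mul_mem _ (Subring.subset_closure (Or.inl ⟨k', rfl⟩))
      (Subring.subset_closure (Or.inr ⟨l, rfl⟩))
  | add a b ha hb => exact Subring.add_mem _ ha hb

theorem isUnramifiedExt_baseChange (A B K L K' : Type u) [CommRing A] [IsDomain A]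
    [IsDiscreteValuationRing A] [CommRing B] [IsDomain B] [IsDiscreteValuationRing B] [Algebra A B]
    [Field K] [Field L] [Field K'] [Algebra A K] [IsFractionRing A K] [Algebra B L] [IsFractionRing B L]
    [Algebra K L] [Algebra A L] [IsScalarTower A K L] [IsScalarTower A B L]
    [Algebra K K'] [FiniteDimensional K K'] [Algebra.IsSeparable K K']
    (h : EtRam.IsUnramifiedExt A ((algebraMap K K').comp (algebraMap A K)))
    (F : Type u) [Field F] [Algebra (K' ⊗[K] L) F]
    (hF : Function.Surjective (algebraMap (K' ⊗[K] L) F)) :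
    EtRam.IsUnramifiedExt B ((algebraMap (K' ⊗[K] L) F).comp
      ((Algebra.TensorProduct.includeRight : L →ₐ[K] K' ⊗[K] L).toRingHom.comp (algebraMap B L))) := by
  -- the integral closure `A'` of `A` in `K'`
  let _ : Algebra A K' := ((algebraMap K K').comp (algebraMap A K)).toAlgebra
  have : IsScalarTower A K K' := IsScalarTower.of_algebraMap_eq fun _ => rfl
  have hD : IsDedekindDomain (integralClosure A K') := integralClosure.isDedekindDomain A K K'
  have hFr : IsFractionRing (integralClosure A K') K' :=
    integralClosure.isFractionRing_of_finite_extension K K'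
  have hfin : Module.Finite A (integralClosure A K') := IsIntegralClosure.finite A K K' _
  have hAK' : Function.Injective (algebraMap A K') :=
    (algebraMap K K').injective.comp (IsFractionRing.injective A K)
  have hAA' : Function.Injective (algebraMap A (integralClosure A K')) := by
    intro a b hab
    apply hAK'
    have := congrArg (algebraMap (integralClosure A K') K') hab
    rwa [← IsScalarTower.algebraMap_apply, ← IsScalarTower.algebraMap_apply] at this
  have hfu : Algebra.FormallyUnramified A (integralClosure A K') :=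
    formallyUnramified_of_isUnramifiedExt A K' (integralClosure A K') hAA' h
  -- the algebra structures on `F`
  let gF : B →+* F := (algebraMap (K' ⊗[K] L) F).comp
      ((Algebra.TensorProduct.includeRight : L →ₐ[K] K' ⊗[K] L).toRingHom.comp (algebraMap B L))
  let _ : Algebra B F := gF.toAlgebra
  let _ : Algebra A F := (gF.comp (algebraMap A B)).toAlgebra
  have : IsScalarTower A B F := IsScalarTower.of_algebraMap_eq fun _ => rfl
  let gA' : integralClosure A K' →ₐ[A] F :=
    { toRingHom := (algebraMap (K' ⊗[K] L) F).comp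
        ((Algebra.TensorProduct.includeLeft : K' →ₐ[K] K' ⊗[K] L).toRingHom.comp
          (algebraMap (integralClosure A K') K'))
      commutes' := by
        intro a
        change algebraMap (K' ⊗[K] L) F ((algebraMap (integralClosure A K') K'
          (algebraMap A (integralClosure A K') a)) ⊗ₜ[K] (1 : L)) =
          algebraMap (K' ⊗[K] L) F ((1 : K') ⊗ₜ[K] (algebraMap B L (algebraMap A B a)))
        congr 1
        rw [← IsScalarTower.algebraMap_apply A (integralClosure A K') K',
          ← IsScalarTower.algebraMap_apply A B L, IsScalarTower.algebraMap_apply A K K',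
          IsScalarTower.algebraMap_apply A K L, Algebra.algebraMap_eq_smul_one,
          Algebra.algebraMap_eq_smul_one (algebraMap A K a), TensorProduct.smul_tmul] }
  let Φ : B ⊗[A] (integralClosure A K') →ₐ[B] F :=
    Algebra.TensorProduct.productLeftAlgHom (Algebra.ofId B F) gA'
  have hΦB : ∀ b : B, Φ (b ⊗ₜ[A] 1) = algebraMap B F b := by
    intro b
    simp [Φ]
  have hΦA' : ∀ x : integralClosure A K', Φ (1 ⊗ₜ[A] x) =
      algebraMap (K' ⊗[K] L) F ((algebraMap (integralClosure A K') K' x) ⊗ₜ[K] (1 : L)) := by
    intro x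
    simp [Φ, gA']
  -- the image `C` of `Φ`
  have hsurj : Function.Surjective Φ.rangeRestrict := Φ.rangeRestrict_surjective
  have hCfin : Module.Finite B Φ.range :=
    Module.Finite.of_surjective Φ.rangeRestrict.toLinearMap hsurj
  have hCfu : Algebra.FormallyUnramified B Φ.range :=
    Algebra.FormallyUnramified.of_surjective Φ.rangeRestrict hsurj
  have hLF : Function.Injective ((algebraMap (K' ⊗[K] L) F).comp
      (Algebra.TensorProduct.includeRight : L →ₐ[K] K' ⊗[K] L).toRingHom) :=
    RingHom.injective _
  have hK'F : Function.Injective ((algebraMap (K' ⊗[K] L) F).comp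
      (Algebra.TensorProduct.includeLeft : K' →ₐ[K] K' ⊗[K] L).toRingHom) :=
    RingHom.injective _
  have hBF : Function.Injective (algebraMap B F) := by
    intro b b' hbb
    exact IsFractionRing.injective B L (hLF hbb)
  have hBC : Function.Injective (algebraMap B Φ.range) := by
    intro b b' hbb
    apply hBF
    exact congrArg Subtype.val hbb
  have hFrac : IsFractionRing Φ.range F := by
    refine IsFractionRing.of_field (R := Φ.range) F (fun z => ?_)
    obtain ⟨x, y, hx, hy, hy0, e⟩ := exists_div_of_surjective Φ.range.toSubring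
      (algebraMap (K' ⊗[K] L) F) hF _ (closure_tmul_eq_top K K' L) (by
        rintro t (⟨k', rfl⟩ | ⟨l, rfl⟩)
        · obtain ⟨a', a'', ha'', rfl⟩ := IsFractionRing.div_surjective (A := integralClosure A K') k'
          refine ⟨Φ (1 ⊗ₜ[A] a'), Φ (1 ⊗ₜ[A] a''), ⟨_, rfl⟩, ⟨_, rfl⟩, ?_, ?_⟩
          · rw [hΦA']
            intro h0
            have h1 := hK'F (a₁ := algebraMap (integralClosure A K') K' a'') (a₂ := 0)
              (by rw [map_zero]; exact h0)
            exact nonZeroDivisors.ne_zero ha'' (IsFractionRing.injective _ K' (by rw [h1, map_zero]))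
          · rw [hΦA', hΦA']
            exact map_div₀ ((algebraMap (K' ⊗[K] L) F).comp
              (Algebra.TensorProduct.includeLeft : K' →ₐ[K] K' ⊗[K] L).toRingHom) _ _
        · obtain ⟨b, b', hb', rfl⟩ := IsFractionRing.div_surjective (A := B) l
          refine ⟨Φ (b ⊗ₜ[A] 1), Φ (b' ⊗ₜ[A] 1), ⟨_, rfl⟩, ⟨_, rfl⟩, ?_, ?_⟩
          · rw [hΦB]
            intro h0
            exact nonZeroDivisors.ne_zero hb' (hBF (by rw [h0, map_zero]))
          · rw [hΦB, hΦB]
            exact map_div₀ ((algebraMap (K' ⊗[K] L) F).comp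
              (Algebra.TensorProduct.includeRight : L →ₐ[K] K' ⊗[K] L).toRingHom) _ _) z
    exact ⟨⟨x, hx⟩, ⟨y, hy⟩, e⟩
  exact isUnramifiedExt_of_formallyUnramified B Φ.range F hBC

end Assembly

end Groth.Agent.Lib.EtRamUnr76
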