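import Groth.Agent.Lib.Recoll65
import Groth.Agent.Lib.EtClosedDerived65
import Groth.Prelude.Def_W4c1etweilhu916Glue

/-!
# Recollement for abelian étale sheaves along a closed immersion and its open complement
(helper65) — S14449
-/

set_option autoImplicit false
set_option linter.unusedSectionVars false
universe u
open CategoryTheory CategoryTheory.Limits AlgebraicGeometry Opposite

namespace Groth.Agent.Lib.EtRecoll65

open Groth.Agent.Lib.EtGerm Groth.Agent.Lib.EtStalkConservative

/-- if `f⁻¹ v` is an isomorphism then `v` is an isomorphism on stalks at points `ζ ≫ f` -/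
lemma isIso_stalk_map_of_isIso_pull {Y X : Scheme.{u}} (f : Y ⟶ X) {P Q : EtCoh.Ab X} (v : P ⟶ Q)
    (h : IsIso ((EtCoh.pull f).map v)) {Ω : Type u} [Field Ω] [IsSepClosed Ω]
    (ζ : Spec (CommRingCat.of Ω) ⟶ Y) :
    IsIso ((EtCoh.stalk (ζ ≫ f)).map v) := by
  have hnat := (Groth.Agent.Lib.EtStalkPull.stalkPullIso f ζ).hom.naturality v
  have h2 : IsIso ((EtCoh.pull f ⋙ EtCoh.stalk ζ).map v) := by
    show IsIso ((EtCoh.stalk ζ).map ((EtCoh.pull f).map v))
    infer_instance
  have h4 : IsIso ((Groth.Agent.Lib.EtStalkPull.stalkPullIso f ζ).hom.app _ ≫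
      (EtCoh.stalk (ζ ≫ f)).map v) := by
    rw [← hnat]
    infer_instance
  exact IsIso.of_isIso_comp_left ((Groth.Agent.Lib.EtStalkPull.stalkPullIso f ζ).hom.app _) _

variable {Z X U : Scheme.{u}} (i : Z ⟶ X) [IsClosedImmersion i] (j : U ⟶ X) [IsOpenImmersion j]

lemma isIso_counit_open : IsIso (EtCoh.pullPushAdj j).counit := by
  have h : IsIso (Groth.Agent.Lib.EtExtZero.restrPushAdj j).counit := inferInstance
  let ff := (Groth.Agent.Lib.EtExtZero.restrPushAdj j).fullyFaithfulROfIsIsoCounit
  have : (EtCoh.push j).Full := ff.full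
  have : (EtCoh.push j).Faithful := ff.faithful
  infer_instance

variable (hZU : Set.range j = (Set.range i)ᶜ)

include hZU in
lemma isIso_of_isIso_pull {F F' : EtCoh.Ab X} (f : F ⟶ F') (h1 : IsIso ((EtCoh.pull i).map f))
    (h2 : IsIso ((EtCoh.pull j).map f)) : IsIso f := by
  apply Groth.Agent.Lib.EtGeomPtConservative39.isIso_of_forall_geomPt
  intro x
  by_cases hx : x ∈ Set.range i
  · obtain ⟨z, rfl⟩ := hx
    refine ⟨_, inferInstance, inferInstance, stdPt z ≫ i, ?_, ?_⟩
    · show i (stdPt z default) = i z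
      rw [stdPt_default]
    · have := isIso_stalk_map_of_isIso_pull i f h1 (stdPt z)
      exact (ConcreteCategory.isIso_iff_bijective _).1 this
  · have hx' : x ∈ Set.range j := by rw [hZU]; exact hx
    obtain ⟨u, rfl⟩ := hx'
    refine ⟨_, inferInstance, inferInstance, stdPt u ≫ j, ?_, ?_⟩
    · show j (stdPt u default) = j u
      rw [stdPt_default]
    · have := isIso_stalk_map_of_isIso_pull j f h2 (stdPt u)
      exact (ConcreteCategory.isIso_iff_bijective _).1 this

include hZU in
theorem main : (EtCore.recollTriple i j).IsEquivalence := by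
  have := Groth.Agent.Lib.EtClosedDerived65.isIso_counit i
  have := isIso_counit_open j
  have : PreservesLimitsOfShape WalkingCospan (EtCoh.pull i) := inferInstance
  have : PreservesLimitsOfShape WalkingCospan (EtCoh.pull j) := inferInstance
  exact Groth.Agent.Lib.Recoll65.isEquivalence_T (EtCoh.pullPushAdj i) (EtCoh.pullPushAdj j)
    (Groth.Agent.Lib.EtClosedDerived65.isZero_pull_push i j hZU)
    (fun f h1 h2 => isIso_of_isIso_pull i j hZU f h1 h2)

end Groth.Agent.Lib.EtRecoll65
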