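import Groth.Agent.Lib.ExtPull
import Groth.Agent.Lib.RDLES31
import Mathlib.CategoryTheory.Preadditive.Injective.Preserves
import Mathlib.Algebra.Homology.DerivedCategory.Ext.EnoughInjectives

/-!
# Edge maps `Ext^n(Z, G F) → Ext^n(Z', F)` for an adjunction `L ⊣ G` with `L` exact (helper49)

For `L ⊣ G` between abelian categories with `L` exact, `c : Z' ⟶ L Z`, the maps
`θ adj c F n : Ext^n(Z, G F) → Ext^n(Z', F)`, `x ↦ c ≫ L(x) ≫ ε_F` are additive (`θ_add`, `θ_zero`),
natural in `F` (`θ_comp_mk₀`) and compatible with connecting maps of short exact sequences `S` such that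
`G S` is still short exact (`θ_comp_extClass`).  Main theorem `θ_bijective`: if `θ _ 0` is bijective for all `F`
(e.g. `c` an isomorphism, `θ_bijective_zero`), then `θ F n` is bijective for every `G`-acyclic `F` (`Acyc G F`)
and every `n` ("Leray edge map is an isomorphism when the higher direct images vanish").
Also: `acyc_of_injective`, `acyc_X₃`, `shortExact_map`.
-/

set_option autoImplicit false
set_option linter.unusedSectionVars false
universe w w' v v' u u'

namespace Groth.Agent.Lib.ExtAdjEdge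

open CategoryTheory CategoryTheory.Limits CategoryTheory.Abelian Groth.Agent.Lib.ExtPull

variable {𝒴 : Type u} [Category.{v} 𝒴] [Abelian 𝒴] {𝒳 : Type u'} [Category.{v'} 𝒳] [Abelian 𝒳]
  [HasExt.{w} 𝒴] [HasExt.{w'} 𝒳] [EnoughInjectives 𝒳]
  {L : 𝒴 ⥤ 𝒳} {G : 𝒳 ⥤ 𝒴} (adj : L ⊣ G)
  [L.Additive] [PreservesFiniteLimits L] [PreservesFiniteColimits L] [G.Additive]
  {Z : 𝒴} {Z' : 𝒳} (c : Z' ⟶ L.obj Z)

/-- the edge map `Ext^n(Z, G F) → Ext^n(Z', F)`: apply `L`, precompose with `c`, postcompose with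
the counit -/
noncomputable def θ (F : 𝒳) (n : ℕ) (x : Ext.{w} Z (G.obj F) n) : Ext.{w'} Z' F n :=
  (P L c (G.obj F) n x).comp (Ext.mk₀ (adj.counit.app F)) (add_zero n)

lemma θ_add (F : 𝒳) (n : ℕ) (x y : Ext.{w} Z (G.obj F) n) :
    θ adj c F n (x + y) = θ adj c F n x + θ adj c F n y := by
  simp only [θ, P_add, Ext.add_comp]

lemma θ_zero (F : 𝒳) (n : ℕ) : θ adj c F n (0 : Ext.{w} Z (G.obj F) n) = 0 := by
  simp only [θ, P_zero, Ext.zero_comp]

/-- naturality in `F` -/
lemma θ_comp_mk₀ {F F' : 𝒳} (φ : F ⟶ F') (n : ℕ) (x : Ext.{w} Z (G.obj F) n) :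
    θ adj c F' n (x.comp (Ext.mk₀ (G.map φ)) (add_zero n)) =
      (θ adj c F n x).comp (Ext.mk₀ φ) (add_zero n) := by
  simp only [θ, P_comp_mk₀]
  rw [Ext.comp_assoc_of_third_deg_zero, Ext.comp_assoc_of_third_deg_zero, Ext.mk₀_comp_mk₀,
    Ext.mk₀_comp_mk₀]
  congr 2
  exact adj.counit.naturality φ


/-- the counit as a morphism of short complexes `L (G S) ⟶ S` -/
def counitHom (S : ShortComplex 𝒳) : (S.map G).map L ⟶ S where
  τ₁ := adj.counit.app S.X₁
  τ₂ := adj.counit.app S.X₂
  τ₃ := adj.counit.app S.X₃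
  comm₁₂ := (adj.counit.naturality S.f).symm
  comm₂₃ := (adj.counit.naturality S.g).symm

/-- compatibility with connecting maps -/
lemma θ_comp_extClass (S : ShortComplex 𝒳) (hS : S.ShortExact) (hGS : (S.map G).ShortExact)
    (n : ℕ) (x : Ext.{w} Z (G.obj S.X₃) n) :
    θ adj c S.X₁ (n + 1) (x.comp hGS.extClass rfl) =
      (θ adj c S.X₃ n x).comp hS.extClass rfl := by
  have h1 := P_comp_extClass L c (S.map G) hGS n (n + 1) rfl x
  have h2 := ShortComplex.ShortExact.extClass_naturality (hGS.map_of_exact L) hS (counitHom adj S)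
  refine (congrArg (fun y => y.comp (Ext.mk₀ (adj.counit.app S.X₁)) (add_zero (n + 1))) h1).trans ?_
  refine (Ext.comp_assoc _ _ _ rfl (add_zero 1) (by omega)).trans ?_
  refine Eq.trans ?_ (Ext.comp_assoc _ _ _ (add_zero n) (zero_add 1) (by omega)).symm
  exact congrArg (fun y => (P L c (G.obj S.X₃) n x).comp y (by omega)) h2


section DegreeZero

lemma θ_mk₀ (F : 𝒳) (a : Z ⟶ G.obj F) :
    θ.{w, w'} adj c F 0 (Ext.mk₀ a) = Ext.mk₀ (c ≫ (adj.homEquiv Z F).symm a) := by
  unfold θ P
  rw [Ext.mapExactFunctor_mk₀, Ext.mk₀_comp_mk₀, Ext.mk₀_comp_mk₀, Category.assoc,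
    Adjunction.homEquiv_counit]

theorem θ_bijective_zero [IsIso c] (F : 𝒳) : Function.Bijective (θ.{w, w'} adj c F 0) := by
  constructor
  · intro x₁ x₂ h
    obtain ⟨a₁, rfl⟩ := (Ext.mk₀_bijective _ _).2 x₁
    obtain ⟨a₂, rfl⟩ := (Ext.mk₀_bijective _ _).2 x₂
    rw [θ_mk₀, θ_mk₀] at h
    have h' := (Ext.mk₀_bijective _ _).1 h
    rw [cancel_epi] at h'
    rw [(adj.homEquiv Z F).symm.injective h']
  · intro y
    obtain ⟨b, rfl⟩ := (Ext.mk₀_bijective _ _).2 y
    refine ⟨Ext.mk₀ (adj.homEquiv Z F (inv c ≫ b)), ?_⟩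
    rw [θ_mk₀, Equiv.symm_apply_apply, IsIso.hom_inv_id_assoc]

end DegreeZero

section Acyclic

variable (G)

/-- `F` is `G`-acyclic -/
def Acyc (F : 𝒳) : Prop := ∀ q : ℕ, IsZero ((G.rightDerived (q + 1)).obj F)

lemma acyc_of_injective (I : 𝒳) [Injective I] : Acyc G I := fun q =>
  Functor.isZero_rightDerived_obj_injective_succ G q I

lemma acyc_X₃ (S : ShortComplex 𝒳) (hS : S.ShortExact) (h₁ : Acyc G S.X₁) (h₂ : Acyc G S.X₂) :
    Acyc G S.X₃ := by
  intro q
  obtain ⟨δ, -, h⟩ := Groth.Agent.RDPlus31.rightDerived_les G hS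
  obtain ⟨w, hw⟩ := (h (q + 1)).2.1
  exact hw.isZero_of_both_zeros ((h₂ q).eq_of_src _ _) ((h₁ (q + 1)).eq_of_tgt _ _)

lemma shortExact_map [PreservesFiniteLimits G] (S : ShortComplex 𝒳) (hS : S.ShortExact)
    (h₁ : Acyc G S.X₁) : (S.map G).ShortExact := by
  obtain ⟨he, hm⟩ := (Functor.preservesFiniteLimits_iff_forall_exact_map_and_mono G).1
    inferInstance S hS
  obtain ⟨δ, -, h⟩ := Groth.Agent.RDPlus31.rightDerived_les G hS
  obtain ⟨w, hw⟩ := (h 0).2.1
  have hepi : Epi ((G.rightDerived 0).map S.g) := hw.epi_f ((h₁ 0).eq_of_tgt _ _)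
  have hepi' : Epi (G.map S.g) := by
    have e := G.rightDerivedZeroIsoSelf
    have hn := e.hom.naturality S.g
    have : G.map S.g = (e.inv.app S.X₂ ≫ (G.rightDerived 0).map S.g) ≫ e.hom.app S.X₃ := by
      rw [Category.assoc, hn, ← Category.assoc, ← NatTrans.comp_app, e.inv_hom_id]
      simp
    rw [this]
    infer_instance
  exact { exact := he, mono_f := hm, epi_g := hepi' }

end Acyclic

section Main

include adj in
/-- **Edge maps are bijective on `G`-acyclic objects**, provided they are bijective in degree 0. -/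
theorem θ_bijective (h0 : ∀ F : 𝒳, Function.Bijective (θ.{w, w'} adj c F 0)) (n : ℕ) :
    ∀ F : 𝒳, Acyc G F → Function.Bijective (θ.{w, w'} adj c F n) := by
  have : PreservesFiniteLimits G := by
    have := adj.rightAdjoint_preservesLimits
    infer_instance
  induction n with
  | zero => exact fun F _ => h0 F
  | succ n ih =>
    intro F hF
    -- the short exact sequence `0 → F → I → Q → 0`
    let I := Injective.under F
    let S : ShortComplex 𝒳 := ShortComplex.mk (Injective.ι F) (cokernel.π (Injective.ι F))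
      (cokernel.condition _)
    have hS : S.ShortExact :=
      { exact := ShortComplex.exact_cokernel _
        mono_f := by dsimp [S]; infer_instance
        epi_g := by dsimp [S]; infer_instance }
    have hI : Acyc G S.X₂ := acyc_of_injective G (Injective.under F)
    have hQ : Acyc G S.X₃ := acyc_X₃ G S hS hF hI
    have hGS : (S.map G).ShortExact := shortExact_map G S hS hF
    have hGI : Injective (G.obj S.X₂) := by
      have : Injective S.X₂ := by dsimp [S]; infer_instance
      exact Injective.injective_of_adjoint adj _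
    have hI' : Injective S.X₂ := by dsimp [S]; infer_instance
    have ihQ := ih S.X₃ hQ
    have ihI := ih S.X₂ hI
    constructor
    · -- injectivity
      intro x₁ x₂ hx
      rw [← sub_eq_zero]
      have hx0 : θ adj c F (n + 1) (x₁ - x₂) = 0 := by
        have := θ_add adj c F (n + 1) (x₁ - x₂) x₂
        rw [sub_add_cancel, hx] at this
        exact (add_eq_right.1 this.symm)
      generalize x₁ - x₂ = x at hx0
      -- `x` comes from `Ext^n(Z, G Q)`
      have hx1 : x.comp (Ext.mk₀ (S.map G).f) (add_zero (n + 1)) = 0 :=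
        @Ext.eq_zero_of_injective _ _ _ _ _ _ _ hGI _
      obtain ⟨x', hx'⟩ := Ext.covariant_sequence_exact₁ _ hGS x hx1 (n₀ := n) rfl
      have h3 : (θ adj c S.X₃ n x').comp hS.extClass rfl = 0 := by
        rw [← θ_comp_extClass adj c S hS hGS n x']
        exact (congrArg (θ adj c F (n + 1)) hx').trans hx0
      obtain ⟨y'', hy''⟩ := Ext.covariant_sequence_exact₃ _ hS _ rfl h3
      obtain ⟨x'', rfl⟩ := ihI.2 y''
      have h4 : x' = x''.comp (Ext.mk₀ (G.map S.g)) (add_zero n) := by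
        apply ihQ.1
        rw [θ_comp_mk₀]
        exact hy''.symm
      rw [← hx', h4]
      exact (Ext.comp_assoc_of_second_deg_zero _ _ _ _).trans
        ((congrArg (fun y => x''.comp y (by omega)) hGS.comp_extClass).trans (Ext.comp_zero _ _ _ _ _))
    · -- surjectivity
      intro y
      have hy1 : y.comp (Ext.mk₀ S.f) (add_zero (n + 1)) = 0 := Ext.eq_zero_of_injective _
      obtain ⟨y', hy'⟩ := Ext.covariant_sequence_exact₁ _ hS y hy1 (n₀ := n) rfl
      obtain ⟨x', rfl⟩ := ihQ.2 y'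
      exact ⟨x'.comp hGS.extClass rfl, (θ_comp_extClass adj c S hS hGS n x').trans hy'⟩

end Main

end Groth.Agent.Lib.ExtAdjEdge
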