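import Groth.Prelude.Def_EtLim
import Groth.Agent.Lib.EtHpullComp
import Groth.Agent.Lib.ExtAdjEdge
import Groth.Agent.Lib.EtPushEpi39
import Groth.Agent.Lib.PropB34
import Groth.Agent.Lib.EtJCont
import Groth.Agent.Lib.EtFinEtTrace95

/-!
# Restriction–corestriction for finite etale morphisms (helper95)

* `Hpull_naturality`: `EtCore.Hpull` is natural in the sheaf;
* `HofPush_unit`: `H^n(Y, F) → H^n(Y, f_* f⁻¹ F) → H^n(X, f⁻¹ F)` is `Hpull f F n`;
* `HofPush_bijective_of_finite`;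
* `traceP f : pull f ⋙ push f ⟶ 𝟭` and `unit_traceP`;
* `nsmul_eq_zero_of_Hpull_eq_zero`: if `f` is finite etale with exactly `d` lifts of every geometric
  point and `α` dies on `X`, then `d • α = 0`.
-/

set_option autoImplicit false
set_option linter.unusedSectionVars false
universe u

open CategoryTheory CategoryTheory.Limits AlgebraicGeometry Opposite

namespace Groth.Agent.Lib.EtResCores95

open CategoryTheory.Abelian Groth.Agent.Lib.EtHpullComp Groth.Agent.Lib.EtExtZero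
  Groth.Agent.Lib.EtFinEtTrace95 Groth.Agent.Lib.EtGeomPtConservative39

section general

variable {X Y : Scheme.{u}} (f : X ⟶ Y) [PreservesFiniteLimits (EtCoh.pull f)]

lemma HF_map_apply {Z : Scheme.{u}} {F G : EtCoh.Ab Z} (φ : F ⟶ G) (n : ℕ) (x : EtCoh.H Z F n) :
    (EtCoh.HF Z n).map φ x = x.comp (Ext.mk₀ φ) (add_zero n) := rfl

/-- `Hpull` is natural in the sheaf -/
lemma Hpull_naturality {G G' : EtCoh.Ab Y} (φ : G ⟶ G') (n : ℕ) (x : EtCoh.H Y G n) :
    EtCore.Hpull f G' n ((EtCoh.HF Y n).map φ x) =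
      (EtCoh.HF X n).map ((EtCoh.pull f).map φ) (EtCore.Hpull f G n x) :=
  Groth.Agent.Lib.ExtPull.P_comp_mk₀ (EtCoh.pull f) (EtCore.pullConst f ℤ).inv φ n x

/-- `H^n(Y, F) → H^n(Y, f_* f⁻¹ F) → H^n(X, f⁻¹ F)` is the pullback -/
lemma HofPush_unit (F : EtCoh.Ab Y) (n : ℕ) (x : EtCoh.H Y F n) :
    EtLim.HofPush f ((EtCoh.pull f).obj F) n
      ((EtCoh.HF Y n).map ((EtCoh.pullPushAdj f).unit.app F) x) = EtCore.Hpull f F n x := by
  unfold EtLim.HofPush
  show (EtCoh.HF X n).map ((EtCoh.pullPushAdj f).counit.app ((EtCoh.pull f).obj F))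
    (EtCore.Hpull f _ n ((EtCoh.HF Y n).map ((EtCoh.pullPushAdj f).unit.app F) x)) = _
  rw [Hpull_naturality, HF_map_apply, HF_map_apply, Ext.comp_assoc_of_third_deg_zero,
    Ext.mk₀_comp_mk₀]
  have h : (EtCoh.pull f).map ((EtCoh.pullPushAdj f).unit.app F) ≫
      (EtCoh.pullPushAdj f).counit.app ((EtCoh.pull f).obj F) = 𝟙 ((EtCoh.pull f).obj F) :=
    (EtCoh.pullPushAdj f).left_triangle_components F
  rw [h]
  exact Ext.comp_mk₀_id _

/-- for `f` finite, `H^n(Y, f_* F) → H^n(X, F)` is bijective -/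
theorem HofPush_bijective_of_finite [IsFinite f] (F : EtCoh.Ab X) (n : ℕ) :
    Function.Bijective (EtLim.HofPush f F n) :=
  Groth.Agent.Lib.ExtAdjEdge.θ_bijective (EtCoh.pullPushAdj f) (EtCore.pullConst f ℤ).inv
    (fun G => Groth.Agent.Lib.ExtAdjEdge.θ_bijective_zero _ _ G) n F
    (fun q => Groth.Agent.Lib.EtPushEpi39.isZero_Rpush_of_propB f
      (Groth.Agent.Lib.PropB34.propB_integral f) F (q + 1) (by omega))

end general


section finiteEtale

variable {X' X : Scheme.{u}} (f : X' ⟶ X) [hf : AlgebraicGeometry.Etale f] [IsFinite f]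

/-- the trace `f_* f⁻¹ F ⟶ F`, with `f⁻¹ = EtCoh.pull f` -/
noncomputable def traceP : EtCoh.pull f ⋙ EtCoh.push f ⟶ 𝟭 (EtCoh.Ab X) :=
  have := Groth.Agent.Lib.EtJCont.jCont f
  Functor.whiskerRight (restrIsoPull f).inv (EtCoh.push f) ≫ trace f

theorem unit_traceP (d : ℕ) (hd : ∀ x : X, Nat.card (Lifts f (algPt x)) = d) (F : EtCoh.Ab X) :
    (EtCoh.pullPushAdj f).unit.app F ≫ (traceP f).app F = d • 𝟙 F := by
  have := Groth.Agent.Lib.EtJCont.jCont f
  have h1 : (restrPushAdj f).unit.app F ≫ (EtCoh.push f).map ((restrIsoPull f).hom.app F) =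
      (EtCoh.pullPushAdj f).unit.app F :=
    Adjunction.unit_leftAdjointUniq_hom_app _ _ F
  rw [← h1, ← unit_trace f d hd F]
  unfold traceP
  rw [NatTrans.comp_app, Functor.whiskerRight_app, Category.assoc, ← Functor.map_comp_assoc,
    Iso.hom_inv_id_app, CategoryTheory.Functor.map_id, Category.id_comp]

instance additive_HF (Z : Scheme.{u}) (i : ℕ) : (EtCoh.HF Z i).Additive := by
  unfold EtCoh.HF
  infer_instance

lemma HF_map_nsmul_id {Z : Scheme.{u}} (F : EtCoh.Ab Z) (d n : ℕ) (α : EtCoh.H Z F n) :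
    (EtCoh.HF Z n).map (d • 𝟙 F) α = d • α := by
  rw [Functor.map_nsmul, CategoryTheory.Functor.map_id]
  rfl

/-- **restriction–corestriction**: a class killed by a finite etale cover of degree `d` is killed
by `d` -/
theorem nsmul_eq_zero_of_Hpull_eq_zero [PreservesFiniteLimits (EtCoh.pull f)] (d : ℕ)
    (hd : ∀ x : X, Nat.card (Lifts f (algPt x)) = d) (F : EtCoh.Ab X) (n : ℕ)
    (α : EtCoh.H X F n) (hα : EtCore.Hpull f F n α = 0) : d • α = 0 := by
  have h1 : (EtCoh.HF X n).map ((EtCoh.pullPushAdj f).unit.app F) α = 0 := by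
    apply (HofPush_bijective_of_finite f ((EtCoh.pull f).obj F) n).1
    refine (HofPush_unit f F n α).trans (hα.trans ?_)
    exact (map_zero (EtLim.HofPush f ((EtCoh.pull f).obj F) n)).symm
  have h2 : (EtCoh.HF X n).map ((EtCoh.pullPushAdj f).unit.app F ≫ (traceP f).app F) α =
      d • α := by
    rw [unit_traceP f d hd F]
    exact HF_map_nsmul_id F d n α
  rw [← h2, Functor.map_comp, ConcreteCategory.comp_apply, h1, map_zero]
  try rfl

end finiteEtale

end Groth.Agent.Lib.EtResCores95
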