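import Groth.Agent.Lib.SiteGlue
import Groth.Agent.Lib.FiltColimAb
import Groth.Agent.Lib.CechInj
import Groth.Prelude.Def_CohCx
import Mathlib.CategoryTheory.Sites.LocallyBijective
import Mathlib.CategoryTheory.Sites.Limits
import Mathlib.CategoryTheory.Filtered.Basic

/-!
# Sections over "quasi-compact" objects commute with filtered colimits of abelian sheaves

`C` a small site with pullbacks, `B` a class of objects such that every covering sieve of a member
`U` of `B` contains a FINITE covering family whose pairwise fibre products over `U` lie in `B`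
(`FinCov J B`).  Then for every filtered diagram `F : I ⥤ Sheaf J Ab` with colimit cocone `c` and
every `U ∈ B`, the canonical map `colim_i F_i(U) → (colim_i F_i)(U)` is bijective.  This is stated
elementwise as the structure `SecColim F c U` (`surj` and `inj`).  (Stacks 0738.)
-/

set_option autoImplicit false
set_option linter.unusedSectionVars false

universe u

open CategoryTheory Limits Opposite

namespace Groth.Agent.Lib.FiltColimSec

section Filtered

variable {I : Type u} [SmallCategory I] [IsFiltered I]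

/-- finitely many objects of a filtered category have a common upper bound -/
lemma exists_common_stage {α : Type*} [Finite α] (i : α → I) :
    ∃ k : I, ∀ a, Nonempty (i a ⟶ k) := by
  classical
  cases nonempty_fintype α
  obtain ⟨k, hk⟩ := IsFiltered.sup_objs_exists (Finset.univ.image i)
  exact ⟨k, fun a => hk (Finset.mem_image_of_mem _ (Finset.mem_univ a))⟩

/-- finitely many morphisms out of `i` can be equalized into one morphism `g : i ⟶ k` -/
lemma exists_common_refinement {α : Type*} [Finite α] (i : I) (j : α → I) (f : ∀ a, i ⟶ j a) :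
    ∃ (k : I) (g : i ⟶ k), ∀ a, ∃ h : j a ⟶ k, f a ≫ h = g := by
  classical
  cases nonempty_fintype α
  let O : Finset I := insert i (Finset.univ.image j)
  have hi : i ∈ O := Finset.mem_insert_self _ _
  have hj : ∀ a, j a ∈ O := fun a =>
    Finset.mem_insert_of_mem (Finset.mem_image_of_mem _ (Finset.mem_univ a))
  let H : Finset (Σ' (X Y : I) (_ : X ∈ O) (_ : Y ∈ O), X ⟶ Y) :=
    Finset.univ.image (fun a => ⟨i, j a, hi, hj a, f a⟩)
  obtain ⟨S, T, hT⟩ := IsFiltered.sup_exists O H
  refine ⟨S, T hi, fun a => ⟨T (hj a), ?_⟩⟩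
  exact hT hi (hj a) (Finset.mem_image_of_mem _ (Finset.mem_univ a))

end Filtered

variable {C : Type u} [SmallCategory C] [HasPullbacks C] (J : GrothendieckTopology C)

/-- every covering sieve of a member `U` of `B` contains a finite covering family whose pairwise
fibre products over `U` lie in `B` -/
def FinCov (B : Set C) : Prop :=
  ∀ U ∈ B, ∀ T ∈ J U, ∃ (ι : Type u) (Y : ι → Over U), Finite ι ∧ (∀ i, T.arrows (Y i).hom) ∧
    Sieve.ofArrows (fun i => (Y i).left) (fun i => (Y i).hom) ∈ J U ∧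
    ∀ a : Fin 2 → ι, (∏ᶜ fun k => Y (a k)).left ∈ B

/-- the hypotheses of the Cartan-type statements of the prelude give `FinCov` -/
lemma finCov_of (B : Set C) (Cov : ∀ (U : C) (ι : Type u), (ι → Over U) → Prop)
    (h1 : ∀ (U : C) (ι : Type u) (Y : ι → Over U), Cov U ι Y → Finite ι ∧ U ∈ B ∧
      Sieve.ofArrows (fun i => (Y i).left) (fun i => (Y i).hom) ∈ J U ∧
      ∀ (p : ℕ) (a : Fin (p + 1) → ι), (∏ᶜ fun k => Y (a k)).left ∈ B)
    (h2 : ∀ U ∈ B, ∀ T ∈ J U, ∃ (ι : Type u) (Y : ι → Over U), Cov U ι Y ∧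
      ∀ i, T.arrows (Y i).hom) : FinCov J B := by
  intro U hU T hT
  obtain ⟨ι, Y, hY, hYT⟩ := h2 U hU T hT
  obtain ⟨hfin, -, hcov, hprod⟩ := h1 U ι Y hY
  exact ⟨ι, Y, hfin, hYT, hcov, fun a => hprod 1 a⟩

/-- Sections over `V` commute with the colimit `c` of `F` (elementwise form). -/
structure SecColim {I : Type u} [SmallCategory I] (F : I ⥤ Sheaf J AddCommGrpCat.{u})
    (c : Cocone F) (V : C) : Prop where
  surj : ∀ s : c.pt.obj.obj (op V), ∃ (i : I) (t : (F.obj i).obj.obj (op V)),
    (c.ι.app i).hom.app (op V) t = s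
  inj : ∀ (i : I) (t : (F.obj i).obj.obj (op V)), (c.ι.app i).hom.app (op V) t = 0 →
    ∃ (j : I) (f : i ⟶ j), (F.map f).hom.app (op V) t = 0

section Main

variable {J}
variable {I : Type u} [SmallCategory I] [IsFiltered I] (F : I ⥤ Sheaf J AddCommGrpCat.{u})
  (E : Cocone (F ⋙ sheafToPresheaf J AddCommGrpCat.{u})) (hE : IsColimit E)

/-- the colimit presheaf, evaluated at `V`, is the colimit of the groups of sections -/
noncomputable def evalIsColimit (V : C) :
    IsColimit (((evaluation Cᵒᵖ AddCommGrpCat.{u}).obj (op V)).mapCocone E) :=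
  isColimitOfPreserves _ hE

include hE in
lemma pre_exists_rep (V : C) (x : E.pt.obj (op V)) :
    ∃ (i : I) (t : (F.obj i).obj.obj (op V)), (E.ι.app i).app (op V) t = x :=
  FiltColimAb.exists_rep (evalIsColimit F E hE V) x

include hE in
lemma pre_exists_map_eq_zero (V : C) (i : I) (t : (F.obj i).obj.obj (op V))
    (h : (E.ι.app i).app (op V) t = 0) :
    ∃ (j : I) (f : i ⟶ j), (F.map f).hom.app (op V) t = 0 :=
  FiltColimAb.exists_map_eq_zero (evalIsColimit F E hE V) i t h

lemma sheaf_map_map_apply (G : Sheaf J AddCommGrpCat.{u}) {V W X : C} (f : W ⟶ V) (g : X ⟶ W)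
    (s : G.obj.obj (op V)) : G.obj.map g.op (G.obj.map f.op s) = G.obj.map (g ≫ f).op s := by
  rw [op_comp, Functor.map_comp]
  rfl

lemma hom_nat_apply {G G' : Sheaf J AddCommGrpCat.{u}} (φ : G ⟶ G') {V W : C} (g : W ⟶ V)
    (s : G.obj.obj (op V)) :
    φ.hom.app (op W) (G.obj.map g.op s) = G'.obj.map g.op (φ.hom.app (op V) s) :=
  ConcreteCategory.congr_hom (φ.hom.naturality g.op) s

lemma ι_nat_apply (k : I) {V W : C} (g : W ⟶ V) (t : (F.obj k).obj.obj (op V)) :
    ((Sheaf.sheafifyCocone E).ι.app k).hom.app (op W) ((F.obj k).obj.map g.op t) =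
      (Sheaf.sheafifyCocone E).pt.obj.map g.op
        (((Sheaf.sheafifyCocone E).ι.app k).hom.app (op V) t) :=
  hom_nat_apply (G' := (Sheaf.sheafifyCocone E).pt) ((Sheaf.sheafifyCocone E).ι.app k) g t

lemma ι_hom_apply (k : I) (V : C) (t : (F.obj k).obj.obj (op V)) :
    ((Sheaf.sheafifyCocone E).ι.app k).hom.app (op V) t =
      (CategoryTheory.toSheafify J E.pt).app (op V) ((E.ι.app k).app (op V) t) := by
  rw [Sheaf.sheafifyCocone_ι_app_val E k]
  rfl

lemma E_w_apply {i k : I} (h : i ⟶ k) (V : C) (t : (F.obj i).obj.obj (op V)) :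
    (E.ι.app k).app (op V) ((F.map h).hom.app (op V) t) = (E.ι.app i).app (op V) t := by
  have h1 := congrArg (fun φ => φ.app (op V)) (E.w h)
  exact ConcreteCategory.congr_hom h1 t

lemma E_nat_apply (i : I) {V W : C} (g : W ⟶ V) (t : (F.obj i).obj.obj (op V)) :
    (E.ι.app i).app (op W) ((F.obj i).obj.map g.op t) =
      E.pt.map g.op ((E.ι.app i).app (op V) t) :=
  ConcreteCategory.congr_hom ((E.ι.app i).naturality g.op) t

lemma map_nat_apply {i k : I} (h : i ⟶ k) {V W : C} (g : W ⟶ V) (t : (F.obj i).obj.obj (op V)) :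
    (F.map h).hom.app (op W) ((F.obj i).obj.map g.op t) =
      (F.obj k).obj.map g.op ((F.map h).hom.app (op V) t) :=
  ConcreteCategory.congr_hom ((F.map h).hom.naturality g.op) t

lemma map_comp_apply {i j k : I} (f : i ⟶ j) (h : j ⟶ k) (V : C) (t : (F.obj i).obj.obj (op V)) :
    (F.map (f ≫ h)).hom.app (op V) t = (F.map h).hom.app (op V) ((F.map f).hom.app (op V) t) := by
  rw [F.map_comp]
  rfl

include hE in
/-- injectivity of `colim F_i(U) → (colim F_i)(U)` for the sheafified colimit cocone -/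
theorem sheafify_inj {B : Set C} (hB : FinCov J B) (U : C) (hU : U ∈ B) (i : I)
    (t : (F.obj i).obj.obj (op U))
    (ht : ((Sheaf.sheafifyCocone E).ι.app i).hom.app (op U) t = 0) :
    ∃ (j : I) (f : i ⟶ j), (F.map f).hom.app (op U) t = 0 := by
  classical
  rw [ι_hom_apply] at ht
  have h0 : (CategoryTheory.toSheafify J E.pt).app (op U) ((E.ι.app i).app (op U) t) =
      (CategoryTheory.toSheafify J E.pt).app (op U) 0 := by
    rw [ht]
    exact (map_zero _).symm
  have hT := Presheaf.equalizerSieve_mem J (CategoryTheory.toSheafify J E.pt) _ _ h0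
  obtain ⟨ι, Y, hfin, hYT, hcov, -⟩ := hB U hU _ hT
  have key : ∀ a : ι, ∃ (j : I) (f : i ⟶ j),
      (F.map f).hom.app (op (Y a).left) ((F.obj i).obj.map (Y a).hom.op t) = 0 := by
    intro a
    apply pre_exists_map_eq_zero F E hE
    have h1 : E.pt.map (Y a).hom.op ((E.ι.app i).app (op U) t) = E.pt.map (Y a).hom.op 0 := hYT a
    rw [map_zero] at h1
    rw [E_nat_apply, h1]
  choose j f hf using key
  obtain ⟨k, g, hg⟩ := exists_common_refinement i j f
  refine ⟨k, g, ?_⟩
  apply SiteGlue.section_ext_ofArrows (F.obj k) (fun a => (Y a).hom) hcov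
  intro a
  obtain ⟨h, hh⟩ := hg a
  rw [map_zero, ← map_nat_apply, ← hh, map_comp_apply, hf a, map_zero]

include hE in
/-- surjectivity of `colim F_i(U) → (colim F_i)(U)` for the sheafified colimit cocone -/
theorem sheafify_surj {B : Set C} (hB : FinCov J B) (U : C) (hU : U ∈ B)
    (s : (Sheaf.sheafifyCocone E).pt.obj.obj (op U)) :
    ∃ (i : I) (t : (F.obj i).obj.obj (op U)),
      ((Sheaf.sheafifyCocone E).ι.app i).hom.app (op U) t = s := by
  classical
  have hT := Presheaf.imageSieve_mem J (CategoryTheory.toSheafify J E.pt) (U := op U) s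
  obtain ⟨ι, Y, hfin, hYT, hcov, hprod⟩ := hB U hU _ hT
  -- local lifts to the presheaf colimit, then to a stage
  have key : ∀ a : ι, ∃ (i : I) (t : (F.obj i).obj.obj (op (Y a).left)),
      ((Sheaf.sheafifyCocone E).ι.app i).hom.app (op (Y a).left) t =
        (Sheaf.sheafifyCocone E).pt.obj.map (Y a).hom.op s := by
    intro a
    obtain ⟨σ, hσ⟩ := hYT a
    obtain ⟨i, t, hit⟩ := pre_exists_rep F E hE _ σ
    exact ⟨i, t, by rw [ι_hom_apply, hit]; exact hσ⟩
  choose i₀ t₀ ht₀ using key
  obtain ⟨k, hk⟩ := exists_common_stage i₀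
  obtain ⟨t₁, ht₁⟩ : ∃ t₁ : ∀ a, (F.obj k).obj.obj (op (Y a).left),
      ∀ a, ((Sheaf.sheafifyCocone E).ι.app k).hom.app (op (Y a).left) (t₁ a) =
        (Sheaf.sheafifyCocone E).pt.obj.map (Y a).hom.op s := by
    refine ⟨fun a => (F.map (hk a).some).hom.app _ (t₀ a), fun a => ?_⟩
    rw [← ht₀ a, ι_hom_apply, ι_hom_apply, E_w_apply]
  -- differences on the overlaps
  have hd : ∀ a : Fin 2 → ι, ∃ (j : I) (f : k ⟶ j),
      (F.map f).hom.app (op (∏ᶜ fun k => Y (a k)).left)
        ((F.obj k).obj.map (Pi.π (fun k => Y (a k)) 0).left.op (t₁ (a 0)) -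
          (F.obj k).obj.map (Pi.π (fun k => Y (a k)) 1).left.op (t₁ (a 1))) = 0 := by
    intro a
    apply sheafify_inj F E hE hB _ (hprod a)
    have nat : ∀ (l : Fin 2), ((Sheaf.sheafifyCocone E).ι.app k).hom.app
        (op (∏ᶜ fun k => Y (a k)).left)
        ((F.obj k).obj.map (Pi.π (fun k => Y (a k)) l).left.op (t₁ (a l))) =
        (Sheaf.sheafifyCocone E).pt.obj.map (∏ᶜ fun k => Y (a k)).hom.op s := by
      intro l
      rw [ι_nat_apply, ht₁, sheaf_map_map_apply, Over.w]
    rw [map_sub, nat 0, nat 1, sub_self]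
  choose j₁ f₁ hf₁ using hd
  obtain ⟨m, g, hg⟩ := exists_common_refinement k j₁ f₁
  obtain ⟨t₂, ht₂, hov⟩ : ∃ t₂ : ∀ a, (F.obj m).obj.obj (op (Y a).left),
      (∀ a, ((Sheaf.sheafifyCocone E).ι.app m).hom.app (op (Y a).left) (t₂ a) =
        (Sheaf.sheafifyCocone E).pt.obj.map (Y a).hom.op s) ∧
      ∀ a : Fin 2 → ι,
        (F.obj m).obj.map (Pi.π (fun k => Y (a k)) 0).left.op (t₂ (a 0)) =
          (F.obj m).obj.map (Pi.π (fun k => Y (a k)) 1).left.op (t₂ (a 1)) := by
    refine ⟨fun a => (F.map g).hom.app _ (t₁ a), fun a => ?_, fun a => ?_⟩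
    · rw [← ht₁ a, ι_hom_apply, ι_hom_apply, E_w_apply]
    · obtain ⟨h, hh⟩ := hg a
      have h1 := hf₁ a
      have h2 := congrArg ((F.map h).hom.app (op (∏ᶜ fun k => Y (a k)).left)) h1
      rw [← map_comp_apply, hh, map_zero, map_sub, sub_eq_zero, map_nat_apply, map_nat_apply] at h2
      exact h2
  -- glue
  obtain ⟨t, ht⟩ := SiteGlue.exists_amalgamation (F.obj m) (fun a => (Y a).hom) hcov t₂ (by
    intro a b V α β hαβ
    let σ : CechInj.Simp Y 1 V := ⟨![⟨a, α⟩, ⟨b, β⟩], by
      intro k l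
      fin_cases k <;> fin_cases l <;> first | rfl | exact hαβ | exact hαβ.symm⟩
    have e0 : σ.lift ≫ (Pi.π (fun k => Y (σ.idx k)) 0).left = α := CechInj.Simp.lift_π σ 0
    have e1 : σ.lift ≫ (Pi.π (fun k => Y (σ.idx k)) 1).left = β := CechInj.Simp.lift_π σ 1
    have h2 := congrArg ((F.obj m).obj.map σ.lift.op) (hov σ.idx)
    rw [sheaf_map_map_apply, sheaf_map_map_apply, e0, e1] at h2
    exact h2)
  refine ⟨m, t, ?_⟩
  apply SiteGlue.section_ext_ofArrows (Sheaf.sheafifyCocone E).pt (fun a => (Y a).hom) hcov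
  intro a
  rw [← ι_nat_apply, ht a, ht₂ a]

end Main

section General

variable {J}
variable {I : Type u} [SmallCategory I] [IsFiltered I] (F : I ⥤ Sheaf J AddCommGrpCat.{u})

/-- **Sections over members of `B` commute with filtered colimits of abelian sheaves.** -/
theorem secColim {B : Set C} (hB : FinCov J B) (c : Cocone F) (hc : IsColimit c) (U : C)
    (hU : U ∈ B) : SecColim J F c U := by
  let E := colimit.cocone (F ⋙ sheafToPresheaf J AddCommGrpCat.{u})
  have hE : IsColimit E := colimit.isColimit _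
  let c' := Sheaf.sheafifyCocone E
  have hc' : IsColimit c' := Sheaf.isColimitSheafifyCocone E hE
  let e : c'.pt ≅ c.pt := hc'.coconePointUniqueUpToIso hc
  have he : ∀ i, c'.ι.app i ≫ e.hom = c.ι.app i := fun i =>
    hc'.comp_coconePointUniqueUpToIso_hom hc i
  have he' : ∀ (i : I) (V : C) (t : (F.obj i).obj.obj (op V)),
      (c.ι.app i).hom.app (op V) t = e.hom.hom.app (op V) ((c'.ι.app i).hom.app (op V) t) := by
    intro i V t
    rw [← he i]
    rfl
  have hinv : ∀ (V : C) (x : c.pt.obj.obj (op V)),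
      e.hom.hom.app (op V) (e.inv.hom.app (op V) x) = x := by
    intro V x
    have h1 : e.inv ≫ e.hom = 𝟙 _ := e.inv_hom_id
    have h2 := congrArg (fun φ => φ.hom.app (op V)) h1
    exact ConcreteCategory.congr_hom h2 x
  have hinv' : ∀ (V : C) (x : c'.pt.obj.obj (op V)),
      e.inv.hom.app (op V) (e.hom.hom.app (op V) x) = x := by
    intro V x
    have h1 : e.hom ≫ e.inv = 𝟙 _ := e.hom_inv_id
    have h2 := congrArg (fun φ => φ.hom.app (op V)) h1
    exact ConcreteCategory.congr_hom h2 x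
  constructor
  · intro s
    obtain ⟨i, t, ht⟩ := sheafify_surj F E hE hB U hU (e.inv.hom.app (op U) s)
    exact ⟨i, t, by rw [he', ht, hinv]⟩
  · intro i t ht
    apply sheafify_inj F E hE hB U hU i t
    rw [he'] at ht
    have := congrArg (e.inv.hom.app (op U)) ht
    rw [hinv', map_zero] at this
    exact this

end General

end Groth.Agent.Lib.FiltColimSec
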