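import Groth.Agent.Lib.EtQcqs95c
import Groth.Agent.Lib.FiltColimSec

/-!
# Sections over qcqs etale schemes commute with filtered colimits of abelian etale sheaves,
elementwise form (helper34)

`secColim_et` (index category in `Type (u+1)`) and `secColim_et'` (index category in `Type u`), for
an arbitrary colimit cocone `c` of `D : J ⥤ EtCoh.Ab X` and `U : X.Etale` with qcqs source:
* `surj`: every section of `c.pt` over `U` comes from a stage;
* `inj`: a section of a stage dying in `c.pt` dies at a later stage.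
-/

set_option autoImplicit false
universe u

open CategoryTheory CategoryTheory.Limits AlgebraicGeometry Opposite

namespace Groth.Agent.Lib.EtSecColim34

open Groth.Agent.Lib.EtQcqs95 Groth.Agent.Lib.FiltColimSec Groth.Agent.Lib.QCSiteColim

variable (X : Scheme.{u})

lemma finCov_J₁ : FinCov (J₁ X) Set.univ := by
  intro U _ T hT
  obtain ⟨n, V, g, hg, hcov⟩ := qc_J₁ X U T hT
  refine ⟨ULift.{u + 1} (Fin n), fun i => Over.mk (g i.down), inferInstance,
    fun i => hg i.down, ?_, fun _ => trivial⟩
  refine (J₁ X).superset_covering ?_ hcov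
  intro Y f hf
  obtain ⟨k, a, rfl⟩ := (Sieve.mem_ofArrows_iff V g f).1 hf
  exact (Sieve.mem_ofArrows_iff _ _ _).2 ⟨⟨k⟩, a, rfl⟩

/-- elementwise form of "sections over `U` commute with the colimit `c`" -/
structure SecColimEt {J : Type*} [Category J] (D : J ⥤ EtCoh.Ab X) (c : Cocone D)
    (U : X.Etale) : Prop where
  surj : ∀ s : c.pt.obj.obj (op U), ∃ (i : J) (t : (D.obj i).obj.obj (op U)),
    (c.ι.app i).hom.app (op U) t = s
  inj : ∀ (i : J) (t : (D.obj i).obj.obj (op U)), (c.ι.app i).hom.app (op U) t = 0 →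
    ∃ (j : J) (f : i ⟶ j), (D.map f).hom.app (op U) t = 0

variable {X}

theorem secColim_et {I : Type (u + 1)} [SmallCategory I] [IsFiltered I] (D : I ⥤ EtCoh.Ab X)
    (c : Cocone D) (hc : IsColimit c) (U : X.Etale) [CompactSpace U.left]
    [QuasiSeparatedSpace U.left] : SecColimEt X D c U := by
  have hc' : IsColimit ((Ψ₁ X).mapCocone c) := isColimitOfPreserves (Ψ₁ X) hc
  have h := secColim (D ⋙ Ψ₁ X) (finCov_J₁ X) ((Ψ₁ X).mapCocone c) hc'
    (mk₁ X U ⟨inferInstance, inferInstance⟩) trivial
  exact ⟨h.surj, h.inj⟩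

/-- the same for index categories in `Type u` -/
theorem secColim_et' {J : Type u} [SmallCategory J] [IsFiltered J] (D : J ⥤ EtCoh.Ab X)
    (c : Cocone D) (hc : IsColimit c) (U : X.Etale) [CompactSpace U.left]
    [QuasiSeparatedSpace U.left] : SecColimEt X D c U := by
  let e : J ≌ AsSmall.{u + 1} J := AsSmall.equiv
  haveI : IsFiltered (AsSmall.{u + 1} J) := IsFiltered.of_equivalence e
  have hc' : IsColimit (c.whisker e.inverse) := IsColimit.whiskerEquivalence hc e.symm
  have h := secColim_et (e.inverse ⋙ D) (c.whisker e.inverse) hc' U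
  constructor
  · intro s
    obtain ⟨i, t, ht⟩ := h.surj s
    exact ⟨e.inverse.obj i, t, ht⟩
  · intro j t ht
    have h1 : (c.ι.app (e.inverse.obj (e.functor.obj j))).hom.app (op U)
        ((D.map (e.unitIso.hom.app j)).hom.app (op U) t) = 0 := by
      have h2 : D.map (e.unitIso.hom.app j) ≫ c.ι.app (e.inverse.obj (e.functor.obj j)) =
          c.ι.app j := c.w _
      rw [← ht, ← h2]
      rfl
    obtain ⟨i', f, hf⟩ := h.inj (e.functor.obj j) _ h1
    refine ⟨e.inverse.obj i', e.unitIso.hom.app j ≫ e.inverse.map f, ?_⟩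
    rw [Functor.map_comp]
    exact hf

end Groth.Agent.Lib.EtSecColim34
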