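import Groth.Prelude.Def_SGA4b
import Groth.Agent.S0101
import Mathlib.CategoryTheory.Abelian.GrothendieckAxioms.Types
import Mathlib.CategoryTheory.Adhesive.Basic
import Mathlib.CategoryTheory.Sites.LeftExact

/-!
# Sheaves of sets on the small etale site: `secPull`, left exactness of `pullSh`

helper49.  Basic facts about `EtDesc.Sh`, `EtDesc.pullSh`, `EtDesc.secPull`:
* `pullSh_preservesFiniteLimits`: inverse image of sheaves of sets is left exact;
* `secPull_naturality`: `secPull` is natural in the sheaf;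
* `injective_app_of_mono`: a mono of sheaves of sets is injective on sections;
* `exists_eq_of_mono`: a mono `u : F ⟶ G` of sheaves of sets is the equalizer of a pair `a b : G ⟶ H`
  (sectionwise form).
-/

set_option autoImplicit false
universe u
open CategoryTheory CategoryTheory.Limits AlgebraicGeometry Opposite

namespace Groth.Agent.Lib.EtSecPull

/-- Inverse image of sheaves of sets on the small etale site preserves finite limits. -/
instance pullSh_preservesFiniteLimits {X Y : Scheme.{u}} (f : X ⟶ Y) :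
    PreservesFiniteLimits (EtDesc.pullSh f) := by
  have hAB : AB5OfSize.{u, u + 1} (Type (u + 1)) :=
    AB5OfSize_of_univLE.{u, u + 1, u + 1, u + 1} (Type (u + 1))
  have hfilt : ∀ K : (X.Etale)ᵒᵖ, IsFiltered (CostructuredArrow (EtCoh.bc f).op K) := fun K =>
    IsFiltered.of_equivalence (structuredArrowOpEquivalence (EtCoh.bc f) (unop K))
  have : PreservesFiniteLimits ((EtCoh.bc f).op.lan :
      ((Y.Etale)ᵒᵖ ⥤ Type (u + 1)) ⥤ (X.Etale)ᵒᵖ ⥤ Type (u + 1)) :=
    Groth.Agent.S0101.lan_preservesFiniteLimits_of_flat' _ (EtCoh.bc f)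
  exact Functor.sheafPullbackConstruction.preservesFiniteLimits (EtCoh.bc f) (Type (u + 1))
    Y.smallEtaleTopology X.smallEtaleTopology

/-- A monomorphism of sheaves of sets is injective on sections. -/
theorem injective_app_of_mono {X : Scheme.{u}} {F G : EtDesc.Sh X} (v : F ⟶ G) [Mono v]
    (U : X.Etale) : Function.Injective (v.hom.app (op U)) := by
  have h1 : Mono v.hom := (sheafToPresheaf X.smallEtaleTopology (Type (u + 1))).map_mono v
  have h2 : Mono (v.hom.app (op U)) := inferInstance
  exact (mono_iff_injective _).1 h2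

/-- `secPull` is natural in the sheaf. -/
theorem secPull_naturality {X Y : Scheme.{u}} (f : X ⟶ Y) {F G : EtDesc.Sh Y} (v : F ⟶ G)
    (s : EtDesc.sect F (EtCoh.top Y)) :
    ((EtDesc.pullSh f).map v).hom.app (op (EtCoh.top X)) (EtDesc.secPull f F s) =
      EtDesc.secPull f G (v.hom.app (op (EtCoh.top Y)) s) := by
  unfold EtDesc.secPull
  have h1 := congrArg (fun t => t.hom.app (op (EtCoh.top Y))) ((EtDesc.adjSh f).unit.naturality v)
  have h2 := ((EtDesc.pullSh f).map v).hom.naturality (EtCore.bcTopIso f).inv.op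
  have h1' := ConcreteCategory.congr_hom h1 s
  have h2' := ConcreteCategory.congr_hom h2
    (((EtDesc.adjSh f).unit.app F).hom.app (op (EtCoh.top Y)) s)
  dsimp at h1' h2'
  rw [h2', h1']
  rfl

/-- A mono `v : F ⟶ G` of sheaves of sets is the equalizer of a pair `a b : G ⟶ H` (sectionwise form). -/
theorem exists_pair_of_mono {X : Scheme.{u}} {F G : EtDesc.Sh X} (v : F ⟶ G) [Mono v] :
    ∃ (H : EtDesc.Sh X) (a b : G ⟶ H), v ≫ a = v ≫ b ∧
      ∀ (U : X.Etale) (η : EtDesc.sect G U), a.hom.app (op U) η = b.hom.app (op U) η →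
        ∃ ζ : EtDesc.sect F U, v.hom.app (op U) ζ = η := by
  have r : RegularMono v := regularMonoOfMono v
  refine ⟨r.Z, r.left, r.right, r.w, ?_⟩
  intro U η hη
  let E : EtDesc.Sh X ⥤ Type (u + 1) :=
    sheafToPresheaf X.smallEtaleTopology (Type (u + 1)) ⋙ (evaluation _ _).obj (op U)
  have hl := isLimitForkMapOfIsLimit E r.w r.isLimit
  obtain ⟨ζ, hζ, -⟩ := Types.unique_of_type_equalizer _ _ hl η hη
  exact ⟨ζ, hζ⟩

end Groth.Agent.Lib.EtSecPull
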