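import Groth.Agent.Lib.EtConstPush
import Groth.Agent.Lib.EtGeomPtConservative39

/-!
# Sheaves on the spectrum of a separably closed field are constant (helper39)

* `germ_top_bijective`: for `Ω` separably closed, the stalk of `G` at the identity geometric point
  of `Spec Ω` is `Γ(Spec Ω, G)`;
* `isIso_constAdj_counit`, `constIso`: every abelian sheaf on `(Spec Ω)_et` is constant;
* `eq_zero_of_germ_eq_zero_of_const`: a global section of a sheaf isomorphic to a constant sheaf on
  a connected scheme vanishes as soon as one of its germs vanishes;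
* `fibreConstIso`, `eq_zero_of_germ_eq_zero_fibre`: the pullback of `f⁻¹F` to a geometric fibre of
  `f` is constant.
-/

set_option autoImplicit false
universe u
open CategoryTheory CategoryTheory.Limits AlgebraicGeometry Opposite

namespace Groth.Agent.Lib.EtSepClosedConst39

open EtCore EtCoh Groth.Agent.Lib.EtConst Groth.Agent.Lib.EtGerm Groth.Agent.Lib.EtStalkPullGerm
  Groth.Agent.Lib.EtConstPush Groth.Agent.Lib.EtGeomPtConservative39

section point

variable {Ω : Type u} [Field Ω] [IsSepClosed Ω]

/-- the morphism `top ⟶ U` given by a neighbourhood of the identity point -/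
noncomputable def nbhdSection {U : (Spec (CommRingCat.of Ω)).Etale}
    (y : Nbhd (𝟙 (Spec (CommRingCat.of Ω))) U) : EtCoh.top (Spec (CommRingCat.of Ω)) ⟶ U :=
  MorphismProperty.Over.homMk (CommaMorphism.left y : Spec (CommRingCat.of Ω) ⟶ U.left)
    ((Over.w y).trans (Category.id_comp _).symm) trivial

lemma nbhdSection_map {U : (Spec (CommRingCat.of Ω)).Etale}
    (y : Nbhd (𝟙 (Spec (CommRingCat.of Ω))) U) :
    Nbhd.map (𝟙 (Spec (CommRingCat.of Ω))) (nbhdSection y) (topNbhd (𝟙 _)) = y := by
  apply Over.OverMorphism.ext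
  exact Category.id_comp _

/-- the stalk at the identity point is the group of global sections -/
lemma germ_top_bijective (G : EtCoh.Ab (Spec (CommRingCat.of Ω))) :
    Function.Bijective (germ (𝟙 (Spec (CommRingCat.of Ω))) G (topNbhd (𝟙 _))) := by
  constructor
  · rw [injective_iff_map_eq_zero]
    intro s hs
    obtain ⟨V, g, z, -, hg⟩ := (germ_eq_zero_iff _ G _ s).1 hs
    have h1 : nbhdSection z ≫ g = 𝟙 _ := (topIsTerminal _).hom_ext _ _
    have h2 : G.obj.map (nbhdSection z).op (G.obj.map g.op s) = s := by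
      have h3 : G.obj.map (nbhdSection z ≫ g).op s = s := by
        rw [h1, op_id, G.obj.map_id]
        rfl
      rw [op_comp, Functor.map_comp] at h3
      exact h3
    rw [← h2, hg, map_zero]
  · intro p
    obtain ⟨U, y, s, rfl⟩ := germ_jointly_surjective _ G p
    refine ⟨G.obj.map (nbhdSection y).op s, ?_⟩
    rw [germ_res, nbhdSection_map]

omit [IsSepClosed Ω] in
lemma counit_constSec (G : EtCoh.Ab (Spec (CommRingCat.of Ω)))
    (a : (gsec (Spec (CommRingCat.of Ω))).obj G) :
    ((constAdj (Spec (CommRingCat.of Ω))).counit.app G).hom.app (op (EtCoh.top _))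
      (constSec _ (EtCoh.top _) a) = a := by
  have h := (constAdj (Spec (CommRingCat.of Ω))).right_triangle_components G
  have h2 := congrArg (fun k => k.hom a) h
  exact h2

/-- every abelian sheaf on the small etale site of `Spec Ω` is constant -/
theorem isIso_constAdj_counit (G : EtCoh.Ab (Spec (CommRingCat.of Ω))) :
    IsIso ((constAdj (Spec (CommRingCat.of Ω))).counit.app G) := by
  apply isIso_of_forall_geomPt
  intro x
  refine ⟨Ω, inferInstance, inferInstance, 𝟙 _, Subsingleton.elim _ _, ?_⟩
  have hcomp : ∀ a : (gsec (Spec (CommRingCat.of Ω))).obj G,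
      (EtCoh.stalk (𝟙 (Spec (CommRingCat.of Ω)))).map
        ((constAdj (Spec (CommRingCat.of Ω))).counit.app G) (constGerm (𝟙 _) _ a) =
      germ (𝟙 _) G (topNbhd (𝟙 _)) a := by
    intro a
    show (EtCoh.stalk _).map _ (germ _ _ (topNbhd _) (constSec _ _ a)) = _
    rw [germ_naturality, counit_constSec]
    rfl
  constructor
  · intro p q hpq
    obtain ⟨a, rfl⟩ := constGerm_surjective (𝟙 (Spec (CommRingCat.of Ω))) _ p
    obtain ⟨b, rfl⟩ := constGerm_surjective (𝟙 (Spec (CommRingCat.of Ω))) _ q
    rw [hcomp, hcomp] at hpq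
    rw [(germ_top_bijective G).1 hpq]
  · intro p
    obtain ⟨a, rfl⟩ := (germ_top_bijective G).2 p
    exact ⟨_, hcomp a⟩

/-- every abelian sheaf on the small etale site of `Spec Ω` is constant -/
noncomputable def constIso (G : EtCoh.Ab (Spec (CommRingCat.of Ω))) :
    constSh (Spec (CommRingCat.of Ω)) ((gsec (Spec (CommRingCat.of Ω))).obj G) ≅ G :=
  have := isIso_constAdj_counit G
  asIso ((constAdj (Spec (CommRingCat.of Ω))).counit.app G)

end point

section connected

variable {Z : Scheme.{u}} [ConnectedSpace Z]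

/-- a global section of a constant sheaf on a connected scheme vanishes as soon as one of its germs
does -/
theorem eq_zero_of_germ_eq_zero_of_const (H : EtCoh.Ab Z) (A : AddCommGrpCat.{u+1})
    (θ : H ≅ constSh Z A) (t : EtCoh.sect H (EtCoh.top Z))
    {K : Type u} [Field K] [IsSepClosed K] (ζ : Spec (CommRingCat.of K) ⟶ Z)
    (h : germ ζ H (topNbhd ζ) t = 0) : t = 0 := by
  have : ConnectedSpace (EtCoh.top Z).left := inferInstanceAs (ConnectedSpace Z)
  obtain ⟨a, ha⟩ := exists_constSec_eq_of_connected A (EtCoh.top Z) (θ.hom.hom.app (op _) t)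
  have h1 : germ ζ (constSh Z A) (topNbhd ζ) (θ.hom.hom.app (op _) t) = 0 := by
    rw [← germ_naturality, h, map_zero]
  rw [ha] at h1
  have h2 : a = 0 := constGerm_injective ζ A (h1.trans (map_zero _).symm)
  rw [h2, map_zero] at ha
  have h3 := congrArg (θ.inv.hom.app (op (EtCoh.top Z))) ha
  rw [map_zero] at h3
  rw [← h3]
  have h4 : θ.hom ≫ θ.inv = 𝟙 _ := θ.hom_inv_id
  exact (congrArg (fun k : H ⟶ H => k.hom.app (op (EtCoh.top Z)) t) h4).symm

end connected

section fibre

variable {X S : Scheme.{u}} (f : X ⟶ S) {Ω : Type u} [Field Ω] [IsSepClosed Ω]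
  (s : Spec (CommRingCat.of Ω) ⟶ S)

/-- the pullback of `f⁻¹ F` to the geometric fibre of `f` over `s` is a constant sheaf -/
noncomputable def fibreConstIso (F : EtCoh.Ab S) :
    (EtCoh.pull (pullback.fst f s)).obj ((EtCoh.pull f).obj F) ≅
      constSh (pullback f s) ((gsec (Spec (CommRingCat.of Ω))).obj ((EtCoh.pull s).obj F)) :=
  (pullComp (pullback.fst f s) f).symm.app F ≪≫
    (pullCongr (pullback.condition (f := f) (g := s))).app F ≪≫
    (pullComp (pullback.snd f s) s).app F ≪≫
    (EtCoh.pull (pullback.snd f s)).mapIso (constIso ((EtCoh.pull s).obj F)).symm ≪≫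
    (pullConstIso (pullback.snd f s)).app _

/-- a global section of the pullback of `f⁻¹ F` to a connected geometric fibre vanishes as soon as
one of its germs does -/
theorem eq_zero_of_germ_eq_zero_fibre [ConnectedSpace ↥(pullback f s)] (F : EtCoh.Ab S)
    (t : EtCoh.sect ((EtCoh.pull (pullback.fst f s)).obj ((EtCoh.pull f).obj F))
      (EtCoh.top (pullback f s)))
    {K : Type u} [Field K] [IsSepClosed K] (ζ : Spec (CommRingCat.of K) ⟶ pullback f s)
    (h : germ ζ _ (topNbhd ζ) t = 0) : t = 0 :=
  eq_zero_of_germ_eq_zero_of_const _ _ (fibreConstIso f s F) t ζ h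

end fibre

end Groth.Agent.Lib.EtSepClosedConst39
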