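import Groth.Agent.Lib.EtEqvRelQuot46
import Groth.Agent.Lib.FinEtQuot46

/-!
# Etale sheaves with an etale chart are algebraic spaces (helper91)
-/

set_option autoImplicit false
set_option maxHeartbeats 400000
universe u

namespace Groth.Agent.Lib.EtSheafAlgSp91

open CategoryTheory CategoryTheory.Limits AlgebraicGeometry Opposite AlgSp
open Groth.Agent.Lib.H69AlgSp Groth.Agent.Lib.H69QuotPres

variable {S : Scheme.{u}}

/-- The etale topology on schemes over `S`. -/
abbrev Jet (S : Scheme.{u}) : GrothendieckTopology (Over S) := QuotSh.J Scheme.etalePrecoverage S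

theorem etalePrecoverage_le_fppf : Scheme.etalePrecoverage.{u} ≤ Scheme.fppfPrecoverage := by
  unfold Scheme.etalePrecoverage Scheme.fppfPrecoverage
  exact Scheme.precoverage_mono fun X Y f hf => by
    have : Etale f := hf
    exact ⟨inferInstance, inferInstance⟩

theorem Jet_le_J : Jet S ≤ AlgSp.J S := by
  intro T R hR
  rw [GrothendieckTopology.mem_over_iff] at hR ⊢
  exact Precoverage.toGrothendieck_mono etalePrecoverage_le_fppf _ hR

theorem isSheaf_et_of_fppf {F : PSp S} (h : Presheaf.IsSheaf (AlgSp.J S) F) :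
    Presheaf.IsSheaf (Jet S) F :=
  (isSheaf_iff_isSheaf_of_type _ _).2
    (Presieve.isSheaf_of_le _ Jet_le_J ((isSheaf_iff_isSheaf_of_type _ _).1 h))

theorem mem_Jet_of_etale {U V : Over S} (g : V ⟶ U) [Etale g.left] [Surjective g.left]
    (R : Sieve U) (hR : R g) : R ∈ Jet S U := by
  rw [GrothendieckTopology.mem_over_iff]
  have hmem : Presieve.singleton g.left ∈ Scheme.etalePrecoverage U.left := by
    rw [← Presieve.ofArrows_pUnit.{0}]
    exact (g.left.cover (P := @Etale) ‹_›).mem₀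
  refine GrothendieckTopology.superset_covering _ ?_
    (Precoverage.generate_mem_toGrothendieck hmem)
  rw [Sieve.generate_le_iff]
  rintro _ _ ⟨⟩
  exact ⟨V, g, 𝟙 _, hR, by simp⟩

/-- Sections of a presheaf `F` over `U` are maps `h_U ⟶ F`. -/
noncomputable abbrev pEquiv {U : Over S} {F : PSp S} : ((pyon S).obj U ⟶ F) ≃ F.obj (op U) :=
  uliftYonedaEquiv.{u + 1}

theorem pEquiv_comp {U : Over S} {F G : PSp S} (a : (pyon S).obj U ⟶ F) (f : F ⟶ G) :
    pEquiv (a ≫ f) = f.app _ (pEquiv a) :=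
  uliftYonedaEquiv_comp.{u + 1} a f

theorem pEquiv_map_comp {U V : Over S} {F : PSp S} (a : (pyon S).obj U ⟶ F) (g : V ⟶ U) :
    pEquiv ((pyon S).map g ≫ a) = F.map g.op (pEquiv a) :=
  (uliftYonedaEquiv_naturality.{u + 1} a g.op).symm

theorem pEquiv_pyon_map {U V : Over S} (g : U ⟶ V) : pEquiv ((pyon S).map g) = ⟨g⟩ :=
  uliftYonedaEquiv_uliftYoneda_map.{u + 1} g

/-- A map `p : h_U ⟶ F` of presheaves such that every point of `F` lifts to `U` after an etale surjective base
change is locally surjective for the etale topology. -/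
theorem isLocallySurjective_et {F : PSp S} {U : Over S} (p : (pyon S).obj U ⟶ F)
    (h : ∀ ⦃T : Over S⦄ (ξ : (pyon S).obj T ⟶ F), ∃ (V : Over S) (g : V ⟶ T) (l : V ⟶ U),
      Etale g.left ∧ Surjective g.left ∧ (pyon S).map l ≫ p = (pyon S).map g ≫ ξ) :
    Presheaf.IsLocallySurjective (Jet S) p := by
  constructor
  intro T x
  obtain ⟨ξ, rfl⟩ := (pEquiv (U := T) (F := F)).surjective x
  obtain ⟨V, g, l, hE, hS, hl⟩ := h ξ
  refine mem_Jet_of_etale g _ ?_
  refine ⟨pEquiv ((pyon S).map l), ?_⟩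
  rw [← pEquiv_comp, hl, pEquiv_map_comp]

/-- In a category where epimorphisms are regular, two epimorphisms out of the same object with the same kernel
pair have isomorphic targets. -/
theorem exists_iso_of_common_kernelPair {C : Type*} [Category C] [IsRegularEpiCategory C]
    {A R F Q : C} (a b : R ⟶ A) (p : A ⟶ F) (q : A ⟶ Q) [Epi p] [Epi q]
    (hp : IsPullback a b p p) (hq : IsPullback a b q q) : ∃ e : F ≅ Q, p ≫ e.hom = q := by
  have : IsRegularEpi p := IsRegularEpiCategory.regularEpiOfEpi p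
  have : IsRegularEpi q := IsRegularEpiCategory.regularEpiOfEpi q
  have : EffectiveEpi p := inferInstance
  have : EffectiveEpi q := inferInstance
  have hd1 : ∀ {Z : C} (g₁ g₂ : Z ⟶ A), g₁ ≫ p = g₂ ≫ p → g₁ ≫ q = g₂ ≫ q := by
    intro Z g₁ g₂ h
    calc g₁ ≫ q = (hp.lift g₁ g₂ h ≫ a) ≫ q := by rw [hp.lift_fst]
      _ = (hp.lift g₁ g₂ h ≫ b) ≫ q := by rw [Category.assoc, Category.assoc, hq.w]
      _ = g₂ ≫ q := by rw [hp.lift_snd]
  have hd2 : ∀ {Z : C} (g₁ g₂ : Z ⟶ A), g₁ ≫ q = g₂ ≫ q → g₁ ≫ p = g₂ ≫ p := by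
    intro Z g₁ g₂ h
    calc g₁ ≫ p = (hq.lift g₁ g₂ h ≫ a) ≫ p := by rw [hq.lift_fst]
      _ = (hq.lift g₁ g₂ h ≫ b) ≫ p := by rw [Category.assoc, Category.assoc, hp.w]
      _ = g₂ ≫ p := by rw [hq.lift_snd]
  refine ⟨⟨EffectiveEpi.desc p q hd1, EffectiveEpi.desc q p hd2, ?_, ?_⟩, EffectiveEpi.fac p q hd1⟩
  · rw [← cancel_epi p, ← Category.assoc, EffectiveEpi.fac, EffectiveEpi.fac, Category.comp_id]
  · rw [← cancel_epi q, ← Category.assoc, EffectiveEpi.fac, EffectiveEpi.fac, Category.comp_id]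

section Rel

variable {R U : Over S} {s t : R ⟶ U}

/-- If `h_R = h_U ×_F h_U` (as presheaves) then `r ≫ t ~ r ≫ s` is the relation "equal in `F`". -/
theorem rel_iff_p {F : PSp S} {p : (pyon S).obj U ⟶ F}
    (hR : IsPullback ((pyon S).map t) ((pyon S).map s) p p) {T : Over S} (x y : T ⟶ U) :
    (∃ r : T ⟶ R, r ≫ t = x ∧ r ≫ s = y) ↔ (pyon S).map x ≫ p = (pyon S).map y ≫ p := by
  constructor
  · rintro ⟨r, rfl, rfl⟩
    rw [Functor.map_comp, Functor.map_comp, Category.assoc, Category.assoc, hR.w]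
  · intro h
    obtain ⟨r, hr⟩ := (pyon S).map_surjective (hR.lift _ _ h)
    refine ⟨r, (pyon S).map_injective ?_, (pyon S).map_injective ?_⟩
    · rw [Functor.map_comp, hr, hR.lift_fst]
    · rw [Functor.map_comp, hr, hR.lift_snd]

theorem isEqvRel_of_isPullback_p {F : PSp S} {p : (pyon S).obj U ⟶ F}
    (hR : IsPullback ((pyon S).map t) ((pyon S).map s) p p) : IsEqvRel s t where
  injective T r r' h1 h2 := by
    apply (pyon S).map_injective
    apply hR.hom_ext
    · rw [← Functor.map_comp, ← Functor.map_comp, h1]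
    · rw [← Functor.map_comp, ← Functor.map_comp, h2]
  equivalence T := by
    constructor
    · intro x
      exact (rel_iff_p hR x x).2 rfl
    · intro x y h
      exact (rel_iff_p hR y x).2 ((rel_iff_p hR x y).1 h).symm
    · intro x y z h1 h2
      exact (rel_iff_p hR x z).2 (((rel_iff_p hR x y).1 h1).trans ((rel_iff_p hR y z).1 h2))

end Rel

/-- **An etale sheaf with a representable etale surjective chart from a scheme is an algebraic space.** -/
theorem isAlgSpaceP_of_etale_chart {F : PSp S} (h1 : Presheaf.IsSheaf (Jet S) F) {U : Over S}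
    (p : (pyon S).obj U ⟶ F)
    (he : (MorphismProperty.inverseImage @Etale (Over.forget S)).relative (pyon S) p)
    (hs : (MorphismProperty.inverseImage @Surjective (Over.forget S)).relative (pyon S) p) :
    IsAlgSpaceP F := by
  have hr := he.rep
  have sq := hr.isPullback' p
  obtain ⟨t, ht⟩ : ∃ t, t = hr.fst' p := ⟨_, rfl⟩
  obtain ⟨s, hs'⟩ : ∃ s, s = hr.snd p := ⟨_, rfl⟩
  rw [← ht, ← hs'] at sq
  have hE : IsEtaleEqvRel s t :=
    { toIsEqvRel := isEqvRel_of_isPullback_p sq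
      etale_left := he.property _ _ _ sq
      etale_right := he.property _ _ _ sq.flip }
  have kq0 := isPullback_quotMap hE.toIsEqvRel
  obtain ⟨hQ, hqe, hqs⟩ := Groth.Agent.Lib.EtEqvRelQuot46.isAlgSpace_of_kernelPair (quotMap s t) kq0 hE
  -- the etale sheaf category
  let Fe : Sheaf (Jet S) (Type (u + 1)) := ⟨F, h1⟩
  let Ue : Sheaf (Jet S) (Type (u + 1)) := ⟨(pyon S).obj U, isSheaf_et_of_fppf ((yon S).obj U).property⟩
  let Re : Sheaf (Jet S) (Type (u + 1)) :=
    ⟨(pyon S).obj (hr.pullback p), isSheaf_et_of_fppf ((yon S).obj (hr.pullback p)).property⟩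
  let Qe : Sheaf (Jet S) (Type (u + 1)) :=
    ⟨(QuotSh.quot Scheme.fppfPrecoverage s t).obj,
      isSheaf_et_of_fppf (QuotSh.quot Scheme.fppfPrecoverage s t).property⟩
  let pe : Ue ⟶ Fe := ⟨p⟩
  let qe : Ue ⟶ Qe := ⟨(quotMap s t).hom⟩
  let te : Re ⟶ Ue := ⟨(pyon S).map t⟩
  let se : Re ⟶ Ue := ⟨(pyon S).map s⟩
  have kp : IsPullback te se pe pe :=
    IsPullback.of_map_of_faithful (sheafToPresheaf (Jet S) (Type (u + 1))) sq
  have kq : IsPullback te se qe qe :=
    IsPullback.of_map_of_faithful (sheafToPresheaf (Jet S) (Type (u + 1)))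
      (kq0.map (sheafToPresheaf (AlgSp.J S) (Type (u + 1))))
  haveI hpl : Sheaf.IsLocallySurjective pe := by
    refine isLocallySurjective_et p ?_
    intro T ξ
    exact ⟨hr.pullback ξ, hr.snd ξ, hr.fst' ξ, he.property _ _ _ (hr.isPullback' ξ),
      hs.property _ _ _ (hr.isPullback' ξ), (hr.isPullback' ξ).w⟩
  haveI hql : Sheaf.IsLocallySurjective qe := by
    refine isLocallySurjective_et (quotMap s t).hom ?_
    intro T ξ
    have hrq := hqe.rep
    let ξ' : (yon S).obj T ⟶ QuotSh.quot Scheme.fppfPrecoverage s t := ⟨ξ⟩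
    exact ⟨hrq.pullback ξ', hrq.snd ξ', hrq.fst' ξ', hqe.property _ _ _ (hrq.isPullback' ξ'),
      hqs.property _ _ _ (hrq.isPullback' ξ'), congrArg (fun k => k.hom) (hrq.isPullback' ξ').w⟩
  haveI : Epi pe := (Sheaf.isLocallySurjective_iff_epi _).1 hpl
  haveI : Epi qe := (Sheaf.isLocallySurjective_iff_epi _).1 hql
  obtain ⟨e, -⟩ := exists_iso_of_common_kernelPair te se pe qe kp kq
  exact ((isAlgSpaceP_obj_iff _).2 hQ).of_iso
    ((sheafToPresheaf (Jet S) (Type (u + 1))).mapIso e).symm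

end Groth.Agent.Lib.EtSheafAlgSp91
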