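import Groth.Agent.Lib.EtEbz95
import Groth.Agent.Lib.EtExtZero
import Mathlib.AlgebraicGeometry.Morphisms.FlatMono

/-!
# The comparison `j_! ⟶ j_*` for a separated etale morphism (helper95)

For `j : U ⟶ X` etale and separated:
* `graph j V : V ⟶ V ×_X U` (the unit of `compEtale j ⊣ bc j`) is an open immersion with closed
  range, compatibly with restriction (`isPullback_graph`, `preimage_range_graph`);
* `ebzHom j G : G ⟶ j⁻¹ j_* G` (extension by zero off the graph), natural in `G` (`ebzNat`);
* `shriekToPush j : extZero j ⟶ push j`.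
-/

set_option autoImplicit false
universe u

open CategoryTheory CategoryTheory.Limits AlgebraicGeometry Opposite

namespace Groth.Agent.Lib.EtShriekToPush95

open Groth.Agent.Lib.EtGerm Groth.Agent.Lib.EtStalkPullGerm Groth.Agent.Lib.EtEbz95
  Groth.Agent.Lib.EtExtZero

section geometry

variable {U X : Scheme.{u}} (j : U ⟶ X) [hj : AlgebraicGeometry.Etale j]

/-- `V ×_X U` as an etale `U`-scheme -/
noncomputable abbrev P (V : U.Etale) : U.Etale :=
  (EtCoh.bc j).obj ((EtShriek.compEtale j).obj V)

/-- the graph `V ⟶ V ×_X U` of the structure morphism `V ⟶ U` -/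
noncomputable abbrev graph (V : U.Etale) : V ⟶ P j V := (siteAdj j).unit.app V

/-- the restriction maps `V' ×_X U ⟶ V ×_X U` -/
noncomputable abbrev Pmap {V V' : U.Etale} (g : V' ⟶ V) : P j V' ⟶ P j V :=
  (EtCoh.bc j).map ((EtShriek.compEtale j).map g)

lemma graph_naturality {V V' : U.Etale} (g : V' ⟶ V) :
    graph j V' ≫ Pmap j g = g ≫ graph j V :=
  ((siteAdj j).unit.naturality g).symm

set_option backward.isDefEq.respectTransparency.types false in
lemma graph_left_fst (V : U.Etale) :
    (graph j V).left ≫ (pullback.fst (V.hom ≫ j) j : (P j V).left ⟶ V.left) = 𝟙 V.left := by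
  show pullback.lift (𝟙 _) _ _ ≫ _ = _
  exact pullback.lift_fst _ _ _

set_option backward.isDefEq.respectTransparency.types false in
instance etale_fst (V : U.Etale) :
    AlgebraicGeometry.Etale (pullback.fst (V.hom ≫ j) j : (P j V).left ⟶ V.left) :=
  MorphismProperty.pullback_fst (P := @AlgebraicGeometry.Etale) _ _ hj

set_option backward.isDefEq.respectTransparency.types false in
instance isOpenImmersion_graph (V : U.Etale) : IsOpenImmersion (graph j V).left := by
  have hs := graph_left_fst j V
  have h2 : AlgebraicGeometry.Etale (graph j V).left := inferInstance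
  have h3 : Mono (graph j V).left := mono_of_mono_fac hs
  exact IsOpenImmersion.of_flat_of_mono _

set_option backward.isDefEq.respectTransparency.types false in
lemma isClosed_range_graph [IsSeparated j] (V : U.Etale) :
    IsClosed (Set.range (graph j V).left) := by
  have hs := graph_left_fst j V
  have h0 : IsSeparated (pullback.fst (V.hom ≫ j) j : (P j V).left ⟶ V.left) :=
    MorphismProperty.pullback_fst (P := @IsSeparated) _ _ inferInstance
  have h1 : IsClosedImmersion ((graph j V).left ≫
      (pullback.fst (V.hom ≫ j) j : (P j V).left ⟶ V.left)) := by rw [hs]; infer_instance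
  have h2 : IsClosedImmersion (graph j V).left :=
    @IsClosedImmersion.of_comp _ _ _ (graph j V).left (pullback.fst (V.hom ≫ j) j) h1 h0
  exact (graph j V).left.isClosedEmbedding.isClosed_range

set_option backward.isDefEq.respectTransparency.types false in
lemma isPullback_graph {V V' : U.Etale} (g : V' ⟶ V) :
    IsPullback (graph j V').left g.left (Pmap j g).left (graph j V).left := by
  have hright : IsPullback (Pmap j g).left
      (pullback.fst (V'.hom ≫ j) j : (P j V').left ⟶ V'.left)
      (pullback.fst (V.hom ≫ j) j : (P j V).left ⟶ V.left) g.left :=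
    EtCoh.isPullback_bc_map j ((EtShriek.compEtale j).map g)
  have hw : (graph j V').left ≫ (Pmap j g).left = g.left ≫ (graph j V).left :=
    congrArg (fun k => k.left) (graph_naturality j g)
  have houter : IsPullback ((graph j V').left ≫
      (pullback.fst (V'.hom ≫ j) j : (P j V').left ⟶ V'.left)) g.left g.left
      ((graph j V).left ≫ (pullback.fst (V.hom ≫ j) j : (P j V).left ⟶ V.left)) := by
    rw [graph_left_fst, graph_left_fst]
    exact IsPullback.id_horiz g.left
  exact IsPullback.of_right houter hw hright.flip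

lemma range_fst_of_isPullback {W A B C : Scheme.{u}} {a : W ⟶ A} {b : W ⟶ B} {c : A ⟶ C}
    {d : B ⟶ C} (h : IsPullback a b c d) : Set.range a = c ⁻¹' Set.range d := by
  have hsurj : Set.range ⇑h.isoPullback.hom = Set.univ :=
    Set.range_eq_univ.mpr h.isoPullback.hom.homeomorph.surjective
  rw [← h.isoPullback_hom_fst, Scheme.Hom.comp_base, TopCat.coe_comp, Set.range_comp,
    hsurj, Set.image_univ, Scheme.Pullback.range_fst]

lemma preimage_range_graph {V V' : U.Etale} (g : V' ⟶ V) :
    (Pmap j g).left ⁻¹' Set.range (graph j V).left = Set.range (graph j V').left :=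
  (range_fst_of_isPullback (isPullback_graph j g)).symm

end geometry

section sheaf

variable {U X : Scheme.{u}} (j : U ⟶ X) [hj : AlgebraicGeometry.Etale j] [IsSeparated j]

/-- extension by zero off the graph: `G(V) → G(V ×_X U)` -/
noncomputable def ebzApp (G : EtCoh.Ab U) (V : U.Etale) :
    EtCoh.sect G V →+ EtCoh.sect G (P j V) :=
  ebz G (graph j V) (isClosed_range_graph j V)

lemma ebzApp_map (G : EtCoh.Ab U) {V V' : U.Etale} (g : V' ⟶ V) (s : EtCoh.sect G V) :
    G.obj.map (Pmap j g).op (ebzApp j G V s) = ebzApp j G V' (G.obj.map g.op s) :=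
  ebz_map G _ _ _ _ g (Pmap j g) (graph_naturality j g) (preimage_range_graph j g).subset s

lemma ebzApp_natural {G G' : EtCoh.Ab U} (φ : G ⟶ G') (V : U.Etale) (s : EtCoh.sect G V) :
    φ.hom.app (op (P j V)) (ebzApp j G V s) = ebzApp j G' V (φ.hom.app (op V) s) :=
  ebz_natural φ _ _ s

lemma map_graph_ebzApp (G : EtCoh.Ab U) (V : U.Etale) (s : EtCoh.sect G V) :
    G.obj.map (graph j V).op (ebzApp j G V s) = s :=
  map_ebz G _ _ s

variable [EtShriek.JCont j]

example (G : EtCoh.Ab U) (V : U.Etaleᵒᵖ) :
    ((EtShriek.restrAlong j).obj ((EtCoh.push j).obj G)).obj.obj V =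
      G.obj.obj (op (P j V.unop)) := rfl

/-- the morphism `G ⟶ j⁻¹ j_* G` given by extension by zero off the graph -/
noncomputable def ebzHom (G : EtCoh.Ab U) :
    G ⟶ (EtShriek.restrAlong j).obj ((EtCoh.push j).obj G) :=
  ⟨{ app := fun V => AddCommGrpCat.ofHom (ebzApp j G V.unop)
     naturality := by
      intro V V' g
      ext s
      exact (ebzApp_map j G g.unop s).symm }⟩

lemma ebzHom_app_apply (G : EtCoh.Ab U) (V : U.Etale) (s : EtCoh.sect G V) :
    (ebzHom j G).hom.app (op V) s = ebzApp j G V s := rfl

/-- naturality of `ebzHom` in the sheaf -/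
lemma ebzHom_naturality {G G' : EtCoh.Ab U} (φ : G ⟶ G') :
    φ ≫ ebzHom j G' = ebzHom j G ≫ (EtShriek.restrAlong j).map ((EtCoh.push j).map φ) := by
  apply Sheaf.hom_ext
  apply NatTrans.ext
  funext V
  ext s
  exact (ebzApp_natural j φ V.unop s).symm

/-- the comparison `j_! ⟶ j_*` for a separated etale morphism `j` -/
noncomputable def shriekToPush : EtShriek.extZero j ⟶ EtCoh.push j where
  app G := ((EtShriek.extZeroAdj j).homEquiv G ((EtCoh.push j).obj G)).symm (ebzHom j G)
  naturality G G' φ := by
    rw [← Adjunction.homEquiv_naturality_left_symm, ← Adjunction.homEquiv_naturality_right_symm,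
      ebzHom_naturality]

lemma homEquiv_shriekToPush (G : EtCoh.Ab U) :
    (EtShriek.extZeroAdj j).homEquiv G ((EtCoh.push j).obj G) ((shriekToPush j).app G) =
      ebzHom j G := by
  simp [shriekToPush]

end sheaf

end Groth.Agent.Lib.EtShriekToPush95
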