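import Groth.Agent.Lib.EtShriekToPush95
import Groth.Agent.Lib.EtFinStalk39A
import Groth.Agent.Lib.AbCoprodModel95

/-!
# Stalks of the comparison `j_! ⟶ j_*` (helper95)

For `j : U ⟶ X` etale and separated and a geometric point `ξ` of `X`: under
`(j_! G)_ξ ≅ ∐_u G_u` (`stalkExtZeroIso`) and the maps `(j_* G)_ξ ⟶ G_{u'}` (`pushGermOf`), the
comparison `shriekToPush j` is the "identity matrix": `stalk_shriekToPush_pushGermOf`.
-/

set_option autoImplicit false
set_option linter.unusedSectionVars false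
universe u

open CategoryTheory CategoryTheory.Limits AlgebraicGeometry Opposite

namespace Groth.Agent.Lib.EtShriekToPushStalk95

open Groth.Agent.Lib.EtGerm Groth.Agent.Lib.EtStalkPullGerm Groth.Agent.Lib.EtEbz95
  Groth.Agent.Lib.EtExtZero Groth.Agent.Lib.EtShriekToPush95 Groth.Agent.Lib.EtFinStalk39

section abstract

variable {C D : Type*} [Category* C] [Category* D] {F F' : C ⥤ D} {R : D ⥤ C}

/-- transposes under two adjunctions with the same right adjoint -/
lemma homEquiv_leftAdjointUniq_inv_comp (adj1 : F ⊣ R) (adj2 : F' ⊣ R) (x : C) (M : D)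
    (Φ : F.obj x ⟶ M) :
    adj2.homEquiv x M ((adj1.leftAdjointUniq adj2).inv.app x ≫ Φ) = adj1.homEquiv x M Φ := by
  rw [Adjunction.homEquiv_naturality_right, Adjunction.leftAdjointUniq_inv_app,
    Adjunction.homEquiv_leftAdjointUniq_hom_app, ← Adjunction.homEquiv_unit]

end abstract

section main

variable {U X : Scheme.{u}} (j : U ⟶ X) [hj : AlgebraicGeometry.Etale j] [IsSeparated j]
  {Ω : Type u} [Field Ω] [IsSepClosed Ω] (ξ : Spec (CommRingCat.of Ω) ⟶ X)

/-- the projection of the coproduct of the stalks onto one summand -/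
noncomputable abbrev proj (G : EtCoh.Ab U) (u' : Lifts j ξ) :
    ∐ (stalkFam j ξ G) ⟶ stalkFam j ξ G u' :=
  Groth.Agent.Lib.AbCoprodModel95.proj (stalkFam j ξ G) u'

lemma ι_proj_self (G : EtCoh.Ab U) (u' : Lifts j ξ) :
    Sigma.ι (stalkFam j ξ G) u' ≫ proj j ξ G u' = 𝟙 _ :=
  Groth.Agent.Lib.AbCoprodModel95.ι_proj_self _ u'

lemma ι_proj_ne (G : EtCoh.Ab U) {u u' : Lifts j ξ} (h : u ≠ u') :
    Sigma.ι (stalkFam j ξ G) u ≫ proj j ξ G u' = 0 :=
  Groth.Agent.Lib.AbCoprodModel95.ι_proj_ne _ h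

variable {j ξ}

set_option backward.isDefEq.respectTransparency.types false in
/-- the neighbourhood of `uOf x` in `V ×_X U` induced by `x` lies on the graph -/
lemma pullNbhdOf_eq_map_graph {V : U.Etale} (x : Nbhd ξ ((EtShriek.compEtale j).obj V)) :
    pullNbhdOf j (uOf x).1 ξ (uOf x).2 x = Nbhd.map (uOf x).1 (graph j V) (zOf x) := by
  apply nbhd_bc_ext
  refine (pullNbhdOf_left_fst j (uOf x).1 ξ (uOf x).2 x).trans ?_
  have h1 : (CommaMorphism.left (Nbhd.map (uOf x).1 (graph j V) (zOf x)) :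
      Spec (CommRingCat.of Ω) ⟶ pullback (V.hom ≫ j) j) = nleft (zOf x) ≫ (graph j V).left := rfl
  refine Eq.symm ?_
  refine (congrArg (· ≫ (pullback.fst (V.hom ≫ j) j : (P j V).left ⟶ V.left)) h1).trans ?_
  refine (Category.assoc _ _ _).trans ?_
  refine (congrArg (nleft (zOf x) ≫ ·) (graph_left_fst j V)).trans ?_
  exact Category.comp_id _

lemma germ_ebzApp_self (G : EtCoh.Ab U) {V : U.Etale}
    (x : Nbhd ξ ((EtShriek.compEtale j).obj V)) (s : EtCoh.sect G V) :
    germ (uOf x).1 G (pullNbhdOf j (uOf x).1 ξ (uOf x).2 x) (ebzApp j G V s) =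
      germ (uOf x).1 G (zOf x) s := by
  rw [pullNbhdOf_eq_map_graph, ← germ_res, map_graph_ebzApp]

set_option backward.isDefEq.respectTransparency.types false in
/-- a neighbourhood of a lift `u'` in `V ×_X U` over `x` whose point lies on the graph forces
`u' = uOf x` -/
lemma eq_uOf_of_mem_range_graph {V : U.Etale} (x : Nbhd ξ ((EtShriek.compEtale j).obj V))
    (u' : Lifts j ξ)
    (h : Nbhd.pt u'.1 (pullNbhdOf j u'.1 ξ u'.2 x) ∈ Set.range (graph j V).left) :
    uOf x = u' := by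
  obtain ⟨v, hv⟩ := h
  obtain ⟨z, hz, -⟩ := exists_nbhd_lift u'.1 (graph j V) (pullNbhdOf j u'.1 ξ u'.2 x) v hv
  have h1 : (CommaMorphism.left (Nbhd.map u'.1 (graph j V) z) :
      Spec (CommRingCat.of Ω) ⟶ pullback (V.hom ≫ j) j) = nleft z ≫ (graph j V).left := rfl
  have h2 : nleft z = nleft x := by
    have e1 := pullNbhdOf_left_fst j u'.1 ξ u'.2 x
    rw [← hz] at e1
    refine Eq.trans ?_ e1
    refine Eq.symm ?_
    refine (congrArg (· ≫ (pullback.fst (V.hom ≫ j) j : (P j V).left ⟶ V.left)) h1).trans ?_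
    refine (Category.assoc _ _ _).trans ?_
    refine (congrArg (nleft z ≫ ·) (graph_left_fst j V)).trans ?_
    exact Category.comp_id _
  apply Subtype.ext
  show nleft x ≫ V.hom = u'.1
  rw [← h2]
  exact nleft_hom z

set_option backward.isDefEq.respectTransparency.types false in
lemma germ_ebzApp_ne (G : EtCoh.Ab U) {V : U.Etale}
    (x : Nbhd ξ ((EtShriek.compEtale j).obj V)) (u' : Lifts j ξ) (hu : uOf x ≠ u')
    (s : EtCoh.sect G V) :
    germ u'.1 G (pullNbhdOf j u'.1 ξ u'.2 x) (ebzApp j G V s) = 0 := by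
  have hcl := isClosed_range_graph j V
  have hp : Nbhd.pt u'.1 (pullNbhdOf j u'.1 ξ u'.2 x) ∈ compl (graph j V) hcl :=
    fun h => hu (eq_uOf_of_mem_range_graph x u' h)
  obtain ⟨z, hz⟩ := exists_nbhd_openSub u'.1 (compl (graph j V) hcl) _ hp
  rw [← hz, ← germ_res]
  have hd : Disjoint (Set.range (openSubι (P j V) (compl (graph j V) hcl)).left)
      (Set.range (graph j V).left) := by
    rw [Set.disjoint_left]
    rintro _ ⟨w, rfl⟩ hw
    rw [openSubι_left] at hw
    exact w.2 hw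
  have h0 : G.obj.map (openSubι (P j V) (compl (graph j V) hcl)).op (ebzApp j G V s) = 0 :=
    (ebz_spec G (graph j V) hcl s).2 _ _ hd
  rw [h0, map_zero]

variable (j ξ) [EtShriek.JCont j]

lemma coprodStalkAdj_homEquiv (G : EtCoh.Ab U) (M : AddCommGrpCat.{u+1})
    (f : (coprodStalk j ξ).obj G ⟶ M) :
    (coprodStalkAdj j ξ).homEquiv G M f = toSky G M f := by
  unfold coprodStalkAdj Adjunction.adjunctionOfEquivLeft
  exact congrFun (congrArg DFunLike.coe (congrFun (congrFun
    (Adjunction.mkOfHomEquiv_homEquiv _) G) M)) f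

/-- the transpose of `(j_* G)_ξ ⟶ G_{u'}` under the skyscraper adjunction, on sections -/
lemma homEquiv_pushGermOf_app_π (G : EtCoh.Ab U) (u' : Lifts j ξ) (W : X.Etale)
    (x : Nbhd ξ W) :
    (((Scheme.pointSmallEtale ξ).skyscraperSheafAdjunction (A := AddCommGrpCat.{u+1})).homEquiv
      ((EtCoh.push j).obj G) _ (pushGermOf j u'.1 ξ u'.2 G)).hom.app (op W) ≫
        Pi.π (fun _ : Nbhd ξ W => (EtCoh.stalk u'.1).obj G) x =
      (Scheme.pointSmallEtale ξ).toPresheafFiber W x ((EtCoh.push j).obj G).obj ≫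
        pushGermOf j u'.1 ξ u'.2 G := by
  rw [Adjunction.homEquiv_unit]
  have h1 : ((Scheme.pointSmallEtale ξ).skyscraperSheafFunctor.map
      (pushGermOf j u'.1 ξ u'.2 G)).hom.app (op W) = Limits.Pi.map (fun _ => pushGermOf j u'.1 ξ u'.2 G) :=
    GrothendieckTopology.Point.skyscraperPresheafFunctor_map_app (Scheme.pointSmallEtale ξ) _ _
  have h2 : ((Scheme.pointSmallEtale ξ).skyscraperSheafFunctor.map
      (pushGermOf j u'.1 ξ u'.2 G)).hom.app (op W) ≫
        Pi.π (fun _ : Nbhd ξ W => (EtCoh.stalk u'.1).obj G) x =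
      Pi.π (fun _ : Nbhd ξ W => (EtCoh.stalk ξ).obj ((EtCoh.push j).obj G)) x ≫
        pushGermOf j u'.1 ξ u'.2 G :=
    (congrArg (· ≫ Pi.π (fun _ : Nbhd ξ W => (EtCoh.stalk u'.1).obj G) x) h1).trans
      (Pi.map_π _ x)
  show (((Scheme.pointSmallEtale ξ).skyscraperSheafAdjunction.unit.app _).hom.app (op W) ≫
    ((Scheme.pointSmallEtale ξ).skyscraperSheafFunctor.map _).hom.app (op W)) ≫ _ = _
  refine (Category.assoc _ _ _).trans ?_
  refine (congrArg (((Scheme.pointSmallEtale ξ).skyscraperSheafAdjunction.unit.app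
    ((EtCoh.push j).obj G)).hom.app (op W) ≫ ·) h2).trans ?_
  refine (Category.assoc _ _ _).symm.trans ?_
  exact congrArg (· ≫ pushGermOf j u'.1 ξ u'.2 G)
    (unit_app_π (Scheme.pointSmallEtale ξ) ((EtCoh.push j).obj G) W x)

/-- **the stalk of `j_! ⟶ j_*` is the identity matrix** -/
theorem stalk_shriekToPush_pushGermOf (G : EtCoh.Ab U) (u' : Lifts j ξ) :
    (stalkExtZeroIso j ξ).inv.app G ≫ (EtCoh.stalk ξ).map ((shriekToPush j).app G) ≫
      pushGermOf j u'.1 ξ u'.2 G = proj j ξ G u' := by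
  apply ((coprodStalkAdj j ξ).homEquiv G _).injective
  unfold stalkExtZeroIso
  rw [homEquiv_leftAdjointUniq_inv_comp, coprodStalkAdj_homEquiv, Adjunction.comp_homEquiv]
  show (EtShriek.extZeroAdj j).homEquiv G _
    (((Scheme.pointSmallEtale ξ).skyscraperSheafAdjunction (A := AddCommGrpCat.{u+1})).homEquiv _ _
      ((EtCoh.stalk ξ).map ((shriekToPush j).app G) ≫ pushGermOf j u'.1 ξ u'.2 G)) = _
  rw [Adjunction.homEquiv_naturality_left, Adjunction.homEquiv_naturality_right,
    homEquiv_shriekToPush]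
  apply Sheaf.hom_ext
  apply NatTrans.ext
  funext V
  refine Limits.Pi.hom_ext _ _ (fun x => ?_)
  refine Eq.trans ?_ (toSky_app_π G _ (proj j ξ G u') V.unop x).symm
  show ((ebzHom j G).hom.app V ≫
    (((Scheme.pointSmallEtale ξ).skyscraperSheafAdjunction (A := AddCommGrpCat.{u+1})).homEquiv
      ((EtCoh.push j).obj G) _ (pushGermOf j u'.1 ξ u'.2 G)).hom.app
        (op ((EtShriek.compEtale j).obj V.unop))) ≫ _ = _
  refine (Category.assoc _ _ _).trans ?_
  refine (congrArg ((ebzHom j G).hom.app V ≫ ·)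
    (homEquiv_pushGermOf_app_π j ξ G u' ((EtShriek.compEtale j).obj V.unop) x)).trans ?_
  ext s
  show pushGermOf j u'.1 ξ u'.2 G (germ ξ ((EtCoh.push j).obj G) x (ebzApp j G V.unop s)) =
    proj j ξ G u' (comp G x s)
  rw [pushGermOf_germ]
  by_cases hu : uOf x = u'
  · subst hu
    rw [germ_ebzApp_self]
    have h1 : comp G x ≫ proj j ξ G (uOf x) =
        (Scheme.pointSmallEtale (uOf x).1).toPresheafFiber V.unop (zOf x) G.obj := by
      unfold comp
      rw [Category.assoc, ι_proj_self, Category.comp_id]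
    exact (ConcreteCategory.congr_hom h1 s).symm
  · rw [germ_ebzApp_ne G x u' hu s]
    have h1 : comp G x ≫ proj j ξ G u' = 0 := by
      unfold comp
      rw [Category.assoc, ι_proj_ne j ξ G hu, comp_zero]
    exact (ConcreteCategory.congr_hom h1 s).symm

/-- the stalks of `j_! G ⟶ j_* G` are injective -/
theorem stalk_shriekToPush_injective (G : EtCoh.Ab U) :
    Function.Injective ((EtCoh.stalk ξ).map ((shriekToPush j).app G)) := by
  rw [injective_iff_map_eq_zero]
  intro a ha
  have hb : (stalkExtZeroIso j ξ).hom.app G a = 0 := by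
    apply Groth.Agent.Lib.AbCoprodModel95.eq_zero_of_forall_proj (stalkFam j ξ G)
    intro u'
    have h1 := ConcreteCategory.congr_hom (stalk_shriekToPush_pushGermOf j ξ G u')
      ((stalkExtZeroIso j ξ).hom.app G a)
    refine h1.symm.trans ?_
    show pushGermOf j u'.1 ξ u'.2 G ((EtCoh.stalk ξ).map ((shriekToPush j).app G)
      ((stalkExtZeroIso j ξ).inv.app G ((stalkExtZeroIso j ξ).hom.app G a))) = 0
    have h2 : (stalkExtZeroIso j ξ).inv.app G ((stalkExtZeroIso j ξ).hom.app G a) = a := by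
      rw [← ConcreteCategory.comp_apply, Iso.hom_inv_id_app]
      rfl
    rw [h2, ha, map_zero]
  have h3 := congrArg ((stalkExtZeroIso j ξ).inv.app G) hb
  rwa [map_zero, ← ConcreteCategory.comp_apply, Iso.hom_inv_id_app] at h3

end main

end Groth.Agent.Lib.EtShriekToPushStalk95
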