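import Groth.Agent.Lib.EtSkyRpushTors95
import Groth.Agent.Lib.EtHofPushOne95
import Groth.Agent.Lib.EtTorsion95
import Groth.Prelude.Def_EtBC2

/-!
# Cohomology of direct images from the spectrum of a field is torsion (helper95)

For `X` quasi-compact quasi-separated and `f : Spec k ⟶ X` quasi-compact:
`H^q(X, f_* F)` is a torsion group for every `q > 0` and every abelian sheaf `F` on `Spec k`.
-/

set_option autoImplicit false
universe u
open CategoryTheory CategoryTheory.Limits AlgebraicGeometry Opposite Abelian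

namespace Groth.Agent.Lib.EtSkyHTors95

open Groth.Agent.Lib.EtShriekConst Groth.Agent.Lib.EtZshSec95 Groth.Agent.Lib.EtRpushTors95
  Groth.Agent.Lib.EtFieldQcFinite95 Groth.Agent.Lib.EtSkyRpushTors95

section abstract

variable {C : Type*} [Category C] [Abelian C]

/-- the short complex `A → B → coker` -/
noncomputable abbrev cokerSC {A B : C} (a : A ⟶ B) : ShortComplex C :=
  ShortComplex.mk a (cokernel.π a) (cokernel.condition a)

lemma cokerSC_shortExact {A B : C} (a : A ⟶ B) [Mono a] : (cokerSC a).ShortExact :=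
  ShortComplex.ShortExact.mk' (ShortComplex.exact_cokernel a) inferInstance inferInstance

end abstract

variable {k : Type u} [Field k] {X : Scheme.{u}} (f : Spec (CommRingCat.of k) ⟶ X)

section sheaves

variable (F : EtCoh.Ab (Spec (CommRingCat.of k)))

/-- `F ↪ I` with `I` injective -/
noncomputable abbrev S₀ : ShortComplex (EtCoh.Ab (Spec (CommRingCat.of k))) :=
  cokerSC (Injective.ι F)

lemma hS₀ : (S₀ F).ShortExact := cokerSC_shortExact _

instance : Mono ((EtCoh.push f).map (Injective.ι F)) :=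
  haveI := Functor.preservesMonomorphisms_of_adjunction (EtCoh.pullPushAdj f)
  inferInstance

/-- `0 → f_* F → f_* I → K → 0` -/
noncomputable abbrev S₁ : ShortComplex (EtCoh.Ab X) := cokerSC ((EtCoh.push f).map (Injective.ι F))

lemma hS₁ : (S₁ f F).ShortExact := cokerSC_shortExact _

/-- `K ⟶ f_* Q` -/
noncomputable def κ : (S₁ f F).X₃ ⟶ (EtCoh.push f).obj (S₀ F).X₃ :=
  cokernel.desc _ ((EtCoh.push f).map (S₀ F).g) (by
    rw [← Functor.map_comp]
    have : Injective.ι F ≫ (S₀ F).g = 0 := (S₀ F).zero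
    rw [this, Functor.map_zero])

lemma π_κ : (S₁ f F).g ≫ κ f F = (EtCoh.push f).map (S₀ F).g := cokernel.π_desc _ _ _

instance : Mono (κ f F) := by
  have h1 : ((S₀ F).map (EtCoh.push f)).Exact :=
    (hS₀ F).exact.map_of_mono_of_preservesKernel (EtCoh.push f) (hS₀ F).mono_f inferInstance
  exact h1.mono_cokernelDesc

/-- `0 → K → f_* Q → C → 0` -/
noncomputable abbrev S₂ : ShortComplex (EtCoh.Ab X) := cokerSC (κ f F)

lemma hS₂ : (S₂ f F).ShortExact := cokerSC_shortExact _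

set_option backward.isDefEq.respectTransparency.types false in
/-- the cokernel of `f_* I ⟶ f_* Q` is a torsion sheaf -/
theorem isTorsion_C [QuasiCompact f] : EtCoh.IsTorsion (S₂ f F).X₃ := by
  intro V s y
  obtain ⟨V₁, g₁, y₁, hy₁, t, ht⟩ := exists_local_lift (S₂ f F).g V s y
  obtain ⟨W, hWaff, hyW, -⟩ := TopologicalSpace.Opens.isBasis_iff_nbhd.1
    V₁.left.isBasis_affineOpens (show y₁ ∈ (⊤ : V₁.left.Opens) from trivial)
  obtain ⟨W, rfl⟩ : ∃ W₁ : V₁.left.Opens, W₁ = W := ⟨W, rfl⟩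
  have hWaff' : IsAffineOpen W := hWaff
  have : IsAffine (W : Scheme) := hWaff'
  let g : (W : Scheme) ⟶ X := W.ι ≫ V₁.hom
  have hg : Etale g := inferInstanceAs (Etale (W.ι ≫ V₁.hom))
  let V' : X.Etale := Scheme.Etale.mk g
  let j : V' ⟶ V₁ := MorphismProperty.Over.homMk W.ι rfl
  have : IsAffine V'.left := this
  refine ⟨V', j ≫ g₁, ⟨⟨y₁, hyW⟩, hy₁⟩, ?_⟩
  have hE : AlgebraicGeometry.Etale ((EtCoh.bc f).obj V').hom := ((EtCoh.bc f).obj V').prop
  have hJ := Groth.Agent.Lib.EtJCont.jCont ((EtCoh.bc f).obj V').hom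
  let t' : ((EtCoh.push f).obj (S₀ F).X₃).obj.obj (op V') :=
    ((EtCoh.push f).obj (S₀ F).X₃).obj.map j.op t
  obtain ⟨k, hk, w, hw⟩ := exists_nsmul_lift_of_shortExact_W ((EtCoh.bc f).obj V') (S₀ F) (hS₀ F)
    (fun x => isOfFinAddOrder_ext_Zsh_bc f V' F 1 (by omega) x) t'
  rw [isOfFinAddOrder_iff_nsmul_eq_zero]
  refine ⟨k, hk, ?_⟩
  have e1 : (S₂ f F).X₃.obj.map (j ≫ g₁).op s = (S₂ f F).g.hom.app (op V') t' := by
    rw [naturality_app, ht, op_comp, Functor.map_comp]
    rfl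
  have e2 : k • t' = ((S₁ f F).g ≫ κ f F).hom.app (op V') w := by
    rw [π_κ]
    exact hw.symm
  have e3 : (κ f F ≫ (S₂ f F).g) = 0 := (S₂ f F).zero
  rw [e1, ← hom_nsmul_app, e2]
  have e4 : (S₂ f F).g.hom.app (op V') (((S₁ f F).g ≫ κ f F).hom.app (op V') w) =
      ((S₁ f F).g ≫ κ f F ≫ (S₂ f F).g).hom.app (op V') w := rfl
  rw [e4, e3, comp_zero]
  rfl

end sheaves

section main

variable [CompactSpace X] [QuasiSeparatedSpace X] [QuasiCompact f]

lemma isOfFinAddOrder_comp {A : Type*} [Category A] [Abelian A] [HasExt.{u + 1} A] {M Y Z : A}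
    {p q n : ℕ} (x : Ext.{u + 1} M Y p) (hx : IsOfFinAddOrder x) (e : Ext.{u + 1} Y Z q)
    (h : p + q = n) : IsOfFinAddOrder (x.comp e h) :=
  AddMonoidHom.isOfFinAddOrder (e.postcomp M h) hx

/-- `H^q(X, f_* F)` is torsion for `q > 0` -/
theorem isAddTorsion_H_push_field (q : ℕ) (hq : 0 < q) :
    ∀ F : EtCoh.Ab (Spec (CommRingCat.of k)),
      IsAddTorsion (EtCoh.H X ((EtCoh.push f).obj F) q) := by
  induction q with
  | zero => omega
  | succ m ih =>
    intro F x
    rcases m with _ | m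
    · -- degree one
      have h := Groth.Agent.Lib.EtFieldTors65.isOfFinAddOrder k F 1 (by omega)
        (EtLim.HofPush f F 1 x)
      exact (Function.Injective.isOfFinAddOrder_iff
        (Groth.Agent.Lib.EtHofPushOne95.HofPush_injective_one f F)).1 h
    · -- degree `m + 2`
      have ih' := ih (by omega)
      -- `H^{m+1}(X, K)` is torsion
      have hK : ∀ y : Ext.{u + 1} (EtCoh.const X ℤ) (S₁ f F).X₃ (m + 1), IsOfFinAddOrder y := by
        intro y
        obtain ⟨k₁, hk₁, h1⟩ := isOfFinAddOrder_iff_nsmul_eq_zero.1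
          (ih' (S₀ F).X₃ (y.comp (Ext.mk₀ (κ f F)) (add_zero _)))
        have h2 : (k₁ • y).comp (Ext.mk₀ (S₂ f F).f) (add_zero _) = 0 := by
          rw [← h1]
          exact map_nsmul ((Ext.mk₀ (κ f F)).postcomp (EtCoh.const X ℤ) (add_zero (m + 1))) k₁ y
        obtain ⟨y₃, hy₃⟩ := Ext.covariant_sequence_exact₁ _ (hS₂ f F) (k₁ • y) h2
          (rfl : m + 1 = m + 1)
        obtain ⟨k₂, hk₂, h3⟩ := isOfFinAddOrder_iff_nsmul_eq_zero.1
          (Groth.Agent.Lib.EtTorsion95.isAddTorsion_H X (S₂ f F).X₃ (isTorsion_C f F) m y₃)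
        rw [isOfFinAddOrder_iff_nsmul_eq_zero]
        refine ⟨k₂ * k₁, Nat.mul_pos hk₂ hk₁, ?_⟩
        rw [mul_nsmul', ← hy₃]
        have := map_nsmul ((hS₂ f F).extClass.postcomp (EtCoh.const X ℤ) (rfl : m + 1 = m + 1)) k₂ y₃
        rw [h3, map_zero] at this
        exact this.symm
      haveI : Injective ((EtCoh.push f).obj (Injective.under F)) := inferInstance
      have h0 : x.comp (Ext.mk₀ (S₁ f F).f) (add_zero _) = 0 := Ext.eq_zero_of_injective _
      obtain ⟨x₃, hx₃⟩ := Ext.covariant_sequence_exact₁ _ (hS₁ f F) x h0 (rfl : m + 1 + 1 = m + 2)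
      rw [← hx₃]
      exact isOfFinAddOrder_comp x₃ (hK x₃) _ _

end main

end Groth.Agent.Lib.EtSkyHTors95
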