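import Groth.Agent.Lib.EtFieldQcFinite95
import Groth.Agent.Lib.EtRpushTors95b
import Groth.Agent.Lib.EtJCont

/-!
# Higher direct images from the spectrum of a field are torsion (helper95)

* `isOfFinAddOrder_ext_Zsh_bc`: for `f : Spec k ⟶ X` quasi-compact and `V` affine étale over `X`,
  the `Ext^m`, `m > 0`, out of `j_! ℤ` for `j : V ×_X Spec k ⟶ Spec k` are torsion;
* `isTorsion_Rpush_field`: `R^n f_* F` is a torsion sheaf for `n > 0` and every `F`.
-/

set_option autoImplicit false
universe u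
open CategoryTheory CategoryTheory.Limits AlgebraicGeometry Opposite Abelian

namespace Groth.Agent.Lib.EtSkyRpushTors95

open Groth.Agent.Lib.EtShriekConst Groth.Agent.Lib.EtZshSec95 Groth.Agent.Lib.EtRpushTors95
  Groth.Agent.Lib.EtFieldQcFinite95

variable {k : Type u} [Field k] {X : Scheme.{u}} (f : Spec (CommRingCat.of k) ⟶ X)

/-- the base change to `Spec k` of an affine étale `X`-scheme is quasi-compact over `Spec k` -/
lemma quasiCompact_bc_hom [QuasiCompact f] (V : X.Etale) [IsAffine V.left] :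
    QuasiCompact ((EtCoh.bc f).obj V).hom := by
  let p : pullback V.hom f ⟶ V.left := pullback.fst V.hom f
  have hp1 : QuasiCompact p := inferInstanceAs (QuasiCompact (pullback.fst V.hom f))
  have hc : CompactSpace V.left := inferInstance
  have h1 : CompactSpace ↥(pullback V.hom f) :=
    @QuasiCompact.compactSpace_of_compactSpace _ V.left p hp1 hc
  have : QuasiCompact (pullback.snd V.hom f) :=
    (HasAffineProperty.iff_of_isAffine (P := @QuasiCompact)).2 h1
  exact this

/-- the canonical isomorphism between `W` and `W.left → Spec k` seen through `compEtale` -/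
noncomputable def objIso {S : Scheme.{u}} (W : S.Etale) :
    haveI : AlgebraicGeometry.Etale W.hom := W.prop
    obj W.hom ≅ W :=
  haveI : AlgebraicGeometry.Etale W.hom := W.prop
  MorphismProperty.Over.isoMk (Iso.refl _) rfl

lemma map_map_inv_hom {S : Scheme.{u}} (G : EtCoh.Ab S) {A B : S.Etale} (e : A ≅ B)
    (x : G.obj.obj (op B)) : G.obj.map e.inv.op (G.obj.map e.hom.op x) = x := by
  have h : G.obj.map e.hom.op ≫ G.obj.map e.inv.op = 𝟙 _ := by
    rw [← Functor.map_comp, ← op_comp, e.inv_hom_id, op_id, CategoryTheory.Functor.map_id]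
  have h2 := ConcreteCategory.congr_hom h x
  simpa only [ConcreteCategory.comp_apply, ConcreteCategory.id_apply] using h2

section transport

variable {S : Scheme.{u}} (W : S.Etale) [hE : AlgebraicGeometry.Etale W.hom] [EtShriek.JCont W.hom]

/-- `exists_nsmul_lift` with sections over `W` -/
theorem exists_nsmul_lift_W (F : EtCoh.Ab S) (I : InjectiveResolution F) (n : ℕ)
    (hExt : ∀ x : Ext.{u + 1} (Zsh W.hom) F (n + 1), IsOfFinAddOrder x)
    (z : (I.cocomplex.X (n + 1)).obj.obj (op W))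
    (hz : (I.cocomplex.d (n + 1) (n + 2)).hom.app (op W) z = 0) :
    ∃ k : ℕ, 0 < k ∧ ∃ w : (I.cocomplex.X n).obj.obj (op W),
      (I.cocomplex.d n (n + 1)).hom.app (op W) w = k • z := by
  let e := objIso W
  obtain ⟨k, hk, w, hw⟩ := exists_nsmul_lift W.hom F I n hExt
    ((I.cocomplex.X (n + 1)).obj.map e.hom.op z) (by
      rw [naturality_app, hz, map_zero])
  refine ⟨k, hk, (I.cocomplex.X n).obj.map e.inv.op w, ?_⟩
  rw [naturality_app, hw, map_nsmul_app, map_map_inv_hom]

/-- `exists_nsmul_lift_of_shortExact` with sections over `W` -/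
theorem exists_nsmul_lift_of_shortExact_W (T : ShortComplex (EtCoh.Ab S)) (hT : T.ShortExact)
    (hExt : ∀ x : Ext.{u + 1} (Zsh W.hom) T.X₁ 1, IsOfFinAddOrder x)
    (t : T.X₃.obj.obj (op W)) :
    ∃ k : ℕ, 0 < k ∧ ∃ w : T.X₂.obj.obj (op W), T.g.hom.app (op W) w = k • t := by
  let e := objIso W
  obtain ⟨k, hk, w, hw⟩ := exists_nsmul_lift_of_shortExact W.hom T hT hExt
    (T.X₃.obj.map e.hom.op t)
  refine ⟨k, hk, T.X₂.obj.map e.inv.op w, ?_⟩
  rw [naturality_app, hw, map_nsmul_app, map_map_inv_hom]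

end transport

/-- for `f : Spec k ⟶ X` quasi-compact and `V` affine étale over `X`, the groups `Ext^m`, `m > 0`,
out of `j_! ℤ` for `j : V ×_X Spec k ⟶ Spec k` are torsion -/
theorem isOfFinAddOrder_ext_Zsh_bc [QuasiCompact f] (V : X.Etale) [IsAffine V.left]
    [hE : AlgebraicGeometry.Etale ((EtCoh.bc f).obj V).hom]
    [hJ : EtShriek.JCont ((EtCoh.bc f).obj V).hom]
    (F : EtCoh.Ab (Spec (CommRingCat.of k))) (m : ℕ) (hm : 0 < m)
    (x : Ext.{u + 1} (Zsh ((EtCoh.bc f).obj V).hom) F m) : IsOfFinAddOrder x :=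
  @isOfFinAddOrder_ext_Zsh k _ _ ((EtCoh.bc f).obj V).hom hE hJ (quasiCompact_bc_hom f V) F m hm x

set_option backward.isDefEq.respectTransparency.types false in
/-- higher direct images of any abelian étale sheaf along a quasi-compact morphism from the
spectrum of a field are torsion sheaves -/
theorem isTorsion_Rpush_field [QuasiCompact f] (F : EtCoh.Ab (Spec (CommRingCat.of k)))
    (n : ℕ) (hn : 0 < n) : EtCoh.IsTorsion ((EtCoh.Rpush f n).obj F) := by
  let I : InjectiveResolution F := injectiveResolution F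
  refine isTorsion_of_iso (I.isoRightDerivedObj (EtCoh.push f) n).symm ?_
  refine isTorsion_homology (((EtCoh.push f).mapHomologicalComplex _).obj I.cocomplex) n ?_
  intro V z y hz
  obtain ⟨W, hWaff, hyW, -⟩ := TopologicalSpace.Opens.isBasis_iff_nbhd.1
    V.left.isBasis_affineOpens (show y ∈ (⊤ : V.left.Opens) from trivial)
  obtain ⟨W, rfl⟩ : ∃ W₁ : V.left.Opens, W₁ = W := ⟨W, rfl⟩
  have hWaff' : IsAffineOpen W := hWaff
  have : IsAffine (W : Scheme) := hWaff'
  let g : (W : Scheme) ⟶ X := W.ι ≫ V.hom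
  have hg : Etale g := inferInstanceAs (Etale (W.ι ≫ V.hom))
  let V' : X.Etale := Scheme.Etale.mk g
  let j : V' ⟶ V := MorphismProperty.Over.homMk W.ι rfl
  have : IsAffine V'.left := this
  refine ⟨V', j, ⟨⟨y, hyW⟩, rfl⟩, ?_⟩
  have hz' : (I.cocomplex.d n (n + 1)).hom.app (op ((EtCoh.bc f).obj V'))
      ((I.cocomplex.X n).obj.map ((EtCoh.bc f).map j).op z) = 0 := by
    rw [naturality_app]
    have : (I.cocomplex.d n (n + 1)).hom.app (op ((EtCoh.bc f).obj V)) z = 0 := hz
    rw [this, map_zero]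
  have hE : AlgebraicGeometry.Etale ((EtCoh.bc f).obj V').hom := ((EtCoh.bc f).obj V').prop
  have hJ := Groth.Agent.Lib.EtJCont.jCont ((EtCoh.bc f).obj V').hom
  obtain ⟨n, rfl⟩ : ∃ m, n = m + 1 := ⟨n - 1, by omega⟩
  obtain ⟨k, hk, w, hw⟩ := exists_nsmul_lift_W ((EtCoh.bc f).obj V') F I n
    (fun x => isOfFinAddOrder_ext_Zsh_bc f V' F (n + 1) (by omega) x) _ hz'
  exact ⟨k, hk, n, w, hw⟩

end Groth.Agent.Lib.EtSkyRpushTors95
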