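import Groth.Prelude.Def_SGA4b
import Mathlib.AlgebraicGeometry.Sites.EtalePoint

/-!
Geometric points of the small etale site detect monomorphisms and epimorphisms of sheaves of sets
valued one universe up (`EtDesc.Sh X`).
-/

set_option autoImplicit false
universe u
open CategoryTheory CategoryTheory.Limits AlgebraicGeometry Opposite

namespace Groth.Agent.Lib.EtStalkConservative

variable {X : Scheme.{u}}

/-- the standard geometric point over a point of `X` -/
noncomputable def stdPt (x : X) : Spec (.of (SeparableClosure (X.residueField x))) ⟶ X :=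
  (Scheme.SpecToEquivOfField (SeparableClosure (X.residueField x)) _).2
    ⟨x, CommRingCat.ofHom (algebraMap (X.residueField x) _)⟩

/-- A sieve of the small etale site is covering as soon as it is jointly surjective on the fibres
of the standard geometric points. -/
lemma sieve_mem_of_forall_stdPt {U : X.Etale} (S : Sieve U)
    (h : ∀ (x : X) (t : (Scheme.pointSmallEtale (stdPt x)).fiber.obj U),
      ∃ (V : X.Etale) (g : V ⟶ U) (_ : S g) (y : (Scheme.pointSmallEtale (stdPt x)).fiber.obj V),
        (Scheme.pointSmallEtale (stdPt x)).fiber.map g y = t) :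
    S ∈ X.smallEtaleTopology U := by
  obtain ⟨ι, T, f, rfl⟩ := S.exists_eq_ofArrows
  have hP := Scheme.isConservativeFamilyOfPoints_pointSmallEtale' X
  rw [hP.jointly_reflect_ofArrows_mem_of_small]
  rintro ⟨Φ, hΦ⟩ t
  obtain ⟨x, rfl⟩ := (ObjectProperty.ofObj_iff _ _).1 hΦ
  obtain ⟨V, g, hg, y, rfl⟩ := h x t
  obtain ⟨W, a, b, ⟨i⟩, rfl⟩ := hg
  exact ⟨i, (Scheme.pointSmallEtale (stdPt x)).fiber.map a y,
    (ConcreteCategory.congr_hom ((Scheme.pointSmallEtale (stdPt x)).fiber.map_comp a (f i)) y).symm⟩


section General

variable {F G : EtDesc.Sh X} (v : F ⟶ G)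

lemma injective_app_of_mono [Mono v] (U : X.Etaleᵒᵖ) : Function.Injective (v.hom.app U) := by
  have : Mono ((sheafToPresheaf _ _).map v) := inferInstance
  have : Mono (v.hom.app U) := inferInstance
  exact (mono_iff_injective _).1 this

/-- the fibre of a monomorphism at any point is injective -/
lemma sheafFiber_map_injective_of_mono [Mono v] (Φ : GrothendieckTopology.Point.{u} X.smallEtaleTopology) :
    Function.Injective ((Φ.sheafFiber (A := Type (u + 1))).map v) := by
  have : Presheaf.IsLocallyInjective X.smallEtaleTopology v.hom :=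
    Presheaf.isLocallyInjective_of_injective _ _ (injective_app_of_mono v)
  exact Φ.toPresheafFiber_map_injective v.hom

/-- the fibre of an epimorphism at any point is surjective -/
lemma sheafFiber_map_surjective_of_epi [Epi v] (Φ : GrothendieckTopology.Point.{u} X.smallEtaleTopology) :
    Function.Surjective ((Φ.sheafFiber (A := Type (u + 1))).map v) := by
  have : Sheaf.IsLocallySurjective v := (Sheaf.isLocallySurjective_iff_epi v).2 inferInstance
  exact Φ.toPresheafFiber_map_surjective v.hom

/-- injectivity on the fibres of the standard geometric points implies monomorphism -/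
lemma mono_of_forall_stdPt
    (h : ∀ x : X, Function.Injective
      (((Scheme.pointSmallEtale (stdPt x)).sheafFiber (A := Type (u + 1))).map v)) : Mono v := by
  have : Presheaf.IsLocallyInjective X.smallEtaleTopology v.hom := ⟨fun {U} a b hab => by
    apply sieve_mem_of_forall_stdPt
    intro x t
    have h1 : (Scheme.pointSmallEtale (stdPt x)).toPresheafFiber U.unop t F.obj a =
        (Scheme.pointSmallEtale (stdPt x)).toPresheafFiber U.unop t F.obj b := by
      apply h x
      have e1 := (Scheme.pointSmallEtale (stdPt x)).toPresheafFiber_naturality_apply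
        v.hom U.unop t a
      have e2 := (Scheme.pointSmallEtale (stdPt x)).toPresheafFiber_naturality_apply
        v.hom U.unop t b
      exact e1.trans ((congrArg _ hab).trans e2.symm)
    obtain ⟨V, g, y, hy, hg⟩ :=
      ((Scheme.pointSmallEtale (stdPt x)).toPresheafFiber_eq_iff' _ _ _ _).1 h1
    exact ⟨V, g, hg, y, hy⟩⟩
  exact Sheaf.mono_of_isLocallyInjective v

omit v in
/-- two elements of fibres of a point have a common refinement -/
lemma exists_common_refinement (Φ : GrothendieckTopology.Point.{u} X.smallEtaleTopology)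
    (U W : X.Etale) (t : Φ.fiber.obj U) (w : Φ.fiber.obj W) :
    ∃ (V : X.Etale) (g : V ⟶ U) (h : V ⟶ W) (y : Φ.fiber.obj V),
      Φ.fiber.map g y = t ∧ Φ.fiber.map h y = w := by
  let a := Functor.elementsMk Φ.fiber U t
  let b := Functor.elementsMk Φ.fiber W w
  exact ⟨(IsCofiltered.min a b).1, (IsCofiltered.minToLeft a b).1, (IsCofiltered.minToRight a b).1,
    (IsCofiltered.min a b).2, (IsCofiltered.minToLeft a b).2, (IsCofiltered.minToRight a b).2⟩

/-- surjectivity on the fibres of the standard geometric points implies epimorphism -/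
lemma epi_of_forall_stdPt
    (h : ∀ x : X, Function.Surjective
      (((Scheme.pointSmallEtale (stdPt x)).sheafFiber (A := Type (u + 1))).map v)) : Epi v := by
  have : Presheaf.IsLocallySurjective X.smallEtaleTopology v.hom := ⟨fun {U} s => by
    apply sieve_mem_of_forall_stdPt
    intro x t
    obtain ⟨p, hp⟩ := h x ((Scheme.pointSmallEtale (stdPt x)).toPresheafFiber U t G.obj s)
    obtain ⟨W, w, z, rfl⟩ :=
      (Scheme.pointSmallEtale (stdPt x)).toPresheafFiber_jointly_surjective (P := F.obj) p
    have e1 := (Scheme.pointSmallEtale (stdPt x)).toPresheafFiber_naturality_apply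
        v.hom W w z
    replace hp := e1.symm.trans hp
    obtain ⟨V₀, g₀, h₀, y₀, hg₀, hh₀⟩ :=
      exists_common_refinement (Scheme.pointSmallEtale (stdPt x)) U W t w
    have e2 := (Scheme.pointSmallEtale (stdPt x)).toPresheafFiber_w_apply g₀ y₀ G.obj s
    have e3 := (Scheme.pointSmallEtale (stdPt x)).toPresheafFiber_w_apply h₀ y₀ G.obj
      (v.hom.app (op W) z)
    rw [hg₀] at e2
    rw [hh₀] at e3
    have e4 := (e3.trans hp).trans e2.symm
    obtain ⟨V, f, y, hy, hf⟩ :=
      ((Scheme.pointSmallEtale (stdPt x)).toPresheafFiber_eq_iff' _ _ _ _).1 e4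
    refine ⟨V, f ≫ g₀, ⟨F.obj.map (f ≫ h₀).op z, ?_⟩, y, ?_⟩
    · have n1 := NatTrans.naturality_apply v.hom (f ≫ h₀).op z
      rw [n1, op_comp, Functor.map_comp, op_comp, Functor.map_comp]
      exact hf
    · have := ConcreteCategory.congr_hom
        ((Scheme.pointSmallEtale (stdPt x)).fiber.map_comp f g₀) y
      rw [this]
      change (Scheme.pointSmallEtale (stdPt x)).fiber.map g₀
        ((Scheme.pointSmallEtale (stdPt x)).fiber.map f y) = t
      rw [hy, hg₀]⟩
  have : Sheaf.IsLocallySurjective v := this
  infer_instance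

end General

end Groth.Agent.Lib.EtStalkConservative
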