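import Groth.Agent.Lib.EtGermB
import Groth.Agent.Lib.EtSepClosedPush39

/-!
# Stalks and extensions of the separably closed field (helper39)

* `exists_nbhd_of_comp`: an etale neighbourhood of `c ≫ ξ` (for `c : Spec Ω' ⟶ Spec Ω`) lying over
  a neighbourhood of `ξ` descends to a neighbourhood of `ξ`;
* `isZero_stalk_of_isZero_stalk_comp`: the stalk at `ξ` vanishes if the stalk at `c ≫ ξ` does.
-/

set_option autoImplicit false
universe u
open CategoryTheory CategoryTheory.Limits AlgebraicGeometry Opposite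

namespace Groth.Agent.Lib.EtStalkFieldExt39

open Groth.Agent.Lib.EtGerm

variable {X : Scheme.{u}} {Ω Ω' : Type u} [Field Ω] [IsSepClosed Ω] [Field Ω'] [IsSepClosed Ω']
  (ξ : Spec (CommRingCat.of Ω) ⟶ X) (c : Spec (CommRingCat.of Ω') ⟶ Spec (CommRingCat.of Ω))

/-- the neighbourhood of `c ≫ ξ` induced by a neighbourhood of `ξ` -/
noncomputable def extNbhd {W : X.Etale} (y : Nbhd ξ W) : Nbhd (c ≫ ξ) W :=
  Over.homMk (c ≫ (CommaMorphism.left y : Spec (CommRingCat.of Ω) ⟶ W.left)) (by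
    show (c ≫ (CommaMorphism.left y : Spec (CommRingCat.of Ω) ⟶ W.left)) ≫ W.hom = c ≫ ξ
    have h : (CommaMorphism.left y : Spec (CommRingCat.of Ω) ⟶ W.left) ≫ W.hom = ξ := Over.w y
    rw [Category.assoc, h])

set_option backward.isDefEq.respectTransparency false in
/-- neighbourhoods of `c ≫ ξ` over a neighbourhood of `ξ` descend -/
lemma exists_nbhd_of_comp {W W' : X.Etale} (k : W' ⟶ W) (y : Nbhd ξ W) (z' : Nbhd (c ≫ ξ) W')
    (hz' : Nbhd.map (c ≫ ξ) k z' = extNbhd ξ c y) :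
    ∃ yn : Nbhd ξ W', Nbhd.map ξ k yn = y := by
  let yl : Spec (CommRingCat.of Ω) ⟶ W.left := CommaMorphism.left y
  let zl : Spec (CommRingCat.of Ω') ⟶ W'.left := CommaMorphism.left z'
  have hy : yl ≫ W.hom = ξ := Over.w y
  have hk : k.left ≫ W.hom = W'.hom := Over.w k.hom
  have hzl : zl ≫ k.left = c ≫ yl := congrArg CommaMorphism.left hz'
  let π : pullback k.left yl ⟶ Spec (CommRingCat.of Ω) := pullback.snd k.left yl
  have hπ : Etale π := inferInstanceAs (Etale (pullback.snd k.left yl))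
  let w : Spec (CommRingCat.of Ω') ⟶ pullback k.left yl := pullback.lift zl c hzl
  obtain ⟨σs, hσ1, -, -, -⟩ :=
    Groth.Agent.Lib.EtSepClosedPush39.exists_section_through Ω π (w default)
  have h1 : (σs ≫ pullback.fst k.left yl) ≫ k.left = yl := by
    rw [Category.assoc, pullback.condition, ← Category.assoc]
    show (σs ≫ π) ≫ yl = yl
    rw [hσ1, Category.id_comp]
  refine ⟨Over.homMk (σs ≫ pullback.fst k.left yl) ?_, ?_⟩
  · show (σs ≫ pullback.fst k.left yl) ≫ W'.hom = ξ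
    rw [← hk, ← Category.assoc, h1, hy]
  · apply Over.OverMorphism.ext
    exact h1

/-- the stalk at `ξ` vanishes if the stalk at `c ≫ ξ` does -/
theorem isZero_stalk_of_isZero_stalk_comp (G : EtCoh.Ab X)
    (h : IsZero ((EtCoh.stalk (c ≫ ξ)).obj G)) : IsZero ((EtCoh.stalk ξ).obj G) := by
  apply isZero_stalk_of_forall_germ
  intro W y s
  have := AddCommGrpCat.subsingleton_of_isZero h
  have h0 : germ (c ≫ ξ) G (extNbhd ξ c y) s = 0 := Subsingleton.elim _ _
  obtain ⟨W', k, z', hz', hk⟩ := (germ_eq_zero_iff (c ≫ ξ) G _ s).1 h0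
  obtain ⟨yn, hyn⟩ := exists_nbhd_of_comp ξ c k y z' hz'
  rw [← hyn, ← germ_res, hk, map_zero]

end Groth.Agent.Lib.EtStalkFieldExt39
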