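import Groth.Agent.Lib.EtExt22b
import Groth.Agent.Lib.EtConstPush

/-!
# Subsheaves of constant étale sheaves (helper22)

For a monomorphism `ι : G ⟶ M̲` into a constant sheaf with finite value:

* `Nsub ι V`: the subgroup of those `m : M` whose constant section over `V` lies in `G`;
* `nonempty_iso_const_of_nsub_eq`: if `Nsub ι V` does not depend on the nonempty `V`, then `G` is
  constant;
* `exists_restr_iso_const`: in general `G` becomes constant on some nonempty étale `V`.
-/

set_option autoImplicit false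
set_option linter.style.haveILetI false
set_option linter.unusedSectionVars false
universe u

open CategoryTheory AlgebraicGeometry Limits MorphismProperty Opposite

namespace Groth.Agent.Lib.EtSubLC22

open Groth.Agent.Lib.EtConst Groth.Agent.Lib.EtOverSite22 Groth.Agent.Lib.EtLocConst22
  Groth.Agent.Lib.EtLCKer22 Groth.Agent.Lib.EtExt22 Groth.Agent.Lib.EtConstPush

variable {W : Scheme.{u}}

theorem app_injective_of_mono {F G : EtCoh.Ab W} (ι : F ⟶ G) [Mono ι] (V : W.Etale) :
    Function.Injective (ι.hom.app (op V)) := by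
  have h1 : Mono ((sheafToPresheaf W.smallEtaleTopology Ab1.{u}).map ι) := inferInstance
  have h2 : Mono (((sheafToPresheaf W.smallEtaleTopology Ab1.{u}).map ι).app (op V)) :=
    inferInstance
  exact (AddCommGrpCat.mono_iff_injective _).1 h2

variable {G : EtCoh.Ab W} {M : Ab1.{u}} (ι : G ⟶ constSh W M)

/-- the subgroup of those `m` whose constant section over `V` lies in the subsheaf `G` -/
def Nsub (V : W.Etale) : AddSubgroup M where
  carrier := {m | ∃ s : EtCoh.sect G V, ι.hom.app (op V) s = constSec M V m}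
  zero_mem' := ⟨0, by rw [map_zero, map_zero]⟩
  add_mem' := by
    rintro a b ⟨s, hs⟩ ⟨t, ht⟩
    exact ⟨s + t, by rw [map_add, map_add, hs, ht]⟩
  neg_mem' := by
    rintro a ⟨s, hs⟩
    exact ⟨-s, by rw [map_neg, map_neg, hs]⟩

theorem mem_nsub {V : W.Etale} {m : M} :
    m ∈ Nsub ι V ↔ ∃ s : EtCoh.sect G V, ι.hom.app (op V) s = constSec M V m := Iff.rfl

theorem nsub_mono {V V' : W.Etale} (g : V' ⟶ V) : Nsub ι V ≤ Nsub ι V' := by
  rintro m ⟨s, hs⟩
  refine ⟨G.obj.map g.op s, ?_⟩
  rw [hom_res ι g, hs, constSec_res]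

/-- If the subgroup `Nsub ι V` is the same for all nonempty `V`, the subsheaf `G` is constant. -/
theorem nonempty_iso_const_of_nsub_eq [Mono ι]
    (h : ∀ V : W.Etale, Nonempty V.left → Nsub ι V = Nsub ι (EtCoh.top W)) :
    Nonempty (G ≅ constSh W (AddCommGrpCat.of ↥(Nsub ι (EtCoh.top W)))) := by
  let N₀ := Nsub ι (EtCoh.top W)
  let N : Ab1.{u} := AddCommGrpCat.of ↥N₀
  have hinj := app_injective_of_mono ι
  have hsec : ∀ n : N₀, ∃ s : EtCoh.sect G (EtCoh.top W),
      ι.hom.app (op (EtCoh.top W)) s = constSec M (EtCoh.top W) n.1 := fun n => n.2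
  choose σ hσ using hsec
  let Λ : N →+ EtCoh.sect G (EtCoh.top W) := AddMonoidHom.mk' σ (fun a b => by
    apply hinj (EtCoh.top W)
    rw [map_add, hσ, hσ, hσ, ← map_add]
    rfl)
  let φ : constSh W N ⟶ G := constDesc G Λ
  let incl : N ⟶ M := AddCommGrpCat.ofHom N₀.subtype
  have hφ : ∀ (U : W.Etale) (n : N), ι.hom.app (op U) (φ.hom.app (op U) (constSec N U n)) =
      constSec M U (incl n) := by
    intro U n
    rw [constDesc_constSec, hom_res ι (toTop U)]
    show (constSh W M).obj.map (toTop U).op (ι.hom.app (op (EtCoh.top W)) (σ n)) = _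
    rw [hσ, constSec_res]
    rfl
  have hcomp : φ ≫ ι = (constantSheaf W.smallEtaleTopology Ab1.{u}).map incl := by
    apply const_hom_ext
    intro U n
    exact (hφ U n).trans (constSec_map incl U n).symm
  haveI : Mono incl := (AddCommGrpCat.mono_iff_injective _).2 Subtype.val_injective
  haveI : Mono ((constantSheaf W.smallEtaleTopology Ab1.{u}).map incl) := inferInstance
  haveI : Mono (φ ≫ ι) := by rw [hcomp]; infer_instance
  haveI : Mono φ := mono_of_mono φ ι
  haveI : Epi φ := by
    rw [← Sheaf.isLocallySurjective_iff_epi' (φ := φ)]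
    refine ⟨fun {U} s => ?_⟩
    rw [Groth.Agent.Lib.EtPushEpi39.mem_smallEtale_iff]
    intro x
    obtain ⟨V, g, m, ⟨z, hz⟩, hm⟩ := exists_constSec_eq_pt M (ι.hom.app (op U) s) x
    have hm' : ι.hom.app (op V) (G.obj.map g.op s) = constSec M V m := by
      rw [hom_res ι g]; exact hm
    have hmN : m ∈ N₀ := by
      show m ∈ Nsub ι (EtCoh.top W)
      rw [← h V ⟨z⟩]
      exact ⟨_, hm'⟩
    refine ⟨V, g, z, ⟨constSec N V ⟨m, hmN⟩, ?_⟩, hz⟩
    apply hinj V
    exact (hφ V ⟨m, hmN⟩).trans hm'.symm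
  haveI : IsIso φ := isIso_of_mono_of_epi φ
  exact ⟨(asIso φ).symm⟩

theorem mono_of_app_injective {T : Scheme.{u}} {F F' : EtCoh.Ab T} (θ : F ⟶ F')
    (h : ∀ V : T.Etale, Function.Injective (θ.hom.app (op V))) : Mono θ := by
  haveI : ∀ V : T.Etaleᵒᵖ, Mono (θ.hom.app V) := fun V =>
    (AddCommGrpCat.mono_iff_injective _).2 (h V.unop)
  haveI : Mono θ.hom := NatTrans.mono_of_mono_app θ.hom
  exact (sheafToPresheaf T.smallEtaleTopology Ab1.{u}).mono_of_mono_map
    (show Mono θ.hom from inferInstance)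

/-- A subsheaf of a constant sheaf with finite value becomes constant (with finite value) on some
nonempty étale `V`. -/
theorem exists_restr_iso_const [Mono ι] [Finite M] [Nonempty W] :
    ∃ (V : W.Etale) (N : Ab1.{u}), Nonempty V.left ∧ Finite N ∧
      Nonempty ((restrAlongA V Ab1.{u}).obj G ≅ constSh V.left N) := by
  classical
  -- choose `V` nonempty with `Nsub ι V` of maximal cardinality
  let c : {V : W.Etale // Nonempty V.left} → ℕ := fun V => Nat.card (Nsub ι V.1)
  have hb : BddAbove (Set.range c) := ⟨Nat.card M, by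
    rintro _ ⟨V, rfl⟩
    exact Nat.card_le_card_of_injective _ Subtype.val_injective⟩
  have hne : (Set.range c).Nonempty :=
    ⟨_, ⟨⟨EtCoh.top W, (inferInstance : Nonempty W)⟩, rfl⟩⟩
  obtain ⟨⟨V, hV⟩, hVmax⟩ := Nat.sSup_mem hne hb
  have hmax : ∀ V' : W.Etale, Nonempty V'.left → Nat.card (Nsub ι V') ≤ Nat.card (Nsub ι V) := by
    intro V' hV'
    have : c ⟨V', hV'⟩ ≤ sSup (Set.range c) := le_csSup hb ⟨_, rfl⟩
    rw [← hVmax] at this
    exact this
  have heq : ∀ (V' : W.Etale) (_ : V' ⟶ V), Nonempty V'.left → Nsub ι V' = Nsub ι V := by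
    intro V' g hV'
    have hle := nsub_mono ι g
    symm
    apply SetLike.coe_injective
    apply Set.eq_of_subset_of_ncard_le hle _ (Set.toFinite _)
    exact hmax V' hV'
  -- the restricted monomorphism
  let R := restrAlongA V Ab1.{u}
  let e := restrConstIso V M
  let ι' : R.obj G ⟶ constSh V.left M := R.map ι ≫ e.hom
  have hinj := app_injective_of_mono ι
  have heinj : ∀ V' : V.left.Etale, Function.Injective (e.hom.hom.app (op V')) := by
    intro V' a b hab
    have h1 := congrArg (fun t => e.inv.hom.app (op V') t) hab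
    have h2 : ∀ t, e.inv.hom.app (op V') (e.hom.hom.app (op V') t) = t := fun t => by
      have h3 : e.hom ≫ e.inv = 𝟙 _ := e.hom_inv_id
      have h4 := congrArg (fun θ => θ.hom.app (op V') t) h3
      exact h4
    simpa only [h2] using h1
  haveI : Mono ι' := by
    apply mono_of_app_injective
    intro V' a b hab
    exact hinj _ (heinj V' hab)
  have hN' : ∀ V' : V.left.Etale, Nonempty V'.left → Nsub ι' V' = Nsub ι V := by
    intro V' hV'
    have hV'' : Nonempty ((EtShriek.compEtale (homX V)).obj V').left := hV'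
    rw [← heq _ (strHom V V') hV'']
    ext m
    constructor
    · rintro ⟨s, hs⟩
      refine ⟨s, heinj V' ?_⟩
      rw [restrConstIso_hom_constSec]
      exact hs
    · rintro ⟨s, hs⟩
      refine ⟨s, ?_⟩
      show e.hom.hom.app (op V') (ι.hom.app (op ((EtShriek.compEtale (homX V)).obj V')) s) = _
      rw [hs, restrConstIso_hom_constSec]
  have hVl : Nonempty (EtCoh.top V.left).left := hV
  obtain ⟨α⟩ := nonempty_iso_const_of_nsub_eq ι' (fun V' hV' => by
    rw [hN' V' hV', hN' _ hVl])
  refine ⟨V, _, hV, ?_, ⟨α⟩⟩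
  exact Finite.of_injective _ Subtype.val_injective

end Groth.Agent.Lib.EtSubLC22
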