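import Groth.Agent.Lib.EtSubLC22a
import Groth.Agent.Lib.EtExt22c

/-!
# Subsheaves of finite locally constant étale sheaves are generically locally constant (helper22)

* `exists_open_isLC_of_mono`: on an irreducible scheme `T`, a subsheaf `G` of a finite locally
  constant abelian sheaf `F` is finite locally constant on some nonempty open of `T`.
-/

set_option autoImplicit false
set_option linter.style.haveILetI false
set_option linter.unusedSectionVars false
universe u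

open CategoryTheory AlgebraicGeometry Limits MorphismProperty Opposite

namespace Groth.Agent.Lib.EtSubLC22

open Groth.Agent.Lib.EtConst Groth.Agent.Lib.EtOverSite22 Groth.Agent.Lib.EtLocConst22
  Groth.Agent.Lib.EtLCKer22 Groth.Agent.Lib.EtExt22 Groth.Agent.Lib.EtConstPush
  Groth.Agent.Lib.EtConstr22

variable {T : Scheme.{u}}

/-- A subsheaf of a finite locally constant sheaf on a nonempty scheme is finite locally constant
on some nonempty open subscheme. -/
theorem exists_open_isLC_of_mono [Nonempty T] {F G : EtCoh.Ab T}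
    (ι : G ⟶ F) [Mono ι] (hF : IsLC Ab1.{u} PFin F) :
    ∃ U : T.Opens, (U : Set T).Nonempty ∧ IsLC Ab1.{u} PFin ((pullA Ab1.{u} U.ι).obj G) := by
  obtain ⟨κ, W, hW, h⟩ := exists_restr_iso_of_isLC hF
  obtain ⟨t⟩ := (inferInstance : Nonempty T)
  obtain ⟨i, y, hy⟩ := hW t
  obtain ⟨M, hM, ⟨α⟩⟩ := h i
  haveI := pFin_finite hM
  let R := restrAlongA (W i) Ab1.{u}
  let ι' : R.obj G ⟶ constSh (W i).left M := R.map ι ≫ α.hom
  haveI : Mono (R.map ι) := by
    apply mono_of_app_injective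
    intro V
    exact app_injective_of_mono ι _
  haveI : Mono ι' := mono_comp _ _
  haveI : Nonempty (W i).left := ⟨y⟩
  obtain ⟨V, N, hV, hN, ⟨β⟩⟩ := exists_restr_iso_const ι'
  obtain ⟨v⟩ := hV
  let j : V.left ⟶ T := V.hom ≫ (W i).hom
  haveI : Etale j := by
    haveI : Etale V.hom := V.prop
    haveI : Etale (W i).hom := (W i).prop
    infer_instance
  let U : T.Opens := ⟨Set.range j, j.isOpenMap.isOpen_range⟩
  let l : V.left ⟶ (U : Scheme.{u}) := IsOpenImmersion.lift U.ι j (by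
    rw [Scheme.Opens.range_ι]; exact subset_rfl)
  have hl : l ≫ U.ι = j := IsOpenImmersion.lift_fac _ _ _
  haveI : Etale l := EtCoh.etaleMP.of_postcomp (W' := EtCoh.etaleMP) l U.ι inferInstance (by
    rw [hl]; infer_instance)
  refine ⟨U, ⟨j v, v, rfl⟩, ?_⟩
  -- the single-member cover `l : V.left ⟶ U`
  let J : (U : Scheme.{u}).Etale := Scheme.Etale.mk l
  have hcov : EtCoh.Covers (fun _ : PUnit.{u + 1} => J) := by
    intro x
    obtain ⟨z, hz⟩ : U.ι x ∈ Set.range j := x.2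
    refine ⟨PUnit.unit, z, ?_⟩
    apply U.ι.injective
    have h1 : U.ι (l z) = j z := by
      rw [← Scheme.Hom.comp_apply, hl]
    exact h1.trans hz
  refine IsLC.of_cover (fun _ : PUnit.{u + 1} => J) hcov fun _ => ?_
  obtain ⟨K, hK, ⟨ε⟩⟩ := pFin_of_iso_finite N
  have h0 : IsLC Ab1.{u} PFin (constSh V.left K) := isLC_const K hK
  let Φ := constantSheaf V.left.smallEtaleTopology Ab1.{u}
  -- `l^* (U.ι^* G) ≅ j^* G ≅ V.hom^* ((W i).hom^* G) ≅ N̲`
  have e1 : (pullA Ab1.{u} (homX J)).obj ((pullA Ab1.{u} U.ι).obj G) ≅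
      (pullA Ab1.{u} (l ≫ U.ι)).obj G := ((pullCompA Ab1.{u} l U.ι).app G).symm
  have e2 : (pullA Ab1.{u} (l ≫ U.ι)).obj G ≅ (pullA Ab1.{u} (V.hom ≫ (W i).hom)).obj G :=
    (pullCongrA Ab1.{u} hl).app G
  have e3 : (pullA Ab1.{u} (V.hom ≫ (W i).hom)).obj G ≅
      (pullA Ab1.{u} V.hom).obj ((pullA Ab1.{u} (W i).hom).obj G) :=
    (pullCompA Ab1.{u} V.hom (W i).hom).app G
  have e4 : (pullA Ab1.{u} (W i).hom).obj G ≅ R.obj G := (pullIsoRestrA Ab1.{u} (W i)).app G
  have e5 : (pullA Ab1.{u} V.hom).obj (R.obj G) ≅ (restrAlongA V Ab1.{u}).obj (R.obj G) :=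
    (pullIsoRestrA Ab1.{u} V).app (R.obj G)
  exact h0.of_iso (e1 ≪≫ e2 ≪≫ e3 ≪≫ (pullA Ab1.{u} V.hom).mapIso e4 ≪≫ e5 ≪≫ β ≪≫
    Φ.mapIso ε).symm

end Groth.Agent.Lib.EtSubLC22
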