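import Groth.Agent.Lib.EtSubLC22b
import Groth.Agent.Lib.EtConstr22k
import Groth.Agent.Lib.EtConstrKer22
import Groth.Agent.Lib.EtExt22d

/-!
# Subsheaves and quotients of constructible abelian étale sheaves, Noetherian case (helper22)

* `isConstructible_of_mono`: on a locally Noetherian scheme a subsheaf of a constructible abelian
  sheaf is constructible;
* `isConstructible_of_epi`: the same for quotients.
-/

set_option autoImplicit false
set_option linter.style.haveILetI false
set_option linter.unusedSectionVars false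
universe u

open CategoryTheory AlgebraicGeometry Limits MorphismProperty Opposite Topology

namespace Groth.Agent.Lib.EtSubLC22

open Groth.Agent.Lib.EtConst Groth.Agent.Lib.EtOverSite22 Groth.Agent.Lib.EtLocConst22
  Groth.Agent.Lib.EtLCKer22 Groth.Agent.Lib.EtExt22 Groth.Agent.Lib.EtConstPush
  Groth.Agent.Lib.EtConstr22

/-- On a locally Noetherian scheme, a subsheaf of a constructible abelian sheaf is constructible. -/
theorem isConstructible_of_mono {X : Scheme.{u}} [IsLocallyNoetherian X] {F G : EtCoh.Ab X}
    (ι : G ⟶ F) [Mono ι] (hF : EtPBC.IsConstructible F) : EtPBC.IsConstructible G := by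
  rw [isConstructible_iff, isConstructibleA_iff_closure_nhds] at hF ⊢
  intro x
  obtain ⟨V, T, g, hg, hxV, hr, hLC⟩ := hF x
  haveI := hg
  have hxr : x ∈ Set.range g := by
    rw [hr]; exact ⟨hxV, subset_closure rfl⟩
  obtain ⟨t, ht⟩ := hxr
  haveI : Nonempty T := ⟨t⟩
  let p := pullA Ab1.{u} g
  haveI : Mono (p.map ι) := inferInstance
  obtain ⟨U, ⟨u, hu⟩, hU⟩ := exists_open_isLC_of_mono (p.map ι) hLC
  obtain ⟨O, hO, hOU'⟩ := g.isEmbedding.isInducing.isOpen_iff.1 U.2
  have hOU : g ⁻¹' O = (U : Set T) := hOU'
  have hrange : Set.range (U.ι ≫ g) = (O ∩ V) ∩ closure {x} := by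
    rw [Scheme.Hom.comp_base, TopCat.coe_comp, Set.range_comp, Scheme.Opens.range_ι]
    rw [← hOU, Set.image_preimage_eq_inter_range, hr, Set.inter_assoc]
  have hxO : x ∈ O := by
    have h1 : g u ∈ O := by
      have : u ∈ g ⁻¹' O := by rw [hOU]; exact hu
      exact this
    have h2 : g u ∈ closure {x} := by
      have : g u ∈ Set.range g := ⟨u, rfl⟩
      rw [hr] at this
      exact this.2
    obtain ⟨z, hz1, hz2⟩ := mem_closure_iff.1 h2 O hO h1
    rw [Set.mem_singleton_iff.1 hz2] at hz1
    exact hz1
  refine ⟨⟨O, hO⟩ ⊓ V, (U : Scheme.{u}), U.ι ≫ g, inferInstance, ⟨hxO, hxV⟩, hrange, ?_⟩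
  exact hU.of_iso ((pullCompA Ab1.{u} U.ι g).app G).symm

/-- On a locally Noetherian scheme, a quotient of a constructible abelian sheaf is
constructible. -/
theorem isConstructible_of_epi {X : Scheme.{u}} [IsLocallyNoetherian X] {F Q : EtCoh.Ab X}
    (π : F ⟶ Q) [Epi π] (hF : EtPBC.IsConstructible F) : EtPBC.IsConstructible Q := by
  have hK := isConstructible_of_mono (kernel.ι π) hF
  have h2 := (isConstructible_ker_coker (kernel.ι π) hK hF).2
  have e : cokernel (kernel.ι π) ≅ Q :=
    (cokernelIsCokernel (kernel.ι π)).coconePointUniqueUpToIso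
      (Abelian.epiIsCokernelOfKernel _ (limit.isLimit (parallelPair π 0)))
  exact isConstructible_of_iso e h2

/-- Extensions of constructible abelian sheaves are constructible (no torsion hypothesis). -/
theorem isConstructible_of_ext' {X : Scheme.{u}} (S : ShortComplex (EtCoh.Ab X))
    (hS : S.ShortExact) (h1 : EtPBC.IsConstructible S.X₁) (h3 : EtPBC.IsConstructible S.X₃) :
    EtPBC.IsConstructible S.X₂ := by
  have h1' := (isConstructible_iff S.X₁).1 h1
  have h3' := (isConstructible_iff S.X₃).1 h3
  refine (isConstructible_iff _).2 (IsConstructibleA.of_pair h1' h3' fun T g k1 k3 => ?_)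
  let p := pullA Ab1.{u} g
  haveI : p.Additive := Functor.additive_of_preserves_binary_products _
  exact isLC_of_ext' (S.map p) (hS.map_of_exact p) k1 k3

end Groth.Agent.Lib.EtSubLC22
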