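import Groth.Agent.Lib.EtSubLC22c
import Groth.Agent.Lib.EtAbStalk2
import Groth.Agent.Lib.EtStalkPull

/-!
# Joint conservativity of inverse images along jointly surjective families (helper22)

* `isIso_of_isIso_pull`: a morphism of abelian étale sheaves on `X` is an isomorphism as soon as
  every point of `X` lies in the range of some `g : T ⟶ X` with `g⁻¹ φ` an isomorphism.
-/

set_option autoImplicit false
set_option linter.style.haveILetI false
set_option linter.unusedSectionVars false
universe u

open CategoryTheory AlgebraicGeometry Limits MorphismProperty Opposite Topology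

namespace Groth.Agent.Lib.EtSubLC22

open Groth.Agent.Lib.EtConst Groth.Agent.Lib.EtOverSite22 Groth.Agent.Lib.EtLocConst22
  Groth.Agent.Lib.EtLCKer22 Groth.Agent.Lib.EtExt22 Groth.Agent.Lib.EtConstPush
  Groth.Agent.Lib.EtConstr22 Groth.Agent.Lib.EtGerm Groth.Agent.Lib.EtStalkConservative

theorem isIso_of_isIso_pull {X : Scheme.{u}} {G G' : EtCoh.Ab X} (φ : G ⟶ G')
    (h : ∀ x : X, ∃ (T : Scheme.{u}) (g : T ⟶ X), x ∈ Set.range g ∧
      IsIso ((pullA Ab1.{u} g).map φ)) : IsIso φ := by
  apply Groth.Agent.Lib.EtAbStalk2.isIso_of_forall_exists_geomPt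
  intro x
  obtain ⟨T, g, ⟨t, ht⟩, hiso⟩ := h x
  refine ⟨_, inferInstance, inferInstance, stdPt t ≫ g, ?_, ?_⟩
  · rw [Scheme.Hom.comp_apply, stdPt_default, ht]
  · let e := Groth.Agent.Lib.EtStalkPull.stalkPullIso g (stdPt t)
    have hn := e.hom.naturality φ
    haveI : IsIso ((EtCoh.pull g).map φ) := hiso
    haveI : IsIso ((EtCoh.pull g ⋙ EtCoh.stalk (stdPt t)).map φ) := by
      rw [Functor.comp_map]; infer_instance
    have h2 : (EtCoh.stalk (stdPt t ≫ g)).map φ =
        e.inv.app G ≫ (EtCoh.pull g ⋙ EtCoh.stalk (stdPt t)).map φ ≫ e.hom.app G' := by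
      rw [hn, ← Category.assoc, Iso.inv_hom_id_app, Category.id_comp]
    haveI : IsIso ((EtCoh.stalk (stdPt t ≫ g)).map φ) := by
      rw [h2]; infer_instance
    exact ConcreteCategory.bijective_of_isIso _

end Groth.Agent.Lib.EtSubLC22
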