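import Groth.Agent.Lib.EtSubLC22d

/-!
# Chains of subsheaves of a constant étale sheaf (helper22)

* `isIso_of_nsub_le`: a morphism between subsheaves of a constant sheaf is an isomorphism as soon as
  the two subsheaves contain the same constant sections over every nonempty `V`;
* `restrMono`, `nsub_restrMono`: restriction of a subsheaf of a constant sheaf to an étale `V`;
* `exists_stable_of_const`: an increasing chain of subsheaves of a constant sheaf with finite value
  becomes stationary on some nonempty étale `V`.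
-/

set_option autoImplicit false
set_option linter.style.haveILetI false
set_option linter.unusedSectionVars false
universe u

open CategoryTheory AlgebraicGeometry Limits MorphismProperty Opposite Topology

namespace Groth.Agent.Lib.EtSubLC22

open Groth.Agent.Lib.EtConst Groth.Agent.Lib.EtOverSite22 Groth.Agent.Lib.EtLocConst22
  Groth.Agent.Lib.EtLCKer22 Groth.Agent.Lib.EtExt22 Groth.Agent.Lib.EtConstPush
  Groth.Agent.Lib.EtConstr22

variable {W : Scheme.{u}} {M : Ab1.{u}}

theorem nsub_le_of_fac {G G' : EtCoh.Ab W} (ι : G ⟶ constSh W M) (ι' : G' ⟶ constSh W M)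
    (φ : G ⟶ G') (hφ : φ ≫ ι' = ι) (V : W.Etale) : Nsub ι V ≤ Nsub ι' V := by
  rintro m ⟨s, hs⟩
  refine ⟨φ.hom.app (op V) s, ?_⟩
  rw [← hs, ← hφ]
  rfl

/-- A morphism between subsheaves of a constant sheaf is an isomorphism as soon as the target
contains no more constant sections than the source. -/
theorem isIso_of_nsub_le {G G' : EtCoh.Ab W} (ι : G ⟶ constSh W M) (ι' : G' ⟶ constSh W M)
    [Mono ι] [Mono ι'] (φ : G ⟶ G') (hφ : φ ≫ ι' = ι)
    (h : ∀ V : W.Etale, Nonempty V.left → Nsub ι' V ≤ Nsub ι V) : IsIso φ := by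
  have hinj' := app_injective_of_mono ι'
  haveI : Mono φ := mono_of_mono_fac hφ
  haveI : Epi φ := by
    rw [← Sheaf.isLocallySurjective_iff_epi' (φ := φ)]
    refine ⟨fun {U} s => ?_⟩
    rw [Groth.Agent.Lib.EtPushEpi39.mem_smallEtale_iff]
    intro x
    obtain ⟨V, g, m, ⟨z, hz⟩, hm⟩ := exists_constSec_eq_pt M (ι'.hom.app (op U) s) x
    have hm' : ι'.hom.app (op V) (G'.obj.map g.op s) = constSec M V m := by
      rw [hom_res ι' g]; exact hm
    obtain ⟨t, ht⟩ := h V ⟨z⟩ ⟨_, hm'⟩
    refine ⟨V, g, z, ⟨t, ?_⟩, hz⟩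
    apply hinj' V
    rw [hm', ← ht, ← hφ]
    rfl
  exact isIso_of_mono_of_epi φ

/-- restriction of a morphism to a constant sheaf to an étale `V` -/
noncomputable def restrMono {G : EtCoh.Ab W} (ι : G ⟶ constSh W M) (V : W.Etale) :
    (restrAlongA V Ab1.{u}).obj G ⟶ constSh V.left M :=
  (restrAlongA V Ab1.{u}).map ι ≫ (restrConstIso V M).hom

theorem restrConstIso_hom_app_injective (V : W.Etale) (V' : V.left.Etale) :
    Function.Injective ((restrConstIso V M).hom.hom.app (op V')) := by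
  intro a b hab
  let e := restrConstIso V M
  have h1 := congrArg (fun t => e.inv.hom.app (op V') t) hab
  have h2 : ∀ t, e.inv.hom.app (op V') (e.hom.hom.app (op V') t) = t := fun t => by
    have h3 : e.hom ≫ e.inv = 𝟙 _ := e.hom_inv_id
    have h4 := congrArg (fun θ => θ.hom.app (op V') t) h3
    exact h4
  exact (h2 a).symm.trans (h1.trans (h2 b))

instance mono_restrMono {G : EtCoh.Ab W} (ι : G ⟶ constSh W M) [Mono ι] (V : W.Etale) :
    Mono (restrMono ι V) := by
  apply mono_of_app_injective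
  intro V' a b hab
  exact app_injective_of_mono ι _ (restrConstIso_hom_app_injective V V' hab)

theorem nsub_restrMono {G : EtCoh.Ab W} (ι : G ⟶ constSh W M) (V : W.Etale) (V' : V.left.Etale) :
    Nsub (restrMono ι V) V' = Nsub ι ((EtShriek.compEtale (homX V)).obj V') := by
  ext m
  constructor
  · rintro ⟨s, hs⟩
    refine ⟨s, restrConstIso_hom_app_injective V V' ?_⟩
    rw [restrConstIso_hom_constSec]
    exact hs
  · rintro ⟨s, hs⟩
    refine ⟨s, ?_⟩
    show (restrConstIso V M).hom.hom.app (op V')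
      (ι.hom.app (op ((EtShriek.compEtale (homX V)).obj V')) s) = _
    rw [hs, restrConstIso_hom_constSec]

/-- An increasing chain of subsheaves of a constant sheaf with finite value becomes stationary on
some nonempty étale `V`. -/
theorem exists_stable_of_const [Nonempty W] [Finite M] (G : ℕ → EtCoh.Ab W)
    (ι : ∀ m, G m ⟶ constSh W M) [∀ m, Mono (ι m)]
    (φ : ∀ m m', m ≤ m' → (G m ⟶ G m')) (hφ : ∀ m m' h, φ m m' h ≫ ι m' = ι m) :
    ∃ (V : W.Etale) (N : ℕ), Nonempty V.left ∧
      ∀ m (h : N ≤ m), IsIso ((restrAlongA V Ab1.{u}).map (φ N m h)) := by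
  classical
  let c : ℕ × {V : W.Etale // Nonempty V.left} → ℕ := fun p => Nat.card (Nsub (ι p.1) p.2.1)
  have hb : BddAbove (Set.range c) := ⟨Nat.card M, by
    rintro _ ⟨p, rfl⟩
    exact Nat.card_le_card_of_injective _ Subtype.val_injective⟩
  have hne : (Set.range c).Nonempty :=
    ⟨_, ⟨(0, ⟨EtCoh.top W, (inferInstance : Nonempty W)⟩), rfl⟩⟩
  obtain ⟨⟨N, ⟨V, hV⟩⟩, hmax0⟩ := Nat.sSup_mem hne hb
  have hmax : ∀ (m : ℕ) (V' : W.Etale), Nonempty V'.left →
      Nat.card (Nsub (ι m) V') ≤ Nat.card (Nsub (ι N) V) := by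
    intro m V' hV'
    have : c (m, ⟨V', hV'⟩) ≤ sSup (Set.range c) := le_csSup hb ⟨_, rfl⟩
    rw [← hmax0] at this
    exact this
  refine ⟨V, N, hV, fun m h => ?_⟩
  have hfac : (restrAlongA V Ab1.{u}).map (φ N m h) ≫ restrMono (ι m) V = restrMono (ι N) V := by
    unfold restrMono
    rw [← Category.assoc, ← Functor.map_comp, hφ]
  refine isIso_of_nsub_le (restrMono (ι N) V) (restrMono (ι m) V) _ hfac fun V'' hV'' => ?_
  rw [nsub_restrMono, nsub_restrMono]
  let V₂ : W.Etale := (EtShriek.compEtale (homX V)).obj V''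
  have hV₂ : Nonempty V₂.left := hV''
  have h1 : Nsub (ι N) V ≤ Nsub (ι N) V₂ := nsub_mono (ι N) (strHom V V'')
  have h2 : Nsub (ι N) V₂ ≤ Nsub (ι m) V₂ := nsub_le_of_fac _ _ _ (hφ N m h) V₂
  have h3 := hmax m V₂ hV₂
  have h4 : Nat.card (Nsub (ι N) V) ≤ Nat.card (Nsub (ι N) V₂) :=
    Nat.card_le_card_of_injective _ (Set.inclusion_injective h1)
  have h5 : (Nsub (ι N) V₂ : Set M) = (Nsub (ι m) V₂ : Set M) :=
    Set.eq_of_subset_of_ncard_le h2 (h3.trans h4) (Set.toFinite _)
  intro x hx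
  have : x ∈ (Nsub (ι m) V₂ : Set M) := hx
  rw [← h5] at this
  exact this

end Groth.Agent.Lib.EtSubLC22
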