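import Groth.Prelude.Def_EtOpen
import Groth.Agent.Lib.EtMinusOneAcyc95
import Groth.Agent.Lib.EtQcqs95
import Mathlib.CategoryTheory.Sites.LocallySurjective

set_option autoImplicit false
universe u
open CategoryTheory CategoryTheory.Limits AlgebraicGeometry Opposite

namespace Groth.Agent.Lib.EtSubterminal95

open EtDesc Groth.Agent.Lib.EtMinusOneAcyc95

variable {X : Scheme.{u}}

/-- sections of the terminal sheaf are subsingletons -/
lemma subsingleton_terminal (W : X.Etaleᵒᵖ) :
    Subsingleton ((⊤_ (Sh X)).obj.obj W) := by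
  have h : IsTerminal ((sheafToPresheaf X.smallEtaleTopology (Type (u + 1)) ⋙
      (evaluation _ _).obj W).obj (⊤_ (Sh X))) :=
    terminalIsTerminal.isTerminalObj _ _
  have hu : Unique ((⊤_ (Sh X)).obj.obj W) := (Types.isTerminalEquivUnique _).1 h
  exact ⟨fun a b => (hu.uniq a).trans (hu.uniq b).symm⟩

/-- a subterminal sheaf has subsingleton sections -/
lemma subsingleton_of_mono (F : Sh X) [Mono (terminal.from F)] (W : X.Etaleᵒᵖ) :
    Subsingleton (F.obj.obj W) := by
  have := subsingleton_terminal (X := X) W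
  exact (injective_of_mono X.smallEtaleTopology (terminal.from F) W).subsingleton

/-- a sheaf with subsingleton sections is subterminal -/
lemma mono_of_subsingleton (F : Sh X) (h : ∀ W : X.Etaleᵒᵖ, Subsingleton (F.obj.obj W)) :
    Mono (terminal.from F) := by
  constructor
  intro Z a b _
  apply Sheaf.hom_ext
  ext W s
  exact (h W).elim _ _

/-! ### morphisms into opens -/

lemma range_subset_of_hom {W : X.Etale} {U : X.Opens} (g : W ⟶ ofOpen U) :
    Set.range W.hom ⊆ (U : Set X) := by
  rintro _ ⟨w, rfl⟩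
  have h : g.left ≫ U.ι = W.hom := Over.w g.hom
  rw [← h]
  exact (g.left w).2

lemma nonempty_hom_of_range_subset {W : X.Etale} {U : X.Opens}
    (h : Set.range W.hom ⊆ (U : Set X)) : Nonempty (W ⟶ ofOpen U) := by
  have hι : IsOpenImmersion U.ι := inferInstance
  have h' : Set.range (W.hom : W.left ⟶ X) ⊆ Set.range U.ι := by
    rw [Scheme.Opens.range_ι]; exact h
  exact ⟨MorphismProperty.Over.homMk (@IsOpenImmersion.lift _ _ _ U.ι (W.hom : W.left ⟶ X) hι h')
    (@IsOpenImmersion.lift_fac _ _ _ U.ι (W.hom : W.left ⟶ X) hι h')⟩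

set_option backward.isDefEq.respectTransparency.types false in
lemma subsingleton_hom (W : X.Etale) (U : X.Opens) : Subsingleton (W ⟶ ofOpen U) := by
  constructor
  intro a b
  apply MorphismProperty.Over.Hom.ext
  have ha : a.left ≫ U.ι = W.hom := Over.w a.hom
  have hb : b.left ≫ U.ι = W.hom := Over.w b.hom
  exact (cancel_mono U.ι).1 (ha.trans hb.symm)

/-- the representable presheaf of an open, universe-lifted -/
noncomputable abbrev yO (U : X.Opens) : X.Etaleᵒᵖ ⥤ Type (u + 1) :=
  yoneda.obj (ofOpen U) ⋙ uliftFunctor.{u + 1, u}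

/-- sections of a sheafification come locally from the presheaf -/
lemma exists_cover_of_section (P : X.Etaleᵒᵖ ⥤ Type (u + 1)) {W : X.Etale}
    (s : ((presheafToSheaf X.smallEtaleTopology (Type (u + 1))).obj P).obj.obj (op W))
    (w : W.left) :
    ∃ (W' : X.Etale) (g : W' ⟶ W), Nonempty (P.obj (op W')) ∧ w ∈ Set.range g.left := by
  have h := Presheaf.imageSieve_mem X.smallEtaleTopology
    (toSheafify X.smallEtaleTopology P) (U := op W) s
  obtain ⟨W', g, w', ⟨t, -⟩, hw⟩ :=
    (Groth.Agent.Lib.EtQcqs95.mem_smallEtaleTopology_iff W _).1 h w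
  exact ⟨W', g, ⟨t⟩, w', hw⟩


/-- sheafification of a presheaf with subsingleton sections has subsingleton sections -/
lemma subsingleton_sheafify (P : X.Etaleᵒᵖ ⥤ Type (u + 1))
    (hP : ∀ W : X.Etaleᵒᵖ, Subsingleton (P.obj W)) (W : X.Etaleᵒᵖ) :
    Subsingleton (((presheafToSheaf X.smallEtaleTopology (Type (u + 1))).obj P).obj.obj W) := by
  constructor
  intro s t
  have hs := Presheaf.imageSieve_mem X.smallEtaleTopology
    (toSheafify X.smallEtaleTopology P) (U := W) s
  have ht := Presheaf.imageSieve_mem X.smallEtaleTopology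
    (toSheafify X.smallEtaleTopology P) (U := W) t
  have hst := X.smallEtaleTopology.intersection_covering hs ht
  have hsep : Presieve.IsSheaf X.smallEtaleTopology
      ((presheafToSheaf X.smallEtaleTopology (Type (u + 1))).obj P).obj :=
    (isSheaf_iff_isSheaf_of_type _ _).1
      ((presheafToSheaf X.smallEtaleTopology (Type (u + 1))).obj P).cond
  refine (hsep _ hst).isSeparatedFor.ext ?_
  rintro Y f ⟨⟨a, ha⟩, ⟨b, hb⟩⟩
  have hab : a = b := (hP _).elim a b
  subst hab
  exact ha.symm.trans hb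

lemma subsingleton_yO (U : X.Opens) (W : X.Etaleᵒᵖ) : Subsingleton ((yO U).obj W) := by
  have := subsingleton_hom W.unop U
  constructor
  rintro ⟨a⟩ ⟨b⟩
  exact congrArg ULift.up (Subsingleton.elim a b)

lemma subsingleton_repSh (U : X.Opens) (W : X.Etaleᵒᵖ) :
    Subsingleton ((repSh (ofOpen U)).obj.obj W) :=
  subsingleton_sheafify (yO U) (subsingleton_yO U) W

/-- (a) -/
lemma mono_repSh (U : X.Opens) : Mono (terminal.from (repSh (ofOpen U))) :=
  mono_of_subsingleton _ (subsingleton_repSh U)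

/-- homs into a sheaf with subsingleton sections are unique -/
lemma hom_subsingleton (F G : Sh X) (h : ∀ W : X.Etaleᵒᵖ, Subsingleton (G.obj.obj W)) :
    Subsingleton (F ⟶ G) := by
  constructor
  intro a b
  apply Sheaf.hom_ext
  ext W s
  exact (h W).elim _ _

/-- (b), forward -/
lemma nonempty_hom_of_le {U V : X.Opens} (h : U ≤ V) :
    Nonempty (repSh (ofOpen U) ⟶ repSh (ofOpen V)) := by
  have hr : Set.range (ofOpen U).hom ⊆ (V : Set X) := by
    rintro _ ⟨x, rfl⟩
    exact h x.2
  obtain ⟨f⟩ := nonempty_hom_of_range_subset hr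
  exact ⟨(presheafToSheaf X.smallEtaleTopology (Type (u + 1))).map
    (Functor.whiskerRight (yoneda.map f) uliftFunctor.{u + 1, u})⟩

/-- (b), backward -/
lemma le_of_hom {U V : X.Opens} (φ : repSh (ofOpen U) ⟶ repSh (ofOpen V)) : U ≤ V := by
  intro x hx
  let s0 : (yO U).obj (op (ofOpen U)) := ULift.up (𝟙 _)
  let s := φ.hom.app (op (ofOpen U)) ((toSheafify X.smallEtaleTopology (yO U)).app _ s0)
  obtain ⟨W', g, ⟨⟨k⟩⟩, w', hw'⟩ := exists_cover_of_section (yO V) s (⟨x, hx⟩ : U.toScheme)
  have h1 := range_subset_of_hom k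
  have h2 : g.left ≫ U.ι = W'.hom := Over.w g.hom
  have h3 : W'.hom w' = x := by
    rw [← h2]
    change U.ι (g.left w') = x
    rw [hw']
    rfl
  rw [← h3]
  exact h1 ⟨w', rfl⟩


/-! ### (c) -/

/-- the support open of a sheaf: union of the images of the étale `W` with `F(W) ≠ ∅` -/
noncomputable def supp (F : Sh X) : X.Opens :=
  ⟨⋃ (W : X.Etale) (_ : Nonempty (F.obj.obj (op W))), Set.range W.hom,
    isOpen_iUnion fun W => isOpen_iUnion fun _ => W.hom.isOpenMap.isOpen_range⟩

lemma mem_supp_iff (F : Sh X) (x : X) :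
    x ∈ supp F ↔ ∃ W : X.Etale, Nonempty (F.obj.obj (op W)) ∧ x ∈ Set.range W.hom := by
  change x ∈ (⋃ (W : X.Etale) (_ : Nonempty (F.obj.obj (op W))), Set.range W.hom) ↔ _
  simp only [Set.mem_iUnion, exists_prop]

lemma range_subset_supp (F : Sh X) (W : X.Etale) (h : Nonempty (F.obj.obj (op W))) :
    Set.range W.hom ⊆ (supp F : Set X) :=
  fun x hx => (mem_supp_iff F x).2 ⟨W, h, hx⟩

/-- the sieve of arrows over whose source `F` has a section -/
def secSieve (F : Sh X) (W : X.Etale) : Sieve W where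
  arrows W' _ := Nonempty (F.obj.obj (op W'))
  downward_closed := by
    rintro Y Z f ⟨s⟩ g
    exact ⟨F.obj.map g.op s⟩

lemma secSieve_mem (F : Sh X) : secSieve F (ofOpen (supp F)) ∈
    X.smallEtaleTopology (ofOpen (supp F)) := by
  rw [Groth.Agent.Lib.EtQcqs95.mem_smallEtaleTopology_iff]
  intro x
  obtain ⟨W, hW, w, hw⟩ := (mem_supp_iff F x.1).1 x.2
  obtain ⟨g⟩ := nonempty_hom_of_range_subset (range_subset_supp F W hW)
  refine ⟨W, g, w, hW, ?_⟩
  have h2 : g.left ≫ (supp F).ι = W.hom := Over.w g.hom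
  apply Subtype.ext
  change ((supp F).ι (g.left w) : X) = x.1
  rw [← hw, ← h2]
  rfl

/-- a subterminal sheaf has a section over its support -/
lemma nonempty_section_supp (F : Sh X) (hF : ∀ W : X.Etaleᵒᵖ, Subsingleton (F.obj.obj W)) :
    Nonempty (F.obj.obj (op (ofOpen (supp F)))) := by
  classical
  have hsh : Presieve.IsSheaf X.smallEtaleTopology F.obj :=
    (isSheaf_iff_isSheaf_of_type _ _).1 F.cond
  have hS := hsh _ (secSieve_mem F)
  let fam : Presieve.FamilyOfElements F.obj (secSieve F (ofOpen (supp F))).arrows :=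
    fun W' _ h => Classical.choice h
  have hcomp : fam.Compatible := by
    intro Y₁ Y₂ Z g₁ g₂ f₁ f₂ h₁ h₂ _
    exact (hF _).elim _ _
  exact ⟨hS.amalgamate fam hcomp⟩

/-- (c) -/
lemma exists_iso_repSh (F : Sh X) (hF : ∀ W : X.Etaleᵒᵖ, Subsingleton (F.obj.obj W)) :
    Nonempty (F ≅ repSh (ofOpen (supp F))) := by
  classical
  obtain ⟨s⟩ := nonempty_section_supp F hF
  have hR := subsingleton_repSh (supp F)
  -- map a(yO U) ⟶ F
  let α : yO (supp F) ⟶ F.obj :=
    { app := fun W => TypeCat.ofHom (fun g => F.obj.map g.down.op s)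
      naturality := by
        intro W W' k
        ext g
        exact (hF _).elim _ _ }
  let β : repSh (ofOpen (supp F)) ⟶ F :=
    ⟨sheafifyLift X.smallEtaleTopology α F.cond⟩
  -- map F ⟶ a(yO U)
  let γ : F ⟶ repSh (ofOpen (supp F)) :=
    ⟨{ app := fun W => TypeCat.ofHom (fun t =>
          (toSheafify X.smallEtaleTopology (yO (supp F))).app W
            (ULift.up (Classical.choice
              (nonempty_hom_of_range_subset (range_subset_supp F W.unop ⟨t⟩)))))
       naturality := by
        intro W W' k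
        ext g
        exact (hR _).elim _ _ }⟩
  have h1 := hom_subsingleton F F hF
  have h2 := hom_subsingleton (repSh (ofOpen (supp F))) (repSh (ofOpen (supp F))) hR
  exact ⟨⟨γ, β, Subsingleton.elim _ _, Subsingleton.elim _ _⟩⟩

end Groth.Agent.Lib.EtSubterminal95
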