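import Groth.Agent.Lib.EtSubLC22d
import Groth.Agent.Lib.EtConstrEtLocal22a
import Groth.Agent.Lib.ConsTrans22
import Groth.Agent.Lib.EtConstStalk

/-!
# The support of a constructible abelian étale sheaf is constructible (helper22)

* `stalkPullObjIso`: `(g⁻¹F)_ξ ≅ F_{g ξ}`;
* `supp_pull_subset`, `preimage_supp_subset_of_immersion`, `supp_pull_eq`: for an immersion `g`,
  `supp (g⁻¹ F) = g⁻¹ (supp F)`;
* `nonempty_stalk_iso_of_pull_iso`: geometric stalks of `G` over a member of a trivialising cover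
  are the value group;
* `isClopen_supp_of_isLC`: a locally constant sheaf has open and closed support;
* `isConstructible_supp`: on a qcqs scheme the support of a constructible sheaf is constructible;
* `isLocallyConstructible_supp`: in general it is locally constructible.
-/

set_option autoImplicit false
set_option linter.style.haveILetI false
set_option linter.unusedSectionVars false
universe u

open CategoryTheory AlgebraicGeometry Limits MorphismProperty Opposite Topology

namespace Groth.Agent.Lib.EtSuppConstr22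

open Groth.Agent.Lib.EtConst Groth.Agent.Lib.EtOverSite22 Groth.Agent.Lib.EtLocConst22
  Groth.Agent.Lib.EtLCKer22 Groth.Agent.Lib.EtExt22 Groth.Agent.Lib.EtConstPush
  Groth.Agent.Lib.EtConstr22 Groth.Agent.Lib.EtGerm Groth.Agent.Lib.EtStalkConservative

/-- Stalks of an inverse image. -/
noncomputable def stalkPullObjIso {T X : Scheme.{u}} (g : T ⟶ X) (F : EtCoh.Ab X) {Ω : Type u}
    [Field Ω] [IsSepClosed Ω] (ξ : Spec (CommRingCat.of Ω) ⟶ T) :
    (EtCoh.stalk ξ).obj ((EtCoh.pull g).obj F) ≅ (EtCoh.stalk (ξ ≫ g)).obj F :=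
  (Groth.Agent.Lib.EtStalkPull.stalkPullIso g ξ).app F

theorem default_eq_of_range {X : Scheme.{u}} {Ω : Type u} [Field Ω]
    (ξ : Spec (CommRingCat.of Ω) ⟶ X) {x : X} (h : Set.range ξ = {x}) : ξ default = x := by
  have : ξ default ∈ Set.range ξ := ⟨default, rfl⟩
  rw [h] at this
  exact this

theorem range_of_default_eq {X : Scheme.{u}} {Ω : Type u} [Field Ω]
    (ξ : Spec (CommRingCat.of Ω) ⟶ X) {x : X} (h : ξ default = x) : Set.range ξ = {x} := by
  rw [range_eq_singleton, h]

theorem supp_pull_subset {T X : Scheme.{u}} (g : T ⟶ X) (F : EtCoh.Ab X) :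
    EtPBC.supp ((EtCoh.pull g).obj F) ⊆ g ⁻¹' EtPBC.supp F := by
  rintro t ⟨Ω, i1, i2, ξ, hξ, hnz⟩
  refine ⟨Ω, i1, i2, ξ ≫ g, ?_, ?_⟩
  · apply range_of_default_eq
    rw [Scheme.Hom.comp_apply, default_eq_of_range ξ hξ]
  · intro hz
    exact hnz (hz.of_iso (stalkPullObjIso g F ξ))

theorem preimage_supp_subset_of_immersion {T X : Scheme.{u}} (g : T ⟶ X) [IsImmersion g]
    (F : EtCoh.Ab X) : g ⁻¹' EtPBC.supp F ⊆ EtPBC.supp ((EtCoh.pull g).obj F) := by
  rintro t ⟨Ω, i1, i2, ξ, hξ, hnz⟩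
  obtain ⟨l, hl⟩ := Groth.Agent.Lib.EtConstrEtLocal22.exists_lift_of_isReduced ξ g (by
    rw [hξ]; rintro _ rfl; exact ⟨t, rfl⟩)
  refine ⟨Ω, i1, i2, l, ?_, ?_⟩
  · apply range_of_default_eq
    apply g.isEmbedding.injective
    rw [← Scheme.Hom.comp_apply, hl]
    exact default_eq_of_range ξ hξ
  · intro hz
    subst hl
    exact hnz (hz.of_iso (stalkPullObjIso g F l).symm)

theorem supp_pull_eq {T X : Scheme.{u}} (g : T ⟶ X) [IsImmersion g] (F : EtCoh.Ab X) :
    EtPBC.supp ((EtCoh.pull g).obj F) = g ⁻¹' EtPBC.supp F :=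
  (supp_pull_subset g F).antisymm (preimage_supp_subset_of_immersion g F)

theorem nonempty_stalk_iso_of_eq {X : Scheme.{u}} (G : EtCoh.Ab X) {Ω : Type u} [Field Ω]
    [IsSepClosed Ω] {ξ₁ ξ₂ : Spec (CommRingCat.of Ω) ⟶ X} (h : ξ₁ = ξ₂) :
    Nonempty ((EtCoh.stalk ξ₁).obj G ≅ (EtCoh.stalk ξ₂).obj G) := by
  subst h
  exact ⟨Iso.refl _⟩

/-- Over a member of a trivialising étale cover, geometric stalks are the value group. -/
theorem nonempty_stalk_iso_of_pull_iso {T : Scheme.{u}} (G : EtCoh.Ab T) (U : T.Etale)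
    (M : Ab1.{u}) (α : (EtCoh.pull (homX U)).obj G ≅ constSh U.left M) {Ω : Type u} [Field Ω]
    [IsSepClosed Ω] (ξ : Spec (CommRingCat.of Ω) ⟶ T) (v : U.left) (hv : U.hom v = ξ default) :
    Nonempty ((EtCoh.stalk ξ).obj G ≅ M) := by
  obtain ⟨y, -⟩ := exists_nbhd_of_pt ξ U v hv
  let ξ' : Spec (CommRingCat.of Ω) ⟶ U.left := CommaMorphism.left y
  have h : ξ' ≫ homX U = ξ := Over.w y
  obtain ⟨e0⟩ := nonempty_stalk_iso_of_eq G h
  exact ⟨e0.symm ≪≫ (stalkPullObjIso (homX U) G ξ').symm ≪≫ (EtCoh.stalk ξ').mapIso α ≪≫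
    (stalkConstEquiv ξ' M).toAddCommGrpIso.symm⟩

/-- A locally constant sheaf has open and closed support. -/
theorem isClopen_supp_of_isLC {T : Scheme.{u}} {G : EtCoh.Ab T} {P : Ab1.{u} → Prop}
    (h : IsLC Ab1.{u} P G) : IsClopen (EtPBC.supp G) := by
  obtain ⟨ι, U, hU, h⟩ := (isLC_iff_pull G).1 h
  choose M hM hα using h
  have key : ∀ (i : ι) (Ω : Type u) [Field Ω] [IsSepClosed Ω]
      (ξ : Spec (CommRingCat.of Ω) ⟶ T) (v : (U i).left), (U i).hom v = ξ default →
      Nonempty ((EtCoh.stalk ξ).obj G ≅ M i) := by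
    intro i Ω _ _ ξ v hv
    obtain ⟨α⟩ := hα i
    exact nonempty_stalk_iso_of_pull_iso G (U i) (M i) α ξ v hv
  have hmem : ∀ (i : ι) (v : (U i).left), (U i).hom v ∈ EtPBC.supp G ↔ ¬ IsZero (M i) := by
    intro i v
    constructor
    · rintro ⟨Ω, i1, i2, ξ, hξ, hnz⟩ hz
      obtain ⟨e⟩ := key i Ω ξ v (default_eq_of_range ξ hξ).symm
      exact hnz (hz.of_iso e)
    · intro hnz
      refine ⟨_, inferInstance, inferInstance, stdPt ((U i).hom v), range_stdPt _, fun hz => ?_⟩
      obtain ⟨e⟩ := key i _ (stdPt ((U i).hom v)) v (stdPt_default _).symm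
      exact hnz (hz.of_iso e.symm)
  constructor
  · rw [← isOpen_compl_iff, isOpen_iff_forall_mem_open]
    intro t ht
    obtain ⟨i, v, hv⟩ := hU t
    refine ⟨Set.range (U i).hom, ?_, (homX (U i)).isOpenMap.isOpen_range, ⟨v, hv⟩⟩
    rintro _ ⟨v', rfl⟩
    have h1 : (U i).hom v ∉ EtPBC.supp G := by
      have : (U i).hom v = t := hv
      rw [this]; exact ht
    rw [hmem] at h1
    show (U i).hom v' ∉ EtPBC.supp G
    rw [hmem]
    exact h1
  · rw [isOpen_iff_forall_mem_open]
    intro t ht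
    obtain ⟨i, v, hv⟩ := hU t
    refine ⟨Set.range (U i).hom, ?_, (homX (U i)).isOpenMap.isOpen_range, ⟨v, hv⟩⟩
    rintro _ ⟨v', rfl⟩
    have h1 : (U i).hom v ∈ EtPBC.supp G := by
      have : (U i).hom v = t := hv
      rw [this]; exact ht
    rw [hmem] at h1
    show (U i).hom v' ∈ EtPBC.supp G
    rw [hmem]
    exact h1

/-- In a compact space, constructible sets are compact. -/
theorem isCompact_of_isConstructible {X : Type*} [TopologicalSpace X] [CompactSpace X]
    {s : Set X} (hs : IsConstructible s) : IsCompact s := by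
  refine BooleanSubalgebra.closure_sdiff_sup_induction
    (s := {U : Set X | IsOpen U ∧ IsRetrocompact U})
    (p := fun g _ => IsCompact g) ?_ ?_ ?_ ?_ ?_ s hs
  · exact ⟨fun s hs t ht ↦ ⟨hs.1.union ht.1, hs.2.union ht.2⟩,
      fun s hs t ht ↦ ⟨hs.1.inter ht.1, hs.2.inter_isOpen ht.2 ht.1⟩⟩
  · exact ⟨isOpen_empty, .empty⟩
  · exact ⟨isOpen_univ, .univ⟩
  · intro x hx y hy
    exact hx.2.isCompact.diff hy.1
  · intro x _ y _ hx hy
    exact hx.union hy

/-- On a quasi-compact quasi-separated scheme, the support of a constructible sheaf is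
constructible. -/
theorem isConstructible_supp {X : Scheme.{u}} [CompactSpace X] [QuasiSeparatedSpace X]
    (F : EtCoh.Ab X) (hF : EtPBC.IsConstructible F) : IsConstructible (EtPBC.supp F) := by
  obtain ⟨ι, _, T, g, h1, h2, h3, h4, h5⟩ :=
    (isConstructibleA_iff_strataA_univ F).1 ((isConstructible_iff F).1 hF)
  have e : EtPBC.supp F = ⋃ i, g i '' EtPBC.supp ((EtCoh.pull (g i)).obj F) := by
    ext x
    constructor
    · intro hx
      have hx' : x ∈ ⋃ i, Set.range (g i) := h4 ▸ Set.mem_univ x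
      obtain ⟨i, t, rfl⟩ := Set.mem_iUnion.1 hx'
      haveI := h1 i
      exact Set.mem_iUnion.2 ⟨i, t, preimage_supp_subset_of_immersion (g i) F hx, rfl⟩
    · intro hx
      obtain ⟨i, t, ht, rfl⟩ := Set.mem_iUnion.1 hx
      exact supp_pull_subset (g i) F ht
  rw [e]
  refine IsConstructible.iUnion fun i => ?_
  haveI := h1 i
  have hR : IsConstructible (Set.range (g i)) := consIn_univ_iff.1 (h2 i)
  have hemb : IsEmbedding (g i) := (g i).isEmbedding
  have hclopen : IsClopen (EtPBC.supp ((EtCoh.pull (g i)).obj F)) := isClopen_supp_of_isLC (h5 i)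
  haveI : CompactSpace (T i) := by
    rw [← isCompact_univ_iff, hemb.isInducing.isCompact_iff, Set.image_univ]
    exact isCompact_of_isConstructible hR
  exact isConstructible_image_of_isEmbedding hemb hR hclopen.isOpen hclopen.isClosed.isCompact

/-- The support of a constructible sheaf is locally constructible. -/
theorem isLocallyConstructible_supp {X : Scheme.{u}} (F : EtCoh.Ab X)
    (hF : EtPBC.IsConstructible F) : IsLocallyConstructible (EtPBC.supp F) := by
  intro x
  obtain ⟨U, hU, hxU, -⟩ := exists_isAffineOpen_mem_and_subset (U := ⊤) (x := x) (by simp)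
  refine ⟨(U : Set X), U.isOpen.mem_nhds hxU, U.isOpen, ?_⟩
  haveI : IsAffine (U : Scheme.{u}) := hU
  have hc : IsConstructible (EtPBC.supp ((EtCoh.pull U.ι).obj F)) :=
    isConstructible_supp _ (isConstructible_pull U.ι hF)
  rw [supp_pull_eq] at hc
  exact hc

/-- The locus where a morphism of sheaves is surjective on geometric stalks is the complement of
the support of its cokernel. -/
theorem surjLocus_eq {X : Scheme.{u}} {F G : EtCoh.Ab X} (φ : F ⟶ G) :
    {x : X | ∀ (Ω : Type u) [Field Ω] [IsSepClosed Ω]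
      (ξ : Spec (CommRingCat.of Ω) ⟶ X), Set.range ξ = {x} →
        Function.Surjective ((EtCoh.stalk ξ).map φ)} = (EtPBC.supp (cokernel φ))ᶜ := by
  have key : ∀ (Ω : Type u) [Field Ω] [IsSepClosed Ω] (ξ : Spec (CommRingCat.of Ω) ⟶ X),
      Function.Surjective ((EtCoh.stalk ξ).map φ) ↔ IsZero ((EtCoh.stalk ξ).obj (cokernel φ)) := by
    intro Ω _ _ ξ
    rw [← AddCommGrpCat.epi_iff_surjective, Preadditive.epi_iff_isZero_cokernel]
    exact (PreservesCokernel.iso (EtCoh.stalk ξ) φ).symm.isZero_iff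
  ext x
  constructor
  · rintro h ⟨Ω, i1, i2, ξ, hξ, hnz⟩
    exact hnz ((key Ω ξ).1 (h Ω ξ hξ))
  · intro hx Ω _ _ ξ hξ
    rw [key]
    by_contra hnz
    exact hx ⟨Ω, inferInstance, inferInstance, ξ, hξ, hnz⟩

/-- On a qcqs scheme, the surjectivity locus of a morphism of constructible sheaves is
constructible. -/
theorem isConstructible_surjLocus {X : Scheme.{u}} [CompactSpace X] [QuasiSeparatedSpace X]
    {F G : EtCoh.Ab X} (φ : F ⟶ G) (hF : EtPBC.IsConstructible F)
    (hG : EtPBC.IsConstructible G) :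
    IsConstructible {x : X | ∀ (Ω : Type u) [Field Ω] [IsSepClosed Ω]
      (ξ : Spec (CommRingCat.of Ω) ⟶ X), Set.range ξ = {x} →
        Function.Surjective ((EtCoh.stalk ξ).map φ)} := by
  rw [surjLocus_eq]
  exact (isConstructible_supp _ (isConstructible_ker_coker φ hF hG).2).compl

end Groth.Agent.Lib.EtSuppConstr22
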