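import Groth.Agent.Lib.EtClosedStalk
import Groth.Agent.Lib.EtClopen
import Groth.Prelude.Def_EtShriek2
import Mathlib.AlgebraicGeometry.Morphisms.Preimmersion

/-!
# Supports of sections of abelian etale sheaves and gluing along two-element covers (helper39)
-/

set_option autoImplicit false
universe u
open CategoryTheory CategoryTheory.Limits AlgebraicGeometry Opposite

namespace Groth.Agent.Lib.EtSuppGlue

open Groth.Agent.Lib.EtGerm Groth.Agent.Lib.EtStalkConservative Groth.Agent.Lib.EtStalkPullGerm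

section points

variable {A B : Scheme.{u}} (φ : A ⟶ B) {K : Type u} [Field K]

lemma eq_of_comp_eq_aux (x₁ x₂ : A) (h : x₁ = x₂) (ι₁ : A.residueField x₁ ⟶ CommRingCat.of K)
    (ι₂ : A.residueField x₂ ⟶ CommRingCat.of K)
    (hφ : (Spec.map ι₁ ≫ A.fromSpecResidueField x₁) ≫ φ =
      (Spec.map ι₂ ≫ A.fromSpecResidueField x₂) ≫ φ)
    (hres : Function.Bijective (φ.residueFieldMap x₁)) :
    Spec.map ι₁ ≫ A.fromSpecResidueField x₁ = Spec.map ι₂ ≫ A.fromSpecResidueField x₂ := by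
  subst h
  have hiso : IsIso (φ.residueFieldMap x₁) :=
    (ConcreteCategory.isIso_iff_bijective _).2 hres
  rw [Category.assoc, Category.assoc, ← Scheme.Hom.SpecMap_residueFieldMap_fromSpecResidueField,
    ← Spec.map_comp_assoc, ← Spec.map_comp_assoc, cancel_mono, Spec.map_inj, cancel_epi] at hφ
  rw [hφ]

/-- two `K`-points of `A` with the same underlying point `x` and the same image in `B` agree if
the residue field extension at `x` is trivial -/
lemma eq_of_comp_eq_of_bijective_residueFieldMap (m₁ m₂ : Spec (CommRingCat.of K) ⟶ A)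
    (hφ : m₁ ≫ φ = m₂ ≫ φ) (p : ↥(Spec (CommRingCat.of K)))
    (hpt : m₁ p = m₂ p)
    (hres : Function.Bijective (φ.residueFieldMap (m₁ p))) :
    m₁ = m₂ := by
  obtain rfl : p = (show ↥(Spec (CommRingCat.of K)) from IsLocalRing.closedPoint K) :=
    Subsingleton.elim _ _
  have e1 : Spec.map ((Scheme.SpecToEquivOfField K A) m₁).2 ≫
      A.fromSpecResidueField ((Scheme.SpecToEquivOfField K A) m₁).1 = m₁ :=
    (Scheme.SpecToEquivOfField K A).left_inv m₁
  have e2 : Spec.map ((Scheme.SpecToEquivOfField K A) m₂).2 ≫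
      A.fromSpecResidueField ((Scheme.SpecToEquivOfField K A) m₂).1 = m₂ :=
    (Scheme.SpecToEquivOfField K A).left_inv m₂
  refine e1.symm.trans (Eq.trans ?_ e2)
  exact eq_of_comp_eq_aux φ _ _ hpt _ _
    ((congrArg (· ≫ φ) e1).trans (hφ.trans (congrArg (· ≫ φ) e2).symm)) hres

end points


section glue

variable {X : Scheme.{u}}

/-- the two-element family `A ⟶ P`, `B ⟶ P` -/
def fam2 (A B : X.Etale) : Bool → X.Etale := fun b => Bool.rec B A b

def fam2ι {P A B : X.Etale} (a : A ⟶ P) (b : B ⟶ P) : (i : Bool) → (fam2 A B i ⟶ P) :=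
  fun i => Bool.rec b a i

lemma generate_fam2_mem {P A B : X.Etale} (a : A ⟶ P) (b : B ⟶ P)
    (hcov : ∀ p : P.left, p ∈ Set.range a.left ∨ p ∈ Set.range b.left) :
    Sieve.generate (Presieve.ofArrows (fam2 A B) (fam2ι a b)) ∈ X.smallEtaleTopology P := by
  apply sieve_mem_of_forall_pt
  intro p
  rcases hcov p with h | h
  · exact ⟨A, a, ⟨_, 𝟙 _, _, Presieve.ofArrows.mk (f := fam2ι a b) true, Category.id_comp _⟩, h⟩
  · exact ⟨B, b, ⟨_, 𝟙 _, _, Presieve.ofArrows.mk (f := fam2ι a b) false, Category.id_comp _⟩, h⟩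

/-- gluing sections along a two-element etale cover -/
lemma exists_section_of_cover_two (F : EtCoh.Ab X) {P A B : X.Etale} (a : A ⟶ P) (b : B ⟶ P)
    (hcov : ∀ p : P.left, p ∈ Set.range a.left ∨ p ∈ Set.range b.left)
    (s : EtCoh.sect F A) (t : EtCoh.sect F B)
    (hAA : ∀ (W : X.Etale) (g h : W ⟶ A), g ≫ a = h ≫ a → F.obj.map g.op s = F.obj.map h.op s)
    (hAB : ∀ (W : X.Etale) (g : W ⟶ A) (h : W ⟶ B), g ≫ a = h ≫ b →
      F.obj.map g.op s = F.obj.map h.op t)
    (hBB : ∀ (W : X.Etale) (g h : W ⟶ B), g ≫ b = h ≫ b → F.obj.map g.op t = F.obj.map h.op t) :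
    ∃ r : EtCoh.sect F P, F.obj.map a.op r = s ∧ F.obj.map b.op r = t := by
  have hsh : Presieve.IsSheaf X.smallEtaleTopology (F.obj ⋙ forget AddCommGrpCat.{u + 1}) :=
    (isSheaf_iff_isSheaf_of_type _ _).1
      ((sheafCompose X.smallEtaleTopology (forget AddCommGrpCat.{u + 1})).obj F).2
  have h1 := hsh.isSheafFor _ (generate_fam2_mem a b hcov)
  rw [Presieve.isSheafFor_arrows_iff] at h1
  let x : (i : Bool) → (F.obj ⋙ forget AddCommGrpCat.{u + 1}).obj (op (fam2 A B i)) :=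
    fun i => Bool.rec t s i
  have hx : Presieve.Arrows.Compatible (F.obj ⋙ forget AddCommGrpCat.{u + 1}) (fam2ι a b) x := by
    intro i j Z gi gj hij
    cases i <;> cases j
    · exact hBB Z gi gj hij
    · exact (hAB Z gj gi hij.symm).symm
    · exact hAB Z gi gj hij
    · exact hAA Z gi gj hij
  obtain ⟨r, hr, -⟩ := h1 x hx
  exact ⟨r, hr true, hr false⟩

end glue

section supp

variable {X : Scheme.{u}} (F : EtCoh.Ab X)

lemma notMem_sectSupp_iff {U : X.Etale} (s : EtCoh.sect F U) (x : U.left) :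
    x ∉ EtShriek.sectSupp F U s ↔
      ∃ (W : X.Etale) (g : W ⟶ U), (∃ w : W.left, g.left.base w = x) ∧ F.obj.map g.op s = 0 := by
  unfold EtShriek.sectSupp
  simp only [Set.mem_ofPred_eq]
  push Not
  rfl

/-- germs vanish outside the support -/
lemma germ_eq_zero_of_notMem_sectSupp {Ω : Type u} [Field Ω] [IsSepClosed Ω]
    (ξ : Spec (CommRingCat.of Ω) ⟶ X) {U : X.Etale} (s : EtCoh.sect F U) (y : Nbhd ξ U)
    (h : Nbhd.pt ξ y ∉ EtShriek.sectSupp F U s) : germ ξ F y s = 0 := by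
  obtain ⟨W, g, ⟨w, hw⟩, hs⟩ := (notMem_sectSupp_iff F s _).1 h
  obtain ⟨z, hz, -⟩ := exists_nbhd_lift ξ g y w hw
  rw [← hz, ← germ_res, hs, map_zero]

/-- a point at which some germ vanishes is outside the support -/
lemma notMem_sectSupp_of_germ_eq_zero {Ω : Type u} [Field Ω] [IsSepClosed Ω]
    (ξ : Spec (CommRingCat.of Ω) ⟶ X) {U : X.Etale} (s : EtCoh.sect F U) (y : Nbhd ξ U)
    (h : germ ξ F y s = 0) : Nbhd.pt ξ y ∉ EtShriek.sectSupp F U s := by
  obtain ⟨V, g, z, hz, hg⟩ := (germ_eq_zero_iff ξ F y s).1 h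
  refine (notMem_sectSupp_iff F s _).2 ⟨V, g, ⟨Nbhd.pt ξ z, ?_⟩, hg⟩
  rw [← hz]
  rfl

/-- the support of a restriction lies over the support -/
lemma sectSupp_res_subset {U W : X.Etale} (g : W ⟶ U) (s : EtCoh.sect F U) :
    EtShriek.sectSupp F W (F.obj.map g.op s) ⊆ g.left.base ⁻¹' EtShriek.sectSupp F U s := by
  intro w hw
  by_contra hcon
  obtain ⟨y, hy⟩ := exists_stdPt_nbhd W w
  have h1 : germ _ F (Nbhd.map _ g y) s = 0 := by
    apply germ_eq_zero_of_notMem_sectSupp
    rw [Nbhd.pt_map, hy]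
    exact hcon
  rw [← germ_res] at h1
  have h2 := notMem_sectSupp_of_germ_eq_zero F _ _ y h1
  rw [hy] at h2
  exact h2 hw

/-- a section restricts to zero on anything that misses its support -/
lemma res_eq_zero_of_forall_notMem_sectSupp {U W : X.Etale} (g : W ⟶ U) (s : EtCoh.sect F U)
    (h : ∀ w : W.left, g.left.base w ∉ EtShriek.sectSupp F U s) : F.obj.map g.op s = 0 := by
  apply section_eq_zero_of_forall_germ
  intro w
  obtain ⟨y, hy⟩ := exists_stdPt_nbhd W w
  refine ⟨_, inferInstance, inferInstance, _, y, hy, ?_⟩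
  rw [germ_res]
  apply germ_eq_zero_of_notMem_sectSupp
  rw [Nbhd.pt_map, hy]
  exact h w

end supp

end Groth.Agent.Lib.EtSuppGlue
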