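import Groth.Agent.Lib.EtZarCompare39
import Groth.Agent.Lib.EtFlasquePush65
import Groth.Prelude.Def_EtZar

/-!
# Zariski acyclicity of restrictions of étale sheaves acyclic on affines (helper65) — S17614

`G` on `S_et` with `H^i(T, G|_T) = 0` for all affine étale `T → S`, `i ≥ 1`, `S` affine
⇒ `H^i(S_Zar, G|_{Zar}) = 0` for `i ≥ 1`.  Dimension shifting along `0 → G → I → Q → 0`.
-/

set_option autoImplicit false
universe u
open CategoryTheory CategoryTheory.Limits AlgebraicGeometry Opposite Abelian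

namespace Groth.Agent.Lib.EtZarAcyc65

open Groth.Agent.Lib.EtFlasquePush65 Groth.Agent.Lib.EtFlasque34 Groth.Agent.Lib.EtZarCompare39

section Zar

variable {X : Scheme.{u}}

lemma subsingleton_HZ_of_injective (I : EtZar.Ab X) [Injective I] (q : ℕ) (hq : 0 < q) :
    Subsingleton (EtZar.H I q) := by
  obtain ⟨q, rfl⟩ : ∃ n, q = n + 1 := ⟨q - 1, by omega⟩
  exact ⟨fun a b => (Ext.eq_zero_of_injective a).trans (Ext.eq_zero_of_injective b).symm⟩

lemma subsingleton_HZ_X₁_succ {S : ShortComplex (EtZar.Ab X)} (hS : S.ShortExact) (q : ℕ)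
    (h₃ : Subsingleton (EtZar.H S.X₃ (q + 1))) (h₂ : Subsingleton (EtZar.H S.X₂ (q + 2))) :
    Subsingleton (EtZar.H S.X₁ (q + 2)) := by
  refine ⟨fun a b => ?_⟩
  have key : ∀ x₁ : EtZar.H S.X₁ (q + 2), x₁ = 0 := by
    intro x₁
    obtain ⟨x₃, hx₃⟩ := Ext.covariant_sequence_exact₁ _ hS x₁ (Subsingleton.elim _ _)
      (rfl : q + 1 + 1 = q + 2)
    rw [← hx₃, Subsingleton.elim x₃ 0, Ext.zero_comp]
  rw [key a, key b]

lemma subsingleton_HZ_X₁_one {S : ShortComplex (EtZar.Ab X)} (hS : S.ShortExact)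
    (hg : Function.Surjective (S.g.hom.app (op (⊤ : X.Opens))))
    (h₂ : Subsingleton (EtZar.H S.X₂ 1)) :
    Subsingleton (EtZar.H S.X₁ 1) := by
  refine ⟨fun a b => ?_⟩
  have key : ∀ x₁ : EtZar.H S.X₁ 1, x₁ = 0 := by
    intro x₁
    obtain ⟨x₃, hx₃⟩ := Ext.covariant_sequence_exact₁ _ hS x₁ (Subsingleton.elim _ _)
      (zero_add 1)
    have hT : IsTerminal (⊤ : X.Opens) := isTerminalTop
    obtain ⟨y₂, hy₂⟩ := hg (Sheaf.H.equiv₀ S.X₃ hT x₃)
    have e : x₃ = ((Sheaf.H.equiv₀ S.X₂ hT).symm y₂).comp (Ext.mk₀ S.g) (add_zero 0) := by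
      have n := Sheaf.H.equiv₀_symm_naturality hT S.g y₂
      rw [Sheaf.H.map_apply, hy₂, AddEquiv.symm_apply_apply] at n
      exact n.symm
    rw [← hx₃, e, Ext.comp_assoc_of_second_deg_zero, hS.comp_extClass, Ext.comp_zero]
  rw [key a, key b]

end Zar

section Et

variable {X : Scheme.{u}}

/-- acyclic on affine étale objects -/
def AffFl (G : EtCoh.Ab X) : Prop :=
  ∀ (T : X.Etale), IsAffine T.left → ∀ i : ℕ, 1 ≤ i →
    Subsingleton (EtCoh.H T.left ((EtCoh.pull T.hom).obj G) i)

attribute [local instance] etale_hom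

lemma affFl_of_injective (I : EtCoh.Ab X) [Injective I] : AffFl I :=
  fun T _ i hi => fl_of_injective I T i hi

lemma affFl_X₃ {S : ShortComplex (EtCoh.Ab X)} (hS : S.ShortExact) [Injective S.X₂]
    (h₁ : AffFl S.X₁) : AffFl S.X₃ := by
  intro W hW q hq
  obtain ⟨q, rfl⟩ : ∃ n, q = n + 1 := ⟨q - 1, by omega⟩
  have hS' : (S.map (EtCoh.pull W.hom)).ShortExact := hS.map_of_exact (EtCoh.pull W.hom)
  exact subsingleton_H_X₃ hS' q (fl_of_injective S.X₂ W (q + 1) (by omega))
    (h₁ W hW (q + 2) (by omega))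

variable [EtZar.ZarCont X]

instance isRightAdjoint_resZar : (EtZar.resZar X).IsRightAdjoint := (zarAdj X).isRightAdjoint

lemma injective_resZar (I : EtCoh.Ab X) [Injective I] : Injective ((EtZar.resZar X).obj I) := by
  have : PreservesFiniteLimits (zarPull X) := preservesFiniteLimits_zarPull X
  exact Injective.injective_of_adjoint (zarAdj X) I

/-- sections of `S.g` over an affine open are surjective -/
lemma surjective_app_zarToEt {S : ShortComplex (EtCoh.Ab X)} (hS : S.ShortExact)
    (h₁ : AffFl S.X₁) (V : X.Opens) (hV : IsAffineOpen V) :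
    Function.Surjective (S.g.hom.app (op ((EtZar.zarToEt X).obj V))) :=
  surjective_app_of_subsingleton_H_one_etale V.ι hS
    (h₁ ((EtZar.zarToEt X).obj V) hV 1 le_rfl)

lemma shortExact_resZar {S : ShortComplex (EtCoh.Ab X)} (hS : S.ShortExact)
    (h₁ : AffFl S.X₁) : (S.map (EtZar.resZar X)).ShortExact := by
  have hmono := hS.mono_f
  have h1 : (S.map (EtZar.resZar X)).Exact :=
    hS.exact.map_of_mono_of_preservesKernel (EtZar.resZar X) hmono inferInstance
  have h2 : Mono (S.map (EtZar.resZar X)).f := by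
    change Mono ((EtZar.resZar X).map S.f)
    infer_instance
  have h3 : Epi (S.map (EtZar.resZar X)).g := by
    have : (Opens.grothendieckTopology X).WEqualsLocallyBijective AddCommGrpCat.{u + 1} :=
      GrothendieckTopology.WEqualsLocallyBijective.ofEssentiallySmall
        (A := AddCommGrpCat.{u + 1}) (Opens.grothendieckTopology X)
    have : Sheaf.IsLocallySurjective (S.map (EtZar.resZar X)).g := by
      refine ⟨fun {U} s => ?_⟩
      intro x hx
      obtain ⟨V, hV, hxV, hVU⟩ := TopologicalSpace.Opens.isBasis_iff_nbhd.1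
        (X.isBasis_affineOpens) hx
      refine ⟨V, homOfLE hVU, ?_, hxV⟩
      obtain ⟨t, ht⟩ := surjective_app_zarToEt hS h₁ V hV
        (S.X₃.obj.map ((EtZar.zarToEt X).map (homOfLE hVU)).op s)
      exact ⟨t, ht⟩
    exact (Sheaf.isLocallySurjective_iff_epi' (φ := (S.map (EtZar.resZar X)).g)).1 this
  exact { exact := h1 }

theorem main_aux [IsAffine X] : ∀ (q : ℕ) (G : EtCoh.Ab X), AffFl G →
    Subsingleton (EtZar.H ((EtZar.resZar X).obj G) (q + 1)) := by
  intro q
  induction q with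
  | zero =>
    intro G hG
    have hS := injSC_shortExact G
    have : Injective (injSC G).X₂ := by dsimp [injSC]; infer_instance
    have hS' := shortExact_resZar hS hG
    have : Injective ((EtZar.resZar X).obj (injSC G).X₂) := injective_resZar _
    refine subsingleton_HZ_X₁_one hS' ?_
      (subsingleton_HZ_of_injective ((EtZar.resZar X).obj (injSC G).X₂) 1 Nat.one_pos)
    exact surjective_app_zarToEt hS hG ⊤ (isAffineOpen_top X)
  | succ q ih =>
    intro G hG
    have hS := injSC_shortExact G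
    have : Injective (injSC G).X₂ := by dsimp [injSC]; infer_instance
    have hS' := shortExact_resZar hS hG
    have : Injective ((EtZar.resZar X).obj (injSC G).X₂) := injective_resZar _
    exact subsingleton_HZ_X₁_succ hS' q (ih (injSC G).X₃ (affFl_X₃ hS hG))
      (subsingleton_HZ_of_injective ((EtZar.resZar X).obj (injSC G).X₂) (q + 2) (by omega))

/-- **S17614** -/
theorem main (S : Scheme.{u}) [IsAffine S] [EtZar.ZarCont S] (G : EtCoh.Ab S)
    (hG : ∀ (T : S.Etale), IsAffine T.left → ∀ i : ℕ, 1 ≤ i →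
      Subsingleton (EtCoh.H T.left ((EtCoh.pull T.hom).obj G) i))
    (i : ℕ) (hi : 1 ≤ i) :
    Subsingleton (EtZar.H ((EtZar.resZar S).obj G) i) := by
  obtain ⟨q, rfl⟩ : ∃ n, i = n + 1 := ⟨i - 1, by omega⟩
  exact main_aux q G hG

end Et

end Groth.Agent.Lib.EtZarAcyc65
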