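import Groth.Prelude.Def_EtZar
import Groth.Agent.Lib.BigSiteInj
import Groth.Agent.Lib.SiteCohCompare
import Groth.Agent.Lib.EtLocSection39
import Groth.Agent.Lib.EtPushEpi39

/-!
# Etale versus Zariski cohomology when all local rings are strictly henselian (helper39)

Follows helper65's `Lib/BigZar65` (big Zariski site) for the small etale site:

* `flat_zarToEt`: `EtZar.zarToEt X : X.Opens ⥤ X.Etale` is representably flat, so the left adjoint
  `zarPull X` of `EtZar.resZar X` is left exact (`preservesFiniteLimits_zarPull`);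
* `zarToEt_isCocontinuous`: if all local rings of `X` are strictly henselian then `zarToEt X` is
  cocontinuous (every etale covering of an open `U` is refined by an open covering), hence
  `resZar X` preserves finite colimits;
* `nonempty_H_resZar_addEquiv`: `H^p(X_Zar, F|_Zar) ≃+ H^p(X_et, F)`.
-/

set_option autoImplicit false
open CategoryTheory CategoryTheory.Limits AlgebraicGeometry Opposite
universe u

namespace Groth.Agent.Lib.EtZarCompare39

variable (X : Scheme.{u})

/-- morphisms into the image of `zarToEt` are unique. -/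
lemma hom_ext_zarToEt {T : X.Etale} {U : X.Opens} (g h : T ⟶ (EtZar.zarToEt X).obj U) : g = h := by
  apply MorphismProperty.Over.Hom.ext
  have h1 : g.left ≫ U.ι = T.hom := Over.w g.hom
  have h2 : h.left ≫ U.ι = T.hom := Over.w h.hom
  exact (cancel_mono U.ι).1 (h1.trans h2.symm)

/-- the range of the structure morphism is contained in `U` if there is a morphism to
`zarToEt U`. -/
lemma range_le {T : X.Etale} {U : X.Opens} (g : T ⟶ (EtZar.zarToEt X).obj U) :
    Set.range T.hom ⊆ (U : Set X) := by
  rintro _ ⟨t, rfl⟩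
  have h1 : g.left ≫ U.ι = T.hom := Over.w g.hom
  rw [← h1]
  exact (g.left t).2

/-- the lift of the structure morphism through `U`. -/
noncomputable def liftU (T : X.Etale) (U : X.Opens) (h : Set.range T.hom ⊆ (U : Set X)) :
    T.left ⟶ (U : Scheme.{u}) :=
  IsOpenImmersion.lift (Scheme.Opens.ι U) (T.hom : T.left ⟶ X)
    (by rw [Scheme.Opens.range_ι]; exact h)

lemma liftU_ι (T : X.Etale) (U : X.Opens) (h : Set.range T.hom ⊆ (U : Set X)) :
    liftU X T U h ≫ Scheme.Opens.ι U = T.hom :=
  IsOpenImmersion.lift_fac _ _ _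

/-- a morphism to `zarToEt U` from the range condition. -/
noncomputable def toZarToEt (T : X.Etale) (U : X.Opens) (h : Set.range T.hom ⊆ (U : Set X)) :
    T ⟶ (EtZar.zarToEt X).obj U :=
  MorphismProperty.Over.homMk (liftU X T U h) (liftU_ι X T U h) trivial

instance (T : X.Etale) : IsCofiltered (StructuredArrow T (EtZar.zarToEt X)) where
  cone_objs A B := by
    have hA := range_le X A.hom
    have hB := range_le X B.hom
    refine ⟨StructuredArrow.mk (toZarToEt X T (A.right ⊓ B.right) (fun x hx => ⟨hA hx, hB hx⟩)),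
      StructuredArrow.homMk (homOfLE inf_le_left) (hom_ext_zarToEt X _ _),
      StructuredArrow.homMk (homOfLE inf_le_right) (hom_ext_zarToEt X _ _), trivial⟩
  cone_maps A B f g := by
    refine ⟨A, 𝟙 A, ?_⟩
    have : f = g := by
      apply StructuredArrow.ext
      exact Subsingleton.elim _ _
    rw [this]
  nonempty := ⟨StructuredArrow.mk (toZarToEt X T ⊤ (fun x _ => trivial))⟩

instance flat_zarToEt : RepresentablyFlat (EtZar.zarToEt X) := ⟨inferInstance⟩

instance ab5uu : AB5OfSize.{u, u} AddCommGrpCat.{u + 1} :=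
  AB5OfSize_shrink.{u, u, u + 1, u + 1} _

open Groth.Agent.Lib.BigSiteInj in
instance hasExact_zarToEt (T : (X.Etale)ᵒᵖ) :
    HasExactColimitsOfShape (CostructuredArrow (EtZar.zarToEt X).op T) AddCommGrpCat.{u + 1} :=
  inferInstance

open Groth.Agent.Lib.BigSiteInj in
instance lanPres_zarToEt : PreservesFiniteLimits ((EtZar.zarToEt X).op.lan :
    (X.Opensᵒᵖ ⥤ AddCommGrpCat.{u + 1}) ⥤ ((X.Etale)ᵒᵖ ⥤ AddCommGrpCat.{u + 1})) :=
  Groth.Agent.Lib.LanExact.preservesFiniteLimits_lan _

/-- The left adjoint of `EtZar.resZar X` (pullback from the Zariski site to the etale site). -/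
noncomputable abbrev zarPull [EtZar.ZarCont X] : EtZar.Ab X ⥤ EtCoh.Ab X :=
  (EtZar.zarToEt X).sheafPullback AddCommGrpCat.{u + 1} (Opens.grothendieckTopology X)
    X.smallEtaleTopology

/-- The adjunction between `zarPull` and `resZar`. -/
noncomputable abbrev zarAdj [EtZar.ZarCont X] : zarPull X ⊣ EtZar.resZar X :=
  (EtZar.zarToEt X).sheafAdjunctionContinuous AddCommGrpCat.{u + 1}
    (Opens.grothendieckTopology X) X.smallEtaleTopology

theorem preservesFiniteLimits_zarPull [EtZar.ZarCont X] :
    PreservesFiniteLimits (zarPull X) := by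
  have h1 : PreservesFiniteLimits ((EtZar.zarToEt X).op.lan ⋙
      presheafToSheaf X.smallEtaleTopology AddCommGrpCat.{u + 1}) :=
    comp_preservesFiniteLimits _ _
  have h2 : PreservesFiniteLimits (Functor.sheafPullbackConstruction.sheafPullback
      (EtZar.zarToEt X) AddCommGrpCat.{u + 1} (Opens.grothendieckTopology X)
      X.smallEtaleTopology) := by
    apply comp_preservesFiniteLimits
  exact preservesFiniteLimits_of_natIso (Functor.sheafPullbackConstruction.sheafPullbackIso
    (EtZar.zarToEt X) AddCommGrpCat.{u + 1} (Opens.grothendieckTopology X)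
    X.smallEtaleTopology).symm

/-- if all local rings of `X` are strictly henselian, every etale covering sieve of an open `U`
contains the inclusions of an open cover of `U`. -/
theorem zarToEt_isCocontinuous
    (hS : ∀ s : X, EtCoh.IsStrictlyHenselianLocalRing (X.presheaf.stalk s)) :
    (EtZar.zarToEt X).IsCocontinuous (Opens.grothendieckTopology X) X.smallEtaleTopology where
  cover_lift := by
    intro U S hS' x hx
    obtain ⟨Z, k, z, hk, hz⟩ :=
      (Groth.Agent.Lib.EtPushEpi39.mem_smallEtale_iff _ S).1 hS' ⟨x, hx⟩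
    have hkw : k.left ≫ U.ι = Z.hom := Over.w k.hom
    have hZx : (Z.hom : Z.left ⟶ X) z = x := by
      rw [← hkw, Scheme.Hom.comp_apply, hz]
      rfl
    have hZet : Etale (Z.hom : Z.left ⟶ X) := Z.prop
    obtain ⟨N, hN, s, hs1, hs2⟩ :=
      Groth.Agent.Lib.EtLocSection39.exists_local_section (Z.hom : Z.left ⟶ X) z (hS _)
    let e : (EtZar.zarToEt X).obj N ⟶ Z := MorphismProperty.Over.homMk s hs1 trivial
    have hNU : N ≤ U := by
      intro y hy
      have h3 := range_le X (e ≫ k)
      apply h3
      have : Set.range (((EtZar.zarToEt X).obj N).hom) = Set.range N.ι := rfl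
      rw [this, Scheme.Opens.range_ι]
      exact hy
    refine ⟨N, homOfLE hNU, ?_, hZx ▸ hN⟩
    have h2 := S.downward_closed hk e
    change S.arrows ((EtZar.zarToEt X).map (homOfLE hNU))
    rwa [hom_ext_zarToEt X ((EtZar.zarToEt X).map (homOfLE hNU)) (e ≫ k)]

/-- `zarToEt ⊤` is terminal in `X.Etale`. -/
noncomputable def isTerminalZarToEtTop : IsTerminal ((EtZar.zarToEt X).obj ⊤) :=
  IsTerminal.ofUniqueHom (fun T => toZarToEt X T ⊤ (fun _ _ => trivial))
    (fun _ _ => hom_ext_zarToEt X _ _)

theorem preservesFiniteColimits_resZar [EtZar.ZarCont X]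
    (hS : ∀ s : X, EtCoh.IsStrictlyHenselianLocalRing (X.presheaf.stalk s)) :
    PreservesFiniteColimits (EtZar.resZar X) := by
  have := zarToEt_isCocontinuous X hS
  have : PreservesColimitsOfSize.{0, 0} (EtZar.resZar X) :=
    ((EtZar.zarToEt X).sheafAdjunctionCocontinuous AddCommGrpCat.{u + 1}
      (Opens.grothendieckTopology X) X.smallEtaleTopology).leftAdjoint_preservesColimits
  exact PreservesColimitsOfSize.preservesFiniteColimits _

theorem nonempty_H_resZar_addEquiv [EtZar.ZarCont X]
    (hS : ∀ s : X, EtCoh.IsStrictlyHenselianLocalRing (X.presheaf.stalk s))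
    (F : EtCoh.Ab X) (p : ℕ) :
    Nonempty (EtZar.H ((EtZar.resZar X).obj F) p ≃+ EtCoh.H X F p) := by
  have hL : PreservesFiniteLimits (zarPull X) := preservesFiniteLimits_zarPull X
  have hG := preservesFiniteColimits_resZar X hS
  have hT : IsTerminal (⊤ : X.Opens) := isTerminalTop
  exact Groth.Agent.Lib.SiteCohCompare.nonempty_H_addEquiv
    (zarAdj X) hT (isTerminalZarToEtTop X) F p

end Groth.Agent.Lib.EtZarCompare39
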