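import Groth.Agent.Lib.EtShriekConst
import Groth.Agent.Lib.EtRpushTors95

/-!
# Sections over an étale `j : U ⟶ X` as morphisms out of `j_! ℤ_U` (helper95)

* `secEquiv j G : (j_! ℤ_U ⟶ G) ≃ G(U → X)` with naturality and additivity;
* `exists_nsmul_lift`: if `Ext^{n+1}(j_! ℤ_U, F)` is torsion, every `(n+1)`-cocycle over `U` of an
  injective resolution of `F` has a positive multiple which is a coboundary;
* `exists_nsmul_lift_of_shortExact`: the analogous statement for a short exact sequence.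
-/

set_option autoImplicit false
universe u
open CategoryTheory CategoryTheory.Limits AlgebraicGeometry Opposite Abelian

namespace Groth.Agent.Lib.EtZshSec95

open Groth.Agent.Lib.EtShriekConst Groth.Agent.Lib.EtRpushTors95

variable {U X : Scheme.{u}} (j : U ⟶ X) [hj : AlgebraicGeometry.Etale j] [EtShriek.JCont j]

/-- the object `U → X` of the small étale site of `X` -/
noncomputable abbrev obj : X.Etale := (EtShriek.compEtale j).obj (EtCoh.top U)

/-- morphisms out of the constant sheaf `ℤ` are global sections -/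
noncomputable def constHomEquiv (H : EtCoh.Ab U) :
    (EtCoh.const U ℤ ⟶ H) ≃+ H.obj.obj (op (EtCoh.top U)) :=
  Ext.addEquiv₀.symm.trans (Sheaf.H.equiv₀ H (EtCore.topIsTerminal U))

lemma constHomEquiv_comp {H H' : EtCoh.Ab U} (y : EtCoh.const U ℤ ⟶ H) (f : H ⟶ H') :
    constHomEquiv H' (y ≫ f) = f.hom.app (op (EtCoh.top U)) (constHomEquiv H y) := by
  dsimp only [constHomEquiv]
  rw [AddEquiv.trans_apply, AddEquiv.trans_apply, Sheaf.H.equiv₀_naturality, Sheaf.H.map_apply]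
  congr 1
  change Ext.mk₀ (y ≫ f) = (Ext.mk₀ y).comp (Ext.mk₀ f) (add_zero 0)
  rw [Ext.mk₀_comp_mk₀]

/-- morphisms out of `j_! ℤ_U` are sections over `U` -/
noncomputable def secEquiv (G : EtCoh.Ab X) : (Zsh j ⟶ G) ≃ G.obj.obj (op (obj j)) :=
  ((EtShriek.extZeroAdj j).homEquiv (EtCoh.const U ℤ) G).trans
    (constHomEquiv ((EtShriek.restrAlong j).obj G)).toEquiv

lemma secEquiv_comp {G G' : EtCoh.Ab X} (a : Zsh j ⟶ G) (φ : G ⟶ G') :
    secEquiv j G' (a ≫ φ) = φ.hom.app (op (obj j)) (secEquiv j G a) := by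
  dsimp only [secEquiv]
  rw [Equiv.trans_apply, Equiv.trans_apply, Adjunction.homEquiv_naturality_right]
  exact constHomEquiv_comp _ _

lemma secEquiv_symm_comp {G G' : EtCoh.Ab X} (s : G.obj.obj (op (obj j))) (φ : G ⟶ G') :
    (secEquiv j G).symm s ≫ φ = (secEquiv j G').symm (φ.hom.app (op (obj j)) s) := by
  apply (secEquiv j G').injective
  rw [secEquiv_comp, Equiv.apply_symm_apply, Equiv.apply_symm_apply]

lemma secEquiv_symm_nsmul (G : EtCoh.Ab X) (k : ℕ) (s : G.obj.obj (op (obj j))) :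
    (secEquiv j G).symm (k • s) = k • (secEquiv j G).symm s := by
  have := secEquiv_symm_comp j s (k • 𝟙 G)
  rw [Preadditive.comp_nsmul, Category.comp_id, nsmul_hom_app'] at this
  exact this.symm

lemma secEquiv_symm_zero (G : EtCoh.Ab X) : (secEquiv j G).symm 0 = 0 := by
  have := secEquiv_symm_nsmul j G 0 0
  rwa [zero_nsmul, zero_nsmul] at this

/-- a cocycle of positive degree over `U` in an injective resolution of `F` has a positive
multiple which is a coboundary, as soon as the relevant `Ext` group out of `j_! ℤ_U` is torsion -/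
theorem exists_nsmul_lift (F : EtCoh.Ab X) (I : InjectiveResolution F) (n : ℕ)
    (hExt : ∀ x : Ext.{u + 1} (Zsh j) F (n + 1), IsOfFinAddOrder x)
    (z : (I.cocomplex.X (n + 1)).obj.obj (op (obj j)))
    (hz : (I.cocomplex.d (n + 1) (n + 2)).hom.app (op (obj j)) z = 0) :
    ∃ k : ℕ, 0 < k ∧ ∃ w : (I.cocomplex.X n).obj.obj (op (obj j)),
      (I.cocomplex.d n (n + 1)).hom.app (op (obj j)) w = k • z := by
  have hzz : (secEquiv j _).symm z ≫ I.cocomplex.d (n + 1) (n + 2) = 0 := by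
    rw [secEquiv_symm_comp, hz, secEquiv_symm_zero]
  obtain ⟨k, hk, hkx⟩ := isOfFinAddOrder_iff_nsmul_eq_zero.1
    (hExt (I.extMk _ (n + 2) rfl hzz))
  rw [nsmul_extMk] at hkx
  obtain ⟨g, hg⟩ := (I.extMk_eq_zero_iff _ (n + 2) rfl _ n rfl).1 hkx
  refine ⟨k, hk, secEquiv j _ g, ?_⟩
  rw [← secEquiv_comp, hg]
  apply (secEquiv j _).symm.injective
  rw [Equiv.symm_apply_apply, secEquiv_symm_nsmul]

/-- for a short exact sequence `0 → F → I → Q → 0`, every section of `Q` over `U` has a positive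
multiple which lifts to `I`, as soon as `Ext^1(j_! ℤ_U, F)` is torsion -/
theorem exists_nsmul_lift_of_shortExact (S : ShortComplex (EtCoh.Ab X)) (hS : S.ShortExact)
    (hExt : ∀ x : Ext.{u + 1} (Zsh j) S.X₁ 1, IsOfFinAddOrder x)
    (t : S.X₃.obj.obj (op (obj j))) :
    ∃ k : ℕ, 0 < k ∧ ∃ w : S.X₂.obj.obj (op (obj j)), S.g.hom.app (op (obj j)) w = k • t := by
  let a : Zsh j ⟶ S.X₃ := (secEquiv j _).symm t
  obtain ⟨k, hk, hkx⟩ := isOfFinAddOrder_iff_nsmul_eq_zero.1
    (hExt ((Ext.mk₀ a).comp hS.extClass (zero_add 1)))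
  have hmk : (Ext.mk₀ (k • a) : Ext.{u + 1} (Zsh j) S.X₃ 0) = k • Ext.mk₀ a :=
    map_nsmul (Ext.addEquiv₀ (X := Zsh j) (Y := S.X₃)).symm k a
  have h1 : (Ext.mk₀ (k • a)).comp hS.extClass (zero_add 1) = 0 := by
    rw [hmk, ← hkx]
    exact map_nsmul (hS.extClass.postcomp (Zsh j) (zero_add 1)) k (Ext.mk₀ a)
  obtain ⟨x₂, hx₂⟩ := Ext.covariant_sequence_exact₃ (Zsh j) hS (Ext.mk₀ (k • a)) (zero_add 1) h1
  obtain ⟨b, rfl⟩ := (Ext.mk₀_bijective _ _).2 x₂
  rw [Ext.mk₀_comp_mk₀] at hx₂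
  have hb : b ≫ S.g = k • a := (Ext.mk₀_bijective _ _).1 hx₂
  refine ⟨k, hk, secEquiv j _ b, ?_⟩
  rw [← secEquiv_comp, hb]
  apply (secEquiv j _).symm.injective
  rw [Equiv.symm_apply_apply, secEquiv_symm_nsmul]

end Groth.Agent.Lib.EtZshSec95
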