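import Groth.Prelude.Def_W4c1chowmix47Eta

/-!
Basic functoriality for the pointwise construction `EtaPt`: `Nmap` is functorial, preserves `M`,
residue field maps, gluing along maps which are injective on spectra with bijective residue field
maps (surjections, localizations).
-/

set_option autoImplicit false
universe u

namespace Groth.Agent.Lib.EtaPtBasic

open EtaPt EtaPt.FieldEndo

variable (η : EtaPt.FieldEndo.{u})

section Fields

theorem map_id_apply (K : Type u) [Field K] (x : η.obj K) : η.map (RingHom.id K) x = x := by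
  rw [η.map_id]; rfl

theorem map_comp_apply {K L E : Type u} [Field K] [Field L] [Field E] (f : K →+* L) (g : L →+* E)
    (x : η.obj K) : η.map (g.comp f) x = η.map g (η.map f x) := by
  rw [η.map_comp]; rfl

theorem eta_natural_apply {K L : Type u} [Field K] [Field L] (f : K →+* L) (x : K) :
    η.map f (η.eta K x) = η.eta L (f x) :=
  congrArg (fun h => h x) (congrArg DFunLike.coe (η.eta_natural f))

theorem map_bijective {K L : Type u} [Field K] [Field L] (σ : K →+* L)
    (hσ : Function.Bijective σ) : Function.Bijective (η.map σ) := by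
  let e : K ≃+* L := RingEquiv.ofBijective σ hσ
  have h1 : (e : K →+* L) = σ := rfl
  have h2 : (η.map σ).comp (η.map (e.symm : L →+* K)) = RingHom.id _ := by
    rw [← η.map_comp, ← h1, ← η.map_id]
    congr 1
    ext x; simp
  have h3 : (η.map (e.symm : L →+* K)).comp (η.map σ) = RingHom.id _ := by
    rw [← η.map_comp, ← h1, ← η.map_id]
    congr 1
    ext x; simp
  refine ⟨(η.map σ).injective, fun y => ⟨η.map (e.symm : L →+* K) y, ?_⟩⟩
  exact congrArg (fun h => h y) (congrArg DFunLike.coe h2)

theorem map_injective {K L : Type u} [Field K] [Field L] (σ : K →+* L) :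
    Function.Injective (η.map σ) := (η.map σ).injective

end Fields

section Residue

variable {A B C : Type u} [CommRing A] [CommRing B] [CommRing C]

theorem residueMap_comp (I : Ideal A) [I.IsPrime] (J : Ideal B) [J.IsPrime] (K : Ideal C)
    [K.IsPrime] (f : A →+* B) (g : B →+* C) (hf : I = J.comap f) (hg : J = K.comap g)
    (hgf : I = K.comap (g.comp f)) :
    (Ideal.ResidueField.map J K g hg).comp (Ideal.ResidueField.map I J f hf) =
      Ideal.ResidueField.map I K (g.comp f) hgf := by
  apply Ideal.ResidueField.ringHom_ext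
  ext r
  simp

theorem residueMap_id (I : Ideal A) [I.IsPrime] (h : I = I.comap (RingHom.id A)) :
    Ideal.ResidueField.map I I (RingHom.id A) h = RingHom.id _ := by
  apply Ideal.ResidueField.ringHom_ext
  ext r
  simp

end Residue

section N

variable {A B C : Type u} [CommRing A] [CommRing B] [CommRing C]

theorem Nmap_apply (f : A →+* B) (x : η.N A) (q : PrimeSpectrum B) :
    η.Nmap f x q =
      η.map (Ideal.ResidueField.map (PrimeSpectrum.comap f q).asIdeal q.asIdeal f rfl)
        (x (PrimeSpectrum.comap f q)) := rfl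

theorem t_apply (a : A) (p : PrimeSpectrum A) :
    η.t A a p = η.eta p.asIdeal.ResidueField (algebraMap A p.asIdeal.ResidueField a) := rfl

theorem Nmap_comp (f : A →+* B) (g : B →+* C) (x : η.N A) :
    η.Nmap (g.comp f) x = η.Nmap g (η.Nmap f x) := by
  funext r
  rw [Nmap_apply, Nmap_apply, Nmap_apply, ← map_comp_apply]
  have h := residueMap_comp (PrimeSpectrum.comap f (PrimeSpectrum.comap g r)).asIdeal
    (PrimeSpectrum.comap g r).asIdeal r.asIdeal f g rfl rfl rfl
  rw [h]
  rfl

theorem Nmap_id (x : η.N A) : η.Nmap (RingHom.id A) x = x := by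
  funext p
  rw [Nmap_apply]
  change (η.map (Ideal.ResidueField.map p.asIdeal p.asIdeal (RingHom.id A) rfl)) (x p) = x p
  rw [residueMap_id p.asIdeal rfl]
  exact map_id_apply η _ _

theorem Nmap_mem_M (f : A →+* B) {x : η.N A} (hx : x ∈ η.M A) : η.Nmap f x ∈ η.M B := by
  intro R _ _ _ hR g
  rw [← Nmap_comp]
  exact hx R hR (g.comp f)

theorem mem_M_iff {x : η.N A} : x ∈ η.M A ↔
    ∀ (R : Type u) [CommRing R] [IsDomain R] [ValuationRing R], η.InV R →
      ∀ g : A →+* R, ∃ r : R, η.t R r = η.Nmap g x := Iff.rfl

theorem t_injective_of_isDomain [IsDomain A] : Function.Injective (η.t A) := by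
  rw [injective_iff_map_eq_zero]
  intro a ha
  have h1 := congrFun ha ⟨⊥, Ideal.isPrime_bot⟩
  rw [t_apply] at h1
  have h2 : algebraMap A (⊥ : Ideal A).ResidueField a = 0 := by
    apply (η.eta _).injective
    rw [map_zero]
    exact h1
  rw [Ideal.algebraMap_residueField_eq_zero] at h2
  simpa using h2

/-- Gluing: if `Spec f` is injective with bijective residue field maps, every element of `N B`
is `Nmap f` of an element of `N A` vanishing outside the image of `Spec f`. -/
theorem exists_Nmap_eq (f : A →+* B) (hinj : Function.Injective (PrimeSpectrum.comap f))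
    (hbij : ∀ q : PrimeSpectrum B, Function.Bijective
      (Ideal.ResidueField.map (PrimeSpectrum.comap f q).asIdeal q.asIdeal f rfl)) (y : η.N B) :
    ∃ x : η.N A, η.Nmap f x = y ∧
      ∀ p, p ∉ Set.range (PrimeSpectrum.comap f) → x p = 0 := by
  classical
  have hsurj : ∀ q : PrimeSpectrum B, ∃ z : η.obj (PrimeSpectrum.comap f q).asIdeal.ResidueField,
      η.map (Ideal.ResidueField.map (PrimeSpectrum.comap f q).asIdeal q.asIdeal f rfl) z = y q :=
    fun q => (map_bijective η _ (hbij q)).2 (y q)
  choose pre hpre using hsurj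
  let x : η.N A := fun p =>
    if h : ∃ q, PrimeSpectrum.comap f q = p then h.choose_spec ▸ pre h.choose else 0
  have key : ∀ q, x (PrimeSpectrum.comap f q) = pre q := by
    intro q
    have aux : ∀ (q' : PrimeSpectrum B)
        (hq' : PrimeSpectrum.comap f q' = PrimeSpectrum.comap f q),
        (hq' ▸ pre q' : η.obj (PrimeSpectrum.comap f q).asIdeal.ResidueField) = pre q := by
      intro q' hq'
      have : q' = q := hinj hq'
      subst this
      rfl
    have hex : ∃ q', PrimeSpectrum.comap f q' = PrimeSpectrum.comap f q := ⟨q, rfl⟩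
    change (if h : ∃ q', PrimeSpectrum.comap f q' = PrimeSpectrum.comap f q then
      h.choose_spec ▸ pre h.choose else 0) = pre q
    rw [dif_pos hex]
    exact aux _ _
  refine ⟨x, ?_, ?_⟩
  · funext q
    rw [Nmap_apply, key, hpre]
  · intro p hp
    change (if h : ∃ q, PrimeSpectrum.comap f q = p then h.choose_spec ▸ pre h.choose else 0) = 0
    rw [dif_neg]
    rintro ⟨q, rfl⟩
    exact hp ⟨q, rfl⟩

/-- `Nmap f` is injective on components in the image of `Spec f`. -/
theorem eq_zero_of_Nmap_eq_zero (f : A →+* B) {x : η.N A} (hx : η.Nmap f x = 0)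
    (q : PrimeSpectrum B) : x (PrimeSpectrum.comap f q) = 0 := by
  have h1 := congrFun hx q
  rw [Nmap_apply] at h1
  apply map_injective η (Ideal.ResidueField.map (PrimeSpectrum.comap f q).asIdeal q.asIdeal f rfl)
  rw [h1, map_zero]
  rfl

end N

end Groth.Agent.Lib.EtaPtBasic
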