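import Groth.Agent.Lib.EtaPtSpec
import Mathlib.FieldTheory.IsAlgClosed.Basic
import Mathlib.FieldTheory.IsAlgClosed.AlgebraicClosure

/-!
`EtaPt`: descent of membership in `M A` along integral maps with surjective `Spec`.

* `exists_extension_of_isIntegral`: extending a ring map to an algebraically closed field along
  an integral map with surjective `Spec`.
* `eta_bijective_of_isAlgClosed`.
* `mem_M_of_valuative`: a valuative criterion for membership in `M A`.
* `mem_M_of_Nmap_mem_M`: for `f : A → B` integral with `Spec f` surjective, `N f x ∈ M B`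
  implies `x ∈ M A`.
-/

set_option autoImplicit false
universe u

namespace Groth.Agent.Lib.EtaPtDescent

open EtaPt EtaPt.FieldEndo Groth.Agent.Lib.EtaPtBasic Groth.Agent.Lib.EtaPtVal
  Groth.Agent.Lib.EtaPtStruct

variable (η : EtaPt.FieldEndo.{u})

theorem exists_extension_of_isIntegral {A B : Type u} [CommRing A] [CommRing B] (f : A →+* B)
    (hf : f.IsIntegral) (hs : Function.Surjective (PrimeSpectrum.comap f))
    {L : Type u} [Field L] [IsAlgClosed L] (φ : A →+* L) :
    ∃ h : B →+* L, h.comp f = φ := by
  let _ := f.toAlgebra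
  have : Algebra.IsIntegral A B := ⟨hf⟩
  obtain ⟨q₀, hq₀⟩ := hs (kerPt φ)
  have hp₀ : q₀.asIdeal.comap (algebraMap A B) = RingHom.ker φ :=
    congrArg PrimeSpectrum.asIdeal hq₀
  let φ' : A ⧸ q₀.asIdeal.comap (algebraMap A B) →+* L :=
    Ideal.Quotient.lift _ φ (fun a ha => by rw [hp₀] at ha; exact ha)
  have hφ' : Function.Injective φ' := by
    rw [injective_iff_map_eq_zero]
    intro z hz
    obtain ⟨a, rfl⟩ := Ideal.Quotient.mk_surjective z
    rw [Ideal.Quotient.lift_mk] at hz
    rw [Ideal.Quotient.eq_zero_iff_mem, hp₀]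
    exact hz
  let _ : Algebra (A ⧸ q₀.asIdeal.comap (algebraMap A B)) L := φ'.toAlgebra
  have : FaithfulSMul (A ⧸ q₀.asIdeal.comap (algebraMap A B)) L :=
    (faithfulSMul_iff_algebraMap_injective _ _).mpr hφ'
  have : FaithfulSMul (A ⧸ q₀.asIdeal.comap (algebraMap A B)) (B ⧸ q₀.asIdeal) :=
    (faithfulSMul_iff_algebraMap_injective _ _).mpr (Ideal.algebraMap_quotient_injective)
  have : Algebra.IsAlgebraic (A ⧸ q₀.asIdeal.comap (algebraMap A B)) (B ⧸ q₀.asIdeal) :=
    Algebra.IsIntegral.isAlgebraic
  let h' : B ⧸ q₀.asIdeal →ₐ[A ⧸ q₀.asIdeal.comap (algebraMap A B)] L := IsAlgClosed.lift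
  refine ⟨h'.toRingHom.comp (Ideal.Quotient.mk _), ?_⟩
  ext a
  have h1 : h' (algebraMap (A ⧸ q₀.asIdeal.comap (algebraMap A B)) (B ⧸ q₀.asIdeal)
      (Ideal.Quotient.mk _ a)) = φ' (Ideal.Quotient.mk _ a) := h'.commutes _
  rw [Ideal.Quotient.lift_mk] at h1
  exact h1

theorem eta_bijective_of_isAlgClosed (L : Type u) [Field L] [IsAlgClosed L] :
    Function.Bijective (η.eta L) := by
  apply eta_bijective_of_roots
  intro z n
  exact IsAlgClosed.exists_pow_nat_eq z (pow_pos (expChar_pos L (ringExpChar L)) n)

section Valuative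

variable {A : Type u} [CommRing A]

/-- Generic comparison. -/
theorem generic_comparison {R : Type u} [CommRing R] [IsDomain R] (g : A →+* R) {x : η.N A}
    {s : FractionRing R}
    (hs : η.eta (FractionRing R) s = ev η ((algebraMap R (FractionRing R)).comp g) x)
    {V : Type u} [CommRing V] [IsDomain V] (ι : R →+* V) (hι : Function.Injective ι)
    {r' : V} (hr' : η.t V r' = η.Nmap (ι.comp g) x) {a b : R}
    (hab : s * algebraMap R (FractionRing R) b = algebraMap R (FractionRing R) a) :
    r' * ι b = ι a := by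
  have hinj : Function.Injective ((algebraMap V (FractionRing V)).comp ι) :=
    (IsFractionRing.injective V (FractionRing V)).comp hι
  let σ : FractionRing R →+* FractionRing V := IsFractionRing.lift hinj
  have hσ : ∀ r : R, σ (algebraMap R (FractionRing R) r) = algebraMap V (FractionRing V) (ι r) :=
    fun r => IsFractionRing.lift_algebraMap hinj r
  have hcomp : (algebraMap V (FractionRing V)).comp (ι.comp g) =
      σ.comp ((algebraMap R (FractionRing R)).comp g) := by
    ext a
    exact (hσ (g a)).symm
  have h1 : ev η ((algebraMap V (FractionRing V)).comp (ι.comp g)) x =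
      η.eta _ (algebraMap V (FractionRing V) r') := by
    rw [← ev_Nmap, ← hr', ev_t]
  rw [hcomp, ev_comp_field, ← hs, eta_natural_apply] at h1
  have h2 : σ s = algebraMap V (FractionRing V) r' := (η.eta _).injective h1
  apply IsFractionRing.injective V (FractionRing V)
  rw [map_mul, ← h2, ← hσ, ← hσ, ← map_mul, hab]

/-- A valuative criterion for membership in `M A`: it suffices to test, for every map `g` to a
valuation ring `R` in `V_η` and every prime `𝔭` of `R`, after composing with an injective map
`R → V` to a valuation ring in `V_η` whose maximal ideal pulls back to `𝔭`. -/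
theorem mem_M_of_valuative {x : η.N A}
    (H : ∀ (R : Type u) [CommRing R] [IsDomain R] [ValuationRing R], η.InV R →
      ∀ (g : A →+* R) (𝔭 : PrimeSpectrum R),
        ∃ (V : Type u) (_ : CommRing V) (_ : IsDomain V) (_ : ValuationRing V) (ι : R →+* V),
          η.InV V ∧ Function.Injective ι ∧
            𝔭.asIdeal = (IsLocalRing.maximalIdeal V).comap ι ∧
            ∃ r' : V, η.t V r' = η.Nmap (ι.comp g) x) : x ∈ η.M A := by
  intro R _ _ _ hR g
  -- the generic value
  obtain ⟨s, hs⟩ := hR.2 (ev η ((algebraMap R (FractionRing R)).comp g) x)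
  obtain ⟨a, b, hb, hab⟩ := IsFractionRing.div_surjective (A := R) s
  have hb0 : b ≠ 0 := nonZeroDivisors.ne_zero hb
  have hb0' : algebraMap R (FractionRing R) b ≠ 0 := by
    intro h
    exact hb0 ((IsFractionRing.injective R (FractionRing R)) (by rw [h, map_zero]))
  have hab' : s * algebraMap R (FractionRing R) b = algebraMap R (FractionRing R) a := by
    rw [← hab, div_mul_cancel₀ _ hb0']
  -- step 1: `b` divides `a`
  have hdiv : ∃ r : R, a = b * r := by
    obtain ⟨V, _, _, _, ι, -, hι, hm, r', hr'⟩ := H R hR g (IsLocalRing.closedPoint R)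
    have h1 : r' * ι b = ι a := generic_comparison η g hs ι hι hr' hab'
    obtain ⟨c, hc | hc⟩ := ValuationRing.cond a b
    · by_cases hcu : IsUnit c
      · obtain ⟨u, rfl⟩ := hcu
        refine ⟨(↑u⁻¹ : R), ?_⟩
        rw [← hc, mul_assoc, Units.mul_inv, mul_one]
      · exfalso
        have hcm : c ∈ IsLocalRing.maximalIdeal R := (IsLocalRing.mem_maximalIdeal c).mpr hcu
        have hcm' : ι c ∈ IsLocalRing.maximalIdeal V := by
          have : c ∈ (IsLocalRing.closedPoint R).asIdeal := hcm
          rw [hm] at this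
          exact this
        have ha0 : a ≠ 0 := by
          intro h
          rw [h, zero_mul] at hc
          exact hb0 hc.symm
        have hιa : ι a ≠ 0 := fun h => ha0 (hι (by rw [h, map_zero]))
        have h2 : ι a * (r' * ι c) = ι a * 1 := by
          rw [← hc, map_mul] at h1
          rw [mul_one]
          calc ι a * (r' * ι c) = r' * (ι a * ι c) := by ring
            _ = ι a := h1
        have h3 : r' * ι c = 1 := mul_left_cancel₀ hιa h2
        have : IsUnit (ι c) := IsUnit.of_mul_eq_one_right r' h3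
        exact (IsLocalRing.mem_maximalIdeal _).mp hcm' this
    · exact ⟨c, hc.symm⟩
  obtain ⟨r, hr⟩ := hdiv
  refine ⟨r, ?_⟩
  -- step 2: componentwise
  funext 𝔭
  obtain ⟨V, _, _, _, ι, -, hι, hm, r', hr'⟩ := H R hR g 𝔭
  have h1 : r' * ι b = ι a := generic_comparison η g hs ι hι hr' hab'
  have hιb : ι b ≠ 0 := fun h => hb0 (hι (by rw [h, map_zero]))
  have h2 : r' = ι r := by
    rw [hr, map_mul, mul_comm (ι b)] at h1
    exact mul_right_cancel₀ hιb h1
  have h3 : η.Nmap ι (η.t R r - η.Nmap g x) = 0 := by
    rw [map_sub, Nmap_t_apply, ← Nmap_comp, ← hr', h2, sub_self]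
  have h4 := eq_zero_of_Nmap_eq_zero' η ι h3 (IsLocalRing.closedPoint V) 𝔭 hm
  rw [Pi.sub_apply, sub_eq_zero] at h4
  exact h4

end Valuative

section Integral

variable {A B : Type u} [CommRing A] [CommRing B]

/-- For `f : A → B` integral with `Spec f` surjective, every map from `A` to a valuation ring
`R` and every prime `𝔭` of `R` can be completed to a square with `B → V`, `R → V` injective, `V`
a valuation ring with algebraically closed fraction field whose maximal ideal pulls back to
`𝔭`. -/
theorem exists_square (f : A →+* B) (hf : f.IsIntegral)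
    (hs : Function.Surjective (PrimeSpectrum.comap f))
    (R : Type u) [CommRing R] [IsDomain R] (g : A →+* R) (𝔭 : PrimeSpectrum R) :
    ∃ (V : ValuationSubring (AlgebraicClosure (FractionRing R))) (ι : R →+* V) (g' : B →+* V),
      Function.Injective ι ∧ 𝔭.asIdeal = (IsLocalRing.maximalIdeal V).comap ι ∧
        g'.comp f = ι.comp g := by
  let L := AlgebraicClosure (FractionRing R)
  let φR : R →+* L := (algebraMap (FractionRing R) L).comp (algebraMap R (FractionRing R))
  have hφR : Function.Injective φR :=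
    (algebraMap (FractionRing R) L).injective.comp (IsFractionRing.injective R (FractionRing R))
  have hker : RingHom.ker φR ≤ 𝔭.asIdeal := by
    intro a ha
    rw [RingHom.mem_ker] at ha
    have : a = 0 := hφR (by rw [ha, map_zero])
    rw [this]
    exact 𝔭.asIdeal.zero_mem
  obtain ⟨V, ι, hι, h𝔭⟩ := exists_valuationSubring_dominating' φR 𝔭 hker
  obtain ⟨h₀, hh₀⟩ := exists_extension_of_isIntegral f hf hs (φR.comp g)
  have hφι : φR.comp g = V.subtype.comp (ι.comp g) := by
    ext a
    exact (hι (g a)).symm
  have hmem : ∀ b, h₀ b ∈ V.toSubring := by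
    intro b
    have h1 : (h₀.comp f).IsIntegralElem (h₀ b) := (hf b).map h₀
    rw [hh₀, hφι] at h1
    have h2 : V.subtype.IsIntegralElem (h₀ b) := RingHom.IsIntegralElem.of_comp h1
    have h3 : IsIntegral V (h₀ b) := h2
    obtain ⟨y, hy⟩ := IsIntegrallyClosed.algebraMap_eq_of_integral (R := V) (K := L) h3
    rw [← hy]
    exact y.2
  refine ⟨V, ι, h₀.codRestrict V.toSubring hmem, ?_, h𝔭, ?_⟩
  · intro a b hab
    apply hφR
    rw [← hι, ← hι, hab]
  · ext a
    have := congrArg (fun ψ : A →+* L => ψ a) hh₀
    simp only [RingHom.comp_apply] at this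
    simp only [RingHom.comp_apply, RingHom.codRestrict_apply, hι]
    exact this

/-- For `f : A → B` integral with `Spec f` surjective, `N f x ∈ M B` implies `x ∈ M A`. -/
theorem mem_M_of_Nmap_mem_M (f : A →+* B) (hf : f.IsIntegral)
    (hs : Function.Surjective (PrimeSpectrum.comap f)) {x : η.N A}
    (hx : η.Nmap f x ∈ η.M B) : x ∈ η.M A := by
  apply mem_M_of_valuative
  intro R _ _ _ hR g 𝔭
  obtain ⟨V, ι, g', hι, h𝔭, hcomp⟩ := exists_square f hf hs R g 𝔭
  have hV : η.InV V := inV_valuationSubring η V (eta_bijective_of_isAlgClosed η _)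
  refine ⟨V, inferInstance, inferInstance, inferInstance, ι, hV, hι, h𝔭, ?_⟩
  obtain ⟨r', hr'⟩ := hx V hV g'
  exact ⟨r', by rw [hr', ← Nmap_comp, hcomp]⟩

theorem mem_M_iff_Nmap_mem_M (f : A →+* B) (hf : f.IsIntegral)
    (hs : Function.Surjective (PrimeSpectrum.comap f)) (x : η.N A) :
    x ∈ η.M A ↔ η.Nmap f x ∈ η.M B :=
  ⟨fun h => Nmap_mem_M η f h, mem_M_of_Nmap_mem_M η f hf hs⟩

end Integral

section Reduced

theorem t_eq_zero_iff {B : Type u} [CommRing B] (c : B) : η.t B c = 0 ↔ c ∈ nilradical B := by
  rw [nilradical_eq_sInf, Ideal.mem_sInf]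
  constructor
  · intro hc p hp
    have key : ∀ P : PrimeSpectrum B, c ∈ P.asIdeal := by
      intro P
      have h1 := congrFun hc P
      rw [t_apply] at h1
      have h2 : algebraMap B P.asIdeal.ResidueField c = 0 :=
        (η.eta _).injective (by rw [h1, map_zero]; rfl)
      rw [Ideal.algebraMap_residueField_eq_zero] at h2
      exact h2
    exact key ⟨p, hp⟩
  · intro hc
    funext p
    rw [t_apply]
    have h2 : algebraMap B p.asIdeal.ResidueField c = 0 := by
      rw [Ideal.algebraMap_residueField_eq_zero]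
      exact hc p.isPrime
    rw [h2, map_zero]
    rfl

theorem t_injective_of_isReduced (B : Type u) [CommRing B] [IsReduced B] :
    Function.Injective (η.t B) := by
  rw [injective_iff_map_eq_zero]
  intro c hc
  rw [t_eq_zero_iff, mem_nilradical] at hc
  exact hc.eq_zero

end Reduced

end Groth.Agent.Lib.EtaPtDescent
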