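import Groth.Agent.Lib.EtaPtVal

/-!
`EtaPt`: consequences of (in/sur)jectivity of `Nmap f` for the map on spectra and on residue
fields.
-/

set_option autoImplicit false
universe u

namespace Groth.Agent.Lib.EtaPtInt

open EtaPt EtaPt.FieldEndo Groth.Agent.Lib.EtaPtBasic Groth.Agent.Lib.EtaPtVal

variable (η : EtaPt.FieldEndo.{u})

variable {A B : Type u} [CommRing A] [CommRing B]

theorem comap_surjective_of_Nmap_injective (f : A →+* B)
    (h : Function.Injective (η.Nmap f)) : Function.Surjective (PrimeSpectrum.comap f) := by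
  classical
  intro p
  by_contra hp
  have hp : ∀ q, PrimeSpectrum.comap f q ≠ p := fun q hq => hp ⟨q, hq⟩
  let x : η.N A := Pi.single p 1
  have hx : η.Nmap f x = 0 := by
    funext q
    rw [Nmap_apply]
    have : x (PrimeSpectrum.comap f q) = 0 := Pi.single_eq_of_ne (hp q) _
    rw [this, map_zero]
    rfl
  have hx0 : x = 0 := h (by rw [hx, map_zero])
  have h1 : x p = 1 := Pi.single_eq_same p 1
  rw [hx0] at h1
  exact zero_ne_one h1

theorem map_residue_bijective_of_Nmap_surjective (f : A →+* B)
    (h : Function.Surjective (η.Nmap f)) (q : PrimeSpectrum B) :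
    Function.Bijective
      (η.map (Ideal.ResidueField.map (PrimeSpectrum.comap f q).asIdeal q.asIdeal f rfl)) := by
  classical
  refine ⟨(η.map _).injective, fun z => ?_⟩
  obtain ⟨x, hx⟩ := h (Pi.single q z)
  refine ⟨x (PrimeSpectrum.comap f q), ?_⟩
  have := congrFun hx q
  rw [Nmap_apply, Pi.single_eq_same] at this
  exact this

theorem comap_injective_of_Nmap_surjective (f : A →+* B)
    (h : Function.Surjective (η.Nmap f)) : Function.Injective (PrimeSpectrum.comap f) := by
  classical
  intro q₁ q₂ hq
  by_contra hne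
  obtain ⟨x, hx⟩ := h (Pi.single q₁ 1)
  have h1 := congrFun hx q₁
  have h2 := congrFun hx q₂
  rw [Pi.single_eq_same] at h1
  rw [Pi.single_eq_of_ne (Ne.symm hne)] at h2
  have h3 : x (PrimeSpectrum.comap f q₂) = 0 := by
    rw [Nmap_apply] at h2
    apply (η.map (Ideal.ResidueField.map (PrimeSpectrum.comap f q₂).asIdeal q₂.asIdeal f
      rfl)).injective
    rw [h2, map_zero]
  rw [Nmap_apply' η f x q₁ (PrimeSpectrum.comap f q₂) (by rw [← hq]; rfl), h3, map_zero] at h1
  exact zero_ne_one h1

end Groth.Agent.Lib.EtaPtInt
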