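import Groth.Agent.Lib.EtaPtRel
import Mathlib.RingTheory.Localization.LocalizationLocalization
import Mathlib.RingTheory.Localization.Away.Basic
import Mathlib.RingTheory.Localization.Integral
import Mathlib.Algebra.GCDMonoid.IntegrallyClosed
import Mathlib.RingTheory.Bezout

/-!
`EtaPt`: compatibility of `M` with localization at one element.

* `finite_minimalPrimes_of_isLocalization`, `valuationRing_of_isLocalization`,
  `exists_toFractionRing`, `exists_algebraMap_eq_of_monic`: algebraic preliminaries.
* `exists_pow_mul_integral`: bounded denominators for integrality.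
* `exists_mul_pow_eq_Nmap`: every element of `M (A_f)` times a power of `f` comes from `M A`.
* `mul_eq_zero_of_Nmap_away_eq_zero`.
-/

set_option autoImplicit false
universe u

namespace Groth.Agent.Lib.EtaPtLoc

open EtaPt EtaPt.FieldEndo Groth.Agent.Lib.EtaPtBasic Groth.Agent.Lib.EtaPtVal
  Groth.Agent.Lib.EtaPtStruct Groth.Agent.Lib.EtaPtSpec Groth.Agent.Lib.EtaPtDescent
  Groth.Agent.Lib.EtaPtRel

variable (η : EtaPt.FieldEndo.{u})

theorem finite_minimalPrimes_of_isLocalization {A : Type*} [CommRing A] (S : Submonoid A)
    (A' : Type*) [CommRing A'] [Algebra A A'] [IsLocalization S A']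
    (hA : (minimalPrimes A).Finite) : (minimalPrimes A').Finite := by
  apply (hA.image (Ideal.map (algebraMap A A'))).subset
  intro Q hQ
  have hQp : Q.IsPrime := hQ.1.1
  obtain ⟨p₀, hp₀, hle⟩ :=
    Ideal.exists_minimalPrimes_le (bot_le : ⊥ ≤ Q.comap (algebraMap A A'))
  have hp₀p : p₀.IsPrime := hp₀.1.1
  have hdisj : Disjoint (S : Set A) p₀ :=
    Set.disjoint_of_subset_right hle
      ((IsLocalization.isPrime_iff_isPrime_disjoint S A' Q).mp hQp).2
  have hprime := IsLocalization.isPrime_of_isPrime_disjoint S A' p₀ hp₀p hdisj
  have hleQ : p₀.map (algebraMap A A') ≤ Q := Ideal.map_le_iff_le_comap.mpr hle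
  exact ⟨p₀, hp₀, le_antisymm hleQ (hQ.2 ⟨hprime, bot_le⟩ hleQ)⟩

/-- uniform integrality: a power of `f` times an element of `M (A_f)` is integral over `A`. -/
theorem exists_pow_mul_integral {A : Type u} [CommRing A] (hA : (minimalPrimes A).Finite) (f : A)
    (y : η.M (Localization.Away f)) :
    ∃ (k : ℕ) (P : Polynomial A), P.Monic ∧
      Polynomial.eval₂ ((η.q (Localization.Away f)).comp (algebraMap A (Localization.Away f)))
        (η.q _ (algebraMap A _ f) ^ k * y) P = 0 := by
  have hAf : (minimalPrimes (Localization.Away f)).Finite :=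
    finite_minimalPrimes_of_isLocalization (Submonoid.powers f) _ hA
  let _ : Algebra (Localization.Away f) (η.M (Localization.Away f)) :=
    (η.q (Localization.Away f)).toAlgebra
  let _ : Algebra A (η.M (Localization.Away f)) :=
    ((η.q (Localization.Away f)).comp (algebraMap A (Localization.Away f))).toAlgebra
  have : IsScalarTower A (Localization.Away f) (η.M (Localization.Away f)) :=
    IsScalarTower.of_algebraMap_eq (fun _ => rfl)
  have hint : IsIntegral (Localization.Away f) y :=
    Groth.Agent.S13802.result η (Localization.Away f) hAf y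
  obtain ⟨⟨m, k, hk⟩, P, hPm, hP⟩ :=
    IsIntegral.exists_multiple_integral_of_isLocalization (Submonoid.powers f) y hint
  refine ⟨k, P, hPm, ?_⟩
  have h1 : (⟨m, k, hk⟩ : Submonoid.powers f) • y =
      η.q _ (algebraMap A _ f) ^ k * y := by
    rw [Submonoid.smul_def, Algebra.smul_def]
    change (η.q (Localization.Away f)) (algebraMap A (Localization.Away f) m) * y = _
    rw [← hk, map_pow, map_pow]
  rw [← h1]
  exact hP

/-- A localization of a valuation ring which is a domain is a valuation ring. -/
theorem valuationRing_of_isLocalization {R : Type*} [CommRing R] [IsDomain R] [ValuationRing R]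
    (S : Submonoid R) (R' : Type*) [CommRing R'] [IsDomain R'] [Algebra R R']
    [IsLocalization S R'] : ValuationRing R' := by
  rw [ValuationRing.iff_dvd_total]
  refine ⟨fun a' b' => ?_⟩
  obtain ⟨⟨a, s⟩, has⟩ := IsLocalization.surj S a'
  obtain ⟨⟨b, t⟩, hbt⟩ := IsLocalization.surj S b'
  simp only at has hbt
  have hs : IsUnit (algebraMap R R' s) := IsLocalization.map_units R' s
  have ht : IsUnit (algebraMap R R' t) := IsLocalization.map_units R' t
  have ha : a' ∣ algebraMap R R' a := ⟨_, has.symm⟩
  have ha' : algebraMap R R' a ∣ a' := by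
    rw [← has]
    exact (hs.mul_right_dvd).mpr dvd_rfl
  have hb : b' ∣ algebraMap R R' b := ⟨_, hbt.symm⟩
  have hb' : algebraMap R R' b ∣ b' := by
    rw [← hbt]
    exact (ht.mul_right_dvd).mpr dvd_rfl
  rcases ValuationRing.dvd_total a b with h | h
  · left
    exact ha.trans ((map_dvd (algebraMap R R') h).trans hb')
  · right
    exact hb.trans ((map_dvd (algebraMap R R') h).trans ha')

/-- The canonical injection of a localization of a domain into its fraction field. -/
theorem exists_toFractionRing {R : Type u} [CommRing R] [IsDomain R]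
    (S : Submonoid R) (hS : S ≤ nonZeroDivisors R) (R' : Type u) [CommRing R'] [IsDomain R']
    [Algebra R R'] [IsLocalization S R'] :
    ∃ φ : R' →+* FractionRing R, φ.comp (algebraMap R R') = algebraMap R (FractionRing R) ∧
      Function.Injective φ ∧ (η.InV R → η.InV R') := by
  have hunit : ∀ s : S, IsUnit (algebraMap R (FractionRing R) s) := by
    intro s
    exact IsLocalization.map_units (FractionRing R) (⟨s, hS s.2⟩ : nonZeroDivisors R)
  let φ : R' →+* FractionRing R := IsLocalization.lift (M := S) (g := algebraMap R _) hunit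
  let _ : Algebra R' (FractionRing R) := φ.toAlgebra
  have : IsScalarTower R R' (FractionRing R) :=
    IsScalarTower.of_algebraMap_eq (fun r => (IsLocalization.lift_eq hunit r).symm)
  have : IsFractionRing R' (FractionRing R) :=
    IsFractionRing.isFractionRing_of_isDomain_of_isLocalization S R' (FractionRing R)
  refine ⟨φ, ?_, IsFractionRing.injective R' (FractionRing R), fun hR => ?_⟩
  · exact IsLocalization.lift_comp hunit
  · exact (inV_iff_of_isFractionRing η R' (FractionRing R)).mpr hR

/-- Elements of a localization of an integrally closed domain that are integral over it come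
from it. -/
theorem exists_algebraMap_eq_of_monic {R : Type u} [CommRing R] [IsDomain R]
    [IsIntegrallyClosed R] (S : Submonoid R) (hS : S ≤ nonZeroDivisors R) (R' : Type u)
    [CommRing R'] [IsDomain R'] [Algebra R R'] [IsLocalization S R'] (r'' : R')
    (P : Polynomial R) (hPm : P.Monic) (hP : Polynomial.eval₂ (algebraMap R R') r'' P = 0) :
    ∃ r₀ : R, algebraMap R R' r₀ = r'' := by
  obtain ⟨φ, hφ, hφinj, -⟩ := exists_toFractionRing EtaPt.FieldEndo.ident S hS R'
  have hint : IsIntegral R (φ r'') := by
    refine ⟨P, hPm, ?_⟩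
    rw [← hφ, ← Polynomial.hom_eval₂, hP, map_zero]
  obtain ⟨r₀, hr₀⟩ := IsIntegrallyClosed.algebraMap_eq_of_integral hint
  refine ⟨r₀, hφinj ?_⟩
  rw [← hr₀, ← hφ]
  rfl

theorem exists_mul_pow_eq_Nmap {A : Type u} [CommRing A] (hA : (minimalPrimes A).Finite) (f : A)
    {y : η.N (Localization.Away f)} (hy : y ∈ η.M (Localization.Away f)) :
    ∃ x ∈ η.M A, ∃ n : ℕ,
      y * η.t (Localization.Away f) (algebraMap A (Localization.Away f) f) ^ n =
        η.Nmap (algebraMap A (Localization.Away f)) x := by
  classical
  obtain ⟨k, P, hPm, hP⟩ := exists_pow_mul_integral η hA f ⟨y, hy⟩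
  set z : η.N (Localization.Away f) :=
    η.t (Localization.Away f) (algebraMap A (Localization.Away f) f) ^ k * y with hz
  have hPz : Polynomial.eval₂ ((η.t (Localization.Away f)).comp
      (algebraMap A (Localization.Away f))) z P = 0 := by
    have h1 := congrArg (η.M (Localization.Away f)).subtype hP
    rw [Polynomial.hom_eval₂, map_zero] at h1
    exact h1
  have hinj : Function.Injective (PrimeSpectrum.comap (algebraMap A (Localization.Away f))) :=
    PrimeSpectrum.localization_comap_injective (Localization.Away f) (Submonoid.powers f)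
  have hbij : ∀ q : PrimeSpectrum (Localization.Away f), Function.Bijective
      (Ideal.ResidueField.map (PrimeSpectrum.comap (algebraMap A (Localization.Away f)) q).asIdeal
        q.asIdeal (algebraMap A (Localization.Away f)) rfl) := fun q =>
    RingHom.SurjectiveOnStalks.residueFieldMap_bijective
      (RingHom.surjectiveOnStalks_of_isLocalization (Submonoid.powers f) (Localization.Away f))
      _ _ _
  obtain ⟨x, hx, hx0⟩ := exists_Nmap_eq η (algebraMap A (Localization.Away f)) hinj hbij
    (η.t (Localization.Away f) (algebraMap A (Localization.Away f) f) * z)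
  have hx0' : ∀ p : PrimeSpectrum A, f ∈ p.asIdeal → x p = 0 := by
    intro p hp
    apply hx0
    rintro ⟨Q, rfl⟩
    exact Q.isPrime.ne_top (Ideal.eq_top_of_isUnit_mem _ hp
      (IsLocalization.Away.algebraMap_isUnit f))
  refine ⟨x, ?_, k + 1, ?_⟩
  swap
  · rw [hx, hz]
    ring
  intro R _ _ _ hR g
  by_cases hgf : g f = 0
  · refine ⟨0, ?_⟩
    rw [map_zero]
    funext 𝔮
    rw [Nmap_apply, hx0', map_zero]
    · rfl
    · change g f ∈ 𝔮.asIdeal
      rw [hgf]
      exact 𝔮.asIdeal.zero_mem
  · have hS : Submonoid.powers (g f) ≤ nonZeroDivisors R :=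
      powers_le_nonZeroDivisors_of_noZeroDivisors hgf
    have hdom : IsDomain (Localization.Away (g f)) :=
      IsLocalization.isDomain_of_le_nonZeroDivisors (Localization.Away (g f)) hS
    have hval : ValuationRing (Localization.Away (g f)) :=
      valuationRing_of_isLocalization (Submonoid.powers (g f)) _
    obtain ⟨-, -, -, hInV⟩ := exists_toFractionRing η (Submonoid.powers (g f)) hS
      (Localization.Away (g f))
    have hg' : (Localization.awayMap g f).comp (algebraMap A (Localization.Away f)) =
        (algebraMap R (Localization.Away (g f))).comp g := IsLocalization.map_comp _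
    have hg'f : Localization.awayMap g f (algebraMap A (Localization.Away f) f) =
        algebraMap R (Localization.Away (g f)) (g f) :=
      congrArg (fun φ : A →+* Localization.Away (g f) => φ f) hg'
    obtain ⟨r', hr'⟩ := hy (Localization.Away (g f)) (hInV hR) (Localization.awayMap g f)
    set r'' := algebraMap R (Localization.Away (g f)) (g f) ^ k * r' with hr''
    have hNz : η.Nmap (Localization.awayMap g f) z = η.t _ r'' := by
      rw [hz, map_mul, map_pow, Nmap_t_apply, ← hr', hr'', map_mul, map_pow, hg'f]
    have hint : Polynomial.eval₂ (algebraMap R (Localization.Away (g f))) r'' (P.map g) = 0 := by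
      apply t_injective_of_isDomain η
      rw [map_zero, Polynomial.eval₂_map, Polynomial.hom_eval₂, ← hNz]
      have h1 := congrArg (η.Nmap (Localization.awayMap g f)) hPz
      rw [Polynomial.hom_eval₂, map_zero] at h1
      rw [← h1]
      congr 1
      ext a : 1
      simp only [RingHom.comp_apply]
      rw [Nmap_t_apply]
      exact congrArg _ (congrArg (fun φ : A →+* Localization.Away (g f) => φ a) hg').symm
    have hic : IsIntegrallyClosed R := inferInstance
    obtain ⟨r₀, hr₀⟩ := exists_algebraMap_eq_of_monic (Submonoid.powers (g f)) hS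
      (Localization.Away (g f)) r'' (P.map g) (hPm.map g) hint
    refine ⟨g f * r₀, ?_⟩
    funext 𝔮
    by_cases h𝔮 : g f ∈ 𝔮.asIdeal
    · rw [Nmap_apply, hx0' _ h𝔮, map_zero, t_apply]
      have : algebraMap R 𝔮.asIdeal.ResidueField (g f * r₀) = 0 := by
        rw [Ideal.algebraMap_residueField_eq_zero]
        exact Ideal.mul_mem_right _ _ h𝔮
      rw [this, map_zero]
    · have hrange : 𝔮 ∈ Set.range (PrimeSpectrum.comap
          (algebraMap R (Localization.Away (g f)))) := by
        rw [PrimeSpectrum.localization_away_comap_range (Localization.Away (g f)) (g f)]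
        exact h𝔮
      obtain ⟨𝔮', rfl⟩ := hrange
      have e1 : η.Nmap (algebraMap R (Localization.Away (g f))) (η.t R (g f * r₀)) =
          η.t _ (algebraMap R (Localization.Away (g f)) (g f) * r'') := by
        rw [Nmap_t_apply, map_mul, hr₀]
      have e2 : η.Nmap (algebraMap R (Localization.Away (g f))) (η.Nmap g x) =
          η.t _ (algebraMap R (Localization.Away (g f)) (g f) * r'') := by
        rw [← Nmap_comp, ← hg', Nmap_comp, hx, map_mul (η.Nmap _), Nmap_t_apply, hNz, hg'f,
          ← map_mul]
      have h0 : η.Nmap (algebraMap R (Localization.Away (g f)))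
          (η.t R (g f * r₀) - η.Nmap g x) = 0 := by
        rw [map_sub, e1, e2, sub_self]
      have h1 := eq_zero_of_Nmap_eq_zero η _ h0 𝔮'
      rw [Pi.sub_apply, sub_eq_zero] at h1
      exact h1

/-- An element of `M A` dying in `N (A_f)` is killed by `t f`. -/
theorem mul_eq_zero_of_Nmap_away_eq_zero {A : Type u} [CommRing A] (f : A) {x : η.N A}
    (hx : η.Nmap (algebraMap A (Localization.Away f)) x = 0) : η.t A f * x = 0 := by
  funext p
  rw [Pi.mul_apply, Pi.zero_apply, t_apply]
  by_cases hp : f ∈ p.asIdeal
  · have : algebraMap A p.asIdeal.ResidueField f = 0 := by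
      rw [Ideal.algebraMap_residueField_eq_zero]
      exact hp
    rw [this, map_zero, zero_mul]
  · have hrange : p ∈ Set.range (PrimeSpectrum.comap (algebraMap A (Localization.Away f))) := by
      rw [PrimeSpectrum.localization_away_comap_range (Localization.Away f) f]
      exact hp
    obtain ⟨Q, rfl⟩ := hrange
    rw [eq_zero_of_Nmap_eq_zero η _ hx Q, mul_zero]

end Groth.Agent.Lib.EtaPtLoc
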