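import Groth.Agent.Lib.EtaPtInt
import Mathlib.Algebra.CharP.Reduced
import Mathlib.Algebra.CharP.Algebra
import Mathlib.RingTheory.Valuation.LocalSubring

/-!
`EtaPt`: structure theory, part 1.

* `pow_injective`: `x ↦ x ^ e ^ n` is injective on a field receiving a map from a field of
  exponential characteristic `e`.
* `eta_obj_eq`, `eta_obj_bijective`: `η` at `F K` is `F (η_K)`, hence bijective.
* `eta_bijective_of_roots`: `η` is bijective at fields having all `e ^ n`-th roots.
* `exists_valuationSubring_dominating'`: valuation subrings of a field `L` dominating a prime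
  containing the kernel of a ring map to `L`.
* `inV_valuationSubring`: valuation subrings of a field at which `η` is bijective are in `V_η`.
-/

set_option autoImplicit false
universe u

namespace Groth.Agent.Lib.EtaPtStruct

open EtaPt EtaPt.FieldEndo Groth.Agent.Lib.EtaPtBasic Groth.Agent.Lib.EtaPtVal

variable (η : EtaPt.FieldEndo.{u})

section Frobenius

/-- Injectivity of `x ↦ x ^ e ^ n` on a field `L` receiving a ring map from a field `K` of
exponential characteristic `e = ringExpChar K`. -/
theorem pow_injective {K L : Type u} [Field K] [Field L] (f : K →+* L) (n : ℕ) {x y : L}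
    (h : x ^ ringExpChar K ^ n = y ^ ringExpChar K ^ n) : x = y := by
  have hexp : ExpChar L (ringExpChar K) :=
    expChar_of_injective_ringHom (f := f) f.injective (ringExpChar K)
  apply iterateFrobenius_inj L (ringExpChar K) n
  rw [iterateFrobenius_def, iterateFrobenius_def]
  exact h

/-- Two ring maps out of `F K` agreeing on the image of `η_K` are equal. -/
theorem ringHom_ext_of_comp_eta {K L : Type u} [Field K] [Field L] (f g : η.obj K →+* L)
    (h : f.comp (η.eta K) = g.comp (η.eta K)) : f = g := by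
  ext y
  obtain ⟨n, z, hz⟩ := η.exists_pow_mem_range_eta K y
  apply pow_injective (f.comp (η.eta K)) n
  rw [← map_pow, ← map_pow, ← hz]
  exact congrArg (fun φ : K →+* L => φ z) h

theorem eta_obj_eq (K : Type u) [Field K] : η.eta (η.obj K) = η.map (η.eta K) := by
  apply ringHom_ext_of_comp_eta
  exact (η.eta_natural (η.eta K)).symm

theorem eta_obj_bijective (K : Type u) [Field K] : Function.Bijective (η.eta (η.obj K)) := by
  rw [eta_obj_eq]
  exact η.bijective_map_eta K

/-- `η` is bijective at a field having all `e ^ n`-th roots. -/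
theorem eta_bijective_of_roots (K : Type u) [Field K]
    (h : ∀ (z : K) (n : ℕ), ∃ w : K, w ^ ringExpChar K ^ n = z) :
    Function.Bijective (η.eta K) := by
  refine ⟨(η.eta K).injective, fun y => ?_⟩
  obtain ⟨n, z, hz⟩ := η.exists_pow_mem_range_eta K y
  obtain ⟨w, rfl⟩ := h z n
  refine ⟨w, ?_⟩
  apply pow_injective (η.eta K) n
  rw [← map_pow, hz]

end Frobenius

section Ev

variable {A B : Type u} [CommRing A] [CommRing B] {L L' : Type u} [Field L] [Field L']

/-- The prime `ker ψ` of `A`, for a ring map `ψ` to a field. -/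
def kerPt (ψ : A →+* L) : PrimeSpectrum A := ⟨RingHom.ker ψ, RingHom.ker_isPrime ψ⟩

theorem kerPt_asIdeal (ψ : A →+* L) : (kerPt ψ).asIdeal = RingHom.ker ψ := rfl

/-- The map `k(ker ψ) → L` induced by `ψ`. -/
noncomputable def kerLift (ψ : A →+* L) : (kerPt ψ).asIdeal.ResidueField →+* L :=
  Ideal.ResidueField.lift (kerPt ψ).asIdeal ψ le_rfl (by
    intro a ha
    change IsUnit (ψ a)
    exact IsUnit.mk0 _ (fun h => ha h))

theorem kerLift_algebraMap (ψ : A →+* L) (a : A) :
    kerLift ψ (algebraMap A (kerPt ψ).asIdeal.ResidueField a) = ψ a :=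
  Ideal.ResidueField.lift_algebraMap _ _ _ _ _

/-- Evaluation of an element of `N A` at a field-valued point `ψ : A → L`:
`F (k(ker ψ) → L)` applied to the component at `ker ψ`. -/
noncomputable def ev (ψ : A →+* L) : η.N A →+* η.obj L :=
  (η.map (kerLift ψ)).comp
    (Pi.evalRingHom (fun p : PrimeSpectrum A => η.obj p.asIdeal.ResidueField) (kerPt ψ))

theorem ev_def (ψ : A →+* L) (x : η.N A) : ev η ψ x = η.map (kerLift ψ) (x (kerPt ψ)) := rfl

/-- Computing `ev ψ` through any prime `p` and factorization `j : k(p) → L` of `ψ`. -/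
theorem ev_eq (ψ : A →+* L) (p : PrimeSpectrum A) (j : p.asIdeal.ResidueField →+* L)
    (hj : j.comp (algebraMap A p.asIdeal.ResidueField) = ψ) (x : η.N A) :
    ev η ψ x = η.map j (x p) := by
  have hp : p = kerPt ψ := by
    apply PrimeSpectrum.ext
    ext a
    rw [kerPt_asIdeal, RingHom.mem_ker, ← hj, RingHom.comp_apply, map_eq_zero,
      Ideal.algebraMap_residueField_eq_zero]
  subst hp
  have : j = kerLift ψ := by
    apply Ideal.ResidueField.ringHom_ext
    ext a
    rw [RingHom.comp_apply, RingHom.comp_apply, kerLift_algebraMap]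
    exact congrArg (fun φ : A →+* L => φ a) hj
  rw [this]
  rfl

theorem ev_algebraMap (p : PrimeSpectrum A) (x : η.N A) :
    ev η (algebraMap A p.asIdeal.ResidueField) x = x p := by
  rw [ev_eq η (algebraMap A p.asIdeal.ResidueField) p (RingHom.id _) (RingHom.id_comp _) x]
  exact map_id_apply η _ _

theorem ev_t (ψ : A →+* L) (a : A) : ev η ψ (η.t A a) = η.eta L (ψ a) := by
  rw [ev_def, t_apply, eta_natural_apply, kerLift_algebraMap]

theorem ev_comp_field (σ : L →+* L') (ψ : A →+* L) (x : η.N A) :
    ev η (σ.comp ψ) x = η.map σ (ev η ψ x) := by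
  rw [ev_eq η (σ.comp ψ) (kerPt ψ) (σ.comp (kerLift ψ)) ?_ x, ev_def, map_comp_apply]
  ext a
  rw [RingHom.comp_apply, RingHom.comp_apply, kerLift_algebraMap, RingHom.comp_apply]

theorem ev_Nmap (g : A →+* B) (ψ : B →+* L) (x : η.N A) :
    ev η ψ (η.Nmap g x) = ev η (ψ.comp g) x := by
  rw [ev_def, Nmap_apply, ← map_comp_apply]
  symm
  apply ev_eq
  ext a
  rw [RingHom.comp_apply, RingHom.comp_apply, Ideal.ResidueField.map_algebraMap,
    kerLift_algebraMap, RingHom.comp_apply]

theorem ev_eq_zero_iff (ψ : A →+* L) (p : PrimeSpectrum A) (hp : p.asIdeal = RingHom.ker ψ)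
    (x : η.N A) : ev η ψ x = 0 ↔ x p = 0 := by
  have hp' : p = kerPt ψ := PrimeSpectrum.ext hp
  subst hp'
  rw [ev_def, map_eq_zero]

/-- Membership in `M A` in terms of field-valued points. -/
theorem mem_M_iff_ev {x : η.N A} : x ∈ η.M A ↔
    ∀ (R : Type u) [CommRing R] [IsDomain R] [ValuationRing R], η.InV R →
      ∀ g : A →+* R, ∃ r : R, ∀ (L : Type u) [Field L] (ψ : R →+* L),
        ev η (ψ.comp g) x = η.eta L (ψ r) := by
  constructor
  · intro hx R _ _ _ hR g
    obtain ⟨r, hr⟩ := hx R hR g
    refine ⟨r, fun L _ ψ => ?_⟩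
    rw [← ev_Nmap, ← hr, ev_t]
  · intro hx R _ _ _ hR g
    obtain ⟨r, hr⟩ := hx R hR g
    refine ⟨r, ?_⟩
    funext q
    rw [← ev_algebraMap η q (η.Nmap g x), ev_Nmap, hr, t_apply]

end Ev

section Domination

variable {A : Type u} [CommRing A] {L : Type u} [Field L]

/-- For a ring map `φ : A → L` to a field and a prime `P ⊇ ker φ`, a valuation subring of `L`
containing `φ A` whose maximal ideal pulls back to `P`. -/
theorem exists_valuationSubring_dominating' (φ : A →+* L) (P : PrimeSpectrum A)
    (hP : RingHom.ker φ ≤ P.asIdeal) :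
    ∃ (V : ValuationSubring L) (g : A →+* V), (∀ a, (g a : L) = φ a) ∧
      P.asIdeal = (IsLocalRing.maximalIdeal V).comap g := by
  have hunit : ∀ y : P.asIdeal.primeCompl, IsUnit (φ y) := by
    intro y
    apply IsUnit.mk0
    intro h0
    exact y.2 (hP h0)
  let f : Localization.AtPrime P.asIdeal →+* L :=
    IsLocalization.lift (M := P.asIdeal.primeCompl) (g := φ) hunit
  obtain ⟨V, h, hloc⟩ := IsLocalRing.exists_factor_valuationRing f
  let f' : Localization.AtPrime P.asIdeal →+* V := f.codRestrict V.toSubring h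
  have : IsLocalHom f' := hloc
  refine ⟨V, f'.comp (algebraMap A (Localization.AtPrime P.asIdeal)), ?_, ?_⟩
  · intro a
    change f (algebraMap A _ a) = _
    exact IsLocalization.lift_eq _ _
  · rw [← Ideal.comap_comap]
    have h1 : (IsLocalRing.maximalIdeal V).comap f' =
        IsLocalRing.maximalIdeal (Localization.AtPrime P.asIdeal) :=
      IsLocalRing.maximalIdeal_comap f'
    rw [h1]
    exact (Localization.AtPrime.under_maximalIdeal (I := P.asIdeal)).symm

theorem inV_valuationSubring (V : ValuationSubring L) (hL : Function.Bijective (η.eta L)) :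
    η.InV V :=
  (inV_iff_of_isFractionRing η V L).mpr hL

theorem isIntegralElem_of_isIntegral_closure_range {A L : Type*} [CommRing A] [CommRing L]
    (φ : A →+* L) {y : L} (h : IsIntegral (Subring.closure (Set.range φ)) y) :
    φ.IsIntegralElem y := by
  let ρ : A →+* Subring.closure (Set.range φ) :=
    φ.codRestrict _ (fun a => Subring.subset_closure ⟨a, rfl⟩)
  have hρ : Function.Surjective ρ := by
    rintro ⟨z, hz⟩
    have hle : Subring.closure (Set.range φ) ≤ φ.range := by
      rw [Subring.closure_le]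
      rintro _ ⟨a, rfl⟩
      exact ⟨a, rfl⟩
    obtain ⟨a, rfl⟩ := hle hz
    exact ⟨a, rfl⟩
  obtain ⟨P, hP, hy⟩ := h
  obtain ⟨Q₀, hQ₀⟩ := Polynomial.map_surjective ρ hρ P
  have hl : P ∈ Polynomial.lifts ρ := (Polynomial.mem_lifts P).mpr ⟨Q₀, hQ₀⟩
  obtain ⟨Q, hQ, -, hQm⟩ := Polynomial.lifts_and_natDegree_eq_and_monic hl hP
  refine ⟨Q, hQm, ?_⟩
  rw [← hQ, Polynomial.eval₂_map] at hy
  exact hy

end Domination

section Structure

variable {A : Type u} [CommRing A]

/-- For `x ∈ M A`, a prime `p`, and a valuation subring `V` of `F (k(p))` containing the image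
of `A`: the component `x p` lies in `V`, and the element of `V` it defines computes all
evaluations of `x` at field-valued points of `V`. -/
theorem exists_eq_of_mem_M {x : η.N A} (hx : x ∈ η.M A) (p : PrimeSpectrum A)
    (V : ValuationSubring (η.obj p.asIdeal.ResidueField)) (g : A →+* V)
    (hg : ∀ a, (g a : η.obj p.asIdeal.ResidueField) =
      η.eta _ (algebraMap A p.asIdeal.ResidueField a)) :
    ∃ r : V, (r : η.obj p.asIdeal.ResidueField) = x p ∧
      ∀ (L : Type u) [Field L] (ψ : V →+* L), ev η (ψ.comp g) x = η.eta L (ψ r) := by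
  have hV : η.InV V := inV_valuationSubring η V (eta_obj_bijective η _)
  obtain ⟨r, hr⟩ := (mem_M_iff_ev η).mp hx V hV g
  refine ⟨r, ?_, hr⟩
  have h1 := hr _ V.subtype
  have h2 : V.subtype.comp g =
      (η.eta p.asIdeal.ResidueField).comp (algebraMap A p.asIdeal.ResidueField) := by
    ext a
    exact hg a
  rw [h2, ev_comp_field, ev_algebraMap, ← eta_obj_eq] at h1
  exact ((η.eta _).injective h1).symm

/-- General vanishing: for `x ∈ M A` and primes `p ≤ P`, if `x p = 0` then `x P = 0`. -/
theorem eq_zero_of_le {x : η.N A} (hx : x ∈ η.M A) {p P : PrimeSpectrum A}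
    (hle : p.asIdeal ≤ P.asIdeal) (h0 : x p = 0) : x P = 0 := by
  let φ : A →+* η.obj p.asIdeal.ResidueField :=
    (η.eta p.asIdeal.ResidueField).comp (algebraMap A p.asIdeal.ResidueField)
  have hker : RingHom.ker φ = p.asIdeal := by
    ext a
    rw [RingHom.mem_ker, RingHom.comp_apply, map_eq_zero, Ideal.algebraMap_residueField_eq_zero]
  obtain ⟨V, g, hg, hP⟩ := exists_valuationSubring_dominating' φ P (hker.le.trans hle)
  obtain ⟨r, hr0, hr⟩ := exists_eq_of_mem_M η hx p V g hg
  have hr0' : r = 0 := by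
    apply Subtype.ext
    rw [hr0, h0]
    rfl
  have h1 := hr _ (IsLocalRing.residue V)
  rw [hr0', map_zero, map_zero] at h1
  refine (ev_eq_zero_iff η _ P ?_ x).mp h1
  rw [hP]
  ext a
  rw [Ideal.mem_comap, RingHom.mem_ker, RingHom.comp_apply, IsLocalRing.residue_eq_zero_iff]

/-- An element of `M A` vanishing at all minimal primes is zero. -/
theorem eq_zero_of_minimalPrimes {x : η.N A} (hx : x ∈ η.M A)
    (h0 : ∀ p : PrimeSpectrum A, p.asIdeal ∈ minimalPrimes A → x p = 0) : x = 0 := by
  funext P
  obtain ⟨p, hp, hle⟩ := Ideal.exists_minimalPrimes_le (bot_le : (⊥ : Ideal A) ≤ P.asIdeal)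
  have hp' : p.IsPrime := hp.1.1
  exact eq_zero_of_le η hx (p := ⟨p, hp'⟩) hle (h0 ⟨p, hp'⟩ hp)

/-- Every component of an element of `M A` is integral over `A`. -/
theorem isIntegralElem_of_mem_M {x : η.N A} (hx : x ∈ η.M A) (p : PrimeSpectrum A) :
    ((η.eta p.asIdeal.ResidueField).comp
      (algebraMap A p.asIdeal.ResidueField)).IsIntegralElem (x p) := by
  set φ : A →+* η.obj p.asIdeal.ResidueField :=
    (η.eta p.asIdeal.ResidueField).comp (algebraMap A p.asIdeal.ResidueField) with hφ
  apply isIntegralElem_of_isIntegral_closure_range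
  have hmem : x p ∈ (⨅ V : {V : ValuationSubring (η.obj p.asIdeal.ResidueField) //
      Set.range φ ⊆ V.toSubring}, V.1.toSubring) := by
    rw [Subring.mem_iInf]
    rintro ⟨V, hV⟩
    let g : A →+* V := φ.codRestrict V.toSubring (fun a => hV ⟨a, rfl⟩)
    obtain ⟨r, hr, -⟩ := exists_eq_of_mem_M η hx p V g (fun a => rfl)
    rw [← hr]
    exact r.2
  rw [iInf_valuationSubring_superset] at hmem
  exact hmem

end Structure

end Groth.Agent.Lib.EtaPtStruct
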