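import Groth.Agent.Lib.EtaPtDescent
import Groth.Agent.S13802

/-!
`EtaPt`: the relative ring `rel f ⊆ B` of a ring map `f : A → B` with `Spec f` surjective.

* `Nmap_injective_of_comap_surjective`, `Nmap_bijective_of_factor`.
* `relHom f hs : rel f → M A` with `N f (relHom b) = t_B b`; its kernel is the nilradical.
* `qRel_isIntegral`, `comap_qRel_bijective`, `exists_factor_rel`, `Nmap_qRel_bijective`
  (for `A` with finitely many minimal primes).
-/

set_option autoImplicit false
universe u

namespace Groth.Agent.Lib.EtaPtRel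

open EtaPt EtaPt.FieldEndo Groth.Agent.Lib.EtaPtBasic Groth.Agent.Lib.EtaPtVal
  Groth.Agent.Lib.EtaPtStruct Groth.Agent.Lib.EtaPtSpec Groth.Agent.Lib.EtaPtDescent

variable (η : EtaPt.FieldEndo.{u})

variable {A B : Type u} [CommRing A] [CommRing B]

theorem Nmap_injective_of_comap_surjective (f : A →+* B)
    (hs : Function.Surjective (PrimeSpectrum.comap f)) : Function.Injective (η.Nmap f) := by
  rw [injective_iff_map_eq_zero]
  intro x hx
  funext P
  obtain ⟨Q, rfl⟩ := hs P
  exact eq_zero_of_Nmap_eq_zero η f hx Q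

/-- `N f` is bijective when `Spec f` is bijective and `η` factors through all residue field
maps. -/
theorem Nmap_bijective_of_factor (f : A →+* B)
    (hbij : Function.Bijective (PrimeSpectrum.comap f))
    (hfac : ∀ Q : PrimeSpectrum B,
      ∃ φ : Q.asIdeal.ResidueField →+* η.obj (PrimeSpectrum.comap f Q).asIdeal.ResidueField,
        φ.comp (Ideal.ResidueField.map (PrimeSpectrum.comap f Q).asIdeal Q.asIdeal f rfl) =
          η.eta (PrimeSpectrum.comap f Q).asIdeal.ResidueField) :
    Function.Bijective (η.Nmap f) := by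
  refine ⟨Nmap_injective_of_comap_surjective η f hbij.2, fun y => ?_⟩
  apply exists_Nmap_eq' η f hbij.1
  intro Q
  obtain ⟨φ, hφ⟩ := hfac Q
  exact (map_bijective_of_comp_eq_eta η _ φ hφ).2

theorem mem_rel_iff (f : A →+* B) (b : B) :
    b ∈ η.rel f ↔ ∃ x ∈ η.M A, η.Nmap f x = η.t B b := Iff.rfl

section RelHom

variable (f : A →+* B) (hs : Function.Surjective (PrimeSpectrum.comap f))

/-- The ring map `rel f → M A`, `b ↦` the unique `x ∈ M A` with `N f x = t_B b`. -/
noncomputable def relHom : η.rel f →+* η.M A :=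
  ((Subring.equivMapOfInjective (η.M A) (η.Nmap f)
      (Nmap_injective_of_comap_surjective η f hs)).symm :
    (η.M A).map (η.Nmap f) →+* η.M A).comp
    ((η.t B).restrict (η.rel f) ((η.M A).map (η.Nmap f)) (fun _ hb => hb))

theorem Nmap_relHom (b : η.rel f) :
    η.Nmap f ((relHom η f hs b : η.M A) : η.N A) = η.t B (b : B) := by
  have h1 : Subring.equivMapOfInjective (η.M A) (η.Nmap f)
      (Nmap_injective_of_comap_surjective η f hs) (relHom η f hs b) =
      (η.t B).restrict (η.rel f) ((η.M A).map (η.Nmap f)) (fun _ hb => hb) b := by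
    unfold relHom
    rw [RingHom.comp_apply]
    exact RingEquiv.apply_symm_apply _ _
  have h2 := congrArg Subtype.val h1
  rw [Subring.coe_equivMapOfInjective_apply] at h2
  exact h2

theorem relHom_eq {b : η.rel f} {x : η.N A} (hx : η.Nmap f x = η.t B (b : B)) :
    ((relHom η f hs b : η.M A) : η.N A) = x := by
  apply Nmap_injective_of_comap_surjective η f hs
  rw [Nmap_relHom, hx]

theorem relHom_comp_qRel : (relHom η f hs).comp (η.qRel f) = η.q A := by
  ext a : 1
  apply Subtype.ext
  rw [RingHom.comp_apply]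
  exact relHom_eq η f hs (η.Nmap_t_apply f a)

theorem relHom_qRel (a : A) : relHom η f hs (η.qRel f a) = η.q A a :=
  congrArg (fun φ : A →+* η.M A => φ a) (relHom_comp_qRel η f hs)

theorem relHom_eq_zero_iff (b : η.rel f) :
    relHom η f hs b = 0 ↔ (b : B) ∈ nilradical B := by
  rw [← t_eq_zero_iff η, ← Nmap_relHom η f hs]
  constructor
  · intro h
    rw [h]
    exact map_zero _
  · intro h
    apply Subtype.ext
    apply Nmap_injective_of_comap_surjective η f hs
    rw [h]
    exact (map_zero _).symm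

theorem ker_relHom_le (P : Ideal (η.rel f)) [P.IsPrime] : RingHom.ker (relHom η f hs) ≤ P := by
  intro b hb
  rw [RingHom.mem_ker, relHom_eq_zero_iff, mem_nilradical] at hb
  obtain ⟨n, hn⟩ := hb
  have h1 : b ^ n = 0 := Subtype.ext hn
  have h2 : b ^ n ∈ P := by
    rw [h1]
    exact P.zero_mem
  exact Ideal.IsPrime.mem_of_pow_mem inferInstance n h2

variable (hA : (minimalPrimes A).Finite)

include hA in
theorem relHom_isIntegral : (relHom η f hs).IsIntegral := by
  apply RingHom.IsIntegral.tower_top (f := η.qRel f)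
  rw [relHom_comp_qRel]
  exact Groth.Agent.S13802.result η A hA

include hA in
theorem comap_relHom_surjective :
    Function.Surjective (PrimeSpectrum.comap (relHom η f hs)) := by
  intro P
  let _ := (relHom η f hs).toAlgebra
  have : Algebra.IsIntegral (η.rel f) (η.M A) := ⟨relHom_isIntegral η f hs hA⟩
  obtain ⟨Q, -, hQ, hQP⟩ := Ideal.exists_ideal_over_prime_of_isIntegral P.asIdeal
    (⊥ : Ideal (η.M A)) (by
      change (⊥ : Ideal (η.M A)).comap (relHom η f hs) ≤ P.asIdeal
      exact ker_relHom_le η f hs P.asIdeal)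
  exact ⟨⟨Q, hQ⟩, PrimeSpectrum.ext hQP⟩

include hs hA in
theorem qRel_isIntegral : (η.qRel f).IsIntegral := by
  intro b
  obtain ⟨P, hPm, hP⟩ := Groth.Agent.S13802.result η A hA (relHom η f hs b)
  -- `relHom (P(b)) = P(relHom b) = 0`
  have h1 : relHom η f hs (Polynomial.eval₂ (η.qRel f) b P) = 0 := by
    rw [Polynomial.hom_eval₂, relHom_comp_qRel]
    exact hP
  rw [relHom_eq_zero_iff, mem_nilradical] at h1
  obtain ⟨n, hn⟩ := h1
  refine ⟨P ^ n, hPm.pow n, ?_⟩
  rw [Polynomial.eval₂_pow]
  exact Subtype.ext hn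

include hs hA in
theorem comap_qRel_bijective : Function.Bijective (PrimeSpectrum.comap (η.qRel f)) := by
  constructor
  · intro Q₁ Q₂ h
    obtain ⟨Q₁', rfl⟩ := comap_relHom_surjective η f hs hA Q₁
    obtain ⟨Q₂', rfl⟩ := comap_relHom_surjective η f hs hA Q₂
    have h' : PrimeSpectrum.comap (η.q A) Q₁' = PrimeSpectrum.comap (η.q A) Q₂' := by
      rw [← relHom_comp_qRel η f hs]
      exact h
    rw [comap_q_injective η hA h']
  · intro P
    obtain ⟨Q, rfl⟩ := comap_q_surjective η P
    refine ⟨PrimeSpectrum.comap (relHom η f hs) Q, ?_⟩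
    change PrimeSpectrum.comap ((relHom η f hs).comp (η.qRel f)) Q = _
    rw [relHom_comp_qRel]

include hA in
/-- Flexible form of `exists_factor`. -/
theorem exists_factor' (Q : PrimeSpectrum (η.M A)) (P : PrimeSpectrum A)
    (hP : P.asIdeal = Q.asIdeal.comap (η.q A)) :
    ∃ φ : Q.asIdeal.ResidueField →+* η.obj P.asIdeal.ResidueField,
      ∀ x : η.M A, φ (algebraMap (η.M A) Q.asIdeal.ResidueField x) = (x : η.N A) P := by
  have h : P = PrimeSpectrum.comap (η.q A) Q := PrimeSpectrum.ext hP
  subst h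
  obtain ⟨φ, hφ, -⟩ := exists_factor η hA Q
  exact ⟨φ, hφ⟩

include hs hA in
theorem exists_factor_rel (Q : PrimeSpectrum (η.rel f)) :
    ∃ φ : Q.asIdeal.ResidueField →+*
        η.obj (PrimeSpectrum.comap (η.qRel f) Q).asIdeal.ResidueField,
      φ.comp (Ideal.ResidueField.map (PrimeSpectrum.comap (η.qRel f) Q).asIdeal Q.asIdeal
        (η.qRel f) rfl) = η.eta (PrimeSpectrum.comap (η.qRel f) Q).asIdeal.ResidueField := by
  obtain ⟨Q', rfl⟩ := comap_relHom_surjective η f hs hA Q
  have hP : (PrimeSpectrum.comap (η.qRel f) (PrimeSpectrum.comap (relHom η f hs) Q')).asIdeal =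
      Q'.asIdeal.comap (η.q A) := by
    rw [← relHom_comp_qRel η f hs]
    rfl
  obtain ⟨φ', hφ'⟩ := exists_factor' η hA Q' _ hP
  refine ⟨φ'.comp (Ideal.ResidueField.map _ Q'.asIdeal (relHom η f hs) rfl), ?_⟩
  apply Ideal.ResidueField.ringHom_ext
  ext a
  simp only [RingHom.comp_apply]
  rw [Ideal.ResidueField.map_algebraMap, Ideal.ResidueField.map_algebraMap, hφ', relHom_qRel]
  rfl

include hs hA in
theorem Nmap_qRel_bijective : Function.Bijective (η.Nmap (η.qRel f)) :=
  Nmap_bijective_of_factor η (η.qRel f) (comap_qRel_bijective η f hs hA)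
    (exists_factor_rel η f hs hA)

end RelHom

end Groth.Agent.Lib.EtaPtRel
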