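import Groth.Agent.Lib.EtaPtStruct

/-!
`EtaPt`: the prime spectrum of `M A` for a ring `A` with finitely many minimal primes.

* `proj P : M A → F (k(P))`, the projection; `primeOver P = ker (proj P)`.
* `eq_primeOver`: every prime `Q` of `M A` is `primeOver (Q ∩ A)`.
* `comap_q_bijective`, `exists_factor_eta`, `Nmap_q_bijective`, `Nmap_q_eq_t`.
-/

set_option autoImplicit false
universe u

namespace Groth.Agent.Lib.EtaPtSpec

open EtaPt EtaPt.FieldEndo Groth.Agent.Lib.EtaPtBasic Groth.Agent.Lib.EtaPtVal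
  Groth.Agent.Lib.EtaPtStruct

variable (η : EtaPt.FieldEndo.{u})

variable {A : Type u} [CommRing A]

/-- The projection `M A → F (k(P))`. -/
noncomputable def proj (P : PrimeSpectrum A) : η.M A →+* η.obj P.asIdeal.ResidueField :=
  (Pi.evalRingHom (fun p : PrimeSpectrum A => η.obj p.asIdeal.ResidueField) P).comp
    (η.M A).subtype

theorem proj_apply (P : PrimeSpectrum A) (x : η.M A) : proj η P x = (x : η.N A) P := rfl

theorem proj_q (P : PrimeSpectrum A) (a : A) :
    proj η P (η.q A a) = η.eta _ (algebraMap A P.asIdeal.ResidueField a) := rfl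

theorem proj_comp_q (P : PrimeSpectrum A) :
    (proj η P).comp (η.q A) =
      (η.eta P.asIdeal.ResidueField).comp (algebraMap A P.asIdeal.ResidueField) := rfl

/-- The prime `ker (proj P)` of `M A`. -/
noncomputable def primeOver (P : PrimeSpectrum A) : PrimeSpectrum (η.M A) := kerPt (proj η P)

theorem mem_primeOver (P : PrimeSpectrum A) (x : η.M A) :
    x ∈ (primeOver η P).asIdeal ↔ (x : η.N A) P = 0 := by
  change x ∈ RingHom.ker (proj η P) ↔ _
  rw [RingHom.mem_ker, proj_apply]

theorem comap_q_primeOver (P : PrimeSpectrum A) :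
    PrimeSpectrum.comap (η.q A) (primeOver η P) = P := by
  apply PrimeSpectrum.ext
  ext a
  change η.q A a ∈ (primeOver η P).asIdeal ↔ _
  rw [mem_primeOver]
  change η.eta _ (algebraMap A P.asIdeal.ResidueField a) = 0 ↔ _
  rw [map_eq_zero, Ideal.algebraMap_residueField_eq_zero]

theorem comap_q_surjective : Function.Surjective (PrimeSpectrum.comap (η.q A)) :=
  fun P => ⟨primeOver η P, comap_q_primeOver η P⟩

/-- Every prime of `M A` contains `ker (proj p)` for some minimal prime `p` of `A`. -/
theorem exists_minimal_le (hA : (minimalPrimes A).Finite) (Q : PrimeSpectrum (η.M A)) :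
    ∃ p : PrimeSpectrum A, p.asIdeal ∈ minimalPrimes A ∧
      (primeOver η p).asIdeal ≤ Q.asIdeal := by
  classical
  let f : Ideal A → Ideal (η.M A) := fun I =>
    if h : I.IsPrime then (primeOver η ⟨I, h⟩).asIdeal else ⊤
  have hle : hA.toFinset.inf f ≤ Q.asIdeal := by
    intro x hx
    have hx0 : x = 0 := by
      apply Subtype.ext
      apply eq_zero_of_minimalPrimes η x.2
      intro p hp
      have h1 : x ∈ f p.asIdeal := by
        have := (Finset.inf_le (f := f) (hA.mem_toFinset.mpr hp)) hx
        exact this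
      have h2 : f p.asIdeal = (primeOver η p).asIdeal := by
        simp only [f, dif_pos p.isPrime]
      rw [h2, mem_primeOver] at h1
      exact h1
    rw [hx0]
    exact Q.asIdeal.zero_mem
  obtain ⟨I, hI, hIQ⟩ := (Ideal.IsPrime.inf_le' Q.isPrime).mp hle
  have hImin : I ∈ minimalPrimes A := hA.mem_toFinset.mp hI
  have hIp : I.IsPrime := hImin.1.1
  refine ⟨⟨I, hIp⟩, hImin, ?_⟩
  have h2 : f I = (primeOver η ⟨I, hIp⟩).asIdeal := by
    simp only [f, dif_pos hIp]
  rw [← h2]
  exact hIQ

/-- Every prime `Q` of `M A` is the kernel of the projection at `Q ∩ A`. -/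
theorem eq_primeOver (hA : (minimalPrimes A).Finite) (Q : PrimeSpectrum (η.M A)) :
    Q = primeOver η (PrimeSpectrum.comap (η.q A) Q) := by
  obtain ⟨p, -, hpQ⟩ := exists_minimal_le η hA Q
  obtain ⟨V, g', hg', hQ⟩ := exists_valuationSubring_dominating' (proj η p) Q hpQ
  apply PrimeSpectrum.ext
  ext x
  rw [mem_primeOver]
  obtain ⟨r, hr0, hr⟩ := exists_eq_of_mem_M η x.2 p V (g'.comp (η.q A)) (fun a => hg' (η.q A a))
  have hrx : r = g' x := by
    apply Subtype.ext
    rw [hr0, hg', proj_apply]
  have h1 := hr _ (IsLocalRing.residue V)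
  have hker : (PrimeSpectrum.comap (η.q A) Q).asIdeal =
      RingHom.ker ((IsLocalRing.residue V).comp (g'.comp (η.q A))) := by
    ext a
    rw [RingHom.mem_ker, RingHom.comp_apply, RingHom.comp_apply,
      IsLocalRing.residue_eq_zero_iff]
    change η.q A a ∈ Q.asIdeal ↔ _
    rw [hQ, Ideal.mem_comap]
  rw [← ev_eq_zero_iff η _ _ hker, h1, map_eq_zero, hrx, IsLocalRing.residue_eq_zero_iff, hQ,
    Ideal.mem_comap]

theorem comap_q_injective (hA : (minimalPrimes A).Finite) :
    Function.Injective (PrimeSpectrum.comap (η.q A)) := by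
  intro Q₁ Q₂ h
  rw [eq_primeOver η hA Q₁, eq_primeOver η hA Q₂, h]

theorem comap_q_bijective (hA : (minimalPrimes A).Finite) :
    Function.Bijective (PrimeSpectrum.comap (η.q A)) :=
  ⟨comap_q_injective η hA, comap_q_surjective η⟩

/-- For a prime `Q` of `M A` over `P`, the map `k(Q) → F (k(P))` induced by the projection. -/
theorem exists_factor (hA : (minimalPrimes A).Finite) (Q : PrimeSpectrum (η.M A)) :
    ∃ φ : Q.asIdeal.ResidueField →+* η.obj (PrimeSpectrum.comap (η.q A) Q).asIdeal.ResidueField,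
      (∀ x : η.M A, φ (algebraMap (η.M A) Q.asIdeal.ResidueField x) =
        (x : η.N A) (PrimeSpectrum.comap (η.q A) Q)) ∧
      φ.comp (Ideal.ResidueField.map (PrimeSpectrum.comap (η.q A) Q).asIdeal Q.asIdeal (η.q A)
        rfl) = η.eta (PrimeSpectrum.comap (η.q A) Q).asIdeal.ResidueField := by
  have hQ : ∀ x : η.M A, x ∈ Q.asIdeal ↔ (x : η.N A) (PrimeSpectrum.comap (η.q A) Q) = 0 := by
    intro x
    rw [← mem_primeOver, ← eq_primeOver η hA Q]
  let φ : Q.asIdeal.ResidueField →+*
      η.obj (PrimeSpectrum.comap (η.q A) Q).asIdeal.ResidueField :=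
    Ideal.ResidueField.lift Q.asIdeal (proj η (PrimeSpectrum.comap (η.q A) Q))
      (fun x hx => (hQ x).mp hx)
      (fun x hx => by
        change IsUnit (proj η (PrimeSpectrum.comap (η.q A) Q) x)
        exact IsUnit.mk0 _ (fun h => hx ((hQ x).mpr h)))
  have hφ : ∀ x : η.M A, φ (algebraMap (η.M A) Q.asIdeal.ResidueField x) =
      (x : η.N A) (PrimeSpectrum.comap (η.q A) Q) :=
    fun x => Ideal.ResidueField.lift_algebraMap _ _ _ _ _
  refine ⟨φ, hφ, ?_⟩
  apply Ideal.ResidueField.ringHom_ext
  ext a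
  rw [RingHom.comp_apply, RingHom.comp_apply, Ideal.ResidueField.map_algebraMap, hφ]
  rfl

/-- If `η_K` factors as `K → K' → F K`, then `F (K → K')` is bijective. -/
theorem map_bijective_of_comp_eq_eta {K K' : Type u} [Field K] [Field K'] (ι : K →+* K')
    (φ : K' →+* η.obj K) (h : φ.comp ι = η.eta K) : Function.Bijective (η.map ι) := by
  refine ⟨map_injective η ι, fun z => ?_⟩
  obtain ⟨w, hw⟩ := (η.bijective_map_eta K).2 (η.map φ z)
  refine ⟨w, ?_⟩
  apply map_injective η φ
  rw [← map_comp_apply, h, hw]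

/-- Gluing along a map with `Spec` injective and `F` of the residue field maps surjective. -/
theorem exists_Nmap_eq' {A B : Type u} [CommRing A] [CommRing B] (f : A →+* B)
    (hinj : Function.Injective (PrimeSpectrum.comap f))
    (hsurj : ∀ q : PrimeSpectrum B, Function.Surjective
      (η.map (Ideal.ResidueField.map (PrimeSpectrum.comap f q).asIdeal q.asIdeal f rfl)))
    (y : η.N B) : ∃ x : η.N A, η.Nmap f x = y := by
  classical
  have hs : ∀ q : PrimeSpectrum B, ∃ z : η.obj (PrimeSpectrum.comap f q).asIdeal.ResidueField,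
      η.map (Ideal.ResidueField.map (PrimeSpectrum.comap f q).asIdeal q.asIdeal f rfl) z = y q :=
    fun q => hsurj q (y q)
  choose pre hpre using hs
  let x : η.N A := fun p =>
    if h : ∃ q, PrimeSpectrum.comap f q = p then h.choose_spec ▸ pre h.choose else 0
  have key : ∀ q, x (PrimeSpectrum.comap f q) = pre q := by
    intro q
    have aux : ∀ (q' : PrimeSpectrum B)
        (hq' : PrimeSpectrum.comap f q' = PrimeSpectrum.comap f q),
        (hq' ▸ pre q' : η.obj (PrimeSpectrum.comap f q).asIdeal.ResidueField) = pre q := by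
      intro q' hq'
      have : q' = q := hinj hq'
      subst this
      rfl
    have hex : ∃ q', PrimeSpectrum.comap f q' = PrimeSpectrum.comap f q := ⟨q, rfl⟩
    change (if h : ∃ q', PrimeSpectrum.comap f q' = PrimeSpectrum.comap f q then
      h.choose_spec ▸ pre h.choose else 0) = pre q
    rw [dif_pos hex]
    exact aux _ _
  refine ⟨x, ?_⟩
  funext q
  rw [Nmap_apply, key, hpre]

theorem Nmap_q_bijective (hA : (minimalPrimes A).Finite) :
    Function.Bijective (η.Nmap (η.q A)) := by
  constructor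
  · rw [injective_iff_map_eq_zero]
    intro x hx
    funext P
    exact eq_zero_of_Nmap_eq_zero' η (η.q A) hx (primeOver η P) P
      (congrArg PrimeSpectrum.asIdeal (comap_q_primeOver η P)).symm
  · intro y
    apply exists_Nmap_eq' η (η.q A) (comap_q_injective η hA)
    intro Q
    obtain ⟨φ, -, hφ⟩ := exists_factor η hA Q
    exact (map_bijective_of_comp_eq_eta η _ φ hφ).2

/-- On `M A`, the map `N (q_A)` is the diagonal of `M A`. -/
theorem Nmap_q_eq_t (hA : (minimalPrimes A).Finite) (x : η.M A) :
    η.Nmap (η.q A) (x : η.N A) = η.t (η.M A) x := by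
  funext Q
  obtain ⟨φ, hφx, hφ⟩ := exists_factor η hA Q
  apply map_injective η φ
  rw [Nmap_apply, ← map_comp_apply, hφ, t_apply, eta_natural_apply, hφx, eta_obj_eq]

end Groth.Agent.Lib.EtaPtSpec
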