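import Groth.Agent.Lib.EtaPtBasic
import Mathlib.RingTheory.Valuation.LocalSubring
import Mathlib.RingTheory.Spectrum.Prime.Topology

/-!
`EtaPt`: valuation-ring arguments.  Transfer of `InV` along fraction fields, valuation subrings
dominating a prime of a domain, and the vanishing criterion: an element of `M A` (for a domain
`A` with `η` bijective at `Frac A`) whose generic component is zero is zero.
-/

set_option autoImplicit false
universe u

namespace Groth.Agent.Lib.EtaPtVal

open EtaPt EtaPt.FieldEndo Groth.Agent.Lib.EtaPtBasic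

variable (η : EtaPt.FieldEndo.{u})

section Apply

variable {A B : Type u} [CommRing A] [CommRing B]

theorem Nmap_apply' (f : A →+* B) (x : η.N A) (q : PrimeSpectrum B) (p : PrimeSpectrum A)
    (h : p.asIdeal = q.asIdeal.comap f) :
    η.Nmap f x q = η.map (Ideal.ResidueField.map p.asIdeal q.asIdeal f h) (x p) := by
  have hp : p = PrimeSpectrum.comap f q := PrimeSpectrum.ext h
  subst hp
  rfl

theorem eq_zero_of_Nmap_eq_zero' (f : A →+* B) {x : η.N A} (hx : η.Nmap f x = 0)
    (q : PrimeSpectrum B) (p : PrimeSpectrum A) (h : p.asIdeal = q.asIdeal.comap f) :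
    x p = 0 := by
  have hp : p = PrimeSpectrum.comap f q := PrimeSpectrum.ext h
  subst hp
  exact eq_zero_of_Nmap_eq_zero η f hx q

end Apply

section Transfer

theorem eta_bijective_of_ringEquiv {K L : Type u} [Field K] [Field L] (σ : K ≃+* L)
    (h : Function.Bijective (η.eta K)) : Function.Bijective (η.eta L) := by
  have hnat : ∀ x : K, η.map (σ : K →+* L) (η.eta K x) = η.eta L (σ x) :=
    fun x => eta_natural_apply η (σ : K →+* L) x
  have hF : Function.Bijective (η.map (σ : K →+* L)) := map_bijective η _ σ.bijective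
  refine ⟨(η.eta L).injective, fun y => ?_⟩
  obtain ⟨z, rfl⟩ := hF.2 y
  obtain ⟨w, rfl⟩ := h.2 z
  exact ⟨σ w, (hnat w).symm⟩

theorem inV_iff_of_isFractionRing (R : Type u) [CommRing R] [IsDomain R] (K : Type u) [Field K]
    [Algebra R K] [IsFractionRing R K] : η.InV R ↔ Function.Bijective (η.eta K) := by
  let σ : FractionRing R ≃+* K := (FractionRing.algEquiv R K).toRingEquiv
  exact ⟨eta_bijective_of_ringEquiv η σ, eta_bijective_of_ringEquiv η σ.symm⟩

end Transfer

section Domination

variable (A : Type u) [CommRing A] [IsDomain A] (K : Type u) [Field K] [Algebra A K]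
  [IsFractionRing A K]

omit [IsDomain A] in
/-- A valuation subring of the fraction field dominating the localization at a prime. -/
theorem exists_valuationSubring_dominating (p : PrimeSpectrum A) :
    ∃ (V : ValuationSubring K) (g : A →+* V), (∀ a, (g a : K) = algebraMap A K a) ∧
      p.asIdeal = (IsLocalRing.maximalIdeal V).comap g := by
  have hunit : ∀ y : p.asIdeal.primeCompl, IsUnit (algebraMap A K y) := by
    intro y
    apply IsUnit.mk0
    intro h0
    have : (y : A) = 0 := (IsFractionRing.injective A K) (by rw [h0, map_zero])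
    exact y.2 (by rw [this]; exact p.asIdeal.zero_mem)
  let f : Localization.AtPrime p.asIdeal →+* K :=
    IsLocalization.lift (M := p.asIdeal.primeCompl) (g := algebraMap A K) hunit
  obtain ⟨V, h, hloc⟩ := IsLocalRing.exists_factor_valuationRing f
  let f' : Localization.AtPrime p.asIdeal →+* V := f.codRestrict V.toSubring h
  have : IsLocalHom f' := hloc
  refine ⟨V, f'.comp (algebraMap A (Localization.AtPrime p.asIdeal)), ?_, ?_⟩
  · intro a
    change f (algebraMap A _ a) = _
    exact IsLocalization.lift_eq _ _
  · rw [← Ideal.comap_comap]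
    have h1 : (IsLocalRing.maximalIdeal V).comap f' =
        IsLocalRing.maximalIdeal (Localization.AtPrime p.asIdeal) :=
      IsLocalRing.maximalIdeal_comap f'
    rw [h1]
    exact (Localization.AtPrime.under_maximalIdeal (I := p.asIdeal)).symm

end Domination

section Vanish

/-- For a domain `A` at whose fraction field `η` is bijective, an element of `M A` with zero
generic component is zero. -/
theorem eq_zero_of_generic_eq_zero (A : Type u) [CommRing A] [IsDomain A] (hA : η.InV A)
    {y : η.N A} (hy : y ∈ η.M A) (h0 : y ⟨⊥, Ideal.isPrime_bot⟩ = 0) : y = 0 := by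
  funext p
  obtain ⟨V, g, hg, hp⟩ := exists_valuationSubring_dominating A (⊥ : Ideal A).ResidueField p
  have hK : Function.Bijective (η.eta (⊥ : Ideal A).ResidueField) :=
    (inV_iff_of_isFractionRing η A _).mp hA
  have hV : η.InV V := (inV_iff_of_isFractionRing η V (⊥ : Ideal A).ResidueField).mpr hK
  obtain ⟨r, hr⟩ := hy V hV g
  have hginj : Function.Injective g := by
    intro a b hab
    apply IsFractionRing.injective A (⊥ : Ideal A).ResidueField
    rw [← hg, ← hg, hab]
  have hbot : (⊥ : Ideal A) = (⊥ : Ideal V).comap g := by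
    ext a
    rw [Ideal.mem_comap, Ideal.mem_bot, Ideal.mem_bot]
    exact ⟨fun h => by rw [h, map_zero], fun h => hginj (by rw [h, map_zero])⟩
  have h1 : η.Nmap g y ⟨⊥, Ideal.isPrime_bot⟩ = 0 := by
    rw [Nmap_apply' η g y ⟨⊥, Ideal.isPrime_bot⟩ ⟨⊥, Ideal.isPrime_bot⟩ hbot, h0, map_zero]
  have h2 : r = 0 := by
    have h3 := congrFun hr ⟨⊥, Ideal.isPrime_bot⟩
    rw [h1, t_apply] at h3
    have h4 : algebraMap V (⊥ : Ideal V).ResidueField r = 0 :=
      (η.eta _).injective (by rw [h3, map_zero])
    rw [Ideal.algebraMap_residueField_eq_zero] at h4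
    simpa using h4
  have h5 : η.Nmap g y = 0 := by rw [← hr, h2, map_zero]
  exact eq_zero_of_Nmap_eq_zero' η g h5 (IsLocalRing.closedPoint V) p hp

end Vanish

end Groth.Agent.Lib.EtaPtVal
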