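import Groth.Agent.Lib.EtaPtDescent
import Mathlib.Algebra.GCDMonoid.IntegrallyClosed
import Mathlib.RingTheory.Bezout
import Mathlib.FieldTheory.Perfect
import Mathlib.Algebra.CharP.Algebra

/-!
`EtaPt`: the ring `M R` of a valuation ring `R` (not necessarily in `V_η`).

* `pow_inj_surj_of_perfect`: injectivity/surjectivity of `x ↦ x ^ e ^ n`.
* `exists_of_isIntegralElem_eta`, `exists_mem_M_of_inV`, `exists_mem_M_of_perfect`: elements of
  `F (k(0))` integral over `R` are generic components of elements of `M R`.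
* `generic_injOn`, `generic_image`.
-/

set_option autoImplicit false
universe u

namespace Groth.Agent.Lib.EtaPtValRing

open EtaPt EtaPt.FieldEndo Groth.Agent.Lib.EtaPtBasic Groth.Agent.Lib.EtaPtVal
  Groth.Agent.Lib.EtaPtStruct Groth.Agent.Lib.EtaPtDescent

variable (η : EtaPt.FieldEndo.{u})

/-- `x ↦ x ^ e ^ n` is injective on fields receiving a map from a domain `R` of exponential
characteristic `e`, and surjective on those at which `η` is bijective, under the perfectness
hypothesis. -/
theorem pow_inj_surj_of_perfect (R : Type u) [CommRing R] [IsDomain R] (e : ℕ) [ExpChar R e]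
    (k : Type u) [Field k] (ψ : R →+* k) (n : ℕ) :
    Function.Injective (fun w : k => w ^ e ^ n) ∧
    ((∀ (k : Type u) [Field k], ringChar k = ringChar R →
      Function.Bijective (η.eta k) → PerfectField k) →
      Function.Bijective (η.eta k) → Function.Surjective (fun w : k => w ^ e ^ n)) := by
  rcases ‹ExpChar R e› with _ | ⟨hprime⟩
  · simp only [one_pow, pow_one]
    exact ⟨fun a b h => h, fun _ _ a => ⟨a, rfl⟩⟩
  · have h0 : ((e : ℕ) : k) = 0 := by
      have : ((e : ℕ) : R) = 0 := CharP.cast_eq_zero R e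
      rw [← map_natCast ψ, this, map_zero]
    have hchar : ringChar k = e := CharP.ringChar_of_prime_eq_zero hprime h0
    have : CharP k e := ringChar.of_eq hchar
    have : ExpChar k e := ExpChar.prime hprime
    refine ⟨fun a b h => ?_, fun hperf hk a => ?_⟩
    · apply iterateFrobenius_inj k e n
      rw [iterateFrobenius_def, iterateFrobenius_def]
      exact h
    · have : PerfectField k := hperf k (by rw [hchar, ringChar.eq R e]) hk
      obtain ⟨w, hw⟩ := (bijective_iterateFrobenius k e n).2 a
      exact ⟨w, by rw [← hw, iterateFrobenius_def]⟩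

section ValRing

variable (R : Type u) [CommRing R] [IsDomain R] [ValuationRing R]

/-- An element of the fraction field `k(0)` of a valuation ring `R` whose image in `F (k(0))`
is integral over `R` lies in `R`. -/
theorem exists_of_isIntegralElem_eta {c : (⊥ : Ideal R).ResidueField}
    (hc : ((η.eta (⊥ : Ideal R).ResidueField).comp
      (algebraMap R (⊥ : Ideal R).ResidueField)).IsIntegralElem (η.eta _ c)) :
    ∃ c₀ : R, algebraMap R (⊥ : Ideal R).ResidueField c₀ = c := by
  have h1 : (algebraMap R (⊥ : Ideal R).ResidueField).IsIntegralElem c :=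
    RingHom.IsIntegralElem.of_map (η.eta (⊥ : Ideal R).ResidueField).injective hc
  exact IsIntegrallyClosed.algebraMap_eq_of_integral h1

theorem exists_mem_M_of_inV (hR : η.InV R) {y : η.obj (⊥ : Ideal R).ResidueField}
    (hy : ((η.eta (⊥ : Ideal R).ResidueField).comp
      (algebraMap R (⊥ : Ideal R).ResidueField)).IsIntegralElem y) :
    ∃ x ∈ η.M R, x ⟨⊥, Ideal.isPrime_bot⟩ = y := by
  have hK : Function.Bijective (η.eta (⊥ : Ideal R).ResidueField) :=
    (inV_iff_of_isFractionRing η R _).mp hR
  obtain ⟨c, rfl⟩ := hK.2 y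
  obtain ⟨c₀, rfl⟩ := exists_of_isIntegralElem_eta η R hy
  exact ⟨η.t R c₀, η.t_mem_M R c₀, t_apply η c₀ _⟩

theorem exists_mem_M_of_perfect
    (hperf : ∀ (k : Type u) [Field k], ringChar k = ringChar R →
      Function.Bijective (η.eta k) → PerfectField k)
    {y : η.obj (⊥ : Ideal R).ResidueField}
    (hy : ((η.eta (⊥ : Ideal R).ResidueField).comp
      (algebraMap R (⊥ : Ideal R).ResidueField)).IsIntegralElem y) :
    ∃ x ∈ η.M R, x ⟨⊥, Ideal.isPrime_bot⟩ = y := by
  classical
  set K := (⊥ : Ideal R).ResidueField with hKdef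
  have hinjRK : Function.Injective (algebraMap R K) := IsFractionRing.injective R K
  have hexpK : ExpChar K (ringExpChar R) :=
    expChar_of_injective_ringHom hinjRK (ringExpChar R)
  have heq : ringExpChar K = ringExpChar R := ringExpChar.eq K (ringExpChar R)
  obtain ⟨n, z, hz⟩ := η.exists_pow_mem_range_eta K y
  rw [heq] at hz
  set e := ringExpChar R with he
  -- `z` comes from `R`
  have hzint : ((η.eta K).comp (algebraMap R K)).IsIntegralElem (η.eta K z) := by
    rw [hz]
    let _ := ((η.eta K).comp (algebraMap R K)).toAlgebra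
    exact IsIntegral.pow hy _
  obtain ⟨z₀, hz₀⟩ := exists_of_isIntegralElem_eta η R hzint
  -- roots in every `F (k(𝔮))`
  have hroot : ∀ 𝔮 : PrimeSpectrum R, ∃ w : η.obj 𝔮.asIdeal.ResidueField,
      w ^ e ^ n = η.eta _ (algebraMap R 𝔮.asIdeal.ResidueField z₀) := by
    intro 𝔮
    exact (pow_inj_surj_of_perfect η R e _
      ((η.eta 𝔮.asIdeal.ResidueField).comp (algebraMap R 𝔮.asIdeal.ResidueField)) n).2 hperf
      (eta_obj_bijective η _) _
  choose x hx using hroot
  refine ⟨x, ?_, ?_⟩
  · intro R' _ _ _ hR' g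
    -- the root in `Frac R'`
    obtain ⟨rK, hrK⟩ := (pow_inj_surj_of_perfect η R e (FractionRing R')
      ((algebraMap R' (FractionRing R')).comp g) n).2 hperf hR'
      (algebraMap R' (FractionRing R') (g z₀))
    simp only at hrK
    have hen : e ^ n ≠ 0 := pow_ne_zero _ (expChar_pos R e).ne'
    have hint : IsIntegral R' rK := by
      refine ⟨Polynomial.X ^ (e ^ n) - Polynomial.C (g z₀),
        Polynomial.monic_X_pow_sub_C _ hen, ?_⟩
      simp [hrK]
    obtain ⟨r', hr'⟩ := IsIntegrallyClosed.algebraMap_eq_of_integral hint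
    have hr'pow : r' ^ e ^ n = g z₀ := by
      apply IsFractionRing.injective R' (FractionRing R')
      rw [map_pow, hr', hrK]
    refine ⟨r', ?_⟩
    funext 𝔮'
    apply (pow_inj_surj_of_perfect η R e _
      ((η.eta 𝔮'.asIdeal.ResidueField).comp ((algebraMap R' 𝔮'.asIdeal.ResidueField).comp g))
      n).1
    simp only
    rw [t_apply, ← map_pow, ← map_pow, hr'pow, Nmap_apply, ← map_pow, hx, eta_natural_apply,
      Ideal.ResidueField.map_algebraMap]
  · apply pow_injective (η.eta K) n
    rw [heq, hx, hz₀, hz]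

/-- The generic component is injective on `M A`, for any domain `A`. -/
theorem generic_injOn (A : Type u) [CommRing A] [IsDomain A] :
    Set.InjOn (fun x : η.N A => x ⟨⊥, Ideal.isPrime_bot⟩) (η.M A) := by
  intro x hx y hy hxy
  have h0 : x - y = 0 := by
    funext P
    refine eq_zero_of_le η (Subring.sub_mem _ hx hy) (p := ⟨⊥, Ideal.isPrime_bot⟩) (P := P)
      bot_le ?_
    simp only at hxy
    rw [Pi.sub_apply, hxy, sub_self]
  exact sub_eq_zero.mp h0

theorem generic_image
    (hη : η.InV R ∨ ∀ (k : Type u) [Field k], ringChar k = ringChar R →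
      Function.Bijective (η.eta k) → PerfectField k) :
    (fun x : η.N R => x ⟨⊥, Ideal.isPrime_bot⟩) '' (η.M R : Set (η.N R)) =
      {y | ((η.eta (⊥ : Ideal R).ResidueField).comp
        (algebraMap R (⊥ : Ideal R).ResidueField)).IsIntegralElem y} := by
  ext y
  constructor
  · rintro ⟨x, hx, rfl⟩
    exact isIntegralElem_of_mem_M η hx ⟨⊥, Ideal.isPrime_bot⟩
  · intro hy
    rcases hη with h | h
    · obtain ⟨x, hx, hxy⟩ := exists_mem_M_of_inV η R h hy
      exact ⟨x, hx, hxy⟩
    · obtain ⟨x, hx, hxy⟩ := exists_mem_M_of_perfect η R h hy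
      exact ⟨x, hx, hxy⟩

/-- Every element of `F (k(0))` or its inverse is integral over the valuation ring `R`. -/
theorem isIntegralElem_or_inv (u : η.obj (⊥ : Ideal R).ResidueField) :
    ((η.eta (⊥ : Ideal R).ResidueField).comp
      (algebraMap R (⊥ : Ideal R).ResidueField)).IsIntegralElem u ∨
    ((η.eta (⊥ : Ideal R).ResidueField).comp
      (algebraMap R (⊥ : Ideal R).ResidueField)).IsIntegralElem u⁻¹ := by
  obtain ⟨n, z, hz⟩ := η.exists_pow_mem_range_eta (⊥ : Ideal R).ResidueField u
  have hN : ringExpChar (⊥ : Ideal R).ResidueField ^ n ≠ 0 :=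
    pow_ne_zero _ (expChar_pos (⊥ : Ideal R).ResidueField _).ne'
  rcases ValuationRing.isInteger_or_isInteger R z with ⟨a, ha⟩ | ⟨a, ha⟩
  · left
    refine ⟨Polynomial.X ^ (ringExpChar (⊥ : Ideal R).ResidueField ^ n) - Polynomial.C a,
      Polynomial.monic_X_pow_sub_C _ hN, ?_⟩
    rw [Polynomial.eval₂_sub, Polynomial.eval₂_pow, Polynomial.eval₂_X, Polynomial.eval₂_C,
      RingHom.comp_apply, ha, hz, sub_self]
  · right
    refine ⟨Polynomial.X ^ (ringExpChar (⊥ : Ideal R).ResidueField ^ n) - Polynomial.C a,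
      Polynomial.monic_X_pow_sub_C _ hN, ?_⟩
    rw [Polynomial.eval₂_sub, Polynomial.eval₂_pow, Polynomial.eval₂_X, Polynomial.eval₂_C,
      RingHom.comp_apply, ha, map_inv₀, hz, inv_pow, sub_self]

end ValRing

end Groth.Agent.Lib.EtaPtValRing
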