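import Mathlib.RingTheory.IntegralClosure.IsIntegralClosure.Basic
import Mathlib.RingTheory.Adjoin.Basic
import Mathlib.Algebra.Algebra.Operations

set_option autoImplicit false
universe u

namespace Groth.Agent.Lib.EtaleCharP57

open scoped Pointwise

section Rewrite

variable {S C : Type*} [CommRing S] [CommRing C] [Algebra S C] {ι : Type*} [Fintype ι]
  (z : ι → C)

/-- the monomial `z^a` -/
def mon (a : ι → ℕ) : C := ∏ i, z i ^ a i

/-- total degree of an exponent vector -/
def deg (a : ι → ℕ) : ℕ := ∑ i, a i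

lemma mon_add (a b : ι → ℕ) : mon z (a + b) = mon z a * mon z b := by
  simp [mon, pow_add, Finset.prod_mul_distrib]

lemma deg_add (a b : ι → ℕ) : deg (a + b) = deg a + deg b := by
  simp [deg, Finset.sum_add_distrib]

lemma mon_zero : mon z (0 : ι → ℕ) = 1 := by simp [mon]

lemma deg_zero : deg (0 : ι → ℕ) = 0 := by simp [deg]

lemma mon_single [DecidableEq ι] (i : ι) (e : ℕ) : mon z (Pi.single i e) = z i ^ e := by
  rw [mon, Finset.prod_eq_single i]
  · simp
  · intro j _ hj
    simp [hj]
  · intro h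
    exact absurd (Finset.mem_univ i) h

lemma deg_single [DecidableEq ι] (i : ι) (e : ℕ) : deg (Pi.single i e : ι → ℕ) = e := by
  simp [deg, Finset.sum_pi_single']

variable (S)

/-- the `S`-span of monomials in `z` of degree `≤ t`. -/
def M (t : ℕ) : Submodule S C := Submodule.span S {c | ∃ a : ι → ℕ, deg a ≤ t ∧ c = mon z a}

lemma mon_mem_M (a : ι → ℕ) (t : ℕ) (h : deg a ≤ t) : mon z a ∈ M S z t :=
  Submodule.subset_span ⟨a, h, rfl⟩

lemma M_mono {s t : ℕ} (h : s ≤ t) : M S z s ≤ M S z t := by
  apply Submodule.span_mono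
  rintro _ ⟨a, ha, rfl⟩
  exact ⟨a, ha.trans h, rfl⟩

lemma mul_mem_M {s t : ℕ} {x y : C} (hx : x ∈ M S z s) (hy : y ∈ M S z t) :
    x * y ∈ M S z (s + t) := by
  have h1 : x * y ∈ M S z s * M S z t := Submodule.mul_mem_mul hx hy
  refine (?_ : M S z s * M S z t ≤ M S z (s + t)) h1
  rw [M, M, Submodule.span_mul_span, Submodule.span_le]
  rintro _ ⟨_, ⟨a, ha, rfl⟩, _, ⟨b, hb, rfl⟩, rfl⟩
  refine mon_mem_M S z (a + b) _ ?_ |> fun h => by rwa [mon_add] at h
  rw [deg_add]
  omega

lemma one_mem_M (t : ℕ) : (1 : C) ∈ M S z t := by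
  rw [← mon_zero z]
  exact mon_mem_M S z 0 t (by simp [deg_zero])

lemma algebraMap_mem_M (t : ℕ) (r : S) : algebraMap S C r ∈ M S z t := by
  rw [Algebra.algebraMap_eq_smul_one]
  exact Submodule.smul_mem _ _ (one_mem_M S z t)

lemma pow_mem_M {s : ℕ} {x : C} (hx : x ∈ M S z s) (e : ℕ) : x ^ e ∈ M S z (s * e) := by
  induction e with
  | zero => simpa using one_mem_M S z 0
  | succ e ih =>
    rw [pow_succ, Nat.mul_succ]
    exact mul_mem_M S z ih hx

lemma z_pow_mem_M [DecidableEq ι] (i : ι) (e : ℕ) : z i ^ e ∈ M S z e := by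
  rw [← mon_single z i e]
  exact mon_mem_M S z _ _ (by rw [deg_single])

/-- the span of the reduced monomials -/
def Mred (d : ι → ℕ) : Submodule S C :=
  Submodule.span S {c | ∃ b : ι → ℕ, (∀ i, b i < d i) ∧ c = mon z b}

lemma Mred_fg (d : ι → ℕ) : (Mred S z d).FG := by
  have hfin : {b : ι → ℕ | ∀ i, b i < d i}.Finite := by
    have : {b : ι → ℕ | ∀ i, b i < d i} = Set.pi Set.univ (fun i => Set.Iio (d i)) := by
      ext b; simp
    rw [this]
    exact Set.Finite.pi (fun i => Set.finite_Iio (d i))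
  have : {c | ∃ b : ι → ℕ, (∀ i, b i < d i) ∧ c = mon z b} = mon z '' {b | ∀ i, b i < d i} := by
    ext c
    constructor
    · rintro ⟨b, hb, rfl⟩; exact ⟨b, hb, rfl⟩
    · rintro ⟨b, hb, rfl⟩; exact ⟨b, hb, rfl⟩
  rw [Mred, this]
  exact Submodule.fg_span (hfin.image _)

/-- **Rewriting lemma**: if each `z_i ^ d_i` is a combination of monomials of lower degree, every
monomial is a combination of reduced monomials. -/
theorem mon_mem_Mred [DecidableEq ι] (d : ι → ℕ) (hd : ∀ i, 0 < d i)
    (hz : ∀ i, z i ^ d i ∈ M S z (d i - 1)) : ∀ (t : ℕ) (a : ι → ℕ), deg a = t →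
    mon z a ∈ Mred S z d := by
  intro t
  induction t using Nat.strong_induction_on with
  | _ t ih =>
    intro a hat
    by_cases hred : ∀ i, a i < d i
    · exact Submodule.subset_span ⟨a, hred, rfl⟩
    push Not at hred
    obtain ⟨i, hi⟩ := hred
    have hMle : ∀ s, s < t → M S z s ≤ Mred S z d := by
      intro s hs
      rw [M, Submodule.span_le]
      rintro _ ⟨b, hb, rfl⟩
      exact ih (deg b) (lt_of_le_of_lt hb hs) b rfl
    set a' : ι → ℕ := a - Pi.single i (d i) with ha'
    have hsum : a = a' + Pi.single i (d i) := by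
      funext j
      by_cases hj : j = i
      · subst hj; simp [ha', Nat.sub_add_cancel hi]
      · simp [ha', hj]
    have hdeg : deg a = deg a' + d i := by
      conv_lhs => rw [hsum]
      rw [deg_add, deg_single]
    have hmon : mon z a = mon z a' * z i ^ d i := by
      conv_lhs => rw [hsum]
      rw [mon_add, mon_single]
    rw [hmon]
    have h1 := mul_mem_M S z (mon_mem_M S z a' (deg a') le_rfl) (hz i)
    refine hMle _ ?_ h1
    have := hd i
    omega

/-- under the hypotheses of the rewriting lemma, every `z_i` is integral over `S`. -/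
theorem isIntegral_of_rewrite [DecidableEq ι] (d : ι → ℕ) (hd : ∀ i, 0 < d i)
    (hz : ∀ i, z i ^ d i ∈ M S z (d i - 1)) (i : ι) : IsIntegral S (z i) := by
  have hsub : (Algebra.adjoin S (Set.range z)).toSubmodule = Mred S z d := by
    rw [Algebra.adjoin_eq_span]
    apply le_antisymm
    · rw [Submodule.span_le]
      intro x hx
      have : ∃ a, x = mon z a := by
        induction hx using Submonoid.closure_induction with
        | mem x hx =>
          obtain ⟨j, rfl⟩ := hx
          exact ⟨Pi.single j 1, by rw [mon_single, pow_one]⟩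
        | one => exact ⟨0, (mon_zero z).symm⟩
        | mul x y _ _ hx hy =>
          obtain ⟨a, rfl⟩ := hx
          obtain ⟨b, rfl⟩ := hy
          exact ⟨a + b, (mon_add z a b).symm⟩
      obtain ⟨a, rfl⟩ := this
      exact mon_mem_Mred S z d hd hz _ a rfl
    · rw [Mred, Submodule.span_le]
      rintro _ ⟨b, -, rfl⟩
      apply Submodule.subset_span
      change (∏ j, z j ^ b j) ∈ Submonoid.closure (Set.range z)
      exact Submonoid.prod_mem _ (fun j _ => Submonoid.pow_mem _
        (Submonoid.subset_closure (Set.mem_range_self j)) _)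
  refine IsIntegral.of_mem_of_fg (Algebra.adjoin S (Set.range z)) ?_ (z i)
    (Algebra.subset_adjoin ⟨i, rfl⟩)
  rw [hsub]
  exact Mred_fg S z d

end Rewrite

end Groth.Agent.Lib.EtaleCharP57
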