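import Groth.Agent.Lib.EtaleCharP57a
import Mathlib.RingTheory.MvPolynomial.Basic
import Mathlib.Algebra.MvPolynomial.Degrees

set_option autoImplicit false
universe u

namespace Groth.Agent.Lib.EtaleCharP57

open MvPolynomial

section LemmaM

variable {k : Type*} [Field k] {E : Type*} [CommRing E] [Algebra k E] {n : ℕ}

/-- the filtration argument: if `E` is integral over `k[z]`, then for `N` large, `E` is integral
over `k[x_1 + z_1^N, …, x_n + z_n^N]`, for arbitrary `x_i`. -/
theorem exists_integral_shift (z x : Fin n → E)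
    (hζ : (aeval z : MvPolynomial (Fin n) k →ₐ[k] E).toRingHom.IsIntegral) :
    ∃ N₀ : ℕ, ∀ N, N₀ ≤ N →
      (aeval (fun i => x i + z i ^ N) : MvPolynomial (Fin n) k →ₐ[k] E).toRingHom.IsIntegral := by
  classical
  -- monic equations for the `x i`, of positive degree
  have hx : ∀ i, ∃ q : Polynomial (MvPolynomial (Fin n) k), q.Monic ∧ 0 < q.natDegree ∧
      Polynomial.eval₂ (aeval z : MvPolynomial (Fin n) k →ₐ[k] E).toRingHom (x i) q = 0 := by
    intro i
    obtain ⟨q, hq, hq0⟩ := hζ (x i)
    refine ⟨q * Polynomial.X, hq.mul Polynomial.monic_X, ?_, ?_⟩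
    · rw [hq.natDegree_mul Polynomial.monic_X, Polynomial.natDegree_X]
      omega
    · rw [Polynomial.eval₂_mul, hq0, zero_mul]
  choose q hqm hqd hq0 using hx
  set D : ℕ := Finset.univ.sup (fun i => (Finset.range ((q i).natDegree + 1)).sup
    (fun j => ((q i).coeff j).totalDegree)) with hD
  have hDle : ∀ i j, j ≤ (q i).natDegree → ((q i).coeff j).totalDegree ≤ D := by
    intro i j hj
    refine le_trans ?_ (Finset.le_sup (f := fun i => (Finset.range ((q i).natDegree + 1)).sup
      (fun j => ((q i).coeff j).totalDegree)) (Finset.mem_univ i))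
    exact Finset.le_sup (f := fun j => ((q i).coeff j).totalDegree)
      (Finset.mem_range.mpr (by omega))
  refine ⟨D + 1, fun N hN => ?_⟩
  set y : Fin n → E := fun i => x i + z i ^ N with hy
  letI : Algebra (MvPolynomial (Fin n) k) E := (aeval y : MvPolynomial (Fin n) k →ₐ[k] E).toRingHom.toAlgebra
  have halg : ∀ a : MvPolynomial (Fin n) k, algebraMap (MvPolynomial (Fin n) k) E a = aeval y a :=
    fun a => rfl
  have hyM : ∀ i t, y i ∈ M (MvPolynomial (Fin n) k) z t := by
    intro i t
    have : y i = algebraMap (MvPolynomial (Fin n) k) E (X i) := by rw [halg, aeval_X]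
    rw [this]
    exact algebraMap_mem_M _ z t _
  -- Claim A
  have claimA : ∀ a : MvPolynomial (Fin n) k, a.totalDegree ≤ D →
      aeval z a ∈ M (MvPolynomial (Fin n) k) z D := by
    intro a ha
    rw [aeval_def, eval₂_eq']
    refine Submodule.sum_mem _ fun m hm => ?_
    have h1 : algebraMap k E (coeff m a) = algebraMap (MvPolynomial (Fin n) k) E (MvPolynomial.C (coeff m a)) := by
      rw [halg, aeval_C]
    rw [h1, ← Algebra.smul_def]
    refine Submodule.smul_mem _ _ ?_
    refine mon_mem_M _ z (fun i => m i) D ?_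
    refine le_trans ?_ ha
    have := le_totalDegree hm
    rwa [Finsupp.sum_fintype _ _ (fun _ => rfl)] at this
  have hN1 : 1 ≤ N := by omega
  -- per-index computation
  have hz : ∀ i, z i ^ (N * (q i).natDegree) ∈
      M (MvPolynomial (Fin n) k) z (N * (q i).natDegree - 1) := by
    intro i
    set m := (q i).natDegree with hm
    set w : E := -(z i ^ N) with hw
    have hwM : w ∈ M (MvPolynomial (Fin n) k) z N :=
      Submodule.neg_mem _ (z_pow_mem_M _ z i N)
    have hxw : x i = y i + w := by simp [hy, hw]
    have hxM : x i ∈ M (MvPolynomial (Fin n) k) z N := by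
      rw [hxw]
      exact Submodule.add_mem _ (hyM i N) hwM
    have claimB : ∀ e, x i ^ e ∈ M (MvPolynomial (Fin n) k) z (N * e) := fun e =>
      pow_mem_M _ z hxM e
    have claimC : ∀ e, x i ^ e - w ^ e ∈ M (MvPolynomial (Fin n) k) z (N * e - 1) := by
      intro e
      induction e with
      | zero => simp
      | succ e ih =>
        have h1 : x i ^ (e + 1) - w ^ (e + 1) = x i ^ e * y i + (x i ^ e - w ^ e) * w := by
          rw [hxw]; ring
        rw [h1]
        refine Submodule.add_mem _ ?_ ?_
        · refine M_mono _ z ?_ (mul_mem_M _ z (claimB e) (hyM i 0))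
          rw [Nat.mul_succ]; omega
        · rcases Nat.eq_zero_or_pos e with he | he
          · subst he; simp
          · refine M_mono _ z ?_ (mul_mem_M _ z ih hwM)
            have : 1 ≤ N * e := Nat.mul_pos (by omega) he
            rw [Nat.mul_succ]; omega
    -- the equation
    have heq := hq0 i
    rw [Polynomial.eval₂_eq_sum_range, Finset.sum_range_succ, ← hm] at heq
    have hlead : (q i).coeff m = 1 := (hqm i)
    rw [hlead, map_one, one_mul] at heq
    have hxm : x i ^ m = - ∑ j ∈ Finset.range m,
        (aeval z : MvPolynomial (Fin n) k →ₐ[k] E).toRingHom ((q i).coeff j) * x i ^ j := by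
      rw [eq_neg_iff_add_eq_zero, add_comm]; exact heq
    have hsumM : (∑ j ∈ Finset.range m,
        (aeval z : MvPolynomial (Fin n) k →ₐ[k] E).toRingHom ((q i).coeff j) * x i ^ j) ∈
        M (MvPolynomial (Fin n) k) z (N * m - 1) := by
      refine Submodule.sum_mem _ fun j hj => ?_
      have hjm : j < m := Finset.mem_range.mp hj
      refine M_mono _ z ?_ (mul_mem_M _ z (claimA _ (hDle i j (by omega))) (claimB j))
      have : N * j + N ≤ N * m := by
        rw [← Nat.mul_succ]; exact Nat.mul_le_mul_left N hjm
      omega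
    have hwm : w ^ m ∈ M (MvPolynomial (Fin n) k) z (N * m - 1) := by
      have : w ^ m = (- ∑ j ∈ Finset.range m,
        (aeval z : MvPolynomial (Fin n) k →ₐ[k] E).toRingHom ((q i).coeff j) * x i ^ j) -
          (x i ^ m - w ^ m) := by rw [← hxm]; ring
      rw [this]
      exact Submodule.sub_mem _ (Submodule.neg_mem _ hsumM) (claimC m)
    have hfin : z i ^ (N * m) = (-1 : E) ^ m * w ^ m := by
      rw [hw, ← mul_pow, neg_one_mul, neg_neg, pow_mul]
    rw [hfin]
    have h1 : ((-1 : E) ^ m) = algebraMap (MvPolynomial (Fin n) k) E ((-1) ^ m) := by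
      rw [map_pow, map_neg, map_one]
    rw [h1]
    have := mul_mem_M _ z (algebraMap_mem_M (MvPolynomial (Fin n) k) z 0 ((-1) ^ m)) hwm
    rwa [zero_add] at this
  -- all z i integral over k[y]
  have hzint : ∀ i, IsIntegral (MvPolynomial (Fin n) k) (z i) := by
    refine isIntegral_of_rewrite (MvPolynomial (Fin n) k) z (fun i => N * (q i).natDegree)
      (fun i => Nat.mul_pos (by omega) (hqd i)) hz
  -- transitivity
  set IC := integralClosure (MvPolynomial (Fin n) k) E with hIC
  have hmem : ∀ a : MvPolynomial (Fin n) k,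
      (aeval z : MvPolynomial (Fin n) k →ₐ[k] E).toRingHom a ∈ IC := by
    intro a
    induction a using MvPolynomial.induction_on with
    | C r =>
      have : (aeval z : MvPolynomial (Fin n) k →ₐ[k] E).toRingHom (MvPolynomial.C r) =
          algebraMap (MvPolynomial (Fin n) k) E (MvPolynomial.C r) := by
        rw [halg]; simp
      rw [this]
      exact IC.algebraMap_mem _
    | add a b ha hb => rw [map_add]; exact IC.add_mem ha hb
    | mul_X a i ha =>
      rw [map_mul]
      refine IC.mul_mem ha ?_
      have : (aeval z : MvPolynomial (Fin n) k →ₐ[k] E).toRingHom (X i) = z i := by simp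
      rw [this]
      exact hzint i
  let ζ' : MvPolynomial (Fin n) k →+* IC :=
    (aeval z : MvPolynomial (Fin n) k →ₐ[k] E).toRingHom.codRestrict IC hmem
  intro c
  obtain ⟨qc, hqc, hqc0⟩ := hζ c
  have hcIC : IsIntegral IC c := by
    refine ⟨qc.map ζ', hqc.map _, ?_⟩
    rw [Polynomial.eval₂_map]
    have : (algebraMap IC E).comp ζ' = (aeval z : MvPolynomial (Fin n) k →ₐ[k] E).toRingHom := by
      ext a <;> rfl
    rw [this]
    exact hqc0
  exact isIntegral_trans (A := IC) c hcIC

end LemmaM

end Groth.Agent.Lib.EtaleCharP57
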