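import Groth.Agent.Lib.EtaleCharP57b
import Mathlib.RingTheory.Etale.Basic
import Mathlib.Algebra.CharP.Lemmas
import Mathlib.Algebra.Ring.GeomSum

set_option autoImplicit false
universe u

namespace Groth.Agent.Lib.EtaleCharP57

open MvPolynomial

section Lift

variable {R A : Type u} [CommRing R] [CommRing A]

/-- instance-free unique lifting for a formally etale ring map -/
lemma lift_unique_of_formallyEtale (f : R →+* A) (hf : f.FormallyEtale)
    {B : Type u} [CommRing B] (I : Ideal B) (hI : I ^ 2 = ⊥) (τ : R →+* B) (σb : A →+* B ⧸ I)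
    (hcomm : σb.comp f = (Ideal.Quotient.mk I).comp τ) :
    ∃! σ : A →+* B, σ.comp f = τ ∧ (Ideal.Quotient.mk I).comp σ = σb := by
  letI := f.toAlgebra
  letI := τ.toAlgebra
  have hfe : Algebra.FormallyEtale R A := hf
  have bij := Algebra.FormallyEtale.comp_bijective R A I hI
  have hcm : ∀ r, σb (algebraMap R A r) = algebraMap R (B ⧸ I) r := fun r =>
    congrArg (fun h : R →+* B ⧸ I => h r) hcomm
  let σb' : A →ₐ[R] B ⧸ I := { σb with commutes' := hcm }
  obtain ⟨σ, hσ⟩ := bij.2 σb'
  refine ⟨σ.toRingHom, ⟨?_, ?_⟩, ?_⟩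
  · ext r
    exact σ.commutes r
  · ext a
    exact congrArg (fun h : A →ₐ[R] B ⧸ I => h a) hσ
  · rintro σ₂ ⟨h1, h2⟩
    let σ₂' : A →ₐ[R] B :=
      { σ₂ with commutes' := fun r => congrArg (fun h : R →+* B => h r) h1 }
    have : σ₂' = σ := by
      apply bij.1
      rw [hσ]
      ext a
      exact congrArg (fun h : A →+* B ⧸ I => h a) h2
    rw [← this]

/-- converse: unique lifting implies formally etale -/
lemma formallyEtale_of_lift_unique (f : R →+* A)
    (H : ∀ {B : Type u} [CommRing B] (I : Ideal B), I ^ 2 = ⊥ → ∀ (τ : R →+* B)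
      (σb : A →+* B ⧸ I), σb.comp f = (Ideal.Quotient.mk I).comp τ →
      ∃! σ : A →+* B, σ.comp f = τ ∧ (Ideal.Quotient.mk I).comp σ = σb) :
    f.FormallyEtale := by
  letI := f.toAlgebra
  change Algebra.FormallyEtale R A
  rw [Algebra.FormallyEtale.iff_comp_bijective]
  intro B _ _ I hI
  constructor
  · intro σ₁ σ₂ h12
    have hc1 : ((Ideal.Quotient.mk I).comp σ₁.toRingHom).comp f =
        (Ideal.Quotient.mk I).comp (algebraMap R B) := by
      ext r
      simp only [RingHom.comp_apply]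
      congr 1
      exact σ₁.commutes r
    obtain ⟨σ, -, huniq⟩ := H I hI (algebraMap R B) ((Ideal.Quotient.mk I).comp σ₁.toRingHom) hc1
    have e1 : σ₁.toRingHom = σ := huniq _ ⟨by ext r; exact σ₁.commutes r, rfl⟩
    have e2 : σ₂.toRingHom = σ := huniq _ ⟨by ext r; exact σ₂.commutes r, by
      ext a
      exact (congrArg (fun h : A →ₐ[R] B ⧸ I => h a) h12).symm⟩
    ext a
    exact congrArg (fun h : A →+* B => h a) (e1.trans e2.symm)
  · intro σb
    have hc : σb.toRingHom.comp f = (Ideal.Quotient.mk I).comp (algebraMap R B) := by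
      ext r
      exact σb.commutes r
    obtain ⟨σ, ⟨h1, h2⟩, -⟩ := H I hI (algebraMap R B) σb.toRingHom hc
    refine ⟨{ σ with commutes' := fun r => congrArg (fun h : R →+* B => h r) h1 }, ?_⟩
    ext a
    exact congrArg (fun h : A →+* B ⧸ I => h a) h2

end Lift

section PthPower

variable {B : Type*} [CommRing B]

/-- `p`-th powers are well defined modulo a square-zero ideal when `p = 0`. -/
lemma pow_eq_of_mk_eq (p : ℕ) (hp : 2 ≤ p) (hpB : (p : B) = 0) (I : Ideal B) (hI : I ^ 2 = ⊥)
    (b b' : B) (h : Ideal.Quotient.mk I b = Ideal.Quotient.mk I b') : b ^ p = b' ^ p := by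
  have h1 : b - b' ∈ I := Ideal.Quotient.eq.mp h
  have h2 : (∑ m ∈ Finset.range p, b ^ m * b' ^ (p - 1 - m)) ∈ I := by
    rw [← Ideal.Quotient.eq_zero_iff_mem, map_sum]
    have : ∀ m ∈ Finset.range p, Ideal.Quotient.mk I (b ^ m * b' ^ (p - 1 - m)) =
        (Ideal.Quotient.mk I b) ^ (p - 1) := by
      intro m hm
      have hm' := Finset.mem_range.mp hm
      rw [map_mul, map_pow, map_pow, ← h, ← pow_add]
      congr 1
      omega
    rw [Finset.sum_congr rfl this, Finset.sum_const, Finset.card_range, nsmul_eq_mul]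
    have : ((p : B ⧸ I)) = 0 := by
      have := congrArg (Ideal.Quotient.mk I) hpB
      simpa using this
    rw [this, zero_mul]
  have h3 : (∑ m ∈ Finset.range p, b ^ m * b' ^ (p - 1 - m)) * (b - b') ∈ I ^ 2 := by
    rw [pow_two]
    exact Ideal.mul_mem_mul h2 h1
  rw [hI, Ideal.mem_bot, Commute.geom_sum₂_mul (Commute.all b b')] at h3
  exact sub_eq_zero.mp h3

end PthPower

end Groth.Agent.Lib.EtaleCharP57
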