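import Groth.Agent.Lib.EtaleCharP57c
import Mathlib.Algebra.CharP.MixedCharZero
import Mathlib.Algebra.MvPolynomial.Basic

set_option autoImplicit false
universe u

namespace Groth.Agent.Lib.EtaleCharP57

open MvPolynomial

section FE

variable {k : Type u} [CommRing k] (p : ℕ) [hp : Fact p.Prime] [CharP k p] {n : ℕ}
  {A : Type u} [CommRing A] [Algebra k A]

/-- **Transfer of formal etaleness under `p`-th power shifts**: if `X_i ↦ x_i` is formally etale
then so is `X_i ↦ x_i + g_i ^ p` (characteristic `p`). -/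
theorem formallyEtale_shift (x g : Fin n → A)
    (h : (aeval x : MvPolynomial (Fin n) k →ₐ[k] A).toRingHom.FormallyEtale) :
    (aeval (fun i => x i + g i ^ p) : MvPolynomial (Fin n) k →ₐ[k] A).toRingHom.FormallyEtale := by
  set ι : MvPolynomial (Fin n) k →+* A := (aeval x : MvPolynomial (Fin n) k →ₐ[k] A).toRingHom
    with hι
  set φ : MvPolynomial (Fin n) k →+* A :=
    (aeval (fun i => x i + g i ^ p) : MvPolynomial (Fin n) k →ₐ[k] A).toRingHom with hφ
  have hιC : ∀ r, ι (C r) = algebraMap k A r := fun r => by simp [hι]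
  have hφC : ∀ r, φ (C r) = algebraMap k A r := fun r => by simp [hφ]
  have hιX : ∀ i, ι (X i) = x i := fun i => by simp [hι]
  have hφX : ∀ i, φ (X i) = x i + g i ^ p := fun i => by simp [hφ]
  apply formallyEtale_of_lift_unique
  intro B _ I hI τ σb hcomm
  have hpB : (p : B) = 0 := by
    have h1 : ((p : ℕ) : MvPolynomial (Fin n) k) = 0 := by
      rw [← map_natCast (C : k →+* MvPolynomial (Fin n) k), CharP.cast_eq_zero, map_zero]
    have := congrArg τ h1
    rwa [map_natCast, map_zero] at this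
  have hp2 : 2 ≤ p := hp.out.two_le
  have hcommA : ∀ a, σb (φ a) = Ideal.Quotient.mk I (τ a) := fun a =>
    congrArg (fun h : MvPolynomial (Fin n) k →+* B ⧸ I => h a) hcomm
  -- lifts of σb (g i)
  choose G hG using fun i => Ideal.Quotient.mk_surjective (σb (g i))
  let τ' : MvPolynomial (Fin n) k →+* B := eval₂Hom (τ.comp C) (fun i => τ (X i) - G i ^ p)
  have hτ'C : ∀ r, τ' (C r) = τ (C r) := fun r => by simp [τ']
  have hτ'X : ∀ i, τ' (X i) = τ (X i) - G i ^ p := fun i => by simp [τ']
  -- key: any lift of σb to B sends g i to something with p-th power G i ^ p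
  have key : ∀ σ : A →+* B, (Ideal.Quotient.mk I).comp σ = σb → ∀ i, σ (g i) ^ p = G i ^ p := by
    intro σ hσ i
    apply pow_eq_of_mk_eq p hp2 hpB I hI
    rw [hG i, ← hσ]
    rfl
  -- σ lifts for φ iff it lifts for ι (w.r.t. τ')
  have equivLift : ∀ σ : A →+* B, (Ideal.Quotient.mk I).comp σ = σb →
      (σ.comp φ = τ ↔ σ.comp ι = τ') := by
    intro σ hσ
    constructor
    · intro h1
      apply MvPolynomial.ringHom_ext
      · intro r
        rw [RingHom.comp_apply, hιC, ← hφC, ← RingHom.comp_apply, h1, hτ'C]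
      · intro i
        have h2 : σ (φ (X i)) = τ (X i) := congrArg (fun h : MvPolynomial (Fin n) k →+* B => h (X i)) h1
        rw [hφX, map_add, map_pow, key σ hσ i] at h2
        rw [RingHom.comp_apply, hιX, hτ'X, ← h2]
        ring
    · intro h1
      apply MvPolynomial.ringHom_ext
      · intro r
        rw [RingHom.comp_apply, hφC, ← hιC, ← RingHom.comp_apply, h1, hτ'C]
      · intro i
        have h2 : σ (ι (X i)) = τ' (X i) := congrArg (fun h : MvPolynomial (Fin n) k →+* B => h (X i)) h1
        rw [hιX, hτ'X] at h2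
        rw [RingHom.comp_apply, hφX, map_add, map_pow, key σ hσ i, h2]
        ring
  have hcomm' : σb.comp ι = (Ideal.Quotient.mk I).comp τ' := by
    apply MvPolynomial.ringHom_ext
    · intro r
      rw [RingHom.comp_apply, hιC, ← hφC, hcommA, RingHom.comp_apply, hτ'C]
    · intro i
      have h2 := hcommA (X i)
      rw [hφX, map_add, map_pow, ← hG i] at h2
      rw [RingHom.comp_apply, hιX, RingHom.comp_apply, hτ'X, map_sub, map_pow, ← h2]
      ring
  obtain ⟨σ, ⟨hσ1, hσ2⟩, huniq⟩ := lift_unique_of_formallyEtale ι h I hI τ' σb hcomm'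
  refine ⟨σ, ⟨(equivLift σ hσ2).mpr hσ1, hσ2⟩, ?_⟩
  rintro σ₂ ⟨h1, h2⟩
  exact huniq σ₂ ⟨(equivLift σ₂ h2).mp h1, h2⟩

end FE

end Groth.Agent.Lib.EtaleCharP57
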