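import Groth.Agent.Lib.EtaleCharP57d
import Groth.Agent.Lib.FTDim
import Mathlib.RingTheory.NoetherNormalization
import Mathlib.RingTheory.Unramified.LocalStructure
import Mathlib.RingTheory.RingHom.Etale
import Mathlib.RingTheory.QuasiFinite.Basic

set_option autoImplicit false
universe u

namespace Groth.Agent.Lib.EtaleCharP57

open MvPolynomial

lemma ringKrullDim_le_of_quasiFinite {R S : Type*} [CommRing R] [CommRing S] [Algebra R S]
    [Algebra.QuasiFinite R S] : ringKrullDim S ≤ ringKrullDim R :=
  Order.krullDim_le_of_strictMono (fun I => ⟨I.asIdeal.under R, inferInstance⟩) (fun I J hIJ => by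
    have hle : I.asIdeal ≤ J.asIdeal := hIJ.le
    refine lt_of_le_of_ne (Ideal.comap_mono hle) fun heq => ?_
    have := Algebra.QuasiFinite.eq_of_le_of_under_eq (R := R) I.asIdeal J.asIdeal hle
      (congrArg PrimeSpectrum.asIdeal heq)
    exact hIJ.ne (PrimeSpectrum.ext this))

lemma etale_of_formallyEtale_of_fp {k P E : Type u} [CommRing k] [CommRing P] [CommRing E]
    [Algebra k P] [Algebra k E] [Algebra.FiniteType k P] [Algebra.FinitePresentation k E]
    (φ : P →ₐ[k] E) (h : φ.toRingHom.FormallyEtale) : φ.toRingHom.Etale := by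
  letI := φ.toRingHom.toAlgebra
  haveI : IsScalarTower k P E := IsScalarTower.of_algebraMap_eq' φ.comp_algebraMap.symm
  haveI : Algebra.FormallyEtale P E := h
  haveI : Algebra.FinitePresentation P E :=
    Algebra.FinitePresentation.of_restrict_scalars_finitePresentation (R := k) (A := P) (B := E)
  change Algebra.Etale P E
  exact {}

section Main

variable (k : Type u) [Field k] (n : ℕ) (E : Type u) [CommRing E]
  [Algebra (MvPolynomial (Fin n) k) E] [Algebra k E] [IsScalarTower k (MvPolynomial (Fin n) k) E]
  [Algebra.Etale (MvPolynomial (Fin n) k) E]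

omit [Algebra.Etale (MvPolynomial (Fin n) k) E] in
include n in
lemma finiteType_of_etale [Algebra.FiniteType (MvPolynomial (Fin n) k) E] :
    Algebra.FiniteType k E :=
  Algebra.FiniteType.trans (inferInstance : Algebra.FiniteType k (MvPolynomial (Fin n) k))
    (inferInstance : Algebra.FiniteType (MvPolynomial (Fin n) k) E)

/-- an etale algebra over `k[X_1..X_n]` is integral over a polynomial subalgebra in `n` variables -/
theorem exists_integral_n :
    ∃ z : Fin n → E, (aeval z : MvPolynomial (Fin n) k →ₐ[k] E).toRingHom.IsIntegral := by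
  rcases subsingleton_or_nontrivial E with hs | hn
  · refine ⟨fun _ => 0, fun c => ⟨Polynomial.X, Polynomial.monic_X, Subsingleton.elim _ _⟩⟩
  haveI := finiteType_of_etale k n E
  obtain ⟨s, g, hginj, hgfin⟩ := exists_finite_inj_algHom_of_fg k E
  have hgint : g.toRingHom.IsIntegral := RingHom.Finite.to_isIntegral hgfin
  have hsn : s ≤ n := by
    have h1 : ringKrullDim (MvPolynomial (Fin s) k) = ringKrullDim E := by
      letI := g.toRingHom.toAlgebra
      have : Algebra.IsIntegral (MvPolynomial (Fin s) k) E := ⟨hgint⟩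
      exact Groth.Agent.Lib.FTDim.ringKrullDim_eq_of_isIntegral_of_injective hginj
    have h2 : ringKrullDim E ≤ ringKrullDim (MvPolynomial (Fin n) k) :=
      ringKrullDim_le_of_quasiFinite
    rw [← h1, Groth.Agent.Lib.FTDim.ringKrullDim_mvPolynomial,
      Groth.Agent.Lib.FTDim.ringKrullDim_mvPolynomial] at h2
    exact_mod_cast h2
  classical
  let z : Fin n → E := fun i => if h : (i : ℕ) < s then g (X ⟨i, h⟩) else 0
  refine ⟨z, ?_⟩
  have hcomp : g = (aeval z : MvPolynomial (Fin n) k →ₐ[k] E).comp (rename (Fin.castLE hsn)) := by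
    ext j
    simp [z]
  have : g.toRingHom = (aeval z : MvPolynomial (Fin n) k →ₐ[k] E).toRingHom.comp
      (rename (Fin.castLE hsn) : MvPolynomial (Fin s) k →ₐ[k] _).toRingHom := by
    conv_lhs => rw [hcomp]
    rfl
  rw [this] at hgint
  exact RingHom.IsIntegral.tower_top _ _ hgint

/-- **Etale covers of affine space in characteristic `p`**: an etale algebra over a polynomial
ring admits a finite etale polynomial subalgebra. -/
theorem exists_finite_etale (p : ℕ) [Fact p.Prime] [CharP k p] :
    ∃ φ : MvPolynomial (Fin n) k →ₐ[k] E, φ.toRingHom.Finite ∧ φ.toRingHom.Etale := by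
  obtain ⟨z, hz⟩ := exists_integral_n k n E
  set x : Fin n → E := fun i => algebraMap (MvPolynomial (Fin n) k) E (X i) with hx
  obtain ⟨N₀, hN₀⟩ := exists_integral_shift z x hz
  have hp1 : 1 ≤ p := (Fact.out : p.Prime).one_le
  have hint := hN₀ ((N₀ + 1) * p) (by nlinarith)
  have hy : (fun i => x i + z i ^ ((N₀ + 1) * p)) = fun i => x i + (z i ^ (N₀ + 1)) ^ p := by
    funext i
    rw [pow_mul]
  rw [hy] at hint
  set φ : MvPolynomial (Fin n) k →ₐ[k] E := aeval (fun i => x i + (z i ^ (N₀ + 1)) ^ p) with hφ
  haveI := finiteType_of_etale k n E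
  have hfin : φ.toRingHom.Finite := by
    have hc : algebraMap k E = φ.toRingHom.comp (algebraMap k (MvPolynomial (Fin n) k)) :=
      (φ.comp_algebraMap).symm
    exact hint.to_finite ((hc ▸ RingHom.finiteType_algebraMap.mpr inferInstance).of_comp_finiteType)
  refine ⟨φ, hfin, ?_⟩
  -- formally etale
  have hι : (aeval x : MvPolynomial (Fin n) k →ₐ[k] E) =
      IsScalarTower.toAlgHom k (MvPolynomial (Fin n) k) E := by
    ext i
    simp [hx]
  have hιfe : (aeval x : MvPolynomial (Fin n) k →ₐ[k] E).toRingHom.FormallyEtale := by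
    rw [hι]
    exact RingHom.formallyEtale_algebraMap.mpr inferInstance
  have hφfe : φ.toRingHom.FormallyEtale := formallyEtale_shift p x (fun i => z i ^ (N₀ + 1)) hιfe
  -- finite presentation
  have hfpk : Algebra.FinitePresentation k E :=
    Algebra.FinitePresentation.trans k (MvPolynomial (Fin n) k) E
  exact etale_of_formallyEtale_of_fp φ hφfe

end Main

end Groth.Agent.Lib.EtaleCharP57
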