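import Mathlib.RingTheory.Smooth.StandardSmoothCotangent
import Mathlib.RingTheory.Extension.Presentation.Submersive

set_option autoImplicit false
universe u

namespace Groth.Agent.Lib.JacobianEtale

open MvPolynomial

variable {A : Type u} [CommRing A] {n : ℕ} (P : Fin n → MvPolynomial (Fin n) A)

/-- The quotient `A[T₁..Tₙ]/(P₁..Pₙ)`. -/
abbrev Quot : Type u := MvPolynomial (Fin n) A ⧸ Ideal.span (Set.range P)

/-- The naive presubmersive presentation of `A[T]/(P)`. -/
noncomputable def pre : Algebra.PreSubmersivePresentation A (Quot P) (Fin n) (Fin n) :=
  Algebra.PreSubmersivePresentation.naive id Function.injective_id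

/-- The Jacobian determinant in the quotient. -/
noncomputable def jac : Quot P := (pre P).jacobian

lemma jac_eq : jac P = Ideal.Quotient.mk _
    (Matrix.of (fun i j => MvPolynomial.pderiv i (P j))).det := by
  classical
  rw [jac, Algebra.PreSubmersivePresentation.jacobian_eq_jacobiMatrix_det]
  have : (pre P).jacobiMatrix = Matrix.of (fun i j => MvPolynomial.pderiv i (P j)) := by
    ext i j
    rw [Algebra.PreSubmersivePresentation.jacobiMatrix_apply]
    rfl
  rw [this]
  rfl

/-- The localization of the quotient at the Jacobian determinant. -/
abbrev Loc : Type u := Localization.Away (jac P)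

/-- The presubmersive presentation of the localization. -/
noncomputable def preLoc :
    Algebra.PreSubmersivePresentation A (Loc P) (Unit ⊕ Fin n) (Unit ⊕ Fin n) :=
  (Algebra.PreSubmersivePresentation.localizationAway (Loc P) (jac P)).comp (pre P)

lemma isUnit_jacobian_preLoc : IsUnit (preLoc P).jacobian := by
  rw [preLoc, Algebra.PreSubmersivePresentation.comp_jacobian_eq_jacobian_smul_jacobian,
    Algebra.PreSubmersivePresentation.localizationAway_jacobian, Algebra.smul_def]
  have h : IsUnit (algebraMap (Quot P) (Loc P) (jac P)) :=
    IsLocalization.Away.algebraMap_isUnit (jac P)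
  exact h.mul h

/-- The submersive presentation of the localization. -/
noncomputable def subLoc :
    Algebra.SubmersivePresentation A (Loc P) (Unit ⊕ Fin n) (Unit ⊕ Fin n) where
  __ := preLoc P
  jacobian_isUnit := isUnit_jacobian_preLoc P

instance : Algebra.IsStandardSmoothOfRelativeDimension 0 A (Loc P) :=
  (subLoc P).isStandardSmoothOfRelativeDimension (by
    simp [Algebra.Presentation.dimension])

instance : Algebra.Etale A (Loc P) := inferInstance

end Groth.Agent.Lib.JacobianEtale
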