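import Groth.Agent.Lib.EtaleCharP57a
import Groth.Agent.Lib.JacobianEtale
import Groth.Agent.S3176
import Mathlib.RingTheory.Etale.Basic
import Mathlib.Algebra.MvPolynomial.PDeriv
import Mathlib.Algebra.CharP.Lemmas

set_option autoImplicit false
universe u

namespace Groth.Agent.Lib.EtaleCharP57

open MvPolynomial

section FiniteRewrite

variable {S C : Type*} [CommRing S] [CommRing C] [Algebra S C] {ι : Type*} [Fintype ι]
  (z : ι → C)

/-- under the hypotheses of the rewriting lemma, `S[z]` is a finite `S`-module. -/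
theorem finite_of_rewrite [DecidableEq ι] (d : ι → ℕ) (hd : ∀ i, 0 < d i)
    (hz : ∀ i, z i ^ d i ∈ M S z (d i - 1)) (htop : Algebra.adjoin S (Set.range z) = ⊤) :
    Module.Finite S C := by
  have hint : ∀ i, IsIntegral S (z i) := isIntegral_of_rewrite S z d hd hz
  have hfg : (Algebra.adjoin S (Set.range z)).toSubmodule.FG :=
    fg_adjoin_of_finite (Set.finite_range z) (by rintro _ ⟨i, rfl⟩; exact hint i)
  rw [htop] at hfg
  exact ⟨by simpa using hfg⟩

end FiniteRewrite

section Jac

variable {A : Type u} [CommRing A] {m : ℕ} (P : Fin m → MvPolynomial (Fin m) A)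

/-- a square system with identity Jacobian matrix is etale -/
theorem etale_of_pderiv_eq_one
    (h : ∀ i j, pderiv i (P j) = (1 : Matrix (Fin m) (Fin m) (MvPolynomial (Fin m) A)) i j) :
    Algebra.Etale A (MvPolynomial (Fin m) A ⧸ Ideal.span (Set.range P)) := by
  classical
  have hmat : (Matrix.of (fun i j => MvPolynomial.pderiv i (P j)) :
      Matrix (Fin m) (Fin m) (MvPolynomial (Fin m) A)) = 1 := by
    ext i j
    rw [Matrix.of_apply, h]
  have hunit : IsUnit (Groth.Agent.Lib.JacobianEtale.pre P).jacobian := by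
    have h1 := Groth.Agent.Lib.JacobianEtale.jac_eq P
    rw [Groth.Agent.Lib.JacobianEtale.jac, hmat, Matrix.det_one] at h1
    rw [h1, map_one]
    exact isUnit_one
  let Q : Algebra.SubmersivePresentation A
      (MvPolynomial (Fin m) A ⧸ Ideal.span (Set.range P)) (Fin m) (Fin m) :=
    { Groth.Agent.Lib.JacobianEtale.pre P with jacobian_isUnit := hunit }
  have : Algebra.IsStandardSmoothOfRelativeDimension 0 A
      (MvPolynomial (Fin m) A ⧸ Ideal.span (Set.range P)) :=
    Q.isStandardSmoothOfRelativeDimension (by simp [Algebra.Presentation.dimension])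
  infer_instance

end Jac

end Groth.Agent.Lib.EtaleCharP57

namespace Groth.Agent.Lib.EtaleCharP57

open MvPolynomial

section Sys

variable (p : ℕ) [hp : Fact p.Prime] {P : Type u} [CommRing P] [CharP P p] {m : ℕ}

/-- the system `T_j - Σ e_ji T_i^p + ξ_j(T_j^p)` -/
noncomputable def sys (e : Matrix (Fin m) (Fin m) P) (ξ : Fin m → Polynomial P) :
    Fin m → MvPolynomial (Fin m) P :=
  fun j => X j - ∑ i, C (e j i) * X i ^ p + Polynomial.aeval (X j ^ p) (ξ j)

omit hp in
lemma pderiv_X_pow_p (i l : Fin m) : pderiv i ((X l : MvPolynomial (Fin m) P) ^ p) = 0 := by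
  rw [pderiv_pow, CharP.cast_eq_zero (MvPolynomial (Fin m) P) p, zero_mul, zero_mul]

omit hp in
lemma pderiv_sys (e : Matrix (Fin m) (Fin m) P) (ξ : Fin m → Polynomial P) (i j : Fin m) :
    pderiv i (sys p e ξ j) = (1 : Matrix (Fin m) (Fin m) (MvPolynomial (Fin m) P)) i j := by
  classical
  have h0 : ∀ l : Fin m, pderiv i (C (e j l) * X l ^ p : MvPolynomial (Fin m) P) = 0 := by
    intro l
    rw [pderiv_C_mul, pderiv_X_pow_p, mul_zero]
  have h1 : pderiv i (Polynomial.aeval ((X j : MvPolynomial (Fin m) P) ^ p) (ξ j)) = 0 := by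
    rw [Derivation.map_aeval, pderiv_X_pow_p, smul_zero]
  rw [sys, map_add, map_sub, map_sum, Finset.sum_eq_zero (fun l _ => h0 l), h1, pderiv_X,
    sub_zero, add_zero, Matrix.one_apply]
  by_cases hij : i = j
  · subst hij; simp
  · simp [hij, Ne.symm hij]

/-- the quotient algebra of the system -/
abbrev SysQuot (e : Matrix (Fin m) (Fin m) P) (ξ : Fin m → Polynomial P) : Type u :=
  MvPolynomial (Fin m) P ⧸ Ideal.span (Set.range (sys p e ξ))

theorem etale_sysQuot (e : Matrix (Fin m) (Fin m) P) (ξ : Fin m → Polynomial P) :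
    Algebra.Etale P (SysQuot p e ξ) :=
  etale_of_pderiv_eq_one _ (pderiv_sys p e ξ)

theorem finite_sysQuot (e : Matrix (Fin m) (Fin m) P) (ξ : Fin m → Polynomial P)
    (hξ : ∀ j, (ξ j).Monic) (hdeg : ∀ j, 2 ≤ (ξ j).natDegree) :
    Module.Finite P (SysQuot p e ξ) := by
  classical
  set z : Fin m → SysQuot p e ξ := fun j => Ideal.Quotient.mk _ (X j) with hz
  have hp2 : 2 ≤ p := hp.out.two_le
  refine finite_of_rewrite z (fun j => p * (ξ j).natDegree)
    (fun j => Nat.mul_pos (by omega) (by have := hdeg j; omega)) ?_ ?_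
  · intro j
    set d := (ξ j).natDegree with hd
    have hd2 := hdeg j
    -- relation in the quotient
    have hrel : z j - ∑ i, algebraMap P (SysQuot p e ξ) (e j i) * z i ^ p +
        Polynomial.aeval (z j ^ p) (ξ j) = 0 := by
      have h0 : Ideal.Quotient.mk (Ideal.span (Set.range (sys p e ξ))) (sys p e ξ j) = 0 :=
        Ideal.Quotient.eq_zero_iff_mem.mpr (Ideal.subset_span ⟨j, rfl⟩)
      rw [sys, map_add, map_sub, map_sum] at h0
      have h1 : Ideal.Quotient.mk (Ideal.span (Set.range (sys p e ξ)))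
          (Polynomial.aeval ((X j : MvPolynomial (Fin m) P) ^ p) (ξ j)) =
          Polynomial.aeval (z j ^ p) (ξ j) := by
        have := Polynomial.aeval_algHom_apply (Ideal.Quotient.mkₐ P
          (Ideal.span (Set.range (sys p e ξ)))) ((X j : MvPolynomial (Fin m) P) ^ p) (ξ j)
        simp only [Ideal.Quotient.mkₐ_eq_mk, map_pow] at this
        exact this.symm
      rw [h1] at h0
      have h2 : ∀ i, Ideal.Quotient.mk (Ideal.span (Set.range (sys p e ξ)))
          (C (e j i) * X i ^ p) = algebraMap P (SysQuot p e ξ) (e j i) * z i ^ p := by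
        intro i
        rw [map_mul, map_pow]
        rfl
      rw [Finset.sum_congr rfl (fun i _ => h2 i)] at h0
      exact h0
    -- expand ξ
    rw [Polynomial.aeval_eq_sum_range, Finset.sum_range_succ, ← hd, (hξ j).coeff_natDegree,
      one_smul] at hrel
    have hpow : z j ^ (p * d) = -(z j) + ∑ i, algebraMap P (SysQuot p e ξ) (e j i) * z i ^ p -
        ∑ l ∈ Finset.range d, (ξ j).coeff l • (z j ^ p) ^ l := by
      rw [pow_mul]
      linear_combination hrel
    rw [hpow]
    have h4 : p * 2 ≤ p * d := Nat.mul_le_mul_left p hd2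
    have hb1 : 1 ≤ p * d - 1 := by omega
    have hbp : p ≤ p * d - 1 := by omega
    refine Submodule.sub_mem _ (Submodule.add_mem _ (Submodule.neg_mem _ ?_)
      (Submodule.sum_mem _ fun i _ => ?_)) (Submodule.sum_mem _ fun l hl => ?_)
    · have := z_pow_mem_M P z j 1
      rw [pow_one] at this
      exact M_mono P z hb1 this
    · rw [← Algebra.smul_def]
      exact Submodule.smul_mem _ _ (M_mono P z hbp (z_pow_mem_M P z i p))
    · refine Submodule.smul_mem _ _ ?_
      rw [← pow_mul]
      refine M_mono P z ?_ (z_pow_mem_M P z j (p * l))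
      have hl' := Finset.mem_range.mp hl
      have : p * l + p ≤ p * d := by
        rw [← Nat.mul_succ]; exact Nat.mul_le_mul_left p hl'
      omega
  · -- generators
    rw [eq_top_iff]
    intro c _
    obtain ⟨f, rfl⟩ := Ideal.Quotient.mk_surjective c
    have : (Ideal.Quotient.mk (Ideal.span (Set.range (sys p e ξ))) f) =
        aeval z f := by
      have h := DFunLike.congr_fun (MvPolynomial.aeval_unique (Ideal.Quotient.mkₐ P
        (Ideal.span (Set.range (sys p e ξ))))) f
      simpa [hz, Function.comp_def] using h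
    rw [this, Algebra.adjoin_range_eq_range_aeval]
    exact ⟨f, rfl⟩

end Sys

end Groth.Agent.Lib.EtaleCharP57
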