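import Groth.Agent.Lib.EtaleCharP57f
import Groth.Prelude.Def_FrobAlg
import Mathlib.RingTheory.TensorProduct.Maps

set_option autoImplicit false
universe u

namespace Groth.Agent.Lib.EtaleCharP57

open MvPolynomial TensorProduct FrobAlg

section Span

variable (p : ℕ) [Fact p.Prime] (A B : Type u) [CommRing A] [CommRing B] [Algebra A B]
  [CharP A p] [CharP B p]

lemma relFrob_tmul' (b : B) (a : Twist p A) :
    relFrob p A B (b ⊗ₜ a) = b ^ p * algebraMap A B ((toTwist p A).symm a) := by
  simp only [relFrob, RingHom.coe_comp, Function.comp_apply]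
  rfl

/-- for an etale algebra in characteristic `p`, module generators are combinations of the `p`-th
powers of the generators -/
theorem exists_coeff_of_etale [Algebra.Etale A B] {m : ℕ} (t : Fin m → B)
    (ht : Submodule.span A (Set.range t) = ⊤) (b : B) :
    ∃ c : Fin m → A, b = ∑ i, c i • t i ^ p := by
  set N : Submodule A B := Submodule.span A (Set.range fun i => t i ^ p) with hN
  have hmem : ∀ y : BaseChange p A B, relFrob p A B y ∈ N := by
    intro y
    induction y using TensorProduct.induction_on with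
    | zero => rw [map_zero]; exact N.zero_mem
    | tmul b a =>
      rw [relFrob_tmul', mul_comm, ← Algebra.smul_def]
      refine N.smul_mem _ ?_
      have hb : b ∈ Submodule.span A (Set.range t) := by rw [ht]; trivial
      obtain ⟨c, rfl⟩ := (Submodule.mem_span_range_iff_exists_fun A).mp hb
      rw [sum_pow_char]
      refine N.sum_mem fun i _ => ?_
      rw [smul_pow]
      exact N.smul_mem _ (Submodule.subset_span ⟨i, rfl⟩)
    | add x y hx hy => rw [map_add]; exact N.add_mem hx hy
  obtain ⟨y, rfl⟩ := (Groth.Agent.S3176.bijective_of_etale p A B).2 b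
  obtain ⟨c, hc⟩ := (Submodule.mem_span_range_iff_exists_fun A).mp (hmem y)
  exact ⟨c, hc.symm⟩

end Span

section Cover

variable (p : ℕ) [hp : Fact p.Prime] {P : Type u} [CommRing P] [CharP P p] (I : Ideal P)
  (B : Type u) [CommRing B] [Algebra (P ⧸ I) B] [Module.Finite (P ⧸ I) B]
  [Algebra.Etale (P ⧸ I) B] [CharP (P ⧸ I) p] [CharP B p]

/-- **Extending finite etale covers from a closed subscheme in characteristic `p`**: a finite etale
algebra over `P/I` is a quotient of `C/IC` for the finite etale `P`-algebra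
`C = P[T]/(T_j - Σ e_ji T_i^p + ξ_j(T_j^p))`. -/
theorem exists_cover :
    ∃ (m : ℕ) (e : Matrix (Fin m) (Fin m) P) (ξ : Fin m → Polynomial P),
      (∀ j, (ξ j).Monic) ∧ (∀ j, 2 ≤ (ξ j).natDegree) ∧
      ∃ π : SysQuot p e ξ →+* B, Function.Surjective π ∧
        ∀ r : P, π (algebraMap P (SysQuot p e ξ) r) =
          algebraMap (P ⧸ I) B (Ideal.Quotient.mk I r) := by
  classical
  obtain ⟨m, t, ht⟩ := Module.Finite.exists_fin (R := P ⧸ I) (M := B)
  letI algPB : Algebra P B := ((algebraMap (P ⧸ I) B).comp (Ideal.Quotient.mk I)).toAlgebra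
  haveI : IsScalarTower P (P ⧸ I) B := IsScalarTower.of_algebraMap_eq (fun _ => rfl)
  haveI : Module.Finite P (P ⧸ I) :=
    Module.Finite.of_surjective (Algebra.linearMap P (P ⧸ I)) Ideal.Quotient.mk_surjective
  haveI : Module.Finite P B := Module.Finite.trans (P ⧸ I) B
  have halg : ∀ r : P, algebraMap P B r = algebraMap (P ⧸ I) B (Ideal.Quotient.mk I r) :=
    fun _ => rfl
  -- coefficients
  choose c hc using fun j => exists_coeff_of_etale p (P ⧸ I) B t ht (t j)
  choose e he using fun j i => Ideal.Quotient.mk_surjective (c j i)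
  -- integral equations for t j ^ p
  have hint : ∀ j, ∃ ξ : Polynomial P, ξ.Monic ∧ 2 ≤ ξ.natDegree ∧
      Polynomial.aeval (t j ^ p) ξ = 0 := by
    intro j
    obtain ⟨χ, hχ, hχ0⟩ := Algebra.IsIntegral.isIntegral (R := P) (t j ^ p)
    rcases subsingleton_or_nontrivial P with hs | hn
    · refine ⟨Polynomial.X ^ 2, Polynomial.monic_X_pow 2, ?_, ?_⟩
      · haveI : Subsingleton B := Module.subsingleton P B
        exact absurd (Subsingleton.elim (1 : B) 0) (by
          intro h1
          have := CharP.nontrivial_of_char_ne_one (R := B) hp.out.ne_one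
          exact one_ne_zero h1)
      · haveI : Subsingleton B := Module.subsingleton P B
        exact Subsingleton.elim _ _
    · refine ⟨χ * Polynomial.X ^ 2, hχ.mul (Polynomial.monic_X_pow 2), ?_, ?_⟩
      · rw [hχ.natDegree_mul (Polynomial.monic_X_pow 2), Polynomial.natDegree_X_pow]
        omega
      · rw [map_mul]
        have : Polynomial.aeval (t j ^ p) χ = 0 := hχ0
        rw [this, zero_mul]
  choose ξ hξm hξd hξ0 using hint
  refine ⟨m, Matrix.of e, ξ, hξm, hξd, ?_⟩
  have hker : ∀ a ∈ Ideal.span (Set.range (sys p (Matrix.of e) ξ)),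
      (aeval t : MvPolynomial (Fin m) P →ₐ[P] B).toRingHom a = 0 := by
    intro a ha
    have hle : Ideal.span (Set.range (sys p (Matrix.of e) ξ)) ≤
        RingHom.ker (aeval t : MvPolynomial (Fin m) P →ₐ[P] B).toRingHom := by
      rw [Ideal.span_le]
      rintro _ ⟨j, rfl⟩
      rw [SetLike.mem_coe, RingHom.mem_ker]
      change aeval t (sys p (Matrix.of e) ξ j) = 0
      rw [sys, map_add, map_sub, map_sum, aeval_X]
      have h1 : aeval t (Polynomial.aeval ((X j : MvPolynomial (Fin m) P) ^ p) (ξ j)) =
          Polynomial.aeval (t j ^ p) (ξ j) := by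
        rw [← Polynomial.aeval_algHom_apply, map_pow, aeval_X]
      rw [h1, hξ0 j, add_zero]
      have h2 : ∀ i, aeval t (C (Matrix.of e j i) * (X i : MvPolynomial (Fin m) P) ^ p) =
          c j i • t i ^ p := by
        intro i
        rw [map_mul, map_pow, aeval_X, aeval_C, Matrix.of_apply, halg, he, Algebra.smul_def]
      rw [Finset.sum_congr rfl (fun i _ => h2 i), ← hc j, sub_self]
    exact hle ha
  refine ⟨Ideal.Quotient.lift _ (aeval t : MvPolynomial (Fin m) P →ₐ[P] B).toRingHom hker,
    ?_, ?_⟩
  · intro b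
    have hb : b ∈ Submodule.span (P ⧸ I) (Set.range t) := by rw [ht]; trivial
    obtain ⟨cb, rfl⟩ := (Submodule.mem_span_range_iff_exists_fun (P ⧸ I)).mp hb
    choose rb hrb using fun i => Ideal.Quotient.mk_surjective (cb i)
    refine ⟨Ideal.Quotient.mk _ (∑ i, C (rb i) * X i), ?_⟩
    rw [Ideal.Quotient.lift_mk]
    change aeval t (∑ i, C (rb i) * X i) = _
    rw [map_sum]
    refine Finset.sum_congr rfl fun i _ => ?_
    rw [map_mul, aeval_C, aeval_X, halg, hrb, Algebra.smul_def]
  · intro r
    have : algebraMap P (SysQuot p (Matrix.of e) ξ) r = Ideal.Quotient.mk _ (C r) := rfl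
    rw [this, Ideal.Quotient.lift_mk]
    change aeval t (C r) = _
    rw [aeval_C, halg]

end Cover

end Groth.Agent.Lib.EtaleCharP57
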