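import Groth.Agent.Lib.H59NGeom3
import Mathlib.AlgebraicGeometry.Morphisms.FlatRank
import Mathlib.RingTheory.Etale.Field

/-!
# Finite étale morphisms: the number of geometric points is the rank (helper59)
-/

set_option autoImplicit false
set_option linter.style.haveILetI false
universe u
open CategoryTheory AlgebraicGeometry CategoryTheory.Limits IsLocalRing MorphismProperty

namespace Groth.Agent.Lib.H59NGeom

open Groth.Agent.Lib.H59FibInt Groth.Agent.Lib.H59GeomPoints Groth.Agent.Lib.H59Weight

/-- An étale algebra over a separably closed field has rank the number of its primes. -/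
theorem finrank_eq_natCard_primeSpectrum (K A : Type u) [Field K] [IsSepClosed K] [CommRing A]
    [Algebra K A] [Algebra.Etale K A] : Module.finrank K A = Nat.card (PrimeSpectrum A) := by
  haveI : Algebra.EssFiniteType K A := inferInstance
  haveI : Algebra.FormallyEtale K A := inferInstance
  haveI := Algebra.FormallyUnramified.finite_of_free K A
  haveI : IsArtinianRing A := isArtinian_of_tower K inferInstance
  haveI : Finite (PrimeSpectrum A) := inferInstance
  haveI := Fintype.ofFinite (PrimeSpectrum A)
  rw [(Algebra.FormallyEtale.equivPiOfIsSepClosed K A).toLinearEquiv.finrank_eq,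
    Module.finrank_fintype_fun_eq_card, Nat.card_eq_fintype_card]

/-- The rank of a finite étale scheme over a separably closed field is its number of points. -/
theorem finrank_eq_natCard_of_isSepClosed (K : Type u) [Field K] [IsSepClosed K] {P : Scheme.{u}}
    (q : P ⟶ Spec (.of K)) [IsFinite q] [Etale q] (x : Spec (.of K)) :
    q.finrank x = Nat.card P := by
  wlog hP : ∃ A, P = Spec A
  · haveI hPaff : IsAffine P := isAffine_of_isAffineHom q
    rw [← Scheme.Hom.finrank_comp_left_of_isIso P.isoSpec.inv q,
      this K (P.isoSpec.inv ≫ q) x ⟨_, rfl⟩]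
    exact Nat.card_congr P.isoSpec.inv.homeomorph.toEquiv
  obtain ⟨A, rfl⟩ := hP
  obtain ⟨φ, rfl⟩ := Spec.map_surjective q
  have hfin : φ.hom.Finite := (IsFinite.SpecMap_iff φ).mp inferInstance
  have het : φ.hom.Etale := (HasRingHomProperty.Spec_iff (P := @Etale)).mp inferInstance
  have hflat : φ.hom.Flat := Flat.SpecMap_iff.mp inferInstance
  rw [Scheme.Hom.finrank_SpecMap_eq_finrank hfin hflat]
  algebraize [φ.hom]
  rw [← RingHom.algebraMap_toAlgebra φ.hom, RingHom.finrank_algebraMap,
    Module.rankAtStalk_eq_finrank_of_free]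
  exact finrank_eq_natCard_primeSpectrum K A

variable {X Y : Scheme.{u}}

/-- For a finite étale morphism, the number of geometric points of a fibre is the rank. -/
theorem fibreIntegral_one_eq_finrank (f : X ⟶ Y) [IsFinite f] [Etale f] (y : Y) :
    MoreMor.fibreIntegral f (fun _ => 1) y = (f.finrank y : ℤ) := by
  haveI : LocallyQuasiFinite f := locallyQuasiFinite_of_etale f
  set K := SeparableClosure (Y.residueField y) with hK
  set q := pullback.snd f (geomPt y) with hq
  obtain ⟨x⟩ : Nonempty (Spec (.of K)) := ⟨⟨⊥, Ideal.isPrime_bot⟩⟩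
  have hfin : ∀ v : Y, (f ⁻¹' {v}).Finite := fun v => f.finite_preimage_singleton v
  have h2 := Groth.Agent.S1418.result f hfin q (pullback.fst f (geomPt y)) (geomPt y)
    (IsPullback.of_hasPullback f (geomPt y)) (fun _ => 1) x
  rw [geomPt_apply] at h2
  have h3 : MoreMor.fibreIntegral q ((fun _ => (1 : ℤ)) ∘ ⇑(pullback.fst f (geomPt y))) x =
      (Nat.card ↑(pullback f (geomPt y)) : ℤ) := fibreIntegral_one_eq_card K q x
  have h4 : q.finrank x = f.finrank y := by
    rw [hq, Scheme.Hom.finrank_pullback_snd f (geomPt y) x, geomPt_apply]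
  rw [← h2, h3, ← h4, finrank_eq_natCard_of_isSepClosed K q x]

/-- For a finite étale morphism, the number of geometric points of the fibres is locally
constant. -/
theorem isLocallyConstant_fibreIntegral_one (f : X ⟶ Y) [IsFinite f] [Etale f] :
    IsLocallyConstant (MoreMor.fibreIntegral f (fun _ => 1)) := by
  have h : MoreMor.fibreIntegral f (fun _ => 1) = (fun n : ℕ => (n : ℤ)) ∘ f.finrank := by
    funext y
    exact fibreIntegral_one_eq_finrank f y
  rw [h]
  exact (Scheme.Hom.isLocallyConstant_finrank f).comp _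

/-- If an étale morphism is finite over an open `U`, the number of geometric points of the fibres
is locally constant on `U`. -/
theorem exists_nhds_fibreIntegral_one_eq (f : X ⟶ Y) [Etale f] [QuasiCompact f] (U : Y.Opens)
    (hU : IsFinite (f ∣_ U)) (y : Y) (hy : y ∈ U) :
    ∃ O : Y.Opens, y ∈ O ∧ ∀ y' ∈ O, MoreMor.fibreIntegral f (fun _ => 1) y' =
      MoreMor.fibreIntegral f (fun _ => 1) y := by
  haveI : LocallyQuasiFinite f := locallyQuasiFinite_of_etale f
  have hfin : ∀ v : Y, (f ⁻¹' {v}).Finite := fun v => f.finite_preimage_singleton v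
  have hres : ∀ u : U, MoreMor.fibreIntegral f (fun _ => 1) u.1 =
      MoreMor.fibreIntegral (f ∣_ U) (fun _ => 1) u := by
    intro u
    exact (Groth.Agent.S1418.result f hfin (f ∣_ U) (f ⁻¹ᵁ U).ι U.ι
      (isPullback_morphismRestrict f U).flip (fun _ => 1) u).symm
  have hlc := isLocallyConstant_fibreIntegral_one (f ∣_ U)
  obtain ⟨W, hWopen, hyW, hW⟩ := (IsLocallyConstant.iff_exists_open _).mp hlc ⟨y, hy⟩
  refine ⟨U.ι ''ᵁ ⟨W, hWopen⟩, ⟨⟨y, hy⟩, hyW, rfl⟩, ?_⟩
  rintro _ ⟨u, hu, rfl⟩
  have h1 := hres u
  have h2 := hres ⟨y, hy⟩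
  change MoreMor.fibreIntegral f (fun _ => 1) u.1 = MoreMor.fibreIntegral f (fun _ => 1) y
  rw [h1, h2]
  exact hW u hu

end Groth.Agent.Lib.H59NGeom
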