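import Groth.Agent.Lib.H59Weight
import Groth.Agent.Lib.FpqcDescent

/-!
# Weightings: descent of finiteness from an étale chart (helper59)
-/

set_option autoImplicit false
set_option linter.style.haveILetI false
universe u
open CategoryTheory AlgebraicGeometry CategoryTheory.Limits IsLocalRing MorphismProperty

namespace Groth.Agent.Lib.H59Weight

open Groth.Agent.Lib.H59FibInt Groth.Agent.Lib.H59GeomPoints Groth.Agent.Lib.EtLocQF

variable {X Y : Scheme.{u}}

/-- If an open `U` of the source is finite over the target and contains the preimage of the open `N` of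
the target, then the restriction of the morphism over `N` is finite. -/
theorem isFinite_morphismRestrict_of_le {P E : Scheme.{u}} (p : P ⟶ E) (U : P.Opens)
    (hU : IsFinite (U.ι ≫ p)) (N : E.Opens) (hN : p ⁻¹ᵁ N ≤ U) : IsFinite (p ∣_ N) := by
  have h1 : IsFinite ((U.ι ≫ p) ∣_ N) := IsZariskiLocalAtTarget.restrict hU N
  rw [morphismRestrict_comp] at h1
  have hsurj : Surjective (U.ι ∣_ (p ⁻¹ᵁ N)) := by
    refine ⟨fun a => ?_⟩
    have ha : a.1 ∈ U := hN a.2
    refine ⟨⟨⟨a.1, ha⟩, a.2⟩, Subtype.ext ?_⟩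
    rw [morphismRestrict_base_coe]
    rfl
  haveI : IsIso (U.ι ∣_ (p ⁻¹ᵁ N)) :=
    (isIso_iff_isOpenImmersion_and_surjective _).mpr ⟨inferInstance, hsurj⟩
  exact (MorphismProperty.cancel_left_of_respectsIso @IsFinite (U.ι ∣_ (p ⁻¹ᵁ N)) (p ∣_ N)).mp h1

/-- Finiteness of the restriction of `f` over the open image `O = e(N)` of an open `N` of an étale
chart `e : E ⟶ Y`, given finiteness of the base change over `N`. -/
theorem isFinite_morphismRestrict_of_etale (f : X ⟶ Y) {E : Scheme.{u}} (e : E ⟶ Y) [Etale e]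
    (N : E.Opens) (O : Y.Opens) (hO : (O : Set Y) = e '' (N : Set E))
    (hfinN : IsFinite (pullback.snd f e ∣_ N)) : IsFinite (f ∣_ O) := by
  have hNO : N ≤ e ⁻¹ᵁ O := by
    intro x hx
    change e x ∈ (O : Set Y)
    rw [hO]
    exact ⟨x, hx, rfl⟩
  haveI : Etale (e ∣_ O) := IsZariskiLocalAtTarget.restrict ‹Etale e› O
  let e' : (N : Scheme.{u}) ⟶ (O : Scheme.{u}) := E.homOfLE hNO ≫ (e ∣_ O)
  have he' : e' ≫ O.ι = N.ι ≫ e := by simp [e']
  haveI : Etale e' := by dsimp only [e']; infer_instance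
  haveI : Surjective e' := by
    refine ⟨fun y => ?_⟩
    have hy : y.1 ∈ e '' (N : Set E) := hO ▸ y.2
    obtain ⟨x, hx, hxy⟩ := hy
    refine ⟨⟨x, hx⟩, Subtype.ext ?_⟩
    have := congr($he' ⟨x, hx⟩)
    rw [Scheme.Hom.comp_apply, Scheme.Hom.comp_apply] at this
    exact this.trans hxy
  set A : (pullback f e).Opens := pullback.snd f e ⁻¹ᵁ N
  have hbig : IsPullback (A.ι ≫ pullback.fst f e) (pullback.snd f e ∣_ N) f (N.ι ≫ e) :=
    (isPullback_morphismRestrict (pullback.snd f e) N).flip.paste_horiz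
      (IsPullback.of_hasPullback f e)
  have hright : IsPullback (f ⁻¹ᵁ O).ι (f ∣_ O) f O.ι := (isPullback_morphismRestrict f O).flip
  have hw : (A.ι ≫ pullback.fst f e) ≫ f = ((pullback.snd f e ∣_ N) ≫ e') ≫ O.ι := by
    rw [Category.assoc, Category.assoc, he', pullback.condition, morphismRestrict_ι_assoc]
  let h' := hright.lift (A.ι ≫ pullback.fst f e) ((pullback.snd f e ∣_ N) ≫ e') hw
  have h1 : h' ≫ (f ⁻¹ᵁ O).ι = A.ι ≫ pullback.fst f e := hright.lift_fst _ _ _
  have h2 : h' ≫ (f ∣_ O) = (pullback.snd f e ∣_ N) ≫ e' := hright.lift_snd _ _ _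
  have hsq : IsPullback h' (pullback.snd f e ∣_ N) (f ∣_ O) e' := by
    refine IsPullback.of_right ?_ h2 hright
    rw [h1, he']
    exact hbig
  have hQ : (@Surjective ⊓ @Flat ⊓ @LocallyOfFinitePresentation : MorphismProperty Scheme.{u}) e' :=
    ⟨⟨inferInstance, inferInstance⟩, inferInstance⟩
  exact MorphismProperty.of_isPullback_of_descendsAlong (P := @IsFinite)
    (Q := (@Surjective ⊓ @Flat ⊓ @LocallyOfFinitePresentation : MorphismProperty Scheme.{u}))
    hsq.flip hQ hfinN

/-- Positivity: if the partial integral over `S` is at least the full one (positive weights), every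
point of the fibre lies in `S`. -/
theorem mem_of_J_univ_le {P V : Scheme.{u}} (p : P ⟶ V) (S : Set P) (W : P → ℤ) (v : V)
    (hW : ∀ z, 0 < W z) (hdeg : ∀ z, 0 < sepDeg p z)
    (hfin : {z : P | p z = v ∧ z ∈ Set.univ}.Finite)
    (h : J p Set.univ W v ≤ J p S W v) : ∀ z, p z = v → z ∈ S := by
  intro z₀ hz₀
  by_contra hn
  have hfinS : {z : P | p z = v ∧ z ∈ S}.Finite :=
    hfin.subset fun z hz => ⟨hz.1, Set.mem_univ _⟩
  have h1 : J p (insert z₀ S) W v ≤ J p Set.univ W v :=
    J_mono p W v (fun z => (hW z).le) (fun _ _ _ => Set.mem_univ _) hfin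
  have h2 : J p (insert z₀ S) W v = W z₀ * (sepDeg p z₀ : ℤ) + J p S W v := by
    unfold J
    have : {z : P | p z = v ∧ z ∈ insert z₀ S} = insert z₀ {z : P | p z = v ∧ z ∈ S} := by
      ext z
      simp only [Set.mem_ofPred_eq, Set.mem_insert_iff]
      constructor
      · rintro ⟨h1, h2 | h2⟩
        · exact Or.inl h2
        · exact Or.inr ⟨h1, h2⟩
      · rintro (h1 | ⟨h1, h2⟩)
        · exact ⟨h1 ▸ hz₀, Or.inl h1⟩
        · exact ⟨h1, Or.inr h2⟩
    rw [this, finsum_mem_insert _ (fun hmem => hn hmem.2) hfinS]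
  have h3 : 0 < W z₀ * (sepDeg p z₀ : ℤ) := mul_pos (hW z₀) (by exact_mod_cast hdeg z₀)
  omega

/-- For a locally quasi-finite morphism, the separable degrees of the residue field extensions are
positive. -/
theorem sepDeg_pos {P V : Scheme.{u}} (p : P ⟶ V) [LocallyQuasiFinite p] (z : P) :
    0 < sepDeg p z := by
  unfold sepDeg
  letI := (p.residueFieldMap z).hom.toAlgebra
  haveI : Module.Finite (V.residueField (p z)) (P.residueField z) := finite_residueFieldMap p z
  exact Nat.pos_of_ne_zero (NeZero.ne _)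

/-- Near a point where the fibre integral of a positive weighting attains its maximum `d`, the integral
is constant and `f` is finite. -/
theorem exists_open_isFinite_of_max (f : X ⟶ Y) [LocallyQuasiFinite f] [LocallyOfFiniteType f]
    [IsSeparated f] (hfin : ∀ y : Y, (f ⁻¹' {y}).Finite) (w : X → ℤ) (hw : MoreMor.IsWeighting f w)
    (hpos : ∀ x, 0 < w x) (d : ℤ) (hmax : ∀ y : Y, MoreMor.fibreIntegral f w y ≤ d) (y₀ : Y)
    (hy₀ : MoreMor.fibreIntegral f w y₀ = d) :
    ∃ O : Y.Opens, y₀ ∈ O ∧ (∀ y ∈ O, MoreMor.fibreIntegral f w y = d) ∧ IsFinite (f ∣_ O) := by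
  obtain ⟨E, e, ε, N, he, heε, hN, hεN, U, hU, hconst⟩ := exists_etale_const f hfin w hw y₀
  have hJ : ∀ ε' ∈ N, J (pullback.snd f e) Set.univ (fun z => w (pullback.fst f e z)) ε' = d ∧
      ∀ z, pullback.snd f e z = ε' → z ∈ U := by
    intro ε' hε'
    have h1 : J (pullback.snd f e) (U : Set ↑(pullback f e)) (fun z => w (pullback.fst f e z)) ε'
        = d := (hconst ε' hε').trans hy₀
    have h2 : J (pullback.snd f e) Set.univ (fun z => w (pullback.fst f e z)) ε' ≤ d := by
      rw [← fibreIntegral_eq_J_pullback f hfin w e ε']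
      exact hmax _
    have hfib : {z : ↑(pullback f e) | pullback.snd f e z = ε' ∧ z ∈ Set.univ}.Finite := by
      have := finite_fibre_of_isPullback (IsPullback.of_hasPullback f e) ε' (hfin (e ε'))
      refine this.subset ?_
      rintro z ⟨hz, -⟩
      exact hz
    have h3 : J (pullback.snd f e) (U : Set ↑(pullback f e)) (fun z => w (pullback.fst f e z)) ε' ≤
        J (pullback.snd f e) Set.univ (fun z => w (pullback.fst f e z)) ε' :=
      J_mono _ _ ε' (fun z => (hpos _).le) (fun _ _ _ => Set.mem_univ _) hfib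
    refine ⟨le_antisymm h2 (h1 ▸ h3), ?_⟩
    exact mem_of_J_univ_le (pullback.snd f e) (U : Set ↑(pullback f e)) _ ε' (fun z => hpos _)
      (fun z => sepDeg_pos _ z) hfib (h2.trans h1.ge)
  refine ⟨⟨e '' N, e.isOpenMap _ hN⟩, ⟨ε, hεN, heε⟩, ?_, ?_⟩
  · rintro _ ⟨ε', hε', rfl⟩
    rw [fibreIntegral_eq_J_pullback f hfin w e ε']
    exact (hJ ε' hε').1
  · refine isFinite_morphismRestrict_of_etale f e ⟨N, hN⟩ _ rfl ?_
    refine isFinite_morphismRestrict_of_le (pullback.snd f e) U hU ⟨N, hN⟩ ?_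
    intro z hz
    exact (hJ (pullback.snd f e z) hz).2 z rfl

end Groth.Agent.Lib.H59Weight
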