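import Groth.Agent.Lib.H59FibInt
import Groth.Agent.Lib.EtLocQF2
import Groth.Agent.Lib.EtLocQF3
import Groth.Agent.S1418

/-!
# Weightings: local structure over an étale neighbourhood (helper59)

For a separated, locally quasi-finite morphism `f : X ⟶ Y` locally of finite type and a point `y₀` of `Y`
with finite fibre, there is an étale neighbourhood `(E, ε) → (Y, y₀)` and an open `U` of `X ×_Y E`, finite
over `E`, containing the whole fibre over `ε`.  For a weighting `w` of `f` this gives the basic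
inequality `∫ w (e ε') ≥ ∫ w (y₀)` for `ε'` near `ε` when `w ≥ 0`.
-/

set_option autoImplicit false
set_option linter.style.haveILetI false
universe u
open CategoryTheory AlgebraicGeometry CategoryTheory.Limits IsLocalRing

namespace Groth.Agent.Lib.H59Weight

open Groth.Agent.Lib.H59FibInt Groth.Agent.Lib.H59GeomPoints Groth.Agent.Lib.EtLocQF

variable {X Y : Scheme.{u}}

/-- Étale localization: an open finite over the étale neighbourhood which contains the whole fibre. -/
theorem exists_etale_finite_open (f : X ⟶ Y) [LocallyQuasiFinite f] [LocallyOfFiniteType f]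
    [IsSeparated f] (y₀ : Y) (hfin : (f ⁻¹' {y₀}).Finite) :
    ∃ (E : Scheme.{u}) (e : E ⟶ Y) (ε : E), Etale e ∧ e ε = y₀ ∧
      ∃ U : (pullback f e).Opens, IsFinite (U.ι ≫ pullback.snd f e) ∧
        ∀ z : ↑(pullback f e), pullback.snd f e z = ε → z ∈ U := by
  haveI hT : Finite ↑(f ⁻¹' {y₀}) := hfin.to_subtype
  obtain ⟨n, ⟨eq⟩⟩ := Finite.exists_equiv_fin ↑(f ⁻¹' {y₀})
  let x : Fin n → X := fun i => (eq.symm i).1
  have hs : ∀ i, f (x i) = y₀ := fun i => (eq.symm i).2
  have hx : ∀ i, f.QuasiFiniteAt (x i) := fun i => f.quasiFiniteAt (x i)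
  obtain ⟨E, e, ε, he, heε, hiso, V, v, H⟩ := exists_etaleNbhd_of_forall_quasiFiniteAt f y₀ x hs hx
  refine ⟨E, e, ε, he, heε, ⨆ i, V i, isFinite_iSup_ι_comp _ V (fun i => (H i).2.1), ?_⟩
  intro z hz
  have h3 : f (pullback.fst f e z) = y₀ := by
    have := congr($(pullback.condition (f := f) (g := e)) z)
    rw [Scheme.Hom.comp_apply, Scheme.Hom.comp_apply, hz, heε] at this
    exact this
  obtain ⟨i, hxi⟩ : ∃ i, x i = pullback.fst f e z := by
    refine ⟨eq ⟨pullback.fst f e z, h3⟩, ?_⟩
    dsimp only [x]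
    rw [Equiv.symm_apply_apply]
  obtain ⟨h4, h5, h6, h7, h8⟩ := H i
  have hzv : z = v i :=
    eq_of_fst_eq_of_snd_eq f e z _ (hxi.symm.trans h8.symm) (hz.trans h6.symm) (h6 ▸ hiso)
  have : z ∈ V i := hzv ▸ h4
  exact (le_iSup V _) this

/-- The fibre integral at the image of a point of an étale (or any) base change, as a `J`. -/
theorem fibreIntegral_eq_J_pullback (f : X ⟶ Y) [LocallyQuasiFinite f] [LocallyOfFiniteType f]
    (hfin : ∀ y : Y, (f ⁻¹' {y}).Finite) (w : X → ℤ) {E : Scheme.{u}} (e : E ⟶ Y) (ε' : E) :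
    MoreMor.fibreIntegral f w (e ε') =
      J (pullback.snd f e) Set.univ (fun z => w (pullback.fst f e z)) ε' := by
  rw [← fibreIntegral_eq_J_univ]
  exact (Groth.Agent.S1418.result f hfin (pullback.snd f e) (pullback.fst f e) e
    (IsPullback.of_hasPullback f e) w ε').symm

/-- Local structure of a weighting near a point of the base: there is an étale neighbourhood `(E, ε)`
of `y₀`, an open `U` of `X ×_Y E` finite over `E` containing the fibre over `ε`, and an open
neighbourhood `N` of `ε` over which the partial integral over `U` is constant, equal to `∫ w (y₀)`. -/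
theorem exists_etale_const (f : X ⟶ Y) [LocallyQuasiFinite f] [LocallyOfFiniteType f]
    [IsSeparated f] (hfin : ∀ y : Y, (f ⁻¹' {y}).Finite) (w : X → ℤ) (hw : MoreMor.IsWeighting f w)
    (y₀ : Y) :
    ∃ (E : Scheme.{u}) (e : E ⟶ Y) (ε : E) (N : Set E), Etale e ∧ e ε = y₀ ∧ IsOpen N ∧ ε ∈ N ∧
      ∃ U : (pullback f e).Opens, IsFinite (U.ι ≫ pullback.snd f e) ∧
        ∀ ε' ∈ N, J (pullback.snd f e) (U : Set ↑(pullback f e))
          (fun z => w (pullback.fst f e z)) ε' = MoreMor.fibreIntegral f w y₀ := by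
  obtain ⟨E, e, ε, he, heε, U, hU, hfib⟩ := exists_etale_finite_open f y₀ (hfin y₀)
  have hlc := hw E e U hU
  have hfun : (MoreMor.fibreIntegral (U.ι ≫ pullback.snd f e)
      (fun u => w (pullback.fst f e (U.ι u)))) =
      J (pullback.snd f e) (U : Set ↑(pullback f e)) (fun z => w (pullback.fst f e z)) := by
    funext v
    exact fibreIntegral_ι_comp U (pullback.snd f e) (fun z => w (pullback.fst f e z)) v
  rw [hfun] at hlc
  refine ⟨E, e, ε, _, he, heε, hlc.isOpen_fiber (J (pullback.snd f e) (U : Set ↑(pullback f e))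
    (fun z => w (pullback.fst f e z)) ε), rfl, U, hU, ?_⟩
  intro ε' hε'
  rw [← heε, fibreIntegral_eq_J_pullback f hfin w e ε]
  rw [show J (pullback.snd f e) (U : Set ↑(pullback f e)) (fun z => w (pullback.fst f e z)) ε' =
    J (pullback.snd f e) (U : Set ↑(pullback f e)) (fun z => w (pullback.fst f e z)) ε from hε']
  exact J_congr_set _ _ _ fun z hz => ⟨fun _ => Set.mem_univ _, fun _ => hfib z hz⟩

end Groth.Agent.Lib.H59Weight
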