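import Groth.Agent.Lib.RelRestrict46
import Groth.Agent.Lib.H59GeomPoints
import Groth.Agent.Lib.H59NGeom5
import Groth.Agent.S1428

/-!
# The number of geometric points of the fibres of an étale equivalence relation (helper46)

* `isWeighting_one_of_etale`: the constant function `1` is a weighting of an étale morphism.
* `liftsEquivOfRel`: composing with an arrow of the relation identifies the geometric fibres of `s`
  over the source and the target of the arrow.
* `fibreIntegral_one_eq_of_rel`: the number of geometric points of the fibres of `s` is constant on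
  orbits.
-/

set_option autoImplicit false
universe u
open CategoryTheory CategoryTheory.Limits AlgebraicGeometry Opposite IsLocalRing

namespace Groth.Agent.Lib.RelDegree46

open AlgSp Groth.Agent.Lib.FinEtQuot46 Groth.Agent.Lib.AlgSpDecentSpec
  Groth.Agent.Lib.RelRestrict46 Groth.Agent.Lib.H59GeomPoints Groth.Agent.Lib.H59NGeom

/-- The constant function `1` is a weighting of an étale morphism. -/
theorem isWeighting_one_of_etale {X Y : Scheme.{u}} (g : X ⟶ Y) [Etale g] :
    MoreMor.IsWeighting g (fun _ => 1) := by
  intro V e _ W hW
  haveI : IsFinite (W.ι ≫ pullback.snd g e) := hW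
  exact isLocallyConstant_fibreIntegral_one (W.ι ≫ pullback.snd g e)

/-- The fibre integral of `1` at a geometric point is the number of lifts. -/
theorem fibreIntegral_one_eq_card_lifts {P V : Scheme.{u}} (π : P ⟶ V) [LocallyQuasiFinite π]
    (K : Type u) [Field K] [IsAlgClosed K] (yb : Spec (.of K) ⟶ V)
    (hfib : (π ⁻¹' {yb (closedPoint K)}).Finite) :
    MoreMor.fibreIntegral π (fun _ => 1) (yb (closedPoint K)) = (Nat.card (Lifts π K yb) : ℤ) := by
  have : Finite (Lifts π K yb) := finite_lifts π yb hfib (fun u => finite_residueFieldMap π u)
  rw [fibreIntegral_eq_sum_lifts π (fun u => finite_residueFieldMap π u) yb (fun _ => 1)]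
  haveI := Fintype.ofFinite (Lifts π K yb)
  rw [finsum_eq_sum_of_fintype, Finset.sum_const, Finset.card_univ, ← Nat.card_eq_fintype_card]
  simp

variable {S : Scheme.{u}} {U R : Over S} {s t : R ⟶ U}

/-- Composition with an arrow `r₀` of the relation identifies the lifts along `s` of the target of
`r₀` with those of its source. -/
noncomputable def liftsEquivOfRel (h : IsEqvRel s t) (K : Type u) [Field K]
    (r₀ : Spec (.of K) ⟶ R.left) :
    Lifts s.left K (r₀ ≫ t.left) ≃ Lifts s.left K (r₀ ≫ s.left) where
  toFun r := ⟨pullback.lift r.1 r₀ r.2 ≫ (exists_trans h).choose, by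
    rw [Category.assoc, (exists_trans h).choose_spec.2, ← Category.assoc, pullback.lift_snd]⟩
  invFun r := ⟨pullback.lift r.1 (r₀ ≫ (exists_symm h).choose) (by
      rw [Category.assoc, (exists_symm h).choose_spec.1]; exact r.2) ≫ (exists_trans h).choose, by
    rw [Category.assoc, (exists_trans h).choose_spec.2, ← Category.assoc, pullback.lift_snd,
      Category.assoc, (exists_symm h).choose_spec.2]⟩
  left_inv r := by
    apply Subtype.ext
    apply eq_of_comp_eq h
    · simp only [Category.assoc, (exists_trans h).choose_spec.1]
      simp only [← Category.assoc, pullback.lift_fst]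
      simp only [Category.assoc, (exists_trans h).choose_spec.1]
      simp only [← Category.assoc, pullback.lift_fst]
    · simp only [Category.assoc, (exists_trans h).choose_spec.2]
      simp only [← Category.assoc, pullback.lift_snd]
      simp only [Category.assoc, (exists_symm h).choose_spec.2]
      exact r.2.symm
  right_inv r := by
    apply Subtype.ext
    apply eq_of_comp_eq h
    · simp only [Category.assoc, (exists_trans h).choose_spec.1]
      simp only [← Category.assoc, pullback.lift_fst]
      simp only [Category.assoc, (exists_trans h).choose_spec.1]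
      simp only [← Category.assoc, pullback.lift_fst]
    · simp only [Category.assoc, (exists_trans h).choose_spec.2]
      simp only [← Category.assoc, pullback.lift_snd]
      exact r.2.symm

/-- The number of geometric points of the fibres of `s` is constant on orbits. -/
theorem fibreIntegral_one_eq_of_rel (h : IsEqvRel s t) [LocallyQuasiFinite s.left]
    (hfin : ∀ u : ↥U.left, (s.left ⁻¹' {u}).Finite) (r₀ : ↥R.left) :
    MoreMor.fibreIntegral s.left (fun _ => 1) (t.left r₀) =
      MoreMor.fibreIntegral s.left (fun _ => 1) (s.left r₀) := by
  let K := AlgebraicClosure ↑(R.left.residueField r₀)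
  let rb : Spec (.of K) ⟶ R.left :=
    Spec.map (CommRingCat.ofHom (algebraMap ↑(R.left.residueField r₀) K)) ≫
      R.left.fromSpecResidueField r₀
  have hrb : rb (closedPoint K) = r₀ := by
    change (R.left.fromSpecResidueField r₀) _ = r₀
    exact R.left.fromSpecResidueField_apply r₀ _
  have e1 : (rb ≫ t.left) (closedPoint K) = t.left r₀ := by
    rw [Scheme.Hom.comp_apply, hrb]
  have e2 : (rb ≫ s.left) (closedPoint K) = s.left r₀ := by
    rw [Scheme.Hom.comp_apply, hrb]
  rw [← e1, ← e2, fibreIntegral_one_eq_card_lifts s.left K (rb ≫ t.left) (hfin _),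
    fibreIntegral_one_eq_card_lifts s.left K (rb ≫ s.left) (hfin _),
    Nat.card_congr (liftsEquivOfRel h K rb)]

end Groth.Agent.Lib.RelDegree46
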