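import Mathlib
import Groth.Agent.S1418
import Groth.Agent.S1426
import Groth.Agent.S1428
import Groth.Agent.Lib.RelDegree46

/-!
# Étale separated morphisms with finite fibres over a Noetherian scheme are quasi-compact (helper46)
-/

set_option autoImplicit false
universe u
open CategoryTheory CategoryTheory.Limits AlgebraicGeometry TopologicalSpace

namespace Groth.Agent.Lib.EtaleCompact46

open Groth.Agent.Lib.RelDegree46

variable {P Y : Scheme.{u}}

theorem deg_nonneg (g : P ⟶ Y) (y : ↥Y) : 0 ≤ MoreMor.fibreIntegral g (fun _ => 1) y := by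
  unfold MoreMor.fibreIntegral
  apply finsum_nonneg
  intro u
  exact mul_nonneg zero_le_one (Int.natCast_nonneg _)

/-- Induction on a strict bound for the number of geometric points in the fibres. -/
theorem compactSpace_of_deg_lt (d : ℕ) : ∀ {P Y : Scheme.{u}} (g : P ⟶ Y) [Etale g]
    [IsSeparated g] [IsNoetherian Y] (_ : ∀ y : ↥Y, (g ⁻¹' {y}).Finite)
    (_ : ∀ y : ↥Y, MoreMor.fibreIntegral g (fun _ => 1) y < d), CompactSpace ↥P := by
  induction d with
  | zero =>
    intro P Y g _ _ _ hfin hbd
    have : IsEmpty ↥P := ⟨fun p => absurd (hbd (g p)) (not_lt.2 (by exact_mod_cast deg_nonneg g (g p)))⟩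
    infer_instance
  | succ d ih =>
    intro P Y g _ _ hN hfin hbd
    have hLN : IsLocallyNoetherian Y := hN.toIsLocallyNoetherian
    have hYc : CompactSpace ↥Y := hN.toCompactSpace
    have hlqf : LocallyQuasiFinite g := Groth.Agent.Lib.H59NGeom.locallyQuasiFinite_of_etale g
    by_cases hatt : ∃ y : ↥Y, MoreMor.fibreIntegral g (fun _ => 1) y = d
    · obtain ⟨hYd, hfinYd⟩ := Groth.Agent.S1428.result g hfin (fun _ => 1)
        (isWeighting_one_of_etale g) (fun _ => one_pos) d
        (fun y => Int.lt_add_one_iff.1 (by exact_mod_cast hbd y)) hatt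
      obtain ⟨Yd, hYdmem, hfinYd'⟩ : ∃ Yd : Y.Opens,
          (∀ y, y ∈ Yd ↔ MoreMor.fibreIntegral g (fun _ => 1) y = d) ∧ IsFinite (g ∣_ Yd) :=
        ⟨⟨_, hYd⟩, fun y => Iff.rfl, hfinYd⟩
      -- compactness of the preimage of the top stratum
      have h1 : IsCompact ((g ⁻¹ᵁ Yd : P.Opens) : Set ↥P) := by
        have hc : CompactSpace ↥(Yd : Scheme.{u}) :=
          isCompact_iff_compactSpace.1 (NoetherianSpace.isCompact _)
        have haff : IsAffineHom (g ∣_ Yd) := inferInstance
        have hqc : QuasiCompact (g ∣_ Yd) := @instQuasiCompactOfIsAffineHom _ _ (g ∣_ Yd) haff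
        have : CompactSpace ↥((g ⁻¹ᵁ Yd : P.Opens) : Scheme.{u}) :=
          QuasiCompact.compactSpace_of_compactSpace (g ∣_ Yd)
        exact isCompact_iff_compactSpace.2 this
      -- the closed complement with its reduced structure
      let C : TopologicalSpace.Closeds ↥Y := ⟨(Yd : Set ↥Y)ᶜ, Yd.2.isClosed_compl⟩
      let I := Scheme.IdealSheafData.vanishingIdeal C
      have hrange : Set.range I.subschemeι = (Yd : Set ↥Y)ᶜ := by
        rw [Scheme.IdealSheafData.range_subschemeι, Scheme.IdealSheafData.coe_support_vanishingIdeal]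
        rfl
      have hZ : IsNoetherian I.subscheme := by
        have : IsLocallyNoetherian I.subscheme :=
          LocallyOfFiniteType.isLocallyNoetherian I.subschemeι
        have : CompactSpace ↥I.subscheme := QuasiCompact.compactSpace_of_compactSpace I.subschemeι
        exact { }
      have hfinC : ∀ z : ↥I.subscheme, (pullback.snd g I.subschemeι ⁻¹' {z}).Finite := by
        intro z
        refine Set.Finite.of_finite_image (f := pullback.fst g I.subschemeι)
          ((hfin (I.subschemeι z)).subset ?_)
          (pullback.fst g I.subschemeι).isEmbedding.injective.injOn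
        rintro _ ⟨w, hw, rfl⟩
        change g (pullback.fst g I.subschemeι w) = I.subschemeι z
        rw [← Scheme.Hom.comp_apply, pullback.condition, Scheme.Hom.comp_apply]
        exact congrArg _ hw
      have hbdC : ∀ z : ↥I.subscheme,
          MoreMor.fibreIntegral (pullback.snd g I.subschemeι) (fun _ => 1) z < d := by
        intro z
        have hres := Groth.Agent.S1418.result g hfin (pullback.snd g I.subschemeι)
          (pullback.fst g I.subschemeι) I.subschemeι (IsPullback.of_hasPullback g I.subschemeι)
          (fun _ => 1) z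
        have hres' : MoreMor.fibreIntegral (pullback.snd g I.subschemeι) (fun _ => 1) z =
            MoreMor.fibreIntegral g (fun _ => 1) (I.subschemeι z) := hres
        rw [hres']
        have hz : I.subschemeι z ∉ Yd := by
          have : I.subschemeι z ∈ Set.range I.subschemeι := ⟨z, rfl⟩
          rw [hrange] at this
          exact this
        have h3 := hbd (I.subschemeι z)
        have h4 : MoreMor.fibreIntegral g (fun _ => 1) (I.subschemeι z) ≠ d :=
          fun h => hz ((hYdmem _).2 h)
        push_cast at h3
        omega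
      have hcC : CompactSpace ↥(pullback g I.subschemeι) :=
        ih (pullback.snd g I.subschemeι) hfinC hbdC
      have h2 : IsCompact (g ⁻¹' (Yd : Set ↥Y)ᶜ) := by
        rw [← hrange, ← Scheme.Pullback.range_fst]
        exact isCompact_range (pullback.fst g I.subschemeι).continuous
      constructor
      have : (Set.univ : Set ↥P) = ((g ⁻¹ᵁ Yd : P.Opens) : Set ↥P) ∪ g ⁻¹' (Yd : Set ↥Y)ᶜ := by
        ext p
        simp only [Set.mem_univ, Set.mem_union, true_iff]
        by_cases hp : g p ∈ Yd
        · exact Or.inl hp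
        · exact Or.inr hp
      rw [this]
      exact h1.union h2
    · apply ih g hfin
      intro y
      have h3 := hbd y
      have h4 : MoreMor.fibreIntegral g (fun _ => 1) y ≠ d := fun h => hatt ⟨y, h⟩
      push_cast at h3
      omega

/-- The number of geometric points in the fibres is bounded. -/
theorem exists_deg_lt (g : P ⟶ Y) [Etale g] [IsSeparated g] [IsNoetherian Y]
    (hfin : ∀ y : ↥Y, (g ⁻¹' {y}).Finite) :
    ∃ d : ℕ, ∀ y : ↥Y, MoreMor.fibreIntegral g (fun _ => 1) y < d := by
  have hlqf : LocallyQuasiFinite g := Groth.Agent.Lib.H59NGeom.locallyQuasiFinite_of_etale g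
  have hlsc := Groth.Agent.S1426.result g hfin (fun _ => 1) (isWeighting_one_of_etale g)
    (fun _ => one_pos)
  have key : ∀ η y : ↥Y, η ⤳ y → MoreMor.fibreIntegral g (fun _ => 1) y ≤
      MoreMor.fibreIntegral g (fun _ => 1) η := by
    intro η y hs
    by_contra hlt
    rw [not_le] at hlt
    have hmem := hlsc y _ hlt
    obtain ⟨O, hOsub, hO, hyO⟩ := mem_nhds_iff.1 hmem
    have hηO : η ∈ O := hs.mem_open hO hyO
    have : MoreMor.fibreIntegral g (fun _ => 1) η < MoreMor.fibreIntegral g (fun _ => 1) η :=
      hOsub hηO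
    exact lt_irrefl _ this
  let G : Set ↥Y := (fun η : ↥Y => closure ({η} : Set ↥Y)) ⁻¹' irreducibleComponents ↥Y
  have hG : G.Finite := by
    apply Set.Finite.preimage _ NoetherianSpace.finite_irreducibleComponents
    intro η _ η' _ h
    exact (inseparable_iff_closure_eq.2 h).eq
  obtain ⟨M, hM⟩ := (hG.image (MoreMor.fibreIntegral g (fun _ => 1))).bddAbove
  refine ⟨(M + 1).toNat, fun y => ?_⟩
  have hT : irreducibleComponent y ∈ irreducibleComponents ↥Y :=
    irreducibleComponent_mem_irreducibleComponents y
  obtain ⟨η, hη⟩ := QuasiSober.sober (isIrreducible_irreducibleComponent (x := y))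
    isClosed_irreducibleComponent
  have hηG : η ∈ G := by
    change closure {η} ∈ irreducibleComponents ↥Y
    rw [hη.def]
    exact hT
  have hs : η ⤳ y := by
    rw [specializes_iff_mem_closure, hη.def]
    exact mem_irreducibleComponent
  have h1 := key η y hs
  have h2 : MoreMor.fibreIntegral g (fun _ => 1) η ≤ M := hM ⟨η, hηG, rfl⟩
  have h3 : M + 1 ≤ ((M + 1).toNat : ℤ) := Int.self_le_toNat _
  omega

/-- **Étale separated morphisms with finite fibres over a Noetherian scheme have quasi-compact
source.** -/
theorem compactSpace_of_etale_of_finite_fibres (g : P ⟶ Y) [Etale g] [IsSeparated g]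
    [IsNoetherian Y] (hfin : ∀ y : ↥Y, (g ⁻¹' {y}).Finite) : CompactSpace ↥P := by
  obtain ⟨d, hd⟩ := exists_deg_lt g hfin
  exact compactSpace_of_deg_lt d g hfin hd

end Groth.Agent.Lib.EtaleCompact46
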