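import Groth.Agent.Lib.SmoothTower
import Mathlib.RingTheory.Kaehler.Polynomial
import Mathlib.LinearAlgebra.TensorProduct.Basis

/-!
Etale coordinates: if `B` is a formally smooth `A`-algebra and `z i` are elements whose differentials
form a basis of the Kaehler differentials, then `B` is formally etale over the polynomial ring
`A[X_i]` via `X_i ↦ z_i`.
-/

set_option autoImplicit false
universe u

namespace Groth.Agent.Lib.EtaleCoord

open TensorProduct KaehlerDifferential

variable (A B : Type u) [CommRing A] [CommRing B] [Algebra A B]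
variable {ι : Type*} (z : ι → B)

/-- The algebra structure on `B` over the polynomial ring, `X i ↦ z i`. -/
noncomputable abbrev polyAlgebra : Algebra (MvPolynomial ι A) B :=
  (MvPolynomial.aeval z : MvPolynomial ι A →ₐ[A] B).toRingHom.toAlgebra

lemma polyAlgebra_algebraMap_apply (π : MvPolynomial ι A) :
    letI := polyAlgebra A B z
    algebraMap (MvPolynomial ι A) B π = MvPolynomial.aeval z π := rfl

lemma polyAlgebra_isScalarTower :
    letI := polyAlgebra A B z
    IsScalarTower A (MvPolynomial ι A) B := by
  let := polyAlgebra A B z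
  refine IsScalarTower.of_algebraMap_eq' ?_
  ext a
  simp [polyAlgebra_algebraMap_apply]

theorem formallyEtale_of_basis [Algebra.FormallySmooth A B]
    (b : Module.Basis ι B (Ω[B⁄A])) (hb : ∀ i, b i = D A B (z i)) :
    letI := polyAlgebra A B z
    Algebra.FormallyEtale (MvPolynomial ι A) B := by
  let := polyAlgebra A B z
  have := polyAlgebra_isScalarTower A B z
  rw [Groth.Agent.Lib.SmoothTower.formallyEtale_iff_bijective A (MvPolynomial ι A) B]
  let b₁ : Module.Basis ι B (B ⊗[MvPolynomial ι A] Ω[MvPolynomial ι A⁄A]) :=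
    (mvPolynomialBasis A ι).baseChange B
  let e : (B ⊗[MvPolynomial ι A] Ω[MvPolynomial ι A⁄A]) ≃ₗ[B] Ω[B⁄A] := b₁.equiv b (Equiv.refl _)
  have he : mapBaseChange A (MvPolynomial ι A) B = e.toLinearMap := by
    have hb₁ : ∀ i, b₁ i = (1 : B) ⊗ₜ[MvPolynomial ι A] D A (MvPolynomial ι A) (MvPolynomial.X i) := by
      intro i
      simp only [b₁, Module.Basis.baseChange_apply, mvPolynomialBasis_apply]
    apply b₁.ext
    intro i
    rw [LinearEquiv.coe_coe, Module.Basis.equiv_apply, Equiv.refl_apply, hb, hb₁ i,
      mapBaseChange_tmul, map_D, one_smul, polyAlgebra_algebraMap_apply, MvPolynomial.aeval_X]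
  rw [he]
  exact e.bijective

end Groth.Agent.Lib.EtaleCoord
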