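import Groth.Agent.Lib.MultType58

/-!
# Groups of multiplicative type: the `n`-th power endomorphism and finiteness
-/

set_option autoImplicit false
set_option linter.unusedSectionVars false
set_option linter.unusedVariables false

universe u

open TensorProduct WithConv

namespace Groth.Agent.Lib.MultType58

section PowConv

variable (R : Type u) [CommRing R] (A : Type u) [CommRing A] [HopfAlgebra R A]

/-- The `n`-th power map is trivial. -/
def PowTriv (n : ℕ) : Prop :=
  ∀ a : A, SGA3b.powConv R A n a = algebraMap R A (Coalgebra.counit a)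

theorem powConv_zero_apply (a : A) :
    SGA3b.powConv R A 0 a = algebraMap R A (Coalgebra.counit a) := by
  unfold SGA3b.powConv
  rw [pow_zero]
  rfl

theorem powConv_succ (n : ℕ) :
    SGA3b.powConv R A (n + 1) =
      ofConv (toConv (SGA3b.powConv R A n) * toConv (AlgHom.id R A)) := by
  unfold SGA3b.powConv
  rw [pow_succ]

theorem powConv_succ_apply (n : ℕ) (a : A) :
    SGA3b.powConv R A (n + 1) a =
      ∑ i ∈ (Coalgebra.Repr.arbitrary R a).index,
        SGA3b.powConv R A n ((Coalgebra.Repr.arbitrary R a).left i) *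
          (Coalgebra.Repr.arbitrary R a).right i := by
  rw [powConv_succ]
  have h := AlgHom.toLinearMap_convMul (toConv (SGA3b.powConv R A n)) (toConv (AlgHom.id R A))
  have h2 := congrArg (fun g : WithConv (A →ₗ[R] A) => g a) h
  simp only at h2
  rw [(Coalgebra.Repr.arbitrary R a).convMul_apply] at h2
  exact h2

theorem torsionIdeal_eq_bot_iff (n : ℕ) : SGA3b.torsionIdeal R A n = ⊥ ↔ PowTriv R A n := by
  unfold SGA3b.torsionIdeal
  rw [Ideal.map_eq_bot_iff_le_ker]
  constructor
  · intro h a
    have h1 : a - algebraMap R A (Coalgebra.counit a) ∈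
        RingHom.ker (Bialgebra.counitAlgHom R A) := by
      rw [RingHom.mem_ker, map_sub, AlgHom.commutes]
      simp
    have h2 := h h1
    rw [RingHom.mem_ker, map_sub, AlgHom.commutes, sub_eq_zero] at h2
    exact h2
  · intro h a ha
    rw [RingHom.mem_ker] at ha ⊢
    rw [h a]
    have : Coalgebra.counit (R := R) a = 0 := ha
    rw [this, map_zero]

theorem powTriv_iff_pow_eq_one (n : ℕ) :
    PowTriv R A n ↔ (toConv (AlgHom.id R A)) ^ n = 1 := by
  constructor
  · intro h
    apply WithConv.ofConv_injective
    apply AlgHom.ext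
    intro a
    exact h a
  · intro h a
    unfold SGA3b.powConv
    rw [h]
    rfl

theorem PowTriv.mul {n : ℕ} (h : PowTriv R A n) (k : ℕ) : PowTriv R A (n * k) := by
  rw [powTriv_iff_pow_eq_one] at h ⊢
  rw [pow_mul, h, one_pow]

theorem PowTriv.mul_left {n : ℕ} (h : PowTriv R A n) (k : ℕ) : PowTriv R A (k * n) := by
  rw [mul_comm]
  exact h.mul R A k

end PowConv

section PowConv2

variable {R : Type u} [CommRing R] {A : Type u} [CommRing A] [HopfAlgebra R A]

theorem powConv_succ_apply' (n : ℕ) {a : A} {ι : Type*} (ℛ : Coalgebra.Repr R a ι) :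
    SGA3b.powConv R A (n + 1) a =
      ∑ i ∈ ℛ.index, SGA3b.powConv R A n (ℛ.left i) * ℛ.right i := by
  rw [powConv_succ]
  have h := AlgHom.toLinearMap_convMul (toConv (SGA3b.powConv R A n)) (toConv (AlgHom.id R A))
  have h2 := congrArg (fun g : WithConv (A →ₗ[R] A) => g a) h
  simp only at h2
  rw [ℛ.convMul_apply] at h2
  exact h2

variable {B : Type u} [CommRing B] [HopfAlgebra R B]

/-- Bialgebra maps commute with the power endomorphisms. -/
theorem bialgHom_powConv (f : A →ₐc[R] B) (n : ℕ) (a : A) :
    f (SGA3b.powConv R A n a) = SGA3b.powConv R B n (f a) := by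
  induction n generalizing a with
  | zero =>
    rw [powConv_zero_apply, powConv_zero_apply, CoalgHomClass.counit_comp_apply]
    exact AlgHomClass.commutes f _
  | succ n ih =>
    rw [powConv_succ_apply' n (Coalgebra.Repr.arbitrary R a),
      powConv_succ_apply' n ((Coalgebra.Repr.arbitrary R a).induced f), map_sum]
    refine Finset.sum_congr rfl fun i _ => ?_
    rw [map_mul, ih]
    rfl

theorem PowTriv.of_injective (f : A →ₐc[R] B) (hf : Function.Injective f) {n : ℕ}
    (h : PowTriv R B n) : PowTriv R A n := by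
  intro a
  apply hf
  rw [bialgHom_powConv, h, CoalgHomClass.counit_comp_apply]
  exact (AlgHomClass.commutes f _).symm

theorem PowTriv.of_surjective (f : A →ₐc[R] B) (hf : Function.Surjective f) {n : ℕ}
    (h : PowTriv R A n) : PowTriv R B n := by
  intro b
  obtain ⟨a, rfl⟩ := hf b
  rw [← bialgHom_powConv, h, CoalgHomClass.counit_comp_apply]
  exact AlgHomClass.commutes f _

theorem powTriv_congr (e : A ≃ₐc[R] B) (n : ℕ) : PowTriv R A n ↔ PowTriv R B n :=
  ⟨PowTriv.of_surjective (e : A →ₐc[R] B) e.surjective,
   PowTriv.of_injective (e : A →ₐc[R] B) e.injective⟩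

end PowConv2

section PowDiag

variable {R : Type u} [CommRing R] {M : Type u} [CommGroup M]

/-- The evident representation of the comultiplication of a monomial. -/
noncomputable def reprSingle (m : M) (r : R) :
    Coalgebra.Repr R (MonoidAlgebra.single m r : MonoidAlgebra R M) Unit where
  index := {()}
  left := fun _ => MonoidAlgebra.single m 1
  right := fun _ => MonoidAlgebra.single m r
  eq := by
    rw [MonoidAlgebra.comul_single]
    simp

theorem powConv_single (n : ℕ) (m : M) (r : R) :
    SGA3b.powConv R (MonoidAlgebra R M) n (MonoidAlgebra.single m r) =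
      MonoidAlgebra.single (m ^ n) r := by
  induction n generalizing r with
  | zero =>
    rw [powConv_zero_apply, MonoidAlgebra.counit_single, pow_zero]
    simp [MonoidAlgebra.coe_algebraMap]
  | succ n ih =>
    rw [powConv_succ_apply' n (reprSingle m r)]
    simp only [reprSingle, Finset.sum_singleton]
    rw [ih, MonoidAlgebra.single_mul_single, one_mul, pow_succ]

end PowDiag


section DiagFinite

variable {R : Type u} [CommRing R] {M : Type u} [CommGroup M]

theorem diag_powTriv_iff (n : ℕ) [Nontrivial R] :
    PowTriv R (MonoidAlgebra R M) n ↔ ∀ m : M, m ^ n = 1 := by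
  constructor
  · intro h m
    have h1 := h (MonoidAlgebra.single m 1)
    rw [powConv_single, MonoidAlgebra.counit_single] at h1
    have h2 : (MonoidAlgebra.single (m ^ n) (1 : R) : MonoidAlgebra R M) =
        MonoidAlgebra.single 1 1 := by
      rw [h1]
      simp [MonoidAlgebra.coe_algebraMap]
    exact MonoidAlgebra.single_left_injective (one_ne_zero) h2
  · intro h a
    induction a using MonoidAlgebra.induction_linear with
    | zero => simp
    | add f g hf hg => rw [map_add, map_add, map_add, hf, hg]
    | single m r =>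
      rw [powConv_single, h m, MonoidAlgebra.counit_single]
      simp [MonoidAlgebra.coe_algebraMap]

theorem diag_finite_iff (hft : Algebra.FiniteType R (MonoidAlgebra R M)) :
    Module.Finite R (MonoidAlgebra R M) ↔ ∃ n, 0 < n ∧ PowTriv R (MonoidAlgebra R M) n := by
  rcases subsingleton_or_nontrivial R with hR | hR
  · have : Subsingleton (MonoidAlgebra R M) := Module.subsingleton R _
    exact ⟨fun _ => ⟨1, Nat.one_pos, fun a => Subsingleton.elim _ _⟩, fun _ => inferInstance⟩
  · have hfg : Group.FG M := MonoidAlgebra.finiteType_iff_group_fg.mp hft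
    constructor
    · intro hfin
      have : Finite M := Module.Finite.finite_basis (MonoidAlgebra.basis M R)
      refine ⟨Nat.card M, Nat.card_pos, ?_⟩
      rw [diag_powTriv_iff]
      intro m
      exact pow_card_eq_one'
    · rintro ⟨n, hn, h⟩
      rw [diag_powTriv_iff] at h
      have htors : IsMulTorsion M := fun g =>
        isOfFinOrder_iff_pow_eq_one.mpr ⟨n, hn, h g⟩
      have : Finite M := CommGroup.finite_of_fg_isMulTorsion M htors
      infer_instance

end DiagFinite


section PowBC

variable {R : Type u} [CommRing R] {A : Type u} [CommRing A] [HopfAlgebra R A]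
variable (S : Type u) [CommRing S] [Algebra R S]

/-- Base change of a representation of the comultiplication. -/
noncomputable def reprBC {a : A} {ι : Type*} (ℛ : Coalgebra.Repr R a ι) :
    Coalgebra.Repr S ((1 : S) ⊗ₜ[R] a) ι where
  index := ℛ.index
  left := fun i => (1 : S) ⊗ₜ[R] ℛ.left i
  right := fun i => (1 : S) ⊗ₜ[R] ℛ.right i
  eq := by
    simp [← ℛ.eq, TensorProduct.tmul_sum]

theorem counit_tmul' (s : S) (a : A) : Coalgebra.counit (R := S) (s ⊗ₜ[R] a) =
    algebraMap R S (Coalgebra.counit a) * s := by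
  rw [TensorProduct.counit_tmul, Algebra.smul_def]
  simp

theorem powConv_one_tmul (n : ℕ) (a : A) :
    SGA3b.powConv S (S ⊗[R] A) n ((1 : S) ⊗ₜ[R] a) = (1 : S) ⊗ₜ[R] SGA3b.powConv R A n a := by
  induction n generalizing a with
  | zero =>
    rw [powConv_zero_apply, powConv_zero_apply, counit_tmul', mul_one, algebraMap_tmul_one]
  | succ n ih =>
    rw [powConv_succ_apply' n (reprBC S (Coalgebra.Repr.arbitrary R a)),
      powConv_succ_apply' n (Coalgebra.Repr.arbitrary R a), TensorProduct.tmul_sum]
    refine Finset.sum_congr rfl fun i _ => ?_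
    simp only [reprBC]
    rw [ih, Algebra.TensorProduct.tmul_mul_tmul, one_mul]

theorem powConv_tmul (n : ℕ) (s : S) (a : A) :
    SGA3b.powConv S (S ⊗[R] A) n (s ⊗ₜ[R] a) = s ⊗ₜ[R] SGA3b.powConv R A n a := by
  have h3 : ∀ b : A, s ⊗ₜ[R] b = s • ((1 : S) ⊗ₜ[R] b) := by
    intro b
    rw [TensorProduct.smul_tmul', smul_eq_mul, mul_one]
  rw [h3, map_smul, powConv_one_tmul, ← h3]

theorem PowTriv.baseChange {n : ℕ} (h : PowTriv R A n) : PowTriv S (S ⊗[R] A) n := by
  intro x
  induction x using TensorProduct.induction_on with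
  | zero => simp
  | add x y hx hy => rw [map_add, map_add, map_add, hx, hy]
  | tmul s a =>
    rw [powConv_tmul, h a, counit_tmul', mul_comm, map_mul, algebraMap_tmul_one,
      Algebra.TensorProduct.algebraMap_apply, Algebra.TensorProduct.tmul_mul_tmul]
    simp

/-- Triviality of the `n`-th power map descends along base changes in which `A` embeds. -/
theorem PowTriv.of_baseChange {n : ℕ} (h : PowTriv S (S ⊗[R] A) n) (a : A) :
    (1 : S) ⊗ₜ[R] SGA3b.powConv R A n a = (1 : S) ⊗ₜ[R] algebraMap R A (Coalgebra.counit a) := by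
  rw [← powConv_one_tmul, h, counit_tmul', mul_one, algebraMap_tmul_one]

end PowBC

section FinDescent

variable (R : Type u) [CommRing R] (A : Type u) [CommRing A] [HopfAlgebra R A]

/-- Finite if and only if killed by some positive integer. -/
def FinIffTors : Prop :=
  Module.Finite R A ↔ ∃ n, 0 < n ∧ PowTriv R A n

theorem finIffTors_of_isDiag (hft : Algebra.FiniteType R A) (h : SGA3b.IsDiag R A) :
    FinIffTors R A := by
  obtain ⟨M, _, ⟨e⟩⟩ := h
  have hft' : Algebra.FiniteType R (MonoidAlgebra R M) := hft.equiv (e : A ≃ₐ[R] MonoidAlgebra R M)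
  have key := diag_finite_iff hft'
  constructor
  · intro hfin
    have : Module.Finite R (MonoidAlgebra R M) :=
      Module.Finite.equiv ((e : A ≃ₐ[R] MonoidAlgebra R M).toLinearEquiv)
    obtain ⟨n, hn, h⟩ := key.mp this
    exact ⟨n, hn, (powTriv_congr e n).mpr h⟩
  · rintro ⟨n, hn, h⟩
    have : Module.Finite R (MonoidAlgebra R M) := key.mpr ⟨n, hn, (powTriv_congr e n).mp h⟩
    exact Module.Finite.equiv ((e : A ≃ₐ[R] MonoidAlgebra R M).toLinearEquiv.symm)

variable {R A}

theorem finIffTors_of_faithfullyFlat (S : Type u) [CommRing S] [Algebra R S]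
    [Module.FaithfullyFlat R S] (hS : FinIffTors S (S ⊗[R] A)) : FinIffTors R A := by
  constructor
  · intro hfin
    obtain ⟨n, hn, h⟩ := hS.mp inferInstance
    refine ⟨n, hn, fun a => ?_⟩
    exact Module.FaithfullyFlat.tensorProduct_mk_injective (A := R) (B := S) A
      (PowTriv.of_baseChange S h a)
  · rintro ⟨n, hn, h⟩
    have : Module.Finite S (S ⊗[R] A) := hS.mpr ⟨n, hn, h.baseChange S⟩
    exact Module.Finite.of_finite_tensorProduct_of_faithfullyFlat S

theorem finIffTors_of_isMultTypeConst (hft : Algebra.FiniteType R A)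
    (h : SGA3b.IsMultTypeConst R A) : FinIffTors R A := by
  obtain ⟨R', _, _, hff, hd⟩ := h
  exact finIffTors_of_faithfullyFlat R' (finIffTors_of_isDiag R' _ inferInstance hd)

theorem finIffTors_of_isMultType (hft : Algebra.FiniteType R A)
    (h : SGA3b.IsMultType R A) : FinIffTors R A := by
  obtain ⟨s, hs, hf⟩ := h
  have hloc : ∀ f ∈ s, FinIffTors (Localization.Away f) (Localization.Away f ⊗[R] A) :=
    fun f hfs => finIffTors_of_isMultTypeConst inferInstance (hf f hfs)
  constructor
  · intro hfin
    obtain ⟨t, hts, ht⟩ := (Ideal.span_eq_top_iff_finite s).mp hs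
    have hex : ∀ f : R, ∃ n, 0 < n ∧ (f ∈ t →
        PowTriv (Localization.Away f) (Localization.Away f ⊗[R] A) n) := by
      intro f
      by_cases hft : f ∈ t
      · obtain ⟨n, hn, h⟩ := (hloc f (hts hft)).mp inferInstance
        exact ⟨n, hn, fun _ => h⟩
      · exact ⟨1, Nat.one_pos, fun h => absurd h hft⟩
    choose nf hnf hP using hex
    refine ⟨∏ f ∈ t, nf f, Finset.prod_pos fun f _ => hnf f, fun a => ?_⟩
    rw [← sub_eq_zero, ← Submodule.mem_bot R]
    refine Submodule.mem_of_span_eq_top_of_smul_pow_mem ⊥ (t : Set R) ht _ fun f => ?_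
    have hdvd : nf (f : R) ∣ ∏ g ∈ t, nf g := Finset.dvd_prod_of_mem nf f.2
    obtain ⟨k, hk⟩ := hdvd
    have h1 : PowTriv (Localization.Away (f : R)) (Localization.Away (f : R) ⊗[R] A)
        (∏ g ∈ t, nf g) := by
      rw [hk]
      exact (hP f f.2).mul _ _ k
    have h2 : TensorProduct.mk R (Localization.Away (f : R)) A 1
        (SGA3b.powConv R A (∏ g ∈ t, nf g) a - algebraMap R A (Coalgebra.counit a)) =
        TensorProduct.mk R (Localization.Away (f : R)) A 1 0 := by
      rw [map_sub, map_zero, sub_eq_zero]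
      exact PowTriv.of_baseChange _ h1 a
    obtain ⟨n, hn⟩ := IsLocalizedModule.Away.exists_of_eq (f : R) h2
    refine ⟨n, ?_⟩
    rw [Submodule.mem_bot, hn, smul_zero]
  · rintro ⟨n, hn, h⟩
    refine Module.Finite.of_localizationSpan' s hs
      (Mₚ := fun g => Localization.Away (g : R) ⊗[R] A)
      (Rₚ := fun g => Localization.Away (g : R))
      (fun g => TensorProduct.mk R (Localization.Away (g : R)) A 1) fun g => ?_
    exact (hloc g g.2).mpr ⟨n, hn, h.baseChange _⟩

/-- S2984 in library form. -/
theorem finite_iff_torsionIdeal_eq_bot (hft : Algebra.FiniteType R A)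
    (h : SGA3b.IsMultType R A) :
    Module.Finite R A ↔ ∃ n : ℕ, 0 < n ∧ SGA3b.torsionIdeal R A n = ⊥ := by
  have key : Module.Finite R A ↔ ∃ n, 0 < n ∧ PowTriv R A n := finIffTors_of_isMultType hft h
  rw [key]
  simp only [torsionIdeal_eq_bot_iff]

end FinDescent

end Groth.Agent.Lib.MultType58
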