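import Mathlib
import Groth.Agent.Lib.MultType58d

/-!
# A finite étale commutative group scheme over a field is killed by its order (helper58)

`powTriv_finrank_of_etale`: for a finite étale commutative Hopf algebra `A` over a field `k`,
the `finrank k A`-th power endomorphism is trivial.  (Lagrange for the finite group of points over
a separable closure.)
-/

set_option autoImplicit false
universe u

namespace Groth.Agent.Lib.EtalePow58

open TensorProduct WithConv Groth.Agent.Lib.MultType58

section Pi

variable {K : Type u} [Field K] {I : Type*} [Finite I]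

/-- Every `K`-algebra homomorphism `(I → K) → K` is an evaluation. -/
theorem exists_eval_eq (φ : (I → K) →ₐ[K] K) : ∃ i, ∀ f, φ f = f i := by
  classical
  cases nonempty_fintype I
  have h1 : ∑ i, φ (Pi.single i 1) = 1 := by
    rw [← map_sum, Finset.univ_sum_single]
    exact map_one φ
  have h2 : ∃ i, φ (Pi.single i 1) ≠ 0 := by
    by_contra h
    push Not at h
    rw [Finset.sum_congr rfl (fun i _ => h i), Finset.sum_const_zero] at h1
    exact zero_ne_one h1
  obtain ⟨i, hi⟩ := h2
  refine ⟨i, fun f => ?_⟩
  have h3 : (f - algebraMap K (I → K) (f i)) * Pi.single i 1 = 0 := by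
    funext j
    by_cases hj : j = i
    · subst hj
      simp
    · simp [Pi.single_eq_of_ne hj]
  have h4 := congrArg φ h3
  rw [map_mul, map_zero, map_sub, AlgHom.commutes] at h4
  rcases mul_eq_zero.mp h4 with h5 | h5
  · rw [sub_eq_zero] at h5
    exact h5
  · exact absurd h5 hi

end Pi

section Points

variable (K : Type u) [Field K] [IsSepClosed K] (B : Type u) [CommRing B] [HopfAlgebra K B]
  [Module.Finite K B] [Algebra.Etale K B]

theorem card_points :
    Finite (WithConv (B →ₐ[K] K)) ∧ Nat.card (WithConv (B →ₐ[K] K)) = Module.finrank K B := by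
  classical
  let e := Algebra.FormallyEtale.equivPiOfIsSepClosed K B
  have hart : IsArtinianRing B := IsArtinianRing.of_finite K B
  have hfin : Finite (PrimeSpectrum B) := inferInstance
  cases nonempty_fintype (PrimeSpectrum B)
  have h1 : Module.finrank K B = Fintype.card (PrimeSpectrum B) := by
    rw [e.toLinearEquiv.finrank_eq, Module.finrank_fintype_fun_eq_card]
  let F : PrimeSpectrum B → WithConv (B →ₐ[K] K) := fun i =>
    toConv ((Pi.evalAlgHom K (fun _ : PrimeSpectrum B => K) i).comp (e : B →ₐ[K] _))
  have hF : Function.Bijective F := by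
    constructor
    · intro i j hij
      by_contra hne
      have h2 := congrArg (fun γ : WithConv (B →ₐ[K] K) => γ.ofConv (e.symm (Pi.single i 1))) hij
      simp [F] at h2
      rw [Pi.single_eq_of_ne (Ne.symm hne)] at h2
      exact one_ne_zero h2
    · intro γ
      obtain ⟨i, hi⟩ := exists_eval_eq (γ.ofConv.comp (e.symm.toAlgHom))
      refine ⟨i, ?_⟩
      apply WithConv.ofConv_injective
      apply AlgHom.ext
      intro b
      have h4 := hi (e b)
      have h5 : e.symm (e b) = b := e.symm_apply_apply b
      have h6 : (γ.ofConv.comp (e.symm.toAlgHom)) (e b) = γ.ofConv (e.symm (e b)) := rfl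
      rw [h6, h5] at h4
      rw [h4]
      rfl
  refine ⟨Finite.of_equiv _ (Equiv.ofBijective F hF), ?_⟩
  rw [h1, ← Nat.card_eq_fintype_card]
  exact (Nat.card_congr (Equiv.ofBijective F hF)).symm

omit [Module.Finite K B] in
theorem points_separate (b : B) (h : ∀ γ : B →ₐ[K] K, γ b = 0) : b = 0 := by
  let e := Algebra.FormallyEtale.equivPiOfIsSepClosed K B
  apply e.injective
  rw [map_zero]
  funext i
  exact h ((Pi.evalAlgHom K (fun _ : PrimeSpectrum B => K) i).comp (e : B →ₐ[K] _))

omit [IsSepClosed K] [Module.Finite K B] [Algebra.Etale K B] in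
theorem comp_powConv (γ : B →ₐ[K] K) (n : ℕ) :
    γ.comp (SGA3b.powConv K B n) = ((toConv γ) ^ n).ofConv := by
  unfold SGA3b.powConv
  induction n with
  | zero =>
    rw [pow_zero, pow_zero]
    apply AlgHom.ext
    intro b
    show γ (algebraMap K B (Coalgebra.counit b)) = algebraMap K K (Coalgebra.counit b)
    rw [AlgHom.commutes]
  | succ n ih =>
    rw [pow_succ, pow_succ, AlgHom.comp_convMul_distrib, ih]
    rfl

theorem powTriv_of_isSepClosed : PowTriv K B (Module.finrank K B) := by
  intro b
  rw [← sub_eq_zero]
  apply points_separate K B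
  intro γ
  rw [map_sub, sub_eq_zero, AlgHom.commutes]
  have h1 := AlgHom.congr_fun (comp_powConv K B γ (Module.finrank K B)) b
  obtain ⟨hfin, hcard⟩ := card_points K B
  have h2 : (toConv γ) ^ Module.finrank K B = 1 := by
    rw [← hcard]
    exact pow_card_eq_one'
  rw [h2] at h1
  exact h1

end Points

section Field

variable (k : Type u) [Field k] (A : Type u) [CommRing A] [HopfAlgebra k A]
  [Module.Finite k A] [Algebra.Etale k A]

/-- A finite étale commutative group scheme over a field is killed by its order. -/
theorem powTriv_finrank_of_etale : PowTriv k A (Module.finrank k A) := by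
  let K := SeparableClosure k
  have h := powTriv_of_isSepClosed K (K ⊗[k] A)
  rw [Module.finrank_baseChange] at h
  intro a
  have h1 := PowTriv.of_baseChange K h a
  exact Algebra.TensorProduct.includeRight_injective (algebraMap k K).injective h1

end Field

end Groth.Agent.Lib.EtalePow58
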