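import Mathlib
import Groth.Prelude.Def_SGA3b

/-!
# Composition of the power endomorphisms of a commutative cocommutative Hopf algebra (helper58)

`powConv_comp`: `[m] ∘ [n] = [n * m]`.
-/

set_option autoImplicit false
universe u

namespace Groth.Agent.Lib.PowConvMul58

open WithConv

variable (R : Type u) [CommRing R] (A : Type u) [CommRing A] [HopfAlgebra R A]
  [Coalgebra.IsCocomm R A]

/-- The `n`-th power endomorphism as a bialgebra homomorphism. -/
noncomputable def powBialgHom (n : ℕ) : A →ₐc[R] A :=
  ((toConv (BialgHom.id R A)) ^ n).ofConv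

theorem powBialgHom_toAlgHom (n : ℕ) :
    ((powBialgHom R A n : A →ₐc[R] A) : A →ₐ[R] A) = SGA3b.powConv R A n := by
  have h := BialgHom.toAlgHom_convPow (toConv (BialgHom.id R A)) n
  have h2 := congrArg ofConv h
  exact h2

theorem powBialgHom_apply (n : ℕ) (a : A) : powBialgHom R A n a = SGA3b.powConv R A n a := by
  rw [← powBialgHom_toAlgHom]
  rfl

omit [Coalgebra.IsCocomm R A] in
theorem pow_comp_bialgHom (h : A →ₐc[R] A) (m : ℕ) :
    ((toConv (AlgHom.id R A)) ^ m).ofConv.comp (h : A →ₐ[R] A) =
      ((toConv (h : A →ₐ[R] A)) ^ m).ofConv := by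
  induction m with
  | zero =>
    rw [pow_zero, pow_zero]
    apply AlgHom.ext
    intro a
    show algebraMap R A (Coalgebra.counit (h a)) = algebraMap R A (Coalgebra.counit a)
    rw [CoalgHomClass.counit_comp_apply]
  | succ m ih =>
    rw [pow_succ, pow_succ, AlgHom.convMul_comp_bialgHom_distrib, ih]
    rfl

theorem powConv_comp (m n : ℕ) :
    (SGA3b.powConv R A m).comp (SGA3b.powConv R A n) = SGA3b.powConv R A (n * m) := by
  have h := pow_comp_bialgHom R A (powBialgHom R A n) m
  rw [powBialgHom_toAlgHom] at h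
  unfold SGA3b.powConv at h ⊢
  rw [h, pow_mul]

theorem powConv_powConv (m n : ℕ) (a : A) :
    SGA3b.powConv R A m (SGA3b.powConv R A n a) = SGA3b.powConv R A (n * m) a := by
  rw [← powConv_comp]
  rfl

end Groth.Agent.Lib.PowConvMul58
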