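import Mathlib
import Groth.Prelude.Def_Versch
import Groth.Prelude.Def_SGA3b

/-!
# `V ∘ F = [p]` for finite locally free commutative group schemes (helper58)

The key identity: for a finite projective commutative cocommutative Hopf algebra `A` over a ring
of characteristic `p` with "dual basis" `(e i, es i)`, the `p`-th convolution power of the identity
is `a ↦ ∑ i, (es i ^ p) a • e i ^ p` (freshman's dream in the commutative convolution ring
`WithConv (A →ₗ[R] A)`, which has characteristic `p`).
-/

set_option autoImplicit false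
universe u

namespace Groth.Agent.Lib.Versch58

open TensorProduct WithConv Coalgebra

section DualBasis

variable (R : Type u) [CommRing R] (A : Type u) [AddCommGroup A] [Module R A]

theorem exists_dual_basis [Module.Finite R A] [Module.Projective R A] :
    ∃ (n : ℕ) (e : Fin n → A) (es : Fin n → (A →ₗ[R] R)), ∀ a, a = ∑ i, es i a • e i := by
  classical
  obtain ⟨n, f, g, -, -, hfg⟩ := Module.Finite.exists_comp_eq_id_of_projective R A
  refine ⟨n, fun i => f (fun j => if i = j then 1 else 0),
    fun i => (LinearMap.proj i) ∘ₗ g, fun a => ?_⟩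
  have h1 : f (g a) = a := LinearMap.congr_fun hfg a
  conv_lhs => rw [← h1, LinearMap.pi_apply_eq_sum_univ f (g a)]
  rfl

end DualBasis

section Conv

variable (R : Type u) [CommRing R] (A : Type u) [CommRing A] [HopfAlgebra R A]

/-- `(x, b) ↦ (a ↦ x a • b)`. -/
noncomputable def theta (x : CartDual.D R A) (b : A) : WithConv (A →ₗ[R] A) :=
  toConv (x.ofConv.smulRight b)

theorem theta_apply (x : CartDual.D R A) (b a : A) : theta R A x b a = x a • b := rfl

theorem theta_mul (x x' : CartDual.D R A) (b b' : A) :
    theta R A x b * theta R A x' b' = theta R A (x * x') (b * b') := by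
  ext a
  rw [(ℛ R a).convMul_apply, theta_apply, (ℛ R a).convMul_apply, Finset.sum_smul]
  refine Finset.sum_congr rfl (fun i _ => ?_)
  rw [theta_apply, theta_apply, smul_mul_smul_comm]

theorem theta_one : theta R A 1 1 = 1 := by
  ext a
  rw [theta_apply, LinearMap.convOne_apply, LinearMap.convOne_apply, Algebra.algebraMap_eq_smul_one,
    Algebra.algebraMap_eq_smul_one, smul_eq_mul, mul_one]

theorem theta_pow (x : CartDual.D R A) (b : A) (n : ℕ) :
    theta R A x b ^ n = theta R A (x ^ n) (b ^ n) := by
  induction n with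
  | zero => rw [pow_zero, pow_zero, pow_zero, theta_one]
  | succ n ih => rw [pow_succ, pow_succ, pow_succ, ih, theta_mul]

theorem algebraMap_conv_injective :
    Function.Injective (algebraMap R (WithConv (A →ₗ[R] A))) := by
  intro r s h
  have h1 := congrArg (fun f : WithConv (A →ₗ[R] A) => counit (R := R) (f 1)) h
  simpa [LinearMap.convAlgebraMap_apply, Algebra.smul_def] using h1

theorem charP_conv (p : ℕ) [CharP R p] : CharP (WithConv (A →ₗ[R] A)) p :=
  charP_of_injective_algebraMap (algebraMap_conv_injective R A) p

variable [Coalgebra.IsCocomm R A]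

/-- The `p`-th convolution power of the identity via a dual basis. -/
theorem powConv_apply (p : ℕ) [Fact p.Prime] [CharP R p] {n : ℕ} (e : Fin n → A)
    (es : Fin n → (A →ₗ[R] R)) (h : ∀ a, a = ∑ i, es i a • e i) (a : A) :
    SGA3b.powConv R A p a = ∑ i, ((toConv (es i) : CartDual.D R A) ^ p) a • e i ^ p := by
  have hc := charP_conv R A p
  have h1 : (toConv (LinearMap.id : A →ₗ[R] A)) = ∑ i, theta R A (toConv (es i)) (e i) := by
    ext a
    show a = (∑ i, theta R A (toConv (es i)) (e i)).ofConv a
    rw [WithConv.ofConv_sum, LinearMap.sum_apply]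
    exact h a
  have h2 : SGA3b.powConv R A p a = ((toConv (LinearMap.id : A →ₗ[R] A)) ^ p) a := by
    have := AlgHom.toLinearMap_convPow (R := R) (A := A) (C := A) (toConv (AlgHom.id R A)) p
    have h3 := congrArg (fun f : WithConv (A →ₗ[R] A) => f a) this
    exact h3
  rw [h2, h1, sum_pow_char]
  show (∑ i, theta R A (toConv (es i)) (e i) ^ p).ofConv a = _
  rw [WithConv.ofConv_sum, LinearMap.sum_apply]
  refine Finset.sum_congr rfl (fun i _ => ?_)
  rw [theta_pow]
  rfl

end Conv

section Frob

variable (p : ℕ) [Fact p.Prime] (R : Type u) [CommRing R] [CharP R p]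
  (A : Type u) [CommRing A] [HopfAlgebra R A] [CharP A p]

theorem relFrob_tmul (a : A) (s : FrobAlg.Twist p R) :
    FrobAlg.relFrob p R A (a ⊗ₜ s) = a ^ p * algebraMap R A ((FrobAlg.toTwist p R).symm s) := by
  simp [FrobAlg.relFrob, FrobAlg.frobHom, FrobAlg.inclHom, Algebra.TensorProduct.lift_tmul]
  rfl

/-- The relative Frobenius in terms of a dual basis and the pairing `evTw`. -/
theorem relFrob_eq_sum {n : ℕ} (e : Fin n → A) (es : Fin n → (A →ₗ[R] R))
    (h : ∀ a, a = ∑ i, es i a • e i) (z : FrobAlg.BaseChange p R A) :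
    FrobAlg.relFrob p R A z =
      ∑ i, (FrobAlg.toTwist p R).symm (Versch.evTw p R A (toConv (es i)) z) • e i ^ p := by
  induction z using TensorProduct.induction_on with
  | zero => simp
  | add z z' hz hz' =>
    rw [map_add, hz, hz', ← Finset.sum_add_distrib]
    refine Finset.sum_congr rfl (fun i _ => ?_)
    rw [map_add, map_add, add_smul]
  | tmul a s =>
    rw [relFrob_tmul]
    conv_lhs => rw [h a, sum_pow_char, Finset.sum_mul]
    refine Finset.sum_congr rfl (fun i _ => ?_)
    rw [Versch.evTw_tmul', map_mul, RingEquiv.symm_apply_apply, smul_pow, mul_smul,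
      Algebra.smul_def, Algebra.smul_def, Algebra.smul_def, CartDual.coe_apply,
      WithConv.ofConv_toConv]
    ring

variable [Coalgebra.IsCocomm R A] [Module.Finite R A] [Module.Projective R A]

/-- `V ∘ F = [p]` (S15889). -/
theorem relFrob_comp_verschiebung (v : A →+* FrobAlg.BaseChange p R A)
    (hv : Versch.IsVerschiebung p R A v) (a : A) :
    FrobAlg.relFrob p R A (v a) = SGA3b.powConv R A p a := by
  obtain ⟨n, e, es, h⟩ := exists_dual_basis R A
  rw [relFrob_eq_sum p R A e es h, powConv_apply R A p e es h]
  refine Finset.sum_congr rfl (fun i _ => ?_)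
  rw [(Versch.isVerschiebung_iff p R A v).mp hv, RingEquiv.symm_apply_apply]

end Frob

end Groth.Agent.Lib.Versch58
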