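import Mathlib
import Groth.Agent.Lib.Versch58
import Groth.Agent.Lib.PowConvMul58
import Groth.Agent.Lib.MultType58d

/-!
# Consequences of `V ∘ F = [p]` (helper58)

* `verschiebung_algebraMap`, `verschiebung_pow_eq`: `v (r • 1) = 1 ⊗ r`, `(v a) ^ p = [p] a ⊗ 1`.
* `verschiebung_relFrob_tmul`: `v (F (a ⊗ s)) = [p] a ⊗ s` (`F ∘ V = [p]` on `G^(p)`).
* `counit_verschiebung`: compatibility of `v` with counits.
-/

set_option autoImplicit false
universe u

namespace Groth.Agent.Lib.Versch58

open TensorProduct WithConv Coalgebra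

section EvalOne

variable (R : Type u) [CommRing R] (A : Type u) [CommRing A] [HopfAlgebra R A]

theorem dual_mul_apply_one (x y : CartDual.D R A) : (x * y) (1 : A) = x 1 * y 1 := by
  rw [LinearMap.convMul_apply, Bialgebra.comul_one]
  simp [Algebra.TensorProduct.one_def, CartDual.coe_apply]

theorem dual_pow_apply_one (x : CartDual.D R A) (n : ℕ) : (x ^ n) (1 : A) = (x 1) ^ n := by
  induction n with
  | zero =>
    rw [pow_zero, pow_zero, LinearMap.convOne_apply, Bialgebra.counit_one]
    simp
  | succ n ih => rw [pow_succ, pow_succ, dual_mul_apply_one, ih]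

end EvalOne

section Versch

variable (p : ℕ) [Fact p.Prime] (R : Type u) [CommRing R] [CharP R p]
  (A : Type u) [CommRing A] [HopfAlgebra R A] [CharP A p]
  [Coalgebra.IsCocomm R A] [Module.Finite R A] [Module.Projective R A]
  (v : A →+* FrobAlg.BaseChange p R A) (hv : Versch.IsVerschiebung p R A v)

include hv

omit [CharP A p] in
theorem verschiebung_algebraMap (r : R) :
    v (algebraMap R A r) = (1 : A) ⊗ₜ[R] FrobAlg.toTwist p R r := by
  apply Versch.evTw_injective p R A
  intro x
  rw [(Versch.isVerschiebung_iff p R A v).mp hv, Versch.evTw_tmul', Algebra.algebraMap_eq_smul_one,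
    CartDual.coe_apply, map_smul, ← CartDual.coe_apply, dual_pow_apply_one, smul_eq_mul, map_mul,
    mul_comm]

omit [CharP A p] in
/-- `(ε ⊗ id) (v a) = ε a`. -/
theorem counit_verschiebung (a : A) :
    Versch.evTw p R A 1 (v a) = FrobAlg.toTwist p R (counit a) := by
  rw [(Versch.isVerschiebung_iff p R A v).mp hv, one_pow, LinearMap.convOne_apply]
  simp

omit hv [CharP A p] [Coalgebra.IsCocomm R A] [Module.Finite R A] [Module.Projective R A] in
theorem charP_baseChange : CharP (FrobAlg.BaseChange p R A) p := by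
  have hinj : Function.Injective (algebraMap (FrobAlg.Twist p R) (FrobAlg.BaseChange p R A)) := by
    intro s t h
    have e : ∀ s : FrobAlg.Twist p R,
        algebraMap (FrobAlg.Twist p R) (FrobAlg.BaseChange p R A) s = (1 : A) ⊗ₜ[R] s := fun s => rfl
    have h1 := congrArg (Versch.evTw p R A 1) h
    rw [e, e, Versch.evTw_tmul, Versch.evTw_tmul] at h1
    simpa [CartDual.coe_apply] using h1
  exact charP_of_injective_algebraMap hinj p

omit hv [Coalgebra.IsCocomm R A] [Module.Finite R A] [Module.Projective R A] in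
theorem pow_eq_relFrob_tmul (z : FrobAlg.BaseChange p R A) :
    z ^ p = FrobAlg.relFrob p R A z ⊗ₜ[R] (1 : FrobAlg.Twist p R) := by
  have hc := charP_baseChange p R A
  induction z using TensorProduct.induction_on with
  | zero => simp [zero_pow (Fact.out : p.Prime).ne_zero]
  | add z z' hz hz' => rw [add_pow_char, hz, hz', map_add, TensorProduct.add_tmul]
  | tmul a s =>
    rw [relFrob_tmul, Algebra.TensorProduct.tmul_pow, mul_comm, ← Algebra.smul_def,
      TensorProduct.smul_tmul, Algebra.smul_def, mul_one, FrobAlg.algebraMap_twist, map_pow,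
      RingEquiv.apply_symm_apply]

theorem verschiebung_pow (a : A) :
    v a ^ p = SGA3b.powConv R A p a ⊗ₜ[R] (1 : FrobAlg.Twist p R) := by
  rw [pow_eq_relFrob_tmul, relFrob_comp_verschiebung p R A v hv]

/-- `F ∘ V = [p]` on `G^(p)`, pure tensors. -/
theorem verschiebung_relFrob_tmul (a : A) (s : FrobAlg.Twist p R) :
    v (FrobAlg.relFrob p R A (a ⊗ₜ s)) = SGA3b.powConv R A p a ⊗ₜ[R] s := by
  rw [relFrob_tmul, map_mul, map_pow, verschiebung_pow p R A v hv, verschiebung_algebraMap p R A v hv,
    RingEquiv.apply_symm_apply, Algebra.TensorProduct.tmul_mul_tmul, mul_one, one_mul]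

end Versch

end Groth.Agent.Lib.Versch58
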