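import Mathlib
import Groth.Agent.Lib.Versch58b

/-!
# Étale finite algebras in characteristic `p` and the Frobenius span; `V` bijective (helper58)

* `FS p k D`: the `p`-th powers span `D` over `k` (the relative Frobenius is surjective).
* `etale_of_fs`, `fs_of_etale`: for a finite commutative `k`-algebra, étale iff `FS`.
* `verschiebung_bijective_iff`: the Verschiebung is bijective iff `FS` holds for the dual.
-/

set_option autoImplicit false
universe u v

namespace Groth.Agent.Lib.Versch58

open TensorProduct WithConv Coalgebra

section FS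

variable (p : ℕ) [Fact p.Prime] (k : Type u) [Field k] [CharP k p]
  (D : Type v) [CommRing D] [Algebra k D]

/-- The `p`-th powers span `D`. -/
def FS : Prop := Submodule.span k (Set.range (fun b : D => b ^ p)) = ⊤

omit [Fact p.Prime] in
theorem etale_of_fs [Module.Finite k D] (h : FS p k D) : Algebra.Etale k D := by
  have hD : ∀ b : D, KaehlerDifferential.D k D b = 0 := by
    intro b
    have hb : b ∈ Submodule.span k (Set.range (fun b : D => b ^ p)) := by
      rw [h]; exact Submodule.mem_top
    induction hb using Submodule.span_induction with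
    | mem x hx =>
      obtain ⟨c, rfl⟩ := hx
      show KaehlerDifferential.D k D (c ^ p) = 0
      rw [Derivation.leibniz_pow, ← Nat.cast_smul_eq_nsmul k, CharP.cast_eq_zero, zero_smul]
    | zero => exact map_zero _
    | add x y _ _ hx hy => rw [map_add, hx, hy, add_zero]
    | smul r x _ hx => rw [Derivation.map_smul, hx, smul_zero]
  have hU : Algebra.FormallyUnramified k D := by
    refine ⟨⟨fun x y => ?_⟩⟩
    have hz : ∀ z : Ω[D⁄k], z = 0 := by
      intro z
      have hz : z ∈ Submodule.span D (Set.range (KaehlerDifferential.D k D)) := by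
        rw [KaehlerDifferential.span_range_derivation]; exact Submodule.mem_top
      induction hz using Submodule.span_induction with
      | mem x hx =>
        obtain ⟨c, rfl⟩ := hx
        exact hD c
      | zero => rfl
      | add x y _ _ hx hy => rw [hx, hy, add_zero]
      | smul r x _ hx => rw [hx, smul_zero]
    rw [hz x, hz y]
  have hE : Algebra.FormallyEtale k D := Algebra.FormallyEtale.of_formallyUnramified_of_field k D
  exact ⟨hE, Algebra.FinitePresentation.of_finiteType.mp inferInstance⟩

theorem fs_of_etale (h : Algebra.Etale k D) : FS p k D := by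
  classical
  obtain ⟨I, hI, Ai, hF, hA, e, H⟩ := (Algebra.Etale.iff_exists_algEquiv_prod k D).mp h
  have := Fintype.ofFinite I
  let S : Submodule k D := Submodule.span k (Set.range (fun b : D => b ^ p))
  have hS : ∀ (i : I) (y : Ai i), e.symm (Pi.single i y) ∈ S := by
    intro i y
    have := (H i).2
    have hy : y ∈ Submodule.span k (Set.range (fun c : Ai i => c ^ p ^ 1)) := by
      rw [Field.span_map_pow_expChar_pow_eq_top_of_isSeparable (F := k) (E := Ai i) p 1
        (v := fun c : Ai i => c) (by
          rw [eq_top_iff]
          intro c _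
          exact Submodule.subset_span ⟨c, rfl⟩)]
      exact Submodule.mem_top
    induction hy using Submodule.span_induction with
    | mem x hx =>
      obtain ⟨c, rfl⟩ := hx
      apply Submodule.subset_span
      refine ⟨e.symm (Pi.single i c), ?_⟩
      show (e.symm (Pi.single i c)) ^ p = e.symm (Pi.single i (c ^ p ^ 1))
      rw [← map_pow, pow_one]
      congr 1
      funext j
      by_cases hj : j = i
      · subst hj
        simp
      · simp [Pi.single_eq_of_ne hj, zero_pow (Fact.out : p.Prime).ne_zero]
    | zero =>
      rw [Pi.single_zero, map_zero]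
      exact zero_mem _
    | add x y _ _ hx hy =>
      rw [Pi.single_add, map_add]
      exact add_mem hx hy
    | smul r x _ hx =>
      have : Pi.single i (r • x) = r • (Pi.single i x : ∀ i, Ai i) := by
        rw [Pi.single_smul]
      rw [this, map_smul]
      exact Submodule.smul_mem _ _ hx
  show S = ⊤
  rw [eq_top_iff]
  intro x _
  have hx : x = e.symm (∑ i, Pi.single i (e x i)) := by
    rw [Finset.univ_sum_single, AlgEquiv.symm_apply_apply]
  rw [hx, map_sum]
  exact Submodule.sum_mem _ (fun i _ => hS i _)

end FS

section EvTw

variable (p : ℕ) [Fact p.Prime] (R : Type u) [CommRing R] [CharP R p]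
  (A : Type v) [CommRing A] [HopfAlgebra R A]

theorem evTw_add_left (x x' : CartDual.D R A) (z : FrobAlg.BaseChange p R A) :
    Versch.evTw p R A (x + x') z = Versch.evTw p R A x z + Versch.evTw p R A x' z := by
  induction z using TensorProduct.induction_on with
  | zero => simp
  | add z z' hz hz' => rw [map_add, map_add, map_add, hz, hz']; abel
  | tmul a s =>
    rw [Versch.evTw_tmul', Versch.evTw_tmul', Versch.evTw_tmul', CartDual.coe_apply,
      WithConv.ofConv_add, LinearMap.add_apply, add_pow_char, map_add, add_mul]

theorem evTw_smul_left (c : R) (x : CartDual.D R A) (z : FrobAlg.BaseChange p R A) :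
    Versch.evTw p R A (c • x) z = FrobAlg.toTwist p R (c ^ p) * Versch.evTw p R A x z := by
  induction z using TensorProduct.induction_on with
  | zero => simp
  | add z z' hz hz' => rw [map_add, map_add, hz, hz', mul_add]
  | tmul a s =>
    rw [Versch.evTw_tmul', Versch.evTw_tmul', CartDual.coe_apply, WithConv.ofConv_smul,
      LinearMap.smul_apply, smul_eq_mul, mul_pow, map_mul, mul_assoc]

theorem evTw_zero_left (z : FrobAlg.BaseChange p R A) : Versch.evTw p R A 0 z = 0 := by
  have := evTw_smul_left p R A 0 0 z
  rw [zero_smul, zero_pow (Fact.out : p.Prime).ne_zero, map_zero, zero_mul] at this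
  exact this

theorem evTw_mul_right (x : CartDual.D R A) (z : FrobAlg.BaseChange p R A)
    (t : FrobAlg.Twist p R) :
    Versch.evTw p R A x (z * ((1 : A) ⊗ₜ[R] t)) = Versch.evTw p R A x z * t := by
  induction z using TensorProduct.induction_on with
  | zero => simp
  | add z z' hz hz' => rw [add_mul, map_add, map_add, hz, hz', add_mul]
  | tmul a s =>
    rw [Algebra.TensorProduct.tmul_mul_tmul, mul_one, Versch.evTw_tmul, Versch.evTw_tmul, mul_assoc]

variable [Module.Finite R A] [Module.Projective R A]

/-- Two elements of `A^(p)` with the same pairings against a spanning family of forms agree. -/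
theorem eq_of_evTw_eq_of_span {ι : Type*} (x : ι → CartDual.D R A)
    (hx : Submodule.span R (Set.range x) = ⊤) {z z' : FrobAlg.BaseChange p R A}
    (h : ∀ i, Versch.evTw p R A (x i) z = Versch.evTw p R A (x i) z') : z = z' := by
  apply Versch.evTw_injective p R A
  intro y
  have hy : y ∈ Submodule.span R (Set.range x) := by rw [hx]; exact Submodule.mem_top
  induction hy using Submodule.span_induction with
  | mem y hy =>
    obtain ⟨i, rfl⟩ := hy
    exact h i
  | zero => rw [evTw_zero_left, evTw_zero_left]
  | add y y' _ _ hy hy' => rw [evTw_add_left, evTw_add_left, hy, hy']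
  | smul c y _ hy => rw [evTw_smul_left, evTw_smul_left, hy]

variable [Coalgebra.IsCocomm R A] (v : A →+* FrobAlg.BaseChange p R A)
  (hv : Versch.IsVerschiebung p R A v)

include hv

theorem verschiebung_algebraMap' (r : R) :
    v (algebraMap R A r) = (1 : A) ⊗ₜ[R] FrobAlg.toTwist p R r := by
  have h1 : ∀ (x : CartDual.D R A) (n : ℕ), (x ^ n) (1 : A) = (x 1) ^ n := by
    intro x n
    induction n with
    | zero =>
      rw [pow_zero, pow_zero, LinearMap.convOne_apply, Bialgebra.counit_one]
      simp
    | succ n ih =>
      rw [pow_succ, pow_succ, LinearMap.convMul_apply, Bialgebra.comul_one, ← ih]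
      simp [Algebra.TensorProduct.one_def, CartDual.coe_apply]
  apply Versch.evTw_injective p R A
  intro x
  rw [(Versch.isVerschiebung_iff p R A v).mp hv, Versch.evTw_tmul', Algebra.algebraMap_eq_smul_one,
    CartDual.coe_apply, map_smul, ← CartDual.coe_apply, h1, smul_eq_mul, map_mul, mul_comm]

end EvTw

section VBij

variable (p : ℕ) [Fact p.Prime] (k : Type u) [Field k] [CharP k p]
  (A : Type v) [CommRing A] [HopfAlgebra k A] [Coalgebra.IsCocomm k A] [FiniteDimensional k A]
  (v : A →+* FrobAlg.BaseChange p k A) (hv : Versch.IsVerschiebung p k A v)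

include hv

theorem fs_of_injective (hinj : Function.Injective v) : FS p k (CartDual.D k A) := by
  by_contra hne
  let W : Submodule k (CartDual.D k A) :=
    Submodule.span k (Set.range (fun b : CartDual.D k A => b ^ p))
  let W' : Subspace k (Module.Dual k A) := W.map (CartDual.toDual k A).toLinearMap
  have hW' : W'.dualCoannihilator ≠ ⊥ := by
    intro h0
    have h1 : W' = ⊤ := by
      rw [← Subspace.dualCoannihilator_dualAnnihilator_eq (W := W'), h0,
        Submodule.dualAnnihilator_bot]
    apply hne
    show W = ⊤
    rw [eq_top_iff]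
    intro y _
    have : CartDual.toDual k A y ∈ W' := by rw [h1]; exact Submodule.mem_top
    obtain ⟨y', hy', hyy⟩ := this
    have := (CartDual.toDual k A).injective hyy
    rwa [← this]
  obtain ⟨a, ha, ha0⟩ := (Submodule.ne_bot_iff _).mp hW'
  apply ha0
  apply hinj
  rw [map_zero]
  apply Versch.evTw_injective p k A
  intro x
  rw [(Versch.isVerschiebung_iff p k A v).mp hv, map_zero]
  have hx : CartDual.toDual k A (x ^ p) ∈ W' :=
    ⟨x ^ p, Submodule.subset_span ⟨x, rfl⟩, rfl⟩
  have := (Submodule.mem_dualCoannihilator a).mp ha _ hx
  have h2 : (x ^ p) a = 0 := this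
  rw [h2, map_zero]

theorem injective_of_fs (h : FS p k (CartDual.D k A)) : Function.Injective v := by
  intro a b hab
  rw [← sub_eq_zero]
  rw [← sub_eq_zero, ← map_sub] at hab
  rw [← Module.forall_dual_apply_eq_zero_iff k]
  intro φ
  have hφ : (toConv φ : CartDual.D k A) ∈
      Submodule.span k (Set.range (fun b : CartDual.D k A => b ^ p)) := by
    rw [h]; exact Submodule.mem_top
  have key : ∀ y : CartDual.D k A,
      y ∈ Submodule.span k (Set.range (fun b : CartDual.D k A => b ^ p)) → y (a - b) = 0 := by
    intro y hy
    induction hy using Submodule.span_induction with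
    | mem y hy =>
      obtain ⟨x, rfl⟩ := hy
      have h1 := (Versch.isVerschiebung_iff p k A v).mp hv (a - b) x
      rw [hab, map_zero] at h1
      have h2 := congrArg (FrobAlg.toTwist p k).symm h1
      rw [RingEquiv.symm_apply_apply, map_zero] at h2
      exact h2.symm
    | zero => rfl
    | add y y' _ _ hy hy' =>
      show (y + y').ofConv (a - b) = 0
      rw [WithConv.ofConv_add, LinearMap.add_apply]
      have e1 : y.ofConv (a - b) = 0 := hy
      have e2 : y'.ofConv (a - b) = 0 := hy'
      rw [e1, e2, add_zero]
    | smul c y _ hy =>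
      show (c • y).ofConv (a - b) = 0
      rw [WithConv.ofConv_smul, LinearMap.smul_apply]
      have e1 : y.ofConv (a - b) = 0 := hy
      rw [e1, smul_zero]
  exact key _ hφ

theorem surjective_of_fs (h : FS p k (CartDual.D k A)) : Function.Surjective v := by
  classical
  let x := Module.finBasis k (CartDual.D k A)
  let y : Fin (Module.finrank k (CartDual.D k A)) → CartDual.D k A := fun i => x i ^ p
  have hy : ⊤ ≤ Submodule.span k (Set.range y) := by
    rw [← h, Submodule.span_le]
    rintro _ ⟨b, rfl⟩
    show b ^ p ∈ Submodule.span k (Set.range y)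
    rw [← x.sum_repr b, sum_pow_char]
    refine Submodule.sum_mem _ (fun i _ => ?_)
    rw [smul_pow]
    exact Submodule.smul_mem _ _ (Submodule.subset_span ⟨i, rfl⟩)
  let Y := basisOfTopLeSpanOfCardEqFinrank y hy (by simp)
  have hYy : ∀ i, Y i = y i := fun i => by
    simp [Y]
  let a : Fin (Module.finrank k (CartDual.D k A)) → A := fun j =>
    (Module.evalEquiv k A).symm ((Y.coord j) ∘ₗ (CartDual.toDual k A).symm.toLinearMap)
  have ha : ∀ i j, (y i) (a j) = if i = j then 1 else 0 := by
    intro i j
    have h1 : Module.evalEquiv k A (a j) =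
        (Y.coord j) ∘ₗ (CartDual.toDual k A).symm.toLinearMap :=
      LinearEquiv.apply_symm_apply _ _
    have e1 : (Y.coord j) (y i) = if i = j then 1 else 0 := by
      rw [← hYy, Module.Basis.coord_apply, Module.Basis.repr_self, Finsupp.single_apply]
    have h2 := LinearMap.congr_fun h1 (CartDual.toDual k A (y i))
    rw [Module.evalEquiv_apply, Module.Dual.eval_apply, LinearMap.comp_apply, LinearEquiv.coe_coe,
      LinearEquiv.symm_apply_apply, e1] at h2
    exact h2
  intro z
  refine ⟨∑ j, a j * algebraMap k A ((FrobAlg.toTwist p k).symm (Versch.evTw p k A (x j) z)), ?_⟩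
  refine eq_of_evTw_eq_of_span p k A x x.span_eq (fun i => ?_)
  rw [map_sum, map_sum]
  have h3 : ∀ j, Versch.evTw p k A (x i) (v (a j * algebraMap k A
      ((FrobAlg.toTwist p k).symm (Versch.evTw p k A (x j) z)))) =
        if i = j then Versch.evTw p k A (x j) z else 0 := by
    intro j
    rw [map_mul, verschiebung_algebraMap' p k A v hv, RingEquiv.apply_symm_apply, evTw_mul_right,
      (Versch.isVerschiebung_iff p k A v).mp hv]
    have := ha i j
    have h4 : (x i ^ p) (a j) = if i = j then 1 else 0 := this
    rw [h4]
    split_ifs <;> simp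
  rw [Finset.sum_congr rfl (fun j _ => h3 j), Finset.sum_ite_eq, if_pos (Finset.mem_univ _)]

theorem etale_dual_iff_bijective :
    Algebra.Etale k (CartDual.D k A) ↔ Function.Bijective v := by
  constructor
  · intro h
    have hfs := fs_of_etale p k (CartDual.D k A) h
    exact ⟨injective_of_fs p k A v hv hfs, surjective_of_fs p k A v hv hfs⟩
  · intro h
    exact etale_of_fs p k (CartDual.D k A) (fs_of_injective p k A v hv h.1)

end VBij

end Groth.Agent.Lib.Versch58
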