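import Mathlib
import Groth.Agent.Lib.EtalePow58
import Groth.Agent.Lib.Versch58c
import Groth.Agent.Lib.Versch58b

/-!
# The Cartier dual of an étale group scheme of `p`-power order is local (helper58)
-/

set_option autoImplicit false
universe u

namespace Groth.Agent.Lib.EtalePow58

open TensorProduct WithConv Coalgebra Groth.Agent.Lib.MultType58 Groth.Agent.Lib.Versch58

section PowPow

variable (R : Type u) [CommRing R] (A : Type u) [CommRing A] [HopfAlgebra R A]
  [Coalgebra.IsCocomm R A]

/-- The `p ^ m`-th convolution power of the identity via a dual basis. -/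
theorem powConv_apply_pow (p : ℕ) [Fact p.Prime] [CharP R p] (m : ℕ) {n : ℕ} (e : Fin n → A)
    (es : Fin n → (A →ₗ[R] R)) (h : ∀ a, a = ∑ i, es i a • e i) (a : A) :
    SGA3b.powConv R A (p ^ m) a =
      ∑ i, ((toConv (es i) : CartDual.D R A) ^ (p ^ m)) a • e i ^ (p ^ m) := by
  have hc := charP_conv R A p
  have h1 : (toConv (LinearMap.id : A →ₗ[R] A)) = ∑ i, theta R A (toConv (es i)) (e i) := by
    ext a
    show a = (∑ i, theta R A (toConv (es i)) (e i)).ofConv a
    rw [WithConv.ofConv_sum, LinearMap.sum_apply]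
    exact h a
  have h2 : SGA3b.powConv R A (p ^ m) a = ((toConv (LinearMap.id : A →ₗ[R] A)) ^ (p ^ m)) a := by
    have := AlgHom.toLinearMap_convPow (R := R) (A := A) (C := A) (toConv (AlgHom.id R A)) (p ^ m)
    have h3 := congrArg (fun f : WithConv (A →ₗ[R] A) => f a) this
    exact h3
  rw [h2, h1, sum_pow_char_pow]
  show (∑ i, theta R A (toConv (es i)) (e i) ^ (p ^ m)).ofConv a = _
  rw [WithConv.ofConv_sum, LinearMap.sum_apply]
  refine Finset.sum_congr rfl (fun i _ => ?_)
  rw [theta_pow]
  rfl

end PowPow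

section Basis

variable (p : ℕ) [Fact p.Prime] (k : Type u) [Field k] [CharP k p]
  (A : Type u) [CommRing A] [Algebra k A] [Module.Finite k A] [Algebra.Etale k A]

omit [Module.Finite k A] in
theorem exists_basis_pow {m : ℕ} (b : Module.Basis (Fin m) k A) (n : ℕ) :
    ∃ b' : Module.Basis (Fin m) k A, ∀ i, b' i = b i ^ (p ^ n) := by
  induction n with
  | zero => exact ⟨b, fun i => by rw [pow_zero, pow_one]⟩
  | succ n ih =>
    obtain ⟨b', hb'⟩ := ih
    rcases subsingleton_or_nontrivial A with hs | hnt
    · exact ⟨b, fun i => Subsingleton.elim _ _⟩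
    have hA : CharP A p := charP_of_injective_algebraMap (algebraMap k A).injective p
    have hfs : FS p k A := fs_of_etale p k A inferInstance
    have hspan : ⊤ ≤ Submodule.span k (Set.range (fun i => b' i ^ p)) := by
      rw [← hfs]
      apply Submodule.span_le.mpr
      rintro _ ⟨a, rfl⟩
      show a ^ p ∈ _
      rw [← b'.sum_repr a, sum_pow_char]
      apply Submodule.sum_mem
      intro i _
      rw [smul_pow]
      exact Submodule.smul_mem _ _ (Submodule.subset_span ⟨i, rfl⟩)
    have hcard : Fintype.card (Fin m) = Module.finrank k A := by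
      rw [Module.finrank_eq_card_basis b]
    refine ⟨basisOfTopLeSpanOfCardEqFinrank (fun i => b' i ^ p) hspan hcard, fun i => ?_⟩
    rw [coe_basisOfTopLeSpanOfCardEqFinrank, hb', ← pow_mul, pow_succ]

end Basis

section Main

variable (p : ℕ) [Fact p.Prime] (k : Type u) [Field k] [CharP k p]
  (A : Type u) [CommRing A] [HopfAlgebra k A] [Coalgebra.IsCocomm k A] [Module.Finite k A]
  [Algebra.Etale k A]

theorem pow_eq_zero_of_apply_one (n : ℕ) (hA : PowTriv k A (p ^ n)) (x : CartDual.D k A)
    (hx : x 1 = 0) : x ^ (p ^ n) = 0 := by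
  classical
  let b := Module.finBasis k A
  obtain ⟨b', hb'⟩ := exists_basis_pow p k A b n
  have h : ∀ a, a = ∑ i, b.coord i a • b i := fun a => (b.sum_repr a).symm
  have hx1 : x = ∑ i, x (b i) • (toConv (b.coord i) : CartDual.D k A) := by
    apply WithConv.ofConv_injective
    apply LinearMap.ext
    intro a
    show x a = (∑ i, x (b i) • (toConv (b.coord i) : CartDual.D k A)).ofConv a
    rw [WithConv.ofConv_sum, LinearMap.sum_apply]
    conv_lhs => rw [h a, map_sum]
    refine Finset.sum_congr rfl (fun i _ => ?_)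
    rw [map_smul, smul_eq_mul, mul_comm]
    rfl
  have hx2 : x ^ (p ^ n) =
      ∑ i, x (b i) ^ (p ^ n) • (toConv (b.coord i) : CartDual.D k A) ^ (p ^ n) := by
    conv_lhs => rw [hx1, sum_pow_char_pow]
    refine Finset.sum_congr rfl (fun i _ => ?_)
    rw [smul_pow]
  let lam : A →ₗ[k] k := b'.constr k (fun i => x (b i) ^ (p ^ n))
  have hlam : ∀ i, lam (b i ^ (p ^ n)) = x (b i) ^ (p ^ n) := by
    intro i
    rw [← hb']
    exact b'.constr_basis k _ i
  rcases subsingleton_or_nontrivial A with hs | hnt
  · apply WithConv.ofConv_injective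
    apply LinearMap.ext
    intro a
    rw [Subsingleton.elim a 0, map_zero, map_zero]
  have hAp : CharP A p := charP_of_injective_algebraMap (algebraMap k A).injective p
  have hlam1 : lam 1 = 0 := by
    have h1 : (1 : A) = ∑ i, (b.coord i 1) ^ (p ^ n) • b i ^ (p ^ n) := by
      conv_lhs => rw [← one_pow (p ^ n), h 1, sum_pow_char_pow]
      refine Finset.sum_congr rfl (fun i _ => ?_)
      rw [smul_pow]
    rw [h1, map_sum]
    have h2 : ∀ i, lam ((b.coord i 1) ^ (p ^ n) • b i ^ (p ^ n)) =
        (b.coord i 1 * x (b i)) ^ (p ^ n) := by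
      intro i
      rw [map_smul, hlam, smul_eq_mul, mul_pow]
    rw [Finset.sum_congr rfl (fun i _ => h2 i), ← sum_pow_char_pow]
    have h3 : ∑ i, b.coord i 1 * x (b i) = x 1 := by
      conv_rhs => rw [h 1, map_sum]
      refine Finset.sum_congr rfl (fun i _ => ?_)
      rw [map_smul, smul_eq_mul]
    rw [h3, hx, zero_pow (pow_pos (Fact.out : p.Prime).pos n).ne']
  apply WithConv.ofConv_injective
  apply LinearMap.ext
  intro a
  show (x ^ (p ^ n)) a = 0
  rw [hx2]
  show (∑ i, x (b i) ^ (p ^ n) • (toConv (b.coord i) : CartDual.D k A) ^ (p ^ n)).ofConv a = 0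
  rw [WithConv.ofConv_sum, LinearMap.sum_apply]
  have key := hA a
  rw [powConv_apply_pow k A p n b (fun i => b.coord i) h a] at key
  have key2 := congrArg lam key
  rw [map_sum, Algebra.algebraMap_eq_smul_one, map_smul, hlam1, smul_zero] at key2
  rw [← key2]
  refine Finset.sum_congr rfl (fun i _ => ?_)
  rw [map_smul, hlam, smul_eq_mul, mul_comm]
  rfl

theorem isLocalRing_dual (n : ℕ) (hA : Module.finrank k A = p ^ n) :
    IsLocalRing (CartDual.D k A) := by
  have hP : PowTriv k A (p ^ n) := hA ▸ powTriv_finrank_of_etale k A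
  let ev : CartDual.D k A →+* k :=
    { toFun := fun x => x 1
      map_one' := by
        show (1 : CartDual.D k A) 1 = 1
        rw [CartDual.coe_apply, LinearMap.convOne_apply, Bialgebra.counit_one, map_one]
      map_mul' := fun x y => dual_mul_apply_one k A x y
      map_zero' := rfl
      map_add' := fun x y => rfl }
  have hloc : IsLocalHom ev := by
    constructor
    intro x hx
    have hc : x 1 ≠ 0 := hx.ne_zero
    have h1 : x = algebraMap k (CartDual.D k A) (x 1) + (x - algebraMap k (CartDual.D k A) (x 1)) := by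
      ring
    rw [h1]
    apply IsNilpotent.isUnit_add_left_of_commute _ _ (Commute.all _ _)
    · refine ⟨p ^ n, pow_eq_zero_of_apply_one p k A n hP _ ?_⟩
      show ev (x - algebraMap k (CartDual.D k A) (x 1)) = 0
      rw [map_sub]
      have : ev (algebraMap k (CartDual.D k A) (x 1)) = x 1 := by
        show (algebraMap k (CartDual.D k A) (x 1)) 1 = x 1
        simp [LinearMap.convAlgebraMap_apply]
      rw [this]
      exact sub_self _
    · exact (hx.map (algebraMap k (CartDual.D k A)))
  exact RingHom.domain_isLocalRing ev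

end Main

end Groth.Agent.Lib.EtalePow58
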