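import Mathlib
import Groth.Agent.Lib.HopfTraceEtale41

/-!
# Étale via fibres, and finite group schemes of invertible order (helper41)

* `subsingleton_of_forall_residueField_tensor`: Nakayama over all maximal ideals.
* `formallyUnramified_of_fiber`, `etale_of_fiber`: a finite (flat, f.p.) algebra with unramified
  fibres over all maximal ideals is unramified (étale).
* `etale_of_etale_fiberToSpecResidueField`: a finite flat l.f.p. morphism of schemes with étale fibres
  is étale.
* `etale_of_grpObj_of_finrank_ne_zero`: a finite group scheme over a field whose order is invertible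
  in the field is étale (bridge to `HopfTraceEtale41.etale_of_finrank_ne_zero` through Mathlib's Hopf
  algebra structure on global sections of an affine group scheme).
-/

set_option autoImplicit false

open TensorProduct

namespace Groth.Agent.Lib.EtaleFibre41

universe u

/-- Nakayama: a finite module whose fibres at all maximal ideals vanish is zero. -/
theorem subsingleton_of_forall_residueField_tensor {R M : Type*} [CommRing R] [AddCommGroup M]
    [Module R M] [Module.Finite R M]
    (h : ∀ (p : Ideal R) [p.IsMaximal], Subsingleton (p.ResidueField ⊗[R] M)) :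
    Subsingleton M := by
  refine Module.subsingleton_of_localization_maximal (R := R) (M := M)
    (fun P _ => LocalizedModule P.primeCompl M)
    (fun P _ => LocalizedModule.mkLinearMap P.primeCompl M) ?_
  intro P hP
  have hfin : Module.Finite (Localization.AtPrime P) (LocalizedModule P.primeCompl M) :=
    inferInstance
  rw [← IsLocalRing.subsingleton_tensorProduct (R := Localization.AtPrime P)]
  have e1 : LocalizedModule P.primeCompl M ≃ₗ[Localization.AtPrime P]
      Localization.AtPrime P ⊗[R] M :=
    (IsLocalizedModule.isBaseChange P.primeCompl (Localization.AtPrime P)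
      (LocalizedModule.mkLinearMap P.primeCompl M)).equiv.symm
  have e2 : IsLocalRing.ResidueField (Localization.AtPrime P) ⊗[Localization.AtPrime P]
      (LocalizedModule P.primeCompl M) ≃ₗ[IsLocalRing.ResidueField (Localization.AtPrime P)]
      IsLocalRing.ResidueField (Localization.AtPrime P) ⊗[R] M :=
    (TensorProduct.AlgebraTensorModule.congr (LinearEquiv.refl _ _) e1).trans
      (TensorProduct.AlgebraTensorModule.cancelBaseChange R (Localization.AtPrime P)
        (IsLocalRing.ResidueField (Localization.AtPrime P))
        (IsLocalRing.ResidueField (Localization.AtPrime P)) M)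
  have := h P
  exact e2.toEquiv.subsingleton

attribute [local instance] Algebra.TensorProduct.rightAlgebra in
/-- A finite algebra whose fibres over all maximal ideals are formally unramified is formally
unramified. -/
theorem formallyUnramified_of_fiber {R S : Type*} [CommRing R] [CommRing S] [Algebra R S]
    [Module.Finite R S]
    (H : ∀ (p : Ideal R) [p.IsMaximal], Algebra.FormallyUnramified p.ResidueField (p.Fiber S)) :
    Algebra.FormallyUnramified R S := by
  rw [Algebra.formallyUnramified_iff]
  have hfin : Module.Finite S Ω[S⁄R] := inferInstance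
  have hfinR : Module.Finite R Ω[S⁄R] := Module.Finite.trans S _
  apply subsingleton_of_forall_residueField_tensor (R := R)
  intro p hp
  have := H p
  rw [Algebra.formallyUnramified_iff] at this
  exact (KaehlerDifferential.tensorKaehlerEquivBase R p.ResidueField S
    (p.Fiber S)).toEquiv.subsingleton

/-- A finite flat finitely presented algebra with étale fibres is étale. -/
theorem etale_of_fiber {R S : Type*} [CommRing R] [CommRing S] [Algebra R S]
    [Module.Finite R S] [Module.Flat R S] [Algebra.FinitePresentation R S]
    (H : ∀ (p : Ideal R) [p.IsMaximal], Algebra.FormallyUnramified p.ResidueField (p.Fiber S)) :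
    Algebra.Etale R S := by
  have := formallyUnramified_of_fiber H
  exact Algebra.Etale.of_formallyUnramified_of_flat

end Groth.Agent.Lib.EtaleFibre41

open CategoryTheory Limits AlgebraicGeometry

namespace Groth.Agent.Lib.EtaleFibre41

universe u

variable {X Y : Scheme.{u}} (f : X ⟶ Y)

set_option backward.isDefEq.respectTransparency false in
/-- A finite flat morphism locally of finite presentation with étale fibres is étale. -/
theorem etale_of_etale_fiberToSpecResidueField [LocallyOfFinitePresentation f] [Flat f]
    [IsFinite f] (h : ∀ y, Etale (f.fiberToSpecResidueField y)) : Etale f := by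
  wlog hY : ∃ R, Y = Spec R generalizing X Y
  · rw [IsZariskiLocalAtTarget.iff_of_openCover (P := @Etale) Y.affineCover]
    intro i
    dsimp [Scheme.Cover.pullbackHom]
    refine this _ (fun y ↦ ?_) ⟨_, rfl⟩
    apply MorphismProperty.of_isPullback
    · exact isPullback_fiberToSpecResidueField_of_isPullback (IsPullback.of_hasPullback _ _) _
    · infer_instance
  obtain ⟨R, rfl⟩ := hY
  have hXaff : IsAffine X := isAffine_of_isAffineHom f
  wlog hX : ∃ S, X = Spec S generalizing f X
  · have hh (y) : Etale (pullback.snd f ((Spec R).fromSpecResidueField y)) :=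
      inferInstanceAs <| Etale (f.fiberToSpecResidueField y)
    have := this (X.isoSpec.inv ≫ f) (fun y ↦ ?_) inferInstance ⟨_, rfl⟩
    · exact (MorphismProperty.cancel_left_of_respectsIso @Etale X.isoSpec.inv f).mp this
    · rw [Scheme.Hom.fiberToSpecResidueField, ← pullbackRightPullbackFstIso_inv_snd_snd]
      infer_instance
  obtain ⟨S, rfl⟩ := hX
  obtain ⟨φ, rfl⟩ := Spec.map_surjective f
  simp only [HasRingHomProperty.Spec_iff, IsFinite.SpecMap_iff] at *
  algebraize [φ.hom]
  rw [← RingHom.algebraMap_toAlgebra φ.hom, RingHom.etale_algebraMap]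
  refine etale_of_fiber (fun p hp ↦ ?_)
  have hp' : p.IsPrime := hp.isPrime
  suffices hE : Algebra.Etale p.ResidueField (p.Fiber S) from inferInstance
  rw [← RingHom.etale_algebraMap]
  rw [← CommRingCat.hom_ofHom (algebraMap p.ResidueField (p.Fiber ↑S)),
    ← HasRingHomProperty.Spec_iff (P := @Etale), ← MorphismProperty.arrow_mk_iso_iff (P := @Etale)
    (Spec.fiberToSpecResidueFieldIso R S ⟨p, hp'⟩)]
  exact h ⟨p, hp'⟩

end Groth.Agent.Lib.EtaleFibre41

open CategoryTheory Limits AlgebraicGeometry MonoidalCategory CartesianMonoidalCategory MonObj GrpObj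

namespace Groth.Agent.Lib.EtaleFibre41

universe u

set_option backward.isDefEq.respectTransparency false in
/-- A finite group scheme over a field whose order is invertible in the field is étale. -/
theorem etale_of_grpObj_of_finrank_ne_zero {K : Type u} [Field K] {X : Scheme.{u}}
    (f : X ⟶ Spec (.of K)) [IsFinite f] [GrpObj (Over.mk f)]
    (h : ∀ y : Spec (.of K), (f.finrank y : K) ≠ 0) : Etale f := by
  have hXaff : IsAffine X := isAffine_of_isAffineHom f
  let _ : X.Over (Spec (.of K)) := ⟨f⟩
  have hG : GrpObj (X.asOver (Spec (.of K))) := ‹GrpObj (Over.mk f)›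
  -- the Hopf algebra of global sections
  let A : Type u := Γ(X, ⊤)
  let hHopf : HopfAlgebra K A :=
    @instHopfAlgebraCarrierObjOppositeOpensCarrierCarrierCommRingCatPresheafOpOpensTopOfGrpObjOverSchemeSpecAsOverOfIsAffine (CommRingCat.of K) X _ hG _
  let ψ : CommRingCat.of K ⟶ Γ(X, ⊤) := (Spec.fullyFaithful.preimage (X.isoSpec.inv ≫ f)).unop
  have hψ : Spec.map ψ = X.isoSpec.inv ≫ f := Spec.map_preimage_unop _
  have hf : f = X.isoSpec.hom ≫ Spec.map ψ := by
    rw [hψ, Iso.hom_inv_id_assoc]
  have halg0 : hHopf.toAlgebra = @instAlgebraCarrierObjOppositeOpensCarrierCarrierCommRingCatPresheafOpOpensTopOfOverSpecOfIsAffine (CommRingCat.of K) X _ _ := by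
    with_unfolding_all rfl
  have halg : algebraMap K A = ψ.hom := by
    rw [show algebraMap K A = @algebraMap K A _ _ hHopf.toAlgebra from rfl, halg0]
    refine (algebraMap_presheafObj (R := CommRingCat.of K) (X := X)).trans ?_
    rfl
  have hfin' : IsFinite (Spec.map ψ) := by
    rw [hψ]; infer_instance
  have hfin : Module.Finite K A := by
    rw [IsFinite.SpecMap_iff] at hfin'
    rw [← RingHom.finite_algebraMap, halg]
    exact hfin'
  have hψ' : ψ = CommRingCat.ofHom (algebraMap K A) := by rw [halg]; rfl
  have hrank : ∀ y, f.finrank y = Module.finrank K A := by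
    intro y
    have hflat : Flat (Spec.map ψ) := inferInstance
    have h1 : f.finrank = (Spec.map ψ).finrank := by
      have := Scheme.Hom.finrank_comp_left_of_isIso X.isoSpec.hom (Spec.map ψ)
      rw [← hf] at this
      exact this
    rw [h1, hψ', Scheme.Hom.finrank_SpecMap_algebraMap K A y,
      Module.rankAtStalk_eq_finrank_of_free]
    rfl
  have hne : (Module.finrank K A : K) ≠ 0 := by
    have := h (IsLocalRing.closedPoint K)
    rwa [hrank] at this
  have hEt : Algebra.Etale K A := HopfTraceEtale41.etale_of_finrank_ne_zero K A hne
  rw [hf]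
  have : Etale (Spec.map ψ) := by
    rw [HasRingHomProperty.Spec_iff (P := @Etale), ← halg, RingHom.etale_algebraMap]
    exact hEt
  infer_instance

end Groth.Agent.Lib.EtaleFibre41
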