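import Groth.Prelude.Def_EGA4b
import Groth.Agent.Lib.H30NormalSmooth
import Mathlib

/-!
# Geometric normality and separable base field extensions (helper30)

* `isLocalization_of_surjective`: surjective ring map with kernel killed by a submonoid mapping to units
  is a localization.
* `isNormalRing_of_isLocalization`, `normal_atPrime_of_isLocalization`, `isNormalRing_of_ringEquiv`:
  `EGA4.IsNormalRing` under localizations / ring isomorphisms.
* `isLocalization_quot`: for an "absolutely flat at `m`" maximal ideal `m` of `R₀`,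
  `(R₀/m) ⊗ A` is a localization of `R₀ ⊗ A`.
* `isNormalRing_tensor_iff`: for `R₀` reduced zero-dimensional, `R₀ ⊗ A` is normal iff all
  `(R₀/m) ⊗ A` are.
* `isReduced_tensor_of_isSeparable`: `F ⊗[k] k'` reduced for `k'/k` separable algebraic.
-/

set_option autoImplicit false
universe u
open TensorProduct
open Groth.Agent.Lib.H30NormalSmooth

namespace Groth.Agent.Lib.H30GeomNormal

/-- A surjective ring map whose kernel is killed by a submonoid mapping to units is a localization. -/
theorem isLocalization_of_surjective {T T' : Type*} [CommRing T] [CommRing T'] [Algebra T T']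
    (M : Submonoid T) (hsurj : Function.Surjective (algebraMap T T'))
    (hunit : ∀ s ∈ M, IsUnit (algebraMap T T' s))
    (hker : ∀ t, algebraMap T T' t = 0 → ∃ s ∈ M, s * t = 0) : IsLocalization M T' := by
  rw [isLocalization_iff]
  refine ⟨fun y => hunit y.1 y.2, fun z => ?_, fun {x y} hxy => ?_⟩
  · obtain ⟨t, rfl⟩ := hsurj z
    exact ⟨(t, 1), by simp⟩
  · obtain ⟨s, hs, hst⟩ := hker (x - y) (by rw [map_sub, hxy, sub_self])
    exact ⟨⟨s, hs⟩, by
      have : s * x - s * y = 0 := by rw [← mul_sub]; exact hst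
      exact sub_eq_zero.mp this⟩

/-- Localizations of a normal ring are normal. -/
theorem isNormalRing_of_isLocalization {T T' : Type u} [CommRing T] [CommRing T'] [Algebra T T']
    (M : Submonoid T) [IsLocalization M T'] (h : EGA4.IsNormalRing T) : EGA4.IsNormalRing T' := by
  intro P' hP'
  let P : Ideal T := P'.comap (algebraMap T T')
  have hloc : IsLocalization.AtPrime (Localization.AtPrime P') P :=
    IsLocalization.isLocalization_isLocalization_atPrime_isLocalization M (Localization.AtPrime P') P'
  let e : Localization.AtPrime P ≃ₐ[T] Localization.AtPrime P' :=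
    IsLocalization.algEquiv P.primeCompl _ _
  exact normal_of_ringEquiv e.toRingEquiv (h P)

theorem isLocalization_atPrime_congr {T S : Type*} [CommRing T] [CommRing S] [Algebra T S]
    (Q P : Ideal T) [Q.IsPrime] [P.IsPrime] (h : Q = P)
    (hl : IsLocalization.AtPrime S Q) : IsLocalization.AtPrime S P := by
  subst h; exact hl

/-- If `T'` is a normal localization of `T` and `P` is a prime of `T` surviving in `T'`, then `T_P` is
a normal domain. -/
theorem normal_atPrime_of_isLocalization {T T' : Type u} [CommRing T] [CommRing T'] [Algebra T T']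
    (M : Submonoid T) [IsLocalization M T'] (P : Ideal T) [hP : P.IsPrime]
    (hd : Disjoint (M : Set T) (P : Set T)) (h : EGA4.IsNormalRing T') :
    IsDomain (Localization.AtPrime P) ∧ IsIntegrallyClosed (Localization.AtPrime P) := by
  let P' : Ideal T' := P.map (algebraMap T T')
  have hP' : P'.IsPrime := IsLocalization.isPrime_of_isPrime_disjoint M T' P hP hd
  have hcomap : P'.comap (algebraMap T T') = P :=
    IsLocalization.under_map_of_isPrime_disjoint M T' hP hd
  have hloc0 : IsLocalization.AtPrime (Localization.AtPrime P') (P'.comap (algebraMap T T')) :=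
    IsLocalization.isLocalization_isLocalization_atPrime_isLocalization M (Localization.AtPrime P') P'
  have hloc : IsLocalization.AtPrime (Localization.AtPrime P') P :=
    isLocalization_atPrime_congr _ _ hcomap hloc0
  let e : Localization.AtPrime P ≃ₐ[T] Localization.AtPrime P' :=
    IsLocalization.algEquiv P.primeCompl _ _
  exact normal_of_ringEquiv e.symm.toRingEquiv (h P')

/-- Normality is invariant under ring isomorphisms. -/
theorem isNormalRing_of_ringEquiv {R S : Type u} [CommRing R] [CommRing S] (e : R ≃+* S)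
    (h : EGA4.IsNormalRing R) : EGA4.IsNormalRing S := by
  let _ : Algebra R S := e.toRingHom.toAlgebra
  have : IsLocalization (⊥ : Submonoid R) S := by
    apply isLocalization_of_surjective
    · exact e.surjective
    · intro s hs
      rw [Submonoid.mem_bot] at hs
      subst hs
      simp
    · intro t ht
      refine ⟨1, Submonoid.one_mem _, ?_⟩
      have : e t = 0 := ht
      rw [one_mul]
      exact (map_eq_zero_iff e e.injective).mp this
  exact isNormalRing_of_isLocalization ⊥ h

section

variable (k' R₀ A : Type u) [CommRing k'] [CommRing R₀] [Algebra k' R₀] [CommRing A] [Algebra k' A]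

/-- The quotient map `R₀ ⊗ A → (R₀/m) ⊗ A`. -/
noncomputable def quotMap (m : Ideal R₀) : R₀ ⊗[k'] A →ₐ[k'] (R₀ ⧸ m) ⊗[k'] A :=
  Algebra.TensorProduct.map (Ideal.Quotient.mkₐ k' m) (AlgHom.id k' A)

/-- The multiplicative set `(R₀ ∖ m) ⊗ 1`. -/
noncomputable def quotSubmonoid (m : Ideal R₀) [m.IsPrime] : Submonoid (R₀ ⊗[k'] A) :=
  Submonoid.map (Algebra.TensorProduct.includeLeft : R₀ →ₐ[k'] R₀ ⊗[k'] A) m.primeCompl

theorem isLocalization_quot (m : Ideal R₀) [hm : m.IsMaximal]
    (habs : ∀ x ∈ m, ∃ s ∉ m, s * x = 0) :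
    letI := (quotMap k' R₀ A m).toRingHom.toAlgebra
    IsLocalization (quotSubmonoid k' R₀ A m) ((R₀ ⧸ m) ⊗[k'] A) := by
  let _ := (quotMap k' R₀ A m).toRingHom.toAlgebra
  have hmk : Function.Surjective (Ideal.Quotient.mkₐ k' m) := Ideal.Quotient.mkₐ_surjective k' m
  apply isLocalization_of_surjective
  · exact Algebra.TensorProduct.map_surjective _ _ hmk Function.surjective_id
  · rintro _ ⟨r, hr, rfl⟩
    show IsUnit (quotMap k' R₀ A m (r ⊗ₜ 1))
    have h1 : quotMap k' R₀ A m (r ⊗ₜ 1) =
        (Algebra.TensorProduct.includeLeft : (R₀ ⧸ m) →ₐ[k'] (R₀ ⧸ m) ⊗[k'] A)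
          (Ideal.Quotient.mk m r) := by
      simp [quotMap]
    rw [h1]
    apply IsUnit.map
    let _ := Ideal.Quotient.field m
    rw [isUnit_iff_ne_zero]
    intro h0
    exact hr (Ideal.Quotient.eq_zero_iff_mem.mp h0)
  · intro t ht
    have htk : t ∈ RingHom.ker (quotMap k' R₀ A m) := ht
    rw [quotMap, Algebra.TensorProduct.rTensor_ker _ hmk] at htk
    have hker : RingHom.ker (Ideal.Quotient.mkₐ k' m) = m := by
      ext x
      simp [RingHom.mem_ker, Ideal.Quotient.eq_zero_iff_mem]
    rw [hker, Ideal.map] at htk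
    clear ht
    induction htk using Submodule.span_induction with
    | mem x hx =>
      obtain ⟨y, hy, rfl⟩ := hx
      obtain ⟨s, hs, hsy⟩ := habs y hy
      refine ⟨s ⊗ₜ 1, ⟨s, hs, rfl⟩, ?_⟩
      show (s ⊗ₜ[k'] (1 : A)) * (y ⊗ₜ[k'] (1 : A)) = 0
      rw [Algebra.TensorProduct.tmul_mul_tmul, hsy, zero_tmul]
    | zero => exact ⟨1, Submonoid.one_mem _, by simp⟩
    | add x y _ _ hx hy =>
      obtain ⟨s₁, hs₁, h1⟩ := hx
      obtain ⟨s₂, hs₂, h2⟩ := hy
      refine ⟨s₁ * s₂, Submonoid.mul_mem _ hs₁ hs₂, ?_⟩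
      rw [mul_add, mul_right_comm, h1, zero_mul, mul_assoc, h2, mul_zero, add_zero]
    | smul a x _ hx =>
      obtain ⟨s, hs, h1⟩ := hx
      refine ⟨s, hs, ?_⟩
      rw [smul_eq_mul, mul_left_comm, h1, mul_zero]

theorem isNormalRing_tensor_iff (hprime : ∀ p : Ideal R₀, p.IsPrime → p.IsMaximal)
    (habs : ∀ m : Ideal R₀, m.IsMaximal → ∀ x ∈ m, ∃ s ∉ m, s * x = 0) :
    EGA4.IsNormalRing (R₀ ⊗[k'] A) ↔
      ∀ m : Ideal R₀, m.IsMaximal → EGA4.IsNormalRing ((R₀ ⧸ m) ⊗[k'] A) := by
  constructor
  · intro h m hm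
    let _ := (quotMap k' R₀ A m).toRingHom.toAlgebra
    have := isLocalization_quot k' R₀ A m (habs m hm)
    exact isNormalRing_of_isLocalization (quotSubmonoid k' R₀ A m) h
  · intro h P hP
    let m : Ideal R₀ := P.comap (Algebra.TensorProduct.includeLeft : R₀ →ₐ[k'] R₀ ⊗[k'] A)
    have hmp : m.IsPrime := Ideal.comap_isPrime _ P
    have hm : m.IsMaximal := hprime m hmp
    let _ := (quotMap k' R₀ A m).toRingHom.toAlgebra
    have := isLocalization_quot k' R₀ A m (habs m hm)
    refine normal_atPrime_of_isLocalization (quotSubmonoid k' R₀ A m) P ?_ (h m hm)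
    rw [Set.disjoint_left]
    rintro _ ⟨r, hr, rfl⟩ hrP
    exact hr hrP


end

theorem isReduced_tensor_of_isSeparable (k k' F : Type u) [Field k] [Field k'] [Field F]
    [Algebra k k'] [Algebra k F] [Algebra.IsSeparable k k'] : IsReduced (F ⊗[k] k') := by
  apply IsReduced.tensorProduct_of_flat_of_forall_fg
  intro B hB
  obtain ⟨s, hs⟩ := hB
  let E := IntermediateField.adjoin k (s : Set k')
  have hfd : FiniteDimensional k E :=
    IntermediateField.finiteDimensional_adjoin (fun x _ => Algebra.IsIntegral.isIntegral x)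
  have hsep : Algebra.IsSeparable k E := Algebra.isSeparable_tower_bot_of_isSeparable k E k'
  have hle : B ≤ E.toSubalgebra := by
    rw [← hs]; exact IntermediateField.algebra_adjoin_le_adjoin k _
  have h1 : Algebra.FormallyUnramified k E := Algebra.FormallyUnramified.of_isSeparable k E
  have h2 : IsReduced (F ⊗[k] E) := Algebra.FormallyUnramified.isReduced_of_field F (F ⊗[k] E)
  let ι : B →ₐ[k] E := Subalgebra.inclusion hle
  exact isReduced_of_injective (Algebra.TensorProduct.map (AlgHom.id F F) ι)
    (Module.Flat.lTensor_preserves_injective_linearMap _ (Subalgebra.inclusion_injective hle))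

/-- In a reduced ring all of whose primes are maximal, every element of a maximal ideal is killed by
an element outside. -/
theorem exists_mul_eq_zero_of_reduced_zeroDim (R₀ : Type u) [CommRing R₀] [IsReduced R₀]
    (hprime : ∀ p : Ideal R₀, p.IsPrime → p.IsMaximal) (m : Ideal R₀) (hm : m.IsMaximal)
    (x : R₀) (hx : x ∈ m) : ∃ s ∉ m, s * x = 0 := by
  have hdim : Ring.KrullDimLE 0 R₀ := Ring.krullDimLE_zero_iff.mpr hprime
  have hmin : m ∈ minimalPrimes R₀ := by
    rw [Ring.KrullDimLE.minimalPrimes_eq_setOfPred_isPrime]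
    exact hm.isPrime
  have hdim' : Ring.KrullDimLE 0 (Localization.AtPrime m) :=
    Ring.KrullDimLE.of_isLocalization m hmin _
  have hfield : IsField (Localization.AtPrime m) := Ring.KrullDimLE.isField_of_isReduced
  have hmax : IsLocalRing.maximalIdeal (Localization.AtPrime m) = ⊥ :=
    IsLocalRing.isField_iff_maximalIdeal_eq.mp hfield
  have h0 : algebraMap R₀ (Localization.AtPrime m) x = 0 := by
    have : algebraMap R₀ (Localization.AtPrime m) x ∈
        IsLocalRing.maximalIdeal (Localization.AtPrime m) :=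
      (IsLocalization.AtPrime.to_map_mem_maximal_iff _ m x).mpr hx
    rwa [hmax, Ideal.mem_bot] at this
  rw [IsLocalization.map_eq_zero_iff m.primeCompl] at h0
  obtain ⟨⟨s, hs⟩, hsx⟩ := h0
  exact ⟨s, hs, hsx⟩

theorem isMaximal_of_isPrime_tensor (k k' F : Type u) [Field k] [Field k'] [Field F]
    [Algebra k k'] [Algebra k F] [Algebra.IsIntegral k F] (p : Ideal (k' ⊗[k] F)) (hp : p.IsPrime) :
    p.IsMaximal := by
  have : (p.comap (algebraMap k' (k' ⊗[k] F))).IsMaximal := by
    have h1 : (p.comap (algebraMap k' (k' ⊗[k] F))).IsPrime := Ideal.comap_isPrime _ p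
    have h2 : p.comap (algebraMap k' (k' ⊗[k] F)) = ⊥ := Ideal.eq_bot_of_prime _
    rw [h2]
    exact Ideal.bot_isMaximal
  exact Ideal.isMaximal_of_isIntegral_of_isMaximal_comap p this

end Groth.Agent.Lib.H30GeomNormal
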