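import Groth.Prelude
import Groth.Agent.Lib.AlgSpOnePt
import Groth.Agent.Lib.H69SchReduced

set_option autoImplicit false
universe u
open CategoryTheory CategoryTheory.Limits AlgebraicGeometry Topology TopologicalSpace Opposite
open Groth.Agent.Lib.AlgSpBasic Groth.Agent.Lib.H80DecentPt

namespace Groth.Agent.Lib.EtaleFieldMono

/-- A scheme locally quasi-finite over the spectrum of a field is discrete. -/
theorem discreteTopology_of_lqf_field {k : Type u} [Field k] {V : Scheme.{u}}
    (ν : V ⟶ Spec (CommRingCat.of k)) [LocallyQuasiFinite ν] : DiscreteTopology ↥V := by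
  let pt : ↥(Spec (CommRingCat.of k)) := IsLocalRing.closedPoint k
  have h1 := ν.isDiscrete_preimage_singleton pt
  have h2 : ν ⁻¹' {pt} = Set.univ := by
    ext z
    simp only [Set.mem_preimage, Set.mem_singleton_iff, Set.mem_univ, iff_true]
    exact Subsingleton.elim (α := ↥(Spec (CommRingCat.of k))) _ _
  rw [h2, isDiscrete_univ_iff] at h1
  exact h1

/-- A monomorphism into a scheme etale over a field is etale. -/
theorem etale_of_mono_of_etale_field {k : Type u} [Field k] {V V' : Scheme.{u}}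
    (ν : V ⟶ Spec (CommRingCat.of k)) [Etale ν] (j : V' ⟶ V) [Mono j] : Etale j := by
  have hlqf : LocallyQuasiFinite ν := locallyQuasiFinite_of_etale ν
  have hdisc : DiscreteTopology ↥V := discreteTopology_of_lqf_field ν
  have hred : IsReduced V := Groth.Agent.Lib.H69SchReduced.isReduced_of_smooth ν
  let Uv : ↥V → V.Opens := fun v => ⟨{v}, isOpen_discrete _⟩
  have hU : iSup Uv = ⊤ := by
    ext x
    simp only [Opens.coe_iSup, Set.mem_iUnion, Opens.coe_top, Set.mem_univ, iff_true]
    exact ⟨x, rfl⟩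
  apply IsZariskiLocalAtTarget.of_iSup_eq_top (P := @Etale) Uv hU
  intro v
  have hm : Mono (j ∣_ Uv v) := (isPullback_morphismRestrict j (Uv v)).flip.mono_snd_of_mono
  by_cases hne : Nonempty ↥(j ⁻¹ᵁ Uv v).toScheme
  · have hsub : Subsingleton ↥(Uv v).toScheme :=
      ⟨fun z z' => Subtype.ext (z.2.trans z'.2.symm)⟩
    have hne' : Nonempty ↥(Uv v).toScheme := ⟨⟨v, rfl⟩⟩
    obtain ⟨K, _, ⟨e⟩⟩ := Groth.Agent.Lib.AlgSpOnePt.exists_iso_spec_field_of_subsingleton (Uv v).toScheme
    have h1 : Mono ((j ∣_ Uv v) ≫ e.inv) := mono_comp _ _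
    have h2 : IsIso ((j ∣_ Uv v) ≫ e.inv) := isIso_of_mono_of_field (K := K) _
    have h3 : IsIso (j ∣_ Uv v) := IsIso.of_isIso_comp_right _ e.inv
    infer_instance
  · have : IsEmpty ↥(j ⁻¹ᵁ Uv v).toScheme := not_nonempty_iff.1 hne
    infer_instance

end Groth.Agent.Lib.EtaleFieldMono
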