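import Mathlib.AlgebraicGeometry.Geometrically.Basic
import Mathlib.AlgebraicGeometry.Morphisms.UnderlyingMap
import Mathlib.AlgebraicGeometry.ResidueField

/-!
Descent of "geometrically P" along a surjective base change, for object properties `P` of schemes
that pass to images under surjective morphisms.
-/

set_option autoImplicit false
universe u

namespace Groth.Agent.Lib.GeomDescent

open CategoryTheory CategoryTheory.Limits AlgebraicGeometry

/-- A morphism from a nonempty scheme to the spectrum of a field is surjective. -/
lemma surjective_of_nonempty_of_field {T : Scheme.{u}} [Nonempty T] {K : Type u} [Field K]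
    (a : T ⟶ Spec (.of K)) : Surjective a := by
  refine ⟨fun x => ?_⟩
  obtain ⟨t⟩ := ‹Nonempty T›
  have : Subsingleton ↥(Spec (CommRingCat.of K)) :=
    inferInstanceAs (Subsingleton (PrimeSpectrum K))
  exact ⟨t, Subsingleton.elim _ _⟩

/-- If `P` passes to images of surjective morphisms, then "geometrically `P`" descends along a
surjective base change. -/
theorem geometrically_of_pullback_snd_of_surjective (P : ObjectProperty Scheme.{u})
    (hP : ∀ ⦃W Z : Scheme.{u}⦄ (p : W ⟶ Z), Surjective p → P W → P Z)
    {X Y Y' : Scheme.{u}} (f : X ⟶ Y) (g : Y' ⟶ Y) [Surjective g]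
    (h : geometrically P (pullback.snd f g)) : geometrically P f := by
  intro K _ y Z fst snd hZ
  -- the fibre product of `Spec K` and `Y'` over `Y` is nonempty
  let T := pullback y g
  have hsurj : Surjective (pullback.fst y g) := inferInstance
  have hne : Nonempty T := by
    have : Nonempty ↥(Spec (CommRingCat.of K)) :=
      inferInstanceAs (Nonempty (PrimeSpectrum K))
    obtain ⟨s⟩ := this
    obtain ⟨t, -⟩ := hsurj.surj s
    exact ⟨t⟩
  obtain ⟨t⟩ := hne
  let a : Spec (T.residueField t) ⟶ Spec (.of K) := T.fromSpecResidueField t ≫ pullback.fst y g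
  let b : Spec (T.residueField t) ⟶ Y' := T.fromSpecResidueField t ≫ pullback.snd y g
  have hab : a ≫ y = b ≫ g := by
    simp only [a, b, Category.assoc, pullback.condition]
  have : Surjective a := surjective_of_nonempty_of_field (K := K) a
  -- base change of `Z` to the bigger field
  let ZL := pullback snd a
  have h1 : IsPullback (pullback.fst snd a) (pullback.snd snd a) snd a := .of_hasPullback _ _
  have h2 : IsPullback (pullback.fst snd a ≫ fst) (pullback.snd snd a) f (a ≫ y) :=
    h1.paste_horiz hZ
  -- the induced map to `X ×[Y] Y'`
  let c : ZL ⟶ pullback f g :=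
    pullback.lift (pullback.fst snd a ≫ fst) (pullback.snd snd a ≫ b) (by
      rw [Category.assoc _ b g, ← hab]
      exact h2.w)
  have h3 : IsPullback c (pullback.snd snd a) (pullback.snd f g) b := by
    have hc1 : c ≫ pullback.fst f g = pullback.fst snd a ≫ fst := pullback.lift_fst _ _ _
    have hc2 : c ≫ pullback.snd f g = pullback.snd snd a ≫ b := pullback.lift_snd _ _ _
    refine IsPullback.of_right (t := IsPullback.of_hasPullback f g) ?_ hc2
    rw [hc1, ← hab]
    exact h2
  have hPZL : P ZL := h b c (pullback.snd snd a) h3
  exact hP (pullback.fst snd a) inferInstance hPZL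

end Groth.Agent.Lib.GeomDescent
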