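import Groth.Agent.Lib.GrpTopId45
import Groth.Agent.S7517
import Mathlib.AlgebraicGeometry.Fiber

/-!
# Connected fibres of group schemes are geometrically irreducible (helper45)

`irreducibleSpace_pullback_of_connected_fiber` : if `G ⟶ S` is a group scheme whose fibre over
`s : S` is connected, then `G ×_S P'` is irreducible for every irreducible scheme `P'` over
`Spec κ(s)` (e.g. the spectrum of a field extension of `κ(s)`).
-/

set_option autoImplicit false
universe u
open CategoryTheory CategoryTheory.Limits MonoidalCategory CartesianMonoidalCategory MonObj GrpObj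
  AlgebraicGeometry
open Groth.Agent.Lib.GrpTopPts45

namespace Groth.Agent.Lib.GrpFibreConn45

variable {S X : Scheme.{u}} (f : X ⟶ S) [GrpObj (Over.mk f)] (s : S)

/-- The fibre of a group scheme as a group scheme over the residue field. -/
noncomputable instance grpObjFiber :
    GrpObj (Over.mk (pullback.snd f (S.fromSpecResidueField s))) :=
  Over.grpObjMkPullbackSnd

theorem geometricallyIrreducible_fiber [ConnectedSpace ↥(f.fiber s)] :
    GeometricallyIrreducible (pullback.snd f (S.fromSpecResidueField s)) := by
  let K : Type u := S.residueField s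
  let Gs : Over (Spec (CommRingCat.of K)) := Over.mk (pullback.snd f (S.fromSpecResidueField s))
  have hG : GrpObj Gs := grpObjFiber f s
  have hconn : ConnectedSpace ↥Gs.left := ‹ConnectedSpace ↥(f.fiber s)›
  let hG' : GrpObj (Over.mk Gs.hom) := hG
  have hirr : IrreducibleSpace ↥Gs.left :=
    Groth.Agent.Lib.GrpTopId45.irreducibleSpace_of_connectedSpace Gs.hom
  have hZ : Set.range ⇑(𝟙 Gs.left) ∈ irreducibleComponents ↥Gs.left := by
    have : Set.range ⇑(𝟙 Gs.left) = Set.univ := by
      ext x; simp
    rw [this]
    exact ⟨IrreducibleSpace.isIrreducible_univ _, fun _ _ _ => Set.subset_univ _⟩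
  have h := Groth.Agent.S7517.result K Gs Gs.left (𝟙 _) hZ ⟨_, rfl⟩
  rwa [Category.id_comp] at h

theorem irreducibleSpace_pullback_of_connected_fiber [ConnectedSpace ↥(f.fiber s)]
    {P' : Scheme.{u}} [IrreducibleSpace P'] (q : P' ⟶ Spec (S.residueField s)) :
    IrreducibleSpace ↥(pullback f (q ≫ S.fromSpecResidueField s)) := by
  have hgeo := geometricallyIrreducible_fiber f s
  have huo : UniversallyOpen (pullback.snd f (S.fromSpecResidueField s)) := inferInstance
  have h1 : IrreducibleSpace ↥(pullback (pullback.snd f (S.fromSpecResidueField s)) q) :=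
    inferInstance
  let e := pullbackLeftPullbackSndIso f (S.fromSpecResidueField s) q
  exact (e.hom.homeomorph.irreducibleSpace_iff).mp h1

end Groth.Agent.Lib.GrpFibreConn45
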