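import Groth.Agent.Lib.GrpBaseChange45
import Groth.Agent.Lib.EqualizerOpen45
import Groth.Agent.Lib.GrpFibreConn45
import Groth.Agent.Lib.GrpAction

/-!
# Étale equivariant morphisms reflect fixed points (helper45)
-/

set_option autoImplicit false
set_option linter.unusedSectionVars false
universe u
open CategoryTheory CategoryTheory.Limits MonoidalCategory CartesianMonoidalCategory MonObj GrpObj
  AlgebraicGeometry
open Groth.Agent.Lib.GrpTopPts45 Groth.Agent.Lib.GrpBaseChange45 Groth.Agent.Lib.EqualizerOpen45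
  Groth.Agent.Lib.GrpAction

namespace Groth.Agent.Lib.EtaleFixed45

section stab

variable {S : Scheme.{u}} {G X T : Over S} [GrpObj G] (a : AlgGrp.Action G X) (x : T ⟶ X)

/-- `g` stabilizes the point `τ ≫ x`. -/
def Stab {U : Over S} (τ : U ⟶ T) (g : U ⟶ G) : Prop := lift g (τ ≫ x) ≫ a.act = τ ≫ x

variable {a x} {U : Over S} {τ : U ⟶ T}

lemma stab_one : Stab a x τ 1 := one_act a _

lemma stab_mul {g g' : U ⟶ G} (h1 : Stab a x τ g) (h2 : Stab a x τ g') :
    Stab a x τ (g * g') := by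
  unfold Stab at *
  rw [mul_act, h2, h1]

lemma stab_inv {g : U ⟶ G} (h : Stab a x τ g) : Stab a x τ g⁻¹ := by
  unfold Stab at *
  have h2 := mul_act a g⁻¹ g (τ ≫ x)
  rw [inv_mul_cancel, one_act, h] at h2
  exact h2.symm

lemma stab_iff {g : U ⟶ G} :
    Stab a x τ g ↔ lift g τ ≫ (G ◁ x) ≫ a.act = lift g τ ≫ snd G T ≫ x := by
  unfold Stab
  rw [lift_whiskerLeft_assoc, lift_snd_assoc]

lemma stab_iff_left {g : U ⟶ G} :
    Stab a x τ g ↔
      (lift g τ).left ≫ ((G ◁ x) ≫ a.act).left = (lift g τ).left ≫ (snd G T ≫ x).left := by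
  rw [stab_iff]
  constructor
  · intro h
    have := congr(($h).left)
    simpa only [Over.comp_left] using this
  · intro h
    ext
    simpa only [Over.comp_left] using h

end stab

section eq

variable {S : Scheme.{u}} {G X Y T : Over S} [GrpObj G] (a : AlgGrp.Action G X)
  (b : AlgGrp.Action G Y) (f : X ⟶ Y) (hf : a.act ≫ f = (G ◁ f) ≫ b.act) (x : T ⟶ X)
  (hx : ∀ (T' : Over S) (t : T' ⟶ T) (g : T' ⟶ G), lift g (t ≫ x ≫ f) ≫ b.act = t ≫ x ≫ f)

include hf hx in
lemma phi_comp_eq : ((G ◁ x) ≫ a.act) ≫ f = (snd G T ≫ x) ≫ f := by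
  rw [Category.assoc, hf, ← whiskerLeft_comp_assoc]
  have h := hx (G ⊗ T) (snd G T) (fst G T)
  have h2 : lift (fst G T) (snd G T ≫ x ≫ f) = G ◁ (x ≫ f) := by
    ext <;> simp
  rw [h2] at h
  rw [h, Category.assoc]

include hf hx in
lemma phi_comp_eq_left :
    ((G ◁ x) ≫ a.act).left ≫ f.left = (snd G T ≫ x).left ≫ f.left := by
  have := congr(($(phi_comp_eq a b f hf x hx)).left)
  simpa only [Over.comp_left] using this

end eq

section respt

variable {B : Scheme.{u}}

/-- `Spec κ(z)` as an object over `B`. -/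
noncomputable def resObj {Q : Over B} (z : Q.left) : Over B :=
  Over.mk (Q.left.fromSpecResidueField z ≫ Q.hom)

/-- The canonical `κ(z)`-valued point of `Q`. -/
noncomputable def resHom {Q : Over B} (z : Q.left) : resObj z ⟶ Q :=
  Over.homMk (Q.left.fromSpecResidueField z) rfl

lemma resHom_left_apply {Q : Over B} (z : Q.left) (y : (resObj z).left) :
    (resHom z).left y = z :=
  Scheme.fromSpecResidueField_apply _ _

/-- The unique point of `Spec κ(z)`. -/
noncomputable def resPt {Q : Over B} (z : Q.left) : (resObj z).left :=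
  (default : Spec (Q.left.residueField z))

end respt

section fibre

attribute [local instance] Over.grpObjMkPullbackSnd

variable {R S : Scheme.{u}} (g : R ⟶ S) [GrpObj (Over.mk g)] {X Y T : Over S}
  (a : AlgGrp.Action (Over.mk g) X) (x : T ⟶ X)
  (f : X ⟶ Y) [IsOpenImmersion (pullback.diagonal f.left)]
  (hφψ : ((Over.mk g ◁ x) ≫ a.act).left ≫ f.left = (snd (Over.mk g) T ≫ x).left ≫ f.left)
  {L : Type u} [Field L] (p : Spec (CommRingCat.of L) ⟶ S)
  (pT : Spec (CommRingCat.of L) ⟶ T.left) (hp : pT ≫ T.hom = p)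

/-- The fibre group. -/
noncomputable abbrev H : Over (Spec (CommRingCat.of L)) := Over.mk (pullback.snd g p)

/-- The map from the fibre group to `G ×_S T`. -/
noncomputable def θ : pullback g p ⟶ (Over.mk g ⊗ T).left :=
  pullback.map g p g T.hom (𝟙 _) pT (𝟙 _) (by simp) (by simp [hp])

/-- The fibrewise stabilizer. -/
def WL : Set ↥(pullback g p) :=
  (θ g p pT hp) ⁻¹' (eqLocus f.left ((Over.mk g ◁ x) ≫ a.act).left (snd (Over.mk g) T ≫ x).left hφψ)

lemma isOpen_WL : IsOpen (WL g a x f hφψ p pT hp) :=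
  (eqLocus f.left _ _ hφψ).isOpen.preimage (θ g p pT hp).continuous

/-- The `T`-point under a `Q`-point of the fibre. -/
noncomputable def τQ (Q : Over (Spec (CommRingCat.of L))) : Over.mk (Q.hom ≫ p) ⟶ T :=
  Over.homMk (Q.hom ≫ pT) (by simp [hp])

lemma lift_tr_left {Q : Over (Spec (CommRingCat.of L))} (c : Q ⟶ H g p) :
    (lift (tr g p c) (τQ p pT hp Q)).left = c.left ≫ θ g p pT hp := by
  have hc := Over.w c
  simp only [Over.mk_hom] at hc
  apply pullback.hom_ext
  · have h1 : (lift (tr g p c) (τQ p pT hp Q)).left ≫ pullback.fst (Over.mk g).hom T.hom =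
        (lift (tr g p c) (τQ p pT hp Q) ≫ fst (Over.mk g) T).left := rfl
    rw [h1, lift_fst, tr_left, θ, Category.assoc]
    erw [pullback.lift_fst]
    rw [Category.comp_id]
  · have h1 : (lift (tr g p c) (τQ p pT hp Q)).left ≫ pullback.snd (Over.mk g).hom T.hom =
        (lift (tr g p c) (τQ p pT hp Q) ≫ snd (Over.mk g) T).left := rfl
    rw [h1, lift_snd, θ, Category.assoc]
    erw [pullback.lift_snd]
    rw [← Category.assoc, hc]
    rfl

lemma stab_tr_iff {Q : Over (Spec (CommRingCat.of L))} (c : Q ⟶ H g p) :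
    Stab a x (τQ p pT hp Q) (tr g p c) ↔ ∀ z, c.left z ∈ WL g a x f hφψ p pT hp := by
  rw [stab_iff_left, lift_tr_left, comp_eq_iff_range_subset f.left _ _ hφψ]
  constructor
  · intro h z
    exact h ⟨z, rfl⟩
  · rintro h _ ⟨z, rfl⟩
    exact h z

lemma mem_WL_iff {Q : Over (Spec (CommRingCat.of L))} (c : Q ⟶ H g p) (z : Q.left) :
    c.left z ∈ WL g a x f hφψ p pT hp ↔
      Stab a x (τQ p pT hp (resObj z)) (tr g p (resHom z ≫ c)) := by
  rw [stab_tr_iff g a x f hφψ p pT hp]
  constructor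
  · intro h y
    rw [comp_left_apply, resHom_left_apply]
    exact h
  · intro h
    have := h (resPt z)
    rwa [comp_left_apply, resHom_left_apply] at this

theorem isSubgrpSet_WL : IsSubgrpSet (H g p) (WL g a x f hφψ p pT hp) where
  one_mem := by
    have h := (stab_tr_iff g a x f hφψ p pT hp (1 : H g p ⟶ H g p)).mp (by
      rw [tr_one]; exact stab_one)
    have := h (unitPt (H g p))
    rwa [one_left_apply] at this
  mul_mem := by
    intro w hw
    obtain ⟨Q, z, c, d, hc, hd, rfl⟩ := mem_mulSet_iff.mp hw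
    rw [mem_WL_iff] at hc hd ⊢
    rw [MonObj.comp_mul, tr_mul]
    exact stab_mul hc hd
  inv_mem := by
    rintro _ ⟨w, hw, rfl⟩
    have hw' : (𝟙 (H g p) : H g p ⟶ H g p).left w ∈ WL g a x f hφψ p pT hp := by
      simpa using hw
    rw [mem_WL_iff] at hw'
    have h2 := stab_inv hw'
    rw [← tr_inv] at h2
    have h3 := (stab_tr_iff g a x f hφψ p pT hp _).mp h2 (resPt w)
    rwa [inv_left_apply, comp_left_apply, resHom_left_apply] at h3

theorem WL_eq_univ [PreconnectedSpace ↥(pullback g p)] :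
    WL g a x f hφψ p pT hp = Set.univ := by
  have hW := isSubgrpSet_WL g a x f hφψ p pT hp
  have ho := isOpen_WL g a x f hφψ p pT hp
  exact IsClopen.eq_univ ⟨hW.isClosed ho, ho⟩ ⟨_, hW.one_mem⟩

theorem range_θ_subset [PreconnectedSpace ↥(pullback g p)] :
    Set.range (θ g p pT hp) ⊆
      (eqLocus f.left ((Over.mk g ◁ x) ≫ a.act).left (snd (Over.mk g) T ≫ x).left hφψ :
        Set ↥(Over.mk g ⊗ T).left) := by
  rintro _ ⟨w, rfl⟩
  have : w ∈ WL g a x f hφψ p pT hp := by
    rw [WL_eq_univ]; trivial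
  exact this

end fibre

section final

open Groth.Agent.Lib.GrpFibreConn45

theorem whiskerLeft_act_eq_snd {R S : Scheme.{u}} (g : R ⟶ S) [GrpObj (Over.mk g)]
    (hconn : ∀ s : S, ConnectedSpace ↥(g.fiber s)) {X Y T : Over S}
    (a : AlgGrp.Action (Over.mk g) X) (b : AlgGrp.Action (Over.mk g) Y) (f : X ⟶ Y)
    [IsOpenImmersion (pullback.diagonal f.left)]
    (hf : a.act ≫ f = (Over.mk g ◁ f) ≫ b.act) (x : T ⟶ X)
    (hx : ∀ (T' : Over S) (t : T' ⟶ T) (γ : T' ⟶ Over.mk g),
      lift γ (t ≫ x ≫ f) ≫ b.act = t ≫ x ≫ f) :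
    (Over.mk g ◁ x) ≫ a.act = snd (Over.mk g) T ≫ x := by
  have hφψ := phi_comp_eq_left a b f hf x hx
  ext : 1
  apply eq_of_eqLocus_eq_top f.left _ _ hφψ
  apply top_unique
  intro z _
  let t : T.left := (snd (Over.mk g) T).left z
  let s : S := T.hom t
  let L : Type u := T.left.residueField t
  let q : Spec (CommRingCat.of L) ⟶ Spec (S.residueField s) :=
    Spec.map (T.hom.residueFieldMap t)
  let p : Spec (CommRingCat.of L) ⟶ S := q ≫ S.fromSpecResidueField s
  let pT : Spec (CommRingCat.of L) ⟶ T.left := T.left.fromSpecResidueField t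
  have hp : pT ≫ T.hom = p :=
    (Scheme.Hom.SpecMap_residueFieldMap_fromSpecResidueField (f := T.hom) t).symm
  have hc : ConnectedSpace ↥(g.fiber s) := hconn s
  have hirr : IrreducibleSpace ↥(pullback g p) :=
    irreducibleSpace_pullback_of_connected_fiber g s q
  have hpre : PreconnectedSpace ↥(pullback g p) := inferInstance
  have hsub := range_θ_subset g a x f hφψ p pT hp
  apply hsub
  rw [θ, Scheme.Pullback.range_map]
  refine ⟨by simp, ?_⟩
  rw [Set.mem_preimage, Scheme.range_fromSpecResidueField]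
  rfl

end final

end Groth.Agent.Lib.EtaleFixed45
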