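import Groth.Prelude.Def_ProEtW
import Mathlib.RingTheory.Etale.Pi
import Mathlib.RingTheory.Spectrum.Prime.Chevalley
import Mathlib.RingTheory.Flat.FaithfullyFlat.Algebra
import Mathlib.RingTheory.Localization.AtPrime.Basic

/-!
# Retractions of étale algebras (helper6)

If every faithfully flat étale `A`-algebra has a retraction (`ProEtW.HasEtaleRetractions A`),
`B` is an étale `A`-algebra whose spectrum covers `V(I)`, and `T` is an `A`-algebra in which every
idempotent of `A` lying in `I` becomes zero, then there is an `A`-algebra map `B → T`.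
Examples: `T = A ⧸ I`, and `T = A_m` for `I = m` maximal.

Main statements (namespace `Groth.Agent.Lib.EtaleRetract6`):
* `core` : the `Bool`-indexed family version;
* `exists_algHom` : the general statement above;
* `exists_algHom_atPrime` : for `m` maximal and a prime of `B` over `m`, `B →ₐ[A] A_m`;
* `exists_prime_over_of_algHom_field` : an `A`-algebra map from `B` to a field `L` produces a
  prime of `B` over `ker (A → L)`.
-/

set_option autoImplicit false
universe u v

namespace Groth.Agent.Lib.EtaleRetract6

open TensorProduct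

/-- A two-member family of types indexed by `Bool`. -/
def Fam (B C : Type u) : Bool → Type u
  | true => B
  | false => C

instance famCommRing (B C : Type u) [CommRing B] [CommRing C] (i : Bool) : CommRing (Fam B C i) :=
  match i with
  | true => inferInstanceAs (CommRing B)
  | false => inferInstanceAs (CommRing C)

instance famAlgebra (A : Type u) [CommRing A] (B C : Type u) [CommRing B] [CommRing C]
    [Algebra A B] [Algebra A C] (i : Bool) : Algebra A (Fam B C i) :=
  match i with
  | true => inferInstanceAs (Algebra A B)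
  | false => inferInstanceAs (Algebra A C)

instance famEtale (A : Type u) [CommRing A] (B C : Type u) [CommRing B] [CommRing C]
    [Algebra A B] [Algebra A C] [Algebra.Etale A B] [Algebra.Etale A C] (i : Bool) :
    Algebra.Etale A (Fam B C i) :=
  match i with
  | true => inferInstanceAs (Algebra.Etale A B)
  | false => inferInstanceAs (Algebra.Etale A C)

variable {A : Type u} [CommRing A] (I : Ideal A)

/-- General two-member family version. -/
lemma core (F : Bool → Type u) [∀ i, CommRing (F i)] [∀ i, Algebra A (F i)]
    [∀ i, Algebra.Etale A (F i)] (h : ProEtW.HasEtaleRetractions A)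
    (f : A) (hf : f ∈ I) (y : F false) (hy : algebraMap A (F false) f * y = 1)
    (hsurj : ∀ p : PrimeSpectrum A,
      (∃ q : PrimeSpectrum (F true), PrimeSpectrum.comap (algebraMap A (F true)) q = p) ∨
      (∃ q : PrimeSpectrum (F false), PrimeSpectrum.comap (algebraMap A (F false)) q = p))
    (T : Type v) [CommRing T] [Algebra A T]
    (hT : ∀ ε ∈ I, IsIdempotentElem ε → algebraMap A T ε = 0) :
    Nonempty (F true →ₐ[A] T) := by
  classical
  let C := Π i : Bool, F i
  haveI : Algebra.Etale A C := inferInstance
  haveI : Module.Flat A C := inferInstance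
  have hsurj' : Function.Surjective (PrimeSpectrum.comap (algebraMap A C)) := by
    intro p
    rcases hsurj p with ⟨q, rfl⟩ | ⟨q, rfl⟩
    · refine ⟨PrimeSpectrum.comap (Pi.evalRingHom F true) q, ?_⟩
      rw [← PrimeSpectrum.comap_comp_apply]
      rfl
    · refine ⟨PrimeSpectrum.comap (Pi.evalRingHom F false) q, ?_⟩
      rw [← PrimeSpectrum.comap_comp_apply]
      rfl
  have hff : Module.FaithfullyFlat A C := Module.FaithfullyFlat.of_comap_surjective hsurj'
  obtain ⟨ρ⟩ := h C hff inferInstance
  -- `ρ` sends the second idempotent into `I`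
  have hsingle : (Pi.single false (1 : F false) : C) = f • (Pi.single false y : C) := by
    ext i
    cases i
    · simp only [Pi.single_eq_same, Pi.smul_apply]
      rw [Algebra.smul_def, hy]
    · simp only [Pi.smul_apply]
      rw [Pi.single_eq_of_ne (by decide), Pi.single_eq_of_ne (by decide), smul_zero]
  have hρ2 : ρ (Pi.single false (1 : F false) : C) ∈ I := by
    rw [hsingle, map_smul, smul_eq_mul]
    exact I.mul_mem_right _ hf
  have hidem : IsIdempotentElem (ρ (Pi.single false (1 : F false) : C)) := by
    unfold IsIdempotentElem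
    rw [← map_mul, ← Pi.single_mul, mul_one]
  have hone : (1 : C) = Pi.single true (1 : F true) + Pi.single false (1 : F false) := by
    ext i
    cases i
    · rw [Pi.add_apply, Pi.single_eq_same, Pi.single_eq_of_ne (by decide), zero_add]
      rfl
    · rw [Pi.add_apply, Pi.single_eq_same, Pi.single_eq_of_ne (by decide), add_zero]
      rfl
  refine ⟨AlgHom.ofLinearMap
    ((Algebra.linearMap A T) ∘ₗ ρ.toLinearMap ∘ₗ (LinearMap.single A F true)) ?_ ?_⟩
  · -- map_one
    change algebraMap A T (ρ (Pi.single true (1 : F true) : C)) = 1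
    have h1 : ρ (Pi.single true (1 : F true) : C) =
        1 - ρ (Pi.single false (1 : F false) : C) := by
      rw [eq_sub_iff_add_eq, ← map_add, ← hone, map_one]
    rw [h1, map_sub, map_one, hT _ hρ2 hidem, sub_zero]
  · intro x y
    change algebraMap A T (ρ (Pi.single true (x * y) : C)) =
      algebraMap A T (ρ (Pi.single true x : C)) * algebraMap A T (ρ (Pi.single true y : C))
    rw [← map_mul, ← map_mul]
    congr 2
    exact Pi.single_mul _ _ _

variable (B : Type u) [CommRing B] [Algebra A B] [Algebra.Etale A B]

/-- If `Spec B → Spec A` hits every prime containing `I`, faithfully flat étale `A`-algebras have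
retractions, and idempotents of `A` in `I` die in `T`, then there is an `A`-algebra map `B → T`. -/
lemma exists_algHom (h : ProEtW.HasEtaleRetractions A)
    (hcov : ∀ p : PrimeSpectrum A, I ≤ p.asIdeal →
      p ∈ Set.range (PrimeSpectrum.comap (algebraMap A B)))
    (T : Type v) [CommRing T] [Algebra A T]
    (hT : ∀ ε ∈ I, IsIdempotentElem ε → algebraMap A T ε = 0) :
    Nonempty (B →ₐ[A] T) := by
  classical
  -- the image of `Spec B` is open
  have hopen : IsOpen (Set.range (PrimeSpectrum.comap (algebraMap A B))) :=
    (PrimeSpectrum.isOpenMap_comap_of_hasGoingDown_of_finitePresentation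
      (R := A) (S := B)).isOpen_range
  set U := Set.range (PrimeSpectrum.comap (algebraMap A B)) with hU
  have hclosed : IsClosed Uᶜ := hopen.isClosed_compl
  set J := PrimeSpectrum.vanishingIdeal Uᶜ with hJ
  have hZ : PrimeSpectrum.zeroLocus (J : Set A) = Uᶜ := by
    rw [hJ, PrimeSpectrum.zeroLocus_vanishingIdeal_eq_closure, hclosed.closure_eq]
  have hIJ : I ⊔ J = ⊤ := by
    by_contra hne
    obtain ⟨M, hM, hle⟩ := Ideal.exists_le_maximal _ hne
    have h1 : (⟨M, hM.isPrime⟩ : PrimeSpectrum A) ∈ U := hcov ⟨M, hM.isPrime⟩ (le_sup_left.trans hle)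
    have h2 : (⟨M, hM.isPrime⟩ : PrimeSpectrum A) ∈ Uᶜ := by
      rw [← hZ]
      exact (le_sup_right.trans hle : J ≤ M)
    exact h2 h1
  obtain ⟨f, hf, g, hg, hfg⟩ := Submodule.mem_sup.mp ((Ideal.eq_top_iff_one _).mp hIJ)
  have hy : algebraMap A (Localization.Away f) f * (IsLocalization.Away.invSelf f) = 1 :=
    IsLocalization.Away.mul_invSelf f
  refine core I (Fam B (Localization.Away f)) h f hf
    (IsLocalization.Away.invSelf (S := Localization.Away f) f) hy ?_ T hT
  intro p
  by_cases hp : p ∈ U
  · obtain ⟨q, hq⟩ := hp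
    exact Or.inl ⟨q, hq⟩
  · right
    have hpJ : p ∈ PrimeSpectrum.zeroLocus (J : Set A) := by rw [hZ]; exact hp
    have hfp : f ∉ p.asIdeal := by
      intro hfp
      have : (1 : A) ∈ p.asIdeal := by
        rw [← hfg]
        exact p.asIdeal.add_mem hfp (hpJ hg)
      exact p.isPrime.ne_top ((Ideal.eq_top_iff_one _).mpr this)
    have hdisj : Disjoint (Submonoid.powers f : Set A) (p.asIdeal : Set A) :=
      (Ideal.disjoint_powers_iff_notMem_of_isPrime _).mpr hfp
    have hprime : (p.asIdeal.map (algebraMap A (Localization.Away f))).IsPrime :=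
      IsLocalization.isPrime_of_isPrime_disjoint (.powers f) _ _ p.isPrime hdisj
    have hc : (p.asIdeal.map (algebraMap A (Localization.Away f))).under A = p.asIdeal :=
      IsLocalization.under_map_of_isPrime_disjoint (.powers f) _ p.isPrime hdisj
    exact ⟨(⟨p.asIdeal.map (algebraMap A (Localization.Away f)), hprime⟩ :
      PrimeSpectrum (Localization.Away f)), PrimeSpectrum.ext hc⟩

/-- For a maximal ideal `m` and an étale `A`-algebra `B` with a prime over `m`, there is an
`A`-algebra map `B → A_m`. -/
lemma exists_algHom_atPrime (h : ProEtW.HasEtaleRetractions A) (m : Ideal A) [hm : m.IsMaximal]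
    (hq : ∃ q : PrimeSpectrum B, (PrimeSpectrum.comap (algebraMap A B) q).asIdeal = m) :
    Nonempty (B →ₐ[A] Localization.AtPrime m) := by
  refine exists_algHom m B h ?_ (Localization.AtPrime m) ?_
  · intro p hp
    obtain ⟨q, hq⟩ := hq
    refine ⟨q, PrimeSpectrum.ext ?_⟩
    rw [hq]
    exact (hm.eq_of_le p.isPrime.ne_top hp)
  · intro ε hε hidem
    rw [IsLocalization.map_eq_zero_iff m.primeCompl]
    refine ⟨⟨1 - ε, ?_⟩, ?_⟩
    · intro h1
      have : (1 : A) ∈ m := by
        have := m.add_mem h1 hε
        rwa [sub_add_cancel] at this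
      exact hm.ne_top ((Ideal.eq_top_iff_one _).mpr this)
    · change (1 - ε) * ε = 0
      rw [sub_mul, one_mul, hidem.eq, sub_self]

/-- An `A`-algebra map from `B` to a field `L` gives a prime of `B` over `ker (A → L)`. -/
lemma exists_prime_over_of_algHom_field {B : Type*} [CommRing B] [Algebra A B]
    {L : Type*} [Field L] [Algebra A L] (φ : B →ₐ[A] L) :
    ∃ q : PrimeSpectrum B, (PrimeSpectrum.comap (algebraMap A B) q).asIdeal =
      RingHom.ker (algebraMap A L) := by
  refine ⟨⟨RingHom.ker φ.toRingHom, RingHom.ker_isPrime _⟩, ?_⟩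
  ext a
  simp only [PrimeSpectrum.comap_asIdeal, Ideal.mem_comap, RingHom.mem_ker]
  change φ (algebraMap A B a) = 0 ↔ _
  rw [φ.commutes]

end Groth.Agent.Lib.EtaleRetract6
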