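import Mathlib

/-!
# Rigidity for étale separated morphisms (helper37)

`rigidity`: two `C`-morphisms `g₁ g₂ : T ⟶ D` from a connected scheme `T` to an étale separated
`C`-scheme `D` which agree after precomposition with some `z : P ⟶ T`, `P` nonempty, are equal
(the equalizer is the pullback of the diagonal, an open and closed immersion).
-/

set_option autoImplicit false
universe u
open CategoryTheory CategoryTheory.Limits AlgebraicGeometry

namespace Groth.Agent.Lib.EtaleRigidity

/-- rigidity: two `C`-morphisms from a connected scheme to an étale separated `C`-scheme which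
agree on some nonempty scheme mapping to the source are equal. -/
theorem rigidity {T D C P : Scheme.{u}} (f : D ⟶ C) [Etale f] [IsSeparated f]
    [ConnectedSpace T] (g₁ g₂ : T ⟶ D) (h : g₁ ≫ f = g₂ ≫ f) [Nonempty P] (z : P ⟶ T)
    (hz : z ≫ g₁ = z ≫ g₂) : g₁ = g₂ := by
  let l : T ⟶ pullback f f := pullback.lift g₁ g₂ h
  let E := pullback l (pullback.diagonal f)
  let e : E ⟶ T := pullback.fst l (pullback.diagonal f)
  have hopen : IsOpenImmersion e := inferInstance
  have hclosed : IsClosedImmersion e := inferInstance
  have hne : (Set.range e).Nonempty := by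
    let w : P ⟶ E := pullback.lift z (z ≫ g₁) (by
      apply pullback.hom_ext
      · simp only [l, Category.assoc, pullback.lift_fst, pullback.diagonal_fst, Category.comp_id]
      · simp only [l, Category.assoc, pullback.lift_snd, pullback.diagonal_snd, Category.comp_id, hz])
    obtain ⟨pt⟩ := (inferInstance : Nonempty P)
    exact ⟨e (w pt), ⟨w pt, rfl⟩⟩
  have hclopen : IsClopen (Set.range e) := ⟨e.isClosedEmbedding.isClosed_range, e.isOpenEmbedding.isOpen_range⟩
  have hsurj : Surjective e := ⟨by
    rw [← Set.range_eq_univ]
    exact hclopen.eq_univ hne⟩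
  have : IsIso e := (isIso_iff_isOpenImmersion_and_surjective e).mpr ⟨hopen, hsurj⟩
  have key : l = (inv e ≫ pullback.snd l (pullback.diagonal f)) ≫ pullback.diagonal f := by
    rw [Category.assoc, ← pullback.condition, ← Category.assoc, IsIso.inv_hom_id, Category.id_comp]
  have h1 : g₁ = l ≫ pullback.fst f f := (pullback.lift_fst _ _ _).symm
  have h2 : g₂ = l ≫ pullback.snd f f := (pullback.lift_snd _ _ _).symm
  rw [h1, h2, key]
  simp


end Groth.Agent.Lib.EtaleRigidity
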