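import Groth.Agent.Lib.JacobianEtale
import Mathlib.FieldTheory.Separable
import Mathlib.RingTheory.Derivation.Basic
import Mathlib.Algebra.MvPolynomial.PDeriv
import Mathlib.LinearAlgebra.Matrix.Determinant.Basic

/-!
# Étale slices of affine space through a point with separable coordinates (helper68)

Ring-level input for EGA IV 17.16.3 (étale quasi-sections of smooth morphisms):

* `exists_clear_denominators`: if every element of the field `k` is a fraction of elements of `A`,
  every polynomial over `k` is, up to a nonzero scalar from `A`, the image of a polynomial over `A`.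
* `exists_polynomial_of_isSeparable`: for `θ : L` separable over `k`, there is `g : A[X]` with
  `g(θ) = 0` and `g'(θ) ≠ 0`.
* `exists_slice`: for `φ : A[T₁..Tₙ] → L` with all `φ(Tⱼ)` separable over `k`, there are
  `G₁..Gₙ ∈ ker φ` with `φ (det (∂Gⱼ/∂Tᵢ)) ≠ 0`.
-/

set_option autoImplicit false
universe u

namespace Groth.Agent.Lib.EtaleSlice68

open Polynomial

section

variable {A : Type u} [CommRing A] {k : Type u} [Field k] [Algebra A k]

theorem exists_clear_denominators
    (hk : ∀ c : k, ∃ a s : A, algebraMap A k s ≠ 0 ∧ c * algebraMap A k s = algebraMap A k a)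
    (μ : k[X]) :
    ∃ (g : A[X]) (s : A), algebraMap A k s ≠ 0 ∧
      g.map (algebraMap A k) = C (algebraMap A k s) * μ := by
  induction μ using Polynomial.induction_on' with
  | add p q hp hq =>
    obtain ⟨g₁, s₁, hs₁, h₁⟩ := hp
    obtain ⟨g₂, s₂, hs₂, h₂⟩ := hq
    refine ⟨C s₂ * g₁ + C s₁ * g₂, s₁ * s₂, ?_, ?_⟩
    · rw [map_mul]; exact mul_ne_zero hs₁ hs₂
    · simp only [Polynomial.map_add, Polynomial.map_mul, Polynomial.map_C, h₁, h₂, map_mul]
      ring
  | monomial m c =>
    obtain ⟨a, s, hs, h⟩ := hk c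
    refine ⟨monomial m a, s, hs, ?_⟩
    rw [Polynomial.map_monomial, C_mul_monomial, ← h, mul_comm]

variable {L : Type u} [Field L] [Algebra k L] [Algebra A L] [IsScalarTower A k L]

theorem exists_polynomial_of_isSeparable
    (hk : ∀ c : k, ∃ a s : A, algebraMap A k s ≠ 0 ∧ c * algebraMap A k s = algebraMap A k a)
    (θ : L) (hθ : IsSeparable k θ) :
    ∃ g : A[X], aeval θ g = 0 ∧ aeval θ (derivative g) ≠ 0 := by
  obtain ⟨g, s, hs, hg⟩ := exists_clear_denominators hk (minpoly k θ)
  have hsL : algebraMap k L (algebraMap A k s) ≠ 0 := by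
    rwa [Ne, map_eq_zero]
  refine ⟨g, ?_, ?_⟩
  · rw [← Polynomial.aeval_map_algebraMap k θ g, hg, map_mul, minpoly.aeval, mul_zero]
  · rw [← Polynomial.aeval_map_algebraMap k θ (derivative g), ← Polynomial.derivative_map, hg,
      Polynomial.derivative_C_mul, map_mul, Polynomial.aeval_C]
    exact mul_ne_zero hsL (hθ.aeval_derivative_ne_zero (minpoly.aeval k θ))

theorem exists_slice {n : ℕ}
    (hk : ∀ c : k, ∃ a s : A, algebraMap A k s ≠ 0 ∧ c * algebraMap A k s = algebraMap A k a)
    (φ : MvPolynomial (Fin n) A →ₐ[A] L)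
    (hφ : ∀ j, IsSeparable k (φ (MvPolynomial.X j))) :
    ∃ G : Fin n → MvPolynomial (Fin n) A, (∀ j, φ (G j) = 0) ∧
      φ (Matrix.of (fun i j => MvPolynomial.pderiv i (G j))).det ≠ 0 := by
  classical
  choose g hg0 hg1 using fun j => exists_polynomial_of_isSeparable hk (φ (MvPolynomial.X j)) (hφ j)
  refine ⟨fun j => aeval (MvPolynomial.X j) (g j), fun j => ?_, ?_⟩
  · rw [← Polynomial.aeval_algHom_apply]; exact hg0 j
  · have hM : Matrix.of (fun i j => MvPolynomial.pderiv i (aeval (MvPolynomial.X j :
        MvPolynomial (Fin n) A) (g j))) =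
        Matrix.diagonal (fun j => aeval (MvPolynomial.X j : MvPolynomial (Fin n) A)
          (derivative (g j))) := by
      ext i j
      rw [Matrix.of_apply, Derivation.map_aeval, MvPolynomial.pderiv_X, Matrix.diagonal_apply]
      by_cases hij : i = j
      · subst hij; simp
      · have hji : ¬ j = i := fun h => hij h.symm
        simp [hij, hji]
    rw [hM, Matrix.det_diagonal, map_prod]
    refine Finset.prod_ne_zero_iff.mpr fun j _ => ?_
    rw [← Polynomial.aeval_algHom_apply]
    exact hg1 j

end

end Groth.Agent.Lib.EtaleSlice68
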