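import Groth.Agent.Lib.EtaleSlice68
import Mathlib.AlgebraicGeometry.Morphisms.Etale
import Mathlib.AlgebraicGeometry.Morphisms.Immersion
import Mathlib.AlgebraicGeometry.ResidueField
import Mathlib.AlgebraicGeometry.PullbackCarrier

/-!
# Étale slices of a morphism with an étale chart to affine space (helper68)

`exists_slice_of_chart`: let `f : X ⟶ S`, `W ⊆ X`, `V₀ ⊆ S` affine opens with `f W ⊆ V₀`, and
`g : Γ(S, V₀)[T₁..Tₙ] → Γ(X, W)` an étale ring map extending `f.appLE`. Let `x ∈ W` and
`G₁, …, Gₙ` polynomials vanishing at `x` whose Jacobian determinant does not vanish at `x`.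
Then there is an immersion `i : Z ⟶ X` through `x` such that `i ≫ f` is étale.
-/

set_option autoImplicit false
universe u

namespace Groth.Agent.Lib.EtaleSliceSch68

open CategoryTheory CategoryTheory.Limits AlgebraicGeometry
open Groth.Agent.Lib.JacobianEtale

section

variable {A : Type u} [CommRing A] {n : ℕ} (G : Fin n → MvPolynomial (Fin n) A)

/-- The locally closed subscheme `V(G) ∩ D(jac)` of affine space. -/
noncomputable abbrev sliceMap : Spec (.of (Loc G)) ⟶ Spec (.of (MvPolynomial (Fin n) A)) :=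
  Spec.map (CommRingCat.ofHom (algebraMap (MvPolynomial (Fin n) A) (Loc G)))

instance : IsImmersion (sliceMap G) := by
  have h : algebraMap (MvPolynomial (Fin n) A) (Loc G) =
      (algebraMap (Quot G) (Loc G)).comp (algebraMap (MvPolynomial (Fin n) A) (Quot G)) :=
    IsScalarTower.algebraMap_eq _ _ _
  have hcl : IsClosedImmersion (Spec.map (CommRingCat.ofHom
      (algebraMap (MvPolynomial (Fin n) A) (Quot G)))) :=
    IsClosedImmersion.spec_of_surjective _ Ideal.Quotient.mk_surjective
  unfold sliceMap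
  rw [h, CommRingCat.ofHom_comp, Spec.map_comp]
  infer_instance

instance : Etale (Spec.map (CommRingCat.ofHom (algebraMap A (Loc G)))) := by
  rw [HasRingHomProperty.Spec_iff (P := @Etale)]
  exact RingHom.etale_algebraMap.mpr inferInstance

theorem sliceMap_comp_C :
    sliceMap G ≫ Spec.map (CommRingCat.ofHom (MvPolynomial.C : A →+* MvPolynomial (Fin n) A)) =
      Spec.map (CommRingCat.ofHom (algebraMap A (Loc G))) := by
  rw [← Spec.map_comp, ← CommRingCat.ofHom_comp]
  congr 2

/-- A ring map killing the `G j` and inverting the Jacobian factors through `Loc G`. -/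
theorem exists_lift_Loc {L : Type u} [CommRing L] (φ : MvPolynomial (Fin n) A →+* L)
    (hG : ∀ j, φ (G j) = 0)
    (hdet : IsUnit (φ (Matrix.of (fun i j => MvPolynomial.pderiv i (G j))).det)) :
    ∃ φ' : Loc G →+* L, φ'.comp (algebraMap (MvPolynomial (Fin n) A) (Loc G)) = φ := by
  have h1 : ∀ a ∈ Ideal.span (Set.range G), φ a = 0 := by
    intro a ha
    have : Ideal.span (Set.range G) ≤ RingHom.ker φ := by
      rw [Ideal.span_le]
      rintro _ ⟨j, rfl⟩
      exact hG j
    exact this ha
  let φ₁ : Quot G →+* L := Ideal.Quotient.lift _ φ h1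
  have h2 : IsUnit (φ₁ (jac G)) := by
    rw [jac_eq]
    exact Ideal.Quotient.lift_mk _ φ h1 ▸ hdet
  refine ⟨IsLocalization.Away.lift (jac G) h2, ?_⟩
  rw [IsScalarTower.algebraMap_eq (MvPolynomial (Fin n) A) (Quot G) (Loc G), ← RingHom.comp_assoc,
    IsLocalization.Away.lift_comp]
  ext a
  · simp [φ₁]
  · simp [φ₁]

end

theorem exists_slice_of_chart {X S : Scheme.{u}} (f : X ⟶ S) {V₀ : S.Opens}
    (hV₀ : IsAffineOpen V₀) {W : X.Opens} (hW : IsAffineOpen W) (e : W ≤ f ⁻¹ᵁ V₀) {n : ℕ}
    (g : MvPolynomial (Fin n) Γ(S, V₀) →+* Γ(X, W)) (hg : g.Etale)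
    (hgC : g.comp MvPolynomial.C = (f.appLE V₀ W e).hom)
    (G : Fin n → MvPolynomial (Fin n) Γ(S, V₀)) (x : X) (hxW : x ∈ W)
    (hG : ∀ j, X.evaluation W x hxW (g (G j)) = 0)
    (hdet : X.evaluation W x hxW
      (g (Matrix.of (fun i j => MvPolynomial.pderiv i (G j))).det) ≠ 0) :
    ∃ (Z : Scheme.{u}) (i : Z ⟶ X) (z : Z), IsImmersion i ∧ Etale (i ≫ f) ∧ i z = x := by
  let b : Spec Γ(X, W) ⟶ Spec (.of (MvPolynomial (Fin n) Γ(S, V₀))) :=
    Spec.map (CommRingCat.ofHom g)
  have hb : Etale b := by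
    rw [HasRingHomProperty.Spec_iff (P := @Etale)]
    exact hg
  let a := sliceMap G
  let i : pullback b a ⟶ X := pullback.fst b a ≫ hW.fromSpec
  have hi : IsImmersion i := inferInstance
  have hif : i ≫ f = pullback.snd b a ≫
      Spec.map (CommRingCat.ofHom (algebraMap Γ(S, V₀) (Loc G))) ≫ hV₀.fromSpec := by
    have h1 : f.appLE V₀ W e = CommRingCat.ofHom MvPolynomial.C ≫ CommRingCat.ofHom g := by
      rw [← CommRingCat.ofHom_comp, hgC]; rfl
    rw [Category.assoc, ← IsAffineOpen.SpecMap_appLE_fromSpec f hV₀ hW e, h1, Spec.map_comp,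
      Category.assoc, ← Category.assoc (pullback.fst b a), pullback.condition, Category.assoc,
      ← Category.assoc a, sliceMap_comp_C]
  have hét : Etale (i ≫ f) := by
    rw [hif]; infer_instance
  -- the point
  let φ : MvPolynomial (Fin n) Γ(S, V₀) →+* X.residueField x :=
    (X.evaluation W x hxW).hom.comp g
  obtain ⟨φ', hφ'⟩ := exists_lift_Loc G φ hG (Ne.isUnit hdet)
  let u : Spec (X.residueField x) ⟶ Spec Γ(X, W) := Spec.map (X.evaluation W x hxW)
  let v : Spec (X.residueField x) ⟶ Spec (.of (Loc G)) := Spec.map (CommRingCat.ofHom φ')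
  have hring : CommRingCat.ofHom g ≫ X.evaluation W x hxW =
      CommRingCat.ofHom (algebraMap (MvPolynomial (Fin n) Γ(S, V₀)) (Loc G)) ≫
        CommRingCat.ofHom φ' := by
    apply CommRingCat.hom_ext
    exact hφ'.symm
  have huv : u ≫ b = v ≫ a := by
    change Spec.map _ ≫ Spec.map _ = Spec.map _ ≫ Spec.map _
    rw [← Spec.map_comp, ← Spec.map_comp, hring]
    rfl
  let w : Spec (X.residueField x) ⟶ pullback b a := pullback.lift u v huv
  have hw : w ≫ i = X.fromSpecResidueField x := by
    rw [← Category.assoc, pullback.lift_fst]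
    change Spec.map (X.presheaf.germ W x hxW ≫ X.residue x) ≫ hW.fromSpec = _
    rw [Spec.map_comp, Category.assoc]
    change Spec.map (X.residue x) ≫ hW.fromSpecStalk hxW = _
    rw [hW.fromSpecStalk_eq_fromSpecStalk hxW]
    rfl
  let pt : Spec (X.residueField x) := IsLocalRing.closedPoint _
  refine ⟨pullback b a, i, w pt, hi, hét, ?_⟩
  rw [← Scheme.Hom.comp_apply, hw, Scheme.fromSpecResidueField_apply]

end Groth.Agent.Lib.EtaleSliceSch68
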